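import Groth.Statements.S5331
import Groth.Agent.Lib.Helper62.GrpSeparated

set_option autoImplicit false
universe u
open CategoryTheory CategoryTheory.Limits MonoidalCategory CartesianMonoidalCategory MonObj GrpObj AlgebraicGeometry
open SGA3

namespace Groth.Agent.S5331

theorem isClosedImmersion_section_of_discrete {S X : Scheme.{u}} [DiscreteTopology S] (π : X ⟶ S)
    (ε : S ⟶ X) (h : ε ≫ π = 𝟙 S) : IsClosedImmersion ε := by
  let U : S → X.Opens := fun s => π ⁻¹ᵁ ⟨{s}, isOpen_discrete _⟩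
  have hU : ⨆ s, U s = ⊤ := by
    rw [eq_top_iff]
    intro x _
    exact TopologicalSpace.Opens.mem_iSup.mpr ⟨π x, rfl⟩
  rw [IsZariskiLocalAtTarget.iff_of_iSup_eq_top (P := @IsClosedImmersion) _ hU]
  intro s
  have hmem : ∀ p : S, p ∈ ε ⁻¹ᵁ U s ↔ p = s := by
    intro p
    change π (ε p) ∈ ({s} : Set S) ↔ p = s
    rw [← Scheme.Hom.comp_apply, h]
    rfl
  have hsub : Subsingleton ↑(ε ⁻¹ᵁ U s) := by
    refine ⟨fun a b => ?_⟩
    apply Subtype.ext
    rw [(hmem a.1).mp a.2, (hmem b.1).mp b.2]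
  have hrange : Set.range ((U s).ι ≫ π) ⊆ Set.range (ε ⁻¹ᵁ U s).ι := by
    rintro _ ⟨x, rfl⟩
    rw [Scheme.Opens.range_ι]
    apply (hmem _).mpr
    exact x.2
  let f : (U s).toScheme ⟶ (ε ⁻¹ᵁ U s).toScheme :=
    IsOpenImmersion.lift (ε ⁻¹ᵁ U s).ι ((U s).ι ≫ π) hrange
  refine isClosedImmersion_of_comp_eq_id f (ε ∣_ U s) ?_
  rw [← cancel_mono (ε ⁻¹ᵁ U s).ι, Category.assoc, IsOpenImmersion.lift_fac,
    morphismRestrict_ι_assoc, h, Category.comp_id, Category.id_comp]

/-- Let S be a scheme whose underlying topological space is discrete. Then every S-group scheme is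
separated over S. -/
theorem result (S : Scheme.{u}) [DiscreteTopology S] (G : Over S) [GrpObj G] :
    IsSeparated G.hom := by
  apply Groth.Agent.Lib.Helper62.isSeparated_of_isClosedImmersion_unit
  exact isClosedImmersion_section_of_discrete (S := S) G.hom η[G].left (Over.w η[G])

end Groth.Agent.S5331
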