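import Groth.Statements.S17968
import Mathlib.RingTheory.Nakayama
import Mathlib.RingTheory.Idempotents
import Mathlib.RingTheory.AdjoinRoot
import Mathlib.Algebra.Polynomial.Taylor
import Mathlib.Tactic

set_option autoImplicit false
universe u
open Hensel

namespace Groth.Agent.S17968

open Polynomial

section

variable {A : Type u} [CommRing A] (I : Ideal A)

theorem aeval_mem_map {B : Type*} [CommRing B] [Algebra A B] (q : A[X])
    (hq : ∀ i, q.coeff i ∈ I) (b : B) :
    aeval b q ∈ Ideal.map (algebraMap A B) I := by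
  rw [aeval_eq_sum_range]
  refine Ideal.sum_mem _ fun i _ => ?_
  rw [Algebra.smul_def]
  exact Ideal.mul_mem_right _ _ (Ideal.mem_map_of_mem _ (hq i))

theorem coeff_mem_of_map_eq (q r : A[X])
    (hqr : Polynomial.map (Ideal.Quotient.mk I) q = Polynomial.map (Ideal.Quotient.mk I) r) :
    ∀ i, (q - r).coeff i ∈ I := by
  intro i
  have := congrArg (fun f => f.coeff i) hqr
  simp only [coeff_map] at this
  rw [coeff_sub, ← Ideal.Quotient.eq]
  exact this

theorem map_eq_of_coeff_mem (q r : A[X]) (h : ∀ i, (q - r).coeff i ∈ I) :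
    Polynomial.map (Ideal.Quotient.mk I) q = Polynomial.map (Ideal.Quotient.mk I) r := by
  ext i
  simp only [coeff_map]
  rw [Ideal.Quotient.eq, ← coeff_sub]
  exact h i


theorem extract (hI : I ≤ Ideal.jacobson ⊥) (N : ℕ) (g : A[X]) (hg : g.Monic)
    (hdeg : g.natDegree = N + 1)
    (hD : ∀ i, (X ^ N * (X - 1) - g).coeff i ∈ I) (e' : AdjoinRoot g) (he' : IsIdempotentElem e')
    (hcong : e' - (AdjoinRoot.root g) ^ N ∈ Ideal.map (algebraMap A (AdjoinRoot g)) I) :
    ∃ v, g.eval v = 0 ∧ v - 1 ∈ I := by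
  have hfin : Module.Finite A (AdjoinRoot g) := hg.finite_adjoinRoot
  have hy : aeval (AdjoinRoot.root g) g = 0 := by rw [AdjoinRoot.aeval_eq, AdjoinRoot.mk_self]
  have h1 : (AdjoinRoot.root g) ^ N * (AdjoinRoot.root g - 1) ∈
      Ideal.map (algebraMap A (AdjoinRoot g)) I := by
    have := aeval_mem_map I _ hD (AdjoinRoot.root g)
    simpa [hy] using this
  have h2 : (AdjoinRoot.root g - 1) * e' ∈ Ideal.map (algebraMap A (AdjoinRoot g)) I := by
    have : (AdjoinRoot.root g - 1) * e' =
        (AdjoinRoot.root g - 1) * (e' - (AdjoinRoot.root g) ^ N) +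
          (AdjoinRoot.root g) ^ N * (AdjoinRoot.root g - 1) := by ring
    rw [this]
    exact Ideal.add_mem _ (Ideal.mul_mem_left _ _ hcong) h1
  have hItop : ∀ b : AdjoinRoot g, b ∈ Ideal.map (algebraMap A (AdjoinRoot g)) I ↔
      b ∈ I • (⊤ : Submodule A (AdjoinRoot g)) := by
    intro b
    rw [Ideal.smul_top_eq_map, Submodule.restrictScalars_mem]
  -- the functional
  let pb := AdjoinRoot.powerBasis' hg
  have hdim : pb.dim = N + 1 := by rw [AdjoinRoot.powerBasis'_dim, hdeg]
  let iN : Fin pb.dim := ⟨N, by omega⟩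
  let lam : AdjoinRoot g →ₗ[A] A := pb.basis.coord iN
  have hlamy : lam ((AdjoinRoot.root g) ^ N) = 1 := by
    have : (AdjoinRoot.root g) ^ N = pb.basis iN := by
      rw [pb.basis_eq_pow]; rfl
    rw [this]
    change (pb.basis.repr (pb.basis iN)) iN = 1
    rw [Module.Basis.repr_self, Finsupp.single_eq_same]
  have hlamI : ∀ b ∈ Ideal.map (algebraMap A (AdjoinRoot g)) I, lam b ∈ I := by
    intro b hb
    rw [hItop] at hb
    refine Submodule.smul_induction_on hb (fun r hr n _ => ?_) (fun x y hx hy => ?_)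
    · rw [map_smul, smul_eq_mul]; exact Ideal.mul_mem_right _ _ hr
    · rw [map_add]; exact Ideal.add_mem _ hx hy
  obtain ⟨i₁, hi₁, hlame⟩ : ∃ i₁ ∈ I, lam e' = 1 + i₁ := by
    refine ⟨lam (e' - (AdjoinRoot.root g) ^ N), hlamI _ hcong, ?_⟩
    rw [map_sub, hlamy]; ring
  have hunit : IsUnit (1 + i₁) := by
    have := Ideal.mem_jacobson_bot.mp (hI hi₁) 1
    rwa [mul_one, add_comm] at this
  -- Nakayama
  let M : Submodule A (AdjoinRoot g) := LinearMap.range (LinearMap.mulLeft A e')
  have hMmem : ∀ b : AdjoinRoot g, e' * b ∈ M := fun b => ⟨b, rfl⟩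
  have hMfg : M.FG := by
    have : M = Submodule.map (LinearMap.mulLeft A e') ⊤ := (Submodule.map_top _).symm
    rw [this]
    exact (Module.Finite.fg_top).map _
  have hstab : ∀ b : AdjoinRoot g, ∀ m ∈ I • M, b * m ∈ I • M := by
    intro b m hm
    refine Submodule.smul_induction_on hm (fun r hr n hn => ?_) (fun x y hx hy => ?_)
    · obtain ⟨n', rfl⟩ := hn
      have : b * r • (LinearMap.mulLeft A e') n' = r • (e' * (b * n')) := by
        simp only [LinearMap.mulLeft_apply, mul_smul_comm]
        congr 1; ring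
      rw [this]
      exact Submodule.smul_mem_smul hr (hMmem _)
    · rw [mul_add]; exact Submodule.add_mem _ hx hy
  have hemul : ∀ c ∈ I • (⊤ : Submodule A (AdjoinRoot g)), e' * c ∈ I • M := by
    intro c hc
    refine Submodule.smul_induction_on hc (fun r hr n _ => ?_) (fun x y hx hy => ?_)
    · rw [mul_smul_comm]
      exact Submodule.smul_mem_smul hr (hMmem _)
    · rw [mul_add]; exact Submodule.add_mem _ hx hy
  have hye : AdjoinRoot.root g * e' - e' ∈ I • M := by
    have : AdjoinRoot.root g * e' - e' = e' * ((AdjoinRoot.root g - 1) * e') := by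
      have h3 : e' * e' = e' := he'
      linear_combination (-(AdjoinRoot.root g - 1)) * h3
    rw [this]
    exact hemul _ ((hItop _).mp h2)
  have hQstab : ∀ m ∈ Submodule.span A {e'} ⊔ I • M,
      AdjoinRoot.root g * m ∈ Submodule.span A {e'} ⊔ I • M := by
    intro m hm
    obtain ⟨m₁, hm₁, m₂, hm₂, rfl⟩ := Submodule.mem_sup.mp hm
    obtain ⟨a, rfl⟩ := Submodule.mem_span_singleton.mp hm₁
    rw [mul_add]
    refine Submodule.add_mem _ ?_ (Submodule.mem_sup_right (hstab _ _ hm₂))
    have : AdjoinRoot.root g * a • e' = a • e' + a • (AdjoinRoot.root g * e' - e') := by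
      rw [mul_smul_comm, smul_sub]; abel
    rw [this]
    exact Submodule.add_mem _
      (Submodule.mem_sup_left (Submodule.smul_mem _ _ (Submodule.mem_span_singleton_self _)))
      (Submodule.mem_sup_right (Submodule.smul_mem _ _ hye))
  have hMQ : M ≤ Submodule.span A {e'} ⊔ I • M := by
    rintro _ ⟨b, rfl⟩
    obtain ⟨q, rfl⟩ := AdjoinRoot.mk_surjective b
    rw [LinearMap.mulLeft_apply, ← AdjoinRoot.aeval_eq]
    induction q using Polynomial.induction_on with
    | C a =>
      rw [aeval_C, mul_comm, ← Algebra.smul_def]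
      exact Submodule.mem_sup_left (Submodule.smul_mem _ _ (Submodule.mem_span_singleton_self _))
    | add p q hp hq =>
      rw [map_add, mul_add]; exact Submodule.add_mem _ hp hq
    | monomial n a ih =>
      have : e' * aeval (AdjoinRoot.root g) (C a * X ^ (n + 1)) =
          AdjoinRoot.root g * (e' * aeval (AdjoinRoot.root g) (C a * X ^ n)) := by
        simp only [map_mul, map_pow, aeval_X, aeval_C]
        ring
      rw [this]
      exact hQstab _ ih
  have hMle : M ≤ Submodule.span A {e'} :=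
    Submodule.le_of_le_smul_of_le_jacobson_bot hMfg hI hMQ
  obtain ⟨a, ha⟩ : ∃ a : A, a • e' = AdjoinRoot.root g * e' := by
    have : AdjoinRoot.root g * e' ∈ M := by
      rw [mul_comm]; exact hMmem _
    exact Submodule.mem_span_singleton.mp (hMle this)
  refine ⟨a, ?_, ?_⟩
  · -- root
    have hpow : ∀ n : ℕ, (AdjoinRoot.root g) ^ n * e' = (a ^ n) • e' := by
      intro n
      induction n with
      | zero => simp
      | succ n ih =>
        rw [pow_succ, mul_assoc, ← ha, mul_smul_comm, ih, smul_smul, pow_succ, mul_comm]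
    have hq : ∀ q : A[X], aeval (AdjoinRoot.root g) q * e' = (q.eval a) • e' := by
      intro q
      induction q using Polynomial.induction_on' with
      | add p q hp hq => rw [map_add, add_mul, hp, hq, eval_add, add_smul]
      | monomial n c =>
        rw [aeval_monomial, mul_assoc, hpow, eval_monomial, ← Algebra.smul_def, smul_smul]
    have h0 := hq g
    rw [hy, zero_mul] at h0
    have h4 := congrArg lam h0
    rw [map_zero, map_smul, smul_eq_mul, hlame] at h4
    exact (hunit.mul_left_eq_zero).mp h4.symm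
  · -- a - 1 ∈ I
    have h5 : (a - 1) • e' = (AdjoinRoot.root g - 1) * e' := by
      rw [sub_smul, one_smul, ha]; ring
    have h6 : lam ((a - 1) • e') ∈ I := by rw [h5]; exact hlamI _ h2
    rw [map_smul, smul_eq_mul, hlame] at h6
    have : a - 1 = (a - 1) * (1 + i₁) - (a - 1) * i₁ := by ring
    rw [this]
    exact Ideal.sub_mem _ h6 (Ideal.mul_mem_left _ _ hi₁)


theorem gabber (hI : I ≤ Ideal.jacobson ⊥)
    (h : ∀ (m : ℕ) (p : Polynomial A), p.Monic →
      Polynomial.map (Ideal.Quotient.mk I) p =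
        Polynomial.map (Ideal.Quotient.mk I) ((Polynomial.X ^ 2 - Polynomial.X) ^ m) →
      Set.SurjOn (Ideal.Quotient.mk (Ideal.map (algebraMap A (AdjoinRoot p)) I))
        {e : AdjoinRoot p | IsIdempotentElem e} {e | IsIdempotentElem e})
    (N : ℕ) (g : A[X]) (hg : g.Monic) (hdeg : g.natDegree = N + 1)
    (hD : ∀ i, (X ^ N * (X - 1) - g).coeff i ∈ I) : ∃ v, g.eval v = 0 ∧ v - 1 ∈ I := by
  rcases Nat.eq_zero_or_pos N with rfl | hNpos
  · have hgeq : g = X + C (g.coeff 0) := hg.eq_X_add_C hdeg
    refine ⟨-(g.coeff 0), ?_, ?_⟩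
    · rw [hgeq]; simp
    · have := hD 0
      simp only [pow_zero, one_mul, coeff_sub, coeff_X_zero, coeff_one_zero] at this
      have h2 : -(g.coeff 0) - 1 = 0 - 1 - g.coeff 0 := by ring
      rw [h2]; exact this
  · let p : A[X] := g * (X - 1) ^ (N - 1)
    have hpm : p.Monic := hg.mul ((monic_X_sub_C 1).pow _)
    have hid : ((X : A[X]) ^ 2 - X) ^ N = X ^ N * (X - 1) * (X - 1) ^ (N - 1) := by
      obtain ⟨k, rfl⟩ : ∃ k, N = k + 1 := ⟨N - 1, by omega⟩
      simp only [Nat.add_sub_cancel]
      have hX : (X : A[X]) ^ 2 - X = X * (X - 1) := by ring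
      rw [hX, mul_pow]
      ring
    have hpmap : Polynomial.map (Ideal.Quotient.mk I) p =
        Polynomial.map (Ideal.Quotient.mk I) ((X ^ 2 - X) ^ N) := by
      rw [hid, Polynomial.map_mul, Polynomial.map_mul (p := X ^ N * (X - 1)),
        map_eq_of_coeff_mem I _ _ hD]
    have hxp : aeval (AdjoinRoot.root p) p = 0 := by
      rw [AdjoinRoot.aeval_eq, AdjoinRoot.mk_self]
    have hxI : ((AdjoinRoot.root p) ^ 2 - AdjoinRoot.root p) ^ N ∈
        Ideal.map (algebraMap A (AdjoinRoot p)) I := by
      have := aeval_mem_map I ((X ^ 2 - X) ^ N - p) (coeff_mem_of_map_eq I _ _ hpmap.symm)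
        (AdjoinRoot.root p)
      simpa [hxp] using this
    have hxb : (Ideal.Quotient.mk (Ideal.map (algebraMap A (AdjoinRoot p)) I) (AdjoinRoot.root p) -
        (Ideal.Quotient.mk (Ideal.map (algebraMap A (AdjoinRoot p)) I) (AdjoinRoot.root p)) ^ 2) ^ N
          = 0 := by
      have h1 : Ideal.Quotient.mk (Ideal.map (algebraMap A (AdjoinRoot p)) I) (AdjoinRoot.root p) -
          (Ideal.Quotient.mk (Ideal.map (algebraMap A (AdjoinRoot p)) I) (AdjoinRoot.root p)) ^ 2 =
          -(Ideal.Quotient.mk (Ideal.map (algebraMap A (AdjoinRoot p)) I)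
            ((AdjoinRoot.root p) ^ 2 - AdjoinRoot.root p)) := by
        rw [map_sub, map_pow]; ring
      rw [h1, neg_pow, ← map_pow, Ideal.Quotient.eq_zero_iff_mem.mpr hxI, mul_zero]
    have hidem := isIdempotentElem_one_sub_one_sub_pow_pow _ N hxb
    obtain ⟨e, he, hee⟩ := h N p hpm hpmap hidem
    have hcongB : e - (1 - (1 - (AdjoinRoot.root p) ^ N) ^ N) ∈
        Ideal.map (algebraMap A (AdjoinRoot p)) I := by
      rw [← Ideal.Quotient.eq, hee]
      simp only [map_sub, map_one, map_pow]
    have hy : aeval (AdjoinRoot.root g) g = 0 := by rw [AdjoinRoot.aeval_eq, AdjoinRoot.mk_self]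
    have hyp : eval₂ (Algebra.ofId A (AdjoinRoot g)) (AdjoinRoot.root g) p = 0 := by
      have h0 : eval₂ (Algebra.ofId A (AdjoinRoot g)) (AdjoinRoot.root g) g = 0 := hy
      simp only [p, eval₂_mul, h0, zero_mul]
    let φ := AdjoinRoot.liftAlgHom p (Algebra.ofId A (AdjoinRoot g)) (AdjoinRoot.root g) hyp
    have hφx : φ (AdjoinRoot.root p) = AdjoinRoot.root g := AdjoinRoot.liftAlgHom_root _ _ _ _
    have he' : IsIdempotentElem (φ e) := he.map φ
    have hφI : ∀ b ∈ Ideal.map (algebraMap A (AdjoinRoot p)) I,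
        φ b ∈ Ideal.map (algebraMap A (AdjoinRoot g)) I := by
      intro b hb
      have hle : Ideal.map (algebraMap A (AdjoinRoot p)) I ≤
          Ideal.comap φ (Ideal.map (algebraMap A (AdjoinRoot g)) I) := by
        rw [Ideal.map_le_iff_le_comap]
        intro a ha
        rw [Ideal.mem_comap, Ideal.mem_comap, AlgHom.commutes]
        exact Ideal.mem_map_of_mem _ ha
      exact hle hb
    have hcong1 : φ e - (1 - (1 - (AdjoinRoot.root g) ^ N) ^ N) ∈
        Ideal.map (algebraMap A (AdjoinRoot g)) I := by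
      have := hφI _ hcongB
      simpa only [map_sub, map_one, map_pow, hφx] using this
    have hdvd : (X ^ N * (X - 1) : A[X]) ∣ (1 - (1 - X ^ N) ^ N) - X ^ N := by
      have h1 : (X - 1 : A[X]) ∣ 1 - X ^ N := by
        have := sub_dvd_pow_sub_pow (X : A[X]) 1 N
        rw [one_pow] at this
        have h1' : (1 : A[X]) - X ^ N = -(X ^ N - 1) := by ring
        rw [h1']
        exact (dvd_neg).mpr this
      have h2 : (X ^ N : A[X]) ∣ 1 - (1 - X ^ N) ^ (N - 1) := by
        have := sub_dvd_pow_sub_pow (1 : A[X]) (1 - X ^ N) (N - 1)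
        simpa using this
      have h3 : (1 - (1 - X ^ N) ^ N) - X ^ N =
          ((1 : A[X]) - X ^ N) * (1 - (1 - X ^ N) ^ (N - 1)) := by
        obtain ⟨k, rfl⟩ : ∃ k, N = k + 1 := ⟨N - 1, by omega⟩
        simp only [Nat.add_sub_cancel]; ring
      rw [h3, mul_comm (X ^ N) (X - 1)]
      exact mul_dvd_mul h1 h2
    obtain ⟨G, hG⟩ := hdvd
    have hE : (1 - (1 - (AdjoinRoot.root g) ^ N) ^ N) - (AdjoinRoot.root g) ^ N ∈
        Ideal.map (algebraMap A (AdjoinRoot g)) I := by
      have := congrArg (aeval (AdjoinRoot.root g)) hG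
      simp only [map_sub, map_one, map_pow, aeval_X, map_mul] at this
      rw [this]
      apply Ideal.mul_mem_right
      have h1 := aeval_mem_map I _ hD (AdjoinRoot.root g)
      simpa [hy] using h1
    have hcong : φ e - (AdjoinRoot.root g) ^ N ∈ Ideal.map (algebraMap A (AdjoinRoot g)) I := by
      have : φ e - (AdjoinRoot.root g) ^ N =
          (φ e - (1 - (1 - (AdjoinRoot.root g) ^ N) ^ N)) +
            ((1 - (1 - (AdjoinRoot.root g) ^ N) ^ N) - (AdjoinRoot.root g) ^ N) := by ring
      rw [this]; exact Ideal.add_mem _ hcong1 hE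
    exact extract I hI N g hg hdeg hD (φ e) he' hcong


end

/-- Let A be a commutative ring and I an ideal contained in the Jacobson radical of A. Suppose that for
every natural number m and every monic polynomial p over A whose reduction modulo I is the reduction
of (T^2 - T)^m, every idempotent of B/IB is the image of an idempotent of B, where B = A[T]/(p).
Then (A, I) is a henselian pair. -/
theorem result (A : Type u) [CommRing A]
    (I : Ideal A) (hI : I ≤ Ideal.jacobson ⊥)
    (h : ∀ (m : ℕ) (p : Polynomial A), p.Monic →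
      Polynomial.map (Ideal.Quotient.mk I) p =
        Polynomial.map (Ideal.Quotient.mk I) ((Polynomial.X ^ 2 - Polynomial.X) ^ m) →
      Set.SurjOn (Ideal.Quotient.mk (Ideal.map (algebraMap A (AdjoinRoot p)) I))
        {e : AdjoinRoot p | IsIdempotentElem e} {e | IsIdempotentElem e}) :
    HenselianRing A I := by
  refine ⟨hI, ?_⟩
  intro f hf a₀ h₁ h₂
  rcases subsingleton_or_nontrivial A with hsub | hnt
  · exact ⟨a₀, Subsingleton.elim _ _, by simp⟩
  set F := taylor a₀ f with hF
  have hFdeg : F.natDegree = f.natDegree := natDegree_taylor f a₀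
  have hFlead : F.coeff F.natDegree = 1 := by
    rw [hFdeg, hF, coeff_taylor_natDegree]; exact hf
  have hc0 : F.coeff 0 ∈ I := by rw [hF, taylor_coeff_zero]; exact h₁
  have hc1u : IsUnit (F.coeff 1) := by
    rw [hF, taylor_coeff_one]
    have := isLocalHom_of_le_jacobson_bot I hI
    exact isUnit_of_map_unit (Ideal.Quotient.mk I) _ h₂
  obtain ⟨ι, hι⟩ := hc1u.exists_right_inv
  set n := F.natDegree with hn
  rcases Nat.eq_zero_or_pos n with hn0 | hnpos
  · exfalso
    rw [hn0] at hFlead
    rw [hFlead] at hc0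
    have := Ideal.mem_jacobson_bot.mp (hI hc0) (-1)
    simp at this
  obtain ⟨N, hN⟩ : ∃ N, n = N + 1 := ⟨n - 1, by omega⟩
  let ρ : ℕ → A := fun k => if k = 0 then 1 else F.coeff k * (-1) ^ k * (F.coeff 0) ^ (k - 1) * ι ^ k
  let gp : A[X] := ∑ i ∈ Finset.range (n + 1), monomial i (ρ (n - i))
  have hgcoeff : ∀ i, gp.coeff i = if i ≤ n then ρ (n - i) else 0 := by
    intro i
    simp only [gp, finsetSum_coeff, coeff_monomial]
    rw [Finset.sum_ite_eq' (Finset.range (n + 1)) i]
    simp
  have hgdeg' : gp.natDegree ≤ n := by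
    apply natDegree_sum_le_of_forall_le
    intro k hk
    exact (natDegree_monomial_le _).trans (Nat.lt_succ_iff.mp (Finset.mem_range.mp hk))
  have hgn : gp.coeff n = 1 := by
    rw [hgcoeff, if_pos le_rfl, Nat.sub_self]; simp [ρ]
  have hgm : gp.Monic := monic_of_natDegree_le_of_coeff_eq_one n hgdeg' hgn
  have hgdeg : gp.natDegree = N + 1 := by
    rw [← hN]
    exact natDegree_eq_of_le_of_coeff_ne_zero hgdeg' (by rw [hgn]; exact one_ne_zero)
  have hρ1 : ρ 1 = -1 := by
    simp only [ρ, if_neg one_ne_zero, pow_one, Nat.sub_self, pow_zero, mul_one]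
    linear_combination (-1 : A) * hι
  have hρI : ∀ k, 2 ≤ k → ρ k ∈ I := by
    intro k hk
    have hk0 : k ≠ 0 := by omega
    simp only [ρ, if_neg hk0]
    apply Ideal.mul_mem_right
    apply Ideal.mul_mem_left
    obtain ⟨j, hj⟩ : ∃ j, k - 1 = j + 1 := ⟨k - 2, by omega⟩
    rw [hj, pow_succ]
    exact Ideal.mul_mem_left _ _ hc0
  have hD : ∀ i, (X ^ N * (X - 1) - gp).coeff i ∈ I := by
    intro i
    have hXN : (X ^ N * (X - 1) : A[X]) = X ^ (N + 1) - X ^ N := by ring
    rw [hXN, coeff_sub, coeff_sub, coeff_X_pow, coeff_X_pow, hgcoeff]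
    rcases lt_trichotomy i N with hlt | heq | hgt
    · have h1 : i ≠ N + 1 := by omega
      have h2 : i ≠ N := by omega
      have h3 : i ≤ n := by omega
      rw [if_neg h1, if_neg h2, if_pos h3, sub_zero, zero_sub]
      exact Ideal.neg_mem_iff _ |>.mpr (hρI _ (by omega))
    · subst heq
      have h1 : i ≠ i + 1 := by omega
      have h3 : i ≤ n := by omega
      have h4 : n - i = 1 := by omega
      rw [if_neg h1, if_pos rfl, if_pos h3, h4, hρ1]
      simp
    · rcases Nat.eq_or_lt_of_le (Nat.succ_le_of_lt hgt) with heq | hgt'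
      · have h2 : i ≠ N := by omega
        have h3 : i ≤ n := by omega
        have h4 : n - i = 0 := by omega
        have h5 : i = N + 1 := by omega
        rw [if_pos h5, if_neg h2, if_pos h3, h4]
        simp [ρ]
      · have h1 : i ≠ N + 1 := by omega
        have h2 : i ≠ N := by omega
        have h3 : ¬ i ≤ n := by omega
        rw [if_neg h1, if_neg h2, if_neg h3]
        simp
  obtain ⟨v, hv0, hv1⟩ := gabber I hI h N gp hgm hgdeg hD
  have hvu : IsUnit v := by
    have := Ideal.mem_jacobson_bot.mp (hI hv1) 1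
    simpa using this
  obtain ⟨u, hu⟩ := hvu.exists_right_inv
  set t := -(F.coeff 0) * ι with ht
  have htI : t ∈ I := Ideal.mul_mem_right _ _ (Ideal.neg_mem_iff _ |>.mpr hc0)
  refine ⟨t * u + a₀, ?_, ?_⟩
  · rw [IsRoot.def, ← taylor_eval, ← hF, eval_eq_sum_range, ← hn]
    have hterm : ∀ k ∈ Finset.range (n + 1), F.coeff k * (t * u) ^ k = F.coeff 0 * (ρ k * u ^ k) := by
      intro k _
      rcases Nat.eq_zero_or_pos k with rfl | hk
      · simp [ρ]
      · have hk0 : k ≠ 0 := by omega
        simp only [ρ, if_neg hk0]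
        obtain ⟨j, rfl⟩ : ∃ j, k = j + 1 := ⟨k - 1, by omega⟩
        simp only [Nat.add_sub_cancel, ht]
        ring
    rw [Finset.sum_congr rfl hterm, ← Finset.mul_sum]
    have hsum : ∑ k ∈ Finset.range (n + 1), ρ k * u ^ k = u ^ n * gp.eval v := by
      simp only [gp, eval_finsetSum, eval_monomial]
      rw [Finset.mul_sum, ← Finset.sum_range_reflect (fun k => ρ k * u ^ k) (n + 1)]
      refine Finset.sum_congr rfl fun i hi => ?_
      have hi' : i ≤ n := Nat.lt_succ_iff.mp (Finset.mem_range.mp hi)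
      simp only [Nat.add_sub_cancel]
      have : u ^ n = u ^ (n - i) * u ^ i := by rw [← pow_add, Nat.sub_add_cancel hi']
      rw [this]
      have hvi : v ^ i * u ^ i = 1 := by rw [← mul_pow, hu, one_pow]
      linear_combination (- ρ (n - i) * u ^ (n - i)) * hvi
    rw [hsum, hv0, mul_zero, mul_zero]
  · have : t * u + a₀ - a₀ = t * u := by ring
    rw [this]
    exact Ideal.mul_mem_right _ _ htI

end Groth.Agent.S17968
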