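import Groth.Statements.S0527
import Mathlib

set_option autoImplicit false
universe u
open Hensel

namespace Groth.Agent.S0527

/-- A ring is Henselian at any locally nilpotent ideal, i.e. an ideal all of whose elements are
nilpotent. -/
theorem result (A : Type u) [CommRing A] (I : Ideal A) (hI : ∀ x ∈ I, IsNilpotent x) :
    HenselianRing A I := by
  have hjac : I ≤ Ideal.jacobson ⊥ := by
    intro x hx
    rw [Ideal.mem_jacobson_bot]
    intro y
    exact ((Commute.all x y).isNilpotent_mul_right (hI x hx)).isUnit_add_one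
  refine ⟨hjac, ?_⟩
  intro f _ a₀ h₁ h₂
  have hloc := isLocalHom_of_le_jacobson_bot I hjac
  have hu : IsUnit (f.derivative.eval a₀) := hloc.map_nonunit _ h₂
  have hnil : IsNilpotent (Polynomial.aeval a₀ f) := by
    rw [Polynomial.coe_aeval_eq_eval]
    exact hI _ h₁
  have hu' : IsUnit (Polynomial.aeval a₀ (Polynomial.derivative f)) := by
    rw [Polynomial.coe_aeval_eq_eval]
    exact hu
  obtain ⟨r, ⟨hr1, hr2⟩, -⟩ := Polynomial.existsUnique_nilpotent_sub_and_aeval_eq_zero hnil hu'
  rw [Polynomial.coe_aeval_eq_eval] at hr2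
  refine ⟨r, hr2, ?_⟩
  obtain ⟨k, hk⟩ := Polynomial.binomExpansion f a₀ (r - a₀)
  rw [add_sub_cancel, hr2] at hk
  have hnil' : IsNilpotent (r - a₀) := by
    rw [← neg_sub]
    exact hr1.neg
  have hunit : IsUnit (f.derivative.eval a₀ + k * (r - a₀)) :=
    IsNilpotent.isUnit_add_left_of_commute ((Commute.all k _).isNilpotent_mul_left hnil') hu (Commute.all _ _)
  have hmem : (r - a₀) * (f.derivative.eval a₀ + k * (r - a₀)) ∈ I := by
    have : (r - a₀) * (f.derivative.eval a₀ + k * (r - a₀)) = - f.eval a₀ := by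
      linear_combination -hk
    rw [this]
    exact I.neg_mem h₁
  exact (Ideal.mul_unit_mem_iff_mem _ hunit).1 hmem

end Groth.Agent.S0527
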