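import Groth.Statements.S0528
import Mathlib

set_option autoImplicit false
universe u
open Hensel

namespace Groth.Agent.S0528

theorem isUnit_add_of_mem_jacobson {A : Type*} [CommRing A] {u j : A} (hu : IsUnit u)
    (hj : j ∈ (⊥ : Ideal A).jacobson) : IsUnit (u + j) := by
  rw [Ideal.mem_jacobson_bot] at hj
  have h := hj (↑hu.unit⁻¹)
  have : u + j = u * (j * ↑hu.unit⁻¹ + 1) := by
    rw [mul_add, mul_one, mul_comm j, ← mul_assoc, IsUnit.mul_val_inv, one_mul, add_comm]
  rw [this]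
  exact hu.mul h

theorem root_sub_mem {A : Type*} [CommRing A] {I : Ideal A} (f : Polynomial A) {a a₀ : A}
    (ha : f.eval a = 0) (ha₀ : f.eval a₀ ∈ I) (hu : IsUnit (f.derivative.eval a₀))
    (hj : a - a₀ ∈ (⊥ : Ideal A).jacobson) : a - a₀ ∈ I := by
  obtain ⟨k, hk⟩ := Polynomial.binomExpansion f a₀ (a - a₀)
  rw [add_sub_cancel, ha] at hk
  have hunit : IsUnit (f.derivative.eval a₀ + k * (a - a₀)) :=
    isUnit_add_of_mem_jacobson hu (Ideal.mul_mem_left _ k hj)
  have hmem : (a - a₀) * (f.derivative.eval a₀ + k * (a - a₀)) ∈ I := by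
    have : (a - a₀) * (f.derivative.eval a₀ + k * (a - a₀)) = - f.eval a₀ := by
      linear_combination -hk
    rw [this]
    exact I.neg_mem ha₀
  exact (Ideal.mul_unit_mem_iff_mem _ hunit).1 hmem

theorem map_le_jacobson {A : Type*} [CommRing A] {I J : Ideal A}
    (hJ : J ≤ (⊥ : Ideal A).jacobson) :
    Ideal.map (Ideal.Quotient.mk I) J ≤ (⊥ : Ideal (A ⧸ I)).jacobson := by
  intro x hx
  obtain ⟨x, hxJ, rfl⟩ := (Ideal.mem_map_iff_of_surjective _ Ideal.Quotient.mk_surjective).1 hx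
  rw [Ideal.mem_jacobson_bot]
  intro y
  obtain ⟨y, rfl⟩ := Ideal.Quotient.mk_surjective y
  have := hJ hxJ
  rw [Ideal.mem_jacobson_bot] at this
  have h := (this y).map (Ideal.Quotient.mk I)
  simpa using h

/-- For ideals `I ≤ J` of `A`, the ring `A` is Henselian at `J` exactly when `A` is Henselian at `I` and
`A/I` is Henselian at the image of `J`. -/
theorem result (A : Type u) [CommRing A] (I J : Ideal A) (hIJ : I ≤ J) :
    HenselianRing A J ↔
      (HenselianRing A I ∧ HenselianRing (A ⧸ I) (Ideal.map (Ideal.Quotient.mk I) J)) := by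
  constructor
  · intro hJ
    have hJjac : J ≤ Ideal.jacobson ⊥ := hJ.jac
    have hIjac : I ≤ Ideal.jacobson ⊥ := hIJ.trans hJjac
    have hlocI := isLocalHom_of_le_jacobson_bot I hIjac
    have hQjac := map_le_jacobson (I := I) hJjac
    have hlocQ := isLocalHom_of_le_jacobson_bot _ hQjac
    refine ⟨⟨hIjac, ?_⟩, ⟨hQjac, ?_⟩⟩
    · intro f hf a₀ h₁ h₂
      have hu : IsUnit (f.derivative.eval a₀) := hlocI.map_nonunit _ h₂
      obtain ⟨a, ha, haJ⟩ := hJ.is_henselian f hf a₀ (hIJ h₁) (hu.map _)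
      exact ⟨a, ha, root_sub_mem f ha h₁ hu (hJjac haJ)⟩
    · intro f hf a₀ h₁ h₂
      obtain ⟨g, hgf, -, hgm⟩ := Polynomial.lifts_and_natDegree_eq_and_monic
        ((Polynomial.mem_lifts _).2 (Polynomial.map_surjective _ Ideal.Quotient.mk_surjective f)) hf
      obtain ⟨b₀, rfl⟩ := Ideal.Quotient.mk_surjective a₀
      subst hgf
      rw [Polynomial.eval_map_apply, Ideal.mem_quotient_iff_mem hIJ] at h₁
      rw [Polynomial.derivative_map, Polynomial.eval_map_apply] at h₂
      have hu : IsUnit (g.derivative.eval b₀) :=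
        hlocI.map_nonunit _ (hlocQ.map_nonunit _ h₂)
      obtain ⟨b, hb, hbJ⟩ := hJ.is_henselian g hgm b₀ h₁ (hu.map _)
      refine ⟨Ideal.Quotient.mk I b, ?_, ?_⟩
      · rw [Polynomial.IsRoot, Polynomial.eval_map_apply, hb.eq_zero, map_zero]
      · rw [← map_sub]
        exact Ideal.mem_map_of_mem _ hbJ
  · rintro ⟨hI, hQ⟩
    have hIjac : I ≤ Ideal.jacobson ⊥ := hI.jac
    have hQjac := hQ.jac
    have hlocI := isLocalHom_of_le_jacobson_bot I hIjac
    have hJjac : J ≤ Ideal.jacobson ⊥ := by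
      intro x hx
      rw [Ideal.mem_jacobson_bot]
      intro y
      have h1 := hQjac (Ideal.mem_map_of_mem (Ideal.Quotient.mk I) hx)
      rw [Ideal.mem_jacobson_bot] at h1
      have h2 := h1 (Ideal.Quotient.mk I y)
      rw [← map_mul, ← map_one (Ideal.Quotient.mk I), ← map_add] at h2
      exact hlocI.map_nonunit _ h2
    have hlocJ := isLocalHom_of_le_jacobson_bot J hJjac
    refine ⟨hJjac, ?_⟩
    intro f hf a₀ h₁ h₂
    have hu : IsUnit (f.derivative.eval a₀) := hlocJ.map_nonunit _ h₂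
    have h₁' : (f.map (Ideal.Quotient.mk I)).eval (Ideal.Quotient.mk I a₀) ∈
        Ideal.map (Ideal.Quotient.mk I) J := by
      rw [Polynomial.eval_map_apply]
      exact Ideal.mem_map_of_mem _ h₁
    have h₂' : IsUnit (Ideal.Quotient.mk (Ideal.map (Ideal.Quotient.mk I) J)
        ((f.map (Ideal.Quotient.mk I)).derivative.eval (Ideal.Quotient.mk I a₀))) := by
      rw [Polynomial.derivative_map, Polynomial.eval_map_apply]
      exact (hu.map _).map _
    obtain ⟨a₁, ha₁, ha₁J⟩ := hQ.is_henselian (f.map (Ideal.Quotient.mk I)) (hf.map _)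
      (Ideal.Quotient.mk I a₀) h₁' h₂'
    obtain ⟨a₁, rfl⟩ := Ideal.Quotient.mk_surjective a₁
    rw [Polynomial.IsRoot, Polynomial.eval_map_apply, Ideal.Quotient.eq_zero_iff_mem] at ha₁
    rw [← map_sub, Ideal.mem_quotient_iff_mem hIJ] at ha₁J
    have hu₁ : IsUnit (f.derivative.eval a₁) := by
      obtain ⟨c, hc⟩ := Polynomial.sub_dvd_eval_sub a₁ a₀ f.derivative
      have : f.derivative.eval a₁ = f.derivative.eval a₀ + (a₁ - a₀) * c := by
        linear_combination hc
      rw [this]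
      exact isUnit_add_of_mem_jacobson hu (Ideal.mul_mem_right _ _ (hJjac ha₁J))
    obtain ⟨a, ha, haI⟩ := hI.is_henselian f hf a₁ ha₁ (hu₁.map _)
    refine ⟨a, ha, ?_⟩
    have : a - a₀ = (a - a₁) + (a₁ - a₀) := by ring
    rw [this]
    exact J.add_mem (hIJ haI) ha₁J

end Groth.Agent.S0528
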