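import Groth.Statements.S0525
import Mathlib
import Groth.Agent.S0527
import Groth.Agent.S0528

set_option autoImplicit false
universe u
open Hensel

namespace Groth.Agent.S0525

theorem henselian_iff_radical (A : Type u) [CommRing A] (I : Ideal A) :
    HenselianRing A I ↔ HenselianRing A I.radical := by
  rw [Groth.Agent.S0528.result A I I.radical Ideal.le_radical]
  refine ⟨fun h => ⟨h, ?_⟩, fun h => h.1⟩
  apply Groth.Agent.S0527.result
  intro x hx
  obtain ⟨x, hxr, rfl⟩ := (Ideal.mem_map_iff_of_surjective _ Ideal.Quotient.mk_surjective).1 hx
  obtain ⟨n, hn⟩ := hxr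
  exact ⟨n, by rw [← map_pow, Ideal.Quotient.eq_zero_iff_mem]; exact hn⟩

/-- If two ideals of a ring have the same radical (the same closed set), the ring is Henselian at one
exactly when it is Henselian at the other. -/
theorem result (A : Type u) [CommRing A] (I J : Ideal A)
    (h : I.radical = J.radical) : HenselianRing A I ↔ HenselianRing A J := by
  rw [henselian_iff_radical A I, henselian_iff_radical A J, h]

end Groth.Agent.S0525
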