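import Groth.Statements.S2591
import Groth.Agent.S9456
import Groth.Agent.Lib.Helper55.FL.Stratify

set_option autoImplicit false
open TensorProduct
universe u
open EGA43

namespace Groth.Agent.S2591

/-- Let A be a commutative ring, B a finitely presented A-algebra and M a finitely presented B-module
which is flat over A. Then there are finitely many elements f₁, …, fₙ of A generating the unit ideal
such that, for each i < n, writing A' for the localization of A at f_{i+1} modulo the ideal
generated by f₁, …, fᵢ, the module A' ⊗_A M is free over A'. -/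
theorem result {A B : Type u} [CommRing A] [CommRing B] [Algebra A B]
    [Algebra.FinitePresentation A B] (M : Type u) [AddCommGroup M] [Module B M] [Module A M] [IsScalarTower A B M]
    [Module.FinitePresentation B M] [Module.Flat A M] :
    ∃ l : List A, Ideal.span {a | a ∈ l} = ⊤ ∧
      ∀ (i : ℕ) (hi : i < l.length),
        letI J : Ideal (Localization.Away l[i]) :=
          (Ideal.span {a | a ∈ l.take i}).map (algebraMap A (Localization.Away l[i]))
        Module.Free (Localization.Away l[i] ⧸ J) ((Localization.Away l[i] ⧸ J) ⊗[A] M) := by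
  classical
  obtain ⟨R₀, _, _, S₀, _, _, _, _, _, _, M₀, _, _, _, _, _, _, f, hR₀, hS₀, hM₀, hflat₀, hpo,
    hbc⟩ := Groth.Agent.S9456.result A B M
  haveI : IsNoetherianRing R₀ := Algebra.FiniteType.isNoetherianRing ℤ R₀
  obtain ⟨l₀, hl₀, hfree₀⟩ := Groth.Agent.Lib.Helper55.FL.exists_list_freeAt
    (k := R₀) (S₁ := S₀) (M₁ := M₀) hM₀ ⊥
  rw [bot_sup_eq] at hl₀
  have e : M ≃ₗ[A] A ⊗[R₀] M₀ :=
    ((hbc.equiv.restrictScalars A).symm).trans
      (Algebra.IsPushout.cancelBaseChange R₀ A S₀ B M₀)
  have himg : ∀ l' : List R₀, {a | a ∈ l'.map (algebraMap R₀ A)} =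
      (algebraMap R₀ A) '' {a | a ∈ l'} := by
    intro l'
    ext a
    simp
  refine ⟨l₀.map (algebraMap R₀ A), ?_, ?_⟩
  · rw [himg, ← Ideal.map_span, hl₀, Ideal.map_top]
  · intro i hi
    have hi₀ : i < l₀.length := by simpa using hi
    have h1 := hfree₀ i hi₀
    rw [bot_sup_eq] at h1
    have h2 := Groth.Agent.Lib.Helper55.FL.FreeAt.baseChange M₀ M e _ _ h1
    rw [Ideal.map_span, ← himg, List.map_take] at h2
    have h3 : (l₀.map (algebraMap R₀ A))[i] = algebraMap R₀ A l₀[i] := List.getElem_map _
    rw [← h3] at h2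
    exact h2

end Groth.Agent.S2591
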