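import Groth.Statements.S4875
-- import your own Groth.Agent.* helpers here
import Groth.Agent.S2591
import Groth.Agent.Lib.Helper68.SDL2
import Groth.Agent.Lib.Helper45.SDG0F
import Groth.Agent.Lib.Helper45.SDG2F
import Groth.Agent.Lib.Helper76.SDKILLF

set_option autoImplicit false
universe u
open CategoryTheory AlgebraicGeometry
open EGA43

namespace Groth.Agent.S4875
open TensorProduct CategoryTheory.Limits

section alg
variable {A : Type u} [CommRing A]

theorem ker_killed (l : List A) (i : ℕ) (hil : i < l.length) (P : Type u) [AddCommGroup P]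
    [Module A P] (hJP : ∀ a ∈ Ideal.span {a | a ∈ l.take i}, ∀ p : P, a • p = 0) :
    ∀ a ∈ Ideal.span {a | a ∈ l.take (i + 1)},
      ∀ p : LinearMap.ker (LinearMap.lsmul A P l[i]), a • p = 0 := by
  intro a ha
  refine Submodule.span_induction
    (p := fun a _ => ∀ p : LinearMap.ker (LinearMap.lsmul A P l[i]), a • p = 0) ?_ ?_ ?_ ?_ ha
  · intro a ha p
    have ha' : a ∈ l.take (i + 1) := ha
    rw [List.take_succ_eq_append_getElem hil, List.mem_append, List.mem_singleton] at ha'
    rcases ha' with ha' | rfl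
    · apply Subtype.ext
      simpa using hJP a (Ideal.subset_span ha') p.1
    · apply Subtype.ext
      show l[i] • p.1 = 0
      exact LinearMap.mem_ker.1 p.2
  · intro p; simp
  · intro a b _ _ ha hb p; rw [add_smul, ha, hb, add_zero]
  · intro c a _ ha p
    have h2 : (c • a) • p = c • (a • p) := by rw [smul_eq_mul, mul_smul]
    rw [h2, ha, smul_zero]

theorem sep_aux (M : Type u) [AddCommGroup M] [Module A M] [Module.Flat A M]
    (l : List A) (hl : Ideal.span {a | a ∈ l} = ⊤)
    (hfree : ∀ (i : ℕ) (hi : i < l.length),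
      Module.Free (Localization.Away l[i] ⧸ (Ideal.span {a | a ∈ l.take i}).map
          (algebraMap A (Localization.Away l[i])))
        ((Localization.Away l[i] ⧸ (Ideal.span {a | a ∈ l.take i}).map
          (algebraMap A (Localization.Away l[i]))) ⊗[A] M))
    (Λ : Type u) :
    ∀ (k i : ℕ), i + k = l.length → ∀ (P : Type u) [AddCommGroup P] [Module A P]
      (Pl : Λ → Type u) [∀ j, AddCommGroup (Pl j)] [∀ j, Module A (Pl j)]
      (φ : ∀ j, P →ₗ[A] Pl j),
      (∀ a ∈ Ideal.span {a | a ∈ l.take i}, ∀ p : P, a • p = 0) →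
      (∀ j, ∀ a ∈ Ideal.span {a | a ∈ l.take i}, ∀ p : Pl j, a • p = 0) →
      (∀ (g : A) (x : P), (∀ j, ∃ m : ℕ, g ^ m • φ j x = 0) → ∃ m : ℕ, g ^ m • x = 0) →
      ∀ t : P ⊗[A] M, (∀ j, (φ j).rTensor M t = 0) → t = 0 := by
  intro k
  induction k with
  | zero =>
    intro i hi P _ _ Pl _ _ φ hJP _ _ t _
    have hi' : i = l.length := by omega
    have h1 : (1 : A) ∈ Ideal.span {a | a ∈ l.take i} := by
      rw [hi', List.take_length, hl]; trivial
    have h0 : ∀ p : P, p = 0 := fun p => by simpa using hJP 1 h1 p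
    have : Subsingleton P := ⟨fun a b => by rw [h0 a, h0 b]⟩
    exact Subsingleton.elim t 0
  | succ k ih =>
    intro i hi P _ _ Pl _ _ φ hJP hJPl hSL t ht
    have hil : i < l.length := by omega
    obtain ⟨m, hm⟩ := Groth.Agent.Lib.Helper76.SDKILLF.KILLF M l[i] (Ideal.span {a | a ∈ l.take i}) (hfree i hil) P hJP Pl hJPl φ
      (hSL l[i]) t ht
    have hK : ∀ t₁ : P ⊗[A] M, (∀ j, (φ j).rTensor M t₁ = 0) → l[i] • t₁ = 0 → t₁ = 0 := by
      intro t₁ ht₁ hg
      obtain ⟨hinj, hsurj⟩ := Groth.Agent.Lib.Helper68.SDL2.L2 M P l[i]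
      obtain ⟨t', ht'⟩ := hsurj t₁ hg
      -- the restricted family
      let φ' : ∀ j, LinearMap.ker (LinearMap.lsmul A P l[i]) →ₗ[A]
          LinearMap.ker (LinearMap.lsmul A (Pl j) l[i]) := fun j =>
        ((φ j).comp (LinearMap.ker (LinearMap.lsmul A P l[i])).subtype).codRestrict _ (fun x => by
          rw [LinearMap.mem_ker]
          show l[i] • φ j x.1 = 0
          rw [← map_smul]
          have : l[i] • x.1 = 0 := LinearMap.mem_ker.1 x.2
          rw [this, map_zero])
      have hφ' : ∀ j, (LinearMap.ker (LinearMap.lsmul A (Pl j) l[i])).subtype.comp (φ' j) =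
          (φ j).comp (LinearMap.ker (LinearMap.lsmul A P l[i])).subtype := fun j =>
        LinearMap.subtype_comp_codRestrict _ _ _
      have ht'0 : t' = 0 := by
        refine ih (i + 1) (by omega) _ (fun j => LinearMap.ker (LinearMap.lsmul A (Pl j) l[i])) φ'
          (ker_killed l i hil P hJP) (fun j => ker_killed l i hil (Pl j) (hJPl j)) ?_ t' ?_
        · intro g x hx
          obtain ⟨m, hm⟩ := hSL g x.1 (fun j => by
            obtain ⟨n, hn⟩ := hx j
            refine ⟨n, ?_⟩
            have := congrArg Subtype.val hn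
            simpa [φ'] using this)
          exact ⟨m, Subtype.ext (by simpa using hm)⟩
        · intro j
          obtain ⟨hinj', -⟩ := Groth.Agent.Lib.Helper68.SDL2.L2 M (Pl j) l[i]
          apply hinj'
          rw [map_zero, ← LinearMap.rTensor_comp_apply, hφ' j, LinearMap.rTensor_comp_apply, ht',
            ht₁ j]
      rw [← ht', ht'0, map_zero]
    have hpow : ∀ j : ℕ, l[i] ^ j • t = 0 → t = 0 := by
      intro j
      induction j with
      | zero => intro h; simpa using h
      | succ j ihj =>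
        intro h
        apply ihj
        apply hK
        · intro j'
          rw [map_smul, ht j', smul_zero]
        · rw [← mul_smul, ← pow_succ']; exact h
    exact hpow m hm

end alg

theorem ringF {A : Type u} [CommRing A] (B : Type u) [CommRing B] [Algebra A B] [Module.Flat A B]
    (l : List A) (hl : Ideal.span {a | a ∈ l} = ⊤)
    (hfree : ∀ (i : ℕ) (hi : i < l.length),
      Module.Free (Localization.Away l[i] ⧸ (Ideal.span {a | a ∈ l.take i}).map
          (algebraMap A (Localization.Away l[i])))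
        ((Localization.Away l[i] ⧸ (Ideal.span {a | a ∈ l.take i}).map
          (algebraMap A (Localization.Away l[i]))) ⊗[A] B))
    {Λ : Type u} (C : Λ → Type u) [∀ i, CommRing (C i)] (ψ : ∀ i, A →+* C i)
    (hSL : ∀ (g x : A), (∀ i, ∃ m : ℕ, ψ i g ^ m * ψ i x = 0) → ∃ m : ℕ, g ^ m * x = 0)
    (t : B)
    (ht : ∀ i, ∀ (R' : Type u) [CommRing R'] (α : C i →+* R') (β : B →+* R'),
      α.comp (ψ i) = β.comp (algebraMap A B) → β t = 0) : t = 0 := by
  let _ : ∀ j, Algebra A (C j) := fun j => (ψ j).toAlgebra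
  have halg : ∀ j (a : A), algebraMap A (C j) a = ψ j a := fun j a => rfl
  have h := sep_aux B l hl hfree Λ l.length 0 (by simp) A C
    (fun j => Algebra.linearMap A (C j))
    (by
      intro a ha p
      have : a = 0 := by simpa using ha
      rw [this, zero_smul])
    (by
      intro j a ha p
      have : a = 0 := by simpa using ha
      rw [this, zero_smul])
    (fun g x hx => by
      obtain ⟨m, hm⟩ := hSL g x (fun j => by
        obtain ⟨n, hn⟩ := hx j
        refine ⟨n, ?_⟩
        rw [Algebra.linearMap_apply, Algebra.smul_def, map_pow, halg, halg] at hn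
        exact hn)
      exact ⟨m, by rw [smul_eq_mul]; exact hm⟩)
    ((1 : A) ⊗ₜ[A] t)
    (fun j => by
      rw [LinearMap.rTensor_tmul, Algebra.linearMap_apply, map_one]
      exact ht j (C j ⊗[A] B) Algebra.TensorProduct.includeLeftRingHom
        (Algebra.TensorProduct.includeRight : B →ₐ[A] C j ⊗[A] B).toRingHom (by
          ext a
          simp only [RingHom.comp_apply, Algebra.TensorProduct.includeLeftRingHom_apply,
            AlgHom.toRingHom_eq_coe, RingHom.coe_coe, Algebra.TensorProduct.includeRight_apply]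
          rw [← halg, Algebra.algebraMap_eq_smul_one, Algebra.algebraMap_eq_smul_one (A := B),
            TensorProduct.smul_tmul]))
  have := congrArg (TensorProduct.lid A B) h
  simpa using this


theorem G1F {X X' Zi : Scheme.{u}} (fi : Zi ⟶ X) (g : X' ⟶ X) (U : X.Opens)
    (hU : IsAffineOpen U) (U' : X'.Opens)
    (hU' : IsAffineOpen U') (hUU' : U' ≤ g ⁻¹ᵁ U) (W : Zi.Opens) (hW : IsAffineOpen W)
    (hWU : W ≤ fi ⁻¹ᵁ U) (t : Γ(X', U')) (ht : (pullback.snd fi g).app U' t = 0)
    (R' : CommRingCat.{u}) (α : Γ(Zi, W) ⟶ R') (β : Γ(X', U') ⟶ R')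
    (hαβ : fi.appLE U W hWU ≫ α = g.appLE U U' hUU' ≫ β) : β.hom t = 0 := by
  have hab : (Spec.map α ≫ hW.fromSpec) ≫ fi = (Spec.map β ≫ hU'.fromSpec) ≫ g := by
    simp only [Category.assoc]
    rw [← IsAffineOpen.SpecMap_appLE_fromSpec fi hU hW hWU,
      ← IsAffineOpen.SpecMap_appLE_fromSpec g hU hU' hUU', ← Spec.map_comp_assoc,
      ← Spec.map_comp_assoc, hαβ]
  have hc : pullback.lift _ _ hab ≫ pullback.snd fi g = Spec.map β ≫ hU'.fromSpec :=
    pullback.lift_snd _ _ _
  have hle1 : (⊤ : (Spec Γ(X', U')).Opens) ≤ hU'.fromSpec ⁻¹ᵁ U' := by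
    intro x _
    show hU'.fromSpec x ∈ (U' : Set X')
    rw [← hU'.range_fromSpec]
    exact ⟨_, rfl⟩
  have hle : (⊤ : (Spec R').Opens) ≤ (Spec.map β ≫ hU'.fromSpec) ⁻¹ᵁ U' := by
    intro x _
    exact hle1 (Set.mem_univ (Spec.map β x))
  have aux : ∀ (b' : Spec R' ⟶ X') (_ : pullback.lift _ _ hab ≫ pullback.snd fi g = b')
      (hle' : (⊤ : (Spec R').Opens) ≤ b' ⁻¹ᵁ U'), (b'.appLE U' ⊤ hle').hom t = 0 := by
    rintro _ rfl hle'
    rw [Scheme.Hom.comp_appLE]
    simp only [CommRingCat.hom_comp, RingHom.comp_apply]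
    erw [ht]
    exact map_zero _
  have h3 := aux _ hc hle
  have h4 : (Spec.map β ≫ hU'.fromSpec).appLE U' ⊤ hle = β ≫ (Scheme.ΓSpecIso R').inv := by
    rw [← Scheme.Hom.appLE_comp_appLE (Spec.map β) hU'.fromSpec U' ⊤ ⊤ hle1 le_top]
    have h5 : hU'.fromSpec.appLE U' ⊤ hle1 = (Scheme.ΓSpecIso Γ(X', U')).inv := by
      rw [Scheme.Hom.appLE, hU'.fromSpec_app_self, Category.assoc, ← Functor.map_comp]
      convert Category.comp_id _
      exact (Spec Γ(X', U')).presheaf.map_id _
    rw [h5, Scheme.ΓSpecIso_inv_naturality]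
    rfl
  rw [h4] at h3
  have h5 : (Scheme.ΓSpecIso R').inv.hom (β.hom t) = 0 := h3
  have := congrArg (Scheme.ΓSpecIso R').hom.hom h5
  simpa using this



/-- Let (f_i : Z_i ⟶ X) be a schematically dominant family of morphisms and g : X' ⟶ X a flat morphism
locally of finite presentation. Then the family of base changes f'_i : Z_i ×_X X' ⟶ X' is
schematically dominant. (No quasi-compactness of the f_i and no finiteness of the family is
assumed.) -/
theorem result {X X' : Scheme.{u}} {ι : Type u} (Z : ι → Scheme.{u})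
    (f : ∀ i, Z i ⟶ X) (g : X' ⟶ X) [Flat g] [LocallyOfFinitePresentation g]
    (h : (∀ (V : (X).Opens) (t : Γ(X, V)), (∀ i, (f i).app V t = 0) → t = 0)) :
    (∀ (V : (X').Opens) (t : Γ(X', V)), (∀ i, (Limits.pullback.snd (f i) g).app V t = 0) → t = 0) := by
  refine Groth.Agent.Lib.Helper45.SDG0F.G0F Z f g ?_
  intro U U' hU hU' hUU' t ht
  have hflat : (g.appLE U U' hUU').hom.Flat :=
    HasRingHomProperty.appLE (P := @Flat) g inferInstance ⟨U, hU⟩ ⟨U', hU'⟩ hUU'
  have hfp : (g.appLE U U' hUU').hom.FinitePresentation :=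
    HasRingHomProperty.appLE (P := @LocallyOfFinitePresentation) g inferInstance
      ⟨U, hU⟩ ⟨U', hU'⟩ hUU'
  let _ : Algebra Γ(X, U) Γ(X', U') := (g.appLE U U' hUU').hom.toAlgebra
  have : Module.Flat Γ(X, U) Γ(X', U') := hflat
  have : Algebra.FinitePresentation Γ(X, U) Γ(X', U') := hfp
  obtain ⟨l, hl, hfree⟩ := Groth.Agent.S2591.result (A := Γ(X, U)) (B := Γ(X', U')) Γ(X', U')
  refine ringF (A := Γ(X, U)) Γ(X', U') l hl hfree
    (Λ := Σ i : ι, {W : (Z i).Opens // IsAffineOpen W ∧ W ≤ f i ⁻¹ᵁ U})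
    (fun p => Γ(Z p.1, p.2.1)) (fun p => ((f p.1).appLE U p.2.1 p.2.2.2).hom) ?_ t ?_
  · intro g' x hx
    exact Groth.Agent.Lib.Helper45.SDG2F.G2F Z f h U hU g' x (fun i W hW hWU => hx ⟨i, ⟨W, hW, hWU⟩⟩)
  · intro p R' _ α β hαβ
    have := G1F (f p.1) g U hU U' hU' hUU' p.2.1 p.2.2.1 p.2.2.2 t (ht p.1)
      (CommRingCat.of R') (CommRingCat.ofHom α) (CommRingCat.ofHom β) (by
        ext x
        exact congrArg (fun k => k x) hαβ)
    exact this

end Groth.Agent.S4875
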