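import Groth.Statements.S9225
import Mathlib
import Groth.Agent.Lib.Helper76.RegularLocal
-- import your own Groth.Agent.* helpers here

set_option autoImplicit false
universe u
open CAlg

namespace Groth.Agent.S9225

open IsLocalRing

theorem derivation_sq_mem {k : Type*} {R : Type u} [CommRing k] [CommRing R] [Algebra k R]
    (D : Derivation k R R) (p : Ideal R)
    (a : R) (ha : a ∈ p ^ 2) : D a ∈ p := by
  rw [pow_two] at ha
  refine Submodule.mul_induction_on ha ?_ ?_
  · intro x hx y hy
    rw [Derivation.leibniz, smul_eq_mul, smul_eq_mul]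
    exact p.add_mem (p.mul_mem_right (D y) hx) (p.mul_mem_right (D x) hy)
  · intro x y hx hy
    rw [map_add]
    exact p.add_mem hx hy

theorem regular_quotient_of_forall {R : Type u} [CommRing R] [IsRegularRing R] (f : R)
    (H : ∀ (p : Ideal R) [p.IsPrime], f ∈ p → ∀ t : R, t ∉ p → t * f ∉ p ^ 2) :
    IsRegularRing (R ⧸ Ideal.span ({f} : Set R)) := by
  set I := Ideal.span ({f} : Set R) with hI
  rw [isRegularRing_iff]
  intro q hq
  set p := q.comap (Ideal.Quotient.mk I) with hp
  have hfp : f ∈ p := by
    rw [hp, Ideal.mem_comap]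
    have : Ideal.Quotient.mk I f = 0 := Ideal.Quotient.eq_zero_iff_mem.2 (Ideal.mem_span_singleton_self f)
    rw [this]; exact q.zero_mem
  let Rp := Localization.AtPrime p
  have hreg : IsRegularLocalRing Rp := inferInstance
  set f' : Rp := algebraMap R Rp f with hf'
  have hf'm : f' ∈ maximalIdeal Rp := by
    rw [← Localization.AtPrime.map_eq_maximalIdeal]
    exact Ideal.mem_map_of_mem _ hfp
  have hf'2 : f' ∉ maximalIdeal Rp ^ 2 := by
    rw [← Localization.AtPrime.map_eq_maximalIdeal, ← Ideal.map_pow]
    intro hmem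
    rw [IsLocalization.mem_map_algebraMap_iff p.primeCompl] at hmem
    obtain ⟨⟨⟨a, ha⟩, ⟨s, hs⟩⟩, h⟩ := hmem
    simp only [hf', ← map_mul] at h
    obtain ⟨⟨c, hc⟩, hc'⟩ := (IsLocalization.eq_iff_exists p.primeCompl Rp).1 h
    simp only at hc'
    have hcs : c * s ∉ p := fun hh => (Ideal.IsPrime.mem_or_mem inferInstance hh).elim hc hs
    apply H p hfp (c * s) hcs
    have : c * s * f = c * a := by rw [← hc']; ring
    rw [this]
    exact Ideal.mul_mem_left _ _ ha
  have hquot := (Groth.Agent.Lib.Helper76.isRegularLocalRing_quotient_of_notMem_sq Rp f' hf'm hf'2).1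
  have hmap : I.map (algebraMap R Rp) = Ideal.span ({f'} : Set Rp) := by
    change Ideal.map (algebraMap R Rp) (Ideal.span {f}) = _
    rw [Ideal.map_span, Set.image_singleton]
  have hloc : IsLocalization (Algebra.algebraMapSubmonoid (R ⧸ I) p.primeCompl)
      (Rp ⧸ I.map (algebraMap R Rp)) := inferInstance
  have hsub : Algebra.algebraMapSubmonoid (R ⧸ I) p.primeCompl = q.primeCompl := by
    ext x
    constructor
    · rintro ⟨r, hr, rfl⟩
      exact hr
    · intro hx
      obtain ⟨r, rfl⟩ := Ideal.Quotient.mk_surjective x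
      exact ⟨r, hx, rfl⟩
  rw [hsub] at hloc
  have hloc' : IsLocalization.AtPrime (Rp ⧸ I.map (algebraMap R Rp)) q := hloc
  have e : (Rp ⧸ I.map (algebraMap R Rp)) ≃ₐ[R ⧸ I] Localization.AtPrime q :=
    IsLocalization.algEquiv q.primeCompl _ _
  have hreg2 : IsRegularLocalRing (Rp ⧸ I.map (algebraMap R Rp)) := by
    rw [hmap]; exact hquot
  exact IsRegularLocalRing.of_ringEquiv e.toRingEquiv

theorem gen_result {k : Type*} (R : Type u) [CommRing k] [CommRing R] [Algebra k R]
    [IsRegularRing R] (f : R) (D : Derivation k R R)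
    (hD : IsUnit (Ideal.Quotient.mk (Ideal.span {f}) (D f))) :
    IsRegularRing (R ⧸ Ideal.span ({f} : Set R)) := by
  apply regular_quotient_of_forall
  intro p hp hfp t ht hmem
  have h1 := derivation_sq_mem D p _ hmem
  rw [Derivation.leibniz, smul_eq_mul, smul_eq_mul] at h1
  have h2 : t * D f ∈ p := by
    have := p.sub_mem h1 (p.mul_mem_right (D t) hfp)
    simpa using this
  have h3 : D f ∈ p := (hp.mem_or_mem h2).resolve_left ht
  have hle : Ideal.span ({f} : Set R) ≤ p := by
    rw [Ideal.span_le, Set.singleton_subset_iff]; exact hfp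
  have h4 : IsUnit (Ideal.Quotient.mk p (D f)) := by
    have := hD.map (Ideal.Quotient.factor hle)
    simpa using this
  rw [Ideal.Quotient.eq_zero_iff_mem.2 h3] at h4
  have : Nontrivial (R ⧸ p) := Ideal.Quotient.nontrivial_iff.2 hp.ne_top
  exact not_isUnit_zero h4


/-- Let R be a regular ring, f an element of R and D a derivation of R such that the image of D(f) in
R/(f) is a unit. Then R/(f) is a regular ring. -/
theorem result (R : Type u) [CommRing R] [IsRegularRing R]
    (f : R) (D : Derivation ℤ R R)
    (hD : IsUnit (Ideal.Quotient.mk (Ideal.span {f}) (D f))) :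
    IsRegularRing (R ⧸ Ideal.span ({f} : Set R)) := by
  exact gen_result R f D hD


end Groth.Agent.S9225
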