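import Groth.Statements.S5435
-- import your own Groth.Agent.* helpers here

set_option autoImplicit false
universe u
open CategoryTheory MonoidalCategory CartesianMonoidalCategory MonObj GrpObj AlgebraicGeometry CategoryTheory.Limits
open SGA3x

namespace Groth.Agent.S5435

section shear
variable {S : Scheme.{u}} (G : Over S) [GrpObj G]

/-- the shear isomorphism `(a, b) ↦ (ab, b)` -/
noncomputable def shear : G ⊗ G ≅ G ⊗ G where
  hom := lift μ[G] (snd G G)
  inv := lift (fst G G * (snd G G)⁻¹) (snd G G)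
  hom_inv_id := by
    apply CartesianMonoidalCategory.hom_ext
    · rw [Category.assoc, lift_fst, MonObj.comp_mul, GrpObj.comp_inv, lift_fst, lift_snd,
        Category.id_comp, MonObj.mul_eq_mul, mul_inv_cancel_right]
    · rw [Category.assoc, lift_snd, lift_snd, Category.id_comp]
  inv_hom_id := by
    apply CartesianMonoidalCategory.hom_ext
    · rw [Category.assoc, lift_fst, MonObj.mul_eq_mul, MonObj.comp_mul, lift_fst, lift_snd,
        Category.id_comp, inv_mul_cancel_right]
    · rw [Category.assoc, lift_snd, lift_snd, Category.id_comp]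

theorem mul_eq_shear : μ[G] = (shear G).hom ≫ fst G G := by
  simp [shear]

theorem flat_mul [Flat G.hom] : Flat μ[G].left := by
  rw [mul_eq_shear G, Over.comp_left]
  have : Flat (fst G G).left := by
    rw [Over.fst_left]; infer_instance
  have : IsIso (shear G).hom.left :=
    inferInstanceAs (IsIso ((Over.forget S).map (shear G).hom))
  have : Flat (shear G).hom.left := inferInstance
  infer_instance

end shear

theorem dense_of_schDense {X : Scheme.{u}} (U : X.Opens) (hU : CInt.IsSchematicallyDense U) :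
    Dense (U : Set X) := by
  rw [dense_iff_inter_open]
  intro V hV hne
  by_contra hempty
  rw [Set.not_nonempty_iff_eq_empty] at hempty
  let V' : X.Opens := ⟨V, hV⟩
  have hVU : V' ⊓ U = ⊥ := by
    ext x
    simp only [TopologicalSpace.Opens.coe_inf, TopologicalSpace.Opens.coe_bot]
    exact Set.ext_iff.mp hempty x
  have hsub : Subsingleton Γ(X, V' ⊓ U) := by rw [hVU]; infer_instance
  have h01 : (1 : Γ(X, V')) = 0 := hU V' (Subsingleton.elim _ _)
  have h1 : X.basicOpen (1 : Γ(X, V')) = V' := X.basicOpen_of_isUnit isUnit_one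
  rw [h01, X.basicOpen_zero] at h1
  obtain ⟨x, hx⟩ := hne
  have : x ∈ (⊥ : X.Opens) := h1 ▸ (show x ∈ V' from hx)
  exact this

section surj
variable {S : Scheme.{u}} (G : Over S) [GrpObj G] (U : G.left.Opens)

/-- `U` as an object over `S`. -/
abbrev UO : Over S := Over.mk (U.ι ≫ G.hom)

/-- the inclusion of `U` in `G` over `S`. -/
abbrev jU : UO G U ⟶ G := Over.homMk U.ι rfl

/-- multiplication restricted to `U × U`. -/
noncomputable abbrev mU : UO G U ⊗ UO G U ⟶ G := (jU G U ⊗ₘ jU G U) ≫ μ[G]

theorem surjective_mU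
    (hU : ∀ (S' : Scheme.{u}) (g : S' ⟶ S),
      CInt.IsSchematicallyDense ((pullback.fst G.hom g) ⁻¹ᵁ U)) :
    Function.Surjective (mU G U).left := by
  intro z
  let T := Spec (G.left.residueField z)
  let ζ₀ : T ⟶ G.left := G.left.fromSpecResidueField z
  let σ : T ⟶ S := ζ₀ ≫ G.hom
  let P := pullback G.hom σ
  let prP : P ⟶ G.left := pullback.fst G.hom σ
  let sndP : P ⟶ T := pullback.snd G.hom σ
  let Xz : Over S := Over.mk (prP ≫ G.hom)
  let pr : Xz ⟶ G := Over.homMk prP rfl
  let c : Xz ⟶ G := Over.homMk (sndP ≫ ζ₀) (by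
    simp only [Category.assoc, Over.mk_hom, Xz]
    exact pullback.condition.symm)
  let ρG : Xz ⟶ G := pr⁻¹ * c
  let ρG' : Xz ⟶ G := c * pr⁻¹
  have hcond : ∀ q : Xz ⟶ G, q.left ≫ G.hom = sndP ≫ σ := fun q => by
    rw [Over.w q]; exact pullback.condition
  let ρ : P ⟶ P := pullback.lift ρG.left sndP (hcond ρG)
  let ρ' : P ⟶ P := pullback.lift ρG'.left sndP (hcond ρG')
  let ρt : Xz ⟶ Xz := Over.homMk ρ (by
    simp only [Over.mk_hom, Xz, ρ, prP]
    rw [pullback.lift_fst_assoc]; exact Over.w ρG)
  let ρt' : Xz ⟶ Xz := Over.homMk ρ' (by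
    simp only [Over.mk_hom, Xz, ρ', prP]
    rw [pullback.lift_fst_assoc]; exact Over.w ρG')
  have h1 : ρt ≫ pr = ρG := by ext1; exact pullback.lift_fst _ _ _
  have h2 : ρt ≫ c = c := by
    ext1
    simp only [Over.comp_left, Over.homMk_left, ρt, c, ρ, sndP]
    rw [pullback.lift_snd_assoc]
  have h1' : ρt' ≫ pr = ρG' := by ext1; exact pullback.lift_fst _ _ _
  have h2' : ρt' ≫ c = c := by
    ext1
    simp only [Over.comp_left, Over.homMk_left, ρt', c, ρ', sndP]
    rw [pullback.lift_snd_assoc]
  have h3 : ρt ≫ ρG' = pr := by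
    simp only [ρG']
    rw [MonObj.comp_mul, GrpObj.comp_inv, h1, h2]
    simp only [ρG]
    group
  have h3' : ρt' ≫ ρG = pr := by
    simp only [ρG]
    rw [MonObj.comp_mul, GrpObj.comp_inv, h1', h2']
    simp only [ρG']
    group
  have hρρ' : ρ ≫ ρ' = 𝟙 P := by
    apply pullback.hom_ext
    · rw [Category.assoc, Category.id_comp, pullback.lift_fst]
      exact congr_arg Over.Hom.left h3
    · rw [Category.assoc, Category.id_comp, pullback.lift_snd, pullback.lift_snd]
  have hρ'ρ : ρ' ≫ ρ = 𝟙 P := by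
    apply pullback.hom_ext
    · rw [Category.assoc, Category.id_comp, pullback.lift_fst]
      exact congr_arg Over.Hom.left h3'
    · rw [Category.assoc, Category.id_comp, pullback.lift_snd, pullback.lift_snd]
  have : IsIso ρ := ⟨ρ', hρρ', hρ'ρ⟩
  -- the dense opens
  let Uz : P.Opens := prP ⁻¹ᵁ U
  have hd1 : Dense (Uz : Set P) := dense_of_schDense Uz (hU T σ)
  have hd2 : Dense ((ρ ⁻¹ᵁ Uz : P.Opens) : Set P) :=
    hd1.preimage ρ.isOpenEmbedding.isOpenMap
  have : Nonempty P := by
    have : Nonempty T := ⟨IsLocalRing.closedPoint (G.left.residueField z)⟩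
    exact ⟨(pullback.lift ζ₀ (𝟙 T) (by simp [σ]) : T ⟶ P) (Classical.arbitrary T)⟩
  obtain ⟨a₀, ha1, ha2⟩ := (hd1.inter_of_isOpen_right hd2 (ρ ⁻¹ᵁ Uz).isOpen).nonempty
  let α : Spec (P.residueField a₀) ⟶ P := P.fromSpecResidueField a₀
  let XL : Over S := Over.mk (α ≫ Xz.hom)
  let αt : XL ⟶ Xz := Over.homMk α rfl
  let p₁ : XL ⟶ G := αt ≫ pr
  let p₂ : XL ⟶ G := αt ≫ ρG
  have hp12 : p₁ * p₂ = αt ≫ c := by
    simp only [p₁, p₂, ρG]
    rw [← MonObj.comp_mul, mul_inv_cancel_left]
  have hr1 : Set.range p₁.left ⊆ Set.range U.ι := by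
    rintro _ ⟨y, rfl⟩
    rw [Scheme.Opens.range_ι]
    change prP (α y) ∈ U
    rw [Scheme.fromSpecResidueField_apply]
    exact ha1
  have hr2 : Set.range p₂.left ⊆ Set.range U.ι := by
    rintro _ ⟨y, rfl⟩
    rw [Scheme.Opens.range_ι]
    have : ρG.left = ρ ≫ prP := (pullback.lift_fst _ _ _).symm
    change ρG.left (α y) ∈ U
    rw [this, Scheme.fromSpecResidueField_apply]
    exact ha2
  let u₁ : XL ⟶ UO G U := Over.homMk (IsOpenImmersion.lift U.ι p₁.left hr1) (by
    simp only [Over.mk_hom]
    rw [IsOpenImmersion.lift_fac_assoc]; exact Over.w p₁)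
  let u₂ : XL ⟶ UO G U := Over.homMk (IsOpenImmersion.lift U.ι p₂.left hr2) (by
    simp only [Over.mk_hom]
    rw [IsOpenImmersion.lift_fac_assoc]; exact Over.w p₂)
  have hu1 : u₁ ≫ jU G U = p₁ := by ext1; exact IsOpenImmersion.lift_fac _ _ _
  have hu2 : u₂ ≫ jU G U = p₂ := by ext1; exact IsOpenImmersion.lift_fac _ _ _
  have hw : lift u₁ u₂ ≫ mU G U = αt ≫ c := by
    rw [← hp12, Hom.mul_def, ← hu1, ← hu2]
    simp only [mU]
    rw [lift_map_assoc]
  have : Nonempty (Spec (P.residueField a₀)) := ⟨IsLocalRing.closedPoint (P.residueField a₀)⟩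
  let y₀ : Spec (P.residueField a₀) := Classical.arbitrary _
  refine ⟨(lift u₁ u₂).left y₀, ?_⟩
  have h5 : (mU G U).left ((lift u₁ u₂).left y₀) = (αt ≫ c).left y₀ :=
    congr_arg (fun q : XL ⟶ G => q.left y₀) hw
  rw [h5]
  change ζ₀ (sndP (α y₀)) = z
  exact Scheme.fromSpecResidueField_apply _ _

theorem flat_mU [Flat G.hom] : Flat (mU G U).left := by
  have := flat_mul G
  have h1 : Flat (jU G U ⊗ₘ jU G U).left := by
    rw [Over.tensorHom_left]
    exact MorphismProperty.pullbackMap (P := @Flat) (inferInstance : Flat U.ι)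
      (inferInstance : Flat U.ι) rfl rfl
  rw [Over.comp_left]
  infer_instance

end surj

/-- Let G be an S-group scheme, flat and locally of finite presentation over S, U an open subscheme of G
schematically dense in G relative to S (after every base change), and H an S-group scheme. Then a
homomorphism G → H is determined by its restriction to U: two homomorphisms f, g : G → H with the
same restriction to U are equal. (No separatedness of H is needed. The published statement allows H
to be any sheaf of groups for the fppf topology; this row takes H a group scheme.) -/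
theorem result (S : Scheme.{u}) (G H : Over S) [GrpObj G] [GrpObj H] [Flat G.hom] [LocallyOfFinitePresentation G.hom]
    (U : G.left.Opens) (hU : (∀ (S' : Scheme.{u}) (g : S' ⟶ S), CInt.IsSchematicallyDense ((pullback.fst G.hom g) ⁻¹ᵁ U)))
    (f g : G ⟶ H) [IsMonHom f] [IsMonHom g] (h : U.ι ≫ f.left = U.ι ≫ g.left) : f = g := by
  have hj : jU G U ≫ f = jU G U ≫ g := by ext1; exact h
  have hm : mU G U ≫ f = mU G U ≫ g := by
    simp only [mU, Category.assoc]
    rw [IsMonHom.mul_hom, IsMonHom.mul_hom, tensorHom_comp_tensorHom_assoc,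
      tensorHom_comp_tensorHom_assoc, hj]
  have := flat_mU G U
  have : Surjective (mU G U).left := ⟨surjective_mU G U hU⟩
  have : Epi (mU G U).left := Flat.epi_of_flat_of_surjective _
  apply Over.OverMorphism.ext
  rw [← cancel_epi (mU G U).left]
  exact congr_arg Over.Hom.left hm

end Groth.Agent.S5435
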