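import Groth.Statements.S0346
import Mathlib.Tactic
import Mathlib.CategoryTheory.Monoidal.Cartesian.Grp
import Mathlib.CategoryTheory.Monoidal.Cartesian.Over
import Mathlib.AlgebraicGeometry.Morphisms.Separated
import Mathlib.AlgebraicGeometry.Morphisms.QuasiSeparated
import Mathlib.CategoryTheory.Limits.Constructions.Over.Connected

set_option autoImplicit false
universe u v
open CategoryTheory MonoidalCategory CartesianMonoidalCategory MonObj GrpObj AlgebraicGeometry
open GrpSch

namespace Groth.Agent.S0346

section

open CategoryTheory.Limits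

variable {C : Type*} [Category C] [CartesianMonoidalCategory C] (G : C) [GrpObj G]

lemma isPullback_diag :
    IsPullback (lift (𝟙 G) (𝟙 G)) (toUnit G) (fst G G / snd G G) η[G] := by
  refine ⟨⟨?_⟩, ⟨PullbackCone.IsLimit.mk _ (fun s => s.fst ≫ fst G G) ?_ ?_ ?_⟩⟩
  · rw [GrpObj.comp_div, lift_fst, lift_snd, div_self', Hom.one_def]
  · intro s
    have h1 : (s.fst ≫ fst G G) / (s.fst ≫ snd G G) = 1 := by
      rw [← GrpObj.comp_div, s.condition, Hom.one_def]
      congr 1
      exact toUnit_unique _ _
    rw [div_eq_one] at h1
    apply CartesianMonoidalCategory.hom_ext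
    · simp
    · simp [h1]
  · intro s
    exact toUnit_unique _ _
  · intro s m hm _
    rw [← hm]
    simp

lemma isPullback_unit :
    IsPullback η[G] η[G] (lift (𝟙 G) (𝟙 G)) (lift (toUnit G ≫ η[G]) (𝟙 G)) := by
  refine ⟨⟨?_⟩, ⟨PullbackCone.IsLimit.mk _ (fun s => toUnit _) ?_ ?_ ?_⟩⟩
  · apply CartesianMonoidalCategory.hom_ext
    · simp only [Category.assoc, lift_fst, Category.comp_id]
      rw [← Category.assoc, toUnit_unique (η[G] ≫ toUnit G) (𝟙 _), Category.id_comp]
    · simp
  · intro s
    have h := s.condition
    have h1 := congrArg (fun t => t ≫ fst G G) h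
    simp only [Category.assoc, lift_fst, Category.comp_id] at h1
    rw [h1, ← Category.assoc]
    congr 1
    exact toUnit_unique _ _
  · intro s
    have h := s.condition
    have h1 := congrArg (fun t => t ≫ fst G G) h
    have h2 := congrArg (fun t => t ≫ snd G G) h
    simp only [Category.assoc, lift_fst, lift_snd, Category.comp_id] at h1 h2
    rw [← h2, h1, ← Category.assoc]
    congr 1
    exact toUnit_unique _ _
  · intro s m _ _
    exact toUnit_unique _ _

end

/-- A group scheme over any base scheme is separated over the base exactly when its unit section is a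
closed immersion, and quasi-separated exactly when the unit section is quasi-compact. -/
theorem result (S : Scheme.{u}) (G : Over S) [GrpObj G] : (IsSeparated G.hom ↔ IsClosedImmersion η[G].left) ∧ (QuasiSeparated G.hom ↔ QuasiCompact η[G].left) := by
  have h1 := (isPullback_diag G).flip.map (Over.forget S)
  have h2 := (isPullback_unit G).map (Over.forget S)
  simp only [Over.forget_obj, Over.forget_map] at h1 h2
  have hd : (lift (𝟙 G) (𝟙 G)).left = Limits.pullback.diagonal G.hom := by
    apply Limits.pullback.hom_ext <;> simp [Limits.pullback.diagonal]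
  rw [hd] at h1 h2
  refine ⟨⟨fun h => ?_, fun h => ⟨?_⟩⟩, ⟨fun h => ?_, fun h => ⟨?_⟩⟩⟩
  · exact MorphismProperty.of_isPullback (P := @IsClosedImmersion) h2 h.isClosedImmersion_diagonal
  · exact MorphismProperty.of_isPullback (P := @IsClosedImmersion) h1 h
  · exact MorphismProperty.of_isPullback (P := @QuasiCompact) h2 h.quasiCompact_diagonal
  · exact MorphismProperty.of_isPullback (P := @QuasiCompact) h1 h

end Groth.Agent.S0346
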