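import Groth.Statements.S0348
import Groth.Agent.Lib.Helper72.GrpConn

set_option autoImplicit false
universe u v
open CategoryTheory MonoidalCategory CartesianMonoidalCategory MonObj GrpObj AlgebraicGeometry
open GrpSch

namespace Groth.Agent.S0348

/-- A connected group scheme over a field is irreducible. -/
theorem result (K : Type u) [Field K] (G : Over (Spec (CommRingCat.of K))) [GrpObj G] [ConnectedSpace G.left] : IrreducibleSpace G.left := by
  open Groth.Agent.Lib.Helper72.GrpComp Groth.Agent.Lib.Helper72.GrpConn in
  have h₀ := irreducibleComponent_mem_irreducibleComponents (ePt G)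
  have he : ePt G ∈ irreducibleComponent (ePt G) := mem_irreducibleComponent
  have key : connectedComponent (ePt G) = irreducibleComponent (ePt G) :=
    connectedComponent_ePt G h₀ he
  have huniv : (Set.univ : Set G.left) = irreducibleComponent (ePt G) := by
    rw [← key]
    exact (PreconnectedSpace.connectedComponent_eq_univ (ePt G)).symm
  rw [irreducibleSpace_def]
  show IsIrreducible (Set.univ : Set G.left)
  rw [huniv]
  exact h₀.1

end Groth.Agent.S0348
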