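import Groth.Statements.S5436
import Groth.Agent.Lib.Helper1.WeilExt

set_option autoImplicit false
universe u
open CategoryTheory MonoidalCategory CartesianMonoidalCategory MonObj GrpObj AlgebraicGeometry CategoryTheory.Limits
open SGA3x

namespace Groth.Agent.S5436

/-- Let G be an S-group scheme, flat and locally of finite presentation over S, U an open subscheme of G
schematically dense in G relative to S, H an S-group scheme and f̄ : U → H an S-morphism. Let V be
an open of G ×_S G contained in (U ×_S U) ∩ m⁻¹(U) and schematically dense in G ×_S G relative to S,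
such that for every S-scheme X and all X-points a, b of U with (a, b) in V, the product ab (a point
of U) satisfies f̄(ab) = f̄(a) f̄(b). Then there is a unique homomorphism of S-groups f : G → H
whose restriction to U is f̄. (The published statement also covers certain sheaves of groups H for
the fppf topology that are not schemes; this row takes H a group scheme.) -/
theorem result (S : Scheme.{u}) (G H : Over S) [GrpObj G] [GrpObj H] [Flat G.hom] [LocallyOfFinitePresentation G.hom]
    (U : G.left.Opens) (hU : (∀ (S' : Scheme.{u}) (g : S' ⟶ S), CInt.IsSchematicallyDense ((pullback.fst G.hom g) ⁻¹ᵁ U)))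
    (jU : Over.mk (U.ι ≫ G.hom) ⟶ G) (hjU : jU.left = U.ι) (fbar : Over.mk (U.ι ≫ G.hom) ⟶ H)
    (V : (G ⊗ G).left.Opens) (hV : (∀ (S' : Scheme.{u}) (g : S' ⟶ S), CInt.IsSchematicallyDense ((pullback.fst (G ⊗ G).hom g) ⁻¹ᵁ V)))
    (hV1 : V ≤ (fst G G).left ⁻¹ᵁ U) (hV2 : V ≤ (snd G G).left ⁻¹ᵁ U) (hVm : V ≤ μ[G].left ⁻¹ᵁ U)
    (hmul : ∀ (X : Over S) (a b : X ⟶ Over.mk (U.ι ≫ G.hom)),
      Set.range (lift (a ≫ jU) (b ≫ jU)).left.base ⊆ (V : Set ↥(G ⊗ G).left) →
      ∃ c : X ⟶ Over.mk (U.ι ≫ G.hom), c ≫ jU = (a ≫ jU) * (b ≫ jU) ∧ c ≫ fbar = (a ≫ fbar) * (b ≫ fbar)) :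
    ∃! f : G ⟶ H, IsMonHom f ∧ jU ≫ f = fbar := by
  have hj : jU = Groth.Agent.S5435.jU G U := by
    apply Over.OverMorphism.ext
    exact hjU
  subst hj
  obtain ⟨f, hf⟩ := Groth.Agent.Lib.Helper1.WeilExt.exists_desc G H U hU fbar V hV hmul
  have hjf := Groth.Agent.Lib.Helper1.WeilExt.jf_eq G H U hU fbar V hV hmul f hf
  have hm := Groth.Agent.Lib.Helper1.WeilExt.mul_hom_of G H U fbar V hV hV1 hV2 hmul f hjf
  have ho := Groth.Agent.Lib.Helper1.WeilExt.one_hom_of G H f hm
  have hfm : IsMonHom f := ⟨ho, hm⟩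
  refine ⟨f, ⟨hfm, hjf⟩, ?_⟩
  rintro g ⟨hg, hjg⟩
  have hgm : IsMonHom g := hg
  exact Groth.Agent.S5435.result S G H U hU g f (congr_arg Over.Hom.left (hjg.trans hjf.symm))

end Groth.Agent.S5436
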