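import Groth.Statements.S17984
import Groth.Agent.Lib.Helper1.WeilCI

set_option autoImplicit false
universe u
open MvPolynomial
open WeilNum

namespace Groth.Agent.S17984

/-- Let p be a prime, e ≥ 1 and q = p^e. Let (π_i) be a finite family of pairwise nonconjugate Weil
q-numbers: π_i is an element of a field K_i of characteristic zero, integral over ℤ with minimal
polynomial P_i, every complex root of P_i has absolute value √q, and P_i ≠ P_j for i ≠ j. Suppose
the total degree Σ_i deg P_i is even, equal to 2D (equivalently, the family contains either none or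
both of the rational Weil q-numbers ±q^{1/2}). Put P_w = ∏_i P_i and let h ∈ ℤ[F, V] (F = X_0, V =
X_1) be any polynomial with F^D · h ≡ P_w(F) modulo FV − q; such an h exists, is unique modulo FV −
q, and the product of the symmetric polynomials h_{π_i} is one. Then the kernel of the ring map ℤ[F,
V] → ∏_i K_i, F ↦ (π_i), V ↦ (q/π_i), whose image is the minimal central order R_w, is the ideal
generated by FV − q and h, and (FV − q, h) is a regular sequence in ℤ[F, V]: R_w is the complete
intersection ℤ[F, V]/(FV − q, h). -/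
theorem result (p e : ℕ) [Fact p.Prime] (he : 0 < e)
    (ι : Type) [Fintype ι] (K : ι → Type u) [∀ i, Field (K i)] [∀ i, CharZero (K i)] (π : ∀ i, K i)
    (hint : ∀ i, IsIntegral ℤ (π i))
    (hweil : ∀ i, ∀ z ∈ (minpoly ℤ (π i)).aroots ℂ, ‖z‖ = Real.sqrt ((p : ℝ) ^ e))
    (hinj : ∀ i j, minpoly ℤ (π i) = minpoly ℤ (π j) → i = j)
    (D : ℕ) (hD : ∑ i, (minpoly ℤ (π i)).natDegree = 2 * D)
    (h : MvPolynomial (Fin 2) ℤ)
    (hh : X 0 ^ D * h - Polynomial.aeval (X 0 : MvPolynomial (Fin 2) ℤ) (∏ i, minpoly ℤ (π i)) ∈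
      Ideal.span ({X 0 * X 1 - C ((p : ℤ) ^ e)} : Set (MvPolynomial (Fin 2) ℤ))) :
    RingHom.ker (MvPolynomial.aeval ![fun i => π i, fun i => ((p : K i) ^ e) / π i] :
        MvPolynomial (Fin 2) ℤ →ₐ[ℤ] ((i : ι) → K i)) =
        Ideal.span {X 0 * X 1 - C ((p : ℤ) ^ e), h} ∧
      RingTheory.Sequence.IsWeaklyRegular (MvPolynomial (Fin 2) ℤ) [X 0 * X 1 - C ((p : ℤ) ^ e), h] := by
  classical
  have hp : (p : ℤ) ≠ 0 := by exact_mod_cast (Fact.out : p.Prime).ne_zero
  set q : ℤ := (p : ℤ) ^ e with hqdef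
  have hq : q ≠ 0 := pow_ne_zero _ hp
  set Pm : ι → Polynomial ℤ := fun i => minpoly ℤ (π i) with hPm
  set Pw : Polynomial ℤ := ∏ i, minpoly ℤ (π i) with hPw
  have hmonic : ∀ i, (Pm i).Monic := fun i => minpoly.monic (hint i)
  have hPwmonic : Pw.Monic := Polynomial.monic_prod_of_monic _ _ (fun i _ => hmonic i)
  have hsq : (0:ℝ) < Real.sqrt ((p : ℝ) ^ e) := by
    apply Real.sqrt_pos.mpr
    have : (0:ℝ) < p := by exact_mod_cast (Fact.out : p.Prime).pos
    positivity
  -- absolute value of the constant coefficients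
  have hc0 : ∀ i, ((|(Pm i).coeff 0| : ℤ) : ℝ) = Real.sqrt ((p : ℝ) ^ e) ^ (Pm i).natDegree := by
    intro i
    set f : Polynomial ℂ := (Pm i).map (algebraMap ℤ ℂ) with hf
    have hfm : f.Monic := (hmonic i).map _
    have hsp : f.Splits := IsAlgClosed.splits f
    have h1 := hsp.coeff_zero_eq_prod_roots_of_monic hfm
    have h2 : ‖f.roots.prod‖ = Real.sqrt ((p : ℝ) ^ e) ^ (Pm i).natDegree := by
      have h3 : ‖f.roots.prod‖ = (f.roots.map (fun z => ‖z‖)).prod := by
        have := map_multiset_prod (normHom : ℂ →*₀ ℝ) f.roots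
        simpa using this
      rw [h3]
      have h4 : ∀ x ∈ f.roots.map (fun z => ‖z‖), x = Real.sqrt ((p : ℝ) ^ e) := by
        intro x hx
        obtain ⟨z, hz, rfl⟩ := Multiset.mem_map.mp hx
        exact hweil i z hz
      rw [Multiset.eq_replicate_of_mem h4, Multiset.prod_replicate, Multiset.card_map]
      congr 1
      rw [← hsp.natDegree_eq_card_roots, hf, (hmonic i).natDegree_map]
    have h5 : ‖f.coeff 0‖ = ((|(Pm i).coeff 0| : ℤ) : ℝ) := by
      rw [hf, Polynomial.coeff_map]
      simp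
    rw [← h5, h1, norm_mul, norm_pow, norm_neg, norm_one, one_pow, one_mul, h2]
  have hcne : ∀ i, (Pm i).coeff 0 ≠ 0 := by
    intro i h0
    have := hc0 i
    rw [h0] at this
    simp only [abs_zero, Int.cast_zero] at this
    exact absurd this.symm (pow_pos hsq _).ne'
  have hπ : ∀ i, π i ≠ 0 := by
    intro i h0
    have h1 : Polynomial.aeval (π i) (Pm i) = 0 := minpoly.aeval ℤ (π i)
    rw [h0, Polynomial.aeval_def, Polynomial.eval₂_at_zero] at h1
    have : ((Pm i).coeff 0 : K i) = 0 := by simpa using h1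
    exact hcne i (by exact_mod_cast this)
  have hP0 : Pw.coeff 0 = q ^ D ∨ Pw.coeff 0 = - q ^ D := by
    have h1 : Pw.coeff 0 = ∏ i, (Pm i).coeff 0 := by
      rw [hPw, Polynomial.coeff_zero_eq_eval_zero, Polynomial.eval_prod]
      refine Finset.prod_congr rfl fun i _ => ?_
      rw [Polynomial.coeff_zero_eq_eval_zero]
    have h2 : ((|Pw.coeff 0| : ℤ) : ℝ) = ((q ^ D : ℤ) : ℝ) := by
      rw [h1, Finset.abs_prod, Int.cast_prod]
      rw [Finset.prod_congr rfl (fun i _ => hc0 i), Finset.prod_pow_eq_pow_sum, hD, pow_mul,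
        Real.sq_sqrt (by positivity)]
      rw [hqdef]; push_cast; ring
    have h3 : |Pw.coeff 0| = q ^ D := by exact_mod_cast h2
    have hqD : (0:ℤ) ≤ q ^ D := by
      rw [hqdef]; positivity
    rcases (abs_eq hqD).mp h3 with h4 | h4
    · left; exact h4
    · right; exact h4
  -- the ring hom
  set φ' : MvPolynomial (Fin 2) ℤ →ₐ[ℤ] ((i : ι) → K i) :=
    MvPolynomial.aeval ![fun i => π i, fun i => ((p : K i) ^ e) / π i] with hφ'
  have hφ0 : φ' (X 0) = fun i => π i := by simp [hφ']
  have hφ1 : φ' (X 1) = fun i => ((p : K i) ^ e) / π i := by simp [hφ']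
  have hφg : φ'.toRingHom (Groth.Agent.Lib.Helper1.WeilCI.g q) = 0 := by
    show φ' (X 0 * X 1 - C q) = 0
    rw [map_sub, map_mul, hφ0, hφ1]
    funext i
    have : φ' (C q) i = ((p : K i) ^ e) := by
      rw [hφ', aeval_C]
      simp [hqdef]
    rw [Pi.sub_apply, Pi.mul_apply, this, Pi.zero_apply, mul_div_cancel₀ _ (hπ i), sub_self]
  have hφaeval : ∀ (u : Polynomial ℤ) (i : ι),
      φ'.toRingHom (Polynomial.aeval (X 0 : MvPolynomial (Fin 2) ℤ) u) i = Polynomial.aeval (π i) u := by
    intro u i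
    show φ' (Polynomial.aeval (X 0 : MvPolynomial (Fin 2) ℤ) u) i = _
    rw [← Polynomial.aeval_algHom_apply, hφ0]
    have := Polynomial.aeval_algHom_apply (Pi.evalAlgHom ℤ K i) (fun i => π i) u
    simpa using this.symm
  have hreg : IsSMulRegular ((i : ι) → K i) (φ'.toRingHom (X 0)) := by
    rw [isSMulRegular_iff_right_eq_zero_of_smul]
    intro z hz
    funext i
    have h1 := congrFun hz i
    have h2 : φ'.toRingHom (X 0) i = π i := congrFun hφ0 i
    rw [smul_eq_mul, Pi.mul_apply, h2] at h1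
    rcases mul_eq_zero.mp h1 with h3 | h3
    · exact absurd h3 (hπ i)
    · exact h3
  have hφP : φ'.toRingHom (Polynomial.aeval (X 0 : MvPolynomial (Fin 2) ℤ) Pw) = 0 := by
    funext i
    rw [hφaeval, hPw, map_prod]
    exact Finset.prod_eq_zero (Finset.mem_univ i) (minpoly.aeval ℤ (π i))
  have hirr : ∀ i, Irreducible (Pm i) := fun i => minpoly.irreducible (hint i)
  have hdvd : ∀ u : Polynomial ℤ,
      φ'.toRingHom (Polynomial.aeval (X 0 : MvPolynomial (Fin 2) ℤ) u) = 0 → Pw ∣ u := by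
    intro u hu
    apply Finset.prod_dvd_of_isRelPrime
    · intro i _ j _ hij
      show IsRelPrime (Pm i) (Pm j)
      rw [(hirr i).isRelPrime_iff_not_dvd]
      intro hdiv
      have hass := (hirr i).associated_of_dvd (hirr j) hdiv
      exact hij (hinj i j (Polynomial.eq_of_monic_of_associated (hmonic i) (hmonic j) hass))
    · intro i _
      have h1 : Polynomial.aeval (π i) u = 0 := by
        rw [← hφaeval, hu]; rfl
      exact minpoly.isIntegrallyClosed_dvd (hint i) h1
  have hh' : X 0 ^ D * h - Polynomial.aeval (X 0 : MvPolynomial (Fin 2) ℤ) Pw ∈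
      Ideal.span {Groth.Agent.Lib.Helper1.WeilCI.g q} := hh
  have hker := Groth.Agent.Lib.Helper1.WeilCI.ker_eq hq hP0 hh' φ'.toRingHom hφg hreg hφP hdvd
  refine ⟨?_, Groth.Agent.Lib.Helper1.WeilCI.isWeaklyRegular hq hPwmonic hh'⟩
  ext x
  have := congrArg (fun I : Ideal (MvPolynomial (Fin 2) ℤ) => x ∈ I) hker
  simp only [RingHom.mem_ker] at this
  rw [RingHom.mem_ker]
  exact (show φ' x = 0 ↔ _ from Iff.of_eq this)

end Groth.Agent.S17984
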