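import Groth.Statements.S5788
import Mathlib.Algebra.Category.ModuleCat.InjectiveDimension
import Mathlib.Algebra.Homology.DerivedCategory.Ext.ExactSequences

set_option autoImplicit false
universe u
open CategoryTheory
open EGA41

namespace Groth.Agent.S5788

open CategoryTheory Abelian Limits in
theorem injdim_iff (A : Type u) [CommRing A] (n : ℕ) : ∀ (M : ModuleCat.{u} A),
    HasInjectiveDimensionLT M (n + 1) ↔
      ∀ I : Ideal A, Subsingleton (Ext (ModuleCat.of A (A ⧸ I)) M (n + 1)) := by
  induction n with
  | zero =>
    intro M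
    constructor
    · intro h I
      exact HasInjectiveDimensionLT.subsingleton M 1 1 le_rfl _
    · intro h
      rw [zero_add, ← injective_iff_hasInjectiveDimensionLT_one]
      have hM : Module.Injective A M := by
        apply Module.Baer.injective
        intro I g
        let S : ShortComplex (ModuleCat.{u} A) :=
          ModuleCat.shortComplexOfCompEqZero I.subtype I.mkQ
            (LinearMap.exact_subtype_mkQ I).linearMap_comp_eq_zero
        have hS : S.ShortExact := ModuleCat.shortComplex_shortExact S
          (LinearMap.exact_subtype_mkQ I) I.injective_subtype I.mkQ_surjective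
        have := h I
        obtain ⟨x₂, hx₂⟩ := Ext.contravariant_sequence_exact₁ hS M
          (Ext.mk₀ (ModuleCat.ofHom g)) (add_zero 1) (Subsingleton.elim _ _)
        obtain ⟨ψ, rfl⟩ := (Ext.mk₀_bijective _ _).2 x₂
        rw [Ext.mk₀_comp_mk₀, (Ext.mk₀_bijective _ _).1.eq_iff] at hx₂
        refine ⟨ψ.hom, fun x mem => ?_⟩
        have := congrArg (fun φ => φ.hom ⟨x, mem⟩) hx₂
        simpa [S] using this
      exact (Module.injective_iff_injective_object A M).mp hM
  | succ n ih =>
    intro M
    obtain ⟨E, hE, f, hf⟩ := EnoughInjectives.presentation M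
    let S := ShortComplex.mk f (cokernel.π f) (cokernel.condition f)
    have hS : S.ShortExact := { exact := ShortComplex.exact_cokernel f }
    rw [← hS.hasInjectiveDimensionLT_X₃_iff n hE, ih S.X₃]
    refine forall_congr' fun I => ?_
    constructor
    · intro h
      refine ⟨fun x y => ?_⟩
      have key : ∀ z : Ext (ModuleCat.of A (A ⧸ I)) M (n + 1 + 1), z = 0 := fun z => by
        obtain ⟨x₃, hx₃⟩ := Ext.covariant_sequence_exact₁ _ hS z (Ext.eq_zero_of_injective _) rfl
        rw [← hx₃, Subsingleton.elim x₃ 0, Ext.zero_comp]
      rw [key x, key y]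
    · intro h
      refine ⟨fun x y => ?_⟩
      have key : ∀ z : Ext (ModuleCat.of A (A ⧸ I)) S.X₃ (n + 1), z = 0 := fun z => by
        obtain ⟨x₂, hx₂⟩ := Ext.covariant_sequence_exact₃ _ hS z rfl (Subsingleton.elim _ _)
        rw [← hx₂, Ext.eq_zero_of_injective x₂, Ext.zero_comp]
      rw [key x, key y]

/-- Let A be a ring, M an A-module and n ≥ 0. Then M has injective dimension at most n if and only if
Ext^(n+1)_A(N, M) = 0 for every monogenous A-module N, i.e. for every N of the form A/I with I an
ideal of A. -/
theorem result (A : Type u) [CommRing A] (M : Type u)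
    [AddCommGroup M] [Module A M] (n : ℕ) :
    HasInjectiveDimensionLT (ModuleCat.of A M) (n + 1) ↔
      ∀ I : Ideal A, Subsingleton (Abelian.Ext (ModuleCat.of A (A ⧸ I)) (ModuleCat.of A M) (n + 1)) := by
  exact injdim_iff A n (ModuleCat.of A M)

end Groth.Agent.S5788
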