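import Groth.Statements.S5805
import Groth.Agent.S5804
import Mathlib.RingTheory.Regular.ProjectiveDimension
import Mathlib.RingTheory.Ideal.AssociatedPrime.Finiteness
import Mathlib.RingTheory.Support
import Mathlib.RingTheory.Nakayama

set_option autoImplicit false
universe u
open CategoryTheory
open EGA41

namespace Groth.Agent.S5805

open CategoryTheory Abelian in
theorem devissage (A : Type u) [CommRing A] [IsNoetherianRing A] (L : ModuleCat.{u} A) (n : ℕ)
    (M : Type u) [AddCommGroup M] [Module A M] [hM : Module.Finite A M] :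
    (∀ q : PrimeSpectrum A, q ∈ Module.support A M →
      ∀ i, n + 1 ≤ i → Subsingleton (Ext (ModuleCat.of A (A ⧸ q.asIdeal)) L i)) →
    ∀ i, n + 1 ≤ i → Subsingleton (Ext (ModuleCat.of A M) L i) := by
  induction hM using IsNoetherianRing.induction_on_isQuotientEquivQuotientPrime A with
  | subsingleton N =>
    intro _ i _
    refine ⟨fun x y => ?_⟩
    have hz : Limits.IsZero (ModuleCat.of A N) := ModuleCat.isZero_of_subsingleton _
    have hx : ∀ z : Ext (ModuleCat.of A N) L i, z = 0 := fun z => by
      rw [← z.mk₀_id_comp, hz.eq_zero_of_src (𝟙 _), Ext.mk₀_zero, Ext.zero_comp]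
    rw [hx x, hx y]
  | quotient N p f =>
    intro h i hi
    have hp : p ∈ Module.support A N := by
      rw [f.support_eq, Module.support_eq_zeroLocus, Ideal.annihilator_quotient]
      exact fun _ hx => hx
    have := h p hp i hi
    refine ⟨fun x y => ?_⟩
    let e : ModuleCat.of A N ≅ ModuleCat.of A (A ⧸ p.1) := f.toModuleIso
    have hx : ∀ z : Ext (ModuleCat.of A N) L i, z = 0 := fun z => by
      rw [← z.mk₀_id_comp, ← e.hom_inv_id, ← Ext.mk₀_comp_mk₀, Ext.comp_assoc_of_second_deg_zero,
        Subsingleton.elim ((Ext.mk₀ e.inv).comp z (zero_add i)) 0, Ext.comp_zero]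
    rw [hx x, hx y]
  | exact N₁ N₂ N₃ f g hf hg hfg h₁ h₃ =>
    intro h i hi
    have s := Module.support_of_exact hfg hf hg
    have h₁' := h₁ (fun q hq => h q (s ▸ Or.inl hq)) i hi
    have h₃' := h₃ (fun q hq => h q (s ▸ Or.inr hq)) i hi
    refine ⟨fun x y => ?_⟩
    let S : ShortComplex (ModuleCat.{u} A) :=
      ModuleCat.shortComplexOfCompEqZero f g (by ext x; exact hfg.apply_apply_eq_zero x)
    have hS : S.ShortExact := ModuleCat.shortComplex_shortExact S hfg hf hg
    have hx : ∀ z : Ext (ModuleCat.of A N₂) L i, z = 0 := fun z => by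
      obtain ⟨x₁, hx₁⟩ := Ext.contravariant_sequence_exact₂ hS L z (Subsingleton.elim _ _)
      rw [← hx₁, Subsingleton.elim x₁ 0, Ext.comp_zero]
    rw [hx x, hx y]

open CategoryTheory Abelian IsLocalRing in
theorem key (A : Type u) [CommRing A] [IsLocalRing A] [IsNoetherianRing A]
    (L : ModuleCat.{u} A) [Module.Finite A L] (n : ℕ)
    (hk : ∀ i, n + 1 ≤ i → Subsingleton (Ext (ModuleCat.of A (A ⧸ maximalIdeal A)) L i)) :
    ∀ (I : Ideal A), I.IsPrime → ∀ i, n + 1 ≤ i →
      Subsingleton (Ext (ModuleCat.of A (A ⧸ I)) L i) := by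
  intro I
  induction I using WellFoundedGT.induction with
  | ind p ih =>
    intro hp i hi
    by_cases hpm : p = maximalIdeal A
    · subst hpm; exact hk i hi
    · have hlt : p < maximalIdeal A := lt_of_le_of_ne (le_maximalIdeal hp.ne_top) hpm
      obtain ⟨x, hxm, hxp⟩ := SetLike.exists_of_lt hlt
      have hreg : IsSMulRegular (A ⧸ p) x := by
        intro y z hyz
        obtain ⟨y, rfl⟩ := Ideal.Quotient.mk_surjective y
        obtain ⟨z, rfl⟩ := Ideal.Quotient.mk_surjective z
        have h1 : Ideal.Quotient.mk p (x * y) = Ideal.Quotient.mk p (x * z) := hyz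
        rw [Ideal.Quotient.eq, ← mul_sub] at h1
        rw [Ideal.Quotient.eq]
        exact (hp.mem_or_mem h1).resolve_left hxp
      have hS := IsSMulRegular.smulShortComplex_shortExact (M := ModuleCat.of A (A ⧸ p)) hreg
      have hvan : ∀ j, n + 1 ≤ j →
          Subsingleton (Ext (ModuleCat.of A (QuotSMulTop x (A ⧸ p))) L j) := by
        apply devissage A L n (QuotSMulTop x (A ⧸ p))
        intro q hq j hj
        rw [Module.support_quotSMulTop, Module.support_eq_zeroLocus, Ideal.annihilator_quotient] at hq
        have hpq : p < q.asIdeal :=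
          lt_of_le_of_ne hq.1 (fun h => hxp (h ▸ hq.2 (Set.mem_singleton x)))
        exact ih q.asIdeal hpq q.2 j hj
      have hv1 := hvan (i + 1) (by omega)
      have hsurj : ∀ y : Ext (ModuleCat.of A (A ⧸ p)) L i,
          ∃ z : Ext (ModuleCat.of A (A ⧸ p)) L i, x • z = y := by
        intro y
        obtain ⟨z, hz⟩ := Ext.contravariant_sequence_exact₁ hS L y (add_comm 1 i)
          (@Subsingleton.elim _ hv1 _ _)
        have key : ∀ z' : Ext (ModuleCat.of A (A ⧸ p)) L i,
            (Ext.mk₀ (x • 𝟙 (ModuleCat.of A (A ⧸ p)))).comp z' (zero_add i) = x • z' := by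
          intro z'
          rw [Ext.mk₀_smul, Ext.smul_comp, Ext.mk₀_id_comp]
        exact ⟨z, (key z).symm.trans hz⟩
      have htop : (⊤ : Submodule A (Ext (ModuleCat.of A (A ⧸ p)) L i)) = ⊥ := by
        apply Submodule.eq_bot_of_le_smul_of_le_jacobson_bot (maximalIdeal A) ⊤
          Module.Finite.fg_top ?_ (maximalIdeal_le_jacobson _)
        intro y _
        obtain ⟨z, rfl⟩ := hsurj y
        exact Submodule.smul_mem_smul hxm Submodule.mem_top
      exact (Submodule.subsingleton_iff A).mp (subsingleton_of_bot_eq_top htop.symm)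

/-- Let A be a Noetherian local ring with residue field k and n ≥ 0. Then the global dimension of A is
at most n as soon as the projective dimension of the A-module k is at most n: every A-module then
has projective dimension at most n. (The published statement phrases the criterion through the
vanishing of Tor^A_{n+1}(k, k), to which dim.proj_A(k) ≤ n is equivalent for finitely generated
modules over a Noetherian local ring; this row states the projective-dimension form that the
published proof establishes.) -/
theorem result (A : Type u) [CommRing A] [IsLocalRing A]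
    [IsNoetherianRing A] (n : ℕ)
    (hk : HasProjectiveDimensionLT (ModuleCat.of A (IsLocalRing.ResidueField A)) (n + 1)) (M : Type u)
    [AddCommGroup M] [Module A M] : HasProjectiveDimensionLT (ModuleCat.of A M) (n + 1) := by
  refine Groth.Agent.S5804.result A n (fun I => ?_) M
  apply ModuleCat.hasProjectiveDimensionLT_of_forall_finite
  intro L hL
  have hk' : ∀ i, n + 1 ≤ i →
      Subsingleton (Abelian.Ext (ModuleCat.of A (A ⧸ IsLocalRing.maximalIdeal A)) L i) :=
    fun i hi => HasProjectiveDimensionLT.subsingleton
      (ModuleCat.of A (IsLocalRing.ResidueField A)) (n + 1) i hi L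
  exact devissage A L n (A ⧸ I) (fun q _ => key A L n hk' q.asIdeal q.2) (n + 1) le_rfl

end Groth.Agent.S5805
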