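import Groth.Statements.S5139
-- import your own Groth.Agent.* helpers here

set_option autoImplicit false
open CategoryTheory
universe u v u₂ v₂
open FibCat

namespace Groth.Agent.S5139

/-- A functor F : 𝒳 ⟶ 𝒴 over C is an equivalence over C exactly when its underlying functor is fully
faithful and every object η of 𝒴 admits an object ξ of 𝒳 and an isomorphism F ξ ≅ η lying over the
identity of the object of C under η. -/
theorem result {C : Type u} [Category.{v} C]
    {𝒳 𝒴 : BasedCategory.{v₂, u₂} C} (F : 𝒳 ⥤ᵇ 𝒴) :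
    FibCat.IsEquivOver F ↔
      (F.toFunctor.Full ∧ F.toFunctor.Faithful) ∧
        ∀ η : 𝒴.obj, ∃ (ξ : 𝒳.obj) (e : F.toFunctor.obj ξ ≅ η), 𝒴.p.IsHomLift (𝟙 (𝒴.p.obj η)) e.hom := by
  constructor
  · rintro ⟨G, ⟨α⟩, ⟨β⟩⟩
    let α' : F.toFunctor ⋙ G.toFunctor ≅ 𝟭 _ := (BasedNatTrans.forgetful _ _).mapIso α
    let β' : G.toFunctor ⋙ F.toFunctor ≅ 𝟭 _ := (BasedNatTrans.forgetful _ _).mapIso β
    haveI : F.toFunctor.IsEquivalence :=
      (CategoryTheory.Equivalence.mk F.toFunctor G.toFunctor α'.symm β').isEquivalence_functor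
    refine ⟨⟨inferInstance, inferInstance⟩, fun η => ⟨G.obj η, β'.app η, ?_⟩⟩
    exact β.hom.isHomLift' η
  · rintro ⟨⟨hfull, hfaith⟩, hess⟩
    choose ξ e he using hess
    let G₀ : 𝒴.obj ⥤ 𝒳.obj :=
      { obj := ξ
        map := fun {η η'} g => F.toFunctor.preimage ((e η).hom ≫ g ≫ (e η').inv)
        map_id := fun η => by apply F.toFunctor.map_injective; simp
        map_comp := fun g g' => by apply F.toFunctor.map_injective; simp }
    have hobj : ∀ η, 𝒳.p.obj (ξ η) = 𝒴.p.obj η := fun η => by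
      haveI := he η
      rw [← F.w_obj]
      exact IsHomLift.domain_eq 𝒴.p (𝟙 (𝒴.p.obj η)) (e η).hom
    have hlift : ∀ {η η' : 𝒴.obj} (g : η ⟶ η'), 𝒳.p.IsHomLift (𝒴.p.map g) (G₀.map g) := by
      intro η η' g
      rw [← BasedFunctor.isHomLift_iff F]
      show 𝒴.p.IsHomLift (𝒴.p.map g) (F.toFunctor.map (F.toFunctor.preimage _))
      rw [Functor.map_preimage]
      haveI := he η
      haveI := he η'
      infer_instance
    let G : 𝒴 ⥤ᵇ 𝒳 :=
      { toFunctor := G₀
        w := Functor.ext hobj (fun η η' g => by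
          haveI := hlift g
          exact IsHomLift.fac' 𝒳.p (𝒴.p.map g) (G₀.map g)) }
    refine ⟨G, ⟨?_⟩, ⟨?_⟩⟩
    · refine BasedNatIso.mkNatIso (NatIso.ofComponents
        (fun x => F.toFunctor.preimageIso (e (F.obj x))) ?_) ?_
      · intro x x' f
        apply F.toFunctor.map_injective
        change F.toFunctor.map (F.toFunctor.preimage ((e (F.obj x)).hom ≫ F.toFunctor.map f ≫
          (e (F.obj x')).inv) ≫ F.toFunctor.preimage (e (F.obj x')).hom) =
          F.toFunctor.map (F.toFunctor.preimage (e (F.obj x)).hom ≫ f)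
        simp
      · intro x
        rw [← BasedFunctor.isHomLift_iff F]
        have h1 := he (F.obj x)
        rw [F.w_obj] at h1
        change 𝒴.p.IsHomLift (𝟙 (𝒳.p.obj x))
          (F.toFunctor.map (F.toFunctor.preimage (e (F.obj x)).hom))
        rw [Functor.map_preimage]
        exact h1
    · refine BasedNatIso.mkNatIso (NatIso.ofComponents (fun η => e η) ?_) ?_
      · intro η η' g
        change F.toFunctor.map (F.toFunctor.preimage ((e η).hom ≫ g ≫ (e η').inv)) ≫ (e η').hom =
          (e η).hom ≫ g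
        simp
      · intro η
        exact he η

end Groth.Agent.S5139
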