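import Groth.Statements.S6401
import Groth.Agent.Lib.Helper17.FibProd

set_option autoImplicit false
open CategoryTheory
universe v u
open FibCat

namespace Groth.Agent.S6401

open Groth.Agent.Lib.Helper17 Groth.Agent.Lib.Helper17.FP in
theorem exists_lift_of_eq {C : Type u} [Category.{v} C] {𝒳 : BasedCategory.{v, max u v} C}
    (h𝒳 : FibCat.IsFibGrpd 𝒳.p) {x : 𝒳.obj} {S V : C} (hx : 𝒳.p.obj x = S) (f : V ⟶ S) :
    ∃ (y : 𝒳.obj) (φ : y ⟶ x), 𝒳.p.IsStronglyCartesian f φ := by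
  subst hx
  obtain ⟨y, φ, hφ⟩ := h𝒳.exists_lift f
  exact ⟨y, φ, sc_of_homLift hφ (h𝒳.isStronglyCartesian φ)⟩

open Groth.Agent.Lib.Helper17 Groth.Agent.Lib.Helper17.FP in
theorem sc_all {C : Type u} [Category.{v} C] {𝒳 : BasedCategory.{v, max u v} C}
    (h𝒳 : FibCat.IsFibGrpd 𝒳.p) {x y : 𝒳.obj} {R S : C} (f : R ⟶ S) (φ : y ⟶ x)
    (hφ : 𝒳.p.IsHomLift f φ) : 𝒳.p.IsStronglyCartesian f φ :=
  sc_of_homLift hφ (h𝒳.isStronglyCartesian φ)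

/-- For categories `𝒳, 𝒴, 𝒮` fibred in groupoids over `C` and functors `F : 𝒳 ⟶ 𝒮`, `G : 𝒴 ⟶ 𝒮` over
`C`, the 2-fibre product `𝒳 ×_𝒮 𝒴` over `C` is fibred in groupoids over `C`. -/
theorem result {C : Type u} [Category.{v} C] {𝒳 𝒴 𝒮 : BasedCategory.{v, max u v} C} (F : 𝒳 ⥤ᵇ 𝒮) (G : 𝒴 ⥤ᵇ 𝒮) (h𝒳 : FibCat.IsFibGrpd 𝒳.p) (h𝒴 : FibCat.IsFibGrpd 𝒴.p) (h𝒮 : FibCat.IsFibGrpd 𝒮.p) :
    FibCat.IsFibGrpd (FibCat.fp F G).p := by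
  refine ⟨?_, ?_⟩
  · intro z V f
    obtain ⟨f', rfl⟩ : ∃ f' : V ⟶ 𝒳.p.obj z.obj.fst, f' = f := ⟨f, rfl⟩
    obtain ⟨x', φ, hφ⟩ := exists_lift_of_eq h𝒳 (x := z.obj.fst) rfl f'
    obtain ⟨y', ψ, hψ⟩ := exists_lift_of_eq h𝒴 (x := z.obj.snd)
      (Groth.Agent.Lib.Helper17.FP.snd_obj z) f'
    have hFφ : 𝒮.p.IsStronglyCartesian f' (F.map φ) := sc_all h𝒮 f' (F.map φ) inferInstance
    have hGψ : 𝒮.p.IsStronglyCartesian f' (G.map ψ) := sc_all h𝒮 f' (G.map ψ) inferInstance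
    obtain ⟨z', k, hk⟩ := Groth.Agent.Lib.Helper17.FP.exists_sc_lift z f' φ hφ ψ hψ hFφ hGψ
    exact ⟨z', k, hk.toIsHomLift⟩
  · intro z' z k
    apply Groth.Agent.Lib.Helper17.FP.sc_of_components k
    · exact h𝒳.isStronglyCartesian k.hom.fst
    · exact sc_all h𝒴 _ k.hom.snd (FibCat.fp_isHomLift_snd F G k)
    · have h1 : 𝒴.p.IsHomLift (𝒳.p.map k.hom.fst) k.hom.snd := FibCat.fp_isHomLift_snd F G k
      exact sc_all h𝒮 _ (G.map k.hom.snd) inferInstance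

end Groth.Agent.S6401
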