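import Groth.Statements.S9874
import Groth.Agent.Lib.Helper5.SheafPullback

set_option autoImplicit false
universe u
open CategoryTheory CategoryTheory.Limits AlgebraicGeometry
open AlgSp

namespace Groth.Agent.S9874

/-- Let `H` be an fppf sheaf of sets over `S` whose diagonal `H ⟶ H × H` is representable by schemes,
let `X`, `Y` be algebraic spaces over `S` with maps `f : X ⟶ H`, `g : Y ⟶ H`, and let `P` with its
two projections be a fibre product `X ×_H Y` in sheaves. Then `P` is an algebraic space over `S`. -/
theorem result (S : Scheme.{u}) (H : AlgSp.Sp S)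
    (hH : AlgSp.Representable (Limits.diag H)) (X Y : AlgSp.Space S) (f : X.obj ⟶ H) (g : Y.obj ⟶ H)
    (P : AlgSp.Sp S) (fst : P ⟶ X.obj) (snd : P ⟶ Y.obj) (h : IsPullback fst snd f g) :
    AlgSp.IsAlgSpace P := by
  constructor
  · apply Functor.relativelyRepresentable.diag_of_map_from_obj
    intro T t T' t'
    have hX : AlgSp.Representable (t ≫ fst) := X.property.representable_from_yon _
    have hY : AlgSp.Representable (t ≫ snd) := Y.property.representable_from_yon _
    have hA := hX.isPullback' (t' ≫ fst)
    have hB := hY.isPullback' (t' ≫ snd)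
    set a1 := hX.fst' (t' ≫ fst) with ha1
    set a2 := hX.snd (t' ≫ fst) with ha2
    set b1 := hY.fst' (t' ≫ snd) with hb1
    set b2 := hY.snd (t' ≫ snd) with hb2
    have hc := pullback.condition (f := prod.lift a1 a2) (g := prod.lift b1 b2)
    set pA := pullback.fst (prod.lift a1 a2) (prod.lift b1 b2) with hpA
    set pB := pullback.snd (prod.lift a1 a2) (prod.lift b1 b2) with hpB
    have hc1 : pA ≫ a1 = pB ≫ b1 := by
      have := congrArg (· ≫ prod.fst) hc
      simp only [Category.assoc] at this
      rw [Limits.prod.lift_fst, Limits.prod.lift_fst] at this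
      exact this
    have hc2 : pA ≫ a2 = pB ≫ b2 := by
      have := congrArg (· ≫ prod.snd) hc
      simp only [Category.assoc] at this
      rw [Limits.prod.lift_snd, Limits.prod.lift_snd] at this
      exact this
    refine ⟨pullback (prod.lift a1 a2) (prod.lift b1 b2), pA ≫ a2, (AlgSp.yon S).map (pA ≫ a1), ?_⟩
    refine Groth.Agent.Lib.Helper5.sheaf_isPullback_of_yon.{u, u + 1, u + 1} (AlgSp.J S) _ _ t t' ?_ ?_ ?_
    · apply h.hom_ext
      · rw [Category.assoc, Category.assoc, Functor.map_comp, Functor.map_comp, Category.assoc,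
          Category.assoc, hA.w]
      · rw [Category.assoc, Category.assoc, hc1, hc2, Functor.map_comp, Functor.map_comp,
          Category.assoc, Category.assoc, hB.w]
    · intro Z z z' h1 h2
      obtain ⟨ζ, rfl⟩ := (AlgSp.yon S).map_surjective z
      obtain ⟨ζ', rfl⟩ := (AlgSp.yon S).map_surjective z'
      rw [← Functor.map_comp, ← Functor.map_comp] at h1 h2
      have e1 : ζ ≫ pA ≫ a1 = ζ' ≫ pA ≫ a1 := (AlgSp.yon S).map_injective h1
      have e2 : ζ ≫ pA ≫ a2 = ζ' ≫ pA ≫ a2 := (AlgSp.yon S).map_injective h2
      congr 1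
      apply pullback.hom_ext
      · apply (AlgSp.yon S).map_injective
        apply hA.hom_ext
        · rw [← Functor.map_comp, ← Functor.map_comp, Category.assoc, Category.assoc, e1]
        · rw [← Functor.map_comp, ← Functor.map_comp, Category.assoc, Category.assoc, e2]
      · apply (AlgSp.yon S).map_injective
        apply hB.hom_ext
        · rw [← Functor.map_comp, ← Functor.map_comp, Category.assoc, Category.assoc, ← hc1, e1]
        · rw [← Functor.map_comp, ← Functor.map_comp, Category.assoc, Category.assoc, ← hc2, e2]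
    · intro Z x y hxy
      obtain ⟨ξ, rfl⟩ := (AlgSp.yon S).map_surjective x
      obtain ⟨η, rfl⟩ := (AlgSp.yon S).map_surjective y
      obtain ⟨α, hα⟩ := (AlgSp.yon S).map_surjective
        (hA.lift ((AlgSp.yon S).map ξ) ((AlgSp.yon S).map η) (by
          rw [← Category.assoc, hxy, Category.assoc]))
      obtain ⟨β, hβ⟩ := (AlgSp.yon S).map_surjective
        (hB.lift ((AlgSp.yon S).map ξ) ((AlgSp.yon S).map η) (by
          rw [← Category.assoc, hxy, Category.assoc]))
      have hα1 : α ≫ a1 = ξ := by
        apply (AlgSp.yon S).map_injective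
        rw [Functor.map_comp, hα, hA.lift_fst]
      have hα2 : α ≫ a2 = η := by
        apply (AlgSp.yon S).map_injective
        rw [Functor.map_comp, hα, hA.lift_snd]
      have hβ1 : β ≫ b1 = ξ := by
        apply (AlgSp.yon S).map_injective
        rw [Functor.map_comp, hβ, hB.lift_fst]
      have hβ2 : β ≫ b2 = η := by
        apply (AlgSp.yon S).map_injective
        rw [Functor.map_comp, hβ, hB.lift_snd]
      refine ⟨(AlgSp.yon S).map (pullback.lift α β (by
        apply Limits.prod.hom_ext <;> simp [hα1, hα2, hβ1, hβ2])), ?_, ?_⟩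
      · rw [← Functor.map_comp, ← Category.assoc, pullback.lift_fst, hα1]
      · rw [← Functor.map_comp, ← Category.assoc, pullback.lift_fst, hα2]
  · obtain ⟨U, pX, hpXe, hpXs⟩ := X.property.atlas
    obtain ⟨V, pY, hpYe, hpYs⟩ := Y.property.atlas
    have hrepW : AlgSp.Representable (pX ≫ f) := Functor.relativelyRepresentable.of_diag hH _
    have hW := hrepW.isPullback' (pY ≫ g)
    set wU := hrepW.fst' (pY ≫ g) with hwU
    set wV := hrepW.snd (pY ≫ g) with hwV
    have hQ : IsPullback (pullback.fst f (pY ≫ g)) (pullback.snd f (pY ≫ g)) f (pY ≫ g) :=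
      IsPullback.of_hasPullback _ _
    set qX := pullback.fst f (pY ≫ g) with hqX
    set qV := pullback.snd f (pY ≫ g) with hqV
    let r : pullback f (pY ≫ g) ⟶ P := h.lift qX (qV ≫ pY) (by rw [hQ.w, Category.assoc])
    have hr1 : r ≫ fst = qX := h.lift_fst _ _ _
    have hr2 : r ≫ snd = qV ≫ pY := h.lift_snd _ _ _
    have R1 : IsPullback r qV snd pY := by
      refine IsPullback.of_right ?_ hr2 h
      rw [hr1]
      exact hQ
    let w : (AlgSp.yon S).obj (hrepW.pullback (pY ≫ g)) ⟶ pullback f (pY ≫ g) :=
      hQ.lift ((AlgSp.yon S).map wU ≫ pX) ((AlgSp.yon S).map wV) (by rw [Category.assoc, hW.w])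
    have hw1 : w ≫ qX = (AlgSp.yon S).map wU ≫ pX := hQ.lift_fst _ _ _
    have hw2 : w ≫ qV = (AlgSp.yon S).map wV := hQ.lift_snd _ _ _
    have R2 : IsPullback ((AlgSp.yon S).map wU) w pX qX := by
      refine IsPullback.of_bot ?_ hw1.symm hQ
      rw [hw2]
      exact hW
    refine ⟨hrepW.pullback (pY ≫ g), w ≫ r, ?_, ?_⟩
    · exact MorphismProperty.comp_mem _ _ _
        (MorphismProperty.of_isPullback R2 hpXe) (MorphismProperty.of_isPullback R1.flip hpYe)
    · exact MorphismProperty.comp_mem _ _ _
        (MorphismProperty.of_isPullback R2 hpXs) (MorphismProperty.of_isPullback R1.flip hpYs)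

end Groth.Agent.S9874
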