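import Groth.Statements.S10519
import Mathlib
import Groth.Agent.Lib.Helper46.FpqcBase

set_option autoImplicit false
universe u
open CategoryTheory CategoryTheory.Limits AlgebraicGeometry
open AlgSp

namespace Groth.Agent.S10519

/-- The property of morphisms of algebraic spaces over S given by f is quasi-compact is fpqc local on
the base: for an fpqc covering of an algebraic space Y by algebraic spaces Y_i, a morphism f : X ⟶ Y
of algebraic spaces and cartesian squares X_i = Y_i ×_Y X, f has the property if and only if every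
X_i ⟶ Y_i has it. -/
theorem result (S : Scheme.{u}) :
    AlgSp.IsLocalOnBase (AlgSp.IsFpqcCover (S := S)) AlgSp.IsQuasiCompactMor := by
  intro ι Y Yi g hY hYi hcov X f hX Xi p q hXi hsq
  constructor
  · intro hf i Z Z' hZ hZqc gz fst snd sqz
    exact hf hZ hZqc (gz ≫ g i) (fst ≫ q i) snd (sqz.paste_horiz (hsq i))
  · intro hp
    rw [Groth.Agent.Lib.Helper23.AlgSpMor.isQuasiCompactMor_iff_affine hX hY f]
    intro Z hZ gz P fst snd sqP
    have hP : IsAlgSpace P :=
      Groth.Agent.Lib.Helper23.AlgSpMor.isAlgSpace_of_isPullback hX (IsAlgSpace.yon_obj Z) hY.diag sqP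
    obtain ⟨m, W, c, hWaff, -, -, hlift, hcover⟩ :=
      Groth.Agent.Lib.Helper46.FpqcBase.exists_refinement Yi g hcov f Xi p q hsq Z hZ gz fst snd sqP
    rw [Groth.Agent.Lib.Helper23.AlgSpMor.isQuasiCompactSp_iff_compactSpace hP]
    have key : ∀ j, IsCompact (Set.range (Points.map (pullback.fst snd ((yon S).map (c j))))) := by
      intro j
      obtain ⟨i, l, u, hu, -, -⟩ := hlift j
      haveI := hWaff j
      have hqc : IsQuasiCompactSp (pullback snd ((yon S).map (c j))) :=
        hp i (IsAlgSpace.yon_obj (W j))
          (Groth.Agent.Lib.Helper23.AlgSpMor.isQuasiCompactSp_yon_of_isAffine (W j)) l u _ hu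
      haveI := Groth.Agent.Lib.Helper23.AlgSpMor.compactSpace_points_of_isQuasiCompactSp hqc
      exact isCompact_range (Points.continuous_map _)
    refine ⟨(isCompact_iUnion key).of_isClosed_subset isClosed_univ ?_⟩
    intro x _
    obtain ⟨j, hj⟩ := hcover x
    exact Set.mem_iUnion.2 ⟨j, hj⟩

end Groth.Agent.S10519
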