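import Groth.Statements.S0079
-- import your own Groth.Agent.* helpers here

set_option autoImplicit false
open CategoryTheory CategoryTheory.Limits AlgebraicGeometry Opposite
universe u
open EtBase

namespace Groth.Agent.S0079


/-- Quasi-compactness of a morphism descends along a quasi-compact flat surjective base change: if the
base change of a morphism g along a quasi-compact, flat, surjective morphism to its target is
quasi-compact, then g is quasi-compact. (Stated for a single quasi-compact faithfully flat cover;
combined with Zariski-locality on the target this gives the fpqc-local form.) -/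
theorem result :
    MorphismProperty.DescendsAlong @QuasiCompact (@Surjective ⊓ @Flat ⊓ @QuasiCompact : MorphismProperty Scheme.{u}) := by
  constructor
  intro A X Y Z fst snd f g h hf hfst
  obtain ⟨⟨hsurj, _⟩, hqc⟩ := hf
  have hfst' : QuasiCompact fst := hfst
  have hf' : QuasiCompact f := hqc
  have hsnd : Surjective snd := MorphismProperty.of_isPullback h hsurj
  constructor
  intro U hU hUc
  have h1 : IsCompact (fst ⁻¹' (f ⁻¹' U)) :=
    hfst'.isCompact_preimage _ (hU.preimage f.continuous) (hf'.isCompact_preimage _ hU hUc)
  have h2 : snd '' (fst ⁻¹' (f ⁻¹' U)) = g ⁻¹' U := by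
    ext y
    constructor
    · rintro ⟨a, ha, rfl⟩
      change g (snd a) ∈ U
      rw [← Scheme.Hom.comp_apply, ← h.w, Scheme.Hom.comp_apply]
      exact ha
    · intro hy
      obtain ⟨a, rfl⟩ := hsnd.surj y
      refine ⟨a, ?_, rfl⟩
      change f (fst a) ∈ U
      rw [← Scheme.Hom.comp_apply, h.w, Scheme.Hom.comp_apply]
      exact hy
  rw [← h2]
  exact h1.image snd.continuous

end Groth.Agent.S0079
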