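import Groth.Statements.S0082
-- import your own Groth.Agent.* helpers here
import Groth.Agent.S0080

set_option autoImplicit false
open CategoryTheory CategoryTheory.Limits AlgebraicGeometry Opposite
universe u
open EtBase

namespace Groth.Agent.S0082

open MorphismProperty in
theorem flat_base_change_top {R S : CommRingCat.{u}} {Y : Scheme.{u}} (φ : R ⟶ S) (g : Y ⟶ Spec R)
    [Flat (Spec.map φ)] [CompactSpace Y] [QuasiSeparatedSpace Y] :
    IsPushout g.appTop (Spec.map φ).appTop (pullback.snd (Spec.map φ) g).appTop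
      (pullback.fst (Spec.map φ) g).appTop := by
  have H : IsPullback (pullback.snd (Spec.map φ) g) (pullback.fst (Spec.map φ) g) g (Spec.map φ) :=
    (IsPullback.of_hasPullback _ _).flip
  have := isIso_pushoutSection_of_isQuasiSeparated_of_flat_right H
    (US := ⊤) (UT := ⊤) (UX := ⊤) (UY := ⊤) le_top le_top (by simp)
    (isAffineOpen_top _) (isAffineOpen_top _) CompactSpace.isCompact_univ
    (isQuasiSeparated_univ_iff.mpr inferInstance)
  rw [isIso_pushoutSection_iff] at this
  convert this using 1 <;> simp [Scheme.Hom.appLE]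

open MorphismProperty in
theorem affine_of_pullback {R S : CommRingCat.{u}} {Y : Scheme.{u}} (φ : R ⟶ S) (g : Y ⟶ Spec R)
    (hφ : (@Surjective ⊓ @Flat : MorphismProperty Scheme.{u}) (Spec.map φ))
    (hfst : IsAffineHom (pullback.fst (Spec.map φ) g)) : IsAffine Y := by
  have hQ : (@Surjective ⊓ @Flat ⊓ @QuasiCompact : MorphismProperty Scheme.{u}) (Spec.map φ) :=
    ⟨hφ, inferInstance⟩
  have : Flat (Spec.map φ) := hφ.2
  have hPaff : IsAffine (pullback (Spec.map φ) g) := isAffine_of_isAffineHom (pullback.fst _ _)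
  have hqc : QuasiCompact g :=
    (Groth.Agent.S0079.result.{u}).of_isPullback (IsPullback.of_hasPullback (Spec.map φ) g) hQ
      (inferInstance : QuasiCompact (pullback.fst (Spec.map φ) g))
  have hqs : QuasiSeparated g :=
    (Groth.Agent.S0080.result.{u}).of_isPullback (IsPullback.of_hasPullback (Spec.map φ) g) hQ
      (inferInstance : QuasiSeparated (pullback.fst (Spec.map φ) g))
  have : CompactSpace Y := (HasAffineProperty.iff_of_isAffine (P := @QuasiCompact)).mp hqc
  have : QuasiSeparatedSpace Y :=
    (HasAffineProperty.iff_of_isAffine (P := @QuasiSeparated)).mp hqs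
  have hB := isPullback_SpecMap_of_isPushout _ _ _ _ (flat_base_change_top φ g)
  have H' : IsPullback (pullback.snd (Spec.map φ) g) (pullback.fst (Spec.map φ) g) g (Spec.map φ) :=
    (IsPullback.of_hasPullback _ _).flip
  have hout : IsPullback (pullback.snd (Spec.map φ) g)
      ((pullback (Spec.map φ) g).toSpecΓ ≫ Spec.map (pullback.fst (Spec.map φ) g).appTop)
      (Y.toSpecΓ ≫ Spec.map g.appTop) (Spec.map (Spec.map φ).appTop) := by
    refine IsPullback.of_iso H' (Iso.refl _) (Iso.refl _) (asIso (Spec S).toSpecΓ)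
      (asIso (Spec R).toSpecΓ) (by simp) ?_ ?_ ?_
    · simp [Scheme.toSpecΓ_naturality]
    · simp [Scheme.toSpecΓ_naturality]
    · simp [Scheme.toSpecΓ_naturality]
  have hA : IsPullback (pullback.snd (Spec.map φ) g) (pullback (Spec.map φ) g).toSpecΓ Y.toSpecΓ
      (Spec.map (pullback.snd (Spec.map φ) g).appTop) :=
    IsPullback.of_bot hout (Scheme.toSpecΓ_naturality _) hB
  have hQ' : (@Surjective ⊓ @Flat ⊓ @QuasiCompact : MorphismProperty Scheme.{u})
      (Spec.map (Spec.map φ).appTop) := by
    have e := Scheme.toSpecΓ_naturality (Spec.map φ)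
    have h1 : (@Surjective ⊓ @Flat ⊓ @QuasiCompact : MorphismProperty Scheme.{u})
        (Spec.map φ ≫ (Spec R).toSpecΓ) :=
      (MorphismProperty.cancel_right_of_respectsIso _ _ _).mpr hQ
    rw [e] at h1
    exact (MorphismProperty.cancel_left_of_respectsIso _ _ _).mp h1
  have hQ'' : (@Surjective ⊓ @Flat ⊓ @QuasiCompact : MorphismProperty Scheme.{u})
      (Spec.map (pullback.snd (Spec.map φ) g).appTop) :=
    MorphismProperty.of_isPullback hB.flip hQ'
  have hiso : isomorphisms Scheme.{u} Y.toSpecΓ :=
    MorphismProperty.of_isPullback_of_descendsAlong (P := isomorphisms Scheme.{u})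
      (Q := @Surjective ⊓ @Flat ⊓ @QuasiCompact) hA.flip hQ''
      (inferInstanceAs (IsIso (pullback (Spec.map φ) g).toSpecΓ))
  exact ⟨hiso⟩

open MorphismProperty in
theorem descendsAlong_of_affineAnd' {P : MorphismProperty Scheme.{u}}
    {Q : ∀ {R S : Type u} [CommRing R] [CommRing S], (R →+* S) → Prop}
    [P.IsStableUnderBaseChange]
    (hP : HasAffineProperty P (affineAnd Q))
    (hQ : RingHom.RespectsIso Q) (hQQ' : RingHom.CodescendsAlong Q RingHom.FaithfullyFlat) :
    P.DescendsAlong (@Surjective ⊓ @Flat ⊓ @QuasiCompact : MorphismProperty Scheme.{u}) := by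
  refine IsZariskiLocalAtTarget.descendsAlong_inf_quasiCompact _ _ ?_ ?_
  · rw [inf_comm]
    exact inf_le_inf le_rfl (IsLocalIso.le_of_isZariskiLocalAtSource _)
  introv h hf
  have : IsAffine Y := affine_of_pullback φ g h
    (HasAffineProperty.affineAnd_le_isAffineHom P inferInstance _ hf)
  wlog hY : ∃ S, Y = Spec S generalizing Y
  · rw [← P.cancel_left_of_respectsIso Y.isoSpec.inv]
    have heq : pullback.fst (Spec.map φ) (Y.isoSpec.inv ≫ g) =
        pullback.map _ _ _ _ (𝟙 _) (Y.isoSpec.inv) (𝟙 _) (by simp) (by simp) ≫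
          pullback.fst (Spec.map φ) g := (pullback.lift_fst _ _ _).symm
    refine this _ ?_ inferInstance ⟨_, rfl⟩
    rwa [heq, P.cancel_left_of_respectsIso]
  obtain ⟨Y, rfl⟩ := hY
  refine of_pullback_fst_Spec_of_codescendsAlong (P := P)
    (P' := (@Surjective ⊓ @Flat : MorphismProperty Scheme.{u})) hQQ' ?_ ?_ h hf
  · intro _ _ f hf
    rwa [← flat_and_surjective_SpecMap_iff, and_comm]
  · intro R S f
    exact HasAffineProperty.SpecMap_iff_of_affineAnd hP hQ f


/-- If the base change of a morphism of schemes along a quasi-compact, flat, surjective morphism is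
affine, then the morphism itself is affine. (Stated for a single quasi-compact flat surjective base
change; together with Zariski-locality on the target this is fpqc descent for affineness.) -/
theorem result :
    MorphismProperty.DescendsAlong @IsAffineHom (@Surjective ⊓ @Flat ⊓ @QuasiCompact : MorphismProperty Scheme.{u}) := by
  refine IsZariskiLocalAtTarget.descendsAlong_inf_quasiCompact _ _ ?_ ?_
  · rw [inf_comm]
    exact inf_le_inf le_rfl (IsLocalIso.le_of_isZariskiLocalAtSource _)
  intro R S Y φ g hφ hfst
  have : IsAffine Y := affine_of_pullback φ g hφ hfst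
  exact isAffineHom_of_isAffine g

end Groth.Agent.S0082
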