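import Groth.Statements.S10535
import Mathlib
import Groth.Agent.Lib.Helper46.RepFpqc
import Groth.Agent.S0083

set_option autoImplicit false
universe u
open CategoryTheory CategoryTheory.Limits AlgebraicGeometry
open AlgSp

namespace Groth.Agent.S10535

/-- The property of morphisms of algebraic spaces over S given by f is separated (diagonal representable
and a closed immersion) is fpqc local on the base: for an fpqc covering of an algebraic space Y by
algebraic spaces Y_i, a morphism f : X ⟶ Y of algebraic spaces and cartesian squares X_i = Y_i ×_Y
X, f has the property if and only if every X_i ⟶ Y_i has it. -/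
theorem result (S : Scheme.{u}) :
    AlgSp.IsLocalOnBase (AlgSp.IsFpqcCover (S := S)) AlgSp.IsSeparatedMor := by
  haveI := Groth.Agent.S0083.result.{u}
  exact Groth.Agent.Lib.Helper46.RepFpqc.isLocalOnBase_diagonal_repWith @IsClosedImmersion

end Groth.Agent.S10535
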