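import Groth.Statements.S9875
import Groth.Agent.S9874
import Mathlib.CategoryTheory.Limits.FullSubcategory

set_option autoImplicit false
universe u
open CategoryTheory CategoryTheory.Limits AlgebraicGeometry
open AlgSp

namespace Groth.Agent.S9875

/-- The category of algebraic spaces over `S` has fibre products, and the inclusion functor into fppf
sheaves of sets over `S` preserves them (the fibre product of sheaves of two algebraic spaces over a
third is an algebraic space and is their fibre product as algebraic spaces). -/
theorem result (S : Scheme.{u}) :
    HasPullbacks (AlgSp.Space S) ∧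
      PreservesLimitsOfShape WalkingCospan (ObjectProperty.ι (AlgSp.IsAlgSpace (S := S))) := by
  have hclosed : ObjectProperty.IsClosedUnderLimitsOfShape (AlgSp.IsAlgSpace (S := S)) WalkingCospan := by
    constructor
    rintro X ⟨pres⟩
    let t : Cone pres.diag := Cone.mk _ pres.π
    have ht : IsLimit t := pres.isLimit
    have hlim : IsLimit (PullbackCone.mk (t.π.app WalkingCospan.left) (t.π.app WalkingCospan.right)
        ((t.π.naturality WalkingCospan.Hom.inl).symm.trans (t.π.naturality WalkingCospan.Hom.inr :))) :=
      IsLimit.ofIsoLimit ((IsLimit.postcomposeHomEquiv (diagramIsoCospan pres.diag) t).symm ht)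
        (PullbackCone.isoMk t)
    have hpb := IsPullback.of_isLimit hlim
    exact Groth.Agent.S9874.result S (pres.diag.obj WalkingCospan.one)
      (pres.prop_diag_obj WalkingCospan.one).diag
      ⟨pres.diag.obj WalkingCospan.left, pres.prop_diag_obj _⟩
      ⟨pres.diag.obj WalkingCospan.right, pres.prop_diag_obj _⟩
      (pres.diag.map WalkingCospan.Hom.inl) (pres.diag.map WalkingCospan.Hom.inr) X _ _ hpb
  have h1 : HasLimitsOfShape WalkingCospan (AlgSp.Space S) := inferInstance
  refine ⟨h1, ?_⟩
  infer_instance

end Groth.Agent.S9875
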