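import Groth.Statements.S12777
import Groth.Agent.Lib.Helper17.AlgStDict

set_option autoImplicit false
open CategoryTheory AlgebraicGeometry
universe u
open AlgSt

namespace Groth.Agent.S12777

/-- For presheaves of sets `F`, `G` on `(Sch/S)`, let `a : F ⟶ G` be a morphism between them. Then `a`
is representable by algebraic spaces (as a map of presheaves: every `h_U ×_G F` is an algebraic
space) if and only if the associated 1-morphism of categories fibred in sets is representable by
algebraic spaces. -/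
theorem result {S : Scheme.{u}} {F G : AlgSp.PSp S} (a : F ⟶ G) :
    AlgSp.RepBySp a ↔ AlgSt.RepByAlgSp1 (Stk.ofPshMap a) := by
  constructor
  · intro hrep U y
    have sq := IsPullback.of_hasPullback a (Groth.Agent.Lib.Helper17.AD.xiOf y)
    obtain ⟨h, hA⟩ := hrep (Groth.Agent.Lib.Helper17.AD.xiOf y) _ _ sq
    obtain ⟨Fsp, e, he, -⟩ := Groth.Agent.Lib.Helper17.AD.chain ⊤ a y _ _ sq h hA trivial
    exact ⟨Fsp, e, he⟩
  · intro h U ξ F' fst snd sq
    have sq' : IsPullback fst snd a
        (Groth.Agent.Lib.Helper17.AD.xiOf (Groth.Agent.Lib.Helper17.AD.yOf ξ)) := by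
      rw [Groth.Agent.Lib.Helper17.AD.xiOf_yOf]
      exact sq
    obtain ⟨Fsp, e, he⟩ := h U (Groth.Agent.Lib.Helper17.AD.yOf ξ)
    obtain ⟨ι, -⟩ := Groth.Agent.Lib.Helper17.AD.chain_rev a
      (Groth.Agent.Lib.Helper17.AD.yOf ξ) fst snd sq' Fsp.obj e he
    exact AlgSp.IsAlgSpaceP.of_iso ((AlgSp.isAlgSpaceP_obj_iff Fsp.obj).mpr Fsp.property) ι

end Groth.Agent.S12777
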