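import Groth.Statements.S12765
import Groth.Agent.Lib.Helper17.DiagRepB
import Groth.Agent.Lib.Helper17.AlgStRepAll
import Groth.Agent.Lib.Helper17.AlgStDict

set_option autoImplicit false
open CategoryTheory AlgebraicGeometry
universe u
open AlgSt

namespace Groth.Agent.S12765

open CategoryTheory.Limits
open Groth.Agent.Lib.Helper17 Groth.Agent.Lib.Helper17.EO Groth.Agent.Lib.Helper17.DR
  Groth.Agent.Lib.Helper17.DRB

theorem rep_of_equiv {S : Scheme.{u}} {𝒜 ℬ : AlgSt.Cat S} (K : 𝒜 ⥤ᵇ ℬ)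
    (hK : FibCat.IsEquivOver K) (h : AlgSt.RepByAlgSp 𝒜) : AlgSt.RepByAlgSp ℬ := by
  obtain ⟨F, e, he⟩ := h
  exact ⟨F, BasedFunctor.comp e K, isEquivOver_comp e K he hK⟩

theorem rep_of_equiv' {S : Scheme.{u}} {𝒜 ℬ : AlgSt.Cat S} (K : 𝒜 ⥤ᵇ ℬ)
    (hK : FibCat.IsEquivOver K) (h : AlgSt.RepByAlgSp ℬ) : AlgSt.RepByAlgSp 𝒜 := by
  obtain ⟨G, ⟨e₁⟩, ⟨e₂⟩⟩ := id hK
  exact rep_of_equiv G (isEquivOver_symm K G e₁ e₂) h

theorem rep_overCat {S : Scheme.{u}} (W : Over S) : AlgSt.RepByAlgSp (FibCat.overCat W) :=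
  ⟨⟨(AlgSp.yon S).obj W, AlgSp.IsAlgSpace.yon_obj W⟩, AlgSt.toOverCat W,
    AD.toOverCat_isEquivOver W⟩

/-- (1) ⇔ (3): for `𝒳` fibred in groupoids over `(Sch/S)`, the diagonal `𝒳 ⟶ 𝒳 × 𝒳` is representable by
algebraic spaces if and only if for every scheme `U` over `S` every 1-morphism `(Sch/U) ⟶ 𝒳` is
representable by algebraic spaces. -/
theorem result {S : Scheme.{u}} {𝒳 : AlgSt.Cat S} (h𝒳 : FibCat.IsFibGrpd 𝒳.p) :
    AlgSt.RepByAlgSp1 (FibCat.diag (FibCat.toSelf 𝒳)) ↔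
      ∀ (U : Over S) (x : FibCat.overCat U ⥤ᵇ 𝒳), AlgSt.RepByAlgSp1 x := by
  constructor
  · intro hΔ U x V y
    exact rep_of_equiv (PsiB y x) (PsiB_isEquivOver y x) (hΔ (V ⨯ U) (HF y x))
  · intro hyp U H
    have h1 : AlgSt.RepByAlgSp (FibCat.fp (G1 H) (G2 H)) := hyp U (G2 H) U (G1 H)
    have h2 : AlgSt.RepByAlgSp (FibCat.fp (HF (G1 H) (G2 H)) (Dg 𝒳)) :=
      rep_of_equiv' (PsiB (G1 H) (G2 H)) (PsiB_isEquivOver (G1 H) (G2 H)) h1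
    have h3 : AlgSt.RepByAlgSp1 (FibCat.fpFst (HF (G1 H) (G2 H)) (Dg 𝒳)) :=
      ARA.rep1_of_rep h2 (rep_overCat (U ⨯ U)) _
    have h4 : AlgSt.RepByAlgSp (FibCat.fp (dl U) (FibCat.fpFst (HF (G1 H) (G2 H)) (Dg 𝒳))) :=
      h3 U (dl U)
    have h5 : AlgSt.RepByAlgSp
        (FibCat.fp (BasedFunctor.comp (dl U) (HF (G1 H) (G2 H))) (Dg 𝒳)) :=
      rep_of_equiv' (PS.paste (dl U) (HF (G1 H) (G2 H)) (Dg 𝒳))
        (PS.paste_isEquivOver (dl U) (HF (G1 H) (G2 H)) (Dg 𝒳)) h4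
    exact rep_of_equiv (twH H) (twH_isEquivOver H) h5

end Groth.Agent.S12765
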