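import Groth.Statements.S9882
import Mathlib.AlgebraicGeometry.Morphisms.LocalFlatDescent
import Mathlib.AlgebraicGeometry.Morphisms.FlatDescent
import Mathlib.AlgebraicGeometry.Morphisms.QuasiFinite
import Mathlib.AlgebraicGeometry.Morphisms.UniversallyInjective

set_option autoImplicit false
universe u
open CategoryTheory CategoryTheory.Limits AlgebraicGeometry
open AlgSp

namespace Groth.Agent.S9882

/-- Case where both components of `g` lift to the atlas. -/
theorem lft_of_lifts (S : Scheme.{u}) (X : AlgSp.Sp S) {U : Over S} (p : (AlgSp.yon S).obj U ⟶ X)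
    (he : AlgSp.RepWith @Etale p) {T V : Over S} (g : (AlgSp.yon S).obj T ⟶ X ⨯ X)
    (a₂ b₂ : T ⟶ U) (ha : g ≫ prod.fst = (AlgSp.yon S).map a₂ ≫ p)
    (hb : g ≫ prod.snd = (AlgSp.yon S).map b₂ ≫ p)
    (fst : (AlgSp.yon S).obj V ⟶ X) (snd : V ⟶ T)
    (sq : IsPullback fst ((AlgSp.yon S).map snd) (Limits.diag X) g) :
    LocallyOfFiniteType snd.left := by
  have hrep : AlgSp.Representable p := he.rep
  let R : Over S := hrep.pullback p
  let sR : R ⟶ U := hrep.snd p
  obtain ⟨tR, htR⟩ := (AlgSp.yon S).map_surjective (hrep.fst p)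
  have sqR : IsPullback ((AlgSp.yon S).map tR) ((AlgSp.yon S).map sR) p p := by
    rw [htR]; exact hrep.isPullback p
  have hsR : Etale sR.left := he.property p _ sR (hrep.isPullback p)
  -- `fst` in terms of `snd`
  have hf1 : fst = (AlgSp.yon S).map (snd ≫ a₂) ≫ p := by
    have := congrArg (fun k => k ≫ prod.fst) sq.w
    simp only [Category.assoc, Limits.diag] at this
    rw [prod.lift_fst, Category.comp_id, ha] at this
    rw [this, Functor.map_comp, Category.assoc]
  have hf2 : fst = (AlgSp.yon S).map (snd ≫ b₂) ≫ p := by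
    have := congrArg (fun k => k ≫ prod.snd) sq.w
    simp only [Category.assoc, Limits.diag] at this
    rw [prod.lift_snd, Category.comp_id, hb] at this
    rw [this, Functor.map_comp, Category.assoc]
  obtain ⟨σ', hσ'⟩ := (AlgSp.yon S).map_surjective
    (sqR.lift ((AlgSp.yon S).map (snd ≫ b₂)) ((AlgSp.yon S).map (snd ≫ a₂))
      (by rw [← hf1, ← hf2]))
  have hσ1 : σ' ≫ tR = snd ≫ b₂ := by
    apply (AlgSp.yon S).map_injective
    rw [Functor.map_comp, hσ', sqR.lift_fst]
  have hσ2 : σ' ≫ sR = snd ≫ a₂ := by
    apply (AlgSp.yon S).map_injective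
    rw [Functor.map_comp, hσ', sqR.lift_snd]
  -- the square in `Over S`
  have sqO : IsPullback σ' snd (prod.lift sR tR) (prod.lift a₂ b₂) := by
    have hw : σ' ≫ prod.lift sR tR = snd ≫ prod.lift a₂ b₂ := by
      apply Limits.prod.hom_ext
      · simp only [Category.assoc]; rw [prod.lift_fst, prod.lift_fst, hσ2]
      · simp only [Category.assoc]; rw [prod.lift_snd, prod.lift_snd, hσ1]
    have lift : ∀ (c : PullbackCone (prod.lift sR tR) (prod.lift a₂ b₂)),
        ∃ z : c.pt ⟶ V, z ≫ σ' = c.fst ∧ z ≫ snd = c.snd := by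
      intro c
      have c1 : c.fst ≫ sR = c.snd ≫ a₂ := by
        have := congrArg (fun k => k ≫ prod.fst) c.condition
        simp only [Category.assoc] at this
        rwa [prod.lift_fst, prod.lift_fst] at this
      have c2 : c.fst ≫ tR = c.snd ≫ b₂ := by
        have := congrArg (fun k => k ≫ prod.snd) c.condition
        simp only [Category.assoc] at this
        rwa [prod.lift_snd, prod.lift_snd] at this
      have e : (AlgSp.yon S).map (c.snd ≫ a₂) ≫ p = (AlgSp.yon S).map (c.snd ≫ b₂) ≫ p := by
        rw [← c1, ← c2, Functor.map_comp, Functor.map_comp, Category.assoc, Category.assoc, sqR.w]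
      have cond : ((AlgSp.yon S).map (c.snd ≫ a₂) ≫ p) ≫ Limits.diag X =
          (AlgSp.yon S).map c.snd ≫ g := by
        apply Limits.prod.hom_ext
        · simp only [Category.assoc, Limits.diag]
          rw [prod.lift_fst, Category.comp_id, ha, Functor.map_comp, Category.assoc]
        · simp only [Category.assoc, Limits.diag]
          rw [prod.lift_snd, Category.comp_id, hb, e, Functor.map_comp, Category.assoc]
      obtain ⟨z, hz⟩ := (AlgSp.yon S).map_surjective (sq.lift _ _ cond)
      have hz2 : z ≫ snd = c.snd := by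
        apply (AlgSp.yon S).map_injective
        rw [Functor.map_comp, hz, sq.lift_snd]
      refine ⟨z, ?_, hz2⟩
      apply (AlgSp.yon S).map_injective
      apply sqR.hom_ext
      · rw [← Functor.map_comp, ← Functor.map_comp, Category.assoc, hσ1, ← Category.assoc, hz2, c2]
      · rw [← Functor.map_comp, ← Functor.map_comp, Category.assoc, hσ2, ← Category.assoc, hz2, c1]
    have hmono : ∀ (Z : Over S) (z z' : Z ⟶ V), z ≫ snd = z' ≫ snd → z = z' := by
      intro Z z z' h
      apply (AlgSp.yon S).map_injective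
      apply sq.hom_ext
      · rw [hf1, ← Category.assoc, ← Category.assoc, ← Functor.map_comp, ← Functor.map_comp,
          ← Category.assoc, ← Category.assoc, h]
      · rw [← Functor.map_comp, ← Functor.map_comp, h]
    refine ⟨⟨hw⟩, ⟨PullbackCone.IsLimit.mk _ (fun c => (lift c).choose)
      (fun c => (lift c).choose_spec.1) (fun c => (lift c).choose_spec.2) ?_⟩⟩
    intro c m _ hm2
    exact hmono _ _ _ (hm2.trans (lift c).choose_spec.2.symm)
  have hl : LocallyOfFiniteType (prod.lift sR tR).left := by
    have h1 : (prod.lift sR tR).left ≫ (prod.fst : U ⨯ U ⟶ U).left = sR.left := by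
      rw [← Over.comp_left, prod.lift_fst]
    have : LocallyOfFiniteType ((prod.lift sR tR).left ≫ (prod.fst : U ⨯ U ⟶ U).left) := by
      rw [h1]; infer_instance
    exact locallyOfFiniteType_of_comp _ (prod.fst : U ⨯ U ⟶ U).left
  exact MorphismProperty.of_isPullback (P := @LocallyOfFiniteType) (sqO.map (Over.forget S)) hl

/-- Let `X` be an algebraic space over `S` with diagonal `Δ : X ⟶ X × X` (representable by schemes).
Then, in the representable sense, `Δ` is locally of finite type, a monomorphism, separated, and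
locally quasi-finite. (Mathlib's locally quasi-finite class has no finite-type clause; together with
the first conjunct this is the usual notion.) -/
theorem result (S : Scheme.{u}) (X : AlgSp.Space S) :
    AlgSp.RepWith @LocallyOfFiniteType (Limits.diag X.obj) ∧
      AlgSp.RepWith (MorphismProperty.monomorphisms Scheme.{u}) (Limits.diag X.obj) ∧
      AlgSp.RepWith @IsSeparated (Limits.diag X.obj) ∧
      AlgSp.RepWith @LocallyQuasiFinite (Limits.diag X.obj) := by
  have hΔ : AlgSp.Representable (Limits.diag X.obj) := X.property.diag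
  have hmono : ∀ ⦃T V : Over S⦄ (g : (AlgSp.yon S).obj T ⟶ X.obj ⨯ X.obj)
      (fst : (AlgSp.yon S).obj V ⟶ X.obj) (snd : V ⟶ T),
      IsPullback fst ((AlgSp.yon S).map snd) (Limits.diag X.obj) g → Mono snd.left := by
    intro T V g fst snd sq
    have : Mono (Limits.diag X.obj) :=
      mono_of_mono_fac (prod.lift_fst (𝟙 X.obj) (𝟙 X.obj))
    have h1 : Mono ((AlgSp.yon S).map snd) := sq.mono_snd_of_mono
    have h2 : Mono snd := (AlgSp.yon S).mono_of_mono_map h1
    infer_instance
  have hlft : ∀ ⦃T V : Over S⦄ (g : (AlgSp.yon S).obj T ⟶ X.obj ⨯ X.obj)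
      (fst : (AlgSp.yon S).obj V ⟶ X.obj) (snd : V ⟶ T),
      IsPullback fst ((AlgSp.yon S).map snd) (Limits.diag X.obj) g →
        LocallyOfFiniteType snd.left := by
    intro T V g fst snd sq
    obtain ⟨U, p, he, hs⟩ := X.property.atlas
    have hrep : AlgSp.Representable p := he.rep
    -- first cover
    let a := g ≫ prod.fst
    let b := g ≫ prod.snd
    let T₁ : Over S := hrep.pullback a
    let π₁ : T₁ ⟶ T := hrep.snd a
    obtain ⟨a₁, ha₁⟩ := (AlgSp.yon S).map_surjective (hrep.fst a)
    have sq1 : IsPullback ((AlgSp.yon S).map a₁) ((AlgSp.yon S).map π₁) p a := by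
      rw [ha₁]; exact hrep.isPullback a
    have e1 : Etale π₁.left := he.property a _ π₁ (hrep.isPullback a)
    have s1 : Surjective π₁.left := hs.property a _ π₁ (hrep.isPullback a)
    -- second cover
    let b' := (AlgSp.yon S).map π₁ ≫ b
    let T₂ : Over S := hrep.pullback b'
    let π₂ : T₂ ⟶ T₁ := hrep.snd b'
    obtain ⟨b₂, hb₂⟩ := (AlgSp.yon S).map_surjective (hrep.fst b')
    have sq2 : IsPullback ((AlgSp.yon S).map b₂) ((AlgSp.yon S).map π₂) p b' := by
      rw [hb₂]; exact hrep.isPullback b'
    have e2 : Etale π₂.left := he.property b' _ π₂ (hrep.isPullback b')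
    have s2 : Surjective π₂.left := hs.property b' _ π₂ (hrep.isPullback b')
    let π : T₂ ⟶ T := π₂ ≫ π₁
    have hπ : (@Surjective ⊓ @Flat ⊓ @LocallyOfFinitePresentation : MorphismProperty Scheme.{u})
        π.left := by
      have : π.left = π₂.left ≫ π₁.left := rfl
      rw [this]
      exact ⟨⟨inferInstance, inferInstance⟩, inferInstance⟩
    -- pull back the square
    let V₂ : Over S := pullback snd π
    let ρ : V₂ ⟶ V := pullback.fst _ _
    let σ : V₂ ⟶ T₂ := pullback.snd _ _
    have sqO : IsPullback ρ σ snd π := IsPullback.of_hasPullback _ _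
    have big : IsPullback ((AlgSp.yon S).map ρ ≫ fst) ((AlgSp.yon S).map σ) (Limits.diag X.obj)
        ((AlgSp.yon S).map π ≫ g) := (sqO.map (AlgSp.yon S)).paste_horiz sq
    have hσ : LocallyOfFiniteType σ.left := by
      refine lft_of_lifts S X.obj p he ((AlgSp.yon S).map π ≫ g) (π₂ ≫ a₁) b₂ ?_ ?_ _ σ big
      · rw [Category.assoc, Functor.map_comp, Functor.map_comp, Category.assoc, Category.assoc,
          sq1.w]
      · rw [Category.assoc, Functor.map_comp, Category.assoc, sq2.w]
    exact MorphismProperty.of_isPullback_of_descendsAlong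
      (P := @LocallyOfFiniteType)
      (Q := (@Surjective ⊓ @Flat ⊓ @LocallyOfFinitePresentation : MorphismProperty Scheme.{u}))
      (sqO.map (Over.forget S)).flip hπ hσ
  refine ⟨⟨hΔ, hlft⟩, ⟨hΔ, ?_⟩, ⟨hΔ, ?_⟩, ⟨hΔ, ?_⟩⟩
  · intro T V g fst snd sq
    exact hmono g fst snd sq
  · intro T V g fst snd sq
    have := hmono g fst snd sq
    change IsSeparated snd.left
    infer_instance
  · intro T V g fst snd sq
    have := hmono g fst snd sq
    have := hlft g fst snd sq
    change LocallyQuasiFinite snd.left
    infer_instance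

end Groth.Agent.S9882
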