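import Groth.Statements.S10194
import Groth.Agent.Lib.Helper37.AlgSpPoints
import Mathlib

set_option autoImplicit false
universe u
open CategoryTheory CategoryTheory.Limits AlgebraicGeometry Topology TopologicalSpace
open AlgSp

namespace Groth.Agent.S10194

open Groth.Agent.Lib.Helper37.AlgSpPoints Opposite

theorem exists_unique_lift {S : Scheme.{u}} {X' X : Sp S} (j : X' ⟶ X)
    (hj : RepWith @IsOpenImmersion j) {T : Over S} (g : (yon S).obj T ⟶ X)
    (hg : ∀ t : T.left, Points.ofPt g t ∈ Set.range (Points.map j)) :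
    ∃! x' : (yon S).obj T ⟶ X', x' ≫ j = g := by
  have hsq := hj.rep.isPullback g
  have hoi : IsOpenImmersion (hj.rep.snd g).left := hj.property_snd g
  set V := hj.rep.pullback g with hV
  set fst := hj.rep.fst g with hfst
  set snd := hj.rep.snd g with hsnd
  have hsurj : Function.Surjective snd.left := by
    intro t
    obtain ⟨x', hx'⟩ := hg t
    rw [Points.ofPt_eq_map_ofScheme g t] at hx'
    obtain ⟨p, hp1, hp2⟩ := points_exists_of_isPullback hsq.flip (Points.ofScheme T t) x' hx'.symm
    refine ⟨Points.toScheme V p, ?_⟩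
    apply (Points.schemeEquiv T).injective
    change Points.ofScheme T _ = Points.ofScheme T t
    rw [← hp1, ← ofPt_yon_map, Points.ofPt_eq_map_ofScheme, Points.ofScheme_toScheme]
  have hiso : IsIso snd.left :=
    (isIso_iff_isOpenImmersion_and_surjective _).2 ⟨hoi, ⟨hsurj⟩⟩
  have hiso' : IsIso snd := by
    have : IsIso ((Over.forget S).map snd) := hiso
    exact isIso_of_reflects_iso snd (Over.forget S)
  refine ⟨(yon S).map (inv snd) ≫ fst, ?_, ?_⟩
  · show ((yon S).map (inv snd) ≫ fst) ≫ j = g
    rw [Category.assoc, hsq.w, ← Category.assoc, ← CategoryTheory.Functor.map_comp, IsIso.inv_hom_id,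
      CategoryTheory.Functor.map_id, Category.id_comp]
  · intro x' hx'
    have h1 : x' ≫ j = (yon S).map (𝟙 T) ≫ g := by
      rw [CategoryTheory.Functor.map_id, Category.id_comp, hx']
    have e1 : (yon S).map (hj.rep.lift x' (𝟙 T) h1) ≫ fst = x' := hj.rep.lift_fst x' (𝟙 T) h1
    have e2 : hj.rep.lift x' (𝟙 T) h1 ≫ snd = 𝟙 T := hj.rep.lift_snd x' (𝟙 T) h1
    have e3 : hj.rep.lift x' (𝟙 T) h1 = inv snd := by
      rw [← cancel_mono snd, e2, IsIso.inv_hom_id]
    rw [← e1, e3]

theorem exists_factor {S : Scheme.{u}} {Y X' X : Sp S} (j : X' ⟶ X)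
    (hj : RepWith @IsOpenImmersion j) (f : Y ⟶ X)
    (h : Set.range (Points.map f) ⊆ Set.range (Points.map j)) :
    ∃ g : Y ⟶ X', g ≫ j = f := by
  have key : ∀ (T : Over S) (y : (yon S).obj T ⟶ Y), ∃! x' : (yon S).obj T ⟶ X', x' ≫ j = y ≫ f := by
    intro T y
    apply exists_unique_lift j hj
    intro t
    apply h
    exact ⟨Points.ofPt y t, Points.map_ofPt y f t⟩
  choose L hL hLu using key
  let appf : ∀ T : Over S, Y.obj.obj (op T) → X'.obj.obj (op T) := fun T y =>
    (J S).uliftYonedaEquiv (L T ((J S).uliftYonedaEquiv.symm y))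
  have happ : ∀ (T : Over S) (y : Y.obj.obj (op T)), j.hom.app (op T) (appf T y) = f.hom.app (op T) y := by
    intro T y
    have := hL T ((J S).uliftYonedaEquiv.symm y)
    have h2 := congrArg (J S).uliftYonedaEquiv this
    rw [GrothendieckTopology.uliftYonedaEquiv_comp, GrothendieckTopology.uliftYonedaEquiv_comp,
      Equiv.apply_symm_apply] at h2
    exact h2
  have hnat : ∀ (T T' : Over S) (φ : T' ⟶ T) (y : Y.obj.obj (op T)),
      appf T' (Y.obj.map φ.op y) = X'.obj.map φ.op (appf T y) := by
    intro T T' φ y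
    show (J S).uliftYonedaEquiv _ = X'.obj.map φ.op ((J S).uliftYonedaEquiv _)
    rw [GrothendieckTopology.uliftYonedaEquiv_naturality]
    congr 1
    symm
    apply hLu
    show ((yon S).map φ ≫ L T ((J S).uliftYonedaEquiv.symm y)) ≫ j = _
    rw [Category.assoc, hL, ← Category.assoc]
    congr 1
    exact GrothendieckTopology.uliftYonedaEquiv_symm_naturality_left (J S) φ Y y
  let η : Y.obj ⟶ X'.obj :=
    { app := fun T => ↾(appf T.unop)
      naturality := by
        intro T T' φ
        ext y
        exact hnat T.unop T'.unop φ.unop y }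
  refine ⟨ObjectProperty.homMk η, ?_⟩
  ext T y
  exact happ T.unop y

/-- Let X, Y be algebraic spaces over a scheme S and j : X' ⟶ X an open subspace (a morphism
representable by open immersions). Then a morphism f : Y ⟶ X factors through X' if and only if
|f|(|Y|) is contained in |X'|. -/
theorem result {S : Scheme.{u}} {X X' Y : AlgSp.Space S}
    (j : X' ⟶ X) (hj : AlgSp.RepWith @IsOpenImmersion j.hom) (f : Y ⟶ X) :
    (∃ g : Y ⟶ X', g ≫ j = f) ↔
      Set.range (AlgSp.Points.map f.hom) ⊆ Set.range (AlgSp.Points.map j.hom) := by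
  constructor
  · rintro ⟨g, rfl⟩
    rintro _ ⟨y, rfl⟩
    exact ⟨Points.map g.hom y, (Points.map_comp g.hom j.hom y).symm⟩
  · intro h
    obtain ⟨g, hg⟩ := exists_factor j.hom hj f.hom h
    exact ⟨ObjectProperty.homMk g, ObjectProperty.hom_ext _ hg⟩

end Groth.Agent.S10194
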