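import Mathlib
import Groth.Statements.S19547
-- import your own Groth.Agent.* helpers here

set_option autoImplicit false
universe u
open TensorProduct
open Desc

namespace Groth.Agent.S19547

/-- Let A → A' be a faithfully flat homomorphism of commutative rings, M' an A'-module and φ : M' ⊗_A A'
→ A' ⊗_A M' an isomorphism of (A' ⊗_A A')-modules for the diagonal actions (x ⊗ y)(u ⊗ z) = xu ⊗ yz
and (x ⊗ y)(z ⊗ u) = xz ⊗ yu, satisfying the cocycle condition φ_13 = φ_23 ∘ φ_12 between the three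
pullbacks to A' ⊗_A A' ⊗_A A'. Here linearity over A' ⊗_A A' is stated on the generators x ⊗ 1 and 1
⊗ y, and the cocycle condition on pure tensors u ⊗ a ⊗ b: writing φ(u ⊗ a) = Σ a_i ⊗ u_i, it says Σ
a_i ⊗ φ(u_i ⊗ b) = Σ b_j ⊗ a ⊗ u'_j where φ(u ⊗ b) = Σ b_j ⊗ u'_j. Let M = {u ∈ M' : φ(u ⊗ 1) = 1 ⊗
u}, an A-submodule of M'. Then the canonical map λ : A' ⊗_A M → M', x ⊗ u ↦ xu, is an isomorphism. -/
theorem result (A A' : Type u) [CommRing A] [CommRing A']
    [Algebra A A'] [Module.FaithfullyFlat A A'] (M' : Type u) [AddCommGroup M'] [Module A M']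
    [Module A' M'] [IsScalarTower A A' M']
    (φ : M' ⊗[A] A' →ₗ[A] A' ⊗[A] M') (hφ : Function.Bijective φ)
    (h1 : ∀ (x : A') (u : M') (z : A'),
      φ ((x • u) ⊗ₜ[A] z) = LinearMap.rTensor M' (LinearMap.mulLeft A x) (φ (u ⊗ₜ[A] z)))
    (h2 : ∀ (y : A') (u : M') (z : A'),
      φ (u ⊗ₜ[A] (y * z)) = LinearMap.lTensor A' (Algebra.lsmul A A M' y) (φ (u ⊗ₜ[A] z)))
    (hcoc : ∀ (u : M') (a b : A'),
      LinearMap.lTensor A' φ (TensorProduct.assoc A A' M' A' (LinearMap.rTensor A' φ ((u ⊗ₜ[A] a) ⊗ₜ[A] b))) =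
        LinearMap.lTensor A' (TensorProduct.mk A A' M' a) (φ (u ⊗ₜ[A] b)))
    (M : Submodule A M') (hM : ∀ u : M', u ∈ M ↔ φ (u ⊗ₜ[A] (1 : A')) = (1 : A') ⊗ₜ[A] u) :
    Function.Bijective
      ((TensorProduct.lift (Algebra.lsmul A A M').toLinearMap) ∘ₗ (LinearMap.lTensor A' M.subtype)) := by
  classical
  let μ : A' ⊗[A] M' →ₗ[A] M' := TensorProduct.lift (Algebra.lsmul A A M').toLinearMap
  let α : M' →ₗ[A] A' ⊗[A] M' := TensorProduct.mk A A' M' 1
  let β : M' →ₗ[A] A' ⊗[A] M' := φ ∘ₗ (TensorProduct.mk A M' A').flip 1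
  let ι : A' ⊗[A] M →ₗ[A] A' ⊗[A] M' := LinearMap.lTensor A' M.subtype
  have hμ : ∀ (x : A') (u : M'), μ (x ⊗ₜ[A] u) = x • u := fun x u => by
    simp [μ]
  have hβ : ∀ u : M', β u = φ (u ⊗ₜ[A] (1 : A')) := fun u => rfl
  have hα : ∀ u : M', α u = (1 : A') ⊗ₜ[A] u := fun u => rfl
  -- exactness
  have hex : Function.Exact M.subtype (α - β) := by
    intro u
    constructor
    · intro hu
      have : u ∈ M := by
        rw [hM, ← hβ, ← hα]
        exact (sub_eq_zero.mp hu).symm
      exact ⟨⟨u, this⟩, rfl⟩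
    · rintro ⟨⟨u, hu⟩, rfl⟩
      rw [hM] at hu
      simp only [Submodule.subtype_apply, LinearMap.sub_apply, hα, hβ, hu, sub_self]
  have hex' := Module.Flat.lTensor_exact A' hex
  have hιinj : Function.Injective ι :=
    Module.Flat.lTensor_preserves_injective_linearMap M.subtype M.injective_subtype
  -- step 1: β u lies in the range of ι
  have hassoc : ∀ w : A' ⊗[A] M', TensorProduct.assoc A A' M' A' (w ⊗ₜ[A] (1 : A')) =
      LinearMap.lTensor A' ((TensorProduct.mk A M' A').flip 1) w := by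
    intro w
    induction w with
    | zero => simp
    | add a b ha hb => rw [add_tmul, map_add, map_add, ha, hb]
    | tmul a u => simp
  have hcoc1 : ∀ u : M', LinearMap.lTensor A' β (β u) = LinearMap.lTensor A' α (β u) := by
    intro u
    have h := hcoc u 1 1
    rw [LinearMap.rTensor_tmul, hassoc] at h
    rw [hβ u]
    rw [show LinearMap.lTensor A' β = LinearMap.lTensor A' φ ∘ₗ
      LinearMap.lTensor A' ((TensorProduct.mk A M' A').flip 1) from LinearMap.lTensor_comp _ _ _]
    exact h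
  have hrange : ∀ u : M', ∃ t : A' ⊗[A] M, ι t = β u := by
    intro u
    apply (hex' (β u)).mp
    rw [LinearMap.lTensor_sub, LinearMap.sub_apply, hcoc1, sub_self]
  -- step 2: ε := μ ∘ β is the identity
  have hμr : ∀ (x : A') (w : A' ⊗[A] M'),
      μ (LinearMap.rTensor M' (LinearMap.mulLeft A x) w) = x • μ w := by
    intro x w
    induction w with
    | zero => simp
    | add a b ha hb => simp only [map_add, ha, hb, smul_add]
    | tmul a u => rw [LinearMap.rTensor_tmul, hμ, hμ, LinearMap.mulLeft_apply, mul_smul]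
  have hμl : ∀ (y : A') (w : A' ⊗[A] M'),
      μ (LinearMap.lTensor A' (Algebra.lsmul A A M' y) w) = y • μ w := by
    intro y w
    induction w with
    | zero => simp
    | add a b ha hb => simp only [map_add, ha, hb, smul_add]
    | tmul a u =>
      rw [LinearMap.lTensor_tmul, hμ, hμ, Algebra.lsmul_coe, smul_comm]
  have hεlin : ∀ (x : A') (u : M'), μ (β (x • u)) = x • μ (β u) := by
    intro x u
    rw [hβ, h1, hμr, hβ]
  have hεε : ∀ u : M', μ (β (μ (β u))) = μ (β u) := by
    intro u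
    have key1 : ∀ w : A' ⊗[A] M',
        μ (LinearMap.lTensor A' μ (LinearMap.lTensor A' β w)) = μ (β (μ w)) := by
      intro w
      induction w with
      | zero => simp
      | add a b ha hb => simp only [map_add, ha, hb]
      | tmul a u' =>
        rw [LinearMap.lTensor_tmul, LinearMap.lTensor_tmul, hμ, hμ, hεlin]
    have key2 : ∀ w : A' ⊗[A] M',
        μ (LinearMap.lTensor A' μ (LinearMap.lTensor A' α w)) = μ w := by
      intro w
      induction w with
      | zero => simp
      | add a b ha hb => simp only [map_add, ha, hb]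
      | tmul a u' =>
        rw [LinearMap.lTensor_tmul, LinearMap.lTensor_tmul, hα, hμ, hμ, hμ, one_smul]
    rw [← key1, hcoc1, key2]
  have hεsurj : ∀ w' : M', ∃ u : M', μ (β u) = w' := by
    intro w'
    obtain ⟨s, hs⟩ := hφ.2 ((1 : A') ⊗ₜ[A] w')
    have key : ∀ s : M' ⊗[A] A', μ (φ s) = μ (β (TensorProduct.lift
        ((Algebra.lsmul A A M').toLinearMap.flip) s)) := by
      intro s
      induction s with
      | zero => simp
      | add a b ha hb => simp only [map_add, ha, hb]
      | tmul u y =>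
        have e1 : φ (u ⊗ₜ[A] y) = LinearMap.lTensor A' (Algebra.lsmul A A M' y)
            (φ (u ⊗ₜ[A] (1 : A'))) := by
          rw [← h2, mul_one]
        rw [e1, hμl, TensorProduct.lift.tmul]
        simp only [LinearMap.flip_apply, AlgHom.toLinearMap_apply, Algebra.lsmul_coe]
        rw [hεlin, hβ]
    refine ⟨_, (key s).symm.trans ?_⟩
    rw [hs, hμ, one_smul]
  have hε : ∀ u : M', μ (β u) = u := by
    intro w'
    obtain ⟨u, rfl⟩ := hεsurj w'
    exact hεε u
  -- step 3: β ∘ λ = ι
  have hβl : ∀ t : A' ⊗[A] M, β (μ (ι t)) = ι t := by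
    intro t
    induction t with
    | zero => simp
    | add a b ha hb => simp only [map_add, ha, hb]
    | tmul x m =>
      have hm : φ ((m : M') ⊗ₜ[A] (1 : A')) = (1 : A') ⊗ₜ[A] (m : M') := (hM _).mp m.2
      simp only [ι, LinearMap.lTensor_tmul, Submodule.subtype_apply]
      rw [hμ, hβ, h1, hm, LinearMap.rTensor_tmul, LinearMap.mulLeft_apply, mul_one]
  change Function.Bijective (μ ∘ₗ ι)
  constructor
  · rw [injective_iff_map_eq_zero]
    intro t ht
    apply hιinj
    rw [map_zero, ← hβl t]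
    rw [LinearMap.comp_apply] at ht
    rw [ht, map_zero]
  · intro u
    obtain ⟨t, ht⟩ := hrange u
    refine ⟨t, ?_⟩
    rw [LinearMap.comp_apply, ht, hε]

end Groth.Agent.S19547
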