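import Groth.Statements.S12778
import Groth.Agent.Lib.Helper17.AlgStDict

set_option autoImplicit false
open CategoryTheory AlgebraicGeometry
universe u
open AlgSt

namespace Groth.Agent.S12778

/-- For presheaves of sets `F`, `G` on `(Sch/S)`, let `a : F ⟶ G` be a morphism representable by
algebraic spaces, and let `Q` be a property of morphisms of algebraic spaces. Then `a` has `Q`
(every base change `h_U ×_G F ⟶ h_U` has `Q`) if and only if the associated 1-morphism of categories
fibred in sets, which is representable by algebraic spaces, has `Q`. (The published statement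
assumes `Q` stable under base change and fppf local on the base; this row assumes only that `Q`
respects isomorphisms.) -/
theorem result {S : Scheme.{u}} (Q : MorphismProperty (AlgSp.Sp S)) [Q.RespectsIso]
    {F G : AlgSp.PSp S} (a : F ⟶ G) (ha : AlgSp.RepBySp a) :
    AlgSp.RepBySpWith Q a ↔ AlgSt.RepByAlgSpWith Q (Stk.ofPshMap a) := by
  constructor
  · intro hrep U y
    have sq := IsPullback.of_hasPullback a (Groth.Agent.Lib.Helper17.AD.xiOf y)
    obtain ⟨h, hA, hQ⟩ := hrep (Groth.Agent.Lib.Helper17.AD.xiOf y) _ _ sq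
    exact Groth.Agent.Lib.Helper17.AD.chain Q a y _ _ sq h hA hQ
  · intro hw U ξ F' fst snd sq
    obtain ⟨h, hA⟩ := ha ξ fst snd sq
    refine ⟨h, hA, ?_⟩
    have sq' : IsPullback fst snd a
        (Groth.Agent.Lib.Helper17.AD.xiOf (Groth.Agent.Lib.Helper17.AD.yOf ξ)) := by
      rw [Groth.Agent.Lib.Helper17.AD.xiOf_yOf]
      exact sq
    obtain ⟨Fsp, e, he, hQ⟩ := hw U (Groth.Agent.Lib.Helper17.AD.yOf ξ)
    obtain ⟨ι, hι⟩ := Groth.Agent.Lib.Helper17.AD.chain_rev a
      (Groth.Agent.Lib.Helper17.AD.yOf ξ) fst snd sq' Fsp.obj e he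
    let ι' : Fsp.obj ≅ (⟨F', h⟩ : AlgSp.Sp S) :=
      { hom := ObjectProperty.homMk ι.hom
        inv := ObjectProperty.homMk ι.inv
        hom_inv_id := by apply ObjectProperty.hom_ext; exact ι.hom_inv_id
        inv_hom_id := by apply ObjectProperty.hom_ext; exact ι.inv_hom_id }
    have hfac : spMapOfOver (BasedFunctor.comp e
        (FibCat.fpFst (Groth.Agent.Lib.Helper17.AD.yOf ξ) (Stk.ofPshMap a))) =
        ι'.hom ≫ (ObjectProperty.homMk snd : (⟨F', h⟩ : AlgSp.Sp S) ⟶ (AlgSp.yon S).obj U) := by
      apply ObjectProperty.hom_ext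
      exact hι.symm
    rw [hfac] at hQ
    haveI : IsIso ι'.hom := ι'.isIso_hom
    exact (Q.cancel_left_of_respectsIso ι'.hom _).mp hQ

end Groth.Agent.S12778
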