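import Groth.Statements.S12793
import Groth.Agent.Lib.Helper98.StkPost
import Groth.Agent.Lib.Helper17.Rep

set_option autoImplicit false
open CategoryTheory
universe w v u
open Stk

namespace Groth.Agent.S12793

/-- If two categories over `C` are equivalent in the 2-category of categories over `C`, then one is a
stack in groupoids for the topology `J` if and only if the other is. -/
theorem result {C : Type u} [Category.{v} C] (J : GrothendieckTopology C) {𝒳 𝒴 : BasedCategory.{v, max u v} C}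
    (F : 𝒳 ⥤ᵇ 𝒴) (hF : FibCat.IsEquivOver F) : Stk.IsStack J 𝒳 ↔ Stk.IsStack J 𝒴 := by
  obtain ⟨G, ⟨e₁⟩, ⟨e₂⟩⟩ := hF
  have hF : FibCat.IsEquivOver F := ⟨G, ⟨e₁⟩, ⟨e₂⟩⟩
  have hG : FibCat.IsEquivOver G := ⟨F, ⟨e₂⟩, ⟨e₁⟩⟩
  constructor
  · rintro ⟨h1, h2⟩
    refine ⟨Groth.Agent.Lib.Helper17.Rep.isFibGrpd_of_isEquivOver G hG h1, ?_⟩
    intro U R hR
    exact Groth.Agent.Lib.Helper98.StkPost.restr_isEquivalence (sieveIncl R) F hF (h2 R hR)
  · rintro ⟨h1, h2⟩
    refine ⟨Groth.Agent.Lib.Helper17.Rep.isFibGrpd_of_isEquivOver F hF h1, ?_⟩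
    intro U R hR
    exact Groth.Agent.Lib.Helper98.StkPost.restr_isEquivalence (sieveIncl R) G hG (h2 R hR)

end Groth.Agent.S12793
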