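import Groth.Statements.S12792
import Groth.Agent.S6401
import Groth.Agent.Lib.Helper17.FibProd
import Groth.Agent.Lib.Helper17.FibGrpd

set_option autoImplicit false
open CategoryTheory
universe w v u
open Stk

namespace Groth.Agent.S12792

open FibCat Groth.Agent.Lib.Helper17

section
universe v₂ u₂ v₃ u₃ v₄ u₄ v₅ u₅ v₆ u₆
variable {C : Type u} [Category.{v} C]
variable {𝒜 : BasedCategory.{v₅, u₅} C} {ℬ : BasedCategory.{v₆, u₆} C}
  {𝒳 : BasedCategory.{v₂, u₂} C} {𝒴 : BasedCategory.{v₃, u₃} C} {𝒮 : BasedCategory.{v₄, u₄} C}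
  (F : 𝒳 ⥤ᵇ 𝒮) (G : 𝒴 ⥤ᵇ 𝒮) (ι : 𝒜 ⥤ᵇ ℬ)

theorem faithful_fp (h𝒳 : (restr ι 𝒳).Faithful) (h𝒴 : (restr ι 𝒴).Faithful) :
    (restr ι (fp F G)).Faithful := by
  constructor
  intro H H' α β hαβ
  have h1 : BasedCategory.whiskerRight α (fpFst F G) =
      BasedCategory.whiskerRight β (fpFst F G) := by
    apply h𝒳.map_injective
    apply BasedNatTrans.homCategory.ext
    ext a
    exact congrArg (fun t => (t.toNatTrans.app a).hom.fst) hαβ
  have h2 : BasedCategory.whiskerRight α (fpSnd F G) =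
      BasedCategory.whiskerRight β (fpSnd F G) := by
    apply h𝒴.map_injective
    apply BasedNatTrans.homCategory.ext
    ext a
    exact congrArg (fun t => (t.toNatTrans.app a).hom.snd) hαβ
  apply BasedNatTrans.homCategory.ext
  refine NatTrans.ext (funext fun b => ?_)
  apply FP.hom_ext
  · exact congrArg (fun t => t.toNatTrans.app b) h1
  · exact congrArg (fun t => t.toNatTrans.app b) h2

theorem full_fp (h𝒳 : (restr ι 𝒳).Full) (h𝒴 : (restr ι 𝒴).Full) (h𝒮 : (restr ι 𝒮).Faithful) :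
    (restr ι (fp F G)).Full := by
  constructor
  intro H H' γ
  obtain ⟨α₁, hα₁⟩ := h𝒳.map_surjective (X := BasedFunctor.comp H (fpFst F G))
    (Y := BasedFunctor.comp H' (fpFst F G)) (BasedCategory.whiskerRight γ (fpFst F G))
  obtain ⟨α₂, hα₂⟩ := h𝒴.map_surjective (X := BasedFunctor.comp H (fpSnd F G))
    (Y := BasedFunctor.comp H' (fpSnd F G)) (BasedCategory.whiskerRight γ (fpSnd F G))
  have e1 : ∀ a, α₁.toNatTrans.app (ι.obj a) = (γ.toNatTrans.app a).hom.fst := fun a =>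
    congrArg (fun t => t.toNatTrans.app a) hα₁
  have e2 : ∀ a, α₂.toNatTrans.app (ι.obj a) = (γ.toNatTrans.app a).hom.snd := fun a =>
    congrArg (fun t => t.toNatTrans.app a) hα₂
  have key : (BasedCategory.whiskerRight α₁ F ≫ BasedCategory.whiskerLeft H' (fpIso F G).hom :
      BasedFunctor.comp H (BasedFunctor.comp (fpFst F G) F) ⟶
        BasedFunctor.comp H' (BasedFunctor.comp (fpSnd F G) G)) =
      BasedCategory.whiskerLeft H (fpIso F G).hom ≫ BasedCategory.whiskerRight α₂ G := by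
    apply h𝒮.map_injective
    apply BasedNatTrans.homCategory.ext
    ext a
    show F.map (α₁.toNatTrans.app (ι.obj a)) ≫ (H'.obj (ι.obj a)).obj.iso.hom =
      (H.obj (ι.obj a)).obj.iso.hom ≫ G.map (α₂.toNatTrans.app (ι.obj a))
    rw [e1, e2]
    exact (γ.toNatTrans.app a).hom.w
  let α : H ⟶ H' :=
    { toNatTrans :=
        { app := fun b => FP.mkHom (α₁.toNatTrans.app b) (α₂.toNatTrans.app b)
            (congrArg (fun t => t.toNatTrans.app b) key)
          naturality := by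
            intro b b' f
            apply FP.hom_ext
            · exact α₁.toNatTrans.naturality f
            · exact α₂.toNatTrans.naturality f }
      isHomLift' := by
        intro b
        rw [FP.isHomLift_iff_fst]
        exact α₁.isHomLift' b }
  refine ⟨α, ?_⟩
  apply BasedNatTrans.homCategory.ext
  refine NatTrans.ext (funext fun a => ?_)
  apply FP.hom_ext
  · exact e1 a
  · exact e2 a

theorem aux {D : Type*} [Category D] {s₁ s₂ s₃ s₄ : D} (p : s₁ ⟶ s₂) (q : s₂ ⟶ s₃)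
    (r : s₃ ⟶ s₄) (r' : s₄ ⟶ s₃) (h : r ≫ r' = 𝟙 _) : p ≫ q = (p ≫ q ≫ r) ≫ r' := by
  simp [h]

theorem isIso_of_fibGrpd {𝒵 : BasedCategory.{v₂, u₂} C} (h𝒵 : IsFibGrpd 𝒵.p) {H H' : 𝒜 ⥤ᵇ 𝒵}
    (α : H ⟶ H') : IsIso α := by
  have : ∀ a, IsIso (α.toNatTrans.app a) := fun a =>
    FG.isIso_of_lift_id h𝒵 (α.toNatTrans.app a) (α.isHomLift' a)
  have : IsIso (X := H.toFunctor) α.toNatTrans := NatIso.isIso_of_isIso_app _
  exact BasedNatIso.isIso_of_toNatTrans_isIso α

theorem essSurj_fp (h𝒫 : IsFibGrpd (fp F G).p) (hg𝒮 : IsFibGrpd 𝒮.p)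
    (h𝒳 : (restr ι 𝒳).EssSurj) (h𝒴 : (restr ι 𝒴).EssSurj)
    (h𝒮 : (restr ι 𝒮).Full) :
    (restr ι (fp F G)).EssSurj := by
  constructor
  intro K
  obtain ⟨H₁, ⟨θ₁⟩⟩ := h𝒳.mem_essImage (BasedFunctor.comp K (fpFst F G))
  obtain ⟨H₂, ⟨θ₂⟩⟩ := h𝒴.mem_essImage (BasedFunctor.comp K (fpSnd F G))
  let ε : (restr ι 𝒮).obj (BasedFunctor.comp H₁ F) ⟶ (restr ι 𝒮).obj (BasedFunctor.comp H₂ G) :=
    (BasedCategory.whiskerRight θ₁.hom F ≫ BasedCategory.whiskerLeft K (fpIso F G).hom ≫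
      BasedCategory.whiskerRight θ₂.inv G :
      BasedFunctor.comp (BasedFunctor.comp ι H₁) F ⟶ BasedFunctor.comp (BasedFunctor.comp ι H₂) G)
  obtain ⟨e, he⟩ := h𝒮.map_surjective ε
  have : IsIso e := isIso_of_fibGrpd hg𝒮 e
  let H : ℬ ⥤ᵇ fp F G := fpLift H₁ H₂ (asIso e)
  have hH : ∀ a, (H.obj (ι.obj a)).obj.iso.hom =
      F.map (θ₁.hom.toNatTrans.app a) ≫ (K.obj a).obj.iso.hom ≫ G.map (θ₂.inv.toNatTrans.app a) :=
    fun a => congrArg (fun t => t.toNatTrans.app a) he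
  have hθ₂ : ∀ a, θ₂.inv.toNatTrans.app a ≫ θ₂.hom.toNatTrans.app a = 𝟙 _ := fun a =>
    congrArg (fun t => t.toNatTrans.app a) θ₂.inv_hom_id
  have hG : ∀ a, G.map (θ₂.inv.toNatTrans.app a) ≫ G.map (θ₂.hom.toNatTrans.app a) = 𝟙 _ :=
    fun a => (G.toFunctor.map_comp _ _).symm.trans
      ((congrArg G.toFunctor.map (hθ₂ a)).trans (G.toFunctor.map_id _))
  let φ : (restr ι (fp F G)).obj H ⟶ K :=
    { toNatTrans :=
        { app := fun a => FP.mkHom (z := H.obj (ι.obj a)) (z' := K.obj a)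
            (θ₁.hom.toNatTrans.app a) (θ₂.hom.toNatTrans.app a)
            ((aux (F.map (θ₁.hom.toNatTrans.app a)) (K.obj a).obj.iso.hom
              (G.map (θ₂.inv.toNatTrans.app a)) (G.map (θ₂.hom.toNatTrans.app a)) (hG a)).trans
              (congrArg (fun t => t ≫ G.map (θ₂.hom.toNatTrans.app a)) (hH a).symm))
          naturality := by
            intro a a' f
            apply FP.hom_ext
            · exact θ₁.hom.toNatTrans.naturality f
            · exact θ₂.hom.toNatTrans.naturality f }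
      isHomLift' := by
        intro a
        rw [FP.isHomLift_iff_fst]
        exact θ₁.hom.isHomLift' a }
  have : IsIso φ := isIso_of_fibGrpd h𝒫 φ
  exact ⟨H, ⟨asIso φ⟩⟩

end


/-- For categories `𝒳`, `𝒴` over `C` that are stacks in groupoids for the topology `J`, a category `𝒮`
over `C` that is a prestack in groupoids for `J`, and functors `F : 𝒳 ⟶ 𝒮`, `G : 𝒴 ⟶ 𝒮` over `C`,
the 2-fibre product `𝒳 ×_𝒮 𝒴` over `C` is a stack in groupoids for `J`. (The published statement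
takes `𝒮` a stack in groupoids as well; its proof uses only that morphisms of `𝒮` glue uniquely,
which is the hypothesis made here.) -/
theorem result {C : Type u} [Category.{v} C] (J : GrothendieckTopology C) {𝒳 𝒴 𝒮 : BasedCategory.{v, max u v} C}
    (F : 𝒳 ⥤ᵇ 𝒮) (G : 𝒴 ⥤ᵇ 𝒮) (h𝒳 : Stk.IsStack J 𝒳) (h𝒴 : Stk.IsStack J 𝒴) (h𝒮 : Stk.IsPrestack J 𝒮) :
    Stk.IsStack J (FibCat.fp F G) := by
  obtain ⟨gx, sx⟩ := h𝒳
  obtain ⟨gy, sy⟩ := h𝒴
  obtain ⟨gs, ss⟩ := h𝒮
  have gp := Groth.Agent.S6401.result F G gx gy gs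
  refine ⟨gp, ?_⟩
  intro U R hR
  have ex : (restr (sieveIncl R) 𝒳).IsEquivalence := sx R hR
  have ey : (restr (sieveIncl R) 𝒴).IsEquivalence := sy R hR
  obtain ⟨fs, ffs⟩ := ss R hR
  have h1 := faithful_fp F G (sieveIncl R) ex.faithful ey.faithful
  have h2 := full_fp F G (sieveIncl R) ex.full ey.full ffs
  have h3 := essSurj_fp F G (sieveIncl R) gp gs ex.essSurj ey.essSurj fs
  exact { faithful := h1, full := h2, essSurj := h3 }

end Groth.Agent.S12792
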