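import Groth.Statements.S12782
import Groth.Agent.Lib.Helper17.AlgStTransfer
import Groth.Agent.Lib.Helper17.FpInvariance

set_option autoImplicit false
open CategoryTheory AlgebraicGeometry
universe u
open AlgSt

namespace Groth.Agent.S12782

open Groth.Agent.Lib.Helper17 Groth.Agent.Lib.Helper17.FI Groth.Agent.Lib.Helper17.EO
  Groth.Agent.Lib.Helper17.AT

theorem fwd {S : Scheme.{u}} {𝒳 𝒴 𝒳' 𝒴' : AlgSt.Cat S}
    (P : MorphismProperty (AlgSp.Sp S)) (f : 𝒳 ⥤ᵇ 𝒴) (f' : 𝒳' ⥤ᵇ 𝒴') (a : 𝒳' ⥤ᵇ 𝒳) (b : 𝒴' ⥤ᵇ 𝒴)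
    (ha : FibCat.IsEquivOver a) (hb : FibCat.IsEquivOver b)
    (e : BasedFunctor.comp f' b ≅ BasedFunctor.comp a f) (hf : AlgSt.RepByAlgSpWith P f) :
    AlgSt.RepByAlgSpWith P f' := by
  intro U y'
  exact transfer_inv P (sq a b f f' y' (compApp e) (compApp_nat e) (compApp_lift e))
    (sq_isEquivOver a b f f' y' (compApp e) (compApp_nat e) (compApp_lift e) ha hb)
    (FibCat.fpFst y' f') (FibCat.fpFst (BasedFunctor.comp y' b) f) rfl
    (hf U (BasedFunctor.comp y' b))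

theorem bwd {S : Scheme.{u}} {𝒳 𝒴 𝒳' 𝒴' : AlgSt.Cat S}
    (P : MorphismProperty (AlgSp.Sp S)) (f : 𝒳 ⥤ᵇ 𝒴) (f' : 𝒳' ⥤ᵇ 𝒴') (a : 𝒳' ⥤ᵇ 𝒳) (b : 𝒴' ⥤ᵇ 𝒴)
    (ha : FibCat.IsEquivOver a) (hb : FibCat.IsEquivOver b)
    (e : BasedFunctor.comp f' b ≅ BasedFunctor.comp a f) (hf' : AlgSt.RepByAlgSpWith P f') :
    AlgSt.RepByAlgSpWith P f := by
  intro U y
  obtain ⟨b', ⟨e₁⟩, ⟨e₂⟩⟩ := id hb
  have h1 := transfer_fwd P (sq a b f f' (BasedFunctor.comp y b') (compApp e) (compApp_nat e)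
        (compApp_lift e))
      (sq_isEquivOver a b f f' (BasedFunctor.comp y b') (compApp e) (compApp_nat e)
        (compApp_lift e) ha hb)
      (FibCat.fpFst (BasedFunctor.comp y b') f')
      (FibCat.fpFst (BasedFunctor.comp (BasedFunctor.comp y b') b) f) rfl
      (hf' U (BasedFunctor.comp y b'))
  have hl : ∀ w : (FibCat.overCat U).obj, 𝒴.p.IsHomLift (𝟙 ((FibCat.overCat U).p.obj w))
      (compApp e₂ (y.obj w)).hom := by
    intro w
    have := compApp_lift e₂ (y.obj w)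
    rw [y.w_obj] at this
    exact this
  exact transfer_inv P
    (tw y (BasedFunctor.comp (BasedFunctor.comp y b') b) f (fun w => compApp e₂ (y.obj w))
      (fun α => compApp_nat e₂ (y.map α)) hl)
    (tw_isEquivOver y (BasedFunctor.comp (BasedFunctor.comp y b') b) f
      (fun w => compApp e₂ (y.obj w)) (fun α => compApp_nat e₂ (y.map α)) hl)
    (FibCat.fpFst y f) (FibCat.fpFst (BasedFunctor.comp (BasedFunctor.comp y b') b) f) rfl h1

/-- Consider a 2-commutative square of 1-morphisms of categories fibred in groupoids over `(Sch/S)` with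
vertical arrows `f' : 𝒳' ⟶ 𝒴'`, `f : 𝒳 ⟶ 𝒴` and horizontal arrows equivalences over `(Sch/S)`. Then
`f` is representable by algebraic spaces with property `P` if and only if `f'` is. (The published
statement assumes `P` stable under base change and fppf local on the base; this row holds for every
property `P`.) -/
theorem result {S : Scheme.{u}} {𝒳 𝒴 𝒳' 𝒴' : AlgSt.Cat S}
    (h𝒳 : FibCat.IsFibGrpd 𝒳.p) (h𝒴 : FibCat.IsFibGrpd 𝒴.p) (h𝒳' : FibCat.IsFibGrpd 𝒳'.p) (h𝒴' : FibCat.IsFibGrpd 𝒴'.p)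
    (P : MorphismProperty (AlgSp.Sp S)) (f : 𝒳 ⥤ᵇ 𝒴) (f' : 𝒳' ⥤ᵇ 𝒴') (a : 𝒳' ⥤ᵇ 𝒳) (b : 𝒴' ⥤ᵇ 𝒴)
    (ha : FibCat.IsEquivOver a) (hb : FibCat.IsEquivOver b) (e : BasedFunctor.comp f' b ≅ BasedFunctor.comp a f) :
    AlgSt.RepByAlgSpWith P f ↔ AlgSt.RepByAlgSpWith P f' := by
  exact ⟨fwd P f f' a b ha hb e, bwd P f f' a b ha hb e⟩

end Groth.Agent.S12782
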