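import Groth.Statements.S12770
import Groth.Agent.Lib.Helper72.SelfProdEquiv
import Groth.Agent.S12782
import Groth.Agent.S12793

set_option autoImplicit false
open CategoryTheory AlgebraicGeometry
universe u
open AlgSt

namespace Groth.Agent.S12770

open Groth.Agent.Lib.Helper72.SelfProdEquiv Groth.Agent.Lib.Helper17.EO

theorem repByAlgSp1_iff_top {S : Scheme.{u}} {𝒳 𝒴 : AlgSt.Cat S} (f : 𝒳 ⥤ᵇ 𝒴) :
    AlgSt.RepByAlgSp1 f ↔ AlgSt.RepByAlgSpWith ⊤ f := by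
  constructor
  · intro h U y
    obtain ⟨F, e, he⟩ := h U y
    exact ⟨F, e, he, trivial⟩
  · intro h U y
    obtain ⟨F, e, he, -⟩ := h U y
    exact ⟨F, e, he⟩

/-- transport of an atlas along an equivalence -/
theorem hasAtlas_of_isEquivOver {S : Scheme.{u}} {𝒳 𝒴 : AlgSt.Cat S} (e : 𝒳 ⥤ᵇ 𝒴)
    (he : FibCat.IsEquivOver e) (P : MorphismProperty (AlgSp.Sp S)) (h : AlgSt.HasAtlas P 𝒳) :
    AlgSt.HasAtlas P 𝒴 := by
  obtain ⟨U, x, hx1, hx2⟩ := h
  have key : ∀ Q : MorphismProperty (AlgSp.Sp S), AlgSt.RepByAlgSpWith Q x →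
      AlgSt.RepByAlgSpWith Q (BasedFunctor.comp x e) := fun Q hQ =>
    Groth.Agent.S12782.bwd Q (BasedFunctor.comp x e) x (BasedFunctor.id _) e
      (isEquivOver_id _) he (Iso.refl _) hQ
  exact ⟨U, BasedFunctor.comp x e, key _ hx1, key _ hx2⟩

theorem isAlgStack_of_isEquivOver {S : Scheme.{u}} {𝒳 𝒴 : AlgSt.Cat S} (e : 𝒳 ⥤ᵇ 𝒴)
    (he : FibCat.IsEquivOver e) (h : AlgSt.IsAlgStack Scheme.fppfPrecoverage 𝒳) :
    AlgSt.IsAlgStack Scheme.fppfPrecoverage 𝒴 where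
  isStack := (Groth.Agent.S12793.result _ e he).mp h.isStack
  diag := by
    rw [repByAlgSp1_iff_top]
    exact Groth.Agent.S12782.bwd ⊤ (FibCat.diag (FibCat.toSelf 𝒴)) (FibCat.diag (FibCat.toSelf 𝒳))
      e (prodMap e) he (prodMap_isEquivOver e he) (diagIso e) ((repByAlgSp1_iff_top _).mp h.diag)
  atlas := hasAtlas_of_isEquivOver e he _ h.atlas

/-- If `𝒳` and `𝒴` are categories over `(Sch/S)` which are equivalent over `(Sch/S)`, then `𝒳` is an
algebraic stack over `S` if and only if `𝒴` is. -/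
theorem result {S : Scheme.{u}} {𝒳 𝒴 : AlgSt.Cat S}
    (e : 𝒳 ⥤ᵇ 𝒴) (he : FibCat.IsEquivOver e) :
    AlgSt.IsAlgStack Scheme.fppfPrecoverage 𝒳 ↔ AlgSt.IsAlgStack Scheme.fppfPrecoverage 𝒴 := by
  constructor
  · exact isAlgStack_of_isEquivOver e he
  · obtain ⟨G, hG⟩ := isEquivOver_inv e he
    exact isAlgStack_of_isEquivOver G hG

end Groth.Agent.S12770
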