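import Groth.Statements.S12767
import Groth.Statements.S12767
import Groth.Agent.S12792
import Groth.Agent.S12793
import Groth.Agent.S12776
import Groth.Agent.Lib.Helper17.SpStack

set_option autoImplicit false
open CategoryTheory AlgebraicGeometry
universe u
open AlgSt

namespace Groth.Agent.S12767

section Aux
open CategoryTheory AlgebraicGeometry
open AlgSt


open FibCat Stk Groth.Agent.Lib.Helper17

section
universe v₂ u₂ v₃ u₃ v₅ u₅ v₆ u₆ v u'
variable {C : Type u'} [Category.{v} C]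
variable {𝒜 : BasedCategory.{v₅, u₅} C} {ℬ : BasedCategory.{v₆, u₆} C}
  {𝒳 : BasedCategory.{v₂, u₂} C} {𝒴 : BasedCategory.{v₃, u₃} C}
  (j : 𝒳 ⥤ᵇ 𝒴) (ι : 𝒜 ⥤ᵇ ℬ)

theorem isHomLift_id_of_eq {A : Type*} {B : Type*} [Category A] [Category B] (p : A ⥤ B) (x : A) (X : B)
    (h : p.obj x = X) : p.IsHomLift (𝟙 X) (𝟙 x) := by
  subst h; infer_instance

theorem faithful_of (hj : j.toFunctor.Faithful) (h𝒴 : (restr ι 𝒴).Faithful) :
    (restr ι 𝒳).Faithful := by
  constructor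
  intro H H' α β hαβ
  have h1 : BasedCategory.whiskerRight α j = BasedCategory.whiskerRight β j := by
    apply h𝒴.map_injective
    apply BasedNatTrans.homCategory.ext
    ext a
    exact congrArg (fun t => j.map (t.toNatTrans.app a)) hαβ
  apply BasedNatTrans.homCategory.ext
  refine NatTrans.ext (funext fun b => ?_)
  apply hj.map_injective
  exact congrArg (fun t => t.toNatTrans.app b) h1

theorem full_of (h𝒴g : IsFibGrpd 𝒴.p) (h𝒴 : (restr ι 𝒴).Full)
    (h𝒫 : ∀ η : ℬ ⥤ᵇ 𝒴, (restr ι (fp η j)).Full) :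
    (restr ι 𝒳).Full := by
  constructor
  intro H H' γ
  obtain ⟨φ, hφ⟩ := h𝒴.map_surjective (X := BasedFunctor.comp H j)
    (Y := BasedFunctor.comp H' j) (BasedCategory.whiskerRight γ j)
  have hφ' : ∀ a, φ.toNatTrans.app (ι.obj a) = j.map (γ.toNatTrans.app a) := fun a =>
    congrArg (fun t => t.toNatTrans.app a) hφ
  have : IsIso φ := Groth.Agent.S12792.isIso_of_fibGrpd h𝒴g φ
  let η : ℬ ⥤ᵇ 𝒴 := BasedFunctor.comp H' j
  let s₁ : ℬ ⥤ᵇ fp η j := fpLift (BasedFunctor.id ℬ) H' (Iso.refl _)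
  let s₂ : ℬ ⥤ᵇ fp η j := fpLift (BasedFunctor.id ℬ) H (asIso φ).symm
  have hinv : ∀ b, (inv φ).toNatTrans.app b ≫ φ.toNatTrans.app b = 𝟙 _ := fun b =>
    congrArg (fun t => t.toNatTrans.app b) (IsIso.inv_hom_id φ)
  let Γ : (restr ι (fp η j)).obj s₂ ⟶ (restr ι (fp η j)).obj s₁ :=
    { toNatTrans :=
        { app := fun a => FP.mkHom (z := s₂.obj (ι.obj a)) (z' := s₁.obj (ι.obj a))
            (𝟙 (ι.obj a)) (γ.toNatTrans.app a) (by
              show η.map (𝟙 (ι.obj a)) ≫ 𝟙 _ = (inv φ).toNatTrans.app (ι.obj a) ≫ j.map (γ.toNatTrans.app a)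
              have e : (inv φ).toNatTrans.app (ι.obj a) ≫ j.map (γ.toNatTrans.app a) = 𝟙 _ :=
                (congrArg (fun t => (inv φ).toNatTrans.app (ι.obj a) ≫ t) (hφ' a)).symm.trans (hinv _)
              refine Eq.trans ?_ e.symm
              simp
              rfl)
          naturality := by
            intro a a' f
            apply FP.hom_ext
            · show ι.map f ≫ 𝟙 _ = 𝟙 _ ≫ ι.map f
              simp
            · exact γ.toNatTrans.naturality f }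
      isHomLift' := by
        intro a
        rw [FP.isHomLift_iff_fst]
        exact isHomLift_id_of_eq ℬ.p (ι.obj a) _ (ι.w_obj a) }
  obtain ⟨Γ', hΓ'⟩ := (h𝒫 η).map_surjective Γ
  refine ⟨BasedCategory.whiskerRight Γ' (fpSnd η j), ?_⟩
  apply BasedNatTrans.homCategory.ext
  refine NatTrans.ext (funext fun a => ?_)
  exact congrArg (fun t => (t.toNatTrans.app a).hom.snd) hΓ'

theorem essSurj_of (h𝒳g : IsFibGrpd 𝒳.p) (h𝒴 : (restr ι 𝒴).EssSurj)
    (h𝒫 : ∀ η : ℬ ⥤ᵇ 𝒴, (restr ι (fp η j)).EssSurj) :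
    (restr ι 𝒳).EssSurj := by
  constructor
  intro K
  obtain ⟨η, ⟨θ⟩⟩ := h𝒴.mem_essImage (BasedFunctor.comp K j)
  let t : 𝒜 ⥤ᵇ fp η j := fpLift ι K (θ : BasedFunctor.comp ι η ≅ BasedFunctor.comp K j)
  obtain ⟨s, ⟨ψ⟩⟩ := (h𝒫 η).mem_essImage t
  let H : ℬ ⥤ᵇ 𝒳 := BasedFunctor.comp s (fpSnd η j)
  let φ : (restr ι 𝒳).obj H ⟶ K :=
    { toNatTrans :=
        { app := fun a => (ψ.hom.toNatTrans.app a).hom.snd
          naturality := by
            intro a a' f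
            exact congrArg (fun t => t.hom.snd) (ψ.hom.toNatTrans.naturality f) }
      isHomLift' := by
        intro a
        exact FP.isHomLift_snd _ _ (ψ.hom.isHomLift' a) }
  have : IsIso φ := Groth.Agent.S12792.isIso_of_fibGrpd h𝒳g φ
  exact ⟨H, ⟨asIso φ⟩⟩

end

theorem main {S : Scheme.{u}} {𝒳 𝒴 : AlgSt.Cat S}
    (h𝒳 : FibCat.IsFibGrpd 𝒳.p) (h𝒴 : Stk.IsStack (QuotSh.J Scheme.fppfPrecoverage S) 𝒴)
    (j : 𝒳 ⥤ᵇ 𝒴) (hj : AlgSt.RepByAlgSp1 j) :
    Stk.IsStack (QuotSh.J Scheme.fppfPrecoverage S) 𝒳 := by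
  obtain ⟨gy, sy⟩ := h𝒴
  refine ⟨h𝒳, ?_⟩
  intro U R hR
  have ey : (restr (sieveIncl R) 𝒴).IsEquivalence := sy R hR
  have hP : ∀ η : FibCat.overCat U ⥤ᵇ 𝒴, (restr (sieveIncl R) (fp η j)).IsEquivalence := by
    intro η
    obtain ⟨F, e, he⟩ := hj U η
    have h1 : Stk.IsStack (QuotSh.J Scheme.fppfPrecoverage S) (fp η j) :=
      (Groth.Agent.S12793.result _ e he).mp (SPS.isStack_ofSp F.obj)
    exact h1.2 R hR
  have hjf := Groth.Agent.S12776.result h𝒳 gy j hj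
  have h1 := faithful_of j (sieveIncl R) hjf ey.faithful
  have h2 := full_of j (sieveIncl R) gy ey.full (fun η => (hP η).full)
  have h3 := essSurj_of j (sieveIncl R) h𝒳 ey.essSurj (fun η => (hP η).essSurj)
  exact { faithful := h1, full := h2, essSurj := h3 }


end Aux

/-- Take categories `𝒳` and `𝒴` fibred in groupoids over `(Sch/S)` and a 1-morphism `j : 𝒳 ⟶ 𝒴` between
them which is representable by algebraic spaces. If `𝒴` is a stack in groupoids (fppf topology),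
then so is `𝒳`. -/
theorem result {S : Scheme.{u}} {𝒳 𝒴 : AlgSt.Cat S}
    (h𝒳 : FibCat.IsFibGrpd 𝒳.p) (h𝒴 : Stk.IsStack (QuotSh.J Scheme.fppfPrecoverage S) 𝒴)
    (j : 𝒳 ⥤ᵇ 𝒴) (hj : AlgSt.RepByAlgSp1 j) :
    Stk.IsStack (QuotSh.J Scheme.fppfPrecoverage S) 𝒳 := by
  exact main h𝒳 h𝒴 j hj

end Groth.Agent.S12767
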