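import Groth.Statements.S12768
import Groth.Statements.S12768
import Groth.Agent.S12767
import Groth.Agent.Lib.Helper17.AlgStFp
import Groth.Agent.Lib.Helper17.SectionUnr
import Groth.Agent.Lib.Helper17.SpStack
import Groth.Agent.Lib.Helper30.EtLocalInst

set_option autoImplicit false
open CategoryTheory AlgebraicGeometry
universe u
open AlgSt

namespace Groth.Agent.S12768

section Aux
open CategoryTheory AlgebraicGeometry
open AlgSt


open CategoryTheory.Limits Opposite AlgSp FibCat Stk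
open Groth.Agent.Lib.Helper17 Groth.Agent.Lib.Helper17.FP Groth.Agent.Lib.Helper17.EO
  Groth.Agent.Lib.Helper17.PD Groth.Agent.Lib.Helper17.AT Groth.Agent.Lib.Helper17.AB
  Groth.Agent.Lib.Helper17.AOS Groth.Agent.Lib.Helper17.ACP Groth.Agent.Lib.Helper17.AFP
open Groth.Agent.Lib.Helper46 Groth.Agent.Lib.Helper46.LocPChart

theorem main {S : Scheme.{u}} {𝒳 𝒴 : AlgSt.Cat S}
    (h𝒳 : FibCat.IsFibGrpd 𝒳.p) (h𝒴 : AlgSt.IsAlgStack Scheme.fppfPrecoverage 𝒴)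
    (j : 𝒳 ⥤ᵇ 𝒴) (hj : AlgSt.RepByAlgSp1 j) :
    AlgSt.IsAlgStack Scheme.fppfPrecoverage 𝒳 := by
  have hY := h𝒴.isStack.1
  have hO : FibCat.IsFibGrpd (FibCat.selfOver (Over S)).p := SP.isFibGrpd_selfOver
  refine ⟨Groth.Agent.S12767.result h𝒳 h𝒴.isStack j hj, ?_, ?_⟩
  · have hΔj : AlgSt.RepByAlgSpWith ⊤ (FibCat.diag j) := by
      have h0 := SEC.repWith_diag_of_rep1 (S := S) (@LocallyOfFiniteType)
        Groth.Agent.Lib.Helper30.EtLocalInst.etLocal_lft (fun _ _ _ _ h => h) j hj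
      intro U y
      obtain ⟨F, e, he, -⟩ := h0 U y
      exact ⟨F, e, he, trivial⟩
    have h1 := DC.repWith_diag_comp h𝒳 hO ⊤ DCN.top_bc DCN.top_cp DCN.top_schLocal
      j (FibCat.toSelf 𝒴) hΔj ((rep1_iff_top _).mp h𝒴.diag)
    have e : BasedFunctor.comp j (FibCat.toSelf 𝒴) = FibCat.toSelf 𝒳 :=
      DR.basedFunctor_ext j.w
    rw [e] at h1
    exact (rep1_iff_top _).mpr h1
  · obtain ⟨V, y, hys, hysurj⟩ := h𝒴.atlas
    obtain ⟨R, e, he⟩ := hj V y
    obtain ⟨W, q, -, hqs, hqsurj⟩ := SPS.exists_etale_chart R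
    have hWf : FibCat.IsFibGrpd (FibCat.overCat W).p := FG.isFibGrpd_overForget W
    have hm₁ := AB.repWith_fpSnd _ y j hys
    have hm₂ := AB.repWith_fpSnd _ y j hysurj
    refine ⟨W, BasedFunctor.comp q (BasedFunctor.comp e (FibCat.fpSnd y j)), ?_, ?_⟩
    · exact repWith_comp_of_schLocal' hWf h𝒳 _ sm_bc sm_cp
        (ACov.schLocal_of_isLocalOnBase _ sm_local) q _ hqs
        (FD.repWith_precomp_equiv _ e he _ hm₁)
    · exact repWith_comp_of_schLocal' hWf h𝒳 _ DL.surj_bc DL.surj_cp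
        (ACov.schLocal_of_isLocalOnBase _ SD.isLocalOnBase_isSurjectiveMor) q _ hqsurj
        (FD.repWith_precomp_equiv _ e he _ hm₂)


end Aux

/-- Take categories `𝒳` and `𝒴` fibred in groupoids over `(Sch/S)` and a 1-morphism `j : 𝒳 ⟶ 𝒴` between
them which is representable by algebraic spaces. If `𝒴` is an algebraic stack over `S`, then so is
`𝒳`. -/
theorem result {S : Scheme.{u}} {𝒳 𝒴 : AlgSt.Cat S}
    (h𝒳 : FibCat.IsFibGrpd 𝒳.p) (h𝒴 : AlgSt.IsAlgStack Scheme.fppfPrecoverage 𝒴)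
    (j : 𝒳 ⥤ᵇ 𝒴) (hj : AlgSt.RepByAlgSp1 j) :
    AlgSt.IsAlgStack Scheme.fppfPrecoverage 𝒳 := by
  exact main h𝒳 h𝒴 j hj

end Groth.Agent.S12768
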