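import Groth.Statements.S9936
import Mathlib.Tactic
-- import your own Groth.Agent.* helpers here

set_option autoImplicit false
universe u
open CategoryTheory CategoryTheory.Limits AlgebraicGeometry
open AlgSp

namespace Groth.Agent.S9936

/-- Closed immersions between algebraic spaces are quasi-compact morphisms. -/
theorem result {S : Scheme.{u}} {X Y : AlgSp.Space S} (f : X ⟶ Y)
    (hf : AlgSp.RepWith @IsClosedImmersion f.hom) : AlgSp.IsQuasiCompactMor f.hom := by
  intro Z Z' hZ hqc g fst snd sq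
  obtain ⟨W, p, hpe, hps, hW⟩ := hqc
  -- pull back f along p ≫ g
  have hcl : IsClosedImmersion (hf.rep.snd (p ≫ g)).left := hf.property_snd (p ≫ g)
  have hpb := hf.rep.isPullback (p ≫ g)
  -- the induced map to Z'
  let q : (AlgSp.yon S).obj (hf.rep.pullback (p ≫ g)) ⟶ Z' :=
    sq.lift (hf.rep.fst (p ≫ g)) ((AlgSp.yon S).map (hf.rep.snd (p ≫ g)) ≫ p)
      (by rw [hpb.w, Category.assoc])
  have hq1 : q ≫ fst = hf.rep.fst (p ≫ g) := sq.lift_fst _ _ _
  have hq2 : q ≫ snd = (AlgSp.yon S).map (hf.rep.snd (p ≫ g)) ≫ p := sq.lift_snd _ _ _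
  have hleft : IsPullback q ((AlgSp.yon S).map (hf.rep.snd (p ≫ g))) snd p := by
    refine IsPullback.of_right ?_ hq2 sq
    rw [hq1]
    exact hpb
  refine ⟨hf.rep.pullback (p ≫ g), q, ?_, ?_, ?_⟩
  · exact MorphismProperty.of_isPullback hleft.flip hpe
  · exact MorphismProperty.of_isPullback hleft.flip hps
  · have : Topology.IsClosedEmbedding (hf.rep.snd (p ≫ g)).left := (hf.rep.snd (p ≫ g)).left.isClosedEmbedding
    exact this.compactSpace

end Groth.Agent.S9936
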