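import Groth.Statements.S9937
import Mathlib.Tactic
-- import your own Groth.Agent.* helpers here

set_option autoImplicit false
universe u
open CategoryTheory CategoryTheory.Limits AlgebraicGeometry
open AlgSp

namespace Groth.Agent.S9937

/-- representable-with-P morphisms with P ≤ monomorphisms are monomorphisms of sheaves -/
theorem mono_of_repWith {S : Scheme.{u}} {X Y : AlgSp.Sp S} (f : X ⟶ Y) (P : MorphismProperty Scheme.{u})
    (hP : ∀ {A B : Scheme.{u}} (g : A ⟶ B), P g → Mono g)
    (hf : AlgSp.RepWith P f) : Mono f := by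
  have key : ∀ {U : Over S} {a b : (AlgSp.yon S).obj U ⟶ X}, a ≫ f = b ≫ f → a = b := by
    intro U a b h
    have hmono : Mono (hf.rep.snd (a ≫ f)) := by
      have : Mono (hf.rep.snd (a ≫ f)).left := hP _ (hf.property_snd (a ≫ f))
      exact Over.mono_of_mono_left _
    have e : hf.rep.lift (g := a ≫ f) a (𝟙 U) (by simp) =
        hf.rep.lift b (𝟙 U) (by simp [← h]) := by
      simp only [← cancel_mono (hf.rep.snd (a ≫ f)), Functor.relativelyRepresentable.lift_snd]
    simpa using (AlgSp.yon S).congr_map e =≫ (hf.rep.fst (a ≫ f))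
  refine ⟨fun {Z} a b h => ?_⟩
  apply Sheaf.hom_ext
  ext T z
  have := key (a := (AlgSp.J S).uliftYonedaEquiv.symm z ≫ a) (b := (AlgSp.J S).uliftYonedaEquiv.symm z ≫ b)
    (by simp only [Category.assoc, h])
  have h2 := congrArg (AlgSp.J S).uliftYonedaEquiv this
  rw [GrothendieckTopology.uliftYonedaEquiv_comp, GrothendieckTopology.uliftYonedaEquiv_comp,
    Equiv.apply_symm_apply] at h2
  exact h2

/-- isomorphisms are representable with `P` when `P` contains identities -/
theorem repWith_of_isIso {S : Scheme.{u}} {X Y : AlgSp.Sp S} (f : X ⟶ Y) [IsIso f]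
    (P : MorphismProperty Scheme.{u}) [P.RespectsIso] (hP : ∀ A : Scheme.{u}, P (𝟙 A)) :
    AlgSp.RepWith P f := by
  apply MorphismProperty.relative.of_exists
  intro T g
  refine ⟨T, g ≫ inv f, 𝟙 T, ?_, hP _⟩
  rw [CategoryTheory.Functor.map_id]
  exact IsPullback.of_vert_isIso ⟨by simp⟩


/-- Closed immersions between algebraic spaces are separated morphisms. -/
theorem result {S : Scheme.{u}} {X Y : AlgSp.Space S} (f : X ⟶ Y)
    (hf : AlgSp.RepWith @IsClosedImmersion f.hom) : AlgSp.IsSeparatedMor f.hom := by
  have hm : Mono f.hom := mono_of_repWith f.hom @IsClosedImmersion (fun g hg => by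
    have : IsClosedImmersion g := hg
    infer_instance) hf
  have : IsIso (pullback.diagonal f.hom) := inferInstance
  exact repWith_of_isIso _ _ (fun A => (inferInstance : IsClosedImmersion (𝟙 A)))

end Groth.Agent.S9937
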