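import Groth.Statements.S9953
import Groth.Agent.Lib.Helper79.AlgSpChart
import Mathlib.AlgebraicGeometry.Morphisms.Immersion

set_option autoImplicit false
universe u
open CategoryTheory CategoryTheory.Limits AlgebraicGeometry
open AlgSp

namespace Groth.Agent.S9953

/-- An immersion of algebraic spaces is locally of finite type. -/
theorem result {S : Scheme.{u}} {X Y : AlgSp.Space S} (f : X ⟶ Y)
    (hf : AlgSp.RepWith @IsImmersion f.hom) : AlgSp.LocP @LocallyOfFiniteType f.hom := by
  intro U V a b k ha hb comm
  obtain ⟨W, fst, snd, sq, himm⟩ :=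
    Groth.Agent.Lib.Helper79.AlgSpChart.exists_pullback @IsImmersion hf b
  have hfst : AlgSp.RepWith @Etale fst := (AlgSp.RepWith @Etale).of_isPullback sq.flip hb
  have h1 : (AlgSp.yon S).map ((AlgSp.yon S).preimage (sq.lift a ((AlgSp.yon S).map k) comm)) ≫ fst = a := by
    rw [Functor.map_preimage, sq.lift_fst]
  have h2 : (AlgSp.yon S).preimage (sq.lift a ((AlgSp.yon S).map k) comm) ≫ snd = k := by
    apply (AlgSp.yon S).map_injective
    rw [Functor.map_comp, Functor.map_preimage, sq.lift_snd]
  have hs : Etale ((AlgSp.yon S).preimage (sq.lift a ((AlgSp.yon S).map k) comm)).left :=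
    Groth.Agent.Lib.Helper79.AlgSpChart.etale_of_chart_map a fst ha hfst _ h1
  haveI : IsImmersion snd.left := himm
  have h3 : k.left = ((AlgSp.yon S).preimage (sq.lift a ((AlgSp.yon S).map k) comm)).left ≫ snd.left := by
    rw [← Over.comp_left, h2]
  rw [h3]
  infer_instance

end Groth.Agent.S9953
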