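import Groth.Statements.S9057
import Groth.Agent.Lib.Helper12.KFlat
import Groth.Agent.Lib.Helper42.Flat2

set_option autoImplicit false
universe u
open CategoryTheory CategoryTheory.Limits Opposite
attribute [local instance] HasDerivedCategory.standard
open ModSite

namespace Groth.Agent.S9057

open Groth.Agent.Lib.Helper12.KFlat Groth.Agent.Lib.Helper42.Flat Groth.Agent.Lib.Helper42.Flat2
  Groth.Agent.Lib.Helper42.TensorColim

theorem shortExact_tensL_of_flat {C : Type u} [SmallCategory C] {J : GrothendieckTopology C}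
    (O : Sheaf J CommRingCat.{u}) (S : ShortComplex (ModSite.Mod O)) (hS : S.ShortExact)
    (hF : ModSite.IsFlat S.X₃) (G : ModSite.Mod O) :
    (S.map ((ModSite.tensorBi O).obj G)).ShortExact := by
  have h := shortExact_map_tensR_of_flat O S hS hF G
  exact ShortComplex.shortExact_of_iso (S.mapNatIso (tensLRIso O G).symm) h

theorem shortExact_tensorCx {C : Type u} [SmallCategory C] {J : GrothendieckTopology C}
    (O : Sheaf J CommRingCat.{u})
    (S : ShortComplex (CochainComplex (ModSite.Mod O) ℤ)) (hS : S.ShortExact)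
    (h3 : ∀ n : ℤ, ModSite.IsFlat (S.X₃.X n)) (F : CochainComplex (ModSite.Mod O) ℤ) :
    (S.map ((tensorCx O).obj F)).ShortExact := by
  apply shortExact_map_tensorCx_obj
  intro p q
  have hq : (S.map (HomologicalComplex.eval _ _ q)).ShortExact :=
    hS.map_of_exact (HomologicalComplex.eval _ _ q)
  exact shortExact_tensL_of_flat O _ hq (h3 q) (F.X p)

theorem result
    {C : Type u} [SmallCategory C] {J : GrothendieckTopology C} (O : Sheaf J CommRingCat.{u})
    (S : ShortComplex (CochainComplex (ModSite.Mod O) ℤ)) (hS : S.ShortExact)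
    (h3 : ∀ n : ℤ, ModSite.IsFlat (S.X₃.X n)) :
    (ModSite.IsKFlat S.X₁ → ModSite.IsKFlat S.X₂ → ModSite.IsKFlat S.X₃) ∧
    (ModSite.IsKFlat S.X₁ → ModSite.IsKFlat S.X₃ → ModSite.IsKFlat S.X₂) ∧
    (ModSite.IsKFlat S.X₂ → ModSite.IsKFlat S.X₃ → ModSite.IsKFlat S.X₁) := by
  refine ⟨fun h₁ h₂ F hF => ?_, fun h₁ h₃ F hF => ?_, fun h₂ h₃ F hF => ?_⟩
  · exact acyc_X₃ _ (shortExact_tensorCx O S hS h3 F) (h₁ F hF) (h₂ F hF)
  · exact acyc_X₂ _ (shortExact_tensorCx O S hS h3 F) (h₁ F hF) (h₃ F hF)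
  · exact acyc_X₁ _ (shortExact_tensorCx O S hS h3 F) (h₂ F hF) (h₃ F hF)

end Groth.Agent.S9057
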