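import Groth.Statements.S6516
import Groth.Agent.Lib.Helper7.FinLocFree

set_option autoImplicit false
universe u
open CategoryTheory
open DCoh

namespace Groth.Agent.S6516

open AlgebraicGeometry in
/-- Schemes; with the bounded finite-locally-free reading of strictly perfect used throughout this
problem's derived-category definitions: the mapping cone of a morphism between strictly perfect
complexes of O_X-modules is strictly perfect. -/
theorem result {X : Scheme.{u}} {E F : CochainComplex X.Modules ℤ} (φ : E ⟶ F)
    (hE : DCoh.IsStrictlyPerfect E) (hF : DCoh.IsStrictlyPerfect F) :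
    DCoh.IsStrictlyPerfect (CochainComplex.mappingCone φ) := by
  obtain ⟨⟨a, b, hab⟩, hE'⟩ := hE
  obtain ⟨⟨a', b', hab'⟩, hF'⟩ := hF
  have hiso : ∀ i : ℤ, (CochainComplex.mappingCone φ).X i ≅ E.X (i + 1) ⊞ F.X i := fun i =>
    HomologicalComplex.homotopyCofiber.XIsoBiprod φ i (i + 1) rfl
  refine ⟨⟨min (a - 1) a', max (b - 1) b', ?_⟩, ?_⟩
  · intro i hi
    refine CategoryTheory.Limits.IsZero.of_iso ?_ (hiso i)
    apply Groth.Agent.Lib.Helper7.FinLocFree.isZero_biprod
    · apply hab
      rcases hi with hi | hi
      · left
        have := lt_of_lt_of_le hi (min_le_left _ _)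
        omega
      · right
        have := lt_of_le_of_lt (le_max_left _ _) hi
        omega
    · apply hab'
      rcases hi with hi | hi
      · left; exact lt_of_lt_of_le hi (min_le_right _ _)
      · right; exact lt_of_le_of_lt (le_max_right _ _) hi
  · intro i
    exact Groth.Agent.Lib.Helper7.FinLocFree.isFinLocFree_of_iso (hiso i).symm
      (Groth.Agent.Lib.Helper7.FinLocFree.isFinLocFree_biprod (hE' (i + 1)) (hF' i))

end Groth.Agent.S6516
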