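import Groth.Statements.S0028
import Groth.Agent.Lib.Helper26.LerayBasis
import Groth.Agent.Lib.Helper26.AffineVanishing

set_option autoImplicit false
universe u
open Coherent

namespace Groth.Agent.S0028

open AlgebraicGeometry CategoryTheory TopologicalSpace Limits


open AlgebraicGeometry CategoryTheory in
/-- If f : X → S is an affine morphism and F is a quasi-coherent O_X-module, then R^i f_* F = 0 for all
i > 0 (higher direct images of the underlying abelian sheaf). -/
theorem result {X S : Scheme.{u}} (f : X ⟶ S) [IsAffineHom f]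
    (M : X.Modules) [Coh.IsQCoh M] (i : ℕ) (hi : 0 < i) :
    Limits.IsZero ((Coh.RpushAb f i).obj (Coh.toAb M)) := by
  obtain ⟨q, rfl⟩ := Nat.exists_eq_succ_of_ne_zero hi.ne'
  refine Groth.Agent.Lib.Helper26.LerayBasis.isZero_Rpush_succ_of_basis f.base (Coh.toAb M)
    {V | IsAffineOpen V} ?_ q ?_
  · intro U x hx
    obtain ⟨_, ⟨V, hV, rfl⟩, hxV, hVU⟩ :=
      S.isBasis_affineOpens.exists_subset_of_mem_open hx U.2
    exact ⟨V, hV, hxV, hVU⟩
  · intro V hV
    exact Groth.Agent.Lib.Helper26.AffineVanishing.subsingleton_HU_succ M q (hV.preimage f)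

end Groth.Agent.S0028
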