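import Groth.Statements.S4456
import Groth.Agent.Lib.Helper26.DegComposite
import Groth.Agent.Lib.Helper53.Flasque
import Groth.Agent.S0028

set_option autoImplicit false
universe u
open Coherent

namespace Groth.Agent.S4456

open AlgebraicGeometry CategoryTheory
open Groth.Agent.Lib.Helper26.DegComposite

/-- pushforward of abelian sheaves along a composite -/
noncomputable def pushAbComp {X Y Z : Scheme.{u}} (f : X ⟶ Y) (g : Y ⟶ Z) :
    Coh.pushAb f ⋙ Coh.pushAb g ≅ Coh.pushAb (f ≫ g) :=
  NatIso.ofComponents (fun F => Iso.refl _)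

lemma preservesFiniteLimits_pushAb {X Y : Scheme.{u}} (f : X ⟶ Y) :
    Limits.PreservesFiniteLimits (Coh.pushAb f) := by
  have : (Coh.pushAb f).IsRightAdjoint :=
    (TopCat.Sheaf.pullbackPushforwardAdjunction AddCommGrpCat.{u} f.base).isRightAdjoint
  infer_instance



open AlgebraicGeometry CategoryTheory in
/-- Let f : X → Y be an affine morphism, g : Y → Z a morphism of schemes and F a quasi-coherent
O_X-module. Then for every p ≥ 0 the higher direct image R^p g_*(f_* F) is isomorphic to R^p (g ∘
f)_* F (higher direct images of the underlying abelian sheaves). The source shows that the canonical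
comparison map is an isomorphism; only the existence of an isomorphism is asserted here. -/
theorem result {X Y Z : Scheme.{u}} (f : X ⟶ Y) (g : Y ⟶ Z)
    [IsAffineHom f] (F : X.Modules) [Coh.IsQCoh F] (p : ℕ) :
    Nonempty ((Coh.RpushAb g p).obj (Coh.toAb ((Coh.push f).obj F)) ≅
      (Coh.RpushAb (f ≫ g) p).obj (Coh.toAb F)) := by
  have := preservesFiniteLimits_pushAb f
  have := preservesFiniteLimits_pushAb g
  have h1 := nonempty_iso (Coh.pushAb f) (Coh.pushAb g)
    (fun I _ q => by
      have : TopCat.Sheaf.IsFlasque I := Groth.Agent.Lib.Helper53.isFlasque_of_injective I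
      exact Groth.Agent.Lib.Helper53.isZero_Rpush_succ g.base ((Coh.pushAb f).obj I) q)
    (Coh.toAb F) (fun q => Groth.Agent.S0028.result f F (q + 1) (Nat.succ_pos q)) p
  obtain ⟨e⟩ := h1
  exact ⟨e.symm ≪≫ (rightDerivedMapIso (pushAbComp f g) p).app (Coh.toAb F)⟩

end Groth.Agent.S4456
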