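import Groth.Statements.S11319
import Groth.Agent.Lib.Helper26.DegComposite
import Groth.Agent.Lib.Helper26.InjFlasque
import Groth.Agent.Lib.Helper26.DerivedExactComp
import Groth.Agent.Lib.Helper53.Flasque
import Groth.Agent.Lib.Helper53.ModGroth
import Groth.Agent.Lib.Helper42.ModSheaf
import Groth.Agent.S4456

set_option autoImplicit false
universe u
open CategoryTheory AlgebraicGeometry
open Coherent

namespace Groth.Agent.S11319

open CategoryTheory AlgebraicGeometry CategoryTheory.Limits
open Groth.Agent.Lib.Helper26

/-- the forgetful functor from O_X-modules to abelian sheaves -/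
noncomputable abbrev toAbF (X : Scheme.{u}) :
    X.Modules ⥤ Sheaf (Opens.grothendieckTopology X) AddCommGrpCat.{u} :=
  SheafOfModules.toSheaf.{u} X.ringCatSheaf

lemma additive_toAbF (X : Scheme.{u}) : (toAbF X).Additive :=
  inferInstanceAs (SheafOfModules.toSheaf.{u} X.ringCatSheaf).Additive

lemma preservesFiniteLimits_toAbF (X : Scheme.{u}) : PreservesFiniteLimits (toAbF X) :=
  inferInstanceAs (PreservesFiniteLimits (SheafOfModules.toSheaf.{u} X.ringCatSheaf))

lemma preservesFiniteColimits_toAbF (X : Scheme.{u}) : PreservesFiniteColimits (toAbF X) :=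
  have : PreservesFiniteColimits (SheafOfModules.toSheaf.{u} X.ringCatSheaf) :=
    PreservesColimitsOfSize.preservesFiniteColimits _
  inferInstanceAs (PreservesFiniteColimits (SheafOfModules.toSheaf.{u} X.ringCatSheaf))

lemma enoughInjectives_modules (X : Scheme.{u}) : EnoughInjectives X.Modules := by
  have := Groth.Agent.Lib.Helper53.ModGroth.isGrothendieckAbelian _ X.ringCatSheaf
  exact inferInstanceAs (EnoughInjectives (SheafOfModules.{u} X.ringCatSheaf))

/-- forgetting the module structure commutes with direct images -/
noncomputable def toAbPushIso {X Y : Scheme.{u}} (f : X ⟶ Y) :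
    toAbF X ⋙ Coh.pushAb f ≅ Scheme.Modules.pushforward f ⋙ toAbF Y :=
  NatIso.ofComponents (fun M => Iso.refl _)

/-- the underlying abelian sheaf of an injective module is acyclic for direct images -/
lemma isZero_RpushAb_toAb_of_injective {X Y : Scheme.{u}} (f : X ⟶ Y) (I : X.Modules)
    (hI : Injective I) (q : ℕ) : IsZero ((Coh.RpushAb f (q + 1)).obj (Coh.toAb I)) := by
  have : TopCat.Sheaf.IsFlasque (Coh.toAb I) :=
    @InjFlasque.isFlasque_of_injective _ X.ringCatSheaf I hI
  exact Groth.Agent.Lib.Helper53.isZero_Rpush_succ f.base (Coh.toAb I) q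



/-- Let f : X → Y be a morphism of schemes, M an O_X-module and n ≥ 0. Then the underlying abelian sheaf
of the n-th higher direct image R^n f_* M computed in the category of O-modules (the n-th right
derived functor of f_* : Mod(O_X) → Mod(O_Y), which needs the stated instance that Mod(O_X) has
injective resolutions — it does) is isomorphic to the n-th higher direct image of the underlying
abelian sheaf of M (the right derived functor of f_* on abelian sheaves). (Stated for schemes; the
published statement is for ringed spaces. Existence of an isomorphism only.) -/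
theorem result {X Y : Scheme.{u}} (f : X ⟶ Y)
    [HasInjectiveResolutions X.Modules] (M : X.Modules) (n : ℕ) :
    Nonempty (Coh.toAb ((Coh.Rpush f n).obj M) ≅ (Coh.RpushAb f n).obj (Coh.toAb M)) := by
  have := enoughInjectives_modules X
  have := additive_toAbF X
  have := additive_toAbF Y
  have := preservesFiniteLimits_toAbF X
  have := preservesFiniteLimits_toAbF Y
  have := preservesFiniteColimits_toAbF X
  have := preservesFiniteColimits_toAbF Y
  have := Groth.Agent.S4456.preservesFiniteLimits_pushAb f
  obtain ⟨e1⟩ := DegComposite.nonempty_iso (toAbF X) (Coh.pushAb f)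
    (fun I hI q => isZero_RpushAb_toAb_of_injective f I hI q) M
    (fun q => DerivedExactComp.isZero_rightDerived_succ_of_exact (toAbF X) M q) n
  obtain ⟨e3⟩ := DerivedExactComp.nonempty_rightDerived_comp_exact_iso
    (Scheme.Modules.pushforward f) (toAbF Y) M n
  exact ⟨e3.symm ≪≫ (DegComposite.rightDerivedMapIso (toAbPushIso f).symm n).app M ≪≫ e1⟩

end Groth.Agent.S11319
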