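import Groth.Statements.S0934
import Groth.Agent.Lib.Helper2.FreeModAff
import Groth.Agent.Lib.Helper42.ModSheaf
import Mathlib.Topology.Sheaves.LocallySurjective
import Mathlib.CategoryTheory.Sites.EpiMono

set_option autoImplicit false
universe u
open CategoryTheory
open Coh

namespace Groth.Agent.S0934

open CategoryTheory.Limits AlgebraicGeometry
open Groth.Agent.Lib.Helper2.FreeModAff AlgebraicGeometry.Scheme.Modules Opposite TopologicalSpace

section
variable {Y : Scheme.{u}}

/-- an epimorphism of modules is locally surjective on sections -/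
theorem exists_local_lift {G F : Y.Modules} (p : G ⟶ F) [Epi p] (U : Y.Opens) (s : Γ(F, U))
    (x : Y) (hx : x ∈ U) :
    ∃ (V : Y.Opens) (hVU : V ≤ U), x ∈ V ∧ ∃ t : Γ(G, V),
      p.app V t = F.presheaf.map (homOfLE hVU).op s := by
  have : PreservesFiniteColimits (SheafOfModules.toSheaf.{u} Y.ringCatSheaf) :=
    haveI := Groth.Agent.Lib.Helper42.ModSheaf.toSheaf_preservesColimitsOfSize Y.ringCatSheaf
    PreservesColimitsOfSize.preservesFiniteColimits _
  haveI hp : @Epi (SheafOfModules.{u} Y.ringCatSheaf) _ G F p := ‹Epi p›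
  have hepi : Epi ((SheafOfModules.toSheaf.{u} Y.ringCatSheaf).map p) :=
    (SheafOfModules.toSheaf.{u} Y.ringCatSheaf).map_epi p
  have hls : Sheaf.IsLocallySurjective ((SheafOfModules.toSheaf.{u} Y.ringCatSheaf).map p) :=
    (Sheaf.isLocallySurjective_iff_epi' _ _).mpr hepi
  obtain ⟨V, hVU, ⟨t, ht⟩, hxV⟩ := (TopCat.Presheaf.isLocallySurjective_iff _).1 hls U s x hx
  exact ⟨V, hVU, hxV, t, ht⟩

/-- the global section of `M` determined by an element over `⊤` -/
noncomputable def secOfTop (M : Y.Modules) (t : Γ(M, ⊤)) : SheafOfModules.sections M :=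
  PresheafOfModules.sectionsMk (M := M.val)
    (fun U => M.presheaf.map (homOfLE (le_top : U.unop ≤ ⊤)).op t)
    (by
      intro U V f
      change M.presheaf.map f (M.presheaf.map _ t) = _
      rw [← ConcreteCategory.comp_apply, ← Functor.map_comp]
      rfl)

theorem secOfTop_val_top (M : Y.Modules) (t : Γ(M, ⊤)) : (secOfTop M t).1 (op ⊤) = t := by
  change M.presheaf.map (𝟙 _) t = t
  rw [M.presheaf.map_id]
  rfl

theorem sections_ext_top (M : Y.Modules) (s t : SheafOfModules.sections M)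
    (h : s.1 (op ⊤) = t.1 (op ⊤)) : s = t := by
  apply PresheafOfModules.sections_ext
  intro U
  have hs := PresheafOfModules.sections_property s (homOfLE (le_top : U.unop ≤ ⊤)).op
  have ht := PresheafOfModules.sections_property t (homOfLE (le_top : U.unop ≤ ⊤)).op
  rw [← hs, ← ht, h]

theorem free_hom_ext {M : Y.Modules} {I : Type u}
    (α β : SheafOfModules.free.{u} (R := Y.ringCatSheaf) I ⟶ M)
    (h : ∀ i, (M.freeHomEquiv α i).1 (op ⊤) = (M.freeHomEquiv β i).1 (op ⊤)) : α = β := by
  apply (SheafOfModules.freeHomEquiv M).injective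
  funext i
  exact sections_ext_top M _ _ (h i)


variable {Z : Scheme.{u}} (j : Z ⟶ Y) [IsOpenImmersion j]

set_option backward.isDefEq.respectTransparency false in
theorem ιFree_restrictFreeIso_inv (I : Type u) (i : I) :
    SheafOfModules.ιFree (R := Z.ringCatSheaf) i ≫ (restrictFreeIso j I).inv =
      (restrictUnitIso j).inv ≫ (restrictFunctor j).map (SheafOfModules.ιFree i) := by
  haveI : PreservesColimitsOfSize.{u, u} (restrictFunctor j) := inferInstance
  haveI : PreservesColimitsOfShape (Discrete I) (restrictFunctor j) :=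
    PreservesColimitsOfSize.preservesColimitsOfShape
  exact SheafOfModules.ιFree_mapFreeIso_hom (restrictFunctor j) I (restrictUnitIso j).symm i

theorem restrictUnitIso_inv_app_one (U : Z.Opens) :
    (restrictUnitIso j).inv.val.app (op U) (1 : Γ(Z, U)) = (1 : Γ(Y, j ''ᵁ U)) := by
  have h : (restrictUnitIso j).hom.val.app (op U) (1 : Γ(Y, j ''ᵁ U)) = (1 : Γ(Z, U)) := by
    change (j.appIso U).hom 1 = 1
    exact map_one _
  have h2 : (restrictUnitIso j).hom.val.app (op U)
      ((restrictUnitIso j).inv.val.app (op U) (1 : Γ(Z, U))) = (1 : Γ(Z, U)) := by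
    have := congrArg (fun φ => φ.val.app (op U) (1 : Γ(Z, U))) (restrictUnitIso j).inv_hom_id
    exact this
  have h3 : ∀ y : Γ(Y, j ''ᵁ U), (restrictUnitIso j).inv.val.app (op U)
      ((restrictUnitIso j).hom.val.app (op U) y) = y := by
    intro y
    have := congrArg (fun φ => φ.val.app (op U) y) (restrictUnitIso j).hom_inv_id
    exact this
  have h4 := h3 ((restrictUnitIso j).inv.val.app (op U) (1 : Γ(Z, U)))
  rw [h2] at h4
  rw [← h4]
  have h5 := h3 1
  rw [h] at h5
  exact h5


set_option backward.isDefEq.respectTransparency false in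
theorem freeHomEquiv_restrict {M : Y.Modules} {I : Type u}
    (α : SheafOfModules.free.{u} (R := Y.ringCatSheaf) I ⟶ M) (i : I) :
    (SheafOfModules.freeHomEquiv (M.restrict j)
      ((restrictFreeIso j I).inv ≫ (restrictFunctor j).map α) i).1 (op ⊤) =
      (SheafOfModules.freeHomEquiv M α i).1 (op (j ''ᵁ ⊤)) := by
  change (SheafOfModules.ιFree i ≫ (restrictFreeIso j I).inv ≫
    (restrictFunctor j).map α).val.app (op ⊤) (1 : Γ(Z, ⊤)) =
      (SheafOfModules.ιFree i ≫ α).val.app (op (j ''ᵁ ⊤)) (1 : Γ(Y, j ''ᵁ ⊤))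
  rw [← Category.assoc, ιFree_restrictFreeIso_inv, Category.assoc, ← Functor.map_comp]
  change ((restrictFunctor j).map (SheafOfModules.ιFree i ≫ α)).val.app (op ⊤)
    ((restrictUnitIso j).inv.val.app (op ⊤) (1 : Γ(Z, ⊤))) = _
  rw [restrictUnitIso_inv_app_one]
  rfl

end

set_option backward.isDefEq.respectTransparency false in
open AlgebraicGeometry in

open AlgebraicGeometry in
/-- Schemes; E finite locally free, which on a scheme is locally the same as a direct summand of a
finite free module: let p : G -> F be an epimorphism of O_X-modules and φ : E -> F a morphism with E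
finite locally free. Then every point has an open neighbourhood V and a morphism ψ : E|_V -> G|_V
with ψ ≫ p|_V = φ|_V. -/
theorem result {X : Scheme.{u}} {E F G : X.Modules} (p : G ⟶ F) [Epi p] (φ : E ⟶ F)
    (hE : FlatMod.IsFinLocFree E) (x : X) :
    ∃ (V : X.Opens) (ψ : E.restrict V.ι ⟶ G.restrict V.ι), x ∈ V ∧
      ψ ≫ (Scheme.Modules.restrictFunctor V.ι).map p = (Scheme.Modules.restrictFunctor V.ι).map φ := by
  obtain ⟨W, n, hxW, he⟩ := hE x
  rw [nonempty_iso_freeMod_iff_free] at he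
  obtain ⟨e⟩ := he
  let α : SheafOfModules.free.{u} (Idx.{u} n) ⟶ F.restrict W.ι :=
    e.inv ≫ (restrictFunctor W.ι).map φ
  let s : Idx.{u} n → Γ(F, W.ι ''ᵁ ⊤) := fun i =>
    (SheafOfModules.freeHomEquiv (F.restrict W.ι) α i).1 (op ⊤)
  have hx' : x ∈ W.ι ''ᵁ ⊤ := ⟨⟨x, hxW⟩, trivial, rfl⟩
  have hl : ∀ i, ∃ (V : X.Opens) (hVU : V ≤ W.ι ''ᵁ ⊤), x ∈ V ∧ ∃ t : Γ(G, V),
      p.app V t = F.presheaf.map (homOfLE hVU).op (s i) :=
    fun i => exists_local_lift p _ (s i) x hx'
  choose V hV hxV t ht using hl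
  let V₀ : X.Opens := W ⊓ ⨅ i, V i
  have hV₀W : V₀ ≤ W := inf_le_left
  have hV₀i : ∀ i, V₀ ≤ V i := fun i => inf_le_right.trans (iInf_le _ i)
  have hxV₀ : x ∈ V₀ := by
    refine ⟨hxW, ?_⟩
    rw [SetLike.mem_coe, ← SetLike.mem_coe, Opens.coe_iInf]
    exact Set.mem_iInter.2 hxV
  let j : (V₀ : Scheme.{u}) ⟶ W := X.homOfLE hV₀W
  let e' : (E.restrict W.ι).restrict j ≅ SheafOfModules.free.{u} (Idx.{u} n) :=
    (restrictFunctor j).mapIso e ≪≫ restrictFreeIso j _
  have hle : ∀ i, W.ι ''ᵁ (j ''ᵁ ⊤) ≤ V i := by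
    intro i z hz
    obtain ⟨w, ⟨y, -, rfl⟩, rfl⟩ := hz
    have h1 : W.ι (j y) = V₀.ι y := by
      rw [← Scheme.Hom.comp_apply, X.homOfLE_ι]
    change W.ι (j y) ∈ V i
    rw [h1]
    exact hV₀i i y.2
  let t' : Idx.{u} n → Γ((G.restrict W.ι).restrict j, ⊤) := fun i =>
    G.presheaf.map (homOfLE (hle i)).op (t i)
  let β : SheafOfModules.free.{u} (Idx.{u} n) ⟶ (G.restrict W.ι).restrict j :=
    (SheafOfModules.freeHomEquiv _).symm (fun i => secOfTop _ (t' i))
  have key : β ≫ (restrictFunctor j).map ((restrictFunctor W.ι).map p) =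
      e'.inv ≫ (restrictFunctor j).map ((restrictFunctor W.ι).map φ) := by
    apply free_hom_ext
    intro i
    have hR : e'.inv ≫ (restrictFunctor j).map ((restrictFunctor W.ι).map φ) =
        (restrictFreeIso j _).inv ≫ (restrictFunctor j).map α := by
      simp only [e', α, Iso.trans_inv, Functor.mapIso_inv, Category.assoc, Functor.map_comp]
    rw [hR, freeHomEquiv_restrict, SheafOfModules.freeHomEquiv_comp_apply]
    simp only [β, Equiv.apply_symm_apply]
    change p.app (W.ι ''ᵁ (j ''ᵁ ⊤)) ((secOfTop _ (t' i)).1 (op ⊤)) = _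
    rw [secOfTop_val_top]
    simp only [t']
    have h1 : p.app (W.ι ''ᵁ (j ''ᵁ ⊤)) (G.presheaf.map (homOfLE (hle i)).op (t i)) =
        F.presheaf.map (homOfLE (hle i)).op (p.app (V i) (t i)) :=
      congr($(p.mapPresheaf.naturality (homOfLE (hle i)).op) (t i))
    rw [h1, ht i]
    have h2 := PresheafOfModules.sections_property
      (SheafOfModules.freeHomEquiv (F.restrict W.ι) α i)
      (homOfLE (le_top : j ''ᵁ ⊤ ≤ ⊤)).op
    rw [← h2]
    change (F.presheaf.map _ ≫ F.presheaf.map _) (s i) = F.presheaf.map _ (s i)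
    rw [← Functor.map_comp]
    rfl
  let ψ' : (E.restrict W.ι).restrict j ⟶ (G.restrict W.ι).restrict j := e'.hom ≫ β
  have hψ' : ψ' ≫ (restrictFunctor j).map ((restrictFunctor W.ι).map p) =
      (restrictFunctor j).map ((restrictFunctor W.ι).map φ) := by
    rw [Category.assoc, key, ← Category.assoc, Iso.hom_inv_id, Category.id_comp]
  let η : restrictFunctor W.ι ⋙ restrictFunctor j ≅ restrictFunctor V₀.ι :=
    (restrictFunctorComp j W.ι).symm ≪≫ restrictFunctorCongr (X.homOfLE_ι hV₀W)
  refine ⟨V₀, η.inv.app E ≫ ψ' ≫ η.hom.app G, hxV₀, ?_⟩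
  have n1 := η.hom.naturality p
  have n2 := η.hom.naturality φ
  simp only [Functor.comp_map] at n1 n2
  rw [Category.assoc, Category.assoc, ← n1, ← Category.assoc ψ', hψ', n2, ← Category.assoc,
    ← NatTrans.comp_app, Iso.inv_hom_id, NatTrans.id_app, Category.id_comp]

end Groth.Agent.S0934
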