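import Groth.Statements.S16954
import Groth.Agent.S11319
import Groth.Agent.S0934
import Groth.Agent.Lib.Helper21.QCohKernel
import Groth.Agent.Lib.Helper26.DegComposite

set_option autoImplicit false
universe u
open CohCmp

namespace Groth.Agent.S16954

open AlgebraicGeometry CategoryTheory Scheme.Modules Opposite CategoryTheory.Limits
open Groth.Agent.Lib.Helper26

/-- restriction to an open followed by the underlying abelian sheaf is exact -/
lemma toAbOn_map_shortExact (X : Scheme.{u}) (U : X.Opens) (S : ShortComplex X.Modules)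
    (hS : S.ShortExact) : (S.map (CohCmp.toAbOn X U)).ShortExact := by
  have := Groth.Agent.S11319.additive_toAbF (U : Scheme.{u})
  have := Groth.Agent.S11319.preservesFiniteLimits_toAbF (U : Scheme.{u})
  have := Groth.Agent.S11319.preservesFiniteColimits_toAbF (U : Scheme.{u})
  have h1 : PreservesFiniteLimits (CohCmp.toAbOn X U) :=
    comp_preservesFiniteLimits (Scheme.Modules.restrictFunctor U.ι)
      (Groth.Agent.S11319.toAbF (U : Scheme.{u}))
  have h2 : PreservesFiniteColimits (CohCmp.toAbOn X U) :=
    comp_preservesFiniteColimits (Scheme.Modules.restrictFunctor U.ι)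
      (Groth.Agent.S11319.toAbF (U : Scheme.{u}))
  exact hS.map_of_exact (CohCmp.toAbOn X U)

lemma preservesFiniteLimits_pushforward {X Y : Scheme.{u}} (f : X ⟶ Y) :
    PreservesFiniteLimits (pushforward f) := by
  have : (pushforward f).IsRightAdjoint := (pullbackPushforwardAdjunction f).isRightAdjoint
  infer_instance

lemma app_map {Y : Scheme.{u}} {M N : Y.Modules} (φ : M ⟶ N) {W' W : Y.Opens} (h : W' ≤ W)
    (a : M.presheaf.obj (op W)) :
    φ.app W' (M.presheaf.map (homOfLE h).op a) = N.presheaf.map (homOfLE h).op (φ.app W a) := by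
  have := congr_arg (fun k => k a) (congrArg (fun k => k.hom) (φ.mapPresheaf.naturality (homOfLE h).op))
  exact this



open AlgebraicGeometry CategoryTheory Scheme.Modules Opposite in
/-- The comparison map is locally surjective. Let f : X → Y be a morphism of schemes, F an O_X-module
and p a natural number; R^p f_* F is the p-th right derived functor of direct image on O-modules and
ε_V : H^p(f⁻¹V, F|_{f⁻¹V}) → Γ(V, R^p f_* F) the pinned comparison maps (the structure SectCmp,
taken as a hypothesis). Then for every open V of Y, every section t of R^p f_* F over V and every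
point y of V there are an open neighbourhood W ⊆ V of y and a class x ∈ H^p(f⁻¹W, F|_{f⁻¹W}) with
ε_W(x) equal to the restriction of t to W. -/
theorem result
    {X Y : Scheme.{u}} (f : X ⟶ Y) [HasInjectiveResolutions X.Modules]
    {Δ : RDer.DerivedLES (pushforward f)} (E : CohCmp.SectCmp f Δ) (F : X.Modules) (p : ℕ)
    (V : Y.Opens) (t : ((Coh.Rpush f p).obj F).presheaf.obj (op V)) (y : Y) (hy : y ∈ V) :
    ∃ (W : Y.Opens) (hWV : W ≤ V), y ∈ W ∧
      ∃ x : Coh.HHon X F (f ⁻¹ᵁ W) p,
        E.ε W F p x = ((Coh.Rpush f p).obj F).presheaf.map (homOfLE hWV).op t := by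
  have := Groth.Agent.S11319.enoughInjectives_modules X
  have := preservesFiniteLimits_pushforward f
  induction p generalizing F V with
  | zero =>
    refine ⟨V, le_rfl, hy, ?_⟩
    let s : F.presheaf.obj (op (f ⁻¹ᵁ V)) :=
      (inv ((pushforward f).toRightDerivedZero.app F)).app V t
    refine ⟨CohPull.sectH0 F (f ⁻¹ᵁ V) s, ?_⟩
    rw [E.zero]
    have h1 : ((pushforward f).toRightDerivedZero.app F).app V s = t := by
      change ((inv ((pushforward f).toRightDerivedZero.app F)).app V ≫
        ((pushforward f).toRightDerivedZero.app F).app V) t = t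
      rw [← Hom.comp_app, IsIso.inv_hom_id]
      rfl
    rw [h1]
    have h2 : (homOfLE (le_refl V)).op = 𝟙 (op V) := rfl
    rw [h2, CategoryTheory.Functor.map_id]
    rfl
  | succ p ih =>
    have hS : (DegComposite.injSeq F).ShortExact := DegComposite.injSeq_shortExact F
    have hI : IsZero ((Coh.Rpush f (p + 1)).obj (DegComposite.injSeq F).X₂) :=
      Functor.isZero_rightDerived_obj_injective_succ (pushforward f) p _
    have hex := Δ.exact₁ (DegComposite.injSeq F) hS p (p + 1) rfl
    have hepi : Epi (Δ.δ (DegComposite.injSeq F) hS p (p + 1) rfl) :=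
      hex.epi_f (hI.eq_of_tgt _ _)
    obtain ⟨W, hWV, hyW, t', ht'⟩ := Groth.Agent.S0934.exists_local_lift
      (Δ.δ (DegComposite.injSeq F) hS p (p + 1) rfl) V t y hy
    obtain ⟨W', hW'W, hyW', x', hx'⟩ := ih (DegComposite.injSeq F).X₃ W t' hyW
    refine ⟨W', hW'W.trans hWV, hyW', ?_⟩
    have hA := toAbOn_map_shortExact X (f ⁻¹ᵁ W') (DegComposite.injSeq F) hS
    refine ⟨CohCmp.extδ hA p x', ?_⟩
    refine (E.delta W' (DegComposite.injSeq F) hS hA p x').trans ?_
    rw [hx']
    refine (app_map (Δ.δ (DegComposite.injSeq F) hS p (p + 1) rfl) hW'W t').trans ?_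
    rw [ht']
    change (((Coh.Rpush f (p + 1)).obj F).presheaf.map (homOfLE hWV).op ≫
      ((Coh.Rpush f (p + 1)).obj F).presheaf.map (homOfLE hW'W).op) t = _
    rw [← CategoryTheory.Functor.map_comp]
    rfl

end Groth.Agent.S16954
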