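import Groth.Statements.S16948
import Groth.Agent.S16954
import Groth.Agent.Lib.Helper4.ExtAdj

set_option autoImplicit false
universe u
open Coherent

namespace Groth.Agent.S16948

section Aux

open CategoryTheory AlgebraicGeometry Opposite CategoryTheory.Limits Abelian TopologicalSpace

--MARK

section TopLevel
variable {A B C : TopCat.{u}}

noncomputable def tau (k : A ⟶ B) (l : B ⟶ C) : CohPull.inv l ⋙ CohPull.inv k ≅ CohPull.inv (k ≫ l) :=
  ((CohPull.invPushAdj l).comp (CohPull.invPushAdj k)).leftAdjointUniq (CohPull.invPushAdj (k ≫ l))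

lemma unit_tau (k : A ⟶ B) (l : B ⟶ C) (M : CohTop.Ab C) :
    ((CohPull.invPushAdj l).unit.app M ≫
      (CohTop.push l).map ((CohPull.invPushAdj k).unit.app ((CohPull.inv l).obj M))) ≫
      (CohTop.push (k ≫ l)).map ((tau k l).hom.app M) = (CohPull.invPushAdj (k ≫ l)).unit.app M := by
  have := Adjunction.unit_leftAdjointUniq_hom_app
    ((CohPull.invPushAdj l).comp (CohPull.invPushAdj k)) (CohPull.invPushAdj (k ≫ l)) M
  rw [Adjunction.comp_unit_app] at this
  exact this

lemma homEquiv_oneTo (k : A ⟶ B) :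
    (CohPull.adjZ A).homEquiv _ _ (CohPull.oneTo k) =
      CohPull.oneSec B ≫ ((CohPull.invPushAdj k).unit.app (CohTop.const B (ULift.{u} ℤ))).hom.app (op ⊤) := by
  unfold CohPull.oneTo
  exact Equiv.apply_symm_apply _ _

lemma oneSec_comp {G : CohTop.Ab B} (φ : CohTop.const B (ULift.{u} ℤ) ⟶ G) :
    CohPull.oneSec B ≫ φ.hom.app (op ⊤) = (CohPull.adjZ B).homEquiv _ _ φ := by
  have : (CohPull.adjZ B).homEquiv _ _ φ =
      CohPull.oneSec B ≫ ((sheafSections (Opens.grothendieckTopology ↑B) AddCommGrpCat).obj (op ⊤)).map φ := by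
    rw [CohPull.oneSec, ← Adjunction.homEquiv_naturality_right, Category.id_comp]
  exact this.symm

lemma cat_aux {D : Type*} [Category D] {X0 X0' X1 X2 X3 X4 : D}
    {s : X0 ⟶ X1} {s' : X0 ⟶ X0'} {a : X1 ⟶ X2} {e : X0' ⟶ X2} {b : X2 ⟶ X3} {c : X1 ⟶ X4} {d : X4 ⟶ X3}
    {X5 : D} {t : X3 ⟶ X5} {w : X0' ⟶ X5}
    (h1 : a ≫ b = c ≫ d) (h2 : (e ≫ b) ≫ t = w) (h3 : s ≫ a = s' ≫ e) :
    (s ≫ c) ≫ (d ≫ t) = s' ≫ w := by
  rw [← h2, Category.assoc, Category.assoc, ← reassoc_of% h3, reassoc_of% h1]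

lemma oneTo_comp (k : A ⟶ B) (l : B ⟶ C) :
    CohPull.oneTo k ≫ (CohPull.inv k).map (CohPull.oneTo l) ≫
      (tau k l).hom.app (CohTop.const C (ULift.{u} ℤ)) = CohPull.oneTo (k ≫ l) := by
  apply ((CohPull.adjZ A).homEquiv _ _).injective
  rw [Adjunction.homEquiv_naturality_right, homEquiv_oneTo, homEquiv_oneTo]
  have h1 := congrArg (fun t => t.hom.app (op ⊤)) ((CohPull.invPushAdj k).unit.naturality (CohPull.oneTo l))
  have h2 := congrArg (fun t => t.hom.app (op ⊤)) (unit_tau k l (CohTop.const C (ULift.{u} ℤ)))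
  have h3 := (oneSec_comp (CohPull.oneTo l)).trans (homEquiv_oneTo l)
  dsimp at h1 h2
  have e0 : ((sheafSections (Opens.grothendieckTopology ↑A) AddCommGrpCat).obj (op ⊤)).map
        ((CohPull.inv k).map (CohPull.oneTo l) ≫ (tau k l).hom.app (CohTop.const C (ULift.{u, 0} ℤ))) =
      ((CohPull.inv k).map (CohPull.oneTo l)).hom.app (op ⊤) ≫
        ((tau k l).hom.app (CohTop.const C (ULift.{u, 0} ℤ))).hom.app (op ⊤) := rfl
  exact (congrArg (fun t => (CohPull.oneSec B ≫
    ((CohPull.invPushAdj k).unit.app (CohTop.const B (ULift.{u, 0} ℤ))).hom.app (op ⊤)) ≫ t) e0).trans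
    (cat_aux h1 h2 h3)

lemma pullAb_apply (k : A ⟶ B) (M : CohTop.Ab B) (p : ℕ) (x : Sheaf.H M p) :
    CohPull.pullAb k M p x =
      (Ext.mk₀ (CohPull.oneTo k)).comp (x.mapExactFunctor (CohPull.inv k)) (zero_add p) := rfl

lemma pullAb_comp (k : A ⟶ B) (l : B ⟶ C) (M : CohTop.Ab C) (p : ℕ) (x : Sheaf.H M p) :
    (CohPull.pullAb k ((CohPull.inv l).obj M) p (CohPull.pullAb l M p x)).comp
        (Ext.mk₀ ((tau k l).hom.app M)) (add_zero p) =
      CohPull.pullAb (k ≫ l) M p x := by
  rw [pullAb_apply, pullAb_apply, pullAb_apply, Ext.mapExactFunctor_comp, Ext.mapExactFunctor_mk₀]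
  have key := Groth.Agent.Lib.Helper4.ExtAdj.mapExactFunctor_comp_nat
    (CohPull.inv l) (CohPull.inv k) (CohPull.inv (k ≫ l)) (tau k l).hom _ p M x
  rw [Ext.comp_assoc_of_third_deg_zero, Ext.comp_assoc_of_third_deg_zero, key,
    Ext.mk₀_comp_mk₀_assoc, Ext.mk₀_comp_mk₀_assoc, Category.assoc, oneTo_comp]


lemma pullAb_natural (k : A ⟶ B) {M M' : CohTop.Ab B} (s : M ⟶ M') (p : ℕ) (x : Sheaf.H M p) :
    CohPull.pullAb k M' p (x.comp (Ext.mk₀ s) (add_zero p)) =
      (CohPull.pullAb k M p x).comp (Ext.mk₀ ((CohPull.inv k).map s)) (add_zero p) := by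
  rw [pullAb_apply, pullAb_apply, Ext.mapExactFunctor_comp, Ext.mapExactFunctor_mk₀,
    Ext.comp_assoc_of_third_deg_zero]

lemma tau_comp_symm (k : A ⟶ B) (l : B ⟶ C) (M : CohTop.Ab C) (P : CohTop.Ab A)
    (m : M ⟶ (CohTop.push (k ≫ l)).obj P) :
    (tau k l).hom.app M ≫ ((CohPull.invPushAdj (k ≫ l)).homEquiv _ _).symm m =
      (((CohPull.invPushAdj l).comp (CohPull.invPushAdj k)).homEquiv _ _).symm m := by
  apply (((CohPull.invPushAdj l).comp (CohPull.invPushAdj k)).homEquiv _ _).injective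
  rw [Equiv.apply_symm_apply, Adjunction.homEquiv_unit, Functor.map_comp, ← Category.assoc]
  have := Adjunction.unit_leftAdjointUniq_hom_app
    ((CohPull.invPushAdj l).comp (CohPull.invPushAdj k)) (CohPull.invPushAdj (k ≫ l)) M
  refine (congrArg (fun t => t ≫ (CohTop.push (k ≫ l)).map
    (((CohPull.invPushAdj (k ≫ l)).homEquiv _ _).symm m)) this).trans ?_
  exact ((CohPull.invPushAdj (k ≫ l)).homEquiv_unit _ _ _).symm.trans (Equiv.apply_symm_apply _ _)

/-- pull via a map into the direct image -/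
noncomputable def pva (k : A ⟶ B) {M : CohTop.Ab B} {N : CohTop.Ab A}
    (u : M ⟶ (CohTop.push k).obj N) (p : ℕ) (x : Sheaf.H M p) : Sheaf.H N p :=
  (CohPull.pullAb k M p x).comp
    (Ext.mk₀ (((CohPull.invPushAdj k).homEquiv _ _).symm u)) (add_zero p)

lemma transpose_comp (k : A ⟶ B) (l : B ⟶ C) {M : CohTop.Ab C} {N : CohTop.Ab B} {P : CohTop.Ab A}
    (u : M ⟶ (CohTop.push l).obj N) (v : N ⟶ (CohTop.push k).obj P) :
    (CohPull.inv k).map (((CohPull.invPushAdj l).homEquiv _ _).symm u) ≫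
        ((CohPull.invPushAdj k).homEquiv _ _).symm v =
      (tau k l).hom.app M ≫
        ((CohPull.invPushAdj (k ≫ l)).homEquiv _ _).symm (u ≫ (CohTop.push l).map v) := by
  rw [tau_comp_symm]
  apply (((CohPull.invPushAdj l).comp (CohPull.invPushAdj k)).homEquiv _ _).injective
  rw [Equiv.apply_symm_apply, Adjunction.comp_homEquiv]
  dsimp only [Equiv.trans_apply]
  rw [Adjunction.homEquiv_naturality_left, Equiv.apply_symm_apply,
    Adjunction.homEquiv_naturality_right, Equiv.apply_symm_apply]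
  rfl

lemma pva_comp (k : A ⟶ B) (l : B ⟶ C) {M : CohTop.Ab C} {N : CohTop.Ab B} {P : CohTop.Ab A}
    (u : M ⟶ (CohTop.push l).obj N) (v : N ⟶ (CohTop.push k).obj P) (p : ℕ) (x : Sheaf.H M p) :
    pva k v p (pva l u p x) = pva (k ≫ l) (u ≫ (CohTop.push l).map v) p x := by
  unfold pva
  rw [pullAb_natural, Ext.comp_assoc_of_third_deg_zero, Ext.mk₀_comp_mk₀, transpose_comp,
    ← pullAb_comp, Ext.comp_assoc_of_third_deg_zero, Ext.mk₀_comp_mk₀]

end TopLevel

section ModLevel
variable {X Y Z : Scheme.{u}}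
open Scheme.Modules

/-- pull back a class via a map `M ⟶ r_* N` -/
noncomputable def pvm (r : X ⟶ Y) {M : Y.Modules} {N : X.Modules}
    (u : M ⟶ (pushforward r).obj N) (p : ℕ) (x : Coh.HH Y M p) : Coh.HH X N p :=
  CohPull.mapH (((pullbackPushforwardAdjunction r).homEquiv _ _).symm u) p (CohPull.pullMod r M p x)

lemma theta_comp_transpose (r : X ⟶ Y) {M : Y.Modules} {N : X.Modules}
    (u : M ⟶ (pushforward r).obj N) :
    CohPull.theta r M ≫ (SheafOfModules.toSheaf X.ringCatSheaf).map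
        (((pullbackPushforwardAdjunction r).homEquiv _ _).symm u) =
      ((CohPull.invPushAdj r.base).homEquiv (Coh.toAb M) (Coh.toAb N)).symm
        ((SheafOfModules.toSheaf Y.ringCatSheaf).map u) := by
  unfold CohPull.theta
  rw [← Adjunction.homEquiv_naturality_right_symm]
  congr 1
  have : (pullbackPushforwardAdjunction r).unit.app M ≫ (pushforward r).map
      (((pullbackPushforwardAdjunction r).homEquiv _ _).symm u) = u :=
    ((pullbackPushforwardAdjunction r).homEquiv_unit _ _ _).symm.trans (Equiv.apply_symm_apply _ _)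
  exact ((SheafOfModules.toSheaf Y.ringCatSheaf).map_comp _ _).symm.trans (congrArg _ this)

lemma pvm_eq_pva (r : X ⟶ Y) {M : Y.Modules} {N : X.Modules}
    (u : M ⟶ (pushforward r).obj N) (p : ℕ) (x : Coh.HH Y M p) :
    pvm r u p x = pva r.base (M := Coh.toAb M) (N := Coh.toAb N)
      ((SheafOfModules.toSheaf Y.ringCatSheaf).map u) p x := by
  unfold pvm pva CohPull.pullMod
  rw [← theta_comp_transpose]
  simp only [AddMonoidHom.coe_comp, Function.comp_apply, Sheaf.H.map_apply]
  rw [Ext.comp_assoc_of_third_deg_zero, Ext.mk₀_comp_mk₀]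

lemma toAb_pushforwardComp (a : X ⟶ Y) (b : Y ⟶ Z) (P : X.Modules) :
    (SheafOfModules.toSheaf Z.ringCatSheaf).map ((pushforwardComp a b).hom.app P) = 𝟙 _ := rfl

lemma pvm_comp (a : X ⟶ Y) (b : Y ⟶ Z) {M : Z.Modules} {N : Y.Modules} {P : X.Modules}
    (u : M ⟶ (pushforward b).obj N) (v : N ⟶ (pushforward a).obj P) (p : ℕ) (x : Coh.HH Z M p) :
    pvm a v p (pvm b u p x) =
      pvm (a ≫ b) (u ≫ (pushforward b).map v ≫ (pushforwardComp a b).hom.app P) p x := by
  rw [pvm_eq_pva, pvm_eq_pva, pvm_eq_pva, pva_comp]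
  rfl

lemma mapH_pullMod (r : X ⟶ Y) {M : Y.Modules} {N : X.Modules}
    (w : (Scheme.Modules.pullback r).obj M ⟶ N) (p : ℕ) (x : Coh.HH Y M p) :
    CohPull.mapH w p (CohPull.pullMod r M p x) =
      pvm r ((pullbackPushforwardAdjunction r).homEquiv _ _ w) p x := by
  unfold pvm
  rw [Equiv.symm_apply_apply]

lemma mapH_pvm (r : X ⟶ Y) {M : Y.Modules} {N N' : X.Modules}
    (u : M ⟶ (pushforward r).obj N) (w : N ⟶ N') (p : ℕ) (x : Coh.HH Y M p) :
    CohPull.mapH w p (pvm r u p x) = pvm r (u ≫ (pushforward r).map w) p x := by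
  unfold pvm
  rw [Adjunction.homEquiv_naturality_right_symm]
  simp only [Sheaf.H.map_apply]
  rw [Ext.comp_assoc_of_third_deg_zero, Ext.mk₀_comp_mk₀]
  exact congrArg (fun t => Ext.comp ((CohPull.pullMod r M p) x) (Ext.mk₀ t) (add_zero p))
    ((SheafOfModules.toSheaf X.ringCatSheaf).map_comp _ _).symm

lemma pvm_congr {r r' : X ⟶ Y} (h : r = r') {M : Y.Modules} {N : X.Modules}
    (u : M ⟶ (pushforward r).obj N) (p : ℕ) (x : Coh.HH Y M p) :
    pvm r u p x = pvm r' (u ≫ (pushforwardCongr h).hom.app N) p x := by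
  subst h
  congr 1
  ext W : 1
  rw [Hom.comp_app, pushforwardCongr_hom_app_app]
  simp

end ModLevel


section AdjGeneric
variable {C D : Type*} [Category C] [Category D] {F F' : C ⥤ D} {G : D ⥤ C}

lemma homEquiv_leftAdjointUniq_hom_comp (adj1 : F ⊣ G) (adj2 : F' ⊣ G) {x : C} {y : D}
    (m : F'.obj x ⟶ y) :
    adj1.homEquiv _ _ ((adj1.leftAdjointUniq adj2).hom.app x ≫ m) = adj2.homEquiv _ _ m := by
  rw [Adjunction.homEquiv_unit, Functor.map_comp, ← Category.assoc,
    Adjunction.unit_leftAdjointUniq_hom_app, ← Adjunction.homEquiv_unit]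

lemma homEquiv_leftAdjointUniq_inv_comp (adj1 : F ⊣ G) (adj2 : F' ⊣ G) {x : C} {y : D}
    (m : F.obj x ⟶ y) :
    adj2.homEquiv _ _ ((adj1.leftAdjointUniq adj2).inv.app x ≫ m) = adj1.homEquiv _ _ m := by
  rw [← homEquiv_leftAdjointUniq_hom_comp adj1 adj2, Iso.hom_inv_id_app_assoc]

end AdjGeneric

section SchemeT
open Scheme.Modules
variable {X Y Z : Scheme.{u}}

lemma homEquiv_pullbackComp_inv_comp (a : X ⟶ Y) (b : Y ⟶ Z) {F : Z.Modules} {Q : X.Modules}
    (m : (Scheme.Modules.pullback a).obj ((Scheme.Modules.pullback b).obj F) ⟶ Q) :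
    (pullbackPushforwardAdjunction (a ≫ b)).homEquiv _ _ ((pullbackComp a b).inv.app F ≫ m) =
      (pullbackPushforwardAdjunction b).homEquiv _ _ ((pullbackPushforwardAdjunction a).homEquiv _ _ m) ≫
        (pushforwardComp a b).hom.app Q := by
  have h := unit_conjugateEquiv
    ((pullbackPushforwardAdjunction b).comp (pullbackPushforwardAdjunction a))
    (pullbackPushforwardAdjunction (a ≫ b)) (pullbackComp a b).inv F
  rw [conjugateEquiv_pullbackComp_inv] at h
  rw [Adjunction.homEquiv_unit, Functor.map_comp, ← Category.assoc, ← h, Category.assoc,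
    ← (pushforwardComp a b).hom.naturality, ← Category.assoc]
  congr 1

lemma homEquiv_pullbackComp_hom_comp (a : X ⟶ Y) (b : Y ⟶ Z) {F : Z.Modules} {Q : X.Modules}
    (m : (Scheme.Modules.pullback (a ≫ b)).obj F ⟶ Q) :
    (pullbackPushforwardAdjunction b).homEquiv _ _ ((pullbackPushforwardAdjunction a).homEquiv _ _
        ((pullbackComp a b).hom.app F ≫ m)) =
      (pullbackPushforwardAdjunction (a ≫ b)).homEquiv _ _ m ≫ (pushforwardComp a b).inv.app Q := by
  have := homEquiv_pullbackComp_inv_comp a b ((pullbackComp a b).hom.app F ≫ m)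
  rw [Iso.inv_hom_id_app_assoc] at this
  rw [this, Category.assoc, Iso.hom_inv_id_app]
  exact (Category.comp_id _).symm

lemma homEquiv_pullbackCongr_hom_comp {k k' : X ⟶ Y} (h : k = k') {F : Y.Modules} {Q : X.Modules}
    (m : (Scheme.Modules.pullback k').obj F ⟶ Q) :
    (pullbackPushforwardAdjunction k).homEquiv _ _ ((pullbackCongr h).hom.app F ≫ m) =
      (pullbackPushforwardAdjunction k').homEquiv _ _ m ≫ (pushforwardCongr h).inv.app Q := by
  subst h
  have h1 : (pullbackCongr (rfl : k = k)).hom.app F = 𝟙 _ := by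
    simp [pullbackCongr]
  rw [h1, Category.id_comp]
  symm
  convert Category.comp_id _
  ext W : 1
  rw [pushforwardCongr_inv_app_app]
  simp

end SchemeT


section Square
open Scheme.Modules
variable {A A' X Y : Scheme.{u}} (j : A ⟶ Y) (j' : A' ⟶ X) [IsOpenImmersion j] [IsOpenImmersion j']
  (b : A' ⟶ A) (g : X ⟶ Y) (hsq : b ≫ j = j' ≫ g) (F : Y.Modules)

/-- the generic form of `CohPull.pullOnIso` -/
noncomputable def sqIso :
    (Scheme.Modules.pullback b).obj (F.restrict j) ≅ ((Scheme.Modules.pullback g).obj F).restrict j' :=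
  (Scheme.Modules.pullback b).mapIso ((restrictFunctorIsoPullback j).app F) ≪≫
    (pullbackComp b j).app F ≪≫ (pullbackCongr hsq).app F ≪≫
    ((pullbackComp j' g).app F).symm ≪≫
    ((restrictFunctorIsoPullback j').app ((Scheme.Modules.pullback g).obj F)).symm

/-- the sectionwise-identity comparison of direct images around the square -/
noncomputable def kap (N : A'.Modules) :
    (pushforward g).obj ((pushforward j').obj N) ⟶ (pushforward j).obj ((pushforward b).obj N) :=
  (pushforwardComp j' g).hom.app N ≫ (pushforwardCongr hsq).inv.app N ≫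
    (pushforwardComp b j).inv.app N

lemma K_sq :
    (restrictAdjunction j).homEquiv _ _
        ((pullbackPushforwardAdjunction b).homEquiv _ _ (sqIso j j' b g hsq F).hom) =
      (pullbackPushforwardAdjunction g).homEquiv _ _
          ((restrictAdjunction j').homEquiv _ _ (𝟙 (((Scheme.Modules.pullback g).obj F).restrict j'))) ≫
        kap j j' b g hsq _ := by
  unfold sqIso
  simp only [Iso.trans_hom, Functor.mapIso_hom, Iso.app_hom, Iso.symm_hom, Iso.app_inv]
  rw [Adjunction.homEquiv_naturality_left]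
  rw [show (restrictFunctorIsoPullback j).hom.app F =
    ((restrictAdjunction j).leftAdjointUniq (pullbackPushforwardAdjunction j)).hom.app F from rfl]
  rw [homEquiv_leftAdjointUniq_hom_comp, homEquiv_pullbackComp_hom_comp,
    homEquiv_pullbackCongr_hom_comp, homEquiv_pullbackComp_inv_comp]
  have := homEquiv_leftAdjointUniq_inv_comp (restrictAdjunction j')
    (pullbackPushforwardAdjunction j') (x := (Scheme.Modules.pullback g).obj F) (𝟙 _)
  rw [Category.comp_id] at this
  rw [show (restrictFunctorIsoPullback j').inv.app ((Scheme.Modules.pullback g).obj F) =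
    ((restrictAdjunction j').leftAdjointUniq (pullbackPushforwardAdjunction j')).inv.app _ from rfl]
  rw [this]
  unfold kap
  simp only [Category.assoc]


lemma kap_naturality {N N₂ : A'.Modules} (s : N ⟶ N₂) :
    kap j j' b g hsq N ≫ (pushforward j).map ((pushforward b).map s) =
      (pushforward g).map ((pushforward j').map s) ≫ kap j j' b g hsq N₂ := by
  unfold kap
  have h1 := (pushforwardComp b j).inv.naturality s
  have h2 := (pushforwardCongr hsq).inv.naturality s
  have h3 := (pushforwardComp j' g).hom.naturality s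
  simp only [Functor.comp_map] at h1 h3
  rw [Category.assoc, Category.assoc, ← h1, ← reassoc_of% h2, ← reassoc_of% h3]

end Square

section DoubleSquare
open Scheme.Modules
variable {A A' A'' X Y Z : Scheme.{u}} (j : A ⟶ Z) (j' : A' ⟶ Y) (j'' : A'' ⟶ X)
  [IsOpenImmersion j] [IsOpenImmersion j'] [IsOpenImmersion j'']
  (a : A'' ⟶ A') (b : A' ⟶ A) (r : A'' ⟶ A) (f : X ⟶ Y) (g : Y ⟶ Z)
  (hsq₁ : a ≫ j' = j'' ≫ f) (hsq₂ : b ≫ j = j' ≫ g) (hr : r = a ≫ b)
  (hsq₃ : r ≫ j = j'' ≫ (f ≫ g)) (L : Z.Modules)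

lemma homEquiv_comp_eq {Q : X.Modules} (m : (Scheme.Modules.pullback (f ≫ g)).obj L ⟶ Q) :
    (pullbackPushforwardAdjunction (f ≫ g)).homEquiv _ _ m =
      (pullbackPushforwardAdjunction g).homEquiv _ _ ((pullbackPushforwardAdjunction f).homEquiv _ _
        ((pullbackComp f g).hom.app L ≫ m)) ≫ (pushforwardComp f g).hom.app Q := by
  rw [← homEquiv_pullbackComp_inv_comp, Iso.inv_hom_id_app_assoc]

lemma K_sq' {A A' X Y : Scheme.{u}} (j : A ⟶ Y) (j' : A' ⟶ X) [IsOpenImmersion j] [IsOpenImmersion j']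
    (b : A' ⟶ A) (g : X ⟶ Y) (hsq : b ≫ j = j' ≫ g) (F : Y.Modules) :
    (restrictAdjunction j).homEquiv _ _
        ((pullbackPushforwardAdjunction b).homEquiv _ _ (sqIso j j' b g hsq F).hom) =
      (pullbackPushforwardAdjunction g).homEquiv _ _
          ((restrictAdjunction j').unit.app ((Scheme.Modules.pullback g).obj F)) ≫
        kap j j' b g hsq _ := by
  rw [K_sq, Adjunction.homEquiv_id]
  rfl

lemma app_map' {S : Scheme.{u}} {M N : S.Modules} (φ : M ⟶ N) {W W' : S.Opens}
    (p : op W ⟶ op W') (x : M.presheaf.obj (op W)) :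
    φ.app W' (M.presheaf.map p x) = N.presheaf.map p (φ.app W x) := by
  have := congr_arg (fun k => k x) (congrArg (fun k => k.hom) (φ.mapPresheaf.naturality p))
  exact this

lemma sect_aux {S : Scheme.{u}} {N₁ N₂ : S.Modules} (w : N₁ ⟶ N₂) {V₁ V₂ V₃ V₄ : S.Opens}
    (p : op V₁ ⟶ op V₂) (q : op V₂ ⟶ op V₄) (p₁ : op V₁ ⟶ op V₃) (p₂ : op V₃ ⟶ op V₄)
    (x : N₁.presheaf.obj (op V₁)) :
    N₂.presheaf.map p₂ (N₂.presheaf.map p₁ (w.app V₁ x)) =
      N₂.presheaf.map q (w.app V₂ (N₁.presheaf.map p x)) := by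
  rw [app_map']
  have h : p₁ ≫ p₂ = p ≫ q := Subsingleton.elim _ _
  have := congr_arg (fun k => k (w.app V₁ x)) (congrArg (fun k => k.hom)
    ((N₂.presheaf.map_comp p₁ p₂).symm.trans ((congrArg N₂.presheaf.map h).trans
      (N₂.presheaf.map_comp p q))))
  exact this

lemma assemble_aux {C : Type*} [Category C] {P Q R S T : C} {x : P ⟶ Q} {gs : Q ⟶ R} {ξ : P ⟶ S}
    {t : S ⟶ R} (hR : x ≫ gs = ξ ≫ t) (rest : R ⟶ T) : x ≫ gs ≫ rest = ξ ≫ t ≫ rest := by
  rw [← Category.assoc, hR, Category.assoc]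

lemma M2 :
    (pullbackPushforwardAdjunction r).homEquiv _ _ (sqIso j j'' r (f ≫ g) hsq₃ L).hom ≫
        (pushforwardCongr hr).hom.app _ =
      (pullbackPushforwardAdjunction b).homEquiv _ _ (sqIso j j' b g hsq₂ L).hom ≫
        (pushforward b).map ((pullbackPushforwardAdjunction a).homEquiv _ _
            (sqIso j' j'' a f hsq₁ ((Scheme.Modules.pullback g).obj L)).hom ≫
          (pushforward a).map ((restrictFunctor j'').map ((pullbackComp f g).hom.app L))) ≫
        (pushforwardComp a b).hom.app _ := by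
  apply ((restrictAdjunction j).homEquiv _ _).injective
  rw [Adjunction.homEquiv_naturality_right, Adjunction.homEquiv_naturality_right, K_sq', K_sq']
  have e1 : (pullbackComp f g).hom.app L ≫
      (restrictAdjunction j'').unit.app ((Scheme.Modules.pullback (f ≫ g)).obj L) =
      (restrictAdjunction j'').unit.app ((Scheme.Modules.pullback f).obj ((Scheme.Modules.pullback g).obj L)) ≫
        (pushforward j'').map ((restrictFunctor j'').map ((pullbackComp f g).hom.app L)) :=
    (restrictAdjunction j'').unit.naturality ((pullbackComp f g).hom.app L)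
  have hL : (pullbackPushforwardAdjunction (f ≫ g)).homEquiv _ _
      ((restrictAdjunction j'').unit.app ((Scheme.Modules.pullback (f ≫ g)).obj L)) =
      ((pullbackPushforwardAdjunction g).homEquiv _ _ ((pullbackPushforwardAdjunction f).homEquiv _ _
        ((restrictAdjunction j'').unit.app
          ((Scheme.Modules.pullback f).obj ((Scheme.Modules.pullback g).obj L)))) ≫
        (pushforward g).map ((pushforward f).map ((pushforward j'').map
          ((restrictFunctor j'').map ((pullbackComp f g).hom.app L))))) ≫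
        (pushforwardComp f g).hom.app _ := by
    rw [homEquiv_comp_eq, e1, Adjunction.homEquiv_naturality_right,
      Adjunction.homEquiv_naturality_right]
    rfl
  have hR : (pullbackPushforwardAdjunction g).homEquiv _ _
      ((restrictAdjunction j').unit.app ((Scheme.Modules.pullback g).obj L)) ≫
      (pushforward g).map ((pushforward j').map
        ((pullbackPushforwardAdjunction a).homEquiv _ _
            (sqIso j' j'' a f hsq₁ ((Scheme.Modules.pullback g).obj L)).hom ≫
          (pushforward a).map ((restrictFunctor j'').map ((pullbackComp f g).hom.app L)))) =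
      (pullbackPushforwardAdjunction g).homEquiv _ _ ((pullbackPushforwardAdjunction f).homEquiv _ _
        ((restrictAdjunction j'').unit.app
          ((Scheme.Modules.pullback f).obj ((Scheme.Modules.pullback g).obj L)))) ≫
        (pushforward g).map (kap j' j'' a f hsq₁ _ ≫ (pushforward j').map ((pushforward a).map
          ((restrictFunctor j'').map ((pullbackComp f g).hom.app L)))) := by
    rw [← Adjunction.homEquiv_naturality_right, ← Adjunction.homEquiv_unit,
      Adjunction.homEquiv_naturality_right, K_sq', Category.assoc,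
      Adjunction.homEquiv_naturality_right]
  rw [hL, Functor.map_comp]
  simp only [Category.assoc]
  rw [reassoc_of% (kap_naturality j j' b g hsq₂
    ((pullbackPushforwardAdjunction a).homEquiv _ _
            (sqIso j' j'' a f hsq₁ ((Scheme.Modules.pullback g).obj L)).hom ≫
          (pushforward a).map ((restrictFunctor j'').map ((pullbackComp f g).hom.app L))))]
  refine Eq.trans ?_ (assemble_aux hR _).symm
  congr 1
  ext W : 1
  simp only [kap, Hom.comp_app, pushforward_map_app, pushforwardComp_hom_app_app,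
    pushforwardComp_inv_app_app, pushforwardCongr_inv_app_app, pushforwardCongr_hom_app_app,
    Category.id_comp, Category.comp_id]
  ext x
  exact sect_aux ((restrictFunctor j'').map ((pullbackComp f g).hom.app L)) _ _ _ _ x

end DoubleSquare


section Core
open Scheme.Modules
variable {X Y Z : Scheme.{u}}

lemma pullOn_eq_pvm (g : X ⟶ Y) (U : Y.Opens) (U' : X.Opens) (h : U' ≤ g ⁻¹ᵁ U) (F : Y.Modules)
    (p : ℕ) (x : Coh.HHon Y F U p) :
    CohPull.pullOn g U U' h F p x =
      pvm (g.resLE U U' h) ((pullbackPushforwardAdjunction (g.resLE U U' h)).homEquiv _ _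
        (sqIso U.ι U'.ι (g.resLE U U' h) g (Scheme.Hom.resLE_comp_ι g h) F).hom) p x :=
  mapH_pullMod (g.resLE U U' h) (CohPull.pullOnIso g U U' h F).hom p x

lemma pullOn_comp (f : X ⟶ Y) (g : Y ⟶ Z) (U : Z.Opens) (U' : Y.Opens) (U'' : X.Opens)
    (h₁ : U' ≤ g ⁻¹ᵁ U) (h₂ : U'' ≤ f ⁻¹ᵁ U') (h₃ : U'' ≤ (f ≫ g) ⁻¹ᵁ U) (L : Z.Modules) (p : ℕ)
    (x : Coh.HHon Z L U p) :
    CohPull.pullOn (f ≫ g) U U'' h₃ L p x =
      CohPull.mapH ((restrictFunctor U''.ι).map ((pullbackComp f g).hom.app L)) p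
        (CohPull.pullOn f U' U'' h₂ ((Scheme.Modules.pullback g).obj L) p
          (CohPull.pullOn g U U' h₁ L p x)) := by
  have hr : (f ≫ g).resLE U U'' h₃ = f.resLE U' U'' h₂ ≫ g.resLE U U' h₁ :=
    (Scheme.Hom.resLE_comp_resLE f h₂ g h₁).symm
  rw [pullOn_eq_pvm, pullOn_eq_pvm, pullOn_eq_pvm, mapH_pvm, pvm_comp, pvm_congr hr]
  congr 1
  exact M2 U.ι U'.ι U''.ι (f.resLE U' U'' h₂) (g.resLE U U' h₁) ((f ≫ g).resLE U U'' h₃) f g
    (Scheme.Hom.resLE_comp_ι f h₂) (Scheme.Hom.resLE_comp_ι g h₁) hr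
    (Scheme.Hom.resLE_comp_ι (f ≫ g) h₃) L

end Core

section Final
open Scheme.Modules

lemma hom_ext_of_eps {Z W : Scheme.{u}} (ζ : Z ⟶ W) [HasInjectiveResolutions Z.Modules]
    {Δ : RDer.DerivedLES (pushforward ζ)} (E : CohCmp.SectCmp ζ Δ) (L : Z.Modules) (p : ℕ)
    {T : W.Modules} (α β : (Coh.Rpush ζ p).obj L ⟶ T)
    (h : ∀ (V : W.Opens) (x : Coh.HHon Z L (ζ ⁻¹ᵁ V) p),
      α.app V (E.ε V L p x) = β.app V (E.ε V L p x)) :
    α = β := by
  ext V : 1
  ext t
  choose Wy hWy hyW xy hxy using fun (y : ↥V) => Groth.Agent.S16954.result ζ E L p V t y.1 y.2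
  refine TopCat.Sheaf.eq_of_locally_eq' ⟨T.presheaf, T.isSheaf⟩ (fun y : ↥V => Wy y) V
    (fun y => homOfLE (hWy y)) ?_ _ _ ?_
  · intro y hy
    exact Opens.mem_iSup.mpr ⟨⟨y, hy⟩, hyW ⟨y, hy⟩⟩
  · intro y
    refine (Groth.Agent.S16954.app_map α (hWy y) t).symm.trans ?_
    refine Eq.trans ?_ (Groth.Agent.S16954.app_map β (hWy y) t)
    rw [← hxy y]
    exact h _ _

end Final

--CORE

end Aux


open AlgebraicGeometry CategoryTheory Scheme.Modules in
/-- Take two cartesian squares of schemes side by side, f : X → Y over φ : U → V (vertical maps ξ : X →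
U and η : Y → V, f ≫ η = ξ ≫ φ) and g : Y → Z over ψ : V → W (vertical map ζ : Z → W, g ≫ ζ = η ≫
ψ), a quasi-coherent O_Z-module L and a natural number p. Write β for the degree-p base change maps
of higher direct images (R^p the p-th right derived functor of direct image on O-modules; the maps
are the pinned ones of the structure GenBC relative to pinned comparison data for ζ, η and ξ): B₂
for the right square, B₁ for the left square, B for the outer square. Then the composite of the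
composition isomorphism φ^* ψ^* R^p ζ_* L ≅ (φ ≫ ψ)^* R^p ζ_* L with β_B(L) equals φ^* β_{B₂}(L)
followed by β_{B₁}(g^* L) followed by R^p ξ_* of the composition isomorphism f^* g^* L ≅ (f ≫ g)^*
L. The source states this for arbitrary ζ and η; its verification evaluates both sides on sections
of R^p ζ_* L and R^p η_*(g^* L) over affine opens, identified with cohomology classes over their
preimages, and that identification is the one available for ζ and η quasi-compact and
quasi-separated, which are therefore assumed here. -/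
theorem result
    {X Y Z U V W : Scheme.{u}} (f : X ⟶ Y) (g : Y ⟶ Z) (ξ : X ⟶ U) (η : Y ⟶ V) (ζ : Z ⟶ W)
    (φ : U ⟶ V) (ψ : V ⟶ W) (h₁ : IsPullback f ξ η φ) (h₂ : IsPullback g η ζ ψ)
    (hw : (f ≫ g) ≫ ζ = ξ ≫ (φ ≫ ψ))
    [QuasiCompact ζ] [QuasiSeparated ζ] [QuasiCompact η] [QuasiSeparated η]
    [HasInjectiveResolutions X.Modules] [HasInjectiveResolutions Y.Modules] [HasInjectiveResolutions Z.Modules]
    (L : Z.Modules) [Coh.IsQCoh L] (p : ℕ)
    {Δζ : RDer.DerivedLES (pushforward ζ)} {Δη : RDer.DerivedLES (pushforward η)} {Δξ : RDer.DerivedLES (pushforward ξ)}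
    (Eζ : CohCmp.SectCmp ζ Δζ) (Eη : CohCmp.SectCmp η Δη) (Eξ : CohCmp.SectCmp ξ Δξ)
    (B₂ : CohCmp.GenBC ζ ψ η g h₂.w Eζ Eη) (B₁ : CohCmp.GenBC η φ ξ f h₁.w Eη Eξ)
    (B : CohCmp.GenBC ζ (φ ≫ ψ) ξ (f ≫ g) hw Eζ Eξ) :
    (pullbackComp φ ψ).hom.app ((Coh.Rpush ζ p).obj L) ≫ B.bc p L =
      (pullback φ).map (B₂.bc p L) ≫ B₁.bc p ((pullback g).obj L) ≫
        (Coh.Rpush ξ p).map ((pullbackComp f g).hom.app L) := by
  apply ((pullbackPushforwardAdjunction φ).homEquiv _ _).injective
  apply ((pullbackPushforwardAdjunction ψ).homEquiv _ _).injective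
  rw [homEquiv_pullbackComp_hom_comp, Adjunction.homEquiv_naturality_left,
    Adjunction.homEquiv_naturality_right, Adjunction.homEquiv_naturality_right]
  unfold CohCmp.GenBC.bc
  rw [Equiv.apply_symm_apply, Equiv.apply_symm_apply, Equiv.apply_symm_apply]
  apply hom_ext_of_eps ζ Eζ L p
  intro V₀ x
  rw [Hom.comp_app, Hom.comp_app]
  have hL : (Hom.app (B.φ p L) V₀ ≫ Hom.app ((pushforwardComp φ ψ).inv.app
      ((Coh.Rpush ξ p).obj ((Scheme.Modules.pullback (f ≫ g)).obj L))) V₀) (Eζ.ε V₀ L p x) =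
      (B.φ p L).app V₀ (Eζ.ε V₀ L p x) := rfl
  have hR : (Hom.app (B₂.φ p L) V₀ ≫ Hom.app ((pushforward ψ).map
      (B₁.φ p ((Scheme.Modules.pullback g).obj L) ≫
        (pushforward φ).map ((Coh.Rpush ξ p).map ((pullbackComp f g).hom.app L)))) V₀)
      (Eζ.ε V₀ L p x) =
      ((Coh.Rpush ξ p).map ((pullbackComp f g).hom.app L)).app (φ ⁻¹ᵁ ψ ⁻¹ᵁ V₀)
        ((B₁.φ p ((Scheme.Modules.pullback g).obj L)).app (ψ ⁻¹ᵁ V₀)
          ((B₂.φ p L).app V₀ (Eζ.ε V₀ L p x))) := rfl
  refine hL.trans (Eq.trans ?_ hR.symm)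
  rw [B.compat, B₂.compat, B₁.compat]
  refine Eq.trans ?_ (Eξ.natural _ _ _ _)
  exact congrArg (Eξ.ε _ _ p) (pullOn_comp f g _ _ _ _ _ _ L p x)

end Groth.Agent.S16948
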