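import Groth.Statements.S16952
import Groth.Agent.Lib.Helper26.ExtEdge
import Groth.Agent.S11319

set_option autoImplicit false
universe u
open Coherent

namespace Groth.Agent.S16952

open CategoryTheory CategoryTheory.Limits AlgebraicGeometry TopologicalSpace Opposite
open Groth.Agent.Lib.Helper26

section Top

variable {X Y : TopCat.{u}} (f : X ⟶ Y)

/-- the Leray edge map for abelian sheaves on spaces -/
noncomputable abbrev edgeAb (A : CohTop.Ab X) (p : ℕ)
    (x : Sheaf.H ((CohTop.push f).obj A) p) : Sheaf.H A p :=
  ExtEdge.edge (CohPull.invPushAdj f) (CohPull.oneTo f) A p x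

lemma edgeAb_eq (A : CohTop.Ab X) (p : ℕ) (x : Sheaf.H ((CohTop.push f).obj A) p) :
    edgeAb f A p x = Sheaf.H.map ((CohPull.invPushAdj f).counit.app A) p
      (CohPull.pullAb f ((CohTop.push f).obj A) p x) := by
  rw [Sheaf.H.map_apply]
  simp only [CohPull.pullAb, AddMonoidHom.coe_comp, Function.comp_apply,
    Functor.mapExtAddHom_apply, Abelian.Ext.bilinearComp_apply_apply]
  unfold edgeAb ExtEdge.edge
  rw [Abelian.Ext.comp_assoc_of_third_deg_zero]

lemma equiv₀_edgeAb (A : CohTop.Ab X) (x : Sheaf.H ((CohTop.push f).obj A) 0) :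
    Sheaf.H.equiv₀ A isTerminalTop (edgeAb f A 0 x) =
      Sheaf.H.equiv₀ ((CohTop.push f).obj A) isTerminalTop x := by
  rw [edgeAb_eq]
  have h1 := Sheaf.H.equiv₀_naturality (hT := isTerminalTop)
    ((CohPull.invPushAdj f).counit.app A) (CohPull.pullAb f ((CohTop.push f).obj A) 0 x)
  have h2 := CohPull.equiv₀_pullAb f ((CohTop.push f).obj A) x
  refine h1.symm.trans ?_
  refine (congrArg (((CohPull.invPushAdj f).counit.app A).hom.app (op ⊤)) h2).trans ?_
  have h := (CohPull.invPushAdj f).right_triangle_components A
  have := congr_arg (fun t => (t.hom.app (op ⊤))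
    (Sheaf.H.equiv₀ ((CohTop.push f).obj A) isTerminalTop x)) h
  simp only [ObjectProperty.FullSubcategory.comp_hom, NatTrans.comp_app,
    ConcreteCategory.comp_apply] at this
  exact this

lemma edgeAb_zero_bijective (A : CohTop.Ab X) : Function.Bijective (edgeAb f A 0) := by
  have h : edgeAb f A 0 = (Sheaf.H.equiv₀ A isTerminalTop).symm ∘
      (Sheaf.H.equiv₀ ((CohTop.push f).obj A) isTerminalTop) := by
    funext x
    apply (Sheaf.H.equiv₀ A isTerminalTop).injective
    rw [equiv₀_edgeAb]
    simp
  rw [h]
  exact (Sheaf.H.equiv₀ A isTerminalTop).symm.bijective.comp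
    (Sheaf.H.equiv₀ ((CohTop.push f).obj A) isTerminalTop).bijective

lemma preservesFiniteLimits_push : PreservesFiniteLimits (CohTop.push f) := by
  have : (CohTop.push f).IsRightAdjoint := (CohPull.invPushAdj f).isRightAdjoint
  infer_instance

/-- **Leray edge map for abelian sheaves**: bijective on `f_*`-acyclic sheaves. -/
theorem edgeAb_bijective (A : CohTop.Ab X)
    (hA : ∀ q : ℕ, IsZero ((CohTop.Rpush f (q + 1)).obj A)) (p : ℕ) :
    Function.Bijective (edgeAb f A p) := by
  have := preservesFiniteLimits_push f
  exact ExtEdge.edge_bijective (CohPull.invPushAdj f) (CohPull.oneTo f)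
    (edgeAb_zero_bijective f) p A hA

end Top

section Sch

variable {X Y : Scheme.{u}} (f : X ⟶ Y)

/-- `theta` followed by the counit of modules is the counit of abelian sheaves -/
lemma theta_comp_counit (G : X.Modules) :
    CohPull.theta f ((Scheme.Modules.pushforward f).obj G) ≫
      (SheafOfModules.toSheaf X.ringCatSheaf).map
        ((Scheme.Modules.pullbackPushforwardAdjunction f).counit.app G) =
    (CohPull.invPushAdj f.base).counit.app (Coh.toAb G) := by
  unfold CohPull.theta
  rw [← Adjunction.homEquiv_naturality_right_symm]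
  have h := (Scheme.Modules.pullbackPushforwardAdjunction f).right_triangle_components G
  have h' : (SheafOfModules.toSheaf Y.ringCatSheaf).map
        ((Scheme.Modules.pullbackPushforwardAdjunction f).unit.app
          ((Scheme.Modules.pushforward f).obj G)) ≫
      (CohTop.push f.base).map ((SheafOfModules.toSheaf X.ringCatSheaf).map
        ((Scheme.Modules.pullbackPushforwardAdjunction f).counit.app G)) =
      𝟙 ((CohTop.push f.base).obj (Coh.toAb G)) :=
    ((SheafOfModules.toSheaf Y.ringCatSheaf).map_comp _ _).symm.trans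
      ((congrArg (SheafOfModules.toSheaf Y.ringCatSheaf).map h).trans
        ((SheafOfModules.toSheaf Y.ringCatSheaf).map_id _))
  refine (congrArg ((CohPull.invPushAdj f.base).homEquiv _ _).symm h').trans ?_
  rw [Adjunction.homEquiv_counit]
  erw [CategoryTheory.Functor.map_id, Category.id_comp]
  rfl

lemma pushEdge_eq_edgeAb (G : X.Modules) (p : ℕ)
    (x : Coh.HH Y ((Scheme.Modules.pushforward f).obj G) p) :
    CohPull.pushEdge f G p x = edgeAb f.base (Coh.toAb G) p x := by
  rw [edgeAb_eq, ← theta_comp_counit]
  simp only [CohPull.pushEdge, CohPull.pullMod, CohPull.mapH, AddMonoidHom.coe_comp,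
    Function.comp_apply]
  rw [Sheaf.H.map_apply, Sheaf.H.map_apply, Sheaf.H.map_apply,
    Abelian.Ext.comp_assoc_of_third_deg_zero, Abelian.Ext.mk₀_comp_mk₀]
  rfl

end Sch



open AlgebraicGeometry CategoryTheory Scheme.Modules in
/-- For O-modules on schemes, with the identification given by the edge map: let f : X → Y be a morphism
of schemes and G an O_X-module whose higher direct images R^q f_* G (right derived functors of
direct image on O-modules) vanish for all q > 0. Then for every p the edge map H^p(Y, f_* G) →
H^p(X, G), pullback of cohomology classes along f followed by the map induced by the counit f^* f_*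
G → G, is bijective. -/
theorem result
    {X Y : Scheme.{u}} (f : X ⟶ Y) [HasInjectiveResolutions X.Modules] (G : X.Modules)
    (hG : ∀ q : ℕ, 0 < q → Limits.IsZero ((Coh.Rpush f q).obj G)) (p : ℕ) :
    Function.Bijective (CohPull.pushEdge f G p) := by
  have hA : ∀ q : ℕ, IsZero ((CohTop.Rpush f.base (q + 1)).obj (Coh.toAb G)) := by
    intro q
    obtain ⟨e⟩ := Groth.Agent.S11319.result f G (q + 1)
    refine IsZero.of_iso ?_ e.symm
    have := Groth.Agent.S11319.additive_toAbF Y
    exact (Groth.Agent.S11319.toAbF Y).map_isZero (hG (q + 1) (Nat.succ_pos q))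
  have hb := edgeAb_bijective f.base (Coh.toAb G) hA p
  have heq : ⇑(CohPull.pushEdge f G p) = edgeAb f.base (Coh.toAb G) p :=
    funext (pushEdge_eq_edgeAb f G p)
  rw [heq]
  exact hb

end Groth.Agent.S16952
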