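import Groth.Statements.S13626
import Groth.Agent.S16948
import Groth.Agent.S16952
import Groth.Agent.Lib.Helper26.QCohRpush
import Groth.Agent.Lib.Helper48.PullUnit

set_option autoImplicit false
universe u
open CategoryTheory CategoryTheory.Limits AlgebraicGeometry
open Coh

namespace Groth.Agent.S13626

section Aux
open CategoryTheory AlgebraicGeometry Opposite TopologicalSpace Scheme.Modules

variable {X Y : Scheme.{u}}

lemma alg_aux {R A : Type*} [CommRing R] [CommRing A] (φ : R →+* A) (E : R → A)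
    (hE : Function.Bijective E) (hlin : ∀ r x, E (r * x) = φ r * E x) : Function.Bijective φ := by
  have h1 : ∀ r, E r = φ r * E 1 := fun r => by simpa using hlin r 1
  obtain ⟨a₀, ha₀⟩ := hE.2 1
  have hu : φ a₀ * E 1 = 1 := by rw [← h1, ha₀]
  have h2 : ∀ r, φ r = E r * φ a₀ := fun r => by
    rw [h1, mul_assoc, mul_comm (E 1), hu, mul_one]
  constructor
  · intro r r' h
    apply hE.1
    rw [h1 r, h1 r', h]
  · intro a
    obtain ⟨r, hr⟩ := hE.2 (a * E 1)
    refine ⟨r, ?_⟩
    rw [h2, hr, mul_assoc, mul_comm (E 1), hu, mul_one]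


/-- the canonical map `O_Y ⟶ f_* O_X` -/
noncomputable def eta0 (f : X ⟶ Y) :
    Coh.structureModule Y ⟶ (pushforward f).obj (Coh.structureModule X) :=
  SheafOfModules.unitToPushforwardObjUnit f.toRingCatSheafHom

lemma eta0_app (f : X ⟶ Y) (V : Y.Opens) (a : Γ(Y, V)) :
    (eta0 f).app V a = f.app V a := rfl

lemma isIso_of_app_bijective {M N : Y.Modules} (φ : M ⟶ N)
    (h : ∀ V : Y.Opens, Function.Bijective (φ.app V)) : IsIso φ := by
  rw [Hom.isIso_iff_isIso_app]
  intro V
  exact (ConcreteCategory.isIso_iff_bijective (φ.app V)).mpr (h V)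

lemma isIso_eta0 (f : X ⟶ Y)
    (e : (pushforward f).obj (Coh.structureModule X) ≅ Coh.structureModule Y) :
    IsIso (eta0 f) := by
  apply isIso_of_app_bijective
  intro V
  have hb : Function.Bijective (e.inv.app V) :=
    (ConcreteCategory.isIso_iff_bijective (e.inv.app V)).mp inferInstance
  have := alg_aux (f.app V).hom (fun a : Γ(Y, V) => (e.inv.app V a : Γ(X, f ⁻¹ᵁ V))) hb ?_
  · exact this
  · intro r x
    exact Hom.app_smul e.inv r x


/-- a morphism of modules whose restriction to `U` is an isomorphism is an isomorphism on stalks at points of `U` -/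
lemma isIso_stalk_of_isIso_restrict (U : Y.Opens) {M N : Y.Modules} (ψ : M ⟶ N)
    (h : IsIso ((restrictFunctor U.ι).map ψ)) (x : Y) (hx : x ∈ U) :
    IsIso ((TopCat.Presheaf.stalkFunctor AddCommGrpCat.{u} x).map ψ.mapPresheaf) := by
  let x' : (U : Scheme.{u}) := ⟨x, hx⟩
  let e := restrictStalkNatIso U.ι x'
  have nat := e.hom.naturality ψ
  have : IsIso ((restrictFunctor U.ι ⋙ toPresheaf _ ⋙
      TopCat.Presheaf.stalkFunctor _ x').map ψ) := by
    rw [Functor.comp_map]
    infer_instance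
  have h2 : (toPresheaf Y ⋙ TopCat.Presheaf.stalkFunctor AddCommGrpCat.{u} (U.ι x')).map ψ =
      inv (e.hom.app M) ≫ (restrictFunctor U.ι ⋙ toPresheaf _ ⋙
      TopCat.Presheaf.stalkFunctor _ x').map ψ ≫ e.hom.app N := by
    rw [nat, IsIso.inv_hom_id_assoc]
  have : IsIso ((toPresheaf _ ⋙
      TopCat.Presheaf.stalkFunctor AddCommGrpCat.{u} (U.ι x')).map ψ) := by
    rw [h2]; infer_instance
  exact this

lemma isIso_of_locally_isIso {M N : Y.Modules} (ψ : M ⟶ N)
    (h : ∀ y : Y, ∃ U : Y.Opens, y ∈ U ∧ IsIso ((restrictFunctor U.ι).map ψ)) : IsIso ψ := by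
  have h1 : ∀ y : Y, IsIso ((TopCat.Presheaf.stalkFunctor AddCommGrpCat.{u} y).map ψ.mapPresheaf) := by
    intro y
    obtain ⟨U, hyU, hU⟩ := h y
    exact isIso_stalk_of_isIso_restrict U ψ hU y hyU
  let ψ' : (⟨M.presheaf, M.isSheaf⟩ : TopCat.Sheaf AddCommGrpCat.{u} Y) ⟶ ⟨N.presheaf, N.isSheaf⟩ :=
    ⟨ψ.mapPresheaf⟩
  have h1' : ∀ y : Y, IsIso ((TopCat.Presheaf.stalkFunctor AddCommGrpCat.{u} y).map ψ'.1) := h1
  have h2 : IsIso ψ' := TopCat.Presheaf.isIso_of_stalkFunctor_map_iso ψ'
  have h3 : IsIso ((toPresheaf Y).map ψ) :=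
    @Functor.map_isIso _ _ _ _ _ _ (TopCat.Sheaf.forget AddCommGrpCat.{u} Y) ψ' h2
  exact isIso_of_reflects_iso ψ (toPresheaf Y)


lemma preimage_image_le (f : X ⟶ Y) (U : Y.Opens) (W : (U : Scheme.{u}).Opens) :
    f ⁻¹ᵁ (U.ι ''ᵁ W) ≤ f ⁻¹ᵁ U := by
  intro x hx
  obtain ⟨y, -, hy⟩ := hx
  change f.base x ∈ U
  rw [← hy]
  exact y.2

/-- restricted to `U`, the unit of `f^* ⊣ f_*` at `L` is an isomorphism as soon as the unit of the
restricted morphism at `L|_U` is -/
lemma isIso_restrict_unit (f : X ⟶ Y) (U : Y.Opens) (L : Y.Modules)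
    (h : IsIso ((pullbackPushforwardAdjunction (f ∣_ U)).unit.app (L.restrict U.ι))) :
    IsIso ((restrictFunctor U.ι).map ((pullbackPushforwardAdjunction f).unit.app L)) := by
  have K := Groth.Agent.S16948.K_sq U.ι (f ⁻¹ᵁ U).ι (f ∣_ U) f (morphismRestrict_ι f U) L
  have K' := congrArg ((restrictAdjunction U.ι).homEquiv _ _).symm K
  rw [Equiv.symm_apply_apply, Adjunction.homEquiv_counit, Adjunction.homEquiv_unit,
    Adjunction.homEquiv_unit, Adjunction.homEquiv_id, Functor.map_comp, Functor.map_comp,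
    Category.assoc, Category.assoc] at K'
  have i1 : IsIso ((restrictFunctor U.ι).map ((pushforward f).map
      ((restrictAdjunction (f ⁻¹ᵁ U).ι).unit.app ((Scheme.Modules.pullback f).obj L)))) := by
    rw [Hom.isIso_iff_isIso_app]
    intro W
    exact Groth.Agent.Lib.Helper26.QCohRpush.isIso_unit_app_of_le (f ⁻¹ᵁ U)
      ((Scheme.Modules.pullback f).obj L) (f ⁻¹ᵁ (U.ι ''ᵁ W)) (preimage_image_le f U W)
  have i2 : IsIso (Groth.Agent.S16948.kap U.ι (f ⁻¹ᵁ U).ι (f ∣_ U) f (morphismRestrict_ι f U)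
      (((Scheme.Modules.pullback f).obj L).restrict (f ⁻¹ᵁ U).ι)) := by
    unfold Groth.Agent.S16948.kap
    infer_instance
  have i3 : IsIso ((pullbackPushforwardAdjunction (f ∣_ U)).unit.app (L.restrict U.ι) ≫
      (pushforward (f ∣_ U)).map (Groth.Agent.S16948.sqIso U.ι (f ⁻¹ᵁ U).ι (f ∣_ U) f
        (morphismRestrict_ι f U) L).hom) := inferInstance
  rw [K'] at i3
  have i4 : IsIso ((restrictFunctor U.ι).map ((pushforward f).map
      ((restrictAdjunction (f ⁻¹ᵁ U).ι).unit.app ((Scheme.Modules.pullback f).obj L))) ≫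
      (restrictFunctor U.ι).map (Groth.Agent.S16948.kap U.ι (f ⁻¹ᵁ U).ι (f ∣_ U) f
        (morphismRestrict_ι f U) (((Scheme.Modules.pullback f).obj L).restrict (f ⁻¹ᵁ U).ι)) ≫
      (restrictAdjunction U.ι).counit.app _) := inferInstance
  exact @IsIso.of_isIso_comp_right _ _ _ _ _ _ _ i4 i3


lemma app_bijective_of_iso (f : X ⟶ Y)
    (e : (pushforward f).obj (Coh.structureModule X) ≅ Coh.structureModule Y) (V : Y.Opens) :
    Function.Bijective (f.app V) := by
  have hb : Function.Bijective (e.inv.app V) :=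
    (ConcreteCategory.isIso_iff_bijective (e.inv.app V)).mp inferInstance
  exact alg_aux (f.app V).hom (fun a : Γ(Y, V) => (e.inv.app V a : Γ(X, f ⁻¹ᵁ V))) hb
    (fun r x => Hom.app_smul e.inv r x)

lemma isIso_eta0_of_bijective (f : X ⟶ Y) (hf : ∀ V : Y.Opens, Function.Bijective (f.app V)) :
    IsIso (eta0 f) :=
  isIso_of_app_bijective _ (fun V => hf V)

lemma morphismRestrict_app_bijective (f : X ⟶ Y) (hf : ∀ V : Y.Opens, Function.Bijective (f.app V))
    (U : Y.Opens) (W : (U : Scheme.{u}).Opens) : Function.Bijective ((f ∣_ U).app W) := by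
  rw [morphismRestrict_app]
  have h2 : Function.Bijective (X.presheaf.map
      (eqToHom (image_morphismRestrict_preimage f U W)).op) :=
    (ConcreteCategory.isIso_iff_bijective _).mp inferInstance
  exact h2.comp (hf (U.ι ''ᵁ W))

lemma isIso_unit_structure (b : X ⟶ Y) (hb : IsIso (eta0 b)) :
    IsIso ((pullbackPushforwardAdjunction b).unit.app (Coh.structureModule Y)) := by
  have h2 : (pullbackPushforwardAdjunction b).homEquiv _ _
      (Groth.Agent.Lib.Helper48.PullUnit.unitHom b) = eta0 b := by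
    have : (SheafOfModules.pushforward b.toRingCatSheafHom).IsRightAdjoint :=
      inferInstanceAs ((Scheme.Modules.pushforward b).IsRightAdjoint)
    exact SheafOfModules.pullbackPushforwardAdjunction_homEquiv_pullbackObjUnitToUnit
      b.toRingCatSheafHom
  rw [Adjunction.homEquiv_unit] at h2
  have : IsIso ((pullbackPushforwardAdjunction b).unit.app (Coh.structureModule Y) ≫
      (pushforward b).map (Groth.Agent.Lib.Helper48.PullUnit.unitHom b)) := by
    rw [h2]; exact hb
  exact IsIso.of_isIso_comp_right _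
    ((pushforward b).map (Groth.Agent.Lib.Helper48.PullUnit.unitHom b))

lemma isIso_unit_of_iso (b : X ⟶ Y) {M M' : Y.Modules} (t : M ≅ M')
    (h : IsIso ((pullbackPushforwardAdjunction b).unit.app M')) :
    IsIso ((pullbackPushforwardAdjunction b).unit.app M) := by
  have nat := (pullbackPushforwardAdjunction b).unit.naturality t.hom
  simp only [Functor.id_map, Functor.comp_map] at nat
  have h3 : (pullbackPushforwardAdjunction b).unit.app M =
      t.hom ≫ (pullbackPushforwardAdjunction b).unit.app M' ≫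
        (pushforward b).map ((Scheme.Modules.pullback b).map t.inv) := by
    rw [← Category.assoc, nat, Category.assoc, ← Functor.map_comp, ← Functor.map_comp,
      Iso.hom_inv_id, CategoryTheory.Functor.map_id, CategoryTheory.Functor.map_id]
    exact (Category.comp_id _).symm
  rw [h3]
  infer_instance


open Groth.Agent.Lib.Helper26 Groth.Agent.Lib.Helper26.QCohRpush Groth.Agent.Lib.Helper26.ModMV
  Groth.Agent.Lib.Helper26.FunctorMV in
/-- restriction to an open of the base commutes with higher direct images -/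
lemma nonempty_restrict_Rpush_iso (f : X ⟶ Y) [HasInjectiveResolutions X.Modules] (U : Y.Opens)
    (M : X.Modules) (p : ℕ) :
    haveI := hasInjectiveResolutions_modules ((f ⁻¹ᵁ U : X.Opens) : Scheme.{u})
    Nonempty ((restrictFunctor U.ι).obj ((Coh.Rpush f p).obj M) ≅
      (Coh.Rpush (f ∣_ U) p).obj (M.restrict (f ⁻¹ᵁ U).ι)) := by
  have hraS := restrictFunctor_additive U.ι
  have hraX := restrictFunctor_additive (f ⁻¹ᵁ U).ι
  have hirX' := hasInjectiveResolutions_modules ((f ⁻¹ᵁ U : X.Opens) : Scheme.{u})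
  obtain ⟨e₁⟩ := DerivedExactComp.nonempty_rightDerived_comp_exact_iso (pushforward f)
    (restrictFunctor U.ι) M p
  let e₂ := (DegComposite.rightDerivedMapIso (bcIso f U) p).app M
  obtain ⟨e₃⟩ := nonempty_rightDerived_restrict_comp_iso (f ⁻¹ᵁ U) (pushforward (f ∣_ U)) M p
  exact ⟨e₁.symm ≪≫ e₂ ≪≫ e₃⟩

open ZeroObject in
lemma isZero_of_locally_isZero (M : Y.Modules)
    (h : ∀ y : Y, ∃ U : Y.Opens, y ∈ U ∧ Limits.IsZero ((restrictFunctor U.ι).obj M)) :
    Limits.IsZero M := by
  have : IsIso (0 : M ⟶ 0) := by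
    apply isIso_of_locally_isIso
    intro y
    obtain ⟨U, hyU, hU⟩ := h y
    refine ⟨U, hyU, ?_⟩
    have hra := Groth.Agent.Lib.Helper26.ModMV.restrictFunctor_additive U.ι
    have h0 : Limits.IsZero ((restrictFunctor U.ι).obj (0 : Y.Modules)) :=
      (restrictFunctor U.ι).map_isZero (Limits.isZero_zero _)
    exact ⟨0, hU.eq_of_src _ _, h0.eq_of_src _ _⟩
  exact (Limits.isZero_zero _).of_iso (asIso (0 : M ⟶ 0))


lemma isIso_unit_invertible (f : X ⟶ Y)
    (e : (pushforward f).obj (Coh.structureModule X) ≅ Coh.structureModule Y)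
    (L : Y.Modules) (hL : PicF.IsInvertible L) :
    IsIso ((pullbackPushforwardAdjunction f).unit.app L) := by
  apply isIso_of_locally_isIso
  intro y
  obtain ⟨U, hyU, ⟨t⟩⟩ := hL y
  refine ⟨U, hyU, ?_⟩
  apply isIso_restrict_unit
  apply isIso_unit_of_iso (f ∣_ U) t
  apply isIso_unit_structure
  apply isIso_eta0_of_bijective
  intro W
  exact morphismRestrict_app_bijective f (app_bijective_of_iso f e) U W

open Groth.Agent.Lib.Helper26.QCohRpush in
lemma isZero_Rpush_pullback (f : X ⟶ Y) [HasInjectiveResolutions X.Modules]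
    (hR : ∀ i : ℕ, Limits.IsZero ((Coh.Rpush f (i + 1)).obj (Coh.structureModule X)))
    (L : Y.Modules) (hL : PicF.IsInvertible L) (i : ℕ) :
    Limits.IsZero ((Coh.Rpush f (i + 1)).obj ((Scheme.Modules.pullback f).obj L)) := by
  apply isZero_of_locally_isZero
  intro y
  obtain ⟨U, hyU, ⟨t⟩⟩ := hL y
  refine ⟨U, hyU, ?_⟩
  have hir := hasInjectiveResolutions_modules ((f ⁻¹ᵁ U : X.Opens) : Scheme.{u})
  obtain ⟨e₁⟩ := nonempty_restrict_Rpush_iso f U ((Scheme.Modules.pullback f).obj L) (i + 1)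
  obtain ⟨e₂⟩ := nonempty_restrict_Rpush_iso f U (Coh.structureModule X) (i + 1)
  let s : ((Scheme.Modules.pullback f).obj L).restrict (f ⁻¹ᵁ U).ι ≅
      (Coh.structureModule X).restrict (f ⁻¹ᵁ U).ι :=
    (Groth.Agent.S16948.sqIso U.ι (f ⁻¹ᵁ U).ι (f ∣_ U) f (morphismRestrict_ι f U) L).symm ≪≫
      (Scheme.Modules.pullback (f ∣_ U)).mapIso t ≪≫
      asIso (Groth.Agent.Lib.Helper48.PullUnit.unitHom (f ∣_ U)) ≪≫
      (restrictUnitIso (f ⁻¹ᵁ U).ι).symm
  have hra := Groth.Agent.Lib.Helper26.ModMV.restrictFunctor_additive U.ι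
  have hz : Limits.IsZero ((restrictFunctor U.ι).obj
      ((Coh.Rpush f (i + 1)).obj (Coh.structureModule X))) :=
    (restrictFunctor U.ι).map_isZero (hR i)
  exact hz.of_iso (e₁ ≪≫ (Coh.Rpush (f ∣_ U) (i + 1)).mapIso s ≪≫ e₂.symm)

/-- the map on cohomology of an isomorphism of modules is an additive equivalence -/
noncomputable def mapHEquiv {M N : Y.Modules} (φ : M ≅ N) (p : ℕ) : Coh.HH Y M p ≃+ Coh.HH Y N p where
  toFun := CohPull.mapH φ.hom p
  invFun := CohPull.mapH φ.inv p
  left_inv x := by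
    have h : (SheafOfModules.toSheaf Y.ringCatSheaf).map φ.hom ≫
        (SheafOfModules.toSheaf Y.ringCatSheaf).map φ.inv = 𝟙 _ :=
      ((SheafOfModules.toSheaf Y.ringCatSheaf).map_comp _ _).symm.trans
        ((congrArg (SheafOfModules.toSheaf Y.ringCatSheaf).map φ.hom_inv_id).trans
          ((SheafOfModules.toSheaf Y.ringCatSheaf).map_id _))
    refine (Sheaf.H.map_comp_apply _ _ x).symm.trans ?_
    rw [h]
    exact Sheaf.H.map_id_apply x
  right_inv x := by
    have h : (SheafOfModules.toSheaf Y.ringCatSheaf).map φ.inv ≫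
        (SheafOfModules.toSheaf Y.ringCatSheaf).map φ.hom = 𝟙 _ :=
      ((SheafOfModules.toSheaf Y.ringCatSheaf).map_comp _ _).symm.trans
        ((congrArg (SheafOfModules.toSheaf Y.ringCatSheaf).map φ.inv_hom_id).trans
          ((SheafOfModules.toSheaf Y.ringCatSheaf).map_id _))
    refine (Sheaf.H.map_comp_apply _ _ x).symm.trans ?_
    rw [h]
    exact Sheaf.H.map_id_apply x
  map_add' := map_add _

end Aux



/-- Let f : X → Y be a morphism of schemes with R^i f_* O_X = 0 for every i ≥ 1 and f_* O_X ≅ O_Y. Then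
for every invertible O_Y-module L and every p ≥ 0 the groups H^p(X, f^* L) and H^p(Y, L) are
isomorphic (existence of a group isomorphism; the higher direct images are the right derived
functors of f_* on O_X-modules, under the instance argument recording that O_X-modules have
injective resolutions). -/
theorem result
    {X Y : Scheme.{u}} (f : X ⟶ Y) [HasInjectiveResolutions X.Modules]
    (hR : ∀ i : ℕ, IsZero ((Coh.Rpush f (i + 1)).obj (Coh.structureModule X)))
    (h0 : Nonempty ((Coh.push f).obj (Coh.structureModule X) ≅ Coh.structureModule Y))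
    (L : Y.Modules) (hL : PicF.IsInvertible L) (p : ℕ) :
    Nonempty (Coh.HH X ((Scheme.Modules.pullback f).obj L) p ≃+ Coh.HH Y L p) := by
  obtain ⟨e⟩ := h0
  have hA : ∀ q : ℕ, 0 < q →
      Limits.IsZero ((Coh.Rpush f q).obj ((Scheme.Modules.pullback f).obj L)) := by
    intro q hq
    obtain ⟨i, rfl⟩ := Nat.exists_eq_succ_of_ne_zero hq.ne'
    exact isZero_Rpush_pullback f hR L hL i
  have hbij := Groth.Agent.S16952.result f ((Scheme.Modules.pullback f).obj L) hA p
  have hiso : IsIso ((Scheme.Modules.pullbackPushforwardAdjunction f).unit.app L) :=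
    isIso_unit_invertible f e L hL
  exact ⟨((mapHEquiv (asIso ((Scheme.Modules.pullbackPushforwardAdjunction f).unit.app L)) p).trans
    (AddEquiv.ofBijective _ hbij)).symm⟩

end Groth.Agent.S13626
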