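import Groth.Statements.S11156
import Groth.Agent.Lib.Helper26.MonoRlp
import Groth.Agent.Lib.Helper26.ExtZeroEpi
import Groth.Agent.Lib.Helper53.ModGroth
import Groth.Agent.S13626
import Mathlib.CategoryTheory.Adjunction.Triple

set_option autoImplicit false
universe u
open CategoryTheory CategoryTheory.Limits AlgebraicGeometry
open Coherent

namespace Groth.Agent.S11156


section Aux
open CategoryTheory CategoryTheory.Limits AlgebraicGeometry Scheme.Modules MorphismProperty
open Groth.Agent.Lib.Helper26 ZeroObject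

variable {X : Scheme.{u}} (F : X.Modules)

/-- Generating cofibrations: `j_!` of monomorphisms on opens where `F` is injective, and isos. -/
inductive Wgen : MorphismProperty X.Modules
  | ext (V : X.Opens) (hV : Injective ((restrictFunctor V.ι).obj F)) {P Q : V.toScheme.Modules}
      (a : P ⟶ Q) (ha : Mono a) : Wgen ((CxOX.extZero V.ι).map a)
  | iso {A B : X.Modules} (f : A ⟶ B) (hf : IsIso f) : Wgen f

lemma isIso_unit_extZero (V : X.Opens) : IsIso (CxOX.extZeroAdj V.ι).unit := by
  let t : Adjunction.Triple (CxOX.extZero V.ι) (restrictFunctor V.ι) (pushforward V.ι) :=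
    ⟨CxOX.extZeroAdj V.ι, restrictAdjunction V.ι⟩
  rw [t.isIso_unit_iff_isIso_counit]
  infer_instance

lemma rlp_zero : (Wgen F).rlp (0 : F ⟶ 0) := by
  intro A B i hi
  cases hi with
  | ext V hV a ha =>
    refine ⟨fun {t b} sq => ⟨⟨?_⟩⟩⟩
    let adj := CxOX.extZeroAdj V.ι
    refine { l := (adj.homEquiv _ _).symm (Injective.factorThru (adj.homEquiv _ _ t) a),
             fac_left := ?_, fac_right := (isZero_zero _).eq_of_tgt _ _ }
    rw [← Adjunction.homEquiv_naturality_left_symm, Injective.comp_factorThru,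
      Equiv.symm_apply_apply]
  | iso _ hf =>
    exact @HasLiftingProperty.of_left_iso _ _ _ _ _ _ i _ hf

lemma isPushout_epi_comp {C : Type*} [Category C] {Z' Z A B P : C} (e : Z' ⟶ Z) [Epi e]
    {f : Z ⟶ A} {g : Z ⟶ B} {inl : A ⟶ P} {inr : B ⟶ P} (h : IsPushout f g inl inr) :
    IsPushout (e ≫ f) (e ≫ g) inl inr := by
  refine ⟨⟨by simp [h.w]⟩, ⟨PushoutCocone.IsColimit.mk _
    (fun s => h.desc s.inl s.inr (by
      rw [← cancel_epi e]
      simpa using s.condition)) (by simp) (by simp) (fun s m h1 h2 => h.hom_ext ?_ ?_)⟩⟩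
  · simpa using h1
  · simpa using h2

lemma pushout_aux {C D : Type*} [Category C] [Category D] [Abelian C] [Abelian D]
    {L : D ⥤ C} {R : C ⥤ D} (adj : L ⊣ R) [IsIso adj.unit] [R.PreservesMonomorphisms]
    (hepi : ∀ {K : C} {N : D} (m : K ⟶ L.obj N), Mono m → Epi (adj.counit.app K))
    {A B : C} (p : A ⟶ B) [Mono p] (hpV : ¬ IsIso (R.map p)) :
    ∃ (P Q : D) (a : P ⟶ Q) (_ : Mono a) (X' : C) (i : A ⟶ X') (p' : X' ⟶ B)
      (t : L.obj P ⟶ A) (b : L.obj Q ⟶ X'),
      IsPushout t (L.map a) i b ∧ ¬ IsIso i ∧ Mono p' ∧ i ≫ p' = p := by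
  have epiK : Epi (adj.counit.app (pullback p (adj.counit.app B))) :=
    hepi (pullback.snd p (adj.counit.app B)) inferInstance
  have ma : Mono (R.map (pullback.snd p (adj.counit.app B)) ≫ inv (adj.unit.app (R.obj B))) := by
    have : Mono (R.map (pullback.snd p (adj.counit.app B))) := inferInstance
    exact mono_comp _ _
  have key : L.map (R.map (pullback.snd p (adj.counit.app B)) ≫ inv (adj.unit.app (R.obj B))) =
      adj.counit.app (pullback p (adj.counit.app B)) ≫ pullback.snd p (adj.counit.app B) := by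
    have h1 : adj.counit.app (pullback p (adj.counit.app B)) ≫ pullback.snd p (adj.counit.app B) =
        L.map (R.map (pullback.snd p (adj.counit.app B))) ≫ adj.counit.app (L.obj (R.obj B)) :=
      (adj.counit.naturality (pullback.snd p (adj.counit.app B))).symm
    have h2 : adj.counit.app (L.obj (R.obj B)) = L.map (inv (adj.unit.app (R.obj B))) := by
      rw [← cancel_epi (L.map (adj.unit.app (R.obj B)))]
      refine (adj.left_triangle_components (R.obj B)).trans ?_
      rw [← L.map_comp, IsIso.hom_inv_id]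
      exact (L.map_id _).symm
    rw [h1, h2, ← L.map_comp]
  have h1 : pushout.inl (pullback.fst p (adj.counit.app B)) (pullback.snd p (adj.counit.app B)) ≫
      pushout.desc p (adj.counit.app B) pullback.condition = p := pushout.inl_desc _ _ _
  have h2 : pushout.inr (pullback.fst p (adj.counit.app B)) (pullback.snd p (adj.counit.app B)) ≫
      pushout.desc p (adj.counit.app B) pullback.condition = adj.counit.app B :=
    pushout.inr_desc _ _ _
  refine ⟨_, _, _, ma, pushout (pullback.fst p (adj.counit.app B))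
      (pullback.snd p (adj.counit.app B)), pushout.inl _ _,
    pushout.desc p (adj.counit.app B) pullback.condition,
    adj.counit.app _ ≫ pullback.fst p (adj.counit.app B), pushout.inr _ _, ?_, ?_, ?_, h1⟩
  · rw [key]
    exact isPushout_epi_comp _ (IsPushout.of_hasPushout _ _)
  · intro hi
    apply hpV
    have hφ : adj.counit.app B = (pushout.inr (pullback.fst p (adj.counit.app B))
        (pullback.snd p (adj.counit.app B)) ≫ inv (pushout.inl _ _)) ≫ p := by
      rw [Category.assoc]
      refine h2.symm.trans ?_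
      congr 1
      rw [IsIso.eq_inv_comp]
      exact h1
    have hsplit : (adj.unit.app (R.obj B) ≫ R.map (pushout.inr (pullback.fst p (adj.counit.app B))
        (pullback.snd p (adj.counit.app B)) ≫ inv (pushout.inl _ _))) ≫ R.map p = 𝟙 _ := by
      rw [Category.assoc, ← R.map_comp, ← hφ]
      exact adj.right_triangle_components B
    have : Mono (R.map p) := inferInstance
    have : IsSplitEpi (R.map p) := ⟨⟨⟨_, hsplit⟩⟩⟩
    exact isIso_of_mono_of_isSplitEpi _
  · exact (IsPushout.of_hasPushout _ _).mono_of_isPullback_of_mono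
      (IsPullback.of_hasPullback p (adj.counit.app B)) _ h1 h2

lemma hasPushouts
    (hF : ∀ x : X, ∃ U : X.Opens, x ∈ U ∧ Injective ((restrictFunctor U.ι).obj F)) :
    MonoRlp.HasPushouts (Wgen F) := by
  intro A B p hp hnp
  obtain ⟨V, hV, hpV⟩ : ∃ V : X.Opens, Injective ((restrictFunctor V.ι).obj F) ∧
      ¬ IsIso ((restrictFunctor V.ι).map p) := by
    by_contra hcon
    push Not at hcon
    apply hnp
    apply Groth.Agent.S13626.isIso_of_locally_isIso
    intro x
    obtain ⟨U, hxU, hU⟩ := hF x
    exact ⟨U, hxU, hcon U hU⟩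
  have hu : IsIso (CxOX.extZeroAdj V.ι).unit := isIso_unit_extZero V
  obtain ⟨P, Q, a, ma, X', i, p', t, b, hpo, hi, hp', fac⟩ :=
    pushout_aux (CxOX.extZeroAdj V.ι)
      (fun {K N} m hm => ExtZeroEpi.epi_counit_of_mono V N m) p hpV
  exact ⟨X', i, p', ⟨_, _, _, t, b, Wgen.ext V hV a ma, hpo⟩, hi, hp', fac⟩

end Aux



/-- Let X be a scheme and F an O_X-module. If every point of X has an open neighbourhood U such that
F|_U is an injective object of the category of O_U-modules, then F is an injective object of the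
category of O_X-modules. -/
theorem result {X : Scheme.{u}} (F : X.Modules)
    (hF : ∀ x : X, ∃ U : X.Opens, x ∈ U ∧ Injective ((Scheme.Modules.restrictFunctor U.ι).obj F)) :
    Injective F := by
  rw [injective_iff_rlp_monomorphisms_zero]
  have := Groth.Agent.Lib.Helper53.ModGroth.isGrothendieckAbelian _ X.ringCatSheaf
  exact Groth.Agent.Lib.Helper26.MonoRlp.rlp_le.{u} (C := SheafOfModules.{u} X.ringCatSheaf)
    (hasPushouts F hF)
    (fun A B f hf => MorphismProperty.le_pushouts _ _ (Wgen.iso f hf)) _ (rlp_zero F)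

end Groth.Agent.S11156
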