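import Groth.Statements.S17860

set_option autoImplicit false
open CategoryTheory AlgebraicGeometry
universe u
open Algz

namespace Groth.Agent.S17860

open Opposite

theorem unit_hom_ext {X : Scheme.{u}} {K : X.Modules} (f g : Coh.structureModule X ⟶ K)
    (h : f.val.app (op ⊤) (1 : X.ringCatSheaf.obj.obj (op ⊤)) =
      g.val.app (op ⊤) (1 : X.ringCatSheaf.obj.obj (op ⊤))) : f = g := by
  apply (SheafOfModules.unitHomEquiv K).injective
  apply Subtype.ext
  funext V
  have hV : V.unop ≤ ⊤ := le_top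
  have h1 := (SheafOfModules.unitHomEquiv K f).property (homOfLE hV).op
  have h2 := (SheafOfModules.unitHomEquiv K g).property (homOfLE hV).op
  have h3 : (SheafOfModules.unitHomEquiv K f).val (op ⊤) = (SheafOfModules.unitHomEquiv K g).val (op ⊤) := h
  rw [← h1, ← h2, h3]

theorem sections_eq_zero_of_isZero {X : Scheme.{u}} {K : X.Modules} (hK : Limits.IsZero K)
    (V : X.Opens) (s : Γ(K, V)) : s = 0 := by
  have h1 : (𝟙 K : K ⟶ K) = 0 := hK.eq_of_src _ _
  have h2 : (𝟙 K : K ⟶ K).app V s = (0 : K ⟶ K).app V s := by rw [h1]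
  simpa using h2

noncomputable def gen (Y : Scheme.{u}) (n : ℕ) (k : Fin n) : Γ(FlatMod.freeMod Y n, ⊤) :=
  (Limits.Sigma.ι (fun _ : Fin n => Coh.structureModule Y) k).val.app (op ⊤)
      (1 : Y.ringCatSheaf.obj.obj (op ⊤))

theorem restrict_map_eq_zero {E Y : Scheme.{u}} (j : E ⟶ Y) [IsOpenImmersion j] (n : ℕ)
    {K : Y.Modules} (ψ : FlatMod.freeMod Y n ⟶ K)
    (h : ∀ k, K.presheaf.map (homOfLE (j.image_preimage_le ⊤)).op (ψ.app ⊤ (gen Y n k)) = 0) :
    (Scheme.Modules.restrictFunctor j).map ψ = 0 := by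
  apply ((Scheme.Modules.restrictAdjunction j).homEquiv _ _).injective
  rw [Adjunction.homEquiv_unit, Adjunction.homEquiv_unit, Functor.map_zero, Limits.comp_zero]
  have hnat := (Scheme.Modules.restrictAdjunction j).unit.naturality ψ
  simp only [Functor.id_obj, Functor.id_map, Functor.comp_obj, Functor.comp_map] at hnat
  rw [← hnat]
  apply Limits.Sigma.hom_ext
  intro k
  rw [Limits.comp_zero]
  apply unit_hom_ext
  have := h k
  exact this

theorem sections_eq_zero_of_epi {E Y : Scheme.{u}} (j : E ⟶ Y) [IsOpenImmersion j] (n : ℕ)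
    {K : Y.Modules} (ψ : FlatMod.freeMod Y n ⟶ K) [Epi ψ]
    (h : ∀ k, K.presheaf.map (homOfLE (j.image_preimage_le ⊤)).op (ψ.app ⊤ (gen Y n k)) = 0)
    (V : E.Opens) (s : Γ(K, j ''ᵁ V)) : s = 0 := by
  have h0 := restrict_map_eq_zero j n ψ h
  have : Epi ((Scheme.Modules.restrictFunctor j).map ψ) := inferInstance
  have hz : Limits.IsZero ((Scheme.Modules.restrictFunctor j).obj K) :=
    Limits.IsZero.of_epi_eq_zero _ h0
  exact sections_eq_zero_of_isZero hz V s

variable {R : CommRingCat.{u}} (M : ModuleCat.{u} R)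

theorem tilde_exists_pow_smul_eq (e : R) (V : (Spec R).Opens) (hV : V = PrimeSpectrum.basicOpen e)
    (t : Γ(tilde M, V)) : ∃ (x : M) (N : ℕ), e ^ N • t = tilde.toOpen M V x := by
  subst hV
  obtain ⟨⟨x, ⟨_, N, rfl⟩⟩, hx⟩ := IsLocalizedModule.surj (Submonoid.powers e)
    (tilde.toOpen M (PrimeSpectrum.basicOpen e)).hom t
  exact ⟨x, N, hx⟩

theorem tilde_exists_pow_smul_eq_zero (e : R) (V : (Spec R).Opens)
    (hV : V = PrimeSpectrum.basicOpen e) (x : M) (hx : tilde.toOpen M V x = 0) :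
    ∃ N : ℕ, e ^ N • x = 0 := by
  subst hV
  have := (IsLocalizedModule.eq_zero_iff (Submonoid.powers e)
    (tilde.toOpen M (PrimeSpectrum.basicOpen e)).hom).mp hx
  obtain ⟨⟨_, N, rfl⟩, h⟩ := this
  exact ⟨N, h⟩

theorem tilde_map_toOpen {M Q : ModuleCat.{u} R} (q : M ⟶ Q) (V : (Spec R).Opens) (x : M) :
    (tilde.map q).app V (tilde.toOpen M V x) = tilde.toOpen Q V (q x) := by
  have := tilde.toOpen_map_app q V
  exact congr($this x)

theorem tilde_map_smul {M Q : ModuleCat.{u} R} (q : M ⟶ Q) (V : (Spec R).Opens) (r : R)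
    (t : Γ(tilde M, V)) :
    (tilde.map q).app V (r • t) = r • (tilde.map q).app V t := by
  exact ((modulesSpecToSheaf.map (tilde.map q)).1.app (op V)).hom.map_smul r t

theorem image_image_homOfLE {X : Scheme.{u}} {E Ui : X.Opens} (he : E ≤ Ui) :
    Ui.ι ''ᵁ ((X.homOfLE he) ''ᵁ ((X.homOfLE he) ⁻¹ᵁ ⊤)) = E := by
  ext x
  constructor
  · rintro ⟨y, ⟨z, -, rfl⟩, rfl⟩
    have := X.homOfLE_apply he z
    change ((X.homOfLE he) z).1 ∈ E
    rw [this]
    exact z.2
  · intro hx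
    refine ⟨⟨x, he hx⟩, ⟨⟨x, hx⟩, trivial, ?_⟩, rfl⟩
    exact X.homOfLE_apply' he x hx

theorem local_gen (n : ℕ) (Ui : (Spec R).Opens)
    (φ : FlatMod.freeMod (↑Ui) n ⟶ (tilde M).restrict Ui.ι) [Epi φ] (e : R)
    (E : (Spec R).Opens) (hE : E = PrimeSpectrum.basicOpen e) (he : E ≤ Ui) :
    ∃ mk : Fin n → M, ∀ x : M, ∃ N : ℕ, e ^ N • x ∈ Submodule.span R (Set.range mk) := by
  have hE'' : Ui.ι ''ᵁ (((Spec R).homOfLE he) ''ᵁ (((Spec R).homOfLE he) ⁻¹ᵁ ⊤)) =
      PrimeSpectrum.basicOpen e := (image_image_homOfLE he).trans hE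
  have hτ : ∀ k : Fin n, ∃ (x : M) (N : ℕ),
      e ^ N • (show Γ(tilde M, Ui.ι ''ᵁ (((Spec R).homOfLE he) ''ᵁ (((Spec R).homOfLE he) ⁻¹ᵁ ⊤))) from
        ((tilde M).restrict Ui.ι).presheaf.map
          (homOfLE (((Spec R).homOfLE he).image_preimage_le ⊤)).op
          (φ.app ⊤ (gen (↑Ui) n k))) = tilde.toOpen M _ x :=
    fun k => tilde_exists_pow_smul_eq M e _ hE'' _
  choose mk Nk hmk using hτ
  refine ⟨mk, ?_⟩
  let P : Submodule R M := Submodule.span R (Set.range mk)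
  let Q : ModuleCat.{u} R := ModuleCat.of R (M ⧸ P)
  let q : M ⟶ Q := ModuleCat.ofHom P.mkQ
  have hq : Epi q := (ModuleCat.epi_iff_surjective q).mpr P.mkQ_surjective
  have hπ : Epi ((Scheme.Modules.restrictFunctor Ui.ι).map (tilde.map q)) := by
    have : Epi (tilde.map q) := (tilde.functor R).map_epi q
    infer_instance
  have hψ : Epi (φ ≫ (Scheme.Modules.restrictFunctor Ui.ι).map (tilde.map q)) := epi_comp _ _
  have hvan : ∀ k, ((tilde Q).restrict Ui.ι).presheaf.map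
      (homOfLE (((Spec R).homOfLE he).image_preimage_le ⊤)).op
      ((φ ≫ (Scheme.Modules.restrictFunctor Ui.ι).map (tilde.map q)).app ⊤ (gen _ n k)) = 0 := by
    intro k
    have h1 : ((tilde Q).restrict Ui.ι).presheaf.map
        (homOfLE (((Spec R).homOfLE he).image_preimage_le ⊤)).op
        ((φ ≫ (Scheme.Modules.restrictFunctor Ui.ι).map (tilde.map q)).app ⊤ (gen _ n k)) =
        (tilde.map q).app (Ui.ι ''ᵁ (((Spec R).homOfLE he) ''ᵁ (((Spec R).homOfLE he) ⁻¹ᵁ ⊤)))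
        (show Γ(tilde M, Ui.ι ''ᵁ (((Spec R).homOfLE he) ''ᵁ (((Spec R).homOfLE he) ⁻¹ᵁ ⊤))) from
        ((tilde M).restrict Ui.ι).presheaf.map
          (homOfLE (((Spec R).homOfLE he).image_preimage_le ⊤)).op
          (φ.app ⊤ (gen (↑Ui) n k))) := by
      have hnat := (((Scheme.Modules.restrictFunctor Ui.ι).map (tilde.map q)).mapPresheaf).naturality
        (homOfLE (((Spec R).homOfLE he).image_preimage_le ⊤)).op
      exact (congr($hnat (φ.app ⊤ (gen _ n k)))).symm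
    rw [h1]
    have h2 : e ^ Nk k • (tilde.map q).app
        (Ui.ι ''ᵁ (((Spec R).homOfLE he) ''ᵁ (((Spec R).homOfLE he) ⁻¹ᵁ ⊤)))
        (show Γ(tilde M, Ui.ι ''ᵁ (((Spec R).homOfLE he) ''ᵁ (((Spec R).homOfLE he) ⁻¹ᵁ ⊤))) from
        ((tilde M).restrict Ui.ι).presheaf.map
          (homOfLE (((Spec R).homOfLE he).image_preimage_le ⊤)).op
          (φ.app ⊤ (gen (↑Ui) n k))) = 0 := by
      rw [← tilde_map_smul, hmk k, tilde_map_toOpen]
      have : q (mk k) = 0 :=
        (Submodule.Quotient.mk_eq_zero _).mpr (Submodule.subset_span ⟨k, rfl⟩)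
      rw [this]
      exact map_zero _
    have hreg := (Scheme.Modules.isSMulRegular_of_le_basicOpen (M := tilde Q) (f := e)
      hE''.le).pow (Nk k)
    exact hreg (h2.trans (smul_zero _).symm)
  have hall := sections_eq_zero_of_epi ((Spec R).homOfLE he) n
    (φ ≫ (Scheme.Modules.restrictFunctor Ui.ι).map (tilde.map q)) hvan
    (((Spec R).homOfLE he) ⁻¹ᵁ ⊤)
  intro x
  have hx : tilde.toOpen Q (Ui.ι ''ᵁ (((Spec R).homOfLE he) ''ᵁ (((Spec R).homOfLE he) ⁻¹ᵁ ⊤)))
      (q x) = 0 := hall _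
  obtain ⟨N, hN⟩ := tilde_exists_pow_smul_eq_zero Q e _ hE'' (q x) hx
  refine ⟨N, ?_⟩
  have h3 : q (e ^ N • x) = 0 := by
    rw [map_smul]
    exact hN
  exact (Submodule.Quotient.mk_eq_zero P).mp h3


theorem exists_basicOpen_shrink {B : CommRingCat.{u}} (n : ℕ) (O : Fin n → (Spec B).Opens)
    (hO : ⨆ a, O a = ⊤) :
    ∃ e : Fin n → B, (∀ a, ∀ x : PrimeSpectrum B, e a ∉ x.asIdeal → (show ↥(Spec B) from x) ∈ O a) ∧
      Ideal.span (Set.range e) = ⊤ := by
  have h1 : ∀ a, ∃ s : Set B, ∀ x : PrimeSpectrum B,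
      (x ∈ PrimeSpectrum.zeroLocus s ↔ ¬ ((show ↥(Spec B) from x) ∈ O a)) := fun a => by
    let Us : Set (PrimeSpectrum B) := {x | (show ↥(Spec B) from x) ∈ O a}
    have hUs : IsOpen Us := (O a).2
    obtain ⟨s, hs⟩ := (PrimeSpectrum.isOpen_iff Us).mp hUs
    refine ⟨s, fun x => ?_⟩
    rw [← hs]
    rfl
  choose s hs using h1
  have h2 : (⨆ a, Ideal.span (s a) : Ideal B) = ⊤ := by
    rw [← PrimeSpectrum.zeroLocus_empty_iff_eq_top, PrimeSpectrum.zeroLocus_iSup]
    rw [Set.eq_empty_iff_forall_notMem]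
    intro x hx
    have hx' : (show ↥(Spec B) from x) ∈ (⨆ a, O a : (Spec B).Opens) := hO ▸ trivial
    obtain ⟨a, ha⟩ := TopologicalSpace.Opens.mem_iSup.mp hx'
    have h3 := Set.mem_iInter.mp hx a
    rw [PrimeSpectrum.zeroLocus_span] at h3
    exact (hs a x).mp h3 ha
  have h3 : (1 : B) ∈ (⨆ a, Ideal.span (s a) : Ideal B) := h2 ▸ Submodule.mem_top
  rw [Submodule.mem_iSup_iff_exists_finsupp] at h3
  obtain ⟨e, he, hsum⟩ := h3
  refine ⟨fun a => e a, ?_, ?_⟩
  · intro a x hx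
    by_contra hx2
    have hx3 := (hs a x).mpr hx2
    rw [← PrimeSpectrum.zeroLocus_span] at hx3
    exact hx (hx3 (he a))
  · rw [Ideal.eq_top_iff_one, ← hsum]
    exact Ideal.sum_mem _ (fun a _ => Ideal.subset_span ⟨a, rfl⟩)

theorem eq_top_of_local {R : Type u} [CommRing R] {M : Type u} [AddCommGroup M] [Module R M]
    (m : ℕ) (e : Fin m → R) (he : Ideal.span (Set.range e) = ⊤) (P : Submodule R M)
    (h : ∀ i, ∀ x : M, ∃ N : ℕ, e i ^ N • x ∈ P) : P = ⊤ := by
  rw [eq_top_iff]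
  intro x _
  choose N hN using fun i => h i x
  let K := Finset.univ.sup N
  have hK : ∀ i, e i ^ K • x ∈ P := by
    intro i
    have hle : N i ≤ K := Finset.le_sup (Finset.mem_univ i)
    have : e i ^ K • x = e i ^ (K - N i) • (e i ^ N i • x) := by
      rw [smul_smul, ← pow_add, Nat.sub_add_cancel hle]
    rw [this]
    exact P.smul_mem _ (hN i)
  have h1 := Ideal.span_pow_eq_top _ he K
  let I : Ideal R := P.comap (LinearMap.toSpanSingleton R M x)
  have h2 : Ideal.span ((fun r => r ^ K) '' Set.range e) ≤ I := by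
    rw [Ideal.span_le]
    rintro _ ⟨_, ⟨i, rfl⟩, rfl⟩
    exact hK i
  rw [h1] at h2
  have h3 : (1 : R) ∈ I := h2 Submodule.mem_top
  have h4 : (1 : R) • x ∈ P := h3
  rwa [one_smul] at h4


/-- Let `R` be a commutative ring and `M` a finite `R`-module. Suppose `Spec R` is covered by opens `U
0, …, U (m-1)` (not necessarily affine) such that over each `U i` the restriction of the associated
sheaf of modules `M~` is a quotient of the free module of rank `n` (it is generated by `n` sections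
over `U i`). Then `M` is generated by `n * m` elements. -/
theorem result (R : CommRingCat.{u}) (M : ModuleCat.{u} R)
    [Module.Finite R M] (n m : ℕ) (U : Fin m → (Spec R).Opens) (hU : ⨆ i, U i = ⊤)
    (hgen : ∀ i, ∃ φ : FlatMod.freeMod (↑(U i)) n ⟶ (AlgebraicGeometry.tilde M).restrict (U i).ι, Epi φ) :
    ∃ s : Fin (n * m) → M, Submodule.span R (Set.range s) = ⊤ := by
  obtain ⟨e, heO, hspan⟩ := exists_basicOpen_shrink m U hU
  have hloc : ∀ i : Fin m, ∃ mk : Fin n → M, ∀ x : M, ∃ N : ℕ,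
      e i ^ N • x ∈ Submodule.span R (Set.range mk) := by
    intro i
    obtain ⟨φ, hφ⟩ := hgen i
    refine local_gen M n (U i) φ (e i) (PrimeSpectrum.basicOpen (e i)) rfl ?_
    intro x hx
    exact heO i x hx
  choose mk hmk using hloc
  refine ⟨fun t => mk (finProdFinEquiv.symm t).2 (finProdFinEquiv.symm t).1, ?_⟩
  apply eq_top_of_local m e hspan
  intro i x
  obtain ⟨N, hN⟩ := hmk i x
  refine ⟨N, ?_⟩
  refine Submodule.span_mono ?_ hN
  rintro _ ⟨k, rfl⟩
  exact ⟨finProdFinEquiv (k, i), by simp⟩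

end Groth.Agent.S17860
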