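import Groth.Statements.S0018
import Groth.Agent.Lib.Lead.QCohLocal
import Groth.Agent.Lib.Lead.CohAff3

set_option autoImplicit false
universe u
open Coherent

namespace Groth.Agent.S0018

open AlgebraicGeometry CategoryTheory SheafOfModules Scheme.Modules Limits TopologicalSpace

section

universe v₁ v₂ u₁ u₂ w

variable {C : Type u₁} [Category.{v₁} C] {J : GrothendieckTopology C} {R : Sheaf J RingCat.{w}}
  [HasSheafify J AddCommGrpCat] [J.WEqualsLocallyBijective AddCommGrpCat]
variable {C' : Type u₂} [Category.{v₂} C'] {J' : GrothendieckTopology C'} {S : Sheaf J' RingCat.{w}}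
  [HasSheafify J' AddCommGrpCat] [J'.WEqualsLocallyBijective AddCommGrpCat]

theorem isFinite_map {M : SheafOfModules.{w} R} (P : Presentation M) [hP : P.IsFinite]
    (F : SheafOfModules.{w} R ⥤ SheafOfModules.{w} S) [PreservesColimitsOfSize.{w, w} F]
    (η : unit S ≅ F.obj (unit R)) : (P.map F η).IsFinite where
  isFiniteType_generators := ⟨by
    rw [Presentation.map_generators_I]
    exact hP.isFiniteType_generators.finite⟩
  isFiniteType_relations := ⟨by
    rw [Presentation.map_relations_I]
    exact hP.isFiniteType_relations.finite⟩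

end

theorem isFinite_presentationTilde {R : CommRingCat.{u}} (G : ModuleCat.{u} R) (s : Set G)
    (hs : Submodule.span R s = ⊤) (t : Set (s →₀ R))
    (ht : Submodule.span R t = LinearMap.ker (Finsupp.linearCombination R ((↑) : s → G)))
    (hsf : s.Finite) (htf : t.Finite) : (presentationTilde.{u} G s hs t ht).IsFinite where
  isFiniteType_generators := ⟨hsf.to_subtype⟩
  isFiniteType_relations := ⟨htf.to_subtype⟩

theorem exists_finite_presentation_spec {R : CommRingCat.{u}} [IsNoetherianRing R]
    (N : (Spec R).Modules) [N.IsQuasicoherent]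
    [hfin : Module.Finite R (moduleSpecΓFunctor.obj N)] :
    ∃ P : N.Presentation, P.IsFinite := by
  have : IsIso N.fromTildeΓ := Scheme.Modules.isIso_fromTildeΓ_of_isQuasicoherent N
  obtain ⟨s, hs⟩ := hfin.fg_top
  let S : Set (moduleSpecΓFunctor.obj N) := ↑s
  have hSf : S.Finite := s.finite_toSet
  have : Finite S := hSf.to_subtype
  have : IsNoetherian R (S →₀ R) := inferInstance
  obtain ⟨t, ht⟩ := (IsNoetherian.noetherian (LinearMap.ker (Finsupp.linearCombination R
    ((↑) : S → (moduleSpecΓFunctor.obj N)))))
  obtain ⟨P0, hP0⟩ : ∃ P0 : (tilde ((modulesSpecToSheaf.obj N).presheaf.obj (.op ⊤))).Presentation,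
      P0.IsFinite := ⟨_, isFinite_presentationTilde _ S hs t ht hSf t.finite_toSet⟩
  exact ⟨SheafOfModules.Presentation.ofIsIso (asIso N.fromTildeΓ).hom P0, inferInstance⟩

open Groth.Agent.Lib.Lead.QCohLocal Groth.Agent.Lib.Lead.CohAff Groth.Agent.Lib.Lead.PullbackAff

set_option backward.isDefEq.respectTransparency false in
theorem isFinite_presentationRestrict {X Y : Scheme.{u}} (f : Y ⟶ X) [IsOpenImmersion f]
    {M : X.Modules} (P : M.Presentation) [P.IsFinite] : (presentationRestrict f P).IsFinite := by
  unfold presentationRestrict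
  have : PreservesColimitsOfSize.{u, u} (Scheme.Modules.restrictFunctor f) := inferInstance
  exact isFinite_map _ _ _

theorem isFinite_presentationOfFromSpec {X : Scheme.{u}} (M : X.Modules) {U : X.Opens}
    (hU : IsAffineOpen U) (P : (M.restrict hU.fromSpec).Presentation) [P.IsFinite] :
    (presentationOfFromSpec M hU P).IsFinite := by
  unfold presentationOfFromSpec
  have := isFinite_presentationRestrict hU.isoSpec.hom P
  infer_instance

theorem isFinite_presentationOver {X : Scheme.{u}} (M : X.Modules) (U : X.Opens)
    (P : (M.restrict U.ι).Presentation) [P.IsFinite] :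
    (presentationOver M U P).IsFinite := by
  unfold presentationOver
  dsimp only
  have := isFinite_map P (overEquiv U).inverse
    (TopologicalSpace.Opens.sheafOfModulesEquivOverInverseUnit _ _).symm
  infer_instance

theorem isFP_of_isCoh (X : Scheme.{u}) [IsLocallyNoetherian X] (M : X.Modules)
    [M.IsQuasicoherent] (hM : SheafOfModules.IsFiniteType (R := X.ringCatSheaf) M) :
    SheafOfModules.IsFinitePresentation (R := X.ringCatSheaf) M := by
  have key : ∀ x : X, ∃ (U : X.Opens) (_ : x ∈ U)
      (P : (SheafOfModules.over (R := X.ringCatSheaf) M U).Presentation), P.IsFinite := by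
    intro x
    obtain ⟨_, ⟨V, hV : IsAffineOpen V, rfl⟩, hxV, -⟩ :=
      (X.isBasis_affineOpens).exists_subset_of_mem_open (Set.mem_univ x) isOpen_univ
    have : IsNoetherianRing Γ(X, V) := IsLocallyNoetherian.component_noetherian ⟨V, hV⟩
    have hfin : Module.Finite Γ(X, V) Γ(M, V) := finite_sections_of_isFiniteType M hM hV
    have : Module.Finite Γ(X, V) (moduleSpecΓFunctor.obj (M.restrict hV.fromSpec)) :=
      Module.Finite.equiv (secEquiv hV M).symm
    obtain ⟨P, hP⟩ := exists_finite_presentation_spec (M.restrict hV.fromSpec)
    have := isFinite_presentationOfFromSpec M hV P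
    exact ⟨V, hxV, presentationOver M V (presentationOfFromSpec M hV P),
      isFinite_presentationOver M V _⟩
  choose U hxU P hP using key
  have hcov : IsOpenCover U := by
    change ⨆ x, U x = ⊤
    exact top_le_iff.1 fun x _ => Opens.mem_iSup.2 ⟨x, hxU x⟩
  let D : SheafOfModules.QuasicoherentData.{u} (R := X.ringCatSheaf) M :=
    { I := ↥X
      X := U
      coversTop := (Opens.coversTop_iff _ U).2 hcov
      presentation := P }
  have hD : D.IsFinitePresentation := { isFinite_presentation := fun x => hP x }
  exact { exists_quasicoherentData := ⟨D, hD⟩ }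

open AlgebraicGeometry in
/-- On a locally Noetherian scheme an O_X-module is quasi-coherent of finite type if and only if it is
of finite presentation. (Either condition is what 'coherent' means there.) -/
theorem result (X : Scheme.{u}) [IsLocallyNoetherian X] (M : X.Modules) :
    Coh.IsCoh M ↔ CohB1.IsFP M := by
  constructor
  · rintro ⟨h1, h2⟩
    have : M.IsQuasicoherent := h1
    exact isFP_of_isCoh X M h2
  · intro h
    have : SheafOfModules.IsFinitePresentation (R := X.ringCatSheaf) M := h
    exact ⟨inferInstance, inferInstance⟩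

end Groth.Agent.S0018
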