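import Groth.Statements.S7414
import Mathlib.RingTheory.RegularLocalRing.Defs
import Mathlib.RingTheory.Flat.Stability
import Mathlib.RingTheory.TensorProduct.Maps
import Mathlib.RingTheory.LocalRing.ResidueField.Ideal
import Mathlib.RingTheory.AdicCompletion.Algebra

set_option autoImplicit false
universe u
open CategoryTheory AlgebraicGeometry
open Mor

namespace Groth.Agent.S7414

open TensorProduct


/-- (i) change of target along an algebra isomorphism. -/
theorem isRegularHom_of_algEquiv {R S S' : Type u} [CommRing R] [CommRing S] [CommRing S']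
    [Algebra R S] [Algebra R S'] (τ : S ≃ₐ[R] S') (h : CAlg.IsRegularHom R S) :
    CAlg.IsRegularHom R S' := by
  obtain ⟨hflat, hfib⟩ := h
  refine ⟨Module.Flat.of_linearEquiv τ.toLinearEquiv.symm, fun p _ => ?_⟩
  obtain ⟨hN, hG⟩ := hfib p
  let e : p.Fiber S ≃ₐ[p.ResidueField] p.Fiber S' :=
    Algebra.TensorProduct.congr AlgEquiv.refl τ
  refine ⟨isNoetherianRing_of_ringEquiv _ e.toRingEquiv, fun k' _ _ hk' => ?_⟩
  have := hG k' hk'
  let e' : (k' ⊗[p.ResidueField] p.Fiber S) ≃+* (k' ⊗[p.ResidueField] p.Fiber S') :=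
    (Algebra.TensorProduct.congr (AlgEquiv.refl : k' ≃ₐ[k'] k') e).toRingEquiv
  exact IsRegularRing.of_ringEquiv (R := k' ⊗[p.ResidueField] p.Fiber S) e'


/-- (ii) change of base ring along a ring isomorphism. -/
theorem isRegularHom_of_ringEquiv_base {R R' S : Type u} [CommRing R] [CommRing R'] [CommRing S]
    [Algebra R S] [Algebra R' S] (ρ : R' ≃+* R)
    (hρ : ∀ r', algebraMap R' S r' = algebraMap R S (ρ r')) (h : CAlg.IsRegularHom R S) :
    CAlg.IsRegularHom R' S := by
  obtain ⟨hflat, hfib⟩ := h
  letI : Algebra R' R := ρ.toRingHom.toAlgebra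
  haveI : IsScalarTower R' R S := IsScalarTower.of_algebraMap_eq hρ
  have hR : Module.Flat R' R := by
    let l : R' ≃ₗ[R'] R :=
      { ρ with map_smul' := fun c x => by simp [Algebra.smul_def, RingHom.algebraMap_toAlgebra] }
    exact Module.Flat.of_linearEquiv l.symm
  refine ⟨Module.Flat.trans R' R S, fun p' _ => ?_⟩
  let ρₐ : R' ≃ₐ[R'] R := AlgEquiv.ofRingEquiv (f := ρ) (fun _ => rfl)
  let p : Ideal R := p'.comap ρ.symm.toRingHom
  have hp : p' = p.comap ρₐ := by
    ext x
    simp [p, ρₐ, Ideal.mem_comap]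
  obtain ⟨hN, hG⟩ := hfib p
  let κe : p'.ResidueField ≃ₐ[R'] p.ResidueField := Ideal.residueFieldAlgEquiv p' p ρₐ hp
  -- compatibility of scalar actions
  have hcompat : ∀ (M : Type u) [AddCommGroup M] [Module R M] [Module R' M]
      [IsScalarTower R' R M], TensorProduct.CompatibleSMul R' R M S := by
    intro M _ _ _ _
    refine ⟨fun r m n => ?_⟩
    have hr : r = algebraMap R' R (ρ.symm r) := by
      simp [RingHom.algebraMap_toAlgebra]
    rw [hr, algebraMap_smul, algebraMap_smul, TensorProduct.smul_tmul]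
  have := hcompat p.ResidueField
  let e1 : p'.Fiber S ≃ₐ[R'] (p.ResidueField ⊗[R'] S) :=
    Algebra.TensorProduct.congr κe AlgEquiv.refl
  let e2 : (p.ResidueField ⊗[R'] S) ≃ₐ[R'] (p.ResidueField ⊗[R] S) :=
    Algebra.TensorProduct.equivOfCompatibleSMul R R' R' p.ResidueField S
  let e12 : p'.Fiber S ≃+* p.Fiber S := (e1.trans e2).toRingEquiv
  refine ⟨isNoetherianRing_of_ringEquiv _ e12.symm, fun k' _ _ hk' => ?_⟩
  letI : Algebra p.ResidueField k' :=
    ((algebraMap p'.ResidueField k').comp κe.symm.toRingEquiv.toRingHom).toAlgebra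
  have hfin : Module.Finite p.ResidueField k' :=
    Module.Finite.of_equiv_equiv κe.toRingEquiv (RingEquiv.refl k') (by
      ext x
      simp [RingHom.algebraMap_toAlgebra])
  have hreg := hG k' hfin
  letI : Algebra R' k' := ((algebraMap p'.ResidueField k').comp
    (algebraMap R' p'.ResidueField)).toAlgebra
  haveI : IsScalarTower R' p'.ResidueField k' := IsScalarTower.of_algebraMap_eq (fun _ => rfl)
  letI : Algebra R k' := ((algebraMap p.ResidueField k').comp
    (algebraMap R p.ResidueField)).toAlgebra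
  haveI : IsScalarTower R p.ResidueField k' := IsScalarTower.of_algebraMap_eq (fun _ => rfl)
  haveI : IsScalarTower R' R k' := IsScalarTower.of_algebraMap_eq (fun r' => by
    show algebraMap p'.ResidueField k' (algebraMap R' p'.ResidueField r') =
      algebraMap p'.ResidueField k' (κe.symm (algebraMap R p.ResidueField (algebraMap R' R r')))
    rw [← IsScalarTower.algebraMap_apply R' R p.ResidueField, κe.symm.commutes])
  have := hcompat k'
  let c1 : (k' ⊗[p'.ResidueField] p'.Fiber S) ≃+* (k' ⊗[R'] S) :=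
    (Algebra.TensorProduct.cancelBaseChange R' p'.ResidueField p'.ResidueField k' S).toRingEquiv
  let c2 : (k' ⊗[R'] S) ≃+* (k' ⊗[R] S) :=
    (Algebra.TensorProduct.equivOfCompatibleSMul R R' R' k' S).toRingEquiv
  let c3 : (k' ⊗[p.ResidueField] p.Fiber S) ≃+* (k' ⊗[R] S) :=
    (Algebra.TensorProduct.cancelBaseChange R p.ResidueField p.ResidueField k' S).toRingEquiv
  exact IsRegularRing.of_ringEquiv (R := k' ⊗[p.ResidueField] p.Fiber S)
    (c3.trans (c2.symm.trans c1.symm))


section adic
variable {R R' : Type u} [CommRing R] [CommRing R']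

theorem factorPow_evalₐ (I : Ideal R) {m n : ℕ} (hle : m ≤ n) (x : AdicCompletion I R) :
    Ideal.Quotient.factorPow I hle (AdicCompletion.evalₐ I n x) = AdicCompletion.evalₐ I m x := by
  obtain ⟨a, rfl⟩ := AdicCompletion.mk_surjective I R x
  rw [AdicCompletion.evalₐ_mk, AdicCompletion.evalₐ_mk]
  simp only [Ideal.Quotient.factor_mk]
  exact AdicCompletion.Ideal.mk_eq_mk I hle a

theorem pow_le_comap_pow (I : Ideal R) (J : Ideal R') (σ : R →+* R') (h : I ≤ J.comap σ) (n : ℕ) :
    I ^ n ≤ (J ^ n).comap σ :=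
  (Ideal.pow_right_mono h n).trans (Ideal.le_comap_pow σ n)

theorem adicMap_compat (I : Ideal R) (J : Ideal R') (σ : R →+* R') (h : I ≤ J.comap σ)
    {m n : ℕ} (hle : m ≤ n) :
    (Ideal.Quotient.factorPow J hle).comp
      ((Ideal.quotientMap (J ^ n) σ (pow_le_comap_pow I J σ h n)).comp
        (AdicCompletion.evalₐ I n : AdicCompletion I R →+* R ⧸ I ^ n)) =
    (Ideal.quotientMap (J ^ m) σ (pow_le_comap_pow I J σ h m)).comp
        (AdicCompletion.evalₐ I m : AdicCompletion I R →+* R ⧸ I ^ m) := by
  refine RingHom.ext fun x => ?_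
  simp only [RingHom.coe_comp, RingHom.coe_coe, Function.comp_apply]
  rw [← factorPow_evalₐ I hle x]
  obtain ⟨a, ha⟩ := Ideal.Quotient.mk_surjective (AdicCompletion.evalₐ I n x)
  rw [← ha]
  simp [Ideal.quotientMap_mk]

/-- Functoriality of the adic completion of a ring in the pair (ring, ideal). -/
noncomputable def adicMap (I : Ideal R) (J : Ideal R') (σ : R →+* R') (h : I ≤ J.comap σ) :
    AdicCompletion I R →+* AdicCompletion J R' :=
  AdicCompletion.liftRingHom J
    (fun n => (Ideal.quotientMap (J ^ n) σ (pow_le_comap_pow I J σ h n)).comp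
      (AdicCompletion.evalₐ I n : AdicCompletion I R →+* R ⧸ I ^ n))
    (fun hle => adicMap_compat I J σ h hle)

theorem evalₐ_adicMap (I : Ideal R) (J : Ideal R') (σ : R →+* R') (h : I ≤ J.comap σ) (n : ℕ)
    (x : AdicCompletion I R) :
    AdicCompletion.evalₐ J n (adicMap I J σ h x) =
      Ideal.quotientMap (J ^ n) σ (pow_le_comap_pow I J σ h n) (AdicCompletion.evalₐ I n x) :=
  AdicCompletion.evalₐ_liftRingHom J _ (fun hle => adicMap_compat I J σ h hle) n x

theorem adicMap_of (I : Ideal R) (J : Ideal R') (σ : R →+* R') (h : I ≤ J.comap σ) (r : R) :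
    adicMap I J σ h (AdicCompletion.of I R r) = AdicCompletion.of J R' (σ r) := by
  apply AdicCompletion.ext_evalₐ
  intro n
  rw [evalₐ_adicMap]
  simp [Ideal.quotientMap_mk]

/-- A ring isomorphism compatible with ideals induces an isomorphism of adic completions. -/
noncomputable def adicEquiv (I : Ideal R) (J : Ideal R') (σ : R ≃+* R') (h : I = J.comap σ) :
    AdicCompletion I R ≃+* AdicCompletion J R' :=
  RingEquiv.ofRingHom (adicMap I J σ h.le)
    (adicMap J I σ.symm (by
      rw [h]
      intro x hx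
      show σ (σ.symm x) ∈ J
      rwa [σ.apply_symm_apply]))
    (by
      refine RingHom.ext fun x => ?_
      apply AdicCompletion.ext_evalₐ
      intro n
      simp only [RingHom.coe_comp, Function.comp_apply, RingHom.id_apply]
      rw [evalₐ_adicMap, evalₐ_adicMap]
      obtain ⟨a, ha⟩ := Ideal.Quotient.mk_surjective (AdicCompletion.evalₐ J n x)
      rw [← ha]
      simp [Ideal.quotientMap_mk])
    (by
      refine RingHom.ext fun x => ?_
      apply AdicCompletion.ext_evalₐ
      intro n
      simp only [RingHom.coe_comp, Function.comp_apply, RingHom.id_apply]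
      rw [evalₐ_adicMap, evalₐ_adicMap]
      obtain ⟨a, ha⟩ := Ideal.Quotient.mk_surjective (AdicCompletion.evalₐ I n x)
      rw [← ha]
      simp [Ideal.quotientMap_mk])

theorem adicEquiv_of (I : Ideal R) (J : Ideal R') (σ : R ≃+* R') (h : I = J.comap σ) (r : R) :
    adicEquiv I J σ h (AdicCompletion.of I R r) = AdicCompletion.of J R' (σ r) :=
  adicMap_of I J σ h.le r

end adic

/-- transport of `IsRegularHom` along a pair of compatible ring isomorphisms. -/
theorem isRegularHom_of_ringEquiv {R R' S S' : Type u} [CommRing R] [CommRing R'] [CommRing S]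
    [CommRing S'] [Algebra R S] [Algebra R' S'] (σ : R ≃+* R') (τ : S ≃+* S')
    (h : ∀ r, τ (algebraMap R S r) = algebraMap R' S' (σ r)) (hreg : CAlg.IsRegularHom R S) :
    CAlg.IsRegularHom R' S' := by
  letI : Algebra R' S := ((algebraMap R S).comp σ.symm.toRingHom).toAlgebra
  have h1 : CAlg.IsRegularHom R' S :=
    isRegularHom_of_ringEquiv_base σ.symm (fun _ => rfl) hreg
  let τₐ : S ≃ₐ[R'] S' :=
    { τ with
      commutes' := fun r' => by
        show τ (algebraMap R S (σ.symm r')) = algebraMap R' S' r'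
        rw [h, σ.apply_symm_apply] }
  exact isRegularHom_of_algEquiv τₐ h1

theorem isRegularHom_completion_of_ringEquiv {L L' : Type u} [CommRing L] [CommRing L']
    [IsLocalRing L] [IsLocalRing L'] (σ : L ≃+* L')
    (h : CAlg.IsRegularHom L (AdicCompletion (IsLocalRing.maximalIdeal L) L)) :
    CAlg.IsRegularHom L' (AdicCompletion (IsLocalRing.maximalIdeal L') L') := by
  have hm : IsLocalRing.maximalIdeal L = (IsLocalRing.maximalIdeal L').comap σ :=
    (IsLocalRing.maximalIdeal_comap (σ : L →+* L')).symm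
  refine isRegularHom_of_ringEquiv σ (adicEquiv _ _ σ hm) (fun r => ?_) h
  exact adicEquiv_of _ _ σ hm r


/-- A scheme `X` is a G-scheme (every point has an affine open neighbourhood with G-ring coordinate
ring) if and only if `O_X(U)` is a G-ring for every affine open `U ⊆ X`. -/
theorem result (X : Scheme.{u}) :
    (∀ x : X, ∃ U : X.Opens, x ∈ U ∧ IsAffineOpen U ∧ CAlg.IsGRing Γ(X, U)) ↔
      ∀ U : X.Opens, IsAffineOpen U → CAlg.IsGRing Γ(X, U) := by
  constructor
  · intro h
    choose V hxV hV hG using h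
    have hnoeth : IsLocallyNoetherian X := by
      refine (isLocallyNoetherian_iff_of_iSup_eq_top (S := fun x : X => ⟨V x, hV x⟩) ?_).mpr
        (fun x => (hG x).1)
      rw [eq_top_iff]
      intro x _
      exact TopologicalSpace.Opens.mem_iSup.mpr ⟨x, hxV x⟩
    intro U hU
    refine ⟨IsLocallyNoetherian.component_noetherian ⟨U, hU⟩, fun p _ => ?_⟩
    let y : PrimeSpectrum Γ(X, U) := ⟨p, inferInstance⟩
    have hy : hU.fromSpec y ∈ U := by
      have := hU.range_fromSpec
      rw [← SetLike.mem_coe, ← this]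
      exact ⟨y, rfl⟩
    set x := hU.fromSpec y with hx
    let q := (hV x).primeIdealOf ⟨x, hxV x⟩
    letI algA : Algebra Γ(X, V x) (X.presheaf.stalk x) :=
      TopCat.Presheaf.algebra_section_stalk X.presheaf ⟨x, hxV x⟩
    letI algB : Algebra Γ(X, U) (X.presheaf.stalk x) :=
      TopCat.Presheaf.algebra_section_stalk X.presheaf ⟨x, hy⟩
    have locA : IsLocalization.AtPrime (X.presheaf.stalk x) q.asIdeal :=
      (hV x).isLocalization_stalk ⟨x, hxV x⟩
    have locB : IsLocalization.AtPrime (X.presheaf.stalk x) p := hU.isLocalization_stalk' y hy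
    let σ : Localization.AtPrime q.asIdeal ≃+* Localization.AtPrime p :=
      (IsLocalization.algEquiv q.asIdeal.primeCompl (Localization.AtPrime q.asIdeal)
        (X.presheaf.stalk x)).toRingEquiv.trans
      (IsLocalization.algEquiv p.primeCompl (Localization.AtPrime p)
        (X.presheaf.stalk x)).toRingEquiv.symm
    exact isRegularHom_completion_of_ringEquiv σ ((hG x).2 q.asIdeal)
  · intro h x
    obtain ⟨U, hU, hxU, -⟩ := exists_isAffineOpen_mem_and_subset (X := X) (x := x) (U := ⊤) trivial
    exact ⟨U, hxU, hU, h U hU⟩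

end Groth.Agent.S7414
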