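import Groth.Statements.S0543
import Mathlib.RingTheory.MvPowerSeries.Equiv
import Mathlib.RingTheory.AdicCompletion.Completeness
import Mathlib.RingTheory.AdicCompletion.Functoriality
import Mathlib.RingTheory.AdicCompletion.RingHom

set_option autoImplicit false
universe u
open CAlg

namespace Groth.Agent.S0543

section

variable {R : Type u} [CommRing R] {n : ℕ} (a : Fin n → R)

theorem idealOfVars_le :
    MvPolynomial.idealOfVars (Fin n) R ≤
      Ideal.comap (MvPolynomial.aeval a : MvPolynomial (Fin n) R →ₐ[R] R)
        (Ideal.span (Set.range a)) := by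
  rw [Ideal.span_le]
  rintro _ ⟨i, rfl⟩
  simp only [SetLike.mem_coe, Ideal.mem_comap, MvPolynomial.aeval_X]
  exact Ideal.subset_span ⟨i, rfl⟩

theorem idealOfVars_pow_le (k : ℕ) :
    MvPolynomial.idealOfVars (Fin n) R ^ k ≤
      Ideal.comap (MvPolynomial.aeval a : MvPolynomial (Fin n) R →ₐ[R] R)
        (Ideal.span (Set.range a) ^ k) :=
  (Ideal.pow_right_mono (idealOfVars_le a) k).trans (Ideal.le_comap_pow _ k)

noncomputable def stage (k : ℕ) :
    AdicCompletion (MvPolynomial.idealOfVars (Fin n) R) (MvPolynomial (Fin n) R) →+*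
      R ⧸ Ideal.span (Set.range a) ^ k :=
  (Ideal.quotientMap _ (MvPolynomial.aeval a : MvPolynomial (Fin n) R →ₐ[R] R).toRingHom
    (idealOfVars_pow_le a k)).comp
    (AdicCompletion.evalₐ (MvPolynomial.idealOfVars (Fin n) R) k).toRingHom

theorem stage_of (k : ℕ) (p : MvPolynomial (Fin n) R) :
    stage a k (AdicCompletion.of _ _ p) =
      Ideal.Quotient.mk _ (MvPolynomial.aeval a p) := by
  simp [stage]

theorem stage_mk (k : ℕ)
    (c : AdicCompletion.AdicCauchySequence (MvPolynomial.idealOfVars (Fin n) R)
      (MvPolynomial (Fin n) R)) :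
    stage a k (AdicCompletion.mk _ _ c) =
      Ideal.Quotient.mk _ (MvPolynomial.aeval a (c k)) := by
  simp [stage]

theorem stage_compat {m k : ℕ} (hle : m ≤ k) :
    (Ideal.Quotient.factorPow (Ideal.span (Set.range a)) hle).comp (stage a k) = stage a m := by
  ext x
  induction x using AdicCompletion.induction_on with
  | h c =>
    rw [RingHom.comp_apply, stage_mk, stage_mk, Ideal.Quotient.factor_mk]
    rw [Ideal.Quotient.eq, ← map_sub]
    have h1 : c k - c m ∈ MvPolynomial.idealOfVars (Fin n) R ^ m := by
      have := (c.property hle).symm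
      rw [SModEq.sub_mem] at this
      simpa using this
    exact idealOfVars_pow_le a m h1

noncomputable def compMap :
    AdicCompletion (MvPolynomial.idealOfVars (Fin n) R) (MvPolynomial (Fin n) R) →+*
      AdicCompletion (Ideal.span (Set.range a)) R :=
  AdicCompletion.liftRingHom _ (stage a) (fun hle => stage_compat a hle)

theorem compMap_of (p : MvPolynomial (Fin n) R) :
    compMap a (AdicCompletion.of _ _ p) = AdicCompletion.of _ _ (MvPolynomial.aeval a p) := by
  apply AdicCompletion.ext_evalₐ
  intro k
  rw [compMap, AdicCompletion.evalₐ_liftRingHom, stage_of, AdicCompletion.evalₐ_of]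

noncomputable def psMap : MvPowerSeries (Fin n) R →+* AdicCompletion (Ideal.span (Set.range a)) R :=
  (compMap a).comp (MvPowerSeries.toAdicCompletion (Fin n) R).toRingHom

theorem psMap_coe (p : MvPolynomial (Fin n) R) :
    psMap a (p : MvPowerSeries (Fin n) R) = AdicCompletion.of _ _ (MvPolynomial.aeval a p) := by
  simp only [psMap, RingHom.comp_apply, AlgHom.toRingHom_eq_coe, RingHom.coe_coe,
    MvPowerSeries.toAdicCompletion_coe, compMap_of]

theorem psMap_surjective : Function.Surjective (psMap a) := by
  classical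
  have hfg : (Ideal.span (Set.range a)).FG := ⟨Finset.univ.image a, by simp⟩
  have hmap : (Ideal.span (Set.range (MvPowerSeries.X : Fin n → MvPowerSeries (Fin n) R))).map
      (psMap a) = (Ideal.span (Set.range a)).map
        (algebraMap R (AdicCompletion (Ideal.span (Set.range a)) R)) := by
    rw [Ideal.map_span, Ideal.map_span, ← Set.range_comp, ← Set.range_comp]
    congr 2
    ext i
    have : (MvPowerSeries.X i : MvPowerSeries (Fin n) R) =
        ((MvPolynomial.X i : MvPolynomial (Fin n) R) : MvPowerSeries (Fin n) R) :=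
      (MvPolynomial.coe_X i).symm
    simp only [Function.comp_apply, this, psMap_coe, MvPolynomial.aeval_X]
    rfl
  haveI : IsAdicComplete (Ideal.span (Set.range a)) (AdicCompletion (Ideal.span (Set.range a)) R) :=
    AdicCompletion.isAdicComplete hfg
  haveI : IsHausdorff ((Ideal.span (Set.range
      (MvPowerSeries.X : Fin n → MvPowerSeries (Fin n) R))).map (psMap a))
      (AdicCompletion (Ideal.span (Set.range a)) R) := by
    rw [hmap]
    exact IsHausdorff.map_algebraMap_iff.mpr inferInstance
  apply surjective_of_mk_map_comp_surjective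
    (I := Ideal.span (Set.range (MvPowerSeries.X : Fin n → MvPowerSeries (Fin n) R)))
  intro y
  obtain ⟨y, rfl⟩ := Ideal.Quotient.mk_surjective y
  obtain ⟨r, hr⟩ := Ideal.Quotient.mk_surjective
    (AdicCompletion.evalOneₐ (Ideal.span (Set.range a)) y)
  refine ⟨((MvPolynomial.C r : MvPolynomial (Fin n) R) : MvPowerSeries (Fin n) R), ?_⟩
  rw [RingHom.comp_apply, psMap_coe, MvPolynomial.aeval_C, Ideal.Quotient.eq, hmap,
    ← AdicCompletion.ker_evalOneₐ_eq_map _ hfg, RingHom.mem_ker]
  simp only [Algebra.algebraMap_self, RingHom.id_apply, AlgHom.toRingHom_eq_coe, RingHom.coe_coe,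
    map_sub, AdicCompletion.evalOneₐ_of]
  rw [hr, sub_self]

end

/-- The completion of a Noetherian ring with respect to any ideal is Noetherian. -/
theorem result (R : Type u) [CommRing R] [IsNoetherianRing R]
    (I : Ideal R) : IsNoetherianRing (AdicCompletion I R) := by
  obtain ⟨s, hs⟩ := (isNoetherianRing_iff_ideal_fg R).mp inferInstance I
  let n := s.card
  let e : Fin n ≃ s := s.equivFin.symm
  let a : Fin n → R := fun i => (e i : R)
  have ha : Ideal.span (Set.range a) = I := by
    rw [← hs]
    congr 1
    ext x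
    constructor
    · rintro ⟨i, rfl⟩
      exact (e i).2
    · intro hx
      exact ⟨e.symm ⟨x, hx⟩, by simp [a]⟩
  subst ha
  exact isNoetherianRing_of_surjective _ _ (psMap a) (psMap_surjective a)

end Groth.Agent.S0543
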