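import Groth.Statements.S14002
import Groth.Agent.Lib.Helper6.LocalFlat4

set_option autoImplicit false
universe u
open CAlg

namespace Groth.Agent.S14002

open TensorProduct in
/-- Flatness of an adic morphism of locally Noetherian formal schemes is detected on the truncations.
Let B → A be a homomorphism of Noetherian rings and J an ideal of B such that A is adically
separated and complete with respect to the extended ideal JA. Then A is a flat B-module if and only
if for every n ≥ 1 the base change (B/Jⁿ) ⊗_B A = A/JⁿA is a flat (B/Jⁿ)-module. The ring B is not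
assumed separated or complete for the J-adic topology. (The published statement is about an adic
morphism of locally Noetherian formal schemes, so that both rings are adic there; the criterion
holds without that assumption on B.) -/
theorem result (B A : Type u) [CommRing B] [CommRing A]
    [IsNoetherianRing B] [IsNoetherianRing A] [Algebra B A] (J : Ideal B)
    [IsAdicComplete (J.map (algebraMap B A)) A] :
    Module.Flat B A ↔ ∀ n : ℕ, 0 < n → Module.Flat (B ⧸ J ^ n) ((B ⧸ J ^ n) ⊗[B] A) := by
  constructor
  · intro h n _
    infer_instance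
  · intro h
    refine Groth.Agent.Lib.Helper6.LocalFlat.flat_of_g1_lTensor_injective (S := A) (M := A) J
      (IsAdicComplete.le_jacobson_bot _) ?_
    intro n 𝔞
    have hP : Module.IsTorsionBySet B (𝔞 ⧸ Groth.Agent.Lib.Helper6.LocalFlat.bq J 𝔞 n)
        (↑(J ^ n) : Set B) := by
      intro x j
      obtain ⟨a, rfl⟩ := Submodule.Quotient.mk_surjective _ x
      rw [← Submodule.Quotient.mk_smul, Submodule.Quotient.mk_eq_zero]
      change ((j : B) • a : 𝔞).1 ∈ J ^ n
      exact Ideal.mul_mem_right _ _ j.2
    have hQ : Module.IsTorsionBySet B (B ⧸ J ^ n) (↑(J ^ n) : Set B) := by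
      intro x j
      obtain ⟨b, rfl⟩ := Ideal.Quotient.mk_surjective x
      change (j : B) • Ideal.Quotient.mk (J ^ n) b = 0
      rw [Algebra.smul_def, Ideal.Quotient.algebraMap_eq, ← map_mul,
        Ideal.Quotient.eq_zero_iff_mem]
      exact Ideal.mul_mem_right _ _ j.2
    rcases Nat.eq_zero_or_pos n with h0 | hn
    · subst h0
      have hsub : Subsingleton (𝔞 ⧸ Groth.Agent.Lib.Helper6.LocalFlat.bq J 𝔞 0) := by
        have h1 : Groth.Agent.Lib.Helper6.LocalFlat.bq J 𝔞 0 = ⊤ := by
          unfold Groth.Agent.Lib.Helper6.LocalFlat.bq
          rw [pow_zero, Ideal.one_eq_top]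
          exact Submodule.comap_top _
        rw [h1]
        infer_instance
      have hsub2 : Subsingleton (A ⊗[B] (𝔞 ⧸ Groth.Agent.Lib.Helper6.LocalFlat.bq J 𝔞 0)) :=
        inferInstance
      exact Function.injective_of_subsingleton _
    · haveI := h n hn
      exact Groth.Agent.Lib.Helper6.LocalFlat.lTensor_injective_of_flat_baseChange (J ^ n) hP hQ _
        (Groth.Agent.Lib.Helper6.LocalFlat.g1_injective J 𝔞 n)

end Groth.Agent.S14002
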