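import Groth.Statements.S3869
import Mathlib
-- import your own Groth.Agent.* helpers here

set_option autoImplicit false
universe u
open FCompl

namespace Groth.Agent.S3869

section units

variable {S : Type*} [CommRing S] (I : Ideal S)

lemma isUnit_mk_pow_of_isUnit_mk (n : ℕ) (r : S) (h : IsUnit (Ideal.Quotient.mk I r)) :
    IsUnit (Ideal.Quotient.mk (I ^ n) r) := by
  obtain ⟨t', ht'⟩ := isUnit_iff_exists_inv.mp h
  obtain ⟨t, rfl⟩ := Ideal.Quotient.mk_surjective t'
  have h1 : r * t - 1 ∈ I := by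
    rw [← Ideal.Quotient.eq, map_mul, map_one]
    exact ht'
  have hnil : IsNilpotent (Ideal.Quotient.mk (I ^ n) (r * t - 1)) :=
    ⟨n, by rw [← map_pow, Ideal.Quotient.eq_zero_iff_mem]; exact Ideal.pow_mem_pow h1 n⟩
  have hu : IsUnit (Ideal.Quotient.mk (I ^ n) (r * t)) := by
    have : Ideal.Quotient.mk (I ^ n) (r * t) = Ideal.Quotient.mk (I ^ n) (r * t - 1) + 1 := by
      rw [map_sub, map_one, sub_add_cancel]
    rw [this]
    exact hnil.isUnit_add_one
  rw [map_mul] at hu
  exact isUnit_of_mul_isUnit_left hu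

theorem isUnit_of_isUnit_evalOneₐ (x : AdicCompletion I S)
    (h : IsUnit (AdicCompletion.evalOneₐ I x)) : IsUnit x := by
  obtain ⟨c, rfl⟩ := AdicCompletion.mk_surjective I S x
  have h1 : AdicCompletion.evalOneₐ I (AdicCompletion.mk I S c) = Ideal.Quotient.mk I (c.val 1) := by
    rw [← AdicCompletion.factorₐ_evalₐ_one, AdicCompletion.evalₐ_mk]
    rfl
  rw [h1] at h
  have hcc : ∀ {m n : ℕ}, m ≤ n → c.val m - c.val n ∈ I ^ m := by
    intro m n hmn
    have := c.property hmn
    rwa [SModEq.sub_mem, smul_eq_mul, Ideal.mul_top] at this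
  have hn : ∀ n, IsUnit (Ideal.Quotient.mk (I ^ n) (c.val n)) := by
    intro n
    rcases Nat.eq_zero_or_pos n with rfl | hpos
    · have : Subsingleton (S ⧸ I ^ 0) := by
        rw [pow_zero, Ideal.one_eq_top]
        exact Ideal.Quotient.subsingleton_iff.mpr rfl
      exact isUnit_of_subsingleton _
    · apply isUnit_mk_pow_of_isUnit_mk
      have e : Ideal.Quotient.mk I (c.val n) = Ideal.Quotient.mk I (c.val 1) := by
        rw [Ideal.Quotient.eq, ← neg_sub]
        have := hcc hpos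
        rw [pow_one] at this
        exact I.neg_mem this
      rw [e]
      exact h
  choose t' ht' using fun n => isUnit_iff_exists_inv.mp (hn n)
  choose t ht using fun n => Ideal.Quotient.mk_surjective (t' n)
  have hP : ∀ n, c.val n * t n - 1 ∈ I ^ n := by
    intro n
    rw [← Ideal.Quotient.eq, map_mul, map_one, ht]
    exact ht' n
  have hcauchy : AdicCompletion.IsAdicCauchy I S t := by
    intro m n hmn
    rw [SModEq.sub_mem, smul_eq_mul, Ideal.mul_top]
    have e : t m - t n = - (t m * (c.val n * t n - 1)) + t n * (c.val m * t m - 1) +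
        - (t n * t m * (c.val m - c.val n)) := by ring
    rw [e]
    refine Ideal.add_mem _ (Ideal.add_mem _ ((Ideal.neg_mem_iff _).mpr (Ideal.mul_mem_left _ _
      (Ideal.pow_le_pow_right hmn (hP n)))) (Ideal.mul_mem_left _ _ (hP m)))
      ((Ideal.neg_mem_iff _).mpr (Ideal.mul_mem_left _ _ (hcc hmn)))
  let s : AdicCompletion.AdicCauchySequence I S := ⟨t, hcauchy⟩
  refine isUnit_iff_exists_inv.mpr ⟨AdicCompletion.mk I S s, ?_⟩
  apply AdicCompletion.ext_evalₐ
  intro n
  rw [map_mul, AdicCompletion.evalₐ_mk, AdicCompletion.evalₐ_mk, map_one]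
  show Ideal.Quotient.mk (I ^ n) (c.val n) * Ideal.Quotient.mk (I ^ n) (t n) = 1
  rw [ht]
  exact ht' n

end units

section complMap

variable {S T U : Type u} [CommRing S] [CommRing T] [CommRing U]
  (I : Ideal S) (K : Ideal T) (K' : Ideal U) (g : S →+* T) (g' : T →+* U)

theorem evalₐ_complMap (h : I.map g ≤ K) (n : ℕ) (y : AdicCompletion I S) :
    AdicCompletion.evalₐ K n (FSch.complMap I K g h y) =
      Ideal.quotientMap (K ^ n) g (FSch.pow_le_comap_pow_of_map_le I K g h n)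
        (AdicCompletion.evalₐ I n y) := by
  unfold FSch.complMap
  rw [AdicCompletion.evalₐ_liftRingHom]
  · rfl
  · intro m n hle
    apply RingHom.ext
    intro x
    obtain ⟨y, rfl⟩ := AdicCompletion.mk_surjective I S x
    simp only [RingHom.coe_comp, Function.comp_apply, AlgHom.toRingHom_eq_coe, AlgHom.coe_toRingHom,
      AdicCompletion.evalₐ_mk, Ideal.quotientMap_mk, Ideal.Quotient.factorPow, Ideal.Quotient.factor_mk]
    rw [Ideal.Quotient.eq]
    have hy := y.2 hle
    rw [SModEq.sub_mem] at hy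
    simp only [smul_eq_mul, Ideal.mul_top] at hy
    rw [← map_sub]
    have hy' : (y : ℕ → S) n - (y : ℕ → S) m ∈ I ^ m := by
      rw [← neg_sub]; exact (I ^ m).neg_mem hy
    exact FSch.pow_le_comap_pow_of_map_le I K g h m hy'

theorem evalOneₐ_complMap (h : I.map g ≤ K) (y : AdicCompletion I S) (z : S)
    (hz : AdicCompletion.evalOneₐ I y = Ideal.Quotient.mk I z) :
    AdicCompletion.evalOneₐ K (FSch.complMap I K g h y) = Ideal.Quotient.mk K (g z) := by
  rw [← AdicCompletion.factorₐ_evalₐ_one, evalₐ_complMap]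
  rw [← AdicCompletion.factorₐ_evalₐ_one] at hz
  obtain ⟨w, hw⟩ := Ideal.Quotient.mk_surjective (AdicCompletion.evalₐ I 1 y)
  rw [← hw] at hz ⊢
  rw [Ideal.quotientMap_mk, Ideal.Quotient.factor_mk]
  rw [Ideal.Quotient.factor_mk, Ideal.Quotient.eq] at hz
  rw [Ideal.Quotient.eq, ← map_sub]
  exact h (Ideal.mem_map_of_mem g hz)

theorem complMap_comp (h : I.map g ≤ K) (h' : K.map g' ≤ K') (h'' : I.map (g'.comp g) ≤ K')
    (y : AdicCompletion I S) :
    FSch.complMap K K' g' h' (FSch.complMap I K g h y) = FSch.complMap I K' (g'.comp g) h'' y := by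
  apply AdicCompletion.ext_evalₐ
  intro n
  rw [evalₐ_complMap, evalₐ_complMap, evalₐ_complMap]
  obtain ⟨w, hw⟩ := Ideal.Quotient.mk_surjective (AdicCompletion.evalₐ I n y)
  rw [← hw]
  simp only [Ideal.quotientMap_mk, RingHom.comp_apply]

theorem complMap_congr {g₁ g₂ : S →+* T} (e : g₁ = g₂) (h₁ : I.map g₁ ≤ K) (h₂ : I.map g₂ ≤ K)
    (y : AdicCompletion I S) : FSch.complMap I K g₁ h₁ y = FSch.complMap I K g₂ h₂ y := by
  subst e
  rfl

end complMap

section main

variable (A : Type u) [CommRing A] (J : Ideal A) (𝔭 : Ideal A) [𝔭.IsPrime]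

theorem IL_le (hJ : J ≤ 𝔭) : J.map (algebraMap A (Localization.AtPrime 𝔭)) ≤
    IsLocalRing.maximalIdeal (Localization.AtPrime 𝔭) := by
  rw [← Localization.AtPrime.map_eq_maximalIdeal]
  exact Ideal.map_mono hJ

theorem isUnit_of_isUnit_mk (hJ : J ≤ 𝔭) (w : Localization.AtPrime 𝔭)
    (h : IsUnit (Ideal.Quotient.mk (J.map (algebraMap A (Localization.AtPrime 𝔭))) w)) :
    IsUnit w := by
  by_contra hw
  have hwm : w ∈ IsLocalRing.maximalIdeal (Localization.AtPrime 𝔭) :=
    (IsLocalRing.mem_maximalIdeal w).mpr hw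
  obtain ⟨v', hv'⟩ := isUnit_iff_exists_inv.mp h
  obtain ⟨v, rfl⟩ := Ideal.Quotient.mk_surjective v'
  have h1 : w * v - 1 ∈ J.map (algebraMap A (Localization.AtPrime 𝔭)) := by
    rw [← Ideal.Quotient.eq, map_mul, map_one]
    exact hv'
  have h2 := IL_le A J 𝔭 hJ h1
  have h3 : (1 : Localization.AtPrime 𝔭) ∈ IsLocalRing.maximalIdeal (Localization.AtPrime 𝔭) := by
    have := Ideal.sub_mem _ (Ideal.mul_mem_right v _ hwm) h2
    have e : (1 : Localization.AtPrime 𝔭) = w * v - (w * v - 1) := by ring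
    rw [e]
    exact this
  exact (IsLocalRing.maximalIdeal.isMaximal (Localization.AtPrime 𝔭)).ne_top
    ((Ideal.eq_top_iff_one _).mpr h3)

theorem isLocalRing_cAtPrime (hJ : J ≤ 𝔭) : IsLocalRing (FSch.cAtPrime A J 𝔭) := by
  have hne : J.map (algebraMap A (Localization.AtPrime 𝔭)) ≠ ⊤ := by
    intro htop
    have := IL_le A J 𝔭 hJ
    rw [htop, top_le_iff] at this
    exact (IsLocalRing.maximalIdeal.isMaximal (Localization.AtPrime 𝔭)).ne_top this
  have : Nontrivial (Localization.AtPrime 𝔭 ⧸ J.map (algebraMap A (Localization.AtPrime 𝔭))) :=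
    Ideal.Quotient.nontrivial_iff.mpr hne
  have hloc : IsLocalRing
      (Localization.AtPrime 𝔭 ⧸ J.map (algebraMap A (Localization.AtPrime 𝔭))) :=
    IsLocalRing.of_surjective' (Ideal.Quotient.mk _) Ideal.Quotient.mk_surjective
  have : IsLocalHom (AdicCompletion.evalOneₐ
      (J.map (algebraMap A (Localization.AtPrime 𝔭)))).toRingHom :=
    ⟨fun x hx => isUnit_of_isUnit_evalOneₐ _ x hx⟩
  exact (AdicCompletion.evalOneₐ
    (J.map (algebraMap A (Localization.AtPrime 𝔭)))).toRingHom.domain_isLocalRing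

/-- transition to a smaller basic open -/
theorem cAwayToAtPrime_factor (f a : A) (hf : f ∉ 𝔭) (hfa : f * a ∉ 𝔭) (y : FSch.cAway A J f) :
    ∃ y' : FSch.cAway A J (f * a),
      FSch.cAwayToAtPrime A J 𝔭 (f * a) hfa y' = FSch.cAwayToAtPrime A J 𝔭 f hf y ∧
      ∀ z : Localization.Away f, AdicCompletion.evalOneₐ _ y = Ideal.Quotient.mk _ z →
        AdicCompletion.evalOneₐ _ y' = Ideal.Quotient.mk _
          (IsLocalization.Away.awayToAwayRight (S := Localization.Away f)
            (P := Localization.Away (f * a)) f a z) := by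
  let τ : Localization.Away f →+* Localization.Away (f * a) :=
    IsLocalization.Away.awayToAwayRight (S := Localization.Away f)
      (P := Localization.Away (f * a)) f a
  have hτalg : τ.comp (algebraMap A (Localization.Away f)) =
      algebraMap A (Localization.Away (f * a)) := by
    ext x
    exact IsLocalization.Away.awayToAwayRight_eq f a x
  have hτ : (J.map (algebraMap A (Localization.Away f))).map τ ≤
      J.map (algebraMap A (Localization.Away (f * a))) := by
    rw [Ideal.map_map, hτalg]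
  have hcomp : (FSch.awayToAtPrime A 𝔭 (f * a) hfa).comp τ = FSch.awayToAtPrime A 𝔭 f hf := by
    apply IsLocalization.ringHom_ext (Submonoid.powers f)
    ext x
    simp only [RingHom.comp_apply]
    have e1 : τ (algebraMap A (Localization.Away f) x) =
        algebraMap A (Localization.Away (f * a)) x :=
      IsLocalization.Away.awayToAwayRight_eq f a x
    rw [e1]
    simp [FSch.awayToAtPrime]
  refine ⟨FSch.complMap _ _ τ hτ y, ?_, ?_⟩
  · unfold FSch.cAwayToAtPrime
    rw [complMap_comp _ _ _ τ (FSch.awayToAtPrime A 𝔭 (f * a) hfa) hτ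
      (FSch.map_awayToAtPrime_le A J 𝔭 (f * a) hfa)
      (hcomp ▸ FSch.map_awayToAtPrime_le A J 𝔭 f hf)]
    exact complMap_congr _ _ hcomp _ _ y
  · intro z hz
    exact evalOneₐ_complMap _ _ τ hτ y z hz

theorem range_le (f a : A) (hf : f ∉ 𝔭) (hfa : f * a ∉ 𝔭) :
    (FSch.cAwayToAtPrime A J 𝔭 f hf).range ≤ (FSch.cAwayToAtPrime A J 𝔭 (f * a) hfa).range := by
  rintro _ ⟨y, rfl⟩
  obtain ⟨y', hy', -⟩ := cAwayToAtPrime_factor A J 𝔭 f a hf hfa y
  exact ⟨y', hy'⟩

theorem range_le' (f a : A) (hf : f ∉ 𝔭) (hfa : a * f ∉ 𝔭) :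
    (FSch.cAwayToAtPrime A J 𝔭 f hf).range ≤ (FSch.cAwayToAtPrime A J 𝔭 (a * f) hfa).range := by
  have aux : ∀ (g : A) (hg : g ∉ 𝔭), g = a * f →
      (FSch.cAwayToAtPrime A J 𝔭 f hf).range ≤ (FSch.cAwayToAtPrime A J 𝔭 g hg).range →
      (FSch.cAwayToAtPrime A J 𝔭 f hf).range ≤ (FSch.cAwayToAtPrime A J 𝔭 (a * f) hfa).range := by
    rintro g hg rfl h
    exact h
  have hfa' : f * a ∉ 𝔭 := by rwa [mul_comm]
  exact aux (f * a) hfa' (mul_comm f a) (range_le A J 𝔭 f a hf hfa')

theorem directed : Directed (· ≤ ·)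
    (fun f : {f : A // f ∉ 𝔭} => (FSch.cAwayToAtPrime A J 𝔭 f.1 f.2).range) := by
  rintro ⟨f, hf⟩ ⟨g, hg⟩
  have hfg : f * g ∉ 𝔭 := fun h => (Ideal.IsPrime.mem_or_mem ‹_› h).elim hf hg
  exact ⟨⟨f * g, hfg⟩, range_le A J 𝔭 f g hf hfg, range_le' A J 𝔭 g f hg hfg⟩

theorem mem_stalkSubring_iff (x : FSch.cAtPrime A J 𝔭) : x ∈ FSch.stalkSubring A J 𝔭 ↔
    ∃ (f : A) (hf : f ∉ 𝔭) (y : FSch.cAway A J f), FSch.cAwayToAtPrime A J 𝔭 f hf y = x := by
  have : Nonempty {f : A // f ∉ 𝔭} :=
    ⟨⟨1, fun h => (‹𝔭.IsPrime›.ne_top ((Ideal.eq_top_iff_one _).mpr h))⟩⟩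
  unfold FSch.stalkSubring
  rw [Subring.mem_iSup_of_directed (directed A J 𝔭)]
  constructor
  · rintro ⟨⟨f, hf⟩, y, hy⟩
    exact ⟨f, hf, y, hy⟩
  · rintro ⟨f, hf, y, hy⟩
    exact ⟨⟨f, hf⟩, y, hy⟩

theorem key (hJ : J ≤ 𝔭) (x : FSch.cAtPrime A J 𝔭) (hx : x ∈ FSch.stalkSubring A J 𝔭)
    (hu : IsUnit x) : ∃ x' ∈ FSch.stalkSubring A J 𝔭, x * x' = 1 := by
  obtain ⟨f, hf, y, rfl⟩ := (mem_stalkSubring_iff A J 𝔭 x).mp hx
  obtain ⟨z, hz⟩ := Ideal.Quotient.mk_surjective (AdicCompletion.evalOneₐ _ y)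
  have h2 : AdicCompletion.evalOneₐ _ (FSch.cAwayToAtPrime A J 𝔭 f hf y) =
      Ideal.Quotient.mk _ (FSch.awayToAtPrime A 𝔭 f hf z) :=
    evalOneₐ_complMap _ _ _ _ y z hz.symm
  have h3 : IsUnit (FSch.awayToAtPrime A 𝔭 f hf z) := by
    apply isUnit_of_isUnit_mk A J 𝔭 hJ
    rw [← h2]
    exact hu.map _
  obtain ⟨n, a, hna⟩ := IsLocalization.Away.surj f z
  have h5 : FSch.awayToAtPrime A 𝔭 f hf z * (algebraMap A (Localization.AtPrime 𝔭) f) ^ n =
      algebraMap A (Localization.AtPrime 𝔭) a := by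
    have := congrArg (FSch.awayToAtPrime A 𝔭 f hf) hna
    simpa [FSch.awayToAtPrime] using this
  have hfu : IsUnit (algebraMap A (Localization.AtPrime 𝔭) f) :=
    IsLocalization.map_units (Localization.AtPrime 𝔭) (⟨f, hf⟩ : 𝔭.primeCompl)
  have hau : IsUnit (algebraMap A (Localization.AtPrime 𝔭) a) := by
    rw [← h5]
    exact h3.mul (hfu.pow n)
  have ha : a ∉ 𝔭 := (IsLocalization.AtPrime.isUnit_to_map_iff _ 𝔭 a).mp hau
  have hfa : f * a ∉ 𝔭 := fun h => (Ideal.IsPrime.mem_or_mem ‹_› h).elim hf ha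
  obtain ⟨y', hy', hev⟩ := cAwayToAtPrime_factor A J 𝔭 f a hf hfa y
  have hz' := hev z hz.symm
  have hτz : IsUnit (IsLocalization.Away.awayToAwayRight (S := Localization.Away f)
      (P := Localization.Away (f * a)) f a z) := by
    have e : IsLocalization.Away.awayToAwayRight (S := Localization.Away f)
        (P := Localization.Away (f * a)) f a z *
        (algebraMap A (Localization.Away (f * a)) f) ^ n =
        algebraMap A (Localization.Away (f * a)) a := by
      have := congrArg (IsLocalization.Away.awayToAwayRight (S := Localization.Away f)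
        (P := Localization.Away (f * a)) f a) hna
      simpa [IsLocalization.Away.awayToAwayRight_eq] using this
    have hfau : IsUnit (algebraMap A (Localization.Away (f * a)) (f * a)) :=
      IsLocalization.Away.algebraMap_isUnit (f * a)
    rw [map_mul] at hfau
    have hau' : IsUnit (algebraMap A (Localization.Away (f * a)) a) :=
      isUnit_of_mul_isUnit_right hfau
    rw [← e] at hau'
    exact isUnit_of_mul_isUnit_left hau'
  have hy'u : IsUnit y' := isUnit_of_isUnit_evalOneₐ _ y' (by rw [hz']; exact hτz.map _)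
  obtain ⟨w, hw⟩ := isUnit_iff_exists_inv.mp hy'u
  refine ⟨FSch.cAwayToAtPrime A J 𝔭 (f * a) hfa w,
    (mem_stalkSubring_iff A J 𝔭 _).mpr ⟨f * a, hfa, w, rfl⟩, ?_⟩
  rw [← hy', ← map_mul, hw, map_one]

theorem main (hJ : J ≤ 𝔭) :
    IsLocalRing (FSch.stalkSubring A J 𝔭) ∧ IsLocalHom (FSch.stalkSubring A J 𝔭).subtype := by
  have hC : IsLocalRing (FSch.cAtPrime A J 𝔭) := isLocalRing_cAtPrime A J 𝔭 hJ
  have hloc : IsLocalHom (FSch.stalkSubring A J 𝔭).subtype := by
    constructor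
    rintro ⟨x, hx⟩ hu
    obtain ⟨x', hx', hxx'⟩ := key A J 𝔭 hJ x hx hu
    exact isUnit_iff_exists_inv.mpr ⟨⟨x', hx'⟩, Subtype.ext hxx'⟩
  exact ⟨(FSch.stalkSubring A J 𝔭).subtype.domain_isLocalRing, hloc⟩

end main


/-- For a ring A, an ideal J and a prime ideal 𝔭, let A{S⁻¹}, S = A ∖ 𝔭, be the completion of A_𝔭 for
the topology defined by the extension of J, and for f ∉ 𝔭 let A_{f} be the completion of A_f for the
topology defined by the extension of J. Consider the subring A_{S} of A{S⁻¹} generated by the images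
of all the A_{f}, f ∉ 𝔭 (when A is adic Noetherian and 𝔭 is open, this is the inductive limit of the
A_{f}, i.e. the stalk at 𝔭 of the structure sheaf of Spf(A) as a plain ring). If J ⊆ 𝔭, then A_{S}
is a local ring and its inclusion into A{S⁻¹} is a local homomorphism. -/
theorem result (A : Type u) [CommRing A] (J : Ideal A) (𝔭 : Ideal A) [𝔭.IsPrime]
    (hJ : J ≤ 𝔭) :
    IsLocalRing (FSch.stalkSubring A J 𝔭) ∧ IsLocalHom (FSch.stalkSubring A J 𝔭).subtype := by
  exact main A J 𝔭 hJ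

end Groth.Agent.S3869
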