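import Groth.Statements.S8535
import Mathlib
-- import your own Groth.Agent.* helpers here

set_option autoImplicit false
universe v v' u u'
open CategoryTheory CategoryTheory.Limits
open DeltaF

namespace Groth.Agent.S8535

section
variable {A : Type u} [Category.{v} A] [Abelian A] {B : Type u'} [Category.{v'} B] [Abelian B]

theorem mono_step (T T' : DeltaF.CohDeltaFunctor A B ℕ) (φ : T ⟶ T') (S : ShortComplex A)
    (hS : S.ShortExact) (n₀ n₁ : ℕ) (h : n₀ + 1 = n₁) (hzero : (T.F n₁).map S.f = 0)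
    (hepi : Epi ((φ.app n₀).app S.X₂)) (hmono : Mono ((φ.app n₀).app S.X₃)) :
    Mono ((φ.app n₁).app S.X₁) := by
  apply Preadditive.mono_of_cancel_zero
  intro W f₂ hf₂
  have hδepi : Epi (T.δ S hS n₀ n₁ h) := (T.exact₁ S hS n₀ n₁ h).epi_f hzero
  obtain ⟨W₁, π₁, hπ₁, f₁, hf₁⟩ := surjective_up_to_refinements_of_epi (T.δ S hS n₀ n₁ h) f₂
  have h3 : (f₁ ≫ (φ.app n₀).app S.X₃) ≫ T'.δ S hS n₀ n₁ h = 0 := by
    rw [Category.assoc, ← φ.comm S hS n₀ n₁ h, ← Category.assoc, ← hf₁, Category.assoc, hf₂,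
      comp_zero]
  obtain ⟨W₂, π₂, hπ₂, g₀, hg₀⟩ := (T'.exact₃ S hS n₀ n₁ h).exact_up_to_refinements _ h3
  dsimp at g₀ hg₀
  obtain ⟨W₃, π₃, hπ₃, f₀, hf₀⟩ :=
    surjective_up_to_refinements_of_epi ((φ.app n₀).app S.X₂) g₀
  have h4 : f₀ ≫ (T.F n₀).map S.g = π₃ ≫ π₂ ≫ f₁ := by
    rw [← cancel_mono ((φ.app n₀).app S.X₃)]
    simp only [Category.assoc]
    rw [(φ.app n₀).naturality, ← Category.assoc f₀, ← hf₀, Category.assoc, ← hg₀]
  rw [← cancel_epi π₁, comp_zero, hf₁, ← cancel_epi π₂, ← cancel_epi π₃, comp_zero, comp_zero]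
  have h5 : π₃ ≫ π₂ ≫ f₁ ≫ T.δ S hS n₀ n₁ h = (π₃ ≫ π₂ ≫ f₁) ≫ T.δ S hS n₀ n₁ h := by
    simp only [Category.assoc]
  rw [h5, ← h4, Category.assoc, T.comp_δ, comp_zero]

theorem epi_step (T T' : DeltaF.CohDeltaFunctor A B ℕ) (φ : T ⟶ T') (S : ShortComplex A)
    (hS : S.ShortExact) (n₀ n₁ : ℕ) (h : n₀ + 1 = n₁) (hzero : (T'.F n₁).map S.f = 0)
    (hepi : Epi ((φ.app n₀).app S.X₃)) :
    Epi ((φ.app n₁).app S.X₁) := by
  have hδepi : Epi (T'.δ S hS n₀ n₁ h) := (T'.exact₁ S hS n₀ n₁ h).epi_f hzero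
  have : Epi (T.δ S hS n₀ n₁ h ≫ (φ.app n₁).app S.X₁) := by
    rw [φ.comm S hS n₀ n₁ h]
    exact epi_comp _ _
  exact epi_of_epi (T.δ S hS n₀ n₁ h) _

theorem shortExact_of_mono {X Y : A} (u : X ⟶ Y) [Mono u] :
    (ShortComplex.mk u (cokernel.π u) (cokernel.condition u)).ShortExact :=
  { exact := ShortComplex.exact_cokernel u
    mono_f := by dsimp; infer_instance
    epi_g := by dsimp; infer_instance }

theorem mono_next (T T' : DeltaF.CohDeltaFunctor A B ℕ) (φ : T ⟶ T') (i : ℕ)
    (hepi : ∀ X, Epi ((φ.app i).app X)) (hmono : ∀ X, Mono ((φ.app i).app X))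
    (heff : ∀ X : A, ∃ (Y : A) (u : X ⟶ Y), Mono u ∧ (T.F (i + 1)).map u = 0) (X : A) :
    Mono ((φ.app (i + 1)).app X) := by
  obtain ⟨Y, u, hu, hzero⟩ := heff X
  exact mono_step T T' φ _ (shortExact_of_mono u) i (i + 1) rfl hzero (hepi _) (hmono _)

theorem epi_next (T T' : DeltaF.CohDeltaFunctor A B ℕ) (φ : T ⟶ T') (i : ℕ)
    (hepi : ∀ X, Epi ((φ.app i).app X)) (X : A)
    (heff : ∃ (Y : A) (u : X ⟶ Y), Mono u ∧ (T'.F (i + 1)).map u = 0) :
    Epi ((φ.app (i + 1)).app X) := by
  obtain ⟨Y, u, hu, hzero⟩ := heff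
  exact epi_step T T' φ _ (shortExact_of_mono u) i (i + 1) rfl hzero (hepi _)

end

/-- Let A and B be abelian categories, T and T' cohomological delta-functors from A to B in degrees ≥ 0
whose degree-0 components are left exact (they vanish in negative degrees), such that T^i is
effaceable for every i > 0, and let φ : T → T' be a morphism of delta-functors and n a natural
number. Then the following are equivalent: (a) φ^i is an isomorphism for i ≤ n and a monomorphism
for i = n + 1; (b) φ^0 is a monomorphism and φ^i is an epimorphism for every i ≤ n; (c) φ^0 is an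
isomorphism and, for 0 < i ≤ n, T'^i is effaceable (every object X admits a monomorphism X → Y
killed by T'^i). -/
theorem result {A : Type u} [Category.{v} A] [Abelian A]
    {B : Type u'} [Category.{v'} B] [Abelian B] (T T' : DeltaF.CohDeltaFunctor A B ℕ)
    (h0 : T.ZeroMono) (h0' : T'.ZeroMono) (hT : T.IsEffaceable) (φ : T ⟶ T') (n : ℕ) :
    ((∀ i : ℕ, i ≤ n → IsIso (φ.app i)) ∧ Mono (φ.app (n + 1)) ↔
      (Mono (φ.app 0) ∧ ∀ i : ℕ, i ≤ n → Epi (φ.app i))) ∧
    ((∀ i : ℕ, i ≤ n → IsIso (φ.app i)) ∧ Mono (φ.app (n + 1)) ↔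
      (IsIso (φ.app 0) ∧ ∀ i : ℕ, 0 < i → i ≤ n → ∀ X : A, ∃ (Y : A) (u : X ⟶ Y), Mono u ∧ (T'.F i).map u = 0)) := by
  constructor
  · constructor
    · rintro ⟨hiso, -⟩
      exact ⟨by have := hiso 0 (Nat.zero_le n); infer_instance,
        fun i hi => by have := hiso i hi; infer_instance⟩
    · rintro ⟨hm0, hepi⟩
      have hmono : ∀ i : ℕ, i ≤ n + 1 → Mono (φ.app i) := by
        intro i
        induction i with
        | zero => intro _; exact hm0
        | succ i ih =>
          intro hi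
          have h1 : Mono (φ.app i) := ih (by omega)
          have h2 : Epi (φ.app i) := hepi i (by omega)
          rw [NatTrans.mono_iff_mono_app] at h1 ⊢
          rw [NatTrans.epi_iff_epi_app] at h2
          exact mono_next T T' φ i h2 h1 (hT i)
      refine ⟨fun i hi => ?_, hmono (n + 1) le_rfl⟩
      have h1 := hmono i (by omega)
      have h2 := hepi i hi
      exact isIso_of_mono_of_epi _
  · constructor
    · rintro ⟨hiso, -⟩
      refine ⟨hiso 0 (Nat.zero_le n), fun i hi0 hin X => ?_⟩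
      obtain ⟨j, rfl⟩ : ∃ j, i = j + 1 := ⟨i - 1, by omega⟩
      obtain ⟨Y, u, hu, hzero⟩ := hT j X
      refine ⟨Y, u, hu, ?_⟩
      have := hiso (j + 1) hin
      rw [← cancel_epi ((φ.app (j + 1)).app X), ← (φ.app (j + 1)).naturality, hzero, zero_comp,
        comp_zero]
    · rintro ⟨hiso0, heff⟩
      have hiso : ∀ i : ℕ, i ≤ n → IsIso (φ.app i) := by
        intro i
        induction i with
        | zero => intro _; exact hiso0
        | succ i ih =>
          intro hi
          have h1 : IsIso (φ.app i) := ih (by omega)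
          have hm : Mono (φ.app (i + 1)) := by
            rw [NatTrans.mono_iff_mono_app]
            exact mono_next T T' φ i (fun X => inferInstance) (fun X => inferInstance) (hT i)
          have he : Epi (φ.app (i + 1)) := by
            rw [NatTrans.epi_iff_epi_app]
            intro X
            exact epi_next T T' φ i (fun X => inferInstance) X (heff (i + 1) (by omega) hi X)
          exact isIso_of_mono_of_epi _
      refine ⟨hiso, ?_⟩
      have h1 : IsIso (φ.app n) := hiso n le_rfl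
      rw [NatTrans.mono_iff_mono_app]
      exact mono_next T T' φ n (fun X => inferInstance) (fun X => inferInstance) (hT n)

end Groth.Agent.S8535
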