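import Groth.Statements.S6773
import Mathlib.Algebra.Homology.ShortComplex.Exact
import Mathlib.CategoryTheory.Abelian.Basic
import Mathlib.CategoryTheory.Limits.Shapes.BinaryBiproducts

set_option autoImplicit false
open CategoryTheory
universe v u v' u'
open DeltaF

namespace Groth.Agent.S6773

open CategoryTheory.Limits

variable {A : Type u} [Category.{v} A] [Abelian A] {B : Type u'} [Category.{v'} B] [Abelian B]

section step

variable (T T' : DeltaF.CohDeltaFunctor A B ℕ) (n : ℕ) (tn : T.F n ⟶ T'.F n)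

lemma epi_δ (S : ShortComplex A) (hS : S.ShortExact) (h0 : (T.F (n + 1)).map S.f = 0) :
    Epi (T.δ S hS n (n + 1) rfl) :=
  (T.exact₁ S hS n (n + 1) rfl).epi_f h0

lemma desc_cond (S : ShortComplex A) (hS : S.ShortExact) :
    (T.F n).map S.g ≫ tn.app S.X₃ ≫ T'.δ S hS n (n + 1) rfl = 0 := by
  rw [tn.naturality_assoc, T'.comp_δ, comp_zero]

noncomputable def stepMap (S : ShortComplex A) (hS : S.ShortExact)
    (h0 : (T.F (n + 1)).map S.f = 0) :
    (T.F (n + 1)).obj S.X₁ ⟶ (T'.F (n + 1)).obj S.X₁ :=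
  haveI : Epi (ShortComplex.mk _ _ (T.comp_δ S hS n (n + 1) rfl)).g := epi_δ T n S hS h0
  (T.exact₃ S hS n (n + 1) rfl).desc (tn.app S.X₃ ≫ T'.δ S hS n (n + 1) rfl)
    (desc_cond T T' n tn S hS)

lemma δ_stepMap (S : ShortComplex A) (hS : S.ShortExact)
    (h0 : (T.F (n + 1)).map S.f = 0) :
    T.δ S hS n (n + 1) rfl ≫ stepMap T T' n tn S hS h0 =
      tn.app S.X₃ ≫ T'.δ S hS n (n + 1) rfl := by
  have : Epi (ShortComplex.mk _ _ (T.comp_δ S hS n (n + 1) rfl)).g := epi_δ T n S hS h0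
  exact (T.exact₃ S hS n (n + 1) rfl).g_desc _ _

lemma stepMap_natural_hom {S S' : ShortComplex A} (hS : S.ShortExact) (hS' : S'.ShortExact)
    (h0 : (T.F (n + 1)).map S.f = 0) (h0' : (T.F (n + 1)).map S'.f = 0) (φ : S ⟶ S') :
    stepMap T T' n tn S hS h0 ≫ (T'.F (n + 1)).map φ.τ₁ =
      (T.F (n + 1)).map φ.τ₁ ≫ stepMap T T' n tn S' hS' h0' := by
  haveI := epi_δ T n S hS h0
  rw [← cancel_epi (T.δ S hS n (n + 1) rfl)]
  rw [← Category.assoc, δ_stepMap, Category.assoc, ← T'.δ_natural hS hS' φ n (n + 1) rfl,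
    ← tn.naturality_assoc, ← δ_stepMap T T' n tn S' hS' h0', ← Category.assoc,
    T.δ_natural hS hS' φ n (n + 1) rfl, Category.assoc]

lemma cokSeq_shortExact {X Y : A} (u : X ⟶ Y) [Mono u] :
    (ShortComplex.cokernelSequence u).ShortExact :=
  ShortComplex.ShortExact.mk' (ShortComplex.cokernelSequence_exact u)
    (show Mono u from inferInstance) (show Epi (cokernel.π u) from inferInstance)

lemma map_lift_zero {X Y Y' : A} (G : A ⥤ B) [G.Additive] (a : X ⟶ Y) (b : X ⟶ Y')
    (ha : G.map a = 0) (hb : G.map b = 0) : G.map (biprod.lift a b) = 0 := by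
  rw [biprod.lift_eq, G.map_add, G.map_comp, G.map_comp, ha, hb, zero_comp, zero_comp, add_zero]

lemma stepMap_natural {S S' : ShortComplex A} (hS : S.ShortExact) (hS' : S'.ShortExact)
    (h0 : (T.F (n + 1)).map S.f = 0) (h0' : (T.F (n + 1)).map S'.f = 0) (f : S.X₁ ⟶ S'.X₁) :
    stepMap T T' n tn S hS h0 ≫ (T'.F (n + 1)).map f =
      (T.F (n + 1)).map f ≫ stepMap T T' n tn S' hS' h0' := by
  have := hS.mono_f
  have := hS'.mono_f
  have : Mono (biprod.lift S.f (f ≫ S'.f)) := mono_of_mono_fac (biprod.lift_fst _ _)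
  let S'' := ShortComplex.cokernelSequence (biprod.lift S.f (f ≫ S'.f))
  have hS'' : S''.ShortExact := cokSeq_shortExact _
  have h0'' : (T.F (n + 1)).map S''.f = 0 :=
    map_lift_zero _ _ _ h0 (by
      have := (T.F (n + 1)).map_comp f S'.f
      rw [h0', comp_zero] at this
      exact this)
  let φ₁ : S'' ⟶ S :=
    { τ₁ := 𝟙 S.X₁
      τ₂ := biprod.fst
      τ₃ := cokernel.desc _ (biprod.fst ≫ S.g) (by
        rw [← Category.assoc, biprod.lift_fst, S.zero])
      comm₁₂ := (Category.id_comp _).trans (biprod.lift_fst _ _).symm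
      comm₂₃ := (cokernel.π_desc _ _ _).symm }
  let φ₂ : S'' ⟶ S' :=
    { τ₁ := f
      τ₂ := biprod.snd
      τ₃ := cokernel.desc _ (biprod.snd ≫ S'.g) (by
        rw [← Category.assoc, biprod.lift_snd, Category.assoc, S'.zero, comp_zero])
      comm₁₂ := (biprod.lift_snd _ _).symm
      comm₂₃ := (cokernel.π_desc _ _ _).symm }
  have e₁ : stepMap T T' n tn S'' hS'' h0'' ≫ (T'.F (n + 1)).map (𝟙 S.X₁) =
      (T.F (n + 1)).map (𝟙 S.X₁) ≫ stepMap T T' n tn S hS h0 :=
    stepMap_natural_hom T T' n tn hS'' hS h0'' h0 φ₁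
  have e₂ : stepMap T T' n tn S'' hS'' h0'' ≫ (T'.F (n + 1)).map f =
      (T.F (n + 1)).map f ≫ stepMap T T' n tn S' hS' h0' :=
    stepMap_natural_hom T T' n tn hS'' hS' h0'' h0' φ₂
  have h1 : (T'.F (n + 1)).map (𝟙 S.X₁) = 𝟙 _ := (T'.F (n + 1)).map_id _
  have h2 : (T.F (n + 1)).map (𝟙 S.X₁) = 𝟙 _ := (T.F (n + 1)).map_id _
  have e₃ : stepMap T T' n tn S'' hS'' h0'' = stepMap T T' n tn S hS h0 :=
    (Category.comp_id _).symm.trans ((congrArg (stepMap T T' n tn S'' hS'' h0'' ≫ ·) h1.symm).trans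
      (e₁.trans ((congrArg (· ≫ stepMap T T' n tn S hS h0) h2).trans (Category.id_comp _))))
  exact (congrArg (· ≫ (T'.F (n + 1)).map f) e₃.symm).trans e₂

variable (hT : T.IsEffaceable)

noncomputable def effY (X : A) : A := (hT n X).choose

noncomputable def effU (X : A) : X ⟶ effY T n hT X := (hT n X).choose_spec.choose

instance effU_mono (X : A) : Mono (effU T n hT X) := (hT n X).choose_spec.choose_spec.1

lemma effU_zero (X : A) : (T.F (n + 1)).map (effU T n hT X) = 0 :=
  (hT n X).choose_spec.choose_spec.2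

noncomputable def effS (X : A) : ShortComplex A :=
  ShortComplex.cokernelSequence (effU T n hT X)

lemma effS_shortExact (X : A) : (effS T n hT X).ShortExact := cokSeq_shortExact _

lemma effS_zero (X : A) : (T.F (n + 1)).map (effS T n hT X).f = 0 := effU_zero T n hT X

noncomputable def stepNat : T.F (n + 1) ⟶ T'.F (n + 1) where
  app X := stepMap T T' n tn (effS T n hT X) (effS_shortExact T n hT X) (effS_zero T n hT X)
  naturality X Y f :=
    (stepMap_natural T T' n tn (effS_shortExact T n hT X) (effS_shortExact T n hT Y)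
      (effS_zero T n hT X) (effS_zero T n hT Y) f).symm

lemma stepNat_app_eq (S : ShortComplex A) (hS : S.ShortExact)
    (h0 : (T.F (n + 1)).map S.f = 0) :
    (stepNat T T' n tn hT).app S.X₁ = stepMap T T' n tn S hS h0 := by
  have e := stepMap_natural T T' n tn (effS_shortExact T n hT S.X₁) hS
    (effS_zero T n hT S.X₁) h0 (𝟙 S.X₁)
  have h1 : (T'.F (n + 1)).map (𝟙 S.X₁) = 𝟙 _ := (T'.F (n + 1)).map_id _
  have h2 : (T.F (n + 1)).map (𝟙 S.X₁) = 𝟙 _ := (T.F (n + 1)).map_id _
  exact (Category.comp_id _).symm.trans ((congrArg (_ ≫ ·) h1.symm).trans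
      (e.trans ((congrArg (· ≫ stepMap T T' n tn S hS h0) h2).trans (Category.id_comp _))))

lemma δ_stepNat_of_hom {S S' : ShortComplex A} (hS : S.ShortExact) (hS' : S'.ShortExact)
    (h0' : (T.F (n + 1)).map S'.f = 0) (φ : S ⟶ S') [IsIso φ.τ₁] :
    T.δ S hS n (n + 1) rfl ≫ (stepNat T T' n tn hT).app S.X₁ =
      tn.app S.X₃ ≫ T'.δ S hS n (n + 1) rfl := by
  rw [← cancel_mono ((T'.F (n + 1)).map φ.τ₁), Category.assoc, Category.assoc,
    ← (stepNat T T' n tn hT).naturality, ← T'.δ_natural hS hS' φ n (n + 1) rfl,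
    ← tn.naturality_assoc, ← Category.assoc, ← T.δ_natural hS hS' φ n (n + 1) rfl,
    Category.assoc, stepNat_app_eq T T' n tn hT S' hS' h0', δ_stepMap]

lemma δ_stepNat (S : ShortComplex A) (hS : S.ShortExact) :
    T.δ S hS n (n + 1) rfl ≫ (stepNat T T' n tn hT).app S.X₁ =
      tn.app S.X₃ ≫ T'.δ S hS n (n + 1) rfl := by
  have := hS.mono_f
  have : Mono (S.f ≫ effU T n hT S.X₂) := mono_comp _ _
  have hS' : (ShortComplex.cokernelSequence (S.f ≫ effU T n hT S.X₂)).ShortExact :=
    cokSeq_shortExact _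
  have h0' : (T.F (n + 1)).map (ShortComplex.cokernelSequence (S.f ≫ effU T n hT S.X₂)).f = 0 := by
    have := (T.F (n + 1)).map_comp S.f (effU T n hT S.X₂)
    rw [effU_zero T n hT S.X₂, comp_zero] at this
    exact this
  have := hS.epi_g
  let φ : S ⟶ ShortComplex.cokernelSequence (S.f ≫ effU T n hT S.X₂) :=
    { τ₁ := 𝟙 S.X₁
      τ₂ := effU T n hT S.X₂
      τ₃ := hS.exact.desc (effU T n hT S.X₂ ≫ cokernel.π (S.f ≫ effU T n hT S.X₂))
        ((Category.assoc _ _ _).symm.trans (cokernel.condition _))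
      comm₁₂ := Category.id_comp _
      comm₂₃ := (hS.exact.g_desc _ _).symm }
  have : IsIso φ.τ₁ := show IsIso (𝟙 S.X₁) from inferInstance
  exact δ_stepNat_of_hom T T' n tn hT hS hS' h0' φ

end step

noncomputable def tau (T T' : DeltaF.CohDeltaFunctor A B ℕ) (hT : T.IsEffaceable)
    (t : T.F 0 ⟶ T'.F 0) (n : ℕ) : T.F n ⟶ T'.F n :=
  Nat.rec (motive := fun n => T.F n ⟶ T'.F n) t (fun n tn => stepNat T T' n tn hT) n

lemma tau_succ (T T' : DeltaF.CohDeltaFunctor A B ℕ) (hT : T.IsEffaceable)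
    (t : T.F 0 ⟶ T'.F 0) (n : ℕ) :
    tau T T' hT t (n + 1) = stepNat T T' n (tau T T' hT t n) hT := rfl

/-- An effaceable cohomological delta-functor (for every degree `n + 1 ≥ 1` and every object `X` there
is a monomorphism out of `X` killed by the functor in that degree) is universal. Delta-functors here
are indexed by `ℕ` and are not required to be left exact in degree `0`; universality is tested
against all such delta-functors. -/
theorem result {A : Type u} [Category.{v} A] [Abelian A] {B : Type u'} [Category.{v'} B] [Abelian B] (T : DeltaF.CohDeltaFunctor A B ℕ) (hT : T.IsEffaceable) : T.IsUniversal := by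
  intro T' t
  refine ⟨⟨tau T T' hT t, ?_⟩, rfl, ?_⟩
  · intro S hS n₀ n₁ h
    subst h
    change T.δ S hS n₀ (n₀ + 1) rfl ≫ (tau T T' hT t (n₀ + 1)).app S.X₁ = _
    rw [tau_succ]
    exact δ_stepNat T T' n₀ (tau T T' hT t n₀) hT S hS
  · intro τ hτ
    apply DeltaF.CohDeltaFunctor.hom_ext
    intro n
    induction n with
    | zero => exact hτ
    | succ n ih =>
      ext X
      have := epi_δ T n (effS T n hT X) (effS_shortExact T n hT X) (effS_zero T n hT X)
      refine (cancel_epi (T.δ (effS T n hT X) (effS_shortExact T n hT X) n (n + 1) rfl)).1 ?_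
      have e1 := τ.comm (effS T n hT X) (effS_shortExact T n hT X) n (n + 1) rfl
      have e2 := δ_stepNat T T' n (tau T T' hT t n) hT (effS T n hT X) (effS_shortExact T n hT X)
      rw [ih] at e1
      exact e1.trans e2.symm

end Groth.Agent.S6773
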