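import Groth.Statements.S16463
import Groth.Agent.Lib.Helper68.InjLES2

set_option autoImplicit false
universe v u v' u'
open CategoryTheory CategoryTheory.Limits
open RDer

namespace Groth.Agent.S16463

/-- Let F be an additive functor from an abelian category C with enough injectives to an abelian
category D. Then the right derived functors RⁿF carry connecting morphisms RⁿF(X₃) → Rⁿ⁺¹F(X₁) for
every short exact sequence 0 → X₁ → X₂ → X₃ → 0 of C, computed on any injective resolution of the
sequence by the connecting morphism of the short exact sequence of complexes obtained by applying F,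
natural in morphisms of short exact sequences, and with exact long sequence. -/
theorem result {C : Type u} [Category.{v} C] [Abelian C] [EnoughInjectives C]
    {D : Type u'} [Category.{v'} D] [Abelian D] (F : C ⥤ D) [F.Additive] :
    Nonempty (RDer.DerivedLES F) := by
  classical
  let T : ∀ (S : ShortComplex C) (_ : S.ShortExact), RDer.SESRes S := fun S hS =>
    Groth.Agent.Lib.Helper68.InjHorseshoe.sesRes hS (injectiveResolution S.X₁)
      (injectiveResolution S.X₃)
  exact ⟨{
    δ := fun S hS n₀ n₁ h => (T S hS).delta F n₀ n₁ h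
    δ_eq := fun S hS T' n₀ n₁ h =>
      Groth.Agent.Lib.Helper68.InjLES.delta_eq_delta F hS (T S hS) T' n₀ n₁ h
    δ_natural := fun {S S'} hS hS' φ n₀ n₁ h =>
      Groth.Agent.Lib.Helper68.InjLES.delta_natural F hS (T S hS) (T S' hS') φ n₀ n₁ h
    exact₂ := fun S hS n => Groth.Agent.Lib.Helper68.InjLES.exact₂ F (T S hS) n
    comp_δ := fun S hS n₀ n₁ h => Groth.Agent.Lib.Helper68.InjLES.comp_delta F (T S hS) n₀ n₁ h
    exact₃ := fun S hS n₀ n₁ h => Groth.Agent.Lib.Helper68.InjLES.exact₃ F (T S hS) n₀ n₁ h
    δ_comp := fun S hS n₀ n₁ h => Groth.Agent.Lib.Helper68.InjLES.delta_comp F (T S hS) n₀ n₁ h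
    exact₁ := fun S hS n₀ n₁ h => Groth.Agent.Lib.Helper68.InjLES.exact₁ F (T S hS) n₀ n₁ h }⟩

end Groth.Agent.S16463
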