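import Groth.Statements.S0859
import Groth.Agent.Lib.Helper28.CechOL
import Mathlib.CategoryTheory.Sites.EpiMono

set_option autoImplicit false
universe u
open CategoryTheory
open CohSite

namespace Groth.Agent.S0859

open Groth.Agent.Lib.Helper28 Opposite CategoryTheory.Limits Simplicial

open Opposite CategoryTheory.Limits in

/-- Consider abelian sheaves F ⊂ G with quotient H on a site with fibre products, and an object U. If
every covering sieve of U can be refined by a covering family with respect to which the first Cech
cohomology group of F vanishes, then G(U) -> H(U) is surjective. -/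
theorem result {C : Type u} [SmallCategory C] [HasPullbacks C]
    {J : GrothendieckTopology C} (S : ShortComplex (Sheaf J AddCommGrpCat.{u})) (hS : S.ShortExact)
    (U : C)
    (h : ∀ T ∈ J U, ∃ (ι : Type u) (Y : ι → Over U), (∀ i, T.arrows (Y i).hom) ∧
      Sieve.ofArrows (fun i => (Y i).left) (fun i => (Y i).hom) ∈ J U ∧
      IsZero (CohCx.cechH S.X₁.obj Y 1)) :
    Function.Surjective (S.g.hom.app (op U)) := by
  intro s
  have := hS.epi_g
  have hls : Sheaf.IsLocallySurjective S.g := (Sheaf.isLocallySurjective_iff_epi' _ S.g).2 inferInstance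
  obtain ⟨ι, Y, hYT, hYcov, hY1⟩ := h _ (Presheaf.imageSieve_mem J S.g.hom s)
  refine CechL.exists_section (CechO.sectionwiseCechLike Y)
    (J.superset_covering (CechOL.ofArrows_le_imageSieve Y) hYcov) hS s ?_ hY1
  intro a
  rw [CechOL.baseHom_eq]
  have hmem : (Presheaf.imageSieve S.g.hom s).arrows (((CechO.cechE Y).obj (op ⦋0⦌)).obj a).hom := by
    rw [CechOL.hom_eq]
    exact (Presheaf.imageSieve S.g.hom s).downward_closed (hYT (a 0)) _
  exact hmem

end Groth.Agent.S0859
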