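import Groth.Statements.S0861
import Groth.Agent.S0859
import Groth.Agent.Lib.Helper28.Cartan

set_option autoImplicit false
universe u
open CategoryTheory
open CohSite

namespace Groth.Agent.S0861

open Groth.Agent.Lib.Helper28 Opposite CategoryTheory.Limits Simplicial

open CategoryTheory.Limits in

/-- Let C be a site with fibre products, B a class of objects and Cov a class of covering families
(indexed families of objects over a member of B). Assume: (1) for a family in Cov over U, U and all
iterated fibre products U_{i_0} x_U ... x_U U_{i_p} lie in B; (2) every covering sieve of a member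
of B contains a family from Cov; (3) the abelian sheaf F has vanishing Cech cohomology in positive
degrees for every family in Cov. Then H^p(U, F) = 0 for all p > 0 and U in B. -/
theorem result {C : Type u} [SmallCategory C] [HasPullbacks C]
    (J : GrothendieckTopology C) (B : Set C) (Cov : ∀ (U : C) (ι : Type u), (ι → Over U) → Prop)
    (h1 : ∀ (U : C) (ι : Type u) (Y : ι → Over U), Cov U ι Y → U ∈ B ∧
      Sieve.ofArrows (fun i => (Y i).left) (fun i => (Y i).hom) ∈ J U ∧
      ∀ (p : ℕ) (a : Fin (p + 1) → ι), (∏ᶜ fun k => Y (a k)).left ∈ B)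
    (h2 : ∀ U ∈ B, ∀ T ∈ J U, ∃ (ι : Type u) (Y : ι → Over U), Cov U ι Y ∧ ∀ i, T.arrows (Y i).hom)
    (F : Sheaf J AddCommGrpCat.{u})
    (h3 : ∀ (U : C) (ι : Type u) (Y : ι → Over U), Cov U ι Y → ∀ p : ℕ, IsZero (CohCx.cechH F.obj Y (p + 1)))
    (U : C) (hU : U ∈ B) (p : ℕ) : Subsingleton (CohSite.HU F (p + 1) U) := by
  let Pr : Sheaf J AddCommGrpCat.{u} → Prop := fun F =>
    ∀ (U : C) (ι : Type u) (Y : ι → Over U), Cov U ι Y →
      ∀ p : ℕ, IsZero (CohCx.cechH F.obj Y (p + 1))
  have hinj : ∀ I : Sheaf J AddCommGrpCat.{u}, Injective I → Pr I := by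
    intro I hI U ι Y _ p
    have := Cartan.injective_obj J I
    exact CechO.isZero_cech_homology_succ_of_injective Y I.obj p
  have hstep : ∀ S : ShortComplex (Sheaf J AddCommGrpCat.{u}), S.ShortExact → Pr S.X₁ → Pr S.X₂ →
      (Pr S.X₃ ∧ ∀ U ∈ B, Function.Surjective (S.g.hom.app (op U))) := by
    intro S hS hP₁ hP₂
    have hsurj : ∀ U ∈ B, Function.Surjective (S.g.hom.app (op U)) := by
      intro U hU
      apply Groth.Agent.S0859.result S hS U
      intro T hT
      obtain ⟨ι, Y, hCov, hYT⟩ := h2 U hU T hT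
      exact ⟨ι, Y, hYT, (h1 U ι Y hCov).2.1, hP₁ U ι Y hCov 0⟩
    refine ⟨?_, hsurj⟩
    intro U ι Y hCov p
    exact CechL.isZero_homology_X₃ (Φ := Over.forget U) (E := CechO.cechE Y) hS
      (fun n i => hsurj _ ((h1 U ι Y hCov).2.2 n i)) (hP₁ U ι Y hCov) (hP₂ U ι Y hCov) p
  exact subsingleton_of_forall_eq 0 fun x => Cartan.cartan J B Pr hinj hstep p F h3 U hU x

end Groth.Agent.S0861
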