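import Groth.Statements.S0862
import Groth.Agent.S0861
import Groth.Agent.S0858
import Groth.Agent.Lib.Helper28.ExtColim
import Groth.Agent.Lib.Helper28.FiltSheaf
import Groth.Agent.Lib.Helper28.FiltCech
import Groth.Agent.Lib.Helper28.OverPair
import Groth.Agent.Lib.Helper28.RpushIso

set_option autoImplicit false
universe u
open CategoryTheory
open CohSite

namespace Groth.Agent.S0862

open Groth.Agent.Lib.Helper28 Opposite CategoryTheory.Limits Abelian


section

variable {C : Type u} [SmallCategory C] [HasPullbacks C]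
    (J : GrothendieckTopology C) (B : Set C) (Cov : ∀ (U : C) (ι : Type u), (ι → Over U) → Prop)
    (h1 : ∀ (U : C) (ι : Type u) (Y : ι → Over U), Cov U ι Y → Finite ι ∧ U ∈ B ∧
      Sieve.ofArrows (fun i => (Y i).left) (fun i => (Y i).hom) ∈ J U ∧
      ∀ (p : ℕ) (a : Fin (p + 1) → ι), (∏ᶜ fun k => Y (a k)).left ∈ B)
    (h2 : ∀ U ∈ B, ∀ T ∈ J U, ∃ (ι : Type u) (Y : ι → Over U), Cov U ι Y ∧ ∀ i, T.arrows (Y i).hom)

include h1 h2 in
lemma finCovers : FiltSheaf.FinCovers.{u} J B := by
  intro W hW T hT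
  obtain ⟨ι, Y, hCov, hYT⟩ := h2 W hW T hT
  obtain ⟨hfin, -, hcov, hprod⟩ := h1 W ι Y hCov
  exact ⟨ι, hfin, fun i => (Y i).left, fun i => (Y i).hom, fun i j => OverPair.Z Y i j,
    fun i j => OverPair.p₁ Y i j, fun i j => OverPair.p₂ Y i j, hYT, hcov,
    fun i j => hprod 1 ![i, j], fun i j => OverPair.w Y i j,
    fun i j Z' g₁ g₂ h => OverPair.exists_lift g₁ g₂ h⟩

variable {I : Type u} [SmallCategory I] [IsFiltered I]

include h1 h2 in
lemma preservesColimit_sections (F' : I ⥤ Sheaf J AddCommGrpCat.{u}) {V : C} (hV : V ∈ B) :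
    PreservesColimit F' (sheafToPresheaf J AddCommGrpCat.{u} ⋙
      (evaluation Cᵒᵖ AddCommGrpCat.{u}).obj (op V)) :=
  FiltSheaf.preservesColimit_sections J F' B (finCovers J B Cov h1 h2) hV

include h1 h2 in
lemma preservesColimit_ext_zero (F' : I ⥤ Sheaf J AddCommGrpCat.{u}) {V : C} (hV : V ∈ B) :
    PreservesColimit F' (extFunctorObj ((RpushIso.freeSheaf J).obj V) 0) := by
  have := preservesColimit_sections J B Cov h1 h2 F' hV
  have h' : PreservesColimit F' (ExtPsh.extPsh.{u} (RpushIso.freeSheaf J) 0 ⋙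
      (evaluation Cᵒᵖ AddCommGrpCat.{u}).obj (op V)) :=
    preservesColimit_of_natIso F' (Functor.isoWhiskerRight (RpushIso.zeroIso J)
      ((evaluation Cᵒᵖ AddCommGrpCat.{u}).obj (op V))).symm
  exact preservesColimit_of_natIso F' (ExtPsh.evalIso (RpushIso.freeSheaf J) 0 (op V))

include h1 h2 in
lemma cech_vanish_colimit (M : I ⥤ Sheaf J AddCommGrpCat.{u}) (hM : ∀ i, Injective (M.obj i))
    (U' : C) (ι : Type u) (Y : ι → Over U') (hCov : Cov U' ι Y) (p : ℕ) :
    IsZero (CohCx.cechH (colimit M).obj Y (p + 1)) := by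
  obtain ⟨hfin, -, hcov, hprod⟩ := h1 U' ι Y hCov
  have hcV : ∀ V ∈ B, IsColimit (FiltColim.evalCocone (M ⋙ sheafToPresheaf J AddCommGrpCat.{u})
      ((sheafToPresheaf J AddCommGrpCat.{u}).mapCocone (colimit.cocone M)) (op V)) := by
    intro V hV
    have := preservesColimit_sections J B Cov h1 h2 M hV
    exact isColimitOfPreserves (sheafToPresheaf J AddCommGrpCat.{u} ⋙
      (evaluation Cᵒᵖ AddCommGrpCat.{u}).obj (op V)) (colimit.isColimit M)
  exact FiltCech.isZero_homology_colimit Y
    (G := M ⋙ sheafToPresheaf J AddCommGrpCat.{u})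
    (c := (sheafToPresheaf J AddCommGrpCat.{u}).mapCocone (colimit.cocone M))
    (fun n a => hcV _ (hprod n a)) p
    (fun k => by
      have := hM k
      exact Groth.Agent.S0858.result J (M.obj k) Y hcov p)

include h1 h2 in
lemma ext_vanish_colimit (M : I ⥤ Sheaf J AddCommGrpCat.{u}) (hM : ∀ i, Injective (M.obj i))
    {U : C} (hU : U ∈ B) (n : ℕ) (x : Ext ((RpushIso.freeSheaf J).obj U) (colimit M) (n + 1)) :
    x = 0 := by
  have hs : Subsingleton (CohSite.HU (colimit M) (n + 1) U) :=
    Groth.Agent.S0861.result J B Cov (fun U ι Y hc => (h1 U ι Y hc).2) h2 (colimit M)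
      (fun U' ι Y hCov p => cech_vanish_colimit J B Cov h1 h2 M hM U' ι Y hCov p) U hU n
  exact @Subsingleton.elim _ hs x 0

end

open Opposite CategoryTheory.Limits in

/-- Let C be a site with fibre products, B a class of objects and Cov a class of finite covering
families such that (1) for a family in Cov over U, U and all iterated fibre products of its members
lie in B, and (2) every covering sieve of a member of B contains a family from Cov. Then for every U
in B, every p and every filtered diagram of abelian sheaves, colim_i H^p(U, F_i) -> H^p(U, colim_i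
F_i) is an isomorphism (phrased: H^p(U, -) preserves the colimit). -/
theorem result {C : Type u} [SmallCategory C] [HasPullbacks C]
    (J : GrothendieckTopology C) (B : Set C) (Cov : ∀ (U : C) (ι : Type u), (ι → Over U) → Prop)
    (h1 : ∀ (U : C) (ι : Type u) (Y : ι → Over U), Cov U ι Y → Finite ι ∧ U ∈ B ∧
      Sieve.ofArrows (fun i => (Y i).left) (fun i => (Y i).hom) ∈ J U ∧
      ∀ (p : ℕ) (a : Fin (p + 1) → ι), (∏ᶜ fun k => Y (a k)).left ∈ B)
    (h2 : ∀ U ∈ B, ∀ T ∈ J U, ∃ (ι : Type u) (Y : ι → Over U), Cov U ι Y ∧ ∀ i, T.arrows (Y i).hom)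
    (U : C) (hU : U ∈ B) (p : ℕ) (I : Type u) [SmallCategory I] [IsFiltered I]
    (F : I ⥤ Sheaf J AddCommGrpCat.{u}) :
    PreservesColimit F ((Sheaf.cohomologyPresheafFunctor J p).flip.obj (op U)) := by
  have h := ExtColim.preservesColimit_extFunctorObj ((RpushIso.freeSheaf J).obj U) I
    (fun F' => preservesColimit_ext_zero J B Cov h1 h2 F' hU)
    (fun M hM n x => ext_vanish_colimit J B Cov h1 h2 M hM hU n x) F p
  exact preservesColimit_of_natIso F (ExtPsh.flipIso (RpushIso.freeSheaf J) p (op U)).symm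

end Groth.Agent.S0862
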