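import Groth.Statements.S6587
import Groth.Agent.Lib.Helper13.ProSys

set_option autoImplicit false
universe v u
open CategoryTheory CategoryTheory.Limits Opposite
open CohDer

namespace Groth.Agent.S6587

section Helpers
open CategoryTheory.Pretriangulated Groth.Agent.Lib.Helper13.ProSys

variable {D : Type u} [Category.{v} D] [Preadditive D] [HasZeroObject D] [HasShift D ℤ]
    [∀ n : ℤ, (shiftFunctor D n).Additive] [Pretriangulated D]

/-- Step 1: if `tr Z (n ≤ m) = 0`, the transition map of `Y` factors through `f_n`. -/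
lemma exists_factor (X Y Z : ARSys.PS D) (f : X ⟶ Y) (g : Y ⟶ Z) (h : Z ⟶ X ⋙ shiftFunctor D (1 : ℤ))
    (hT : ∀ n : ℕ, Triangle.mk (f.app (op n)) (g.app (op n)) (h.app (op n)) ∈ distinguishedTriangles)
    {n m : ℕ} (hnm : n ≤ m) (hz : ARSys.tr Z hnm = 0) :
    ∃ b : Y.obj (op m) ⟶ X.obj (op n), ARSys.tr Y hnm = b ≫ f.app (op n) := by
  have h0 : ARSys.tr Y hnm ≫ g.app (op n) = 0 := by
    rw [tr_naturality g hnm, hz, comp_zero]
  exact Triangle.coyoneda_exact₂ _ (hT n) (ARSys.tr Y hnm) h0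

/-- Step 2: if `tr Z (n ≤ m) = 0`, then a map into `X_m` killed by `f_m` is killed by `tr X`. -/
lemma comp_tr_eq_zero (X Y Z : ARSys.PS D) (f : X ⟶ Y) (g : Y ⟶ Z) (h : Z ⟶ X ⋙ shiftFunctor D (1 : ℤ))
    (hT : ∀ n : ℕ, Triangle.mk (f.app (op n)) (g.app (op n)) (h.app (op n)) ∈ distinguishedTriangles)
    {n m : ℕ} (hnm : n ≤ m) (hz : ARSys.tr Z hnm = 0) {W : D} (e : W ⟶ X.obj (op m))
    (he : e ≫ f.app (op m) = 0) : e ≫ ARSys.tr X hnm = 0 := by
  apply (shiftFunctor D (1 : ℤ)).map_injective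
  rw [Functor.map_zero, Functor.map_comp]
  have h1 : (shiftFunctor D (1 : ℤ)).map e ≫ (shiftFunctor D (1 : ℤ)).map (f.app (op m)) = 0 := by
    rw [← Functor.map_comp, he, Functor.map_zero]
  let hm : Z.obj (op m) ⟶ (shiftFunctor D (1 : ℤ)).obj (X.obj (op m)) := h.app (op m)
  let hn : Z.obj (op n) ⟶ (shiftFunctor D (1 : ℤ)).obj (X.obj (op n)) := h.app (op n)
  obtain ⟨k, hk⟩ : ∃ k : (shiftFunctor D (1 : ℤ)).obj W ⟶ Z.obj (op m),
      (shiftFunctor D (1 : ℤ)).map e = k ≫ hm :=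
    Triangle.coyoneda_exact₁ _ (hT m) ((shiftFunctor D (1 : ℤ)).map e) h1
  have hnat : ARSys.tr Z hnm ≫ hn = hm ≫ (shiftFunctor D (1 : ℤ)).map (ARSys.tr X hnm) :=
    h.naturality (homOfLE hnm).op
  have key : hm ≫ (shiftFunctor D (1 : ℤ)).map (ARSys.tr X hnm) = 0 := by
    rw [← hnat, hz, zero_comp]
  rw [hk, Category.assoc, key, comp_zero]

end Helpers

open CategoryTheory.Pretriangulated in
/-- Let D be a triangulated category and let X_n → Y_n → Z_n → X_n⟦1⟧ be an inverse system of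
distinguished triangles of D indexed by ℕ (levelwise maps f, g, h of inverse systems, each level
distinguished). If the inverse system (Z_n) is pro-zero, then the levelwise map f : (X_n) → (Y_n) is
a pro-isomorphism. -/
theorem result {D : Type u} [Category.{v} D] [Preadditive D] [HasZeroObject D] [HasShift D ℤ]
    [∀ n : ℤ, (shiftFunctor D n).Additive] [Pretriangulated D] [IsTriangulated D]
    (X Y Z : ARSys.PS D) (f : X ⟶ Y) (g : Y ⟶ Z) (h : Z ⟶ X ⋙ shiftFunctor D (1 : ℤ))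
    (hT : ∀ n : ℕ, Triangle.mk (f.app (op n)) (g.app (op n)) (h.app (op n)) ∈ distinguishedTriangles)
    (hZ : DerCA.IsProZero Z) :
    DerCA.IsProIso f := by
  intro n
  obtain ⟨m, hnm, hz1⟩ := hZ n
  obtain ⟨p, hmp, hz2⟩ := hZ m
  obtain ⟨b1, hb1⟩ := exists_factor X Y Z f g h hT hnm hz1
  obtain ⟨b2, hb2⟩ := exists_factor X Y Z f g h hT hmp hz2
  refine ⟨p, hnm.trans hmp, b2 ≫ ARSys.tr X hnm, ?_, ?_⟩
  · -- f_p ≫ b2 ≫ tr X = tr X (n ≤ p)
    have he : (f.app (op p) ≫ b2 - ARSys.tr X hmp) ≫ f.app (op m) = 0 := by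
      rw [Preadditive.sub_comp, Category.assoc, ← hb2,
        Groth.Agent.Lib.Helper13.ProSys.tr_naturality f hmp, sub_self]
    have := comp_tr_eq_zero X Y Z f g h hT hnm hz1 _ he
    rw [Preadditive.sub_comp, sub_eq_zero, Category.assoc,
      Groth.Agent.Lib.Helper13.ProSys.tr_comp] at this
    exact this
  · rw [Category.assoc, Groth.Agent.Lib.Helper13.ProSys.tr_naturality f hnm, ← Category.assoc, ← hb2,
      Groth.Agent.Lib.Helper13.ProSys.tr_comp]

end Groth.Agent.S6587
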