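import Groth.Statements.S4341
-- import your own Groth.Agent.* helpers here
import Mathlib.AlgebraicGeometry.Modules.Tilde

set_option autoImplicit false
universe u
open QCohSup

namespace Groth.Agent.S4341

open AlgebraicGeometry CategoryTheory Opposite TopologicalSpace

set_option backward.isDefEq.respectTransparency.types false

theorem res_res {X : Scheme.{u}} (F : X.Modules) {U V W : X.Opens} (h1 : V ≤ U) (h2 : W ≤ V)
    (s : Γ(F, U)) :
    F.presheaf.map (homOfLE h2).op (F.presheaf.map (homOfLE h1).op s) =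
      F.presheaf.map (homOfLE (h2.trans h1)).op s := by
  rw [← ConcreteCategory.comp_apply, ← Functor.map_comp]
  rfl

theorem res_resX {X : Scheme.{u}} {U V W : X.Opens} (h1 : V ≤ U) (h2 : W ≤ V)
    (s : Γ(X, U)) :
    X.presheaf.map (homOfLE h2).op (X.presheaf.map (homOfLE h1).op s) =
      X.presheaf.map (homOfLE (h2.trans h1)).op s := by
  rw [← ConcreteCategory.comp_apply, ← Functor.map_comp]
  rfl

theorem res_smul {X : Scheme.{u}} (F : X.Modules) {U V : X.Opens} (h : V ≤ U)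
    (r : Γ(X, U)) (s : Γ(F, U)) :
    F.presheaf.map (homOfLE h).op (r • s) =
      X.presheaf.map (homOfLE h).op r • F.presheaf.map (homOfLE h).op s :=
  Scheme.Modules.map_smul F (homOfLE h) r s

theorem chart_loc {X : Scheme.{u}} {R : CommRingCat.{u}} (j : Spec R ⟶ X) [IsOpenImmersion j]
    (f : Γ(X, ⊤)) (F : X.Modules) [F.IsQuasicoherent] :
    ∃ (D : (Spec R).Opens), j ''ᵁ D = j ''ᵁ ⊤ ⊓ X.basicOpen f ∧
      (∀ x : Γ(F, j ''ᵁ ⊤),
        F.presheaf.map (homOfLE (Scheme.Hom.image_mono j (le_top : D ≤ ⊤))).op x = 0 →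
        ∃ n : ℕ, (X.presheaf.map (homOfLE (le_top : j ''ᵁ ⊤ ≤ ⊤)).op f) ^ n • x = 0) ∧
      (∀ y : Γ(F, j ''ᵁ D), ∃ (n : ℕ) (x : Γ(F, j ''ᵁ ⊤)),
        F.presheaf.map (homOfLE (Scheme.Hom.image_mono j (le_top : D ≤ ⊤))).op x =
          (X.presheaf.map (homOfLE (le_top : j ''ᵁ D ≤ ⊤)).op f) ^ n • y) := by
  let M := F.restrict j
  have hM : M.IsQuasicoherent := inferInstance
  have hloc := (isIso_fromTildeΓ_iff_isLocalizing M).mp inferInstance
  let g : R := (Scheme.ΓSpecIso R).hom (j.appTop f)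
  let D : (Spec R).Opens := PrimeSpectrum.basicOpen g
  have hg : IsLocalizedModule (.powers g) ((modulesSpecToSheaf.obj M).obj.map (D.leTop).op).hom :=
    hloc g
  have h1 : j ⁻¹ᵁ (X.basicOpen f) = D := by
    rw [Scheme.preimage_basicOpen]
    exact basicOpen_eq_of_affine' _
  have hD : j ''ᵁ D = j ''ᵁ ⊤ ⊓ X.basicOpen f := by
    rw [← h1, Scheme.Hom.image_preimage_eq_opensRange_inf, Scheme.Hom.image_top_eq_opensRange]
  have key : X.presheaf.map (homOfLE (le_top : j ''ᵁ ⊤ ≤ ⊤)).op f =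
      (j.appIso ⊤).inv ((Scheme.ΓSpecIso R).inv g) := by
    have h4 := congr($(j.app_appIso_inv ⊤) f)
    simp only [g, Iso.hom_inv_id_apply]
    exact h4.symm
  refine ⟨D, hD, ?_, ?_⟩
  · intro x hx
    let x' : Γ(M, ⊤) := x
    have hx' : ((modulesSpecToSheaf.obj M).obj.map (D.leTop).op).hom x' = 0 := hx
    obtain ⟨⟨_, n, rfl⟩, hn⟩ := (IsLocalizedModule.eq_zero_iff (.powers g) _).mp hx'
    refine ⟨n, ?_⟩
    have hn' : g ^ n • x' = 0 := hn
    rw [key]
    have h5 : (((j.appIso ⊤).inv ((Scheme.ΓSpecIso R).inv g)) ^ n • x : Γ(F, j ''ᵁ ⊤)) =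
        (g ^ n • x' : Γ(M, ⊤)) := by
      rw [← map_pow, ← map_pow]
      rfl
    exact h5.trans hn'
  · intro y
    let y' : Γ(M, D) := y
    obtain ⟨⟨x, ⟨_, n, rfl⟩⟩, hxy⟩ := IsLocalizedModule.surj (.powers g)
      ((modulesSpecToSheaf.obj M).obj.map (D.leTop).op).hom y'
    refine ⟨n, x, ?_⟩
    have hxy' : g ^ n • y' = ((modulesSpecToSheaf.obj M).obj.map (D.leTop).op).hom x := hxy
    have keyD : X.presheaf.map (homOfLE (le_top : j ''ᵁ D ≤ ⊤)).op f =
        (j.appIso D).inv ((Spec R).presheaf.map D.leTop.op ((Scheme.ΓSpecIso R).inv g)) := by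
      have h6 := congr($(j.appIso_inv_naturality (D.leTop).op) ((Scheme.ΓSpecIso R).inv g))
      rw [ConcreteCategory.comp_apply, ConcreteCategory.comp_apply] at h6
      rw [h6, ← key]
      exact (res_resX (le_top : j ''ᵁ ⊤ ≤ ⊤) (Scheme.Hom.image_mono j (le_top : D ≤ ⊤)) f).symm
    rw [keyD]
    have h7 : (((j.appIso D).inv ((Spec R).presheaf.map D.leTop.op ((Scheme.ΓSpecIso R).inv g))) ^ n
        • y : Γ(F, j ''ᵁ D)) = (g ^ n • y' : Γ(M, D)) := by
      rw [← map_pow, ← map_pow, ← map_pow]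
      rfl
    rw [h7, hxy']
    rfl


theorem kill_chart {X : Scheme.{u}} {R : CommRingCat.{u}} (j : Spec R ⟶ X) [IsOpenImmersion j]
    (f : Γ(X, ⊤)) (F : X.Modules) [F.IsQuasicoherent] (W : X.Opens) (hj : j ''ᵁ ⊤ ≤ W)
    (s : Γ(F, W))
    (hs : F.presheaf.map (homOfLE (inf_le_left : W ⊓ X.basicOpen f ≤ W)).op s = 0) :
    ∃ n : ℕ, F.presheaf.map (homOfLE hj).op
      ((X.presheaf.map (homOfLE (le_top : W ≤ ⊤)).op f) ^ n • s) = 0 := by
  obtain ⟨D, hD, hkill, -⟩ := chart_loc j f F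
  have hDW : j ''ᵁ D ≤ W ⊓ X.basicOpen f := by
    rw [hD]
    exact inf_le_inf_right _ hj
  obtain ⟨n, hn⟩ := hkill (F.presheaf.map (homOfLE hj).op s) (by
    rw [res_res, ← res_res F (inf_le_left : W ⊓ X.basicOpen f ≤ W) hDW, hs, map_zero])
  refine ⟨n, ?_⟩
  rw [res_smul, map_pow, res_resX]
  exact hn

theorem glue_W {X : Scheme.{u}} (f : Γ(X, ⊤)) (F : X.Modules) [hF : F.IsQuasicoherent]
    (W : X.Opens) (hW : IsCompact (W : Set X)) (s : Γ(F, W))
    (hs : F.presheaf.map (homOfLE (inf_le_left : W ⊓ X.basicOpen f ≤ W)).op s = 0) :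
    ∃ n : ℕ, (X.presheaf.map (homOfLE (le_top : W ≤ ⊤)).op f) ^ n • s = 0 := by
  have : CompactSpace W.toScheme := isCompact_iff_compactSpace.mp hW
  let 𝒰 := (W.toScheme).affineCover.finiteSubcover
  have hoi : ∀ i, IsOpenImmersion (𝒰.f i ≫ W.ι) := fun i =>
    have : IsOpenImmersion (𝒰.f i) := 𝒰.map_prop i
    inferInstance
  have hjW : ∀ i, (𝒰.f i ≫ W.ι) ''ᵁ ⊤ ≤ W := fun i => by
    have : IsOpenImmersion (𝒰.f i) := 𝒰.map_prop i
    rw [Scheme.Hom.comp_image]
    exact Scheme.Opens.ι_image_le _ _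
  have hloc : ∀ i : 𝒰.I₀, ∃ n : ℕ, F.presheaf.map (homOfLE (hjW i)).op
      ((X.presheaf.map (homOfLE (le_top : W ≤ ⊤)).op f) ^ n • s) = 0 :=
    fun i => @kill_chart X _ (𝒰.f i ≫ W.ι) (hoi i) f F hF W (hjW i) s hs
  choose n hn using hloc
  let N := ∑ i, n i
  refine ⟨N, ?_⟩
  refine TopCat.Sheaf.eq_of_locally_eq' ⟨F.presheaf, F.isSheaf⟩
    (fun i => (𝒰.f i ≫ W.ι) ''ᵁ ⊤) W (fun i => homOfLE (hjW i)) ?_ _ _ (fun i => ?_)
  · have h1 : ∀ i, (𝒰.f i ≫ W.ι) ''ᵁ ⊤ = W.ι ''ᵁ (𝒰.f i).opensRange := fun i => by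
      have : IsOpenImmersion (𝒰.f i) := 𝒰.map_prop i
      rw [Scheme.Hom.comp_image, Scheme.Hom.image_top_eq_opensRange]
    rw [iSup_congr h1, ← Scheme.Hom.image_iSup, 𝒰.iSup_opensRange, Scheme.Opens.ι_image_top]
  · have hN : N = (N - n i) + n i := by
      have : n i ≤ ∑ i, n i := Finset.single_le_sum (fun _ _ => Nat.zero_le _) (Finset.mem_univ i)
      omega
    change F.presheaf.map (homOfLE (hjW i)).op
      ((X.presheaf.map (homOfLE (le_top : W ≤ ⊤)).op f) ^ N • s) =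
      F.presheaf.map (homOfLE (hjW i)).op 0
    rw [hN, pow_add, mul_smul, res_smul, hn i, smul_zero, map_zero]


theorem ext_chart {X : Scheme.{u}} {R : CommRingCat.{u}} (j : Spec R ⟶ X) [IsOpenImmersion j]
    (f : Γ(X, ⊤)) (F : X.Modules) [F.IsQuasicoherent] (t : Γ(F, X.basicOpen f)) :
    ∃ (n : ℕ) (x : Γ(F, j ''ᵁ ⊤)),
      F.presheaf.map (homOfLE (inf_le_left : j ''ᵁ ⊤ ⊓ X.basicOpen f ≤ j ''ᵁ ⊤)).op x =
        (X.presheaf.map (homOfLE (le_top : j ''ᵁ ⊤ ⊓ X.basicOpen f ≤ ⊤)).op f) ^ n •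
          F.presheaf.map (homOfLE (inf_le_right : j ''ᵁ ⊤ ⊓ X.basicOpen f ≤ X.basicOpen f)).op t := by
  obtain ⟨D, hD, -, hext⟩ := chart_loc j f F
  have h1 : j ''ᵁ D ≤ X.basicOpen f := hD.le.trans inf_le_right
  have h2 : j ''ᵁ ⊤ ⊓ X.basicOpen f ≤ j ''ᵁ D := hD.ge
  obtain ⟨n, x, hx⟩ := hext (F.presheaf.map (homOfLE h1).op t)
  refine ⟨n, x, ?_⟩
  have h3 := congr(F.presheaf.map (homOfLE h2).op $hx)
  rw [res_res, res_smul, map_pow, res_resX, res_res] at h3
  exact h3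

noncomputable def fV (X : Scheme.{u}) (f : Γ(X, ⊤)) (U : X.Opens) : Γ(X, U) :=
  X.presheaf.map (homOfLE (le_top : U ≤ ⊤)).op f

theorem res_fV (X : Scheme.{u}) (f : Γ(X, ⊤)) {U V : X.Opens} (h : V ≤ U) :
    X.presheaf.map (homOfLE h).op (fV X f U) = fV X f V :=
  res_resX _ _ _

theorem res_pow_smul {X : Scheme.{u}} (f : Γ(X, ⊤)) (F : X.Modules) {U V : X.Opens} (h : V ≤ U)
    (k : ℕ) (s : Γ(F, U)) :
    F.presheaf.map (homOfLE h).op (fV X f U ^ k • s) =
      fV X f V ^ k • F.presheaf.map (homOfLE h).op s := by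
  rw [res_smul, map_pow, res_fV]

theorem main (X : Scheme.{u}) [CompactSpace X] [QuasiSeparatedSpace X] (f : Γ(X, ⊤))
    (F : X.Modules) [hF : F.IsQuasicoherent] (t : Γ(F, X.basicOpen f)) :
    ∃ n : ℕ, 0 < n ∧ ∃ s : Γ(F, ⊤),
      F.presheaf.map (homOfLE (le_top : X.basicOpen f ≤ ⊤)).op s =
        (fV X f (X.basicOpen f)) ^ n • t := by
  let 𝒰 := X.affineCover.finiteSubcover
  have hoi : ∀ i, IsOpenImmersion (𝒰.f i) := fun i => 𝒰.map_prop i
  let V : 𝒰.I₀ → X.Opens := fun i => (𝒰.f i) ''ᵁ ⊤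
  have hloc : ∀ i : 𝒰.I₀, ∃ (n : ℕ) (x : Γ(F, V i)),
      F.presheaf.map (homOfLE (inf_le_left : V i ⊓ X.basicOpen f ≤ V i)).op x =
        (fV X f (V i ⊓ X.basicOpen f)) ^ n •
          F.presheaf.map (homOfLE (inf_le_right : V i ⊓ X.basicOpen f ≤ X.basicOpen f)).op t :=
    fun i => @ext_chart X _ (𝒰.f i) (hoi i) f F hF t
  choose n x hx using hloc
  let N := ∑ i, n i
  let x' : ∀ i, Γ(F, V i) := fun i => (fV X f (V i)) ^ (N - n i) • x i
  have hx' : ∀ i, F.presheaf.map (homOfLE (inf_le_left : V i ⊓ X.basicOpen f ≤ V i)).op (x' i) =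
      (fV X f (V i ⊓ X.basicOpen f)) ^ N •
        F.presheaf.map (homOfLE (inf_le_right : V i ⊓ X.basicOpen f ≤ X.basicOpen f)).op t := by
    intro i
    have hN : N = (N - n i) + n i := by
      have : n i ≤ ∑ i, n i := Finset.single_le_sum (fun _ _ => Nat.zero_le _) (Finset.mem_univ i)
      omega
    simp only [x']
    rw [res_pow_smul, hx i]
    conv_rhs => rw [hN, pow_add, mul_smul]
  have hVc : ∀ i, IsCompact (V i : Set X) := fun i => by
    have : (V i : Set X) = Set.range (𝒰.f i) := by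
      simp only [V]
      rw [Scheme.Hom.image_top_eq_opensRange]
      rfl
    rw [this]
    exact isCompact_range (𝒰.f i).continuous
  have hWc : ∀ i j, IsCompact ((V i ⊓ V j : X.Opens) : Set X) := fun i j =>
    QuasiSeparatedSpace.inter_isCompact _ _ (V i).isOpen (hVc i) (V j).isOpen (hVc j)
  let d : ∀ i j, Γ(F, V i ⊓ V j) := fun i j =>
    F.presheaf.map (homOfLE (inf_le_left : V i ⊓ V j ≤ V i)).op (x' i) -
      F.presheaf.map (homOfLE (inf_le_right : V i ⊓ V j ≤ V j)).op (x' j)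
  have hd : ∀ i j, F.presheaf.map
      (homOfLE (inf_le_left : (V i ⊓ V j) ⊓ X.basicOpen f ≤ V i ⊓ V j)).op (d i j) = 0 := by
    intro i j
    simp only [d]
    rw [map_sub, res_res, res_res]
    have e1 : (V i ⊓ V j) ⊓ X.basicOpen f ≤ V i ⊓ X.basicOpen f :=
      inf_le_inf_right _ inf_le_left
    have e2 : (V i ⊓ V j) ⊓ X.basicOpen f ≤ V j ⊓ X.basicOpen f :=
      inf_le_inf_right _ inf_le_right
    rw [← res_res F (inf_le_left : V i ⊓ X.basicOpen f ≤ V i) e1,
      ← res_res F (inf_le_left : V j ⊓ X.basicOpen f ≤ V j) e2, hx' i, hx' j]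
    rw [res_pow_smul, res_pow_smul, res_res, res_res, sub_self]
  have hglue : ∀ i j, ∃ m : ℕ, (fV X f (V i ⊓ V j)) ^ m • d i j = 0 := fun i j =>
    glue_W f F (V i ⊓ V j) (hWc i j) (d i j) (hd i j)
  choose m hm using hglue
  let Mm := ∑ i, ∑ j, m i j
  let σ : ∀ i, Γ(F, V i) := fun i => (fV X f (V i)) ^ Mm • x' i
  have hσ : ∀ i j, F.presheaf.map (homOfLE (inf_le_left : V i ⊓ V j ≤ V i)).op (σ i) =
      F.presheaf.map (homOfLE (inf_le_right : V i ⊓ V j ≤ V j)).op (σ j) := by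
    intro i j
    have hM : Mm = (Mm - m i j) + m i j := by
      have h1 : m i j ≤ ∑ j, m i j :=
        Finset.single_le_sum (f := fun j => m i j) (fun _ _ => Nat.zero_le _) (Finset.mem_univ j)
      have h2 : ∑ j, m i j ≤ ∑ i, ∑ j, m i j :=
        Finset.single_le_sum (f := fun i => ∑ j, m i j) (fun _ _ => Nat.zero_le _)
          (Finset.mem_univ i)
      omega
    have hL : F.presheaf.map (homOfLE (inf_le_left : V i ⊓ V j ≤ V i)).op (σ i) =
        fV X f (V i ⊓ V j) ^ Mm •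
          F.presheaf.map (homOfLE (inf_le_left : V i ⊓ V j ≤ V i)).op (x' i) :=
      res_pow_smul f F _ Mm (x' i)
    have hR : F.presheaf.map (homOfLE (inf_le_right : V i ⊓ V j ≤ V j)).op (σ j) =
        fV X f (V i ⊓ V j) ^ Mm •
          F.presheaf.map (homOfLE (inf_le_right : V i ⊓ V j ≤ V j)).op (x' j) :=
      res_pow_smul f F _ Mm (x' j)
    rw [hL, hR, ← sub_eq_zero, ← smul_sub]
    change (fV X f (V i ⊓ V j)) ^ Mm • d i j = 0
    rw [hM, pow_add, mul_smul, hm i j, smul_zero]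
  have hcover : (⊤ : X.Opens) ≤ ⨆ i, V i := by
    have h1 : ∀ i, V i = (𝒰.f i).opensRange := fun i => by
      have := hoi i
      exact Scheme.Hom.image_top_eq_opensRange (𝒰.f i)
    rw [iSup_congr h1, 𝒰.iSup_opensRange]
  obtain ⟨s, hs, -⟩ := TopCat.Sheaf.existsUnique_gluing' ⟨F.presheaf, F.isSheaf⟩ V ⊤
    (fun i => homOfLE le_top) hcover σ (fun i j => hσ i j)
  have hs' : ∀ i, F.presheaf.map (homOfLE (le_top : V i ≤ ⊤)).op s = σ i := hs
  refine ⟨N + Mm + 1, Nat.succ_pos _, f • s, ?_⟩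
  have hcov2 : X.basicOpen f ≤ ⨆ i, V i ⊓ X.basicOpen f := by
    rw [← iSup_inf_eq]
    exact le_inf (le_top.trans hcover) le_rfl
  refine TopCat.Sheaf.eq_of_locally_eq' ⟨F.presheaf, F.isSheaf⟩
    (fun i => V i ⊓ X.basicOpen f) (X.basicOpen f) (fun i => homOfLE inf_le_right) hcov2 _ _
    (fun i => ?_)
  change F.presheaf.map (homOfLE (inf_le_right : V i ⊓ X.basicOpen f ≤ X.basicOpen f)).op
      (F.presheaf.map (homOfLE (le_top : X.basicOpen f ≤ ⊤)).op (f • s)) =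
    F.presheaf.map (homOfLE (inf_le_right : V i ⊓ X.basicOpen f ≤ X.basicOpen f)).op
      (fV X f (X.basicOpen f) ^ (N + Mm + 1) • t)
  rw [res_res, res_pow_smul]
  have e1 : F.presheaf.map (homOfLE (le_top : V i ⊓ X.basicOpen f ≤ ⊤)).op (f • s) =
      fV X f (V i ⊓ X.basicOpen f) •
        F.presheaf.map (homOfLE (le_top : V i ⊓ X.basicOpen f ≤ ⊤)).op s :=
    res_smul F _ f s
  rw [e1, ← res_res F (le_top : V i ≤ ⊤) (inf_le_left : V i ⊓ X.basicOpen f ≤ V i), hs' i]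
  have e2 : F.presheaf.map (homOfLE (inf_le_left : V i ⊓ X.basicOpen f ≤ V i)).op (σ i) =
      fV X f (V i ⊓ X.basicOpen f) ^ Mm •
        F.presheaf.map (homOfLE (inf_le_left : V i ⊓ X.basicOpen f ≤ V i)).op (x' i) :=
    res_pow_smul f F _ Mm (x' i)
  rw [e2, hx' i, ← mul_smul, ← mul_smul]
  congr 1
  ring


open AlgebraicGeometry in
open CategoryTheory in
open Opposite in
/-- Case of the trivial invertible sheaf. Let X be a quasi-compact quasi-separated scheme, f a global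
section of O_X, F a quasi-coherent O_X-module and t a section of F over X_f. Then there is an n > 0
such that f^n t is the restriction of a global section of F. (The published statement assumes X with
Noetherian underlying space, or separated and quasi-compact; both are quasi-compact quasi-separated,
which is what the argument uses: a finite affine cover with quasi-compact pairwise intersections.) -/
theorem result
    (X : Scheme.{u}) [CompactSpace X] [QuasiSeparatedSpace X] (f : Γ(X, ⊤))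
    (F : X.Modules) [Coh.IsQCoh F] (t : F.val.obj (op (X.basicOpen f))) :
    ∃ n : ℕ, 0 < n ∧ ∃ s : F.val.obj (op ⊤),
      (F.val.map (homOfLE (le_top : X.basicOpen f ≤ ⊤)).op).hom s =
        (show X.ringCatSheaf.obj.obj (op (X.basicOpen f)) from
          X.presheaf.map (homOfLE (le_top : X.basicOpen f ≤ ⊤)).op f) ^ n • t := by
  have hF : F.IsQuasicoherent := ‹_›
  exact main X f F t

end Groth.Agent.S4341
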