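import Groth.Statements.S4730
import Mathlib.RingTheory.AlgebraicIndependent.TranscendenceBasis
import Mathlib.RingTheory.Algebraic.Integral
import Mathlib.RingTheory.Polynomial.Quotient
import Mathlib.RingTheory.Ideal.GoingDown
import Mathlib.SetTheory.Cardinal.ENat

set_option autoImplicit false
universe u
open EGA4

namespace Groth.Agent.S4730

open Polynomial

section

variable {A : Type u} [CommRing A]

lemma fibre_dim_le_one (p : PrimeSpectrum A) :
    Order.krullDim (PrimeSpectrum.comap (algebraMap A A[X]) ⁻¹' {p}) ≤ 1 := by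
  rw [Order.krullDim_eq_of_orderIso
      (PrimeSpectrum.preimageOrderIsoFiber A (Polynomial A) p), ← ringKrullDim,
      ← ringKrullDim_eq_of_ringEquiv (polyEquivTensor A (p.asIdeal.ResidueField)).toRingEquiv]
  have h : Ring.KrullDimLE 1 (p.asIdeal.ResidueField)[X] := inferInstance
  have := (Ring.krullDimLE_iff (n := 1)).mp h
  simpa using this

lemma comap_map_C_eq (p : Ideal A) : (p.map (C : A →+* A[X])).comap C = p := by
  ext a
  rw [Ideal.mem_comap, Ideal.mem_map_C_iff]
  constructor
  · intro h
    simpa using h 0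
  · intro h n
    rw [coeff_C]
    split_ifs
    · exact h
    · exact zero_mem p

/-- Key fact: between `p A[X]` and a prime `q` over `p` there is no further prime. -/
lemma eq_map_C_of_lt (p : Ideal A) [p.IsPrime] (q Q : Ideal A[X]) [q.IsPrime] [Q.IsPrime]
    (hq : q.comap C = p) (hPQ : p.map C ≤ Q) (hQq : Q < q) : Q = p.map C := by
  have hP : (p.map (C : A →+* A[X])).IsPrime := Ideal.isPrime_map_C_of_isPrime
  have hQp : Q.comap C = p := by
    apply le_antisymm
    · rw [← hq]; exact Ideal.comap_mono hQq.le
    · rw [← Ideal.map_le_iff_le_comap]; exact hPQ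
  let p' : PrimeSpectrum A := ⟨p, inferInstance⟩
  let F := (PrimeSpectrum.comap (algebraMap A A[X]) ⁻¹' {p'})
  let x0 : F := ⟨⟨p.map C, hP⟩, by
    change PrimeSpectrum.comap C ⟨p.map C, hP⟩ = p'
    exact PrimeSpectrum.ext (comap_map_C_eq p)⟩
  let x1 : F := ⟨⟨Q, inferInstance⟩, by
    change PrimeSpectrum.comap C ⟨Q, _⟩ = p'
    exact PrimeSpectrum.ext hQp⟩
  let x2 : F := ⟨⟨q, inferInstance⟩, by
    change PrimeSpectrum.comap C ⟨q, _⟩ = p'
    exact PrimeSpectrum.ext hq⟩
  have h01 : x0 ≤ x1 := hPQ
  have h12 : x1 < x2 := hQq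
  rcases (Order.krullDim_le_one_iff.mp (fibre_dim_le_one p')) x1 with h | h
  · have : x1 ≤ x0 := h h01
    exact le_antisymm this hPQ
  · exact absurd (h h12.le) (not_le_of_gt h12)

end

open Polynomial in
/-- Let A be a Noetherian ring, p a prime ideal of A and q a prime ideal of the polynomial ring A[T]
lying over p. Then ht(p) + 1 = ht(q) + deg.tr_{κ(p)} κ(q), the transcendence degree being that of
the domain A[T]/q over the domain A/p. -/
theorem result (A : Type u) [CommRing A] [IsNoetherianRing A]
    (p : Ideal A) [p.IsPrime] (q : Ideal A[X]) [q.IsPrime] [q.LiesOver p] :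
    (p.height : Cardinal.{u}) + 1 = (q.height : Cardinal.{u}) + Algebra.trdeg (A ⧸ p) (A[X] ⧸ q) := by
  classical
  have hqp : q.comap C = p := (q.over_def p).symm
  set P : Ideal A[X] := p.map (algebraMap A A[X]) with hPdef
  have hPC : P = p.map C := rfl
  have hP : P.IsPrime := Ideal.isPrime_map_C_of_isPrime
  have hPq : P ≤ q := by
    rw [hPC, Ideal.map_le_iff_le_comap, hqp]
  have hdom : IsDomain (A[X] ⧸ P) := Ideal.Quotient.isDomain P
  have hht := Ideal.height_eq_height_add_of_liesOver_of_hasGoingDown p q
  -- the generator of the residue algebra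
  let xbar : A[X] ⧸ q := Ideal.Quotient.mk q X
  have haeval : ∀ f : A[X], aeval xbar (f.map (Ideal.Quotient.mk p)) = Ideal.Quotient.mk q f := by
    intro f
    have h1 : aeval xbar (f.map (algebraMap A (A ⧸ p))) = aeval xbar f :=
      aeval_map_algebraMap (A ⧸ p) xbar f
    have h2 : aeval xbar f = Ideal.Quotient.mkₐ A q (aeval X f) :=
      aeval_algHom_apply (Ideal.Quotient.mkₐ A q) X f
    rw [aeval_X_left_apply] at h2
    exact h1.trans h2
  have hmapzero : ∀ f : A[X], f.map (Ideal.Quotient.mk p) = 0 ↔ f ∈ P := by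
    intro f
    rw [hPC, Ideal.mem_map_C_iff, Polynomial.ext_iff]
    simp only [coeff_map, coeff_zero, Ideal.Quotient.eq_zero_iff_mem]
  by_cases hcase : q = P
  · -- `q = p A[X]`
    have hmap : q.map (Ideal.Quotient.mk P) = ⊥ := by
      rw [hcase]; exact Ideal.map_quotient_self P
    rw [hmap, Ideal.height_bot, add_zero] at hht
    -- transcendence degree one
    have hbij : Function.Bijective (aeval (R := A ⧸ p) xbar) := by
      constructor
      · rw [injective_iff_map_eq_zero]
        intro g hg
        obtain ⟨f, rfl⟩ := map_surjective (Ideal.Quotient.mk p) Ideal.Quotient.mk_surjective g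
        rw [haeval, Ideal.Quotient.eq_zero_iff_mem, hcase] at hg
        exact (hmapzero f).mpr hg
      · intro y
        obtain ⟨f, rfl⟩ := Ideal.Quotient.mk_surjective y
        exact ⟨f.map (Ideal.Quotient.mk p), haeval f⟩
    have htr : Algebra.trdeg (A ⧸ p) (A[X] ⧸ q) = 1 := by
      rw [← (AlgEquiv.ofBijective (aeval (R := A ⧸ p) xbar) hbij).trdeg_eq]
      exact Polynomial.trdeg_of_isDomain
    rw [htr, hht]
  · -- `q ≠ p A[X]`
    have hne : q.map (Ideal.Quotient.mk P) ≠ ⊥ := by
      intro h
      rw [Ideal.map_eq_bot_iff_le_ker, Ideal.mk_ker] at h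
      exact hcase (le_antisymm h hPq)
    have hqbar : (q.map (Ideal.Quotient.mk P)).IsPrime :=
      Ideal.map_isPrime_of_surjective Ideal.Quotient.mk_surjective (by rw [Ideal.mk_ker]; exact hPq)
    have hge : 1 ≤ (q.map (Ideal.Quotient.mk P)).height := by
      rw [Order.one_le_iff_ne_zero, Ne, Ideal.height_eq_zero_iff_eq_bot]
      exact hne
    have hle : (q.map (Ideal.Quotient.mk P)).height ≤ 1 := by
      have : (q.map (Ideal.Quotient.mk P)).height ≤ ((1 : ℕ) : ℕ∞) := by
        rw [Ideal.height_le_iff]
        intro Qb hQb hlt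
        have hQprime : (Qb.comap (Ideal.Quotient.mk P)).IsPrime := inferInstance
        have hPQ : p.map C ≤ Qb.comap (Ideal.Quotient.mk P) := by
          rw [← hPC]
          conv_lhs => rw [← Ideal.mk_ker (I := P)]
          exact Ideal.ker_le_comap _
        have hQq : Qb.comap (Ideal.Quotient.mk P) < q := by
          have h1 : (q.map (Ideal.Quotient.mk P)).comap (Ideal.Quotient.mk P) = q := by
            rw [Ideal.comap_map_of_surjective _ Ideal.Quotient.mk_surjective,
              ← RingHom.ker_eq_comap_bot, Ideal.mk_ker]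
            exact sup_eq_left.mpr hPq
          refine lt_of_le_of_ne ?_ ?_
          · rw [← h1]; exact Ideal.comap_mono hlt.le
          · intro h
            apply hlt.ne
            rw [← h, Ideal.map_comap_of_surjective _ Ideal.Quotient.mk_surjective]
        have := eq_map_C_of_lt p q (Qb.comap (Ideal.Quotient.mk P)) hqp hPQ hQq
        have hQb : Qb = ⊥ := by
          rw [← Ideal.map_comap_of_surjective _ Ideal.Quotient.mk_surjective Qb, this, ← hPC]
          exact Ideal.map_quotient_self P
        rw [hQb, Ideal.height_bot]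
        exact zero_lt_one
      simpa using this
    have hone : (q.map (Ideal.Quotient.mk P)).height = 1 := le_antisymm hle hge
    rw [hone] at hht
    -- algebraic
    obtain ⟨g, hgq, hgP⟩ : ∃ g ∈ q, g ∉ P := by
      by_contra hcon
      push Not at hcon
      exact hcase (le_antisymm hcon hPq)
    have halg : IsAlgebraic (A ⧸ p) xbar := by
      refine ⟨g.map (Ideal.Quotient.mk p), fun h => hgP ((hmapzero g).mp h), ?_⟩
      rw [haeval, Ideal.Quotient.eq_zero_iff_mem]; exact hgq
    have hdomp : IsDomain (A ⧸ p) := Ideal.Quotient.isDomain p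
    have hadj : Algebra.adjoin (A ⧸ p) {xbar} = ⊤ := by
      rw [eq_top_iff]
      rintro y -
      obtain ⟨f, rfl⟩ := Ideal.Quotient.mk_surjective y
      rw [← haeval f]
      exact aeval_mem_adjoin_singleton _ _
    have hAlg : Algebra.IsAlgebraic (A ⧸ p) (A[X] ⧸ q) := by
      refine ⟨fun y => ?_⟩
      have := (Algebra.isAlgebraic_adjoin_singleton_iff (R := A ⧸ p)).mpr halg
      exact this y (hadj ▸ Algebra.mem_top)
    rw [trdeg_eq_zero, add_zero, hht]
    push_cast
    rfl

end Groth.Agent.S4730
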