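import Groth.Statements.S9125
import Groth.Agent.Lib.Helper70.Catenary
-- import your own Groth.Agent.* helpers here

set_option autoImplicit false
universe u
open CAlg

namespace Groth.Agent.S9125

/-- A quotient of a catenary ring is catenary. -/
theorem result (A : Type u) [CommRing A] (I : Ideal A)
    (hA : CAlg.IsCatenary A) : CAlg.IsCatenary (A ⧸ I) := by
  rw [Groth.Agent.Lib.Helper70.isCatenary_iff_posetCat] at hA ⊢
  let e := I.primeSpectrumQuotientOrderIsoZeroLocus
  let φ : PrimeSpectrum (A ⧸ I) ↪o PrimeSpectrum A :=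
    e.toOrderEmbedding.trans (OrderEmbedding.subtype _)
  refine Groth.Agent.Lib.Helper70.PosetCat.of_embedding φ ?_ hA
  intro a b r har _
  have hmem : r ∈ PrimeSpectrum.zeroLocus (I : Set A) := by
    have ha : (φ a) ∈ PrimeSpectrum.zeroLocus (I : Set A) := (e a).2
    rw [PrimeSpectrum.mem_zeroLocus] at ha ⊢
    exact ha.trans har
  refine ⟨e.symm ⟨r, hmem⟩, ?_⟩
  show ((e (e.symm ⟨r, hmem⟩)) : PrimeSpectrum A) = r
  rw [OrderIso.apply_symm_apply]

end Groth.Agent.S9125
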