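import Groth.Statements.S12445
import Groth.Agent.Lib.Helper44.CatSpace
import Mathlib.AlgebraicGeometry.Properties
import Mathlib.AlgebraicGeometry.Stalk

set_option autoImplicit false
universe u
open CategoryTheory AlgebraicGeometry
open Props

namespace Groth.Agent.S12445

/-- (1) ⇔ (3) ⇔ (4): for a scheme S, the underlying topological space of S is catenary if and only if
the coordinate ring of every affine open of S is a catenary ring, if and only if S is covered by
affine opens with catenary coordinate rings. (Clause (2), openness of catenarity, and the final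
assertion on locally closed subschemes are the topological statement for open coverings and locally
closed subspaces.) -/
theorem result (S : Scheme.{u}) :
    (PtTop.IsCatenarySpace S ↔ ∀ U : S.affineOpens, CAlg.IsCatenary Γ(S, U)) ∧
    (PtTop.IsCatenarySpace S ↔
      ∀ s : S, ∃ U : S.affineOpens, s ∈ (U : S.Opens) ∧ CAlg.IsCatenary Γ(S, U)) := by
  have h13 : PtTop.IsCatenarySpace S → ∀ U : S.affineOpens, CAlg.IsCatenary Γ(S, U) := by
    intro hS U
    exact Groth.Agent.Lib.Helper44.isCatenary_of_isCatenarySpace (X := S) (U.2.fromSpec)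
      U.2.fromSpec.isOpenEmbedding.isEmbedding
      U.2.fromSpec.isOpenEmbedding.isOpen_range.stableUnderGeneralization hS
  have h34 : (∀ U : S.affineOpens, CAlg.IsCatenary Γ(S, U)) →
      ∀ s : S, ∃ U : S.affineOpens, s ∈ (U : S.Opens) ∧ CAlg.IsCatenary Γ(S, U) := by
    intro h s
    obtain ⟨V, hV, hsV, -⟩ := exists_isAffineOpen_mem_and_subset (X := S) (x := s) (U := ⊤) trivial
    exact ⟨⟨V, hV⟩, hsV, h ⟨V, hV⟩⟩
  have h41 : (∀ s : S, ∃ U : S.affineOpens, s ∈ (U : S.Opens) ∧ CAlg.IsCatenary Γ(S, U)) →
      PtTop.IsCatenarySpace S := by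
    intro h
    apply Groth.Agent.Lib.Helper44.isCatenarySpace_of_cover
    intro x
    obtain ⟨U, hxU, hU⟩ := h x
    refine ⟨Γ(S, U), inferInstance, U.2.fromSpec, U.2.fromSpec.isOpenEmbedding.isEmbedding,
      U.2.fromSpec.isOpenEmbedding.isOpen_range.stableUnderGeneralization, ?_, hU⟩
    exact (Set.ext_iff.1 (IsAffineOpen.range_fromSpec (U := (U : S.Opens)) U.2) x).2 hxU
  exact ⟨⟨h13, fun h => h41 (h34 h)⟩, ⟨fun h => h34 (h13 h), h41⟩⟩

end Groth.Agent.S12445
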