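import Groth.Statements.S12459
import Groth.Agent.Lib.Helper44.CatSpace
import Groth.Agent.Lib.Helper70.Catenary4
import Groth.Agent.S12445
import Mathlib.AlgebraicGeometry.Properties
import Mathlib.AlgebraicGeometry.Stalk
import Mathlib.AlgebraicGeometry.Noetherian
import Mathlib.AlgebraicGeometry.Morphisms.FiniteType

set_option autoImplicit false
universe u
open CategoryTheory AlgebraicGeometry
open Props

namespace Groth.Agent.S12459

open Groth.Agent.Lib.Helper70 in
theorem isUniversallyCatenary_of_forall_maximal (R : Type u) [CommRing R] [IsNoetherianRing R]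
    (h : ∀ (m : Ideal R) [m.IsMaximal], ∃ (B : Type u) (_ : CommRing B) (_ : Algebra R B),
      IsLocalization.AtPrime B m ∧ CAlg.IsUniversallyCatenary B) :
    CAlg.IsUniversallyCatenary R := by
  refine ⟨inferInstance, ?_⟩
  intro S _ _ hS
  apply isCatenary_of_cover_localizations
  intro q
  have hp : (q.asIdeal.comap (algebraMap R S)).IsPrime := Ideal.comap_isPrime _ _
  obtain ⟨m, hm, hpm⟩ := Ideal.exists_le_maximal (q.asIdeal.comap (algebraMap R S)) hp.ne_top
  obtain ⟨B, _, _, hloc, hB⟩ := h m
  refine ⟨m.primeCompl.map (algebraMap R S), ?_, ?_⟩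
  · rw [Set.disjoint_left]
    rintro _ ⟨r, hr, rfl⟩ hxq
    exact hr (hpm hxq)
  · have hf : (algebraMap R S).FiniteType := RingHom.finiteType_algebraMap.mpr hS
    have hg := RingHom.finiteType_localizationPreserves (algebraMap R S) m.primeCompl
      B (Localization (m.primeCompl.map (algebraMap R S))) hf
    letI := (IsLocalization.map (Localization (m.primeCompl.map (algebraMap R S))) (algebraMap R S)
      (Submonoid.le_comap_map m.primeCompl) :
        B →+* Localization (m.primeCompl.map (algebraMap R S))).toAlgebra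
    exact hB.2 _ hg

theorem univCat_section (S : Scheme.{u}) [IsLocallyNoetherian S]
    (h : ∀ s : S, CAlg.IsUniversallyCatenary (S.presheaf.stalk s)) (V : S.affineOpens) :
    CAlg.IsUniversallyCatenary Γ(S, V) := by
  haveI : IsNoetherianRing Γ(S, V) := IsLocallyNoetherian.component_noetherian V
  apply isUniversallyCatenary_of_forall_maximal
  intro m hm
  let y : PrimeSpectrum Γ(S, V) := ⟨m, hm.isPrime⟩
  have hy : V.2.fromSpec y ∈ (V : S.Opens) :=
    (Set.ext_iff.1 (IsAffineOpen.range_fromSpec (U := (V : S.Opens)) V.2) _).1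
      (Set.mem_range_self y)
  exact ⟨S.presheaf.stalk (V.2.fromSpec y), inferInstance,
    TopCat.Presheaf.algebra_section_stalk S.presheaf ⟨_, hy⟩,
    V.2.isLocalization_stalk' y hy, h _⟩

/-- For a locally Noetherian scheme S, the scheme S is universally catenary — every scheme X locally of
finite type over S has catenary underlying topological space — if and only if all local rings
O_{S,s} are universally catenary rings. (Schemes X over S are taken in the universe of S.) -/
theorem result (S : Scheme.{u}) [IsLocallyNoetherian S] :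
    (∀ (X : Scheme.{u}) (f : X ⟶ S), LocallyOfFiniteType f → PtTop.IsCatenarySpace X) ↔
      ∀ s : S, CAlg.IsUniversallyCatenary (S.presheaf.stalk s) := by
  constructor
  · intro h s
    obtain ⟨V, hV, hsV, -⟩ := exists_isAffineOpen_mem_and_subset (X := S) (x := s) (U := ⊤) trivial
    letI := TopCat.Presheaf.algebra_section_stalk S.presheaf ⟨s, hsV⟩
    haveI := hV.isLocalization_stalk ⟨s, hsV⟩
    refine ⟨inferInstance, fun C _ _ hC => ?_⟩
    refine Groth.Agent.Lib.Helper70.isCatenary_of_finiteType_of_isLocalization Γ(S, V)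
      (hV.primeIdealOf ⟨s, hsV⟩).asIdeal.primeCompl (S.presheaf.stalk s) ?_ C hC
    intro n
    let g : Spec (CommRingCat.of (MvPolynomial (Fin n) Γ(S, V))) ⟶ S :=
      Spec.map (CommRingCat.ofHom (algebraMap Γ(S, V) (MvPolynomial (Fin n) Γ(S, V)))) ≫
        hV.fromSpec
    have hg1 : LocallyOfFiniteType
        (Spec.map (CommRingCat.ofHom (algebraMap Γ(S, V) (MvPolynomial (Fin n) Γ(S, V))))) := by
      rw [HasRingHomProperty.Spec_iff (P := @LocallyOfFiniteType)]
      exact RingHom.finiteType_algebraMap.2 inferInstance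
    have hg : LocallyOfFiniteType g := inferInstance
    have hcat := h _ g hg
    exact Groth.Agent.Lib.Helper44.isCatenary_of_isCatenarySpace
      (X := Spec (CommRingCat.of (MvPolynomial (Fin n) Γ(S, V))))
      (R := MvPolynomial (Fin n) Γ(S, V)) id Topology.IsEmbedding.id
      (by intro a b _ _; exact ⟨b, rfl⟩) hcat
  · intro h X f hf
    apply (Groth.Agent.S12445.result X).2.2
    intro x
    obtain ⟨V, hV, hsV, -⟩ :=
      exists_isAffineOpen_mem_and_subset (X := S) (x := f x) (U := ⊤) trivial
    obtain ⟨U, hU, hxU, hUV⟩ :=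
      exists_isAffineOpen_mem_and_subset (X := X) (x := x) (U := f ⁻¹ᵁ V) hsV
    refine ⟨⟨U, hU⟩, hxU, ?_⟩
    have hR := univCat_section S h ⟨V, hV⟩
    have hft : (f.appLE V U hUV).hom.FiniteType := f.finiteType_appLE hV hU hUV
    letI := (f.appLE V U hUV).hom.toAlgebra
    exact hR.2 Γ(X, U) hft

end Groth.Agent.S12459
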