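import Groth.Statements.S2066
import Mathlib.Tactic
import Groth.Agent.Lib.Helper43.PCTower
import Groth.Agent.Lib.Helper15.PseudoCoh
import Groth.Agent.Lib.Helper84.DRingPerf
-- import your own Groth.Agent.* helpers here

set_option autoImplicit false
universe u
open CategoryTheory
attribute [local instance] HasDerivedCategory.standard
open CAlg

namespace Groth.Agent.S2066

open CategoryTheory.Limits CategoryTheory.Pretriangulated DerivedCategory CochainComplex
  Groth.Agent.Lib.Helper43 Groth.Agent.Lib.Helper43.PCTower Groth.Agent.Lib.Helper15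
  Groth.Agent.Lib.Helper15.MQI Groth.Agent.Lib.Helper84 DRing

/-- bounded complexes of finite free modules are `m`-pseudo-coherent for all `m` -/
lemma isPseudoCoherent_toD {A : Type u} [CommRing A] (F : Cx A) (a b : ℤ)
    (hF : VanishesOutside F a b) (hff : TermwiseFiniteFree F) (m : ℤ) :
    IsPseudoCoherent A m (toD F) :=
  (PseudoCoh.isPseudoCoherent_iff m _).2 ⟨F, a, b, 𝟙 _, hF, hff, IsMQI.of_isIso m _⟩

/-- (1) ⇒ (2) -/
theorem isPseudoCoherent'_of_forall {A : Type u} [CommRing A] (K : Dual.D A)
    (h : ∀ m : ℤ, IsPseudoCoherent A m K) : IsPseudoCoherent' A K := by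
  let L : Cx A := Q.objPreimage K
  let e : Q.obj L ≅ K := Q.objObjPreimageIso K
  obtain ⟨n, hnK⟩ := PseudoCoh.isLE_of_isPseudoCoherent (h 0)
  have hn : ∀ i : ℤ, n < i → IsZero ((homologyFunctor (ModuleCat.{u} A) i).obj (Q.obj L)) :=
    fun i hi => IsZero.of_iso (isZero_of_isLE K n i hi)
      ((homologyFunctor (ModuleCat.{u} A) i).mapIso e)
  have hfin : ∀ j : ℤ, j ≤ n → FinCond L n j := by
    intro j _ F α hF hff hacyc
    have hT := mappingCone_triangle_distinguished α
    have h3 : IsPseudoCoherent A j (Q.obj (mappingCone α)) :=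
      PseudoCoh.obj₃ j _ hT (isPseudoCoherent_toD F (j + 1) n hF hff (j + 1))
        (PseudoCoh.of_iso e.symm (h j))
    exact PCHomology.finite_homology_of_isPseudoCoherent _ j h3 hacyc
  obtain ⟨F, α, h1, h2, h3⟩ := exists_resolution L n hn hfin
  exact ⟨F, n, h1, h2, ⟨asIso (Q.map α) ≪≫ e⟩⟩

/-- (3) ⇒ (1) -/
theorem isPseudoCoherent_of_projective {A : Type u} [CommRing A] (K : Dual.D A)
    (E : Cx A) (b : ℤ) (hb : VanishesAbove E b) (hE : TermwiseFiniteProjective E)
    (e : toD E ≅ K) (m : ℤ) : IsPseudoCoherent A m K := by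
  have hn : ∀ i : ℤ, b < i → IsZero ((homologyFunctor (ModuleCat.{u} A) i).obj K) := by
    intro i hi
    refine IsZero.of_iso ?_ ((homologyFunctor (ModuleCat.{u} A) i).mapIso e.symm)
    refine IsZero.of_iso ?_ (PCHomology.homologyIso E i)
    rw [← HomologicalComplex.exactAt_iff_isZero_homology]
    exact ShortComplex.exact_of_isZero_X₂ _ (hb i hi)
  refine isPseudoCoherent_of_finCond E e b m hn ?_
  intro j _ _ F α hF hff hacyc
  have hP : TermwiseFiniteProjective (mappingCone α) :=
    DRingPerf.termwiseFiniteProjective_mappingCone α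
      (fun i => ⟨(hff i).1, by haveI := (hff i).2; exact Module.Projective.of_free⟩) hE
  have hfp := PCHomology.finitePresentation_homology (mappingCone α) b j
    (fun i hi => ConeRep.isZero_mappingCone_X α i (hF (i + 1) (Or.inr (by lia))) (hb i hi))
    (fun i => (hP i).2) (fun i => (hP i).1)
    (fun i hi => PCHomology.exactAt_of_isZero _ i (hacyc i hi))
  haveI : Module.Finite A ((mappingCone α).homology j) := inferInstance
  exact Module.Finite.equiv (PCHomology.homologyIso (mappingCone α) j).toLinearEquiv.symm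

/-- An object `K` of `D(A)` is `m`-pseudo-coherent for every integer `m` if and only if some bounded
above complex of finite free modules represents it in `D(A)` ((1) iff (2)), and also if and only if
some bounded above complex of finite projective modules represents it ((2) iff (3)). -/
theorem result {A : Type u} [CommRing A] (K : Dual.D A) :
    ((∀ m : ℤ, DRing.IsPseudoCoherent A m K) ↔ DRing.IsPseudoCoherent' A K) ∧
      ((∀ m : ℤ, DRing.IsPseudoCoherent A m K) ↔ ∃ (E : DRing.Cx A) (b : ℤ), DRing.VanishesAbove E b ∧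
        DRing.TermwiseFiniteProjective E ∧ Nonempty (DRing.toD E ≅ K)) := by
  refine ⟨⟨isPseudoCoherent'_of_forall K, ?_⟩, ⟨fun h => ?_, ?_⟩⟩
  · rintro ⟨E, b, hb, hE, ⟨e⟩⟩ m
    exact isPseudoCoherent_of_projective K E b hb
      (fun i => ⟨(hE i).1, by haveI := (hE i).2; exact Module.Projective.of_free⟩) e m
  · obtain ⟨E, b, hb, hE, he⟩ := isPseudoCoherent'_of_forall K h
    exact ⟨E, b, hb,
      fun i => ⟨(hE i).1, by haveI := (hE i).2; exact Module.Projective.of_free⟩, he⟩
  · rintro ⟨E, b, hb, hE, ⟨e⟩⟩ m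
    exact isPseudoCoherent_of_projective K E b hb hE e m

end Groth.Agent.S2066
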