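import Groth.Statements.S6940
import Mathlib.Tactic
import Groth.Agent.Lib.Helper43.PCTower
import Groth.Agent.Lib.Helper15.PseudoCohRes
import Groth.Agent.Lib.Helper84.Devissage
import Groth.Agent.S2066
import Mathlib.Algebra.Homology.ShortComplex.PreservesHomology
-- import your own Groth.Agent.* helpers here

set_option autoImplicit false
universe u
open CategoryTheory CategoryTheory.Limits
attribute [local instance] HasDerivedCategory.standard
open DRing

namespace Groth.Agent.S6940

open CategoryTheory.Pretriangulated DerivedCategory CochainComplex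
  Groth.Agent.Lib.Helper43 Groth.Agent.Lib.Helper43.PCTower Groth.Agent.Lib.Helper15
  Groth.Agent.Lib.Helper15.MQI Groth.Agent.Lib.Helper84 Groth.Agent.Lib.Helper15.PseudoCohRes

section

variable {A B : Type u} [CommRing A] [CommRing B] (φ : A →+* B)

/-- restriction of scalars commutes with homology of complexes -/
noncomputable def resHomologyIso (K : Cx B) (i : ℤ) :
    ((restrictCx φ).obj K).homology i ≅ (ModuleCat.restrictScalars.{u} φ).obj (K.homology i) :=
  (K.sc i).mapHomologyIso (ModuleCat.restrictScalars.{u} φ)

/-- restriction of scalars commutes with cohomology in the derived category -/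
noncomputable def homologyRestrictDIso (C : Cx B) (j : ℤ) :
    (homologyFunctor (ModuleCat.{u} A) j).obj ((restrictD φ).obj (Q.obj C)) ≅
      (ModuleCat.restrictScalars.{u} φ).obj ((homologyFunctor (ModuleCat.{u} B) j).obj (Q.obj C)) :=
  (homologyFunctor (ModuleCat.{u} A) j).mapIso (restrictDQIso φ C) ≪≫
    PCHomology.homologyIso _ j ≪≫ resHomologyIso φ C j ≪≫
    (ModuleCat.restrictScalars.{u} φ).mapIso (PCHomology.homologyIso C j).symm

/-- a module which is finite after restriction of scalars is finite -/
lemma finite_of_restrictScalars (M : ModuleCat.{u} B)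
    (h : Module.Finite A ((ModuleCat.restrictScalars.{u} φ).obj M)) : Module.Finite B M := by
  obtain ⟨S, hS⟩ := h.fg_top
  have key : ∀ y : (ModuleCat.restrictScalars.{u} φ).obj M,
      y ∈ Submodule.span A (S : Set ((ModuleCat.restrictScalars.{u} φ).obj M)) →
        (y : M) ∈ Submodule.span B
          (show Set M from (S : Set ((ModuleCat.restrictScalars.{u} φ).obj M))) := by
    intro y hy
    induction hy using Submodule.span_induction with
    | mem y hy => exact Submodule.subset_span hy
    | zero => exact Submodule.zero_mem _
    | add y z _ _ hy hz => exact Submodule.add_mem _ hy hz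
    | smul a y _ hy =>
      rw [ModuleCat.restrictScalars.smul_def]
      exact Submodule.smul_mem _ _ hy
  refine ⟨⟨(show Finset M from S), ?_⟩⟩
  rw [eq_top_iff]
  intro x _
  exact key x (by rw [hS]; trivial)

/-- Stacks 064Z, (2) ⇒ (1). -/
theorem of_restrictD (h : ResPC φ (ModuleCat.of B B)) {m : ℤ} {K : Dual.D B}
    (hK : IsPseudoCoherent A m ((restrictD φ).obj K)) : IsPseudoCoherent B m K := by
  let L : Cx B := Q.objPreimage K
  let e : Q.obj L ≅ K := Q.objObjPreimageIso K
  obtain ⟨n, hnK⟩ := PseudoCoh.isLE_of_isPseudoCoherent hK
  have hKn : K.IsLE n := (isLE_restrictD_iff φ K n).1 hnK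
  refine isPseudoCoherent_of_finCond L e n m (fun i hi => isZero_of_isLE K n i hi) ?_
  intro j hj hjn F α hF hff hacyc
  have hT := mappingCone_triangle_distinguished α
  have hT' := (restrictD φ).map_distinguished _ hT
  have h1 : resProp φ (toD F) :=
    Devissage.prop_of_bounded_complex (resProp φ) (resProp_of_isZero φ) (resProp_obj₂ φ) F
      (j + 1) n hF (fun i => resProp_single_of_finiteFree φ h (F.X i) (hff i) i)
  have h2 : IsPseudoCoherent A j ((restrictD φ).obj (Q.obj L)) :=
    PseudoCoh.of_le hj (PseudoCoh.of_iso ((restrictD φ).mapIso e.symm) hK)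
  have h3 : IsPseudoCoherent A j ((restrictD φ).obj (Q.obj (mappingCone α))) :=
    PseudoCoh.obj₃ j _ hT' (h1 (j + 1)) h2
  have hfinA := PCHomology.finite_homology_of_isPseudoCoherent _ j h3
    (fun i hi => IsZero.of_iso ((ModuleCat.restrictScalars.{u} φ).map_isZero (hacyc i hi))
      (homologyRestrictDIso φ _ i))
  exact finite_of_restrictScalars φ _
    (Module.Finite.equiv (homologyRestrictDIso φ (mappingCone α) j).toLinearEquiv)

end

/-- `B[0]` restricted to `A` is `B` as an `A`-module placed in degree `0` -/
noncomputable def restrictSelfIso {A B : Type u} [CommRing A] [CommRing B] [Algebra A B] :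
    (restrictD (algebraMap A B)).obj
        ((DerivedCategory.singleFunctor (ModuleCat.{u} B) 0).obj (ModuleCat.of B B)) ≅
      Dual.inD A B :=
  ((ModuleCat.restrictScalars.{u} (algebraMap A B)).mapDerivedCategorySingleFunctor 0).app
      (ModuleCat.of B B) ≪≫
    (DerivedCategory.singleFunctor (ModuleCat.{u} A) 0).mapIso
      (LinearEquiv.toModuleIso
        (show ((ModuleCat.restrictScalars.{u} (algebraMap A B)).obj (ModuleCat.of B B)) ≃ₗ[A]
            (ModuleCat.of A B) from
        { AddEquiv.refl B with
          map_smul' := fun a b =>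
            (ModuleCat.restrictScalars.smul_def (algebraMap A B) a b).trans
              (Algebra.smul_def a (show B from b)).symm }))

/-- Let A → B be a homomorphism of commutative rings making B a pseudo-coherent A-module; let K be an
object of D(B) and m an integer. Then m-pseudo-coherence of K over B is equivalent to
m-pseudo-coherence over A of K with its scalars restricted to A, and likewise pseudo-coherence of K
over B is equivalent to pseudo-coherence over A of its restriction. -/
theorem result {A B : Type u} [CommRing A]
    [CommRing B] [Algebra A B] (hB : DRing.IsPseudoCoherentModule' A B) (K : Dual.D B) (m : ℤ) :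
    (DRing.IsPseudoCoherent B m K ↔ DRing.IsPseudoCoherent A m ((DRing.restrictD (algebraMap A B)).obj K)) ∧
      (DRing.IsPseudoCoherent' B K ↔ DRing.IsPseudoCoherent' A ((DRing.restrictD (algebraMap A B)).obj K)) := by
  have hres : ResPC (algebraMap A B) (ModuleCat.of B B) :=
    PseudoCoh.PCAll.of_iso restrictSelfIso.symm ((Groth.Agent.S2066.result _).1.2 hB)
  have key : ∀ (m' : ℤ), DRing.IsPseudoCoherent B m' K ↔
      DRing.IsPseudoCoherent A m' ((DRing.restrictD (algebraMap A B)).obj K) :=
    fun m' => ⟨fun h => restrictD_of_pcAlgebra (algebraMap A B) hres h,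
      fun h => of_restrictD (algebraMap A B) hres h⟩
  refine ⟨key m, ?_⟩
  rw [← (Groth.Agent.S2066.result K).1, ← (Groth.Agent.S2066.result _).1]
  exact forall_congr' key

end Groth.Agent.S6940
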