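import Groth.Statements.S7100
import Mathlib.Tactic
import Groth.Agent.Lib.Helper43.FlatFPPC
import Groth.Agent.Lib.Helper43.RestrictSingle
import Groth.Agent.S6940
-- import your own Groth.Agent.* helpers here

set_option autoImplicit false
universe u
attribute [local instance] HasDerivedCategory.standard
open DerCA

namespace Groth.Agent.S7100

/-- (1)⇔(4): let R → B → A be homomorphisms of commutative rings with B → A surjective and with R → B
and R → A both flat and of finite presentation. Then an object K of D(A) is pseudo-coherent
(isomorphic in D(A) to a bounded above complex of finite free modules) if and only if its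
restriction of scalars to D(B) is pseudo-coherent; and for every integer m, K is m-pseudo-coherent
if and only if its restriction of scalars to D(B) is m-pseudo-coherent. -/
theorem result (R B A : Type u) [CommRing R] [CommRing B] [CommRing A]
    [Algebra R B] [Algebra R A] [Algebra B A] [IsScalarTower R B A]
    (hφ : Function.Surjective (algebraMap B A))
    [Module.Flat R B] [Algebra.FinitePresentation R B] [Module.Flat R A] [Algebra.FinitePresentation R A]
    (K : Dual.D A) :
    (DRing.IsPseudoCoherent' A K ↔ DRing.IsPseudoCoherent' B ((DRing.restrictD (algebraMap B A)).obj K)) ∧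
      ∀ m : ℤ, (DRing.IsPseudoCoherent A m K ↔
        DRing.IsPseudoCoherent B m ((DRing.restrictD (algebraMap B A)).obj K)) := by
  obtain ⟨n, φB, hφB⟩ := (Algebra.FiniteType.iff_quotient_mvPolynomial'' (R := R) (S := B)).1
    inferInstance
  have hB := Groth.Agent.Lib.Helper43.FlatFPPC.pc_of_flat_fp R B n φB hφB
  let φA : MvPolynomial (Fin n) R →ₐ[R] A := (IsScalarTower.toAlgHom R B A).comp φB
  have hφA : Function.Surjective φA := hφ.comp hφB
  have hA := Groth.Agent.Lib.Helper43.FlatFPPC.pc_of_flat_fp R A n φA hφA
  letI algPB : Algebra (MvPolynomial (Fin n) R) B := φB.toRingHom.toAlgebra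
  letI algPA : Algebra (MvPolynomial (Fin n) R) A := φA.toRingHom.toAlgebra
  haveI : IsScalarTower (MvPolynomial (Fin n) R) B A :=
    IsScalarTower.of_algebraMap_eq (fun _ => rfl)
  -- `A` is a pseudo-coherent `B`-module
  have hAB : DRing.IsPseudoCoherentModule' B A := by
    refine ((Groth.Agent.S6940.result (A := MvPolynomial (Fin n) R) (B := B) hB
      (Dual.inD B A) 0).2).2 ?_
    exact Groth.Agent.Lib.Helper84.DRingPC.isPseudoCoherent'_of_iso
      (Groth.Agent.Lib.Helper43.RestrictSingle.restrictSingleIso
        (MvPolynomial (Fin n) R) B A).symm hA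
  exact ⟨(Groth.Agent.S6940.result hAB K 0).2, fun m => (Groth.Agent.S6940.result hAB K m).1⟩

end Groth.Agent.S7100
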