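import Groth.Statements.S0049
import Groth.Agent.Lib.Helper21.CohSplit
import Groth.Agent.Lib.Helper21.CohNoeth
import Groth.Agent.Lib.Helper21.QCohKernel

set_option autoImplicit false
universe u
open Coherent

namespace Groth.Agent.S0049

open AlgebraicGeometry CategoryTheory in
/-- On a Noetherian scheme, if the support of a coherent module F is the union of closed sets Z and Z',
there is a short exact sequence 0 → G' → F → G → 0 of coherent modules with G' supported in Z' and G
supported in Z. -/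
theorem result (X : Scheme.{u}) [IsNoetherian X] (M : X.Modules) (hM : Coh.IsCoh M)
    (Z Z' : Set X) (hZ : IsClosed Z) (hZ' : IsClosed Z') (h : CohB1.support M = Z ∪ Z') :
    ∃ S : ShortComplex X.Modules, S.ShortExact ∧ Nonempty (S.X₂ ≅ M) ∧ Coh.IsCoh S.X₁ ∧ Coh.IsCoh S.X₃ ∧
      CohB1.support S.X₁ ⊆ Z' ∧ CohB1.support S.X₃ ⊆ Z := by
  haveI : M.IsQuasicoherent := hM.1
  let V : X.Opens := ⟨Z'ᶜ, hZ'.isOpen_compl⟩
  haveI hT : ((Scheme.Modules.pushforward V.ι).obj (M.restrict V.ι)).IsQuasicoherent :=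
    Groth.Agent.Lib.Helper2.KerSec.isQuasicoherent_pushforward_of_qcqs V.ι (M.restrict V.ι)
  haveI hK : (Limits.kernel (Groth.Agent.Lib.Helper21.CohSplit.η M V)).IsQuasicoherent :=
    Groth.Agent.Lib.Helper21.QCohKernel.isQuasicoherent_kernel _
  haveI hC : (Limits.cokernel (Limits.kernel.ι
      (Groth.Agent.Lib.Helper21.CohSplit.η M V))).IsQuasicoherent :=
    Groth.Agent.Lib.Helper21.QCohKernel.isQuasicoherent_cokernel _
  refine ⟨ShortComplex.mk (Limits.kernel.ι (Groth.Agent.Lib.Helper21.CohSplit.η M V))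
    (Limits.cokernel.π (Limits.kernel.ι (Groth.Agent.Lib.Helper21.CohSplit.η M V)))
    (Limits.cokernel.condition _), ?_, ⟨Iso.refl _⟩, ⟨hK, ?_⟩, ⟨hC, ?_⟩, ?_, ?_⟩
  · exact ShortComplex.ShortExact.mk' (ShortComplex.exact_cokernel
      (Limits.kernel.ι (Groth.Agent.Lib.Helper21.CohSplit.η M V)))
      (inferInstanceAs (Mono (Limits.kernel.ι (Groth.Agent.Lib.Helper21.CohSplit.η M V))))
      (inferInstanceAs (Epi (Limits.cokernel.π
        (Limits.kernel.ι (Groth.Agent.Lib.Helper21.CohSplit.η M V)))))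
  · exact Groth.Agent.Lib.Helper21.CohNoeth.isFiniteType_of_mono
      (Limits.kernel.ι (Groth.Agent.Lib.Helper21.CohSplit.η M V)) hM.2
  · exact Groth.Agent.Lib.Helper21.CohNoeth.isFiniteType_of_epi
      (Limits.cokernel.π (Limits.kernel.ι (Groth.Agent.Lib.Helper21.CohSplit.η M V))) hM.2
  · intro x hx
    have h1 := Groth.Agent.Lib.Helper21.CohSplit.support_kernel_η_subset M V hx
    by_contra hn
    exact h1 hn
  · apply Groth.Agent.Lib.Helper21.CohSplit.support_coimage_η_subset M V Z hZ
    intro y hyV hyZ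
    by_contra hns
    have h2 : y ∈ CohB1.support M := hns
    rw [h] at h2
    rcases h2 with h3 | h3
    · exact hyZ h3
    · exact hyV h3

end Groth.Agent.S0049
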