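import Groth.Statements.S0890
import Groth.Agent.Lib.Helper2.DCohFP

set_option autoImplicit false
universe u
open CategoryTheory
attribute [local instance] HasDerivedCategory.standard
open DCoh

namespace Groth.Agent.S0890

open Groth.Agent.Lib.Helper2.DCohBase Groth.Agent.Lib.Helper2.DCohHom
open Groth.Agent.Lib.Helper2.DCohCoh Groth.Agent.Lib.Helper2.DCohFP in
open AlgebraicGeometry CategoryTheory.Limits in

open AlgebraicGeometry CategoryTheory.Limits in
/-- For an m-pseudo-coherent object K of D(O_X): (1) vanishing of the cohomology sheaves above degree m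
makes H^m(K) an O_X-module of finite type; (2) vanishing above degree m + 1 makes H^{m+1}(K) an
O_X-module of finite presentation. -/
theorem result {X : Scheme.{u}} (m : ℤ) (K : DCoh.D X)
    (hK : DCoh.IsPseudoCoherentD m K) :
    ((∀ i : ℤ, m < i → IsZero (DCoh.HD K i)) → CohB1.IsFT (DCoh.HD K m)) ∧
    ((∀ i : ℤ, m + 1 < i → IsZero (DCoh.HD K i)) → CohB1.IsFP (DCoh.HD K (m + 1))) := by
  obtain ⟨F₀, ⟨e₀⟩⟩ := exists_rep K
  choose V hxV hV using hK
  have key : ∀ x : X, ∃ (E' : CochainComplex ((V x : X.Opens) : Scheme.{u}).Modules ℤ)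
      (α : DerivedCategory.Q.obj E' ⟶ DerivedCategory.Q.obj ((resCx (V x).ι).obj F₀)),
      DCoh.IsStrictlyPerfect E' ∧
      (∀ i : ℤ, m < i → IsIso ((DerivedCategory.homologyFunctor _ i).map α)) ∧
      Epi ((DerivedCategory.homologyFunctor _ m).map α) := fun x => hV x F₀ ⟨e₀⟩
  choose E' α hE' hiso hepi using key
  have ε : ∀ (x : X) (i : ℤ), m < i → ((E' x).homology i ≅
      (Scheme.Modules.restrictFunctor (V x).ι).obj (DCoh.HD K i)) := fun x i hi =>
    haveI := hiso x i hi
    ((DerivedCategory.homologyFunctorFactors _ i).app (E' x)).symm ≪≫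
      asIso ((DerivedCategory.homologyFunctor _ i).map (α x)) ≪≫
      (homRestrictIso K F₀ e₀ (V x).ι i).symm
  constructor
  · intro hz
    refine isFiniteType_of_locally _ (fun x => ⟨V x, hxV x, ?_⟩)
    have h1 : SheafOfModules.IsFiniteType (R := ((V x : X.Opens) : Scheme.{u}).ringCatSheaf)
        ((E' x).homology m) :=
      isFiniteType_homology_of_isZero (E' x) (hE' x) m (fun i hi =>
        IsZero.of_iso (Functor.map_isZero _ (hz i hi)) (ε x i hi))
    haveI : Epi ((DerivedCategory.homologyFunctor _ m).map (α x)) := hepi x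
    haveI : Epi ((DerivedCategory.homologyFunctor _ m).map (α x) ≫
        (homRestrictIso K F₀ e₀ (V x).ι m).inv) := epi_comp _ _
    haveI : Epi (((DerivedCategory.homologyFunctorFactors _ m).app (E' x)).inv ≫
        (DerivedCategory.homologyFunctor _ m).map (α x) ≫
        (homRestrictIso K F₀ e₀ (V x).ι m).inv) := epi_comp _ _
    exact isFiniteType_of_epi (((DerivedCategory.homologyFunctorFactors _ m).app (E' x)).inv ≫
        (DerivedCategory.homologyFunctor _ m).map (α x) ≫
        (homRestrictIso K F₀ e₀ (V x).ι m).inv) h1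
  · intro hz
    refine isFP_of_locally _ (fun x => ⟨V x, hxV x, ?_⟩)
    have h1 : SheafOfModules.IsFinitePresentation
        (R := ((V x : X.Opens) : Scheme.{u}).ringCatSheaf) ((E' x).homology (m + 1)) :=
      isFP_homology_of_isZero (E' x) (hE' x) (m + 1) (fun i hi =>
        IsZero.of_iso (Functor.map_isZero _ (hz i hi)) (ε x i (by omega)))
    exact isFP_of_iso (ε x (m + 1) (by omega)) h1

end Groth.Agent.S0890
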