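import Groth.Statements.S9498
import Mathlib.Algebra.Homology.ShortComplex.ExactFunctor

set_option autoImplicit false
universe u
open AffSch

namespace Groth.Agent.S9498

open AlgebraicGeometry CategoryTheory Limits TopologicalSpace Opposite

theorem comapFun_injective {R : Type u} [CommRing R] {M N : Type u} [AddCommGroup M] [Module R M]
    [AddCommGroup N] [Module R N] (f : M →ₗ[R] N) (hf : Function.Injective f)
    (y : PrimeSpectrum.Top R) :
    Function.Injective (StructureSheaf.Localizations.comapFun f y) := by
  intro a b hab
  induction a using LocalizedModule.induction_on with | h m s =>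
  induction b using LocalizedModule.induction_on with | h m' s' =>
  rw [StructureSheaf.Localizations.comapFun_mk, StructureSheaf.Localizations.comapFun_mk,
    LocalizedModule.mk_eq] at hab
  obtain ⟨u, hu⟩ := hab
  rw [LocalizedModule.mk_eq]
  refine ⟨⟨u.1, u.2⟩, ?_⟩
  apply hf
  simp only [Submonoid.smul_def, RingHom.id_apply] at hu ⊢
  rw [map_smul, map_smul, map_smul, map_smul]
  exact hu

theorem mono_tilde_map {R : CommRingCat.{u}} {M N : ModuleCat.{u} R} (f : M ⟶ N)
    (hf : Function.Injective f.hom) : Mono (tilde.map f) := by
  have : Mono ((Scheme.Modules.toPresheaf (Spec R)).map (tilde.map f)) := by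
    apply (config := {allowSynthFailures := true}) NatTrans.mono_of_mono_app
    intro U
    rw [AddCommGrpCat.mono_iff_injective]
    intro s t hst
    refine Subtype.ext (funext fun y => ?_)
    have := congr_fun (congr_arg Subtype.val hst) y
    exact comapFun_injective f.hom hf y.1 this
  exact (Scheme.Modules.toPresheaf (Spec R)).mono_of_mono_map this

theorem key (R : CommRingCat.{u}) :
    PreservesFiniteLimits (tilde.functor R) ∧ PreservesFiniteColimits (tilde.functor R) := by
  have hcolim : PreservesFiniteColimits (tilde.functor R) := inferInstance
  refine ⟨?_, hcolim⟩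
  rw [Functor.preservesFiniteLimits_iff_forall_exact_map_and_mono]
  intro S hS
  refine ⟨(((tilde.functor R).preservesFiniteColimits_iff_forall_exact_map_and_epi).mp
    hcolim S hS).1, ?_⟩
  have := hS.mono_f
  exact mono_tilde_map S.f ((ModuleCat.mono_iff_injective S.f).mp this)


open AlgebraicGeometry in
open CategoryTheory Limits in
/-- For a commutative ring A, the functor M ↦ M~ from the category of A-modules to the category of
O-modules on Spec A is exact, i.e. it preserves finite limits and finite colimits. -/
theorem result
    (A : Type u) [CommRing A] :
    PreservesFiniteLimits (tilde.functor (CommRingCat.of A)) ∧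
      PreservesFiniteColimits (tilde.functor (CommRingCat.of A)) := by
  exact key (CommRingCat.of A)

end Groth.Agent.S9498
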