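import Groth.Statements.S6992
import Groth.Agent.Lib.Helper21.RelFP2
-- import your own Groth.Agent.* helpers here

set_option autoImplicit false
universe u
open CAlg

namespace Groth.Agent.S6992

open Groth.Agent.Lib.Helper21 in
/-- Let R be a commutative ring, A → B a finite homomorphism of finite type R-algebras, M a B-module,
and α : R[x_1, ..., x_n] → A, β : R[y_1, ..., y_k] → B surjective R-algebra homomorphisms. Then M is
finitely presented as an R[x_1, ..., x_n]-module through α and A → B (M is finitely presented
relative to R as an A-module) if and only if M is finitely presented as an R[y_1, ..., y_k]-module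
through β (M is finitely presented relative to R as a B-module). -/
theorem result {R A B : Type u} [CommRing R] [CommRing A] [CommRing B]
    [Algebra R A] [Algebra A B] [Algebra R B] [IsScalarTower R A B] [Algebra.FiniteType R A]
    [Algebra.FiniteType R B] [Module.Finite A B] (M : Type u) [AddCommGroup M] [Module B M] [Module A M]
    [IsScalarTower A B M] {n k : ℕ} (α : MvPolynomial (Fin n) R →ₐ[R] A) (hα : Function.Surjective α)
    (β : MvPolynomial (Fin k) R →ₐ[R] B) (hβ : Function.Surjective β) :
    @Module.FinitePresentation (MvPolynomial (Fin n) R) M _ _ (Module.compHom M α.toRingHom) ↔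
      @Module.FinitePresentation (MvPolynomial (Fin k) R) M _ _ (Module.compHom M β.toRingHom) := by
  letI algSA : Algebra (MvPolynomial (Fin n) R) A := α.toRingHom.toAlgebra
  letI algSB : Algebra (MvPolynomial (Fin n) R) B :=
    ((algebraMap A B).comp α.toRingHom).toAlgebra
  haveI : IsScalarTower (MvPolynomial (Fin n) R) A B := IsScalarTower.of_algebraMap_eq' rfl
  haveI : IsScalarTower R (MvPolynomial (Fin n) R) B := by
    refine IsScalarTower.of_algebraMap_eq' ?_
    ext r
    change algebraMap R B r = algebraMap A B (α (algebraMap R _ r))
    rw [α.commutes, ← IsScalarTower.algebraMap_apply]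
  haveI : Module.Finite (MvPolynomial (Fin n) R) A :=
    Module.Finite.of_surjective (Algebra.linearMap (MvPolynomial (Fin n) R) A) hα
  haveI : Module.Finite (MvPolynomial (Fin n) R) B := Module.Finite.trans A B
  letI : Module (MvPolynomial (Fin n) R) M := Module.compHom M α.toRingHom
  haveI : IsScalarTower (MvPolynomial (Fin n) R) B M := by
    refine ⟨fun s b m => ?_⟩
    change (algebraMap A B (α s) * b) • m = α s • (b • m)
    rw [mul_smul, algebraMap_smul]
  exact relFP_of_finite β hβ

end Groth.Agent.S6992
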