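import Groth.Statements.S7005
import Groth.Agent.Lib.Helper21.RelFP3
import Mathlib.RingTheory.Polynomial.Basic
import Mathlib.Algebra.MvPolynomial.Equiv
import Mathlib.Tactic

set_option autoImplicit false
universe u
open CAlg

namespace Groth.Agent.S7005

open Groth.Agent.Lib.Helper21 MvPolynomial

theorem exists_fg_map_eq {S T : Type*} [CommRing S] [CommRing T] (g : S →+* T)
    (hg : Function.Surjective g) (J : Ideal T) (hJ : J.FG) :
    ∃ I₀ : Ideal S, I₀.FG ∧ I₀.map g = J := by
  classical
  obtain ⟨G, hG⟩ := hJ
  refine ⟨Ideal.span (G.image (Function.surjInv hg) : Finset S), ⟨_, rfl⟩, ?_⟩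
  rw [Ideal.map_span, Finset.coe_image, Set.image_image]
  have : (fun x => g (Function.surjInv hg x)) = id := funext fun x => Function.surjInv_eq hg x
  rw [this, Set.image_id]
  exact hG

theorem relFP_tensor {R A A' : Type u} [CommRing R] [CommRing A]
    [CommRing A'] [Algebra R A] [Algebra A A'] [Algebra R A'] [IsScalarTower R A A']
    [Algebra.FinitePresentation A A'] (M : Type u) [AddCommGroup M] [Module A M] {n k : ℕ}
    (α : MvPolynomial (Fin n) R →ₐ[R] A) (hα : Function.Surjective α)
    (hM : @Module.FinitePresentation (MvPolynomial (Fin n) R) (M) _ _ (Module.compHom (M) α.toRingHom))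
    (γ : MvPolynomial (Fin k) R →ₐ[R] A') (hγ : Function.Surjective γ) :
    @Module.FinitePresentation (MvPolynomial (Fin k) R) (TensorProduct A A' M) _ _
      (Module.compHom (TensorProduct A A' M) γ.toRingHom) := by
  obtain ⟨l, f, hf, hkf⟩ := Algebra.FinitePresentation.out (R := A) (A := A')
  letI algPA : Algebra (MvPolynomial (Fin n) R) A := α.toRingHom.toAlgebra
  let g : MvPolynomial (Fin l) (MvPolynomial (Fin n) R) →+* MvPolynomial (Fin l) A :=
    MvPolynomial.map α.toRingHom
  have hg : Function.Surjective g := MvPolynomial.map_surjective α.toRingHom hα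
  letI algSA' : Algebra (MvPolynomial (Fin l) (MvPolynomial (Fin n) R)) A' :=
    (f.toRingHom.comp g).toAlgebra
  letI algPA' : Algebra (MvPolynomial (Fin n) R) A' :=
    ((algebraMap A A').comp α.toRingHom).toAlgebra
  haveI : IsScalarTower (MvPolynomial (Fin n) R) A A' :=
    IsScalarTower.of_algebraMap_eq (fun _ => rfl)
  haveI : IsScalarTower (MvPolynomial (Fin n) R) (MvPolynomial (Fin l) (MvPolynomial (Fin n) R)) A' :=
    IsScalarTower.of_algebraMap_eq (fun p => by
      change algebraMap A A' (α p) = f (g (algebraMap _ _ p))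
      rw [MvPolynomial.algebraMap_eq]
      change _ = f (MvPolynomial.map α.toRingHom (C p))
      rw [MvPolynomial.map_C, ← MvPolynomial.algebraMap_eq, f.commutes]
      rfl)
  letI modPM : Module (MvPolynomial (Fin n) R) M := Module.compHom M α.toRingHom
  haveI : IsScalarTower (MvPolynomial (Fin n) R) A M :=
    IsScalarTower.of_algebraMap_smul (fun _ _ => rfl)
  haveI : Module.FinitePresentation (MvPolynomial (Fin n) R) M := hM
  obtain ⟨I₀, hI₀, hI₀map⟩ := exists_fg_map_eq g hg _ hkf
  have hker : RingHom.ker (algebraMap (MvPolynomial (Fin l) (MvPolynomial (Fin n) R)) A') =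
      I₀ ⊔ Ideal.map (algebraMap (MvPolynomial (Fin n) R)
        (MvPolynomial (Fin l) (MvPolynomial (Fin n) R))) (RingHom.ker (algebraMap (MvPolynomial (Fin n) R) A)) := by
    have e1 : RingHom.ker (algebraMap (MvPolynomial (Fin l) (MvPolynomial (Fin n) R)) A') =
        Ideal.comap g (RingHom.ker f.toRingHom) := by
      ext x
      rw [Ideal.mem_comap, RingHom.mem_ker, RingHom.mem_ker]
      rfl
    rw [e1, ← hI₀map, Ideal.comap_map_of_surjective g hg, MvPolynomial.algebraMap_eq]
    congr 1
    have e2 : Ideal.comap g ⊥ = RingHom.ker g := rfl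
    rw [e2]
    exact MvPolynomial.ker_map α.toRingHom
  have hsurjS : Function.Surjective (algebraMap (MvPolynomial (Fin l) (MvPolynomial (Fin n) R)) A') :=
    fun a' => by
      obtain ⟨t, rfl⟩ := hf a'
      obtain ⟨s, rfl⟩ := hg t
      exact ⟨s, rfl⟩
  have hPA : Function.Surjective (algebraMap (MvPolynomial (Fin n) R) A) := hα
  have key := fp_tensor_of_surjective (P := MvPolynomial (Fin n) R) (A := A)
    (S := MvPolynomial (Fin l) (MvPolynomial (Fin n) R)) (A' := A') M hPA hsurjS I₀ hI₀ hker
  let iso := MvPolynomial.sumAlgEquiv R (Fin l) (Fin n)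
  let βS : MvPolynomial (Fin l) (MvPolynomial (Fin n) R) →ₐ[R] A' :=
    { toRingHom := algebraMap (MvPolynomial (Fin l) (MvPolynomial (Fin n) R)) A'
      commutes' := fun r => by
        change f (g (algebraMap R _ r)) = algebraMap R A' r
        rw [MvPolynomial.algebraMap_apply]
        change f (MvPolynomial.map α.toRingHom (C (algebraMap R (MvPolynomial (Fin n) R) r))) = _
        rw [MvPolynomial.map_C]
        change f (C (α (algebraMap R (MvPolynomial (Fin n) R) r))) = _
        rw [α.commutes, ← MvPolynomial.algebraMap_eq, f.commutes,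
          ← IsScalarTower.algebraMap_apply] }
  let β₀ : MvPolynomial (Fin l ⊕ Fin n) R →ₐ[R] A' := βS.comp iso.toAlgHom
  have hβ₀ : Function.Surjective β₀ := hsurjS.comp iso.surjective
  have hψker : (RingHom.ker iso.toAlgHom.toRingHom).FG := by
    have : RingHom.ker iso.toAlgHom.toRingHom = ⊥ :=
      (RingHom.injective_iff_ker_eq_bot _).mp iso.injective
    rw [this]
    exact Submodule.fg_bot
  have h1 := compHom_comp_iff (M := TensorProduct A A' M) iso.toAlgHom.toRingHom iso.surjective hψker
    (algebraMap (MvPolynomial (Fin l) (MvPolynomial (Fin n) R)) A')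
  have h2 := relFP_indep (TensorProduct A A' M) β₀ hβ₀ γ hγ
  exact h2.mp (h1.mpr key)

/-- Let R → A be a finite type homomorphism of commutative rings, α : R[x_1, ..., x_n] → A a surjective
R-algebra homomorphism and M an A-module which is finitely presented as an R[x_1, ..., x_n]-module
through α. Let A → A' be a ring homomorphism of finite presentation and γ : R[z_1, ..., z_k] → A' a
surjective R-algebra homomorphism. Then A' ⊗_A M is finitely presented as an R[z_1, ..., z_k]-module
through γ. -/
theorem result {R A A' : Type u} [CommRing R] [CommRing A]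
    [CommRing A'] [Algebra R A] [Algebra A A'] [Algebra R A'] [IsScalarTower R A A'] [Algebra.FiniteType R A]
    [Algebra.FinitePresentation A A'] (M : Type u) [AddCommGroup M] [Module A M] {n k : ℕ}
    (α : MvPolynomial (Fin n) R →ₐ[R] A) (hα : Function.Surjective α)
    (hM : @Module.FinitePresentation (MvPolynomial (Fin n) R) (M) _ _ (Module.compHom (M) α.toRingHom))
    (γ : MvPolynomial (Fin k) R →ₐ[R] A') (hγ : Function.Surjective γ) :
    @Module.FinitePresentation (MvPolynomial (Fin k) R) (TensorProduct A A' M) _ _ (Module.compHom (TensorProduct A A' M) γ.toRingHom) := by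
  exact relFP_tensor M α hα hM γ hγ

end Groth.Agent.S7005
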