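import Groth.Statements.S6936
import Mathlib.Tactic
import Groth.Agent.Lib.Helper43.PCApprox
-- import your own Groth.Agent.* helpers here

set_option autoImplicit false
universe u
open CategoryTheory CategoryTheory.Limits
attribute [local instance] HasDerivedCategory.standard
open DRing

namespace Groth.Agent.S6936

open CategoryTheory.Pretriangulated DerivedCategory CochainComplex in
/-- the cone of `0 ⟶ L` has the cohomology of `L` -/
lemma homologyIso_cone_zero {R : Type u} [CommRing R] (L : DRing.Cx R) (F₀ : DRing.Cx R)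
    (hF₀ : IsZero F₀) (α₀ : F₀ ⟶ L) (i : ℤ) :
    Nonempty ((homologyFunctor (ModuleCat.{u} R) i).obj (Q.obj (mappingCone α₀)) ≅
      (homologyFunctor (ModuleCat.{u} R) i).obj (Q.obj L)) := by
  have hT₀ := mappingCone_triangle_distinguished α₀
  have hz : IsZero (Q.obj F₀ : DerivedCategory (ModuleCat.{u} R)) := Functor.map_isZero Q hF₀
  haveI : IsIso (Q.map (mappingCone.inr α₀)) := (Triangle.isZero₁_iff_isIso₂ _ hT₀).1 hz
  exact ⟨((homologyFunctor (ModuleCat.{u} R) i).mapIso (asIso (Q.map (mappingCone.inr α₀)))).symm⟩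

/-- Let R be a commutative ring, m an integer and K an object of D(R). If H^i(K) = 0 for every i > m +
1, H^(m+1)(K) is a finitely presented R-module and H^m(K) is a finitely generated R-module, then K
is m-pseudo-coherent. -/
theorem result (R : Type u) [CommRing R]
    (m : ℤ) (K : Dual.D R) (hvan : ∀ i : ℤ, m + 1 < i → Subsingleton (Dual.HD R K i))
    (hfp : Module.FinitePresentation R (Dual.HD R K (m + 1))) (hfin : Module.Finite R (Dual.HD R K m)) :
    DRing.IsPseudoCoherent R m K := by
  classical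
  open CategoryTheory.Pretriangulated DerivedCategory CochainComplex ZeroObject
    Groth.Agent.Lib.Helper43 Groth.Agent.Lib.Helper43.PCApprox in
  let L : DRing.Cx R := Q.objPreimage K
  let e : Q.obj L ≅ K := Q.objObjPreimageIso K
  have eH : ∀ i : ℤ, (homologyFunctor (ModuleCat.{u} R) i).obj (Q.obj L) ≅
      (homologyFunctor (ModuleCat.{u} R) i).obj K :=
    fun i => (homologyFunctor (ModuleCat.{u} R) i).mapIso e
  -- Stage 0
  let F₀ : DRing.Cx R := 0
  have hF₀ : IsZero F₀ := isZero_zero _
  let α₀ : F₀ ⟶ L := 0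
  have e₀ : ∀ i : ℤ, (homologyFunctor (ModuleCat.{u} R) i).obj (Q.obj (mappingCone α₀)) ≅
      (homologyFunctor (ModuleCat.{u} R) i).obj K :=
    fun i => (homologyIso_cone_zero L F₀ hF₀ α₀ i).some ≪≫ eH i
  have hfin₀ : Module.Finite R
      ((homologyFunctor (ModuleCat.{u} R) (m + 1)).obj (Q.obj (mappingCone α₀))) := by
    haveI : Module.Finite R ((homologyFunctor (ModuleCat.{u} R) (m + 1)).obj K) :=
      inferInstanceAs (Module.Finite R (Dual.HD R K (m + 1)))
    exact Module.Finite.equiv (e₀ (m + 1)).toLinearEquiv.symm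
  have hα₀ : ∀ i : ℤ, m + 1 < i →
      IsZero ((homologyFunctor (ModuleCat.{u} R) i).obj (Q.obj (mappingCone α₀))) := by
    intro i hi
    haveI := hvan i hi
    exact IsZero.of_iso (ModuleCat.isZero_of_subsingleton _) (e₀ i)
  obtain ⟨P₀, hP₀fin, hP₀free, φ₁, α₁, h₁, hC₁⟩ := stepModule α₀ (m + 1) hfin₀ hα₀
  have hF₀z : ∀ i : ℤ, IsZero (F₀.X i) := fun i =>
    Functor.map_isZero (HomologicalComplex.eval _ _ i) hF₀
  have hF₁ : DRing.VanishesOutside (mappingCone φ₁) (m + 1) (max (m + 1) (m + 1)) :=
    vanishesOutside_cone_single (m + 1) (m + 1) (fun i _ => hF₀z i) P₀ φ₁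
  rw [max_self] at hF₁
  have hff₁ : DRing.TermwiseFiniteFree (mappingCone φ₁) := by
    refine termwiseFiniteFree_cone_single (fun i => ?_) P₀ ⟨hP₀fin, hP₀free⟩ _ φ₁
    haveI : Subsingleton (F₀.X i) := ModuleCat.subsingleton_of_isZero (hF₀z i)
    exact ⟨inferInstance, inferInstance⟩
  -- Stage 1
  have hfin₁ : Module.Finite R
      ((homologyFunctor (ModuleCat.{u} R) m).obj (Q.obj (mappingCone α₁))) := by
    have hT₁ := mappingCone_triangle_distinguished α₁
    refine finite_homology_obj₃ _ hT₁ m ?_ ?_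
    · haveI : Module.Finite R ((homologyFunctor (ModuleCat.{u} R) m).obj K) :=
        inferInstanceAs (Module.Finite R (Dual.HD R K m))
      exact Module.Finite.equiv (eH m).toLinearEquiv.symm
    · haveI : Module.Finite R ((homologyFunctor (ModuleCat.{u} R) (m + 1)).obj
          (Q.obj (mappingCone φ₁))) := by
        haveI : Module.FinitePresentation R ((mappingCone φ₁).homology (m + 1)) :=
          PCHomology.finitePresentation_homology (mappingCone φ₁) (m + 1) (m + 1)
            (fun i hi => hF₁ i (Or.inr hi))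
            (fun i => by haveI := (hff₁ i).2; exact Module.Projective.of_free)
            (fun i => (hff₁ i).1)
            (fun i hi => ShortComplex.exact_of_isZero_X₂ _ (hF₁ i (Or.inr hi)))
        exact Module.Finite.equiv (PCHomology.homologyIso (mappingCone φ₁) (m + 1)).toLinearEquiv.symm
      haveI : Module.FinitePresentation R
          ((homologyFunctor (ModuleCat.{u} R) (m + 1)).obj (Q.obj L)) := by
        haveI : Module.FinitePresentation R ((homologyFunctor (ModuleCat.{u} R) (m + 1)).obj K) :=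
          hfp
        exact Module.FinitePresentation.of_equiv (eH (m + 1)).toLinearEquiv.symm
      change (LinearMap.ker ((homologyFunctor (ModuleCat.{u} R) (m + 1)).map (Q.map α₁)).hom).FG
      refine Module.FinitePresentation.fg_ker _ ?_
      have hepi : Epi ((homologyFunctor (ModuleCat.{u} R) (m + 1)).map (Q.map α₁)) :=
        (HomologySequence.epi_homologyMap_mor₁_iff _ hT₁ (m + 1)).2
          ((hC₁ (m + 1) le_rfl).eq_of_tgt _ _)
      exact (ModuleCat.epi_iff_surjective _).1 hepi
  have hα₁ : ∀ i : ℤ, m < i →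
      IsZero ((homologyFunctor (ModuleCat.{u} R) i).obj (Q.obj (mappingCone α₁))) :=
    fun i hi => hC₁ i (by lia)
  obtain ⟨P₁, hP₁fin, hP₁free, φ₂, α₂, h₂, hC₂⟩ := stepModule α₁ m hfin₁ hα₁
  have hF₂ : DRing.VanishesOutside (mappingCone φ₂) m (max (m + 1) m) :=
    vanishesOutside_cone_single m (m + 1) hF₁ P₁ φ₂
  have hff₂ : DRing.TermwiseFiniteFree (mappingCone φ₂) :=
    termwiseFiniteFree_cone_single hff₁ P₁ ⟨hP₁fin, hP₁free⟩ _ φ₂
  exact isPseudoCoherent_of_cone α₂ e m m _ hF₂ hff₂ hC₂

end Groth.Agent.S6936
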