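import Groth.Statements.S6935
import Mathlib.Tactic
import Groth.Agent.Lib.Helper43.PCHomology
import Groth.Agent.S6936
-- import your own Groth.Agent.* helpers here

set_option autoImplicit false
universe u
open CategoryTheory CategoryTheory.Limits
attribute [local instance] HasDerivedCategory.standard
open DRing

namespace Groth.Agent.S6935

open DerivedCategory in
/-- `H^0(M[0]) ≅ M` -/
noncomputable def h0Iso (R : Type u) [CommRing R] (M : Type u) [AddCommGroup M] [Module R M] :
    (homologyFunctor (ModuleCat.{u} R) 0).obj (Dual.inD R M) ≅ ModuleCat.of R M :=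
  (singleFunctorCompHomologyFunctorIso (ModuleCat.{u} R) 0).app (ModuleCat.of R M)

open DerivedCategory in
lemma isZero_hi (R : Type u) [CommRing R] (M : Type u) [AddCommGroup M] [Module R M] (i : ℤ)
    (hi : i ≠ 0) : IsZero ((homologyFunctor (ModuleCat.{u} R) i).obj (Dual.inD R M)) := by
  rcases lt_or_gt_of_ne hi with h | h
  · exact isZero_of_isGE (Dual.inD R M) 0 i h
  · exact isZero_of_isLE (Dual.inD R M) 0 i h

/-- Let R be a commutative ring and M an R-module, viewed as the complex M[0] in D(R). Then M[0] is
0-pseudo-coherent exactly when M is finitely generated over R, and M[0] is (-1)-pseudo-coherent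
exactly when M admits a finite presentation over R. -/
theorem result (R : Type u) [CommRing R]
    (M : Type u) [AddCommGroup M] [Module R M] :
    (DRing.IsPseudoCoherentModule R 0 M ↔ Module.Finite R M) ∧
      (DRing.IsPseudoCoherentModule R (-1) M ↔ Module.FinitePresentation R M) := by
  open Groth.Agent.Lib.Helper43 in
  have e := (h0Iso R M).toLinearEquiv
  have hsub : ∀ i : ℤ, i ≠ 0 → Subsingleton (Dual.HD R (Dual.inD R M) i) := fun i hi =>
    ModuleCat.subsingleton_of_isZero (isZero_hi R M i hi)
  refine ⟨⟨fun h => ?_, fun h => ?_⟩, ⟨fun h => ?_, fun h => ?_⟩⟩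
  · haveI := PCHomology.finite_homology_of_isPseudoCoherent (Dual.inD R M) 0 h
      (fun i hi => isZero_hi R M i (by lia))
    exact Module.Finite.equiv e
  · refine Groth.Agent.S6936.result R 0 (Dual.inD R M) (fun i hi => hsub i (by lia)) ?_ ?_
    · haveI := hsub (0 + 1) (by lia)
      infer_instance
    · exact Module.Finite.equiv e.symm
  · have h1 := PCHomology.finitePresentation_homology_of_isPseudoCoherent (Dual.inD R M) (-1) h
      (fun i hi => isZero_hi R M i (by lia))
    rw [show (-1 : ℤ) + 1 = 0 from by norm_num] at h1
    exact Module.FinitePresentation.of_equiv e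
  · refine Groth.Agent.S6936.result R (-1) (Dual.inD R M) (fun i hi => hsub i (by lia)) ?_ ?_
    · rw [show (-1 : ℤ) + 1 = 0 from by norm_num]
      exact Module.FinitePresentation.of_equiv e.symm
    · haveI := hsub (-1) (by lia)
      infer_instance

end Groth.Agent.S6935
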