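import Groth.Statements.S6947
import Mathlib.Tactic
import Groth.Agent.Lib.Helper43.TorRestrict
import Groth.Agent.Lib.Helper84.FlatAmpTri
import Groth.Agent.Lib.Helper15.PseudoCohRes
-- import your own Groth.Agent.* helpers here

set_option autoImplicit false
universe u
open CategoryTheory CategoryTheory.Limits
attribute [local instance] HasDerivedCategory.standard
open DRing

namespace Groth.Agent.S6947

/-- Let A → B be a homomorphism of commutative rings such that B, as an A-module, has tor dimension at
most d: B[0] is isomorphic in D(A) to a complex of flat A-modules vanishing outside [-d, 0]. Let K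
be an object of D(B) with tor amplitude in [a, b] over B. Then K, with scalars restricted to A, has
tor amplitude in [a - d, b] over A. -/
theorem result {A B : Type u} [CommRing A] [CommRing B]
    [Algebra A B] (d : ℕ) (hB : DRing.HasTorAmplitudeIn A (-(d : ℤ)) 0 (Dual.inD A B)) (K : Dual.D B)
    (a b : ℤ) (hK : DRing.HasTorAmplitudeIn B a b K) :
    DRing.HasTorAmplitudeIn A (a - d) b ((DRing.restrictD (algebraMap A B)).obj K) := by
  have hB' : ∀ (N : ModuleCat.{u} A) (p : ℕ), d < p →
      IsZero (Groth.Agent.Lib.Helper43.TorDim.T p (ModuleCat.of A B) N) :=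
    Groth.Agent.Lib.Helper43.TorDim.isZero_T_of_hasTorAmplitudeIn_single (ModuleCat.of A B) d hB
  obtain ⟨F, hF, hFflat, ⟨e⟩⟩ := hK
  let G : DRing.Cx A := (DRing.restrictCx (algebraMap A B)).obj F
  have hG : DRing.VanishesOutside G a b := fun i hi =>
    Functor.map_isZero (ModuleCat.restrictScalars.{u} (algebraMap A B)) (hF i hi)
  have htor : DRing.HasTorAmplitudeIn A (a - d) b (DRing.toD G) := by
    refine Groth.Agent.Lib.Helper84.FlatAmp.torAmp_of_bounded_complex (a - d) b G a b hG ?_
    intro i
    by_cases hi : a ≤ i ∧ i ≤ b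
    · haveI : Module.Flat B (F.X i) := hFflat i
      have h1 := Groth.Agent.Lib.Helper43.TorDim.hasTorAmplitudeIn_single_of_isZero_T
        ((Groth.Agent.Lib.Helper68.TorBaseChange.res A B).obj (F.X i)) d
        (fun N p hp => Groth.Agent.Lib.Helper43.TorRestrict.isZero_T_res_of_flat d hB' (F.X i) N p hp)
      exact Groth.Agent.Lib.Helper84.FlatAmp.torAmp_mono h1 (by lia) (by lia)
    · have hi' : i < a ∨ b < i := by
        by_contra hcon
        push_neg at hcon
        exact hi ⟨hcon.1, hcon.2⟩
      exact Groth.Agent.Lib.Helper84.FlatAmp.torAmp_of_isZero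
        (Functor.map_isZero _ (hG i hi')) _ _
  exact Groth.Agent.Lib.Helper84.FlatAmp.torAmp_of_iso htor
    ((Groth.Agent.Lib.Helper15.PseudoCohRes.restrictDQIso (algebraMap A B) F).symm ≪≫
      (DRing.restrictD (algebraMap A B)).mapIso e)

end Groth.Agent.S6947
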