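import Groth.Statements.S2087
import Mathlib.Tactic
import Groth.Agent.Lib.Helper43.PCDescent
import Mathlib.RingTheory.Localization.Finiteness
import Mathlib.RingTheory.Localization.BaseChange
import Mathlib.RingTheory.LocalProperties.Submodule
import Mathlib.RingTheory.RingHom.Flat
-- import your own Groth.Agent.* helpers here

set_option autoImplicit false
universe u
open CategoryTheory
attribute [local instance] HasDerivedCategory.standard
open CAlg

namespace Groth.Agent.S2087

open DerivedCategory Groth.Agent.Lib.Helper43 Groth.Agent.Lib.Helper84 Groth.Agent.Lib.Helper15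
  Groth.Agent.Lib.Helper84.FlatBC TensorProduct CategoryTheory.Limits

/-- translation of finiteness to the canonical tensor product -/
lemma finite_tensor_of_ext {A B : Type u} [CommRing A] [CommRing B] [alg : Algebra A B]
    (M : ModuleCat.{u} A) (h : Module.Finite B ((ext (algebraMap A B)).obj M)) :
    Module.Finite B (B ⊗[A] M) := by
  obtain ⟨f, hf⟩ : ∃ f : A →+* B, alg = f.toAlgebra :=
    ⟨algebraMap A B, Algebra.algebra_ext _ _ (fun r => rfl)⟩
  subst hf
  exact h

/-- translation of vanishing to the canonical tensor product -/
lemma subsingleton_tensor_of_ext {A B : Type u} [CommRing A] [CommRing B] [alg : Algebra A B]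
    (M : ModuleCat.{u} A) (h : IsZero ((ext (algebraMap A B)).obj M)) :
    Subsingleton (B ⊗[A] M) := by
  obtain ⟨f, hf⟩ : ∃ f : A →+* B, alg = f.toAlgebra :=
    ⟨algebraMap A B, Algebra.algebra_ext _ _ (fun r => rfl)⟩
  subst hf
  exact ModuleCat.subsingleton_of_isZero h

/-- `m`-pseudo-coherence of a complex of `R`-modules may be checked after base change to each `R_{f_i}`
for finitely many `f_i` generating the unit ideal (the base change is taken termwise on a chosen
complex, which is the derived base change since `R → R_{f_i}` is flat). -/
theorem result {R : Type u} [CommRing R] {r : ℕ} (f : Fin r → R)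
    (hf : Ideal.span (Set.range f) = ⊤) (K : DRing.Cx R) (m : ℤ)
    (hK : ∀ i, DRing.IsPseudoCoherent (Localization.Away (f i)) m
      (DRing.toD (((ModuleCat.extendScalars (algebraMap R (Localization.Away (f i)))).mapHomologicalComplex
        (ComplexShape.up ℤ)).obj K))) :
    DRing.IsPseudoCoherent R m (DRing.toD K) := by
  classical
  haveI : ∀ i, PreservesFiniteLimits (ext (algebraMap R (Localization.Away (f i)))) := fun i =>
    preservesFiniteLimits_ext _ (RingHom.flat_algebraMap_iff.2
      (IsLocalization.flat (Localization.Away (f i)) (Submonoid.powers (f i))))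
  -- uniform bound
  have hb : ∀ i, ∃ n : ℤ, (DRing.toD ((extCx (algebraMap R (Localization.Away (f i)))).obj K)).IsLE n :=
    fun i => PseudoCoh.isLE_of_isPseudoCoherent (hK i)
  choose n hn using hb
  let N : ℤ := ∑ i, |n i|
  have hN : ∀ i, n i ≤ N := fun i =>
    (le_abs_self (n i)).trans (Finset.single_le_sum (f := fun i => |n i|)
      (fun j _ => abs_nonneg (n j)) (Finset.mem_univ i))
  have span' : Ideal.span (Set.range f) = ⊤ := hf
  refine PCDescent.descent (T := Fin r) (fun i => Localization.Away (f i))
    (fun i => algebraMap R (Localization.Away (f i))) ?_ ?_ K m N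
    (fun i j hj => by
      haveI := hn i
      exact isZero_of_isLE _ (n i) j (lt_of_le_of_lt (hN i) hj)) hK
  · intro M hM
    haveI : Subsingleton M := by
      refine ⟨fun x y => ?_⟩
      refine Module.eq_of_isLocalized_span (Set.range f) span'
        (fun g => Localization.Away g.1 ⊗[R] M)
        (fun g => TensorProduct.mk R (Localization.Away g.1) M 1) x y ?_
      rintro ⟨_, i, rfl⟩
      haveI := subsingleton_tensor_of_ext (B := Localization.Away (f i)) M (hM i)
      exact Subsingleton.elim _ _
    exact ModuleCat.isZero_of_subsingleton M
  · intro M hM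
    refine Module.Finite.of_localizationSpan' (Set.range f) span'
      (Mₚ := fun g => Localization.Away g.1 ⊗[R] M) (Rₚ := fun g => Localization.Away g.1)
      (fun g => TensorProduct.mk R (Localization.Away g.1) M 1) ?_
    rintro ⟨_, i, rfl⟩
    exact finite_tensor_of_ext (B := Localization.Away (f i)) M (hM i)

end Groth.Agent.S2087
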