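import Groth.Statements.S6304
import Mathlib

set_option autoImplicit false
universe u
open CAlg

namespace Groth.Agent.S6304

/-- In a short exact sequence 0 → M' → M → M'' → 0 of R-modules whose right-hand term M'' is flat, the
middle term M is flat when M' is, and M' is flat when M is. -/
theorem result {R : Type u} [CommRing R] {M' M M'' : Type u} [AddCommGroup M'] [Module R M'] [AddCommGroup M] [Module R M] [AddCommGroup M''] [Module R M''] (f : M' →ₗ[R] M) (g : M →ₗ[R] M'') (hf : Function.Injective f) (hexact : Function.Exact f g) (hg : Function.Surjective g) [Module.Flat R M''] : (Module.Flat R M' → Module.Flat R M) ∧ (Module.Flat R M → Module.Flat R M') := by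
  have key : ∀ (A : Type u) [AddCommGroup A] [Module R A], Function.Injective (f.lTensor A) :=
    fun A _ _ => LinearMap.lTensor_injective_of_exact_of_flat g hg f hf hexact A
  constructor
  · intro hM'
    rw [Module.Flat.iff_rTensor_preserves_injective_linearMap]
    intro A B _ _ _ _ φ hφ
    rw [injective_iff_map_eq_zero]
    intro x hx
    have h1 : (φ.rTensor M'') (g.lTensor A x) = 0 := by
      rw [← LinearMap.comp_apply, LinearMap.rTensor_comp_lTensor, ← LinearMap.lTensor_comp_rTensor,
        LinearMap.comp_apply, hx, map_zero]
    have h2 : g.lTensor A x = 0 :=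
      (injective_iff_map_eq_zero _).mp
        (Module.Flat.rTensor_preserves_injective_linearMap (M := M'') φ hφ) _ h1
    obtain ⟨y, rfl⟩ := (lTensor_exact A hexact hg x).mp h2
    have h3 : f.lTensor B (φ.rTensor M' y) = 0 := by
      rw [← LinearMap.comp_apply, LinearMap.lTensor_comp_rTensor, ← LinearMap.rTensor_comp_lTensor,
        LinearMap.comp_apply, hx]
    have h4 : φ.rTensor M' y = 0 := (injective_iff_map_eq_zero _).mp (key B) _ h3
    have h5 : y = 0 := (injective_iff_map_eq_zero _).mp
        (Module.Flat.rTensor_preserves_injective_linearMap (M := M') φ hφ) _ h4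
    rw [h5, map_zero]
  · intro hM
    rw [Module.Flat.iff_rTensor_preserves_injective_linearMap]
    intro A B _ _ _ _ φ hφ
    rw [injective_iff_map_eq_zero]
    intro y hy
    have h1 : φ.rTensor M (f.lTensor A y) = 0 := by
      rw [← LinearMap.comp_apply, LinearMap.rTensor_comp_lTensor, ← LinearMap.lTensor_comp_rTensor,
        LinearMap.comp_apply, hy, map_zero]
    have h2 : f.lTensor A y = 0 := (injective_iff_map_eq_zero _).mp
        (Module.Flat.rTensor_preserves_injective_linearMap (M := M) φ hφ) _ h1
    exact (injective_iff_map_eq_zero _).mp (key A) _ h2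

end Groth.Agent.S6304
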