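import Groth.Statements.S9272
import Mathlib
import Groth.Agent.Lib.Helper3.QuasiRegular
import Groth.Agent.S6304

set_option autoImplicit false
universe u
open CAlgX

namespace Groth.Agent.S9272
open TensorProduct Function MvPolynomial

section generic

variable {B : Type u} [CommRing B] {r : ℕ} (f : Fin r → B) (n : ℕ)

/-- exponent vectors of degree `n` -/
abbrev Mn (r n : ℕ) : Type := ↥((Finset.univ : Finset (Fin r)).finsuppAntidiag n)

theorem mem_Mn_iff {d : Fin r →₀ ℕ} :
    d ∈ (Finset.univ : Finset (Fin r)).finsuppAntidiag n ↔ d.degree = n := by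
  rw [Finset.mem_finsuppAntidiag, Finsupp.degree_eq_sum]
  simp

theorem Mn_degree (d : Mn r n) : d.1.degree = n := (mem_Mn_iff n).mp d.2

/-- the monomial in `f` -/
def mon (d : Fin r →₀ ℕ) : B := d.prod fun i e => f i ^ e

theorem mon_mem (d : Fin r →₀ ℕ) : mon f d ∈ Ideal.span (Set.range f) ^ d.degree := by
  rw [mon, Finsupp.prod, Finsupp.degree_apply]
  generalize d.support = s
  induction s using Finset.induction_on with
  | empty => simp
  | insert a s ha ih =>
    rw [Finset.prod_insert ha, Finset.sum_insert ha, pow_add]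
    exact Ideal.mul_mem_mul (Ideal.pow_mem_pow (Ideal.subset_span (Set.mem_range_self a)) _) ih

/-- the relation map -/
noncomputable def Θ : (Mn r n → B) →ₗ[B] B :=
  Fintype.linearCombination B (fun d : Mn r n => mon f d.1)

theorem Θ_apply (c : Mn r n → B) : Θ f n c = ∑ d, c d * mon f d.1 := by
  simp [Θ, Fintype.linearCombination_apply]

theorem Θ_mem (c : Mn r n → B) : Θ f n c ∈ Ideal.span (Set.range f) ^ n := by
  rw [Θ_apply]
  refine Ideal.sum_mem _ fun d _ => Ideal.mul_mem_left _ _ ?_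
  have := mon_mem f d.1
  rwa [Mn_degree] at this

/-- the polynomial with given coefficients -/
noncomputable def poly (c : Mn r n → B) : MvPolynomial (Fin r) B := ∑ d, monomial d.1 (c d)

theorem poly_hom (c : Mn r n → B) : (poly n c).IsHomogeneous n :=
  IsHomogeneous.sum _ _ _ fun d _ => isHomogeneous_monomial _ (Mn_degree n d)

theorem eval_poly (c : Mn r n → B) : eval f (poly n c) = Θ f n c := by
  rw [poly, map_sum, Θ_apply]
  refine Finset.sum_congr rfl fun d _ => ?_
  rw [eval_monomial]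
  rfl

theorem coeff_poly (c : Mn r n → B) (d : Mn r n) : coeff d.1 (poly n c) = c d := by
  classical
  rw [poly, coeff_sum]
  simp only [coeff_monomial]
  rw [Finset.sum_eq_single d]
  · simp
  · intro b _ hb
    rw [if_neg]
    intro h
    exact hb (Subtype.ext h)
  · intro h; exact absurd (Finset.mem_univ d) h

theorem poly_coeff (P : MvPolynomial (Fin r) B) (hP : P.IsHomogeneous n) :
    poly n (fun d : Mn r n => coeff d.1 P) = P := by
  classical
  ext d
  by_cases hd : d.degree = n
  · exact coeff_poly n _ ⟨d, (mem_Mn_iff n).mpr hd⟩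
  · rw [hP.coeff_eq_zero hd, (poly_hom n _).coeff_eq_zero hd]

theorem exists_poly_of_mem_pow : ∀ (n : ℕ) (x : B), x ∈ Ideal.span (Set.range f) ^ n →
    ∃ P : MvPolynomial (Fin r) B, P.IsHomogeneous n ∧ eval f P = x := by
  intro n
  induction n with
  | zero =>
    intro x _
    exact ⟨C x, isHomogeneous_C _ _, by simp⟩
  | succ n ih =>
    intro x hx
    obtain ⟨y, hy, rfl⟩ := Groth.Agent.Lib.Helper3.QReg.exists_sum_of_mem_pow_succ f n hx
    choose P hP hPe using fun i => ih (y i) (hy i)
    refine ⟨∑ i, X i * P i, IsHomogeneous.sum _ _ _ fun i _ => ?_, ?_⟩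
    · rw [add_comm]
      exact (isHomogeneous_X _ i).mul (hP i)
    · simp [hPe]

theorem exists_c_of_mem_pow (x : B) (hx : x ∈ Ideal.span (Set.range f) ^ n) :
    ∃ c : Mn r n → B, Θ f n c = x := by
  obtain ⟨P, hP, rfl⟩ := exists_poly_of_mem_pow f n x hx
  exact ⟨fun d => coeff d.1 P, by rw [← eval_poly, poly_coeff n P hP]⟩

theorem qr_c (hq : CAlgX.IsQuasiRegular f) (c : Mn r n → B)
    (h : Θ f n c ∈ Ideal.span (Set.range f) ^ (n + 1)) (d : Mn r n) :
    c d ∈ Ideal.span (Set.range f) := by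
  have := hq n (poly n c) (poly_hom n c) (by rw [eval_poly]; exact h) d.1
  rwa [coeff_poly] at this

end generic


section modules

variable (A : Type u) {B : Type u} [CommRing A] [CommRing B] [Algebra A B] {r : ℕ}
  (f : Fin r → B) (n : ℕ)

/-- coefficient vectors with entries in `J` -/
def JV : Submodule A (Mn r n → B) :=
  Submodule.pi Set.univ fun _ => (Ideal.span (Set.range f)).restrictScalars A

theorem mem_JV {c : Mn r n → B} : c ∈ JV A f n ↔ ∀ d, c d ∈ Ideal.span (Set.range f) := by
  simp [JV, Submodule.mem_pi]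

/-- `c ↦ Σ c_d f^d mod J^(n+1)` -/
noncomputable def ΘQ : (Mn r n → B) →ₗ[A] B ⧸ Ideal.span (Set.range f) ^ (n + 1) :=
  (Ideal.Quotient.mkₐ A (Ideal.span (Set.range f) ^ (n + 1))).toLinearMap ∘ₗ
    (Θ f n).restrictScalars A

theorem ΘQ_apply (c : Mn r n → B) :
    ΘQ A f n c = Ideal.Quotient.mk (Ideal.span (Set.range f) ^ (n + 1)) (Θ f n c) := rfl

theorem JV_le_ker : JV A f n ≤ LinearMap.ker (ΘQ A f n) := by
  intro c hc
  rw [LinearMap.mem_ker, ΘQ_apply, Ideal.Quotient.eq_zero_iff_mem, Θ_apply, pow_succ']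
  refine Ideal.sum_mem _ fun d _ => Ideal.mul_mem_mul ((mem_JV A f n).mp hc d) ?_
  have := mon_mem f d.1
  rwa [Mn_degree] at this

/-- the induced map on `V/JV` -/
noncomputable def θbar : ((Mn r n → B) ⧸ JV A f n) →ₗ[A] B ⧸ Ideal.span (Set.range f) ^ (n + 1) :=
  (JV A f n).liftQ (ΘQ A f n) (JV_le_ker A f n)

/-- the projection `B/J^(n+1) → B/J^n` -/
noncomputable def πn : (B ⧸ Ideal.span (Set.range f) ^ (n + 1)) →ₗ[A]
    B ⧸ Ideal.span (Set.range f) ^ n :=
  (Ideal.Quotient.factorₐ A (Ideal.pow_le_pow_right (Nat.le_succ n))).toLinearMap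

theorem θbar_injective (hq : CAlgX.IsQuasiRegular f) : Injective (θbar A f n) := by
  rw [injective_iff_map_eq_zero]
  intro x hx
  obtain ⟨c, rfl⟩ := Submodule.mkQ_surjective _ x
  rw [Submodule.mkQ_apply, θbar, Submodule.liftQ_apply, ΘQ_apply,
    Ideal.Quotient.eq_zero_iff_mem] at hx
  rw [Submodule.mkQ_apply, Submodule.Quotient.mk_eq_zero, mem_JV]
  exact qr_c f n hq c hx

theorem exact_θbar_πn : Exact (θbar A f n) (πn A f n) := by
  intro y
  obtain ⟨b, rfl⟩ := Ideal.Quotient.mk_surjective y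
  constructor
  · intro h
    have hb : b ∈ Ideal.span (Set.range f) ^ n := Ideal.Quotient.eq_zero_iff_mem.mp h
    obtain ⟨c, rfl⟩ := exists_c_of_mem_pow f n b hb
    exact ⟨Submodule.Quotient.mk c, rfl⟩
  · rintro ⟨x, hx⟩
    obtain ⟨c, rfl⟩ := Submodule.mkQ_surjective _ x
    rw [Submodule.mkQ_apply, θbar, Submodule.liftQ_apply, ΘQ_apply] at hx
    rw [← hx]
    exact Ideal.Quotient.eq_zero_iff_mem.mpr (Θ_mem f n c)

theorem πn_surjective : Surjective (πn A f n) := by
  intro y
  obtain ⟨b, rfl⟩ := Ideal.Quotient.mk_surjective y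
  exact ⟨Ideal.Quotient.mk _ b, rfl⟩

theorem flat_W [Module.Flat A (B ⧸ Ideal.span (Set.range f))] :
    Module.Flat A ((Mn r n → B) ⧸ JV A f n) := by
  classical
  have e1 : ((Mn r n → B) ⧸ JV A f n) ≃ₗ[A]
      (Mn r n → B ⧸ (Ideal.span (Set.range f)).restrictScalars A) :=
    Submodule.quotientPi _
  have e2 : (DirectSum (Mn r n) fun _ => B ⧸ (Ideal.span (Set.range f)).restrictScalars A) ≃ₗ[A]
      (Mn r n → B ⧸ (Ideal.span (Set.range f)).restrictScalars A) :=
    DirectSum.linearEquivFunOnFintype A _ _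
  have : Module.Flat A (B ⧸ (Ideal.span (Set.range f)).restrictScalars A) :=
    Module.Flat.of_linearEquiv
      (Submodule.Quotient.restrictScalarsEquiv A (Ideal.span (Set.range f)))
  exact Module.Flat.of_linearEquiv (e1.trans e2.symm)

theorem flat_pow [Module.Flat A (B ⧸ Ideal.span (Set.range f))] (hq : CAlgX.IsQuasiRegular f) :
    ∀ n, Module.Flat A (B ⧸ Ideal.span (Set.range f) ^ n) := by
  intro n
  induction n with
  | zero =>
    have : Subsingleton (B ⧸ Ideal.span (Set.range f) ^ 0) := by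
      rw [pow_zero, Ideal.one_eq_top]
      exact Ideal.Quotient.subsingleton_iff.mpr rfl
    infer_instance
  | succ n ih =>
    have := ih
    have := flat_W A f n
    exact (Groth.Agent.S6304.result (θbar A f n) (πn A f n) (θbar_injective A f n hq)
      (exact_θbar_πn A f n) (πn_surjective A f n)).1 inferInstance

end modules

section baseChange

variable (A B A' : Type u) [CommRing A] [CommRing B] [CommRing A'] [Algebra A B] [Algebra A A']
  {r : ℕ} (f : Fin r → B) (n : ℕ)

theorem mon_tmul (d : Fin r →₀ ℕ) :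
    mon (fun i => ((1 : A') ⊗ₜ[A] f i : A' ⊗[A] B)) d = (1 : A') ⊗ₜ[A] mon f d := by
  have h : ∀ b : B, ((1 : A') ⊗ₜ[A] b : A' ⊗[A] B) =
      (Algebra.TensorProduct.includeRight : B →ₐ[A] A' ⊗[A] B) b := fun _ => rfl
  simp only [mon, h, ← map_pow]
  rw [Finsupp.prod, Finsupp.prod, map_prod]

theorem span_range_tmul :
    Ideal.span (Set.range fun i => ((1 : A') ⊗ₜ[A] f i : A' ⊗[A] B)) =
      (Ideal.span (Set.range f)).map
        (Algebra.TensorProduct.includeRight : B →ₐ[A] A' ⊗[A] B) := by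
  rw [Ideal.map_span, ← Set.range_comp]
  rfl

theorem key_sum (z : A' ⊗[A] (Mn r n → B)) :
    LinearMap.lTensor A' ((Θ f n).restrictScalars A) z =
      Θ (fun i => ((1 : A') ⊗ₜ[A] f i : A' ⊗[A] B)) n
        (TensorProduct.piRight A A A' (fun _ : Mn r n => B) z) := by
  rw [Θ_apply]
  induction z using TensorProduct.induction_on with
  | zero => simp
  | add x y hx hy =>
    simp only [map_add, hx, hy, Pi.add_apply, add_mul, Finset.sum_add_distrib]
  | tmul a v =>
    simp only [LinearMap.lTensor_tmul, LinearMap.restrictScalars_apply, Θ_apply,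
      TensorProduct.piRight_apply, TensorProduct.piRightHom_tmul, TensorProduct.tmul_sum,
      mon_tmul, Algebra.TensorProduct.tmul_mul_tmul, mul_one]

theorem piRight_mem (y : A' ⊗[A] (JV A f n)) (d : Mn r n) :
    TensorProduct.piRight A A A' (fun _ : Mn r n => B)
        (LinearMap.lTensor A' (JV A f n).subtype y) d ∈
      Ideal.span (Set.range fun i => ((1 : A') ⊗ₜ[A] f i : A' ⊗[A] B)) := by
  induction y using TensorProduct.induction_on with
  | zero => simp
  | add x y hx hy =>
    rw [map_add, map_add, Pi.add_apply]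
    exact add_mem hx hy
  | tmul a c =>
    rw [LinearMap.lTensor_tmul, TensorProduct.piRight_apply, TensorProduct.piRightHom_tmul,
      span_range_tmul]
    have h1 : (a ⊗ₜ[A] (c : Mn r n → B) d : A' ⊗[A] B) =
        (a ⊗ₜ[A] (1 : B)) * (Algebra.TensorProduct.includeRight : B →ₐ[A] A' ⊗[A] B)
          ((c : Mn r n → B) d) := by
      simp [Algebra.TensorProduct.tmul_mul_tmul]
    change (a ⊗ₜ[A] (c : Mn r n → B) d : A' ⊗[A] B) ∈ _
    rw [h1]
    exact Ideal.mul_mem_left _ _ (Ideal.mem_map_of_mem _ ((mem_JV A f n).mp c.2 d))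

theorem main (hflat : Module.Flat A (B ⧸ Ideal.span (Set.range f))) (hq : CAlgX.IsQuasiRegular f) :
    CAlgX.IsQuasiRegular (fun i => ((1 : A') ⊗ₜ[A] f i : TensorProduct A A' B)) := by
  intro n P' hP' hev d₀
  set f' : Fin r → A' ⊗[A] B := fun i => (1 : A') ⊗ₜ[A] f i with hf'
  set J := Ideal.span (Set.range f) with hJ
  have := hflat
  have : Module.Flat A (B ⧸ J ^ n) := flat_pow A f hq n
  -- coefficient vector
  set c' : Mn r n → A' ⊗[A] B := fun d => coeff d.1 P' with hc'
  set Ψ := TensorProduct.piRight A A A' (fun _ : Mn r n => B) with hΨ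
  obtain ⟨z, hz⟩ := Ψ.surjective c'
  -- it suffices to treat `d₀` of degree `n`
  by_cases hd₀ : d₀.degree = n
  swap
  · rw [hP'.coeff_eq_zero hd₀]; exact zero_mem _
  have hcoeff : coeff d₀ P' = c' ⟨d₀, (mem_Mn_iff n).mpr hd₀⟩ := rfl
  rw [hcoeff, ← hz]
  -- the evaluation lies in `J'^(n+1)`
  have h1 : Θ f' n c' ∈ Ideal.span (Set.range f') ^ (n + 1) := by
    rw [← eval_poly, poly_coeff n P' hP']; exact hev
  rw [← hz, ← key_sum, span_range_tmul, ← Ideal.map_pow] at h1
  have h2 : LinearMap.lTensor A' ((Θ f n).restrictScalars A) z ∈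
      LinearMap.range (LinearMap.lTensor A' (Submodule.subtype ((J ^ (n + 1)).restrictScalars A))) := by
    rw [← Ideal.map_includeRight_eq]; exact h1
  -- hence it dies in `A' ⊗ B/J^(n+1)`
  have h3 : LinearMap.lTensor A' (ΘQ A f n) z = 0 := by
    obtain ⟨w, hw⟩ := h2
    rw [ΘQ, LinearMap.lTensor_comp, LinearMap.comp_apply, ← hw, ← LinearMap.comp_apply,
      ← LinearMap.lTensor_comp]
    have : (Ideal.Quotient.mkₐ A (J ^ (n + 1))).toLinearMap ∘ₗ
        Submodule.subtype ((J ^ (n + 1)).restrictScalars A) = 0 := by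
      ext x
      exact Ideal.Quotient.eq_zero_iff_mem.mpr x.2
    rw [this, LinearMap.lTensor_zero, LinearMap.zero_apply]
  have h4 : LinearMap.lTensor A' (θbar A f n) (LinearMap.lTensor A' (JV A f n).mkQ z) = 0 := by
    rw [← LinearMap.comp_apply, ← LinearMap.lTensor_comp, θbar, Submodule.liftQ_mkQ]
    exact h3
  have hinj : Injective (LinearMap.lTensor A' (θbar A f n)) :=
    LinearMap.lTensor_injective_of_exact_of_flat (πn A f n) (πn_surjective A f n)
      (θbar A f n) (θbar_injective A f n hq) (exact_θbar_πn A f n) A'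
  have h5 : LinearMap.lTensor A' (JV A f n).mkQ z = 0 := hinj (h4.trans (map_zero _).symm)
  obtain ⟨y, rfl⟩ := (lTensor_exact A' (LinearMap.exact_subtype_mkQ (JV A f n))
    (Submodule.mkQ_surjective _) z).mp h5
  exact piRight_mem A B A' f n y _

end baseChange
end Groth.Agent.S9272

namespace Groth.Agent.S9272

/-- Let A → B and A → A' be ring maps and B' = A' ⊗_A B. If f_1, ..., f_r is a quasi-regular sequence in
B with B/(f_1, ..., f_r) flat over A, then the images of the f_i in B' form a quasi-regular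
sequence. -/
theorem result (A B A' : Type u) [CommRing A] [CommRing B]
    [CommRing A'] [Algebra A B] [Algebra A A'] (r : ℕ) (f : Fin r → B)
    (hflat : Module.Flat A (B ⧸ Ideal.span (Set.range f))) (hq : CAlgX.IsQuasiRegular f) :
    CAlgX.IsQuasiRegular (fun i => ((1 : A') ⊗ₜ[A] f i : TensorProduct A A' B)) := by
  exact main A B A' f hflat hq

end Groth.Agent.S9272
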