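import Groth.Statements.S14623
import Mathlib.CategoryTheory.Functor.Derived.Adjunction
import Mathlib.CategoryTheory.Adjunction.Restrict
import Mathlib.CategoryTheory.Functor.Derived.PointwiseLeftDerived

set_option autoImplicit false
open CategoryTheory CategoryTheory.Limits
universe w v u
open CohDer

namespace Groth.Agent.S14623

section homotopy

variable {A B : Type u} [Category.{v} A] [Category.{v} B] [Preadditive A] [Preadditive B]
  {L : A ⥤ B} {R : B ⥤ A} (adj : L ⊣ R) [L.Additive] [R.Additive]
  {ι : Type*} (c : ComplexShape ι)

/-- unit on complexes -/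
def unitApp (K : HomologicalComplex A c) :
    K ⟶ (R.mapHomologicalComplex c).obj ((L.mapHomologicalComplex c).obj K) where
  f i := adj.unit.app (K.X i)
  comm' i j _ := (adj.unit.naturality (K.d i j)).symm

/-- counit on complexes -/
def counitApp (M : HomologicalComplex B c) :
    (L.mapHomologicalComplex c).obj ((R.mapHomologicalComplex c).obj M) ⟶ M where
  f i := adj.counit.app (M.X i)
  comm' i j _ := (adj.counit.naturality (M.d i j)).symm

theorem unitApp_naturality {K K' : HomologicalComplex A c} (φ : K ⟶ K') :
    φ ≫ unitApp adj c K' =
      unitApp adj c K ≫ (R.mapHomologicalComplex c).map ((L.mapHomologicalComplex c).map φ) := by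
  ext i
  dsimp [unitApp]
  exact adj.unit.naturality (φ.f i)

theorem counitApp_naturality {M M' : HomologicalComplex B c} (φ : M ⟶ M') :
    (L.mapHomologicalComplex c).map ((R.mapHomologicalComplex c).map φ) ≫ counitApp adj c M' =
      counitApp adj c M ≫ φ := by
  ext i
  dsimp [counitApp]
  exact adj.counit.naturality (φ.f i)

theorem left_triangle_app (K : HomologicalComplex A c) :
    (L.mapHomologicalComplex c).map (unitApp adj c K) ≫
      counitApp adj c ((L.mapHomologicalComplex c).obj K) = 𝟙 _ := by
  ext i
  dsimp [unitApp, counitApp]
  exact adj.left_triangle_components (K.X i)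

theorem right_triangle_app (M : HomologicalComplex B c) :
    unitApp adj c ((R.mapHomologicalComplex c).obj M) ≫
      (R.mapHomologicalComplex c).map (counitApp adj c M) = 𝟙 _ := by
  ext i
  dsimp [unitApp, counitApp]
  exact adj.right_triangle_components (M.X i)

/-- the adjunction on homotopy categories -/
def adjH : L.mapHomotopyCategory c ⊣ R.mapHomotopyCategory c where
  unit :=
    { app := fun X => (HomotopyCategory.quotient A c).map (unitApp adj c X.as)
      naturality := by
        intro X Y f
        obtain ⟨K, rfl⟩ := HomotopyCategory.quotient_obj_surjective X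
        obtain ⟨K', rfl⟩ := HomotopyCategory.quotient_obj_surjective Y
        obtain ⟨φ, rfl⟩ := (HomotopyCategory.quotient A c).map_surjective f
        show (HomotopyCategory.quotient A c).map φ ≫
            (HomotopyCategory.quotient A c).map (unitApp adj c K') =
          (HomotopyCategory.quotient A c).map (unitApp adj c K) ≫
            (HomotopyCategory.quotient A c).map
              ((R.mapHomologicalComplex c).map ((L.mapHomologicalComplex c).map φ))
        rw [← Functor.map_comp, ← Functor.map_comp, unitApp_naturality] }
  counit :=
    { app := fun Y => (HomotopyCategory.quotient B c).map (counitApp adj c Y.as)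
      naturality := by
        intro X Y f
        obtain ⟨M, rfl⟩ := HomotopyCategory.quotient_obj_surjective X
        obtain ⟨M', rfl⟩ := HomotopyCategory.quotient_obj_surjective Y
        obtain ⟨φ, rfl⟩ := (HomotopyCategory.quotient B c).map_surjective f
        show (HomotopyCategory.quotient B c).map
              ((L.mapHomologicalComplex c).map ((R.mapHomologicalComplex c).map φ)) ≫
            (HomotopyCategory.quotient B c).map (counitApp adj c M') =
          (HomotopyCategory.quotient B c).map (counitApp adj c M) ≫
            (HomotopyCategory.quotient B c).map φ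
        rw [← Functor.map_comp, ← Functor.map_comp, counitApp_naturality] }
  left_triangle_components := by
    intro X
    obtain ⟨K, rfl⟩ := HomotopyCategory.quotient_obj_surjective X
    show (HomotopyCategory.quotient B c).map ((L.mapHomologicalComplex c).map (unitApp adj c K)) ≫
        (HomotopyCategory.quotient B c).map
          (counitApp adj c ((L.mapHomologicalComplex c).obj K)) = 𝟙 _
    rw [← Functor.map_comp, left_triangle_app]
    exact CategoryTheory.Functor.map_id _ _
  right_triangle_components := by
    intro Y
    obtain ⟨M, rfl⟩ := HomotopyCategory.quotient_obj_surjective Y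
    show (HomotopyCategory.quotient A c).map
          (unitApp adj c ((R.mapHomologicalComplex c).obj M)) ≫
        (HomotopyCategory.quotient A c).map ((R.mapHomologicalComplex c).map (counitApp adj c M)) =
          𝟙 _
    rw [← Functor.map_comp, right_triangle_app]
    exact CategoryTheory.Functor.map_id _ _

end homotopy

section derived

variable {A B : Type u} [Category.{v} A] [Category.{v} B]
    [Abelian A] [Abelian B]
    {L : A ⥤ B} {R : B ⥤ A} (adj : L ⊣ R) [L.Additive] [R.Additive]

/-- the adjunction on bounded below homotopy categories -/
noncomputable def adjPlus : L.mapHomotopyCategoryPlus ⊣ R.mapHomotopyCategoryPlus :=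
  (adjH adj (ComplexShape.up ℤ)).restrictFullyFaithful
    (HomotopyCategory.plus A).fullyFaithfulι (HomotopyCategory.plus B).fullyFaithfulι
    (Iso.refl _) (Iso.refl _)

variable [HasDerivedCategory.{w} A] [HasDerivedCategory.{w} B]

theorem inverts_of_exact [PreservesFiniteLimits L] [PreservesFiniteColimits L] :
    (HomotopyCategory.Plus.quasiIso A).IsInvertedBy
      (L.mapHomotopyCategoryPlus ⋙ DerivedCategory.Plus.Qh) := by
  intro X Y f hf
  apply Localization.inverts DerivedCategory.Plus.Qh (HomotopyCategory.Plus.quasiIso B)
  rw [HomotopyCategory.Plus.quasiIso_iff] at hf ⊢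
  obtain ⟨X, hX⟩ := X
  obtain ⟨Y, hY⟩ := Y
  obtain ⟨K, rfl⟩ := HomotopyCategory.quotient_obj_surjective X
  obtain ⟨K', rfl⟩ := HomotopyCategory.quotient_obj_surjective Y
  obtain ⟨f, rfl⟩ := ObjectProperty.homMk_surjective f
  obtain ⟨φ, rfl⟩ := (HomotopyCategory.quotient A _).map_surjective f
  change HomotopyCategory.quasiIso A _ ((HomotopyCategory.quotient A _).map φ) at hf
  change HomotopyCategory.quasiIso B _
    ((HomotopyCategory.quotient B _).map ((L.mapHomologicalComplex _).map φ))
  rw [HomotopyCategory.quotient_map_mem_quasiIso_iff, HomologicalComplex.mem_quasiIso_iff] at hf ⊢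
  infer_instance

end derived

/-- Let A and B be abelian categories with enough injectives, L : A ⥤ B an exact additive functor and R
: B ⥤ A an additive right adjoint of L. Then on bounded below derived categories the functor induced
by L (written as its total right derived functor, L being exact) is left adjoint to the right
derived functor of R; the existence of an adjunction is asserted. -/
theorem result {A B : Type u} [Category.{v} A] [Category.{v} B]
    [Abelian A] [Abelian B] [HasDerivedCategory.{w} A] [HasDerivedCategory.{w} B]
    [EnoughInjectives A] [EnoughInjectives B] {L : A ⥤ B} {R : B ⥤ A} (adj : L ⊣ R)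
    [L.Additive] [R.Additive] [PreservesFiniteLimits L] [PreservesFiniteColimits L] :
    Nonempty (L.rightDerivedFunctorPlus ⊣ R.rightDerivedFunctorPlus) := by
  have hiso : IsIso L.rightDerivedFunctorPlusUnit :=
    Functor.isIso_of_isRightDerivedFunctor_of_inverts L.rightDerivedFunctorPlus
      L.rightDerivedFunctorPlusUnit (inverts_of_exact (L := L))
  let e₁ : DerivedCategory.Plus.Qh ⋙ L.rightDerivedFunctorPlus ≅
      L.mapHomotopyCategoryPlus ⋙ DerivedCategory.Plus.Qh :=
    (asIso L.rightDerivedFunctorPlusUnit).symm
  haveI h1 : L.rightDerivedFunctorPlus.IsLeftDerivedFunctor e₁.hom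
      (HomotopyCategory.Plus.quasiIso A) :=
    Functor.isLeftDerivedFunctor_of_inverts _ _ e₁
  haveI h2 : (L.rightDerivedFunctorPlus ⋙ R.rightDerivedFunctorPlus).IsLeftDerivedFunctor
      ((Functor.associator _ _ _).inv ≫ Functor.whiskerRight e₁.hom R.rightDerivedFunctorPlus)
      (HomotopyCategory.Plus.quasiIso A) :=
    Functor.isLeftDerivedFunctor_of_inverts _ _
      ((Functor.associator _ _ _).symm ≪≫ Functor.isoWhiskerRight e₁ R.rightDerivedFunctorPlus)
  haveI h3 : (R.rightDerivedFunctorPlus ⋙ L.rightDerivedFunctorPlus).IsRightDerivedFunctor
      (Functor.whiskerRight R.rightDerivedFunctorPlusUnit L.rightDerivedFunctorPlus ≫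
        (Functor.associator _ _ _).hom)
      (HomotopyCategory.Plus.quasiIso B) := by
    apply (HomotopyCategory.Plus.localizerMorphism_derives _).isRightDerivedFunctor_of_isIso
    intro X₁
    simp only [NatTrans.comp_app, Functor.whiskerRight_app, Functor.associator_hom_app,
      Category.comp_id]
    infer_instance
  exact ⟨(adjPlus adj).derived (HomotopyCategory.Plus.quasiIso A)
    (HomotopyCategory.Plus.quasiIso B) e₁.hom R.rightDerivedFunctorPlusUnit⟩

end Groth.Agent.S14623
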