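import Groth.Statements.S7013
import Groth.Agent.Lib.Helper15.LiftCone

set_option autoImplicit false
universe u
open CategoryTheory CategoryTheory.Limits
attribute [local instance] HasDerivedCategory.standard
open DRing

namespace Groth.Agent.S7013

/-- Let R be a commutative ring and I an ideal of R such that the derived base change D(R) → D(R/I)
exists. Let Pc be a class of R-modules closed under isomorphisms such that: (1) every module in Pc
is projective; (2) for P₁ in Pc and any P₂, the sum P₁ ⊕ P₂ is in Pc if and only if P₂ is; (3) every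
homomorphism between modules of Pc which is surjective modulo I is surjective. Let K be an object of
D(R) which is represented by a bounded above complex with terms in Pc, and E a bounded above cochain
complex of R/I-modules, each term isomorphic to P/IP for some P in Pc, which is isomorphic in D(R/I)
to K ⊗^L_R R/I. Then there is a bounded above cochain complex P with terms in Pc which is isomorphic
to K in D(R) and whose termwise reduction modulo I is isomorphic to E as a complex. -/
theorem result (R : Type u) [CommRing R] (I : Ideal R)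
    [DRing.HasLBaseChange (Ideal.Quotient.mk I)]
    (Pc : ObjectProperty (ModuleCat.{u} R)) [Pc.IsClosedUnderIsomorphisms]
    (h1 : ∀ X : ModuleCat.{u} R, Pc X → Module.Projective R X)
    (h2 : ∀ X Y : ModuleCat.{u} R, Pc X → (Pc (ModuleCat.of R (X × Y)) ↔ Pc Y))
    (h3 : ∀ (X Y : ModuleCat.{u} R) (f : X ⟶ Y), Pc X → Pc Y →
      LinearMap.range f.hom ⊔ I • (⊤ : Submodule R Y) = ⊤ → Function.Surjective f.hom)
    (K : Dual.D R) (hK : ∃ (Q : DRing.Cx R) (c : ℤ), DRing.VanishesAbove Q c ∧ (∀ i : ℤ, Pc (Q.X i)) ∧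
      Nonempty (DRing.toD Q ≅ K))
    (E : DRing.Cx (R ⧸ I)) (b : ℤ) (hEb : DRing.VanishesAbove E b)
    (hEt : ∀ i : ℤ, ∃ X : ModuleCat.{u} R, Pc X ∧ Nonempty (TensorProduct R (R ⧸ I) X ≃ₗ[R ⧸ I] E.X i))
    (hE : Nonempty (DRing.toD E ≅ (DRing.LBaseChange (Ideal.Quotient.mk I)).obj K)) :
    ∃ (P : DRing.Cx R) (b' : ℤ), DRing.VanishesAbove P b' ∧ (∀ i : ℤ, Pc (P.X i)) ∧
      Nonempty (DRing.toD P ≅ K) ∧ Nonempty ((((ModuleCat.extendScalars (Ideal.Quotient.mk I)).mapHomologicalComplex (ComplexShape.up ℤ)).obj P) ≅ E) := by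
  classical
  obtain ⟨Qc, c, hQc, hQPc, ⟨iK⟩⟩ := hK
  -- the zero module is in `Pc`
  obtain ⟨X₀, hX₀, -⟩ := hEt 0
  have hPc0 : Pc (ModuleCat.of R PUnit.{u + 1}) := by
    refine (h2 X₀ (ModuleCat.of R PUnit.{u + 1}) hX₀).1 (Pc.prop_of_iso ?_ hX₀)
    exact (LinearEquiv.prodUnique (R := R) (M := X₀) (M₂ := PUnit.{u + 1})).symm.toModuleIso
  -- choose the lifts of the terms
  have hch : ∀ i : ℤ, ∃ X : ModuleCat.{u} R, Pc X ∧
      Nonempty (TensorProduct R (R ⧸ I) X ≃ₗ[R ⧸ I] E.X i) ∧ (b < i → Subsingleton X) := by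
    intro i
    by_cases hi : b < i
    · refine ⟨ModuleCat.of R PUnit.{u + 1}, hPc0, ⟨?_⟩, fun _ => inferInstanceAs (Subsingleton PUnit)⟩
      haveI : Subsingleton (E.X i) := ModuleCat.subsingleton_of_isZero (hEb i hi)
      haveI : Subsingleton (TensorProduct R (R ⧸ I) (ModuleCat.of R PUnit.{u + 1})) :=
        (Groth.Agent.Lib.Helper15.LiftExt.red_surjective I PUnit.{u + 1}).subsingleton
      exact LinearEquiv.ofSubsingleton _ _
    · obtain ⟨X, hX, hX'⟩ := hEt i
      exact ⟨X, hX, hX', fun h => absurd h hi⟩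
  choose Xc hXc he hXs using hch
  let e : ∀ i, TensorProduct R (R ⧸ I) (Xc i) ≃ₗ[R ⧸ I] E.X i := fun i => (he i).some
  -- `E` is K-projective
  haveI : E.IsStrictlyLE b := (CochainComplex.isStrictlyLE_iff _ _).2 (fun i hi => hEb i hi)
  haveI : ∀ n, Projective (E.X n) := fun n => by
    haveI : Module.Projective R (Xc n) := h1 _ (hXc n)
    haveI : Module.Projective (R ⧸ I) (E.X n) := Module.Projective.of_equiv (e n)
    infer_instance
  haveI : E.IsKProjective := CochainComplex.isKProjective_of_projective E b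
  -- the isomorphism in `D(R/I)`
  let iB := Groth.Agent.Lib.Helper15.LBCKFlat.lbcIsoOfFlat (Ideal.Quotient.mk I) Qc c hQc
    (fun q => by
      haveI : Module.Projective R (Qc.X q) := h1 _ (hQPc q)
      infer_instance)
  obtain ⟨iE⟩ := hE
  let α : DRing.toD E ≅ DRing.toD (Groth.Agent.Lib.Helper15.LDerived.extCx (Ideal.Quotient.mk I) Qc) :=
    iE ≪≫ (DRing.LBaseChange (Ideal.Quotient.mk I)).mapIso iK.symm ≪≫ iB
  obtain ⟨δ, hδ⟩ := Groth.Agent.Lib.Helper15.LiftCone.exists_map_eq E _ α.hom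
  have hq : QuasiIso δ := by
    rw [← DerivedCategory.isIso_Q_map_iff_quasiIso, hδ]
    infer_instance
  obtain ⟨P, hPb, hPPc, ⟨iP⟩, hPE⟩ := Groth.Agent.Lib.Helper15.LiftCone.exists_lift
    h1 h2 h3 c hQc hQPc E b Xc hXc hXs e δ hq
  exact ⟨P, b, hPb, hPPc, ⟨iP ≪≫ iK⟩, hPE⟩

end Groth.Agent.S7013
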