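import Groth.Statements.S6941
import Mathlib.Tactic
import Groth.Agent.Lib.Helper43.PCDescent
import Groth.Agent.S2066
import Mathlib.RingTheory.Finiteness.Descent
import Mathlib.RingTheory.Flat.FaithfullyFlat.Basic
-- import your own Groth.Agent.* helpers here

set_option autoImplicit false
universe u
open CategoryTheory CategoryTheory.Limits
attribute [local instance] HasDerivedCategory.standard
open DRing

namespace Groth.Agent.S6941

open DerivedCategory Groth.Agent.Lib.Helper43 Groth.Agent.Lib.Helper84 Groth.Agent.Lib.Helper15
  Groth.Agent.Lib.Helper84.FlatBC TensorProduct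

/-- the main descent statement for a ring homomorphism `f` making the target faithfully flat -/
theorem main {R R' : Type u} [CommRing R] [CommRing R'] (f : R →+* R')
    (hf : @Module.FaithfullyFlat R R' _ _ f.toAlgebra.toModule) (K : DRing.Cx R) (m : ℤ)
    (h : DRing.IsPseudoCoherent R' m (DRing.toD ((extCx f).obj K))) :
    DRing.IsPseudoCoherent R m (DRing.toD K) := by
  letI := f.toAlgebra
  haveI : Module.FaithfullyFlat R R' := hf
  have hflat : f.Flat := inferInstanceAs (Module.Flat R R')
  haveI := preservesFiniteLimits_ext f hflat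
  obtain ⟨n, hn⟩ := PseudoCoh.isLE_of_isPseudoCoherent h
  refine PCDescent.descent (T := Unit) (fun _ => R') (fun _ => f) ?_ ?_ K m n
    (fun _ i hi => isZero_of_isLE _ n i hi) (fun _ => h)
  · intro M hM
    have h1 : Subsingleton (R' ⊗[R] M) := ModuleCat.subsingleton_of_isZero (hM ())
    haveI := h1
    haveI : Subsingleton M := Module.FaithfullyFlat.lTensor_reflects_triviality R R' M
    exact ModuleCat.isZero_of_subsingleton M
  · intro M hM
    have h1 : Module.Finite R' (R' ⊗[R] M) := hM ()
    haveI := h1
    exact Module.Finite.of_finite_tensorProduct_of_faithfullyFlat R'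

/-- Let R → R' be a faithfully flat homomorphism of commutative rings, K a cochain complex of R-modules
and m an integer. If the termwise base change K ⊗_R R' is m-pseudo-coherent in D(R'), then K is
m-pseudo-coherent in D(R); if K ⊗_R R' is pseudo-coherent, then K is pseudo-coherent. -/
theorem result {R R' : Type u} [CommRing R] [CommRing R']
    [Algebra R R'] [Module.FaithfullyFlat R R'] (K : DRing.Cx R) (m : ℤ) :
    (DRing.IsPseudoCoherent R' m (DRing.toD (((ModuleCat.extendScalars (algebraMap R R')).mapHomologicalComplex
        (ComplexShape.up ℤ)).obj K)) → DRing.IsPseudoCoherent R m (DRing.toD K)) ∧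
      (DRing.IsPseudoCoherent' R' (DRing.toD (((ModuleCat.extendScalars (algebraMap R R')).mapHomologicalComplex
        (ComplexShape.up ℤ)).obj K)) → DRing.IsPseudoCoherent' R (DRing.toD K)) := by
  rename_i alg hff
  obtain ⟨f, hf⟩ : ∃ f : R →+* R', alg = f.toAlgebra :=
    ⟨algebraMap R R', Algebra.algebra_ext _ _ (fun r => rfl)⟩
  subst hf
  have key : ∀ m' : ℤ, DRing.IsPseudoCoherent R' m' (DRing.toD ((extCx f).obj K)) →
      DRing.IsPseudoCoherent R m' (DRing.toD K) := fun m' h => main f hff K m' h
  refine ⟨key m, fun h => ?_⟩
  refine (Groth.Agent.S2066.result (DRing.toD K)).1.1 (fun m' => key m' ?_)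
  exact (Groth.Agent.S2066.result _).1.2 h m'

end Groth.Agent.S6941
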