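import Groth.Statements.S6950
import Mathlib.Tactic
import Groth.Agent.Lib.Helper43.TorAmpDescent
import Mathlib.RingTheory.Flat.FaithfullyFlat.Basic
import Mathlib.RingTheory.RingHom.Flat
-- import your own Groth.Agent.* helpers here

set_option autoImplicit false
universe u
open CategoryTheory CategoryTheory.Limits
attribute [local instance] HasDerivedCategory.standard
open DRing

namespace Groth.Agent.S6950

open DerivedCategory Groth.Agent.Lib.Helper43 Groth.Agent.Lib.Helper84
  Groth.Agent.Lib.Helper84.FlatBC TensorProduct

/-- the main descent statement for a ring homomorphism `f` making the target faithfully flat -/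
theorem main {R R' : Type u} [CommRing R] [CommRing R'] (f : R →+* R')
    (hf : @Module.FaithfullyFlat R R' _ _ f.toAlgebra.toModule) (K : DRing.Cx R) (a b : ℤ)
    (h : DRing.HasTorAmplitudeIn R' a b (DRing.toD ((extCx f).obj K))) :
    DRing.HasTorAmplitudeIn R a b (DRing.toD K) := by
  letI := f.toAlgebra
  haveI : Module.FaithfullyFlat R R' := hf
  have hflat : f.Flat := inferInstanceAs (Module.Flat R R')
  haveI := preservesFiniteLimits_ext f hflat
  refine TorAmpDescent.descent (T := Unit) (fun _ => R') (fun _ => f) ?_ ?_ K a b (fun _ => h)
  · intro M hM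
    have h1 : Subsingleton (R' ⊗[R] M) := ModuleCat.subsingleton_of_isZero (hM ())
    haveI := h1
    haveI : Subsingleton M := Module.FaithfullyFlat.lTensor_reflects_triviality R R' M
    exact ModuleCat.isZero_of_subsingleton M
  · intro M hM
    have h1 : Module.Flat R' (R' ⊗[R] M) := hM ()
    haveI := h1
    exact Module.Flat.of_flat_tensorProduct R M R'

/-- Let R → R' be a faithfully flat homomorphism of commutative rings, K a cochain complex of R-modules
and a, b integers. If the termwise base change K ⊗_R R' has tor amplitude in [a, b] as an object of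
D(R'), then K has tor amplitude in [a, b] as an object of D(R). -/
theorem result {R R' : Type u} [CommRing R] [CommRing R']
    [Algebra R R'] [Module.FaithfullyFlat R R'] (K : DRing.Cx R) (a b : ℤ)
    (hK : DRing.HasTorAmplitudeIn R' a b (DRing.toD (((ModuleCat.extendScalars (algebraMap R R')).mapHomologicalComplex
        (ComplexShape.up ℤ)).obj K))) :
    DRing.HasTorAmplitudeIn R a b (DRing.toD K) := by
  rename_i alg hff
  obtain ⟨f, hf⟩ : ∃ f : R →+* R', alg = f.toAlgebra :=
    ⟨algebraMap R R', Algebra.algebra_ext _ _ (fun r => rfl)⟩
  subst hf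
  exact main f hff K a b hK

end Groth.Agent.S6950
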