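import Groth.Statements.S2137
import Mathlib.Tactic
import Groth.Agent.Lib.Helper43.FreeRes
import Groth.Agent.Lib.Helper15.PseudoCoh
import Groth.Agent.Lib.Helper54.LBaseChangeKProj
import Groth.Agent.Lib.Helper84.FlatBC
-- import your own Groth.Agent.* helpers here

set_option autoImplicit false
universe u
open CategoryTheory
attribute [local instance] HasDerivedCategory.standard
open CAlg

namespace Groth.Agent.S2137

open CategoryTheory.Limits CategoryTheory.Pretriangulated DerivedCategory CochainComplex
  Groth.Agent.Lib.Helper43 Groth.Agent.Lib.Helper15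
  Groth.Agent.Lib.Helper15.MQI Groth.Agent.Lib.Helper84 DRing
  Groth.Agent.Lib.Helper54.LDerived

section

variable {A B : Type u} [CommRing A] [CommRing B] (φ : A →+* B)

lemma isKProjective_of_free (P : Cx A) (n : ℤ) (hb : VanishesAbove P n)
    (hf : FreeRes.TermwiseFree P) : P.IsKProjective :=
  isKProjective_of_vanishesAbove P n hb (fun i => FreeRes.projective_of_termwiseFree hf i)

lemma isLE_toD_of_vanishesAbove {R : Type u} [CommRing R] (P : Cx R) (n : ℤ)
    (hb : VanishesAbove P n) : (toD P).IsLE n := by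
  haveI : P.IsStrictlyLE n := (CochainComplex.isStrictlyLE_iff P n).2 (fun i hi => hb i hi)
  exact (DerivedCategory.isLE_Q_obj_iff P n).2 inferInstance

/-- base change of a bounded above complex of free modules which is `≤ k` is `≤ k` -/
lemma isLE_extCx [DRing.HasLBaseChange φ] (C : Cx A) (b : ℤ) (hb : VanishesAbove C b)
    (hf : FreeRes.TermwiseFree C) (k : ℤ) (hC : (toD C).IsLE k) :
    (toD ((extCx φ).obj C)).IsLE k := by
  obtain ⟨P', hP'b, hP'f, ⟨e'⟩⟩ := FreeRes.exists_free_representative (toD C) k
    (fun i hi => isZero_of_isLE (toD C) k i hi)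
  haveI := isKProjective_of_free C b hb hf
  haveI := isKProjective_of_free P' k hP'b hP'f
  have e : toD ((extCx φ).obj C) ≅ toD ((extCx φ).obj P') :=
    (lbaseChangeIso φ C).symm ≪≫ (DRing.LBaseChange φ).mapIso e'.symm ≪≫ lbaseChangeIso φ P'
  haveI := isLE_toD_of_vanishesAbove ((extCx φ).obj P') k
    (FlatBC.vanishesAbove_extCx φ P' k hP'b)
  exact TStructure.t.isLE_of_iso e.symm k

end

/-- Let `A → B` be a ring map and `K` an `m`-pseudo-coherent object of `D(A)`. Then `K ⊗^L_A B` is
`m`-pseudo-coherent in `D(B)`. (Stated assuming the total left derived functor of base change exists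
on `D(A)`, a fact not available as a library result here.) -/
theorem result {A B : Type u} [CommRing A] [CommRing B] (φ : A →+* B) [DRing.HasLBaseChange φ]
    (K : Dual.D A) (m : ℤ) (hK : DRing.IsPseudoCoherent A m K) :
    DRing.IsPseudoCoherent B m ((DRing.LBaseChange φ).obj K) := by
  obtain ⟨n, hn⟩ := PseudoCoh.isLE_of_isPseudoCoherent hK
  obtain ⟨P, hPb, hPf, ⟨e⟩⟩ := FreeRes.exists_free_representative K n
    (fun i hi => isZero_of_isLE K n i hi)
  haveI := isKProjective_of_free P n hPb hPf
  obtain ⟨E, a, b, α, h1, h2, h3⟩ := (PseudoCoh.isPseudoCoherent_iff m K).1 hK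
  have hEb : VanishesAbove E b := fun i hi => h1 i (Or.inr hi)
  haveI : E.IsKProjective := DRingPC.isKProjective_of_finiteFree E b hEb h2
  obtain ⟨f, hf⟩ := KProj.exists_Q_map_eq E P (α ≫ e.inv)
  have hfm : IsMQI m (Q.map f) := by
    rw [hf]
    exact h3.comp (IsMQI.of_isIso m e.inv)
  -- the cone
  have hT := mappingCone_triangle_distinguished f
  have hC : (toD (mappingCone f)).IsLE (m - 1) := (isMQI_iff_of_distTriang m _ hT).1 hfm
  have hCb : VanishesAbove (mappingCone f) (max b n) :=
    DRingPC.vanishesAbove_mappingCone f b n hEb hPb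
  have hCf : FreeRes.TermwiseFree (mappingCone f) :=
    FreeRes.termwiseFree_mappingCone f (FreeRes.termwiseFree_of_finiteFree h2) hPf
  have hC' := isLE_extCx φ (mappingCone f) (max b n) hCb hCf (m - 1) hC
  -- the base changed triangle
  have hT' := mappingCone_triangle_distinguished ((extCx φ).map f)
  have eC : (extCx φ).obj (mappingCone f) ≅ mappingCone ((extCx φ).map f) :=
    mappingCone.mapHomologicalComplexIso f (ModuleCat.extendScalars.{u, u, u} φ)
  have hC'' : (toD (mappingCone ((extCx φ).map f))).IsLE (m - 1) :=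
    TStructure.t.isLE_of_iso (Q.mapIso eC) (m - 1)
  have hfm' : IsMQI m (Q.map ((extCx φ).map f)) := (isMQI_iff_of_distTriang m _ hT').2 hC''
  have hpc : IsPseudoCoherent B m (toD ((extCx φ).obj P)) :=
    (PseudoCoh.isPseudoCoherent_iff m _).2 ⟨(extCx φ).obj E, a, b, Q.map ((extCx φ).map f),
      FlatBC.vanishesOutside_extCx φ E a b h1, FlatBC.termwiseFiniteFree_extCx φ E h2, hfm'⟩
  exact PseudoCoh.of_iso ((lbaseChangeIso φ P).symm ≪≫ (DRing.LBaseChange φ).mapIso e) hpc

end Groth.Agent.S2137
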