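import Groth.Agent.Lib.Helper64.TorBC
import Groth.Statements.S4494
-- import your own Groth.Agent.* helpers here

set_option autoImplicit false
universe u
open HTor

namespace Groth.Agent.S4494

set_option backward.isDefEq.respectTransparency false
set_option backward.isDefEq.respectTransparency.types false

open CategoryTheory CategoryTheory.Limits MonoidalCategory
open Groth.Agent.Lib.Helper64.DerivedBC Groth.Agent.Lib.Helper64.TorBC

section
variable {A A' : Type u} [CommRing A] [CommRing A'] (f : A →+* A')

/-- the comparison `P' ⊗_{A'} (A' ⊗_A M) ≃ P' ⊗_A M`, as an `A`-linear equivalence out of the restriction -/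
noncomputable def cancelEquiv (P' : Type u) [AddCommGroup P'] [Module A' P'] [Module A P']
    (hst : @IsScalarTower A A' P' f.toAlgebra.toSMul _ _)
    (M : ModuleCat.{u} A) :
    ↑((ModuleCat.restrictScalars f).obj
      ((tensorLeft (ModuleCat.of A' P')).obj ((ModuleCat.extendScalars f).obj M))) ≃ₗ[A]
      ↑((tensorLeft (ModuleCat.of A P')).obj M) := by
  letI := f.toAlgebra
  haveI : IsScalarTower A A' P' := hst
  exact
  { toFun := fun x => TensorProduct.AlgebraTensorModule.cancelBaseChange A A' A' P' M x
    map_add' := fun x y => map_add _ x y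
    map_smul' := by
      intro a x
      show TensorProduct.AlgebraTensorModule.cancelBaseChange A A' A' P' M (f a • x) = _
      rw [map_smul]
      exact algebraMap_smul A' a _
    invFun := fun y => (TensorProduct.AlgebraTensorModule.cancelBaseChange A A' A' P' M).symm y
    left_inv := fun x => LinearEquiv.symm_apply_apply _ x
    right_inv := fun y => LinearEquiv.apply_symm_apply _ y }

theorem cancelEquiv_tmul (P' : Type u) [AddCommGroup P'] [Module A' P'] [Module A P']
    (hst : @IsScalarTower A A' P' f.toAlgebra.toSMul _ _)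
    (M : ModuleCat.{u} A) (p : P') (a' : A') (m : M) :
    letI := f.toAlgebra
    cancelEquiv f P' hst M (p ⊗ₜ[A'] (a' ⊗ₜ[A] m)) = (a' • p) ⊗ₜ[A] m := by
  letI := f.toAlgebra
  haveI : IsScalarTower A A' P' := hst
  exact TensorProduct.AlgebraTensorModule.cancelBaseChange_tmul A A' A' p m a'

noncomputable def nu (P' : Type u) [AddCommGroup P'] [Module A' P'] [Module A P']
    (hst : @IsScalarTower A A' P' f.toAlgebra.toSMul _ _) :
    (ModuleCat.extendScalars f ⋙ tensorLeft (ModuleCat.of A' P')) ⋙ ModuleCat.restrictScalars f ≅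
      𝟭 (ModuleCat.{u} A) ⋙ tensorLeft (ModuleCat.of A P') :=
  NatIso.ofComponents (fun M => (cancelEquiv f P' hst M).toModuleIso) (by
    intro M N g
    letI := f.toAlgebra
    apply ModuleCat.hom_ext
    apply LinearMap.ext
    intro x
    show cancelEquiv f P' hst N
        (((tensorLeft (ModuleCat.of A' P')).map ((ModuleCat.extendScalars f).map g)).hom x) =
      ((tensorLeft (ModuleCat.of A P')).map g).hom (cancelEquiv f P' hst M x)
    induction x using TensorProduct.induction_on with
    | zero => rw [map_zero, map_zero, map_zero, map_zero]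
    | add x y hx hy => simp only [map_add, hx, hy]
    | tmul p y =>
      induction y using TensorProduct.induction_on with
      | zero => rw [TensorProduct.tmul_zero, map_zero, map_zero, map_zero, map_zero]
      | add x y hx hy => simp only [TensorProduct.tmul_add, map_add, hx, hy]
      | tmul a' m =>
        have h1 : ((tensorLeft (ModuleCat.of A' P')).map ((ModuleCat.extendScalars f).map g)).hom
            (p ⊗ₜ[A'] (a' ⊗ₜ[A] m)) = p ⊗ₜ[A'] (a' ⊗ₜ[A] g.hom m) := rfl
        rw [h1, cancelEquiv_tmul, cancelEquiv_tmul]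
        rfl)

theorem main (hf : f.Flat) (P' : Type u) [AddCommGroup P'] [Module A' P'] [Module A P']
    (hst : @IsScalarTower A A' P' f.toAlgebra.toSMul _ _)
    (Q : Type u) [AddCommGroup Q] [Module A Q] (n : ℕ) :
    letI := f.toAlgebra
    ∃ φ : DRing.Tor A n P' Q →ₛₗ[f] DRing.Tor A' n P' (TensorProduct A A' Q),
      Function.Bijective φ := by
  letI := f.toAlgebra
  let E : ModuleCat.{u} A ⥤ ModuleCat.{u} A' := ModuleCat.extendScalars f
  have : E.Additive := (ModuleCat.extendRestrictScalarsAdj f).left_adjoint_additive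
  have : PreservesFiniteLimits E := ModuleCat.preservesFiniteLimits_extendScalars_of_flat hf
  have : PreservesFiniteColimits E := inferInstance
  have : E.PreservesHomology := Functor.preservesHomologyOfExact E
  have hE : ∀ X : ModuleCat.{u} A, Projective X → Projective (E.obj X) :=
    fun X hX => (ModuleCat.extendRestrictScalarsAdj f).map_projective X hX
  let P₀ : ModuleCat.{u} A := ModuleCat.of A P'
  let P₁ : ModuleCat.{u} A' := ModuleCat.of A' P'
  let Q₀ : ModuleCat.{u} A := ModuleCat.of A Q
  let Ft : ModuleCat.{u} A ⥤ ModuleCat.{u} A' := E ⋙ tensorLeft P₁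
  let Rs : ModuleCat.{u} A' ⥤ ModuleCat.{u} A := ModuleCat.restrictScalars f
  have : Rs.PreservesHomology := Functor.preservesHomologyOfExact Rs
  let iso₁ : (𝟭 _).obj ((Ft.leftDerived n).obj Q₀) ≅ ((tensorLeft P₁).leftDerived n).obj (E.obj Q₀) :=
    leftDerivedBaseChange E hE Ft (tensorLeft P₁) (𝟭 _) (Functor.rightUnitor Ft) Q₀ n
  let iso₂ : Rs.obj ((Ft.leftDerived n).obj Q₀) ≅
      ((tensorLeft P₀).leftDerived n).obj ((𝟭 _).obj Q₀) :=
    leftDerivedBaseChange (𝟭 _) (fun X h => h) Ft (tensorLeft P₀) Rs (nu f P' hst) Q₀ n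
  let iQ : E.obj Q₀ ≅ ModuleCat.of A' (TensorProduct A A' Q) := (extEquiv f Q₀).toModuleIso
  let iso₃ : ((Tor (ModuleCat.{u} A') n).obj P₁).obj (E.obj Q₀) ≅
      ((Tor (ModuleCat.{u} A') n).obj P₁).obj (ModuleCat.of A' (TensorProduct A A' Q)) :=
    ((Tor (ModuleCat.{u} A') n).obj P₁).mapIso iQ
  let e₂ : DRing.Tor A n P' Q ≃ₗ[A] ↑(Rs.obj ((Ft.leftDerived n).obj Q₀)) :=
    iso₂.symm.toLinearEquiv
  let e₁₃ : ↑((Ft.leftDerived n).obj Q₀) ≃ₗ[A'] DRing.Tor A' n P' (TensorProduct A A' Q) :=
    (iso₁ ≪≫ iso₃).toLinearEquiv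
  refine ⟨{ toFun := fun x => e₁₃ (e₂ x)
            map_add' := fun x y => by rw [map_add, map_add]
            map_smul' := ?_ }, ?_⟩
  · intro a x
    have h1 : e₂ (a • x) = a • e₂ x := map_smul e₂ a x
    have h2 : (a • e₂ x : ↑(Rs.obj ((Ft.leftDerived n).obj Q₀))) =
        (f a • (e₂ x : ↑((Ft.leftDerived n).obj Q₀)) : ↑((Ft.leftDerived n).obj Q₀)) := rfl
    show e₁₃ (e₂ (a • x)) = f a • e₁₃ (e₂ x)
    rw [h1, h2, map_smul]
  · exact e₁₃.bijective.comp e₂.bijective

end


/-- Case of complexes reduced to single modules (to which the flat base change reduces). Let A → A' be a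
ring map making A' a flat A-module, P' an A'-module (viewed also as an A-module) and Q an A-module.
Then for every n there is a bijective map Tor_n^A(P', Q) → Tor_n^{A'}(P', A' ⊗_A Q), semilinear over
A → A'. (Tor is Mathlib's, left derived in the second variable. The published statement gives a
canonical isomorphism for hypertor of complexes bounded below; this row asserts, for single modules,
that a semilinear bijection exists.) -/
theorem result (A A' : Type u) [CommRing A] [CommRing A']
    [Algebra A A'] [Module.Flat A A'] (P' : Type u) [AddCommGroup P'] [Module A' P'] [Module A P']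
    [IsScalarTower A A' P'] (Q : Type u) [AddCommGroup Q] [Module A Q] (n : ℕ) :
    ∃ φ : DRing.Tor A n P' Q →ₛₗ[algebraMap A A'] DRing.Tor A' n P' (TensorProduct A A' Q),
      Function.Bijective φ := by
  have hflat : (algebraMap A A').Flat := RingHom.flat_algebraMap_iff.mpr inferInstance
  have hst : IsScalarTower A A' P' := inferInstance
  obtain ⟨f, hf⟩ : ∃ f : A →+* A', ‹Algebra A A'› = f.toAlgebra :=
    ⟨algebraMap A A', Algebra.algebra_ext _ _ (fun r => rfl)⟩
  subst hf
  exact main f hflat P' hst Q n


end Groth.Agent.S4494
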