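import Groth.Statements.S8710
import Mathlib.Algebra.Homology.HomologySequence
import Mathlib.Algebra.Homology.HomologicalComplexAbelian
import Mathlib.RingTheory.Flat.CategoryTheory
import Mathlib.Algebra.Homology.ShortComplex.ModuleCat
-- import your own Groth.Agent.* helpers here

set_option autoImplicit false
universe u
open CategoryTheory CategoryTheory.Limits
open SGA7

namespace Groth.Agent.S8710


open MonoidalCategory

variable {R : Type u} [CommRing R]

noncomputable def cxFunctor (Q : ChainComplex (ModuleCat.{u} R) ℕ) :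
    ModuleCat.{u} R ⥤ ChainComplex (ModuleCat.{u} R) ℕ where
  obj M := ((tensorLeft M).mapHomologicalComplex _).obj Q
  map f := (NatTrans.mapHomologicalComplex ((curriedTensor (ModuleCat.{u} R)).map f) _).app Q
  map_id M := by
    ext i
    simp
  map_comp f g := by
    ext i
    simp

instance cxFunctor_pzm (Q : ChainComplex (ModuleCat.{u} R) ℕ) :
    (cxFunctor Q).PreservesZeroMorphisms where
  map_zero M N := by
    ext i : 2
    simp [cxFunctor]
    rfl

theorem cxFunctor_shortExact (Q : ChainComplex (ModuleCat.{u} R) ℕ)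
    (hQ : ∀ i, Module.Flat R (Q.X i))
    (T : ShortComplex (ModuleCat.{u} R)) (hT : T.ShortExact) :
    (T.map (cxFunctor Q)).ShortExact := by
  apply HomologicalComplex.shortExact_of_degreewise_shortExact
  intro i
  have := hQ i
  have h2 : PreservesFiniteColimits (tensorRight (Q.X i)) :=
    preservesFiniteColimits_of_natIso (BraidedCategory.tensorLeftIsoTensorRight (Q.X i))
  have := hT.map_of_exact (tensorRight (Q.X i))
  exact this


noncomputable def torIso (S' : ModuleCat.{u} R) (Q : ProjectiveResolution S') (M : ModuleCat.{u} R)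
    (i : ℕ) :
    ((Tor (ModuleCat.{u} R) i).obj M).obj S' ≅ ((cxFunctor Q.complex).obj M).homology i :=
  Q.isoLeftDerivedObj (tensorLeft M) i

theorem flat_of_res (S' : ModuleCat.{u} R) (Q : ProjectiveResolution S') (i : ℕ) :
    Module.Flat R (Q.complex.X i) := by
  have := Q.projective i
  have : Module.Projective R (Q.complex.X i) := inferInstance
  infer_instance

theorem tor_mid (S' : ModuleCat.{u} R) (T : ShortComplex (ModuleCat.{u} R)) (hT : T.ShortExact)
    (i : ℕ) (h1 : IsZero (((Tor (ModuleCat.{u} R) i).obj T.X₁).obj S'))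
    (h3 : IsZero (((Tor (ModuleCat.{u} R) i).obj T.X₃).obj S')) :
    IsZero (((Tor (ModuleCat.{u} R) i).obj T.X₂).obj S') := by
  let Q : ProjectiveResolution S' := ProjectiveResolution.of S'
  have hS := cxFunctor_shortExact Q.complex (flat_of_res S' Q) T hT
  have hex := hS.homology_exact₂ i
  have z1 : IsZero (((cxFunctor Q.complex).obj T.X₁).homology i) :=
    IsZero.of_iso h1 (torIso S' Q T.X₁ i).symm
  have z3 : IsZero (((cxFunctor Q.complex).obj T.X₃).homology i) :=
    IsZero.of_iso h3 (torIso S' Q T.X₃ i).symm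
  have z2 : IsZero (((cxFunctor Q.complex).obj T.X₂).homology i) :=
    hex.isZero_of_both_zeros (z1.eq_of_src _ _) (z3.eq_of_tgt _ _)
  exact IsZero.of_iso z2 (torIso S' Q T.X₂ i)

theorem tor_left (S' : ModuleCat.{u} R) (T : ShortComplex (ModuleCat.{u} R)) (hT : T.ShortExact)
    (i : ℕ) (h3 : IsZero (((Tor (ModuleCat.{u} R) (i + 1)).obj T.X₃).obj S'))
    (h2 : IsZero (((Tor (ModuleCat.{u} R) i).obj T.X₂).obj S')) :
    IsZero (((Tor (ModuleCat.{u} R) i).obj T.X₁).obj S') := by
  let Q : ProjectiveResolution S' := ProjectiveResolution.of S'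
  have hS := cxFunctor_shortExact Q.complex (flat_of_res S' Q) T hT
  have hex := hS.homology_exact₁ (i + 1) i (by simp)
  have z3 : IsZero (((cxFunctor Q.complex).obj T.X₃).homology (i + 1)) :=
    IsZero.of_iso h3 (torIso S' Q T.X₃ (i + 1)).symm
  have z2 : IsZero (((cxFunctor Q.complex).obj T.X₂).homology i) :=
    IsZero.of_iso h2 (torIso S' Q T.X₂ i).symm
  have z1 : IsZero (((cxFunctor Q.complex).obj T.X₁).homology i) :=
    hex.isZero_of_both_zeros (z3.eq_of_src _ _) (z2.eq_of_tgt _ _)
  exact IsZero.of_iso z1 (torIso S' Q T.X₁ i)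

theorem tor_flat (S' : ModuleCat.{u} R) (M : ModuleCat.{u} R) [Module.Flat R M] (i : ℕ) :
    IsZero (((Tor (ModuleCat.{u} R) (i + 1)).obj M).obj S') := by
  let Q : ProjectiveResolution S' := ProjectiveResolution.of S'
  refine IsZero.of_iso ?_ (torIso S' Q M (i + 1))
  have h := Q.complex_exactAt_succ i
  rw [← HomologicalComplex.exactAt_iff_isZero_homology]
  rw [HomologicalComplex.exactAt_iff] at h ⊢
  exact h.map (tensorLeft M)

/-- Let f : B' → B be a surjective map of R-algebras with B' flat over R, g : C → B a map of R-algebras,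
P = B' ×_B C their fibre product (the equalizer of f ∘ pr₁ and g ∘ pr₂ in B' × C), S an R-algebra
and n a natural number. If Tor_i^R(C, S) = 0 for 0 < i < n and Tor_i^R(B, S) = 0 for 0 < i ≤ n, then
Tor_i^R(P, S) = 0 for 0 < i < n. Here Tor_i^R(M, S) is the i-th left derived functor of M ⊗_R − on
R-modules, evaluated at S. (The published statement asks the vanishing for B only in degrees 0 < i <
n; the published proof and the corollary following it use it in degrees 0 < i ≤ n, which this row
assumes.) -/
theorem result (R B' B C S : Type u) [CommRing R] [CommRing B'] [CommRing B]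
    [CommRing C] [CommRing S] [Algebra R B'] [Algebra R B] [Algebra R C] [Algebra R S]
    (f : B' →ₐ[R] B) (hf : Function.Surjective f) (g : C →ₐ[R] B) [Module.Flat R B'] (n : ℕ)
    (hC : ∀ i : ℕ, 0 < i → i < n →
      IsZero (((Tor (ModuleCat.{u} R) i).obj (ModuleCat.of R C)).obj (ModuleCat.of R S)))
    (hB : ∀ i : ℕ, 0 < i → i ≤ n →
      IsZero (((Tor (ModuleCat.{u} R) i).obj (ModuleCat.of R B)).obj (ModuleCat.of R S))) :
    letI P := AlgHom.equalizer (f.comp (AlgHom.fst R B' C)) (g.comp (AlgHom.snd R B' C))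
    ∀ i : ℕ, 0 < i → i < n →
      IsZero (((Tor (ModuleCat.{u} R) i).obj (ModuleCat.of R ↥P)).obj (ModuleCat.of R S)) := by
  intro i hi hin
  let P : Subalgebra R (B' × C) :=
    AlgHom.equalizer (f.comp (AlgHom.fst R B' C)) (g.comp (AlgHom.snd R B' C))
  let S' : ModuleCat.{u} R := ModuleCat.of R S
  let d : (B' × C) →ₗ[R] B :=
    f.toLinearMap.comp (LinearMap.fst R B' C) - g.toLinearMap.comp (LinearMap.snd R B' C)
  have hd : ∀ x : B' × C, d x = f x.1 - g x.2 := fun x => rfl
  have hPmem : ∀ x : B' × C, x ∈ P ↔ f x.1 = g x.2 := fun x => by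
    show x ∈ AlgHom.equalizer _ _ ↔ _
    rw [AlgHom.mem_equalizer]
    rfl
  let T1 : ShortComplex (ModuleCat.{u} R) :=
    ModuleCat.shortComplexOfCompEqZero (Subalgebra.toSubmodule P).subtype d (by
      ext ⟨x, hx⟩
      have := (hPmem x).1 hx
      simp [hd, this])
  have hT1 : T1.ShortExact := by
    apply ModuleCat.shortComplex_shortExact
    · intro x
      constructor
      · intro hx
        have hx' : d x = 0 := hx
        rw [hd, sub_eq_zero] at hx'
        exact ⟨⟨x, (hPmem x).2 hx'⟩, rfl⟩
      · rintro ⟨⟨y, hy⟩, rfl⟩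
        show d y = 0
        rw [hd, sub_eq_zero]
        exact (hPmem y).1 hy
    · exact Subtype.val_injective
    · intro b
      obtain ⟨b', hb'⟩ := hf b
      exact ⟨(b', 0), by show d (b', 0) = b; simp [hd, hb']⟩
  let T2 : ShortComplex (ModuleCat.{u} R) :=
    ModuleCat.shortComplexOfCompEqZero (LinearMap.inl R B' C) (LinearMap.snd R B' C) (by
      ext x
      simp)
  have hT2 : T2.ShortExact := by
    apply ModuleCat.shortComplex_shortExact
    · intro x
      constructor
      · intro hx
        have hx' : x.2 = 0 := hx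
        exact ⟨x.1, Prod.ext rfl hx'.symm⟩
      · rintro ⟨y, rfl⟩
        rfl
    · exact LinearMap.inl_injective
    · exact LinearMap.snd_surjective
  obtain ⟨j, rfl⟩ : ∃ j, i = j + 1 := ⟨i - 1, by omega⟩
  have hB' : IsZero (((Tor (ModuleCat.{u} R) (j + 1)).obj (ModuleCat.of R B')).obj S') :=
    tor_flat S' (ModuleCat.of R B') j
  have hmid : IsZero (((Tor (ModuleCat.{u} R) (j + 1)).obj (ModuleCat.of R (B' × C))).obj S') :=
    tor_mid S' T2 hT2 (j + 1) hB' (hC (j + 1) hi hin)
  exact tor_left S' T1 hT1 (j + 1) (hB (j + 1 + 1) (by omega) (by omega)) hmid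

end Groth.Agent.S8710
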