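import Groth.Statements.S0560
import Mathlib.RingTheory.KrullDimension.Regular

set_option autoImplicit false
universe u
open CAlg

namespace Groth.Agent.S0560

open IsLocalRing

theorem spanFinrank_le (R : Type u) [CommRing R] [IsLocalRing R]
    [IsNoetherianRing R] (x : R) (hx : x ∈ IsLocalRing.maximalIdeal R)
    [IsLocalRing (R ⧸ Ideal.span ({x} : Set R))] :
    (maximalIdeal R).spanFinrank ≤
      (maximalIdeal (R ⧸ Ideal.span ({x} : Set R))).spanFinrank + 1 := by
  classical
  set π := Ideal.Quotient.mk (Ideal.span ({x} : Set R)) with hπ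
  have hπs : Function.Surjective π := Ideal.Quotient.mk_surjective
  have hfg : (maximalIdeal (R ⧸ Ideal.span ({x} : Set R))).FG :=
    (isNoetherianRing_iff_ideal_fg _).mp inferInstance _
  obtain ⟨S', hcard, hspan⟩ := Submodule.FG.exists_span_finset_card_eq_spanFinrank hfg
  let S : Finset R := S'.image (Function.surjInv hπs)
  have hS : π '' (S : Set R) = (S' : Set _) := by
    ext y
    simp only [S, Finset.coe_image, Set.mem_image, Finset.mem_coe]
    constructor
    · rintro ⟨_, ⟨z, hz, rfl⟩, rfl⟩
      rwa [Function.surjInv_eq hπs]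
    · intro hy
      exact ⟨_, ⟨y, hy, rfl⟩, Function.surjInv_eq hπs y⟩
  have hmem : ∀ r : R, r ∈ maximalIdeal R ↔ π r ∈ maximalIdeal (R ⧸ Ideal.span ({x} : Set R)) := by
    intro r
    haveI : IsLocalHom π := hπs.isLocalHom π
    rw [mem_maximalIdeal, mem_maximalIdeal, map_mem_nonunits_iff]
  have heq : maximalIdeal R = Ideal.span ((S : Set R) ∪ {x}) := by
    apply le_antisymm
    · intro r hr
      have h1 : π r ∈ Ideal.map π (Ideal.span (S : Set R)) := by
        rw [Ideal.map_span, hS]
        have := (hmem r).mp hr
        rw [← hspan] at this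
        exact this
      obtain ⟨s, hs, hsr⟩ := (Ideal.mem_map_iff_of_surjective π hπs).mp h1
      have h2 : r - s ∈ Ideal.span ({x} : Set R) := by
        rw [← Ideal.Quotient.eq_zero_iff_mem, map_sub, ← hπ, hsr, sub_self]
      rw [Ideal.span_union]
      have : r = s + (r - s) := by ring
      rw [this]
      exact Ideal.add_mem _ (Ideal.mem_sup_left hs) (Ideal.mem_sup_right h2)
    · rw [Ideal.span_le]
      rintro r (hr | hr)
      · rw [SetLike.mem_coe, hmem]
        have : π r ∈ (S' : Set _) := by rw [← hS]; exact ⟨r, hr, rfl⟩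
        rw [← hspan]
        exact Submodule.subset_span this
      · rw [Set.mem_singleton_iff] at hr
        rw [hr]
        exact hx
  rw [heq]
  refine le_trans (Submodule.spanFinrank_span_le_ncard_of_finite ?_) ?_
  · exact (Finset.finite_toSet S).union (Set.finite_singleton x)
  · refine le_trans (Set.ncard_union_le _ _) ?_
    rw [Set.ncard_singleton, Set.ncard_coe_finset, ← hcard]
    exact Nat.add_le_add_right Finset.card_image_le 1

/-- Regularity of a Noetherian local ring can be checked after dividing out one nonzerodivisor lying in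
the maximal ideal: if that quotient is a regular local ring, so is the original ring. -/
theorem result (R : Type u) [CommRing R] [IsLocalRing R]
    [IsNoetherianRing R] (x : R) (hx : x ∈ IsLocalRing.maximalIdeal R) (hreg : x ∈ nonZeroDivisors R)
    [IsRegularLocalRing (R ⧸ Ideal.span ({x} : Set R))] : IsRegularLocalRing R := by
  apply IsRegularLocalRing.of_spanFinrank_maximalIdeal_le
  have h1 := spanFinrank_le R x hx
  have h2 := ringKrullDim_quotient_span_singleton_succ_eq_ringKrullDim_of_mem_nonZeroDivisors hreg hx
  have h3 : ((maximalIdeal (R ⧸ Ideal.span ({x} : Set R))).spanFinrank : WithBot ℕ∞) =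
      ringKrullDim (R ⧸ Ideal.span ({x} : Set R)) :=
    IsRegularLocalRing.spanFinrank_maximalIdeal
  rw [← h2, ← h3]
  exact_mod_cast h1

end Groth.Agent.S0560
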