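import Groth.Statements.S5781
import Mathlib.RingTheory.Ideal.Cotangent
import Mathlib.LinearAlgebra.Basis.VectorSpace

set_option autoImplicit false
universe u
open EGA41

namespace Groth.Agent.S5781

open IsLocalRing Pointwise in
theorem aux (A : Type u) [CommRing A] [IsLocalRing A]
    [IsNoetherianRing A] (a : A) (ha : a ∈ IsLocalRing.maximalIdeal A) (ha2 : a ∉ IsLocalRing.maximalIdeal A ^ 2) :
    ∃ (f : (↥(IsLocalRing.maximalIdeal A) ⧸ Submodule.span A {(⟨a, ha⟩ : ↥(IsLocalRing.maximalIdeal A))}) →ₗ[A]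
          QuotSMulTop a ↥(IsLocalRing.maximalIdeal A))
      (g : QuotSMulTop a ↥(IsLocalRing.maximalIdeal A) →ₗ[A]
          (↥(IsLocalRing.maximalIdeal A) ⧸ Submodule.span A {(⟨a, ha⟩ : ↥(IsLocalRing.maximalIdeal A))})),
      g.comp f = LinearMap.id := by
  classical
  set m := maximalIdeal A with hm
  let am : ↥m := ⟨a, ha⟩
  have hne : m.toCotangent am ≠ 0 := by
    rw [Ne, Ideal.toCotangent_eq_zero]; exact ha2
  obtain ⟨φ, hφ⟩ := (LinearMap.toSpanSingleton (ResidueField A) (CotangentSpace A)
    (m.toCotangent am)).exists_leftInverse_of_injective (LinearMap.ker_toSpanSingleton _ hne)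
  have hφa : φ (m.toCotangent am) = 1 := by
    have := LinearMap.congr_fun hφ 1
    simpa using this
  let ψ : ↥m →ₗ[A] ResidueField A := (φ.restrictScalars A).comp m.toCotangent
  let ca : QuotSMulTop a ↥m := Submodule.Quotient.mk am
  have hker : m ≤ LinearMap.ker (LinearMap.toSpanSingleton A (QuotSMulTop a ↥m) ca) := by
    intro c hc
    rw [LinearMap.mem_ker, LinearMap.toSpanSingleton_apply]
    have : c • am = a • (⟨c, hc⟩ : ↥m) := by
      ext; simp [am, mul_comm]
    show c • Submodule.Quotient.mk am = 0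
    rw [← Submodule.Quotient.mk_smul, this, Submodule.Quotient.mk_eq_zero]
    exact Submodule.smul_mem_pointwise_smul _ _ _ Submodule.mem_top
  let h : ResidueField A →ₗ[A] QuotSMulTop a ↥m := Submodule.liftQ m _ hker
  have h1 : h 1 = ca := by
    calc h 1 = (LinearMap.toSpanSingleton A (QuotSMulTop a ↥m) ca) 1 :=
          Submodule.liftQ_apply m _ (1 : A)
      _ = ca := by simp
  let F : ↥m →ₗ[A] QuotSMulTop a ↥m := (Submodule.mkQ _) - h.comp ψ
  have hFa : F am = 0 := by
    simp only [F, LinearMap.sub_apply, LinearMap.comp_apply, ψ, LinearMap.restrictScalars_apply, hφa, h1]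
    simp [ca]
  let f := Submodule.liftQ (Submodule.span A {am}) F
    (by rw [Submodule.span_le, Set.singleton_subset_iff]; exact hFa)
  have hle : (a • ⊤ : Submodule A ↥m) ≤ Submodule.span A {am} := by
    intro x hx
    obtain ⟨y, -, rfl⟩ := (Submodule.mem_smul_pointwise_iff_exists _ _ _).mp hx
    have : a • y = (y : A) • am := by ext; simp [am, mul_comm]
    rw [this]; exact Submodule.smul_mem _ _ (Submodule.mem_span_singleton_self _)
  let g : QuotSMulTop a ↥m →ₗ[A] (↥m ⧸ Submodule.span A {am}) := Submodule.factor hle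
  have hgh : g.comp h = 0 := by
    apply Submodule.linearMap_qext
    ext
    show g (h 1) = 0
    rw [h1]
    show Submodule.factor hle (Submodule.mkQ _ am) = 0
    rw [Submodule.factor_mk, Submodule.mkQ_apply, Submodule.Quotient.mk_eq_zero]
    exact Submodule.mem_span_singleton_self _
  refine ⟨f, g, ?_⟩
  apply Submodule.linearMap_qext
  ext x
  have : g (h (ψ x)) = 0 := LinearMap.congr_fun hgh (ψ x)
  simp [f, F, this, g]

/-- Suppose A is a Noetherian local ring whose maximal ideal is m, and take a ∈ m with a ∉ m². Then the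
quotient m/am contains a direct summand isomorphic to m/Aa: concretely, one can find A-linear maps f
: m/Aa → m/am and g : m/am → m/Aa such that g ∘ f is the identity. -/
theorem result (A : Type u) [CommRing A] [IsLocalRing A]
    [IsNoetherianRing A] (a : A) (ha : a ∈ IsLocalRing.maximalIdeal A) (ha2 : a ∉ IsLocalRing.maximalIdeal A ^ 2) :
    ∃ (f : (↥(IsLocalRing.maximalIdeal A) ⧸ Submodule.span A {(⟨a, ha⟩ : ↥(IsLocalRing.maximalIdeal A))}) →ₗ[A]
          QuotSMulTop a ↥(IsLocalRing.maximalIdeal A))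
      (g : QuotSMulTop a ↥(IsLocalRing.maximalIdeal A) →ₗ[A]
          (↥(IsLocalRing.maximalIdeal A) ⧸ Submodule.span A {(⟨a, ha⟩ : ↥(IsLocalRing.maximalIdeal A))})),
      g.comp f = LinearMap.id := by
  exact aux A a ha ha2

end Groth.Agent.S5781
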