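import Groth.Statements.S5782
import Mathlib.RingTheory.Regular.ProjectiveDimension
import Mathlib.RingTheory.Flat.TorsionFree

set_option autoImplicit false
universe u
open CategoryTheory
open EGA41

namespace Groth.Agent.S5782

open TensorProduct in
theorem projective_quotSMulTop (A : Type u) [CommRing A] (a : A) (M : Type u) [AddCommGroup M]
    [Module A M] [Module.Projective A M] :
    Module.Projective (A ⧸ Ideal.span {a}) (QuotSMulTop a M) := by
  let e : QuotSMulTop a M ≃ₗ[A] (A ⧸ Ideal.span {a}) ⊗[A] M := QuotSMulTop.equivQuotTensor a M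
  let e' : QuotSMulTop a M ≃ₗ[A ⧸ Ideal.span {a}] (A ⧸ Ideal.span {a}) ⊗[A] M :=
    LinearEquiv.extendScalarsOfSurjective Ideal.Quotient.mk_surjective e
  exact Module.Projective.of_equiv e'.symm

open Function in
theorem quotSMulTop_map_injective {A : Type u} [CommRing A] (a : A) {M' M M'' : Type u}
    [AddCommGroup M'] [Module A M'] [AddCommGroup M] [Module A M]
    [AddCommGroup M''] [Module A M''] (f : M' →ₗ[A] M) (g : M →ₗ[A] M'')
    (hf : Injective f) (hfg : Exact f g) (h : IsSMulRegular M'' a) :
    Injective (QuotSMulTop.map a f) := by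
  have h0 : Exact (0 : PUnit.{u+1} →ₗ[A] M') f := (LinearMap.exact_zero_iff_injective _ f).mpr hf
  have := QuotSMulTop.map_first_exact_on_four_term_exact_of_isSMulRegular_last h0 hfg h
  rw [map_zero] at this
  exact (LinearMap.exact_zero_iff_injective _ _).mp this

open CategoryTheory Abelian Function in
theorem step (A : Type u) [CommRing A] (a : A) {K F E : Type u}
    [AddCommGroup K] [Module A K] [AddCommGroup F] [Module A F]
    [AddCommGroup E] [Module A E] (f : K →ₗ[A] F) (g : F →ₗ[A] E)
    (hf : Injective f) (hg : Surjective g) (hfg : Exact f g) [Module.Projective A F]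
    (hE : IsSMulRegular E a) (n : ℕ)
    (hK : HasProjectiveDimensionLT (ModuleCat.of (A ⧸ Ideal.span {a}) (QuotSMulTop a K)) (n + 1)) :
    HasProjectiveDimensionLT (ModuleCat.of (A ⧸ Ideal.span {a}) (QuotSMulTop a E)) (n + 1 + 1) := by
  let fbar : QuotSMulTop a K →ₗ[A ⧸ Ideal.span {a}] QuotSMulTop a F :=
    LinearMap.extendScalarsOfSurjective Ideal.Quotient.mk_surjective (QuotSMulTop.map a f)
  let gbar : QuotSMulTop a F →ₗ[A ⧸ Ideal.span {a}] QuotSMulTop a E :=
    LinearMap.extendScalarsOfSurjective Ideal.Quotient.mk_surjective (QuotSMulTop.map a g)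
  have hex : Exact fbar gbar := QuotSMulTop.map_exact a hfg hg
  have hsurj : Surjective gbar := QuotSMulTop.map_surjective a hg
  have hinj : Injective fbar := quotSMulTop_map_injective a f g hf hfg hE
  let Sbar : ShortComplex (ModuleCat.{u} (A ⧸ Ideal.span {a})) :=
    ModuleCat.shortComplexOfCompEqZero fbar gbar hex.linearMap_comp_eq_zero
  have hSbar : Sbar.ShortExact := ModuleCat.shortComplex_shortExact Sbar hex hinj hsurj
  have hproj' : Projective Sbar.X₂ := by
    show Projective (ModuleCat.of (A ⧸ Ideal.span {a}) (QuotSMulTop a F))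
    rw [← IsProjective.iff_projective]
    exact projective_quotSMulTop A a F
  exact (hSbar.hasProjectiveDimensionLT_X₃_iff n hproj').mpr hK

open CategoryTheory Abelian Function in
theorem hasProjDimLT_quotSMulTop (A : Type u) [CommRing A] (a : A) (hA : IsSMulRegular A a) (n : ℕ) :
    ∀ (E : Type u) [AddCommGroup E] [Module A E], IsSMulRegular E a →
      HasProjectiveDimensionLT (ModuleCat.of A E) (n + 1) →
      HasProjectiveDimensionLT (ModuleCat.of (A ⧸ Ideal.span {a}) (QuotSMulTop a E)) (n + 1) := by
  induction n with
  | zero =>
    intro E _ _ hE h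
    rw [zero_add, ← projective_iff_hasProjectiveDimensionLT_one, ← IsProjective.iff_projective] at h ⊢
    exact projective_quotSMulTop A a E
  | succ n ih =>
    intro E _ _ hE h
    have hπ : Surjective (Finsupp.linearCombination A (id : E → E)) :=
      Finsupp.linearCombination_surjective _ surjective_id
    have hS : (Finsupp.linearCombination A (id : E → E)).shortComplexKer.ShortExact :=
      LinearMap.shortExact_shortComplexKer hπ
    have hproj : Projective (Finsupp.linearCombination A (id : E → E)).shortComplexKer.X₂ := by
      show Projective (ModuleCat.of A (E →₀ A))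
      rw [← IsProjective.iff_projective]
      infer_instance
    have hK : HasProjectiveDimensionLT
        (ModuleCat.of A (LinearMap.ker (Finsupp.linearCombination A (id : E → E)))) (n + 1) :=
      (hS.hasProjectiveDimensionLT_X₃_iff n hproj).mp h
    have hFreg : IsSMulRegular (E →₀ A) a := Module.Flat.isSMulRegular_of_isRegular
      ((Commute.isRegular_iff (fun b => Commute.all a b)).mpr (isLeftRegular_iff.mpr hA))
    have hKreg : IsSMulRegular (LinearMap.ker (Finsupp.linearCombination A (id : E → E))) a :=
      hFreg.submodule _ a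
    have ihK := ih _ hKreg hK
    exact step A a (LinearMap.ker (Finsupp.linearCombination A (id : E → E))).subtype
      (Finsupp.linearCombination A (id : E → E)) (Submodule.injective_subtype _) hπ
      (LinearMap.exact_subtype_ker_map _) hE n ihK

/-- Let A be a Noetherian local ring with maximal ideal m, E a finitely generated A-module of finite
projective dimension, and a ∈ m an element which is A-regular and E-regular. Then E/aE, as a module
over A/aA, has finite projective dimension at most the projective dimension of E over A. -/
theorem result (A : Type u) [CommRing A] [IsLocalRing A]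
    [IsNoetherianRing A] (E : Type u) [AddCommGroup E] [Module A E] [Module.Finite A E]
    (hfin : projectiveDimension (ModuleCat.of A E) ≠ ⊤) (a : A) (ha : a ∈ IsLocalRing.maximalIdeal A)
    (hA : IsSMulRegular A a) (hE : IsSMulRegular E a) :
    projectiveDimension (ModuleCat.of (A ⧸ Ideal.span {a}) (E ⧸ (Ideal.span {a} • (⊤ : Submodule A E)))) ≤
      projectiveDimension (ModuleCat.of A E) := by
  let e₀ : (E ⧸ (Ideal.span {a} • (⊤ : Submodule A E))) ≃ₗ[A] QuotSMulTop a E :=
    Submodule.quotEquivOfEq _ _ (Submodule.ideal_span_singleton_smul a ⊤)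
  let e₁ : (E ⧸ (Ideal.span {a} • (⊤ : Submodule A E))) ≃ₗ[A ⧸ Ideal.span {a}] QuotSMulTop a E :=
    LinearEquiv.extendScalarsOfSurjective Ideal.Quotient.mk_surjective e₀
  rw [projectiveDimension_eq_of_iso e₁.toModuleIso]
  have aux (n : ℕ) : projectiveDimension (ModuleCat.of A E) ≤ n →
      projectiveDimension (ModuleCat.of (A ⧸ Ideal.span {a}) (QuotSMulTop a E)) ≤ n := by
    simp only [projectiveDimension_le_iff]
    intro h
    exact hasProjDimLT_quotSMulTop A a hA n E hE h
  refine le_of_forall_ge (fun N ↦ ?_)
  induction N with
  | bot =>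
    simp only [le_bot_iff, projectiveDimension_eq_bot_iff, ModuleCat.isZero_iff_subsingleton]
    intro _
    infer_instance
  | coe N =>
    induction N with
    | top => simp
    | coe n => simpa using aux n

end Groth.Agent.S5782
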