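import Groth.Statements.S6518
import Groth.Agent.S0890
import Groth.Agent.Lib.Helper2.DCohSingle

set_option autoImplicit false
universe u
open CategoryTheory
attribute [local instance] HasDerivedCategory.standard
open DCoh

namespace Groth.Agent.S6518

open Groth.Agent.Lib.Helper2.DCohBase Groth.Agent.Lib.Helper2.DCohHom
open Groth.Agent.Lib.Helper2.DCohCoh Groth.Agent.Lib.Helper2.DCohFP
open Groth.Agent.Lib.Helper2.DCohPC Groth.Agent.Lib.Helper2.DCohSingle
open Groth.Agent.Lib.Lead.CohAff CategoryTheory.Limits in
open AlgebraicGeometry in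

open AlgebraicGeometry in
/-- Let X be a scheme and F an O_X-module, viewed as an object of D(O_X) placed in degree 0. Then (1)
finite type of the O_X-module F is equivalent to F being 0-pseudo-coherent, and (2) F admits a
finite presentation as an O_X-module exactly when it is (−1)-pseudo-coherent. (The published
statement is for ringed spaces; this row is for schemes.) -/
theorem result {X : Scheme.{u}} (F : X.Modules) :
    (DCoh.IsPseudoCoherentD 0 (DCoh.inD X F) ↔ CohB1.IsFT F) ∧
    (DCoh.IsPseudoCoherentD (-1) (DCoh.inD X F) ↔ CohB1.IsFP F) := by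
  refine ⟨⟨fun hK => ?_, fun hF => ?_⟩, ⟨fun hK => ?_, fun hF => ?_⟩⟩
  · have h1 := (Groth.Agent.S0890.result 0 (DCoh.inD X F) hK).1
      (fun i hi => isZero_hd_inD F i (by omega))
    exact isFiniteType_of_epi (hdInDIso F).hom h1
  · rw [isPseudoCoherentD_iff]
    intro x
    obtain ⟨U, hxU, σ, hσ⟩ := exists_hasFinGen_restrict F hF x
    haveI : Finite σ.I := hσ
    let π₀ : (SheafOfModules.free (R := (U : Scheme.{u}).ringCatSheaf) σ.I :
        (U : Scheme.{u}).Modules) ⟶ (Scheme.Modules.restrictFunctor U.ι).obj F := σ.π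
    haveI : Epi π₀ := σ.epi
    have h1 : PCData 0 (DCoh.inD (U : Scheme.{u}) ((Scheme.Modules.restrictFunctor U.ι).obj F)) :=
      pcData_inD_of_epi (isFinLocFree_free σ.I) π₀ σ.epi
    exact ⟨U, U.ι, inferInstance, by simpa using hxU, h1.of_iso (resDInD U.ι F).symm⟩
  · have h1 := (Groth.Agent.S0890.result (-1) (DCoh.inD X F) hK).2
      (fun i hi => isZero_hd_inD F i (by omega))
    rw [show ((-1 : ℤ) + 1) = 0 from rfl] at h1
    exact isFP_of_iso (hdInDIso F) h1
  · rw [isPseudoCoherentD_iff]
    intro x
    obtain ⟨U, hxU, P, hP⟩ := exists_hasFinPres_restrict F hF x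
    haveI : Finite P.generators.I := hP.isFiniteType_generators.finite
    haveI : Finite P.relations.I := hP.isFiniteType_relations.finite
    let N : (U : Scheme.{u}).Modules := (Scheme.Modules.restrictFunctor U.ι).obj F
    let π : (SheafOfModules.free (R := (U : Scheme.{u}).ringCatSheaf) P.generators.I :
        (U : Scheme.{u}).Modules) ⟶ N := P.generators.π
    haveI : Epi π := P.generators.epi
    let S : ShortComplex (U : Scheme.{u}).Modules :=
      ShortComplex.mk (kernel.ι π) π (kernel.condition π)
    have hS : S.ShortExact :=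
      { exact := ShortComplex.exact_of_f_is_kernel _ (kernelIsKernel π)
        mono_f := inferInstanceAs (Mono (kernel.ι π))
        epi_g := inferInstanceAs (Epi π) }
    have h₁ : PCData (-1 + 1) hS.singleTriangle.obj₁ := by
      let π₁ : (SheafOfModules.free (R := (U : Scheme.{u}).ringCatSheaf) P.relations.I :
          (U : Scheme.{u}).Modules) ⟶ kernel π := P.relations.π
      haveI : Epi π₁ := P.relations.epi
      exact pcData_inD_of_epi (isFinLocFree_free P.relations.I) π₁ P.relations.epi
    have h₂ : PCData (-1) hS.singleTriangle.obj₂ :=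
      pcData_inD_of_isFinLocFree (isFinLocFree_free P.generators.I) (-1)
    have h3 : PCAt (-1) (DCoh.inD (U : Scheme.{u}) N) ⟨x, hxU⟩ :=
      pcAt_obj₃_of_data hS.singleTriangle hS.singleTriangle_distinguished (-1) h₁ h₂ ⟨x, hxU⟩
    exact pcAt_of_resD U.ι (DCoh.inD X F) ⟨x, hxU⟩ (pcAt_of_iso (resDInD U.ι F).symm h3)

end Groth.Agent.S6518
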