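import Groth.Statements.S0913
import Groth.Agent.Lib.Helper2.DCohTorAmp

set_option autoImplicit false
universe u
open CategoryTheory
attribute [local instance] HasDerivedCategory.standard
open DCoh

namespace Groth.Agent.S0913

open Groth.Agent.Lib.Helper2.DCohPerf Groth.Agent.Lib.Helper2.DCohPC
  Groth.Agent.Lib.Helper2.DCohTorAmp


open AlgebraicGeometry in
/-- Let a ≤ b and let E in D(O_X) be represented by a complex of flat modules vanishing outside [a, b]
(tor-amplitude in [a, b]) and be (a-1)-pseudo-coherent. Then E is perfect. -/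
theorem result {X : Scheme.{u}} (E : DCoh.D X) (a b : ℤ) (hab : a ≤ b)
    (h1 : DCoh.HasFlatAmplitudeIn a b E) (h2 : DCoh.IsPseudoCoherentD (a - 1) E) : DCoh.IsPerfect E := by
  rw [isPerfect_iff]
  intro x
  obtain ⟨G, hG0, hGfl, ⟨e⟩⟩ := h1
  exact perfAt_of_flat_of_pcAt E G a b hG0 hGfl e x ((isPseudoCoherentD_iff (a - 1) E).1 h2 x)

end Groth.Agent.S0913
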