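import Groth.Statements.S0914
import Groth.Agent.Lib.Helper2.DCohTorAmp
import Mathlib.AlgebraicGeometry.PullbackCarrier

set_option autoImplicit false
universe u
open CategoryTheory
attribute [local instance] HasDerivedCategory.standard
open DCoh

namespace Groth.Agent.S0914

open AlgebraicGeometry CategoryTheory.Limits
open Groth.Agent.Lib.Helper2.DCohBase Groth.Agent.Lib.Helper2.DCohPerf Groth.Agent.Lib.Helper2.DCohPC
  Groth.Agent.Lib.Helper2.DCohTorAmp Groth.Agent.Lib.Helper2.DCohFlat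

/-- pseudo-coherence near a point restricts to open subschemes -/
theorem pcAt_resD {X U : Scheme.{u}} {m : ℤ} (j : U ⟶ X) [IsOpenImmersion j] (K : DCoh.D X) (y : U)
    (h : PCAt m K (j y)) : PCAt m ((resD j).obj K) y := by
  obtain ⟨U', j', hj', hx, hd⟩ := h
  haveI := hj'
  refine ⟨pullback j j', pullback.fst j j', inferInstance, ?_, ?_⟩
  · rw [Scheme.Pullback.range_fst]
    exact hx
  · exact (hd.restrict (pullback.snd j j')).of_iso
      ((resDComp j' (pullback.snd j j') K).symm ≪≫ (resDCongr pullback.condition K).symm ≪≫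
        resDComp j (pullback.fst j j') K)


open AlgebraicGeometry in
/-- An object E of D(O_X) is perfect if and only if it is m-pseudo-coherent for every m and locally has
finite tor dimension. -/
theorem result {X : Scheme.{u}} (E : DCoh.D X) :
    DCoh.IsPerfect E ↔ (∀ m : ℤ, DCoh.IsPseudoCoherentD m E) ∧ DCoh.LocHasFiniteTorDim E := by
  constructor
  · intro hE
    constructor
    · intro m x
      obtain ⟨V, hxV, hV⟩ := hE x
      refine ⟨V, hxV, fun F hF => ?_⟩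
      obtain ⟨E', hE', ⟨ε⟩⟩ := hV F hF
      refine ⟨E', ε.inv, hE', fun i _ => inferInstance, inferInstance⟩
    · intro x
      obtain ⟨V, hxV, hV⟩ := hE x
      obtain ⟨F₀, ⟨e₀⟩⟩ := exists_rep E
      obtain ⟨E', ⟨⟨a, b, hab⟩, hflf⟩, ⟨ε⟩⟩ := hV F₀ ⟨e₀⟩
      refine ⟨V, a, b, hxV, fun F' ⟨e'⟩ => ⟨E', hab, fun i => ?_, ⟨?_⟩⟩⟩
      · exact isFlat_of_isFinLocFree _ (hflf i)
      · exact ε.symm ≪≫ (resDQ V.ι F₀).symm ≪≫ (resD V.ι).mapIso (e₀ ≪≫ e'.symm) ≪≫ resDQ V.ι F'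
  · rintro ⟨hpc, htd⟩
    rw [isPerfect_iff]
    intro x
    obtain ⟨V, a, b, hxV, hV⟩ := htd x
    obtain ⟨F₀, ⟨e₀⟩⟩ := exists_rep E
    obtain ⟨G, hG0, hGfl, ⟨e⟩⟩ := hV F₀ ⟨e₀⟩
    have hpcV : PCAt (a - 1) ((resD V.ι).obj E) ⟨x, hxV⟩ :=
      pcAt_resD V.ι E ⟨x, hxV⟩ ((isPseudoCoherentD_iff (a - 1) E).1 (hpc (a - 1)) x)
    have h1 : PerfAt ((resD V.ι).obj E) ⟨x, hxV⟩ :=
      perfAt_of_flat_of_pcAt ((resD V.ι).obj E) G a b hG0 hGfl
        (e ≪≫ (resDQ V.ι F₀).symm ≪≫ (resD V.ι).mapIso e₀) ⟨x, hxV⟩ hpcV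
    exact perfAt_of_resD V.ι E ⟨x, hxV⟩ h1

end Groth.Agent.S0914
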