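import Groth.Statements.S6200
import Groth.Agent.Lib.Helper12.StalkExact2

set_option autoImplicit false
universe u
open CategoryTheory CategoryTheory.Limits AlgebraicGeometry
attribute [local instance] HasDerivedCategory.standard
open KSix

namespace Groth.Agent.S6200

theorem result {X : Scheme.{u}} (F : CochainComplex X.Modules ℤ) (d : ℤ)
    [(DCoh.toD X F).IsLE d] (a b : ℤ) :
    DCoh.HasFlatAmplitudeIn a b (DCoh.toD X F) ↔ DerSch.HasTorAmplitude (𝟙 X) a b F := by
  exact ⟨Groth.Agent.Lib.Helper12.StalkExact.hasTorAmplitude_id_of_hasFlatAmplitudeIn F a b,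
    Groth.Agent.Lib.Helper12.StalkExact.hasFlatAmplitudeIn_of_hasTorAmplitude_id F a b⟩

end Groth.Agent.S6200
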