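import Groth.Statements.S18732
import Mathlib
import Groth.Agent.Lib.Helper82.EffCartier
import Groth.Agent.Lib.Helper82.EffCartierCompl

set_option autoImplicit false
universe u
open CategoryTheory CategoryTheory.Limits AlgebraicGeometry TopologicalSpace
open ModPair

namespace Groth.Agent.S18732

section helpers
open CategoryTheory CategoryTheory.Limits AlgebraicGeometry TopologicalSpace


/-- pulled back ideal of an effective Cartier divisor is effective Cartier if the preimage of the
complement is scheme-theoretically dense. -/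
lemma isEffCartierIdeal_comap_of_dominant {X X' : Scheme.{u}}
    (I : X.IdealSheafData) (hI : BlowUp.IsEffCartierIdeal I) (f : X' ⟶ X)
    [IsSchemeTheoreticallyDominant (f ⁻¹ᵁ (I.support.compl : X.Opens)).ι] :
    BlowUp.IsEffCartierIdeal (I.comap f) := by
  set U : X.Opens := I.support.compl with hUdef
  haveI : IsAffineHom U.ι := Groth.Agent.Lib.Helper82.isAffineHom_ι_compl_support I hI
  haveI : IsAffineHom (f ⁻¹ᵁ U).ι :=
    MorphismProperty.of_isPullback (isPullback_morphismRestrict f U) inferInstance
  intro x'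
  obtain ⟨⟨V, hV⟩, hxV, t, ht, hIt⟩ := hI (f x')
  obtain ⟨V', hV', hxV', hV'V⟩ := exists_isAffineOpen_mem_and_subset (x := x')
    (U := f ⁻¹ᵁ V) hxV
  have e : V' ≤ f ⁻¹ᵁ V := hV'V
  refine ⟨⟨V', hV'⟩, hxV', f.appLE V V' e t, ?_, ?_⟩
  · rw [mem_nonZeroDivisors_iff_right]
    intro b hb
    set ι := (f ⁻¹ᵁ U).ι with hι
    apply ι.app_injective V'
    rw [map_zero]
    have hO : ι ''ᵁ ι ⁻¹ᵁ V' ≤ X'.basicOpen (f.appLE V V' e t) := by
      rw [Scheme.basicOpen_appLE, ← Groth.Agent.Lib.Helper82.compl_support_inf_eq_basicOpen I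
        ⟨V, hV⟩ t hIt, Scheme.Hom.image_preimage_eq_opensRange_inf, Scheme.Opens.opensRange_ι]
      rintro x ⟨hx1, hx2⟩
      exact ⟨hx2, hx1, e hx2⟩
    have hunit : IsUnit (ι.app V' (f.appLE V V' e t)) := by
      rw [Scheme.Opens.ι_app]
      have h1 : IsUnit (X'.presheaf.map (homOfLE (X'.basicOpen_le (f.appLE V V' e t))).op
          (f.appLE V V' e t)) :=
        RingedSpace.isUnit_res_basicOpen X'.toRingedSpace (f.appLE V V' e t)
      have key : ∀ hle, X'.presheaf.map (homOfLE hle : ι ''ᵁ ι ⁻¹ᵁ V' ⟶ V').op =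
          X'.presheaf.map (homOfLE (X'.basicOpen_le (f.appLE V V' e t))).op ≫
            X'.presheaf.map (homOfLE hO).op := by
        intro hle; rw [← Functor.map_comp]; rfl
      rw [key]
      exact h1.map (X'.presheaf.map (homOfLE hO).op).hom
    have h3 : ι.app V' b * ι.app V' (f.appLE V V' e t) = 0 := by
      rw [← map_mul, hb, map_zero]
    exact (hunit.mul_left_eq_zero).mp h3
  · rw [Groth.Agent.Lib.Helper82.ideal_comap_of_le f I V' hV' V hV e, hIt, Ideal.map_span,
      Set.image_singleton]

end helpers

/-- Let X be a scheme, I the quasi-coherent ideal sheaf of an effective Cartier divisor on X with open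
complement U, and f : X' ⟶ X a morphism of schemes for which the open immersion of f⁻¹(U) into X'
has all of X' as its scheme-theoretic image. Then f⁻¹(U) is scheme-theoretically dense in X' (for
every open W of X' the inclusion of f⁻¹(U) ∩ W into W is scheme-theoretically dominant), and the
closed subscheme of X' pulled back from the divisor of I is an effective Cartier divisor: I.comap f
is the ideal sheaf of an effective Cartier divisor. -/
theorem result {X X' : Scheme.{u}}
    (I : X.IdealSheafData) (hI : BlowUp.IsEffCartierIdeal I) (f : X' ⟶ X)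
    [IsSchemeTheoreticallyDominant (f ⁻¹ᵁ ModPair.interior I).ι] :
    (∀ W : X'.Opens, IsSchemeTheoreticallyDominant
        (X'.homOfLE (inf_le_right : f ⁻¹ᵁ ModPair.interior I ⊓ W ≤ W))) ∧
      BlowUp.IsEffCartierIdeal (I.comap f) := by
  haveI : IsAffineHom (ModPair.interior I).ι :=
    Groth.Agent.Lib.Helper82.isAffineHom_ι_compl_support I hI
  haveI : IsAffineHom (f ⁻¹ᵁ ModPair.interior I).ι :=
    MorphismProperty.of_isPullback (isPullback_morphismRestrict f (ModPair.interior I))
      inferInstance
  refine ⟨fun W => ?_, ?_⟩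
  · exact .of_isPullback (isPullback_opens_inf (f ⁻¹ᵁ ModPair.interior I) W)
  · haveI : IsSchemeTheoreticallyDominant (f ⁻¹ᵁ (I.support.compl : X.Opens)).ι :=
      ‹IsSchemeTheoreticallyDominant (f ⁻¹ᵁ ModPair.interior I).ι›
    exact isEffCartierIdeal_comap_of_dominant I hI f

end Groth.Agent.S18732
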