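import Groth.Statements.S8852
import Mathlib.Tactic

set_option autoImplicit false
universe u
open CategoryTheory CategoryTheory.Limits AlgebraicGeometry TopologicalSpace
open SDiv

namespace Groth.Agent.S8852

theorem alg1 {R : Type u} [CommRing R] (I J : Ideal R) (f : R) (hf : f ∈ nonZeroDivisors R)
    (hIJ : I * J = Ideal.span {f}) (p : Ideal R) (hp : p ≠ ⊤) :
    ∃ a ∈ I, ∃ b ∈ J, ∃ c, c ∉ p ∧ a * b = f * c := by
  by_contra h
  push Not at h
  have h1 : I * J ≤ Ideal.span {f} * p := by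
    rw [Ideal.mul_le]
    intro a ha b hb
    have hab : a * b ∈ Ideal.span {f} := hIJ ▸ Ideal.mul_mem_mul ha hb
    obtain ⟨c, hc⟩ := Ideal.mem_span_singleton'.1 hab
    rw [Ideal.mem_span_singleton_mul]
    refine ⟨c, ?_, ?_⟩
    · by_contra hcp
      exact h a ha b hb c hcp (by rw [← hc, mul_comm])
    · rw [← hc, mul_comm]
  have h2 : f ∈ Ideal.span {f} * p := h1 (hIJ ▸ Ideal.mem_span_singleton_self f)
  rw [Ideal.mem_span_singleton_mul] at h2
  obtain ⟨q, hq, hfq⟩ := h2
  have h3 : (q - 1) * f = 0 := by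
    rw [sub_mul, one_mul, mul_comm, hfq, sub_self]
  have h4 : q - 1 = 0 := (mem_nonZeroDivisors_iff_right.1 hf) _ h3
  have h5 : q = 1 := sub_eq_zero.1 h4
  rw [h5] at hq
  exact hp ((Ideal.eq_top_iff_one p).2 hq)

theorem alg2 {R R' : Type u} [CommRing R] [CommRing R'] [Algebra R R'] (I J : Ideal R) (f : R)
    (hf : f ∈ nonZeroDivisors R)
    (hIJ : I * J = Ideal.span {f}) (a b c : R) (ha : a ∈ I) (hb : b ∈ J) (habc : a * b = f * c)
    [IsLocalization.Away c R'] :
    algebraMap R R' a ∈ nonZeroDivisors R' ∧ I.map (algebraMap R R') = Ideal.span {algebraMap R R' a} := by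
  have hfn : algebraMap R R' f ∈ nonZeroDivisors R' :=
    IsLocalization.map_nonZeroDivisors_le (Submonoid.powers c) R' (Submonoid.mem_map_of_mem _ hf)
  have hcu : IsUnit (algebraMap R R' c) := IsLocalization.Away.algebraMap_isUnit c
  have hab : algebraMap R R' a * algebraMap R R' b ∈ nonZeroDivisors R' := by
    rw [← map_mul, habc, map_mul]
    exact mul_mem hfn hcu.mem_nonZeroDivisors
  have hab' := mul_mem_nonZeroDivisors.1 hab
  refine ⟨hab'.1, ?_⟩
  apply le_antisymm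
  · rw [Ideal.map_le_iff_le_comap]
    intro x hx
    rw [Ideal.mem_comap]
    have hxb : x * b ∈ Ideal.span {f} := hIJ ▸ Ideal.mul_mem_mul hx hb
    obtain ⟨d, hd⟩ := Ideal.mem_span_singleton'.1 hxb
    obtain ⟨u, hu⟩ := hcu
    rw [Ideal.mem_span_singleton']
    refine ⟨algebraMap R R' d * ↑u⁻¹, ?_⟩
    have key : (algebraMap R R' d * ↑u⁻¹ * algebraMap R R' a - algebraMap R R' x) *
        algebraMap R R' b = 0 := by
      have e1 : algebraMap R R' a * algebraMap R R' b = algebraMap R R' f * ↑u := by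
        rw [← map_mul, habc, map_mul, hu]
      have e2 : algebraMap R R' d * algebraMap R R' f = algebraMap R R' x * algebraMap R R' b := by
        rw [← map_mul, hd, map_mul]
      have e3 : (↑u⁻¹ : R') * ↑u = 1 := Units.inv_mul u
      calc (algebraMap R R' d * ↑u⁻¹ * algebraMap R R' a - algebraMap R R' x) * algebraMap R R' b
          = algebraMap R R' d * ↑u⁻¹ * (algebraMap R R' a * algebraMap R R' b) -
              algebraMap R R' x * algebraMap R R' b := by ring
        _ = (algebraMap R R' d * algebraMap R R' f) * (↑u⁻¹ * ↑u) -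
              algebraMap R R' x * algebraMap R R' b := by rw [e1]; ring
        _ = 0 := by rw [e3, e2, mul_one, sub_self]
    exact sub_eq_zero.1 ((mem_nonZeroDivisors_iff_right.1 hab'.2) _ key)
  · rw [Ideal.span_singleton_le_iff_mem]
    exact Ideal.mem_map_of_mem _ ha



theorem half {X : Scheme.{u}} (𝓘 𝓙 : X.IdealSheafData)
    (h : BlowUp.IsEffCartierIdeal (𝓘 * 𝓙)) : BlowUp.IsEffCartierIdeal 𝓘 := by
  intro x
  obtain ⟨U, hxU, f, hf, hfI⟩ := h x
  have hIJ : 𝓘.ideal U * 𝓙.ideal U = Ideal.span {f} := hfI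
  let y := U.2.primeIdealOf ⟨x, hxU⟩
  obtain ⟨a, ha, b, hb, c, hc, habc⟩ := alg1 _ _ f hf hIJ y.asIdeal y.2.ne_top
  have hxc : x ∈ X.basicOpen c := by
    have h1 : y ∈ PrimeSpectrum.basicOpen c := hc
    have h2 : y ∈ U.2.fromSpec ⁻¹ᵁ X.basicOpen c := by
      rw [U.2.fromSpec_preimage_basicOpen]
      exact h1
    have h3 : U.2.fromSpec y = x := U.2.fromSpec_primeIdealOf ⟨x, hxU⟩
    rw [← h3]
    exact h2
  haveI := U.2.isLocalization_basicOpen c
  obtain ⟨h1, h2⟩ := alg2 (R' := Γ(X, X.basicOpen c)) _ _ f hf hIJ a b c ha hb habc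
  refine ⟨X.affineBasicOpen c, hxc, algebraMap Γ(X, U.1) Γ(X, X.basicOpen c) a, h1, ?_⟩
  rw [← 𝓘.map_ideal_basicOpen U c]
  exact h2



/-- Let 𝓘, 𝓙 be quasi-coherent ideal sheaves on a scheme X (closed subschemes Z, Y). If the product 𝓘𝓙
is the ideal sheaf of an effective Cartier divisor D, then 𝓘 and 𝓙 are ideal sheaves of effective
Cartier divisors (and D is their sum, D having ideal 𝓘𝓙 by assumption). -/
theorem result {X : Scheme.{u}} (𝓘 𝓙 : X.IdealSheafData)
    (h : BlowUp.IsEffCartierIdeal (𝓘 * 𝓙)) : BlowUp.IsEffCartierIdeal 𝓘 ∧ BlowUp.IsEffCartierIdeal 𝓙 := by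
  refine ⟨half 𝓘 𝓙 h, half 𝓙 𝓘 ?_⟩
  rw [mul_comm]
  exact h

end Groth.Agent.S8852
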