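import Groth.Statements.S7470
import Mathlib

set_option autoImplicit false
universe w u
open HTop

namespace Groth.Agent.S7470

open CategoryTheory CategoryTheory.Limits AlgebraicGeometry in
/-- Let E be a standard V covering of an affine scheme T and, for every member T_j of E, let F_j be a
standard V covering of T_j. Then the composite family of all T_ji -> T is a standard V covering. -/
theorem result {T : Scheme.{u}} (E : PreZeroHypercover.{w} T) (hE : HTop.IsStandardV E) (F : ∀ j, PreZeroHypercover.{w} (E.X j)) (hF : ∀ j, HTop.IsStandardV (F j)) : HTop.IsStandardV (E.bind F) := by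
  haveI := hE.finite_index
  haveI := fun j => (hF j).finite_index
  refine ⟨hE.isAffine, ?_, ?_, ?_⟩
  · change Finite (Σ (i : E.I₀), (F i).I₀)
    infer_instance
  · rintro ⟨i, j⟩
    exact (hF i).isAffine_obj j
  · intro V _ _ gV
    obtain ⟨W, hW1, hW2, φ, hφ, j, g', hg'⟩ := hE.lift V gV
    obtain ⟨W', hW1', hW2', φ', hφ', k, g'', hg''⟩ := (hF j).lift W g'
    refine ⟨W', hW1', hW2', φ ≫ φ', ⟨?_, ?_⟩, ⟨j, k⟩, g'', ?_⟩
    · have : (φ ≫ φ').hom = φ'.hom.comp φ.hom := rfl
      rw [this]
      exact hφ'.1.comp hφ.1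
    · have : (φ ≫ φ').hom = φ'.hom.comp φ.hom := rfl
      rw [this]
      haveI := hφ.2
      haveI := hφ'.2
      infer_instance
    · change g'' ≫ (F j).f k ≫ E.f j = _
      rw [← Category.assoc, hg'', Category.assoc, hg', Spec.map_comp, Category.assoc]

end Groth.Agent.S7470
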