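import Groth.Statements.S7467
import Mathlib
import Groth.Agent.Lib.Helper12.Subtr

set_option autoImplicit false
universe w u
open HTop

namespace Groth.Agent.S7467

open CategoryTheory CategoryTheory.Limits AlgebraicGeometry in
/-- A standard fpqc covering, that is a finite family of flat morphisms T_j -> T of affine schemes whose
images jointly cover the affine scheme T, is a standard V covering (every morphism from the spectrum
of a valuation ring to T lifts to some T_j after an extension of valuation rings). -/
theorem result {T : Scheme.{u}} [IsAffine T] (E : PreZeroHypercover.{w} T) (hfin : Finite E.I₀) (haff : ∀ j, IsAffine (E.X j)) (hflat : ∀ j, Flat (E.f j)) (hsurj : ∀ t : T, ∃ (j : E.I₀) (x : E.X j), E.f j x = t) : HTop.IsStandardV E := by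
  refine ⟨inferInstance, hfin, haff, ?_⟩
  intro V _ _ gV
  obtain ⟨j, x, hx⟩ := hsurj (gV.base (IsLocalRing.closedPoint V))
  haveI := hflat j
  obtain ⟨z, hz1, hz2⟩ := Scheme.Pullback.exists_preimage_pullback (f := gV) (g := E.f j)
    (IsLocalRing.closedPoint V) x hx.symm
  let η : PrimeSpectrum V := ⟨⊥, Ideal.isPrime_bot⟩
  have hη : (η : Spec V) ⤳ (pullback.fst gV (E.f j)).base z := by
    rw [hz1]
    exact IsLocalRing.specializes_closedPoint η
  have hgen : GeneralizingMap (pullback.fst gV (E.f j)).base := Flat.generalizingMap _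
  obtain ⟨z', hz'z, hz'η⟩ := hgen hη
  obtain ⟨A, hA1, hA2, hA3, g, hgc, hgg⟩ :=
    Groth.Agent.Lib.Helper12.exists_valuationRing_of_specializes hz'z
  obtain ⟨β, hβ⟩ := Spec.map_surjective (g ≫ pullback.fst gV (E.f j))
  have hc : (Spec.map β).base (IsLocalRing.closedPoint A) = IsLocalRing.closedPoint V := by
    rw [hβ]
    change (pullback.fst gV (E.f j)).base (g.base (IsLocalRing.closedPoint A)) = _
    rw [hgc, hz1]
  have hg : (Spec.map β).base (⟨⊥, Ideal.isPrime_bot⟩ : PrimeSpectrum A) = η := by
    rw [hβ]
    change (pullback.fst gV (E.f j)).base (g.base _) = _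
    rw [hgg, hz'η]
  have hloc : IsLocalHom β.hom := (IsLocalRing.isLocalHom_iff_comap_closedPoint β.hom).mpr hc
  have hinj : Function.Injective β.hom := by
    rw [RingHom.injective_iff_ker_eq_bot]
    have := congr_arg PrimeSpectrum.asIdeal hg
    exact this
  refine ⟨CommRingCat.of A, hA2, hA3, β, ⟨hinj, hloc⟩, j, g ≫ pullback.snd gV (E.f j), ?_⟩
  rw [Category.assoc, ← pullback.condition, ← Category.assoc, ← hβ]

end Groth.Agent.S7467
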