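import Groth.Statements.S7473
import Mathlib
import Groth.Agent.S7467

set_option autoImplicit false
universe u
open HTop

namespace Groth.Agent.S7473

open CategoryTheory CategoryTheory.Limits AlgebraicGeometry in
/-- An fpqc covering of a scheme T is a V covering. (Here an fpqc covering is a family in Mathlib's fpqc
precoverage: flat, jointly surjective, and every affine open of T is the union of the images of
finitely many quasi-compact opens of the members. The further clauses for fppf, syntomic, smooth,
étale and Zariski coverings follow because those coverings are fpqc coverings; the clause for ph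
coverings is the standard ph statement applied over each affine open.) -/
theorem result {T : Scheme.{u}} : ∀ 𝒰 : Scheme.Cover Scheme.fpqcPrecoverage T, HTop.IsVCover 𝒰.toPreZeroHypercover := by
  intro 𝒰 U
  have hflat : ∀ i, Flat (𝒰.f i) := fun i => 𝒰.forgetQc.map_prop i
  obtain ⟨n, a, V, hV, heq⟩ := QuasiCompactCover.exists_isAffineOpen_of_isCompact
    𝒰.toPreZeroHypercover (U := (U : T.Opens)) U.2.isCompact
  have hrange : ∀ i, Set.range ((V i).ι ≫ 𝒰.f (a i)).base ⊆ Set.range (U : T.Opens).ι.base := by
    intro i
    rintro _ ⟨y, rfl⟩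
    rw [Scheme.Opens.range_ι, ← heq]
    refine Set.mem_iUnion.2 ⟨i, (V i).ι.base y, ?_, rfl⟩
    exact y.2
  let F : PreZeroHypercover.{0} ((U : T.Opens) : Scheme.{u}) :=
    { I₀ := Fin n
      X := fun i => (V i).toScheme
      f := fun i => IsOpenImmersion.lift (U : T.Opens).ι ((V i).ι ≫ 𝒰.f (a i)) (hrange i) }
  have hFf : ∀ i, F.f i ≫ (U : T.Opens).ι = (V i).ι ≫ 𝒰.f (a i) := fun i =>
    IsOpenImmersion.lift_fac _ _ _
  haveI : IsAffine ((U : T.Opens) : Scheme.{u}) := U.2
  refine ⟨F, ?_, ?_⟩
  · refine Groth.Agent.S7467.result F (inferInstanceAs (Finite (Fin n))) (fun i => hV i) ?_ ?_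
    · intro i
      haveI := hflat (a i)
      have h1 : Flat (F.f i ≫ (U : T.Opens).ι) := by
        rw [hFf i]; infer_instance
      exact MorphismProperty.of_postcomp (W := @Flat) (W' := @IsOpenImmersion) (F.f i)
        (U : T.Opens).ι inferInstance h1
    · intro t
      have ht : (U : T.Opens).ι.base t ∈ ((U : T.Opens) : Set T) := by
        rw [← Scheme.Opens.range_ι]; exact ⟨t, rfl⟩
      rw [← heq] at ht
      obtain ⟨i, v, hv, hvt⟩ := Set.mem_iUnion.1 ht
      refine ⟨i, ⟨v, hv⟩, ?_⟩
      apply (U : T.Opens).ι.isOpenEmbedding.injective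
      change (F.f i ≫ (U : T.Opens).ι).base ⟨v, hv⟩ = _
      rw [hFf i]
      exact hvt
  · intro i
    exact ⟨a i, (V i).ι, (hFf i).symm⟩

end Groth.Agent.S7473
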