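import Groth.Statements.S7476
import Mathlib
import Groth.Agent.Lib.Helper51.VSubm

set_option autoImplicit false
universe w u
open HTop

namespace Groth.Agent.S7476

open CategoryTheory CategoryTheory.Limits AlgebraicGeometry in
/-- Let f : X -> Y be a quasi-compact morphism of schemes. Then the one-member family of f is a V
covering if and only if every morphism from the spectrum of a valuation ring to Y lifts to X after
an extension of valuation rings; and the latter holds if and only if for every morphism Z -> Y and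
every specialization z' ⤳ z of points of Z there is a specialization w' ⤳ w of points of Z x_Y X
mapping to z' ⤳ z. -/
theorem result {X Y : Scheme.{u}} (f : X ⟶ Y) [QuasiCompact f] : (HTop.IsVCover (PreZeroHypercover.singleton f) ↔ HTop.HasValLift (PreZeroHypercover.singleton f)) ∧ (HTop.HasValLift (PreZeroHypercover.singleton f) ↔ ∀ (Z : Scheme.{u}) (g : Z ⟶ Y) (z' z : Z), z' ⤳ z → ∃ w' w : ↑(pullback g f), w' ⤳ w ∧ pullback.fst g f w' = z' ∧ pullback.fst g f w = z) := by
  refine ⟨⟨fun h => ?_, fun hL => ?_⟩,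
    ⟨fun hL => ?_, fun hS => ?_⟩⟩
  · intro V _ _ gV
    obtain ⟨W, h1, h2, φ, hφ, j, g', hg'⟩ :=
      Groth.Agent.Lib.Helper51.VSubm.hasValLift_of_isVCover _ h V gV
    exact ⟨W, h1, h2, φ, hφ, PUnit.unit, g', hg'⟩
  · -- HasValLift + quasi-compact ⇒ V cover
    classical
    intro U
    have hcomp : IsCompact ((f ⁻¹ᵁ (U : Y.Opens) : X.Opens) : Set X) :=
      f.isCompact_preimage U.2.isCompact
    obtain ⟨s, hsfin, hs⟩ := (isCompact_iff_finite_and_eq_biUnion_affineOpens
      (U := f ⁻¹ᵁ (U : Y.Opens))).1 hcomp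
    let t := hsfin.toFinset
    let n := t.card
    let e : Fin n ≃ t := t.equivFin.symm
    let Vk : Fin n → X.affineOpens := fun k => (e k : X.affineOpens)
    have hVk_mem : ∀ k, Vk k ∈ s := fun k => hsfin.mem_toFinset.1 (e k).2
    have hVle : ∀ k, (Vk k : X.Opens) ≤ f ⁻¹ᵁ (U : Y.Opens) := by
      intro k
      rw [hs]
      exact le_iSup₂ (f := fun (i : X.affineOpens) (_ : i ∈ s) => (i : X.Opens)) (Vk k) (hVk_mem k)
    have hrange : ∀ k, Set.range ((Vk k : X.Opens).ι ≫ f).base ⊆
        Set.range (U : Y.Opens).ι.base := by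
      intro k
      rintro _ ⟨y, rfl⟩
      rw [Scheme.Opens.range_ι]
      exact hVle k y.2
    let F : PreZeroHypercover.{0} ((U : Y.Opens) : Scheme.{u}) :=
      { I₀ := Fin n
        X := fun k => ((Vk k : X.Opens) : Scheme.{u})
        f := fun k => IsOpenImmersion.lift (U : Y.Opens).ι ((Vk k : X.Opens).ι ≫ f) (hrange k) }
    have hFf : ∀ k, F.f k ≫ (U : Y.Opens).ι = (Vk k : X.Opens).ι ≫ f := fun k =>
      IsOpenImmersion.lift_fac _ _ _
    refine ⟨F, ⟨U.2, inferInstanceAs (Finite (Fin n)), fun k => (Vk k).2, ?_⟩, ?_⟩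
    · intro V _ _ gV
      obtain ⟨W, h1, h2, φ, hφ, j, g', hg'⟩ := hL V (gV ≫ (U : Y.Opens).ι)
      change Spec W ⟶ X at g'
      change g' ≫ f = _ at hg'
      -- the closed point lands in some Vk
      have hc : g'.base (IsLocalRing.closedPoint W) ∈ (f ⁻¹ᵁ (U : Y.Opens) : X.Opens) := by
        change f.base (g'.base (IsLocalRing.closedPoint W)) ∈ (U : Y.Opens)
        have := congrArg (fun m => m.base (IsLocalRing.closedPoint W)) hg'
        have h3 : f.base (g'.base (IsLocalRing.closedPoint W)) =
            (U : Y.Opens).ι.base (gV.base ((Spec.map φ).base (IsLocalRing.closedPoint W))) := this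
        rw [h3]
        exact (gV.base ((Spec.map φ).base (IsLocalRing.closedPoint W))).2
      rw [hs] at hc
      simp only [TopologicalSpace.Opens.mem_iSup] at hc
      obtain ⟨V₀, hV₀s, hcV₀⟩ := hc
      let k : Fin n := e.symm ⟨V₀, hsfin.mem_toFinset.2 hV₀s⟩
      have hk : Vk k = V₀ := by simp [Vk, k]
      have hrange' : Set.range g'.base ⊆ Set.range (Vk k : X.Opens).ι.base := by
        rintro _ ⟨y, rfl⟩
        rw [Scheme.Opens.range_ι, hk]
        have hy : (y : PrimeSpectrum W) ⤳ IsLocalRing.closedPoint W :=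
          IsLocalRing.specializes_closedPoint y
        exact (hy.map g'.continuous).mem_open (V₀ : X.Opens).isOpen hcV₀
      refine ⟨W, h1, h2, φ, hφ, k, IsOpenImmersion.lift (Vk k : X.Opens).ι g' hrange', ?_⟩
      rw [← cancel_mono (U : Y.Opens).ι, Category.assoc, hFf k, ← Category.assoc,
        IsOpenImmersion.lift_fac, hg', Category.assoc]
    · intro k
      exact ⟨PUnit.unit, (Vk k : X.Opens).ι, (hFf k).symm⟩
  · -- HasValLift ⇒ lifting of specializations after base change
    intro Z g z' z hz
    obtain ⟨A, hA1, hA2, hA3, a, hac, hag⟩ :=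
      Groth.Agent.Lib.Helper12.exists_valuationRing_of_specializes hz
    obtain ⟨W, h1, h2, φ, hφ, j, g', hg'⟩ := hL (CommRingCat.of A) (a ≫ g)
    change Spec W ⟶ X at g'
    change g' ≫ f = _ at hg'
    let b : Spec W ⟶ pullback g f := pullback.lift (Spec.map φ ≫ a) g' (by rw [Category.assoc, hg'])
    have hb : b ≫ pullback.fst g f = Spec.map φ ≫ a := pullback.lift_fst _ _ _
    refine ⟨b.base (⟨⊥, Ideal.isPrime_bot⟩ : PrimeSpectrum W), b.base (IsLocalRing.closedPoint W),
      (IsLocalRing.specializes_closedPoint _).map b.continuous, ?_, ?_⟩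
    · have := congrArg (fun m => m.base (⟨⊥, Ideal.isPrime_bot⟩ : PrimeSpectrum W)) hb
      have e : a.base ((Spec.map φ).base (⟨⊥, Ideal.isPrime_bot⟩ : PrimeSpectrum W)) = z' := by
        rw [Groth.Agent.Lib.Helper51.VSubm.extVal_genericPoint φ hφ]; exact hag
      exact this.trans e
    · have := congrArg (fun m => m.base (IsLocalRing.closedPoint W)) hb
      have e : a.base ((Spec.map φ).base (IsLocalRing.closedPoint W)) = z := by
        rw [Groth.Agent.Lib.Helper51.VSubm.extVal_closedPoint φ hφ]; exact hac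
      exact this.trans e
  · -- lifting of specializations ⇒ HasValLift
    intro V _ _ gV
    let η : PrimeSpectrum V := ⟨⊥, Ideal.isPrime_bot⟩
    obtain ⟨w', w, hww, hw', hw⟩ := hS (Spec V) gV η (IsLocalRing.closedPoint V)
      (IsLocalRing.specializes_closedPoint η)
    obtain ⟨A, hA1, hA2, hA3, b, hbc, hbg⟩ :=
      Groth.Agent.Lib.Helper12.exists_valuationRing_of_specializes hww
    obtain ⟨β, hβ⟩ := Spec.map_surjective (b ≫ pullback.fst gV f)
    have hc : (Spec.map β).base (IsLocalRing.closedPoint A) = IsLocalRing.closedPoint V := by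
      rw [hβ]
      change (pullback.fst gV f).base (b.base (IsLocalRing.closedPoint A)) = _
      rw [hbc, hw]
    have hg : (Spec.map β).base (⟨⊥, Ideal.isPrime_bot⟩ : PrimeSpectrum A) = η := by
      rw [hβ]
      change (pullback.fst gV f).base (b.base _) = _
      rw [hbg, hw']
    have hloc : IsLocalHom β.hom := (IsLocalRing.isLocalHom_iff_comap_closedPoint β.hom).mpr hc
    have hinj : Function.Injective β.hom := by
      rw [RingHom.injective_iff_ker_eq_bot]
      have := congr_arg PrimeSpectrum.asIdeal hg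
      exact this
    refine ⟨CommRingCat.of A, hA2, hA3, β, ⟨hinj, hloc⟩, PUnit.unit, b ≫ pullback.snd gV f, ?_⟩
    change (b ≫ pullback.snd gV f) ≫ f = _
    rw [Category.assoc, ← pullback.condition, ← Category.assoc, ← hβ]

end Groth.Agent.S7476
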