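import Groth.Statements.S8980
import Mathlib
import Groth.Agent.Lib.Helper51.VSubm

set_option autoImplicit false
universe u
open HTop

namespace Groth.Agent.S8980

open CategoryTheory CategoryTheory.Limits AlgebraicGeometry in
/-- A family of morphisms T_i → T, indexed by a type in the universe of T and all locally of finite
presentation, is an h covering if and only if the one-member family given by the induced morphism
from the coproduct of the T_i to T is an h covering. (The published statement also lists, as a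
further equivalent condition, that some h covering refines the family; that equivalence is immediate
from the definitions and is not restated here.) -/
theorem result {T : Scheme.{u}} (E : PreZeroHypercover.{u} T) (hE : ∀ i, LocallyOfFinitePresentation (E.f i)) : HTop.IsHCover E ↔ HTop.IsHCover (PreZeroHypercover.singleton.{0} (Sigma.desc E.f)) := by
  have hlfp : LocallyOfFinitePresentation (Sigma.desc E.f) :=
    IsZariskiLocalAtSource.sigmaDesc (P := @LocallyOfFinitePresentation) hE
  constructor
  · rintro ⟨-, hV⟩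
    refine ⟨fun _ => hlfp, ?_⟩
    intro U
    obtain ⟨F, hF, href⟩ := hV U
    refine ⟨F, hF, fun j => ?_⟩
    obtain ⟨i, k, hk⟩ := href j
    refine ⟨PUnit.unit, k ≫ Sigma.ι E.X i, ?_⟩
    change (k ≫ Sigma.ι E.X i) ≫ Sigma.desc E.f = _
    rw [Category.assoc, Sigma.ι_desc, hk]
  · rintro ⟨-, hV⟩
    refine ⟨hE, ?_⟩
    -- the sigma inclusions form a V covering of the coproduct
    let 𝒰 : Scheme.Cover Scheme.fpqcPrecoverage (∐ E.X) :=
      ⟨(sigmaOpenCover E.X).toPreZeroHypercover,
        Scheme.zariskiPrecoverage_le_fpqcPrecoverage _ (sigmaOpenCover E.X).mem₀⟩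
    have h𝒰 : HTop.IsVCover 𝒰.toPreZeroHypercover := Groth.Agent.S7473.result 𝒰
    intro U
    obtain ⟨F, hF, href⟩ := hV U
    choose idx k₀ hk₀ using href
    let k : ∀ j, F.X j ⟶ ∐ E.X := fun j => k₀ j
    have hk : ∀ j, k j ≫ Sigma.desc E.f = F.f j ≫ (U : T.Opens).ι := fun j => hk₀ j
    haveI : ∀ j, IsAffine (F.X j) := hF.isAffine_obj
    have h3 : ∀ j, ∃ G : PreZeroHypercover.{0} (F.X j), HTop.IsStandardV G ∧
        HTop.RefinesOver (k j) G 𝒰.toPreZeroHypercover := fun j =>
      Groth.Agent.Lib.Helper51.VCover.exists_standardV_refinesOver (k j) _ h𝒰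
    choose G hG hGref using h3
    refine ⟨F.bind G, Groth.Agent.S7470.result F hF G hG, ?_⟩
    rintro ⟨j, l⟩
    obtain ⟨i, h', hh'⟩ := hGref j l
    change E.I₀ at i
    change (G j).X l ⟶ E.X i at h'
    change h' ≫ Sigma.ι E.X i = (G j).f l ≫ k j at hh'
    refine ⟨i, h', ?_⟩
    have hkj : k j ≫ Sigma.desc E.f = F.f j ≫ (U : T.Opens).ι := hk j
    have e1 : h' ≫ E.f i = (h' ≫ Sigma.ι E.X i) ≫ Sigma.desc E.f := by
      rw [Category.assoc, Sigma.ι_desc]
    have e2 : (h' ≫ Sigma.ι E.X i) ≫ Sigma.desc E.f = ((G j).f l ≫ F.f j) ≫ (U : T.Opens).ι := by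
      rw [hh', Category.assoc, hkj, Category.assoc]
    exact e1.trans e2

end Groth.Agent.S8980
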