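import Groth.Statements.S2211
import Mathlib.Data.Nat.Choose.Lucas
import Mathlib.Data.Nat.Prime.Factorial
-- import your own Groth.Agent.* helpers here

set_option autoImplicit false
universe u
open DPow

namespace Groth.Agent.S2211

theorem not_dvd_of_modEq_one {p a : ℕ} (hp : p.Prime) (h : a ≡ 1 [MOD p]) : ¬ p ∣ a := by
  intro hd
  have h0 : 0 ≡ 1 [MOD p] := (Nat.modEq_zero_iff_dvd.2 hd).symm.trans h
  have : p ∣ 1 := (Nat.modEq_zero_iff_dvd.1 h0.symm)
  exact hp.one_lt.ne' (Nat.dvd_one.1 this)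

theorem choose_modEq_one_a {p : ℕ} (hp : p.Prime) (q r : ℕ) (hr : r < p) :
    Nat.choose (q * p + r) (q * p) ≡ 1 [MOD p] := by
  have : Fact p.Prime := ⟨hp⟩
  have h := Choose.choose_modEq_choose_mod_mul_choose_div_nat (p := p) (n := q * p + r)
    (k := q * p)
  have e1 : (q * p + r) % p = r := by
    rw [Nat.add_comm, Nat.add_mul_mod_self_right, Nat.mod_eq_of_lt hr]
  have e2 : (q * p) % p = 0 := Nat.mul_mod_left _ _
  have e3 : (q * p + r) / p = q := by
    rw [Nat.add_comm, Nat.add_mul_div_right _ _ hp.pos, Nat.div_eq_of_lt hr, Nat.zero_add]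
  have e4 : (q * p) / p = q := Nat.mul_div_cancel _ hp.pos
  rw [e1, e2, e3, e4] at h
  simpa using h

theorem choose_modEq_one_b {p : ℕ} (hp : p.Prime) (j : ℕ) :
    Nat.choose (j * p + p - 1) (p - 1) ≡ 1 [MOD p] := by
  have : Fact p.Prime := ⟨hp⟩
  have hp1 : p - 1 < p := Nat.sub_lt hp.pos Nat.one_pos
  have h := Choose.choose_modEq_choose_mod_mul_choose_div_nat (p := p) (n := j * p + p - 1)
    (k := p - 1)
  have e0 : j * p + p - 1 = (p - 1) + j * p := by have := hp.pos; omega
  have e1 : (j * p + p - 1) % p = p - 1 := by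
    rw [e0, Nat.add_mul_mod_self_right, Nat.mod_eq_of_lt hp1]
  have e2 : (p - 1) % p = p - 1 := Nat.mod_eq_of_lt hp1
  have e3 : (j * p + p - 1) / p = j := by
    rw [e0, Nat.add_mul_div_right _ _ hp.pos, Nat.div_eq_of_lt hp1, Nat.zero_add]
  have e4 : (p - 1) / p = 0 := Nat.div_eq_of_lt hp1
  rw [e1, e2, e3, e4] at h
  simpa using h

theorem uniformBell_modEq_one {p : ℕ} (hp : p.Prime) (q : ℕ) :
    Nat.uniformBell q p ≡ 1 [MOD p] := by
  induction q with
  | zero => rw [Nat.uniformBell_zero_left]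
  | succ q ih =>
    rw [Nat.uniformBell_succ_left]
    simpa using (choose_modEq_one_b hp q).mul ih

theorem dpow_eq_of_prime {A : Type u} [CommRing A] (p : ℕ) (hp : p.Prime)
    (hA : ∀ n : ℕ, ¬ p ∣ n → IsUnit (n : A)) {I : Ideal A} (γ γ' : DividedPowers I)
    (h : ∀ x ∈ I, γ.dpow p x = γ'.dpow p x) :
    ∀ n : ℕ, ∀ x ∈ I, γ.dpow n x = γ'.dpow n x := by
  intro n
  induction n using Nat.strong_induction_on with
  | _ n ih =>
  intro x hx
  by_cases hn : n < p
  · have hu : IsUnit ((n.factorial : ℕ) : A) :=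
      hA _ (by rw [hp.dvd_factorial]; omega)
    apply hu.mul_left_cancel
    rw [γ.factorial_mul_dpow_eq_pow hx, γ'.factorial_mul_dpow_eq_pow hx]
  · rw [not_lt] at hn
    obtain ⟨q, r, hr, hn'⟩ : ∃ q r, r < p ∧ n = q * p + r :=
      ⟨n / p, n % p, Nat.mod_lt _ hp.pos, (Nat.div_add_mod' n p).symm⟩
    have hq : 1 ≤ q := by
      rcases Nat.eq_zero_or_pos q with h0 | h0
      · subst h0; omega
      · exact h0
    have hqp : q * 2 ≤ q * p := Nat.mul_le_mul_left _ hp.two_le
    have hqn : q < n := by omega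
    have hrn : r < n := by omega
    have e : ∀ δ : DividedPowers I,
        ((Nat.uniformBell q p * Nat.choose (q * p + r) (q * p) : ℕ) : A) * δ.dpow n x =
          δ.dpow q (δ.dpow p x) * δ.dpow r x := by
      intro δ
      rw [δ.dpow_comp hp.ne_zero hx, mul_assoc, δ.mul_dpow hx, ← hn']
      push_cast
      ring
    have hu : IsUnit ((Nat.uniformBell q p * Nat.choose (q * p + r) (q * p) : ℕ) : A) := by
      apply hA
      rw [hp.dvd_mul]
      rintro (h1 | h1)
      · exact not_dvd_of_modEq_one hp (uniformBell_modEq_one hp q) h1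
      · exact not_dvd_of_modEq_one hp (choose_modEq_one_a hp q r hr) h1
    apply hu.mul_left_cancel
    rw [e γ, e γ', h x hx, ih q hqn _ (γ'.dpow_mem hp.ne_zero hx), ih r hrn x hx]

/-- First part: let p be a prime and A a ring in which every integer prime to p is invertible, I an
ideal of A. Two divided power structures on I coincide exactly when their p-th divided power maps
agree on I. -/
theorem result {A : Type u} [CommRing A] (p : ℕ) (hp : p.Prime)
    (hA : ∀ n : ℕ, ¬ p ∣ n → IsUnit (n : A)) {I : Ideal A} (γ γ' : DividedPowers I) :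
    γ = γ' ↔ ∀ x ∈ I, γ.dpow p x = γ'.dpow p x := by
  constructor
  · rintro rfl x _; rfl
  · intro h
    ext n x hx
    exact dpow_eq_of_prime p hp hA γ γ' h n x hx

end Groth.Agent.S2211
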