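import Groth.Statements.S6955
import Groth.Agent.Lib.Helper84.FinRes
import Groth.Agent.Lib.Helper84.TrimFP
import Groth.Agent.Lib.Helper84.DRingPerf

set_option autoImplicit false
universe u
open CategoryTheory CategoryTheory.Limits
attribute [local instance] HasDerivedCategory.standard
open DRing

namespace Groth.Agent.S6955

/-- Let R be a commutative ring and M an R-module. Then M is perfect (M[0] is isomorphic in D(R) to a
bounded complex of finite projective modules) if and only if M admits a projective resolution of
finite length whose terms are finitely generated, i.e. a resolution 0 → F_d → ... → F_0 → M → 0 by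
finite projective modules. -/
theorem result (R : Type u) [CommRing R] (M : Type u)
    [AddCommGroup M] [Module R M] :
    DRing.IsPerfectModule R M ↔
      ∃ (P : ProjectiveResolution (ModuleCat.of R M)) (d : ℕ),
        (∀ i : ℕ, d < i → IsZero (P.complex.X i)) ∧ ∀ i : ℕ, Module.Finite R (P.complex.X i) := by
  open Groth.Agent.Lib.Helper84 in
  constructor
  · rintro ⟨E, a, b, h1, h2, ⟨e⟩⟩
    haveI : (DRing.toD E).IsLE 0 := DerivedCategory.TStructure.t.isLE_of_iso e.symm 0
    obtain ⟨E', h1', h2', ⟨e'⟩⟩ := TrimFP.exists_trim E a b 0 h1 h2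
    haveI : E'.IsKProjective := DRingPerf.isKProjective_of_finiteProjective E' a 0 h1' h2'
    obtain ⟨z, hz, hφ⟩ := ToSingle.exists_Q_map_toSingleHom_eq E'
      (by norm_num : (-1 : ℤ) + 1 = 0) (e' ≪≫ e).hom
    have hq : QuasiIso (ToSingle.toSingleHom E' (by norm_num : (-1 : ℤ) + 1 = 0) z hz) := by
      rw [← DerivedCategory.isIso_Q_map_iff_quasiIso, ← hφ]
      infer_instance
    have hE : ∀ i : ℤ, 0 < i → IsZero (E'.X i) := fun i hi => h1' i (Or.inr hi)
    haveI : ∀ i, Projective (E'.X i) := fun i => DRingPerf.projective_of_finiteProjective (h2' i)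
    refine ⟨FinRes.res E' z hz hE hq, (-a).toNat, ?_, ?_⟩
    · intro i hi
      refine h1' _ (Or.inl ?_)
      change -(i : ℤ) < a
      have := Int.self_le_toNat (-a)
      omega
    · intro i
      exact (h2' _).1
  · rintro ⟨P, d, hzero, hfin⟩
    refine ⟨P.cochainComplex, -(d : ℤ), 0, ?_, ?_, ⟨?_⟩⟩
    · intro i hi
      rcases hi with hi | hi
      · obtain ⟨k, rfl⟩ := Int.exists_eq_neg_ofNat (by omega : i ≤ 0)
        exact IsZero.of_iso (hzero k (by omega)) (P.cochainComplexXIso (-(k : ℤ)) k)
      · exact CochainComplex.isZero_of_isStrictlyLE _ 0 _ hi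
    · intro i
      by_cases hi : i ≤ 0
      · obtain ⟨k, rfl⟩ := Int.exists_eq_neg_ofNat hi
        refine DRingPerf.finiteProjective_of_iso (P.cochainComplexXIso (-(k : ℤ)) k).symm
          ⟨hfin k, ?_⟩
        have hp : Projective (ModuleCat.of R (P.complex.X k)) := P.projective k
        exact (IsProjective.iff_projective (R := R) (P := P.complex.X k)).2 hp
      · exact TrimFP.finiteProjective_of_isZero
          (CochainComplex.isZero_of_isStrictlyLE _ 0 _ (by omega))
    · exact asIso (DerivedCategory.Q.map P.π') ≪≫
        ((DerivedCategory.singleFunctorIsoCompQ (ModuleCat.{u} R) 0).symm.app _)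

end Groth.Agent.S6955
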