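import Groth.Statements.S6669
import Mathlib
import Groth.Agent.Lib.Helper61.RDerBC
import Groth.Agent.Lib.Helper61.AdjTransfer

set_option autoImplicit false
universe u
open CategoryTheory CategoryTheory.Limits AlgebraicGeometry Opposite
open EtBC

namespace Groth.Agent.S6669
set_option maxHeartbeats 400000

open CategoryTheory CategoryTheory.Limits AlgebraicGeometry Opposite
open Groth.Agent.Lib.Helper61.RDerBC Groth.Agent.Lib.Helper61.AdjTransfer

variable {X S Y T W Z : Scheme.{u}}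

/-- the square isomorphism -/
noncomputable def sq {X S X' S' : Scheme.{u}} (f : X ⟶ S) (g : S' ⟶ S) (f' : X' ⟶ S') (g' : X' ⟶ X)
    (w : g' ≫ f = f' ≫ g) : EtCoh.push g' ⋙ EtCoh.push f ≅ EtCoh.push f' ⋙ EtCoh.push g :=
  EtCoh.pushComp f g' ≪≫ EtCoh.pushCongr w ≪≫ (EtCoh.pushComp g f').symm

theorem bcQAdj_eq {X S X' S' : Scheme.{u}} (f : X ⟶ S) (g : S' ⟶ S) (f' : X' ⟶ S') (g' : X' ⟶ X)
    (w : g' ≫ f = f' ≫ g) (q : ℕ) [PreservesFiniteLimits (EtCoh.pull g')] (F : EtCoh.Ab X) :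
    EtBC.bcQAdj f g f' g' w q F =
      bcA (EtCoh.push g') (EtCoh.push f) (EtCoh.push f') (EtCoh.push g) (sq f g f' g' w) q
        ((EtCoh.pullPushAdj g').unit.app F) := rfl

/-- component of `pullbackComp`. -/
noncomputable def pcHom {X Y S : Scheme.{u}} (g' : X ⟶ Y) (f : Y ⟶ S) (U : S.Etale) :
    (EtCoh.bc (g' ≫ f)).obj U ⟶ (EtCoh.bc g').obj ((EtCoh.bc f).obj U) :=
  (MorphismProperty.Over.pullbackComp g' f).hom.app U

/-- component of the inverse of `pullbackComp`. -/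
noncomputable def pcInv {X Y S : Scheme.{u}} (g' : X ⟶ Y) (f : Y ⟶ S) (U : S.Etale) :
    (EtCoh.bc g').obj ((EtCoh.bc f).obj U) ⟶ (EtCoh.bc (g' ≫ f)).obj U :=
  (MorphismProperty.Over.pullbackComp g' f).inv.app U

/-- component of the inverse of `pullbackCongr`. -/
noncomputable def pgInv {X S : Scheme.{u}} {f₁ f₂ : X ⟶ S} (w : f₁ = f₂) (U : S.Etale) :
    (EtCoh.bc f₂).obj U ⟶ (EtCoh.bc f₁).obj U :=
  (MorphismProperty.Over.pullbackCongr w).inv.app U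

/-- the morphism of the small etale site underlying `sq`. -/
noncomputable def sqMor {X S X' S' : Scheme.{u}} (f : X ⟶ S) (g : S' ⟶ S) (f' : X' ⟶ S')
    (g' : X' ⟶ X) (w : g' ≫ f = f' ≫ g) (U : S.Etale) :
    (EtCoh.bc f').obj ((EtCoh.bc g).obj U) ⟶ (EtCoh.bc g').obj ((EtCoh.bc f).obj U) :=
  pcInv f' g U ≫ pgInv w U ≫ pcHom g' f U

theorem sq_hom_app {X S X' S' : Scheme.{u}} (f : X ⟶ S) (g : S' ⟶ S) (f' : X' ⟶ S')
    (g' : X' ⟶ X) (w : g' ≫ f = f' ≫ g) (M : EtCoh.Ab X') (U : S.Etale) :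
    ((sq f g f' g' w).hom.app M).hom.app (op U) = M.obj.map (sqMor f g f' g' w U).op := by
  simp [sq, sqMor, pcInv, pgInv, pcHom, EtCoh.pushComp, EtCoh.pushCongr]
  rfl

theorem pushComp_hom_app {X Y S : Scheme.{u}} (f : Y ⟶ S) (g' : X ⟶ Y) (M : EtCoh.Ab X)
    (U : S.Etale) :
    ((EtCoh.pushComp f g').hom.app M).hom.app (op U) = M.obj.map (pcHom g' f U).op := by
  simp [pcHom, EtCoh.pushComp]

theorem pushComp_inv_app {X Y S : Scheme.{u}} (f : Y ⟶ S) (g' : X ⟶ Y) (M : EtCoh.Ab X)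
    (U : S.Etale) :
    ((EtCoh.pushComp f g').inv.app M).hom.app (op U) = M.obj.map (pcInv g' f U).op := by
  simp [pcInv, EtCoh.pushComp]

theorem etale_comp_left {X : Scheme.{u}} {A B C : X.Etale} (a : A ⟶ B) (b : B ⟶ C) :
    (a ≫ b).left = a.left ≫ b.left := rfl

theorem etale_w {X : Scheme.{u}} {A B : X.Etale} (a : A ⟶ B) : a.left ≫ B.hom = A.hom :=
  MorphismProperty.Over.w a

theorem etale_hom_ext {X : Scheme.{u}} {A B : X.Etale} (a b : A ⟶ B) (h : a.left = b.left) :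
    a = b :=
  MorphismProperty.Over.Hom.ext h

/-- projection of `V ×_S X` to `V`. -/
noncomputable abbrev pr {X S : Scheme.{u}} (f : X ⟶ S) (U : S.Etale) :
    ((EtCoh.bc f).obj U).left ⟶ U.left := pullback.fst U.hom f

theorem bc_obj_hom {X S : Scheme.{u}} (f : X ⟶ S) (U : S.Etale) :
    ((EtCoh.bc f).obj U).hom = pullback.snd U.hom f := rfl

theorem pr_condition {X S : Scheme.{u}} (f : X ⟶ S) (U : S.Etale) :
    pr f U ≫ U.hom = ((EtCoh.bc f).obj U).hom ≫ f := pullback.condition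

@[reassoc]
theorem bc_map_left_pr {X S : Scheme.{u}} (f : X ⟶ S) {U V : S.Etale} (a : U ⟶ V) :
    ((EtCoh.bc f).map a).left ≫ pr f V = pr f U ≫ a.left := by
  dsimp [EtCoh.bc, pr]
  exact pullback.lift_fst _ _ _

theorem hom_ext_bc {X S : Scheme.{u}} (f : X ⟶ S) (U : S.Etale) {A : X.Etale}
    (a b : A ⟶ (EtCoh.bc f).obj U) (h : a.left ≫ pr f U = b.left ≫ pr f U) : a = b := by
  apply etale_hom_ext
  apply pullback.hom_ext
  · exact h
  · have ha : a.left ≫ pullback.snd U.hom f = A.hom := etale_w a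
    have hb : b.left ≫ pullback.snd U.hom f = A.hom := etale_w b
    exact ha.trans hb.symm

theorem hom_ext_bc_bc {X' S' S : Scheme.{u}} (g : S' ⟶ S) (f' : X' ⟶ S') (U : S.Etale)
    {A : X'.Etale} (a b : A ⟶ (EtCoh.bc f').obj ((EtCoh.bc g).obj U))
    (h : a.left ≫ pr f' _ ≫ pr g U = b.left ≫ pr f' _ ≫ pr g U) : a = b := by
  apply hom_ext_bc
  apply pullback.hom_ext
  · exact (Category.assoc _ _ _).trans (h.trans (Category.assoc _ _ _).symm)
  · have ha : a.left ≫ ((EtCoh.bc f').obj ((EtCoh.bc g).obj U)).hom = A.hom := etale_w a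
    have hb : b.left ≫ ((EtCoh.bc f').obj ((EtCoh.bc g).obj U)).hom = A.hom := etale_w b
    have hc : pr f' ((EtCoh.bc g).obj U) ≫ pullback.snd U.hom g =
        ((EtCoh.bc f').obj ((EtCoh.bc g).obj U)).hom ≫ f' := pr_condition f' ((EtCoh.bc g).obj U)
    have h1 : ∀ t : A ⟶ (EtCoh.bc f').obj ((EtCoh.bc g).obj U),
        t.left ≫ ((EtCoh.bc f').obj ((EtCoh.bc g).obj U)).hom = A.hom →
        (t.left ≫ pr f' ((EtCoh.bc g).obj U)) ≫ pullback.snd U.hom g = A.hom ≫ f' := by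
      intro t ht
      rw [Category.assoc, hc, ← Category.assoc, ht]
    exact (h1 a ha).trans (h1 b hb).symm

@[reassoc]
theorem pcHom_pr {X Y S : Scheme.{u}} (g' : X ⟶ Y) (f : Y ⟶ S) (U : S.Etale) :
    (pcHom g' f U).left ≫ pr g' ((EtCoh.bc f).obj U) ≫ pr f U = pr (g' ≫ f) U :=
  MorphismProperty.Over.pullbackComp_left_fst_fst g' f U

theorem pcInv_pcHom {X Y S : Scheme.{u}} (g' : X ⟶ Y) (f : Y ⟶ S) (U : S.Etale) :
    pcInv g' f U ≫ pcHom g' f U = 𝟙 _ :=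
  Iso.inv_hom_id_app _ _

theorem etale_id_left {X : Scheme.{u}} (A : X.Etale) : (𝟙 A : A ⟶ A).left = 𝟙 A.left := rfl

@[reassoc]
theorem pcInv_pr {X Y S : Scheme.{u}} (g' : X ⟶ Y) (f : Y ⟶ S) (U : S.Etale) :
    (pcInv g' f U).left ≫ pr (g' ≫ f) U = pr g' ((EtCoh.bc f).obj U) ≫ pr f U := by
  rw [← pcHom_pr g' f U, ← Category.assoc, ← etale_comp_left, pcInv_pcHom, etale_id_left,
    Category.id_comp]

@[reassoc]
theorem pgInv_pr {X S : Scheme.{u}} {f₁ f₂ : X ⟶ S} (w : f₁ = f₂) (U : S.Etale) :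
    (pgInv w U).left ≫ pr f₁ U = pr f₂ U := by
  subst w
  simp [pgInv, MorphismProperty.Over.pullbackCongr]
  exact Category.id_comp _

@[reassoc]
theorem sqMor_pr {X S X' S' : Scheme.{u}} (f : X ⟶ S) (g : S' ⟶ S) (f' : X' ⟶ S')
    (g' : X' ⟶ X) (w : g' ≫ f = f' ≫ g) (U : S.Etale) :
    (sqMor f g f' g' w U).left ≫ pr g' ((EtCoh.bc f).obj U) ≫ pr f U =
      pr f' ((EtCoh.bc g).obj U) ≫ pr g U := by
  unfold sqMor
  rw [etale_comp_left, etale_comp_left, Category.assoc, Category.assoc, pcHom_pr,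
    pgInv_pr, pcInv_pr]

theorem sqMor_vcomp (f : X ⟶ S) (g : T ⟶ S) (h : Y ⟶ X) (e : Y ⟶ T) (i : W ⟶ X) (j : Z ⟶ W)
    (k : Z ⟶ Y) (w : e ≫ g = h ≫ f) (w' : k ≫ h = j ≫ i) (w'' : (k ≫ e) ≫ g = j ≫ (i ≫ f))
    (U : S.Etale) :
    sqMor g (i ≫ f) j (k ≫ e) w'' U =
      (EtCoh.bc j).map (pcHom i f U) ≫ sqMor h i j k w' ((EtCoh.bc f).obj U) ≫
        (EtCoh.bc k).map (sqMor g f h e w U) ≫ pcInv k e ((EtCoh.bc g).obj U) := by
  apply hom_ext_bc_bc
  rw [sqMor_pr]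
  rw [etale_comp_left, etale_comp_left, etale_comp_left]
  simp only [Category.assoc]
  rw [pcInv_pr_assoc, bc_map_left_pr_assoc, sqMor_pr, sqMor_pr_assoc, bc_map_left_pr_assoc,
    pcHom_pr]

theorem comp4 {C : Type*} [Category C] {A B C' D E : C} {a a' : A ⟶ B} {b b' : B ⟶ C'}
    {c c' : C' ⟶ D} {d d' : D ⟶ E} (ha : a = a') (hb : b = b') (hc : c = c') (hd : d = d') :
    a ≫ b ≫ c ≫ d = a' ≫ b' ≫ c' ≫ d' := by
  subst ha hb hc hd
  rfl

theorem sq_vcomp_app (f : X ⟶ S) (g : T ⟶ S) (h : Y ⟶ X) (e : Y ⟶ T) (i : W ⟶ X) (j : Z ⟶ W)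
    (k : Z ⟶ Y) (w : e ≫ g = h ≫ f) (w' : k ≫ h = j ≫ i) (w'' : (k ≫ e) ≫ g = j ≫ (i ≫ f))
    (M : EtCoh.Ab Z) :
    (sq g (i ≫ f) j (k ≫ e) w'').hom.app M =
      (EtCoh.push g).map ((EtCoh.pushComp e k).inv.app M) ≫
        (sq g f h e w).hom.app ((EtCoh.push k).obj M) ≫
        (EtCoh.push f).map ((sq h i j k w').hom.app M) ≫
        (EtCoh.pushComp f i).hom.app ((EtCoh.push j).obj M) := by
  ext U : 3
  induction U using Opposite.rec with | _ U => ?_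
  have c1 : ((EtCoh.push g).map ((EtCoh.pushComp e k).inv.app M)).hom.app (op U) =
      M.obj.map (pcInv k e ((EtCoh.bc g).obj U)).op :=
    pushComp_inv_app e k M ((EtCoh.bc g).obj U)
  have c2 : ((sq g f h e w).hom.app ((EtCoh.push k).obj M)).hom.app (op U) =
      M.obj.map ((EtCoh.bc k).map (sqMor g f h e w U)).op :=
    sq_hom_app g f h e w ((EtCoh.push k).obj M) U
  have c3 : ((EtCoh.push f).map ((sq h i j k w').hom.app M)).hom.app (op U) =
      M.obj.map (sqMor h i j k w' ((EtCoh.bc f).obj U)).op :=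
    sq_hom_app h i j k w' M ((EtCoh.bc f).obj U)
  have c4 : ((EtCoh.pushComp f i).hom.app ((EtCoh.push j).obj M)).hom.app (op U) =
      M.obj.map ((EtCoh.bc j).map (pcHom i f U)).op :=
    pushComp_hom_app f i ((EtCoh.push j).obj M) U
  have key : M.obj.map (sqMor g (i ≫ f) j (k ≫ e) w'' U).op =
      M.obj.map (pcInv k e ((EtCoh.bc g).obj U)).op ≫
        M.obj.map ((EtCoh.bc k).map (sqMor g f h e w U)).op ≫
        M.obj.map (sqMor h i j k w' ((EtCoh.bc f).obj U)).op ≫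
        M.obj.map ((EtCoh.bc j).map (pcHom i f U)).op := by
    rw [sqMor_vcomp f g h e i j k w w' w'' U]
    simp only [op_comp, Functor.map_comp, Category.assoc]
  exact (sq_hom_app _ _ _ _ _ M U).trans (key.trans (comp4 c1 c2 c3 c4).symm)

theorem main (f : X ⟶ S) (g : T ⟶ S) (h : Y ⟶ X) (e : Y ⟶ T)
    (c : IsPullback e h g f) (i : W ⟶ X) (j : Z ⟶ W) (k : Z ⟶ Y) (c' : IsPullback k j h i)
    (c'' : IsPullback (k ≫ e) j g (i ≫ f))
    [PreservesFiniteLimits (EtCoh.pull e)] [PreservesFiniteLimits (EtCoh.pull k)]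
    [PreservesFiniteLimits (EtCoh.pull (k ≫ e))] (F : EtCoh.Ab T) (q : ℕ)
    (h1 : IsIso (EtBC.bcQ g f h e c.w q F))
    (h2 : IsIso (EtBC.bcQ h i j k c'.w q ((EtCoh.pull e).obj F))) :
    IsIso (EtBC.bcQ g (i ≫ f) j (k ≫ e) c''.w q F) := by
  -- the composite square isomorphism
  let σ : (EtCoh.push k ⋙ EtCoh.push e) ⋙ EtCoh.push g ≅
      EtCoh.push j ⋙ (EtCoh.push i ⋙ EtCoh.push f) :=
    Functor.associator _ _ _ ≪≫ Functor.isoWhiskerLeft (EtCoh.push k) (sq g f h e c.w) ≪≫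
      (Functor.associator _ _ _).symm ≪≫ Functor.isoWhiskerRight (sq h i j k c'.w) (EtCoh.push f) ≪≫
      Functor.associator _ _ _
  have hσ : ∀ M : EtCoh.Ab Z, σ.hom.app M =
      (sq g f h e c.w).hom.app ((EtCoh.push k).obj M) ≫
        (EtCoh.push f).map ((sq h i j k c'.w).hom.app M) := by
    intro M
    simp [σ]
  have hσ' : ∀ M : EtCoh.Ab Z, (sq g (i ≫ f) j (k ≫ e) c''.w).hom.app M =
      (EtCoh.push g).map ((EtCoh.pushComp e k).inv.app M) ≫ σ.hom.app M ≫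
        (EtCoh.pushComp f i).hom.app ((EtCoh.push j).obj M) := by
    intro M
    rw [hσ, sq_vcomp_app f g h e i j k c.w c'.w c''.w M]
    simp only [Category.assoc]
  -- the units
  let η₁ := (EtCoh.pullPushAdj e).unit.app F
  let η₂ := (EtCoh.pullPushAdj k).unit.app ((EtCoh.pull e).obj F)
  let adjc := (EtCoh.pullPushAdj e).comp (EtCoh.pullPushAdj k)
  let θ : (EtCoh.pull (k ≫ e)).obj F ⟶ (EtCoh.pull k).obj ((EtCoh.pull e).obj F) :=
    zmap adjc (EtCoh.pullPushAdj (k ≫ e)) (EtCoh.pushComp e k) F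
  have hθ : IsIso θ := isIso_zmap _ _ _ _
  have hη : (EtCoh.pullPushAdj (k ≫ e)).unit.app F ≫ (EtCoh.push (k ≫ e)).map θ =
      (η₁ ≫ (EtCoh.push e).map η₂) ≫
        (EtCoh.pushComp e k).hom.app ((EtCoh.pull k).obj ((EtCoh.pull e).obj F)) := by
    have hu : adjc.unit.app F = η₁ ≫ (EtCoh.push e).map η₂ :=
      Adjunction.comp_unit_app _ _ _
    have e1 : ((EtCoh.pullPushAdj (k ≫ e)).homEquiv F _) θ =
        (EtCoh.pullPushAdj (k ≫ e)).unit.app F ≫ (EtCoh.push (k ≫ e)).map θ :=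
      Adjunction.homEquiv_unit _ _ _ _
    have e2 : ((EtCoh.pullPushAdj (k ≫ e)).homEquiv F _) θ =
        adjc.unit.app F ≫
          (EtCoh.pushComp e k).hom.app ((EtCoh.pull k).obj ((EtCoh.pull e).obj F)) :=
      Equiv.apply_symm_apply _ _
    rw [← hu]
    exact e1.symm.trans e2
  have t1 := bcA_transport (EtCoh.push k ⋙ EtCoh.push e) (EtCoh.push (k ≫ e))
    (EtCoh.pushComp e k) (EtCoh.push g) (EtCoh.push j) (EtCoh.push i ⋙ EtCoh.push f)
    (EtCoh.push (i ≫ f)) (EtCoh.pushComp f i) σ (sq g (i ≫ f) j (k ≫ e) c''.w) hσ' q θ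
    (η₁ ≫ (EtCoh.push e).map η₂) ((EtCoh.pullPushAdj (k ≫ e)).unit.app F) hη
  have t2 := bcA_vcomp (EtCoh.push e) (EtCoh.push g) (EtCoh.push h) (EtCoh.push f)
    (sq g f h e c.w) (EtCoh.push k) (EtCoh.push j) (EtCoh.push i) (sq h i j k c'.w) σ hσ q η₁ η₂
  rw [← t2] at t1
  have hm : IsIso (((EtCoh.push j).rightDerived q).map θ) := inferInstance
  exact isIso_transpose_of_comp (EtCoh.pullPushAdj f) (EtCoh.pullPushAdj i)
    (EtCoh.pullPushAdj (i ≫ f)) (EtCoh.pushComp f i)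
    (EtBC.bcQAdj g f h e c.w q F) (EtBC.bcQAdj h i j k c'.w q ((EtCoh.pull e).obj F))
    (EtBC.bcQAdj g (i ≫ f) j (k ≫ e) c''.w q F) (((EtCoh.push j).rightDerived q).map θ)
    t1 h1 h2

end Groth.Agent.S6669

namespace Groth.Agent.S6669

/-- The statement for an abelian sheaf in degree q: consider a tower of cartesian squares of schemes, Y
= X ×_S T with f : X → S, g : T → S, h : Y → X, e : Y → T, and Z = W ×_X Y with i : W → X, j : Z →
W, k : Z → Y, so that the outer rectangle Z = W ×_S T is cartesian. Let F be an abelian sheaf on the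
small etale site of T and q ≥ 0. If the degree-q base change maps f⁻¹ R^q g_* F → R^q h_* e⁻¹ F and
i⁻¹ R^q h_* (e⁻¹ F) → R^q j_* k⁻¹ (e⁻¹ F) are isomorphisms, then the degree-q base change map (f ∘
i)⁻¹ R^q g_* F → R^q j_* (e ∘ k)⁻¹ F of the outer rectangle is an isomorphism. -/
theorem result {X S Y T W Z : Scheme.{u}} (f : X ⟶ S) (g : T ⟶ S) (h : Y ⟶ X) (e : Y ⟶ T)
    (c : IsPullback e h g f) (i : W ⟶ X) (j : Z ⟶ W) (k : Z ⟶ Y) (c' : IsPullback k j h i)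
    (c'' : IsPullback (k ≫ e) j g (i ≫ f))
    [PreservesFiniteLimits (EtCoh.pull e)] [PreservesFiniteLimits (EtCoh.pull k)]
    [PreservesFiniteLimits (EtCoh.pull (k ≫ e))] (F : EtCoh.Ab T) (q : ℕ)
    (h1 : IsIso (EtBC.bcQ g f h e c.w q F)) (h2 : IsIso (EtBC.bcQ h i j k c'.w q ((EtCoh.pull e).obj F))) :
    IsIso (EtBC.bcQ g (i ≫ f) j (k ≫ e) c''.w q F) := by
  exact main f g h e c i j k c' c'' F q h1 h2

end Groth.Agent.S6669
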