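import Groth.Statements.S18737
-- import your own Groth.Agent.* helpers here
import Groth.Agent.Lib.Helper33.AdmOre

set_option autoImplicit false
universe u
open CategoryTheory CategoryTheory.Limits AlgebraicGeometry TopologicalSpace
open ModPair

namespace Groth.Agent.S18737

open Groth.Agent.S18748 Groth.Agent.S18738 Groth.Agent.Lib.Helper33.AdmOre
open AlgebraicGeometry.Scheme.IdealSheafData

variable {X : Scheme.{u}}

theorem dominant_imageι_preimage (U : X.Opens) [QuasiCompact U.ι] :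
    IsSchemeTheoreticallyDominant (U.ι.imageι ⁻¹ᵁ U).ι := by
  have hr : Set.range U.ι.toImage ⊆ Set.range (U.ι.imageι ⁻¹ᵁ U).ι := by
    rintro _ ⟨u, rfl⟩
    rw [Scheme.Opens.range_ι]
    change U.ι.imageι (U.ι.toImage u) ∈ U
    rw [← Scheme.Hom.comp_apply, Scheme.Hom.toImage_imageι]
    exact u.2
  have hfac := IsOpenImmersion.lift_fac (U.ι.imageι ⁻¹ᵁ U).ι U.ι.toImage hr
  have := isSchemeTheoreticallyDominant_toImage U.ι
  have : IsSchemeTheoreticallyDominant
      (IsOpenImmersion.lift (U.ι.imageι ⁻¹ᵁ U).ι U.ι.toImage hr ≫ (U.ι.imageι ⁻¹ᵁ U).ι) := by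
    rw [hfac]; infer_instance
  exact isSchemeTheoreticallyDominant_of_comp
    (IsOpenImmersion.lift (U.ι.imageι ⁻¹ᵁ U).ι U.ι.toImage hr) (U.ι.imageι ⁻¹ᵁ U).ι

theorem isIso_imageι_restrict (U : X.Opens) : IsIso (U.ι.imageι ∣_ U) :=
  isIso_morphismRestrict_of_section _ _ U.ι.toImage (Scheme.Hom.toImage_imageι _)

theorem range_imageι (U : X.Opens) [QuasiCompact U.ι] :
    Set.range U.ι.imageι = closure (U : Set X) := by
  rw [Scheme.IdealSheafData.range_subschemeι, Scheme.Hom.support_ker, Scheme.Opens.range_ι]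

/-- effective Cartier ideals can be detected on a jointly surjective family of open immersions -/
theorem isEffCartier_of_openImmersions {ι : Type*} {A : ι → Scheme.{u}} (a : ∀ i, A i ⟶ X)
    [∀ i, IsOpenImmersion (a i)] (hcov : ∀ x : X, ∃ i, x ∈ Set.range (a i))
    (K : X.IdealSheafData) (hK : ∀ i, BlowUp.IsEffCartierIdeal (K.comap (a i))) :
    BlowUp.IsEffCartierIdeal K := by
  intro x
  obtain ⟨i, y, rfl⟩ := hcov x
  obtain ⟨W, hyW, f, hf, hI⟩ := hK i y
  have hbij := ConcreteCategory.bijective_of_isIso ((a i).appIso W.1).inv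
  have hbij' := ConcreteCategory.bijective_of_isIso ((a i).appIso W.1).hom
  refine ⟨⟨a i ''ᵁ W.1, W.2.image_of_isOpenImmersion _⟩, ⟨y, hyW, rfl⟩,
    ((a i).appIso W.1).inv f, ?_, ?_⟩
  · refine mem_nonZeroDivisors_of_injective (f := ((a i).appIso W.1).hom.hom) hbij'.1 ?_
    have : ((a i).appIso W.1).hom.hom (((a i).appIso W.1).inv f) = f :=
      Iso.inv_hom_id_apply _ _
    rw [this]
    exact hf
  · have h := ideal_comap_of_isOpenImmersion K (a i) W
    rw [hI] at h
    have h2 := congrArg (Ideal.map ((a i).appIso W.1).inv.hom) h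
    rw [Ideal.map_comap_of_surjective _ hbij.2, Ideal.map_span, Set.image_singleton] at h2
    exact h2.symm

theorem isAffineHom_ι_of_clopen (U U₀ U₁ : X.Opens) [IsAffineHom U.ι] (hU : U₀ ⊔ U₁ = U)
    (hd : Disjoint U₀ U₁) : IsAffineHom U₀.ι := by
  have hle : U₀ ≤ U := hU ▸ le_sup_left
  have hfac : X.homOfLE hle ≫ U.ι = U₀.ι := X.homOfLE_ι hle
  have hcl : IsClosed (Set.range (X.homOfLE hle)) := by
    have : Set.range (X.homOfLE hle) = ((U.ι ⁻¹ᵁ U₁ : (U : Scheme.{u}).Opens) : Set U)ᶜ := by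
      ext u
      constructor
      · rintro ⟨v, rfl⟩ hv
        have h1 : (X.homOfLE hle v).1 ∈ U₁ := hv
        rw [Scheme.homOfLE_apply] at h1
        exact False.elim (hd.le_bot (show v.1 ∈ U₀ ⊓ U₁ from ⟨v.2, h1⟩))
      · intro hu
        have h1 : u.1 ∈ U₀ ⊔ U₁ := hU ▸ u.2
        rcases h1 with h1 | h1
        · exact ⟨⟨u.1, h1⟩, Subtype.ext (Scheme.homOfLE_apply hle ⟨u.1, h1⟩)⟩
        · exact absurd h1 hu
    rw [this]
    exact (U.ι ⁻¹ᵁ U₁).isOpen.isClosed_compl
  have : IsClosedImmersion (X.homOfLE hle) := .of_isPreimmersion _ hcl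
  rw [← hfac]
  infer_instance


/-- local effective-Cartier condition transported along an open immersion -/
theorem isEffCartier_at_of_openImmersion {A : Scheme.{u}} (a : A ⟶ X) [IsOpenImmersion a]
    (K : X.IdealSheafData) (hK : BlowUp.IsEffCartierIdeal (K.comap a)) (y : A) :
    ∃ U : X.affineOpens, a y ∈ U.1 ∧
      ∃ f : Γ(X, U.1), f ∈ nonZeroDivisors Γ(X, U.1) ∧ K.ideal U = Ideal.span {f} := by
  obtain ⟨W, hyW, f, hf, hI⟩ := hK y
  have hbij := ConcreteCategory.bijective_of_isIso (a.appIso W.1).inv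
  have hbij' := ConcreteCategory.bijective_of_isIso (a.appIso W.1).hom
  refine ⟨⟨a ''ᵁ W.1, W.2.image_of_isOpenImmersion _⟩, ⟨y, hyW, rfl⟩,
    (a.appIso W.1).inv f, ?_, ?_⟩
  · refine mem_nonZeroDivisors_of_injective (f := (a.appIso W.1).hom.hom) hbij'.1 ?_
    have : (a.appIso W.1).hom.hom ((a.appIso W.1).inv f) = f :=
      Iso.inv_hom_id_apply _ _
    rw [this]
    exact hf
  · have h := ideal_comap_of_isOpenImmersion K a W
    rw [hI] at h
    have h2 := congrArg (Ideal.map (a.appIso W.1).inv.hom) h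
    rw [Ideal.map_comap_of_surjective _ hbij.2, Ideal.map_span, Set.image_singleton] at h2
    exact h2.symm

theorem isEffCartier_coprod {A B : Scheme.{u}} (K : (A ⨿ B : Scheme.{u}).IdealSheafData)
    (hA : BlowUp.IsEffCartierIdeal (K.comap coprod.inl))
    (hB : BlowUp.IsEffCartierIdeal (K.comap coprod.inr)) :
    BlowUp.IsEffCartierIdeal K := by
  intro z
  obtain ⟨w, rfl⟩ := (coprodMk A B).surjective z
  rcases w with x | y
  · rw [coprodMk_inl]; exact isEffCartier_at_of_openImmersion coprod.inl K hA x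
  · rw [coprodMk_inr]; exact isEffCartier_at_of_openImmersion coprod.inr K hB y

theorem isEffCartier_comap_imageι (I : X.IdealSheafData) (hI : BlowUp.IsEffCartierIdeal I)
    (U₀ : X.Opens) [QuasiCompact U₀.ι] (hle : U₀ ≤ ModPair.interior I) :
    BlowUp.IsEffCartierIdeal (I.comap U₀.ι.imageι) := by
  have hle' : U₀.ι.imageι ⁻¹ᵁ U₀ ≤ U₀.ι.imageι ⁻¹ᵁ ModPair.interior I := fun x hx => hle hx
  have := dominant_imageι_preimage U₀
  have : IsSchemeTheoreticallyDominant
      (Scheme.homOfLE _ hle' ≫ (U₀.ι.imageι ⁻¹ᵁ ModPair.interior I).ι) := by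
    rw [Scheme.homOfLE_ι]; infer_instance
  have := isSchemeTheoreticallyDominant_of_comp (Scheme.homOfLE _ hle')
    (U₀.ι.imageι ⁻¹ᵁ ModPair.interior I).ι
  exact (Groth.Agent.S18732.result I hI U₀.ι.imageι).2

theorem isIso_restrict_of_openImmersion {P A : Scheme.{u}} (p : P ⟶ X) (j : A ⟶ P)
    [IsOpenImmersion j] (V : X.Opens) (hiso : IsIso ((j ≫ p) ∣_ V))
    (hr : ∀ z : P, p z ∈ V → z ∈ Set.range j) : IsIso (p ∣_ V) := by
  have hr' : Set.range (((j ≫ p) ⁻¹ᵁ V).ι ≫ j) ⊆ Set.range (p ⁻¹ᵁ V).ι := by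
    rintro _ ⟨x, rfl⟩
    rw [Scheme.Opens.range_ι]
    change p ((((j ≫ p) ⁻¹ᵁ V).ι ≫ j) x) ∈ V
    rw [← Scheme.Hom.comp_apply, Category.assoc, Scheme.Hom.comp_apply]
    exact x.2
  let φ := IsOpenImmersion.lift (p ⁻¹ᵁ V).ι (((j ≫ p) ⁻¹ᵁ V).ι ≫ j) hr'
  have hφ : φ ≫ (p ⁻¹ᵁ V).ι = ((j ≫ p) ⁻¹ᵁ V).ι ≫ j := IsOpenImmersion.lift_fac _ _ hr'
  have : IsOpenImmersion φ := by
    have : IsOpenImmersion (φ ≫ (p ⁻¹ᵁ V).ι) := by rw [hφ]; infer_instance
    exact IsOpenImmersion.of_comp φ (p ⁻¹ᵁ V).ι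
  have : Surjective φ := by
    constructor
    intro z
    obtain ⟨x, hx⟩ := hr z.1 z.2
    have hxV : x ∈ (j ≫ p) ⁻¹ᵁ V := by
      change (j ≫ p) x ∈ V
      rw [Scheme.Hom.comp_apply, hx]; exact z.2
    refine ⟨⟨x, hxV⟩, ?_⟩
    apply (p ⁻¹ᵁ V).ι.injective
    rw [← Scheme.Hom.comp_apply, hφ, Scheme.Hom.comp_apply]
    exact hx
  have : IsIso φ := (isIso_iff_isOpenImmersion_and_surjective φ).mpr ⟨inferInstance, inferInstance⟩
  have hcomp : φ ≫ (p ∣_ V) = (j ≫ p) ∣_ V := by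
    rw [← cancel_mono V.ι, Category.assoc, morphismRestrict_ι, ← Category.assoc, hφ,
      Category.assoc, morphismRestrict_ι]
  have : p ∣_ V = inv φ ≫ ((j ≫ p) ∣_ V) := by rw [← hcomp, IsIso.inv_hom_id_assoc]
  rw [this]; infer_instance

theorem isIso_restrict_of_iSup {A B : Scheme.{u}} (g : A ⟶ B) {ι : Type*} (V : ι → B.Opens)
    (W : B.Opens) (hW : W = ⨆ i, V i) (h : ∀ i, IsIso (g ∣_ V i)) : IsIso (g ∣_ W) := by
  rw [← bcIso_ι_iff]
  have hcov : IsOpenCover (fun i => W.ι ⁻¹ᵁ V i) := by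
    rw [IsOpenCover, eq_top_iff]
    rintro x -
    have hx : x.1 ∈ ⨆ i, V i := hW ▸ x.2
    rw [Opens.mem_iSup] at hx ⊢
    obtain ⟨i, hi⟩ := hx
    exact ⟨i, hi⟩
  refine bcIso_of_openCover ((W : Scheme.{u}).openCoverOfIsOpenCover _ hcov) fun i => ?_
  change BCIso g ((W.ι ⁻¹ᵁ V i).ι ≫ W.ι)
  have hr : Set.range ((W.ι ⁻¹ᵁ V i).ι ≫ W.ι) ⊆ Set.range (V i).ι := by
    rintro _ ⟨x, rfl⟩
    rw [Scheme.Opens.range_ι]
    exact x.2
  rw [← IsOpenImmersion.lift_fac (V i).ι ((W.ι ⁻¹ᵁ V i).ι ≫ W.ι) hr]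
  exact ((bcIso_ι_iff g (V i)).mpr (h i)).comp _


/-- Let X be a scheme and I the quasi-coherent ideal sheaf of an effective Cartier divisor on X, with
open complement U, and suppose U is the disjoint union of two opens U₀, U₁ of X. Let X₀, X₁ ⊆ X be
the scheme-theoretic images of U₀ and U₁ in X and p : X₀ ⨿ X₁ ⟶ X the morphism induced by the two
closed immersions. Then the pulled-back ideal I.comap p is the ideal sheaf of an effective Cartier
divisor, and p is an abstract admissible blow-up from (X₀ ⨿ X₁, I.comap p) to (X, I): proper, with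
the pulled-back modulus, and an isomorphism over U. -/
theorem result {X : Scheme.{u}}
    (I : X.IdealSheafData) (hI : BlowUp.IsEffCartierIdeal I) (U₀ U₁ : X.Opens)
    (hU : U₀ ⊔ U₁ = ModPair.interior I) (hd : Disjoint U₀ U₁) :
    BlowUp.IsEffCartierIdeal (I.comap (coprod.desc U₀.ι.imageι U₁.ι.imageι)) ∧
      ModPair.IsAdmBlowup (I.comap (coprod.desc U₀.ι.imageι U₁.ι.imageι)) I
        (coprod.desc U₀.ι.imageι U₁.ι.imageι) := by
  have haffU : IsAffineHom (ModPair.interior I).ι :=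
    Groth.Agent.Lib.Helper82.isAffineHom_ι_compl_support I hI
  have haff0 : IsAffineHom U₀.ι := isAffineHom_ι_of_clopen (ModPair.interior I) U₀ U₁ hU hd
  have haff1 : IsAffineHom U₁.ι :=
    isAffineHom_ι_of_clopen (ModPair.interior I) U₁ U₀ (by rw [sup_comm]; exact hU) hd.symm
  have hd' : Disjoint (U₀ : Set X) (U₁ : Set X) := Opens.coe_disjoint.mpr hd
  have hle0 : U₀ ≤ ModPair.interior I := hU ▸ le_sup_left
  have hle1 : U₁ ≤ ModPair.interior I := hU ▸ le_sup_right
  refine ⟨?_, rfl, inferInstance, ?_⟩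
  · apply isEffCartier_coprod
    · rw [← Scheme.IdealSheafData.comap_comp, coprod.inl_desc]
      exact isEffCartier_comap_imageι I hI U₀ hle0
    · rw [← Scheme.IdealSheafData.comap_comp, coprod.inr_desc]
      exact isEffCartier_comap_imageι I hI U₁ hle1
  · refine isIso_restrict_of_iSup _ (fun b : Bool => cond b U₀ U₁) _ ?_ ?_
    · rw [iSup_bool_eq]; exact hU.symm
    · rintro (_ | _)
      · change IsIso (_ ∣_ U₁)
        refine isIso_restrict_of_openImmersion _ coprod.inr U₁ ?_ ?_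
        · rw [coprod.inr_desc]; exact isIso_imageι_restrict U₁
        · intro z hz
          obtain ⟨w, rfl⟩ := (coprodMk _ _).surjective z
          rcases w with x | y
          · exfalso
            rw [coprodMk_inl, ← Scheme.Hom.comp_apply, coprod.inl_desc] at hz
            have h1 : U₀.ι.imageι x ∈ closure (U₀ : Set X) := by
              rw [← range_imageι]; exact ⟨x, rfl⟩
            exact (hd'.symm.closure_right U₁.isOpen).le_bot ⟨hz, h1⟩
          · rw [coprodMk_inr]; exact ⟨y, rfl⟩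
      · change IsIso (_ ∣_ U₀)
        refine isIso_restrict_of_openImmersion _ coprod.inl U₀ ?_ ?_
        · rw [coprod.inl_desc]; exact isIso_imageι_restrict U₀
        · intro z hz
          obtain ⟨w, rfl⟩ := (coprodMk _ _).surjective z
          rcases w with x | y
          · rw [coprodMk_inl]; exact ⟨x, rfl⟩
          · exfalso
            rw [coprodMk_inr, ← Scheme.Hom.comp_apply, coprod.inr_desc] at hz
            have h1 : U₁.ι.imageι y ∈ closure (U₁ : Set X) := by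
              rw [← range_imageι]; exact ⟨y, rfl⟩
            exact (hd'.closure_right U₀.isOpen).le_bot ⟨hz, h1⟩

end Groth.Agent.S18737
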