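import Groth.Statements.S18749
-- import your own Groth.Agent.* helpers here
import Groth.Agent.S18737

set_option autoImplicit false
universe u
open CategoryTheory CategoryTheory.Limits AlgebraicGeometry TopologicalSpace
open ModPair

namespace Groth.Agent.S18749


open Groth.Agent.S18748 Groth.Agent.S18738 Groth.Agent.Lib.Helper33.AdmOre Groth.Agent.Lib.Helper82
open AlgebraicGeometry.Scheme.IdealSheafData

/-- The key local algebra: `(a) + (b) = (e)`, `K (e) = (a)(b)`, `e` a nonzerodivisor. -/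
theorem alg_key {R : Type*} [CommRing R] (a b e : R) (𝔎 : Ideal R)
    (he : e ∈ nonZeroDivisors R)
    (hsup : Ideal.span {a} ⊔ Ideal.span {b} = Ideal.span {e})
    (hK : 𝔎 * Ideal.span {e} = Ideal.span {a} * Ideal.span {b}) :
    ∃ k : R, 𝔎 = Ideal.span {k} ∧ 𝔎 ≤ Ideal.span {a} ∧ 𝔎 ≤ Ideal.span {b} ∧ k * e = a * b := by
  have ha : a ∈ Ideal.span {e} := hsup ▸ (le_sup_left (a := Ideal.span {a})) (Ideal.subset_span rfl)
  have hb : b ∈ Ideal.span {e} := hsup ▸ (le_sup_right (b := Ideal.span {b})) (Ideal.subset_span rfl)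
  obtain ⟨a', ha'⟩ := Ideal.mem_span_singleton'.mp ha
  obtain ⟨b', hb'⟩ := Ideal.mem_span_singleton'.mp hb
  have hke : (a' * b' * e) * e = a * b := by rw [← ha', ← hb']; ring
  have hKeq : 𝔎 = Ideal.span {a' * b' * e} := by
    apply le_antisymm
    · intro z hz
      have h1 : z * e ∈ 𝔎 * Ideal.span {e} := Ideal.mul_mem_mul hz (Ideal.subset_span rfl)
      rw [hK, Ideal.span_singleton_mul_span_singleton] at h1
      obtain ⟨c, hc⟩ := Ideal.mem_span_singleton'.mp h1
      rw [← hke, ← mul_assoc] at hc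
      have h2 : c * (a' * b' * e) = z := (mul_cancel_right_mem_nonZeroDivisors he).mp hc
      rw [← h2]
      exact Ideal.mul_mem_left _ _ (Ideal.subset_span rfl)
    · rw [Ideal.span_singleton_le_iff_mem]
      have h1 : a * b ∈ 𝔎 * Ideal.span {e} := by
        rw [hK]; exact Ideal.mul_mem_mul (Ideal.subset_span rfl) (Ideal.subset_span rfl)
      obtain ⟨z, hz, hze⟩ := Ideal.mem_mul_span_singleton.mp h1
      rw [← hke] at hze
      have h2 : z = a' * b' * e := (mul_cancel_right_mem_nonZeroDivisors he).mp hze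
      rw [← h2]; exact hz
  refine ⟨a' * b' * e, hKeq, ?_, ?_, hke⟩
  · rw [hKeq, Ideal.span_singleton_le_span_singleton]
    exact ⟨b', by rw [← ha']; ring⟩
  · rw [hKeq, Ideal.span_singleton_le_span_singleton]
    exact ⟨a', by rw [← hb']; ring⟩


theorem isPrincipalNZD_of_le {Y : Scheme.{u}} (I : Y.IdealSheafData) (V U : Y.affineOpens)
    (h : U.1 ≤ V.1) (hV : IsPrincipalNZD (I.ideal V)) : IsPrincipalNZD (I.ideal U) := by
  have h1 := ideal_comap_of_le (𝟙 Y) I U.1 U.2 V.1 V.2 h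
  rw [Scheme.IdealSheafData.comap_id] at h1
  change I.ideal U = _ at h1
  rw [h1]
  exact hV.map_of_flat _ (Scheme.Hom.flat_appLE (𝟙 Y) V.2 U.2 h)

theorem isAffineHom_ι_inf {P : Scheme.{u}} (U V : P.Opens) [IsAffineHom U.ι] [IsAffineHom V.ι] :
    IsAffineHom (U ⊓ V).ι := by
  have h1 : IsAffineHom (P.homOfLE (inf_le_right : U ⊓ V ≤ V)) :=
    MorphismProperty.of_isPullback (isPullback_opens_inf U V) inferInstance
  rw [← P.homOfLE_ι (inf_le_right : U ⊓ V ≤ V)]
  infer_instance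

/-- In a blow-up, the preimage of a scheme-theoretically dense quasi-compact open is
scheme-theoretically dense. -/
theorem dominant_of_isBlowUp {Y Y₀ : Scheme.{u}} (π : Y ⟶ Y₀) (C : Y₀.IdealSheafData)
    (hπ : BlowUp.IsBlowUp π C) (V₀ : Y₀.Opens) [IsSchemeTheoreticallyDominant V₀.ι]
    [QuasiCompact V₀.ι] (O : Y.Opens) (hO : ∀ y : Y, π y ∈ V₀ → y ∈ O) :
    IsSchemeTheoreticallyDominant O.ι := by
  have hiso : IsIso (π ∣_ C.support.compl) := isIso_morphismRestrict_of_isBlowUp C π hπ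
  have heq : ((C.comap π).support.compl : Y.Opens) = π ⁻¹ᵁ C.support.compl := by
    ext y
    change y ∉ (C.comap π).support ↔ π y ∉ C.support
    rw [support_comap]
    rfl
  have hE : IsSchemeTheoreticallyDominant (π ⁻¹ᵁ C.support.compl).ι := by
    have h := isSchemeTheoreticallyDominant_ι_compl_support (C.comap π) hπ.1
    rw [heq] at h
    exact h
  have hg : (π ⁻¹ᵁ C.support.compl).ι ≫ π = (π ∣_ C.support.compl) ≫ Scheme.Opens.ι (X := Y₀) C.support.compl :=
    (morphismRestrict_ι π C.support.compl).symm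
  have hflat : Flat ((π ⁻¹ᵁ C.support.compl).ι ≫ π) := by rw [hg]; infer_instance
  have hdom1 : IsSchemeTheoreticallyDominant
      (((π ⁻¹ᵁ C.support.compl).ι ≫ π) ⁻¹ᵁ V₀).ι :=
    .of_isPullback (isPullback_morphismRestrict ((π ⁻¹ᵁ C.support.compl).ι ≫ π) V₀)
  have hr : Set.range ((((π ⁻¹ᵁ C.support.compl).ι ≫ π) ⁻¹ᵁ V₀).ι ≫
      (π ⁻¹ᵁ C.support.compl).ι) ⊆ Set.range O.ι := by
    rintro _ ⟨z, rfl⟩
    rw [Scheme.Opens.range_ι]
    apply hO
    exact z.2
  have hfac := IsOpenImmersion.lift_fac O.ι _ hr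
  have : IsSchemeTheoreticallyDominant (IsOpenImmersion.lift O.ι _ hr ≫ O.ι) := by
    rw [hfac]; infer_instance
  exact isSchemeTheoreticallyDominant_of_comp (IsOpenImmersion.lift O.ι _ hr) O.ι


theorem core {Y Y₀ X T : Scheme.{u}} (π : Y ⟶ Y₀) (r : Y₀ ⟶ X) (q : Y₀ ⟶ T)
    (I : X.IdealSheafData) (J : T.IdealSheafData) (hI : BlowUp.IsEffCartierIdeal I)
    (hJ : BlowUp.IsEffCartierIdeal J) (K : Y.IdealSheafData)
    (hπ : BlowUp.IsBlowUp π (I.comap r ⊔ J.comap q))
    (hK : K * (I.comap r ⊔ J.comap q).comap π = (I.comap r).comap π * (J.comap q).comap π)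
    (V₀ : Y₀.Opens) [IsSchemeTheoreticallyDominant V₀.ι] [QuasiCompact V₀.ι]
    (hV₀r : V₀ ≤ r ⁻¹ᵁ ModPair.interior I) (hV₀q : V₀ ≤ q ⁻¹ᵁ ModPair.interior J) :
    BlowUp.IsEffCartierIdeal K ∧ K ≤ (I.comap r).comap π ∧ K ≤ (J.comap q).comap π ∧
      ModPair.interior K = π ⁻¹ᵁ (r ⁻¹ᵁ ModPair.interior I ⊓ q ⁻¹ᵁ ModPair.interior J) := by
  have hE : BlowUp.IsEffCartierIdeal ((I.comap r).comap π ⊔ (J.comap q).comap π) := by
    have := hπ.1; rwa [comap_sup] at this
  rw [comap_sup] at hK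
  have hA : BlowUp.IsEffCartierIdeal ((I.comap r).comap π) := by
    have hd : IsSchemeTheoreticallyDominant ((π ≫ r) ⁻¹ᵁ ModPair.interior I).ι :=
      dominant_of_isBlowUp π _ hπ V₀ _ (fun y hy => hV₀r hy)
    have := (Groth.Agent.S18732.result I hI (π ≫ r)).2
    rwa [comap_comp] at this
  have hB : BlowUp.IsEffCartierIdeal ((J.comap q).comap π) := by
    have hd : IsSchemeTheoreticallyDominant ((π ≫ q) ⁻¹ᵁ ModPair.interior J).ι :=
      dominant_of_isBlowUp π _ hπ V₀ _ (fun y hy => hV₀q hy)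
    have := (Groth.Agent.S18732.result J hJ (π ≫ q)).2
    rwa [comap_comp] at this
  have hAint : ModPair.interior ((I.comap r).comap π) = π ⁻¹ᵁ (r ⁻¹ᵁ ModPair.interior I) := by
    rw [interior_comap, interior_comap]
  have hBint : ModPair.interior ((J.comap q).comap π) = π ⁻¹ᵁ (q ⁻¹ᵁ ModPair.interior J) := by
    rw [interior_comap, interior_comap]
  generalize (I.comap r).comap π = A at *
  generalize (J.comap q).comap π = B at *
  have hloc : ∀ y : Y, ∃ W : Y.affineOpens, y ∈ W.1 ∧ ∃ k : Γ(Y, W.1),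
      k ∈ nonZeroDivisors Γ(Y, W.1) ∧ K.ideal W = Ideal.span {k} ∧
        K.ideal W ≤ A.ideal W ∧ K.ideal W ≤ B.ideal W := by
    intro y
    obtain ⟨WA, hyA, hWA⟩ := hA y
    obtain ⟨WB, hyB, hWB⟩ := hB y
    obtain ⟨WE, hyE, hWE⟩ := hE y
    obtain ⟨W, hW, hyW, hWle⟩ := exists_isAffineOpen_mem_and_subset
      (U := WA.1 ⊓ WB.1 ⊓ WE.1) (x := y) ⟨⟨hyA, hyB⟩, hyE⟩
    have hWA' : W ≤ WA.1 := fun z hz => (hWle hz).1.1
    have hWB' : W ≤ WB.1 := fun z hz => (hWle hz).1.2
    have hWE' : W ≤ WE.1 := fun z hz => (hWle hz).2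
    obtain ⟨a, ha, hAa⟩ := isPrincipalNZD_of_le A WA ⟨W, hW⟩ hWA' hWA
    obtain ⟨b, hb, hBb⟩ := isPrincipalNZD_of_le B WB ⟨W, hW⟩ hWB' hWB
    obtain ⟨e, he, hEe⟩ := isPrincipalNZD_of_le (A ⊔ B) WE ⟨W, hW⟩ hWE' hWE
    have hsup : Ideal.span {a} ⊔ Ideal.span {b} = Ideal.span {e} := by
      rw [← hAa, ← hBb, ← hEe]; rfl
    have hK' : K.ideal ⟨W, hW⟩ * Ideal.span {e} = Ideal.span {a} * Ideal.span {b} := by
      rw [← hAa, ← hBb, ← hEe]
      exact congrArg (fun L : Y.IdealSheafData => L.ideal ⟨W, hW⟩) hK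
    obtain ⟨k, hk1, hk2, hk3, hk4⟩ := alg_key a b e _ he hsup hK'
    refine ⟨⟨W, hW⟩, hyW, k, ?_, hk1, hAa ▸ hk2, hBb ▸ hk3⟩
    have : k * e ∈ nonZeroDivisors Γ(Y, W) := hk4 ▸ mul_mem ha hb
    exact (mul_mem_nonZeroDivisors.mp this).1
  choose W hyW k hk hKk hKA hKB using hloc
  have hcov : ⨆ y, (W y).1 = ⊤ := by
    rw [eq_top_iff]
    intro y _
    exact Opens.mem_iSup.mpr ⟨y, hyW y⟩
  have hKleA : K ≤ A := le_of_iSup_eq_top W hcov hKA
  have hKleB : K ≤ B := le_of_iSup_eq_top W hcov hKB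
  refine ⟨fun y => ⟨W y, hyW y, k y, hk y, hKk y⟩, hKleA, hKleB, ?_⟩
  have hsupp : K.support = A.support ⊔ B.support := by
    have h1 : K.support ⊔ (A ⊔ B).support = A.support ⊔ B.support := by
      have := congrArg Scheme.IdealSheafData.support hK
      exact this
    rw [support_sup] at h1
    have h2 : A.support ⊓ B.support ≤ K.support :=
      inf_le_left.trans (support_antitone hKleA)
    rw [← h1, sup_eq_left.mpr h2]
  have h4 : ModPair.interior K = ModPair.interior A ⊓ ModPair.interior B := by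
    ext y
    change y ∉ K.support ↔ y ∉ A.support ∧ y ∉ B.support
    rw [hsupp]
    change ¬ (y ∈ A.support ∨ y ∈ B.support) ↔ _
    exact not_or
  rw [h4, hAint, hBint]
  rfl


/-- Let (S, I_S), (T, J), (X, I) be schemes with quasi-coherent ideal sheaves of effective Cartier
divisors and f : X ⟶ S, g : T ⟶ S morphisms satisfying the modulus condition. Let Y₀ be the
scheme-theoretic image of pr₁⁻¹(X°) ∩ pr₂⁻¹(T°) in X ×_S T, let π : Y ⟶ Y₀ be a blowing up of Y₀ in
the sum of the two ideal sheaves I, J pulled back to Y₀ (the intersection of the two pulled-back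
divisors), and let K be an ideal sheaf on Y whose product with the exceptional ideal is the product
of the pull-backs of I and J to Y. Then K is the ideal sheaf of an effective Cartier divisor (the
divisor D_X + D_T − E), the projections Y ⟶ X and Y ⟶ T satisfy the modulus condition with respect
to K, and the interior of (Y, K) is the preimage of pr₁⁻¹(X°) ∩ pr₂⁻¹(T°). -/
theorem result {S T X Y : Scheme.{u}} (IS : S.IdealSheafData)
    (J : T.IdealSheafData) (I : X.IdealSheafData) (hS : BlowUp.IsEffCartierIdeal IS)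
    (hT : BlowUp.IsEffCartierIdeal J) (hX : BlowUp.IsEffCartierIdeal I)
    (f : X ⟶ S) (hf : ModPair.IsAmbient I IS f) (g : T ⟶ S) (hg : ModPair.IsAmbient J IS g)
    (π : Y ⟶ ModPair.mprod f g I J) (K : Y.IdealSheafData) (hY : ModPair.IsAmbProd f g I J π K) :
    BlowUp.IsEffCartierIdeal K ∧
      ModPair.IsAmbient K I (π ≫ ModPair.mprodι f g I J ≫ pullback.fst f g) ∧
      ModPair.IsAmbient K J (π ≫ ModPair.mprodι f g I J ≫ pullback.snd f g) ∧
      ModPair.interior K = (π ≫ ModPair.mprodι f g I J) ⁻¹ᵁ ModPair.prodInterior f g I J := by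
  obtain ⟨hπ, hK⟩ := hY
  unfold ModPair.prodCentre at hπ hK
  have haffI : IsAffineHom (ModPair.interior I).ι := isAffineHom_ι_compl_support I hX
  have haffJ : IsAffineHom (ModPair.interior J).ι := isAffineHom_ι_compl_support J hT
  have h1 : IsAffineHom (pullback.fst f g ⁻¹ᵁ ModPair.interior I).ι :=
    MorphismProperty.of_isPullback (isPullback_morphismRestrict _ _) inferInstance
  have h2 : IsAffineHom (pullback.snd f g ⁻¹ᵁ ModPair.interior J).ι :=
    MorphismProperty.of_isPullback (isPullback_morphismRestrict _ _) inferInstance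
  have h3 : IsAffineHom (ModPair.prodInterior f g I J).ι := isAffineHom_ι_inf _ _
  have hqc : QuasiCompact (ModPair.prodInterior f g I J).ι := inferInstance
  have hdom : IsSchemeTheoreticallyDominant
      (ModPair.mprodι f g I J ⁻¹ᵁ ModPair.prodInterior f g I J).ι :=
    Groth.Agent.S18737.dominant_imageι_preimage (ModPair.prodInterior f g I J)
  have h4 : IsAffineHom (ModPair.mprodι f g I J ⁻¹ᵁ ModPair.prodInterior f g I J).ι :=
    MorphismProperty.of_isPullback (isPullback_morphismRestrict _ _) inferInstance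
  have hqc' : QuasiCompact (ModPair.mprodι f g I J ⁻¹ᵁ ModPair.prodInterior f g I J).ι :=
    inferInstance
  obtain ⟨c1, c2, c3, c4⟩ := core π (ModPair.mprodι f g I J ≫ pullback.fst f g)
    (ModPair.mprodι f g I J ≫ pullback.snd f g) I J hX hT K hπ hK
    (ModPair.mprodι f g I J ⁻¹ᵁ ModPair.prodInterior f g I J)
    (fun y hy => hy.1) (fun y hy => hy.2)
  refine ⟨c1, ?_, ?_, ?_⟩
  · change K ≤ I.comap (π ≫ ModPair.mprodι f g I J ≫ pullback.fst f g)
    rw [comap_comp]; exact c2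
  · change K ≤ J.comap (π ≫ ModPair.mprodι f g I J ≫ pullback.snd f g)
    rw [comap_comp]; exact c3
  · rw [c4]; rfl

end Groth.Agent.S18749
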