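import Groth.Statements.S18733
-- import your own Groth.Agent.* helpers here
import Groth.Agent.S18749

set_option autoImplicit false
universe u
open CategoryTheory CategoryTheory.Limits AlgebraicGeometry TopologicalSpace
open ModPair

namespace Groth.Agent.S18733

open AlgebraicGeometry.Scheme.IdealSheafData Groth.Agent.S18749 Groth.Agent.Lib.Helper82

/-- colon ideals by finitely generated ideals commute with localization -/
theorem colon_map_localization {R R' : Type*} [CommRing R] [CommRing R'] [Algebra R R']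
    (S : Submonoid R) [IsLocalization S R'] (I J : Ideal R) (hJ : J.FG) :
    (I.colon (J : Set R)).map (algebraMap R R') =
      (I.map (algebraMap R R')).colon ((J.map (algebraMap R R') : Ideal R') : Set R') := by
  apply le_antisymm
  · rw [Ideal.map_le_iff_le_comap]
    intro r hr
    rw [Ideal.mem_comap]
    have : (J.map (algebraMap R R')) = Ideal.span ((algebraMap R R') '' J) := rfl
    rw [this, Ideal.colon_span, Submodule.mem_colon]
    rintro _ ⟨j, hj, rfl⟩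
    rw [smul_eq_mul, ← map_mul]
    exact Ideal.mem_map_of_mem _ (Submodule.mem_colon.mp hr j hj)
  · intro x hx
    obtain ⟨a, s, rfl⟩ := IsLocalization.exists_mk'_eq S x
    rw [IsLocalization.mk'_mem_map_algebraMap_iff]
    obtain ⟨G, hG⟩ := hJ
    have hex : ∀ g ∈ G, ∃ t : S, (t : R) * (a * g) ∈ I := by
      intro g hg
      have hgJ : g ∈ J := hG ▸ Ideal.subset_span hg
      have h1 : IsLocalization.mk' R' a s * algebraMap R R' g ∈ I.map (algebraMap R R') :=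
        Submodule.mem_colon.mp hx _ (Ideal.mem_map_of_mem _ hgJ)
      have h2 : algebraMap R R' (a * g) ∈ I.map (algebraMap R R') := by
        have : algebraMap R R' (a * g) =
            algebraMap R R' s * (IsLocalization.mk' R' a s * algebraMap R R' g) := by
          rw [← mul_assoc, IsLocalization.mk'_spec', map_mul]
        rw [this]; exact Ideal.mul_mem_left _ _ h1
      obtain ⟨m, hm, hmI⟩ := (IsLocalization.algebraMap_mem_map_algebraMap_iff S R' _ _).mp h2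
      exact ⟨⟨m, hm⟩, hmI⟩
    choose! t ht using hex
    classical
    refine ⟨∏ g ∈ G, (t g : R), Submonoid.prod_mem _ fun g _ => (t g).2, ?_⟩
    rw [← hG, Ideal.colon_span, Submodule.mem_colon]
    intro g hg
    rw [smul_eq_mul, ← Finset.mul_prod_erase G _ hg]
    have := ht g hg
    have e : (↑(t g) * ∏ x ∈ G.erase g, (t x : R)) * a * g =
        (∏ x ∈ G.erase g, (t x : R)) * ((t g : R) * (a * g)) := by ring
    rw [e]; exact Ideal.mul_mem_left _ _ this

theorem fg_ideal_of_isEffCartier {X : Scheme.{u}} (I : X.IdealSheafData)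
    (hI : BlowUp.IsEffCartierIdeal I) (U : X.affineOpens) : (I.ideal U).FG := by
  let t : Set Γ(X, U.1) := {f | (I.ideal (X.affineBasicOpen f)).FG}
  have ht : Ideal.span t = ⊤ := by
    rw [← U.2.self_le_iSup_basicOpen_iff]
    intro x hx
    obtain ⟨W, hxW, g, hg, hIW⟩ := hI x
    obtain ⟨f, hf, hxf⟩ := U.2.exists_basicOpen_le (V := U.1 ⊓ W.1) ⟨x, hx, hxW⟩ hx
    have hle : (X.affineBasicOpen f).1 ≤ W.1 := hf.trans inf_le_right
    have hfg : (I.ideal (X.affineBasicOpen f)).FG := by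
      rw [← I.map_ideal hle, hIW, Ideal.map_span, Set.image_singleton]
      exact Submodule.fg_span_singleton _
    exact Opens.mem_iSup.mpr ⟨⟨f, hfg⟩, hxf⟩
  apply Ideal.fg_of_localizationSpan t ht
  rintro ⟨f, hf⟩
  have := U.2.isLocalization_basicOpen f
  let e := IsLocalization.algEquiv (Submonoid.powers f) Γ(X, X.basicOpen f) (Localization.Away f)
  have h1 : (I.ideal U).map (algebraMap _ (Localization.Away f)) =
      ((I.ideal U).map (algebraMap Γ(X, U.1) Γ(X, X.basicOpen f))).map (e : _ →+* _) := by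
    rw [Ideal.map_map]; congr 1; ext; simp [e]
  rw [h1]
  apply Ideal.FG.map
  have := I.map_ideal_basicOpen U f
  rw [RingHom.algebraMap_toAlgebra, this]
  exact hf

/-- the colon ideal sheaf `(I : J)` for `J` of finite type -/
noncomputable def colonSheaf {X : Scheme.{u}} (I J : X.IdealSheafData)
    (hJ : ∀ U : X.affineOpens, (J.ideal U).FG) : X.IdealSheafData where
  ideal U := (I.ideal U).colon (J.ideal U : Set Γ(X, U.1))
  map_ideal_basicOpen U f := by
    have := U.2.isLocalization_basicOpen f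
    rw [← I.map_ideal_basicOpen U f, ← J.map_ideal_basicOpen U f]
    exact colon_map_localization (Submonoid.powers f) _ _ (hJ U)


theorem local_alg {R : Type*} [CommRing R] (a b e : R) (ha : a ∈ nonZeroDivisors R)
    (hb : b ∈ nonZeroDivisors R) (he : e ∈ nonZeroDivisors R)
    (h : Ideal.span {a} ⊔ Ideal.span {b} = Ideal.span {e}) :
    ∃ a' b' : R, a' ∈ nonZeroDivisors R ∧ b' ∈ nonZeroDivisors R ∧
      (Ideal.span {a}).colon ((Ideal.span {e} : Ideal R) : Set R) = Ideal.span {a'} ∧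
      (Ideal.span {b}).colon ((Ideal.span {e} : Ideal R) : Set R) = Ideal.span {b'} ∧
      a = a' * e ∧ b = b' * e ∧ ∃ x y : R, x * a' + y * b' = 1 := by
  have hae : a ∈ Ideal.span {e} := h ▸ Ideal.mem_sup_left (Ideal.subset_span rfl)
  have hbe : b ∈ Ideal.span {e} := h ▸ Ideal.mem_sup_right (Ideal.subset_span rfl)
  obtain ⟨a', ha'⟩ := Ideal.mem_span_singleton'.mp hae
  obtain ⟨b', hb'⟩ := Ideal.mem_span_singleton'.mp hbe
  have hee : e ∈ Ideal.span {a} ⊔ Ideal.span {b} := h ▸ Ideal.subset_span rfl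
  obtain ⟨x, z, hz, hxz⟩ := Ideal.mem_span_singleton_sup.mp hee
  obtain ⟨y, hy⟩ := Ideal.mem_span_singleton'.mp hz
  have hxy : x * a' + y * b' = 1 := by
    apply (mul_cancel_right_mem_nonZeroDivisors he).mp
    rw [one_mul, add_mul, mul_assoc, mul_assoc, ha', hb', hy, hxz]
  have hcolon : ∀ (c c' : R), c' * e = c →
      (Ideal.span {c}).colon ((Ideal.span {e} : Ideal R) : Set R) = Ideal.span {c'} := by
    intro c c' hc
    ext r
    rw [Ideal.mem_colon_span_singleton, Ideal.mem_span_singleton', Ideal.mem_span_singleton']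
    constructor
    · rintro ⟨w, hw⟩
      refine ⟨w, ?_⟩
      apply (mul_cancel_right_mem_nonZeroDivisors he).mp
      rw [mul_assoc, hc, hw]
    · rintro ⟨w, hw⟩
      refine ⟨w, ?_⟩
      rw [← hc, ← mul_assoc, hw]
  refine ⟨a', b', ?_, ?_, hcolon a a' ha', hcolon b b' hb', ha'.symm, hb'.symm, x, y, hxy⟩
  · exact (mul_mem_nonZeroDivisors.mp (ha' ▸ ha)).1
  · exact (mul_mem_nonZeroDivisors.mp (hb' ▸ hb)).1

theorem inter_le {R : Type*} [CommRing R] (a' b' e x y d : R) (he : e ∈ nonZeroDivisors R)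
    (hxy : x * a' + y * b' = 1)
    (h1 : d ∈ Ideal.span {a' * e}) (h2 : d ∈ Ideal.span {b' * e}) :
    d ∈ Ideal.span {a'} * Ideal.span {b'} * Ideal.span {e} := by
  obtain ⟨u, hu⟩ := Ideal.mem_span_singleton'.mp h1
  obtain ⟨v, hv⟩ := Ideal.mem_span_singleton'.mp h2
  have h3 : u * a' = v * b' := by
    apply (mul_cancel_right_mem_nonZeroDivisors he).mp
    rw [mul_assoc, mul_assoc, hu, hv]
  rw [Ideal.span_singleton_mul_span_singleton, Ideal.span_singleton_mul_span_singleton,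
    Ideal.mem_span_singleton']
  refine ⟨x * v + y * u, ?_⟩
  have hu' : u = (x * v + y * u) * b' := by
    calc u = u * (x * a' + y * b') := by rw [hxy, mul_one]
      _ = x * (u * a') + y * u * b' := by ring
      _ = x * (v * b') + y * u * b' := by rw [h3]
      _ = _ := by ring
  calc (x * v + y * u) * (a' * b' * e) = ((x * v + y * u) * b') * (a' * e) := by ring
    _ = u * (a' * e) := by rw [← hu']
    _ = d := hu

theorem exists_good {X : Scheme.{u}} (I₁ I₂ : X.IdealSheafData)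
    (h₁ : BlowUp.IsEffCartierIdeal I₁) (h₂ : BlowUp.IsEffCartierIdeal I₂)
    (hE : BlowUp.IsEffCartierIdeal (I₁ ⊔ I₂)) (x : X) :
    ∃ W : X.affineOpens, x ∈ W.1 ∧ IsPrincipalNZD (I₁.ideal W) ∧ IsPrincipalNZD (I₂.ideal W) ∧
      IsPrincipalNZD ((I₁ ⊔ I₂).ideal W) := by
  obtain ⟨U₁, hx₁, a, ha, e₁⟩ := h₁ x
  obtain ⟨U₂, hx₂, b, hb, e₂⟩ := h₂ x
  obtain ⟨U₃, hx₃, c, hc, e₃⟩ := hE x
  obtain ⟨_, ⟨W, hW, rfl⟩, hxW, hWle⟩ := X.isBasis_affineOpens.exists_subset_of_mem_open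
    (show x ∈ ((U₁.1 ⊓ U₂.1 ⊓ U₃.1 : X.Opens) : Set X) from ⟨⟨hx₁, hx₂⟩, hx₃⟩)
    (U₁.1 ⊓ U₂.1 ⊓ U₃.1).isOpen
  have hle : W ≤ U₁.1 ⊓ U₂.1 ⊓ U₃.1 := hWle
  refine ⟨⟨W, hW⟩, hxW, isPrincipalNZD_of_le I₁ U₁ ⟨W, hW⟩ ?_ ⟨a, ha, e₁⟩,
    isPrincipalNZD_of_le I₂ U₂ ⟨W, hW⟩ ?_ ⟨b, hb, e₂⟩,
    isPrincipalNZD_of_le (I₁ ⊔ I₂) U₃ ⟨W, hW⟩ ?_ ⟨c, hc, e₃⟩⟩
  · exact hle.trans (inf_le_left.trans inf_le_left)
  · exact hle.trans (inf_le_left.trans inf_le_right)
  · exact hle.trans inf_le_right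


/-- Let D₁, D₂ be effective Cartier divisors on a scheme X, with quasi-coherent ideal sheaves I₁, I₂,
such that the scheme-theoretic intersection E = D₁ ×_X D₂ (ideal sheaf I₁ ⊔ I₂) is again an
effective Cartier divisor. Then (1) the divisors D₁ − E and D₂ − E are effective and disjoint: there
are ideal sheaves I₁', I₂' of effective Cartier divisors with I₁ = I₁'·(I₁ ⊔ I₂), I₂ = I₂'·(I₁ ⊔ I₂)
and I₁' ⊔ I₂' = ⊤; and (2) the effective Cartier divisor D₁ + D₂ − E, with ideal sheaf I₁'·I₂'·(I₁ ⊔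
I₂), is contained in every effective Cartier divisor D of X containing D₁ and D₂: if the ideal sheaf
of D is ≤ I₁ and ≤ I₂ then it is ≤ I₁'·I₂'·(I₁ ⊔ I₂). -/
theorem result {X : Scheme.{u}} (I₁ I₂ : X.IdealSheafData)
    (h₁ : BlowUp.IsEffCartierIdeal I₁) (h₂ : BlowUp.IsEffCartierIdeal I₂)
    (hE : BlowUp.IsEffCartierIdeal (I₁ ⊔ I₂)) :
    ∃ I₁' I₂' : X.IdealSheafData, BlowUp.IsEffCartierIdeal I₁' ∧ BlowUp.IsEffCartierIdeal I₂' ∧
      I₁ = I₁' * (I₁ ⊔ I₂) ∧ I₂ = I₂' * (I₁ ⊔ I₂) ∧ I₁' ⊔ I₂' = ⊤ ∧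
      ∀ D : X.IdealSheafData, BlowUp.IsEffCartierIdeal D → D ≤ I₁ → D ≤ I₂ →
        D ≤ I₁' * I₂' * (I₁ ⊔ I₂) := by
  have hfg := fg_ideal_of_isEffCartier (I₁ ⊔ I₂) hE
  have key : ∀ x : X, ∃ W : X.affineOpens, x ∈ W.1 ∧ ∃ a b e a' b' : Γ(X, W.1),
      a' ∈ nonZeroDivisors Γ(X, W.1) ∧ b' ∈ nonZeroDivisors Γ(X, W.1) ∧
      e ∈ nonZeroDivisors Γ(X, W.1) ∧
      I₁.ideal W = Ideal.span {a} ∧ I₂.ideal W = Ideal.span {b} ∧
      (I₁ ⊔ I₂).ideal W = Ideal.span {e} ∧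
      (colonSheaf I₁ (I₁ ⊔ I₂) hfg).ideal W = Ideal.span {a'} ∧
      (colonSheaf I₂ (I₁ ⊔ I₂) hfg).ideal W = Ideal.span {b'} ∧
      a = a' * e ∧ b = b' * e ∧ ∃ x y : Γ(X, W.1), x * a' + y * b' = 1 := by
    intro x
    obtain ⟨W, hxW, ⟨a, ha, e1⟩, ⟨b, hb, e2⟩, ⟨e, he, e3⟩⟩ := exists_good I₁ I₂ h₁ h₂ hE x
    have hsup : Ideal.span {a} ⊔ Ideal.span {b} = Ideal.span {e} := by
      rw [← e1, ← e2, ← e3]; rfl
    obtain ⟨a', b', ha', hb', c1, c2, f1, f2, hxy⟩ := local_alg a b e ha hb he hsup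
    refine ⟨W, hxW, a, b, e, a', b', ha', hb', he, e1, e2, e3, ?_, ?_, f1, f2, hxy⟩
    · change (I₁.ideal W).colon (((I₁ ⊔ I₂).ideal W : Ideal _) : Set _) = _
      rw [e1, e3, c1]
    · change (I₂.ideal W).colon (((I₁ ⊔ I₂).ideal W : Ideal _) : Set _) = _
      rw [e2, e3, c2]
  choose W hxW a b e a' b' ha' hb' he e1 e2 e3 e4 e5 e6 e7 e8 using key
  have hcov : ⨆ x, (W x).1 = ⊤ := eq_top_iff.mpr fun x _ => Opens.mem_iSup.mpr ⟨x, hxW x⟩
  refine ⟨colonSheaf I₁ (I₁ ⊔ I₂) hfg, colonSheaf I₂ (I₁ ⊔ I₂) hfg,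
    fun x => ⟨W x, hxW x, a' x, ha' x, e4 x⟩, fun x => ⟨W x, hxW x, b' x, hb' x, e5 x⟩,
    ?_, ?_, ?_, ?_⟩
  · refine ext_of_iSup_eq_top W hcov fun x => ?_
    rw [ideal_mul, Pi.mul_apply, e1, e4, e3, Ideal.span_singleton_mul_span_singleton, ← e6]
  · refine ext_of_iSup_eq_top W hcov fun x => ?_
    rw [ideal_mul, Pi.mul_apply, e2, e5, e3, Ideal.span_singleton_mul_span_singleton, ← e7]
  · refine ext_of_iSup_eq_top W hcov fun x => ?_
    rw [ideal_sup, Pi.sup_apply, e4, e5, ideal_top, Pi.top_apply]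
    obtain ⟨p, q, hpq⟩ := e8 x
    rw [Ideal.eq_top_iff_one, ← hpq]
    exact Ideal.add_mem _ (Ideal.mem_sup_left (Ideal.mul_mem_left _ _ (Ideal.subset_span rfl)))
      (Ideal.mem_sup_right (Ideal.mul_mem_left _ _ (Ideal.subset_span rfl)))
  · intro D _ hD1 hD2
    refine le_of_iSup_eq_top W hcov fun x => ?_
    intro d hd
    rw [ideal_mul, Pi.mul_apply, ideal_mul, Pi.mul_apply, e4, e5, e3]
    obtain ⟨p, q, hpq⟩ := e8 x
    have m1 : d ∈ Ideal.span {a' x * e x} := by rw [← e6, ← e1]; exact hD1 (W x) hd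
    have m2 : d ∈ Ideal.span {b' x * e x} := by rw [← e7, ← e2]; exact hD2 (W x) hd
    exact inter_le (a' x) (b' x) (e x) p q d (he x) hpq m1 m2

end Groth.Agent.S18733
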