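import Groth.Statements.S18736
-- import your own Groth.Agent.* helpers here
import Groth.Agent.Lib.Helper33.AdmOre

set_option autoImplicit false
universe u
open CategoryTheory CategoryTheory.Limits AlgebraicGeometry TopologicalSpace
open ModPair

namespace Groth.Agent.S18736

open Groth.Agent.S18748 Groth.Agent.S18738 Groth.Agent.Lib.Helper33.AdmOre
open AlgebraicGeometry.Scheme.IdealSheafData

theorem prodInterior_eq_fst {S T X : Scheme.{u}} (IS : S.IdealSheafData)
    (IT : T.IdealSheafData) (IX : X.IdealSheafData) (p : X ⟶ S) (hp : IX ≤ IS.comap p)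
    (f : T ⟶ S) (hf : IT = IS.comap f) :
    ModPair.prodInterior p f IX IT = pullback.fst p f ⁻¹ᵁ ModPair.interior IX := by
  refine le_antisymm inf_le_left (le_inf le_rfl ?_)
  intro z hz
  change pullback.snd p f z ∈ ModPair.interior IT
  rw [hf, interior_comap]
  change f (pullback.snd p f z) ∈ ModPair.interior IS
  rw [← Scheme.Hom.comp_apply, ← pullback.condition, Scheme.Hom.comp_apply]
  exact apply_mem_interior_of_le p hp hz

/-- A morphism factors through a closed immersion as soon as it does so on a
scheme-theoretically dense part of the source. -/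
theorem exists_factor_of_dominant {Y P W W₀ : Scheme.{u}} (c : Y ⟶ P) [IsClosedImmersion c]
    (h : W ⟶ P) (ι : W₀ ⟶ W) [IsSchemeTheoreticallyDominant ι] (k : W₀ ⟶ Y)
    (hk : k ≫ c = ι ≫ h) : ∃ c' : W ⟶ Y, c' ≫ c = h := by
  have hfac : pullback.lift k ι hk ≫ pullback.snd c h = ι := pullback.lift_snd _ _ _
  have : IsSchemeTheoreticallyDominant (pullback.lift k ι hk ≫ pullback.snd c h) := by
    rw [hfac]; infer_instance
  have hdom := isSchemeTheoreticallyDominant_of_comp (pullback.lift k ι hk) (pullback.snd c h)
  have : IsIso (pullback.snd c h) :=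
    IsClosedImmersion.isIso_iff_ker_eq_bot.mpr (Scheme.Hom.ker_eq_bot _)
  refine ⟨inv (pullback.snd c h) ≫ pullback.fst c h, ?_⟩
  rw [Category.assoc, pullback.condition, IsIso.inv_hom_id_assoc]


/-- With the minimal-case product: let (S, I_S), (T, I_T), (X, I_X) be schemes equipped with
quasi-coherent ideal sheaves of effective Cartier divisors, p : X ⟶ S a morphism satisfying the
modulus condition I_X ≤ I_S.comap p, and f : T ⟶ S a minimal morphism, I_T = I_S.comap f. Let Y be
the scheme-theoretic image in X ×_S T of the open pr₁⁻¹(X°) ∩ pr₂⁻¹(T°) (X°, T° the open complements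
of the supports of I_X, I_T), with projections r : Y ⟶ X and q : Y ⟶ T, and put I_Y := I_X.comap r.
Then I_Y is the ideal sheaf of an effective Cartier divisor, q satisfies the modulus condition I_Y ≤
I_T.comap q, and (Y, I_Y) with q and r is the fibre product of (T, I_T) and (X, I_X) over (S, I_S)
among modulus pairs and morphisms satisfying the modulus condition: for every scheme W with the
ideal sheaf I_W of an effective Cartier divisor and morphisms a : W ⟶ T, b : W ⟶ X with I_W ≤
I_T.comap a, I_W ≤ I_X.comap b and a ≫ f = b ≫ p, there is a unique c : W ⟶ Y with c ≫ q = a, c ≫ r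
= b and I_W ≤ I_Y.comap c. -/
theorem result {S T X : Scheme.{u}} (IS : S.IdealSheafData)
    (IT : T.IdealSheafData) (IX : X.IdealSheafData) (hS : BlowUp.IsEffCartierIdeal IS)
    (hT : BlowUp.IsEffCartierIdeal IT) (hX : BlowUp.IsEffCartierIdeal IX)
    (p : X ⟶ S) (hp : ModPair.IsAmbient IX IS p) (f : T ⟶ S) (hf : ModPair.IsMinimal IT IS f) :
    BlowUp.IsEffCartierIdeal (IX.comap (ModPair.mprodι p f IX IT ≫ pullback.fst p f)) ∧
      ModPair.IsAmbient (IX.comap (ModPair.mprodι p f IX IT ≫ pullback.fst p f)) IT
        (ModPair.mprodι p f IX IT ≫ pullback.snd p f) ∧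
      ∀ (W : Scheme.{u}) (IW : W.IdealSheafData), BlowUp.IsEffCartierIdeal IW →
        ∀ (a : W ⟶ T) (b : W ⟶ X), ModPair.IsAmbient IW IT a → ModPair.IsAmbient IW IX b →
          a ≫ f = b ≫ p →
          ∃! c : W ⟶ ModPair.mprod p f IX IT,
            c ≫ ModPair.mprodι p f IX IT ≫ pullback.snd p f = a ∧
              c ≫ ModPair.mprodι p f IX IT ≫ pullback.fst p f = b ∧
              ModPair.IsAmbient IW (IX.comap (ModPair.mprodι p f IX IT ≫ pullback.fst p f)) c := by
  have hU := prodInterior_eq_fst IS IT IX p hp f hf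
  have haff : IsAffineHom (ModPair.interior IX).ι :=
    Groth.Agent.Lib.Helper82.isAffineHom_ι_compl_support IX hX
  have hdom : IsSchemeTheoreticallyDominant
      ((ModPair.mprodι p f IX IT ≫ pullback.fst p f) ⁻¹ᵁ ModPair.interior IX).ι :=
    isSchemeTheoreticallyDominant_preimage_ι (pullback.fst p f) (ModPair.interior IX) _ hU
  have hcl : IsClosedImmersion (ModPair.mprodι p f IX IT) :=
    inferInstanceAs (IsClosedImmersion (ModPair.prodInterior p f IX IT).ι.ker.subschemeι)
  refine ⟨(Groth.Agent.S18732.result IX hX _).2, ?_, ?_⟩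
  · change IX.comap (ModPair.mprodι p f IX IT ≫ pullback.fst p f) ≤
      IT.comap (ModPair.mprodι p f IX IT ≫ pullback.snd p f)
    calc IX.comap (ModPair.mprodι p f IX IT ≫ pullback.fst p f)
        ≤ (IS.comap p).comap (ModPair.mprodι p f IX IT ≫ pullback.fst p f) :=
          comap_mono _ hp
      _ = IS.comap ((ModPair.mprodι p f IX IT ≫ pullback.fst p f) ≫ p) :=
          (comap_comp _ _ _).symm
      _ = IS.comap ((ModPair.mprodι p f IX IT ≫ pullback.snd p f) ≫ f) := by
          rw [Category.assoc, Category.assoc, pullback.condition]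
      _ = (IS.comap f).comap (ModPair.mprodι p f IX IT ≫ pullback.snd p f) := comap_comp _ _ _
      _ = IT.comap (ModPair.mprodι p f IX IT ≫ pullback.snd p f) := by
          rw [← show IT = IS.comap f from hf]
  · intro W IW hW a b ha hb hab
    have hdomW : IsSchemeTheoreticallyDominant (ModPair.interior IW).ι :=
      Groth.Agent.Lib.Helper82.isSchemeTheoreticallyDominant_ι_compl_support IW hW
    let h : W ⟶ pullback p f := pullback.lift b a hab.symm
    have hr : Set.range ((ModPair.interior IW).ι ≫ h) ⊆
        Set.range (ModPair.prodInterior p f IX IT).ι := by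
      rintro _ ⟨w, rfl⟩
      rw [Scheme.Opens.range_ι, hU]
      change pullback.fst p f (h ((ModPair.interior IW).ι w)) ∈ ModPair.interior IX
      rw [← Scheme.Hom.comp_apply, pullback.lift_fst]
      exact apply_mem_interior_of_le b hb w.2
    let l := IsOpenImmersion.lift (ModPair.prodInterior p f IX IT).ι
      ((ModPair.interior IW).ι ≫ h) hr
    have hl : l ≫ (ModPair.prodInterior p f IX IT).ι = (ModPair.interior IW).ι ≫ h :=
      IsOpenImmersion.lift_fac _ _ hr
    obtain ⟨c', hc'⟩ := exists_factor_of_dominant (ModPair.mprodι p f IX IT) h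
      (ModPair.interior IW).ι (l ≫ (ModPair.prodInterior p f IX IT).ι.toImage)
      (by rw [Category.assoc, Scheme.Hom.toImage_imageι, hl])
    refine ⟨c', ⟨?_, ?_, ?_⟩, ?_⟩
    · rw [← Category.assoc, hc']; exact pullback.lift_snd _ _ _
    · rw [← Category.assoc, hc']; exact pullback.lift_fst _ _ _
    · change IW ≤ (IX.comap (ModPair.mprodι p f IX IT ≫ pullback.fst p f)).comap c'
      rw [← comap_comp, ← Category.assoc, hc']
      rw [show h ≫ pullback.fst p f = b from pullback.lift_fst _ _ _]
      exact hb
    · rintro c'' ⟨h1, h2, -⟩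
      rw [← cancel_mono (ModPair.mprodι p f IX IT), hc']
      apply pullback.hom_ext
      · rw [Category.assoc, h2]; exact (pullback.lift_fst _ _ _).symm
      · rw [Category.assoc, h1]; exact (pullback.lift_snd _ _ _).symm

end Groth.Agent.S18736
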