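import Groth.Statements.S18755
-- import your own Groth.Agent.* helpers here
import Groth.Agent.S18749
import Groth.Agent.S18736

set_option autoImplicit false
universe u
open CategoryTheory CategoryTheory.Limits AlgebraicGeometry TopologicalSpace
open ModPair

namespace Groth.Agent.S18755


open Groth.Agent.S18748 Groth.Agent.S18738 Groth.Agent.Lib.Helper33.AdmOre Groth.Agent.Lib.Helper82
open AlgebraicGeometry.Scheme.IdealSheafData

theorem comap_mul' {X Y : Scheme.{u}} (f : X ⟶ Y) (I J : Y.IdealSheafData) :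
    (I * J).comap f = I.comap f * J.comap f := by
  refine ext_of_iSup_eq_top
    (ι := {p : X.affineOpens × Y.affineOpens // p.1.1 ≤ f ⁻¹ᵁ p.2.1}) (fun p => p.1.1) ?_ ?_
  · rw [eq_top_iff]
    intro x _
    obtain ⟨W, hW, hxW, -⟩ := exists_isAffineOpen_mem_and_subset (U := ⊤) (x := f x) (by simp)
    obtain ⟨U, hU, hxU, hUW⟩ := exists_isAffineOpen_mem_and_subset (U := f ⁻¹ᵁ W) (x := x) hxW
    exact Opens.mem_iSup.mpr ⟨⟨(⟨U, hU⟩, ⟨W, hW⟩), hUW⟩, hxU⟩
  · rintro ⟨⟨⟨U, hU⟩, ⟨W, hW⟩⟩, hUW⟩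
    change ((I * J).comap f).ideal ⟨U, hU⟩ = (I.comap f).ideal ⟨U, hU⟩ * (J.comap f).ideal ⟨U, hU⟩
    rw [ideal_comap_of_le f (I * J) U hU W hW hUW, ideal_comap_of_le f I U hU W hW hUW,
      ideal_comap_of_le f J U hU W hW hUW, ← Ideal.map_mul]
    rfl

theorem ideal_mul_span_cancel {R : Type*} [CommRing R] (e : R) (he : e ∈ nonZeroDivisors R)
    (𝔞 𝔟 : Ideal R) (h : 𝔞 * Ideal.span {e} = 𝔟 * Ideal.span {e}) : 𝔞 ≤ 𝔟 := by
  intro x hx
  have h1 : x * e ∈ 𝔟 * Ideal.span {e} := h ▸ Ideal.mul_mem_mul hx (Ideal.subset_span rfl)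
  obtain ⟨z, hz, hze⟩ := Ideal.mem_mul_span_singleton.mp h1
  have : z = x := (mul_cancel_right_mem_nonZeroDivisors he).mp hze
  exact this ▸ hz

theorem mul_effCartier_cancel {Y : Scheme.{u}} (E : Y.IdealSheafData)
    (hE : BlowUp.IsEffCartierIdeal E) (L L' : Y.IdealSheafData) (h : L * E = L' * E) :
    L = L' := by
  choose W hyW e he hEe using hE
  have hcov : ⨆ y, (W y).1 = ⊤ := by
    rw [eq_top_iff]
    intro y _
    exact Opens.mem_iSup.mpr ⟨y, hyW y⟩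
  refine ext_of_iSup_eq_top W hcov fun y => ?_
  have h1 : L.ideal (W y) * Ideal.span {e y} = L'.ideal (W y) * Ideal.span {e y} := by
    rw [← hEe y]
    exact congrArg (fun M : Y.IdealSheafData => M.ideal (W y)) h
  exact le_antisymm (ideal_mul_span_cancel _ (he y) _ _ h1)
    (ideal_mul_span_cancel _ (he y) _ _ h1.symm)


/-- Let (S₀, I₀), (S₁, I₁), (T, J), (X, I) be schemes with quasi-coherent ideal sheaves of effective
Cartier divisors, f : X ⟶ S₁, g : T ⟶ S₁ and σ : S₁ ⟶ S₀ morphisms satisfying the modulus condition,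
and let (Y₁, K₁) with π₁ and (Y₀, K₀) with π₀ be ambient products of (X, I) and (T, J) over S₁ and
over S₀ (the latter for f ≫ σ and g ≫ σ): blow-ups of the scheme-theoretic image of the product of
the interiors inside X ×_{S₁} T, resp. X ×_{S₀} T, in the intersection of the pulled-back moduli,
with K·E = D_X·D_T. Then the ambient product is functorial in the base: there is a unique morphism φ
: Y₁ ⟶ Y₀ compatible with the maps to X ×_{S₀} T (through the canonical X ×_{S₁} T ⟶ X ×_{S₀} T),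
and every such φ is minimal, K₁ = K₀.comap φ. -/
theorem result {S₀ S₁ T X Y₁ Y₀ : Scheme.{u}} (I₀ : S₀.IdealSheafData)
    (I₁ : S₁.IdealSheafData) (J : T.IdealSheafData) (I : X.IdealSheafData)
    (h₀ : BlowUp.IsEffCartierIdeal I₀) (h₁ : BlowUp.IsEffCartierIdeal I₁)
    (hT : BlowUp.IsEffCartierIdeal J) (hX : BlowUp.IsEffCartierIdeal I)
    (f : X ⟶ S₁) (hf : ModPair.IsAmbient I I₁ f) (g : T ⟶ S₁) (hg : ModPair.IsAmbient J I₁ g)
    (σ : S₁ ⟶ S₀) (hσ : ModPair.IsAmbient I₁ I₀ σ)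
    (π₁ : Y₁ ⟶ ModPair.mprod f g I J) (K₁ : Y₁.IdealSheafData) (hY₁ : ModPair.IsAmbProd f g I J π₁ K₁)
    (π₀ : Y₀ ⟶ ModPair.mprod (f ≫ σ) (g ≫ σ) I J) (K₀ : Y₀.IdealSheafData)
    (hY₀ : ModPair.IsAmbProd (f ≫ σ) (g ≫ σ) I J π₀ K₀) :
    (∃! φ : Y₁ ⟶ Y₀, φ ≫ π₀ ≫ ModPair.mprodι (f ≫ σ) (g ≫ σ) I J =
        π₁ ≫ ModPair.mprodι f g I J ≫ pullback.mapDesc f g σ) ∧
      ∀ φ : Y₁ ⟶ Y₀, φ ≫ π₀ ≫ ModPair.mprodι (f ≫ σ) (g ≫ σ) I J =
          π₁ ≫ ModPair.mprodι f g I J ≫ pullback.mapDesc f g σ →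
        ModPair.IsMinimal K₁ K₀ φ := by
  obtain ⟨hπ₁, hK₁⟩ := hY₁
  obtain ⟨hπ₀, hK₀⟩ := hY₀
  unfold ModPair.prodCentre at hπ₁ hK₁ hπ₀ hK₀
  -- affine-ness / density in Y₁
  have haffI : IsAffineHom (ModPair.interior I).ι := isAffineHom_ι_compl_support I hX
  have haffJ : IsAffineHom (ModPair.interior J).ι := isAffineHom_ι_compl_support J hT
  have a1 : IsAffineHom (pullback.fst f g ⁻¹ᵁ ModPair.interior I).ι :=
    MorphismProperty.of_isPullback (isPullback_morphismRestrict _ _) inferInstance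
  have a2 : IsAffineHom (pullback.snd f g ⁻¹ᵁ ModPair.interior J).ι :=
    MorphismProperty.of_isPullback (isPullback_morphismRestrict _ _) inferInstance
  have a3 : IsAffineHom (ModPair.prodInterior f g I J).ι :=
    Groth.Agent.S18749.isAffineHom_ι_inf _ _
  have hqc : QuasiCompact (ModPair.prodInterior f g I J).ι := inferInstance
  have hdom : IsSchemeTheoreticallyDominant
      (ModPair.mprodι f g I J ⁻¹ᵁ ModPair.prodInterior f g I J).ι :=
    Groth.Agent.S18737.dominant_imageι_preimage (ModPair.prodInterior f g I J)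
  have a4 : IsAffineHom (ModPair.mprodι f g I J ⁻¹ᵁ ModPair.prodInterior f g I J).ι :=
    MorphismProperty.of_isPullback (isPullback_morphismRestrict _ _) inferInstance
  have hqc' : QuasiCompact (ModPair.mprodι f g I J ⁻¹ᵁ ModPair.prodInterior f g I J).ι :=
    inferInstance
  have hV₁ : IsSchemeTheoreticallyDominant
      ((π₁ ≫ ModPair.mprodι f g I J) ⁻¹ᵁ ModPair.prodInterior f g I J).ι :=
    Groth.Agent.S18749.dominant_of_isBlowUp π₁ _ hπ₁
      (ModPair.mprodι f g I J ⁻¹ᵁ ModPair.prodInterior f g I J) _ (fun y hy => hy)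
  have hcl : IsClosedImmersion (ModPair.mprodι (f ≫ σ) (g ≫ σ) I J) :=
    inferInstanceAs (IsClosedImmersion (ModPair.prodInterior (f ≫ σ) (g ≫ σ) I J).ι.ker.subschemeι)
  have hm1 : pullback.mapDesc f g σ ≫ pullback.fst (f ≫ σ) (g ≫ σ) = pullback.fst f g :=
    (pullback.lift_fst _ _ _).trans (Category.comp_id _)
  have hm2 : pullback.mapDesc f g σ ≫ pullback.snd (f ≫ σ) (g ≫ σ) = pullback.snd f g :=
    (pullback.lift_snd _ _ _).trans (Category.comp_id _)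
  -- factor through the closure
  have hr : Set.range (((π₁ ≫ ModPair.mprodι f g I J) ⁻¹ᵁ ModPair.prodInterior f g I J).ι ≫
      π₁ ≫ ModPair.mprodι f g I J ≫ pullback.mapDesc f g σ) ⊆
      Set.range (ModPair.prodInterior (f ≫ σ) (g ≫ σ) I J).ι := by
    rintro _ ⟨y, rfl⟩
    rw [Scheme.Opens.range_ι]
    have hy : (π₁ ≫ ModPair.mprodι f g I J) y.1 ∈ ModPair.prodInterior f g I J := y.2
    constructor
    · change pullback.fst (f ≫ σ) (g ≫ σ) _ ∈ ModPair.interior I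
      rw [← Scheme.Hom.comp_apply]
      simp only [Category.assoc, hm1]
      exact hy.1
    · change pullback.snd (f ≫ σ) (g ≫ σ) _ ∈ ModPair.interior J
      rw [← Scheme.Hom.comp_apply]
      simp only [Category.assoc, hm2]
      exact hy.2
  obtain ⟨ψ, hψ⟩ := Groth.Agent.S18736.exists_factor_of_dominant
    (ModPair.mprodι (f ≫ σ) (g ≫ σ) I J)
    (π₁ ≫ ModPair.mprodι f g I J ≫ pullback.mapDesc f g σ)
    ((π₁ ≫ ModPair.mprodι f g I J) ⁻¹ᵁ ModPair.prodInterior f g I J).ι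
    (IsOpenImmersion.lift (ModPair.prodInterior (f ≫ σ) (g ≫ σ) I J).ι _ hr ≫
      (ModPair.prodInterior (f ≫ σ) (g ≫ σ) I J).ι.toImage)
    (by rw [Category.assoc, Scheme.Hom.toImage_imageι, IsOpenImmersion.lift_fac])
  have hA : (I.comap (ModPair.mprodι (f ≫ σ) (g ≫ σ) I J ≫ pullback.fst (f ≫ σ) (g ≫ σ))).comap ψ =
      (I.comap (ModPair.mprodι f g I J ≫ pullback.fst f g)).comap π₁ := by
    rw [← comap_comp, ← comap_comp, ← Category.assoc, hψ]
    simp only [Category.assoc, hm1]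
  have hB : (J.comap (ModPair.mprodι (f ≫ σ) (g ≫ σ) I J ≫ pullback.snd (f ≫ σ) (g ≫ σ))).comap ψ =
      (J.comap (ModPair.mprodι f g I J ≫ pullback.snd f g)).comap π₁ := by
    rw [← comap_comp, ← comap_comp, ← Category.assoc, hψ]
    simp only [Category.assoc, hm2]
  have hC : (I.comap (ModPair.mprodι (f ≫ σ) (g ≫ σ) I J ≫ pullback.fst (f ≫ σ) (g ≫ σ)) ⊔
      J.comap (ModPair.mprodι (f ≫ σ) (g ≫ σ) I J ≫ pullback.snd (f ≫ σ) (g ≫ σ))).comap ψ =
      (I.comap (ModPair.mprodι f g I J ≫ pullback.fst f g) ⊔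
        J.comap (ModPair.mprodι f g I J ≫ pullback.snd f g)).comap π₁ := by
    rw [comap_sup, comap_sup, hA, hB]
  have hkey : ∀ φ : Y₁ ⟶ Y₀, (φ ≫ π₀ ≫ ModPair.mprodι (f ≫ σ) (g ≫ σ) I J =
      π₁ ≫ ModPair.mprodι f g I J ≫ pullback.mapDesc f g σ) ↔ φ ≫ π₀ = ψ := by
    intro φ
    rw [← hψ, ← Category.assoc, cancel_mono]
  obtain ⟨φ₀, hφ₀, hφ₀u⟩ := hπ₀.2 Y₁ ψ (by rw [hC]; exact hπ₁.1)
  refine ⟨⟨φ₀, (hkey φ₀).mpr hφ₀, fun φ hφ => hφ₀u φ ((hkey φ).mp hφ)⟩, ?_⟩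
  intro φ hφ
  have hφ' : φ ≫ π₀ = ψ := (hkey φ).mp hφ
  have h1 := congrArg (fun L : Y₀.IdealSheafData => L.comap φ) hK₀
  simp only [comap_mul'] at h1
  have eC : ((I.comap (ModPair.mprodι (f ≫ σ) (g ≫ σ) I J ≫ pullback.fst (f ≫ σ) (g ≫ σ)) ⊔
      J.comap (ModPair.mprodι (f ≫ σ) (g ≫ σ) I J ≫ pullback.snd (f ≫ σ) (g ≫ σ))).comap π₀).comap φ =
      (I.comap (ModPair.mprodι f g I J ≫ pullback.fst f g) ⊔
        J.comap (ModPair.mprodι f g I J ≫ pullback.snd f g)).comap π₁ := by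
    rw [← comap_comp, hφ', hC]
  have eA : ((I.comap (ModPair.mprodι (f ≫ σ) (g ≫ σ) I J ≫
      pullback.fst (f ≫ σ) (g ≫ σ))).comap π₀).comap φ =
      (I.comap (ModPair.mprodι f g I J ≫ pullback.fst f g)).comap π₁ := by
    rw [← comap_comp _ φ π₀, hφ', hA]
  have eB : ((J.comap (ModPair.mprodι (f ≫ σ) (g ≫ σ) I J ≫
      pullback.snd (f ≫ σ) (g ≫ σ))).comap π₀).comap φ =
      (J.comap (ModPair.mprodι f g I J ≫ pullback.snd f g)).comap π₁ := by
    rw [← comap_comp _ φ π₀, hφ', hB]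
  rw [eC, eA, eB, ← hK₁] at h1
  exact (mul_effCartier_cancel _ hπ₁.1 _ _ h1).symm

end Groth.Agent.S18755
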