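import Groth.Statements.S18468
import Mathlib

set_option autoImplicit false
universe u
open OortTate

namespace Groth.Agent.S18468

section Aux

open WithConv

section General
variable {R : Type u} [CommRing R] {A : Type u} [CommRing A] [HopfAlgebra R A]

/-- post-composition as a monoid hom of convolution monoids -/
noncomputable def postComp {B : Type*} [CommRing B] [Algebra R B] (h : A →ₐ[R] B) :
    WithConv (A →ₐ[R] A) →* WithConv (A →ₐ[R] B) where
  toFun f := toConv (h.comp f.ofConv)
  map_one' := by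
    apply WithConv.ofConv_injective
    apply AlgHom.ext
    intro a
    simp [AlgHom.convOne_def]
  map_mul' f g := by
    apply WithConv.ofConv_injective
    exact AlgHom.comp_convMul_distrib h f g


variable (R A) in
/-- the identity as an element of the convolution monoid -/
noncomputable def X : WithConv (A →ₐ[R] A) := toConv (AlgHom.id R A)

theorem powConv_eq (n : ℕ) : SGA3b.powConv R A n = (X R A ^ n).ofConv := rfl

theorem powConv_comp (m n : ℕ) :
    (SGA3b.powConv R A m).comp (SGA3b.powConv R A n) = SGA3b.powConv R A (m * n) := by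
  have h := map_pow (postComp (SGA3b.powConv R A m)) (X R A) n
  have h2 : postComp (SGA3b.powConv R A m) (X R A) = X R A ^ m := by
    apply WithConv.ofConv_injective
    rfl
  rw [h2, ← pow_mul] at h
  exact congrArg WithConv.ofConv h

theorem counit_powConv (n : ℕ) :
    (Bialgebra.counitAlgHom R A).comp (SGA3b.powConv R A n) = Bialgebra.counitAlgHom R A := by
  have h := map_pow (postComp (Bialgebra.counitAlgHom R A)) (X R A) n
  have h2 : postComp (Bialgebra.counitAlgHom R A) (X R A) = 1 := by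
    apply WithConv.ofConv_injective
    apply AlgHom.ext
    intro a
    simp [postComp, X, AlgHom.convOne_def]
  rw [h2, one_pow] at h
  have h3 := congrArg WithConv.ofConv h
  refine h3.trans ?_
  apply AlgHom.ext
  intro a
  simp [AlgHom.convOne_def]

theorem powConv_one : SGA3b.powConv R A 1 = AlgHom.id R A := by
  rw [powConv_eq, pow_one]; rfl

theorem powConv_mod (p : ℕ) (hp : X R A ^ p = 1) (n : ℕ) :
    SGA3b.powConv R A n = SGA3b.powConv R A (n % p) := by
  rw [powConv_eq, powConv_eq, pow_eq_pow_mod n hp]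

end General


section Char
variable {p : ℕ} [Fact p.Prime] {R : Type u} [CommRing R]

theorem sum_char_eq_zero (ψ : (ZMod p)ˣ →* Rˣ) (g : (ZMod p)ˣ) (hg : IsUnit ((ψ g : R) - 1)) :
    ∑ m : (ZMod p)ˣ, (ψ m : R) = 0 := by
  have h1 : (∑ m : (ZMod p)ˣ, (ψ m : R)) * (ψ g : R) = ∑ m : (ZMod p)ˣ, (ψ m : R) := by
    rw [Finset.sum_mul]
    rw [← Equiv.sum_comp (Equiv.mulRight g) (fun m => (ψ m : R))]
    refine Finset.sum_congr rfl fun m _ => ?_
    simp
  have h2 : (∑ m : (ZMod p)ˣ, (ψ m : R)) * ((ψ g : R) - 1) = 0 := by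
    rw [mul_sub, h1, mul_one, sub_self]
  exact (hg.mul_left_eq_zero).mp h2

theorem exists_gen : ∃ g : (ZMod p)ˣ, orderOf g = p - 1 := by
  obtain ⟨g, hg⟩ := IsCyclic.exists_generator (α := (ZMod p)ˣ)
  refine ⟨g, ?_⟩
  rw [orderOf_eq_card_of_forall_mem_zpowers hg, Nat.card_eq_fintype_card, ZMod.card_units]

theorem orth (χ : (ZMod p)ˣ →* Rˣ) (hχ : ∀ m : (ZMod p)ˣ, m ≠ 1 → IsUnit ((χ m : R) - 1))
    (i j : ℕ) (hi : i < p - 1) (hj : j < p - 1) (hij : i ≠ j) :
    ∑ m : (ZMod p)ˣ, ((χ m⁻¹ : Rˣ) : R) ^ i * ((χ m : Rˣ) : R) ^ j = 0 := by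
  obtain ⟨g, hg⟩ := exists_gen (p := p)
  let ψ : (ZMod p)ˣ →* Rˣ := (χ⁻¹) ^ i * χ ^ j
  have hψ : ∀ m, (ψ m : R) = ((χ m⁻¹ : Rˣ) : R) ^ i * ((χ m : Rˣ) : R) ^ j := by
    intro m
    simp [ψ, map_inv]
  have hne : g⁻¹ ^ i * g ^ j ≠ 1 := by
    intro h
    have h' : g ^ j = g ^ i := by
      have := congrArg (fun x => g ^ i * x) h
      simpa [← mul_assoc] using this
    have := pow_injOn_Iio_orderOf (x := g) (by simpa [hg] using hj) (by simpa [hg] using hi) h'
    exact hij this.symm
  have hu : IsUnit ((ψ g : R) - 1) := by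
    have : ψ g = χ (g⁻¹ ^ i * g ^ j) := by
      simp [ψ, map_mul, map_pow, map_inv]
    rw [this]
    exact hχ _ hne
  have := sum_char_eq_zero ψ g hu
  simpa only [hψ] using this

theorem geom (χ : (ZMod p)ˣ →* Rˣ) (hχ : ∀ m : (ZMod p)ˣ, m ≠ 1 → IsUnit ((χ m : R) - 1))
    (m : (ZMod p)ˣ) (hm : m ≠ 1) :
    ∑ i ∈ Finset.range (p - 1), ((χ m⁻¹ : Rˣ) : R) ^ i = 0 := by
  have h1 : ((χ m⁻¹ : Rˣ) : R) ^ (p - 1) = 1 := by
    rw [← Units.val_pow_eq_pow_val, ← map_pow, ZMod.units_pow_card_sub_one_eq_one, map_one,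
      Units.val_one]
  have h2 := mul_geom_sum ((χ m⁻¹ : Rˣ) : R) (p - 1)
  rw [h1, sub_self] at h2
  have hu : IsUnit (((χ m⁻¹ : Rˣ) : R) - 1) := hχ _ (by simpa using hm)
  exact (hu.mul_right_eq_zero).mp h2

end Char


section Main
variable {p : ℕ} [Fact p.Prime] {R : Type u} [CommRing R] {A : Type u} [CommRing A]
  [HopfAlgebra R A]

variable (R A) in
/-- the action of a unit of `ZMod p` -/
noncomputable def E (m : (ZMod p)ˣ) : A →ₗ[R] A := (SGA3b.powConv R A (m : ZMod p).val).toLinearMap

theorem E_one : E (p := p) R A 1 = LinearMap.id := by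
  unfold E
  rw [Units.val_one, ZMod.val_one, powConv_one]
  rfl

theorem E_mul (hp : (WithConv.toConv (AlgHom.id R A)) ^ p = 1) (m n : (ZMod p)ˣ) :
    E R A (m * n) = E R A m ∘ₗ E R A n := by
  unfold E
  rw [Units.val_mul, ZMod.val_mul, ← powConv_mod p hp, ← powConv_comp]
  rfl

theorem counit_E (m : (ZMod p)ˣ) (f : A) :
    Bialgebra.counitAlgHom R A (E R A m f) = Bialgebra.counitAlgHom R A f :=
  congrArg (fun φ : A →ₐ[R] R => φ f) (counit_powConv (R := R) (A := A) (m : ZMod p).val)

theorem mem_eigenAug (χ : (ZMod p)ˣ →* Rˣ) (i : ℕ) (f : A) :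
    f ∈ OortTate.eigenAug R A p χ i ↔
      Bialgebra.counitAlgHom R A f = 0 ∧ ∀ m : (ZMod p)ˣ, E R A m f = ((χ m : Rˣ) : R) ^ i • f := by
  simp only [OortTate.eigenAug, Submodule.mem_inf, LinearMap.mem_ker, Submodule.mem_iInf,
    Module.End.mem_eigenspace_iff]
  rfl

theorem proj_apply (u : R) (χ : (ZMod p)ˣ →* Rˣ) (i : ℕ) (f : A) :
    OortTate.proj R A p u χ i f = u • ∑ m : (ZMod p)ˣ, (((χ m⁻¹ : Rˣ) : R) ^ i) • E R A m f := by
  simp [OortTate.proj, E, LinearMap.sum_apply]


variable (u : R) (hu : u * ((p - 1 : ℕ) : R) = 1)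
  (χ : (ZMod p)ˣ →* Rˣ) (hχ : ∀ m : (ZMod p)ˣ, m ≠ 1 → IsUnit ((χ m : R) - 1))
  (hp : (WithConv.toConv (AlgHom.id R A)) ^ p = 1)

include hp in
theorem proj_mem (i : ℕ) (f : A) (hf : Bialgebra.counitAlgHom R A f = 0) :
    OortTate.proj R A p u χ i f ∈ OortTate.eigenAug R A p χ i := by
  rw [mem_eigenAug, proj_apply]
  constructor
  · simp only [map_smul, map_sum, counit_E, hf, smul_zero, Finset.sum_const_zero]
  · intro n
    simp only [map_smul, map_sum]
    rw [smul_comm]
    congr 1
    rw [Finset.smul_sum]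
    rw [← Equiv.sum_comp (Equiv.mulLeft n)
      (fun m' => ((χ n : Rˣ) : R) ^ i • (((χ m'⁻¹ : Rˣ) : R) ^ i • E R A m' f))]
    refine Finset.sum_congr rfl fun m _ => ?_
    simp only [Equiv.coe_mulLeft]
    have hs : n * (n * m)⁻¹ = m⁻¹ := by rw [mul_inv, mul_inv_cancel_left]
    rw [smul_smul, ← mul_pow, ← Units.val_mul, ← map_mul, E_mul hp, hs, LinearMap.comp_apply]

include hu hχ in
theorem proj_eigen (i j : ℕ) (hi : i < p - 1) (hj : j < p - 1) (f : A)
    (hf : f ∈ OortTate.eigenAug R A p χ j) :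
    OortTate.proj R A p u χ i f = if i = j then f else 0 := by
  rw [mem_eigenAug] at hf
  rw [proj_apply]
  have : ∑ m : (ZMod p)ˣ, (((χ m⁻¹ : Rˣ) : R) ^ i) • E R A m f =
      (∑ m : (ZMod p)ˣ, ((χ m⁻¹ : Rˣ) : R) ^ i * ((χ m : Rˣ) : R) ^ j) • f := by
    rw [Finset.sum_smul]
    refine Finset.sum_congr rfl fun m _ => ?_
    rw [hf.2 m, smul_smul]
  rw [this]
  split_ifs with h
  · subst h
    have h1 : ∀ m : (ZMod p)ˣ, ((χ m⁻¹ : Rˣ) : R) ^ i * ((χ m : Rˣ) : R) ^ i = 1 := by
      intro m
      rw [← mul_pow, ← Units.val_mul, ← map_mul, inv_mul_cancel, map_one, Units.val_one, one_pow]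
    simp only [h1, Finset.sum_const, Finset.card_univ, ZMod.card_units, nsmul_eq_mul, mul_one]
    rw [smul_smul, hu, one_smul]
  · rw [orth χ hχ i j hi hj h, zero_smul, smul_zero]

include hu hχ in
theorem sum_proj (f : A) :
    ∑ i ∈ Finset.range (p - 1), OortTate.proj R A p u χ i f = f := by
  simp only [proj_apply]
  rw [← Finset.smul_sum, Finset.sum_comm]
  simp only [← Finset.sum_smul]
  rw [Finset.sum_eq_single (1 : (ZMod p)ˣ)]
  · simp only [inv_one, map_one, Units.val_one, one_pow, Finset.sum_const, Finset.card_range,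
      nsmul_eq_mul, mul_one, E_one, LinearMap.id_apply]
    rw [smul_smul, hu, one_smul]
  · intro m _ hm
    rw [geom χ hχ m hm, zero_smul]
  · intro h
    exact absurd (Finset.mem_univ _) h


include hu hχ hp in
theorem main :
    iSupIndep (fun i : Fin (p - 1) => OortTate.eigenAug R A p χ (i : ℕ)) ∧
      (⨆ i : Fin (p - 1), OortTate.eigenAug R A p χ (i : ℕ)) =
        LinearMap.ker (Bialgebra.counitAlgHom R A).toLinearMap ∧
      ∀ i : Fin (p - 1), OortTate.eigenAug R A p χ (i : ℕ) =
        Submodule.map (OortTate.proj R A p u χ (i : ℕ))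
          (LinearMap.ker (Bialgebra.counitAlgHom R A).toLinearMap) := by
  refine ⟨?_, ?_, ?_⟩
  · intro i
    rw [Submodule.disjoint_def]
    intro x hx hx'
    have h1 : OortTate.proj R A p u χ (i : ℕ) x = x := by
      rw [proj_eigen u hu χ hχ i i i.2 i.2 x hx, if_pos rfl]
    have h2 : (⨆ j, ⨆ (_ : j ≠ i), OortTate.eigenAug R A p χ (j : ℕ)) ≤
        LinearMap.ker (OortTate.proj R A p u χ (i : ℕ)) := by
      refine iSup_le fun j => iSup_le fun hj => ?_
      intro y hy
      rw [LinearMap.mem_ker, proj_eigen u hu χ hχ i j i.2 j.2 y hy, if_neg]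
      intro h
      exact hj (Fin.ext h.symm)
    rw [← h1]
    exact h2 hx'
  · apply le_antisymm
    · refine iSup_le fun i => ?_
      exact inf_le_left
    · intro f hf
      rw [← sum_proj u hu χ hχ f, ← Fin.sum_univ_eq_sum_range (fun i => OortTate.proj R A p u χ i f)]
      refine Submodule.sum_mem _ fun i _ => ?_
      exact Submodule.mem_iSup_of_mem i (proj_mem u χ hp i f hf)
  · intro i
    apply le_antisymm
    · intro f hf
      refine ⟨f, ?_, ?_⟩
      · exact ((mem_eigenAug χ i f).mp hf).1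
      · rw [proj_eigen u hu χ hχ i i i.2 i.2 f hf, if_pos rfl]
    · rintro _ ⟨f, hf, rfl⟩
      exact proj_mem u χ hp i f hf

end Main


end Aux

/-- Let p be a prime, R a commutative ring containing u with u(p − 1) = 1, and χ a homomorphism from the
units of ℤ/p to the units of R such that χ(m) − 1 is a unit for every m ≠ 1 (the situation of an
algebra over the subring Λ_p of the p-adic integers generated by the Teichmüller values and 1/(p(p −
1)), with χ the Teichmüller character, which is the published setting). Let A be a commutative Hopf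
algebra over R such that the p-th convolution power of the identity of A is the neutral element ε
followed by the unit (the affine group G = Spec A is killed by p), so that for a unit m of ℤ/p the
power map [m] of A depends only on m. For 0 ≤ i < p − 1 let I_i ⊆ A be the submodule of those f with
ε(f) = 0 and [m]f = χ(m)^i f for every m. Then the augmentation ideal ker ε is the internal direct
sum of the I_i (the family is independent and its supremum is ker ε), and each I_i is the image of
ker ε under the averaging operator u Σ_m χ(m)^{−i}[m]. (The published statement is for the Hopf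
algebra of a group scheme of order p over a Λ_p-algebra, which is commutative and killed by p; the
hypotheses here are what the argument uses.) -/
theorem result
    (p : ℕ) [Fact p.Prime] (R : Type u) [CommRing R] (u : R) (hu : u * ((p - 1 : ℕ) : R) = 1)
    (χ : (ZMod p)ˣ →* Rˣ) (hχ : ∀ m : (ZMod p)ˣ, m ≠ 1 → IsUnit ((χ m : R) - 1))
    (A : Type u) [CommRing A] [HopfAlgebra R A]
    (hp : (WithConv.toConv (AlgHom.id R A)) ^ p = 1) :
    iSupIndep (fun i : Fin (p - 1) => OortTate.eigenAug R A p χ (i : ℕ)) ∧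
      (⨆ i : Fin (p - 1), OortTate.eigenAug R A p χ (i : ℕ)) =
        LinearMap.ker (Bialgebra.counitAlgHom R A).toLinearMap ∧
      ∀ i : Fin (p - 1), OortTate.eigenAug R A p χ (i : ℕ) =
        Submodule.map (OortTate.proj R A p u χ (i : ℕ))
          (LinearMap.ker (Bialgebra.counitAlgHom R A).toLinearMap) := by
  exact main u hu χ hχ hp

end Groth.Agent.S18468
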