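import Groth.Statements.S5448
import Groth.Agent.Lib.Helper16.RootD
-- import your own Groth.Agent.* helpers here

set_option autoImplicit false
open RootD

namespace Groth.Agent.S5448

/-- The elements of a system of simple roots (root-only sense) are indivisible, i.e. none of them is
twice a root. -/
theorem result {ι M N : Type*} [AddCommGroup M] [AddCommGroup N]
    (P : RootPairing ι ℤ M N) [Finite ι] (Δ : Set ι) (hΔ : RootD.IsSimpleSys P Δ)
    (i : ι) (hi : i ∈ Δ) : RootD.IsIndiv P i := by
  intro j hj
  have h1 := Groth.Agent.Lib.Helper16.co_zsmul_eq hΔ (2 : ℤ) hj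
  rw [Groth.Agent.Lib.Helper16.co_simple hΔ i hi] at h1
  have h2 := DFunLike.congr_fun h1 ⟨i, hi⟩
  rw [Finsupp.single_eq_same, Finsupp.smul_apply, smul_eq_mul] at h2
  omega

end Groth.Agent.S5448
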