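import Groth.Statements.S5463
import Groth.Agent.Lib.Helper16.RootD11

set_option autoImplicit false
open RootPairing
open scoped Pointwise
open RootD

namespace Groth.Agent.S5463

theorem forward {ι M N : Type*} [AddCommGroup M] [AddCommGroup N]
    (P : RootPairing ι ℤ M N) (Δ' : Set ι) (g : P.Aut)
    (hg : g ∈ Subgroup.closure ((fun i : ι => Equiv.reflection P i) '' Δ')) :
    ∀ k : ι, P.root (g • k) - P.root k ∈ Submodule.span ℤ (P.root '' Δ') := by
  have hgen : ∀ i ∈ Δ', ∀ k : ι, P.root (Equiv.reflection P i • k) - P.root k ∈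
      Submodule.span ℤ (P.root '' Δ') := by
    intro i hi k
    rw [Lib.Helper16.reflection_smul_idx, P.root_reflectionPerm, P.reflection_apply,
      sub_sub_cancel_left]
    exact Submodule.neg_mem _ (Submodule.smul_mem _ _ (Submodule.subset_span ⟨i, hi, rfl⟩))
  induction hg using Subgroup.closure_induction'' with
  | one =>
    intro k
    rw [one_smul, sub_self]
    exact Submodule.zero_mem _
  | mem w hw =>
    obtain ⟨i, hi, rfl⟩ := hw
    exact hgen i hi
  | inv_mem w hw =>
    obtain ⟨i, hi, rfl⟩ := hw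
    rw [RootPairing.Equiv.reflection_inv]
    exact hgen i hi
  | mul w₁ w₂ _ _ h₁ h₂ =>
    intro k
    have e : P.root ((w₁ * w₂) • k) - P.root k =
        (P.root (w₁ • (w₂ • k)) - P.root (w₂ • k)) + (P.root (w₂ • k) - P.root k) := by
      rw [mul_smul]; abel
    rw [e]
    exact Submodule.add_mem _ (h₁ _) (h₂ _)

theorem backward {ι M N : Type*} [AddCommGroup M] [AddCommGroup N]
    (P : RootPairing ι ℤ M N) [Finite ι] (Δ Δ' : Set ι) (hΔ : RootD.IsSimpleSys P Δ)
    (hsub : Δ' ⊆ Δ) :
    ∀ (m : ℕ) (g : P.Aut), g ∈ P.weylGroup →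
      (∀ (k : ι) (l : Δ), (l : ι) ∉ Δ' → Lib.Helper16.co hΔ (g • k) l = Lib.Helper16.co hΔ k l) →
      (Lib.Helper16.invSet P Δ g).ncard = m →
      g ∈ Subgroup.closure ((fun i : ι => Equiv.reflection P i) '' Δ') := by
  classical
  intro m
  induction m using Nat.strong_induction_on with
  | _ m ih =>
    intro g hg H hm
    by_cases hall : ∀ l ∈ Δ, g • l ∈ RootD.posOf P Δ
    · have := Lib.Helper16.eq_one_of_preserves_pos hΔ hg
        (Lib.Helper16.preserves_pos_of_simple hall)
      rw [this]
      exact one_mem _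
    · push Not at hall
      obtain ⟨l, hl, hgl⟩ := hall
      have hlΔ' : l ∈ Δ' := by
        by_contra hl'
        apply hgl
        rw [Lib.Helper16.mem_posOf_iff_exists_pos hΔ]
        refine ⟨⟨l, hl⟩, ?_⟩
        rw [H l ⟨l, hl⟩ hl', Lib.Helper16.co_simple hΔ l hl, Finsupp.single_eq_same]
        exact one_pos
      have hlt := Lib.Helper16.invSet_mul_reflection_lt hΔ l hl hgl
      rw [hm] at hlt
      have hg' : g * Equiv.reflection P l ∈ P.weylGroup :=
        mul_mem hg (P.reflection_mem_weylGroup l)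
      have H' : ∀ (k : ι) (l' : Δ), (l' : ι) ∉ Δ' →
          Lib.Helper16.co hΔ ((g * Equiv.reflection P l) • k) l' = Lib.Helper16.co hΔ k l' := by
        intro k l' hl'
        rw [mul_smul, H _ l' hl', Lib.Helper16.reflection_smul_idx, Lib.Helper16.co_reflection,
          Lib.Helper16.co_simple hΔ l hl, Finsupp.sub_apply, Finsupp.smul_apply,
          Finsupp.single_apply, if_neg]
        · simp
        · intro h
          apply hl'
          rw [← h]
          exact hlΔ'
      have hmem := ih _ hlt (g * Equiv.reflection P l) hg' H' rfl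
      have hs : Equiv.reflection P l ∈
          Subgroup.closure ((fun i : ι => Equiv.reflection P i) '' Δ') :=
        Subgroup.subset_closure ⟨l, hlΔ', rfl⟩
      have e : g = (g * Equiv.reflection P l) * Equiv.reflection P l := by
        rw [mul_assoc, Lib.Helper16.reflection_mul_self, mul_one]
      rw [e]
      exact mul_mem hmem hs

/-- An element w of the Weyl group belongs to the subgroup generated by the reflections in Δ' ⊆ Δ (Δ a
system of simple roots) if and only if w(α) - α lies in the rational span of Δ' for every root α. -/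
theorem result {ι M N : Type*} [AddCommGroup M] [AddCommGroup N]
    (P : RootPairing ι ℤ M N) [Finite ι] (Δ Δ' : Set ι) (hΔ : RootD.IsSimpleSys P Δ)
    (hsub : Δ' ⊆ Δ) (g : P.Aut) (hg : g ∈ P.weylGroup) :
    g ∈ Subgroup.closure ((fun i : ι => Equiv.reflection P i) '' Δ') ↔
      ∀ k : ι, ∃ n : ℕ, 0 < n ∧ n • (P.root (g • k) - P.root k) ∈ Submodule.span ℤ (P.root '' Δ') := by
  constructor
  · intro h k
    exact ⟨1, Nat.one_pos, by rw [one_smul]; exact forward P Δ' g h k⟩
  · intro h
    apply backward P Δ Δ' hΔ hsub _ g hg _ rfl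
    intro k l hl
    obtain ⟨n, hn, hmem⟩ := h k
    have h1 := Lib.Helper16.coV_eq_zero_of_mem_span hΔ hsub l hl _ hmem
    have h2 : (⟨n • (P.root (g • k) - P.root k),
        Lib.Helper16.span_image_le_spanΔ hsub hmem⟩ : Lib.Helper16.spanΔ P Δ) =
        n • (Lib.Helper16.rootV hΔ (g • k) - Lib.Helper16.rootV hΔ k) := rfl
    rw [h2, Lib.Helper16.coV_nsmul, Lib.Helper16.coV_sub, Finsupp.smul_apply,
      Finsupp.sub_apply, ← Lib.Helper16.co_def, ← Lib.Helper16.co_def] at h1
    have h3 : (n : ℤ) * (Lib.Helper16.co hΔ (g • k) l - Lib.Helper16.co hΔ k l) = 0 := by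
      rw [← h1]
      simp
    rcases mul_eq_zero.mp h3 with h4 | h4
    · omega
    · omega

end Groth.Agent.S5463
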