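import Groth.Statements.S5450
import Groth.Agent.Lib.Helper16.RootD2
-- import your own Groth.Agent.* helpers here

set_option autoImplicit false
open RootD

namespace Groth.Agent.S5450

/-- A positive root (relative to a system of simple roots Δ) is simple if and only if it is not the sum
of two positive roots. -/
theorem result {ι M N : Type*} [AddCommGroup M] [AddCommGroup N]
    (P : RootPairing ι ℤ M N) [Finite ι] (Δ : Set ι) (hΔ : RootD.IsSimpleSys P Δ)
    (k : ι) (hk : k ∈ RootD.posOf P Δ) :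
    k ∈ Δ ↔ ¬ ∃ i j : ι, i ∈ RootD.posOf P Δ ∧ j ∈ RootD.posOf P Δ ∧ P.root k = P.root i + P.root j := by
  classical
  constructor
  · rintro hkΔ ⟨i, j, hi, hj, hsum⟩
    have hco := Groth.Agent.Lib.Helper16.co_add hΔ hsum
    rw [Groth.Agent.Lib.Helper16.co_simple hΔ k hkΔ] at hco
    have hi0 := (Groth.Agent.Lib.Helper16.mem_posOf_iff hΔ i).mp hi
    have hj0 := (Groth.Agent.Lib.Helper16.mem_posOf_iff hΔ j).mp hj
    obtain ⟨l, hl⟩ := (Groth.Agent.Lib.Helper16.mem_posOf_iff_exists_pos hΔ i).mp hi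
    obtain ⟨l', hl'⟩ := (Groth.Agent.Lib.Helper16.mem_posOf_iff_exists_pos hΔ j).mp hj
    have e1 := DFunLike.congr_fun hco l
    have e2 := DFunLike.congr_fun hco l'
    have e3 := DFunLike.congr_fun hco ⟨k, hkΔ⟩
    rw [Finsupp.add_apply, Finsupp.single_apply] at e1 e2 e3
    have a1 := hj0 l
    have a2 := hi0 l'
    have a3 := hi0 ⟨k, hkΔ⟩
    have a4 := hj0 ⟨k, hkΔ⟩
    by_cases c1 : (⟨k, hkΔ⟩ : Δ) = l
    · by_cases c2 : (⟨k, hkΔ⟩ : Δ) = l'
      · subst c1
        subst c2
        rw [if_pos rfl] at e3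
        omega
      · rw [if_neg c2] at e2
        omega
    · rw [if_neg c1] at e1
      omega
  · intro hno
    by_contra hkΔ
    apply hno
    obtain ⟨l, hl1, hl2⟩ := Groth.Agent.Lib.Helper16.exists_simple_pos_pairing hΔ k hk
    have hkl : k ≠ (l : ι) := by
      intro h
      apply hkΔ
      rw [h]
      exact l.2
    have hpos := Groth.Agent.Lib.Helper16.pairing_pos_symm P l k hl2
    obtain ⟨j, hj⟩ := Groth.Agent.Lib.Helper16.root_sub_root_mem_of_pairing_pos P k l hpos hkl
    have hlpos : (l : ι) ∈ RootD.posOf P Δ :=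
      Groth.Agent.Lib.Helper16.simple_mem_posOf (P := P) (Δ := Δ) (l : ι) l.2
    have hsum : P.root k = P.root j + P.root (l : ι) := by rw [hj]; abel
    refine ⟨j, (l : ι), ?_, hlpos, hsum⟩
    have hcoj := Groth.Agent.Lib.Helper16.co_sub hΔ hj
    rw [Groth.Agent.Lib.Helper16.co_simple hΔ l l.2] at hcoj
    rw [Groth.Agent.Lib.Helper16.mem_posOf_iff_exists_pos hΔ]
    by_cases h2 : 2 ≤ Groth.Agent.Lib.Helper16.co hΔ k l
    · refine ⟨l, ?_⟩
      rw [hcoj, Finsupp.sub_apply, Finsupp.single_eq_same]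
      omega
    · have h1 : Groth.Agent.Lib.Helper16.co hΔ k l = 1 := by omega
      by_contra hnone
      push Not at hnone
      have hk0 := (Groth.Agent.Lib.Helper16.mem_posOf_iff hΔ k).mp hk
      have hcok : Groth.Agent.Lib.Helper16.co hΔ k = Groth.Agent.Lib.Helper16.co hΔ l := by
        rw [Groth.Agent.Lib.Helper16.co_simple hΔ l l.2]
        ext l'
        rw [Finsupp.single_apply]
        by_cases c : (⟨(l : ι), l.2⟩ : Δ) = l'
        · rw [if_pos c, ← c]
          exact h1
        · rw [if_neg c]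
          have b1 := hnone l'
          rw [hcoj, Finsupp.sub_apply, Finsupp.single_apply, if_neg c] at b1
          have b2 := hk0 l'
          omega
      rw [Groth.Agent.Lib.Helper16.co_def, Groth.Agent.Lib.Helper16.co_def hΔ l] at hcok
      have := Groth.Agent.Lib.Helper16.coV_injective hΔ hcok
      have hroot : P.root k = P.root l := congrArg Subtype.val this
      exact hkl (P.root.injective hroot)

end Groth.Agent.S5450
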