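import Groth.Statements.S5452
import Groth.Agent.Lib.Helper16.RootD6
import Mathlib.LinearAlgebra.RootSystem.Finite.Nondegenerate

set_option autoImplicit false
open RootPairing
open scoped Pointwise
open RootD

namespace Groth.Agent.S5452

theorem smul_sub_mem_rootSpan {ι M N : Type*} [AddCommGroup M] [AddCommGroup N]
    (P : RootPairing ι ℤ M N) (g : P.Aut) (hg : g ∈ P.weylGroup) (x : M) :
    g • x - x ∈ P.rootSpan ℤ := by
  revert x
  induction hg using RootPairing.weylGroup.induction with
  | mem i =>
    intro x
    rw [RootPairing.Equiv.reflection_smul, P.reflection_apply, sub_sub_cancel_left]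
    exact Submodule.neg_mem _ (Submodule.smul_mem _ _ (Submodule.subset_span ⟨i, rfl⟩))
  | one =>
    intro x
    rw [one_smul, sub_self]
    exact Submodule.zero_mem _
  | mul g₁ g₂ hg₁ hg₂ h₁ h₂ =>
    intro x
    have e : (g₁ * g₂) • x - x = (g₁ • (g₂ • x) - g₂ • x) + (g₂ • x - x) := by
      rw [mul_smul]; abel
    rw [e]
    exact Submodule.add_mem _ (h₁ _) (h₂ _)

theorem pairing_smul {ι M N : Type*} [AddCommGroup M] [AddCommGroup N]
    (P : RootPairing ι ℤ M N) (g : P.Aut) (x : M) (n : N) :
    P.toLinearMap (g • x) n = P.toLinearMap x (g.coweightMap n) := by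
  have h := RootPairing.Hom.weight_coweight_transpose_apply P P n g.toHom
  have h2 := LinearMap.congr_fun h x
  exact h2

theorem eq_one_of_indexEquiv {ι M N : Type*} [AddCommGroup M] [AddCommGroup N]
    (P : RootPairing ι ℤ M N) [Finite ι] (g : P.Aut) (hg : g ∈ P.weylGroup)
    (hidx : g.indexEquiv = Equiv.refl ι) : g = 1 := by
  classical
  have := Fintype.ofFinite ι
  have hco : ∀ j : ι, g.coweightMap (P.coroot j) = P.coroot j := by
    intro j
    have h := RootPairing.Hom.coroot_coweightMap_apply P P j g.toHom
    rw [hidx] at h
    exact h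
  have hw : ∀ x : M, g • x = x := by
    intro x
    have hmem := smul_sub_mem_rootSpan P g hg x
    have hz : P.RootForm (g • x - x) (g • x - x) = 0 := by
      rw [P.rootForm_apply_apply]
      apply Finset.sum_eq_zero
      intro j _
      have : P.coroot' j (g • x - x) = 0 := by
        change P.toLinearMap (g • x - x) (P.coroot j) = 0
        rw [map_sub, LinearMap.sub_apply, pairing_smul, hco, sub_self]
      rw [this, mul_zero]
    have := P.eq_zero_of_mem_rootSpan_of_rootForm_self_eq_zero hmem hz
    exact sub_eq_zero.mp this
  have hwm : g.weightMap = LinearMap.id := by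
    ext x
    exact hw x
  have hcw : g.coweightMap = LinearMap.id := by
    ext n
    have h := RootPairing.Hom.weight_coweight_transpose_apply P P n g.toHom
    rw [hwm, LinearMap.dualMap_id, LinearMap.id_apply] at h
    exact (P.flip.toPerfPair.injective h).symm
  exact RootPairing.Equiv.ext hwm hcw hidx

/-- The Weyl group of a root datum acts faithfully on the set of roots. -/
theorem result {ι M N : Type*} [AddCommGroup M] [AddCommGroup N]
    (P : RootPairing ι ℤ M N) [Finite ι] :
    Function.Injective P.weylGroupToPerm := by
  rw [injective_iff_map_eq_one]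
  rintro ⟨g, hg⟩ h
  apply Subtype.ext
  exact eq_one_of_indexEquiv P g hg h

end Groth.Agent.S5452
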