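import Groth.Statements.S5467
import Groth.Agent.Lib.Helper16.RootD2

set_option autoImplicit false
open RootD

namespace Groth.Agent.S5467

/-- For an indivisible positive non-simple root α there is a simple root β with (β^v, α) > 0 such that
s_β(α) is positive; its order relative to Δ is then smaller than that of α by (β^v, α). -/
theorem result {ι M N : Type*} [AddCommGroup M] [AddCommGroup N]
    (P : RootPairing ι ℤ M N) [Finite ι] (Δ : Set ι) (hΔ : RootD.IsSimpleSys P Δ)
    (k : ι) (hk : k ∈ RootD.posOf P Δ) (hkΔ : k ∉ Δ) (hind : RootD.IsIndiv P k) :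
    ∃ i ∈ Δ, 0 < P.pairing k i ∧ P.reflectionPerm i k ∈ RootD.posOf P Δ := by
  classical
  obtain ⟨l, hl1, hl2⟩ := Lib.Helper16.exists_simple_pos_pairing hΔ k hk
  refine ⟨(l : ι), l.2, Lib.Helper16.pairing_pos_symm P _ _ hl2, ?_⟩
  have hk0 := (Lib.Helper16.mem_posOf_iff hΔ k).mp hk
  have hex : ∃ l' : Δ, l' ≠ l ∧ 0 < Lib.Helper16.co hΔ k l' := by
    by_contra hne
    push Not at hne
    have hco : Lib.Helper16.co hΔ k =
        (Lib.Helper16.co hΔ k l) • Lib.Helper16.co hΔ (l : ι) := by
      rw [Lib.Helper16.co_simple hΔ (l : ι) l.2]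
      ext l'
      rw [Finsupp.smul_apply, Finsupp.single_apply]
      by_cases hl : (⟨(l : ι), l.2⟩ : Δ) = l'
      · rw [if_pos hl, ← hl]
        simp
      · rw [if_neg hl]
        have := hne l' (Ne.symm hl)
        have := hk0 l'
        simp
        omega
    rw [Lib.Helper16.co_def, Lib.Helper16.co_def hΔ (l : ι), ← Lib.Helper16.coV_zsmul] at hco
    have h1 := Lib.Helper16.coV_injective hΔ hco
    have h2 : P.root k = (Lib.Helper16.co hΔ k l) • P.root (l : ι) := congrArg Subtype.val h1
    have h3 : (2 : ℤ) = Lib.Helper16.co hΔ k l * P.pairing (l : ι) k := by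
      have h4 := P.pairing_same k
      rw [← P.root_coroot_eq_pairing, h2, map_zsmul, LinearMap.smul_apply,
        P.root_coroot_eq_pairing, smul_eq_mul] at h4
      exact h4.symm
    have hn : Lib.Helper16.co hΔ k l = 1 ∨ Lib.Helper16.co hΔ k l = 2 := by
      have hdvd : Lib.Helper16.co hΔ k l ∣ 2 := ⟨_, h3⟩
      have hle := Int.le_of_dvd (by norm_num) hdvd
      omega
    rcases hn with hn | hn
    · rw [hn, one_smul] at h2
      have := P.root.injective h2
      apply hkΔ
      rw [this]
      exact l.2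
    · rw [hn] at h2
      exact hind (l : ι) h2.symm
  obtain ⟨l', hl', hl'pos⟩ := hex
  rw [Lib.Helper16.mem_posOf_iff_exists_pos hΔ]
  refine ⟨l', ?_⟩
  rw [Lib.Helper16.co_reflection, Lib.Helper16.co_simple hΔ (l : ι) l.2,
    Finsupp.sub_apply, Finsupp.smul_apply, Finsupp.single_apply, if_neg (Ne.symm hl')]
  simpa using hl'pos

end Groth.Agent.S5467
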