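import Groth.Statements.S4380
import Groth.Agent.Lib.Lead.RelAmp3

set_option autoImplicit false
universe u
open CategoryTheory CategoryTheory.Limits AlgebraicGeometry
open EGA2

namespace Groth.Agent.S4380

/-- Let f : X → Y be a quasi-compact morphism, L an O_X-module and (U_i) a cover of Y by open subsets.
Then L is ample relative to f if and only if, for every i, the restriction of L to f⁻¹(U_i) is ample
relative to the restriction f⁻¹(U_i) → U_i of f. -/
theorem result {X Y : Scheme.{u}} (f : X ⟶ Y) [QuasiCompact f] (L : X.Modules)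
    {ι : Type u} (U : ι → Y.Opens) (hU : ⨆ i, U i = ⊤) :
    RelAmple.IsRelAmple f L ↔ ∀ i, RelAmple.IsRelAmple (f ∣_ (U i)) (L.restrict (f ⁻¹ᵁ (U i)).ι) := by
  constructor
  · intro hL i
    refine ⟨inferInstance, fun V' => ?_⟩
    refine (Groth.Agent.Lib.Lead.Inv.isAmple_restrict_restrict_iff L (f ⁻¹ᵁ (U i)) _ _
      (image_morphismRestrict_preimage f (U i) V'.1)).mpr ?_
    exact hL.2 ⟨(U i).ι ''ᵁ V'.1, V'.2.image_of_isOpenImmersion _⟩
  · intro h
    refine ⟨inferInstance, fun V => ?_⟩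
    refine Groth.Agent.Lib.Lead.Inv.isAmple_restrict_preimage_of_cover f V.1 V.2 L (fun y hy => ?_)
    obtain ⟨i, hi⟩ : ∃ i, y ∈ U i := by
      have : y ∈ (⨆ i, U i : Y.Opens) := by rw [hU]; trivial
      exact TopologicalSpace.Opens.mem_iSup.mp this
    obtain ⟨a, haV, hya⟩ := V.2.exists_basicOpen_le (V := V.1 ⊓ U i) ⟨y, ⟨hy, hi⟩⟩ hy
    refine ⟨a, hya, ?_⟩
    have hle : Y.basicOpen a ≤ (U i).ι.opensRange := by
      rw [Scheme.Opens.opensRange_ι]
      exact haV.trans inf_le_right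
    have haff : IsAffineOpen ((U i).ι ⁻¹ᵁ (Y.basicOpen a)) :=
      (V.2.basicOpen a).preimage_of_isOpenImmersion _ hle
    have himg : (U i).ι ''ᵁ ((U i).ι ⁻¹ᵁ (Y.basicOpen a)) = Y.basicOpen a := by
      rw [Scheme.Hom.image_preimage_eq_opensRange_inf]
      exact inf_eq_right.mpr hle
    have h1 := (h i).2 ⟨(U i).ι ⁻¹ᵁ (Y.basicOpen a), haff⟩
    have h2 := (Groth.Agent.Lib.Lead.Inv.isAmple_restrict_restrict_iff L (f ⁻¹ᵁ (U i)) _ _
      (image_morphismRestrict_preimage f (U i) ((U i).ι ⁻¹ᵁ (Y.basicOpen a)))).mp h1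
    rw [himg] at h2
    exact h2

end Groth.Agent.S4380
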