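import Groth.Statements.S2327
import Groth.Agent.Lib.Lead.Ample1

set_option autoImplicit false
universe u
open CategoryTheory CategoryTheory.Limits AlgebraicGeometry
open EGA2

namespace Groth.Agent.S2327

open Groth.Agent.Lib.Lead.Inv in
theorem aux (X : Scheme.{u}) [CompactSpace X] (L : X.Modules) (hL : PicF.IsInvertible L)
    (n : ℕ) (hn : 0 < n) :
    CohB1.IsAmple L ↔ CohB1.IsAmple (CohB1.tensorPow L n) := by
  obtain ⟨n', rfl⟩ : ∃ n', n = n' + 1 := ⟨n - 1, by omega⟩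
  constructor
  · rintro ⟨-, hc, h⟩
    refine ⟨isInvertible_tensorPow hL _, hc, fun x => ?_⟩
    obtain ⟨m, s, hxs, hs⟩ := h x
    -- `s^(n'+1)` is a section of `L^((m+1)(n'+1))`
    obtain ⟨s₁, hs₁⟩ := exists_pow_section hL s n'
    obtain ⟨s₂, hs₂⟩ := exists_cast_section L (Nat.mul_comm (m + 1) (n' + 1)) s₁
    obtain ⟨s₃, hs₃⟩ := exists_section_of_iso
      ⟨(nonempty_tensorPow_mul hL (n' + 1) (m + 1)).some.symm⟩ s₂
    refine ⟨m, s₃, ?_⟩
    rw [hs₃, hs₂, hs₁]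
    exact ⟨hxs, hs⟩
  · rintro ⟨-, hc, h⟩
    refine ⟨hL, hc, fun x => ?_⟩
    obtain ⟨k, s, hxs, hs⟩ := h x
    obtain ⟨s₁, hs₁⟩ := exists_section_of_iso (nonempty_tensorPow_mul hL (n' + 1) (k + 1)) s
    have hnat : (n' + 1) * (k + 1) = (n' * k + n' + k) + 1 := by ring
    obtain ⟨s₂, hs₂⟩ := exists_cast_section L hnat s₁
    refine ⟨n' * k + n' + k, s₂, ?_⟩
    rw [hs₂, hs₁]
    exact ⟨hxs, hs⟩

/-- Let X be a quasi-compact separated scheme, L an invertible module and n > 0. Then L is ample if and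
only if L^{⊗n} is ample. -/
theorem result (X : Scheme.{u}) [CompactSpace X] [X.IsSeparated] (L : X.Modules) (hL : PicF.IsInvertible L) (n : ℕ) (hn : 0 < n) :
    CohB1.IsAmple L ↔ CohB1.IsAmple (CohB1.tensorPow L n) := by
  exact aux X L hL n hn

end Groth.Agent.S2327
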