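import Groth.Statements.S2328
import Groth.Agent.Lib.Lead.Ample2

set_option autoImplicit false
universe u
open CategoryTheory CategoryTheory.Limits AlgebraicGeometry
open EGA2

namespace Groth.Agent.S2328

open Groth.Agent.Lib.Lead.Inv in
theorem aux (X : Scheme.{u}) (L L' : X.Modules) (hL : CohB1.IsAmple L)
    (hL' : PicF.IsInvertible L')
    (h : ∀ x : X, ∃ (n : ℕ) (s' : Coh.structureModule X ⟶ CohB1.tensorPow L' (n + 1)),
      x ∈ CohB1.genLocus _ s') :
    CohB1.IsAmple (CohB1.tensorMod L L') := by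
  obtain ⟨hLi, hc, ha⟩ := hL
  refine ⟨isInvertible_tensorMod hLi hL', hc, fun x => ?_⟩
  obtain ⟨m, s, hxs, hs⟩ := ha x
  obtain ⟨n, s', hxs'⟩ := h x
  obtain ⟨k, u, hu⟩ := exists_section_tensor hLi hL' s s'
  refine ⟨k, u, ?_⟩
  rw [hu]
  exact ⟨⟨hxs, hxs'⟩, isAffineOpen_inf_genLocus (isInvertible_tensorPow hL' _) s' hs⟩

/-- Let X be a quasi-compact separated scheme, L an ample invertible module and L' an invertible module
such that every point of X lies in the generating locus X_{s'} of some global section s' of some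
positive power of L'. Then L ⊗ L' is ample. -/
theorem result (X : Scheme.{u}) [CompactSpace X] [X.IsSeparated] (L L' : X.Modules) (hL : CohB1.IsAmple L) (hL' : PicF.IsInvertible L')
    (h : ∀ x : X, ∃ (n : ℕ) (s' : Coh.structureModule X ⟶ CohB1.tensorPow L' (n + 1)), x ∈ CohB1.genLocus _ s') :
    CohB1.IsAmple (CohB1.tensorMod L L') := by
  exact aux X L L' hL hL' h

end Groth.Agent.S2328
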