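import Groth.Statements.S10089
import Mathlib.CategoryTheory.Limits.Types.Pullbacks

set_option autoImplicit false
universe u
open CategoryTheory CategoryTheory.Limits AlgebraicGeometry
open AlgSp

namespace Groth.Agent.S10089

universe w v u'
open Opposite

section
variable {C : Type u'} [Category.{v} C] (J : GrothendieckTopology C)

lemma sq_app {F G P Y : Cᵒᵖ ⥤ Type (max w v)} {a : F ⟶ G} {ξ : Y ⟶ G} {fst : P ⟶ F} {snd : P ⟶ Y}
    (sq : IsPullback fst snd a ξ) (Z : Cᵒᵖ) :
    IsPullback (fst.app Z) (snd.app Z) (a.app Z) (ξ.app Z) :=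
  sq.map ((evaluation Cᵒᵖ (Type (max w v))).obj Z)

theorem isSheaf_of_fibres
    {F G : Cᵒᵖ ⥤ Type (max w v)} (a : F ⟶ G) (hG : Presieve.IsSheaf J G)
    (h : ∀ (T : C) (ξ : uliftYoneda.{w}.obj T ⟶ G), ∃ (P : Cᵒᵖ ⥤ Type (max w v)) (fst : P ⟶ F)
      (snd : P ⟶ uliftYoneda.{w}.obj T), IsPullback fst snd a ξ ∧ Presieve.IsSheaf J P) :
    Presieve.IsSheaf J F := by
  intro T R hR x hx
  have hy : (x.map a).Compatible := hx.map a
  obtain ⟨σ, hσ, hσu⟩ := hG R hR _ hy
  obtain ⟨P, fst, snd, sq, hP⟩ := h T (uliftYonedaEquiv.symm σ)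
  have key : ∀ ⦃T' : C⦄ (f : T' ⟶ T) (s : F.obj (op T')), a.app _ s = G.map f.op σ →
      ∃ p : P.obj (op T'), fst.app _ p = s ∧ snd.app _ p = ULift.up f := by
    intro T' f s hs
    exact Types.exists_of_isPullback (sq_app sq (op T')) s (ULift.up f) hs
  have hxσ : ∀ ⦃T' : C⦄ (f : T' ⟶ T) (hf : R.arrows f), a.app _ (x f hf) = G.map f.op σ :=
    fun T' f hf => (hσ f hf).symm
  choose z hz1 hz2 using fun (T' : C) (f : T' ⟶ T) (hf : R.arrows f) => key f (x f hf) (hxσ f hf)
  let zz : Presieve.FamilyOfElements P R.arrows := fun T' f hf => z T' f hf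
  have hzz : zz.Compatible := by
    intro T₁ T₂ W g₁ g₂ f₁ f₂ h₁ h₂ w
    apply Types.ext_of_isPullback (sq_app sq (op W))
    · rw [NatTrans.naturality_apply, NatTrans.naturality_apply]
      simp only [zz, hz1]
      exact hx g₁ g₂ h₁ h₂ w
    · rw [NatTrans.naturality_apply, NatTrans.naturality_apply]
      simp only [zz, hz2]
      change ULift.up (g₁ ≫ f₁) = ULift.up (g₂ ≫ f₂)
      rw [w]
  obtain ⟨p, hp, hpu⟩ := hP R hR zz hzz
  refine ⟨fst.app _ p, ?_, ?_⟩
  · intro T' f hf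
    have := hp f hf
    rw [← NatTrans.naturality_apply, this]
    exact hz1 T' f hf
  · intro s' hs'
    have hs'σ : a.app _ s' = σ := by
      apply hσu
      intro T' f hf
      have := hs' f hf
      simp only [Presieve.FamilyOfElements.map]
      rw [← this, NatTrans.naturality_apply]
    obtain ⟨p', hp'1, hp'2⟩ := key (𝟙 T) s' (by simpa using hs'σ)
    have : p' = p := by
      apply hpu
      intro T' f hf
      apply Types.ext_of_isPullback (sq_app sq (op T'))
      · rw [NatTrans.naturality_apply, hp'1, hz1]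
        exact hs' f hf
      · rw [NatTrans.naturality_apply, hp'2, hz2]
        change ULift.up (f ≫ 𝟙 T) = ULift.up f
        rw [Category.comp_id]
    rw [← this, hp'1]

end

/-- Let `a : F ⟶ G` be a map of presheaves of sets on schemes over `S` which is representable by
algebraic spaces. If `G` is an fppf sheaf, then so is `F`. -/
theorem result (S : Scheme.{u}) (F G : AlgSp.PSp S) (a : F ⟶ G)
    (ha : AlgSp.RepBySp a) (hG : Presheaf.IsSheaf (AlgSp.J S) G) :
    Presheaf.IsSheaf (AlgSp.J S) F := by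
  rw [isSheaf_iff_isSheaf_of_type] at hG ⊢
  refine isSheaf_of_fibres.{u+1} (AlgSp.J S) a hG ?_
  intro T ξ
  refine ⟨pullback a ξ, pullback.fst a ξ, pullback.snd a ξ, IsPullback.of_hasPullback a ξ, ?_⟩
  obtain ⟨hsh, -⟩ := ha ξ (pullback.fst a ξ) (pullback.snd a ξ) (IsPullback.of_hasPullback a ξ)
  rwa [isSheaf_iff_isSheaf_of_type] at hsh

end Groth.Agent.S10089
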