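import Groth.Statements.S6443
import Mathlib.CategoryTheory.Bicategory.Basic
import Mathlib.CategoryTheory.EqToHom

set_option autoImplicit false
open CategoryTheory
universe v u
open FibCat

namespace Groth.Agent.S6443

set_option backward.isDefEq.respectTransparency false

variable {C : Type u} [Category.{v} C] {X X' : C}

lemma left_eq (Φ : FibCat.overCat X' ⥤ᵇ FibCat.overCat X) (Y : Over X') :
    (Φ.obj Y).left = Y.left := Φ.w_obj Y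

def fOf (Φ : FibCat.overCat X' ⥤ᵇ FibCat.overCat X) : X' ⟶ X :=
  eqToHom (left_eq Φ (Over.mk (𝟙 X'))).symm ≫ (Φ.obj (Over.mk (𝟙 X'))).hom

lemma map_left (Φ : FibCat.overCat X' ⥤ᵇ FibCat.overCat X) {Y Y' : Over X'} (g : Y ⟶ Y') :
    (Φ.map g).left = eqToHom (left_eq Φ Y) ≫ g.left ≫ eqToHom (left_eq Φ Y').symm :=
  Functor.congr_hom Φ.w g

lemma obj_hom (Φ : FibCat.overCat X' ⥤ᵇ FibCat.overCat X) (Y : Over X') :
    (Φ.obj Y).hom = eqToHom (left_eq Φ Y) ≫ Y.hom ≫ fOf Φ := by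
  have h := Over.w (Φ.map (Over.homMk Y.hom : Y ⟶ Over.mk (𝟙 X')))
  rw [map_left] at h
  rw [← h]
  simp only [fOf, Over.homMk_left, Category.assoc]

abbrev overMap (f : X' ⟶ X) : FibCat.overCat X' ⥤ᵇ FibCat.overCat X :=
  ⟨Over.map f, Over.mapForget_eq f⟩

def isoOverMap (Φ : FibCat.overCat X' ⥤ᵇ FibCat.overCat X) : Φ ≅ overMap (fOf Φ) :=
  BasedNatIso.mkNatIso
    (NatIso.ofComponents
      (fun Y => Over.isoMk (eqToIso (left_eq Φ Y)) (by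
        rw [obj_hom Φ Y]
        simp))
      (by
        intro Y Y' g
        apply Over.OverMorphism.ext
        change (Φ.map g).left ≫ eqToHom (left_eq Φ Y') = eqToHom (left_eq Φ Y) ≫ g.left
        rw [map_left]
        simp))
    (fun Y => IsHomLift.of_fac' _ _ _ (left_eq Φ Y) rfl (by
      change eqToHom (left_eq Φ Y) = _
      simp))

lemma fOf_congr {Φ₁ Φ₂ : FibCat.overCat X' ⥤ᵇ FibCat.overCat X} (β : Φ₁ ≅ Φ₂) :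
    fOf Φ₁ = fOf Φ₂ := by
  have hw := Over.w (β.hom.toNatTrans.app (Over.mk (𝟙 X')))
  have : (FibCat.overCat X).p.IsHomLift (𝟙 X') (β.hom.toNatTrans.app (Over.mk (𝟙 X'))) :=
    β.hom.isHomLift' (Over.mk (𝟙 X'))
  have hl : (β.hom.toNatTrans.app (Over.mk (𝟙 X'))).left =
      eqToHom (left_eq Φ₁ (Over.mk (𝟙 X'))) ≫ 𝟙 X' ≫ eqToHom (left_eq Φ₂ (Over.mk (𝟙 X'))).symm :=
    IsHomLift.fac' (FibCat.overCat X).p (𝟙 X') (β.hom.toNatTrans.app (Over.mk (𝟙 X')))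
  rw [hl] at hw
  unfold fOf
  rw [← hw]
  simp

lemma fOf_comp {X'' : C} (Φ : FibCat.overCat X' ⥤ᵇ FibCat.overCat X)
    (Ψ : FibCat.overCat X ⥤ᵇ FibCat.overCat X'') :
    fOf (BasedFunctor.comp Φ Ψ) = fOf Φ ≫ fOf Ψ := by
  have h1 : fOf (BasedFunctor.comp Φ Ψ) =
      eqToHom (left_eq (BasedFunctor.comp Φ Ψ) (Over.mk (𝟙 X'))).symm ≫
        (Ψ.obj (Φ.obj (Over.mk (𝟙 X')))).hom := rfl
  rw [h1, obj_hom Ψ, obj_hom Φ]
  simp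

lemma fOf_id : fOf (BasedFunctor.id (FibCat.overCat X)) = 𝟙 X := by
  have h1 : fOf (BasedFunctor.id (FibCat.overCat X)) =
      eqToHom (left_eq (BasedFunctor.id (FibCat.overCat X)) (Over.mk (𝟙 X))).symm ≫
        (Over.mk (𝟙 X)).hom := rfl
  rw [h1]
  simp

open Bicategory in
/-- If a category `𝒮` fibred in groupoids over `C` is represented by `X` via `j : 𝒮 ⟶ C/X` and by `X'`
via `j' : 𝒮 ⟶ C/X'` (equivalences over `C`), then there is an isomorphism `X' ≅ X` under which `j'`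
becomes 2-isomorphic to `j` over `C`. -/
theorem result {C : Type u} [Category.{v} C] {𝒮 : BasedCategory.{v, max u v} C} (h𝒮 : FibCat.IsFibGrpd 𝒮.p)
    {X X' : C} (j : 𝒮 ⥤ᵇ FibCat.overCat X) (j' : 𝒮 ⥤ᵇ FibCat.overCat X') (hj : FibCat.IsEquivOver j) (hj' : FibCat.IsEquivOver j') :
    ∃ e : X' ≅ X, Nonempty (BasedFunctor.comp j' (⟨Over.map e.hom, Over.mapForget_eq e.hom⟩ : FibCat.overCat X' ⥤ᵇ FibCat.overCat X) ≅ j) := by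
  obtain ⟨G, ⟨e₁⟩, ⟨e₂⟩⟩ := hj
  obtain ⟨G', ⟨e₁'⟩, ⟨e₂'⟩⟩ := hj'
  let 𝒪 : BasedCategory.{v, max u v} C := FibCat.overCat X
  let 𝒪' : BasedCategory.{v, max u v} C := FibCat.overCat X'
  let J : 𝒮 ⟶ 𝒪 := j
  let J' : 𝒮 ⟶ 𝒪' := j'
  let H : 𝒪 ⟶ 𝒮 := G
  let H' : 𝒪' ⟶ 𝒮 := G'
  let E₁ : J ≫ H ≅ 𝟙 𝒮 := e₁
  let E₂ : H ≫ J ≅ 𝟙 𝒪 := e₂
  let E₁' : J' ≫ H' ≅ 𝟙 𝒮 := e₁'
  let E₂' : H' ≫ J' ≅ 𝟙 𝒪' := e₂'
  have a1 : (H' ≫ J) ≫ (H ≫ J') ≅ 𝟙 𝒪' :=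
    α_ H' J (H ≫ J') ≪≫
      whiskerLeftIso H' ((α_ J H J').symm ≪≫ whiskerRightIso E₁ J' ≪≫ λ_ J') ≪≫ E₂'
  have a2 : (H ≫ J') ≫ (H' ≫ J) ≅ 𝟙 𝒪 :=
    α_ H J' (H' ≫ J) ≪≫
      whiskerLeftIso H ((α_ J' H' J).symm ≪≫ whiskerRightIso E₁' J ≪≫ λ_ J) ≪≫ E₂
  have h1 : fOf (BasedFunctor.comp G' j) ≫ fOf (BasedFunctor.comp G j') = 𝟙 X' := by
    rw [← fOf_comp]
    exact (fOf_congr a1).trans fOf_id
  have h2 : fOf (BasedFunctor.comp G j') ≫ fOf (BasedFunctor.comp G' j) = 𝟙 X := by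
    rw [← fOf_comp]
    exact (fOf_congr a2).trans fOf_id
  refine ⟨⟨fOf (BasedFunctor.comp G' j), fOf (BasedFunctor.comp G j'), h1, h2⟩, ⟨?_⟩⟩
  have a3 : J' ≫ (H' ≫ J) ≅ J :=
    (α_ J' H' J).symm ≪≫ whiskerRightIso E₁' J ≪≫ λ_ J
  have a4 : (H' ≫ J) ≅ overMap (fOf (BasedFunctor.comp G' j)) := isoOverMap (BasedFunctor.comp G' j)
  exact (whiskerLeftIso J' a4.symm) ≪≫ a3

end Groth.Agent.S6443
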