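import Groth.Statements.S9951
import Groth.Agent.Lib.Helper79.AlgSpChart

set_option autoImplicit false
universe u
open CategoryTheory CategoryTheory.Limits AlgebraicGeometry
open AlgSp

namespace Groth.Agent.S9951

/-- The source of a morphism locally of finite type with locally Noetherian target is locally
Noetherian. -/
theorem result {S : Scheme.{u}} {X Y : AlgSp.Space S} (f : X ⟶ Y)
    (hf : AlgSp.LocP @LocallyOfFiniteType f.hom) (hY : AlgSp.IsLocNoethSp Y.obj) : AlgSp.IsLocNoethSp X.obj := by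
  obtain ⟨V, p, hp, hps, hV⟩ := hY
  obtain ⟨U₀, a₀, ha₀, ha₀s⟩ := X.property.atlas
  obtain ⟨R, p1, p2, sq, e2⟩ :=
    Groth.Agent.Lib.Helper79.AlgSpChart.exists_pullback_chart @Etale hp (a₀ ≫ f.hom)
  have e2s : Surjective p2.left := hps.property (a₀ ≫ f.hom) _ p2 sq
  have hae : AlgSp.RepWith @Etale ((AlgSp.yon S).map p2 ≫ a₀) :=
    Groth.Agent.Lib.Helper79.AlgSpChart.repWith_map_comp @Etale p2 e2 ha₀
  have has : AlgSp.RepWith @Surjective ((AlgSp.yon S).map p2 ≫ a₀) :=
    Groth.Agent.Lib.Helper79.AlgSpChart.repWith_map_comp @Surjective p2 e2s ha₀s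
  have hlft : LocallyOfFiniteType p1.left :=
    hf ((AlgSp.yon S).map p2 ≫ a₀) p p1 hae hp (by rw [Category.assoc]; exact sq.w.symm)
  refine ⟨R, (AlgSp.yon S).map p2 ≫ a₀, hae, has, ?_⟩
  haveI := hV
  exact LocallyOfFiniteType.isLocallyNoetherian p1.left

end Groth.Agent.S9951
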