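import Groth.Statements.S17273
import Groth.Statements.S17273
import Groth.Agent.S19914
import Groth.Agent.Lib.Helper30.AlgSpEtaleMor
import Groth.Agent.S10544
import Groth.Agent.S9985

set_option autoImplicit false
open CategoryTheory AlgebraicGeometry
universe u
open AlgSt

namespace Groth.Agent.S17273

section Aux
open CategoryTheory CategoryTheory.Limits AlgebraicGeometry Opposite AlgSp FibCat Stk AlgSt
open Groth.Agent.Lib.Helper17 Groth.Agent.Lib.Helper17.FP Groth.Agent.Lib.Helper17.EO Groth.Agent.Lib.Helper17.PD Groth.Agent.Lib.Helper17.AT Groth.Agent.Lib.Helper17.AB Groth.Agent.Lib.Helper17.AOS Groth.Agent.Lib.Helper17.ACP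
open Groth.Agent.Lib.Helper46 Groth.Agent.Lib.Helper46.LocPChart
open Groth.Agent.Lib.Helper17.AFP


variable {S : Scheme.{u}}

theorem et_bc : BC (IsEtaleMor (S := S)) :=
  fun _ _ _ _ h1 h2 h3 h4 a _ a' _ sq h =>
    (Groth.Agent.Lib.Helper30.AlgSpEtaleMor.isEtaleMor_iff_locP_etale h4 a').2
      (locP_of_isPullback Groth.Agent.Lib.Helper30.EtLocalInst.etLocal_etale h1 h2 h3 h4 sq
        ((Groth.Agent.Lib.Helper30.AlgSpEtaleMor.isEtaleMor_iff_locP_etale h2 a).1 h))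

theorem et_cp : CP (IsEtaleMor (S := S)) :=
  fun X Y Z hX hY hZ a b ha hb =>
    (Groth.Agent.Lib.Helper30.AlgSpEtaleMor.isEtaleMor_iff_locP_etale hZ (a ≫ b)).2
      (Groth.Agent.S9985.result @Etale (Or.inr (Or.inr (Or.inr (Or.inr (Or.inl rfl)))))
        (X := ⟨X, hX⟩) (Y := ⟨Y, hY⟩) (Z := ⟨Z, hZ⟩) (ObjectProperty.homMk a)
        (ObjectProperty.homMk b)
        ((Groth.Agent.Lib.Helper30.AlgSpEtaleMor.isEtaleMor_iff_locP_etale hY a).1 ha)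
        ((Groth.Agent.Lib.Helper30.AlgSpEtaleMor.isEtaleMor_iff_locP_etale hZ b).1 hb))

theorem et_local : IsLocalOnBase (IsFppfCover (S := S)) IsEtaleMor :=
  PB.fppf_of_fpqc _ (Groth.Agent.S10544.result S)

set_option backward.isDefEq.respectTransparency false in
set_option backward.isDefEq.respectTransparency.types false in
theorem hasAtlas_fp (P : MorphismProperty (AlgSp.Sp S)) (hPb : ACP.BC P) (hPc : ACP.CP P)
    (hPl : ACov.SchLocal P)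
    (hPe : ∀ {R : Sp S} {W : Over S} (c : (yon S).obj W ⟶ R), IsEtaleMor c → P c)
    {𝒳 𝒴 𝒵 : AlgSt.Cat S}
    (hX : FibCat.IsFibGrpd 𝒳.p) (hY : FibCat.IsFibGrpd 𝒴.p) (hZ : FibCat.IsFibGrpd 𝒵.p)
    (hΔ : AlgSt.RepByAlgSp1 (FibCat.diag (FibCat.toSelf 𝒵)))
    (h𝒳 : AlgSt.HasAtlas P 𝒳) (h𝒴 : AlgSt.HasAtlas P 𝒴) (f : 𝒳 ⥤ᵇ 𝒵) (g : 𝒴 ⥤ᵇ 𝒵) :
    AlgSt.HasAtlas P (FibCat.fp f g) := by
  have hW : FibCat.IsFibGrpd (FibCat.fp f g).p := SP.isFibGrpd_fp f g hX hY hZ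
  obtain ⟨U, x, hxs, hxsurj⟩ := h𝒳
  obtain ⟨V, y, hys, hysurj⟩ := h𝒴
  have hU : FibCat.IsFibGrpd (FibCat.overCat U).p := FG.isFibGrpd_overForget U
  have hV : FibCat.IsFibGrpd (FibCat.overCat V).p := FG.isFibGrpd_overForget V
  have hR : FibCat.IsFibGrpd (FibCat.fp (BasedFunctor.comp x f) (BasedFunctor.comp y g)).p :=
    SP.isFibGrpd_fp _ _ hU hV hZ
  have hm₁ := repWith_prod _ hPb hPc hPl hU hV hX hY hZ f g x y hxs hys
  have hm₂ := repWith_prod _ DL.surj_bc DL.surj_cp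
    (ACov.schLocal_of_isLocalOnBase _ SD.isLocalOnBase_isSurjectiveMor)
    hU hV hX hY hZ f g x y hxsurj hysurj
  have hrep : AlgSt.RepByAlgSp (FibCat.fp (BasedFunctor.comp x f) (BasedFunctor.comp y g)) :=
    (Groth.Agent.S12765.result hZ).mp hΔ V (BasedFunctor.comp y g) U (BasedFunctor.comp x f)
  obtain ⟨R, e, he⟩ := hrep
  obtain ⟨W, c, hce, hcs⟩ := R.property.atlas
  have hcet := ACov.isEtaleMor_of_repWith c hce
  have hWf : FibCat.IsFibGrpd (FibCat.overCat W).p := FG.isFibGrpd_overForget W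
  let WW : AlgSp.Space S := ⟨(yon S).obj W, IsAlgSpace.yon_obj W⟩
  let x₀ : FibCat.overCat W ⥤ᵇ ofSp R.obj := BasedFunctor.comp (ofOverCat W) (ofSpMap c)
  have hx₀ : ∀ (C : MorphismProperty (Sp S)), BC C → C c → AlgSt.RepByAlgSpWith C x₀ :=
    fun C hCb hc => FD.repWith_precomp_equiv C (ofOverCat W) (AD.ofOverCat_isEquivOver W) _
      (DCV.repWith_ofSpMap C hCb WW R c hc)
  let mm : FibCat.fp (BasedFunctor.comp x f) (BasedFunctor.comp y g) ⥤ᵇ FibCat.fp f g :=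
    BasedFunctor.comp
      (BasedFunctor.comp (PS.paste x f (BasedFunctor.comp y g))
        (FibCat.fpSnd x (FibCat.fpFst f (BasedFunctor.comp y g))))
      (BasedFunctor.comp (PSR.paste f y g) (FibCat.fpFst (FibCat.fpSnd f g) y))
  refine ⟨W, BasedFunctor.comp x₀ (BasedFunctor.comp e mm), ?_, ?_⟩
  · exact repWith_comp_of_schLocal' hWf hW _ hPb hPc hPl x₀ _
      (hx₀ _ hPb (hPe c hcet))
      (FD.repWith_precomp_equiv _ e he _ hm₁)
  · exact repWith_comp_of_schLocal' hWf hW _ DL.surj_bc DL.surj_cp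
      (ACov.schLocal_of_isLocalOnBase _ SD.isLocalOnBase_isSurjectiveMor) x₀ _
      (hx₀ _ DL.surj_bc (ACov.points_map_surjective c hcs))
      (FD.repWith_precomp_equiv _ e he _ hm₂)

theorem main (K : Precoverage Scheme.{u}) (𝒳 𝒴 𝒵 : AlgSt.Cat S)
    (h𝒳 : AlgSt.IsDM K 𝒳) (h𝒴 : AlgSt.IsDM K 𝒴)
    (h𝒵 : AlgSt.IsDM K 𝒵)
    (f : 𝒳 ⥤ᵇ 𝒵) (g : 𝒴 ⥤ᵇ 𝒵) :
    AlgSt.IsDM K (FibCat.fp f g) :=
  ⟨Groth.Agent.S19914.isAlgStack_fp_gen K h𝒵.1.isStack h𝒵.1.diag h𝒳.1 h𝒴.1 f g,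
    hasAtlas_fp _ et_bc et_cp (ACov.schLocal_of_isLocalOnBase _ et_local) (fun _ h => h)
      h𝒳.1.isStack.1 h𝒴.1.isStack.1 h𝒵.1.isStack.1 h𝒵.1.diag h𝒳.2 h𝒴.2 f g⟩


end Aux

/-- Let S be a scheme and let 𝒳, 𝒴, 𝒵 be Deligne–Mumford stacks over (Sch/S) for the etale topology
(stacks in groupoids whose diagonal is representable by algebraic spaces, with a smooth surjective
atlas from a scheme and an etale surjective atlas from a scheme, both representable by algebraic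
spaces), with functors f : 𝒳 → 𝒵 and g : 𝒴 → 𝒵 over (Sch/S). Then the 2-fibre product 𝒳 ×_𝒵 𝒴 over
(Sch/S) is a Deligne–Mumford stack for the etale topology. -/
theorem result (S : Scheme.{u}) (𝒳 𝒴 𝒵 : AlgSt.Cat S)
    (h𝒳 : AlgSt.IsDM Scheme.etalePrecoverage 𝒳) (h𝒴 : AlgSt.IsDM Scheme.etalePrecoverage 𝒴)
    (h𝒵 : AlgSt.IsDM Scheme.etalePrecoverage 𝒵)
    (f : 𝒳 ⥤ᵇ 𝒵) (g : 𝒴 ⥤ᵇ 𝒵) :
    AlgSt.IsDM Scheme.etalePrecoverage (FibCat.fp f g) := by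
  exact main Scheme.etalePrecoverage 𝒳 𝒴 𝒵 h𝒳 h𝒴 h𝒵 f g

end Groth.Agent.S17273
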