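import Groth.Statements.S10262
-- import your own Groth.Agent.* helpers here
import Groth.Agent.Lib.Helper36.AlgSpCharts

set_option autoImplicit false
universe u
open CategoryTheory CategoryTheory.Limits AlgebraicGeometry
open AlgSp

namespace Groth.Agent.S10262

open Groth.Agent.Lib.Helper36.AlgSpCharts

theorem part1 {S : Scheme.{u}} {X Y : AlgSp.Space S} (f : X ⟶ Y)
    (h : AlgSp.LocP (@LocallyOfFiniteType ⊓ @FormallyUnramified) f.hom) :
    AlgSp.RepWith @IsOpenImmersion (pullback.diagonal f.hom) := by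
  set F := f.hom
  have hΔ := representable_diagonal F X.property.diag
  refine MorphismProperty.relative_of_snd hΔ fun T g => ?_
  obtain ⟨U, p, hpe, hps⟩ := X.property.atlas
  obtain ⟨UY, R, pr1, pr2, e, ρ, w, sqUY, hw1, hw2, sqR, sqRR, he1, hemono⟩ :=
    exists_diag_chart X.property.diag Y.property F p hpe
  have hpF : RepWith (@LocallyOfFiniteType ⊓ @FormallyUnramified) (p ≫ F) :=
    repWith_comp_of_locP Y.property F h p hpe
  have hpr1 : (@LocallyOfFiniteType ⊓ @FormallyUnramified) pr1.left :=
    prop_fst_of_isPullback sqUY hpF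
  have hee : Etale e.left := by
    have := hpr1.1
    have := hpr1.2
    have : Etale (e.left ≫ pr1.left) := he1
    exact Etale.of_comp e.left pr1.left
  have heo : IsOpenImmersion e.left := IsOpenImmersion.of_flat_of_mono e.left
  -- general T
  obtain ⟨x1, hx1⟩ : ∃ x1, x1 = g ≫ pullback.fst F F := ⟨_, rfl⟩
  obtain ⟨x2, hx2⟩ : ∃ x2, x2 = g ≫ pullback.snd F F := ⟨_, rfl⟩
  have hx : x1 ≫ F = x2 ≫ F := by simp [hx1, hx2, pullback.condition]
  obtain ⟨T1, t1, u1, sq1⟩ := exists_isPullback_yon x1 p hpe.rep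
  have ht1e : Etale t1.left := prop_fst_of_isPullback sq1 hpe
  have ht1s : Surjective t1.left := prop_fst_of_isPullback sq1 hps
  obtain ⟨T2, t2, u2, sq2⟩ := exists_isPullback_yon ((yon S).map t1 ≫ x2) p hpe.rep
  have ht2e : Etale t2.left := prop_fst_of_isPullback sq2 hpe
  have ht2s : Surjective t2.left := prop_fst_of_isPullback sq2 hps
  obtain ⟨m', hm1, hm2⟩ := sqUY.exists_lift ((yon S).map (t2 ≫ u1)) ((yon S).map u2) (by
    rw [Functor.map_comp, Category.assoc, ← sq1.w_assoc, ← sq2.w_assoc, Category.assoc, hx])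
  obtain ⟨m, rfl⟩ := (yon S).map_surjective m'
  have hmw : (yon S).map m ≫ w = (yon S).map (t2 ≫ t1) ≫ g := by
    apply pullback.hom_ext
    · rw [Category.assoc, hw1, reassoc_of% hm1, Functor.map_comp, Category.assoc, ← sq1.w,
        Functor.map_comp, Category.assoc, Category.assoc, hx1]
    · rw [Category.assoc, hw2, reassoc_of% hm2, ← sq2.w,
        Functor.map_comp, Category.assoc, Category.assoc, hx2]
  have sqE := IsPullback.of_hasPullback e m
  have hπ2 : IsOpenImmersion (pullback.snd e m).left :=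
    MorphismProperty.of_isPullback (sqE.map (Over.forget S)) heo
  have big := (sqE.map (yon S)).paste_horiz sqR
  rw [hmw] at big
  have sqE0 := hΔ.isPullback g
  obtain ⟨θ', hθ1, hθ2⟩ := sqE0.exists_lift ((yon S).map (pullback.fst e m) ≫ ρ)
    ((yon S).map (pullback.snd e m ≫ t2 ≫ t1)) (by
      rw [big.w]; simp only [Functor.map_comp, Category.assoc])

  obtain ⟨θ, rfl⟩ := (yon S).map_surjective θ'
  rw [← hθ1] at big
  have small : IsPullback ((yon S).map θ) ((yon S).map (pullback.snd e m)) ((yon S).map (hΔ.snd g))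
      ((yon S).map (t2 ≫ t1)) :=
    IsPullback.of_right big (by rw [hθ2, Functor.map_comp]) sqE0
  have hτe : Etale (t2 ≫ t1).left := by
    rw [Over.comp_left]; infer_instance
  have hτs : Surjective (t2 ≫ t1).left := by
    rw [Over.comp_left]; infer_instance
  exact descend_of_isPullback (isPullback_of_yon small) hτe hτs hπ2


theorem part2 {S : Scheme.{u}} {X Y : AlgSp.Space S} (f : X ⟶ Y)
    (h1 : AlgSp.LocP @LocallyOfFiniteType f.hom)
    (h2 : AlgSp.RepWith @IsOpenImmersion (pullback.diagonal f.hom)) :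
    AlgSp.LocP (@LocallyOfFiniteType ⊓ @FormallyUnramified) f.hom := by
  intro U V a b k ha hb hw
  refine ⟨h1 a b k ha hb hw, ?_⟩
  set F := f.hom
  obtain ⟨UY, R, pr1, pr2, e, ρ, w, sqUY, hw1, hw2, sqR, sqRR, he1, hemono⟩ :=
    exists_diag_chart X.property.diag Y.property F a ha
  have heo : IsOpenImmersion e.left := h2.property w ρ e sqR
  -- the diagonal section δ : U ⟶ R
  obtain ⟨δ', hδ1, hδ2⟩ := sqRR.exists_lift (𝟙 _) (𝟙 _) rfl
  obtain ⟨δ, rfl⟩ := (yon S).map_surjective δ'
  have eδ1 : δ ≫ e ≫ pr1 = 𝟙 U := (yon S).map_injective (by simpa using hδ1)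
  have eδ2 : δ ≫ e ≫ pr2 = 𝟙 U := (yon S).map_injective (by simpa using hδ2)
  have eδ1' : δ.left ≫ (e ≫ pr1).left = 𝟙 U.left := by
    rw [← Over.comp_left, eδ1]; rfl
  have hδe : Etale δ.left := by
    have : Etale (δ.left ≫ (e ≫ pr1).left) := by rw [eδ1']; infer_instance
    exact Etale.of_comp δ.left (e ≫ pr1).left
  have hδm : Mono δ.left := by
    have : Mono (δ.left ≫ (e ≫ pr1).left) := by rw [eδ1']; infer_instance
    exact mono_of_mono δ.left (e ≫ pr1).left
  have hδo : IsOpenImmersion δ.left := IsOpenImmersion.of_flat_of_mono δ.left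
  -- the scheme-level fibre product
  let UUo : Over S := Over.mk (pullback.fst k.left k.left ≫ U.hom)
  let q1 : UUo ⟶ U := Over.homMk (pullback.fst k.left k.left) rfl
  have hUV : U.hom = k.left ≫ V.hom := (Over.w k).symm
  let q2 : UUo ⟶ U := Over.homMk (pullback.snd k.left k.left) (by
    change pullback.snd k.left k.left ≫ U.hom = pullback.fst k.left k.left ≫ U.hom
    rw [hUV, ← Category.assoc, ← pullback.condition, Category.assoc])
  have hq : q1 ≫ k = q2 ≫ k := Over.OverMorphism.ext pullback.condition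
  obtain ⟨κ', hκ1, hκ2⟩ := sqUY.exists_lift ((yon S).map q1) ((yon S).map q2) (by
    rw [hw, ← Functor.map_comp_assoc, hq, Functor.map_comp_assoc])
  obtain ⟨κ, rfl⟩ := (yon S).map_surjective κ'
  have eκ1 : κ ≫ pr1 = q1 := (yon S).map_injective (by simpa using hκ1)
  have eκ2 : κ ≫ pr2 = q2 := (yon S).map_injective (by simpa using hκ2)
  have hκm : Mono κ.left := ⟨fun s s' hss => by
    apply pullback.hom_ext
    · have := congrArg (· ≫ pr1.left) hss
      simp only [Category.assoc, ← Over.comp_left, eκ1] at this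
      exact this
    · have := congrArg (· ≫ pr2.left) hss
      simp only [Category.assoc, ← Over.comp_left, eκ2] at this
      exact this⟩
  let Do : U ⟶ UUo := Over.homMk (pullback.diagonal k.left) (by
    change pullback.diagonal k.left ≫ pullback.fst k.left k.left ≫ U.hom = U.hom
    simp)
  have hDo1 : Do ≫ q1 = 𝟙 U := Over.OverMorphism.ext (by simp [Do, q1])
  have hDo2 : Do ≫ q2 = 𝟙 U := Over.OverMorphism.ext (by simp [Do, q2])
  have hD : Do ≫ κ = δ ≫ e := by
    apply (yon S).map_injective
    apply sqUY.hom_ext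
    · rw [← Functor.map_comp, ← Functor.map_comp, Category.assoc, Category.assoc, eκ1, hDo1, eδ1]
    · rw [← Functor.map_comp, ← Functor.map_comp, Category.assoc, Category.assoc, eκ2, hDo2, eδ2]
  have hD' : pullback.diagonal k.left ≫ κ.left = δ.left ≫ e.left := by
    have := congrArg (fun t => t.left) hD
    simpa [Do] using this
  have hDκ : IsOpenImmersion (pullback.diagonal k.left ≫ κ.left) := by
    rw [hD']; infer_instance
  have sqD : IsPullback (pullback.diagonal k.left) (𝟙 U.left) κ.left
      (pullback.diagonal k.left ≫ κ.left) :=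
    IsPullback.of_vert_isIso_mono ⟨by simp⟩
  have : IsOpenImmersion (pullback.diagonal k.left) :=
    MorphismProperty.of_isPullback sqD.flip hDκ
  infer_instance

/-- (1) an unramified morphism of algebraic spaces has diagonal an open immersion; (2) a morphism
locally of finite type whose diagonal is an open immersion is unramified. -/
theorem result {S : Scheme.{u}} {X Y : AlgSp.Space S} (f : X ⟶ Y) :
    (AlgSp.LocP (@LocallyOfFiniteType ⊓ @FormallyUnramified) f.hom →
      AlgSp.RepWith @IsOpenImmersion (pullback.diagonal f.hom)) ∧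
    (AlgSp.LocP @LocallyOfFiniteType f.hom → AlgSp.RepWith @IsOpenImmersion (pullback.diagonal f.hom) →
      AlgSp.LocP (@LocallyOfFiniteType ⊓ @FormallyUnramified) f.hom) := by
  exact ⟨part1 f, part2 f⟩

end Groth.Agent.S10262
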