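import Groth.Statements.S6402
import Mathlib

set_option autoImplicit false
open CategoryTheory
universe v u
open FibCat

namespace Groth.Agent.S6402

section
open CategoryTheory.Limits
variable {C : Type u} [Category.{v} C] {𝒳 𝒴 : BasedCategory.{v, max u v} C} (F : 𝒳 ⥤ᵇ 𝒴)

@[simp] theorem diag_obj_fst (x : 𝒳.obj) : ((diag F).obj x).obj.fst = x := rfl
@[simp] theorem diag_obj_snd (x : 𝒳.obj) : ((diag F).obj x).obj.snd = x := rfl
@[simp] theorem diag_obj_iso_hom (x : 𝒳.obj) : ((diag F).obj x).obj.iso.hom = 𝟙 (F.obj x) := rfl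
@[simp] theorem diag_obj_iso_inv (x : 𝒳.obj) : ((diag F).obj x).obj.iso.inv = 𝟙 (F.obj x) := rfl
@[simp] theorem diag_map_fst {x y : 𝒳.obj} (f : x ⟶ y) : ((diag F).map f).hom.fst = f := rfl
@[simp] theorem diag_map_snd {x y : 𝒳.obj} (f : x ⟶ y) : ((diag F).map f).hom.snd = f := rfl

/-- morphism between diagonal objects from a pair with equal images -/
def dm {x x' : 𝒳.obj} (a b : x ⟶ x') (h : F.map a = F.map b) : (diag F).obj x ⟶ (diag F).obj x' :=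
  ObjectProperty.homMk ⟨a, b, by
    show F.map a ≫ 𝟙 _ = 𝟙 _ ≫ F.map b
    rw [Category.comp_id, Category.id_comp, h]⟩

@[simp] theorem dm_fst {x x' : 𝒳.obj} (a b : x ⟶ x') (h : F.map a = F.map b) : (dm F a b h).hom.fst = a := rfl
@[simp] theorem dm_snd {x x' : 𝒳.obj} (a b : x ⟶ x') (h : F.map a = F.map b) : (dm F a b h).hom.snd = b := rfl

theorem fpFF_hom_ext {X Y : (fp F F).obj} {f g : X ⟶ Y} (h1 : f.hom.fst = g.hom.fst) (h2 : f.hom.snd = g.hom.snd) : f = g := by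
  apply ObjectProperty.hom_ext
  exact CategoricalPullback.hom_ext h1 h2

theorem diag_hom_w {x x' : 𝒳.obj} (m : (diag F).obj x ⟶ (diag F).obj x') : F.map m.hom.fst = F.map m.hom.snd := by
  have := m.hom.w
  simpa using this

@[simp] theorem fp_comp_fst {X Y Z : (fp F F).obj} (f : X ⟶ Y) (g : Y ⟶ Z) : (f ≫ g).hom.fst = f.hom.fst ≫ g.hom.fst := rfl
@[simp] theorem fp_comp_snd {X Y Z : (fp F F).obj} (f : X ⟶ Y) (g : Y ⟶ Z) : (f ≫ g).hom.snd = f.hom.snd ≫ g.hom.snd := rfl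
@[simp] theorem fp_id_fst (X : (fp F F).obj) : (𝟙 X : X ⟶ X).hom.fst = 𝟙 X.obj.fst := rfl
@[simp] theorem fp_id_snd (X : (fp F F).obj) : (𝟙 X : X ⟶ X).hom.snd = 𝟙 X.obj.snd := rfl

def di {x x' : 𝒳.obj} (a b : x ≅ x') (h : F.map a.hom = F.map b.hom) : (diag F).obj x ≅ (diag F).obj x' where
  hom := dm F a.hom b.hom h
  inv := dm F a.inv b.inv (by
    have h1 : F.toFunctor.mapIso a = F.toFunctor.mapIso b := Iso.ext h
    exact congrArg Iso.inv h1)
  hom_inv_id := by apply fpFF_hom_ext <;> simp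
  inv_hom_id := by apply fpFF_hom_ext <;> simp

section
universe v₂ u₂ v₃ u₃ v₄ u₄
variable {𝒳' : BasedCategory.{v₂,u₂} C} {𝒴' : BasedCategory.{v₃,u₃} C} {𝒮' : BasedCategory.{v₄,u₄} C}

theorem fp_homLift_iff (F' : 𝒳' ⥤ᵇ 𝒮') (G' : 𝒴' ⥤ᵇ 𝒮') {R S : C} (f : R ⟶ S) {X Y : (fp F' G').obj} (m : X ⟶ Y) :
    (fp F' G').p.IsHomLift f m ↔ 𝒳'.p.IsHomLift f m.hom.fst := by
  constructor
  · intro h
    obtain ⟨⟩ := h
    exact Functor.IsHomLift.map (p := 𝒳'.p) m.hom.fst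
  · intro h
    have h1 := IsHomLift.domain_eq 𝒳'.p f m.hom.fst
    have h2 := IsHomLift.codomain_eq 𝒳'.p f m.hom.fst
    have h3 := IsHomLift.fac 𝒳'.p f m.hom.fst
    exact IsHomLift.of_fac (fp F' G').p f m h1 h2 h3
end

theorem aut_lift (a : InertiaObj F) :
    𝒳.p.IsHomLift (𝟙 (𝒳.p.obj a.pt)) a.aut.hom := by
  rw [← BasedFunctor.isHomLift_iff F, a.map_aut]
  exact IsHomLift.id (F.w_obj a.pt)

def Eobj (a : InertiaObj F) : (fp (diag F) (diag F)).obj :=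
  ⟨⟨a.pt, a.pt, di F a.aut (Iso.refl _) (by simp [a.map_aut])⟩, by
    show (fp F F).p.IsHomLift (𝟙 (𝒳.p.obj a.pt)) (di F a.aut (Iso.refl _) _).hom
    rw [fp_homLift_iff]
    exact aut_lift F a⟩

@[simp] theorem Eobj_fst (a : InertiaObj F) : (Eobj F a).obj.fst = a.pt := rfl
@[simp] theorem Eobj_snd (a : InertiaObj F) : (Eobj F a).obj.snd = a.pt := rfl
@[simp] theorem Eobj_iso_hom_fst (a : InertiaObj F) : (Eobj F a).obj.iso.hom.hom.fst = a.aut.hom := rfl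
@[simp] theorem Eobj_iso_hom_snd (a : InertiaObj F) : (Eobj F a).obj.iso.hom.hom.snd = 𝟙 a.pt := rfl

def Emap {a b : InertiaObj F} (φ : a ⟶ b) : Eobj F a ⟶ Eobj F b :=
  ObjectProperty.homMk ⟨φ.hom, φ.hom, by
    apply fpFF_hom_ext
    · simp [φ.comm]
    · simp⟩

@[simp] theorem Emap_fst {a b : InertiaObj F} (φ : a ⟶ b) : (Emap F φ).hom.fst = φ.hom := rfl
@[simp] theorem Emap_snd {a b : InertiaObj F} (φ : a ⟶ b) : (Emap F φ).hom.snd = φ.hom := rfl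

theorem fpDD_hom_ext {X Y : (fp (diag F) (diag F)).obj} {f g : X ⟶ Y} (h1 : f.hom.fst = g.hom.fst) (h2 : f.hom.snd = g.hom.snd) : f = g := by
  apply ObjectProperty.hom_ext
  exact CategoricalPullback.hom_ext h1 h2

def Efun : InertiaObj F ⥤ (fp (diag F) (diag F)).obj where
  obj := Eobj F
  map := Emap F
  map_id a := by apply fpDD_hom_ext <;> rfl
  map_comp f g := by apply fpDD_hom_ext <;> rfl

def E : inertia F ⥤ᵇ fp (diag F) (diag F) where
  toFunctor := Efun F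
  w := rfl

theorem E_fst : BasedFunctor.comp (E F) (fpFst _ _) = inertiaToBase F := rfl
theorem E_snd : BasedFunctor.comp (E F) (fpSnd _ _) = inertiaToBase F := rfl

section G
variable (X : (fp (diag F) (diag F)).obj)

/-- the four components -/
abbrev cA : X.obj.fst ⟶ X.obj.snd := X.obj.iso.hom.hom.fst
abbrev cB : X.obj.fst ⟶ X.obj.snd := X.obj.iso.hom.hom.snd
abbrev cAi : X.obj.snd ⟶ X.obj.fst := X.obj.iso.inv.hom.fst
abbrev cBi : X.obj.snd ⟶ X.obj.fst := X.obj.iso.inv.hom.snd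

@[reassoc (attr := simp)] theorem cA_cAi : cA F X ≫ cAi F X = 𝟙 _ := by
  show (X.obj.iso.hom ≫ X.obj.iso.inv).hom.fst = _
  rw [Iso.hom_inv_id]; rfl
@[reassoc (attr := simp)] theorem cAi_cA : cAi F X ≫ cA F X = 𝟙 _ := by
  show (X.obj.iso.inv ≫ X.obj.iso.hom).hom.fst = _
  rw [Iso.inv_hom_id]; rfl
@[reassoc (attr := simp)] theorem cB_cBi : cB F X ≫ cBi F X = 𝟙 _ := by
  show (X.obj.iso.hom ≫ X.obj.iso.inv).hom.snd = _
  rw [Iso.hom_inv_id]; rfl
@[reassoc (attr := simp)] theorem cBi_cB : cBi F X ≫ cB F X = 𝟙 _ := by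
  show (X.obj.iso.inv ≫ X.obj.iso.hom).hom.snd = _
  rw [Iso.inv_hom_id]; rfl

theorem F_cA : F.map (cA F X) = F.map (cB F X) := diag_hom_w F _
theorem F_cAi : F.map (cAi F X) = F.map (cBi F X) := diag_hom_w F _

def Gobj : InertiaObj F where
  pt := X.obj.fst
  aut := ⟨cA F X ≫ cBi F X, cB F X ≫ cAi F X, by simp, by simp⟩
  map_aut := by
    show F.map (cA F X ≫ cBi F X) = 𝟙 _
    rw [F.map_comp, F_cA, ← F.map_comp, cB_cBi, F.map_id]

end G

section Gmap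
variable {X Y : (fp (diag F) (diag F)).obj} (m : X ⟶ Y)

theorem m_w_fst : m.hom.fst ≫ cA F Y = cA F X ≫ m.hom.snd := by
  have := congrArg (fun t => t.hom.fst) m.hom.w
  exact this
theorem m_w_snd : m.hom.fst ≫ cB F Y = cB F X ≫ m.hom.snd := by
  have := congrArg (fun t => t.hom.snd) m.hom.w
  exact this
theorem m_w_snd' : m.hom.snd ≫ cBi F Y = cBi F X ≫ m.hom.fst := by
  have h := m_w_snd F m
  have : cBi F X ≫ (m.hom.fst ≫ cB F Y) ≫ cBi F Y = cBi F X ≫ (cB F X ≫ m.hom.snd) ≫ cBi F Y := by rw [h]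
  simpa using this.symm

def Gmap : Gobj F X ⟶ Gobj F Y :=
  ⟨m.hom.fst, by
    show (cA F X ≫ cBi F X) ≫ m.hom.fst = m.hom.fst ≫ (cA F Y ≫ cBi F Y)
    rw [Category.assoc, ← m_w_snd', ← Category.assoc, ← m_w_fst, Category.assoc]⟩

end Gmap

def Gfun : (fp (diag F) (diag F)).obj ⥤ InertiaObj F where
  obj := Gobj F
  map := Gmap F
  map_id X := by apply InertiaObj.hom_ext; rfl
  map_comp f g := by apply InertiaObj.hom_ext; rfl

def G : fp (diag F) (diag F) ⥤ᵇ inertia F where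
  toFunctor := Gfun F
  w := rfl

def inertiaIsoMk {a b : InertiaObj F} (e : a.pt ≅ b.pt) (h : a.aut.hom ≫ e.hom = e.hom ≫ b.aut.hom) : a ≅ b where
  hom := ⟨e.hom, h⟩
  inv := ⟨e.inv, by
    rw [← cancel_epi e.hom, ← Category.assoc, ← h, Category.assoc, Iso.hom_inv_id, Category.comp_id, Iso.hom_inv_id_assoc]⟩
  hom_inv_id := by apply InertiaObj.hom_ext; simp
  inv_hom_id := by apply InertiaObj.hom_ext; simp

@[simp] theorem Gobj_pt (X : (fp (diag F) (diag F)).obj) : (Gobj F X).pt = X.obj.fst := rfl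
@[simp] theorem Gobj_aut_hom (X : (fp (diag F) (diag F)).obj) : (Gobj F X).aut.hom = cA F X ≫ cBi F X := rfl

theorem cBi_Eobj (a : InertiaObj F) : cBi F (Eobj F a) = 𝟙 a.pt := rfl
theorem cB_Eobj (a : InertiaObj F) : cB F (Eobj F a) = 𝟙 a.pt := rfl
theorem cA_Eobj (a : InertiaObj F) : cA F (Eobj F a) = a.aut.hom := rfl

def ηiso : (E F).toFunctor ⋙ (G F).toFunctor ≅ 𝟭 (InertiaObj F) :=
  NatIso.ofComponents (fun a => inertiaIsoMk F (a := Gobj F (Eobj F a)) (b := a) (Iso.refl a.pt) (by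
    show (cA F (Eobj F a) ≫ cBi F (Eobj F a)) ≫ 𝟙 _ = 𝟙 _ ≫ a.aut.hom
    rw [cBi_Eobj, cA_Eobj]; simp)) (by
    intro a b f
    apply InertiaObj.hom_ext
    show f.hom ≫ 𝟙 _ = 𝟙 _ ≫ f.hom
    simp)

theorem inertia_homLift_iff {R S : C} (f : R ⟶ S) {a b : InertiaObj F} (φ : a ⟶ b) :
    (inertia F).p.IsHomLift f φ ↔ 𝒳.p.IsHomLift f φ.hom := by
  constructor
  · intro h
    obtain ⟨⟩ := h
    exact Functor.IsHomLift.map (p := 𝒳.p) φ.hom
  · intro h
    have h1 := IsHomLift.domain_eq 𝒳.p f φ.hom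
    have h2 := IsHomLift.codomain_eq 𝒳.p f φ.hom
    have h3 := IsHomLift.fac 𝒳.p f φ.hom
    exact IsHomLift.of_fac (inertia F).p f φ h1 h2 h3

def ηb : BasedFunctor.comp (E F) (G F) ≅ BasedFunctor.id (inertia F) :=
  BasedNatIso.mkNatIso (ηiso F) (fun a => by
    refine (inertia_homLift_iff F _ _).2 ?_
    show 𝒳.p.IsHomLift (𝟙 (𝒳.p.obj a.pt)) (𝟙 a.pt)
    infer_instance)

def εcomp (X : (fp (diag F) (diag F)).obj) : Eobj F (Gobj F X) ≅ X :=
  ObjectProperty.isoMk _ (CategoricalPullback.mkIso (x := (Eobj F (Gobj F X)).obj) (y := X.obj) (Iso.refl X.obj.fst) ⟨cB F X, cBi F X, cB_cBi F X, cBi_cB F X⟩ (by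
    apply fpFF_hom_ext
    · show 𝟙 _ ≫ cA F X = (cA F X ≫ cBi F X) ≫ cB F X
      simp
    · show 𝟙 _ ≫ cB F X = 𝟙 _ ≫ cB F X
      rfl))

@[simp] theorem εcomp_hom_fst (X : (fp (diag F) (diag F)).obj) : (εcomp F X).hom.hom.fst = 𝟙 X.obj.fst := rfl
@[simp] theorem εcomp_hom_snd (X : (fp (diag F) (diag F)).obj) : (εcomp F X).hom.hom.snd = cB F X := rfl

def εiso : (G F).toFunctor ⋙ (E F).toFunctor ≅ 𝟭 _ :=
  NatIso.ofComponents (fun X => εcomp F X) (by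
    intro X Y m
    apply fpDD_hom_ext
    · show m.hom.fst ≫ 𝟙 _ = 𝟙 _ ≫ m.hom.fst
      simp
    · show m.hom.fst ≫ cB F Y = cB F X ≫ m.hom.snd
      exact m_w_snd F m)

def εb : BasedFunctor.comp (G F) (E F) ≅ BasedFunctor.id (fp (diag F) (diag F)) :=
  BasedNatIso.mkNatIso (εiso F) (fun X => by
    refine (fp_homLift_iff _ _ _ _).2 ?_
    show 𝒳.p.IsHomLift (𝟙 (𝒳.p.obj X.obj.fst)) (𝟙 X.obj.fst)
    infer_instance)

end

/-- For a functor `F : 𝒳 ⟶ 𝒴` of fibred categories over `C` preserving strongly cartesian morphisms, the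
relative inertia `I_{𝒳/𝒴}` (pairs `(x, α)` with `α` an automorphism of `x` sent to the identity by
`F`) is equivalent over `C` to `𝒳 ×_{Δ, 𝒳 ×_𝒴 𝒳, Δ} 𝒳`, by a functor over `C` whose composite with
either projection is the forgetful functor `(x, α) ↦ x`. (Only the two projections of the
equivalence are pinned here; its 2-cell component at `(x, α)` is `(α, 𝟙)`.) -/
theorem result {C : Type u} [Category.{v} C] {𝒳 𝒴 : BasedCategory.{v, max u v} C} [𝒳.p.IsFibered] [𝒴.p.IsFibered] (F : 𝒳 ⥤ᵇ 𝒴) (hF : FibCat.PreservesStronglyCartesian F) :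
    ∃ E : FibCat.inertia F ⥤ᵇ FibCat.fp (FibCat.diag F) (FibCat.diag F),
      FibCat.IsEquivOver E ∧ BasedFunctor.comp E (FibCat.fpFst _ _) = FibCat.inertiaToBase F ∧
        BasedFunctor.comp E (FibCat.fpSnd _ _) = FibCat.inertiaToBase F := by
  exact ⟨E F, ⟨G F, ⟨ηb F⟩, ⟨εb F⟩⟩, rfl, rfl⟩

end Groth.Agent.S6402
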