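import Groth.Statements.S1128
import Mathlib.RingTheory.Flat.FaithfullyFlat.Algebra

set_option autoImplicit false
open CategoryTheory CategoryTheory.Limits AlgebraicGeometry Opposite
universe u
open Desc

namespace Groth.Agent.S1128

open TensorProduct in
lemma flat_of_flat_of_faithfullyFlat (A B C : Type*) [CommRing A] [CommRing B] [CommRing C]
    [Algebra A B] [Algebra B C] [Algebra A C] [IsScalarTower A B C]
    [Module.Flat A C] [Module.FaithfullyFlat B C] : Module.Flat A B := by
  rw [Module.Flat.iff_lTensor_preserves_injective_linearMap]
  intro N N' _ _ _ _ l hl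
  have h1 : Function.Injective (l.baseChange B) → Function.Injective (l.lTensor B) := fun h => h
  apply h1
  rw [← Module.FaithfullyFlat.lTensor_injective_iff_injective B C]
  have h2 : Function.Injective (l.baseChange C) :=
    Module.Flat.lTensor_preserves_injective_linearMap (M := C) l hl
  have : (AlgebraTensorModule.cancelBaseChange A B C C N').toLinearMap.restrictScalars B ∘ₗ
      (l.baseChange B).lTensor C =
      (l.baseChange C).restrictScalars B ∘ₗ
        (AlgebraTensorModule.cancelBaseChange A B C C N).toLinearMap.restrictScalars B := by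
    ext c n
    simp
  have h3 : Function.Injective ((AlgebraTensorModule.cancelBaseChange A B C C N').toLinearMap.restrictScalars B ∘ₗ
      (l.baseChange B).lTensor C) := by
    rw [this]
    exact h2.comp (AlgebraTensorModule.cancelBaseChange A B C C N).injective
  rw [LinearMap.coe_comp] at h3
  exact Function.Injective.of_comp h3

lemma ringHom_flat_of_comp {A B C : Type*} [CommRing A] [CommRing B] [CommRing C]
    (φ : A →+* B) (ψ : B →+* C) (h1 : (ψ.comp φ).Flat) (h2 : ψ.FaithfullyFlat) : φ.Flat := by
  algebraize [φ, ψ, ψ.comp φ]
  exact flat_of_flat_of_faithfullyFlat A B C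

/-- If f is flat and surjective and the composite of f with g is flat, then g is flat; together with
stability of flatness under composition this says flatness is fpqc local on the source. -/
theorem result {X' X Y : Scheme.{u}} (f : X' ⟶ X) (g : X ⟶ Y) [Flat f]
    [Surjective f] [Flat (f ≫ g)] : Flat g := by
  rw [Flat.iff_flat_stalkMap]
  intro x
  obtain ⟨x', rfl⟩ := f.surjective x
  have hfg : ((f.stalkMap x').hom.comp (g.stalkMap (f x')).hom).Flat := by
    have h := Flat.stalkMap (f ≫ g) x'
    have e : (f ≫ g).stalkMap x' = g.stalkMap (f x') ≫ f.stalkMap x' :=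
      Scheme.Hom.stalkMap_comp f g x'
    rw [e] at h
    exact h
  refine ringHom_flat_of_comp _ _ hfg ?_
  have hf := Flat.stalkMap f x'
  algebraize [(f.stalkMap x').hom]
  exact @Module.FaithfullyFlat.of_flat_of_isLocalHom _ _ _ _ _ _ _
      (Flat.stalkMap f x') (f.toLRSHom.prop x')

end Groth.Agent.S1128
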