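import Groth.Statements.S5786
import Groth.Agent.S5805
import Mathlib.RingTheory.Flat.FaithfullyFlat.Algebra
import Mathlib.RingTheory.Flat.EquationalCriterion

set_option autoImplicit false
universe u
open CategoryTheory
open EGA41

namespace Groth.Agent.S5786

open CategoryTheory Abelian Function TensorProduct in
theorem descent (A B : Type u) [CommRing A] [CommRing B] [IsNoetherianRing A] [Algebra A B]
    [Module.FaithfullyFlat A B] (n : ℕ) :
    ∀ (M : Type u) [AddCommGroup M] [Module A M] [Module.Finite A M],
      HasProjectiveDimensionLT (ModuleCat.of B (B ⊗[A] M)) (n + 1) →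
      HasProjectiveDimensionLT (ModuleCat.of A M) (n + 1) := by
  induction n with
  | zero =>
    intro M _ _ _ h
    rw [zero_add, ← projective_iff_hasProjectiveDimensionLT_one, ← IsProjective.iff_projective] at h ⊢
    have : Module.Flat B (B ⊗[A] M) := inferInstance
    have : Module.Flat A M := Module.Flat.of_flat_tensorProduct A M B
    have : Module.FinitePresentation A M := Module.finitePresentation_of_finite A M
    exact Module.Flat.projective_of_finitePresentation
  | succ n ih =>
    intro M _ _ _ h
    obtain ⟨P, _, _, _, _, f, surjf⟩ := Module.exists_finite_presentation A M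
    have hS : f.shortComplexKer.ShortExact := LinearMap.shortExact_shortComplexKer surjf
    have hproj : Projective f.shortComplexKer.X₂ := by
      show Projective (ModuleCat.of A P)
      rw [← IsProjective.iff_projective]
      infer_instance
    rw [hS.hasProjectiveDimensionLT_X₃_iff n hproj]
    apply ih (LinearMap.ker f)
    -- base change of the sequence
    let fB : B ⊗[A] (LinearMap.ker f) →ₗ[B] B ⊗[A] P := (LinearMap.ker f).subtype.baseChange B
    let gB : B ⊗[A] P →ₗ[B] B ⊗[A] M := f.baseChange B
    have hex : Exact fB gB := lTensor_exact B (LinearMap.exact_subtype_ker_map f) surjf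
    have hinj : Injective fB :=
      Module.Flat.lTensor_preserves_injective_linearMap _ (Submodule.injective_subtype _)
    have hsurj : Surjective gB := LinearMap.lTensor_surjective B surjf
    let SB : ShortComplex (ModuleCat.{u} B) :=
      ModuleCat.shortComplexOfCompEqZero fB gB hex.linearMap_comp_eq_zero
    have hSB : SB.ShortExact := ModuleCat.shortComplex_shortExact SB hex hinj hsurj
    have hprojB : Projective SB.X₂ := by
      show Projective (ModuleCat.of B (B ⊗[A] P))
      rw [← IsProjective.iff_projective]
      infer_instance
    exact (hSB.hasProjectiveDimensionLT_X₃_iff n hprojB).mp h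

/-- Let φ : A → B be a local homomorphism of Noetherian local rings making B a flat A-module. Then the
global (cohomological) dimension of A is at most that of B: if every B-module has projective
dimension at most n, then so does every A-module. -/
theorem result (A B : Type u) [CommRing A] [CommRing B] [IsLocalRing A]
    [IsLocalRing B] [IsNoetherianRing A] [IsNoetherianRing B] [Algebra A B] [IsLocalHom (algebraMap A B)]
    [Module.Flat A B] (n : ℕ)
    (hB : ∀ (N : Type u) [AddCommGroup N] [Module B N], HasProjectiveDimensionLT (ModuleCat.of B N) (n + 1))
    (M : Type u) [AddCommGroup M] [Module A M] : HasProjectiveDimensionLT (ModuleCat.of A M) (n + 1) := by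
  have : Module.FaithfullyFlat A B := Module.FaithfullyFlat.of_flat_of_isLocalHom
  refine Groth.Agent.S5805.result A n ?_ M
  apply descent A B n (IsLocalRing.ResidueField A)
  exact hB _

end Groth.Agent.S5786
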