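import Groth.Statements.S0565
import Groth.Agent.Lib.Helper77.Serre
import Groth.Agent.Lib.Helper76.RegularLocalGlDim
import Groth.Agent.S5786

set_option autoImplicit false
universe u
open CAlg

namespace Groth.Agent.S0565

/-- Let `R → S` be a flat local homomorphism of Noetherian local rings. If `S` is regular then so is
`R`. -/
theorem result (R : Type u) [CommRing R]
    [IsLocalRing R] [IsNoetherianRing R] (S : Type u) [CommRing S] [IsRegularLocalRing S] [Algebra R S]
    [IsLocalHom (algebraMap R S)] [Module.Flat R S] : IsRegularLocalRing R := by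
  obtain ⟨d, hd⟩ : ∃ d : ℕ, ringKrullDim S = d := by
    have hd' : ringKrullDim S ≠ ⊥ := ringKrullDim_ne_bot
    have hd'' : ringKrullDim S ≠ ⊤ := ringKrullDim_ne_top
    cases h : ringKrullDim S with
    | bot => exact absurd h hd'
    | coe a =>
      cases a with
      | top => exact absurd h hd''
      | coe n => exact ⟨n, rfl⟩
  have hS : ∀ (N : Type u) [AddCommGroup N] [Module S N],
      CategoryTheory.HasProjectiveDimensionLT (ModuleCat.of S N) (d + 1) :=
    fun N _ _ => Groth.Agent.Lib.Helper76.hasProjectiveDimensionLT_of_isRegularLocalRing S d hd N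
  have hR := Groth.Agent.S5786.result R S d hS (R ⧸ IsLocalRing.maximalIdeal R)
  exact Groth.Agent.Lib.Helper77.Serre.isRegularLocalRing_of_residueField_hasProjectiveDimensionLT
    R (d + 1) hR

end Groth.Agent.S0565
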