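import Groth.Statements.S10567
import Mathlib
import Groth.Agent.Lib.Helper46.STLocal

set_option autoImplicit false
universe u
open CategoryTheory CategoryTheory.Limits AlgebraicGeometry
open AlgSp

namespace Groth.Agent.S10567

/-- A property P of morphisms of algebraic spaces over S that is smooth local on the source, smooth
local on the base, and stable under postcomposition with smooth morphisms (whenever g : Y ⟶ Z is
smooth and f : X ⟶ Y has P, the composite f ≫ g has P) is smooth local on source-and-target. -/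
theorem result {S : Scheme.{u}} (P : MorphismProperty (AlgSp.Sp S))
    (h1 : AlgSp.IsLocalOnSource (AlgSp.IsSmCover (S := S)) P)
    (h2 : AlgSp.IsLocalOnBase (AlgSp.IsSmCover (S := S)) P)
    (h3 : ∀ ⦃X Y Z : AlgSp.Space S⦄ (f : X ⟶ Y) (g : Y ⟶ Z), P f.hom → AlgSp.LocP @Smooth g.hom → P (f ≫ g).hom) :
    AlgSp.IsSmoothLocalST P := by
  have h3' : ∀ {X Y Z : AlgSp.Sp S}, AlgSp.IsAlgSpace X → AlgSp.IsAlgSpace Y → AlgSp.IsAlgSpace Z →
      ∀ (f : X ⟶ Y) (g : Y ⟶ Z), P f → AlgSp.LocP @Smooth g → P (f ≫ g) :=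
    fun {X Y Z} hX hY hZ f g hf hg =>
      h3 (X := ⟨X, hX⟩) (Y := ⟨Y, hY⟩) (Z := ⟨Z, hZ⟩) (ObjectProperty.homMk f)
        (ObjectProperty.homMk g) hf hg
  refine ⟨?_, ?_, ?_⟩
  · intro X Y Z hX hY hZ f g hf hg
    exact Groth.Agent.Lib.Helper46.STLocal.precomp_of_localOnSource h1 hX hY hZ f hf
      (Groth.Agent.Lib.Helper46.STLocal.sm_id Y) g hg
  · intro X Y X' Y' hX hY hX' hY' f g f' g' sq hg hf
    exact Groth.Agent.Lib.Helper46.STLocal.baseChange_of_localOnBase h2 hX hY hX' hY' sq hg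
      (Groth.Agent.Lib.Helper46.STLocal.sm_id Y) hf
  · intro X Y hX hY f
    constructor
    · intro hf x
      exact ⟨X, Y, 𝟙 X, 𝟙 Y, f, x, hX, hY, Groth.Agent.Lib.Helper46.STLocal.sm_id X,
        Groth.Agent.Lib.Helper46.STLocal.sm_id Y, by simp, AlgSp.Points.map_id x, hf⟩
    · intro H
      obtain ⟨T, a₀, ha₀e, ha₀s⟩ := hX.atlas
      choose U V a b h v hU hV ha hb comm hv hPh using
        fun t : ↥T.left => H (AlgSp.Points.ofPt a₀ t)
      refine (h1 U a hX hU ⟨ha, fun x => ?_⟩ f hY).mpr fun t => ?_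
      · obtain ⟨t, rfl⟩ := Groth.Agent.Lib.Helper37.AlgSpPoints.ofPt_surjective a₀ ha₀s x
        exact ⟨t, v t, hv t⟩
      · rw [comm t]
        exact h3' (hU t) (hV t) hY (h t) (b t) (hPh t) (hb t)

end Groth.Agent.S10567
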