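import Groth.Statements.S10565
import Mathlib
import Groth.Agent.Lib.Helper46.STLocal

set_option autoImplicit false
universe u
open CategoryTheory CategoryTheory.Limits AlgebraicGeometry
open AlgSp AlgSp.IsSmoothLocalST

namespace Groth.Agent.S10565

/-- A property P of morphisms of algebraic spaces over S that is smooth local on source-and-target is
(1) smooth local on the source, (2) smooth local on the base, and (3) stable under postcomposition
with smooth morphisms: whenever g : Y ⟶ Z is smooth and f : X ⟶ Y has P, the composite f ≫ g has P. -/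
theorem result {S : Scheme.{u}} {P : MorphismProperty (AlgSp.Sp S)}
    (hP : AlgSp.IsSmoothLocalST P) :
    AlgSp.IsLocalOnSource (AlgSp.IsSmCover (S := S)) P ∧
    AlgSp.IsLocalOnBase (AlgSp.IsSmCover (S := S)) P ∧
    (∀ ⦃X Y Z : AlgSp.Space S⦄ (f : X ⟶ Y) (g : Y ⟶ Z), P f.hom → AlgSp.LocP @Smooth g.hom → P (f ≫ g).hom) := by
  refine ⟨?_, ?_, ?_⟩
  · -- local on the source
    intro ι X Xi g hX hXi hcov Y f hY
    constructor
    · intro hf i
      exact hP.precomp (hXi i) hX hY (g i) f (hcov.1 i) hf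
    · intro H
      rw [hP.locality hX hY f]
      intro x
      obtain ⟨i, xi, hxi⟩ := hcov.2 x
      exact ⟨Xi i, Y, g i, 𝟙 Y, g i ≫ f, xi, hXi i, hY, hcov.1 i,
        Groth.Agent.Lib.Helper46.STLocal.sm_id Y, by simp, hxi, H i⟩
  · -- local on the base
    intro ι Y Yi g hY hYi hcov X f hX Xi p q hXi hsq
    constructor
    · intro hf i
      exact hP.baseChange hX hY (hXi i) (hYi i) f (g i) (p i) (q i) (hsq i) (hcov.1 i) hf
    · intro H
      rw [hP.locality hX hY f]
      intro x
      obtain ⟨i, yi, hyi⟩ := hcov.2 (AlgSp.Points.map f x)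
      obtain ⟨w, hw1, hw2⟩ :=
        Groth.Agent.Lib.Helper37.AlgSpPoints.points_exists_of_isPullback (hsq i) x yi hyi.symm
      have hq : AlgSp.LocP @Smooth (q i) :=
        Groth.Agent.Lib.Helper46.STLocal.sm_baseChange (hYi i) hY (hXi i) hX (hsq i).flip (hcov.1 i)
      exact ⟨Xi i, Yi i, q i, g i, p i, w, hXi i, hYi i, hq, hcov.1 i, (hsq i).w, hw1, H i⟩
  · intro X Y Z f g hf hg
    rw [hP.locality X.property Z.property]
    intro x
    exact ⟨X.obj, Y.obj, 𝟙 _, g.hom, f.hom, x, X.property, Y.property,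
      Groth.Agent.Lib.Helper46.STLocal.sm_id _, hg, by rw [Category.id_comp]; rfl,
      AlgSp.Points.map_id x, hf⟩

end Groth.Agent.S10565
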