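import Groth.Statements.S9961
-- import your own Groth.Agent.* helpers here
import Groth.Agent.Lib.Helper46.LocPChart
import Groth.Agent.Lib.Helper30.EtLocalInst

set_option autoImplicit false
universe u
open CategoryTheory CategoryTheory.Limits AlgebraicGeometry
open AlgSp

namespace Groth.Agent.S9961

open Groth.Agent.Lib.Helper46 Groth.Agent.Lib.Helper46.LocPChart
  Groth.Agent.Lib.Helper36.AlgSpCharts

/-- A morphism to an algebraic space which is representable with a property `P ≤ Q`, where `Q` is
étale local, has `Q` on all chart diagrams. -/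
theorem locP_of_repWith {S : Scheme.{u}} {P Q : MorphismProperty Scheme.{u}} (hQ : EtLocal Q)
    (hPQ : P ≤ Q) {X Y : AlgSp.Sp S} (hY : IsAlgSpace Y) (f : X ⟶ Y) (hf : RepWith P f) :
    LocP Q f := by
  obtain ⟨V, b, hbe, hbs⟩ := hY.atlas
  have sq := hf.rep.isPullback b
  have hh : P (hf.rep.snd b).left := hf.property_snd b
  have hae : RepWith @Etale (hf.rep.fst b) := (RepWith @Etale).of_isPullback sq.flip hbe
  have has : RepWith @Surjective (hf.rep.fst b) := (RepWith @Surjective).of_isPullback sq.flip hbs
  exact locP_of_chart hQ f (hf.rep.fst b) b (hf.rep.snd b) hae has hbe sq.w (hPQ _ hh)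

/-- Open immersions between algebraic spaces are locally finitely presented (etale locally on source and
target). -/
theorem result {S : Scheme.{u}} {X Y : AlgSp.Space S} (f : X ⟶ Y)
    (hf : AlgSp.RepWith @IsOpenImmersion f.hom) : AlgSp.LocP @LocallyOfFinitePresentation f.hom := by
  refine locP_of_repWith Groth.Agent.Lib.Helper30.EtLocalInst.etLocal_lfp ?_ Y.property f.hom hf
  intro A B g hg
  have : IsOpenImmersion g := hg
  exact (inferInstance : LocallyOfFinitePresentation g)

end Groth.Agent.S9961
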