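import Groth.Statements.S12817
import Mathlib.AlgebraicGeometry.PullbackCarrier
import Mathlib.AlgebraicGeometry.ResidueField

set_option autoImplicit false
universe u
open CategoryTheory AlgebraicGeometry
open AlgSt

namespace Groth.Agent.S12817

open CategoryTheory.Limits in
theorem field_aux {S : Scheme.{u}} (K₁ K₂ Kq : Type u) [Field K₁] [Field K₂] [Field Kq]
    (s₁ : Spec (CommRingCat.of K₁) ⟶ S) (s₂ : Spec (CommRingCat.of K₂) ⟶ S)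
    (sq : Spec (CommRingCat.of Kq) ⟶ S)
    (B₁ : Over.mk s₁ ⟶ Over.mk sq) (B₂ : Over.mk s₂ ⟶ Over.mk sq) :
    ∃ (M : Type u) (_ : Field M) (str : Spec (CommRingCat.of M) ⟶ S)
      (Φ₁ : Over.mk str ⟶ Over.mk s₁) (Φ₂ : Over.mk str ⟶ Over.mk s₂), Φ₁ ≫ B₁ = Φ₂ ≫ B₂ := by
  have hw₁ : B₁.left ≫ sq = s₁ := Over.w B₁
  have hw₂ : B₂.left ≫ sq = s₂ := Over.w B₂
  have x₁ : ↥(Spec (CommRingCat.of K₁)) := Nonempty.some inferInstance
  have x₂ : ↥(Spec (CommRingCat.of K₂)) := Nonempty.some inferInstance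
  have hsub : Subsingleton ↥(Spec (CommRingCat.of Kq)) := inferInstance
  obtain ⟨t, -, -⟩ := Scheme.Pullback.exists_preimage_pullback (f := B₁.left) (g := B₂.left) x₁ x₂
    (@Subsingleton.elim ↥(Spec (CommRingCat.of Kq)) hsub _ _)
  let Z := pullback B₁.left B₂.left
  let ι := Z.fromSpecResidueField t
  have hcond : (ι ≫ pullback.snd B₁.left B₂.left) ≫ s₂ = (ι ≫ pullback.fst B₁.left B₂.left) ≫ s₁ := by
    calc (ι ≫ pullback.snd B₁.left B₂.left) ≫ s₂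
        = (ι ≫ pullback.snd B₁.left B₂.left) ≫ B₂.left ≫ sq := by rw [hw₂]
      _ = (ι ≫ pullback.fst B₁.left B₂.left) ≫ B₁.left ≫ sq := by
          simp only [Category.assoc]
          rw [pullback.condition_assoc]
      _ = (ι ≫ pullback.fst B₁.left B₂.left) ≫ s₁ := by rw [hw₁]
  refine ⟨↥(Z.residueField t), inferInstance, (ι ≫ pullback.fst B₁.left B₂.left) ≫ s₁,
    Over.homMk (ι ≫ pullback.fst B₁.left B₂.left) rfl,
    Over.homMk (ι ≫ pullback.snd B₁.left B₂.left) hcond, ?_⟩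
  ext
  simp only [Over.comp_left, Over.homMk_left, Category.assoc]
  rw [pullback.condition]

theorem lift_aux {S : Scheme.{u}} (𝒳 : AlgSt.Cat S) (h𝒳 : FibCat.IsFibGrpd 𝒳.p)
    (xp xq xs xr xr' : 𝒳.obj) (a : xr ⟶ xp) (b : xr ⟶ xq) (a' : xr' ⟶ xq) (b' : xr' ⟶ xs)
    (O : Over S) (Φ₁ : O ⟶ 𝒳.p.obj xr) (Φ₂ : O ⟶ 𝒳.p.obj xr')
    (h : Φ₁ ≫ 𝒳.p.map b = Φ₂ ≫ 𝒳.p.map a') :
    ∃ (y : 𝒳.obj) (_ : 𝒳.p.obj y = O) (_ : y ⟶ xp) (_ : y ⟶ xs), True := by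
  obtain ⟨y, χ, hχ⟩ := h𝒳.exists_lift Φ₁
  have hy : 𝒳.p.obj y = O := IsHomLift.domain_eq 𝒳.p Φ₁ χ
  subst hy
  have hΦ₁ : Φ₁ = 𝒳.p.map χ := IsHomLift.eq_of_isHomLift 𝒳.p Φ₁ χ
  have hsc := h𝒳.isStronglyCartesian a'
  obtain ⟨d, -, -⟩ := (Functor.IsStronglyCartesian.universal_property 𝒳.p (𝒳.p.map a') a' Φ₂
    (𝒳.p.map (χ ≫ b)) (by rw [Functor.map_comp, ← hΦ₁, h]) (χ ≫ b)).exists
  exact ⟨y, rfl, χ ≫ a, d ≫ b', trivial⟩

/-- For a category fibred in groupoids over the category of schemes over `S`, the relation on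
field-valued points under which `Spec K ⟶ 𝒳` and `Spec L ⟶ 𝒳` are related when some `Spec M ⟶ 𝒳`
maps to both is an equivalence relation, so that the points of `𝒳` are its equivalence classes. (The
published statement is for an algebraic stack; this row takes any category fibred in groupoids over
the base.) -/
theorem result {S : Scheme.{u}} (𝒳 : AlgSt.Cat S) (h𝒳 : FibCat.IsFibGrpd 𝒳.p) :
    _root_.Equivalence (@AlgSt.FPt.Rel S 𝒳) := by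
  refine ⟨fun p => ⟨p, 𝟙 _, 𝟙 _, trivial⟩, fun ⟨r, a, b, _⟩ => ⟨r, b, a, trivial⟩, ?_⟩
  rintro p q s ⟨r, a, b, -⟩ ⟨r', a', b', -⟩
  have key : ∀ (O₁ O₂ Oq : Over S) (_ : O₁ = Over.mk r.str) (_ : O₂ = Over.mk r'.str)
      (_ : Oq = Over.mk q.str) (B₁ : O₁ ⟶ Oq) (B₂ : O₂ ⟶ Oq),
      ∃ (M : Type u) (_ : Field M) (str : Spec (CommRingCat.of M) ⟶ S)
        (Φ₁ : Over.mk str ⟶ O₁) (Φ₂ : Over.mk str ⟶ O₂), Φ₁ ≫ B₁ = Φ₂ ≫ B₂ := by
    intro O₁ O₂ Oq h₁ h₂ hq B₁ B₂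
    subst h₁ h₂ hq
    exact field_aux r.K r'.K q.K r.str r'.str q.str B₁ B₂
  obtain ⟨M, hM, str, Φ₁, Φ₂, hΦ⟩ := key _ _ _ r.lies r'.lies q.lies (𝒳.p.map b) (𝒳.p.map a')
  obtain ⟨y, hy, c, d, -⟩ := lift_aux 𝒳 h𝒳 p.obj q.obj s.obj r.obj r'.obj a b a' b' _ Φ₁ Φ₂ hΦ
  exact ⟨{ K := M, str := str, obj := y, lies := hy }, c, d, trivial⟩

end Groth.Agent.S12817
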