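import Groth.Statements.S12818
import Groth.Agent.S12817
import Groth.Agent.Lib.Helper17.FibProd
import Groth.Agent.Lib.Helper17.FibGrpd

set_option autoImplicit false
universe u
open CategoryTheory AlgebraicGeometry
open AlgSt

namespace Groth.Agent.S12818

open Groth.Agent.Lib.Helper17 Groth.Agent.Lib.Helper17.FG in
theorem core {S : Scheme.{u}} {𝒳 𝒴 𝒵 : AlgSt.Cat S} (h𝒳 : FibCat.IsFibGrpd 𝒳.p)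
    (h𝒴 : FibCat.IsFibGrpd 𝒴.p) (h𝒵 : FibCat.IsFibGrpd 𝒵.p) (f : 𝒳 ⥤ᵇ 𝒴) (g : 𝒵 ⥤ᵇ 𝒴)
    (R Z₀ X₀ : Over S) (a : R ⟶ Z₀) (b : R ⟶ X₀) (r : 𝒴.obj) (z₀ : 𝒵.obj) (x₀ : 𝒳.obj)
    (α : r ⟶ g.obj z₀) (β : r ⟶ f.obj x₀) (hα : 𝒴.p.IsHomLift a α) (hβ : 𝒴.p.IsHomLift b β) :
    ∃ w : (FibCat.fp g f).obj, (FibCat.fp g f).p.obj w = R ∧ Nonempty (w.obj.fst ⟶ z₀) ∧
      Nonempty (w.obj.snd ⟶ x₀) := by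
  have hZ : 𝒵.p.obj z₀ = Z₀ := (g.w_obj z₀).symm.trans (hl_cod hα)
  have hX : 𝒳.p.obj x₀ = X₀ := (f.w_obj x₀).symm.trans (hl_cod hβ)
  subst hZ hX
  obtain ⟨z', ζ, hζ⟩ := h𝒵.exists_lift a
  obtain ⟨x', ξ, hξ⟩ := h𝒳.exists_lift b
  have hR : 𝒵.p.obj z' = R := hl_dom hζ
  subst hR
  have hgζ : 𝒴.p.IsHomLift a (g.map ζ) := BasedFunctor.preserves_isHomLift g a ζ
  have hfξ : 𝒴.p.IsHomLift b (f.map ξ) := BasedFunctor.preserves_isHomLift f b ξ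
  obtain ⟨θ₁, hθ₁, -, hθ₁i⟩ := exists_factor h𝒴 a (g.map ζ) hgζ α hα
  obtain ⟨θ₂, hθ₂, -, hθ₂i⟩ := exists_factor h𝒴 b (f.map ξ) hfξ β hβ
  have hθ : 𝒴.p.IsHomLift (𝟙 (𝒵.p.obj z')) ((asIso θ₁).symm ≪≫ asIso θ₂).hom := by
    change 𝒴.p.IsHomLift (𝟙 _) (inv θ₁ ≫ θ₂)
    infer_instance
  exact ⟨FP.mkObj z' x' ((asIso θ₁).symm ≪≫ asIso θ₂) hθ, rfl, ⟨ζ⟩, ⟨ξ⟩⟩

/-- For morphisms `f : 𝒳 ⟶ 𝒴` and `g : 𝒵 ⟶ 𝒴` of algebraic stacks over `S`, the map `|𝒵 ×_𝒴 𝒳| → |𝒵|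
×_{|𝒴|} |𝒳|` is surjective: a point of `𝒵` and a point of `𝒳` with the same image in `|𝒴|` are the
two projections of some point of the 2-fibre product. -/
theorem result {S : Scheme.{u}} {𝒳 𝒴 𝒵 : AlgSt.Cat S}
    (h𝒳 : AlgSt.IsAlgStack Scheme.fppfPrecoverage 𝒳) (h𝒴 : AlgSt.IsAlgStack Scheme.fppfPrecoverage 𝒴)
    (h𝒵 : AlgSt.IsAlgStack Scheme.fppfPrecoverage 𝒵) (f : 𝒳 ⥤ᵇ 𝒴) (g : 𝒵 ⥤ᵇ 𝒴)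
    (z : AlgSt.Points 𝒵) (x : AlgSt.Points 𝒳) (h : AlgSt.Points.map g z = AlgSt.Points.map f x) :
    ∃ w : AlgSt.Points (FibCat.fp g f),
      AlgSt.Points.map (FibCat.fpFst g f) w = z ∧ AlgSt.Points.map (FibCat.fpSnd g f) w = x := by
  have h𝒳' := h𝒳.isStack.1
  have h𝒴' := h𝒴.isStack.1
  have h𝒵' := h𝒵.isStack.1
  obtain ⟨pz, rfl⟩ := AlgSt.Points.mk_surjective z
  obtain ⟨px, rfl⟩ := AlgSt.Points.mk_surjective x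
  have hrel : AlgSt.FPt.Rel (pz.map g) (px.map f) :=
    (Groth.Agent.S12817.result 𝒴 h𝒴').eqvGen_iff.mp (Quot.eq.mp h)
  obtain ⟨r, α, β, -⟩ := hrel
  obtain ⟨w, hw, ⟨ζ⟩, ⟨ξ⟩⟩ := core h𝒳' h𝒴' h𝒵' f g _ _ _ (𝒴.p.map α) (𝒴.p.map β) r.obj pz.obj
    px.obj α β (Functor.IsHomLift.map α) (Functor.IsHomLift.map β)
  refine ⟨AlgSt.Points.mk { K := r.K, str := r.str, obj := w, lies := hw.trans r.lies }, ?_, ?_⟩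
  · exact AlgSt.Points.sound ⟨_, 𝟙 _, ζ, trivial⟩
  · exact AlgSt.Points.sound ⟨_, 𝟙 _, ξ, trivial⟩

end Groth.Agent.S12818
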