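import Groth.Statements.S12784
import Groth.Agent.Lib.Helper17.FpInvariance

set_option autoImplicit false
open CategoryTheory CategoryTheory.Limits
universe v u
open FibCat

namespace Groth.Agent.S12784

open Groth.Agent.Lib.Helper17 Groth.Agent.Lib.Helper17.FI Groth.Agent.Lib.Helper17.EO

variable {C : Type u} [Category.{v} C] {𝒳 𝒴 𝒳' 𝒴' : BasedCategory.{v, max u v} C}

/-- components of a 2-isomorphism over `C` -/
def comp_app {𝒜 ℬ : BasedCategory.{v, max u v} C} {F G : 𝒜 ⥤ᵇ ℬ} (e : F ≅ G) (x : 𝒜.obj) :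
    F.obj x ≅ G.obj x :=
  ((BasedNatTrans.forgetful _ _).mapIso e).app x

theorem comp_app_nat {𝒜 ℬ : BasedCategory.{v, max u v} C} {F G : 𝒜 ⥤ᵇ ℬ} (e : F ≅ G)
    {x x₁ : 𝒜.obj} (β : x ⟶ x₁) :
    F.map β ≫ (comp_app e x₁).hom = (comp_app e x).hom ≫ G.map β :=
  ((BasedNatTrans.forgetful _ _).mapIso e).hom.naturality β

theorem comp_app_lift {𝒜 ℬ : BasedCategory.{v, max u v} C} {F G : 𝒜 ⥤ᵇ ℬ} (e : F ≅ G)
    (x : 𝒜.obj) : ℬ.p.IsHomLift (𝟙 (𝒜.p.obj x)) (comp_app e x).hom :=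
  BasedNatTrans.app_isHomLift e.hom x

theorem fwd (f : 𝒳 ⥤ᵇ 𝒴) (f' : 𝒳' ⥤ᵇ 𝒴') (a : 𝒳' ⥤ᵇ 𝒳) (b : 𝒴' ⥤ᵇ 𝒴)
    (ha : FibCat.IsEquivOver a) (hb : FibCat.IsEquivOver b)
    (e : BasedFunctor.comp f' b ≅ BasedFunctor.comp a f) (hf : FibCat.IsRepresentable1 f) :
    FibCat.IsRepresentable1 f' := by
  intro U y'
  exact rep_of_equiv' (sq a b f f' y' (comp_app e) (comp_app_nat e) (comp_app_lift e))
    (sq_isEquivOver a b f f' y' (comp_app e) (comp_app_nat e) (comp_app_lift e) ha hb)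
    (hf U (BasedFunctor.comp y' b))

theorem bwd (f : 𝒳 ⥤ᵇ 𝒴) (f' : 𝒳' ⥤ᵇ 𝒴') (a : 𝒳' ⥤ᵇ 𝒳) (b : 𝒴' ⥤ᵇ 𝒴)
    (ha : FibCat.IsEquivOver a) (hb : FibCat.IsEquivOver b)
    (e : BasedFunctor.comp f' b ≅ BasedFunctor.comp a f) (hf' : FibCat.IsRepresentable1 f') :
    FibCat.IsRepresentable1 f := by
  intro U y
  obtain ⟨b', ⟨e₁⟩, ⟨e₂⟩⟩ := id hb
  have h1 : FibCat.IsRepresentable (FibCat.fp (BasedFunctor.comp (BasedFunctor.comp y b') b) f) :=
    rep_of_equiv (sq a b f f' (BasedFunctor.comp y b') (comp_app e) (comp_app_nat e)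
        (comp_app_lift e))
      (sq_isEquivOver a b f f' (BasedFunctor.comp y b') (comp_app e) (comp_app_nat e)
        (comp_app_lift e) ha hb)
      (hf' U (BasedFunctor.comp y b'))
  have hl : ∀ w : (FibCat.overCat U).obj, 𝒴.p.IsHomLift (𝟙 ((FibCat.overCat U).p.obj w))
      (comp_app e₂ (y.obj w)).hom := by
    intro w
    have := comp_app_lift e₂ (y.obj w)
    rw [y.w_obj] at this
    exact this
  exact rep_of_equiv'
    (tw y (BasedFunctor.comp (BasedFunctor.comp y b') b) f (fun w => comp_app e₂ (y.obj w))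
      (fun α => comp_app_nat e₂ (y.map α)) hl)
    (tw_isEquivOver y (BasedFunctor.comp (BasedFunctor.comp y b') b) f
      (fun w => comp_app e₂ (y.obj w)) (fun α => comp_app_nat e₂ (y.map α)) hl) h1

/-- Consider a 2-commutative square of functors over `C` with vertical arrows `f' : 𝒳' ⟶ 𝒴'`, `f : 𝒳 ⟶
𝒴` and horizontal arrows equivalences over `C`. Then `f` is a representable 1-morphism if and only
if `f'` is. (The published statement is for categories fibred in groupoids over schemes over a base;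
this row is stated for categories over any base category.) -/
theorem result {C : Type u} [Category.{v} C] {𝒳 𝒴 𝒳' 𝒴' : BasedCategory.{v, max u v} C}
    (f : 𝒳 ⥤ᵇ 𝒴) (f' : 𝒳' ⥤ᵇ 𝒴') (a : 𝒳' ⥤ᵇ 𝒳) (b : 𝒴' ⥤ᵇ 𝒴)
    (ha : FibCat.IsEquivOver a) (hb : FibCat.IsEquivOver b) (e : BasedFunctor.comp f' b ≅ BasedFunctor.comp a f) :
    FibCat.IsRepresentable1 f ↔ FibCat.IsRepresentable1 f' := by
  exact ⟨fwd f f' a b ha hb e, bwd f f' a b ha hb e⟩

end Groth.Agent.S12784
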