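import Groth.Statements.S10267
import Groth.Agent.Lib.Helper5.LocalRep

set_option autoImplicit false
universe u
open CategoryTheory CategoryTheory.Limits AlgebraicGeometry
open AlgSp

namespace Groth.Agent.S10267

/-- (1) ⇔ (2): a morphism of algebraic spaces is integral (resp. finite), tested on affine schemes over
the target, if and only if it is representable with integral (resp. finite) base changes to all
schemes. -/
theorem result {S : Scheme.{u}} {X Y : AlgSp.Space S} (f : X ⟶ Y) :
    (AlgSp.IsIntegralMor f.hom ↔ AlgSp.RepWith @IsIntegralHom f.hom) ∧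
    (AlgSp.IsFiniteMor f.hom ↔ AlgSp.RepWith @IsFinite f.hom) := by
  refine ⟨⟨fun hf => ?_, fun hf => ?_⟩, ⟨fun hf => ?_, fun hf => ?_⟩⟩
  · refine Groth.Agent.Lib.Helper5.LocalRep.repWith_of_affine_test @IsIntegralHom f.hom ?_
    intro Z hZ g
    obtain ⟨W, i, fst, sq, -, hi⟩ := hf hZ g
    exact ⟨W, i, fst, sq, hi⟩
  · intro Z hZ g
    obtain ⟨V, snd, fst, sq⟩ := hf.rep g
    have hP : IsIntegralHom snd.left := hf.property g fst snd sq
    refine ⟨V, snd, fst, sq, ?_, hP⟩
    haveI := hZ
    exact isAffine_of_isAffineHom snd.left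
  · refine Groth.Agent.Lib.Helper5.LocalRep.repWith_of_affine_test @IsFinite f.hom ?_
    intro Z hZ g
    obtain ⟨W, i, fst, sq, -, hi⟩ := hf hZ g
    exact ⟨W, i, fst, sq, hi⟩
  · intro Z hZ g
    obtain ⟨V, snd, fst, sq⟩ := hf.rep g
    have hP : IsFinite snd.left := hf.property g fst snd sq
    refine ⟨V, snd, fst, sq, ?_, hP⟩
    haveI := hZ
    exact isAffine_of_isAffineHom snd.left

end Groth.Agent.S10267
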