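import Groth.Statements.S10271
import Groth.Agent.Lib.Helper5.LocalRep
import Groth.Agent.Lib.Helper23.AlgSpProper
import Groth.Agent.Lib.Helper23.AlgSpDiag3
import Groth.Agent.Lib.Helper46.LocPChart
import Groth.Agent.Lib.Helper30.EtLocalInst
import Groth.Agent.S9961

set_option autoImplicit false
universe u
open CategoryTheory CategoryTheory.Limits AlgebraicGeometry
open AlgSp

namespace Groth.Agent.S10271

/-- A morphism of algebraic spaces is finite if and only if it is affine and proper. -/
theorem result {S : Scheme.{u}} {X Y : AlgSp.Space S} (f : X ⟶ Y) :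
    AlgSp.IsFiniteMor f.hom ↔ (AlgSp.IsAffineMor f.hom ∧ AlgSp.IsProperMor f.hom) := by
  constructor
  · intro hf
    have hrep : RepWith @IsFinite f.hom := by
      refine Groth.Agent.Lib.Helper5.LocalRep.repWith_of_affine_test @IsFinite f.hom ?_
      intro Z hZ g
      obtain ⟨W, i, fst, sq, -, hi⟩ := hf hZ g
      exact ⟨W, i, fst, sq, hi⟩
    refine ⟨?_, ?_, ⟨?_, ?_⟩, ?_⟩
    · intro Z hZ g
      obtain ⟨W, i, fst, sq, hW, -⟩ := hf hZ g
      exact ⟨W, i, fst, sq, hW⟩
    · -- separated
      refine Groth.Agent.Lib.Helper23.AlgSpMor.repWith_diagonal_of_repWith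
        (Q := @IsClosedImmersion) (Q' := @IsFinite) ?_ f.hom hrep
      intro A B g hg
      haveI : IsFinite g := hg
      infer_instance
    · -- locally of finite type
      refine Groth.Agent.S9961.locP_of_repWith
        Groth.Agent.Lib.Helper30.EtLocalInst.etLocal_lft ?_ Y.property f.hom hrep
      intro A B g hg
      haveI : IsFinite g := hg
      exact (inferInstance : LocallyOfFiniteType g)
    · -- quasi-compact
      refine Groth.Agent.Lib.Helper23.AlgSpMor.isQuasiCompactMor_of_repWith f.hom ?_
      refine MorphismProperty.relative_monotone (fun _ _ g hg => ?_) _ hrep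
      haveI : IsFinite g.left := hg
      exact (inferInstance : QuasiCompact g.left)
    · -- universally closed
      refine Groth.Agent.Lib.Helper23.AlgSpMor.isUnivClosedMor_of_repWith f.hom ?_
      refine MorphismProperty.relative_monotone (fun _ _ g hg => ?_) _ hrep
      haveI : IsFinite g.left := hg
      exact (inferInstance : UniversallyClosed g.left)
  · rintro ⟨haff, hsep, ⟨hlft, hqc⟩, huc⟩
    have hrepA : RepWith @IsAffineHom f.hom := by
      refine Groth.Agent.Lib.Helper5.LocalRep.repWith_of_affine_test @IsAffineHom f.hom ?_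
      intro Z hZ g
      obtain ⟨W, i, fst, sq, hW⟩ := haff hZ g
      refine ⟨W, i, fst, sq, ?_⟩
      haveI := hZ
      haveI := hW
      infer_instance
    have hrep : Representable f.hom := hrepA.rep
    have hUC : RepWith @UniversallyClosed f.hom :=
      Groth.Agent.Lib.Helper23.AlgSpMor.repWith_universallyClosed_of_isUnivClosedMor f.hom hrep huc
    intro Z hZ g
    obtain ⟨W, i, fst, sq, hW⟩ := haff hZ g
    refine ⟨W, i, fst, sq, hW, ?_⟩
    haveI := hZ
    haveI := hW
    haveI : IsAffineHom i.left := inferInstance
    haveI : UniversallyClosed i.left := hUC.property g fst i sq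
    haveI : LocallyOfFiniteType i.left :=
      Groth.Agent.Lib.Helper46.LocPChart.locP_fibre
        Groth.Agent.Lib.Helper30.EtLocalInst.etLocal_lft X.property Y.property f.hom hlft g
        fst ((yon S).map i) sq (𝟙 _) (by
          have : (RepWith (S := S) @Etale).ContainsIdentities := inferInstance
          exact (RepWith (S := S) @Etale).id_mem _) i (by rw [Category.id_comp])
    haveI : IsProper i.left := { }
    exact IsFinite.iff_isProper_and_isAffineHom.mpr ⟨inferInstance, inferInstance⟩

end Groth.Agent.S10271
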