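import Groth.Statements.S12946
import Mathlib.RingTheory.Unramified.LocalStructure

set_option autoImplicit false
universe u
open CategoryTheory AlgebraicGeometry
open AlgSt

namespace Groth.Agent.S12946

/-- An unramified morphism of schemes is locally quasi-finite. -/
theorem locallyQuasiFinite_of_unramified {X Y : Scheme.{u}} (g : X ⟶ Y)
    (h1 : LocallyOfFiniteType g) (h2 : FormallyUnramified g) : LocallyQuasiFinite g := by
  have h1' := (HasRingHomProperty.iff_appLE (P := @LocallyOfFiniteType)).mp h1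
  have h2' := (HasRingHomProperty.iff_appLE (P := @FormallyUnramified)).mp h2
  refine (HasRingHomProperty.iff_appLE (P := @LocallyQuasiFinite)).mpr fun U V e => ?_
  have a1 := h1' U V e
  have a2 := h2' U V e
  algebraize [(g.appLE U V e).hom]
  change Algebra.QuasiFinite _ _
  infer_instance

/-- A DM morphism of algebraic stacks is quasi-DM (an unramified morphism of algebraic spaces being
locally quasi-finite). -/
theorem result
    (S : Scheme.{u}) (𝒳 : AlgSt.Cat S) (𝒴 : AlgSt.Cat S)
    (h𝒳 : AlgSt.IsAlgStack Scheme.fppfPrecoverage 𝒳)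
    (h𝒴 : AlgSt.IsAlgStack Scheme.fppfPrecoverage 𝒴)
    (f : 𝒳 ⥤ᵇ 𝒴) :
    AlgSt.IsDMMor f → AlgSt.IsQuasiDMMor f := by
  intro h U y
  obtain ⟨F, e, he, hP⟩ := h U y
  refine ⟨F, e, he, ?_⟩
  intro U' V' a b g ha hb hcomm
  obtain ⟨h1, h2⟩ := hP a b g ha hb hcomm
  exact ⟨locallyQuasiFinite_of_unramified _ h1 h2, h1⟩

end Groth.Agent.S12946
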