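import Groth.Statements.S18406
import Groth.Agent.Lib.Helper32.CubicLines

set_option autoImplicit false
universe u
open Cubic

namespace Groth.Agent.S18406

open MvPolynomial Groth.Agent.Lib.Helper32.Cubic

abbrev V := Fin 3 → ℂ

def IsFlex (f : MvPolynomial (Fin 3) ℂ) (v : V) : Prop :=
  v ≠ 0 ∧ eval v f = 0 ∧
    ∃ w : V, LinearIndependent ℂ ![v, w] ∧ ∀ t : ℂ, eval (v + t • w) f = t ^ 3 * eval w f

theorem flex_coeffs {f : MvPolynomial (Fin 3) ℂ} (hf : f.IsHomogeneous 3) (v w : V)
    (hFv : eval v f = 0) (h : ∀ t : ℂ, eval (v + t • w) f = t ^ 3 * eval w f) :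
    Lp f v w = 0 ∧ Lp f w v = 0 := by
  have h2 : ∀ s : ℂ, 0 + Qp f w v * s + Lp f w v * s ^ 2 + 0 * s ^ 3 = 0 := by
    intro s
    have := h s
    rw [taylor hf, hFv] at this
    linear_combination this
  obtain ⟨-, h1, h3, -⟩ := cubic_coeffs h2
  rw [Qp_eq_grad] at h1
  exact ⟨h1, h3⟩

theorem finrank_ker_eq_two (L : V →ₗ[ℂ] ℂ) (hL : ∃ w, L w ≠ 0) :
    Module.finrank ℂ ↥(LinearMap.ker L) = 2 := by
  obtain ⟨w, hw⟩ := hL
  have h1 := finrank_ker_of_apply_eq_one ((1 / L w) • w) ((1 : ℂ) • L) (by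
    rw [LinearMap.smul_apply, map_smul, smul_eq_mul, smul_eq_mul]
    field_simp)
  rw [Fintype.card_fin] at h1
  have : LinearMap.ker ((1 : ℂ) • L) = LinearMap.ker L := by rw [one_smul]
  rw [this] at h1
  exact Nat.add_right_cancel (h1 : _ + 1 = 2 + 1)

theorem mem_span_pair_of_ker (L : V →ₗ[ℂ] ℂ) (hL : ∃ w, L w ≠ 0) (v w : V)
    (hli : LinearIndependent ℂ ![v, w]) (hv : L v = 0) (hw : L w = 0) (x : V) (hx : L x = 0) :
    ∃ a b : ℂ, a • v + b • w = x := by
  have hle : Submodule.span ℂ {v, w} ≤ LinearMap.ker L := by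
    rw [Submodule.span_le]
    rintro y (rfl | rfl)
    · exact hv
    · exact hw
  have hfr : Module.finrank ℂ ↥(Submodule.span ℂ {v, w}) = 2 := by
    have h := finrank_span_eq_card hli
    rw [Fintype.card_fin] at h
    have hr : Set.range ![v, w] = {v, w} := by
      ext y
      simp only [Set.mem_range, Set.mem_insert_iff, Set.mem_singleton_iff]
      constructor
      · rintro ⟨i, rfl⟩
        fin_cases i <;> simp
      · rintro (rfl | rfl)
        · exact ⟨0, rfl⟩
        · exact ⟨1, rfl⟩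
    rw [hr] at h
    exact h
  have heq : Submodule.span ℂ {v, w} = LinearMap.ker L :=
    Submodule.eq_of_le_of_finrank_eq hle (by rw [hfr, finrank_ker_eq_two L hL])
  have hx' : x ∈ Submodule.span ℂ {v, w} := by
    rw [heq]
    exact hx
  exact Submodule.mem_span_pair.mp hx'

theorem flex_phi {f : MvPolynomial (Fin 3) ℂ} (hf : f.IsHomogeneous 3)
    (hsm : ∀ v : V, v ≠ 0 → eval v f = 0 → ∃ i : Fin 3, eval v (pderiv i f) ≠ 0)
    (v : V) (hv : IsFlex f v) :
    ∃ φ : V →ₗ[ℂ] ℂ, φ v = 1 ∧ ∀ x, Qp f v x = 2 * φ x * Lp f v x := by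
  obtain ⟨hv0, hFv, w, hli, hw⟩ := hv
  have hL := Lp_ne_zero hf hsm v hv0 hFv
  obtain ⟨h1, h2⟩ := flex_coeffs hf v w hFv hw
  have hvv : Lp f v v = 0 := by rw [Lp_self hf, hFv, mul_zero]
  have hQK : ∀ x, Lp f v x = 0 → Qp f v x = 0 := by
    intro x hx
    obtain ⟨a, b, rfl⟩ := mem_span_pair_of_ker (Lp f v) hL v w hli hvv h1 x hx
    rw [Qp_add, Qp_smul, Qp_smul, Qp_self hf, hFv, Qp_eq_grad f v w, h2, map_smul, map_smul,
      LinearMap.smul_apply, PhiF_self_left, h1]
    simp
  obtain ⟨M, hM⟩ := exists_M f v hQK hL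
  have hMe := M_apply_self hf v hFv hL M hM
  refine ⟨(1 / 2 : ℂ) • M, ?_, ?_⟩
  · rw [LinearMap.smul_apply, hMe, smul_eq_mul]
    norm_num
  · intro x
    rw [hM x, LinearMap.smul_apply, smul_eq_mul]
    ring

theorem IsFlex.map {f : MvPolynomial (Fin 3) ℂ} {v : V} (hv : IsFlex f v)
    (g : V →ₗ[ℂ] V) (hg : Function.Involutive g)
    (hFg : ∀ x, eval (g x) f = eval x f) : IsFlex f (g v) := by
  obtain ⟨hv0, hFv, w, hli, hw⟩ := hv
  refine ⟨?_, ?_, g w, ?_, ?_⟩
  · intro h
    apply hv0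
    have := congrArg g h
    rwa [hg v, map_zero] at this
  · rw [hFg, hFv]
  · rw [LinearIndependent.pair_iff] at hli ⊢
    intro s t hst
    apply hli s t
    apply hg.injective
    rw [map_add, map_smul, map_smul, hst, map_zero]
  · intro t
    rw [← map_smul, ← map_add, hFg, hFg, hw]

theorem finrank_span_pair (v w : V) (hind : ∀ s t : ℂ, s • v + t • w = 0 → s = 0 ∧ t = 0) :
    Module.finrank ℂ ↥(Submodule.span ℂ {v, w}) = 2 := by
  have hli : LinearIndependent ℂ ![v, w] := LinearIndependent.pair_iff.mpr hind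
  have h := finrank_span_eq_card hli
  rw [Fintype.card_fin] at h
  have hr : Set.range ![v, w] = {v, w} := by
    ext y
    simp only [Set.mem_range, Set.mem_insert_iff, Set.mem_singleton_iff]
    constructor
    · rintro ⟨i, rfl⟩
      fin_cases i <;> simp
    · rintro (rfl | rfl)
      · exact ⟨0, rfl⟩
      · exact ⟨1, rfl⟩
  rw [hr] at h
  exact h

theorem no_line {f : MvPolynomial (Fin 3) ℂ} (hf : f.IsHomogeneous 3)
    (hsm : ∀ v : V, v ≠ 0 → eval v f = 0 → ∃ i : Fin 3, eval v (pderiv i f) ≠ 0)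
    (v v' : V) (hind : ∀ s t : ℂ, s • v + t • v' = 0 → s = 0 ∧ t = 0)
    (hFv : eval v f = 0) (hFv' : eval v' f = 0)
    (ha : Lp f v v' = 0) (hb : Lp f v' v = 0) : False := by
  set W := Submodule.span ℂ {v, v'} with hW
  have hW2 : Module.finrank ℂ ↥W = 2 := finrank_span_pair v v' hind
  have hzero : ∀ u ∈ W, eval u f = 0 := by
    intro u hu
    obtain ⟨s, t, rfl⟩ := Submodule.mem_span_pair.mp hu
    rw [eval_pair hf v v' hFv hFv', ha, hb]
    ring
  have hLW : ∀ y ∈ W, ∀ z ∈ W, Lp f y z = 0 := by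
    intro y hy z hz
    have h2 : ∀ s : ℂ, 0 + Qp f z y * s + Lp f z y * s ^ 2 + 0 * s ^ 3 = 0 := by
      intro s
      have h3 := hzero (y + s • z) (W.add_mem hy (W.smul_mem s hz))
      rw [taylor hf, hzero y hy, hzero z hz] at h3
      linear_combination h3
    obtain ⟨-, h1, -, -⟩ := cubic_coeffs h2
    rw [Qp_eq_grad] at h1
    exact h1
  have hWtop : W ≠ ⊤ := by
    intro h
    have h3 : Module.finrank ℂ ↥W = 3 := by
      rw [h, finrank_top, Module.finrank_fintype_fun_eq_card, Fintype.card_fin]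
    omega
  obtain ⟨u, -, hu⟩ := SetLike.exists_of_lt (lt_top_iff_ne_top.mpr hWtop)
  obtain ⟨y₀, hy₀W, hy₀0, hQ⟩ := exists_ne_zero_Qp_eq_zero f u W (by rw [hW2]; norm_num)
  have hL := Lp_ne_zero hf hsm y₀ hy₀0 (hzero y₀ hy₀W)
  have hK2 := finrank_ker_eq_two (Lp f y₀) hL
  have hle : W ≤ LinearMap.ker (Lp f y₀) := fun z hz => hLW y₀ hy₀W z hz
  have heq : W = LinearMap.ker (Lp f y₀) :=
    Submodule.eq_of_le_of_finrank_eq hle (by rw [hW2, hK2])
  apply hu
  rw [heq, LinearMap.mem_ker, ← Qp_eq_grad]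
  exact hQ

theorem main (f : MvPolynomial (Fin 3) ℂ) (hf : f.IsHomogeneous 3)
    (hsm : ∀ v : V, v ≠ 0 → eval v f = 0 → ∃ i : Fin 3, eval v (pderiv i f) ≠ 0)
    (v v' : V) (hv : IsFlex f v) (hv' : IsFlex f v') :
    ∃ (A : Matrix (Fin 3) (Fin 3) ℂ) (c d : ℂ), IsUnit A.det ∧
      aeval (fun i : Fin 3 => ∑ j : Fin 3, C (A i j) * X j) f = C c * f ∧
        A.mulVec v = d • v' := by
  by_cases hmem : v' ∈ Submodule.span ℂ {v}
  · obtain ⟨c, hc⟩ := Submodule.mem_span_singleton.mp hmem
    have hc0 : c ≠ 0 := by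
      rintro rfl
      rw [zero_smul] at hc
      exact hv'.1 hc.symm
    refine ⟨1, 1, c⁻¹, by simp, ?_, ?_⟩
    · rw [aeval_matrix_eq_iff]
      intro x
      rw [Matrix.one_mulVec, one_mul]
    · rw [Matrix.one_mulVec, ← hc, smul_smul, inv_mul_cancel₀ hc0, one_smul]
  · have hv0 := hv.1
    have hFv := hv.2.1
    have hFv' := hv'.2.1
    have hind := linearIndependent_pair_of_not_mem hv0 hmem
    obtain ⟨φ, hφv, hQφ⟩ := flex_phi hf hsm v hv
    have hpair := eval_pair hf v v' hFv hFv'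
    have hba : Lp f v' v = 2 * φ v' * Lp f v v' := by
      have := hQφ v'
      rwa [Qp_eq_grad] at this
    have ha0 : Lp f v v' ≠ 0 := by
      intro ha0
      have hb0 : Lp f v' v = 0 := by rw [hba, ha0, mul_zero]
      exact no_line hf hsm v v' hind hFv hFv' ha0 hb0
    have hφv' : φ v' ≠ 0 := by
      intro h
      obtain ⟨φ', _, hQφ'⟩ := flex_phi hf hsm v' hv'
      have hb0 : Lp f v' v = 0 := by rw [hba, h]; ring
      apply ha0
      have := hQφ' v
      rw [Qp_eq_grad, hb0, mul_zero] at this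
      exact this
    set r : V := refl v φ v' with hr
    have hr_eq : r = v' - (2 * φ v') • v := refl_apply v φ v'
    have hrflex : IsFlex f r :=
      hv'.map _ (refl_involutive v φ hφv) (eval_refl_apply hf v hFv φ hQφ)
    obtain ⟨ψ, hψr, hQψ⟩ := flex_phi hf hsm r hrflex
    have hFr := hrflex.2.1
    have hLvr : Lp f v r = Lp f v v' := by
      rw [hr_eq, map_sub, map_smul, Lp_self hf, hFv]
      simp
    have hψv : ψ v ≠ 0 := by
      intro h
      apply ha0
      have := hQψ v
      rw [Qp_eq_grad, h, hLvr] at this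
      rw [this]
      ring
    have hgv : refl r ψ v = v - (2 * ψ v) • r := refl_apply r ψ v
    have hgv' : refl r ψ v = (1 - 2 * ψ v * (-(2 * φ v'))) • v + (-(2 * ψ v)) • v' := by
      rw [hgv, hr_eq]
      ext i
      simp only [Pi.sub_apply, Pi.smul_apply, Pi.add_apply, smul_eq_mul]
      ring
    have hFg : eval (refl r ψ v) f = 0 := by
      rw [eval_refl_apply hf r hFr ψ hQψ, hFv]
    rw [hgv', hpair, hba] at hFg
    have hfact : (1 - 2 * ψ v * (-(2 * φ v'))) * (-(2 * ψ v)) *
        ((1 - 2 * ψ v * (-(2 * φ v'))) + 2 * (-(2 * ψ v)) * φ v') * Lp f v v' = 0 := by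
      linear_combination hFg
    have hs0 : 1 - 2 * ψ v * (-(2 * φ v')) = 0 := by
      rcases mul_eq_zero.mp hfact with h1 | h1
      · rcases mul_eq_zero.mp h1 with h2 | h2
        · rcases mul_eq_zero.mp h2 with h3 | h3
          · exact h3
          · exfalso
            apply hψv
            linear_combination (-1 / 2) * h3
        · exfalso
          have : (1 : ℂ) = 0 := by linear_combination h2
          exact one_ne_zero this
      · exact absurd h1 ha0
    refine ⟨reflMat r ψ, 1, -(2 * ψ v), ?_, ?_, ?_⟩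
    · have h := congrArg Matrix.det (reflMat_mul_self r ψ hψr)
      rw [Matrix.det_mul, Matrix.det_one] at h
      exact IsUnit.of_mul_eq_one _ h
    · rw [aeval_matrix_eq_iff]
      intro x
      rw [reflMat_mulVec, eval_refl_eq hf r hFr ψ hQψ, one_mul]
    · rw [reflMat_mulVec, ← hgv, hgv', hs0, zero_smul, zero_add]


open MvPolynomial in
/-- Let f be a nonzero homogeneous cubic in three variables over ℂ whose plane curve is smooth (at every
nonzero zero of f some partial derivative is nonzero), and let v and v′ be flexes of the curve, that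
is nonzero zeros of f through each of which some line meets the curve with multiplicity three (there
is a vector w linearly independent from the point with f(point + t·w) = t³·f(w) for every t). Then a
projective automorphism of the curve carries the point of v to the point of v′: there are an
invertible matrix A whose substitution X_i ↦ Σ_j A_ij X_j multiplies f by a constant c, and a
constant d with A·v = d·v′. (The published statement gives more: a subgroup of the projective
automorphism group isomorphic to C₃ × C₃ acts simply transitively on the nine flexes; only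
transitivity is stated here.) -/
theorem result (f : MvPolynomial (Fin 3) ℂ) (hf : f.IsHomogeneous 3)
    (hf0 : f ≠ 0) (hsm : ∀ v : Fin 3 → ℂ, v ≠ 0 → eval v f = 0 → ∃ i : Fin 3, eval v (pderiv i f) ≠ 0)
    (v v' : Fin 3 → ℂ) (hv : v ≠ 0) (hv' : v' ≠ 0) (hfv : eval v f = 0) (hfv' : eval v' f = 0)
    (hflex : (∃ w : Fin 3 → ℂ, LinearIndependent ℂ ![v, w] ∧ ∀ t : ℂ, eval (v + t • w) f = t ^ 3 * eval w f))
    (hflex' : (∃ w : Fin 3 → ℂ, LinearIndependent ℂ ![v', w] ∧ ∀ t : ℂ, eval (v' + t • w) f = t ^ 3 * eval w f)) :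
    ∃ (A : Matrix (Fin 3) (Fin 3) ℂ) (c d : ℂ), IsUnit A.det ∧
      aeval (fun i : Fin 3 => ∑ j : Fin 3, C (A i j) * X j) f = C c * f ∧ A.mulVec v = d • v' := by
  exact main f hf hsm v v' ⟨hv, hfv, hflex⟩ ⟨hv', hfv', hflex'⟩

end Groth.Agent.S18406
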