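import Groth.Statements.S14952
import Groth.Agent.Lib.Helper63.Milnor
import Mathlib.RingTheory.Flat.Tensor

set_option autoImplicit false
universe u
open TensorProduct
open EtAlg

namespace Groth.Agent.S14952

open Groth.Agent.Lib.Helper63.Milnor

theorem factS (R S : Type u) [CommRing R] [CommRing S] [Algebra R S]
    (L : Type u) [AddCommGroup L] [Module R L] [Module.Flat S (S ⊗[R] L)]
    {N1 N2 : Type u} [AddCommGroup N1] [Module R N1] [Module S N1] [IsScalarTower R S N1]
    [AddCommGroup N2] [Module R N2] [Module S N2] [IsScalarTower R S N2]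
    (f : N1 →ₗ[S] N2) (hf : Function.Injective f) :
    Function.Injective ((f.restrictScalars R).rTensor L) := by
  have h := Module.Flat.rTensor_preserves_injective_linearMap (M := S ⊗[R] L) f hf
  let e1 := TensorProduct.AlgebraTensorModule.cancelBaseChange R S S N1 L
  let e2 := TensorProduct.AlgebraTensorModule.cancelBaseChange R S S N2 L
  have key : ∀ x, e2 (f.rTensor (S ⊗[R] L) x) = (f.restrictScalars R).rTensor L (e1 x) := by
    intro x
    induction x using TensorProduct.induction_on with
    | zero => simp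
    | tmul n y =>
      induction y using TensorProduct.induction_on with
      | zero => simp
      | tmul s l => simp [e1, e2]
      | add y1 y2 h1 h2 => simp only [TensorProduct.tmul_add, map_add, h1, h2]
    | add x y hx hy => simp only [map_add, hx, hy]
  intro a b hab
  have : f.rTensor (S ⊗[R] L) (e1.symm a) = f.rTensor (S ⊗[R] L) (e1.symm b) := by
    apply e2.injective
    rw [key, key, LinearEquiv.apply_symm_apply, LinearEquiv.apply_symm_apply, hab]
  exact e1.symm.injective (h this)

theorem factS_inj (R S : Type u) [CommRing R] [CommRing S] [Algebra R S]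
    (hs : Function.Surjective (algebraMap R S))
    (L : Type u) [AddCommGroup L] [Module R L] [Module.Flat S (S ⊗[R] L)]
    {N1 N2 : Type u} [AddCommGroup N1] [Module R N1]
    [AddCommGroup N2] [Module R N2] [Module S N2] [IsScalarTower R S N2]
    (f : N1 →ₗ[R] N2) (hf : Function.Injective f) :
    Function.Injective (f.rTensor L) := by
  let M : Submodule S N2 :=
    { carrier := Set.range f
      add_mem' := by
        rintro _ _ ⟨a, rfl⟩ ⟨b, rfl⟩
        exact ⟨a + b, map_add f a b⟩
      zero_mem' := ⟨0, map_zero f⟩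
      smul_mem' := by
        rintro c _ ⟨a, rfl⟩
        obtain ⟨r, rfl⟩ := hs c
        exact ⟨r • a, by rw [map_smul, algebraMap_smul]⟩ }
  let f' : N1 →ₗ[R] M :=
    { toFun := fun n => ⟨f n, n, rfl⟩
      map_add' := fun a b => Subtype.ext (map_add f a b)
      map_smul' := fun c a => Subtype.ext (map_smul f c a) }
  have hf'bij : Function.Bijective f' := by
    constructor
    · intro a b hab
      exact hf (congrArg Subtype.val hab)
    · rintro ⟨_, a, rfl⟩
      exact ⟨a, rfl⟩
  let e := LinearEquiv.ofBijective f' hf'bij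
  have hcomp : f = (M.subtype.restrictScalars R) ∘ₗ e.toLinearMap := by
    ext n
    rfl
  rw [hcomp, LinearMap.rTensor_comp]
  exact (factS R S L M.subtype Subtype.val_injective).comp (e.rTensor L).injective

/-- Let B' = B ×_A A' be a fibre product of commutative rings with A' → A surjective and L' a B'-module.
If B ⊗_{B'} L' is a flat B-module and A' ⊗_{B'} L' is a flat A'-module, then L' is a flat B'-module.
(The converse holds by base change.) -/
theorem result (B' B A' A : Type u) [CommRing B'] [CommRing B] [CommRing A'] [CommRing A]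
    [Algebra B' B] [Algebra B' A'] [Algebra B A] [Algebra A' A] [Algebra B' A] [IsScalarTower B' B A] [IsScalarTower B' A' A]
    (hsq : EtMil.IsFibreSquare B' B A' A)
    (L' : Type u) [AddCommGroup L'] [Module B' L']
    [Module.Flat B (B ⊗[B'] L')] [Module.Flat A' (A' ⊗[B'] L')] : Module.Flat B' L' := by
  have hsurj : Function.Surjective (algebraMap B' B) := surjective_left hsq
  rw [Module.Flat.iff_rTensor_injective']
  intro 𝔞
  rw [injective_iff_map_eq_zero]
  intro x hx
  let u : 𝔞 →ₗ[B'] B := (Algebra.linearMap B' B) ∘ₗ 𝔞.subtype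
  let K1 : Submodule B' 𝔞 := LinearMap.ker u
  let φ1 : (𝔞 ⧸ K1) →ₗ[B'] B := K1.liftQ u le_rfl
  have hφ1 : Function.Injective φ1 := by
    rw [← LinearMap.ker_eq_bot]
    exact Submodule.ker_liftQ_eq_bot _ _ _ le_rfl
  have h1 : (K1.mkQ.rTensor L') x = 0 := by
    apply factS_inj B' B hsurj L' φ1 hφ1
    rw [map_zero, ← LinearMap.comp_apply, ← LinearMap.rTensor_comp, Submodule.liftQ_mkQ]
    change ((Algebra.linearMap B' B) ∘ₗ 𝔞.subtype).rTensor L' x = 0
    rw [LinearMap.rTensor_comp, LinearMap.comp_apply, hx, map_zero]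
  rw [← LinearMap.mem_ker, rTensor_mkQ] at h1
  obtain ⟨y, rfl⟩ := h1
  let κ : K1 →ₗ[B'] A' := (Algebra.linearMap B' A') ∘ₗ 𝔞.subtype ∘ₗ K1.subtype
  let P : Submodule A' A' := Submodule.span A' (Set.range κ)
  let κ' : K1 →ₗ[B'] P :=
    { toFun := fun k => ⟨κ k, Submodule.subset_span ⟨k, rfl⟩⟩
      map_add' := fun a b => Subtype.ext (map_add κ a b)
      map_smul' := fun c a => Subtype.ext (map_smul κ c a) }
  have h2 : (κ'.rTensor L') y = 0 := by
    apply factS B' A' L' P.subtype Subtype.val_injective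
    rw [map_zero, ← LinearMap.comp_apply, ← LinearMap.rTensor_comp]
    have hcomp : (P.subtype.restrictScalars B') ∘ₗ κ' =
        (Algebra.linearMap B' A') ∘ₗ 𝔞.subtype ∘ₗ K1.subtype := by
      ext k
      rfl
    rw [hcomp, LinearMap.rTensor_comp, LinearMap.rTensor_comp, LinearMap.comp_apply,
      LinearMap.comp_apply, hx, map_zero]
  let h : K1 →ₗ[B'] B ⊗[B'] P := (TensorProduct.mk B' B P 1) ∘ₗ κ'
  let K0 : Submodule B' K1 := LinearMap.ker h
  let φ3 : (K1 ⧸ K0) →ₗ[B'] B ⊗[B'] P := K0.liftQ h le_rfl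
  have hφ3 : Function.Injective φ3 := by
    rw [← LinearMap.ker_eq_bot]
    exact Submodule.ker_liftQ_eq_bot _ _ _ le_rfl
  have h3 : (K0.mkQ.rTensor L') y = 0 := by
    apply factS_inj B' B hsurj L' φ3 hφ3
    rw [map_zero, ← LinearMap.comp_apply, ← LinearMap.rTensor_comp, Submodule.liftQ_mkQ]
    change ((TensorProduct.mk B' B P 1) ∘ₗ κ').rTensor L' y = 0
    rw [LinearMap.rTensor_comp, LinearMap.comp_apply, h2, map_zero]
  rw [← LinearMap.mem_ker, rTensor_mkQ] at h3
  obtain ⟨z, rfl⟩ := h3
  let I' : Ideal A' := RingHom.ker (algebraMap A' A)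
  let JP : Submodule A' P := I' • ⊤
  have hS : ∀ p ∈ P, ∀ i ∈ I', ∃ k : K1, κ k = i * p := by
    intro p hp
    induction hp using Submodule.span_induction with
    | mem p hp =>
      obtain ⟨k0, rfl⟩ := hp
      intro i hi
      obtain ⟨j, hj1, rfl⟩ := exists_of_mem_ker hsq i hi
      refine ⟨j • k0, ?_⟩
      rw [map_smul, Algebra.smul_def]
    | zero =>
      intro i hi
      exact ⟨0, by rw [map_zero, mul_zero]⟩
    | add p q _ _ hp hq =>
      intro i hi
      obtain ⟨k1, hk1⟩ := hp i hi
      obtain ⟨k2, hk2⟩ := hq i hi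
      exact ⟨k1 + k2, by rw [map_add, hk1, hk2, mul_add]⟩
    | smul a p _ hp =>
      intro i hi
      obtain ⟨k, hk⟩ := hp (i * a) (I'.mul_mem_right a hi)
      exact ⟨k, by rw [hk, smul_eq_mul, mul_assoc]⟩
  have hS' : ∀ q ∈ JP, ∃ k : K1, κ' k = q := by
    intro q hq
    refine Submodule.smul_induction_on hq ?_ ?_
    · intro i hi p _
      obtain ⟨k, hk⟩ := hS p.1 p.2 i hi
      exact ⟨k, Subtype.ext hk⟩
    · rintro _ _ ⟨k1, rfl⟩ ⟨k2, rfl⟩
      exact ⟨k1 + k2, map_add _ _ _⟩
  have hJP0 : ∀ q ∈ JP, ((1 : B) ⊗ₜ[B'] q : B ⊗[B'] P) = 0 := by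
    intro q hq
    refine Submodule.smul_induction_on hq ?_ ?_
    · intro i hi p _
      obtain ⟨j, hj1, rfl⟩ := exists_of_mem_ker hsq i hi
      have : (algebraMap B' A' j • p : P) = j • p := algebraMap_smul A' j p
      rw [this, ← TensorProduct.smul_tmul, Algebra.smul_def, mul_one, hj1,
        TensorProduct.zero_tmul]
    · intro a b ha hb
      rw [TensorProduct.tmul_add, ha, hb, add_zero]
  have hK0 : ∀ k : K0, κ' k.1 ∈ JP := by
    intro k
    have hk : ((1 : B) ⊗ₜ[B'] (κ' k.1) : B ⊗[B'] P) = 0 := k.2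
    have hmem := mem_smul_top_of_tmul_eq_zero hsurj P (κ' k.1) hk
    refine Submodule.smul_induction_on hmem ?_ ?_
    · intro j hj p _
      have : (j • p : P) = algebraMap B' A' j • p := (algebraMap_smul A' j p).symm
      rw [this]
      exact Submodule.smul_mem_smul (snd_mem_ker hj) Submodule.mem_top
    · intro a b ha hb
      exact JP.add_mem ha hb
  let lam : K0 →ₗ[B'] JP :=
    { toFun := fun k => ⟨κ' k.1, hK0 k⟩
      map_add' := fun a b => Subtype.ext (map_add κ' a.1 b.1)
      map_smul' := fun c a => Subtype.ext (map_smul κ' c a.1) }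
  have hκ'inj : Function.Injective κ' := by
    intro a b hab
    have hab' : κ a = κ b := congrArg Subtype.val hab
    apply Subtype.ext
    apply Subtype.ext
    apply ext' hsq
    · have ha : algebraMap B' B a.1.1 = 0 := a.2
      have hb : algebraMap B' B b.1.1 = 0 := b.2
      rw [ha, hb]
    · exact hab'
  have hlam : Function.Bijective lam := by
    constructor
    · intro a b hab
      apply Subtype.ext
      apply hκ'inj
      exact congrArg Subtype.val hab
    · intro q
      obtain ⟨k, hk⟩ := hS' q.1 q.2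
      have hk0 : k ∈ K0 := by
        change ((1 : B) ⊗ₜ[B'] (κ' k) : B ⊗[B'] P) = 0
        rw [hk]
        exact hJP0 q.1 q.2
      exact ⟨⟨k, hk0⟩, Subtype.ext hk⟩
  let e := LinearEquiv.ofBijective lam hlam
  have h4 : (lam.rTensor L') z = 0 := by
    apply factS B' A' L' JP.subtype Subtype.val_injective
    rw [map_zero, ← LinearMap.comp_apply, ← LinearMap.rTensor_comp]
    have hcomp : (JP.subtype.restrictScalars B') ∘ₗ lam = κ' ∘ₗ K0.subtype := by
      ext k
      rfl
    rw [hcomp, LinearMap.rTensor_comp, LinearMap.comp_apply, h2]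
  have hz : z = 0 := (e.rTensor L').injective (by rw [map_zero]; exact h4)
  rw [hz, map_zero, map_zero]

end Groth.Agent.S14952
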