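import Groth.Statements.S14953
import Groth.Agent.S14949
import Mathlib.RingTheory.Finiteness.Defs
import Mathlib.RingTheory.Finiteness.Basic

set_option autoImplicit false
universe u
open TensorProduct
open EtAlg

namespace Groth.Agent.S14953

theorem aux (R S : Type u) [CommRing R] [CommRing S] [Algebra R S] (M : Type u)
    [AddCommGroup M] [Module R M] [Module.Finite S (S ⊗[R] M)] :
    ∃ T : Finset M, ∀ N : Submodule R M, (T : Set M) ⊆ N → Subsingleton (S ⊗[R] (M ⧸ N)) := by
  classical
  have htop : Submodule.span S (TensorProduct.mk R S M 1 '' Set.univ) = ⊤ := by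
    rw [← Submodule.baseChange_span, Submodule.span_univ, Submodule.baseChange_top]
  have hfg : (Submodule.span S (TensorProduct.mk R S M 1 '' Set.univ)).FG := by
    rw [htop]
    exact Module.Finite.fg_top
  obtain ⟨T', hT', hspan⟩ := (Submodule.fg_span_iff_fg_span_finset_subset _).1 hfg
  obtain ⟨T, -, rfl⟩ := Finset.subset_set_image_iff.1 hT'
  refine ⟨T, fun N hN => ?_⟩
  have hsurj : Function.Surjective (N.mkQ.baseChange S) :=
    LinearMap.lTensor_surjective S N.mkQ_surjective
  have hker : LinearMap.ker (N.mkQ.baseChange S) = ⊤ := by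
    rw [eq_top_iff, ← htop, hspan, Submodule.span_le]
    intro x hx
    rw [Finset.coe_image] at hx
    obtain ⟨t, ht, rfl⟩ := hx
    rw [SetLike.mem_coe, LinearMap.mem_ker, TensorProduct.mk_apply, LinearMap.baseChange_tmul,
      Submodule.mkQ_apply, (Submodule.Quotient.mk_eq_zero N).2 (hN ht), TensorProduct.tmul_zero]
  refine ⟨fun x y => ?_⟩
  obtain ⟨x', rfl⟩ := hsurj x
  obtain ⟨y', rfl⟩ := hsurj y
  have hx : x' ∈ LinearMap.ker (N.mkQ.baseChange S) := hker ▸ Submodule.mem_top
  have hy : y' ∈ LinearMap.ker (N.mkQ.baseChange S) := hker ▸ Submodule.mem_top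
  rw [LinearMap.mem_ker.1 hx, LinearMap.mem_ker.1 hy]

/-- Let B' = B ×_A A' be a fibre product of commutative rings with A' → A surjective and L' a B'-module.
If B ⊗_{B'} L' is a finitely generated B-module and A' ⊗_{B'} L' is a finitely generated A'-module,
then L' is a finitely generated B'-module. (The published statement is about flat modules of finite
type; the finiteness conclusion does not use flatness, which descends separately.) -/
theorem result (B' B A' A : Type u) [CommRing B'] [CommRing B] [CommRing A'] [CommRing A]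
    [Algebra B' B] [Algebra B' A'] [Algebra B A] [Algebra A' A] [Algebra B' A] [IsScalarTower B' B A] [IsScalarTower B' A' A]
    (hsq : EtMil.IsFibreSquare B' B A' A)
    (L' : Type u) [AddCommGroup L'] [Module B' L']
    [Module.Finite B (B ⊗[B'] L')] [Module.Finite A' (A' ⊗[B'] L')] : Module.Finite B' L' := by
  classical
  obtain ⟨T1, hT1⟩ := aux B' B L'
  obtain ⟨T2, hT2⟩ := aux B' A' L'
  set N : Submodule B' L' := Submodule.span B' ((T1 ∪ T2 : Finset L') : Set L') with hN
  have h1 : Subsingleton (B ⊗[B'] (L' ⧸ N)) :=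
    hT1 N (fun x hx => Submodule.subset_span (by
      rw [Finset.coe_union]; exact Or.inl hx))
  have h2 : Subsingleton (A' ⊗[B'] (L' ⧸ N)) :=
    hT2 N (fun x hx => Submodule.subset_span (by
      rw [Finset.coe_union]; exact Or.inr hx))
  have hQ : Subsingleton (L' ⧸ N) := Groth.Agent.S14949.result B' B A' A hsq (L' ⧸ N)
  have htop : N = ⊤ := Submodule.Quotient.subsingleton_iff.1 hQ
  exact ⟨⟨T1 ∪ T2, htop⟩⟩

end Groth.Agent.S14953
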