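import Groth.Statements.S14954
import Groth.Agent.S14952
import Groth.Agent.S14953
import Mathlib.Algebra.Module.FinitePresentation
import Mathlib.RingTheory.Flat.Equalizer

set_option autoImplicit false
universe u
open TensorProduct
open EtAlg

namespace Groth.Agent.S14954

theorem finite_baseChange_ker (R S : Type u) [CommRing R] [CommRing S] [Algebra R S]
    (L : Type u) [AddCommGroup L] [Module R L] [Module.Flat R L]
    [Module.FinitePresentation S (S ⊗[R] L)] (n : ℕ) (f : (Fin n → R) →ₗ[R] L)
    (hf : Function.Surjective f) : Module.Finite S (S ⊗[R] (LinearMap.ker f)) := by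
  set K := LinearMap.ker f with hK
  have hinj : Function.Injective (K.subtype.baseChange S) :=
    LinearMap.lTensor_injective_of_exact_of_flat f hf K.subtype Subtype.val_injective
      f.exact_subtype_ker_map S
  have hex : Function.Exact (K.subtype.baseChange S) (f.baseChange S) :=
    lTensor_exact S f.exact_subtype_ker_map hf
  have hsurj : Function.Surjective (f.baseChange S) := LinearMap.lTensor_surjective S hf
  have hfg : (LinearMap.ker (f.baseChange S)).FG :=
    Module.FinitePresentation.fg_ker (f.baseChange S) hsurj
  rw [LinearMap.exact_iff.1 hex] at hfg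
  have : Module.Finite S (LinearMap.range (K.subtype.baseChange S)) :=
    Module.Finite.iff_fg.2 hfg
  exact Module.Finite.equiv (LinearEquiv.ofInjective (K.subtype.baseChange S) hinj).symm

/-- Let B' = B ×_A A' be a fibre product of commutative rings with A' → A surjective and L' a B'-module.
If B ⊗_{B'} L' is flat and finitely presented over B and A' ⊗_{B'} L' is flat and finitely presented
over A', then L' is finitely presented over B'. (Together with descent of flatness, L' is then flat
of finite presentation, i.e. finite locally free.) -/
theorem result (B' B A' A : Type u) [CommRing B'] [CommRing B] [CommRing A'] [CommRing A]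
    [Algebra B' B] [Algebra B' A'] [Algebra B A] [Algebra A' A] [Algebra B' A] [IsScalarTower B' B A] [IsScalarTower B' A' A]
    (hsq : EtMil.IsFibreSquare B' B A' A)
    (L' : Type u) [AddCommGroup L'] [Module B' L']
    [Module.Flat B (B ⊗[B'] L')] [Module.FinitePresentation B (B ⊗[B'] L')]
    [Module.Flat A' (A' ⊗[B'] L')] [Module.FinitePresentation A' (A' ⊗[B'] L')] :
    Module.FinitePresentation B' L' := by
  have hflat : Module.Flat B' L' := Groth.Agent.S14952.result B' B A' A hsq L'
  have hfin : Module.Finite B' L' := Groth.Agent.S14953.result B' B A' A hsq L'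
  obtain ⟨n, f, hf⟩ := Module.Finite.exists_fin' B' L'
  have h1 : Module.Finite B (B ⊗[B'] (LinearMap.ker f)) := finite_baseChange_ker B' B L' n f hf
  have h2 : Module.Finite A' (A' ⊗[B'] (LinearMap.ker f)) :=
    finite_baseChange_ker B' A' L' n f hf
  have hK : Module.Finite B' (LinearMap.ker f) :=
    Groth.Agent.S14953.result B' B A' A hsq (LinearMap.ker f)
  exact Module.finitePresentation_of_free_of_surjective f hf (Module.Finite.iff_fg.1 hK)

end Groth.Agent.S14954
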