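import Groth.Statements.S2073
import Mathlib.Tactic
import Mathlib.RingTheory.Localization.Integral
import Mathlib.RingTheory.NoetherNormalization
import Mathlib.RingTheory.FiniteStability
import Mathlib.RingTheory.Localization.BaseChange
import Mathlib.RingTheory.MvPolynomial.Localization
import Mathlib.RingTheory.AlgebraicIndependent.Basic

set_option autoImplicit false
universe u
open CAlg

namespace Groth.Agent.S2073

open Polynomial TensorProduct

set_option linter.style.haveILetI false

theorem integral_descend {A B Aₘ Bₘ : Type*} [CommRing A] [CommRing B] [CommRing Aₘ] [CommRing Bₘ]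
    [Algebra A Aₘ] [Algebra B Bₘ] (α : A →+* B) (g : Aₘ →+* Bₘ)
    (hcomm : g.comp (algebraMap A Aₘ) = (algebraMap B Bₘ).comp α)
    (M : Submonoid A) [IsLocalization M Aₘ] [hB : IsLocalization (M.map α) Bₘ]
    (x : B) (hx : g.IsIntegralElem (algebraMap B Bₘ x)) :
    ∃ m ∈ M, α.IsIntegralElem (α m * x) := by
  letI := α.toAlgebra
  letI := g.toAlgebra
  letI : Algebra A Bₘ := (g.comp (algebraMap A Aₘ)).toAlgebra
  haveI : IsScalarTower A Aₘ Bₘ := .of_algebraMap_eq fun _ => rfl
  haveI : IsScalarTower A B Bₘ := .of_algebraMap_eq fun a => RingHom.congr_fun hcomm a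
  haveI : IsLocalization (Algebra.algebraMapSubmonoid B M) Bₘ := hB
  obtain ⟨m, hm⟩ := IsIntegral.exists_multiple_integral_of_isLocalization M
    (algebraMap B Bₘ x) (show IsIntegral Aₘ (algebraMap B Bₘ x) from hx)
  have h1 : m • (algebraMap B Bₘ x) = algebraMap B Bₘ ((m : A) • x) := by
    rw [Submonoid.smul_def, Algebra.smul_def, Algebra.smul_def, map_mul,
      IsScalarTower.algebraMap_apply A B Bₘ]
  rw [h1] at hm
  obtain ⟨m', hm'M, hm'⟩ := IsLocalization.exists_isIntegral_smul_of_isIntegral_map M hm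
  refine ⟨m' * m, M.mul_mem hm'M m.2, ?_⟩
  have h2 : α (m' * m) * x = m' • ((m : A) • x) := by
    rw [Algebra.smul_def, Algebra.smul_def, map_mul, mul_assoc]
    rfl
  rw [h2]
  exact hm'

section
variable {K : Type*} [Field K] {d : ℕ}

noncomputable def scaleHom (c : Fin d → K) : MvPolynomial (Fin d) K →ₐ[K] MvPolynomial (Fin d) K :=
  MvPolynomial.aeval (fun i => MvPolynomial.C (c i) * MvPolynomial.X i)

theorem scaleHom_comp (c c' : Fin d → K) (h : ∀ i, c i * c' i = 1) :
    (scaleHom c).comp (scaleHom c') = AlgHom.id K _ := by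
  apply MvPolynomial.algHom_ext
  intro i
  simp only [scaleHom, AlgHom.comp_apply, MvPolynomial.aeval_X, map_mul, MvPolynomial.aeval_C,
    AlgHom.id_apply]
  rw [MvPolynomial.algebraMap_eq, ← mul_assoc, ← map_mul, mul_comm (c' i), h, map_one, one_mul]

end

theorem nn_field {R S : Type*} [CommRing R] [IsDomain R] [CommRing S] [Algebra R S]
    [Algebra.FiniteType R S] (hinj : Function.Injective (algebraMap R S)) :
    ∃ (d : ℕ) (y : Fin d → S) (g : MvPolynomial (Fin d) (FractionRing R) →ₐ[FractionRing R]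
      (FractionRing R ⊗[R] S)), Function.Injective g ∧ g.IsIntegral ∧
      ∀ i, g (MvPolynomial.X i) = (1 : FractionRing R) ⊗ₜ[R] (y i) := by
  classical
  letI : Algebra S (FractionRing R ⊗[R] S) := Algebra.TensorProduct.rightAlgebra
  haveI hloc : IsLocalization (Algebra.algebraMapSubmonoid S (nonZeroDivisors R))
      (FractionRing R ⊗[R] S) := IsLocalization.tensorRight _ (nonZeroDivisors R)
  haveI : Nontrivial (FractionRing R ⊗[R] S) := by
    rw [← not_subsingleton_iff_nontrivial, hloc.subsingleton_iff]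
    rintro ⟨r, hr, hr0⟩
    rw [← map_zero (algebraMap R S)] at hr0
    exact nonZeroDivisors.ne_zero hr (hinj hr0)
  obtain ⟨d, g, hginj, hgint⟩ := exists_integral_inj_algHom_of_fg (FractionRing R)
    (FractionRing R ⊗[R] S)
  have hden : ∀ i, ∃ (c : R) (s : S), c ∈ nonZeroDivisors R ∧
      algebraMap (FractionRing R) (FractionRing R ⊗[R] S) (algebraMap R (FractionRing R) c) *
        g (MvPolynomial.X i) = (1 : FractionRing R) ⊗ₜ[R] s := by
    intro i
    obtain ⟨⟨s, ⟨m, hm⟩⟩, hs⟩ := IsLocalization.surj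
      (Algebra.algebraMapSubmonoid S (nonZeroDivisors R)) (g (MvPolynomial.X i))
    obtain ⟨c, hc, rfl⟩ := hm
    refine ⟨c, s, hc, ?_⟩
    have e1 : algebraMap (FractionRing R) (FractionRing R ⊗[R] S) (algebraMap R (FractionRing R) c)
        = algebraMap S (FractionRing R ⊗[R] S) (algebraMap R S c) := by
      rw [← IsScalarTower.algebraMap_apply, ← IsScalarTower.algebraMap_apply]
    rw [e1, mul_comm]
    exact hs
  choose c y hc hy using hden
  let cK : Fin d → FractionRing R := fun i => algebraMap R (FractionRing R) (c i)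
  have hcK : ∀ i, cK i ≠ 0 := fun i =>
    IsFractionRing.to_map_ne_zero_of_mem_nonZeroDivisors (hc i)
  have h1 : (scaleHom cK).comp (scaleHom fun i => (cK i)⁻¹) = AlgHom.id _ _ :=
    scaleHom_comp _ _ fun i => mul_inv_cancel₀ (hcK i)
  have h2 : (scaleHom fun i => (cK i)⁻¹).comp (scaleHom cK) = AlgHom.id _ _ :=
    scaleHom_comp _ _ fun i => inv_mul_cancel₀ (hcK i)
  have k1 : ∀ a, scaleHom cK (scaleHom (fun i => (cK i)⁻¹) a) = a := fun a => AlgHom.congr_fun h1 a
  have k2 : ∀ a, scaleHom (fun i => (cK i)⁻¹) (scaleHom cK a) = a := fun a => AlgHom.congr_fun h2 a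
  refine ⟨d, y, g.comp (scaleHom cK), ?_, ?_, ?_⟩
  · exact hginj.comp (Function.LeftInverse.injective k2)
  · intro z
    obtain ⟨p, hp, hpz⟩ := hgint z
    refine ⟨p.map (scaleHom fun i => (cK i)⁻¹).toRingHom, hp.map _, ?_⟩
    rw [Polynomial.eval₂_map]
    have h3 : (g.comp (scaleHom cK)).toRingHom.comp (scaleHom fun i => (cK i)⁻¹).toRingHom
        = g.toRingHom := RingHom.ext fun a => by
      show g (scaleHom cK (scaleHom (fun i => (cK i)⁻¹) a)) = g a
      rw [k1]
    rw [h3]
    exact hpz
  · intro i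
    rw [← hy i]
    simp only [AlgHom.comp_apply, scaleHom, MvPolynomial.aeval_X, map_mul, cK]
    congr 1
    rw [← MvPolynomial.algebraMap_eq, AlgHom.commutes]

attribute [local instance] MvPolynomial.algebraMvPolynomial in
theorem nn_integral {R S : Type*} [CommRing R] [IsDomain R] [CommRing S] [Algebra R S]
    {d : ℕ} (y : Fin d → S)
    (g : MvPolynomial (Fin d) (FractionRing R) →ₐ[FractionRing R] (FractionRing R ⊗[R] S))
    (hgint : g.IsIntegral)
    (hgy : ∀ i, g (MvPolynomial.X i) = (1 : FractionRing R) ⊗ₜ[R] (y i)) (x : S) :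
    ∃ e ∈ nonZeroDivisors R, IsIntegral (Algebra.adjoin R (Set.range y)) (e • x) := by
  letI : Algebra S (FractionRing R ⊗[R] S) := Algebra.TensorProduct.rightAlgebra
  haveI hloc : IsLocalization (Algebra.algebraMapSubmonoid S (nonZeroDivisors R))
      (FractionRing R ⊗[R] S) := IsLocalization.tensorRight _ (nonZeroDivisors R)
  have hcomm : g.toRingHom.comp
      (algebraMap (MvPolynomial (Fin d) R) (MvPolynomial (Fin d) (FractionRing R)))
      = (algebraMap S (FractionRing R ⊗[R] S)).comp (MvPolynomial.aeval y).toRingHom := by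
    apply MvPolynomial.ringHom_ext
    · intro r
      show g (MvPolynomial.map (algebraMap R (FractionRing R)) (MvPolynomial.C r)) =
        algebraMap S (FractionRing R ⊗[R] S) (MvPolynomial.aeval y (MvPolynomial.C r))
      rw [MvPolynomial.map_C, MvPolynomial.aeval_C, ← MvPolynomial.algebraMap_eq, AlgHom.commutes,
        ← IsScalarTower.algebraMap_apply, ← IsScalarTower.algebraMap_apply]
    · intro i
      show g (MvPolynomial.map (algebraMap R (FractionRing R)) (MvPolynomial.X i)) =
        algebraMap S (FractionRing R ⊗[R] S) (MvPolynomial.aeval y (MvPolynomial.X i))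
      rw [MvPolynomial.map_X, MvPolynomial.aeval_X, hgy]
      rfl
  have hM : ((nonZeroDivisors R).map (MvPolynomial.C (σ := Fin d))).map
      (MvPolynomial.aeval y : MvPolynomial (Fin d) R →ₐ[R] S).toRingHom
      = Algebra.algebraMapSubmonoid S (nonZeroDivisors R) := by
    ext z
    simp only [Submonoid.mem_map, Algebra.algebraMapSubmonoid, exists_exists_and_eq_and]
    constructor
    · rintro ⟨r, hr, rfl⟩
      exact ⟨r, hr, (MvPolynomial.aeval_C _ _).symm⟩
    · rintro ⟨r, hr, rfl⟩
      exact ⟨r, hr, MvPolynomial.aeval_C _ _⟩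
  haveI : IsLocalization (((nonZeroDivisors R).map (MvPolynomial.C (σ := Fin d))).map
      (MvPolynomial.aeval y : MvPolynomial (Fin d) R →ₐ[R] S).toRingHom)
      (FractionRing R ⊗[R] S) := by rw [hM]; exact hloc
  obtain ⟨m, ⟨e, he, rfl⟩, p, hp, hpe⟩ := integral_descend
    (MvPolynomial.aeval y : MvPolynomial (Fin d) R →ₐ[R] S).toRingHom g.toRingHom hcomm
    ((nonZeroDivisors R).map (MvPolynomial.C (σ := Fin d))) x (hgint _)
  refine ⟨e, he, ?_⟩
  have hrange : ∀ q : MvPolynomial (Fin d) R,
      MvPolynomial.aeval y q ∈ Algebra.adjoin R (Set.range y) := by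
    intro q
    rw [Algebra.adjoin_range_eq_range_aeval]
    exact ⟨q, rfl⟩
  let φ : MvPolynomial (Fin d) R →+* Algebra.adjoin R (Set.range y) :=
    (MvPolynomial.aeval y : MvPolynomial (Fin d) R →ₐ[R] S).toRingHom.codRestrict
      (Algebra.adjoin R (Set.range y)).toSubring hrange
  refine ⟨p.map φ, hp.map _, ?_⟩
  rw [Polynomial.eval₂_map]
  have e2 : (MvPolynomial.aeval y : MvPolynomial (Fin d) R →ₐ[R] S).toRingHom
      (MvPolynomial.C e) * x = e • x := by
    show MvPolynomial.aeval y (MvPolynomial.C e) * x = e • x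
    rw [MvPolynomial.aeval_C, Algebra.smul_def]
  rw [e2] at hpe
  exact hpe

theorem nn_main {R S : Type*} [CommRing R] [IsDomain R] [CommRing S] [Algebra R S]
    [Algebra.FiniteType R S] (hinj : Function.Injective (algebraMap R S)) :
    ∃ (d : ℕ) (y : Fin d → S) (S' : Subalgebra R S), AlgebraicIndependent R y ∧ (∀ i, y i ∈ S') ∧ S'.FG ∧
      (∀ s ∈ S', IsIntegral (Algebra.adjoin R (Set.range y)) s) ∧
      ∃ f : R, f ≠ 0 ∧ ∀ s : S, ∃ n : ℕ, (f ^ n) • s ∈ S' := by
  classical
  obtain ⟨d, y, g, hginj, hgint, hgy⟩ := nn_field hinj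
  have hAI : AlgebraicIndependent R y := by
    rw [algebraicIndependent_iff_injective_aeval]
    have h1 : Function.Injective (MvPolynomial.map (σ := Fin d) (algebraMap R (FractionRing R))) :=
      MvPolynomial.map_injective _ (IsFractionRing.injective R (FractionRing R))
    have h2 : ∀ q : MvPolynomial (Fin d) R,
        g (MvPolynomial.map (algebraMap R (FractionRing R)) q) =
          (1 : FractionRing R) ⊗ₜ[R] (MvPolynomial.aeval y q) := by
      intro q
      induction q using MvPolynomial.induction_on with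
      | C r =>
        rw [MvPolynomial.map_C, MvPolynomial.aeval_C, ← MvPolynomial.algebraMap_eq,
          AlgHom.commutes, Algebra.TensorProduct.algebraMap_apply, Algebra.algebraMap_self,
          RingHom.id_apply, Algebra.algebraMap_eq_smul_one, Algebra.algebraMap_eq_smul_one,
          TensorProduct.smul_tmul]
      | add p q hp hq => rw [map_add, map_add, map_add, hp, hq, TensorProduct.tmul_add]
      | mul_X p i hp =>
        rw [map_mul, map_mul, map_mul, hp, MvPolynomial.map_X, hgy, MvPolynomial.aeval_X,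
          Algebra.TensorProduct.tmul_mul_tmul, one_mul]
    intro a b hab
    apply h1
    apply hginj
    rw [h2, h2, hab]
  obtain ⟨t, ht⟩ := (Algebra.FiniteType.out : (⊤ : Subalgebra R S).FG)
  have hex : ∀ x : S, ∃ e ∈ nonZeroDivisors R,
      IsIntegral (Algebra.adjoin R (Set.range y)) (e • x) := nn_integral y g hgint hgy
  choose e he hex using hex
  let f : R := ∏ x ∈ t, e x
  have hf : f ∈ nonZeroDivisors R := Submonoid.prod_mem _ fun x _ => he x
  have hfx : ∀ x ∈ t, IsIntegral (Algebra.adjoin R (Set.range y)) (f • x) := by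
    intro x hx
    have : f • x = (∏ x' ∈ t.erase x, e x') • (e x • x) := by
      rw [smul_smul, Finset.prod_erase_mul _ _ hx]
    rw [this]
    exact (hex x).smul _
  let S' : Subalgebra R S := Algebra.adjoin R (Set.range y ∪ (fun x => f • x) '' (t : Set S))
  refine ⟨d, y, S', hAI, ?_, ?_, ?_, f, nonZeroDivisors.ne_zero hf, ?_⟩
  · intro i
    exact Algebra.subset_adjoin (Or.inl ⟨i, rfl⟩)
  · exact ⟨(Finset.univ.image y) ∪ t.image (fun x => f • x), by
      simp only [Finset.coe_union, Finset.coe_image, Finset.coe_univ, Set.image_univ]; rfl⟩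
  · have hle : S' ≤ (integralClosure (Algebra.adjoin R (Set.range y)) S).restrictScalars R := by
      apply Algebra.adjoin_le
      rintro z (⟨i, rfl⟩ | ⟨x, hx, rfl⟩)
      · exact isIntegral_algebraMap (R := Algebra.adjoin R (Set.range y))
          (x := ⟨y i, Algebra.subset_adjoin ⟨i, rfl⟩⟩)
      · exact hfx x hx
    intro s hs
    exact hle hs
  · intro s
    have hs : s ∈ Algebra.adjoin R (t : Set S) := by rw [ht]; trivial
    induction hs using Algebra.adjoin_induction with
    | mem x hx =>
      refine ⟨1, ?_⟩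
      rw [pow_one]
      exact Algebra.subset_adjoin (Or.inr ⟨x, hx, rfl⟩)
    | algebraMap r =>
      exact ⟨0, by rw [pow_zero, one_smul]; exact Subalgebra.algebraMap_mem _ r⟩
    | add a b _ _ ha hb =>
      obtain ⟨n, hn⟩ := ha
      obtain ⟨m, hm⟩ := hb
      refine ⟨n + m, ?_⟩
      have : f ^ (n + m) • (a + b) = f ^ m • (f ^ n • a) + f ^ n • (f ^ m • b) := by
        rw [smul_add, smul_smul, smul_smul, pow_add, mul_comm (f ^ n)]
      rw [this]
      exact S'.add_mem (S'.smul_mem hn _) (S'.smul_mem hm _)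
    | mul a b _ _ ha hb =>
      obtain ⟨n, hn⟩ := ha
      obtain ⟨m, hm⟩ := hb
      refine ⟨n + m, ?_⟩
      have : f ^ (n + m) • (a * b) = (f ^ n • a) * (f ^ m • b) := by
        rw [smul_mul_smul_comm, pow_add]
      rw [this]
      exact S'.mul_mem hn hm

/-- Let `R` be a domain and `R → S` an injective ring map of finite type. Then there are elements `y_1,
…, y_d` of `S` algebraically independent over `R`, a finitely generated `R`-subalgebra `S'` of `S`
containing them and integral over `R[y_1, …, y_d]`, and a nonzero `f ∈ R` such that every element of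
`S` lands in `S'` after multiplication by a power of `f`. -/
theorem result {R S : Type u} [CommRing R] [IsDomain R] [CommRing S] [Algebra R S]
    [Algebra.FiniteType R S] (hinj : Function.Injective (algebraMap R S)) :
    ∃ (d : ℕ) (y : Fin d → S) (S' : Subalgebra R S), AlgebraicIndependent R y ∧ (∀ i, y i ∈ S') ∧ S'.FG ∧
      (∀ s ∈ S', IsIntegral (Algebra.adjoin R (Set.range y)) s) ∧
      ∃ f : R, f ≠ 0 ∧ ∀ s : S, ∃ n : ℕ, (f ^ n) • s ∈ S' := by
  exact nn_main hinj

end Groth.Agent.S2073
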