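import Groth.Statements.S10897
import Groth.Agent.Lib.Helper18.CubicKLines
import Mathlib.FieldTheory.IsAlgClosed.Basic
import Mathlib.LinearAlgebra.Dimension.RankNullity
import Mathlib.LinearAlgebra.FiniteDimensional.Lemmas
import Mathlib.Data.Set.Card

set_option autoImplicit false
set_option linter.unusedSectionVars false
universe u
open Cubic

namespace Groth.Agent.S10897

open MvPolynomial Groth.Agent.Lib.Helper18.CubicK

theorem few {α : Type*} (S : Set α)
    (h : ∀ g : Fin 4 → α, Function.Injective g → (∀ i, g i ∈ S) → False) :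
    S.Finite ∧ S.ncard ≤ 3 := by
  classical
  have key : ∀ t : Finset α, (↑t : Set α) ⊆ S → t.card = 4 → False := by
    intro t ht hcard
    let e := (Finset.equivFinOfCardEq hcard).symm
    exact h (fun i => (e i : α)) (Subtype.val_injective.comp e.injective) (fun i => ht (e i).2)
  have hfin : S.Finite := by
    by_contra hinf
    obtain ⟨t, ht, hcard⟩ := Set.Infinite.exists_subset_card_eq hinf 4
    exact key t ht hcard
  refine ⟨hfin, ?_⟩
  by_contra hgt
  push Not at hgt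
  rw [Set.ncard_eq_toFinset_card S hfin] at hgt
  obtain ⟨t, ht, hcard⟩ := Finset.exists_subset_card_eq (show 4 ≤ hfin.toFinset.card by omega)
  exact key t (fun x hx => (Set.Finite.mem_toFinset hfin).mp (ht hx)) hcard

variable {K : Type u} [Field K] [IsAlgClosed K] [CharZero K]

theorem exists_quad_root (A B C : K) : ∃ a b : K, (a ≠ 0 ∨ b ≠ 0) ∧ A * a ^ 2 + B * (a * b) + C * b ^ 2 = 0 := by
  by_cases hA : A = 0
  · exact ⟨1, 0, Or.inl one_ne_zero, by rw [hA]; ring⟩
  · have hdeg : (Polynomial.C A * Polynomial.X ^ 2 + Polynomial.C B * Polynomial.X + Polynomial.C C).degree = 2 :=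
      Polynomial.degree_quadratic hA
    obtain ⟨t, ht⟩ := IsAlgClosed.exists_root
      (Polynomial.C A * Polynomial.X ^ 2 + Polynomial.C B * Polynomial.X + Polynomial.C C)
      (by rw [hdeg]; norm_num)
    refine ⟨t, 1, Or.inr one_ne_zero, ?_⟩
    simp only [Polynomial.IsRoot.def, Polynomial.eval_add, Polynomial.eval_mul, Polynomial.eval_C,
      Polynomial.eval_pow, Polynomial.eval_X] at ht
    linear_combination ht

variable {σ : Type} [Fintype σ] [DecidableEq σ]

theorem eval_smul' {f : MvPolynomial σ K} (hf : f.IsHomogeneous 3) (a : K) (x : σ → K) :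
    eval (a • x) f = a ^ 3 * eval x f := by
  rw [eval_eq_PhiF hf, eval_eq_PhiF hf]
  simp only [map_smul, LinearMap.smul_apply, smul_eq_mul]
  ring

theorem expand_f {f : MvPolynomial σ K} (hf : f.IsHomogeneous 3) (x y : σ → K) (a b : K) :
    eval (a • x + b • y) f =
      a ^ 3 * eval x f + a ^ 2 * b * Qp f y x + a * b ^ 2 * Lp f y x + b ^ 3 * eval y f := by
  rw [taylor hf (a • x) y b, eval_smul' hf, Qp_smul, map_smul, smul_eq_mul]
  ring

theorem expand_q (f : MvPolynomial σ K) (v x y : σ → K) (a b : K) :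
    Qp f v (a • x + b • y) = a ^ 2 * Qp f v x + b ^ 2 * Qp f v y + a * b * PhiF f v x y := by
  rw [Qp_add, Qp_smul, Qp_smul]
  simp only [map_smul, LinearMap.smul_apply, smul_eq_mul]
  ring

theorem finrank_ker_three (ℓ : (Fin 4 → K) →ₗ[K] K) (n : Fin 4 → K) (hn : ℓ n ≠ 0) :
    Module.finrank K ↥(LinearMap.ker ℓ) = 3 := by
  have hsurj : Function.Surjective ℓ := by
    intro c
    refine ⟨(c / ℓ n) • n, ?_⟩
    rw [map_smul, smul_eq_mul, div_mul_cancel₀ _ hn]
  have h1 := LinearMap.finrank_range_add_finrank_ker ℓ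
  rw [LinearMap.range_eq_top.mpr hsurj, finrank_top, Module.finrank_self, Module.finrank_fin_fun] at h1
  omega

theorem f_zero_on_H {f : MvPolynomial (Fin 4) K} (hf : f.IsHomogeneous 3)
    (v : Fin 4 → K) (hv : v ≠ 0) (hfv : eval v f = 0) (n : Fin 4 → K) (hn : Lp f v n ≠ 0)
    (U : Fin 4 → Submodule K (Fin 4 → K)) (hinj : Function.Injective U)
    (hU : ∀ i, v ∈ U i ∧ (Module.finrank K ↥(U i) = 2 ∧ ∀ u ∈ U i, eval u f = 0)) :
    ∃ u0 u1 : Fin 4 → K, u0 ∈ LinearMap.ker (Lp f v) ∧ u1 ∈ LinearMap.ker (Lp f v) ∧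
      (∀ a b : K, a • u0 + b • u1 = 0 → a = 0 ∧ b = 0) ∧
      (∀ h ∈ LinearMap.ker (Lp f v), ∃ s a b : K, h = s • v + (a • u0 + b • u1)) ∧
      (∀ h ∈ LinearMap.ker (Lp f v), eval h f = 0) := by
  have hH3 := finrank_ker_three (Lp f v) n hn
  have hUH : ∀ i, U i ≤ LinearMap.ker (Lp f v) := by
    intro i u hu
    rw [LinearMap.mem_ker]
    exact (line_L_Q_zero hf v (U i) (hU i).1 (hU i).2.2 u hu).1
  have hQ : ∀ i, ∀ u ∈ U i, Qp f v u = 0 := fun i u hu =>
    (line_L_Q_zero hf v (U i) (hU i).1 (hU i).2.2 u hu).2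
  choose u hu hunot using fun i => exists_not_mem_span (U i) (hU i).2.1 v
  have hinter : ∀ i j, i ≠ j → ∀ c, c ∈ U i → c ∈ U j → c ∈ Submodule.span K {v} := by
    intro i j hij c hci hcj
    exact inter_of_ne (U i) (U j) (hU i).2.1 (hU j).2.1 (fun h => hij (hinj h)) v hv (hU i).1 (hU j).1
      c hci hcj
  have hsup : U 0 ⊔ U 1 = LinearMap.ker (Lp f v) := by
    apply Submodule.eq_of_le_of_finrank_le (sup_le (hUH 0) (hUH 1))
    have h1 := Submodule.finrank_sup_add_finrank_inf_eq (U 0) (U 1)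
    have h2 : Module.finrank K ↥(U 0 ⊓ U 1) ≤ 1 := by
      have hle : U 0 ⊓ U 1 ≤ Submodule.span K {v} := fun c hc =>
        hinter 0 1 (by decide) c hc.1 hc.2
      have := Submodule.finrank_mono hle
      have h3 : Module.finrank K ↥(Submodule.span K {v}) ≤ 1 := by
        have := finrank_span_le_card (R := K) ({v} : Set (Fin 4 → K))
        simpa using this
      omega
    rw [(hU 0).2.1, (hU 1).2.1] at h1
    omega
  have hu0H : u 0 ∈ LinearMap.ker (Lp f v) := hUH 0 (hu 0)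
  have hu1H : u 1 ∈ LinearMap.ker (Lp f v) := hUH 1 (hu 1)
  have hdecomp : ∀ h ∈ LinearMap.ker (Lp f v), ∃ s a b : K, h = s • v + (a • u 0 + b • u 1) := by
    intro h hh
    rw [← hsup, Submodule.mem_sup] at hh
    obtain ⟨y, hy, z, hz, rfl⟩ := hh
    obtain ⟨α, β, rfl⟩ := two_dim_decomp (U 0) (hU 0).2.1 v (u 0) hv (hU 0).1 (hu 0) (hunot 0) y hy
    obtain ⟨α', γ, rfl⟩ := two_dim_decomp (U 1) (hU 1).2.1 v (u 1) hv (hU 1).1 (hu 1) (hunot 1) z hz
    refine ⟨α + α', β, γ, ?_⟩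
    rw [add_smul]
    abel
  have hindep : ∀ a b : K, a • u 0 + b • u 1 = 0 → a = 0 ∧ b = 0 := by
    intro a b hab
    have ha : a = 0 := by
      by_contra ha
      apply hunot 0
      apply hinter 0 1 (by decide) _ (hu 0)
      have : u 0 = (-(b / a)) • u 1 := by
        have h1 : a • u 0 = (-b) • u 1 := by
          rw [neg_smul]
          exact eq_neg_of_add_eq_zero_left hab
        have h2 : u 0 = a⁻¹ • (a • u 0) := by rw [smul_smul, inv_mul_cancel₀ ha, one_smul]
        rw [h2, h1, smul_smul]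
        congr 1
        field_simp
      rw [this]
      exact (U 1).smul_mem _ (hu 1)
    refine ⟨ha, ?_⟩
    by_contra hb
    rw [ha, zero_smul, zero_add] at hab
    have h0 : u 1 = 0 := by
      rcases smul_eq_zero.mp hab with h | h
      · exact absurd h hb
      · exact h
    apply hunot 1
    rw [h0]
    exact Submodule.zero_mem _
  have hw : ∀ i : Fin 4, i ≠ 0 → i ≠ 1 → ∃ β γ : K, β ≠ 0 ∧ γ ≠ 0 ∧ β • u 0 + γ • u 1 ∈ U i ∧
      β • u 0 + γ • u 1 ∉ Submodule.span K {v} := by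
    intro i hi0 hi1
    obtain ⟨s, β, γ, hdec⟩ := hdecomp (u i) (hUH i (hu i))
    have hwi : β • u 0 + γ • u 1 ∈ U i := by
      have : β • u 0 + γ • u 1 = u i - s • v := by rw [hdec]; abel
      rw [this]
      exact (U i).sub_mem (hu i) ((U i).smul_mem s (hU i).1)
    have hwn : β • u 0 + γ • u 1 ∉ Submodule.span K {v} := by
      intro hmem
      apply hunot i
      rw [hdec]
      exact Submodule.add_mem _ (Submodule.smul_mem _ s (Submodule.mem_span_singleton_self v)) hmem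
    refine ⟨β, γ, ?_, ?_, hwi, hwn⟩
    · rintro rfl
      apply hwn
      rw [zero_smul, zero_add] at hwi ⊢
      exact hinter i 1 hi1 _ hwi ((U 1).smul_mem γ (hu 1))
    · rintro rfl
      apply hwn
      rw [zero_smul, add_zero] at hwi ⊢
      exact hinter i 0 hi0 _ hwi ((U 0).smul_mem β (hu 0))
  obtain ⟨β, γ, hβ, hγ, hw2, hw2n⟩ := hw 2 (by decide) (by decide)
  obtain ⟨β', γ', hβ', hγ', hw3, hw3n⟩ := hw 3 (by decide) (by decide)
  have hdet : β * γ' - β' * γ ≠ 0 := by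
    intro hd
    apply hw2n
    apply hinter 2 3 (by decide) _ hw2
    have : β • u 0 + γ • u 1 = (γ / γ') • (β' • u 0 + γ' • u 1) := by
      rw [smul_add, smul_smul, smul_smul]
      congr 2
      · field_simp
        linear_combination hd
      · field_simp
    rw [this]
    exact (U 3).smul_mem _ hw3
  have hf0 : eval (u 0) f = 0 := (hU 0).2.2 _ (hu 0)
  have hf1 : eval (u 1) f = 0 := (hU 1).2.2 _ (hu 1)
  have e2 := expand_f hf (u 0) (u 1) β γ
  have e3 := expand_f hf (u 0) (u 1) β' γ'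
  rw [(hU 2).2.2 _ hw2, hf0, hf1] at e2
  rw [(hU 3).2.2 _ hw3, hf0, hf1] at e3
  have l2 : β * Qp f (u 1) (u 0) + γ * Lp f (u 1) (u 0) = 0 := by
    have : β * γ * (β * Qp f (u 1) (u 0) + γ * Lp f (u 1) (u 0)) = 0 := by linear_combination -e2
    rcases mul_eq_zero.mp this with h | h
    · exact absurd h (mul_ne_zero hβ hγ)
    · exact h
  have l3 : β' * Qp f (u 1) (u 0) + γ' * Lp f (u 1) (u 0) = 0 := by
    have : β' * γ' * (β' * Qp f (u 1) (u 0) + γ' * Lp f (u 1) (u 0)) = 0 := by linear_combination -e3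
    rcases mul_eq_zero.mp this with h | h
    · exact absurd h (mul_ne_zero hβ' hγ')
    · exact h
  have hP : Qp f (u 1) (u 0) = 0 := by
    have : (β * γ' - β' * γ) * Qp f (u 1) (u 0) = 0 := by linear_combination γ' * l2 - γ * l3
    rcases mul_eq_zero.mp this with h | h
    · exact absurd h hdet
    · exact h
  have hR : Lp f (u 1) (u 0) = 0 := by
    have : (β * γ' - β' * γ) * Lp f (u 1) (u 0) = 0 := by linear_combination β * l3 - β' * l2
    rcases mul_eq_zero.mp this with h | h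
    · exact absurd h hdet
    · exact h
  have q2 := expand_q f v (u 0) (u 1) β γ
  rw [hQ 2 _ hw2, hQ 0 _ (hu 0), hQ 1 _ (hu 1)] at q2
  have hPhi : PhiF f v (u 0) (u 1) = 0 := by
    have : β * γ * PhiF f v (u 0) (u 1) = 0 := by linear_combination -q2
    rcases mul_eq_zero.mp this with h | h
    · exact absurd h (mul_ne_zero hβ hγ)
    · exact h
  refine ⟨u 0, u 1, hu0H, hu1H, hindep, hdecomp, ?_⟩
  intro h hh
  obtain ⟨s, a, b, rfl⟩ := hdecomp h hh
  have hx : eval (a • u 0 + b • u 1) f = 0 := by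
    rw [expand_f hf, hf0, hf1, hP, hR]
    ring
  have hqx : Qp f v (a • u 0 + b • u 1) = 0 := by
    rw [expand_q, hQ 0 _ (hu 0), hQ 1 _ (hu 1), hPhi]
    ring
  have hlx : Lp f v (a • u 0 + b • u 1) = 0 := by
    rw [map_add, map_smul, map_smul, LinearMap.mem_ker.mp hu0H, LinearMap.mem_ker.mp hu1H]
    simp
  rw [add_comm, taylor hf, hx, hqx, hlx, hfv]
  ring

theorem no_plane {f : MvPolynomial (Fin 4) K} (hf : f.IsHomogeneous 3)
    (hsm : ∀ v : Fin 4 → K, v ≠ 0 → eval v f = 0 → ∃ i : Fin 4, eval v (pderiv i f) ≠ 0)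
    (ℓ : (Fin 4 → K) →ₗ[K] K) (n : Fin 4 → K) (hn : ℓ n ≠ 0)
    (u0 u1 : Fin 4 → K) (h0 : u0 ∈ LinearMap.ker ℓ) (h1 : u1 ∈ LinearMap.ker ℓ)
    (hindep : ∀ a b : K, a • u0 + b • u1 = 0 → a = 0 ∧ b = 0)
    (hzero : ∀ h ∈ LinearMap.ker ℓ, eval h f = 0) : False := by
  have hLH : ∀ p ∈ LinearMap.ker ℓ, ∀ w ∈ LinearMap.ker ℓ, Lp f p w = 0 := by
    intro p hp w hw
    have hcoef := cubic_coeffs (a0 := 0) (a1 := Qp f w p) (a2 := Lp f w p) (a3 := 0) (fun s => by
      have e1 := taylor hf p w s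
      rw [hzero p hp, hzero w hw,
        hzero _ ((LinearMap.ker ℓ).add_mem hp ((LinearMap.ker ℓ).smul_mem s hw))] at e1
      linear_combination -e1)
    rw [← Qp_eq_grad]
    exact hcoef.2.1
  obtain ⟨a, b, hab, hroot⟩ := exists_quad_root (Lp f u0 n) (PhiF f u0 u1 n) (Lp f u1 n)
  have hp : a • u0 + b • u1 ∈ LinearMap.ker ℓ :=
    (LinearMap.ker ℓ).add_mem ((LinearMap.ker ℓ).smul_mem a h0) ((LinearMap.ker ℓ).smul_mem b h1)
  have hp0 : a • u0 + b • u1 ≠ 0 := by
    intro h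
    obtain ⟨ha, hb⟩ := hindep a b h
    rcases hab with h | h
    · exact h ha
    · exact h hb
  have hpn : Lp f (a • u0 + b • u1) n = 0 := by
    rw [Lp_add_smul]
    linear_combination hroot
  obtain ⟨w, hw⟩ := Lp_ne_zero hf hsm _ hp0 (hzero _ hp)
  apply hw
  have hw' : w - (ℓ w / ℓ n) • n ∈ LinearMap.ker ℓ := by
    rw [LinearMap.mem_ker, map_sub, map_smul, smul_eq_mul, div_mul_cancel₀ _ hn, sub_self]
  have hdec : w = (w - (ℓ w / ℓ n) • n) + (ℓ w / ℓ n) • n := by abel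
  rw [hdec, map_add, map_smul, hpn, hLH _ hp _ hw']
  simp

theorem result (k : Type u) [Field k] [IsAlgClosed k] [CharZero k]
    (f : MvPolynomial (Fin 4) k) (hf : f.IsHomogeneous 3) (hf0 : f ≠ 0)
    (hsm : ∀ v : Fin 4 → k, v ≠ 0 → MvPolynomial.eval v f = 0 →
      ∃ i : Fin 4, MvPolynomial.eval v (MvPolynomial.pderiv i f) ≠ 0)
    (v : Fin 4 → k) (hv : v ≠ 0) (hfv : MvPolynomial.eval v f = 0) :
    {U : Submodule k (Fin 4 → k) | v ∈ U ∧ (Module.finrank k ↥U = 2 ∧ ∀ u ∈ U, MvPolynomial.eval u f = 0)}.Finite ∧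
      {U : Submodule k (Fin 4 → k) | v ∈ U ∧ (Module.finrank k ↥U = 2 ∧ ∀ u ∈ U, MvPolynomial.eval u f = 0)}.ncard ≤ 3 ∧
      ∃ H : Submodule k (Fin 4 → k), Module.finrank k ↥H = 3 ∧
        ∀ U : Submodule k (Fin 4 → k), v ∈ U → (Module.finrank k ↥U = 2 ∧ ∀ u ∈ U, MvPolynomial.eval u f = 0) → U ≤ H := by
  obtain ⟨n, hn⟩ := Lp_ne_zero hf hsm v hv hfv
  have hfew := few {U : Submodule k (Fin 4 → k) | v ∈ U ∧ (Module.finrank k ↥U = 2 ∧ ∀ u ∈ U, MvPolynomial.eval u f = 0)} (by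
    intro g hg hgS
    obtain ⟨u0, u1, h0, h1, hindep, -, hzero⟩ := f_zero_on_H hf v hv hfv n hn g hg hgS
    exact no_plane hf hsm (Lp f v) n hn u0 u1 h0 h1 hindep hzero)
  refine ⟨hfew.1, hfew.2, LinearMap.ker (Lp f v), finrank_ker_three (Lp f v) n hn, ?_⟩
  intro U hvU hU u hu
  rw [LinearMap.mem_ker]
  exact (line_L_Q_zero hf v U hvU hU.2 u hu).1

end Groth.Agent.S10897
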