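import Groth.Statements.S12424
import Groth.Agent.Lib.Helper18.CubicKLines
import Groth.Agent.S10897
import Mathlib.FieldTheory.IsAlgClosed.Basic
import Mathlib.LinearAlgebra.Dimension.RankNullity
import Mathlib.LinearAlgebra.FiniteDimensional.Lemmas
import Mathlib.LinearAlgebra.Basis.VectorSpace
import Mathlib.Algebra.MvPolynomial.Funext
import Mathlib.Algebra.MvPolynomial.NoZeroDivisors
import Mathlib.Algebra.MvPolynomial.Nilpotent

set_option autoImplicit false
set_option linter.unusedSectionVars false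
universe u

namespace Groth.Agent.S12424

open MvPolynomial Groth.Agent.Lib.Helper18.CubicK

variable {k : Type u} [Field k] [IsAlgClosed k] [CharZero k]

theorem endgame {f : MvPolynomial (Fin 4) k} (hf : f.IsHomogeneous 3)
    (hsm : ∀ v : Fin 4 → k, v ≠ 0 → eval v f = 0 → ∃ i : Fin 4, eval v (pderiv i f) ≠ 0)
    (ℓ : (Fin 4 → k) →ₗ[k] k) (n : Fin 4 → k) (hn : ℓ n ≠ 0) (x0 x1 : Fin 4 → k)
    (hindep : ∀ a b : k, a • x0 + b • x1 = 0 → a = 0 ∧ b = 0)
    (hprop : ∀ a b : k, eval (a • x0 + b • x1) f = 0 ∧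
      ∀ w ∈ LinearMap.ker ℓ, Lp f (a • x0 + b • x1) w = 0) : False := by
  obtain ⟨a, b, hab, hroot⟩ :=
    Groth.Agent.S10897.exists_quad_root (Lp f x0 n) (PhiF f x0 x1 n) (Lp f x1 n)
  have hp0 : a • x0 + b • x1 ≠ 0 := by
    intro h
    obtain ⟨ha, hb⟩ := hindep a b h
    rcases hab with h | h
    · exact h ha
    · exact h hb
  have hpn : Lp f (a • x0 + b • x1) n = 0 := by
    rw [Lp_add_smul]
    linear_combination hroot
  obtain ⟨hzero, hLH⟩ := hprop a b
  obtain ⟨w, hw⟩ := Lp_ne_zero hf hsm _ hp0 hzero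
  apply hw
  have hw' : w - (ℓ w / ℓ n) • n ∈ LinearMap.ker ℓ := by
    rw [LinearMap.mem_ker, map_sub, map_smul, smul_eq_mul, div_mul_cancel₀ _ hn, sub_self]
  have hdec : w = (w - (ℓ w / ℓ n) • n) + (ℓ w / ℓ n) • n := by abel
  rw [hdec, map_add, map_smul, hpn, hLH _ hw']
  simp

theorem core {f : MvPolynomial (Fin 4) k} (hf : f.IsHomogeneous 3)
    (hsm : ∀ v : Fin 4 → k, v ≠ 0 → eval v f = 0 → ∃ i : Fin 4, eval v (pderiv i f) ≠ 0)
    (A : Matrix (Fin 4) (Fin 3) k) (hA : A.rank = 3)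
    (Z : Submodule k (Fin 3 → k)) (y0 y1 : Fin 3 → k) (hy0 : y0 ∈ Z) (hy1 : y1 ∈ Z)
    (hindep : ∀ a b : k, a • y0 + b • y1 = 0 → a = 0 ∧ b = 0)
    (hZ : ∀ y ∈ Z, ∀ v : Fin 3 → k, ∃ P R : k, ∀ s : k,
      eval (A.mulVec (y + s • v)) f = s ^ 2 * P + s ^ 3 * R) : False := by
  have hrange : Module.finrank k ↥(LinearMap.range A.mulVecLin) = 3 := hA
  have hinj : Function.Injective A.mulVecLin := by
    rw [← LinearMap.ker_eq_bot]
    have h1 := LinearMap.finrank_range_add_finrank_ker A.mulVecLin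
    rw [hrange, Module.finrank_fin_fun] at h1
    apply Submodule.finrank_eq_zero.mp
    omega
  have hlt : LinearMap.range A.mulVecLin < ⊤ := by
    rw [lt_top_iff_ne_top]
    intro h
    rw [h, finrank_top, Module.finrank_fin_fun] at hrange
    omega
  obtain ⟨ℓ, hℓ0, hle⟩ := Submodule.exists_le_ker_of_lt_top _ hlt
  obtain ⟨n, hn⟩ : ∃ n, ℓ n ≠ 0 := by
    by_contra hcon
    push Not at hcon
    exact hℓ0 (LinearMap.ext hcon)
  have hker3 := Groth.Agent.S10897.finrank_ker_three ℓ n hn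
  have heq : LinearMap.range A.mulVecLin = LinearMap.ker ℓ :=
    Submodule.eq_of_le_of_finrank_eq hle (by rw [hrange, hker3])
  have hkey : ∀ y ∈ Z, eval (A.mulVec y) f = 0 ∧
      ∀ w ∈ LinearMap.ker ℓ, Lp f (A.mulVec y) w = 0 := by
    intro y hy
    have hall : ∀ v : Fin 3 → k, eval (A.mulVec y) f = 0 ∧ Qp f (A.mulVec v) (A.mulVec y) = 0 := by
      intro v
      obtain ⟨P, R, hPR⟩ := hZ y hy v
      have hcoef := cubic_coeffs (a0 := eval (A.mulVec y) f) (a1 := Qp f (A.mulVec v) (A.mulVec y))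
        (a2 := Lp f (A.mulVec v) (A.mulVec y) - P) (a3 := eval (A.mulVec v) f - R) (fun s => by
          have e1 := taylor hf (A.mulVec y) (A.mulVec v) s
          have e2 := hPR s
          rw [Matrix.mulVec_add, Matrix.mulVec_smul] at e2
          rw [e2] at e1
          linear_combination -e1)
      exact ⟨hcoef.1, hcoef.2.1⟩
    refine ⟨(hall 0).1, ?_⟩
    intro w hw
    rw [← heq] at hw
    obtain ⟨v, rfl⟩ := hw
    rw [← Qp_eq_grad]
    exact (hall v).2
  refine endgame hf hsm ℓ n hn (A.mulVec y0) (A.mulVec y1) ?_ ?_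
  · intro a b hab
    apply hindep a b
    apply hinj
    rw [map_add, map_smul, map_smul, map_zero]
    exact hab
  · intro a b
    have := hkey (a • y0 + b • y1) (Z.add_mem (Z.smul_mem a hy0) (Z.smul_mem b hy1))
    rw [Matrix.mulVec_add, Matrix.mulVec_smul, Matrix.mulVec_smul] at this
    exact this

theorem eval_g (f : MvPolynomial (Fin 4) k) (A : Matrix (Fin 4) (Fin 3) k) (y : Fin 3 → k) :
    eval y (aeval (fun i : Fin 4 => ∑ j : Fin 3, C (A i j) * X j) f) = eval (A.mulVec y) f := by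
  change aeval y (aeval (fun i : Fin 4 => ∑ j : Fin 3, C (A i j) * X j) f) = _
  rw [comp_aeval_apply]
  have h1 : (fun i : Fin 4 => (aeval y) (∑ j : Fin 3, C (A i j) * X j)) = A.mulVec y := by
    funext i
    simp [Matrix.mulVec, dotProduct]
  rw [h1]
  rfl

theorem lin_of_hom1 (m1 : MvPolynomial (Fin 3) k) (h : m1.IsHomogeneous 1) :
    ∃ a : (Fin 3 → k) →ₗ[k] k, ∀ y, eval y m1 = a y := by
  have hmem : m1 ∈ homogeneousSubmodule (Fin 3) k 1 := h
  rw [homogeneousSubmodule_one_eq_span_X, Submodule.mem_span_range_iff_exists_fun] at hmem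
  obtain ⟨c, hc⟩ := hmem
  refine ⟨∑ i, c i • (LinearMap.proj i : (Fin 3 → k) →ₗ[k] k), ?_⟩
  intro y
  rw [← hc]
  simp [LinearMap.sum_apply, smul_eval]

theorem decomp_deg_one (m : MvPolynomial (Fin 3) k) (h : m.totalDegree = 1) :
    ∃ (c : k) (a : (Fin 3 → k) →ₗ[k] k), ∀ y, eval y m = c + a y := by
  have hsum := sum_homogeneousComponent m
  rw [h, Finset.sum_range_succ, Finset.sum_range_one, homogeneousComponent_zero] at hsum
  obtain ⟨a, ha⟩ := lin_of_hom1 (homogeneousComponent 1 m) (homogeneousComponent_isHomogeneous 1 m)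
  refine ⟨coeff 0 m, a, ?_⟩
  intro y
  conv_lhs => rw [← hsum]
  rw [map_add, eval_C, ha]

theorem exists_pair_ker (a : (Fin 3 → k) →ₗ[k] k) (ha : a ≠ 0) :
    ∃ y0 y1 : Fin 3 → k, y0 ∈ LinearMap.ker a ∧ y1 ∈ LinearMap.ker a ∧
      ∀ s t : k, s • y0 + t • y1 = 0 → s = 0 ∧ t = 0 := by
  obtain ⟨n, hn⟩ : ∃ n, a n ≠ 0 := by
    by_contra hcon
    push Not at hcon
    exact ha (LinearMap.ext hcon)
  have hsurj : Function.Surjective a := by
    intro c
    refine ⟨(c / a n) • n, ?_⟩
    rw [map_smul, smul_eq_mul, div_mul_cancel₀ _ hn]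
  have h1 := LinearMap.finrank_range_add_finrank_ker a
  rw [LinearMap.range_eq_top.mpr hsurj, finrank_top, Module.finrank_self, Module.finrank_fin_fun] at h1
  have h2 : Module.finrank k ↥(LinearMap.ker a) = 2 := by omega
  let b := Module.finBasisOfFinrankEq k ↥(LinearMap.ker a) h2
  refine ⟨b 0, b 1, (b 0).2, (b 1).2, ?_⟩
  intro s t hst
  have hli := b.linearIndependent
  have hb : (⇑b : Fin 2 → ↥(LinearMap.ker a)) = ![b 0, b 1] := by
    ext i
    fin_cases i <;> rfl
  rw [hb, LinearIndependent.pair_iff] at hli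
  apply hli s t
  apply Subtype.ext
  simpa using hst

theorem result (k : Type u) [Field k] [IsAlgClosed k] [CharZero k]
    (f : MvPolynomial (Fin 4) k) (hf : f.IsHomogeneous 3) (hf0 : f ≠ 0)
    (hsm : ∀ v : Fin 4 → k, v ≠ 0 → MvPolynomial.eval v f = 0 →
      ∃ i : Fin 4, MvPolynomial.eval v (MvPolynomial.pderiv i f) ≠ 0)
    (A : Matrix (Fin 4) (Fin 3) k) (hA : A.rank = 3) :
    Squarefree (MvPolynomial.aeval (fun i : Fin 4 => ∑ j : Fin 3, MvPolynomial.C (A i j) * MvPolynomial.X j) f) := by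
  obtain ⟨g, hg⟩ : ∃ g : MvPolynomial (Fin 3) k,
      g = aeval (fun i : Fin 4 => ∑ j : Fin 3, C (A i j) * X j) f := ⟨_, rfl⟩
  rw [← hg]
  have hgev : ∀ y, eval y g = eval (A.mulVec y) f := by
    intro y
    rw [hg, eval_g]
  intro m hdiv
  by_contra hnu
  by_cases hg0 : g = 0
  · refine core hf hsm A hA ⊤ (Pi.single 0 1) (Pi.single 1 1) Submodule.mem_top Submodule.mem_top
      ?_ ?_
    · intro a b hab
      have h0 := congrFun hab 0
      have h1 := congrFun hab 1
      simp at h0 h1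
      exact ⟨h0, h1⟩
    · intro y _ v
      refine ⟨0, 0, fun s => ?_⟩
      rw [← hgev, hg0]
      simp
  · obtain ⟨l, hl⟩ := hdiv
    have hm0 : m ≠ 0 := by
      rintro rfl
      apply hg0
      rw [hl]
      ring
    have hl0 : l ≠ 0 := by
      rintro rfl
      apply hg0
      rw [hl]
      ring
    have hghom : g.IsHomogeneous 3 := by
      rw [hg]
      have := hf.aeval (fun i : Fin 4 => ∑ j : Fin 3, C (A i j) * X j) (n := 1) (fun i => by
        apply IsHomogeneous.sum
        intro j _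
        exact isHomogeneous_C_mul_X _ _)
      simpa using this
    have htd : g.totalDegree = 3 := hghom.totalDegree hg0
    rw [hl, totalDegree_mul_of_isDomain (mul_ne_zero hm0 hm0) hl0,
      totalDegree_mul_of_isDomain hm0 hm0] at htd
    have hmtd : m.totalDegree ≠ 0 := by
      intro h0
      apply hnu
      rw [totalDegree_eq_zero_iff_eq_C] at h0
      rw [h0]
      apply IsUnit.map
      rw [isUnit_iff_ne_zero]
      intro hc
      apply hm0
      rw [h0, hc, map_zero]
    have hm1 : m.totalDegree = 1 := by omega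
    have hl1 : l.totalDegree = 1 := by omega
    obtain ⟨c, M1, hM⟩ := decomp_deg_one m hm1
    obtain ⟨c', L1, hL⟩ := decomp_deg_one l hl1
    have hgM : ∀ y, eval y g = (c + M1 y) ^ 2 * (c' + L1 y) := by
      intro y
      rw [hl, map_mul, map_mul, hM, hL]
      ring
    have hscale : ∀ (t : k) (y : Fin 3 → k), eval (t • y) g = t ^ 3 * eval y g := by
      intro t y
      rw [hgev, hgev, Matrix.mulVec_smul, Groth.Agent.S10897.eval_smul' hf]
    have hc : c = 0 := by
      by_contra hc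
      have hall : ∀ y, c ^ 2 * c' = 0 ∧ 2 * c * c' * M1 y + c ^ 2 * L1 y = 0 := by
        intro y
        have hcoef := cubic_coeffs (a0 := c ^ 2 * c') (a1 := 2 * c * c' * M1 y + c ^ 2 * L1 y)
          (a2 := c' * (M1 y) ^ 2 + 2 * c * M1 y * L1 y)
          (a3 := (M1 y) ^ 2 * L1 y - (c + M1 y) ^ 2 * (c' + L1 y)) (fun t => by
            have e1 := hscale t y
            rw [hgM, hgM, map_smul, map_smul, smul_eq_mul, smul_eq_mul] at e1
            linear_combination e1)
        exact ⟨hcoef.1, hcoef.2.1⟩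
      have hc' : c' = 0 := by
        rcases mul_eq_zero.mp (hall 0).1 with h | h
        · exact absurd (pow_eq_zero_iff (two_ne_zero)|>.mp h) hc
        · exact h
      apply hl0
      apply MvPolynomial.funext
      intro y
      rw [hL, hc', map_zero, zero_add]
      have := (hall y).2
      rw [hc', mul_zero, zero_mul, zero_add] at this
      rcases mul_eq_zero.mp this with h | h
      · exact absurd (pow_eq_zero_iff (two_ne_zero)|>.mp h) hc
      · exact h
    have hM' : ∀ y, eval y m = M1 y := by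
      intro y
      rw [hM, hc, zero_add]
    have hM1 : M1 ≠ 0 := by
      intro h
      apply hm0
      apply MvPolynomial.funext
      intro y
      rw [hM', h]
      simp
    obtain ⟨y0, y1, hy0, hy1, hindep⟩ := exists_pair_ker M1 hM1
    refine core hf hsm A hA (LinearMap.ker M1) y0 y1 hy0 hy1 hindep ?_
    intro y hy v
    refine ⟨(M1 v) ^ 2 * (c' + L1 y), (M1 v) ^ 2 * L1 v, fun s => ?_⟩
    rw [← hgev, hgM, hc, map_add, map_smul, map_add, map_smul, LinearMap.mem_ker.mp hy, smul_eq_mul,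
      smul_eq_mul]
    ring

end Groth.Agent.S12424
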