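import Groth.Statements.S16352
import Groth.Agent.Lib.Helper18.CubicKLines
import Groth.Agent.S10897
import Mathlib.FieldTheory.IsAlgClosed.Basic
import Mathlib.LinearAlgebra.Dimension.RankNullity
import Mathlib.LinearAlgebra.FiniteDimensional.Lemmas
import Mathlib.Algebra.MvPolynomial.Funext

set_option autoImplicit false
set_option linter.unusedSectionVars false
universe u

namespace Groth.Agent.S16352

open MvPolynomial Groth.Agent.Lib.Helper18.CubicK

variable {K : Type u} [Field K] [IsAlgClosed K] [CharZero K]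

theorem finrank_ker_three (ℓ : (Fin 4 → K) →ₗ[K] K) (n : Fin 4 → K) (hn : ℓ n ≠ 0) :
    Module.finrank K ↥(LinearMap.ker ℓ) = 3 := by
  have hsurj : Function.Surjective ℓ := by
    intro c
    refine ⟨(c / ℓ n) • n, ?_⟩
    rw [map_smul, smul_eq_mul, div_mul_cancel₀ _ hn]
  have h1 := LinearMap.finrank_range_add_finrank_ker ℓ
  rw [LinearMap.range_eq_top.mpr hsurj, finrank_top, Module.finrank_self, Module.finrank_fin_fun] at h1
  omega

theorem exists_basis (ℓ : (Fin 4 → K) →ₗ[K] K) (n a : Fin 4 → K) (hn : ℓ n ≠ 0) (ha0 : a ≠ 0)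
    (ha : ℓ a = 0) :
    ∃ b : Module.Basis (Fin 4) K (Fin 4 → K), b 0 = n ∧ ℓ (b 1) = 0 ∧ ℓ (b 2) = 0 ∧ b 3 = a := by
  have h3 := finrank_ker_three ℓ n hn
  let a' : LinearMap.ker ℓ := ⟨a, ha⟩
  have hli1 : LinearIndependent K (fun _ : Fin 1 => a') :=
    LinearIndependent.of_subsingleton 0 (by
      intro h
      apply ha0
      exact congrArg Subtype.val h)
  obtain ⟨x1, hx1⟩ := exists_linearIndependent_cons_of_lt_finrank hli1 (by rw [h3]; norm_num)
  obtain ⟨x2, hx2⟩ := exists_linearIndependent_cons_of_lt_finrank hx1 (by rw [h3]; norm_num)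
  have hli3 := hx2.map' (LinearMap.ker ℓ).subtype (Submodule.ker_subtype _)
  have hli4 : LinearIndependent K (Fin.cons n ((LinearMap.ker ℓ).subtype ∘
      (Fin.cons x2 (Fin.cons x1 (fun _ : Fin 1 => a')))) : Fin 4 → (Fin 4 → K)) := by
    rw [linearIndependent_finCons]
    refine ⟨hli3, ?_⟩
    intro hmem
    have hle : Submodule.span K (Set.range ((LinearMap.ker ℓ).subtype ∘
      (Fin.cons x2 (Fin.cons x1 (fun _ : Fin 1 => a'))))) ≤ LinearMap.ker ℓ := by
      rw [Submodule.span_le]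
      rintro _ ⟨i, rfl⟩
      exact Subtype.property _
    exact hn (hle hmem)
  refine ⟨basisOfLinearIndependentOfCardEqFinrank hli4 (by simp), ?_, ?_, ?_, ?_⟩
  · rw [coe_basisOfLinearIndependentOfCardEqFinrank]
    rfl
  · rw [coe_basisOfLinearIndependentOfCardEqFinrank]
    exact x2.2
  · rw [coe_basisOfLinearIndependentOfCardEqFinrank]
    exact x1.2
  · rw [coe_basisOfLinearIndependentOfCardEqFinrank]
    rfl

theorem exists_coords (ℓ : (Fin 4 → K) →ₗ[K] K) (n a : Fin 4 → K) (hn : ℓ n ≠ 0) (ha0 : a ≠ 0)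
    (ha : ℓ a = 0) :
    ∃ (u1 u2 : Fin 4 → K) (c0 c1 c2 c3 : (Fin 4 → K) →ₗ[K] K), ℓ u1 = 0 ∧ ℓ u2 = 0 ∧
      (∀ x, x = c0 x • n + c1 x • u1 + c2 x • u2 + c3 x • a) ∧
      (c0 n = 1 ∧ c1 n = 0 ∧ c2 n = 0) ∧ (c0 u1 = 0 ∧ c1 u1 = 1 ∧ c2 u1 = 0) ∧
      (c0 u2 = 0 ∧ c1 u2 = 0 ∧ c2 u2 = 1) ∧ (c0 a = 0 ∧ c1 a = 0 ∧ c2 a = 0) := by
  obtain ⟨b, hb0, hb1, hb2, hb3⟩ := exists_basis ℓ n a hn ha0 ha
  have hc : ∀ i j : Fin 4, b.coord i (b j) = if j = i then 1 else 0 := by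
    intro i j
    rw [Module.Basis.coord_apply, Module.Basis.repr_self, Finsupp.single_apply]
  refine ⟨b 1, b 2, b.coord 0, b.coord 1, b.coord 2, b.coord 3, hb1, hb2, ?_, ?_, ?_, ?_, ?_⟩
  · intro x
    have := b.sum_repr x
    rw [Fin.sum_univ_four, hb0, hb3] at this
    simp only [Module.Basis.coord_apply]
    exact this.symm
  · rw [← hb0]
    simp [hc]
  · simp [hc]
  · simp [hc]
  · rw [← hb3]
    simp [hc]

theorem quad_factor (A B C : K) : ∃ α1 β1 α2 β2 : K, ∀ s t : K,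
    A * s ^ 2 + B * (s * t) + C * t ^ 2 = (α1 * s + β1 * t) * (α2 * s + β2 * t) := by
  by_cases hA : A = 0
  · refine ⟨0, 1, B, C, ?_⟩
    intro s t
    rw [hA]
    ring
  · have hdeg : (Polynomial.C A * Polynomial.X ^ 2 + Polynomial.C B * Polynomial.X + Polynomial.C C).degree = 2 :=
      Polynomial.degree_quadratic hA
    obtain ⟨ρ, hρ⟩ := IsAlgClosed.exists_root
      (Polynomial.C A * Polynomial.X ^ 2 + Polynomial.C B * Polynomial.X + Polynomial.C C)
      (by rw [hdeg]; norm_num)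
    simp only [Polynomial.IsRoot.def, Polynomial.eval_add, Polynomial.eval_mul, Polynomial.eval_C,
      Polynomial.eval_pow, Polynomial.eval_X] at hρ
    refine ⟨1, -ρ, A, B + A * ρ, ?_⟩
    intro s t
    linear_combination t ^ 2 * hρ

theorem cubic_factor (A B C D : K) : ∃ α1 β1 α2 β2 α3 β3 : K, ∀ s t : K,
    A * s ^ 3 + B * (s ^ 2 * t) + C * (s * t ^ 2) + D * t ^ 3 =
      (α1 * s + β1 * t) * (α2 * s + β2 * t) * (α3 * s + β3 * t) := by
  by_cases hA : A = 0
  · obtain ⟨α1, β1, α2, β2, h⟩ := quad_factor B C D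
    refine ⟨0, 1, α1, β1, α2, β2, ?_⟩
    intro s t
    rw [hA, mul_assoc, ← h s t]
    ring
  · have hdeg : (Polynomial.C A * Polynomial.X ^ 3 + Polynomial.C B * Polynomial.X ^ 2 +
        Polynomial.C C * Polynomial.X + Polynomial.C D).degree = 3 :=
      Polynomial.degree_cubic hA
    obtain ⟨ρ, hρ⟩ := IsAlgClosed.exists_root
      (Polynomial.C A * Polynomial.X ^ 3 + Polynomial.C B * Polynomial.X ^ 2 +
        Polynomial.C C * Polynomial.X + Polynomial.C D)
      (by rw [hdeg]; norm_num)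
    simp only [Polynomial.IsRoot.def, Polynomial.eval_add, Polynomial.eval_mul, Polynomial.eval_C,
      Polynomial.eval_pow, Polynomial.eval_X] at hρ
    obtain ⟨α1, β1, α2, β2, h⟩ := quad_factor A (B + A * ρ) (C + (B + A * ρ) * ρ)
    refine ⟨1, -ρ, α1, β1, α2, β2, ?_⟩
    intro s t
    rw [mul_assoc, ← h s t]
    linear_combination t ^ 3 * hρ

noncomputable def linPoly (φ : (Fin 4 → K) →ₗ[K] K) : MvPolynomial (Fin 4) K :=
  ∑ j, C (φ (Pi.single j 1)) * X j

theorem eval_linPoly (φ : (Fin 4 → K) →ₗ[K] K) (x : Fin 4 → K) : eval x (linPoly φ) = φ x := by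
  have hx : x = ∑ k, x k • (Pi.single k 1 : Fin 4 → K) := by
    ext i
    simp [Finset.sum_apply, Pi.single_apply]
  conv_rhs => rw [hx]
  simp only [linPoly, map_sum, map_mul, eval_C, eval_X, map_smul, smul_eq_mul]
  apply Finset.sum_congr rfl
  intro k _
  ring

theorem linPoly_hom (φ : (Fin 4 → K) →ₗ[K] K) : (linPoly φ).IsHomogeneous 1 := by
  apply IsHomogeneous.sum
  intro j _
  have := (isHomogeneous_C (Fin 4) (φ (Pi.single j 1))).mul (isHomogeneous_X K j)
  simpa using this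

theorem mem_span_of_vanish (c : Fin 4 → K) (j : Fin 4) (hj : c j ≠ 0) (G : MvPolynomial (Fin 4) K)
    (hG : ∀ x : Fin 4 → K, (∑ i, c i * x i = 0) → eval x G = 0) :
    G ∈ Ideal.span {∑ i, C (c i) * X i} := by
  obtain ⟨ℓ, hℓ⟩ : ∃ ℓ : MvPolynomial (Fin 4) K, ℓ = ∑ i, C (c i) * X i := ⟨_, rfl⟩
  rw [← hℓ]
  have hevℓ : ∀ x, eval x ℓ = ∑ i, c i * x i := by
    intro x
    rw [hℓ]
    simp
  let φ : Fin 4 → MvPolynomial (Fin 4) K := fun i => X i - C (if i = j then (c j)⁻¹ else 0) * ℓ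
  have h1 : ∀ p : MvPolynomial (Fin 4) K, aeval φ p - p ∈ Ideal.span {ℓ} := by
    intro p
    induction p using MvPolynomial.induction_on with
    | C a => simp
    | add p q hp hq =>
      rw [map_add]
      have : aeval φ p + aeval φ q - (p + q) = (aeval φ p - p) + (aeval φ q - q) := by ring
      rw [this]
      exact Ideal.add_mem _ hp hq
    | mul_X p i hp =>
      rw [map_mul, aeval_X]
      have : aeval φ p * φ i - p * X i = (aeval φ p - p) * φ i + p * (φ i - X i) := by ring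
      rw [this]
      apply Ideal.add_mem _ (Ideal.mul_mem_right _ _ hp)
      apply Ideal.mul_mem_left
      have : φ i - X i = -(C (if i = j then (c j)⁻¹ else 0)) * ℓ := by simp only [φ]; ring
      rw [this]
      exact Ideal.mul_mem_left _ _ (Ideal.subset_span rfl)
  have h2 : aeval φ G = 0 := by
    apply MvPolynomial.funext
    intro x
    rw [map_zero]
    have : eval x (aeval φ G) = eval (fun i => eval x (φ i)) G := by
      change aeval x (aeval φ G) = aeval (fun i => aeval x (φ i)) G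
      rw [comp_aeval_apply]
    rw [this]
    apply hG
    simp only [φ, map_sub, map_mul, eval_X, eval_C, hevℓ]
    simp only [mul_sub, Finset.sum_sub_distrib]
    rw [sub_eq_zero]
    have : ∑ i, c i * ((if i = j then (c j)⁻¹ else 0) * ∑ i, c i * x i)
        = ∑ i, (if i = j then (∑ i, c i * x i) else 0) := by
      apply Finset.sum_congr rfl
      intro i _
      split_ifs with h
      · rw [h, ← mul_assoc, mul_inv_cancel₀ hj, one_mul]
      · ring
    rw [this, Finset.sum_ite_eq' Finset.univ j]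
    simp
  have := h1 G
  rw [h2, zero_sub] at this
  exact (Ideal.neg_mem_iff _).mp this

theorem finrank_inter_two (c0 m : (Fin 4 → K) →ₗ[K] K) (p q : Fin 4 → K)
    (hp0 : c0 p = 1) (hpm : m p = 0) (hq0 : c0 q = 0) (hqm : m q = 1) :
    Module.finrank K ↥(LinearMap.ker c0 ⊓ LinearMap.ker m) = 2 := by
  have hsurj : Function.Surjective (c0.prod m) := by
    rintro ⟨y1, y2⟩
    refine ⟨y1 • p + y2 • q, ?_⟩
    simp [LinearMap.prod_apply, hp0, hpm, hq0, hqm]
  have h1 := LinearMap.finrank_range_add_finrank_ker (c0.prod m)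
  rw [LinearMap.range_eq_top.mpr hsurj, finrank_top, Module.finrank_prod, Module.finrank_self,
    Module.finrank_fin_fun, LinearMap.ker_prod] at h1
  omega

theorem main (F : MvPolynomial (Fin 4) K) (hF : F.IsHomogeneous 3)
    (a : Fin 4 → K) (ha : a ≠ 0) (hFa : eval a F = 0)
    (i0 : Fin 4) (hi0 : eval a (pderiv i0 F) ≠ 0)
    (hT : ¬ ∃ L₁ L₂ L₃ : MvPolynomial (Fin 4) K, L₁.IsHomogeneous 1 ∧ L₂.IsHomogeneous 1 ∧
      L₃.IsHomogeneous 1 ∧
      F - L₁ * L₂ * L₃ ∈ Ideal.span {∑ i : Fin 4, C (eval a (pderiv i F)) * X i}) :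
    ∃ U₁ U₂ : Submodule K (Fin 4 → K), Module.finrank K ↥U₁ = 2 ∧ Module.finrank K ↥U₂ = 2 ∧
      a ∈ U₁ ∧ a ∈ U₂ ∧ U₁ ≤ LinearMap.ker (Lp F a) ∧ U₂ ≤ LinearMap.ker (Lp F a) ∧
      {x : Fin 4 → K | x ∈ LinearMap.ker (Lp F a) ∧ Qp F a x = 0} =
        (U₁ : Set (Fin 4 → K)) ∪ (U₂ : Set (Fin 4 → K)) := by
  have hevℓ : ∀ x, ∑ i, eval a (pderiv i F) * x i = Lp F a x := by
    intro x
    have := grad_eq_PhiF hF x a
    rw [Lp_apply, PhiF_swap13 F a a x, ← this]
    apply Finset.sum_congr rfl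
    intros
    ring
  have hn : Lp F a (Pi.single i0 1) ≠ 0 := by
    rw [← hevℓ]
    simpa [Pi.single_apply] using hi0
  have haH : Lp F a a = 0 := by rw [Lp_self hF, hFa, mul_zero]
  obtain ⟨u1, u2, c0, c1, c2, c3, hu1, hu2, hdec, ⟨hn0, hn1, hn2⟩, ⟨h10, h11, h12⟩,
    ⟨h20, h21, h22⟩, ⟨ha0, ha1, ha2⟩⟩ := exists_coords (Lp F a) (Pi.single i0 1) a hn ha haH
  have hLc0 : ∀ x, Lp F a x = c0 x * Lp F a (Pi.single i0 1) := by
    intro x
    have := congrArg (Lp F a) (hdec x)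
    rw [this]
    simp only [map_add, map_smul, smul_eq_mul, hu1, hu2, haH, mul_zero, add_zero]
  have hHc0 : ∀ x, x ∈ LinearMap.ker (Lp F a) ↔ c0 x = 0 := by
    intro x
    rw [LinearMap.mem_ker, hLc0]
    constructor
    · intro h
      exact (mul_eq_zero.mp h).resolve_right hn
    · intro h
      rw [h, zero_mul]
  have hxw : ∀ x, c0 x = 0 → x = (c1 x • u1 + c2 x • u2) + c3 x • a := by
    intro x hx
    have := hdec x
    rw [hx, zero_smul, zero_add] at this
    exact this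
  have hLw : ∀ s t : K, Lp F a (s • u1 + t • u2) = 0 := by
    intro s t
    simp only [map_add, map_smul, smul_eq_mul, hu1, hu2, mul_zero, add_zero]
  have hq : ∀ x, c0 x = 0 → Qp F a x = Qp F a u1 * (c1 x) ^ 2 + PhiF F a u1 u2 * (c1 x * c2 x) +
      Qp F a u2 * (c2 x) ^ 2 := by
    intro x hx
    have h1 := congrArg (Qp F a) (hxw x hx)
    rw [h1, Qp_add_smul_self hF, hLw, hFa, Groth.Agent.S10897.expand_q]
    ring
  have hFx : ∀ x, c0 x = 0 → eval x F = eval (c1 x • u1 + c2 x • u2) F +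
      c3 x * Qp F a (c1 x • u1 + c2 x • u2) := by
    intro x hx
    have h1 : eval x F = eval ((c1 x • u1 + c2 x • u2) + c3 x • a) F :=
      congrArg (fun y => eval y F) (hxw x hx)
    rw [h1, taylor hF, hLw, hFa]
    ring
  by_cases hzero : Qp F a u1 = 0 ∧ PhiF F a u1 u2 = 0 ∧ Qp F a u2 = 0
  · exfalso
    apply hT
    obtain ⟨hA, hB, hC⟩ := hzero
    obtain ⟨α1, β1, α2, β2, α3, β3, hfac⟩ :=
      cubic_factor (eval u1 F) (Qp F u2 u1) (Lp F u2 u1) (eval u2 F)
    refine ⟨linPoly (α1 • c1 + β1 • c2), linPoly (α2 • c1 + β2 • c2), linPoly (α3 • c1 + β3 • c2),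
      linPoly_hom _, linPoly_hom _, linPoly_hom _, ?_⟩
    apply mem_span_of_vanish (fun i => eval a (pderiv i F)) i0 hi0
    intro x hx
    rw [hevℓ] at hx
    have hx0 : c0 x = 0 := (hHc0 x).mp (LinearMap.mem_ker.mpr hx)
    rw [map_sub, map_mul, map_mul, eval_linPoly, eval_linPoly, eval_linPoly, hFx x hx0,
      Groth.Agent.S10897.expand_q, hA, hB, hC, Groth.Agent.S10897.expand_f hF]
    simp only [LinearMap.add_apply, LinearMap.smul_apply, smul_eq_mul]
    linear_combination hfac (c1 x) (c2 x)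
  · obtain ⟨α1, β1, α2, β2, hfac⟩ := quad_factor (Qp F a u1) (PhiF F a u1 u2) (Qp F a u2)
    have hne : ∀ α β α' β' : K, (∀ s t : K, Qp F a u1 * s ^ 2 + PhiF F a u1 u2 * (s * t) +
        Qp F a u2 * t ^ 2 = (α * s + β * t) * (α' * s + β' * t)) → ¬ (α = 0 ∧ β = 0) := by
      intro α β α' β' h hab
      apply hzero
      obtain ⟨rfl, rfl⟩ := hab
      have e1 := h 1 0
      have e2 := h 0 1
      have e3 := h 1 1
      refine ⟨?_, ?_, ?_⟩
      · linear_combination e1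
      · linear_combination e3 - e1 - e2
      · linear_combination e2
    have hne1 := hne α1 β1 α2 β2 hfac
    have hne2 := hne α2 β2 α1 β1 (fun s t => by rw [hfac s t]; ring)
    have hU : ∀ α β : K, ¬ (α = 0 ∧ β = 0) →
        Module.finrank K ↥(LinearMap.ker c0 ⊓ LinearMap.ker (α • c1 + β • c2)) = 2 := by
      intro α β hab
      by_cases hα : α = 0
      · have hβ : β ≠ 0 := fun h => hab ⟨hα, h⟩
        apply finrank_inter_two c0 _ (Pi.single i0 1) (β⁻¹ • u2) hn0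
        · simp [hn1, hn2]
        · simp [h20]
        · simp [h21, h22, hβ]
      · apply finrank_inter_two c0 _ (Pi.single i0 1) (α⁻¹ • u1) hn0
        · simp [hn1, hn2]
        · simp [h10]
        · simp [h11, h12, hα]
    refine ⟨LinearMap.ker c0 ⊓ LinearMap.ker (α1 • c1 + β1 • c2),
      LinearMap.ker c0 ⊓ LinearMap.ker (α2 • c1 + β2 • c2), hU α1 β1 hne1, hU α2 β2 hne2,
      ?_, ?_, ?_, ?_, ?_⟩
    · simp [ha0, ha1, ha2]
    · simp [ha0, ha1, ha2]
    · intro x hx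
      exact (hHc0 x).mpr (LinearMap.mem_ker.mp hx.1)
    · intro x hx
      exact (hHc0 x).mpr (LinearMap.mem_ker.mp hx.1)
    · ext x
      simp only [Set.mem_ofPred_eq, Set.mem_union, SetLike.mem_coe, Submodule.mem_inf,
        LinearMap.mem_ker, LinearMap.add_apply, LinearMap.smul_apply, smul_eq_mul]
      rw [← LinearMap.mem_ker, hHc0]
      constructor
      · rintro ⟨hx0, hqx⟩
        rw [hq x hx0, hfac] at hqx
        rcases mul_eq_zero.mp hqx with h | h
        · exact Or.inl ⟨hx0, h⟩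
        · exact Or.inr ⟨hx0, h⟩
      · rintro (⟨hx0, h⟩ | ⟨hx0, h⟩)
        · refine ⟨hx0, ?_⟩
          rw [hq x hx0, hfac, h, zero_mul]
        · refine ⟨hx0, ?_⟩
          rw [hq x hx0, hfac, h, mul_zero]

theorem result (K : Type u) [Field K] [IsAlgClosed K] [CharZero K]
    (F : MvPolynomial (Fin 4) K) (hF : F.IsHomogeneous 3) (hirr : Irreducible F)
    (hcone : ¬ ∃ v : Fin 4 → K, v ≠ 0 ∧ ∑ i : Fin 4, v i • MvPolynomial.pderiv i F = 0)
    (a : Fin 4 → K) (ha : a ≠ 0) (hFa : MvPolynomial.eval a F = 0)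
    (hsm : ∃ i : Fin 4, MvPolynomial.eval a (MvPolynomial.pderiv i F) ≠ 0)
    (ℓ : MvPolynomial (Fin 4) K)
    (hℓ : ℓ = ∑ i : Fin 4, MvPolynomial.C (MvPolynomial.eval a (MvPolynomial.pderiv i F)) * MvPolynomial.X i)
    (hT : ¬ ∃ L₁ L₂ L₃ : MvPolynomial (Fin 4) K, L₁.IsHomogeneous 1 ∧ L₂.IsHomogeneous 1 ∧ L₃.IsHomogeneous 1 ∧
      F - L₁ * L₂ * L₃ ∈ Ideal.span {ℓ})
    (P : MvPolynomial (Fin 4) K) (hP : P = ∑ i : Fin 4, a i • MvPolynomial.pderiv i F)
    (H : Submodule K (Fin 4 → K)) (hH : ∀ x : Fin 4 → K, x ∈ H ↔ MvPolynomial.eval x ℓ = 0) :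
    (∃ U₁ U₂ : Submodule K (Fin 4 → K), Module.finrank K ↥U₁ = 2 ∧ Module.finrank K ↥U₂ = 2 ∧ a ∈ U₁ ∧ a ∈ U₂ ∧
        U₁ ≤ H ∧ U₂ ≤ H ∧ {x : Fin 4 → K | x ∈ H ∧ MvPolynomial.eval x P = 0} = (U₁ : Set (Fin 4 → K)) ∪ (U₂ : Set (Fin 4 → K))) ∧
      ∀ U : Submodule K (Fin 4 → K), a ∈ U → Module.finrank K ↥U = 2 → (∀ u ∈ U, MvPolynomial.eval u F = 0) →
        U ≤ H ∧ ∀ u ∈ U, MvPolynomial.eval u P = 0 := by
  have hevℓ : ∀ x, eval x ℓ = Lp F a x := by
    intro x
    rw [hℓ]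
    simp only [map_sum, map_mul, eval_C, eval_X]
    have := grad_eq_PhiF hF x a
    rw [Lp_apply, PhiF_swap13 F a a x, ← this]
    apply Finset.sum_congr rfl
    intros
    ring
  have hevP : ∀ x, eval x P = Qp F a x := by
    intro x
    rw [hP]
    simp only [map_sum, smul_eval]
    rw [grad_eq_PhiF hF a x, Qp]
  have hHker : H = LinearMap.ker (Lp F a) := by
    ext x
    rw [hH, hevℓ, LinearMap.mem_ker]
  obtain ⟨i0, hi0⟩ := hsm
  subst hℓ
  constructor
  · obtain ⟨U₁, U₂, h1, h2, ha1, ha2, hle1, hle2, hset⟩ := main F hF a ha hFa i0 hi0 hT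
    refine ⟨U₁, U₂, h1, h2, ha1, ha2, hHker ▸ hle1, hHker ▸ hle2, ?_⟩
    rw [← hset, hHker]
    ext x
    simp only [Set.mem_ofPred_eq, hevP]
  · intro U haU _ hU
    constructor
    · intro u hu
      rw [hHker, LinearMap.mem_ker]
      exact (line_L_Q_zero hF a U haU hU u hu).1
    · intro u hu
      rw [hevP]
      exact (line_L_Q_zero hF a U haU hU u hu).2

end Groth.Agent.S16352
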