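import Groth.Statements.S1630
import Mathlib.AlgebraicGeometry.Geometrically.Irreducible
import Mathlib.AlgebraicGeometry.Morphisms.UnderlyingMap
-- import your own Groth.Agent.* helpers here

set_option autoImplicit false
universe u
open CategoryTheory CategoryTheory.Limits AlgebraicGeometry
open Variety

namespace Groth.Agent.S1630

section helpers

lemma irreducibleSpace_of_cover {Z : Type*} [TopologicalSpace Z] {ι : Type*} [Nonempty ι]
    (V : ι → Set Z) (hopen : ∀ i, IsOpen (V i)) (hirr : ∀ i, IsIrreducible (V i))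
    (hcov : ⋃ i, V i = Set.univ) (hmeet : ∀ i j, (V i ∩ V j).Nonempty) : IrreducibleSpace Z := by
  have hne : Nonempty Z := by
    obtain ⟨i⟩ := (inferInstance : Nonempty ι)
    obtain ⟨z, _⟩ := hmeet i i
    exact ⟨z⟩
  refine @IrreducibleSpace.mk _ _ ⟨?_⟩ hne
  intro u v hu hv ⟨x, _, hxu⟩ ⟨y, _, hyv⟩
  have hx : x ∈ ⋃ i, V i := hcov ▸ Set.mem_univ x
  have hy : y ∈ ⋃ i, V i := hcov ▸ Set.mem_univ y
  obtain ⟨i, hi⟩ := Set.mem_iUnion.mp hx
  obtain ⟨j, hj⟩ := Set.mem_iUnion.mp hy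
  obtain ⟨z, hzi, hzu, hzj⟩ := (hirr i).2 u (V j) hu (hopen j) ⟨x, hi, hxu⟩ (hmeet i j)
  obtain ⟨w, _, hwu, hwv⟩ := (hirr j).2 u v hu hv ⟨z, hzj, hzu⟩ ⟨y, hj, hyv⟩
  exact ⟨w, Set.mem_univ _, hwu, hwv⟩

theorem result' (k : Type u) [Field k] (X : Scheme.{u}) [X.Over (Spec (CommRingCat.of k))]
    (ι : Type u) (U : ι → X.Opens) (hne : Nonempty ι) (hcov : (⨆ i, U i) = ⊤)
    (hmeet : ∀ i j, ((U i : Set X) ∩ (U j : Set X)).Nonempty)
    (hU : ∀ i, GeometricallyIrreducible ((U i).ι ≫ (X ↘ (Spec (CommRingCat.of k))))) : GeometricallyIrreducible (X ↘ (Spec (CommRingCat.of k))) := by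
  refine ⟨?_⟩
  intro K _ y Z fst snd h
  -- fst is surjective
  have hysurj : Surjective y := by
    refine ⟨fun a => ?_⟩
    obtain ⟨b⟩ : Nonempty (Spec (CommRingCat.of K)) := inferInstance
    exact ⟨b, Subsingleton.elim _ _⟩
  have hfst : Surjective fst := MorphismProperty.of_isPullback h.flip hysurj
  have hV : ∀ i, IrreducibleSpace ↥(fst ⁻¹ᵁ U i) := by
    intro i
    have hp : IsPullback (fst ∣_ U i) ((fst ⁻¹ᵁ U i).ι ≫ snd)
        ((U i).ι ≫ (X ↘ (Spec (CommRingCat.of k)))) y :=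
      (isPullback_morphismRestrict fst (U i)).paste_vert h
    exact (hU i).geometrically_irreducibleSpace y _ _ hp
  refine irreducibleSpace_of_cover (fun i => ((fst ⁻¹ᵁ U i : Z.Opens) : Set Z))
    (fun i => (fst ⁻¹ᵁ U i).2) ?_ ?_ ?_
  · intro i
    have := hV i
    have h1 : IsIrreducible (Set.range (fst ⁻¹ᵁ U i).ι) := by
      rw [← Set.image_univ]
      exact (@IrreducibleSpace.isIrreducible_univ _ _ this).image _
        (fst ⁻¹ᵁ U i).ι.continuous.continuousOn
    rwa [Scheme.Opens.range_ι] at h1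
  · ext z
    simp only [Set.mem_iUnion, Set.mem_univ, iff_true]
    have : fst z ∈ (⨆ i, U i : X.Opens) := by rw [hcov]; trivial
    obtain ⟨i, hi⟩ := TopologicalSpace.Opens.mem_iSup.mp this
    exact ⟨i, hi⟩
  · intro i j
    obtain ⟨x, hxi, hxj⟩ := hmeet i j
    obtain ⟨z, rfl⟩ := hfst.surj x
    exact ⟨z, hxi, hxj⟩


end helpers

/-- Let X be a scheme over k. If X has a cover by a nonempty family of open subschemes, each
geometrically irreducible over k and any two of which meet, then X is geometrically irreducible over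
k. -/
theorem result (k : Type u) [Field k] (X : Scheme.{u}) [X.Over (Spec (CommRingCat.of k))]
    (ι : Type u) (U : ι → X.Opens) (hne : Nonempty ι) (hcov : (⨆ i, U i) = ⊤)
    (hmeet : ∀ i j, ((U i : Set X) ∩ (U j : Set X)).Nonempty)
    (hU : ∀ i, GeometricallyIrreducible ((U i).ι ≫ (X ↘ (Spec (CommRingCat.of k))))) : GeometricallyIrreducible (X ↘ (Spec (CommRingCat.of k))) := by
  exact result' k X ι U hne hcov hmeet hU

end Groth.Agent.S1630
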