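import Groth.Statements.S9626
import Mathlib.RingTheory.LocalRing.ResidueField.Fiber
import Mathlib.RingTheory.RingHom.Flat
import Mathlib.Topology.Irreducible
import Mathlib.RingTheory.Spectrum.Prime.Topology
import Mathlib.RingTheory.Spectrum.Prime.Chevalley
-- import your own Groth.Agent.* helpers here

set_option autoImplicit false
universe u
open CAlg

namespace Groth.Agent.S9626

open TensorProduct in
theorem isIrreducible_fiber {k R S : Type u} [Field k] [CommRing R] [CommRing S] [Algebra k R]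
    [Algebra k S]
    (hS : ∀ (k' : Type u) [Field k'] [Algebra k k'], IrreducibleSpace (PrimeSpectrum (k' ⊗[k] S)))
    (p : PrimeSpectrum R) :
    IsIrreducible (PrimeSpectrum.comap (algebraMap R (R ⊗[k] S)) ⁻¹' {p}) := by
  haveI : IsScalarTower k R p.asIdeal.ResidueField := by
    refine IsScalarTower.of_algebraMap_eq (fun x => ?_)
    rw [IsScalarTower.algebraMap_apply k (Localization.AtPrime p.asIdeal) p.asIdeal.ResidueField,
      IsScalarTower.algebraMap_apply R (Localization.AtPrime p.asIdeal) p.asIdeal.ResidueField,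
      IsScalarTower.algebraMap_apply k R (Localization.AtPrime p.asIdeal)]
  haveI := hS p.asIdeal.ResidueField
  let e : p.asIdeal.Fiber (R ⊗[k] S) ≃+* p.asIdeal.ResidueField ⊗[k] S :=
    (Algebra.TensorProduct.cancelBaseChange k R R p.asIdeal.ResidueField S).toRingEquiv
  haveI : IrreducibleSpace (PrimeSpectrum (p.asIdeal.Fiber (R ⊗[k] S))) :=
    (PrimeSpectrum.homeomorphOfRingEquiv e).irreducibleSpace_iff.mpr inferInstance
  haveI : IrreducibleSpace (PrimeSpectrum.comap (algebraMap R (R ⊗[k] S)) ⁻¹' {p}) :=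
    (PrimeSpectrum.preimageHomeomorphFiber R (R ⊗[k] S) p).irreducibleSpace_iff.mpr
      inferInstance
  exact IsIrreducible.of_subtype

open TensorProduct in
theorem irreducibleSpace_tensor {k R S : Type u} [Field k] [CommRing R] [CommRing S] [Algebra k R]
    [Algebra k S]
    (hS : ∀ (k' : Type u) [Field k'] [Algebra k k'], IrreducibleSpace (PrimeSpectrum (k' ⊗[k] S)))
    [IrreducibleSpace (PrimeSpectrum R)] :
    IrreducibleSpace (PrimeSpectrum (R ⊗[k] S)) := by
  have hopen : IsOpenMap (PrimeSpectrum.comap (algebraMap R (R ⊗[k] S))) :=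
    PrimeSpectrum.isOpenMap_comap_algebraMap_tensorProduct_of_field
  have hpre : IsPreirreducible (PrimeSpectrum.comap (algebraMap R (R ⊗[k] S)) ⁻¹' Set.univ) :=
    (IrreducibleSpace.isIrreducible_univ (PrimeSpectrum R)).isPreirreducible
      |>.preimage_of_isPreirreducible_fiber _ hopen
        (fun p => (isIrreducible_fiber hS p).isPreirreducible)
  rw [Set.preimage_univ] at hpre
  haveI : PreirreducibleSpace (PrimeSpectrum (R ⊗[k] S)) := ⟨hpre⟩
  obtain ⟨q, _⟩ := (isIrreducible_fiber hS (Classical.arbitrary (PrimeSpectrum R))).nonempty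
  haveI : Nonempty (PrimeSpectrum (R ⊗[k] S)) := ⟨q⟩
  exact { toNonempty := inferInstance }

open TensorProduct in
/-- Let k be a field, S a k-algebra with Spec(k' ⊗_k S) irreducible for every field extension k'/k, and
R any k-algebra. Then Spec(R ⊗_k S) → Spec(R) induces a bijection on irreducible components: taking
inverse images along R → R ⊗_k S maps the set of minimal primes of R ⊗_k S bijectively onto the set
of minimal primes of R. Here the test fields range over field extensions in the universe of k; this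
is equivalent to the unrestricted notion, since an algebraic closure of k suffices as a test. -/
theorem result {k R S : Type u} [Field k] [CommRing R] [CommRing S] [Algebra k R] [Algebra k S]
    (hS : ∀ (k' : Type u) [Field k'] [Algebra k k'], IrreducibleSpace (PrimeSpectrum (k' ⊗[k] S))) :
    Set.BijOn (Ideal.comap (algebraMap R (R ⊗[k] S))) (minimalPrimes (R ⊗[k] S)) (minimalPrimes R) := by
  have hgen : GeneralizingMap (PrimeSpectrum.comap (algebraMap R (R ⊗[k] S))) :=
    RingHom.Flat.generalizingMap_comap (RingHom.flat_algebraMap_iff.mpr inferInstance)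
  have hfib := isIrreducible_fiber (R := R) hS
  refine ⟨?_, ?_, ?_⟩
  · intro P hP
    have hPprime : P.IsPrime := hP.1.1
    refine ⟨⟨hPprime.comap _, bot_le⟩, ?_⟩
    rintro q ⟨hq, _⟩ hqP
    obtain ⟨Q, hQP, hQ⟩ := hgen (a := ⟨P, hPprime⟩) (b := ⟨q, hq⟩)
      ((PrimeSpectrum.le_iff_specializes _ _).mp hqP)
    have hQP' : Q.asIdeal ≤ P := (PrimeSpectrum.le_iff_specializes Q ⟨P, hPprime⟩).mpr hQP
    have hle : P ≤ Q.asIdeal := hP.2 ⟨Q.isPrime, bot_le⟩ hQP'
    calc Ideal.comap (algebraMap R (R ⊗[k] S)) P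
        ≤ Ideal.comap (algebraMap R (R ⊗[k] S)) Q.asIdeal := Ideal.comap_mono hle
      _ = q := congrArg PrimeSpectrum.asIdeal hQ
  · intro P hP P' hP' heq
    have hPprime : P.IsPrime := hP.1.1
    have hP'prime : P'.IsPrime := hP'.1.1
    let p : PrimeSpectrum R := ⟨Ideal.comap (algebraMap R (R ⊗[k] S)) P, hPprime.comap _⟩
    obtain ⟨Z, hZ, hFZ⟩ := exists_mem_irreducibleComponents_subset_of_isIrreducible _ (hfib p)
    rw [← PrimeSpectrum.zeroLocus_minimalPrimes] at hZ
    obtain ⟨Q, hQ, rfl⟩ := hZ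
    have h1 : (⟨P, hPprime⟩ : PrimeSpectrum (R ⊗[k] S)) ∈
        PrimeSpectrum.comap (algebraMap R (R ⊗[k] S)) ⁻¹' {p} := rfl
    have h2 : (⟨P', hP'prime⟩ : PrimeSpectrum (R ⊗[k] S)) ∈
        PrimeSpectrum.comap (algebraMap R (R ⊗[k] S)) ⁻¹' {p} := by
      change PrimeSpectrum.comap _ _ = p
      exact PrimeSpectrum.ext heq.symm
    have h1' : Q ≤ P := hFZ h1
    have h2' : Q ≤ P' := hFZ h2
    have e1 : P ≤ Q := hP.2 ⟨hQ.1.1, bot_le⟩ h1'
    have e2 : P' ≤ Q := hP'.2 ⟨hQ.1.1, bot_le⟩ h2'
    exact le_antisymm (e1.trans h2') (e2.trans h1')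
  · intro p hp
    have hpprime : p.IsPrime := hp.1.1
    obtain ⟨Q, hQ⟩ := (hfib ⟨p, hpprime⟩).nonempty
    have hQ' : Ideal.comap (algebraMap R (R ⊗[k] S)) Q.asIdeal = p :=
      congrArg PrimeSpectrum.asIdeal hQ
    obtain ⟨P, hP, hPQ⟩ := Ideal.exists_minimalPrimes_le (I := ⊥) (J := Q.asIdeal) bot_le
    refine ⟨P, hP, ?_⟩
    have hPprime : P.IsPrime := hP.1.1
    have hle : Ideal.comap (algebraMap R (R ⊗[k] S)) P ≤ p := hQ' ▸ Ideal.comap_mono hPQ
    exact le_antisymm hle (hp.2 ⟨hPprime.comap _, bot_le⟩ hle)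

end Groth.Agent.S9626
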