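import Groth.Statements.S9630
import Groth.Agent.Lib.Helper56.GeomIrred
import Groth.Agent.S9626
import Mathlib.RingTheory.Spectrum.Prime.Homeomorph
import Mathlib.RingTheory.Flat.FaithfullyFlat.Algebra
import Mathlib.FieldTheory.IsSepClosed
-- import your own Groth.Agent.* helpers here

set_option autoImplicit false
universe u
open CAlg

namespace Groth.Agent.S9630

open TensorProduct in
/-- For a field k and a k-algebra R the following are equivalent: (1) Spec(k' ⊗_k R) is irreducible for
every field extension k'/k; (2) the same for every finite separable extension k'/k; (3) Spec(k^sep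
⊗_k R) is irreducible for the separable closure k^sep; (4) Spec(k̄ ⊗_k R) is irreducible for the
algebraic closure k̄. Here the test fields range over field extensions in the universe of k; this is
equivalent to the unrestricted notion, since an algebraic closure of k suffices as a test. -/
theorem result {k R : Type u} [Field k] [CommRing R] [Algebra k R] :
    [∀ (k' : Type u) [Field k'] [Algebra k k'], IrreducibleSpace (PrimeSpectrum (k' ⊗[k] R)),
      ∀ (k' : Type u) [Field k'] [Algebra k k'] [Module.Finite k k'] [Algebra.IsSeparable k k'], IrreducibleSpace (PrimeSpectrum (k' ⊗[k] R)),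
      IrreducibleSpace (PrimeSpectrum (SeparableClosure k ⊗[k] R)),
      IrreducibleSpace (PrimeSpectrum (AlgebraicClosure k ⊗[k] R))].TFAE := by
  tfae_have 1 → 2 := fun h k' _ _ _ _ => h k'
  tfae_have 2 → 3 := by
    intro h
    refine Groth.Agent.Lib.Helper56.irreducibleSpace_of_forall_finite (fun E hE => ?_)
    exact h E
  tfae_have 3 → 4 := by
    intro h
    have hh := PrimeSpectrum.isHomeomorph_comap_tensorProductMap_of_isPurelyInseparable
      (K := SeparableClosure k) (R := k) (S := R) (L := AlgebraicClosure k)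
    exact hh.homeomorph.irreducibleSpace_iff.mpr h
  tfae_have 4 → 1 := by
    intro h4 k' _ _
    let Ω := AlgebraicClosure k'
    let f : AlgebraicClosure k →ₐ[k] Ω := IsAlgClosed.lift
    letI : Algebra (AlgebraicClosure k) Ω := f.toRingHom.toAlgebra
    haveI : IsScalarTower k (AlgebraicClosure k) Ω :=
      IsScalarTower.of_algebraMap_eq (fun x => (f.commutes x).symm)
    have hΩ : ∀ (κ : Type u) [Field κ] [Algebra (AlgebraicClosure k) κ],
        IrreducibleSpace (PrimeSpectrum (κ ⊗[AlgebraicClosure k] Ω)) := by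
      intro κ _ _
      haveI : IsDomain (κ ⊗[AlgebraicClosure k] Ω) :=
        Groth.Agent.Lib.Helper56.isDomain_tensor_of_isAlgClosed
      infer_instance
    haveI h5 : IrreducibleSpace
        (PrimeSpectrum ((AlgebraicClosure k ⊗[k] R) ⊗[AlgebraicClosure k] Ω)) :=
      Groth.Agent.S9626.irreducibleSpace_tensor hΩ
    let e1 : (AlgebraicClosure k ⊗[k] R) ⊗[AlgebraicClosure k] Ω ≃+*
        Ω ⊗[AlgebraicClosure k] (AlgebraicClosure k ⊗[k] R) :=
      (Algebra.TensorProduct.comm (AlgebraicClosure k) (AlgebraicClosure k ⊗[k] R) Ω).toRingEquiv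
    let e2 : Ω ⊗[AlgebraicClosure k] (AlgebraicClosure k ⊗[k] R) ≃+* Ω ⊗[k] R :=
      (Algebra.TensorProduct.cancelBaseChange k (AlgebraicClosure k) (AlgebraicClosure k)
        Ω R).toRingEquiv
    haveI h6 : IrreducibleSpace (PrimeSpectrum (Ω ⊗[k] R)) :=
      (PrimeSpectrum.homeomorphOfRingEquiv (e1.trans e2)).irreducibleSpace_iff.mp h5
    let e3 : (k' ⊗[k] R) ⊗[k'] Ω ≃+* Ω ⊗[k'] (k' ⊗[k] R) :=
      (Algebra.TensorProduct.comm k' (k' ⊗[k] R) Ω).toRingEquiv
    let e4 : Ω ⊗[k'] (k' ⊗[k] R) ≃+* Ω ⊗[k] R :=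
      (Algebra.TensorProduct.cancelBaseChange k k' k' Ω R).toRingEquiv
    haveI h7 : IrreducibleSpace (PrimeSpectrum ((k' ⊗[k] R) ⊗[k'] Ω)) :=
      (PrimeSpectrum.homeomorphOfRingEquiv (e3.trans e4)).irreducibleSpace_iff.mpr h6
    have hsurj : Function.Surjective
        (PrimeSpectrum.comap (algebraMap (k' ⊗[k] R) ((k' ⊗[k] R) ⊗[k'] Ω))) :=
      PrimeSpectrum.comap_surjective_of_faithfullyFlat
    exact hsurj.irreducibleSpace (PrimeSpectrum.continuous_comap _)
  tfae_finish

end Groth.Agent.S9630
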