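import Groth.Statements.S2150
import Mathlib
import Groth.Agent.S9630
import Groth.Agent.Lib.Helper51.RelSepClosed

set_option autoImplicit false
universe u
open CAlg

namespace Groth.Agent.S2150

open TensorProduct in
/-- For a field extension `K/k`, the spectrum of `k' ⊗_k K` is irreducible for every field extension
`k'/k` (geometric irreducibility, extensions in the same universe) if and only if every element of
`K` which is separable algebraic over `k` lies in `k`. -/
theorem result {k K : Type u} [Field k] [Field K] [Algebra k K] :
    (∀ (k' : Type u) [Field k'] [Algebra k k'], IrreducibleSpace (PrimeSpectrum (k' ⊗[k] K))) ↔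
      ∀ α : K, IsSeparable k α → α ∈ Set.range (algebraMap k K) := by
  constructor
  · intro h α hα
    haveI := h (IntermediateField.adjoin k {α})
    haveI : IrreducibleSpace (PrimeSpectrum (K ⊗[k] (IntermediateField.adjoin k {α}))) :=
      (PrimeSpectrum.homeomorphOfRingEquiv
        (Algebra.TensorProduct.comm k K (IntermediateField.adjoin k {α})).toRingEquiv).irreducibleSpace_iff.mpr
          inferInstance
    exact Groth.Agent.Lib.Helper51.mem_range_of_irreducibleSpace_tensor α hα
  · intro h
    have key := ((Groth.Agent.S9630.result (k := k) (R := K)).out 1 0).mp
    refine key ?_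
    intro k' _ _ _ _
    have hdom : IsDomain (K ⊗[k] k') := Groth.Agent.Lib.Helper51.isDomain_tensor_of_relSepClosed h
    haveI : IsDomain (k' ⊗[k] K) :=
      (Algebra.TensorProduct.comm k k' K).toMulEquiv.isDomain _
    infer_instance

end Groth.Agent.S2150
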