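import Groth.Statements.S6000
import Mathlib.RingTheory.LocalRing.Module
import Mathlib.RingTheory.Flat.Tensor
import Mathlib.RingTheory.Flat.Stability
import Mathlib.Algebra.Module.Torsion.Basic
import Mathlib.LinearAlgebra.TensorProduct.Tower

set_option autoImplicit false
universe u v
open SGA1

namespace Groth.Agent.S6000

open TensorProduct

section helpers

variable {A : Type u} [CommRing A]

lemma ext_closed {F : Type*} [AddCommGroup F] [Module A F] [Module.Flat A F] (K : Submodule A F)
    (N : Type*) [AddCommGroup N] [Module A N] (N₁ : Submodule A N)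
    (h₁ : Function.Injective (K.subtype.lTensor N₁))
    (h₂ : Function.Injective (K.subtype.lTensor (N ⧸ N₁))) :
    Function.Injective (K.subtype.lTensor N) := by
  rw [injective_iff_map_eq_zero]
  intro x hx
  have h3 : N₁.mkQ.rTensor K x = 0 := by
    apply h₂
    rw [map_zero, ← LinearMap.comp_apply, LinearMap.lTensor_comp_rTensor,
      ← LinearMap.rTensor_comp_lTensor, LinearMap.comp_apply, hx, map_zero]
  obtain ⟨y, rfl⟩ := (rTensor_exact K (LinearMap.exact_subtype_mkQ N₁)
    (Submodule.mkQ_surjective N₁) x).mp h3
  have h4 : K.subtype.lTensor N₁ y = 0 := by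
    apply Module.Flat.rTensor_preserves_injective_linearMap (M := F) N₁.subtype
      N₁.injective_subtype
    rw [map_zero, ← LinearMap.comp_apply, LinearMap.rTensor_comp_lTensor,
      ← LinearMap.lTensor_comp_rTensor, LinearMap.comp_apply, hx]
  rw [h₁ (h4.trans (map_zero _).symm), map_zero]

lemma cancel_natural (I : Ideal A) {K F : Type*} [AddCommGroup K] [Module A K] [AddCommGroup F]
    [Module A F] (f : K →ₗ[A] F) (N : Type*) [AddCommGroup N] [Module A N] [Module (A ⧸ I) N]
    [IsScalarTower A (A ⧸ I) N] (z : N ⊗[A ⧸ I] ((A ⧸ I) ⊗[A] K)) :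
    f.lTensor N (AlgebraTensorModule.cancelBaseChange A (A ⧸ I) (A ⧸ I) N K z) =
      AlgebraTensorModule.cancelBaseChange A (A ⧸ I) (A ⧸ I) N F
        ((f.baseChange (A ⧸ I)).lTensor N z) := by
  induction z using TensorProduct.induction_on with
  | zero => simp
  | add x y hx hy => simp only [map_add, hx, hy]
  | tmul n w =>
    induction w using TensorProduct.induction_on with
    | zero => simp
    | add x y hx hy => simp only [tmul_add, map_add, hx, hy]
    | tmul r k => simp

lemma torFree_of_quotient_module (I : Ideal A) {M : Type*} [AddCommGroup M] [Module A M]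
    {F : Type*} [AddCommGroup F] [Module A F] [Module.Free A F] (K : Submodule A F)
    (π : F →ₗ[A] M) (hπ : Function.Surjective π) (hex : Function.Exact K.subtype π)
    (hflat : Module.Flat (A ⧸ I) ((A ⧸ I) ⊗[A] M))
    (h0 : Function.Injective (K.subtype.lTensor (A ⧸ I)))
    (N : Type*) [AddCommGroup N] [Module A N] [Module (A ⧸ I) N] [IsScalarTower A (A ⧸ I) N] :
    Function.Injective (K.subtype.lTensor N) := by
  let p : (N →₀ (A ⧸ I)) →ₗ[A ⧸ I] N := Finsupp.linearCombination (A ⧸ I) id
  have hp : Function.Surjective p := Finsupp.linearCombination_id_surjective (A ⧸ I) N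
  have key : Function.Injective ((K.subtype.baseChange (A ⧸ I)).lTensor N) := by
    refine lTensor_injective_of_exact_of_exact_of_rTensor_injective (R := A ⧸ I)
      (M₁ := LinearMap.ker p) (M₂ := N →₀ (A ⧸ I)) (M₃ := N)
      (N₁ := (A ⧸ I) ⊗[A] K) (N₂ := (A ⧸ I) ⊗[A] F) (N₃ := (A ⧸ I) ⊗[A] M)
      (f₁ := (LinearMap.ker p).subtype) (f₂ := p)
      (g₁ := K.subtype.baseChange (A ⧸ I)) (g₂ := π.baseChange (A ⧸ I))
      (LinearMap.exact_subtype_ker_map p) hp ?_ ?_ ?_ ?_
    · exact lTensor_exact (A ⧸ I) hex hπ
    · exact LinearMap.lTensor_surjective (A ⧸ I) hπ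
    · exact Module.Flat.rTensor_preserves_injective_linearMap _ (Submodule.injective_subtype _)
    · exact Module.Flat.lTensor_preserves_injective_linearMap _ h0
  intro x y hxy
  have hx := cancel_natural I K.subtype N
    ((AlgebraTensorModule.cancelBaseChange A (A ⧸ I) (A ⧸ I) N K).symm x)
  have hy := cancel_natural I K.subtype N
    ((AlgebraTensorModule.cancelBaseChange A (A ⧸ I) (A ⧸ I) N K).symm y)
  rw [LinearEquiv.apply_symm_apply] at hx hy
  rw [hx, hy] at hxy
  have := key ((AlgebraTensorModule.cancelBaseChange A (A ⧸ I) (A ⧸ I) N F).injective hxy)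
  exact (AlgebraTensorModule.cancelBaseChange A (A ⧸ I) (A ⧸ I) N K).symm.injective this

lemma torFree_quot (I : Ideal A) {M : Type*} [AddCommGroup M] [Module A M]
    {F : Type*} [AddCommGroup F] [Module A F] [Module.Flat A F] (K : Submodule A F)
    (π : F →ₗ[A] M) (hπ : Function.Surjective π) (hex : Function.Exact K.subtype π)
    (hinj : Function.Injective (LinearMap.rTensor M (Submodule.subtype I))) :
    Function.Injective (K.subtype.lTensor (A ⧸ I)) := by
  refine lTensor_injective_of_exact_of_exact_of_rTensor_injective (R := A)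
    (M₁ := I) (M₂ := A) (M₃ := A ⧸ I) (N₁ := K) (N₂ := F) (N₃ := M)
    (f₁ := I.subtype) (f₂ := I.mkQ) (g₁ := K.subtype) (g₂ := π)
    (LinearMap.exact_subtype_mkQ I) (Submodule.mkQ_surjective I) hex hπ hinj ?_
  exact Module.Flat.lTensor_preserves_injective_linearMap _ (Submodule.injective_subtype K)

lemma inj_of_torFree (J : Ideal A) {M : Type*} [AddCommGroup M] [Module A M]
    {F : Type*} [AddCommGroup F] [Module A F] [Module.Flat A F] (K : Submodule A F)
    (π : F →ₗ[A] M) (hπ : Function.Surjective π) (hex : Function.Exact K.subtype π)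
    (hJ : Function.Injective (K.subtype.rTensor (A ⧸ J))) :
    Function.Injective (J.subtype.lTensor M) := by
  exact lTensor_injective_of_exact_of_exact_of_rTensor_injective (R := A)
      (N₁ := J) (N₂ := A) (N₃ := A ⧸ J) (M₁ := K) (M₂ := F) (M₃ := M)
      (f₁ := K.subtype) (f₂ := π) (g₁ := J.subtype) (g₂ := J.mkQ) hex hπ
      (LinearMap.exact_subtype_mkQ J) (Submodule.mkQ_surjective J) hJ
      (Module.Flat.lTensor_preserves_injective_linearMap _ (Submodule.injective_subtype J))

lemma devissage (I : Ideal A) {M : Type*} [AddCommGroup M] [Module A M]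
    {F : Type*} [AddCommGroup F] [Module A F] [Module.Free A F] (K : Submodule A F)
    (π : F →ₗ[A] M) (hπ : Function.Surjective π) (hex : Function.Exact K.subtype π)
    (hflat : Module.Flat (A ⧸ I) ((A ⧸ I) ⊗[A] M))
    (h0 : Function.Injective (K.subtype.lTensor (A ⧸ I))) :
    ∀ k : ℕ, ∀ (N : Type u) [AddCommGroup N] [Module A N],
      (∀ a ∈ I ^ k, ∀ x : N, a • x = 0) → Function.Injective (K.subtype.lTensor N) := by
  intro k
  induction k with
  | zero =>
    intro N _ _ h
    have : Subsingleton N := ⟨fun x y => by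
      rw [← one_smul A x, ← one_smul A y, h 1 (by simp), h 1 (by simp)]⟩
    exact Function.injective_of_subsingleton _
  | succ k ih =>
    intro N _ _ h
    refine ext_closed K N (I • ⊤ : Submodule A N) ?_ ?_
    · apply ih
      rintro a ha ⟨x, hx⟩
      ext
      simp only [Submodule.coe_smul, Submodule.coe_zero]
      refine Submodule.smul_induction_on hx ?_ ?_
      · intro r hr n _
        rw [← mul_smul]
        exact h _ (by rw [pow_succ]; exact Ideal.mul_mem_mul ha hr) _
      · intro x y hx hy
        rw [smul_add, hx, hy, add_zero]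
    · exact torFree_of_quotient_module I K π hπ hex hflat h0 (N ⧸ (I • ⊤ : Submodule A N))

lemma flat_of_presentation (I : Ideal A) (hI : IsNilpotent I) {M : Type*} [AddCommGroup M]
    [Module A M] {F : Type*} [AddCommGroup F] [Module A F] [Module.Free A F] (K : Submodule A F)
    (π : F →ₗ[A] M) (hπ : Function.Surjective π) (hex : Function.Exact K.subtype π)
    (hflat : Module.Flat (A ⧸ I) ((A ⧸ I) ⊗[A] M))
    (hinj : Function.Injective (LinearMap.rTensor M (Submodule.subtype I))) :
    Module.Flat A M := by
  have h0 := torFree_quot I K π hπ hex hinj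
  obtain ⟨n, hn⟩ := hI
  rw [Module.Flat.iff_lTensor_injective']
  intro J
  refine inj_of_torFree J K π hπ hex ?_
  rw [← LinearMap.lTensor_inj_iff_rTensor_inj]
  apply devissage I K π hπ hex hflat h0 n
  intro a ha x
  rw [hn] at ha
  obtain rfl : a = 0 := by simpa using ha
  simp

end helpers

open TensorProduct in
/-- Let A be a commutative ring, I a nilpotent ideal of A and M an A-module. Then M is A-flat if and
only if M/IM = (A/I) ⊗_A M is flat over A/I and Tor_1^A(M, A/I) = 0, the latter condition being
expressed as injectivity of the canonical map I ⊗_A M ⟶ A ⊗_A M. -/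
theorem result (A : Type u) [CommRing A]
    (I : Ideal A) (hI : IsNilpotent I) (M : Type v) [AddCommGroup M] [Module A M] :
    Module.Flat A M ↔ Module.Flat (A ⧸ I) ((A ⧸ I) ⊗[A] M) ∧
      Function.Injective (LinearMap.rTensor M (Submodule.subtype I)) := by
  constructor
  · intro h
    exact ⟨inferInstance,
      Module.Flat.rTensor_preserves_injective_linearMap _ (Submodule.injective_subtype I)⟩
  · rintro ⟨hflat, hinj⟩
    exact flat_of_presentation I hI (LinearMap.ker (Finsupp.linearCombination A (id : M → M)))
      (Finsupp.linearCombination A id) (Finsupp.linearCombination_id_surjective A M)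
      (LinearMap.exact_subtype_ker_map _) hflat hinj

end Groth.Agent.S6000
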