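import Groth.Statements.S0400
import Groth.Agent.S6000
import Mathlib

set_option autoImplicit false
universe u
open FlatMor

namespace Groth.Agent.S0400


open TensorProduct in
noncomputable def phi {R S M : Type u} [CommRing R] [CommRing S] [Algebra R S] (I : Ideal R)
    [AddCommGroup M] [Module S M] [Module R M] [IsScalarTower R S M] :
    I ⊗[R] M →ₗ[R] (I.map (algebraMap R S) : Ideal S) ⊗[S] M :=
  TensorProduct.lift
    { toFun := fun i =>
        { toFun := fun m => (⟨algebraMap R S i, Ideal.mem_map_of_mem _ i.2⟩ :
            (I.map (algebraMap R S) : Ideal S)) ⊗ₜ[S] m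
          map_add' := fun m m' => TensorProduct.tmul_add _ m m'
          map_smul' := fun r m => by
            simp only [RingHom.id_apply]
            rw [← algebraMap_smul S r m, TensorProduct.tmul_smul, algebraMap_smul] }
      map_add' := fun i j => by
        ext m
        simp only [LinearMap.coe_mk, AddHom.coe_mk, LinearMap.add_apply]
        rw [← TensorProduct.add_tmul]
        congr 1
        ext
        simp
      map_smul' := fun r i => by
        ext m
        simp only [LinearMap.coe_mk, AddHom.coe_mk, LinearMap.smul_apply, RingHom.id_apply]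
        rw [TensorProduct.smul_tmul']
        congr 1
        ext
        simp [Algebra.smul_def] }

open TensorProduct in
theorem phi_tmul {R S M : Type u} [CommRing R] [CommRing S] [Algebra R S] (I : Ideal R)
    [AddCommGroup M] [Module S M] [Module R M] [IsScalarTower R S M] (i : I) (m : M) :
    phi (S := S) I (i ⊗ₜ[R] m) = (⟨algebraMap R S i, Ideal.mem_map_of_mem _ i.2⟩ :
            (I.map (algebraMap R S) : Ideal S)) ⊗ₜ[S] m := rfl

open TensorProduct in
theorem phi_surjective {R S M : Type u} [CommRing R] [CommRing S] [Algebra R S] (I : Ideal R)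
    [AddCommGroup M] [Module S M] [Module R M] [IsScalarTower R S M] :
    Function.Surjective (phi (S := S) (M := M) I) := by
  intro z
  induction z using TensorProduct.induction_on with
  | zero => exact ⟨0, map_zero _⟩
  | add x y hx hy =>
    obtain ⟨a, rfl⟩ := hx
    obtain ⟨b, rfl⟩ := hy
    exact ⟨a + b, map_add _ _ _⟩
  | tmul x m =>
    obtain ⟨x, hx⟩ := x
    have key : ∀ (x : S) (hx : x ∈ I.map (algebraMap R S)) (m : M),
        ∃ a, phi (S := S) (M := M) I a = (⟨x, hx⟩ : (I.map (algebraMap R S) : Ideal S)) ⊗ₜ[S] m := by
      intro x hx
      induction hx using Submodule.span_induction with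
      | mem x hx =>
        obtain ⟨i, hi, rfl⟩ := hx
        intro m
        exact ⟨(⟨i, hi⟩ : I) ⊗ₜ[R] m, phi_tmul I _ m⟩
      | zero =>
        intro m
        refine ⟨0, ?_⟩
        rw [map_zero]
        exact (TensorProduct.zero_tmul _ m).symm
      | add x y hx hy ihx ihy =>
        intro m
        obtain ⟨a, ha⟩ := ihx m
        obtain ⟨b, hb⟩ := ihy m
        refine ⟨a + b, ?_⟩
        rw [map_add, ha, hb, ← TensorProduct.add_tmul]
        rfl
      | smul s x hx ihx =>
        intro m
        obtain ⟨a, ha⟩ := ihx (s • m)
        refine ⟨a, ?_⟩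
        rw [ha, TensorProduct.tmul_smul, TensorProduct.smul_tmul']
        rfl
    exact key x hx m

open TensorProduct in
/-- Fibrewise criterion of flatness, nilpotent form: let R → S be a ring map, I a nilpotent ideal of R,
and M an S-module that is flat over R and such that M/IM is flat over S/IS. Then M is flat over S.
The published statement also determines the primes of S at which S is flat over R; that part is not
stated here. -/
theorem result {R S M : Type u} [CommRing R] [CommRing S] [Algebra R S] (I : Ideal R) (hI : IsNilpotent I)
    [AddCommGroup M] [Module S M] [Module R M] [IsScalarTower R S M] [Module.Flat R M]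
    (h : Module.Flat (S ⧸ I.map (algebraMap R S)) ((S ⧸ I.map (algebraMap R S)) ⊗[S] M)) : Module.Flat S M := by
  have hnil : IsNilpotent (I.map (algebraMap R S)) := by
    obtain ⟨n, hn⟩ := hI
    refine ⟨n, ?_⟩
    rw [← Ideal.map_pow, hn, Ideal.zero_eq_bot, Ideal.map_bot]
    rfl
  refine (Groth.Agent.S6000.result S (I.map (algebraMap R S)) hnil M).2 ⟨h, ?_⟩
  have hR : Function.Injective (LinearMap.rTensor M (Submodule.subtype I)) :=
    Module.Flat.rTensor_preserves_injective_linearMap _ (Submodule.injective_subtype I)
  have hcomp : ∀ y : I ⊗[R] M,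
      TensorProduct.lid S M (LinearMap.rTensor M (Submodule.subtype (I.map (algebraMap R S)))
        (phi (S := S) I y)) =
      TensorProduct.lid R M (LinearMap.rTensor M (Submodule.subtype I) y) := by
    intro y
    induction y using TensorProduct.induction_on with
    | zero => simp
    | add x y hx hy => simp only [map_add, hx, hy]
    | tmul i m =>
      rw [phi_tmul]
      simp
  rw [injective_iff_map_eq_zero]
  intro z hz
  obtain ⟨y, rfl⟩ := phi_surjective (S := S) (M := M) I z
  have h1 := hcomp y
  rw [hz, map_zero] at h1
  have h2 : LinearMap.rTensor M (Submodule.subtype I) y = 0 :=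
    (TensorProduct.lid R M).injective (by rw [← h1, map_zero])
  have h3 : y = 0 := hR (by rw [h2, map_zero])
  rw [h3, map_zero]

end Groth.Agent.S0400
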