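import Groth.Statements.S9426
import Mathlib.RingTheory.Smooth.Kaehler
import Mathlib.RingTheory.Kaehler.Polynomial
import Mathlib.RingTheory.Derivation.ToSquareZero

set_option autoImplicit false
universe u
open OmegaSh

namespace Groth.Agent.S9426

open Algebra TensorProduct KaehlerDifferential

section Construction

variable (R : Type u) [CommRing R] (S : Type u) [CommRing S] [Algebra R S]

/-- The presentation of `S` by the polynomial ring on all its elements. -/
noncomputable abbrev Pe : Extension R S := (Generators.self R S).toExtension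

variable {R S}

theorem cotangentComplex_surjective [Algebra.FormallyUnramified R S] :
    Function.Surjective (Pe R S).cotangentComplex := by
  intro y
  have h0 : (Pe R S).toKaehler y = 0 :=
    (Algebra.FormallyUnramified.subsingleton_kaehlerDifferential (R := R) (A := S)).elim _ _
  exact (Extension.exact_cotangentComplex_toKaehler y).mp h0

theorem exists_section [Algebra.FormallyUnramified R S] :
    ∃ σ : (Pe R S).CotangentSpace →ₗ[S] (Pe R S).Cotangent,
      (Pe R S).cotangentComplex ∘ₗ σ = LinearMap.id :=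
  Module.projective_lifting_property _ _ cotangentComplex_surjective

/-- The ideal `J'` with `J² ≤ J' ≤ J` whose image in `J/J²` is the image of the section. -/
noncomputable def J' (σ : (Pe R S).CotangentSpace →ₗ[S] (Pe R S).Cotangent) :
    Ideal (MvPolynomial S R) :=
  (Submodule.map (Submodule.subtype (Pe R S).ker)
    (Submodule.comap (Extension.Cotangent.mk (P := Pe R S))
      ((LinearMap.range σ).restrictScalars (Pe R S).Ring)) : Ideal (Pe R S).Ring)

theorem mem_J' (σ : (Pe R S).CotangentSpace →ₗ[S] (Pe R S).Cotangent) (x : MvPolynomial S R) :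
    x ∈ J' σ ↔ ∃ h : x ∈ (Pe R S).ker, Extension.Cotangent.mk ⟨x, h⟩ ∈ LinearMap.range σ := by
  unfold J'
  constructor
  · rintro ⟨y, hy, rfl⟩
    exact ⟨y.2, hy⟩
  · rintro ⟨h, hx⟩
    exact ⟨⟨x, h⟩, hx, rfl⟩

theorem J'_le (σ : (Pe R S).CotangentSpace →ₗ[S] (Pe R S).Cotangent) {x : MvPolynomial S R}
    (hx : x ∈ J' σ) : x ∈ (Pe R S).ker :=
  ((mem_J' σ x).mp hx).1

theorem sq_le_J' (σ : (Pe R S).CotangentSpace →ₗ[S] (Pe R S).Cotangent) {x : MvPolynomial S R}
    (hx : x ∈ (Pe R S).ker ^ 2) : x ∈ J' σ := by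
  have h : x ∈ (Pe R S).ker := Ideal.pow_le_self two_ne_zero hx
  refine (mem_J' σ x).mpr ⟨h, 0, ?_⟩
  rw [map_zero]
  exact ((Extension.Cotangent.mk_eq_zero_iff (⟨x, h⟩ : (Pe R S).ker)).mpr hx).symm

end Construction

section Lifting

variable {R : Type u} [CommRing R] {S : Type u} [CommRing S] [Algebra R S]
variable (σ : (Pe R S).CotangentSpace →ₗ[S] (Pe R S).Cotangent)
  (hσ : (Pe R S).cotangentComplex ∘ₗ σ = LinearMap.id)

theorem mem_ker_iff (f : MvPolynomial S R) :
    f ∈ (Pe R S).ker ↔ MvPolynomial.aeval (Generators.self R S).val f = 0 := Iff.rfl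

include hσ in
theorem sigma_tmul_D_eq (x : (Pe R S).Ring) (h : x ∈ (Pe R S).ker)
    (hx : Extension.Cotangent.mk ⟨x, h⟩ ∈ LinearMap.range σ) :
    σ (1 ⊗ₜ[(Pe R S).Ring] D R (Pe R S).Ring x) = Extension.Cotangent.mk ⟨x, h⟩ := by
  obtain ⟨ω, hω⟩ := hx
  have h1 : (Pe R S).cotangentComplex (σ ω) = ω := LinearMap.congr_fun hσ ω
  rw [hω, Extension.cotangentComplex_mk] at h1
  rw [h1, hω]

include hσ in
/-- Key uniqueness lemma: a derivation on the polynomial ring with values in a module killed by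
the kernel, vanishing on `J'`, is zero. -/
theorem derivation_eq_zero {M : Type u} [AddCommGroup M] [Module R M] [Module (MvPolynomial S R) M]
    [IsScalarTower R (MvPolynomial S R) M]
    (hKM : ∀ f : MvPolynomial S R, f ∈ (Pe R S).ker → ∀ m : M, f • m = 0)
    (δ : Derivation R (MvPolynomial S R) M) (hδ : ∀ x : MvPolynomial S R, x ∈ J' σ → δ x = 0) :
    δ = 0 := by
  classical
  apply MvPolynomial.derivation_ext
  intro s
  rw [Derivation.zero_apply]
  -- the element `x` of the kernel representing `σ (1 ⊗ dX_s)`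
  obtain ⟨x, hx⟩ := Extension.Cotangent.mk_surjective
    (σ (1 ⊗ₜ[(Pe R S).Ring] D R (Pe R S).Ring (MvPolynomial.X s)))
  have hxJ : (x : (Pe R S).Ring) ∈ J' σ := (mem_J' σ _).mpr ⟨x.2, ⟨_, hx.symm⟩⟩
  have h1 : (Pe R S).cotangentComplex (Extension.Cotangent.mk x) =
      1 ⊗ₜ[(Pe R S).Ring] D R (Pe R S).Ring (MvPolynomial.X s) := by
    rw [hx]; exact LinearMap.congr_fun hσ _
  rw [Extension.cotangentComplex_mk] at h1
  obtain ⟨x', hx'⟩ : ∃ x' : MvPolynomial S R, x' = (x : (Pe R S).Ring) := ⟨_, rfl⟩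
  -- coordinates
  have hcoord : ∀ t : S, (MvPolynomial.pderiv t x') -
      (if t = s then 1 else 0) ∈ (Pe R S).ker := by
    intro t
    have h2 := congrArg (fun z => (Generators.self R S).cotangentSpaceBasis.repr z t) h1
    simp only [Generators.cotangentSpaceBasis_repr_one_tmul] at h2
    rw [mem_ker_iff, map_sub, hx']
    rw [MvPolynomial.pderiv_X] at h2
    rw [h2, sub_eq_zero]
    by_cases hts : t = s
    · subst hts; simp
    · simp [hts, Ne.symm hts]
  have hx'J : δ x' = 0 := hδ x' (by rw [hx']; exact hxJ)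
  have hterm : ∀ t : S, (MvPolynomial.pderiv t x') • δ (MvPolynomial.X t) =
      if t = s then δ (MvPolynomial.X s) else 0 := by
    intro t
    have h3 := hKM _ (hcoord t) (δ (MvPolynomial.X t))
    rw [sub_smul, sub_eq_zero] at h3
    rw [h3]
    by_cases hts : t = s
    · subst hts; simp
    · simp [hts]
  have hsum : δ x' = ((mvPolynomialBasis R S).repr (D R _ x')).sum
      fun t c => c • δ (MvPolynomial.X t) := by
    conv_lhs => rw [← Derivation.liftKaehlerDifferential_comp_D δ x',
      ← (mvPolynomialBasis R S).linearCombination_repr (D R _ x')]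
    rw [Finsupp.linearCombination_apply, map_finsuppSum]
    refine Finsupp.sum_congr fun t _ => ?_
    rw [map_smul, mvPolynomialBasis_apply, Derivation.liftKaehlerDifferential_comp_D]
  rw [hsum, Finsupp.sum] at hx'J
  simp only [mvPolynomialBasis_repr_apply, hterm] at hx'J
  rw [Finset.sum_ite_eq'] at hx'J
  by_cases hs : s ∈ ((mvPolynomialBasis R S).repr (D R _ x')).support
  · rwa [if_pos hs] at hx'J
  · have h4 := hterm s
    rw [Finsupp.notMem_support_iff, mvPolynomialBasis_repr_apply] at hs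
    rw [hs, zero_smul, if_pos rfl] at h4
    exact h4.symm

end Lifting

section Main

variable {R : Type u} [CommRing R] {S : Type u} [CommRing S] [Algebra R S]
variable (σ : (Pe R S).CotangentSpace →ₗ[S] (Pe R S).Cotangent)
  (hσ : (Pe R S).cotangentComplex ∘ₗ σ = LinearMap.id)
variable {A : Type u} [CommRing A] [Algebra R A] (I : Ideal A) (hI : I ^ 2 = ⊥)
  (a : S →ₐ[R] A ⧸ I)

/-- `φ` lifts `a ∘ p`. -/
def IsLift (φ : MvPolynomial S R →ₐ[R] A) : Prop :=
  ∀ f, Ideal.Quotient.mk I (φ f) = a (MvPolynomial.aeval (Generators.self R S).val f)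

theorem exists_isLift : ∃ φ₀ : MvPolynomial S R →ₐ[R] A, IsLift I a φ₀ := by
  refine ⟨MvPolynomial.aeval (fun s => Function.surjInv Ideal.Quotient.mk_surjective (a s)), ?_⟩
  have h : (Ideal.Quotient.mkₐ R I).comp
      (MvPolynomial.aeval (fun s => Function.surjInv Ideal.Quotient.mk_surjective (a s))) =
      a.comp (MvPolynomial.aeval (Generators.self R S).val) := by
    apply MvPolynomial.algHom_ext
    intro s
    simp only [AlgHom.comp_apply, MvPolynomial.aeval_X, Ideal.Quotient.mkₐ_eq_mk]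
    rw [Function.surjInv_eq Ideal.Quotient.mk_surjective (a s)]
    rfl
  intro f
  exact AlgHom.congr_fun h f

variable {I a}

theorem IsLift.mem {φ : MvPolynomial S R →ₐ[R] A} (hφ : IsLift I a φ) {f : MvPolynomial S R}
    (hf : f ∈ (Pe R S).ker) : φ f ∈ I := by
  rw [← Ideal.Quotient.eq_zero_iff_mem, hφ f, (mem_ker_iff f).mp hf, map_zero]

include hI in
theorem mul_eq_zero_of_mem {x y : A} (hx : x ∈ I) (hy : y ∈ I) : x * y = 0 := by
  have : x * y ∈ I ^ 2 := by rw [pow_two]; exact Ideal.mul_mem_mul hx hy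
  rwa [hI, Ideal.mem_bot] at this

include hσ hI in
theorem exists_isLift_kills {φ₀ : MvPolynomial S R →ₐ[R] A} (h₀ : IsLift I a φ₀) :
    ∃ φ : MvPolynomial S R →ₐ[R] A, IsLift I a φ ∧ ∀ x : MvPolynomial S R, x ∈ J' σ → φ x = 0 := by
  let φ₀' : (Pe R S).Ring →ₐ[R] A := φ₀
  let _ : Algebra (Pe R S).Ring A := φ₀'.toRingHom.toAlgebra
  have : IsScalarTower R (Pe R S).Ring A :=
    IsScalarTower.of_algebraMap_eq (fun r => (φ₀'.commutes r).symm)
  have halg : ∀ f : (Pe R S).Ring, algebraMap (Pe R S).Ring A f = φ₀' f := fun f => rfl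
  have hmem : ∀ x : (Pe R S).ker, φ₀' (x : (Pe R S).Ring) ∈ I := fun x => h₀.mem x.2
  -- restriction of `φ₀` to the kernel
  let res : (Pe R S).ker →ₗ[(Pe R S).Ring] I :=
    { toFun := fun x => ⟨φ₀' x, hmem x⟩
      map_add' := fun x y => by
        apply Subtype.ext
        simp
      map_smul' := fun c x => by
        apply Subtype.ext
        simp [Algebra.smul_def, halg] }
  have hres : ∀ x y : (Pe R S).ker, res (x * y) = 0 := by
    intro x y
    apply Subtype.ext
    show φ₀' ((x : (Pe R S).Ring) * (y : (Pe R S).Ring)) = 0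
    rw [map_mul]
    exact mul_eq_zero_of_mem hI (hmem x) (hmem y)
  let φbar : (Pe R S).Cotangent →ₗ[(Pe R S).Ring] I :=
    (Ideal.Cotangent.lift res hres) ∘ₗ
      (Extension.cotangentEquivCotangentKer (P := Pe R S)).toLinearMap
  have hφbar : ∀ x : (Pe R S).ker, φbar (Extension.Cotangent.mk x) = res x := fun x => rfl
  let ψ : Ω[(Pe R S).Ring⁄R] →ₗ[(Pe R S).Ring] I :=
    - (φbar ∘ₗ (σ.restrictScalars (Pe R S).Ring) ∘ₗ
        (TensorProduct.mk (Pe R S).Ring S Ω[(Pe R S).Ring⁄R] 1))
  let Dv : Derivation R (Pe R S).Ring I := ψ.compDer (D R (Pe R S).Ring)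
  let φ : (Pe R S).Ring →ₐ[R] A := liftOfDerivationToSquareZero I hI Dv
  refine ⟨φ, ?_, ?_⟩
  · intro f
    show Ideal.Quotient.mk I (liftOfDerivationToSquareZero I hI Dv f) = _
    rw [liftOfDerivationToSquareZero_mk_apply]
    exact h₀ f
  · intro x hx
    obtain ⟨h, hx'⟩ := (mem_J' σ x).mp hx
    show liftOfDerivationToSquareZero I hI Dv x = 0
    rw [liftOfDerivationToSquareZero_apply]
    have h1 : Dv x = - res ⟨x, h⟩ := by
      show - (φbar (σ (1 ⊗ₜ[(Pe R S).Ring] D R (Pe R S).Ring x))) = _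
      rw [sigma_tmul_D_eq σ hσ x h hx', hφbar]
    rw [h1]
    show -(φ₀' x) + φ₀' x = 0
    ring

include hσ hI in
theorem isLift_kills_unique {φ₁ φ₂ : MvPolynomial S R →ₐ[R] A} (h₁ : IsLift I a φ₁)
    (h₂ : IsLift I a φ₂) (k₁ : ∀ x : MvPolynomial S R, x ∈ J' σ → φ₁ x = 0)
    (k₂ : ∀ x : MvPolynomial S R, x ∈ J' σ → φ₂ x = 0) : φ₁ = φ₂ := by
  let _ : Algebra (MvPolynomial S R) A := φ₂.toRingHom.toAlgebra
  have : IsScalarTower R (MvPolynomial S R) A :=
    IsScalarTower.of_algebraMap_eq (fun r => (φ₂.commutes r).symm)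
  have halg : ∀ f : MvPolynomial S R, algebraMap (MvPolynomial S R) A f = φ₂ f := fun f => rfl
  have e : (Ideal.Quotient.mkₐ R I).comp φ₁ =
      IsScalarTower.toAlgHom R (MvPolynomial S R) (A ⧸ I) := by
    apply AlgHom.ext
    intro f
    show Ideal.Quotient.mk I (φ₁ f) = algebraMap (MvPolynomial S R) (A ⧸ I) f
    rw [h₁ f, IsScalarTower.algebraMap_apply (MvPolynomial S R) A (A ⧸ I), halg]
    exact (h₂ f).symm
  have hδ0 : derivationToSquareZeroOfLift I hI φ₁ e = 0 := by
    refine derivation_eq_zero σ hσ ?_ _ ?_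
    · intro f hf m
      apply Subtype.ext
      show f • (m : A) = 0
      rw [Algebra.smul_def, halg]
      exact mul_eq_zero_of_mem hI (h₂.mem hf) m.2
    · intro x hx
      apply Subtype.ext
      rw [derivationToSquareZeroOfLift_apply, halg, k₁ x hx, k₂ x hx, sub_zero]
      rfl
  apply AlgHom.ext
  intro f
  have h3 := congrArg (fun d : Derivation R (MvPolynomial S R) I => ((d f : I) : A)) hδ0
  simp only [derivationToSquareZeroOfLift_apply, halg] at h3
  exact sub_eq_zero.mp h3

end Main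

/-- A formally unramified R-algebra S admits a universal first order thickening: an R-algebra surjection
S' → S with square-zero kernel through which every R-algebra map from S into a square-zero quotient
A/I lifts uniquely to A. -/
theorem result (R : Type u) [CommRing R]
    (S : Type u) [CommRing S] [Algebra R S] [Algebra.FormallyUnramified R S] :
    ∃ (S' : Type u) (_ : CommRing S') (_ : Algebra R S') (π : S' →ₐ[R] S),
      OmegaSh.IsUnivThickeningRing R S S' π := by
  obtain ⟨σ, hσ⟩ := exists_section (R := R) (S := S)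
  let p : MvPolynomial S R →ₐ[R] S := MvPolynomial.aeval (Generators.self R S).val
  have hp : Function.Surjective p := (Generators.self R S).algebraMap_surjective
  have hJ'p : ∀ x : MvPolynomial S R, x ∈ J' σ → p x = 0 :=
    fun x hx => (mem_ker_iff x).mp (J'_le σ hx)
  let π : (MvPolynomial S R ⧸ J' σ) →ₐ[R] S := Ideal.Quotient.liftₐ (J' σ) p hJ'p
  have hπmk : ∀ f : MvPolynomial S R, π (Ideal.Quotient.mk (J' σ) f) = p f := fun f => rfl
  refine ⟨MvPolynomial S R ⧸ J' σ, inferInstance, inferInstance, π, ?_, ?_, ?_⟩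
  · intro s
    obtain ⟨f, rfl⟩ := hp s
    exact ⟨Ideal.Quotient.mk (J' σ) f, hπmk f⟩
  · rw [eq_bot_iff, pow_two, Ideal.mul_le]
    intro x hx y hy
    obtain ⟨x', rfl⟩ := Ideal.Quotient.mk_surjective x
    obtain ⟨y', rfl⟩ := Ideal.Quotient.mk_surjective y
    have hx' : x' ∈ (Pe R S).ker := (mem_ker_iff x').mpr hx
    have hy' : y' ∈ (Pe R S).ker := (mem_ker_iff y').mpr hy
    rw [Ideal.mem_bot, ← map_mul, Ideal.Quotient.eq_zero_iff_mem]
    apply sq_le_J' σ
    rw [pow_two]
    exact Ideal.mul_mem_mul hx' hy'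
  · intro A _ _ I hI a
    obtain ⟨φ₀, h₀⟩ := exists_isLift I a
    obtain ⟨φ, hφ, hk⟩ := exists_isLift_kills σ hσ hI h₀
    refine ⟨Ideal.Quotient.liftₐ (J' σ) φ hk, ?_, ?_⟩
    · apply Ideal.Quotient.algHom_ext
      apply AlgHom.ext
      intro f
      exact hφ f
    · intro a'' ha''
      have h'' : IsLift I a (a''.comp (Ideal.Quotient.mkₐ R (J' σ))) := by
        intro f
        exact AlgHom.congr_fun ha'' (Ideal.Quotient.mk (J' σ) f)
      have k'' : ∀ x : MvPolynomial S R, x ∈ J' σ →
          (a''.comp (Ideal.Quotient.mkₐ R (J' σ))) x = 0 := by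
        intro x hx
        show a'' (Ideal.Quotient.mk (J' σ) x) = 0
        rw [Ideal.Quotient.eq_zero_iff_mem.mpr hx, map_zero]
      have := isLift_kills_unique σ hσ hI h'' hφ k'' hk
      apply Ideal.Quotient.algHom_ext
      rw [this]
      apply AlgHom.ext
      intro f
      rfl

end Groth.Agent.S9426
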