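import Groth.Statements.S9732
import Groth.Agent.Lib.Helper57.FOThick

set_option autoImplicit false
universe u
open OmegaSh

namespace Groth.Agent.S9732

open AlgebraicGeometry CategoryTheory Limits Scheme in
/-- The support of a square-zero ideal sheaf is the whole space. -/
theorem support_eq_top_of_mul_self {X : Scheme.{u}} (I : X.IdealSheafData) (h : I * I = ⊥) :
    I.support = ⊤ := by
  have h1 := congrArg IdealSheafData.support h
  rw [IdealSheafData.support_mul, sup_idem, IdealSheafData.support_bot] at h1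
  exact h1

open AlgebraicGeometry CategoryTheory Limits Scheme in
/-- The inclusion `V(P) ⟶ V(N)` for `N ≤ P`, `P * P ≤ N` and `supp N ⊆ supp P` is a first order
thickening. -/
theorem fot_inclusion {X : Scheme.{u}} {N P : X.IdealSheafData} (hNP : N ≤ P) (hPP : P * P ≤ N)
    (hsupp : N.support ≤ P.support) :
    MoreMor.IsFirstOrderThickening (IdealSheafData.inclusion hNP) := by
  have hc : IsClosedImmersion (IdealSheafData.inclusion hNP ≫ N.subschemeι) := by
    rw [IdealSheafData.inclusion_subschemeι]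
    infer_instance
  have hl : IsClosedImmersion (IdealSheafData.inclusion hNP) :=
    IsClosedImmersion.of_comp_isClosedImmersion _ N.subschemeι
  refine ⟨⟨hl, ?_⟩, ?_⟩
  · constructor
    intro p
    have h1 : N.subschemeι p ∈ (N.support : Set X) := by
      rw [← IdealSheafData.range_subschemeι]
      exact ⟨p, rfl⟩
    have h2 : N.subschemeι p ∈ (P.support : Set X) := hsupp h1
    rw [← IdealSheafData.range_subschemeι] at h2
    obtain ⟨z, hz⟩ := h2
    refine ⟨z, N.subschemeι.isClosedEmbedding.injective ?_⟩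
    rw [← hz, ← IdealSheafData.inclusion_subschemeι hNP]
    rfl
  · apply Groth.Agent.Lib.Helper57.FOThick.ker_mul_ker_eq_bot_of_comp _ N.subschemeι
    rw [IdealSheafData.inclusion_subschemeι, IdealSheafData.ker_subschemeι,
      IdealSheafData.ker_subschemeι]
    exact hPP

open AlgebraicGeometry CategoryTheory Limits Scheme in
/-- Key step: two morphisms `g₁ g₂ : T' ⟶ Z'` over `X` which agree on a first order thickening
`t : T ⟶ T'` agree on the closed subscheme cut out by `g₁⁻¹(ker i) * ker t`. -/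
theorem agree_on {Z Z' X T T' : Scheme.{u}} (h : Z ⟶ X) (i : Z ⟶ Z') (h' : Z' ⟶ X)
    (hu : OmegaSh.IsUnivThickening h i h') (t : T ⟶ T') (ht : MoreMor.IsFirstOrderThickening t)
    (g₁ g₂ : T' ⟶ Z') (e1 : t ≫ g₁ = t ≫ g₂) (e2 : g₁ ≫ h' = g₂ ≫ h') :
    (i.ker.comap g₁ * t.ker).subschemeι ≫ g₁ = (i.ker.comap g₁ * t.ker).subschemeι ≫ g₂ := by
  obtain ⟨⟨⟨hi1, hi2⟩, hi3⟩, hih, huniv⟩ := hu
  obtain ⟨⟨ht1, ht2⟩, ht3⟩ := ht
  generalize hJ : i.ker.comap g₁ = J
  generalize hK : t.ker = K
  have hJJ : J * J = ⊥ := by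
    rw [← hJ, ← Groth.Agent.Lib.Helper57.FOThick.comap_mul, hi3, IdealSheafData.comap_bot]
  have hKK : K * K = ⊥ := by rw [← hK, ht3]
  have hNP : J * K ≤ J ⊔ K := (mul_le_of_le_one_right' le_top).trans le_sup_left
  have hPP : (J ⊔ K) * (J ⊔ K) ≤ J * K := by
    rw [IdealSheafData.inf_mul, IdealSheafData.mul_inf, IdealSheafData.mul_inf, hJJ, hKK,
      mul_comm K J]
    simp
  have hsupp : (J * K).support ≤ (J ⊔ K).support := by
    rw [IdealSheafData.support_sup, support_eq_top_of_mul_self J hJJ,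
      support_eq_top_of_mul_self K hKK]
    simp
  have hl := fot_inclusion hNP hPP hsupp
  have hker : i.ker ≤ ((J ⊔ K).subschemeι ≫ g₁).ker := by
    show i.ker ≤ (J ⊔ K).map g₁
    apply IdealSheafData.le_map_iff_comap_le.mpr
    rw [hJ]
    exact le_sup_left
  have ha₀ : IsClosedImmersion.lift i ((J ⊔ K).subschemeι ≫ g₁) hker ≫ i =
    (J ⊔ K).subschemeι ≫ g₁ := IsClosedImmersion.lift_fac _ _ _
  generalize IsClosedImmersion.lift i ((J ⊔ K).subschemeι ≫ g₁) hker = a₀ at ha₀
  have hkt : t.ker ≤ (J ⊔ K).subschemeι.ker := by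
    rw [IdealSheafData.ker_subschemeι, hK]
    exact le_sup_right
  have hc : IsClosedImmersion.lift t (J ⊔ K).subschemeι hkt ≫ t = (J ⊔ K).subschemeι :=
    IsClosedImmersion.lift_fac _ _ _
  have hP12 : (J ⊔ K).subschemeι ≫ g₁ = (J ⊔ K).subschemeι ≫ g₂ := by
    rw [← hc, Category.assoc, Category.assoc, e1]
  obtain ⟨a', -, huniq⟩ := huniv _ _ (IdealSheafData.inclusion hNP) ((J * K).subschemeι ≫ g₁ ≫ h')
    a₀ hl (by
      rw [← hih, ← Category.assoc a₀, ha₀, IdealSheafData.inclusion_subschemeι_assoc,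
        Category.assoc])
  have u1 := huniq ((J * K).subschemeι ≫ g₁)
    ⟨by rw [IdealSheafData.inclusion_subschemeι_assoc, ha₀], by rw [Category.assoc]⟩
  have u2 := huniq ((J * K).subschemeι ≫ g₂)
    ⟨by rw [IdealSheafData.inclusion_subschemeι_assoc, ha₀, hP12], by rw [Category.assoc, e2]⟩
  rw [u1, u2]

open AlgebraicGeometry CategoryTheory Limits Scheme in
/-- Uniqueness of lifts through `h'` along any first order thickening. -/
theorem eq_of_fot {Z Z' X T T' : Scheme.{u}} (h : Z ⟶ X) (i : Z ⟶ Z') (h' : Z' ⟶ X)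
    (hu : OmegaSh.IsUnivThickening h i h') (t : T ⟶ T') (ht : MoreMor.IsFirstOrderThickening t)
    (g₁ g₂ : T' ⟶ Z') (e1 : t ≫ g₁ = t ≫ g₂) (e2 : g₁ ≫ h' = g₂ ≫ h') : g₁ = g₂ := by
  have s1 := agree_on h i h' hu t ht g₁ g₂ e1 e2
  have hJJ : i.ker.comap g₁ * i.ker.comap g₁ = ⊥ := by
    rw [← Groth.Agent.Lib.Helper57.FOThick.comap_mul, hu.1.2, IdealSheafData.comap_bot]
  have hKK : t.ker * t.ker = ⊥ := ht.2
  generalize hJ : i.ker.comap g₁ = J at s1 hJJ
  generalize hK : t.ker = K at s1 hKK
  -- the second thickening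
  have hN : (J * K) * (J * K) = ⊥ := by
    rw [eq_bot_iff, ← hKK]
    exact mul_le_mul' (mul_le_of_le_one_left' le_top) (mul_le_of_le_one_left' le_top)
  have ht2 : MoreMor.IsFirstOrderThickening (J * K).subschemeι := by
    refine ⟨⟨inferInstance, ?_⟩, ?_⟩
    · constructor
      intro p
      have hp : p ∈ Set.range (J * K).subschemeι := by
        rw [IdealSheafData.range_subschemeι, support_eq_top_of_mul_self _ hN]
        trivial
      exact hp
    · rw [IdealSheafData.ker_subschemeι, hN]
  have s2 := agree_on h i h' hu (J * K).subschemeι ht2 g₁ g₂ s1 e2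
  rw [hJ, IdealSheafData.ker_subschemeι] at s2
  have hbot : J * (J * K) = ⊥ := by rw [← mul_assoc, hJJ, IdealSheafData.bot_mul]
  rw [hbot] at s2
  exact (cancel_epi _).mp s2

open AlgebraicGeometry CategoryTheory Limits Scheme in
/-- `Spec` of a surjection with square-zero kernel is a first order thickening. -/
theorem fot_spec {R S : CommRingCat.{u}} (φ : R ⟶ S) (hφ : Function.Surjective φ)
    (hk : RingHom.ker φ.hom ^ 2 = ⊥) : MoreMor.IsFirstOrderThickening (Spec.map φ) := by
  have hc : IsClosedImmersion (Spec.map φ) := IsClosedImmersion.spec_of_surjective φ hφ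
  refine ⟨⟨hc, ?_⟩, ?_⟩
  · constructor
    intro x
    have h1 : Set.range (PrimeSpectrum.comap φ.hom) = Set.univ := by
      rw [_root_.range_comap_of_surjective _ _ hφ, PrimeSpectrum.zeroLocus_eq_univ_iff]
      intro a ha
      refine ⟨2, ?_⟩
      have : a ^ 2 ∈ RingHom.ker φ.hom ^ 2 := Ideal.pow_mem_pow ha 2
      rw [hk] at this
      exact this
    have hx : x ∈ Set.range (PrimeSpectrum.comap φ.hom) := by
      rw [h1]; trivial
    obtain ⟨y, hy⟩ := hx
    exact ⟨y, hy⟩
  · rw [eq_bot_iff]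
    apply IdealSheafData.le_of_isAffine
    rw [IdealSheafData.ideal_mul, Pi.mul_apply, Scheme.Hom.ker_apply, IdealSheafData.ideal_bot,
      Pi.bot_apply]
    intro z hz
    refine Submodule.mul_induction_on hz ?_ ?_
    · intro x hx y hy
      rw [RingHom.mem_ker] at hx hy
      have key : ∀ w : Γ(Spec R, ⊤), (Spec.map φ).appTop.hom w = 0 →
          (Scheme.ΓSpecIso R).hom.hom w ∈ RingHom.ker φ.hom := by
        intro w hw
        rw [RingHom.mem_ker]
        have hn := congrArg (fun f => f.hom w) (Scheme.ΓSpecIso_naturality φ)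
        simp only [CommRingCat.hom_comp, RingHom.comp_apply] at hn
        rw [← hn]
        show (Scheme.ΓSpecIso S).hom.hom ((Spec.map φ).appTop.hom w) = 0
        rw [hw, map_zero]
      have hxy : (Scheme.ΓSpecIso R).hom.hom (x * y) = 0 := by
        rw [map_mul]
        have : (Scheme.ΓSpecIso R).hom.hom x * (Scheme.ΓSpecIso R).hom.hom y ∈
            RingHom.ker φ.hom ^ 2 := by
          rw [pow_two]
          exact Ideal.mul_mem_mul (key x hx) (key y hy)
        rw [hk] at this
        exact this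
      rw [Ideal.mem_bot]
      have hinj : Function.Injective (Scheme.ΓSpecIso R).hom.hom :=
        (ConcreteCategory.bijective_of_isIso (Scheme.ΓSpecIso R).hom).1
      exact hinj (hxy.trans (map_zero _).symm)
    · intro x y hx hy
      exact Ideal.add_mem _ hx hy

open AlgebraicGeometry CategoryTheory Limits in
/-- Let h : Z ⟶ X be formally unramified and let (i : Z ⟶ Z', h' : Z' ⟶ X) be a universal first order
thickening of Z over X. Then h' is formally unramified. -/
theorem result {Z Z' X : Scheme.{u}} (h : Z ⟶ X) [FormallyUnramified h]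
    (i : Z ⟶ Z') (h' : Z' ⟶ X) (hu : OmegaSh.IsUnivThickening h i h') : FormallyUnramified h' := by
  apply AlgebraicGeometry.FormallyUnramified.of_hom_ext
  intro R S φ hφ hk g₁ g₂ e1 e2
  exact eq_of_fot h i h' hu (Spec.map φ) (fot_spec φ hφ hk) g₁ g₂ e1 e2

end Groth.Agent.S9732
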