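import Groth.Statements.S9731
import Groth.Agent.Lib.Helper57.UnivThickGlue
import Groth.Agent.Lib.Helper57.UnivThickAffine

set_option autoImplicit false
universe u
open OmegaSh

namespace Groth.Agent.S9731

open AlgebraicGeometry CategoryTheory Limits in
/-- A formally unramified morphism h : Z ⟶ X admits a universal first order thickening: a first order
thickening i : Z ⟶ Z' with h' : Z' ⟶ X, i ≫ h' = h, such that for every first order thickening j : T
⟶ T' with b : T' ⟶ X and every a : T ⟶ Z with j ≫ b = a ≫ h there is exactly one a' : T' ⟶ Z' with j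
≫ a' = a ≫ i and a' ≫ h' = b. -/
theorem result {Z X : Scheme.{u}} (h : Z ⟶ X) [FormallyUnramified h] :
    ∃ (Z' : Scheme.{u}) (i : Z ⟶ Z') (h' : Z' ⟶ X), OmegaSh.IsUnivThickening h i h' := by
  apply Groth.Agent.Lib.Helper57.UnivThickGlue.exists_of_local h
  intro z
  obtain ⟨W, hW, hzW, -⟩ := exists_isAffineOpen_mem_and_subset (U := ⊤) (x := h z) (by simp)
  obtain ⟨U, hU, hzU, hUW⟩ := exists_isAffineOpen_mem_and_subset (U := h ⁻¹ᵁ W) (x := z) hzW
  exact ⟨U, Groth.Agent.Lib.Helper57.UnivThickAffine.exists_of_affine h U hU W hW hUW, hzU⟩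

end Groth.Agent.S9731
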