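import Groth.Statements.S18861
-- import your own Groth.Agent.* helpers here

set_option autoImplicit false
universe u
open CategoryTheory MonoidalCategory CartesianMonoidalCategory MonObj GrpObj AlgebraicGeometry
open AlgGrp

namespace Groth.Agent.S18861

section
variable {S : Scheme.{u}} {G X : Over S} [GrpObj G] (a : AlgGrp.Action G X)

theorem act_one {T : Over S} (x : T ⟶ X) : lift (1 : T ⟶ G) x ≫ a.act = x := by
  have h := a.one_act
  have h1 : lift (1 : T ⟶ G) x = lift (toUnit T) x ≫ (η[G] ▷ X) := by
    rw [lift_whiskerRight, Hom.one_def]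
  rw [h1, Category.assoc, h, lift_leftUnitor_hom]

theorem act_mul {T : Over S} (g h : T ⟶ G) (x : T ⟶ X) :
    lift (g * h) x ≫ a.act = lift g (lift h x ≫ a.act) ≫ a.act := by
  have hm := a.mul_act
  have h1 : lift (g * h) x = lift (lift g h) x ≫ (μ[G] ▷ X) := by
    rw [lift_whiskerRight, Hom.mul_def]
  rw [h1, Category.assoc, hm, lift_lift_associator_hom_assoc, lift_whiskerLeft_assoc]

/-- the shear isomorphism (g, x) ↦ (g, g x) -/
noncomputable def shear : G ⊗ X ≅ G ⊗ X where
  hom := lift (fst G X) a.act
  inv := lift (fst G X) (lift ((fst G X)⁻¹) (snd G X) ≫ a.act)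
  hom_inv_id := by
    rw [comp_lift, lift_fst, comp_lift_assoc, comp_inv, lift_fst, lift_snd]
    have h2 : lift (fst G X)⁻¹ a.act ≫ a.act = snd G X := by
      calc lift (fst G X)⁻¹ a.act ≫ a.act
          = lift (fst G X)⁻¹ (lift (fst G X) (snd G X) ≫ a.act) ≫ a.act := by
            rw [lift_fst_snd, Category.id_comp]
        _ = lift ((fst G X)⁻¹ * fst G X) (snd G X) ≫ a.act := (act_mul a _ _ _).symm
        _ = snd G X := by rw [inv_mul_cancel, act_one]
    rw [h2, lift_fst_snd]
  inv_hom_id := by
    rw [comp_lift, lift_fst]
    have h1 : lift (fst G X) (lift (fst G X)⁻¹ (snd G X) ≫ a.act) ≫ a.act = snd G X := by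
      rw [← act_mul, mul_inv_cancel, act_one]
    rw [h1, lift_fst_snd]

theorem shear_hom_snd : (shear a).hom ≫ snd G X = a.act := by
  simp [shear]

theorem prop_act (P : MorphismProperty Scheme.{u}) [P.IsStableUnderBaseChange] [P.RespectsIso]
    (h : P G.hom) : P a.act.left := by
  have h1 : a.act.left = (shear a).hom.left ≫ (snd G X).left := by
    rw [← Over.comp_left, shear_hom_snd]
  rw [h1]
  have : IsIso (shear a).hom.left :=
    inferInstanceAs (IsIso ((Over.forget S).map (shear a).hom))
  rw [P.cancel_left_of_respectsIso]
  exact MorphismProperty.pullback_snd (P := P) G.hom X.hom h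

end

/-- Let S be a scheme and G a group scheme over S acting on an S-scheme X, with action morphism G ×_S X
→ X. If G → S is surjective, resp. flat, resp. affine, resp. proper, resp. finite, resp. smooth,
then so is the action morphism. (The source works over a field, where G → S is automatically
faithfully flat, with G and X of finite type, and concludes that the action morphism is faithfully
flat, and smooth, affine, proper or finite when G is; the base and the finiteness conditions play no
role.) -/
theorem result {S : Scheme.{u}} {G X : Over S} [GrpObj G]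
    (a : AlgGrp.Action G X) :
    (Surjective G.hom → Surjective a.act.left) ∧ (Flat G.hom → Flat a.act.left) ∧
      (IsAffineHom G.hom → IsAffineHom a.act.left) ∧ (IsProper G.hom → IsProper a.act.left) ∧
      (IsFinite G.hom → IsFinite a.act.left) ∧ (Smooth G.hom → Smooth a.act.left) := by
  exact ⟨prop_act a @Surjective, prop_act a @Flat, prop_act a @IsAffineHom, prop_act a @IsProper,
    prop_act a @IsFinite, prop_act a @Smooth⟩

end Groth.Agent.S18861
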