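import Groth.Statements.S18824
import Groth.Agent.S18861
import Groth.Agent.Lib.Helper78.FpqcQuot
import Mathlib.AlgebraicGeometry.Morphisms.UniversallyOpen
import Mathlib.AlgebraicGeometry.Morphisms.FinitePresentation
import Mathlib.AlgebraicGeometry.PullbackCarrier

set_option autoImplicit false
universe u
open CategoryTheory MonoidalCategory CartesianMonoidalCategory MonObj AlgebraicGeometry
open AlgGrp

namespace Groth.Agent.S18824

set_option backward.isDefEq.respectTransparency.types false
set_option linter.style.haveILetI false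

theorem universallyOpen_of_field (k : Type u) [Field k] {G : Scheme.{u}}
    (g : G ⟶ Spec (CommRingCat.of k)) [LocallyOfFiniteType g] : UniversallyOpen g := by
  haveI : Flat g := inferInstance
  haveI : LocallyOfFinitePresentation g := by
    rw [LocallyOfFinitePresentation.iff_locallyOfFiniteType]
    infer_instance
  infer_instance

theorem exists_preimage_of_isPullback {P X Y Z : Scheme.{u}} {fst : P ⟶ X} {snd : P ⟶ Y}
    {f : X ⟶ Z} {g : Y ⟶ Z} (sq : IsPullback fst snd f g) (x : X) (y : Y)
    (h : f.base x = g.base y) : ∃ z : P, fst.base z = x ∧ snd.base z = y := by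
  obtain ⟨z0, h1, h2⟩ := Scheme.Pullback.exists_preimage_pullback (f := f) (g := g) x y h
  refine ⟨sq.isoPullback.inv.base z0, ?_, ?_⟩
  · rw [← h1, ← sq.isoPullback_inv_fst]
    rfl
  · rw [← h2, ← sq.isoPullback_inv_snd]
    rfl

section
variable {S : Scheme.{u}} {G X : Over S} [GrpObj G] (a : AlgGrp.Action G X)

/-- the section `x ↦ (e, x)` -/
noncomputable def unitSec : X ⟶ G ⊗ X := lift (toUnit X ≫ η[G]) (𝟙 X)

theorem unitSec_snd : unitSec (G := G) (X := X) ≫ snd G X = 𝟙 X := by simp [unitSec]

theorem unitSec_act : unitSec (G := G) (X := X) ≫ a.act = 𝟙 X := by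
  have h := Groth.Agent.S18861.act_one a (𝟙 X)
  rw [Hom.one_def] at h
  exact h

theorem subset_orbit (U : Set ↥X.left) :
    U ⊆ a.act.left.base '' ((snd G X).left.base ⁻¹' U) := by
  intro x hx
  refine ⟨(unitSec (G := G) (X := X)).left.base x, ?_, ?_⟩
  · change (snd G X).left.base ((unitSec (G := G) (X := X)).left.base x) ∈ U
    have := congr_arg (fun f => f.left.base x) (unitSec_snd (G := G) (X := X))
    simp only [Over.comp_left, Scheme.Hom.comp_base, TopCat.comp_app, Over.id_left,
      Scheme.Hom.id_base, TopCat.id_app] at this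
    rw [this]
    exact hx
  · have := congr_arg (fun f => f.left.base x) (unitSec_act a)
    simp only [Over.comp_left, Scheme.Hom.comp_base, TopCat.comp_app, Over.id_left,
      Scheme.Hom.id_base, TopCat.id_app] at this
    exact this

theorem orbit_orbit (U : Set ↥X.left) :
    a.act.left.base '' ((snd G X).left.base ⁻¹'
        (a.act.left.base '' ((snd G X).left.base ⁻¹' U))) ⊆
      a.act.left.base '' ((snd G X).left.base ⁻¹' U) := by
  rintro _ ⟨z, ⟨w, hw, hwz⟩, rfl⟩
  -- a point of `G ⊗ (G ⊗ X)` over `z` and `w`
  have sq := (Groth.Agent.Lib.Helper78.FpqcQuot.isPullback_whiskerLeft G a.act).map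
    (Over.forget S)
  obtain ⟨v, hv1, hv2⟩ := exists_preimage_of_isPullback sq z w hwz.symm
  refine ⟨((α_ G G X).inv ≫ (μ[G] ▷ X)).left.base v, ?_, ?_⟩
  · change (snd G X).left.base (((α_ G G X).inv ≫ (μ[G] ▷ X)).left.base v) ∈ U
    have e : ((α_ G G X).inv ≫ (μ[G] ▷ X)) ≫ snd G X = snd G (G ⊗ X) ≫ snd G X := by
      simp
    have := congr_arg (fun f => f.left.base v) e
    simp only [Over.comp_left, Scheme.Hom.comp_base, TopCat.comp_app] at this ⊢
    rw [this]
    change (snd G X).left.base (((Over.forget S).map (snd G (G ⊗ X))).base v) ∈ U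
    rw [hv2]
    exact hw
  · have e : ((α_ G G X).inv ≫ (μ[G] ▷ X)) ≫ a.act = (G ◁ a.act) ≫ a.act := by
      rw [Category.assoc, a.mul_act, Iso.inv_hom_id_assoc]
    have := congr_arg (fun f => f.left.base v) e
    simp only [Over.comp_left, Scheme.Hom.comp_base, TopCat.comp_app] at this ⊢
    rw [this]
    change a.act.left.base (((Over.forget S).map (G ◁ a.act)).base v) = _
    rw [hv1]

end

/-- Let k be a field, G a locally algebraic group over k (a group k-scheme locally of finite type)
acting on a k-scheme X through a : G ×_k X → X, and U an open subset of X. Let G·U ⊆ X be the image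
under a of G ×_k U (the preimage of U under the projection). Then G·U is open in X, contains U, is
G-stable in the sense that a maps G ×_k (G·U) into G·U, and is the smallest such set: every G-stable
open subset of X containing U contains G·U. -/
theorem result (k : Type u) [Field k]
    (G X : Over (Spec (CommRingCat.of k))) [GrpObj G] [LocallyOfFiniteType G.hom] (a : AlgGrp.Action G X)
    (U : Set ↥X.left) (hU : IsOpen U) :
    IsOpen (a.act.left.base '' ((CartesianMonoidalCategory.snd G X).left.base ⁻¹' U)) ∧
      U ⊆ a.act.left.base '' ((CartesianMonoidalCategory.snd G X).left.base ⁻¹' U) ∧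
      a.act.left.base '' ((CartesianMonoidalCategory.snd G X).left.base ⁻¹'
          (a.act.left.base '' ((CartesianMonoidalCategory.snd G X).left.base ⁻¹' U))) ⊆
        a.act.left.base '' ((CartesianMonoidalCategory.snd G X).left.base ⁻¹' U) ∧
      ∀ W : Set ↥X.left, IsOpen W → U ⊆ W →
        a.act.left.base '' ((CartesianMonoidalCategory.snd G X).left.base ⁻¹' W) ⊆ W →
          a.act.left.base '' ((CartesianMonoidalCategory.snd G X).left.base ⁻¹' U) ⊆ W := by
  haveI : UniversallyOpen G.hom := universallyOpen_of_field k G.hom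
  haveI : UniversallyOpen a.act.left := Groth.Agent.S18861.prop_act a @UniversallyOpen inferInstance
  refine ⟨?_, subset_orbit a U, orbit_orbit a U, ?_⟩
  · exact a.act.left.isOpenMap _ (hU.preimage (snd G X).left.continuous)
  · intro W _ hUW hW
    exact (Set.image_mono (Set.preimage_mono hUW)).trans hW

end Groth.Agent.S18824
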