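import Groth.Statements.S9634
import Groth.Agent.Lib.Helper56.GeomReduced
import Mathlib.FieldTheory.PurelyInseparable.PerfectClosure
import Mathlib.FieldTheory.Perfect
-- import your own Groth.Agent.* helpers here

set_option autoImplicit false
universe u
open CAlg

namespace Groth.Agent.S9634

open TensorProduct in
theorem aux {k S F : Type u} [Field k] [CommRing S] [Algebra k S]
    [Field F] [Algebra k F] [Algebra F (AlgebraicClosure k)]
    [IsScalarTower k F (AlgebraicClosure k)] [IsPurelyInseparable k F]
    [Algebra.IsSeparable F (AlgebraicClosure k)]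
    (h : ∀ (k' : Type u) [Field k'] [Algebra k k'] [Module.Finite k k'] [IsPurelyInseparable k k'],
      IsReduced (k' ⊗[k] S)) :
    IsReduced (AlgebraicClosure k ⊗[k] S) := by
  haveI hF : IsReduced (F ⊗[k] S) := by
    refine Groth.Agent.Lib.Helper56.isReduced_of_forall_finite (fun E hE => ?_)
    haveI : IsPurelyInseparable k E := IsPurelyInseparable.tower_bot k E F
    exact h E
  haveI h5 : IsReduced ((F ⊗[k] S) ⊗[F] AlgebraicClosure k) :=
    Groth.Agent.Lib.Helper56.isReduced_tensor_of_forall_field
      (fun κ _ _ => Groth.Agent.Lib.Helper56.isReduced_tensor_of_isSeparable) _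
  let e1 : (F ⊗[k] S) ⊗[F] AlgebraicClosure k ≃+* AlgebraicClosure k ⊗[F] (F ⊗[k] S) :=
    (Algebra.TensorProduct.comm F (F ⊗[k] S) (AlgebraicClosure k)).toRingEquiv
  let e2 : AlgebraicClosure k ⊗[F] (F ⊗[k] S) ≃+* AlgebraicClosure k ⊗[k] S :=
    (Algebra.TensorProduct.cancelBaseChange k F F (AlgebraicClosure k) S).toRingEquiv
  exact isReduced_of_injective (e1.trans e2).symm.toRingHom (e1.trans e2).symm.injective

open TensorProduct in
/-- (1) ⇔ (4) ⇔ (5): for a field k and a k-algebra S the following are equivalent: (1) the ring k' ⊗_k S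
is reduced whenever k'/k is a finite purely inseparable field extension; (4) S is geometrically
reduced in Mathlib's sense, which over a field amounts to k̄ ⊗_k S being reduced for an algebraic
closure k̄; (5) K ⊗_k S is reduced for all field extensions K/k. In (1) and (5) the test fields
range over field extensions in the universe of k; this is equivalent to the unrestricted notion,
since an algebraic closure of k suffices as a test. -/
theorem result {k S : Type u} [Field k] [CommRing S] [Algebra k S] :
    [∀ (k' : Type u) [Field k'] [Algebra k k'] [Module.Finite k k'] [IsPurelyInseparable k k'], IsReduced (k' ⊗[k] S),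
      Algebra.IsGeometricallyReduced k S,
      ∀ (K : Type u) [Field K] [Algebra k K], IsReduced (K ⊗[k] S)].TFAE := by
  tfae_have 3 → 1 := fun h k' _ _ _ _ => h k'
  tfae_have 3 → 2 := fun h =>
    (Algebra.isGeometricallyReduced_field_iff k S).mpr (h (AlgebraicClosure k))
  tfae_have 2 → 3 := by
    intro h K _ _
    haveI : IsReduced (AlgebraicClosure k ⊗[k] S) :=
      (Algebra.isGeometricallyReduced_field_iff k S).mp h
    let Ω := AlgebraicClosure K
    let f : AlgebraicClosure k →ₐ[k] Ω := IsAlgClosed.lift
    letI : Algebra (AlgebraicClosure k) Ω := f.toRingHom.toAlgebra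
    haveI : IsScalarTower k (AlgebraicClosure k) Ω :=
      IsScalarTower.of_algebraMap_eq (fun x => (f.commutes x).symm)
    haveI h5 : IsReduced ((AlgebraicClosure k ⊗[k] S) ⊗[AlgebraicClosure k] Ω) :=
      Groth.Agent.Lib.Helper56.isReduced_tensor_of_isAlgClosed
    let e1 : (AlgebraicClosure k ⊗[k] S) ⊗[AlgebraicClosure k] Ω ≃+*
        Ω ⊗[AlgebraicClosure k] (AlgebraicClosure k ⊗[k] S) :=
      (Algebra.TensorProduct.comm (AlgebraicClosure k) (AlgebraicClosure k ⊗[k] S) Ω).toRingEquiv
    let e2 : Ω ⊗[AlgebraicClosure k] (AlgebraicClosure k ⊗[k] S) ≃+* Ω ⊗[k] S :=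
      (Algebra.TensorProduct.cancelBaseChange k (AlgebraicClosure k) (AlgebraicClosure k)
        Ω S).toRingEquiv
    haveI h6 : IsReduced (Ω ⊗[k] S) :=
      isReduced_of_injective (e1.trans e2).symm.toRingHom (e1.trans e2).symm.injective
    let φ : K ⊗[k] S →ₐ[k] Ω ⊗[k] S :=
      Algebra.TensorProduct.map (IsScalarTower.toAlgHom k K Ω) (AlgHom.id k S)
    have hφ : Function.Injective φ :=
      Module.Flat.rTensor_preserves_injective_linearMap (M := S)
        (IsScalarTower.toAlgHom k K Ω).toLinearMap (algebraMap K Ω).injective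
    exact isReduced_of_injective φ hφ
  tfae_have 1 → 2 := by
    intro h
    rw [Algebra.isGeometricallyReduced_field_iff]
    haveI : Algebra.IsSeparable (perfectClosure k (AlgebraicClosure k)) (AlgebraicClosure k) :=
      Algebra.IsAlgebraic.isSeparable_of_perfectField
    exact aux (F := perfectClosure k (AlgebraicClosure k)) h
  tfae_finish

end Groth.Agent.S9634
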