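import Groth.Statements.S1548
import Mathlib
import Groth.Agent.S9634

set_option autoImplicit false
universe u
open CategoryTheory CategoryTheory.Limits AlgebraicGeometry
open Variety

namespace Groth.Agent.S1548

open TensorProduct in
/-- Affine piece: reducedness of `Spec R ×_k Spec K` for all `K` from the finite purely inseparable ones. -/
theorem isReduced_pullback_affine (k : Type u) [Field k] (R : CommRingCat.{u})
    (a : Spec R ⟶ Spec (CommRingCat.of k))
    (h : ∀ (k' : Type u) [Field k'] [Algebra k k'] [FiniteDimensional k k'] [IsPurelyInseparable k k'],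
      AlgebraicGeometry.IsReduced
        (Limits.pullback a (Spec.map (CommRingCat.ofHom (algebraMap k k')))))
    (K : Type u) [Field K] [Algebra k K] :
    AlgebraicGeometry.IsReduced
      (Limits.pullback a (Spec.map (CommRingCat.ofHom (algebraMap k K)))) := by
  obtain ⟨φ, rfl⟩ := Spec.map_surjective a
  algebraize [φ.hom]
  have hφ : φ = CommRingCat.ofHom (algebraMap k R) := rfl
  rw [hφ] at h ⊢
  have key : ∀ (L : Type u) [Field L] [Algebra k L],
      AlgebraicGeometry.IsReduced (Limits.pullback (Spec.map (CommRingCat.ofHom (algebraMap k R)))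
        (Spec.map (CommRingCat.ofHom (algebraMap k L)))) ↔ _root_.IsReduced (L ⊗[k] R) := by
    intro L _ _
    have e := pullbackSpecIso k R L
    have h1 : AlgebraicGeometry.IsReduced (Limits.pullback (Spec.map (CommRingCat.ofHom (algebraMap k R)))
        (Spec.map (CommRingCat.ofHom (algebraMap k L)))) ↔
        AlgebraicGeometry.IsReduced (Spec (CommRingCat.of (R ⊗[k] L))) :=
      ⟨fun _ => isReduced_of_isOpenImmersion e.inv, fun _ => isReduced_of_isOpenImmersion e.hom⟩
    rw [h1, affine_isReduced_iff]
    let c : (R ⊗[k] L) ≃+* (L ⊗[k] R) := (Algebra.TensorProduct.comm k R L).toRingEquiv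
    constructor
    · intro _
      exact isReduced_of_injective c.symm.toRingHom c.symm.injective
    · intro _
      exact isReduced_of_injective c.toRingHom c.injective
  rw [key]
  have tfae := Groth.Agent.S9634.result (k := k) (S := R)
  have h02 := tfae.out 0 2
  refine h02.1 ?_ K
  intro k' _ _ _ _
  rw [← key]
  exact h k'

/-- Let k be a field of characteristic p > 0. If the base change X_{k'} is reduced whenever k' is a
finite purely inseparable extension of k, then X is geometrically reduced over k. -/
theorem result (k : Type u) [Field k] (p : ℕ) [Fact p.Prime] [CharP k p]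
    (X : Scheme.{u}) [X.Over (Spec (CommRingCat.of k))]
    (h : ∀ (k' : Type u) [Field k'] [Algebra k k'] [FiniteDimensional k k'] [IsPurelyInseparable k k'], IsReduced (Curv2.bc k X k')) :
    GeometricallyReduced (X ↘ (Spec (CommRingCat.of k))) := by
  refine ⟨?_⟩
  rw [geometrically_iff_of_commRing_of_isClosedUnderIsomorphisms]
  intro K _ _
  refine @IsReduced.of_openCover _ (Scheme.Pullback.openCoverOfLeft X.affineCover
    (X ↘ (Spec (CommRingCat.of k))) (Spec.map (CommRingCat.ofHom (algebraMap k K)))) ?_
  intro i
  refine isReduced_pullback_affine k _ (X.affineCover.f i ≫ (X ↘ (Spec (CommRingCat.of k)))) ?_ K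
  intro k' _ _ _ _
  haveI := h k'
  let 𝒰' := Scheme.Pullback.openCoverOfLeft X.affineCover
    (X ↘ (Spec (CommRingCat.of k))) (Spec.map (CommRingCat.ofHom (algebraMap k k')))
  exact @isReduced_of_isOpenImmersion _ _ (𝒰'.f i) (𝒰'.map_prop i) (h k')

end Groth.Agent.S1548
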