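import Groth.Statements.S4628
import Mathlib.AlgebraicGeometry.Morphisms.Flat
import Mathlib.AlgebraicGeometry.Noetherian
import Mathlib.RingTheory.FiniteType

set_option autoImplicit false
open CategoryTheory AlgebraicGeometry
universe u
open FBase

namespace Groth.Agent.S4628

open CategoryTheory.Limits in
theorem geomReduced_comp_openImmersion {U X Y : Scheme.{u}} (j : U ⟶ X) (f : X ⟶ Y)
    [IsOpenImmersion j] [GeometricallyReduced f] : GeometricallyReduced (j ≫ f) := by
  refine ⟨geometrically_iff_of_isClosedUnderIsomorphisms.mpr fun K _ y ↦ ?_⟩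
  have h1 : AlgebraicGeometry.IsReduced (pullback f y) :=
    pullback_of_geometrically (GeometricallyReduced.geometrically_isReduced) K y
  let e := pullbackRightPullbackFstIso f y j
  have h2 : AlgebraicGeometry.IsReduced (pullback j (pullback.fst f y)) :=
    isReduced_of_isOpenImmersion (pullback.snd j (pullback.fst f y))
  exact isReduced_of_isOpenImmersion e.inv

open CategoryTheory.Limits TensorProduct in
theorem isReduced_tensor {k A B : Type u} [Field k] [CommRing A] [CommRing B] [Algebra k A]
    [Algebra k B]
    (hA : GeometricallyReduced (Spec.map (CommRingCat.ofHom (algebraMap k A))))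
    [_root_.IsReduced B] :
    _root_.IsReduced (A ⊗[k] B) := by
  apply IsReduced.tensorProduct_of_flat_of_forall_fg
  intro B' hB'
  haveI : _root_.IsReduced B' := isReduced_of_injective B'.val Subtype.val_injective
  haveI : Algebra.FiniteType k B' := ⟨(Subalgebra.fg_top B').mpr hB'⟩
  haveI : IsNoetherianRing B' := Algebra.FiniteType.isNoetherianRing k B'
  let f := Spec.map (CommRingCat.ofHom (algebraMap k A))
  let g := Spec.map (CommRingCat.ofHom (algebraMap k B'))
  haveI : GeometricallyReduced f := hA
  haveI : AlgebraicGeometry.IsReduced (Spec (CommRingCat.of B')) := inferInstance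
  haveI : IsLocallyNoetherian (Spec (CommRingCat.of B')) := inferInstance
  have h : AlgebraicGeometry.IsReduced (pullback f g) := inferInstance
  have h' : AlgebraicGeometry.IsReduced (Spec (CommRingCat.of (A ⊗[k] B'))) :=
    isReduced_of_isOpenImmersion (pullbackSpecIso k A B').inv
  exact (affine_isReduced_iff _).mp h'

open CategoryTheory.Limits TensorProduct in
theorem isReduced_pullback_of_isAffine {k : Type u} [Field k] {U V : Scheme.{u}} [IsAffine U]
    [IsAffine V] (a : U ⟶ Spec (CommRingCat.of k)) (b : V ⟶ Spec (CommRingCat.of k))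
    [GeometricallyReduced a] [AlgebraicGeometry.IsReduced V] :
    AlgebraicGeometry.IsReduced (pullback a b) := by
  obtain ⟨φ, hφ⟩ := Spec.map_surjective (U.isoSpec.inv ≫ a)
  obtain ⟨ψ, hψ⟩ := Spec.map_surjective (V.isoSpec.inv ≫ b)
  have ha : a = U.isoSpec.hom ≫ Spec.map φ := by rw [hφ]; simp
  have hb : b = V.isoSpec.hom ≫ Spec.map ψ := by rw [hψ]; simp
  let i : pullback a b ⟶ pullback (Spec.map φ) (Spec.map ψ) :=
    pullback.map _ _ _ _ U.isoSpec.hom V.isoSpec.hom (𝟙 _) (by simp [ha]) (by simp [hb])
  haveI : IsIso i := by dsimp only [i]; infer_instance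
  suffices AlgebraicGeometry.IsReduced (pullback (Spec.map φ) (Spec.map ψ)) from
    isReduced_of_isOpenImmersion i
  haveI : GeometricallyReduced (Spec.map φ) := by
    rw [hφ]
    exact geomReduced_comp_openImmersion _ _
  haveI : _root_.IsReduced Γ(V, ⊤) := inferInstance
  algebraize [φ.hom, ψ.hom]
  have h1 : _root_.IsReduced (Γ(U, ⊤) ⊗[k] Γ(V, ⊤)) := isReduced_tensor ‹_›
  have h2 : AlgebraicGeometry.IsReduced (Spec (CommRingCat.of (Γ(U, ⊤) ⊗[k] Γ(V, ⊤)))) :=
    inferInstance
  exact isReduced_of_isOpenImmersion (pullbackSpecIso k Γ(U, ⊤) Γ(V, ⊤)).hom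

open CategoryTheory.Limits in
/-- Let X be a scheme over a field k which is geometrically reduced (X ⊗_k K is reduced for every
extension field K of k), and let S be any reduced scheme over k. Then the product X ×_k S is
reduced. (No Noetherian or finiteness assumption on S.) -/
theorem result {k : Type u} [Field k] {X S : Scheme.{u}}
    (f : X ⟶ Spec (CommRingCat.of k)) (g : S ⟶ Spec (CommRingCat.of k)) [GeometricallyReduced f]
    [AlgebraicGeometry.IsReduced S] : AlgebraicGeometry.IsReduced (pullback f g) := by
  refine @IsReduced.of_openCover _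
    (Scheme.Pullback.openCoverOfLeftRight X.affineCover S.affineCover f g) ?_
  rintro ⟨i, j⟩
  change AlgebraicGeometry.IsReduced (pullback (X.affineCover.f i ≫ f) (S.affineCover.f j ≫ g))
  haveI := geomReduced_comp_openImmersion (X.affineCover.f i) f
  exact isReduced_pullback_of_isAffine _ _

end Groth.Agent.S4628
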