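import Groth.Statements.S0544
import Mathlib.RingTheory.AdicCompletion.Functoriality
import Mathlib.RingTheory.Finiteness.Basic
import Mathlib.LinearAlgebra.Finsupp.LinearCombination

set_option autoImplicit false
universe u
open CAlg

namespace Groth.Agent.S0544

theorem mem_smul_top_pi_iff {R : Type u} [CommRing R] (J : Ideal R) {ι : Type} [Fintype ι]
    [DecidableEq ι] (x : ι → R) :
    x ∈ (J • ⊤ : Submodule R (ι → R)) ↔ ∀ i, x i ∈ J := by
  constructor
  · intro hx i
    have h1 : (LinearMap.proj i : (ι → R) →ₗ[R] R) x ∈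
        Submodule.map (LinearMap.proj i : (ι → R) →ₗ[R] R) (J • ⊤) := Submodule.mem_map_of_mem hx
    rw [Submodule.map_smul''] at h1
    have h2 : J • Submodule.map (LinearMap.proj i : (ι → R) →ₗ[R] R) ⊤ ≤ J • ⊤ :=
      Submodule.smul_mono le_rfl le_top
    have h3 := h2 h1
    simpa using h3
  · intro hx
    have : x = ∑ i, x i • (Pi.single i (1 : R) : ι → R) := by
      ext j
      simp [Finset.sum_apply, Pi.single_apply]
    rw [this]
    exact Submodule.sum_mem _ fun i _ => Submodule.smul_mem_smul (hx i) Submodule.mem_top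

theorem isPrecomplete_pi {R : Type u} [CommRing R] (I : Ideal R) [IsPrecomplete I R]
    {ι : Type} [Fintype ι] [DecidableEq ι] : IsPrecomplete I (ι → R) := by
  constructor
  intro f hf
  have hcomp : ∀ i, ∃ L : R, ∀ n, (fun k => f k i) n ≡ L [SMOD (I ^ n • ⊤ : Submodule R R)] := by
    intro i
    apply IsPrecomplete.prec'
    intro m n hmn
    have h := hf hmn
    rw [SModEq.sub_mem] at h ⊢
    have h' := (mem_smul_top_pi_iff (I ^ m) (f m - f n)).mp h i
    simpa using h'
  choose L hL using hcomp
  refine ⟨L, fun n => ?_⟩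
  rw [SModEq.sub_mem]
  refine (mem_smul_top_pi_iff (I ^ n) (f n - L)).mpr fun i => ?_
  have h := hL i n
  rw [SModEq.sub_mem] at h
  simpa using h

/-- Let `R` be complete with respect to an ideal `I` and `M` an `R`-module which is `I`-adically
separated and such that `M/IM` is finitely generated. Then `M` is a finitely generated `R`-module. -/
theorem result (R : Type u) [CommRing R]
    (I : Ideal R) [IsAdicComplete I R] (M : Type u) [AddCommGroup M] [Module R M] [IsHausdorff I M]
    (h : Module.Finite R (M ⧸ (I • ⊤ : Submodule R M))) : Module.Finite R M := by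
  classical
  obtain ⟨n, s, hs⟩ := Module.Finite.exists_fin (R := R) (M := M ⧸ (I • ⊤ : Submodule R M))
  choose x hx using fun i => Submodule.Quotient.mk_surjective _ (s i)
  let f : (Fin n → R) →ₗ[R] M := Fintype.linearCombination R x
  haveI : IsPrecomplete I (Fin n → R) := isPrecomplete_pi I
  have hsurj : Function.Surjective ((I • ⊤ : Submodule R M).mkQ ∘ₗ f) := by
    rw [← LinearMap.range_eq_top, LinearMap.range_comp, Fintype.range_linearCombination,
      Submodule.map_span, ← hs]
    congr 1
    ext y
    constructor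
    · rintro ⟨_, ⟨i, rfl⟩, rfl⟩
      exact ⟨i, (hx i).symm⟩
    · rintro ⟨i, rfl⟩
      exact ⟨x i, ⟨i, rfl⟩, hx i⟩
  have hf : Function.Surjective f := surjective_of_mkQ_comp_surjective hsurj
  exact Module.Finite.of_surjective f hf

end Groth.Agent.S0544
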