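import Groth.Statements.S0569
import Groth.Agent.Lib.Helper38.Tate

set_option autoImplicit false
universe u
open CAlg

namespace Groth.Agent.S0569

/-- Let `R` be an integrally closed Noetherian domain and `x` an element such that `R/xR` is a domain
which is N-2 and `R` is complete with respect to `xR`. Then `R` is N-2. -/
theorem result (R : Type u) [CommRing R] [IsDomain R]
    [IsNoetherianRing R] [IsIntegrallyClosed R] (x : R) [(Ideal.span ({x} : Set R)).IsPrime]
    (h2 : CAlg.IsN2 (R ⧸ Ideal.span ({x} : Set R))) [IsAdicComplete (Ideal.span ({x} : Set R)) R] :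
    CAlg.IsN2 R := by
  by_cases hx : x = 0
  · subst hx
    have e : (R ⧸ Ideal.span ({0} : Set R)) ≃+* R :=
      (Ideal.quotEquivOfEq (by simp)).trans (RingEquiv.quotientBot R)
    exact Groth.Agent.Lib.Helper38.Tate.isN2_of_ringEquiv e h2
  · apply Groth.Agent.Lib.Helper38.InsepReduction.isN2_of_purelyInseparable
    intro P _ _ _ _ hfd hpi
    exact Groth.Agent.Lib.Helper38.Tate.finite_integralClosure_insep R x hx h2 P

end Groth.Agent.S0569
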