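import Groth.Statements.S9391
import Mathlib

set_option autoImplicit false
universe u
open CAlg

namespace Groth.Agent.S9391

theorem finite_integralClosure_of_isLocalization {R : Type*} [CommRing R] (M : Submonoid R)
    {S : Type*} [CommRing S] [Algebra R S] [IsLocalization M S]
    {L : Type*} [CommRing L] [Algebra R L] [Algebra S L] [IsScalarTower R S L]
    (h : Module.Finite R (integralClosure R L)) : Module.Finite S (integralClosure S L) := by
  have hfg : (integralClosure R L).toSubmodule.FG := by
    rw [← Module.Finite.iff_fg]
    exact h
  obtain ⟨t, ht⟩ := hfg
  have heq : (integralClosure S L).toSubmodule = Submodule.span S (t : Set L) := by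
    apply le_antisymm
    · intro x hx
      have hx' : IsIntegral S x := hx
      obtain ⟨m, hm⟩ := IsIntegral.exists_multiple_integral_of_isLocalization M x hx'
      have hmem : (m • x) ∈ (integralClosure R L).toSubmodule := hm
      rw [← ht] at hmem
      have hmem2 : (m • x) ∈ Submodule.span S (t : Set L) := by
        have hle : Submodule.span R (t : Set L) ≤ (Submodule.span S (t : Set L)).restrictScalars R :=
          Submodule.span_le_restrictScalars R S _
        exact hle hmem
      have hu : IsUnit (algebraMap R S (m : R)) := IsLocalization.map_units S m
      obtain ⟨u, hu'⟩ := hu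
      have hx2 : x = (↑u⁻¹ : S) • (m • x) := by
        rw [Submonoid.smul_def, ← algebraMap_smul S (m : R) x, ← hu', smul_smul,
          Units.inv_mul, one_smul]
      rw [hx2]
      exact Submodule.smul_mem _ _ hmem2
    · rw [Submodule.span_le]
      intro x hx
      have hxR : x ∈ (integralClosure R L).toSubmodule := by
        rw [← ht]
        exact Submodule.subset_span hx
      have : IsIntegral R x := hxR
      exact this.tower_top
  have hfin : Module.Finite S (integralClosure S L).toSubmodule :=
    Module.Finite.iff_fg.mpr ⟨t, heq.symm⟩
  exact hfin


/-- A localization of an N-1 domain which is again a domain is N-1. -/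
theorem result (R : Type u) [CommRing R] [IsDomain R] (M : Submonoid R)
    (S : Type u) [CommRing S] [IsDomain S] [Algebra R S] [IsLocalization M S]
    (h : CAlg.IsN1 R) : CAlg.IsN1 S := by
  have hM : M ≤ nonZeroDivisors R := by
    intro m hm
    rw [mem_nonZeroDivisors_iff_ne_zero]
    rintro rfl
    have hu := IsLocalization.map_units S (⟨0, hm⟩ : M)
    rw [map_zero] at hu
    exact not_isUnit_zero hu
  have hunits : ∀ y : M, IsUnit (algebraMap R (FractionRing R) y) := fun y =>
    IsLocalization.map_units (FractionRing R) (⟨y, hM y.2⟩ : nonZeroDivisors R)
  let _ : Algebra S (FractionRing R) := (IsLocalization.lift hunits).toAlgebra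
  have htower : IsScalarTower R S (FractionRing R) :=
    IsScalarTower.of_algebraMap_eq fun x => (IsLocalization.lift_eq hunits x).symm
  have hfrac : IsFractionRing S (FractionRing R) :=
    IsFractionRing.isFractionRing_of_isDomain_of_isLocalization M S (FractionRing R)
  have h1 : Module.Finite S (integralClosure S (FractionRing R)) :=
    finite_integralClosure_of_isLocalization M h
  let e : FractionRing S ≃ₐ[S] FractionRing R := FractionRing.algEquiv S (FractionRing R)
  exact Module.Finite.equiv (e.symm.mapIntegralClosure).toLinearEquiv

end Groth.Agent.S9391
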