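import Groth.Statements.S9393
import Mathlib

set_option autoImplicit false
universe u
open CAlg

namespace Groth.Agent.S9393

theorem finite_integralClosure_of_cover {R : Type*} [CommRing R] {ι : Type*} [Finite ι] (f : ι → R)
    (hf : Ideal.span (Set.range f) = ⊤)
    (Rf : ι → Type*) [∀ i, CommRing (Rf i)] [∀ i, Algebra R (Rf i)]
    [∀ i, IsLocalization.Away (f i) (Rf i)]
    {L : Type*} [CommRing L] [Algebra R L] [∀ i, Algebra (Rf i) L] [∀ i, IsScalarTower R (Rf i) L]
    (h : ∀ i, Module.Finite (Rf i) (integralClosure (Rf i) L)) :
    Module.Finite R (integralClosure R L) := by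
  classical
  have _ := Fintype.ofFinite ι
  have hfg : ∀ i, (integralClosure (Rf i) L).toSubmodule.FG := fun i => by
    rw [← Module.Finite.iff_fg]
    exact h i
  choose t ht using hfg
  -- scale each generator to be integral over R
  have hscale : ∀ i, ∀ y : L, y ∈ t i → ∃ m : Submonoid.powers (f i), IsIntegral R (m • y) := by
    intro i y hy
    have hy' : y ∈ (integralClosure (Rf i) L).toSubmodule := by
      rw [← ht i]
      exact Submodule.subset_span hy
    exact IsIntegral.exists_multiple_integral_of_isLocalization (Submonoid.powers (f i)) y hy'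
  choose m hm using hscale
  let t' : ∀ i, Finset L := fun i => (t i).attach.image (fun y => (m i y.1 y.2) • y.1)
  have ht'int : ∀ i, ∀ z ∈ t' i, IsIntegral R z := by
    intro i z hz
    simp only [t', Finset.mem_image, Finset.mem_attach, true_and] at hz
    obtain ⟨y, rfl⟩ := hz
    exact hm i y.1 y.2
  have hspan : ∀ i, Submodule.span (Rf i) (t i : Set L) ≤ Submodule.span (Rf i) (t' i : Set L) := by
    intro i
    rw [Submodule.span_le]
    intro y hy
    have hmem : (m i y hy) • y ∈ Submodule.span (Rf i) (t' i : Set L) := by
      apply Submodule.subset_span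
      simp only [t', Finset.coe_image, Set.mem_image, Finset.mem_coe, Finset.mem_attach, true_and]
      exact ⟨⟨y, hy⟩, rfl⟩
    have hu : IsUnit (algebraMap R (Rf i) (m i y hy : R)) := IsLocalization.map_units (Rf i) (m i y hy)
    obtain ⟨u, hu'⟩ := hu
    have hx2 : y = (↑u⁻¹ : Rf i) • ((m i y hy) • y) := by
      rw [Submonoid.smul_def, ← algebraMap_smul (Rf i) (m i y hy : R) y, ← hu', smul_smul,
        Units.inv_mul, one_smul]
    rw [SetLike.mem_coe, hx2]
    exact Submodule.smul_mem _ _ hmem
  let N : Submodule R L := ⨆ i, Submodule.span R (t' i : Set L)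
  have hNfg : N.FG := Submodule.fg_iSup _ fun i => Submodule.fg_span (Finset.finite_toSet _)
  have heq : (integralClosure R L).toSubmodule = N := by
    apply le_antisymm
    · intro x hx
      have hxint : IsIntegral R x := hx
      apply Submodule.mem_of_span_eq_top_of_smul_pow_mem N (Set.range f) hf x
      rintro ⟨_, i, rfl⟩
      have hxi : x ∈ (integralClosure (Rf i) L).toSubmodule := hxint.tower_top
      rw [← ht i] at hxi
      have hxi' := hspan i hxi
      obtain ⟨⟨_, n, rfl⟩, hn⟩ := multiple_mem_span_of_mem_localization_span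
        (Submonoid.powers (f i)) (Rf i) (t' i : Set L) x hxi'
      refine ⟨n, ?_⟩
      exact (le_iSup (fun i => Submodule.span R (t' i : Set L)) i) hn
    · apply iSup_le
      intro i
      rw [Submodule.span_le]
      intro z hz
      exact ht'int i z hz
  have hfin : Module.Finite R (integralClosure R L).toSubmodule := by
    rw [Module.Finite.iff_fg, heq]
    exact hNfg
  exact hfin

theorem powers_le_nonZeroDivisors {R : Type*} [CommRing R] [IsDomain R] (M : Submonoid R)
    (S : Type*) [CommRing S] [Nontrivial S] [Algebra R S] [IsLocalization M S] :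
    M ≤ nonZeroDivisors R := by
  intro m hm
  rw [mem_nonZeroDivisors_iff_ne_zero]
  rintro rfl
  have hu := IsLocalization.map_units S (⟨0, hm⟩ : M)
  rw [map_zero] at hu
  exact not_isUnit_zero hu

theorem exists_algebra_finite_of_isN1 (R : Type u) [CommRing R] [IsDomain R] (M : Submonoid R)
    (S : Type u) [CommRing S] [IsDomain S] [Algebra R S] [IsLocalization M S]
    (h : CAlg.IsN1 S) :
    ∃ (a : Algebra S (FractionRing R)) (_ : IsScalarTower R S (FractionRing R)),
      Module.Finite S (integralClosure S (FractionRing R)) := by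
  have hM : M ≤ nonZeroDivisors R := powers_le_nonZeroDivisors M S
  have hunits : ∀ y : M, IsUnit (algebraMap R (FractionRing R) y) := fun y =>
    IsLocalization.map_units (FractionRing R) (⟨y, hM y.2⟩ : nonZeroDivisors R)
  let a : Algebra S (FractionRing R) := (IsLocalization.lift hunits).toAlgebra
  have htower : IsScalarTower R S (FractionRing R) :=
    IsScalarTower.of_algebraMap_eq fun x => (IsLocalization.lift_eq hunits x).symm
  have hfrac : IsFractionRing S (FractionRing R) :=
    IsFractionRing.isFractionRing_of_isDomain_of_isLocalization M S (FractionRing R)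
  let e : FractionRing S ≃ₐ[S] FractionRing R := FractionRing.algEquiv S (FractionRing R)
  have h' : Module.Finite S (integralClosure S (FractionRing S)) := h
  exact ⟨a, htower, Module.Finite.equiv (e.mapIntegralClosure).toLinearEquiv⟩

/-- Being N-1 can be checked on a finite cover of Spec R by principal opens whose rings are N-1 domains. -/
theorem result (R : Type u) [CommRing R] [IsDomain R]
    {ι : Type u} [Finite ι] (f : ι → R) (hf : Ideal.span (Set.range f) = ⊤)
    (Rf : ι → Type u) [∀ i, CommRing (Rf i)] [∀ i, IsDomain (Rf i)] [∀ i, Algebra R (Rf i)]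
    [∀ i, IsLocalization.Away (f i) (Rf i)] (h : ∀ i, CAlg.IsN1 (Rf i)) : CAlg.IsN1 R := by
  choose a h1 h2 using fun i =>
    exists_algebra_finite_of_isN1 R (Submonoid.powers (f i)) (Rf i) (h i)
  exact @finite_integralClosure_of_cover R _ ι _ f hf Rf _ _ _ (FractionRing R) _ _ a h1 h2

end Groth.Agent.S9393
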