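import Groth.Statements.S2114
import Mathlib
import Groth.Agent.S9391
import Groth.Agent.S9393

set_option autoImplicit false
universe u
open CAlg

namespace Groth.Agent.S2114

/-- ZMT-type statement: if `r ∈ S` is integral over `R` and every `x ∈ S` has `r ^ m * x` integral,
then `S[1/r]` is also the localization of the integral closure of `R` in `S` at `r`. -/
theorem isLocalization_away_integralClosure {R S : Type*} [CommRing R] [CommRing S] [Algebra R S]
    (r : S) (hr : IsIntegral R r) (h : ∀ x : S, ∃ m : ℕ, IsIntegral R (r ^ m * x))
    (T : Type*) [CommRing T] [Algebra S T] [IsLocalization.Away r T] :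
    IsLocalization.Away (⟨r, hr⟩ : integralClosure R S) T := by
  let r' : integralClosure R S := ⟨r, hr⟩
  refine ⟨?_, ?_, ?_⟩
  · rintro ⟨y, n, rfl⟩
    have : IsUnit (algebraMap S T (r ^ n)) :=
      IsLocalization.map_units T (⟨r ^ n, n, rfl⟩ : Submonoid.powers r)
    exact this
  · intro z
    obtain ⟨⟨s, ⟨_, n, rfl⟩⟩, hz⟩ := IsLocalization.surj (Submonoid.powers r) z
    obtain ⟨m, hm⟩ := h s
    refine ⟨(⟨r ^ m * s, hm⟩, ⟨r' ^ (n + m), n + m, rfl⟩), ?_⟩
    change z * algebraMap S T (r ^ (n + m)) = algebraMap S T (r ^ m * s)
    rw [pow_add, map_mul, ← mul_assoc, hz, map_mul, mul_comm]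
  · intro a b hab
    have hab' : algebraMap S T (a : S) = algebraMap S T (b : S) := hab
    obtain ⟨⟨_, k, rfl⟩, hc⟩ := IsLocalization.exists_of_eq (M := Submonoid.powers r) hab'
    refine ⟨⟨r' ^ k, k, rfl⟩, ?_⟩
    apply Subtype.ext
    exact hc

/-- Let `R ⊆ S` be an extension of domains which is of finite type and quasi-finite, with `R` Noetherian
and N-2 (integral closures in finite extensions of the fraction field are finite). Then `S` is N-2. -/
theorem result {R S : Type u} [CommRing R] [IsDomain R] [IsNoetherianRing R] [CommRing S]
    [IsDomain S] [Algebra R S] (hinj : Function.Injective (algebraMap R S)) [Algebra.FiniteType R S]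
    [Algebra.QuasiFinite R S] (hR : CAlg.IsN2 R) : CAlg.IsN2 S := by
  classical
  intro L _ _ _ _ hfd
  let _ : Algebra R L := ((algebraMap S L).comp (algebraMap R S)).toAlgebra
  have htRSL : IsScalarTower R S L := IsScalarTower.of_algebraMap_eq fun x => rfl
  let FS := FractionRing S
  have hinjSL : Function.Injective (algebraMap S L) := by
    rw [IsScalarTower.algebraMap_eq S FS L]
    exact (algebraMap FS L).injective.comp (IsFractionRing.injective S FS)
  have hinjRL : Function.Injective (algebraMap R L) := hinjSL.comp hinj
  have : FaithfulSMul R L := (faithfulSMul_iff_algebraMap_injective R L).mpr hinjRL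
  let K := FractionRing R
  let _ : Algebra K L := FractionRing.liftAlgebra R L
  have htRKL : IsScalarTower R K L := FractionRing.isScalarTower_liftAlgebra R L
  have hinjRFS : Function.Injective (algebraMap R FS) := by
    rw [IsScalarTower.algebraMap_eq R S FS]
    exact (IsFractionRing.injective S FS).comp hinj
  have : FaithfulSMul R FS := (faithfulSMul_iff_algebraMap_injective R FS).mpr hinjRFS
  let _ : Algebra K FS := FractionRing.liftAlgebra R FS
  have htRKFS : IsScalarTower R K FS := FractionRing.isScalarTower_liftAlgebra R FS
  have htKFSL : IsScalarTower K FS L := by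
    apply IsScalarTower.of_algebraMap_eq'
    apply IsLocalization.ringHom_ext (nonZeroDivisors R)
    ext x
    simp only [RingHom.comp_apply]
    rw [← IsScalarTower.algebraMap_apply R K L, ← IsScalarTower.algebraMap_apply R K FS,
      IsScalarTower.algebraMap_apply R S FS, ← IsScalarTower.algebraMap_apply S FS L,
      ← IsScalarTower.algebraMap_apply R S L]
  have hqf : Algebra.QuasiFinite K FS := Algebra.QuasiFinite.of_restrictScalars R K FS
  have hfinKFS : Module.Finite K FS := Module.Finite.of_quasiFinite
  have hfdKL : FiniteDimensional K L := Module.Finite.trans FS L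
  have hT : Module.Finite R (integralClosure R L) := hR L hfdKL
  -- the integral closure of R in S
  let S' := integralClosure R S
  have hS'int : Algebra.IsIntegral R S' := inferInstance
  have hEq : ((integralClosure S' L).toSubmodule.restrictScalars R) =
      (integralClosure R L).toSubmodule := by
    ext x
    constructor
    · intro hx
      exact isIntegral_trans (A := S') x hx
    · intro hx
      exact IsIntegral.tower_top hx
  have h2 : Module.Finite R ((integralClosure S' L).toSubmodule.restrictScalars R) := by
    rw [hEq]
    exact hT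
  have h3 : Module.Finite R (integralClosure S' L) := h2
  have h4 : Module.Finite S' (integralClosure S' L) :=
    Module.Finite.of_restrictScalars_finite R S' _
  -- ZMT
  let Rs : Set S := {r | r ≠ 0 ∧ IsIntegral R r ∧ ∀ x : S, ∃ m : ℕ, IsIntegral R (r ^ m * x)}
  have hspan : Ideal.span Rs = ⊤ := by
    by_contra hne
    obtain ⟨p, hpmax, hle⟩ := Ideal.exists_le_maximal _ hne
    have hpprime : p.IsPrime := hpmax.isPrime
    have hZ : Algebra.ZariskisMainProperty R p := Algebra.ZariskisMainProperty.of_finiteType p
    obtain ⟨r, hrp, hrint, hr⟩ := Algebra.zariskisMainProperty_iff.mp hZ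
    have hr0 : r ≠ 0 := fun h0 => hrp (h0 ▸ p.zero_mem)
    exact hrp (hle (Ideal.subset_span ⟨hr0, hrint, hr⟩))
  obtain ⟨s', hs'sub, hs'span⟩ := (Ideal.span_eq_top_iff_finite Rs).mp hspan
  have hspan' : Ideal.span (Set.range (fun i : s' => (i : S))) = ⊤ := by
    rw [Subtype.range_coe_subtype]
    exact hs'span
  have hunit : ∀ i : s', ∀ y : Submonoid.powers (i : S), IsUnit (algebraMap S L y) := by
    rintro i ⟨_, n, rfl⟩
    rw [isUnit_iff_ne_zero, Ne, map_eq_zero_iff _ hinjSL]
    exact pow_ne_zero _ (hs'sub i.2).1
  let alg : ∀ i : s', Algebra (Localization.Away (i : S)) L := fun i =>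
    (IsLocalization.lift (hunit i)).toAlgebra
  have htower : ∀ i : s', IsScalarTower S (Localization.Away (i : S)) L := fun i =>
    IsScalarTower.of_algebraMap_eq fun x => (IsLocalization.lift_eq (hunit i) x).symm
  refine @Groth.Agent.S9393.finite_integralClosure_of_cover S _ s' _ (fun i => (i : S)) hspan'
    (fun i => Localization.Away (i : S)) _ _ _ L _ _ alg htower ?_
  intro i
  obtain ⟨hi0, hiint, hi⟩ := hs'sub i.2
  have hloc : IsLocalization.Away (⟨(i : S), hiint⟩ : S') (Localization.Away (i : S)) :=
    isLocalization_away_integralClosure (i : S) hiint hi (Localization.Away (i : S))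
  let _ := alg i
  have := htower i
  have htower' : IsScalarTower S' (Localization.Away (i : S)) L :=
    IsScalarTower.of_algebraMap_eq fun x => by
      change algebraMap S L (x : S) = algebraMap (Localization.Away (i : S)) L
        (algebraMap S (Localization.Away (i : S)) (x : S))
      rw [← IsScalarTower.algebraMap_apply S (Localization.Away (i : S)) L]
  exact Groth.Agent.S9391.finite_integralClosure_of_isLocalization
    (Submonoid.powers (⟨(i : S), hiint⟩ : S')) h4

end Groth.Agent.S2114
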