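import Groth.Statements.S4563
import Groth.Agent.Lib.Helper38.FiniteExt

set_option autoImplicit false
universe u
open CAlg

namespace Groth.Agent.S4563

theorem aux (A : Type u) [CommRing A] [IsDomain A] [IsNoetherianRing A] (hA : CAlg.IsN2 A)
    (r : ℕ) : ∃ (_ : IsDomain (MvPowerSeries (Fin r) A)), CAlg.IsN2 (MvPowerSeries (Fin r) A) := by
  induction r with
  | zero =>
    have hd : IsDomain (MvPowerSeries (Fin 0) A) :=
      (MvPowerSeries.isEmptyEquiv (σ := Fin 0) (R := A)).toRingEquiv.toMulEquiv.isDomain A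
    exact ⟨hd, Groth.Agent.Lib.Helper38.Tate.isN2_of_ringEquiv
      (MvPowerSeries.isEmptyEquiv (σ := Fin 0) (R := A)).toRingEquiv.symm hA⟩
  | succ n ih =>
    obtain ⟨hd, hn⟩ := ih
    have h1 : CAlg.IsN2 (PowerSeries (MvPowerSeries (Fin n) A)) :=
      Groth.Agent.Lib.Helper38.FiniteExt.isN2_powerSeries _ hn
    have hd' : IsDomain (MvPowerSeries (Fin (n + 1)) A) :=
      (MvPowerSeries.finSuccEquiv A n).toRingEquiv.toMulEquiv.isDomain
        (PowerSeries (MvPowerSeries (Fin n) A))
    exact ⟨hd', Groth.Agent.Lib.Helper38.Tate.isN2_of_ringEquiv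
      (MvPowerSeries.finSuccEquiv A n).toRingEquiv.symm h1⟩

/-- If A is a Noetherian integrally closed Japanese (N-2) domain, then every formal power series ring
A[[T_1, ..., T_r]] is Japanese. (The power series ring is a domain; that instance is taken as a
hypothesis binder.) -/
theorem result {A : Type u} [CommRing A] [IsDomain A]
    [IsNoetherianRing A] [IsIntegrallyClosed A] (hA : CAlg.IsN2 A) (r : ℕ)
    [IsDomain (MvPowerSeries (Fin r) A)] :
    CAlg.IsN2 (MvPowerSeries (Fin r) A) := by
  obtain ⟨_, h⟩ := aux A hA r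
  exact h

end Groth.Agent.S4563
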