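import Groth.Statements.S0547
import Groth.Agent.S0543
import Mathlib.RingTheory.Ideal.KrullsHeightTheorem
import Mathlib.RingTheory.AdicCompletion.AsTensorProduct
import Mathlib.RingTheory.LocalRing.ResidueField.Basic

set_option autoImplicit false
universe u
open CAlg

namespace Groth.Agent.S0547

/-- The completion of a Noetherian local ring at its maximal ideal has the same Krull dimension as the
ring. -/
theorem result (A : Type u) [CommRing A] [IsLocalRing A]
    [IsNoetherianRing A] :
    ringKrullDim (AdicCompletion (IsLocalRing.maximalIdeal A) A) = ringKrullDim A := by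
  haveI : IsNoetherianRing (AdicCompletion (IsLocalRing.maximalIdeal A) A) :=
    Groth.Agent.S0543.result A (IsLocalRing.maximalIdeal A)
  rw [← IsLocalRing.maximalIdeal_height_eq_ringKrullDim,
    ← IsLocalRing.maximalIdeal_height_eq_ringKrullDim]
  congr 1
  rw [Ideal.height_eq_height_add_of_liesOver_of_hasGoingDown (IsLocalRing.maximalIdeal A)
    (IsLocalRing.maximalIdeal (AdicCompletion (IsLocalRing.maximalIdeal A) A))]
  have h1 : (IsLocalRing.maximalIdeal (AdicCompletion (IsLocalRing.maximalIdeal A) A)).map
      (Ideal.Quotient.mk ((IsLocalRing.maximalIdeal A).map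
        (algebraMap A (AdicCompletion (IsLocalRing.maximalIdeal A) A)))) = ⊥ := by
    rw [AdicCompletion.maximalIdeal_eq_map]
    exact Ideal.map_quotient_self _
  rw [h1]
  haveI : Nontrivial (AdicCompletion (IsLocalRing.maximalIdeal A) A ⧸
      (IsLocalRing.maximalIdeal A).map
        (algebraMap A (AdicCompletion (IsLocalRing.maximalIdeal A) A))) := by
    rw [← AdicCompletion.maximalIdeal_eq_map]
    infer_instance
  rw [Ideal.height_bot, add_zero]

end Groth.Agent.S0547
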