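import Groth.Statements.S12136
import Mathlib.RingTheory.Derivation.ToSquareZero
import Mathlib.RingTheory.Filtration

set_option autoImplicit false
universe u
open TensorProduct KaehlerDifferential
open EGA41

namespace Groth.Agent.S12136

section Main

variable {A B : Type u} [CommRing A] [CommRing B] [Algebra A B] (I J : Ideal B)
  (Q : Ideal (B ⧸ J))

theorem liftA (hB : CAlgX.IsAdicFormallySmooth A B I)
    (g : ((B ⧸ J) ⧸ Q) ⊗[B] ((B ⧸ J) ⊗[B] Ω[B⁄A]) →ₗ[(B ⧸ J) ⧸ Q]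
          ((B ⧸ J) ⧸ Q) ⊗[B] (RingHom.ker (algebraMap B (B ⧸ J))).Cotangent)
    (hg : g ∘ₗ LinearMap.baseChange ((B ⧸ J) ⧸ Q)
      (KaehlerDifferential.kerCotangentToTensor A B (B ⧸ J)) = LinearMap.id)
    (E : Type u) [CommRing E] [Algebra A E] (N : Ideal E) (hN : N ^ 2 = ⊥)
    (ψ : (B ⧸ J) →ₐ[A] E ⧸ N)
    (hψ : ∃ k : ℕ, ∀ x ∈ (I.map (Ideal.Quotient.mk J)) ^ k, ψ x = 0)
    (hQN : ∀ q ∈ Q, ∀ e : E, Ideal.Quotient.mk N e = ψ q → ∀ n ∈ N, e * n = 0) :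
    ∃ χ : (B ⧸ J) →ₐ[A] E, (Ideal.Quotient.mkₐ A N).comp χ = ψ := by
  obtain ⟨k, hk⟩ := hψ
  obtain ⟨χ, hχ⟩ := hB E N hN (ψ.comp (Ideal.Quotient.mkₐ A J)) ⟨k, fun x hx => by
    rw [AlgHom.comp_apply, Ideal.Quotient.mkₐ_eq_mk]
    apply hk
    rw [← Ideal.map_pow]
    exact Ideal.mem_map_of_mem _ hx⟩
  have hχ' : ∀ b : B, Ideal.Quotient.mk N (χ b) = ψ (Ideal.Quotient.mk J b) := fun b =>
    AlgHom.congr_fun hχ b
  letI : Algebra B E := χ.toRingHom.toAlgebra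
  haveI : IsScalarTower A B E := IsScalarTower.of_algebraMap_eq (fun a => (χ.commutes a).symm)
  have halg : ∀ b : B, algebraMap B E b = χ b := fun _ => rfl
  have hN2 : ∀ x ∈ N, ∀ y ∈ N, x * y = 0 := by
    intro x hx y hy
    have : x * y ∈ N ^ 2 := by rw [pow_two]; exact Ideal.mul_mem_mul hx hy
    rwa [hN] at this
  have hχK : ∀ j ∈ RingHom.ker (algebraMap B (B ⧸ J)), χ j ∈ N := by
    intro j hj
    rw [← Ideal.Quotient.eq_zero_iff_mem, hχ']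
    have : Ideal.Quotient.mk J j = 0 := hj
    rw [this, map_zero]
  let h0 : (RingHom.ker (algebraMap B (B ⧸ J))) →ₗ[B] N :=
    { toFun := fun j => ⟨χ j, hχK j j.2⟩
      map_add' := fun x y => Subtype.ext (by simp)
      map_smul' := fun b x => Subtype.ext (by
        simp [Algebra.smul_def, halg]) }
  have hle : (RingHom.ker (algebraMap B (B ⧸ J)) • ⊤ :
      Submodule B (RingHom.ker (algebraMap B (B ⧸ J)))) ≤ LinearMap.ker h0 := by
    rw [Submodule.smul_le]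
    intro r hr n _
    rw [LinearMap.mem_ker]
    apply Subtype.ext
    change χ (r • (n : B)) = 0
    rw [smul_eq_mul, map_mul]
    exact hN2 _ (hχK r hr) _ (hχK n n.2)
  let h : (RingHom.ker (algebraMap B (B ⧸ J))).Cotangent →ₗ[B] N := Submodule.liftQ _ h0 hle
  have hh : ∀ j, h (Ideal.toCotangent _ j) = h0 j := fun j => rfl
  have hsurjD : Function.Surjective (Algebra.ofId B ((B ⧸ J) ⧸ Q)) := by
    intro d
    obtain ⟨c, rfl⟩ := Ideal.Quotient.mk_surjective d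
    obtain ⟨b, rfl⟩ := Ideal.Quotient.mk_surjective c
    exact ⟨b, rfl⟩
  let eqv := Ideal.quotientKerAlgEquivOfSurjective hsurjD
  have hker : (RingHom.ker (Algebra.ofId B ((B ⧸ J) ⧸ Q)) : Submodule B B) ≤
      LinearMap.ker (LinearMap.toSpanSingleton B _ h) := by
    intro q hq
    rw [LinearMap.mem_ker, LinearMap.toSpanSingleton_apply]
    have hq' : Ideal.Quotient.mk J q ∈ Q := by
      rw [← Ideal.Quotient.eq_zero_iff_mem]
      exact hq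
    ext c
    change ((q • h c : N) : E) = 0
    rw [Submodule.coe_smul_of_tower, Algebra.smul_def, halg]
    exact hQN _ hq' (χ q) (hχ' q) _ (h c).2
  let η : ((B ⧸ J) ⧸ Q) →ₗ[B] ((RingHom.ker (algebraMap B (B ⧸ J))).Cotangent →ₗ[B] N) :=
    (Submodule.liftQ _ (LinearMap.toSpanSingleton B _ h) hker) ∘ₗ eqv.symm.toLinearMap
  have hη : η 1 = h := by
    change (Submodule.liftQ _ (LinearMap.toSpanSingleton B _ h) hker) (eqv.symm 1) = h
    rw [map_one]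
    change (LinearMap.toSpanSingleton B _ h) 1 = h
    rw [LinearMap.toSpanSingleton_apply, one_smul]
  let hD : ((B ⧸ J) ⧸ Q) ⊗[B] (RingHom.ker (algebraMap B (B ⧸ J))).Cotangent →ₗ[B] N :=
    TensorProduct.lift η
  let ι : Ω[B⁄A] →ₗ[B] ((B ⧸ J) ⧸ Q) ⊗[B] ((B ⧸ J) ⊗[B] Ω[B⁄A]) :=
    (TensorProduct.mk B ((B ⧸ J) ⧸ Q) ((B ⧸ J) ⊗[B] Ω[B⁄A]) 1) ∘ₗ
      (TensorProduct.mk B (B ⧸ J) Ω[B⁄A] 1)
  let Δ' : Ω[B⁄A] →ₗ[B] N := hD ∘ₗ (g.restrictScalars B) ∘ₗ ι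
  let Δ : Derivation A B N := Δ'.compDer (KaehlerDifferential.D A B)
  have hΔ : ∀ j (hj : j ∈ RingHom.ker (algebraMap B (B ⧸ J))), ((Δ j : N) : E) = χ j := by
    intro j hj
    have e1 : g ((1 : (B ⧸ J) ⧸ Q) ⊗ₜ[B] ((1 : B ⧸ J) ⊗ₜ[B] KaehlerDifferential.D A B j)) =
        (1 : (B ⧸ J) ⧸ Q) ⊗ₜ[B] (Ideal.toCotangent _ ⟨j, hj⟩) := by
      have := LinearMap.congr_fun hg ((1 : (B ⧸ J) ⧸ Q) ⊗ₜ[B] (Ideal.toCotangent _ ⟨j, hj⟩))
      rw [LinearMap.comp_apply, LinearMap.baseChange_tmul,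
        KaehlerDifferential.kerCotangentToTensor_toCotangent] at this
      exact this
    change ((hD (g ((1 : (B ⧸ J) ⧸ Q) ⊗ₜ[B] ((1 : B ⧸ J) ⊗ₜ[B] KaehlerDifferential.D A B j))) : N) : E)
      = χ j
    rw [e1]
    change ((η 1 (Ideal.toCotangent _ ⟨j, hj⟩) : N) : E) = χ j
    rw [hη, hh]
    rfl
  let χ' : B →ₐ[A] E := liftOfDerivationToSquareZero N hN (-Δ)
  have hχ'0 : ∀ j ∈ J, χ' j = 0 := by
    intro j hj
    have hj' : j ∈ RingHom.ker (algebraMap B (B ⧸ J)) := by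
      rw [RingHom.mem_ker, Ideal.Quotient.algebraMap_eq, Ideal.Quotient.eq_zero_iff_mem]
      exact hj
    change (((-Δ) j : N) : E) + algebraMap B E j = 0
    rw [Derivation.neg_apply, Submodule.coe_neg, hΔ j hj', halg, neg_add_cancel]
  refine ⟨Ideal.Quotient.liftₐ J χ' hχ'0, ?_⟩
  apply Ideal.Quotient.algHom_ext
  ext b
  change Ideal.Quotient.mk N (χ' b) = ψ (Ideal.Quotient.mk J b)
  rw [liftOfDerivationToSquareZero_mk_apply, ← hχ']
  rfl



theorem artinRees [IsNoetherianRing B] (K : Ideal B) :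
    ∃ c : ℕ, ∀ n ≥ c, ∀ x ∈ I ^ n, x ∈ K → x ∈ I ^ (n - c) * K := by
  obtain ⟨c, hc⟩ := Ideal.exists_pow_inf_eq_pow_smul I (K : Submodule B B)
  refine ⟨c, fun n hn x hx hxK => ?_⟩
  have h1 : x ∈ (I ^ n • (⊤ : Submodule B B) ⊓ K : Submodule B B) := by
    refine ⟨?_, hxK⟩
    rw [smul_eq_mul, Ideal.mul_top]
    exact hx
  rw [hc n hn] at h1
  have h2 : (I ^ (n - c) • (I ^ c • (⊤ : Submodule B B) ⊓ K) : Submodule B B) ≤
      I ^ (n - c) • K := Submodule.smul_mono le_rfl inf_le_right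
  exact h2 h1

theorem retractionOfSmooth [IsNoetherianRing B]
    (Q : Ideal (B ⧸ J)) (hQ : ∃ n : ℕ, (I.map (Ideal.Quotient.mk J)) ^ n ≤ Q)
    (hC : CAlgX.IsAdicFormallySmooth A (B ⧸ J) (I.map (Ideal.Quotient.mk J))) :
    ∃ g : ((B ⧸ J) ⧸ Q) ⊗[B] ((B ⧸ J) ⊗[B] Ω[B⁄A]) →ₗ[(B ⧸ J) ⧸ Q]
          ((B ⧸ J) ⧸ Q) ⊗[B] (RingHom.ker (algebraMap B (B ⧸ J))).Cotangent,
        g ∘ₗ LinearMap.baseChange ((B ⧸ J) ⧸ Q)
          (KaehlerDifferential.kerCotangentToTensor A B (B ⧸ J)) = LinearMap.id := by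
  obtain ⟨n₀, hn₀⟩ := hQ
  have hKJ : RingHom.ker (algebraMap B (B ⧸ J)) = J := by
    rw [Ideal.Quotient.algebraMap_eq]; exact Ideal.mk_ker
  obtain ⟨c, hc⟩ := artinRees I J
  -- the ideal Q' of B
  have hIQ' : I ^ n₀ ≤ Ideal.comap (Ideal.Quotient.mk J) Q := by
    intro x hx
    rw [Ideal.mem_comap]
    apply hn₀
    rw [← Ideal.map_pow]
    exact Ideal.mem_map_of_mem _ hx
  have hJQ' : J ≤ Ideal.comap (Ideal.Quotient.mk J) Q := by
    intro x hx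
    rw [Ideal.mem_comap, Ideal.Quotient.eq_zero_iff_mem.2 hx]
    exact Ideal.zero_mem _
  -- θ
  let θ : RingHom.ker (algebraMap B (B ⧸ J)) →ₗ[B]
      ((B ⧸ J) ⧸ Q) ⊗[B] (RingHom.ker (algebraMap B (B ⧸ J))).Cotangent :=
    (TensorProduct.mk B ((B ⧸ J) ⧸ Q) (RingHom.ker (algebraMap B (B ⧸ J))).Cotangent 1) ∘ₗ
      (RingHom.ker (algebraMap B (B ⧸ J))).toCotangent
  have hθ : ∀ x, θ x = (1 : (B ⧸ J) ⧸ Q) ⊗ₜ[B] (RingHom.ker (algebraMap B (B ⧸ J))).toCotangent x :=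
    fun x => rfl
  have hθker : (Ideal.comap (Ideal.Quotient.mk J) Q) •
      (⊤ : Submodule B (RingHom.ker (algebraMap B (B ⧸ J)))) ≤ LinearMap.ker θ := by
    rw [Submodule.smul_le]
    intro q hq x _
    rw [LinearMap.mem_ker, map_smul, hθ, TensorProduct.smul_tmul', ← Algebra.algebraMap_eq_smul_one]
    have : algebraMap B ((B ⧸ J) ⧸ Q) q = 0 := by
      change Ideal.Quotient.mk Q (Ideal.Quotient.mk J q) = 0
      exact Ideal.Quotient.eq_zero_iff_mem.2 hq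
    rw [this, TensorProduct.zero_tmul]
  -- the test ring
  have hk : c + n₀ ≥ c := Nat.le_add_right _ _
  have hN : ((RingHom.ker (algebraMap B (B ⧸ J))).map (Ideal.Quotient.mkₐ A
      (Ideal.comap (Ideal.Quotient.mk J) Q * J ⊔ I ^ (c + n₀)))) ^ 2 = ⊥ := by
    rw [← Ideal.map_pow, eq_bot_iff, Ideal.map_le_iff_le_comap, hKJ]
    intro x hx
    rw [Ideal.mem_comap, Ideal.mem_bot]
    refine Ideal.Quotient.eq_zero_iff_mem.2 (Ideal.mem_sup_left ?_)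
    rw [pow_two] at hx
    exact Ideal.mul_mono_left hJQ' hx
  generalize h𝔟 : Ideal.comap (Ideal.Quotient.mk J) Q * J ⊔ I ^ (c + n₀) = 𝔟 at hN
  have h𝔟1 : I ^ (c + n₀) ≤ 𝔟 := h𝔟 ▸ le_sup_right
  have h𝔟2 : ∀ x ∈ 𝔟, x ∈ J → x ∈ Ideal.comap (Ideal.Quotient.mk J) Q * J := by
    intro x hx hxJ
    rw [← h𝔟, Submodule.mem_sup] at hx
    obtain ⟨y, hy, z, hz, rfl⟩ := hx
    have hyJ : y ∈ J := Ideal.mul_le_right hy
    have hzJ : z ∈ J := by
      have := J.sub_mem hxJ hyJ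
      rwa [add_sub_cancel_left] at this
    have hz' := hc (c + n₀) hk z hz hzJ
    rw [Nat.add_sub_cancel_left] at hz'
    exact Ideal.add_mem _ hy (Ideal.mul_mono_left hIQ' hz')
  have hJN : ∀ j ∈ J, Ideal.Quotient.mk 𝔟 j ∈
      (RingHom.ker (algebraMap B (B ⧸ J))).map (Ideal.Quotient.mkₐ A 𝔟) := fun j hj =>
    Ideal.mem_map_of_mem (Ideal.Quotient.mkₐ A 𝔟) (show j ∈ RingHom.ker (algebraMap B (B ⧸ J)) by
      rw [hKJ]; exact hj)
  have hNsurj : ∀ y ∈ (RingHom.ker (algebraMap B (B ⧸ J))).map (Ideal.Quotient.mkₐ A 𝔟),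
      ∃ j ∈ J, Ideal.Quotient.mk 𝔟 j = y := by
    intro y hy
    obtain ⟨j, hj, rfl⟩ :=
      (Ideal.mem_map_iff_of_surjective _ (Ideal.Quotient.mkₐ_surjective A 𝔟)).1 hy
    rw [hKJ] at hj
    exact ⟨j, hj, rfl⟩
  generalize hNdef : (RingHom.ker (algebraMap B (B ⧸ J))).map (Ideal.Quotient.mkₐ A 𝔟) = N
    at hN hJN hNsurj
  let ψ : (B ⧸ J) →ₐ[A] (B ⧸ 𝔟) ⧸ N :=
    Ideal.Quotient.liftₐ J ((Ideal.Quotient.mkₐ A N).comp (Ideal.Quotient.mkₐ A 𝔟))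
      (fun j hj => by
        change Ideal.Quotient.mk N (Ideal.Quotient.mk 𝔟 j) = 0
        exact Ideal.Quotient.eq_zero_iff_mem.2 (hJN j hj))
  have hψ : ∀ b, ψ (Ideal.Quotient.mk J b) = Ideal.Quotient.mk N (Ideal.Quotient.mk 𝔟 b) :=
    fun b => rfl
  have hψk : ∀ x ∈ (I.map (Ideal.Quotient.mk J)) ^ (c + n₀), ψ x = 0 := by
    intro x hx
    rw [← Ideal.map_pow] at hx
    obtain ⟨y, hy, rfl⟩ := (Ideal.mem_map_iff_of_surjective _ Ideal.Quotient.mk_surjective).1 hx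
    rw [hψ, Ideal.Quotient.eq_zero_iff_mem.2 (h𝔟1 hy), map_zero]
  obtain ⟨χ, hχ⟩ := hC (B ⧸ 𝔟) N hN ψ ⟨c + n₀, hψk⟩
  have hχ' : ∀ x, Ideal.Quotient.mk N (χ x) = ψ x := fun x => AlgHom.congr_fun hχ x
  have e : (Ideal.Quotient.mkₐ A N).comp (χ.comp (Ideal.Quotient.mkₐ A J)) =
      IsScalarTower.toAlgHom A B ((B ⧸ 𝔟) ⧸ N) := by
    ext b
    change Ideal.Quotient.mk N (χ (Ideal.Quotient.mk J b)) = _
    rw [hχ', hψ]; rfl
  let D₀ : Derivation A B N := derivationToSquareZeroOfLift N hN (χ.comp (Ideal.Quotient.mkₐ A J)) e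
  have hD₀ : ∀ j ∈ J, ((D₀ j : N) : B ⧸ 𝔟) = - Ideal.Quotient.mk 𝔟 j := by
    intro j hj
    rw [derivationToSquareZeroOfLift_apply]
    change χ (Ideal.Quotient.mk J j) - _ = _
    rw [Ideal.Quotient.eq_zero_iff_mem.2 hj, map_zero, zero_sub]; rfl
  have hKiff : ∀ x : B, x ∈ RingHom.ker (algebraMap B (B ⧸ J)) ↔ x ∈ J := fun x => by rw [hKJ]
  have hKmem : ∀ j : RingHom.ker (algebraMap B (B ⧸ J)), (j : B) ∈ J := fun j => (hKiff _).1 j.2
  have hQK : Ideal.comap (Ideal.Quotient.mk J) Q * RingHom.ker (algebraMap B (B ⧸ J)) =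
      Ideal.comap (Ideal.Quotient.mk J) Q * J := by rw [hKJ]
  let pK : RingHom.ker (algebraMap B (B ⧸ J)) →ₗ[B] N :=
    LinearMap.codRestrict (N.restrictScalars B)
      ((Algebra.linearMap B (B ⧸ 𝔟)) ∘ₗ (Submodule.subtype _)) (fun j => hJN _ (hKmem j))
  have hpK : ∀ j, ((pK j : N) : B ⧸ 𝔟) = Ideal.Quotient.mk 𝔟 (j : B) := fun j => rfl
  have hpKsurj : Function.Surjective pK := by
    rintro ⟨y, hy⟩
    obtain ⟨j, hj, rfl⟩ := hNsurj y hy
    exact ⟨⟨j, (hKiff j).2 hj⟩, Subtype.ext rfl⟩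
  have hker : LinearMap.ker pK ≤ LinearMap.ker θ := by
    intro j hj
    rw [LinearMap.mem_ker] at hj
    have h1 : (j : B) ∈ 𝔟 := by
      have := congrArg Subtype.val hj
      exact Ideal.Quotient.eq_zero_iff_mem.1 this
    have h2 := h𝔟2 _ h1 (hKmem j)
    apply hθker
    rw [Submodule.mem_smul_top_iff, smul_eq_mul, hQK]
    exact h2
  let ρ' : N →ₗ[B] ((B ⧸ J) ⧸ Q) ⊗[B] (RingHom.ker (algebraMap B (B ⧸ J))).Cotangent :=
    (Submodule.liftQ _ θ hker) ∘ₗ (pK.quotKerEquivOfSurjective hpKsurj).symm.toLinearMap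
  have hρ' : ∀ j, ρ' (pK j) = θ j := by
    intro j
    change (Submodule.liftQ _ θ hker) ((pK.quotKerEquivOfSurjective hpKsurj).symm (pK j)) = θ j
    rw [LinearMap.quotKerEquivOfSurjective_symm_apply, Submodule.liftQ_apply]
  let D' : Derivation A B (((B ⧸ J) ⧸ Q) ⊗[B] (RingHom.ker (algebraMap B (B ⧸ J))).Cotangent) :=
    -(ρ'.compDer D₀)
  have hD' : ∀ j (hj : j ∈ RingHom.ker (algebraMap B (B ⧸ J))), D' j = θ ⟨j, hj⟩ := by
    intro j hj
    have : D₀ j = -(pK ⟨j, hj⟩) := Subtype.ext (by rw [hD₀ j (hKmem ⟨j, hj⟩)]; rfl)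
    change -(ρ' (D₀ j)) = _
    rw [this, map_neg, neg_neg, hρ']
  refine ⟨LinearMap.liftBaseChange _
    ((LinearMap.liftBaseChange (B ⧸ J) D'.liftKaehlerDifferential).restrictScalars B), ?_⟩
  refine LinearMap.ext (fun z => ?_)
  induction z using TensorProduct.induction_on with
  | zero => simp
  | add x y hx hy => rw [map_add, hx, hy, map_add]
  | tmul d c =>
    obtain ⟨⟨j, hj⟩, rfl⟩ := Ideal.toCotangent_surjective _ c
    rw [LinearMap.comp_apply, LinearMap.baseChange_tmul,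
      KaehlerDifferential.kerCotangentToTensor_toCotangent, LinearMap.liftBaseChange_tmul,
      LinearMap.restrictScalars_apply, LinearMap.liftBaseChange_tmul, one_smul,
      Derivation.liftKaehlerDifferential_comp_D, hD' j hj, hθ, TensorProduct.smul_tmul',
      smul_eq_mul, mul_one]
    rfl

end Main

section Dev

variable {A C : Type u} [CommRing A] [CommRing C] [Algebra A C] (𝔞 Q : Ideal C)

def qE (E : Type u) [CommRing E] [Algebra A E] (N : Ideal E) (ψ : C →ₐ[A] E ⧸ N) : Ideal E :=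
  Ideal.span {e : E | ∃ q ∈ Q, Ideal.Quotient.mk N e = ψ q}

theorem qE_le {E : Type u} [CommRing E] [Algebra A E] {N : Ideal E} {ψ : C →ₐ[A] E ⧸ N}
    {K : Ideal E} (h : ∀ e : E, ∀ q ∈ Q, Ideal.Quotient.mk N e = ψ q → e ∈ K) :
    qE Q E N ψ ≤ K :=
  Ideal.span_le.2 (fun e he => by obtain ⟨q, hq, h'⟩ := he; exact h e q hq h')

theorem mem_qE {E : Type u} [CommRing E] [Algebra A E] {N : Ideal E} {ψ : C →ₐ[A] E ⧸ N}
    {e : E} (q : C) (hq : q ∈ Q) (h : Ideal.Quotient.mk N e = ψ q) : e ∈ qE Q E N ψ :=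
  Ideal.subset_span ⟨q, hq, h⟩

theorem devissage_aux
    (HA : ∀ (E : Type u) [CommRing E] [Algebra A E] (N : Ideal E), N ^ 2 = ⊥ →
      ∀ ψ : C →ₐ[A] E ⧸ N, (∃ k : ℕ, ∀ x ∈ 𝔞 ^ k, ψ x = 0) →
      (∀ q ∈ Q, ∀ e : E, Ideal.Quotient.mk N e = ψ q → ∀ n ∈ N, e * n = 0) →
      ∃ χ : C →ₐ[A] E, (Ideal.Quotient.mkₐ A N).comp χ = ψ) (r : ℕ) :
    ∀ (E : Type u) [CommRing E] [Algebra A E] (N : Ideal E), N ^ 2 = ⊥ →
      ∀ ψ : C →ₐ[A] E ⧸ N, (∃ k : ℕ, ∀ x ∈ 𝔞 ^ k, ψ x = 0) →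
      qE Q E N ψ ^ r * N = ⊥ →
      ∃ χ : C →ₐ[A] E, (Ideal.Quotient.mkₐ A N).comp χ = ψ := by
  induction r with
  | zero =>
    intro E _ _ N hN ψ hk hq
    rw [pow_zero, one_mul] at hq
    refine HA E N hN ψ hk ?_
    intro q _ e _ n hn
    rw [hq] at hn
    rw [(Ideal.mem_bot).1 hn, mul_zero]
  | succ r ih =>
    intro E _ _ N hN ψ hk hq
    obtain ⟨k, hk⟩ := hk
    have hN'N : qE Q E N ψ ^ r * N ≤ N := Ideal.mul_le_right
    have hN₁ : (N.map (Ideal.Quotient.mkₐ A (qE Q E N ψ ^ r * N))) ^ 2 = ⊥ := by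
      rw [← Ideal.map_pow, hN, Ideal.map_bot]
    have he : ∀ x : E, DoubleQuot.quotQuotEquivQuotOfLEₐ A hN'N
        (Ideal.Quotient.mk _ (Ideal.Quotient.mk (qE Q E N ψ ^ r * N) x)) = Ideal.Quotient.mk N x :=
      fun x => rfl
    have hψ₁ : ∀ c : C, ((DoubleQuot.quotQuotEquivQuotOfLEₐ A hN'N).symm.toAlgHom.comp ψ) c =
        (DoubleQuot.quotQuotEquivQuotOfLEₐ A hN'N).symm (ψ c) := fun c => rfl
    -- first test
    have hq₁ : qE Q (E ⧸ (qE Q E N ψ ^ r * N)) (N.map (Ideal.Quotient.mkₐ A (qE Q E N ψ ^ r * N)))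
        ((DoubleQuot.quotQuotEquivQuotOfLEₐ A hN'N).symm.toAlgHom.comp ψ) ^ r *
        (N.map (Ideal.Quotient.mkₐ A (qE Q E N ψ ^ r * N))) = ⊥ := by
      have h1 : qE Q (E ⧸ (qE Q E N ψ ^ r * N)) (N.map (Ideal.Quotient.mkₐ A (qE Q E N ψ ^ r * N)))
          ((DoubleQuot.quotQuotEquivQuotOfLEₐ A hN'N).symm.toAlgHom.comp ψ) ≤
          (qE Q E N ψ).map (Ideal.Quotient.mkₐ A (qE Q E N ψ ^ r * N)) := by
        refine qE_le Q ?_
        intro x' q hqQ hx'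
        obtain ⟨x, rfl⟩ := Ideal.Quotient.mk_surjective x'
        refine Ideal.mem_map_of_mem _ (mem_qE Q q hqQ ?_)
        rw [← he x, hx', hψ₁, AlgEquiv.apply_symm_apply]
      rw [eq_bot_iff]
      refine (Ideal.mul_mono_left (Ideal.pow_right_mono h1 r)).trans ?_
      rw [← Ideal.map_pow, ← Ideal.map_mul]
      rw [Ideal.map_le_iff_le_comap]
      intro x hx
      rw [Ideal.mem_comap, Ideal.mem_bot]
      exact Ideal.Quotient.eq_zero_iff_mem.2 hx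
    obtain ⟨ψ', hψ'⟩ := ih (E ⧸ (qE Q E N ψ ^ r * N))
      (N.map (Ideal.Quotient.mkₐ A (qE Q E N ψ ^ r * N))) hN₁
      ((DoubleQuot.quotQuotEquivQuotOfLEₐ A hN'N).symm.toAlgHom.comp ψ)
      ⟨k, fun x hx => by rw [hψ₁, hk x hx, map_zero]⟩ hq₁
    have hψ'c : ∀ c : C, Ideal.Quotient.mk _ (ψ' c) =
        (DoubleQuot.quotQuotEquivQuotOfLEₐ A hN'N).symm (ψ c) := fun c => AlgHom.congr_fun hψ' c
    -- second test
    have hN'2 : (qE Q E N ψ ^ r * N) ^ 2 = ⊥ := by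
      rw [eq_bot_iff, ← hN]
      exact Ideal.pow_right_mono hN'N 2
    have hk' : ∀ x ∈ 𝔞 ^ (k + k), ψ' x = 0 := by
      have hmem : ∀ x ∈ 𝔞 ^ k, ψ' x ∈ N.map (Ideal.Quotient.mkₐ A (qE Q E N ψ ^ r * N)) := by
        intro x hx
        rw [← Ideal.Quotient.eq_zero_iff_mem, hψ'c, hk x hx, map_zero]
      have hle : 𝔞 ^ k * 𝔞 ^ k ≤ RingHom.ker ψ' := by
        rw [Ideal.mul_le]
        intro x hx y hy
        rw [RingHom.mem_ker, map_mul]
        have : ψ' x * ψ' y ∈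
            (N.map (Ideal.Quotient.mkₐ A (qE Q E N ψ ^ r * N))) ^ 2 := by
          rw [pow_two]; exact Ideal.mul_mem_mul (hmem x hx) (hmem y hy)
        rwa [hN₁] at this
      intro x hx
      rw [pow_add] at hx
      exact hle hx
    have hq₂ : ∀ q ∈ Q, ∀ e : E, Ideal.Quotient.mk (qE Q E N ψ ^ r * N) e = ψ' q →
        ∀ n ∈ qE Q E N ψ ^ r * N, e * n = 0 := by
      intro q hqQ e heq n hn
      have he𝔮 : e ∈ qE Q E N ψ := by
        refine mem_qE Q q hqQ ?_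
        rw [← he e, heq, hψ'c, AlgEquiv.apply_symm_apply]
      have : e * n ∈ qE Q E N ψ ^ (r + 1) * N := by
        rw [pow_succ', mul_assoc]
        exact Ideal.mul_mem_mul he𝔮 hn
      rwa [hq] at this
    obtain ⟨ψ'', hψ''⟩ := HA E (qE Q E N ψ ^ r * N) hN'2 ψ' ⟨k + k, hk'⟩ hq₂
    refine ⟨ψ'', ?_⟩
    ext c
    have h2 : Ideal.Quotient.mk (qE Q E N ψ ^ r * N) (ψ'' c) = ψ' c := AlgHom.congr_fun hψ'' c
    change Ideal.Quotient.mk N (ψ'' c) = ψ c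
    rw [← he, h2, hψ'c, AlgEquiv.apply_symm_apply]

end Dev

section Dev2

variable {A C : Type u} [CommRing A] [CommRing C] [Algebra A C] (𝔞 Q : Ideal C)

theorem devissage (m : ℕ) (hQ' : Q ^ m ≤ 𝔞)
    (HA : ∀ (E : Type u) [CommRing E] [Algebra A E] (N : Ideal E), N ^ 2 = ⊥ →
      ∀ ψ : C →ₐ[A] E ⧸ N, (∃ k : ℕ, ∀ x ∈ 𝔞 ^ k, ψ x = 0) →
      (∀ q ∈ Q, ∀ e : E, Ideal.Quotient.mk N e = ψ q → ∀ n ∈ N, e * n = 0) →
      ∃ χ : C →ₐ[A] E, (Ideal.Quotient.mkₐ A N).comp χ = ψ) :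
    CAlgX.IsAdicFormallySmooth A C 𝔞 := by
  intro E _ _ N hN ψ hk
  obtain ⟨k, hk⟩ := hk
  refine devissage_aux 𝔞 Q HA (m * k) E N hN ψ ⟨k, hk⟩ ?_
  have h1 : qE Q E N ψ ≤ Ideal.comap (Ideal.Quotient.mk N) (Ideal.map ψ Q) := by
    refine qE_le Q ?_
    intro e q hq h
    rw [Ideal.mem_comap, h]
    exact Ideal.mem_map_of_mem _ hq
  have h2 : qE Q E N ψ ^ (m * k) ≤ N := by
    refine (Ideal.pow_right_mono h1 _).trans ?_
    refine (Ideal.le_comap_pow _ _).trans ?_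
    rw [← Ideal.map_pow, pow_mul]
    have : Ideal.map ψ ((Q ^ m) ^ k) = ⊥ := by
      rw [eq_bot_iff, Ideal.map_le_iff_le_comap]
      intro x hx
      rw [Ideal.mem_comap, Ideal.mem_bot]
      exact hk x (Ideal.pow_right_mono hQ' k hx)
    rw [this]
    intro x hx
    rw [Ideal.mem_comap, Ideal.mem_bot] at hx
    exact Ideal.Quotient.eq_zero_iff_mem.1 hx
  rw [eq_bot_iff, ← hN, pow_two]
  exact Ideal.mul_mono_left h2

end Dev2

/-- In the Noetherian adic case, which the published statement itself singles out, let A → B be a ring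
homomorphism with B Noetherian, I and J ideals of B, and suppose B, with the I-adic topology, is
formally smooth over the discrete ring A. Put C = B/J with the quotient (IC-adic) topology and let Q
be an ideal of definition of C, i.e. an ideal containing a power of IC and a power of which lies in
IC. Then C is formally smooth over A for the IC-adic topology if and only if the C/Q-linear map
(J/J²) ⊗ (C/Q) → Ω_{B/A} ⊗_B (C/Q), obtained by base change from the conormal map J/J² → Ω_{B/A} ⊗_B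
C, x ↦ 1 ⊗ dx, has a C/Q-linear left inverse (is an isomorphism onto a direct summand). Here J is
written as the kernel of B → C and the tensor products are taken over B, which for these C-modules
is the same as over C. (The published statement allows A to be any topological ring with A → B
continuous; this row takes A discrete.) -/
theorem result {A B : Type u} [CommRing A]
    [CommRing B] [Algebra A B] [IsNoetherianRing B] (I J : Ideal B) (hB : CAlgX.IsAdicFormallySmooth A B I)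
    (Q : Ideal (B ⧸ J)) (hQ : ∃ n : ℕ, (I.map (Ideal.Quotient.mk J)) ^ n ≤ Q)
    (hQ' : ∃ m : ℕ, Q ^ m ≤ I.map (Ideal.Quotient.mk J)) :
    CAlgX.IsAdicFormallySmooth A (B ⧸ J) (I.map (Ideal.Quotient.mk J)) ↔
      ∃ g : ((B ⧸ J) ⧸ Q) ⊗[B] ((B ⧸ J) ⊗[B] Ω[B⁄A]) →ₗ[(B ⧸ J) ⧸ Q]
          ((B ⧸ J) ⧸ Q) ⊗[B] (RingHom.ker (algebraMap B (B ⧸ J))).Cotangent,
        g ∘ₗ LinearMap.baseChange ((B ⧸ J) ⧸ Q) (KaehlerDifferential.kerCotangentToTensor A B (B ⧸ J)) =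
          LinearMap.id := by
  constructor
  · intro hC
    exact retractionOfSmooth I J Q hQ hC
  · rintro ⟨g, hg⟩
    obtain ⟨m, hm⟩ := hQ'
    exact devissage (I.map (Ideal.Quotient.mk J)) Q m hm
      (fun E _ _ N hN ψ hk hQN => liftA I J Q hB g hg E N hN ψ hk hQN)

end Groth.Agent.S12136
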