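import Groth.Statements.S2466
-- import your own Groth.Agent.* helpers here
import Groth.Agent.Lib.Helper49.PBasis
import Mathlib.RingTheory.Kaehler.Basic

set_option autoImplicit false
universe u
open EGA41

namespace Groth.Agent.S2466

open Groth.Agent.Lib.Helper49.PBasis

theorem kaehler_basis (p : ℕ) [Fact p.Prime] {A B : Type u} [CommRing A] [CommRing B] [Algebra A B]
    [CharP B p] {ι : Type u} (x : ι → B) (hx : EGA41.IsPBasis p A x) :
    LinearIndependent B (fun i => KaehlerDifferential.D A B (x i)) ∧
      ⊤ ≤ Submodule.span B (Set.range fun i => KaehlerDifferential.D A B (x i)) := by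
  classical
  constructor
  · rw [linearIndependent_iff]
    intro l hl
    ext i₀
    obtain ⟨dd, hdd⟩ := exists_derivation hx B (Pi.single i₀ (1 : B))
    have h := congrArg dd.liftKaehlerDifferential hl
    rw [map_zero, Finsupp.linearCombination_apply, map_finsuppSum] at h
    simp only [map_smul, Derivation.liftKaehlerDifferential_comp_D, hdd, smul_eq_mul] at h
    rw [Finsupp.sum, Finset.sum_eq_single i₀] at h
    · simpa using h
    · intro j _ hj
      simp [Pi.single_eq_of_ne hj]
    · intro hi
      simp [Finsupp.notMem_support_iff.mp hi]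
  · set N := Submodule.span B (Set.range fun i => KaehlerDifferential.D A B (x i)) with hN
    have h0 : N.mkQ.compDer (KaehlerDifferential.D A B) = 0 := by
      refine derivation_ext hx.2 _ _ fun i => ?_
      change N.mkQ (KaehlerDifferential.D A B (x i)) = 0
      rw [Submodule.mkQ_apply, Submodule.Quotient.mk_eq_zero]
      exact Submodule.subset_span ⟨i, rfl⟩
    rw [← KaehlerDifferential.span_range_derivation, Submodule.span_le]
    rintro _ ⟨b, rfl⟩
    have := congrArg (fun D : Derivation A B (Ω[B⁄A] ⧸ N) => D b) h0
    change N.mkQ (KaehlerDifferential.D A B b) = 0 at this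
    rwa [Submodule.mkQ_apply, Submodule.Quotient.mk_eq_zero] at this


/-- Let p be a prime, B an A-algebra of characteristic p and (x_α) a p-basis of B over A. Then the
family of differentials (d_{B/A} x_α) is a basis of the B-module Ω_{B/A}. -/
theorem result (p : ℕ) [Fact p.Prime] {A B : Type u} [CommRing A] [CommRing B] [Algebra A B] [CharP B p]
    {ι : Type u} (x : ι → B) (hx : EGA41.IsPBasis p A x) :
    ∃ b : Module.Basis ι B (Ω[B⁄A]), ∀ i, b i = KaehlerDifferential.D A B (x i) := by
  obtain ⟨h1, h2⟩ := kaehler_basis p x hx
  exact ⟨Module.Basis.mk h1 h2, fun i => Module.Basis.mk_apply h1 h2 i⟩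

end Groth.Agent.S2466
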