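import Groth.Statements.S2468
-- import your own Groth.Agent.* helpers here
import Groth.Agent.Lib.Helper49.PBasisField
import Groth.Agent.S2466

set_option autoImplicit false
universe u
open EGA41

namespace Groth.Agent.S2468

open Groth.Agent.Lib.Helper49.PBasis

variable {p : ℕ} [Fact p.Prime] {k K : Type u} [Field k] [Field K] [Algebra k K] [CharP K p]
  {ι : Type u}

omit [CharP K p] in
theorem gen_univ : EGA41.IsPGenerating p k (Subtype.val : ↥(Set.univ : Set K) → K) := by
  rw [gen_set_iff, eq_top_iff]
  intro y _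
  exact IntermediateField.subset_adjoin k _ (Or.inr trivial)

theorem part1_mp (x : ι → K) (hx : EGA41.IsPIndependent p k x) :
    LinearIndependent K (fun i => KaehlerDifferential.D k K (x i)) := by
  have hinj : Function.Injective x := by
    intro i j hij
    by_contra hne
    refine not_mem_of_pIndependent hx i ?_
    exact IntermediateField.subset_adjoin k _ (Or.inr ⟨j, fun h => hne h.symm, hij.symm⟩)
  let T : Set K := Set.range x
  have hT : EGA41.IsPIndependent p k (Subtype.val : T → K) := by
    rw [indep_set_iff]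
    rintro _ ⟨a, rfl⟩
    have h1 : T \ {x a} = x '' {b | b ≠ a} := by
      ext y
      constructor
      · rintro ⟨⟨b, rfl⟩, hb⟩
        exact ⟨b, fun h => hb (by rw [h]; rfl), rfl⟩
      · rintro ⟨b, hb, rfl⟩
        exact ⟨⟨b, rfl⟩, fun h => hb (hinj h)⟩
    rw [h1]
    exact not_mem_of_pIndependent hx a
  obtain ⟨B, hTB, -, hB⟩ := exists_pBasis_between Set.univ T (Set.subset_univ _) gen_univ hT
  have h2 := (Groth.Agent.S2466.kaehler_basis p (Subtype.val : B → K) hB).1
  let f : ι → B := fun i => ⟨x i, hTB ⟨i, rfl⟩⟩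
  have hf : Function.Injective f := fun i j h => hinj (congrArg Subtype.val h)
  exact h2.comp f hf

theorem part1_mpr (x : ι → K)
    (h : LinearIndependent K (fun i => KaehlerDifferential.D k K (x i))) :
    EGA41.IsPIndependent p k x := by
  refine pIndependent_of_not_mem fun a hmem => ?_
  have h1 := derivation_mem_span (KaehlerDifferential.D k K) (x '' {b | b ≠ a}) (x a) hmem
  rw [Set.image_image] at h1
  exact h.notMem_span_image (s := {b | b ≠ a}) (x := a) (fun h' => h' rfl) h1

theorem part2_mp (x : ι → K) (hx : EGA41.IsPGenerating p k x) :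
    Submodule.span K (Set.range fun i => KaehlerDifferential.D k K (x i)) = ⊤ := by
  rw [eq_top_iff, ← KaehlerDifferential.span_range_derivation k K, Submodule.span_le]
  rintro _ ⟨y, rfl⟩
  have hy : y ∈ IntermediateField.adjoin k ((Set.range fun y : K => y ^ p) ∪ Set.range x) := by
    rw [(pGenerating_iff x).mp hx]
    trivial
  have h1 := derivation_mem_span (KaehlerDifferential.D k K) (Set.range x) y hy
  rw [← Set.range_comp] at h1
  exact h1

theorem part2_mpr (x : ι → K)
    (h : Submodule.span K (Set.range fun i => KaehlerDifferential.D k K (x i)) = ⊤) :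
    EGA41.IsPGenerating p k x := by
  classical
  by_contra hgen
  rw [pGenerating_iff] at hgen
  let T : Set K := Set.range x
  obtain ⟨y, hy⟩ : ∃ y : K, y ∉ IntermediateField.adjoin k
      ((Set.range fun y : K => y ^ p) ∪ T) := by
    by_contra hcon
    push Not at hcon
    exact hgen (eq_top_iff.mpr fun y _ => hcon y)
  have hempty : EGA41.IsPIndependent p k (Subtype.val : ↥(∅ : Set K) → K) := by
    rw [indep_set_iff]
    intro t ht
    exact absurd ht (Set.notMem_empty t)
  obtain ⟨B₁, -, hB₁T, hB₁ind, hTB₁⟩ := exists_maximal_indep T ∅ (Set.empty_subset _) hempty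
  have hyB₁ : y ∉ IntermediateField.adjoin k ((Set.range fun y : K => y ^ p) ∪ B₁) := by
    intro hmem
    exact hy (IntermediateField.adjoin.mono k _ _ (Set.union_subset_union_right _ hB₁T) hmem)
  have hyB₁' : y ∉ B₁ := fun hmem =>
    hyB₁ (IntermediateField.subset_adjoin k _ (Or.inr hmem))
  have hins : EGA41.IsPIndependent p k (Subtype.val : ↥(insert y B₁ : Set K) → K) := by
    rw [indep_set_iff]
    exact indep_insert B₁ y ((indep_set_iff B₁).mp hB₁ind) hyB₁
  obtain ⟨B, hB₁B, -, hB⟩ :=
    exists_pBasis_between Set.univ (insert y B₁) (Set.subset_univ _) gen_univ hins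
  have hyB : y ∈ B := hB₁B (Set.mem_insert _ _)
  obtain ⟨dd, hdd⟩ := exists_derivation hB K (Pi.single (⟨y, hyB⟩ : B) (1 : K))
  have hdd0 : ∀ z ∈ IntermediateField.adjoin k ((Set.range fun y : K => y ^ p) ∪ B₁),
      dd z = 0 := by
    intro z hz
    have h1 := derivation_mem_span dd B₁ z hz
    have h2 : Submodule.span K (dd '' B₁) ≤ ⊥ := by
      rw [Submodule.span_le]
      rintro _ ⟨b, hb, rfl⟩
      have h3 := hdd ⟨b, hB₁B (Set.mem_insert_of_mem _ hb)⟩
      have hne : (⟨b, hB₁B (Set.mem_insert_of_mem _ hb)⟩ : B) ≠ ⟨y, hyB⟩ := by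
        intro heq
        have heq' : b = y := congrArg Subtype.val heq
        exact hyB₁' (heq' ▸ hb)
      rw [Pi.single_eq_of_ne hne] at h3
      exact h3
    exact (Submodule.mem_bot K).mp (h2 h1)
  have hx0 : ∀ i, dd (x i) = 0 := fun i => hdd0 _ (hTB₁ ⟨i, rfl⟩)
  have hφ : Set.EqOn dd.liftKaehlerDifferential (0 : Ω[K⁄k] →ₗ[K] K)
      (Submodule.span K (Set.range fun i => KaehlerDifferential.D k K (x i))) := by
    refine LinearMap.eqOn_span' ?_
    rintro _ ⟨i, rfl⟩
    change dd.liftKaehlerDifferential (KaehlerDifferential.D k K (x i)) = 0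
    rw [Derivation.liftKaehlerDifferential_comp_D, hx0]
  have h4 := hφ (show KaehlerDifferential.D k K y ∈ _ by rw [h]; trivial)
  rw [Derivation.liftKaehlerDifferential_comp_D] at h4
  have h5 := hdd ⟨y, hyB⟩
  rw [Pi.single_eq_same] at h5
  rw [h5] at h4
  exact one_ne_zero h4


/-- Let k ⊆ K be fields of characteristic p > 0 and (x_α) a family of elements of K. Then (x_α) is
p-free over k if and only if the d_{K/k} x_α are linearly independent over K; it is a system of
p-generators of K over k if and only if the d x_α span Ω_{K/k}; and it is a p-basis if and only if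
the d x_α form a basis of Ω_{K/k} (stated as the existence of a K-basis of Ω_{K/k} indexed by the
same index set whose members are the d x_α). (With the empty family the second equivalence
specializes to: Ω_{K/k} = 0 iff K = k(K^p).) -/
theorem result (p : ℕ) [Fact p.Prime] {k K : Type u} [Field k] [Field K] [Algebra k K] [CharP K p]
    {ι : Type u} (x : ι → K) :
    (EGA41.IsPIndependent p k x ↔ LinearIndependent K (fun i => KaehlerDifferential.D k K (x i))) ∧
    (EGA41.IsPGenerating p k x ↔ Submodule.span K (Set.range fun i => KaehlerDifferential.D k K (x i)) = ⊤) ∧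
    (EGA41.IsPBasis p k x ↔ ∃ b : Module.Basis ι K (Ω[K⁄k]), ∀ i, b i = KaehlerDifferential.D k K (x i)) := by
  refine ⟨⟨part1_mp x, part1_mpr x⟩, ⟨part2_mp x, part2_mpr x⟩, ⟨?_, ?_⟩⟩
  · rintro ⟨h1, h2⟩
    have h1' := part1_mp x h1
    have h2' := part2_mp x h2
    exact ⟨Module.Basis.mk h1' (top_le_iff.mpr h2'), fun i => Module.Basis.mk_apply h1' _ i⟩
  · rintro ⟨b, hb⟩
    have hb' : (fun i => KaehlerDifferential.D k K (x i)) = b := (funext hb).symm
    refine ⟨part1_mpr x ?_, part2_mpr x ?_⟩
    · rw [hb']
      exact b.linearIndependent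
    · rw [hb']
      exact b.span_eq

end Groth.Agent.S2468
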