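import Groth.Statements.S4524
import Mathlib

set_option autoImplicit false
universe u
open EGA41

namespace Groth.Agent.S4524

open TensorProduct in
theorem formallySmooth_of_charZero {F K : Type u} [Field F] [CharZero F] [Field K] [Algebra F K] :
    Algebra.FormallySmooth F K := by
  obtain ⟨s, hs⟩ := exists_isTranscendenceBasis F K
  have : Algebra.IsAlgebraic (IntermediateField.adjoin F (Set.range ((↑) : s → K))) K :=
    hs.isAlgebraic_field
  have : CharZero (IntermediateField.adjoin F (Set.range ((↑) : s → K))) :=
    charZero_of_injective_algebraMap
      (algebraMap F (IntermediateField.adjoin F (Set.range ((↑) : s → K)))).injective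
  have : Algebra.IsSeparable (IntermediateField.adjoin F (Set.range ((↑) : s → K))) K :=
    Algebra.IsAlgebraic.isSeparable_of_perfectField
  exact Algebra.FormallySmooth.of_algebraicIndependent_of_isSeparable hs.1

open TensorProduct in
theorem mapBaseChange_injective_of_formallySmooth {k F K : Type u} [Field k] [Field F] [Field K]
    [Algebra k F] [Algebra F K] [Algebra k K] [IsScalarTower k F K] [Algebra.FormallySmooth F K] :
    Function.Injective (KaehlerDifferential.mapBaseChange k F K) := by
  have hex := Algebra.H1Cotangent.exact_δ_mapBaseChange k F K
  rw [← LinearMap.ker_eq_bot, LinearMap.exact_iff.mp hex]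
  rw [LinearMap.range_eq_bot]
  ext x
  have : x = 0 := Subsingleton.elim _ _
  rw [this]
  simp

/-- Let k be a field of characteristic 0 and K an extension of k. Then Ω_{K/k} = 0 if and only if K is
an algebraic extension of k. -/
theorem result {k K : Type u} [Field k] [CharZero k] [Field K] [Algebra k K] :
    Subsingleton (Ω[K⁄k]) ↔ Algebra.IsAlgebraic k K := by
  constructor
  · intro hsub
    refine ⟨fun x => ?_⟩
    let F := IntermediateField.adjoin k ({x} : Set K)
    have : CharZero F := charZero_of_injective_algebraMap (algebraMap k F).injective
    have : Algebra.FormallySmooth F K := formallySmooth_of_charZero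
    have hinj := mapBaseChange_injective_of_formallySmooth (k := k) (F := F) (K := K)
    have : Subsingleton (TensorProduct F K (Ω[F⁄k])) := hinj.subsingleton
    have : Subsingleton (Ω[F⁄k]) :=
      (Module.Flat.tensorProduct_mk_injective (R := F) (S := K) (Ω[F⁄k])).subsingleton
    have : Algebra.FormallyUnramified k F := ⟨inferInstance⟩
    have : Algebra.EssFiniteType k F :=
      IntermediateField.essFiniteType_iff.mpr ⟨{x}, by simp [F]⟩
    have : Algebra.IsSeparable k F := Algebra.FormallyUnramified.isSeparable k F
    have hx : IsAlgebraic k (⟨x, IntermediateField.mem_adjoin_simple_self k x⟩ : F) :=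
      Algebra.IsAlgebraic.isAlgebraic _
    exact (isAlgebraic_algebraMap_iff (algebraMap F K).injective).mpr hx
  · intro halg
    have : Algebra.IsSeparable k K := Algebra.IsAlgebraic.isSeparable_of_perfectField
    have : Algebra.FormallyUnramified k K := Algebra.FormallyUnramified.of_isSeparable k K
    infer_instance

end Groth.Agent.S4524
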