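import Groth.Statements.S3436
-- import your own Groth.Agent.* helpers here
import Groth.Agent.Lib.Helper49.JacAdic2

set_option autoImplicit false
open CategoryTheory AlgebraicGeometry
universe u
open EGA42

namespace Groth.Agent.S3436

open CategoryTheory AlgebraicGeometry
open TensorProduct IsLocalRing Groth.Agent.Lib.Helper49.JacAdic

theorem adicBoth_of_formallySmooth {R S : Type u} [CommRing R] [CommRing S] [Algebra R S]
    [Algebra.FormallySmooth R S] (𝔞 : Ideal R) (𝔫 : Ideal S) :
    EGA41.IsFormallySmoothAdic R 𝔞 S 𝔫 := by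
  intro C _ _ J hJ _ u _
  exact Algebra.FormallySmooth.exists_lift J hJ u

theorem adic_of_adicBoth {R S : Type u} [CommRing R] [CommRing S] [Algebra R S]
    [IsLocalRing R] [IsLocalRing S] [IsLocalHom (algebraMap R S)]
    (h : EGA41.IsFormallySmoothAdic R (maximalIdeal R) S (maximalIdeal S)) :
    CAlgX.IsAdicFormallySmooth R S (maximalIdeal S) := by
  intro C _ _ J hJ ψ hψ
  obtain ⟨k, hk⟩ := hψ
  refine h C J ⟨2, by rw [hJ]; rfl⟩ ⟨2 * k, ?_⟩ ψ ⟨k, hk⟩
  have h1 : ((maximalIdeal R) ^ k).map (algebraMap R C) ≤ J := by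
    rw [Ideal.map_le_iff_le_comap]
    intro a ha
    rw [Ideal.mem_comap, ← Ideal.Quotient.eq_zero_iff_mem]
    have h2 : algebraMap R S a ∈ maximalIdeal S ^ k := by
      have h3 : (maximalIdeal R).map (algebraMap R S) ≤ maximalIdeal S :=
        IsLocalRing.map_maximalIdeal_le (algebraMap R S)
      have h4 := Ideal.mem_map_of_mem (algebraMap R S) ha
      rw [Ideal.map_pow] at h4
      exact Ideal.pow_right_mono h3 k h4
    have h5 := hk _ h2
    rw [AlgHom.commutes] at h5
    exact h5
  rw [pow_mul', Ideal.map_pow, eq_bot_iff, ← hJ]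
  exact Ideal.pow_right_mono h1 2

/-- Let X and Y be locally Noetherian schemes, f : X ⟶ Y locally of finite type, x a point of X and y =
f x; give O_{X,x} the O_{Y,y}-algebra structure coming from f. Then O_{X,x} is formally smooth over
O_{Y,y} for the adic topologies of the two local rings (topologies defined by the maximal ideals) if
and only if it is formally smooth for the discrete topologies. -/
theorem result {X Y : Scheme.{u}} [IsLocallyNoetherian X] [IsLocallyNoetherian Y]
    (f : X ⟶ Y) [LocallyOfFiniteType f] (x : X) :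
    letI : Algebra (Y.presheaf.stalk (f.base x)) (X.presheaf.stalk x) := (f.stalkMap x).hom.toAlgebra
    EGA41.IsFormallySmoothAdic (Y.presheaf.stalk (f.base x)) (IsLocalRing.maximalIdeal (Y.presheaf.stalk (f.base x)))
        (X.presheaf.stalk x) (IsLocalRing.maximalIdeal (X.presheaf.stalk x)) ↔
      Algebra.FormallySmooth (Y.presheaf.stalk (f.base x)) (X.presheaf.stalk x) := by
  let _ : Algebra (Y.presheaf.stalk (f.base x)) (X.presheaf.stalk x) := (f.stalkMap x).hom.toAlgebra
  have hloc : IsLocalHom (algebraMap (Y.presheaf.stalk (f.base x)) (X.presheaf.stalk x)) := by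
    rw [RingHom.algebraMap_toAlgebra]
    infer_instance
  have hE : Algebra.EssFiniteType (Y.presheaf.stalk (f.base x)) (X.presheaf.stalk x) :=
    LocallyOfFiniteType.stalkMap f x
  constructor
  · intro h
    exact formallySmooth_of_isAdicFormallySmooth_of_essFiniteType (adic_of_adicBoth h)
  · intro h
    exact adicBoth_of_formallySmooth _ _

end Groth.Agent.S3436
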