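import Groth.Statements.S7134
-- import your own Groth.Agent.* helpers here
import Mathlib
import Groth.Agent.S3436
import Groth.Agent.Lib.Helper49.FSQuot
import Groth.Agent.Lib.Helper49.MacLane
import Groth.Agent.Lib.Helper49.GeomRegFS7
import Groth.Agent.Lib.Helper76.RegularLocal

set_option autoImplicit false
universe u
open EtAlg

namespace Groth.Agent.S7134

open IsLocalRing TensorProduct

theorem isAdicFormallySmooth_quotient {A B : Type u} [CommRing A] [CommRing B] [Algebra A B]
    (I : Ideal A) (𝔫 : Ideal B) (h : CAlgX.IsAdicFormallySmooth A B 𝔫) :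
    CAlgX.IsAdicFormallySmooth (A ⧸ I) (B ⧸ I.map (algebraMap A B))
      (𝔫.map (Ideal.Quotient.mk (I.map (algebraMap A B)))) := by
  intro C _ _ J hJ ψ hψ
  obtain ⟨j, hj⟩ := hψ
  let _ : Algebra A C := ((algebraMap (A ⧸ I) C).comp (Ideal.Quotient.mk I)).toAlgebra
  have : IsScalarTower A (A ⧸ I) C := IsScalarTower.of_algebraMap_eq (fun x => rfl)
  let ψ' : B →ₐ[A] C ⧸ J :=
    { ψ.toRingHom.comp (Ideal.Quotient.mk (I.map (algebraMap A B))) with
      commutes' := fun a => by
        change ψ (Ideal.Quotient.mk _ (algebraMap A B a)) = _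
        have h1 : Ideal.Quotient.mk (I.map (algebraMap A B)) (algebraMap A B a) =
            algebraMap (A ⧸ I) (B ⧸ I.map (algebraMap A B)) (Ideal.Quotient.mk I a) := rfl
        rw [h1, ψ.commutes]
        rfl }
  obtain ⟨χ', hχ'⟩ := h C J hJ ψ' ⟨j, fun x hx => by
    change ψ (Ideal.Quotient.mk _ x) = 0
    apply hj
    rw [← Ideal.map_pow]
    exact Ideal.mem_map_of_mem _ hx⟩
  have hkill : ∀ b ∈ I.map (algebraMap A B), χ' b = 0 := by
    intro b hb
    refine Submodule.span_induction ?_ ?_ ?_ ?_ hb
    · rintro _ ⟨a, ha, rfl⟩
      rw [χ'.commutes]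
      change algebraMap (A ⧸ I) C (Ideal.Quotient.mk I a) = 0
      rw [Ideal.Quotient.eq_zero_iff_mem.mpr ha, map_zero]
    · exact map_zero _
    · intro x y _ _ hx hy
      rw [map_add, hx, hy, add_zero]
    · intro c x _ hx
      rw [smul_eq_mul, map_mul, hx, mul_zero]
  let χ₀ : B ⧸ I.map (algebraMap A B) →+* C := Ideal.Quotient.lift _ χ'.toRingHom hkill
  refine ⟨{ χ₀ with commutes' := fun c => ?_ }, ?_⟩
  · obtain ⟨a, rfl⟩ := Ideal.Quotient.mk_surjective c
    change χ₀ (Ideal.Quotient.mk _ (algebraMap A B a)) = _
    change χ' (algebraMap A B a) = _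
    rw [χ'.commutes]
    rfl
  · ext y
    obtain ⟨b, rfl⟩ := Ideal.Quotient.mk_surjective y
    exact DFunLike.congr_fun hχ' b

theorem isReduced_of_isRegularRing (R : Type u) [CommRing R] [IsRegularRing R] : IsReduced R := by
  apply isReduced_ofLocalizationMaximal
  intro P hP
  have : IsDomain (Localization.AtPrime P) :=
    Groth.Agent.Lib.Helper76.isDomain_of_isRegularLocalRing _
  infer_instance

theorem geomReduced_of_geomRegular {k K : Type u} [Field k] [Field K] [Algebra k K]
    (h : CAlg.IsGeometricallyRegular k K) : Algebra.IsGeometricallyReduced k K := by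
  rw [Algebra.isGeometricallyReduced_field_iff]
  have h1 : IsReduced (K ⊗[k] AlgebraicClosure k) := by
    apply IsReduced.tensorProduct_of_flat_of_forall_fg
    intro D hD
    have hfld : IsField D := Subalgebra.isField_of_algebraic D
    let : Field D := hfld.toField
    have hft : Algebra.FiniteType k D := (Subalgebra.fg_iff_finiteType D).mp hD
    have halg : Algebra.IsAlgebraic k D :=
      Algebra.IsAlgebraic.of_injective D.val Subtype.val_injective
    have hint : Algebra.IsIntegral k D := Algebra.IsAlgebraic.isIntegral
    have hfin : Module.Finite k D := Algebra.IsIntegral.finite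
    have hreg : IsRegularRing (D ⊗[k] K) := h D hfin
    have hred : IsReduced (D ⊗[k] K) := isReduced_of_isRegularRing _
    exact isReduced_of_injective (Algebra.TensorProduct.comm k K D).toAlgHom
      (Algebra.TensorProduct.comm k K D).injective
  exact isReduced_of_injective (Algebra.TensorProduct.comm k (AlgebraicClosure k) K).toAlgHom
    (Algebra.TensorProduct.comm k (AlgebraicClosure k) K).injective

abbrev Fib (A B : Type u) [CommRing A] [IsLocalRing A] [CommRing B] [Algebra A B] : Type u :=
  B ⧸ (maximalIdeal A).map (algebraMap A B)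

@[instance_reducible]
noncomputable def fibAlgebra (A B : Type u) [CommRing A] [IsLocalRing A] [CommRing B]
    [Algebra A B] : Algebra (ResidueField A) (Fib A B) :=
  inferInstanceAs (Algebra (A ⧸ maximalIdeal A) (B ⧸ (maximalIdeal A).map (algebraMap A B)))

theorem forward (A B : Type u) [CommRing A]
    [IsDomain A] [IsDiscreteValuationRing A] [CommRing B] [IsDomain B] [IsDiscreteValuationRing B]
    [Algebra A B]
    (hinj : Function.Injective (algebraMap A B)) [IsLocalHom (algebraMap A B)]
    (h : CAlgX.IsAdicFormallySmooth A B (IsLocalRing.maximalIdeal B)) :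
    (maximalIdeal A).map (algebraMap A B) = maximalIdeal B ∧
      Algebra.IsGeometricallyReduced (IsLocalRing.ResidueField A) (IsLocalRing.ResidueField B) := by
  have hle : (maximalIdeal A).map (algebraMap A B) ≤ maximalIdeal B :=
    IsLocalRing.map_maximalIdeal_le (algebraMap A B)
  have h0 := isAdicFormallySmooth_quotient (maximalIdeal A) (maximalIdeal B) h
  have hnt : Nontrivial (Fib A B) := Ideal.Quotient.nontrivial_iff.mpr
    (fun h => (maximalIdeal.isMaximal B).ne_top (top_le_iff.mp (h ▸ hle)))
  have hloc : IsLocalRing (Fib A B) :=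
    IsLocalRing.of_surjective' (Ideal.Quotient.mk ((maximalIdeal A).map (algebraMap A B)))
      Ideal.Quotient.mk_surjective
  have hmax : (maximalIdeal B).map (Ideal.Quotient.mk ((maximalIdeal A).map (algebraMap A B))) =
      maximalIdeal (Fib A B) :=
    map_maximalIdeal_of_surjective _ Ideal.Quotient.mk_surjective
  let : Algebra (ResidueField A) (Fib A B) := fibAlgebra A B
  have h1 : CAlgX.IsAdicFormallySmooth (ResidueField A) (Fib A B) (maximalIdeal (Fib A B)) := by
    rw [← hmax]
    exact h0
  have hreg : IsRegularLocalRing (Fib A B) :=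
    (Groth.Agent.Lib.Helper49.FSRegular.isRegularLocalRing_of_isAdicFormallySmooth_field h1).1
  have hdom : IsDomain (Fib A B) := Groth.Agent.Lib.Helper76.isDomain_of_isRegularLocalRing _
  obtain ⟨ϖ, hϖ⟩ := IsDiscreteValuationRing.exists_irreducible B
  have hIne : (maximalIdeal A).map (algebraMap A B) ≠ ⊥ := by
    obtain ⟨π, hπ⟩ := IsDiscreteValuationRing.exists_irreducible A
    intro hI
    have h2 : algebraMap A B π ∈ (maximalIdeal A).map (algebraMap A B) := Ideal.mem_map_of_mem _
      ((IsDiscreteValuationRing.irreducible_iff_uniformizer π).mp hπ ▸ Ideal.mem_span_singleton_self π)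
    rw [hI, Ideal.mem_bot] at h2
    exact hπ.ne_zero (hinj (h2.trans (map_zero _).symm))
  obtain ⟨n, hn⟩ := IsDiscreteValuationRing.ideal_eq_span_pow_irreducible hIne hϖ
  have hϖI : ϖ ∈ (maximalIdeal A).map (algebraMap A B) := by
    have h3 : Ideal.Quotient.mk ((maximalIdeal A).map (algebraMap A B)) ϖ ^ n = 0 := by
      rw [← map_pow, Ideal.Quotient.eq_zero_iff_mem, hn]
      exact Ideal.mem_span_singleton_self _
    exact Ideal.Quotient.eq_zero_iff_mem.mp (eq_zero_of_pow_eq_zero h3)
  have hw : (maximalIdeal A).map (algebraMap A B) = maximalIdeal B := by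
    refine le_antisymm hle ?_
    rw [(IsDiscreteValuationRing.irreducible_iff_uniformizer ϖ).mp hϖ, Ideal.span_le,
      Set.singleton_subset_iff]
    exact hϖI
  refine ⟨hw, ?_⟩
  let e₀ : Fib A B ≃+* ResidueField B := Ideal.quotEquivOfEq hw
  let e : Fib A B ≃ₐ[ResidueField A] ResidueField B :=
    { e₀ with
      commutes' := fun c => by
        obtain ⟨a, rfl⟩ := residue_surjective c
        rfl }
  have h2 : CAlgX.IsAdicFormallySmooth (ResidueField A) (ResidueField B)
      (maximalIdeal (ResidueField B)) :=
    Groth.Agent.Lib.Helper49.FSRegular.isAdicFormallySmooth_of_algEquiv e (maximalIdeal (Fib A B)) _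
      (by
        rw [Ideal.map_le_iff_le_comap]
        intro x hx
        rw [Ideal.mem_comap]
        have : x = 0 := by
          have hfield : maximalIdeal (Fib A B) = ⊥ := by
            rw [← hmax, ← hw]
            exact Ideal.map_quotient_self _
          rw [hfield] at hx
          exact hx
        rw [this, map_zero]
        exact zero_mem _) h1
  exact geomReduced_of_geomRegular
    (Groth.Agent.Lib.Helper49.GeomRegFS.isGeometricallyRegular_iff_isAdicFormallySmooth.mpr h2)

/-- For an injective local homomorphism A → B of discrete valuation rings, A → B is formally smooth for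
the adic topology of the maximal ideal of B if and only if A → B is weakly unramified and the
residue field of B is a separable (possibly transcendental, i.e. geometrically reduced) extension of
the residue field of A. -/
theorem result (A B : Type u) [CommRing A]
    [IsDomain A] [IsDiscreteValuationRing A] [CommRing B] [IsDomain B] [IsDiscreteValuationRing B] [Algebra A B]
    (hinj : Function.Injective (algebraMap A B)) [IsLocalHom (algebraMap A B)] :
    CAlgX.IsAdicFormallySmooth A B (IsLocalRing.maximalIdeal B) ↔
      EtRam.IsWeaklyUnramified A B ∧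
        Algebra.IsGeometricallyReduced (IsLocalRing.ResidueField A) (IsLocalRing.ResidueField B) := by
  constructor
  · intro h
    exact forward A B hinj h
  · rintro ⟨hw, hgr⟩
    have htf : Module.IsTorsionFree A B := by
      rw [Module.isTorsionFree_iff_algebraMap_injective]
      exact hinj
    have hflat : Module.Flat A B := inferInstance
    have hfs : Algebra.FormallySmooth (ResidueField A) (ResidueField B) :=
      Groth.Agent.Lib.Helper49.MacLane.formallySmooth_of_geomReduced
    exact Groth.Agent.S3436.adic_of_adicBoth
      (Groth.Agent.Lib.Helper49.FSQuot.isFormallySmoothAdic_of_flat_of_residueField hw hfs)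

end Groth.Agent.S7134
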