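import Groth.Statements.S0581
import Groth.Agent.Lib.Helper38.ComplNorm
import Groth.Agent.Lib.Helper38.CohenStructure
import Groth.Agent.Lib.Helper49.CoeffFieldPS

set_option autoImplicit false
universe u
open CAlg

namespace Groth.Agent.S0581

/-- A complete Noetherian local domain `R` contains a subring `R₀` over which it is module-finite with
the same residue field, where `R₀` is a power series ring in finitely many variables over a field or
over a Cohen ring. Stated with `R₀` given as the image of an injective ring map. -/
theorem result (R : Type u) [CommRing R]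
    [IsDomain R] [IsLocalRing R] [IsNoetherianRing R] [IsAdicComplete (IsLocalRing.maximalIdeal R) R] :
    ∃ (Λ : Type u) (_ : CommRing Λ) (n : ℕ) (f : MvPowerSeries (Fin n) Λ →+* R),
      (IsField Λ ∨ CAlg.IsCohenRing Λ) ∧ Function.Injective f ∧ f.Finite ∧
      Function.Surjective ((IsLocalRing.residue R).comp f) := by
  open IsLocalRing Groth.Agent.Lib.Helper38 in
  -- the equal characteristic case, given a coefficient field
  have hfield : (∃ s : ResidueField R →+* R, (residue R).comp s = RingHom.id _) →
      ∃ (Λ : Type u) (_ : CommRing Λ) (n : ℕ) (f : MvPowerSeries (Fin n) Λ →+* R),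
        (IsField Λ ∨ CAlg.IsCohenRing Λ) ∧ Function.Injective f ∧ f.Finite ∧
        Function.Surjective ((IsLocalRing.residue R).comp f) := by
    rintro ⟨s, hs⟩
    have : IsAdicComplete (Ideal.span {(0 : ResidueField R)}) (ResidueField R) := by
      rw [Ideal.span_singleton_eq_bot.mpr rfl]; infer_instance
    have hsurj : Function.Surjective ((residue R).comp s) := by
      rw [hs]; exact Function.surjective_id
    obtain ⟨n, f, hinj, hfin, hC⟩ := ComplNorm.exists_normalization (0 : ResidueField R) s hsurj
      (by rw [map_zero]; exact zero_mem _) 0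
      (by rw [ringKrullDim_eq_zero_of_field]; rfl)
      (by rw [Nat.cast_zero, add_zero]; exact ringKrullDim_quotient_le _)
    refine ⟨ResidueField R, inferInstance, n, f, Or.inl (Field.toIsField _), hinj, hfin, ?_⟩
    intro y
    obtain ⟨c, hc⟩ := hsurj y
    exact ⟨MvPowerSeries.C c, by rw [RingHom.comp_apply, hC]; exact hc⟩
  open IsLocalRing Groth.Agent.Lib.Helper38 in
  obtain ⟨p, hp⟩ := CharP.exists (ResidueField R)
  rcases CharP.char_is_prime_or_zero (ResidueField R) p with hpp | rfl
  · have : Fact p.Prime := ⟨hpp⟩
    by_cases hpR : (p : R) = 0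
    · apply hfield
      obtain ⟨σ, hσ⟩ := Groth.Agent.Lib.Helper49.CoeffField.exists_section p hpR
      exact ⟨σ, RingHom.ext hσ⟩
    · obtain ⟨Λ, _, _, hD, hDVR, hc, hmax, hp0, ⟨e⟩⟩ :=
        CohenCompl.exists_cohenRing' p (ResidueField R)
      have hpI : (p : R) ∈ maximalIdeal R := by
        rw [← residue_eq_zero_iff, map_natCast]
        exact CharP.cast_eq_zero _ p
      obtain ⟨g, hg⟩ := CohenStructure.exists_lift_cohenRing p hmax hp0 (maximalIdeal R) hpI
        (e.toRingHom.comp (residue Λ))
      have hsurj : Function.Surjective ((residue R).comp g) := by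
        have : (residue R).comp g = e.toRingHom.comp (residue Λ) := hg
        rw [this]
        exact e.surjective.comp residue_surjective
      have : IsAdicComplete (Ideal.span {(p : Λ)}) Λ := by rw [← hmax]; exact hc
      have hgp : g (p : Λ) = (p : R) := map_natCast g p
      obtain ⟨n, f, hinj, hfin, hC⟩ := ComplNorm.exists_normalization (p : Λ) g hsurj
        (by rw [hgp]; exact hpI) 1
        (by rw [IsDiscreteValuationRing.ringKrullDim_eq_one]; rfl)
        (by
          rw [hgp, Nat.cast_one]
          exact ringKrullDim_quotient_succ_le_of_nonZeroDivisor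
            (mem_nonZeroDivisors_of_ne_zero hpR))
      refine ⟨Λ, inferInstance, n, f, Or.inr ⟨hD, hDVR, hc, p, hpp, hmax⟩, hinj, hfin, ?_⟩
      intro y
      obtain ⟨c, hc⟩ := hsurj y
      exact ⟨MvPowerSeries.C c, by rw [RingHom.comp_apply, hC]; exact hc⟩
  · have : CharZero (ResidueField R) := CharP.charP_to_charZero _
    exact hfield (Groth.Agent.S0579.result R)

end Groth.Agent.S0581
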