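import Groth.Statements.S4602
-- import your own Groth.Agent.* helpers here
import Groth.Agent.Lib.Helper49.FormalFibre1
import Groth.Agent.Lib.Helper49.FormalFibre2
import Groth.Agent.Lib.Helper49.GeomRegFS7
import Groth.Agent.Lib.Helper87.HensNoeth
import Groth.Agent.Lib.Helper77.RegularLocalization
import Groth.Agent.Lib.Helper77.RegularCompletion
import Groth.Agent.S0543

set_option autoImplicit false
universe u
open IsLocalRing
open EGA41

namespace Groth.Agent.S4602

open TensorProduct

theorem nonempty_equiv_comap {R P : Type u} [CommRing R] [CommRing P] (e : R ≃+* P)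
    (q : Ideal P) [q.IsPrime] :
    Nonempty (Localization.AtPrime (q.comap e) ≃+* Localization.AtPrime q) := by
  refine ⟨IsLocalization.ringEquivOfRingEquiv (M := (q.comap e).primeCompl)
    (Localization.AtPrime (q.comap e)) (T := q.primeCompl) (Localization.AtPrime q) e ?_⟩
  ext y
  constructor
  · rintro ⟨x, hx, rfl⟩
    exact hx
  · intro hy
    refine ⟨e.symm y, ?_, e.apply_symm_apply y⟩
    show e.symm y ∉ q.comap e
    rw [Ideal.mem_comap, e.apply_symm_apply]
    exact hy

theorem nonempty_equiv_loc {T TK : Type u} [CommRing T] [CommRing TK] [Algebra T TK]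
    (M : Submonoid T) [IsLocalization M TK] (Q : Ideal TK) [Q.IsPrime] :
    Nonempty (Localization.AtPrime (Q.comap (algebraMap T TK)) ≃+* Localization.AtPrime Q) := by
  have := IsLocalization.isLocalization_isLocalization_atPrime_isLocalization
    M (Localization.AtPrime Q) Q
  exact ⟨(IsLocalization.algEquiv (Q.comap (algebraMap T TK)).primeCompl _ _).toRingEquiv⟩

theorem regular_core
    {A B : Type u} [CommRing A] [IsRegularLocalRing A] [CharZero A] [CommRing B] [IsDomain B]
    [Algebra A B] [Module.Finite A B] (hinj : Function.Injective (algebraMap A B)) (n : Ideal B)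
    [n.IsPrime]
    (q : Ideal (AdicCompletion (maximalIdeal (Localization.AtPrime n)) (Localization.AtPrime n)))
    [q.IsPrime]
    (hq : q.comap (algebraMap (Localization.AtPrime n)
      (AdicCompletion (maximalIdeal (Localization.AtPrime n)) (Localization.AtPrime n))) = ⊥) :
    IsRegularLocalRing (Localization.AtPrime q) := by
  classical
  haveI hAdom : IsDomain A := Function.Injective.isDomain (algebraMap A B) hinj
  let p : Ideal A := Ideal.comap (algebraMap A B) n
  haveI hpp : p.IsPrime := Ideal.comap_isPrime _ _
  let Ap := Localization.AtPrime p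
  haveI hApN : IsNoetherianRing Ap := IsLocalization.isNoetherianRing p.primeCompl _ inferInstance
  haveI hApR : IsRegularLocalRing Ap :=
    Groth.Agent.Lib.Helper77.RegularLocalization.localization_regular A p
  haveI hApRR : IsRegularRing Ap :=
    Groth.Agent.Lib.Helper77.RegularLocalization.isRegularRing_of_isRegularLocalRing Ap
  haveI hBN : IsNoetherianRing B := IsNoetherianRing.of_finite A B
  let Ah := AdicCompletion (IsLocalRing.maximalIdeal Ap) Ap
  haveI hAhN : IsNoetherianRing Ah := Groth.Agent.S0543.result Ap _
  haveI : HenselianLocalRing Ah := Groth.Agent.Lib.Helper87.Hens.henselianLocalRing_adicCompletion Ap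
  haveI hAhR : IsRegularRing Ah :=
    Groth.Agent.Lib.Helper77.RegularCompletion.isRegularRing_adicCompletion Ap (maximalIdeal Ap)
  let ρ : Ah →ₐ[A] p.ResidueField :=
    { (AdicCompletion.evalOneₐ (IsLocalRing.maximalIdeal Ap)).toRingHom with
      commutes' := fun r => by
        show AdicCompletion.evalOneₐ (IsLocalRing.maximalIdeal Ap)
          (algebraMap Ap Ah (algebraMap A Ap r)) = _
        rw [AlgHom.commutes]
        rfl }
  have hker : RingHom.ker ρ.toRingHom = IsLocalRing.maximalIdeal Ah := by
    rw [AdicCompletion.maximalIdeal_eq_map,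
      ← AdicCompletion.ker_evalOneₐ_eq_map _ (IsLocalRing.maximalIdeal Ap).fg_of_isNoetherianRing]
    rfl
  have hm : IsLocalRing.maximalIdeal Ah = p.map (algebraMap A Ah) := by
    rw [AdicCompletion.maximalIdeal_eq_map]
    have h1 : IsLocalRing.maximalIdeal Ap = p.map (algebraMap A Ap) :=
      (Localization.AtPrime.map_eq_maximalIdeal (I := p)).symm
    rw [congrArg (Ideal.map (algebraMap Ap Ah)) h1, Ideal.map_map]
    rfl
  haveI : IsScalarTower A Ap Ah := IsScalarTower.of_algebraMap_eq (fun _ => rfl)
  haveI : Module.Flat Ap Ah := AdicCompletion.flat_of_isNoetherian _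
  haveI : Module.Flat A Ah := Module.Flat.trans A Ap Ah
  obtain ⟨e, he⟩ := Groth.Agent.Lib.Helper49.FormalFibre.exists_equiv (R := A) (R' := B) (p' := n)
    (Ah := Ah) (ρ := ρ) hker hm
  let T := Ah ⊗[A] B
  let Dh := Groth.Agent.Lib.Helper67.QFFormal.D A B n Ah ρ
  let q₁ : Ideal Dh := q.comap e
  haveI hq₁ : q₁.IsPrime := Ideal.comap_isPrime _ _
  obtain ⟨e₁⟩ := nonempty_equiv_comap e q
  let q₂ : Ideal T := q₁.comap (algebraMap T Dh)
  haveI hq₂ : q₂.IsPrime := Ideal.comap_isPrime _ _
  obtain ⟨e₂⟩ := nonempty_equiv_loc (T := T) (TK := Dh)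
    (Groth.Agent.Lib.Helper67.QFFormal.q A B n Ah ρ).primeCompl q₁
  let c : B ⊗[A] Ah ≃+* T := (Algebra.TensorProduct.comm A B Ah).toRingEquiv
  let q₃ : Ideal (B ⊗[A] Ah) := q₂.comap c
  haveI hq₃ : q₃.IsPrime := Ideal.comap_isPrime _ _
  obtain ⟨e₃⟩ := nonempty_equiv_comap c q₂
  have hq₃bot : q₃.comap (algebraMap B (B ⊗[A] Ah)) = ⊥ := by
    rw [eq_bot_iff]
    intro b hb
    rw [Ideal.mem_bot]
    have h1 : e (algebraMap T Dh (c (algebraMap B (B ⊗[A] Ah) b))) ∈ q := hb
    have h2 : c (algebraMap B (B ⊗[A] Ah) b) = (1 : Ah) ⊗ₜ[A] b := by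
      show Algebra.TensorProduct.comm A B Ah (b ⊗ₜ[A] (1 : Ah)) = _
      rw [Algebra.TensorProduct.comm_tmul]
    rw [h2, ← Groth.Agent.Lib.Helper67.QFFormal.toD_algebraMap, he] at h1
    have h3 : algebraMap B (Localization.AtPrime n) b ∈ q.comap (algebraMap (Localization.AtPrime n)
      (AdicCompletion (maximalIdeal (Localization.AtPrime n)) (Localization.AtPrime n))) := h1
    rw [hq, Ideal.mem_bot] at h3
    exact (IsLocalization.to_map_eq_zero_iff (Localization.AtPrime n)
      n.primeCompl_le_nonZeroDivisors).mp h3
  have hbot : (⊥ : Ideal B).under A = ⊥ := Ideal.comap_bot_of_injective _ hinj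
  have hAC := Groth.Agent.Lib.Helper49.FormalFibre.isGeometricallyRegular_fiber_of_eq_bot A Ah hAhR
    ((⊥ : Ideal B).under A) hbot
  have hreg₃ : IsRegularLocalRing (Localization.AtPrime q₃) :=
    Groth.Agent.Lib.Helper49.FormalFibre.isRegularLocalRing_atPrime_of_comap_eq_bot A Ah B hAC q₃
      hq₃bot
  have hreg₂ : IsRegularLocalRing (Localization.AtPrime q₂) :=
    IsRegularLocalRing.of_ringEquiv (R := Localization.AtPrime q₃) e₃
  have hreg₁ : IsRegularLocalRing (Localization.AtPrime q₁) :=
    IsRegularLocalRing.of_ringEquiv (R := Localization.AtPrime q₂) e₂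
  exact IsRegularLocalRing.of_ringEquiv (R := Localization.AtPrime q₁) e₁

/-- Let A be a regular local ring with fraction field of characteristic zero, B a domain containing A
and module-finite over it, with fraction field L, n a prime of B, C = B_n, q a prime of the
completion Ĉ with q ∩ C = 0. Then Ĉ_q is formally smooth over L for the adic topology of its maximal
ideal. (Case (ii) of the published statement, in characteristic p with a suitable filtered family of
subrings, is not stated.) -/
theorem result
    {A B : Type u} [CommRing A] [IsRegularLocalRing A] [CharZero A] [CommRing B] [IsDomain B] [Algebra A B]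
    [Module.Finite A B] (hinj : Function.Injective (algebraMap A B)) (n : Ideal B) [n.IsPrime]
    (q : Ideal (AdicCompletion (maximalIdeal (Localization.AtPrime n)) (Localization.AtPrime n))) [q.IsPrime]
    (hq : q.comap (algebraMap (Localization.AtPrime n)
      (AdicCompletion (maximalIdeal (Localization.AtPrime n)) (Localization.AtPrime n))) = ⊥)
    [Algebra B (Localization.AtPrime q)]
    [IsScalarTower B (AdicCompletion (maximalIdeal (Localization.AtPrime n)) (Localization.AtPrime n))
      (Localization.AtPrime q)]
    [Algebra (FractionRing B) (Localization.AtPrime q)] [IsScalarTower B (FractionRing B) (Localization.AtPrime q)] :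
    CAlgX.IsAdicFormallySmooth (FractionRing B) (Localization.AtPrime q) (maximalIdeal (Localization.AtPrime q)) := by
  haveI hreg : IsRegularLocalRing (Localization.AtPrime q) := regular_core hinj n q hq
  haveI hBN : IsNoetherianRing B := IsNoetherianRing.of_finite A B
  haveI hCN : IsNoetherianRing (Localization.AtPrime n) :=
    IsLocalization.isNoetherianRing n.primeCompl _ inferInstance
  haveI hChN : IsNoetherianRing
      (AdicCompletion (maximalIdeal (Localization.AtPrime n)) (Localization.AtPrime n)) :=
    Groth.Agent.S0543.result (Localization.AtPrime n) _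
  haveI hDN : IsNoetherianRing (Localization.AtPrime q) :=
    IsLocalization.isNoetherianRing q.primeCompl _ inferInstance
  haveI hB0 : CharZero B := charZero_of_injective_algebraMap hinj
  haveI hL0 : CharZero (FractionRing B) :=
    charZero_of_injective_algebraMap (IsFractionRing.injective B (FractionRing B))
  have hRR : IsRegularRing (Localization.AtPrime q) :=
    Groth.Agent.Lib.Helper77.RegularLocalization.isRegularRing_of_isRegularLocalRing _
  exact Groth.Agent.Lib.Helper49.GeomRegFS.isGeometricallyRegular_iff_isAdicFormallySmooth.mp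
    (Groth.Agent.Lib.Helper67.RegLocus.isGeometricallyRegular_of_charZero (FractionRing B)
      (Localization.AtPrime q) hRR)

end Groth.Agent.S4602
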