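import Groth.Statements.S4583
-- import your own Groth.Agent.* helpers here
import Groth.Agent.S4602
import Groth.Agent.S0581
import Groth.Agent.Lib.Helper49.FSTransfer
import Groth.Agent.Lib.Helper49.HpFibre
import Groth.Agent.Lib.Helper70.CohenFact2

set_option autoImplicit false
universe u
open IsLocalRing
open EGA41

namespace Groth.Agent.S4583

open TensorProduct

theorem fs_core
    {A B : Type u} [CommRing A] [IsDomain A] [IsRegularLocalRing A] [CommRing B] [IsDomain B]
    [Algebra A B] [Module.Finite A B] (hinj : Function.Injective (algebraMap A B)) (n : Ideal B)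
    [n.IsPrime]
    (hAC : ∀ (p₀ : Ideal A) [p₀.IsPrime], CAlg.IsGeometricallyRegular
      (⊥ : Ideal A).ResidueField ((⊥ : Ideal A).Fiber
        (AdicCompletion (maximalIdeal (Localization.AtPrime p₀)) (Localization.AtPrime p₀))))
    (q : Ideal (AdicCompletion (maximalIdeal (Localization.AtPrime n)) (Localization.AtPrime n)))
    [q.IsPrime]
    (KB : Type u) [Field KB] [Algebra B KB] [IsFractionRing B KB]
    [Algebra KB (Localization.AtPrime q)]
    (hK : ∀ b : B, algebraMap KB (Localization.AtPrime q) (algebraMap B KB b) =
      algebraMap (AdicCompletion (maximalIdeal (Localization.AtPrime n)) (Localization.AtPrime n))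
        (Localization.AtPrime q)
        (algebraMap (Localization.AtPrime n) _ (algebraMap B (Localization.AtPrime n) b))) :
    CAlgX.IsAdicFormallySmooth KB (Localization.AtPrime q)
      (maximalIdeal (Localization.AtPrime q)) := by
  classical
  let p : Ideal A := Ideal.comap (algebraMap A B) n
  haveI hpp : p.IsPrime := Ideal.comap_isPrime _ _
  let Ap := Localization.AtPrime p
  haveI hApN : IsNoetherianRing Ap := IsLocalization.isNoetherianRing p.primeCompl _ inferInstance
  haveI hApR : IsRegularLocalRing Ap :=
    Groth.Agent.Lib.Helper77.RegularLocalization.localization_regular A p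
  haveI hBN : IsNoetherianRing B := IsNoetherianRing.of_finite A B
  let Ah := AdicCompletion (IsLocalRing.maximalIdeal Ap) Ap
  haveI hAhN : IsNoetherianRing Ah := Groth.Agent.S0543.result Ap _
  haveI : HenselianLocalRing Ah := Groth.Agent.Lib.Helper87.Hens.henselianLocalRing_adicCompletion Ap
  let ρ : Ah →ₐ[A] p.ResidueField :=
    { (AdicCompletion.evalOneₐ (IsLocalRing.maximalIdeal Ap)).toRingHom with
      commutes' := fun r => by
        show AdicCompletion.evalOneₐ (IsLocalRing.maximalIdeal Ap)
          (algebraMap Ap Ah (algebraMap A Ap r)) = _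
        rw [AlgHom.commutes]
        rfl }
  have hker : RingHom.ker ρ.toRingHom = IsLocalRing.maximalIdeal Ah := by
    rw [AdicCompletion.maximalIdeal_eq_map,
      ← AdicCompletion.ker_evalOneₐ_eq_map _ (IsLocalRing.maximalIdeal Ap).fg_of_isNoetherianRing]
    rfl
  have hm : IsLocalRing.maximalIdeal Ah = p.map (algebraMap A Ah) := by
    rw [AdicCompletion.maximalIdeal_eq_map]
    have h1 : IsLocalRing.maximalIdeal Ap = p.map (algebraMap A Ap) :=
      (Localization.AtPrime.map_eq_maximalIdeal (I := p)).symm
    rw [congrArg (Ideal.map (algebraMap Ap Ah)) h1, Ideal.map_map]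
    rfl
  haveI : IsScalarTower A Ap Ah := IsScalarTower.of_algebraMap_eq (fun _ => rfl)
  haveI : Module.Flat Ap Ah := AdicCompletion.flat_of_isNoetherian _
  haveI : Module.Flat A Ah := Module.Flat.trans A Ap Ah
  obtain ⟨e, he⟩ := Groth.Agent.Lib.Helper49.FormalFibre.exists_equiv (R := A) (R' := B) (p' := n)
    (Ah := Ah) (ρ := ρ) hker hm
  let Dh := Groth.Agent.Lib.Helper67.QFFormal.D A B n Ah ρ
  let Bh := AdicCompletion (maximalIdeal (Localization.AtPrime n)) (Localization.AtPrime n)
  letI algDE : Algebra Dh (Localization.AtPrime q) :=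
    ((algebraMap Bh (Localization.AtPrime q)).comp e.symm.symm.toRingHom).toAlgebra
  haveI hloc2 : IsLocalization (q.primeCompl.map e.symm) (Localization.AtPrime q) :=
    IsLocalization.isLocalization_of_base_ringEquiv q.primeCompl (Localization.AtPrime q) e.symm
  letI algTE : Algebra (Ah ⊗[A] B) (Localization.AtPrime q) :=
    ((algebraMap Dh (Localization.AtPrime q)).comp (algebraMap (Ah ⊗[A] B) Dh)).toAlgebra
  haveI : IsScalarTower (Ah ⊗[A] B) Dh (Localization.AtPrime q) := by
    have h : @IsScalarTower (Ah ⊗[A] B) Dh (Localization.AtPrime q) Algebra.toSMul Algebra.toSMul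
        Algebra.toSMul := IsScalarTower.of_algebraMap_eq (fun _ => rfl)
    exact h
  haveI hloc3 := IsLocalization.localization_localization_isLocalization
    (Groth.Agent.Lib.Helper67.QFFormal.q A B n Ah ρ).primeCompl
    (q.primeCompl.map e.symm) (Localization.AtPrime q)
  refine Groth.Agent.Lib.Helper49.FSTransfer.fs_transfer (A := A) (B := B) (Ah := Ah)
    (E := Localization.AtPrime q) (KB := KB) hinj
    (IsLocalization.localizationLocalizationSubmodule
      (Groth.Agent.Lib.Helper67.QFFormal.q A B n Ah ρ).primeCompl (q.primeCompl.map e.symm))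
    ?_ (hAC p)
  intro b
  show algebraMap Bh (Localization.AtPrime q)
    (e (algebraMap (Ah ⊗[A] B) Dh ((1 : Ah) ⊗ₜ[A] b))) = _
  rw [← Groth.Agent.Lib.Helper67.QFFormal.toD_algebraMap, he, hK]

theorem charZero_of_isCohenRing (Λ : Type u) [CommRing Λ] (h : CAlg.IsCohenRing Λ) : CharZero Λ := by
  obtain ⟨hD, hDVR, hc, p, hp, hmax⟩ := h
  have hp0 : (p : Λ) ≠ 0 := by
    intro h0
    rw [h0, Ideal.span_singleton_eq_bot.mpr rfl] at hmax
    exact IsDiscreteValuationRing.not_a_field Λ hmax
  obtain ⟨q, hq⟩ := CharP.exists Λ
  rcases CharP.char_is_prime_or_zero Λ q with hqp | rfl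
  · exfalso
    have hq0 : (q : Λ) = 0 := CharP.cast_eq_zero Λ q
    have hpm : (p : Λ) ∈ maximalIdeal Λ := by rw [hmax]; exact Ideal.mem_span_singleton_self _
    by_cases hpq : p = q
    · exact hp0 (hpq ▸ hq0)
    · have hcop : Nat.Coprime p q := (Nat.coprime_primes hp hqp).mpr hpq
      have h1 : ((Nat.gcdA p q * p + Nat.gcdB p q * q : ℤ) : Λ) = 1 := by
        have := Nat.gcd_eq_gcd_ab p q
        rw [hcop] at this
        have h2 : (Nat.gcdA p q * p + Nat.gcdB p q * q : ℤ) = 1 := by
          rw [mul_comm (Nat.gcdA p q), mul_comm (Nat.gcdB p q)]; exact_mod_cast this.symm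
        rw [h2]; simp
      push_cast at h1
      rw [hq0, mul_zero, add_zero] at h1
      have : (1 : Λ) ∈ maximalIdeal Λ := by
        rw [← h1]; exact Ideal.mul_mem_left _ _ hpm
      exact (Ideal.ne_top_iff_one _).mp Ideal.IsPrime.ne_top' this
  · exact CharP.charP_to_charZero Λ

/-- Let A be a complete Noetherian local domain with fraction field K, p a prime of A, B = A_p, q a
prime of the completion B̂ of B with q ∩ B = 0. Then B̂_q is a K-algebra formally smooth over K for
the adic topology of its maximal ideal (the published statement adds that it is then geometrically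
regular over K; that consequence is not stated). -/
theorem result {A : Type u} [CommRing A]
    [IsDomain A] [IsLocalRing A] [IsNoetherianRing A] [IsAdicComplete (maximalIdeal A) A] (p : Ideal A) [p.IsPrime]
    (q : Ideal (AdicCompletion (maximalIdeal (Localization.AtPrime p)) (Localization.AtPrime p))) [q.IsPrime]
    (hq : q.comap (algebraMap (Localization.AtPrime p)
      (AdicCompletion (maximalIdeal (Localization.AtPrime p)) (Localization.AtPrime p))) = ⊥)
    [Algebra A (Localization.AtPrime q)]
    [IsScalarTower A (AdicCompletion (maximalIdeal (Localization.AtPrime p)) (Localization.AtPrime p))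
      (Localization.AtPrime q)]
    [Algebra (FractionRing A) (Localization.AtPrime q)] [IsScalarTower A (FractionRing A) (Localization.AtPrime q)] :
    CAlgX.IsAdicFormallySmooth (FractionRing A) (Localization.AtPrime q) (maximalIdeal (Localization.AtPrime q)) := by
  classical
  obtain ⟨Λ, hΛring, n, f, hΛ, hfinj, hffin, -⟩ := Groth.Agent.S0581.result A
  letI algPA : Algebra (MvPowerSeries (Fin n) Λ) A := f.toAlgebra
  haveI hfin : Module.Finite (MvPowerSeries (Fin n) Λ) A := hffin
  have hinj : Function.Injective (algebraMap (MvPowerSeries (Fin n) Λ) A) := hfinj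
  have hK : ∀ b : A, algebraMap (FractionRing A) (Localization.AtPrime q) (algebraMap A _ b) =
      algebraMap (AdicCompletion (maximalIdeal (Localization.AtPrime p)) (Localization.AtPrime p))
        (Localization.AtPrime q)
        (algebraMap (Localization.AtPrime p) _ (algebraMap A (Localization.AtPrime p) b)) := by
    intro b
    have h := smul_assoc b (1 : FractionRing A) (1 : Localization.AtPrime q)
    have h3 : b • (1 : Localization.AtPrime q) =
        algebraMap (AdicCompletion (maximalIdeal (Localization.AtPrime p)) (Localization.AtPrime p))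
          (Localization.AtPrime q)
          (b • (1 : AdicCompletion (maximalIdeal (Localization.AtPrime p))
            (Localization.AtPrime p))) := by
      rw [← Localization.mk_one, Localization.smul_mk, Localization.mk_one_eq_algebraMap]
    have h4 : b • (1 : FractionRing A) = algebraMap A (FractionRing A) b := by
      rw [← Localization.mk_one, Localization.smul_mk, Localization.mk_one_eq_algebraMap,
        smul_eq_mul, mul_one]
    rw [one_smul, h3, h4, ← Algebra.algebraMap_eq_smul_one] at h
    rw [h]
    congr 1
    rw [Algebra.algebraMap_eq_smul_one]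
    apply AdicCompletion.ext
    intro n
    rw [AdicCompletion.val_smul_apply, AdicCompletion.val_smul_apply, algebraMap_smul]
  rcases hΛ with hfield | hcohen
  · letI := hfield.toField
    haveI : IsDomain (MvPowerSeries (Fin n) Λ) := NoZeroDivisors.to_isDomain _
    haveI := Groth.Agent.Lib.Helper49.FSRegular.isRegularLocalRing_mvPowerSeries Λ n
    obtain ⟨c, hc⟩ := CharP.exists Λ
    rcases CharP.char_is_prime_or_zero Λ c with hcp | hc0
    · haveI := Fact.mk hcp
      exact fs_core hinj p
        (fun p₀ _ => Groth.Agent.Lib.Helper49.HpFibre.isGeometricallyRegular_generic_fiber_cpl c Λ n p₀)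
        q (FractionRing A) hK
    · subst hc0
      haveI : CharZero Λ := CharP.charP_to_charZero Λ
      haveI : CharZero (MvPowerSeries (Fin n) Λ) :=
        charZero_of_injective_ringHom (MvPowerSeries.C_injective (σ := Fin n) (R := Λ))
      exact Groth.Agent.S4602.result hinj p q hq
  · haveI : CharZero Λ := charZero_of_isCohenRing Λ hcohen
    obtain ⟨hdom, hdvr, hcompl, pp, hpp, hmax⟩ := hcohen
    haveI := Groth.Agent.Lib.Helper70.CohenFact.isRegularLocalRing_mvPowerSeries Λ n
    haveI : CharZero (MvPowerSeries (Fin n) Λ) :=
      charZero_of_injective_ringHom (MvPowerSeries.C_injective (σ := Fin n) (R := Λ))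
    exact Groth.Agent.S4602.result hinj p q hq

end Groth.Agent.S4583
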