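import Groth.Statements.S4582
-- import your own Groth.Agent.* helpers here
import Groth.Agent.S4583
import Groth.Agent.Lib.Helper49.CplQuot
import Groth.Agent.Lib.Helper49.FlatFS4
import Groth.Agent.Lib.Helper38.ComplNagata

set_option autoImplicit false
universe u
open IsLocalRing
open EGA41

namespace Groth.Agent.S4582

open TensorProduct

theorem fibre_fs {A : Type u} [CommRing A] [IsLocalRing A] [IsNoetherianRing A]
    [IsAdicComplete (maximalIdeal A) A] (r₀ : Ideal A) [r₀.IsPrime] (p : Ideal A) [p.IsPrime]
    (hrp : r₀ ≤ p)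
    (q : Ideal (AdicCompletion (maximalIdeal (Localization.AtPrime p)) (Localization.AtPrime p)))
    [q.IsPrime]
    (hq : q.comap (algebraMap A
      (AdicCompletion (maximalIdeal (Localization.AtPrime p)) (Localization.AtPrime p))) = r₀)
    (I : Ideal (Localization.AtPrime q))
    (hI : I = (r₀.map (algebraMap A
      (AdicCompletion (maximalIdeal (Localization.AtPrime p)) (Localization.AtPrime p)))).map
        (algebraMap _ (Localization.AtPrime q)))
    (K' : Type u) [Field K'] [Algebra (A ⧸ r₀) K'] [IsFractionRing (A ⧸ r₀) K']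
    [Algebra K' (Localization.AtPrime q ⧸ I)]
    (hcompat : ∀ a : A, algebraMap K' (Localization.AtPrime q ⧸ I)
        (algebraMap (A ⧸ r₀) K' (Ideal.Quotient.mk r₀ a)) =
      Ideal.Quotient.mk I (algebraMap _ (Localization.AtPrime q) (algebraMap A
        (AdicCompletion (maximalIdeal (Localization.AtPrime p)) (Localization.AtPrime p)) a))) :
    CAlgX.IsAdicFormallySmooth K' (Localization.AtPrime q ⧸ I)
      ((maximalIdeal (Localization.AtPrime q)).map (Ideal.Quotient.mk I)) := by
  classical
  haveI hdom : IsDomain (A ⧸ r₀) := Ideal.Quotient.isDomain r₀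
  haveI hloc : IsLocalRing (A ⧸ r₀) :=
    IsLocalRing.of_surjective' (Ideal.Quotient.mk r₀) Ideal.Quotient.mk_surjective
  haveI hcompl : IsAdicComplete (maximalIdeal (A ⧸ r₀)) (A ⧸ r₀) :=
    Groth.Agent.Lib.Helper38.ComplNagata.isAdicComplete_quotient A r₀
  have hkerle : RingHom.ker (Ideal.Quotient.mk r₀) ≤ p := by
    rw [Ideal.mk_ker]
    exact hrp
  let p' : Ideal (A ⧸ r₀) := p.map (Ideal.Quotient.mk r₀)
  haveI hp' : p'.IsPrime := Ideal.map_isPrime_of_surjective Ideal.Quotient.mk_surjective hkerle
  have hP : p = p'.comap (algebraMap A (A ⧸ r₀)) := by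
    show p = (p.map (Ideal.Quotient.mk r₀)).comap (Ideal.Quotient.mk r₀)
    rw [Ideal.comap_map_of_surjective' _ Ideal.Quotient.mk_surjective, Ideal.mk_ker]
    exact (sup_eq_left.mpr hrp).symm
  obtain ⟨ψ, hψs, hψk, hψa⟩ := Groth.Agent.Lib.Helper49.CplQuot.exists_psi r₀ p' p hP
  have hkq : RingHom.ker ψ ≤ q := by
    rw [hψk, Ideal.map_le_iff_le_comap, hq]
  let q' := q.map ψ
  haveI hq'p : q'.IsPrime := Ideal.map_isPrime_of_surjective hψs hkq
  have hq'c : q'.comap ψ = q := by
    show (q.map ψ).comap ψ = q
    rw [Ideal.comap_map_of_surjective' _ hψs]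
    exact sup_eq_left.mpr hkq
  obtain ⟨τ, hτ⟩ := Groth.Agent.Lib.Helper49.CplQuot.exists_equiv_loc ψ hψs q q' hq'c
  have hinjL : Function.Injective (algebraMap (A ⧸ r₀) (Localization.AtPrime p')) :=
    IsLocalization.injective _ p'.primeCompl_le_nonZeroDivisors
  have hq'bot : q'.comap (algebraMap (Localization.AtPrime p')
      (AdicCompletion (maximalIdeal (Localization.AtPrime p')) (Localization.AtPrime p'))) = ⊥ := by
    rw [eq_bot_iff]
    intro x hx
    obtain ⟨⟨a', s⟩, rfl⟩ := IsLocalization.mk'_surjective p'.primeCompl x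
    obtain ⟨a, rfl⟩ := Ideal.Quotient.mk_surjective a'
    rw [Ideal.mem_comap] at hx
    have h1 : algebraMap (Localization.AtPrime p')
        (AdicCompletion (maximalIdeal (Localization.AtPrime p')) (Localization.AtPrime p'))
        (algebraMap (A ⧸ r₀) (Localization.AtPrime p') (Ideal.Quotient.mk r₀ a)) ∈ q' := by
      have h2 : algebraMap (A ⧸ r₀) (Localization.AtPrime p') (Ideal.Quotient.mk r₀ a) =
          IsLocalization.mk' (Localization.AtPrime p') (Ideal.Quotient.mk r₀ a) s *
            algebraMap (A ⧸ r₀) (Localization.AtPrime p') s.1 :=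
        (IsLocalization.mk'_spec _ _ _).symm
      rw [h2, map_mul]
      exact Ideal.mul_mem_right _ _ hx
    rw [← hψa] at h1
    have h3 : algebraMap A _ a ∈ q'.comap ψ := h1
    rw [hq'c] at h3
    have h4 : a ∈ r₀ := by
      rw [← hq]
      exact h3
    rw [Ideal.mem_bot, IsLocalization.mk'_eq_zero_iff]
    exact ⟨1, by rw [Ideal.Quotient.eq_zero_iff_mem.mpr h4, mul_zero]⟩
  let g : (A ⧸ r₀) →+* Localization.AtPrime q' :=
    (algebraMap _ (Localization.AtPrime q')).comp
      ((algebraMap (Localization.AtPrime p')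
        (AdicCompletion (maximalIdeal (Localization.AtPrime p')) (Localization.AtPrime p'))).comp
        (algebraMap (A ⧸ r₀) (Localization.AtPrime p')))
  have hgunit : ∀ y : nonZeroDivisors (A ⧸ r₀), IsUnit (g y) := by
    intro y
    by_contra hnu
    have h1 : algebraMap _ (Localization.AtPrime q')
        (algebraMap (Localization.AtPrime p')
          (AdicCompletion (maximalIdeal (Localization.AtPrime p')) (Localization.AtPrime p'))
          (algebraMap (A ⧸ r₀) (Localization.AtPrime p') y.1)) ∈
        maximalIdeal (Localization.AtPrime q') := (mem_maximalIdeal _).mpr hnu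
    rw [IsLocalization.AtPrime.to_map_mem_maximal_iff (Localization.AtPrime q') q'] at h1
    have h4 : algebraMap (A ⧸ r₀) (Localization.AtPrime p') y.1 ∈ (⊥ : Ideal _) := by
      rw [← hq'bot]
      exact h1
    rw [Ideal.mem_bot] at h4
    exact nonZeroDivisors.ne_zero y.2 (hinjL (h4.trans (map_zero _).symm))
  letI algKE : Algebra (FractionRing (A ⧸ r₀)) (Localization.AtPrime q') :=
    (IsLocalization.lift (M := nonZeroDivisors (A ⧸ r₀)) (S := FractionRing (A ⧸ r₀))
      hgunit).toAlgebra
  have halgKE : ∀ a : A ⧸ r₀, algebraMap (FractionRing (A ⧸ r₀)) (Localization.AtPrime q')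
      (algebraMap (A ⧸ r₀) (FractionRing (A ⧸ r₀)) a) = g a := fun a =>
    IsLocalization.lift_eq hgunit a
  have hst : @IsScalarTower (A ⧸ r₀) (FractionRing (A ⧸ r₀)) (Localization.AtPrime q')
      Algebra.toSMul Algebra.toSMul Algebra.toSMul :=
    IsScalarTower.of_algebraMap_eq (fun a => by
      rw [halgKE]
      rfl)
  have h1 : CAlgX.IsAdicFormallySmooth (FractionRing (A ⧸ r₀)) (Localization.AtPrime q')
      (maximalIdeal (Localization.AtPrime q')) :=
    @Groth.Agent.S4583.result (A ⧸ r₀) _ _ _ _ _ p' _ q' _ hq'bot _ _ algKE (by exact hst)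
  have hI' : I = (RingHom.ker ψ).map (algebraMap _ (Localization.AtPrime q)) := by
    rw [hψk]
    exact hI
  let τ' : (Localization.AtPrime q ⧸ I) ≃+* Localization.AtPrime q' :=
    (Ideal.quotEquivOfEq hI').trans τ
  have hτ' : ∀ x, τ' (Ideal.Quotient.mk I (algebraMap _ (Localization.AtPrime q) x)) =
      algebraMap _ (Localization.AtPrime q') (ψ x) := by
    intro x
    show τ ((Ideal.quotEquivOfEq hI') (Ideal.Quotient.mk I (algebraMap _ _ x))) = _
    rw [Ideal.quotEquivOfEq_mk, hτ]
  let σ : FractionRing (A ⧸ r₀) ≃ₐ[A ⧸ r₀] K' :=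
    IsLocalization.algEquiv (nonZeroDivisors (A ⧸ r₀)) (FractionRing (A ⧸ r₀)) K'
  letI algKK : Algebra (FractionRing (A ⧸ r₀)) K' := (σ : FractionRing (A ⧸ r₀) →+* K').toAlgebra
  letI algKF : Algebra (FractionRing (A ⧸ r₀)) (Localization.AtPrime q ⧸ I) :=
    ((algebraMap K' (Localization.AtPrime q ⧸ I)).comp (σ : FractionRing (A ⧸ r₀) →+* K')).toAlgebra
  haveI : IsScalarTower (FractionRing (A ⧸ r₀)) K' (Localization.AtPrime q ⧸ I) :=
    IsScalarTower.of_algebraMap_eq (fun _ => rfl)
  have hcomm : (τ'.symm : Localization.AtPrime q' →+* Localization.AtPrime q ⧸ I).comp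
      (algebraMap (FractionRing (A ⧸ r₀)) (Localization.AtPrime q')) =
      (algebraMap K' (Localization.AtPrime q ⧸ I)).comp (σ : FractionRing (A ⧸ r₀) →+* K') := by
    apply IsLocalization.ringHom_ext (nonZeroDivisors (A ⧸ r₀))
    refine RingHom.ext fun a' => ?_
    obtain ⟨a, rfl⟩ := Ideal.Quotient.mk_surjective a'
    show τ'.symm (algebraMap (FractionRing (A ⧸ r₀)) (Localization.AtPrime q')
      (algebraMap (A ⧸ r₀) (FractionRing (A ⧸ r₀)) (Ideal.Quotient.mk r₀ a))) =
      algebraMap K' (Localization.AtPrime q ⧸ I) (σ (algebraMap (A ⧸ r₀) _ (Ideal.Quotient.mk r₀ a)))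
    rw [halgKE, σ.commutes, hcompat, RingEquiv.symm_apply_eq, hτ', hψa]
    rfl
  let e : Localization.AtPrime q' ≃ₐ[FractionRing (A ⧸ r₀)] (Localization.AtPrime q ⧸ I) :=
    { τ'.symm with
      commutes' := fun x => DFunLike.congr_fun hcomm x }
  have h𝔫 : (maximalIdeal (Localization.AtPrime q')).map
      (e : Localization.AtPrime q' →+* Localization.AtPrime q ⧸ I) ≤
      (maximalIdeal (Localization.AtPrime q)).map (Ideal.Quotient.mk I) := by
    rw [Ideal.map_le_iff_le_comap]
    intro y hy
    rw [Ideal.mem_comap]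
    obtain ⟨z, hz⟩ := Ideal.Quotient.mk_surjective (e y)
    have hz' : (e : Localization.AtPrime q' →+* Localization.AtPrime q ⧸ I) y =
        Ideal.Quotient.mk I z := hz.symm
    rw [hz']
    apply Ideal.mem_map_of_mem
    by_contra hzu
    have hzu' : IsUnit z := by
      by_contra hnu
      exact hzu ((mem_maximalIdeal _).mpr hnu)
    have h2 : IsUnit (e y) := by
      rw [← hz]
      exact hzu'.map (Ideal.Quotient.mk I)
    have h3 : IsUnit (e.symm (e y)) := h2.map e.symm
    rw [AlgEquiv.symm_apply_apply] at h3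
    exact ((mem_maximalIdeal _).mp hy) h3
  have h2 := Groth.Agent.Lib.Helper49.FSRegular.isAdicFormallySmooth_of_algEquiv e
    (maximalIdeal (Localization.AtPrime q'))
    ((maximalIdeal (Localization.AtPrime q)).map (Ideal.Quotient.mk I)) h𝔫 h1
  exact Groth.Agent.Lib.Helper49.FlatFS.isAdicFormallySmooth_of_surjective
    (R := FractionRing (A ⧸ r₀)) (R' := K') σ.surjective _ h2

theorem isFractionRing_residue {A : Type u} [CommRing A] (p : Ideal A) [p.IsPrime]
    (r : Ideal (Localization.AtPrime p)) [r.IsPrime] (r₀ : Ideal A) [r₀.IsPrime]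
    (hr₀ : r₀ = r.comap (algebraMap A (Localization.AtPrime p)))
    [Algebra (A ⧸ r₀) (Localization.AtPrime r ⧸ maximalIdeal (Localization.AtPrime r))]
    (halg : ∀ a : A, algebraMap (A ⧸ r₀) (Localization.AtPrime r ⧸ maximalIdeal (Localization.AtPrime r))
      (Ideal.Quotient.mk r₀ a) = Ideal.Quotient.mk _ (algebraMap _ (Localization.AtPrime r)
        (algebraMap A (Localization.AtPrime p) a))) :
    IsFractionRing (A ⧸ r₀) (Localization.AtPrime r ⧸ maximalIdeal (Localization.AtPrime r)) := by
  classical
  subst hr₀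
  let B := Localization.AtPrime p
  let Br := Localization.AtPrime r
  let K' := Br ⧸ maximalIdeal Br
  letI : Field K' := Ideal.Quotient.field (maximalIdeal Br)
  let r₀ := r.comap (algebraMap A B)
  have hzero : ∀ b : B, Ideal.Quotient.mk (maximalIdeal Br) (algebraMap B Br b) = 0 ↔ b ∈ r := by
    intro b
    rw [Ideal.Quotient.eq_zero_iff_mem, IsLocalization.AtPrime.to_map_mem_maximal_iff Br r]
  have hinj : Function.Injective (algebraMap (A ⧸ r₀) K') := by
    rw [injective_iff_map_eq_zero]
    intro a' ha'
    obtain ⟨a, rfl⟩ := Ideal.Quotient.mk_surjective a'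
    rw [halg, hzero] at ha'
    exact Ideal.Quotient.eq_zero_iff_mem.mpr ha'
  haveI : FaithfulSMul (A ⧸ r₀) K' := (faithfulSMul_iff_algebraMap_injective _ _).mpr hinj
  refine IsFractionRing.of_field (A ⧸ r₀) K' (fun z => ?_)
  obtain ⟨x, rfl⟩ := Ideal.Quotient.mk_surjective z
  obtain ⟨⟨b, s⟩, rfl⟩ := IsLocalization.mk'_surjective r.primeCompl x
  obtain ⟨⟨a, t⟩, hb⟩ := IsLocalization.mk'_surjective p.primeCompl b
  obtain ⟨⟨a', t'⟩, hs⟩ := IsLocalization.mk'_surjective p.primeCompl s.1
  have hne : ∀ b : B, b ∉ r → Ideal.Quotient.mk (maximalIdeal Br) (algebraMap B Br b) ≠ 0 :=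
    fun b hb h => hb ((hzero b).mp h)
  have htp : ∀ t : p.primeCompl, algebraMap A B t.1 ∉ r := by
    intro t h
    exact (Ideal.IsPrime.ne_top inferInstance)
      (Ideal.eq_top_of_isUnit_mem r h (IsLocalization.map_units B t))
  have e1 : Ideal.Quotient.mk (maximalIdeal Br) (IsLocalization.mk' Br b s) *
      Ideal.Quotient.mk (maximalIdeal Br) (algebraMap B Br s.1) =
      Ideal.Quotient.mk (maximalIdeal Br) (algebraMap B Br b) := by
    rw [← map_mul, IsLocalization.mk'_spec]
  have e2 : b * algebraMap A B t.1 = algebraMap A B a := by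
    rw [← hb]
    exact IsLocalization.mk'_spec _ _ _
  have e3 : s.1 * algebraMap A B t'.1 = algebraMap A B a' := by
    rw [← hs]
    exact IsLocalization.mk'_spec _ _ _
  have e2' := congrArg (fun y => Ideal.Quotient.mk (maximalIdeal Br) (algebraMap B Br y)) e2
  have e3' := congrArg (fun y => Ideal.Quotient.mk (maximalIdeal Br) (algebraMap B Br y)) e3
  simp only [map_mul] at e2' e3'
  have hs0 := hne s.1 s.2
  have ht0 := hne _ (htp t)
  have ht'0 := hne _ (htp t')
  have ha'0 : Ideal.Quotient.mk (maximalIdeal Br) (algebraMap B Br (algebraMap A B a')) ≠ 0 := by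
    rw [← e3']
    exact mul_ne_zero hs0 ht'0
  refine ⟨Ideal.Quotient.mk r₀ (a * t'.1), Ideal.Quotient.mk r₀ (t.1 * a'), ?_⟩
  rw [halg, halg]
  simp only [map_mul]
  rw [eq_div_iff (mul_ne_zero ht0 ha'0), ← e2', ← e3', ← e1]
  ring

theorem main {A : Type u} [CommRing A] [IsLocalRing A] [IsNoetherianRing A]
    [IsAdicComplete (maximalIdeal A) A] (p : Ideal A) [p.IsPrime]
    (q : Ideal (AdicCompletion (maximalIdeal (Localization.AtPrime p)) (Localization.AtPrime p)))
    [q.IsPrime]
    (r : Ideal (Localization.AtPrime p)) [r.IsPrime]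
    (hr : r = q.comap (algebraMap (Localization.AtPrime p)
      (AdicCompletion (maximalIdeal (Localization.AtPrime p)) (Localization.AtPrime p))))
    [Algebra (Localization.AtPrime r) (Localization.AtPrime q)]
    (hcompat : ∀ b : Localization.AtPrime p,
      algebraMap (Localization.AtPrime r) (Localization.AtPrime q)
        (algebraMap (Localization.AtPrime p) (Localization.AtPrime r) b) =
      algebraMap (AdicCompletion (maximalIdeal (Localization.AtPrime p)) (Localization.AtPrime p))
        (Localization.AtPrime q)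
        (algebraMap (Localization.AtPrime p)
          (AdicCompletion (maximalIdeal (Localization.AtPrime p)) (Localization.AtPrime p)) b)) :
    CAlgX.IsAdicFormallySmooth (Localization.AtPrime r) (Localization.AtPrime q)
      (maximalIdeal (Localization.AtPrime q)) := by
  classical
  let B := Localization.AtPrime p
  let Bh := AdicCompletion (maximalIdeal (Localization.AtPrime p)) (Localization.AtPrime p)
  let Br := Localization.AtPrime r
  let Eq := Localization.AtPrime q
  haveI hBN : IsNoetherianRing B := IsLocalization.isNoetherianRing p.primeCompl _ inferInstance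
  haveI hBhN : IsNoetherianRing Bh := Groth.Agent.S0543.result B _
  haveI hEN : IsNoetherianRing Eq := IsLocalization.isNoetherianRing q.primeCompl _ inferInstance
  have hmemr : ∀ b : B, b ∈ r ↔ algebraMap B Bh b ∈ q := by
    intro b
    rw [hr, Ideal.mem_comap]
  haveI hloc : IsLocalHom (algebraMap Br Eq) := by
    constructor
    intro x hx
    obtain ⟨⟨b, s⟩, rfl⟩ := IsLocalization.mk'_surjective r.primeCompl x
    rw [IsLocalization.AtPrime.isUnit_mk'_iff Br r]
    intro hb
    have h1 : algebraMap Br Eq (IsLocalization.mk' Br b s) * algebraMap Br Eq (algebraMap B Br s.1) =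
        algebraMap Br Eq (algebraMap B Br b) := by
      rw [← map_mul, IsLocalization.mk'_spec]
    rw [hcompat, hcompat] at h1
    have h2 : IsUnit (algebraMap Bh Eq (algebraMap B Bh s.1)) := by
      rw [IsLocalization.AtPrime.isUnit_to_map_iff Eq q]
      exact fun h => s.2 ((hmemr _).mpr h)
    have h3 : IsUnit (algebraMap Bh Eq (algebraMap B Bh b)) := by
      rw [← h1]
      exact hx.mul h2
    rw [IsLocalization.AtPrime.isUnit_to_map_iff Eq q] at h3
    exact h3 ((hmemr b).mp hb)
  haveI : IsScalarTower B Bh Eq := inferInstance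
  have halgBE : ∀ b : B, algebraMap B Eq b = algebraMap Bh Eq (algebraMap B Bh b) := fun b =>
    IsScalarTower.algebraMap_apply B Bh Eq b
  haveI : IsScalarTower B Br Eq := by
    have h : @IsScalarTower B Br Eq Algebra.toSMul Algebra.toSMul Algebra.toSMul :=
      IsScalarTower.of_algebraMap_eq (fun b => by rw [halgBE, hcompat])
    exact h
  haveI : Module.Flat B Bh := AdicCompletion.flat_of_isNoetherian _
  haveI : Module.Flat Bh Eq := IsLocalization.flat _ q.primeCompl
  haveI : Module.Flat B Eq := Module.Flat.trans B Bh Eq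
  haveI hflat : Module.Flat Br Eq := by
    rw [Module.flat_iff_of_isLocalization Br r.primeCompl]
    infer_instance
  let r₀ : Ideal A := q.comap (algebraMap A Bh)
  haveI hr₀p : r₀.IsPrime := Ideal.comap_isPrime _ _
  have halgABh : ∀ a : A, algebraMap A Bh a = algebraMap B Bh (algebraMap A B a) := fun a => rfl
  have hr₀ : r₀ = r.comap (algebraMap A B) := by
    ext a
    show algebraMap A Bh a ∈ q ↔ algebraMap A B a ∈ r
    rw [hmemr, halgABh]
  have hrp : r₀ ≤ p := by
    intro a ha
    by_contra hap
    have h1 : IsUnit (algebraMap A B a) := IsLocalization.map_units B (⟨a, hap⟩ : p.primeCompl)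
    have h2 : IsUnit (algebraMap A Bh a) := h1.map (algebraMap B Bh)
    exact (Ideal.IsPrime.ne_top inferInstance) (Ideal.eq_top_of_isUnit_mem q ha h2)
  have hringhom : (algebraMap Br Eq).comp ((algebraMap B Br).comp (algebraMap A B)) =
      (algebraMap Bh Eq).comp (algebraMap A Bh) := by
    refine RingHom.ext fun a => ?_
    show algebraMap Br Eq (algebraMap B Br (algebraMap A B a)) = _
    rw [hcompat]
    rfl
  have hI : (maximalIdeal Br).map (algebraMap Br Eq) =
      (r₀.map (algebraMap A Bh)).map (algebraMap Bh Eq) := by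
    have h1 : maximalIdeal Br = r.map (algebraMap B Br) :=
      (Localization.AtPrime.map_eq_maximalIdeal (I := r)).symm
    have h2 : r = r₀.map (algebraMap A B) := by
      rw [hr₀]
      exact (IsLocalization.map_comap p.primeCompl B r).symm
    rw [h1]
    have h3 := congrArg (fun J => (J.map (algebraMap B Br)).map (algebraMap Br Eq)) h2
    refine h3.trans ?_
    show ((r₀.map (algebraMap A B)).map (algebraMap B Br)).map (algebraMap Br Eq) = _
    rw [Ideal.map_map, Ideal.map_map, Ideal.map_map, RingHom.comp_assoc, hringhom]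
  let φ : A →+* Br ⧸ maximalIdeal Br :=
    (Ideal.Quotient.mk (maximalIdeal Br)).comp ((algebraMap B Br).comp (algebraMap A B))
  have hφ : ∀ a ∈ r₀, φ a = 0 := by
    intro a ha
    show Ideal.Quotient.mk (maximalIdeal Br) (algebraMap B Br (algebraMap A B a)) = 0
    rw [Ideal.Quotient.eq_zero_iff_mem, IsLocalization.AtPrime.to_map_mem_maximal_iff Br r]
    rw [hr₀] at ha
    exact ha
  letI algAK : Algebra (A ⧸ r₀) (Br ⧸ maximalIdeal Br) :=
    RingHom.toAlgebra (R := A ⧸ r₀) (S := Br ⧸ maximalIdeal Br) (Ideal.Quotient.lift r₀ φ hφ)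
  have halgAK : ∀ a : A, algebraMap (A ⧸ r₀) (Br ⧸ maximalIdeal Br) (Ideal.Quotient.mk r₀ a) =
      Ideal.Quotient.mk _ (algebraMap B Br (algebraMap A B a)) := fun a => rfl
  haveI hfrac : IsFractionRing (A ⧸ r₀) (Br ⧸ maximalIdeal Br) :=
    isFractionRing_residue p r r₀ hr₀ halgAK
  letI : Field (Br ⧸ maximalIdeal Br) := Ideal.Quotient.field (maximalIdeal Br)
  refine Groth.Agent.Lib.Helper49.FlatFS.isAdicFormallySmooth_of_flat_of_fibre ?_
  refine fibre_fs r₀ p hrp q rfl _ hI (Br ⧸ maximalIdeal Br) ?_
  intro a
  rw [halgAK]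
  show Ideal.Quotient.mk _ (algebraMap Br Eq (algebraMap B Br (algebraMap A B a))) = _
  rw [hcompat]
  rfl

/-- Let A be a complete Noetherian local ring, p a prime of A, B = A_p, B̂ the completion of B, q a
prime of B̂ and r its contraction to B. Then B̂_q is formally smooth over B_r for the adic
topologies of the maximal ideals. -/
theorem result {A : Type u} [CommRing A]
    [IsLocalRing A] [IsNoetherianRing A] [IsAdicComplete (maximalIdeal A) A] (p : Ideal A) [p.IsPrime]
    (q : Ideal (AdicCompletion (maximalIdeal (Localization.AtPrime p)) (Localization.AtPrime p))) [q.IsPrime]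
    [Algebra (Localization.AtPrime (q.comap (algebraMap (Localization.AtPrime p)
        (AdicCompletion (maximalIdeal (Localization.AtPrime p)) (Localization.AtPrime p)))))
      (Localization.AtPrime q)]
    [IsScalarTower (Localization.AtPrime p)
      (Localization.AtPrime (q.comap (algebraMap (Localization.AtPrime p)
        (AdicCompletion (maximalIdeal (Localization.AtPrime p)) (Localization.AtPrime p)))))
      (Localization.AtPrime q)] :
    EGA41.IsFormallySmoothAdic
      (Localization.AtPrime (q.comap (algebraMap (Localization.AtPrime p)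
        (AdicCompletion (maximalIdeal (Localization.AtPrime p)) (Localization.AtPrime p)))))
      (maximalIdeal _) (Localization.AtPrime q) (maximalIdeal _) := by
  have hcompat : ∀ b : Localization.AtPrime p,
      algebraMap (Localization.AtPrime (q.comap (algebraMap (Localization.AtPrime p)
        (AdicCompletion (maximalIdeal (Localization.AtPrime p)) (Localization.AtPrime p)))))
        (Localization.AtPrime q)
        (algebraMap (Localization.AtPrime p) _ b) =
      algebraMap (AdicCompletion (maximalIdeal (Localization.AtPrime p)) (Localization.AtPrime p))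
        (Localization.AtPrime q)
        (algebraMap (Localization.AtPrime p)
          (AdicCompletion (maximalIdeal (Localization.AtPrime p)) (Localization.AtPrime p)) b) := by
    intro b
    have h := smul_assoc b (1 : Localization.AtPrime (q.comap (algebraMap (Localization.AtPrime p)
        (AdicCompletion (maximalIdeal (Localization.AtPrime p)) (Localization.AtPrime p)))))
      (1 : Localization.AtPrime q)
    have h3 : b • (1 : Localization.AtPrime q) =
        algebraMap (AdicCompletion (maximalIdeal (Localization.AtPrime p)) (Localization.AtPrime p))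
          (Localization.AtPrime q)
          (b • (1 : AdicCompletion (maximalIdeal (Localization.AtPrime p))
            (Localization.AtPrime p))) := by
      rw [← Localization.mk_one, Localization.smul_mk, Localization.mk_one_eq_algebraMap]
    have h4 : b • (1 : Localization.AtPrime (q.comap (algebraMap (Localization.AtPrime p)
        (AdicCompletion (maximalIdeal (Localization.AtPrime p)) (Localization.AtPrime p))))) =
        algebraMap (Localization.AtPrime p) _ b := by
      rw [← Localization.mk_one, Localization.smul_mk, Localization.mk_one_eq_algebraMap,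
        smul_eq_mul, mul_one]
    rw [one_smul, h3, h4, ← Algebra.algebraMap_eq_smul_one] at h
    rw [h, ← Algebra.algebraMap_eq_smul_one]
  have h1 := main p q _ rfl hcompat
  rw [Groth.Agent.Lib.Helper61.FSAdic.ega_iff]
  intro C _ J hJ φ _ u hu hcont
  exact Groth.Agent.Lib.Helper61.FSAdic.lifts_of_liftsSq
    ((Groth.Agent.Lib.Helper61.FSAdic.calgx_iff _).mp h1) C J hJ φ
    ⟨1, by rw [pow_one, Ideal.map_bot]⟩ u hu hcont

end Groth.Agent.S4582
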