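import Groth.Statements.S0598
-- import your own Groth.Agent.* helpers here
import Groth.Agent.S4582
import Groth.Agent.Lib.Helper56.FibreCM

set_option autoImplicit false
universe u
open CAlg

namespace Groth.Agent.S0598

open TensorProduct IsLocalRing

theorem fibre_geomReg {A : Type u} [CommRing A] [IsLocalRing A] [IsNoetherianRing A]
    [IsAdicComplete (maximalIdeal A) A] (p : Ideal A) [p.IsPrime]
    (r : Ideal (Localization.AtPrime p)) [r.IsPrime]
    (Q : Ideal (r.Fiber (AdicCompletion (maximalIdeal (Localization.AtPrime p))
      (Localization.AtPrime p)))) [Q.IsPrime] :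
    CAlgX.IsAdicFormallySmooth r.ResidueField (Localization.AtPrime Q)
      (maximalIdeal (Localization.AtPrime Q)) := by
  classical
  let B := Localization.AtPrime p
  let Bh := AdicCompletion (maximalIdeal (Localization.AtPrime p)) (Localization.AtPrime p)
  let q : Ideal Bh := Q.comap (Algebra.TensorProduct.includeRight : Bh →ₐ[B] r.Fiber Bh)
  haveI hqp : q.IsPrime := Ideal.comap_isPrime _ _
  haveI hlo : q.LiesOver r := inferInstance
  letI algBrEq : Algebra (Localization.AtPrime r) (Localization.AtPrime q) :=
    Localization.AtPrime.algebraOfLiesOver r q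
  haveI hlia : Localization.AtPrime.IsLiesOverAlgebra r q := inferInstance
  have hr : r = q.comap (algebraMap B Bh) := Ideal.LiesOver.over
  have hcompat : ∀ b : B, algebraMap (Localization.AtPrime r) (Localization.AtPrime q)
      (algebraMap B (Localization.AtPrime r) b) =
      algebraMap Bh (Localization.AtPrime q) (algebraMap B Bh b) := fun b =>
    Localization.localRingHom_to_map _ _ _ _ _
  have h := Groth.Agent.S4582.main p q r hr hcompat
  have h0 := Groth.Agent.S7134.isAdicFormallySmooth_quotient
    (maximalIdeal (Localization.AtPrime r)) (maximalIdeal (Localization.AtPrime q)) h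
  let e := Ideal.Fiber.localizationAlgEquivQuotient r Q
  have hIeq : r.map (algebraMap B (Localization.AtPrime q)) =
      (maximalIdeal (Localization.AtPrime r)).map
        (algebraMap (Localization.AtPrime r) (Localization.AtPrime q)) := by
    rw [← Localization.AtPrime.map_eq_maximalIdeal (I := r), Ideal.map_map,
      ← IsScalarTower.algebraMap_eq]
  let e' := e.trans (Ideal.quotientEquivAlgOfEq (Localization.AtPrime r) hIeq)
  letI algκF : Algebra r.ResidueField (Localization.AtPrime q ⧸
      (maximalIdeal (Localization.AtPrime r)).map
        (algebraMap (Localization.AtPrime r) (Localization.AtPrime q))) :=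
    (inferInstance : Algebra (Localization.AtPrime r ⧸ maximalIdeal (Localization.AtPrime r))
      (Localization.AtPrime q ⧸ (maximalIdeal (Localization.AtPrime r)).map
        (algebraMap (Localization.AtPrime r) (Localization.AtPrime q))))
  haveI : IsScalarTower (Localization.AtPrime r) r.ResidueField (Localization.AtPrime Q) :=
    inferInstance
  haveI : IsScalarTower (Localization.AtPrime r) r.ResidueField (Localization.AtPrime q ⧸
      (maximalIdeal (Localization.AtPrime r)).map
        (algebraMap (Localization.AtPrime r) (Localization.AtPrime q))) :=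
    IsScalarTower.of_algebraMap_eq (fun _ => rfl)
  let e'' : Localization.AtPrime Q ≃ₐ[r.ResidueField] (Localization.AtPrime q ⧸
      (maximalIdeal (Localization.AtPrime r)).map
        (algebraMap (Localization.AtPrime r) (Localization.AtPrime q))) :=
    AlgEquiv.extendScalarsOfSurjective (IsLocalRing.residue_surjective) e'
  haveI hFloc : IsLocalRing (Localization.AtPrime q ⧸
      (maximalIdeal (Localization.AtPrime r)).map
        (algebraMap (Localization.AtPrime r) (Localization.AtPrime q))) :=
    e''.toRingEquiv.isLocalRing
  have h𝔫eq : (maximalIdeal (Localization.AtPrime q)).map (Ideal.Quotient.mk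
      ((maximalIdeal (Localization.AtPrime r)).map
        (algebraMap (Localization.AtPrime r) (Localization.AtPrime q)))) = maximalIdeal _ :=
    map_maximalIdeal_of_surjective _ Ideal.Quotient.mk_surjective
  have h0' : CAlgX.IsAdicFormallySmooth r.ResidueField (Localization.AtPrime q ⧸
      (maximalIdeal (Localization.AtPrime r)).map
        (algebraMap (Localization.AtPrime r) (Localization.AtPrime q)))
      (maximalIdeal _) := by
    rw [← h𝔫eq]
    exact h0
  refine Groth.Agent.Lib.Helper49.FSRegular.isAdicFormallySmooth_of_algEquiv
    (R := r.ResidueField) (S' := Localization.AtPrime Q) e''.symm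
    (maximalIdeal _) (maximalIdeal (Localization.AtPrime Q)) ?_ h0'
  rw [Ideal.map_le_iff_le_comap]
  intro y hy
  rw [Ideal.mem_comap, mem_maximalIdeal, mem_nonunits_iff]
  intro hu
  have h3 : IsUnit (e'' (e''.symm y)) := hu.map e''
  rw [AlgEquiv.apply_symm_apply] at h3
  exact ((mem_maximalIdeal _).mp hy) h3

/-- A Noetherian local ring complete with respect to its maximal ideal is a G-ring. -/
theorem result (R : Type u) [CommRing R] [IsLocalRing R] [IsNoetherianRing R]
    [IsAdicComplete (IsLocalRing.maximalIdeal R) R] : CAlg.IsGRing R := by
  refine ⟨inferInstance, fun p _ => ?_⟩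
  haveI hBN : IsNoetherianRing (Localization.AtPrime p) :=
    IsLocalization.isNoetherianRing p.primeCompl _ inferInstance
  haveI hBhN : IsNoetherianRing (AdicCompletion (maximalIdeal (Localization.AtPrime p))
      (Localization.AtPrime p)) := Groth.Agent.S0543.result _ _
  refine ⟨AdicCompletion.flat_of_isNoetherian _, fun r _ => ?_⟩
  haveI hΦN : IsNoetherianRing (r.Fiber (AdicCompletion (maximalIdeal (Localization.AtPrime p))
      (Localization.AtPrime p))) :=
    Groth.Agent.Lib.Helper56.isNoetherianRing_fiber _ _ r
  refine ⟨hΦN, ?_⟩
  apply Groth.Agent.Lib.Helper49.GeomRegFS.isGeometricallyRegular_of_localization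
  intro Q _
  haveI : IsNoetherianRing (Localization.AtPrime Q) :=
    IsLocalization.isNoetherianRing Q.primeCompl _ inferInstance
  exact Groth.Agent.Lib.Helper49.GeomRegFS.isGeometricallyRegular_iff_isAdicFormallySmooth.mpr
    (fibre_geomReg p r Q)

end Groth.Agent.S0598
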