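import Groth.Statements.S2047
-- import your own Groth.Agent.* helpers here
import Groth.Agent.S0598
import Groth.Agent.Lib.Helper56.FormalDescent
import Groth.Agent.Lib.Helper56.CplLocalRegular
import Groth.Agent.Lib.Helper56.HomLoc
import Groth.Agent.Lib.Helper56.FiberLoc

set_option autoImplicit false
universe u
open CAlg

namespace Groth.Agent.S2047

open TensorProduct IsLocalRing Groth.Agent.Lib.Helper56

theorem isRegularHom_localRingHom {R C : Type u} [CommRing R] [CommRing C] [Algebra R C]
    [IsNoetherianRing C]
    (h : CAlg.IsRegularHom R C) (p : Ideal R) [p.IsPrime] (q : Ideal C) [q.IsPrime]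
    [q.LiesOver p] :
    letI := Localization.AtPrime.algebraOfLiesOver p q
    CAlg.IsRegularHom (Localization.AtPrime p) (Localization.AtPrime q) := by
  letI := Localization.AtPrime.algebraOfLiesOver p q
  haveI hNq : IsNoetherianRing (Localization.AtPrime q) :=
    IsLocalization.isNoetherianRing q.primeCompl _ inferInstance
  have h1 : CAlg.IsRegularHom C (Localization.AtPrime q) :=
    isRegularHom_localization C q.primeCompl (Localization.AtPrime q)
  have h2 : CAlg.IsRegularHom R (Localization.AtPrime q) :=
    isRegularHom_comp R C (Localization.AtPrime q) h h1
      (fun p _ => isNoetherianRing_fiber R (Localization.AtPrime q) p)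
  haveI hloc : IsLocalization (Algebra.algebraMapSubmonoid (Localization.AtPrime q) p.primeCompl)
      (Localization.AtPrime q) := by
    apply IsLocalization.self
    rintro _ ⟨s, hs, rfl⟩
    show IsUnit (algebraMap R (Localization.AtPrime q) s)
    rw [IsScalarTower.algebraMap_apply R C (Localization.AtPrime q),
      IsLocalization.AtPrime.isUnit_to_map_iff (Localization.AtPrime q) q]
    intro hq
    apply hs
    rw [Ideal.LiesOver.over (p := p) (P := q)]
    exact hq
  exact isRegularHom_of_isLocalization R (Localization.AtPrime q) p.primeCompl
    (Localization.AtPrime p) (Localization.AtPrime q) h2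

/-- A Noetherian ring `R` is a G-ring if and only if for every maximal ideal `𝔪` the completion map of
`R_𝔪` is a regular ring map. -/
theorem result {R : Type u} [CommRing R] [IsNoetherianRing R] :
    CAlg.IsGRing R ↔ ∀ (m : Ideal R) [m.IsMaximal],
      CAlg.IsRegularHom (Localization.AtPrime m)
        (AdicCompletion (IsLocalRing.maximalIdeal (Localization.AtPrime m)) (Localization.AtPrime m)) := by
  constructor
  · intro h m _
    exact h.2 m
  · intro h
    refine ⟨inferInstance, fun p _ => ?_⟩
    obtain ⟨m, hm, hpm⟩ := Ideal.exists_le_maximal p (Ideal.IsPrime.ne_top inferInstance)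
    haveI := hm
    haveI hAmN : IsNoetherianRing (Localization.AtPrime m) :=
      IsLocalization.isNoetherianRing m.primeCompl _ inferInstance
    haveI hCN : IsNoetherianRing (AdicCompletion (maximalIdeal (Localization.AtPrime m))
        (Localization.AtPrime m)) := Groth.Agent.S0543.result _ _
    haveI hCc : IsAdicComplete (maximalIdeal (AdicCompletion (maximalIdeal (Localization.AtPrime m))
        (Localization.AtPrime m))) (AdicCompletion (maximalIdeal (Localization.AtPrime m))
        (Localization.AtPrime m)) :=
      AdicCompletion.isAdicComplete_of_fg (IsNoetherian.noetherian _)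
    have hG := Groth.Agent.S0598.result (AdicCompletion (maximalIdeal (Localization.AtPrime m))
        (Localization.AtPrime m))
    have hRC : CAlg.IsRegularHom R (AdicCompletion (maximalIdeal (Localization.AtPrime m))
        (Localization.AtPrime m)) :=
      isRegularHom_comp R (Localization.AtPrime m) _
        (isRegularHom_localization R m.primeCompl (Localization.AtPrime m)) (h m)
        (fun p _ => isNoetherianRing_fiber R _ p)
    let p₁ : Ideal (Localization.AtPrime m) := p.map (algebraMap R (Localization.AtPrime m))
    haveI hp₁ : p₁.IsPrime := IsLocalization.isPrime_of_isPrime_disjoint m.primeCompl _ p inferInstance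
      (by
        rw [Set.disjoint_left]
        intro x hx hxp
        exact hx (hpm hxp))
    have hp₁c : p₁.comap (algebraMap R (Localization.AtPrime m)) = p :=
      IsLocalization.comap_map_of_isPrime_disjoint m.primeCompl _ inferInstance
      (by
        rw [Set.disjoint_left]
        intro x hx hxp
        exact hx (hpm hxp))
    haveI := faithfullyFlat_cpl (Localization.AtPrime m)
    obtain ⟨q, hqp, hqlo⟩ := Ideal.exists_isPrime_liesOver_of_faithfullyFlat
      (B := AdicCompletion (maximalIdeal (Localization.AtPrime m)) (Localization.AtPrime m)) p₁
    haveI := hqp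
    haveI hlo : q.LiesOver p := by
      constructor
      rw [← hp₁c, hqlo.over]
      rfl
    letI := Localization.AtPrime.algebraOfLiesOver p q
    have hf := isRegularHom_localRingHom hRC p q
    haveI : IsLocalHom (algebraMap (Localization.AtPrime p) (Localization.AtPrime q)) :=
      Localization.isLocalHom_localRingHom p q _ Ideal.LiesOver.over
    haveI hAN : IsNoetherianRing (Localization.AtPrime p) :=
      IsLocalization.isNoetherianRing p.primeCompl _ inferInstance
    haveI hA'N : IsNoetherianRing (Localization.AtPrime q) :=
      IsLocalization.isNoetherianRing q.primeCompl _ inferInstance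
    exact isRegularHom_cpl_descent (Localization.AtPrime p) (Localization.AtPrime q) hf (hG.2 q)

end Groth.Agent.S2047
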