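import Groth.Statements.S17592
-- import your own Groth.Agent.* helpers here
import Groth.Agent.Lib.Helper58.HenselPairUniq

set_option autoImplicit false
universe u
open Hensel

namespace Groth.Agent.S17592

/-- Let R → S be an étale ring map and I an ideal of R such that the induced map R/I → S/IS is
bijective. Then a Henselization of the pair (S, IS), regarded as an R-algebra, is a Henselization of
the pair (R, I). -/
theorem result (R : Type u) [CommRing R] (I : Ideal R)
    (S : Type u) [CommRing S] [Algebra R S] [Algebra.Etale R S]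
    (hq : Function.Bijective
      (Ideal.quotientMap (I.map (algebraMap R S)) (algebraMap R S) Ideal.le_comap_map))
    (H : Type u) [CommRing H] [Algebra S H] [Algebra R H] [IsScalarTower R S H]
    (hH : Hens2.IsPairHenselization S (I.map (algebraMap R S)) H) :
    Hens2.IsPairHenselization R I H := by
  obtain ⟨hH1, hH2⟩ := hH
  refine ⟨?_, ?_⟩
  · rw [Ideal.map_map, ← IsScalarTower.algebraMap_eq] at hH1
    exact hH1
  · intro C _ J f hC hIJ
    let _ : Algebra R C := f.toAlgebra
    have hfalg : algebraMap R C = f := rfl
    -- the reduction map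
    let e : R ⧸ I ≃+* S ⧸ I.map (algebraMap R S) := RingEquiv.ofBijective _ hq
    have he : ∀ r : R, e (Ideal.Quotient.mk I r) = Ideal.Quotient.mk _ (algebraMap R S r) :=
      fun r => rfl
    let ψ : R ⧸ I →+* C ⧸ J := Ideal.quotientMap J f (Ideal.map_le_iff_le_comap.1 hIJ)
    let σ₀ : S →+* C ⧸ J := ψ.comp (e.symm.toRingHom.comp (Ideal.Quotient.mk _))
    let σ : S →ₐ[R] C ⧸ J := { σ₀ with
      commutes' := fun r => by
        change ψ (e.symm (Ideal.Quotient.mk _ (algebraMap R S r))) = _
        rw [← he, RingEquiv.symm_apply_apply]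
        rfl }
    -- every R-algebra map S → C/J equals σ
    have huniq : ∀ χ : S →ₐ[R] C ⧸ J, χ = σ := by
      intro χ
      have hkill : ∀ χ' : S →ₐ[R] C ⧸ J, ∀ z ∈ I.map (algebraMap R S), χ' z = 0 := by
        intro χ' z hz
        have : I.map (algebraMap R S) ≤ RingHom.ker χ'.toRingHom := by
          rw [Ideal.map_le_iff_le_comap]
          intro i hi
          change χ' (algebraMap R S i) = 0
          rw [χ'.commutes, IsScalarTower.algebraMap_apply R C (C ⧸ J),
            Ideal.Quotient.algebraMap_eq, Ideal.Quotient.eq_zero_iff_mem]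
          exact hIJ (Ideal.mem_map_of_mem f hi)
        exact this hz
      refine AlgHom.ext fun s => ?_
      obtain ⟨r', hr'⟩ := hq.2 (Ideal.Quotient.mk _ s)
      obtain ⟨r, rfl⟩ := Ideal.Quotient.mk_surjective r'
      have hs : s - algebraMap R S r ∈ I.map (algebraMap R S) := by
        rw [← Ideal.Quotient.eq]; exact hr'.symm
      have h1 := hkill χ _ hs
      have h2 := hkill σ _ hs
      rw [map_sub, sub_eq_zero] at h1 h2
      rw [h1, h2, χ.commutes, σ.commutes]
    obtain ⟨τ, hτ⟩ := Groth.Agent.Lib.Helper58.HenselPair.exists_etale_lift_rel J σ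
    have hτJ : (I.map (algebraMap R S)).map τ.toRingHom ≤ J := by
      rw [Ideal.map_map]
      have : τ.toRingHom.comp (algebraMap R S) = f := by
        ext r; exact τ.commutes r
      rw [this]; exact hIJ
    obtain ⟨g, hg, hguniq⟩ := hH2 C J τ.toRingHom hC hτJ
    refine ⟨g, ?_, ?_⟩
    · change g.comp (algebraMap R H) = f
      rw [IsScalarTower.algebraMap_eq R S H, ← RingHom.comp_assoc, hg]
      ext r; exact τ.commutes r
    · intro g' hg'
      apply hguniq
      let τ' : S →ₐ[R] C := { g'.comp (algebraMap S H) with
        commutes' := fun r => by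
          change g' (algebraMap S H (algebraMap R S r)) = f r
          rw [← IsScalarTower.algebraMap_apply R S H]
          exact RingHom.congr_fun hg' r }
      have : τ' = τ := by
        apply Groth.Agent.Lib.Helper58.HenselPair.etale_lift_unique J hC.jac
        rw [huniq ((Ideal.Quotient.mkₐ R J).comp τ'), huniq ((Ideal.Quotient.mkₐ R J).comp τ)]
      change τ'.toRingHom = τ.toRingHom
      rw [this]

end Groth.Agent.S17592
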