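import Groth.Statements.S2117
import Groth.Agent.Lib.Helper97.PthPower
import Groth.Agent.Lib.Helper97.KaehlerColim
import Mathlib.RingTheory.TensorProduct.Free
import Mathlib.LinearAlgebra.Basis.VectorSpace
import Mathlib.RingTheory.Flat.Basic

set_option autoImplicit false
universe u
open CAlg

namespace Groth.Agent.S2117

open TensorProduct KaehlerDifferential

section Helpers

variable {k K : Type u} [Field k] [Field K] [Algebra k K] (p : ℕ) [Fact p.Prime] [CharP k p]

/-- the `k`-linear map `K ⊗ Ω_k → K` induced by a derivation `δ` of `k`. -/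
noncomputable def evalDer (δ : Derivation ℤ k k) : K ⊗[k] Ω[k⁄ℤ] →ₗ[k] K :=
  (TensorProduct.rid k K).toLinearMap ∘ₗ LinearMap.lTensor K δ.liftKaehlerDifferential

lemma evalDer_tmul (δ : Derivation ℤ k k) (x : K) (c : k) :
    evalDer (K := K) δ (x ⊗ₜ[k] D ℤ k c) = δ c • x := by
  simp [evalDer, Derivation.liftKaehlerDifferential_comp_D]

include p in
lemma key_step (hinj : Function.Injective (KaehlerDifferential.mapBaseChange ℤ k K))
    {ι : Type*} (v : ι → K) (s : Finset ι) (c : ι → k)
    (hc : ∑ i ∈ s, c i • v i ^ p = 0) (δ : Derivation ℤ k k) :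
    ∑ i ∈ s, δ (c i) • v i ^ p = 0 := by
  haveI : CharP K p := charP_of_injective_algebraMap (algebraMap k K).injective p
  let t : K ⊗[k] Ω[k⁄ℤ] := ∑ i ∈ s, (v i ^ p) ⊗ₜ[k] D ℤ k (c i)
  have ht : KaehlerDifferential.mapBaseChange ℤ k K t = 0 := by
    have h1 : D ℤ K (∑ i ∈ s, c i • v i ^ p) = 0 := by rw [hc, map_zero]
    rw [map_sum] at h1
    simp only [t, map_sum, KaehlerDifferential.mapBaseChange_tmul, KaehlerDifferential.map_D]
    rw [← h1]
    refine Finset.sum_congr rfl fun i _ => ?_
    rw [Algebra.smul_def, Derivation.leibniz, Derivation.leibniz_pow]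
    have : (p : K) = 0 := CharP.cast_eq_zero K p
    rw [← Nat.cast_smul_eq_nsmul K, this, zero_smul, smul_zero, zero_add]
  have ht0 : t = 0 := hinj (by rw [ht, map_zero])
  have := congrArg (evalDer (K := K) δ) ht0
  simpa [t, map_sum, evalDer_tmul] using this

include p in
theorem linIndep_pow_of_injective
    (hinj : Function.Injective (KaehlerDifferential.mapBaseChange ℤ k K))
    {ι : Type*} (v : ι → K) :
    ∀ (n : ℕ) (s : Finset ι), s.card = n → LinearIndepOn k v (s : Set ι) →
      LinearIndepOn k (fun i => v i ^ p) (s : Set ι) := by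
  classical
  haveI : CharP K p := charP_of_injective_algebraMap (algebraMap k K).injective p
  intro n
  induction n with
  | zero =>
    intro s hs _
    rw [Finset.card_eq_zero] at hs
    subst hs
    simp
  | succ n ih =>
    intro s hs hli
    rw [linearIndepOn_finset_iff]
    intro c hc
    by_contra hcon
    push Not at hcon
    obtain ⟨i₀, hi₀, hci₀⟩ := hcon
    -- normalise
    let c' : ι → k := fun i => (c i₀)⁻¹ * c i
    have hc'0 : c' i₀ = 1 := inv_mul_cancel₀ hci₀
    have hc' : ∑ i ∈ s, c' i • v i ^ p = 0 := by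
      have : ∑ i ∈ s, c' i • v i ^ p = (c i₀)⁻¹ • ∑ i ∈ s, c i • v i ^ p := by
        rw [Finset.smul_sum]
        refine Finset.sum_congr rfl fun i _ => ?_
        rw [mul_smul]
      rw [this, hc, smul_zero]
    have hli' : LinearIndepOn k v ((s.erase i₀ : Finset ι) : Set ι) :=
      hli.mono (by simp)
    have hcard : (s.erase i₀).card = n := by
      rw [Finset.card_erase_of_mem hi₀, hs]; rfl
    have ih' := ih (s.erase i₀) hcard hli'
    rw [linearIndepOn_finset_iff] at ih'
    have hder : ∀ (δ : Derivation ℤ k k) (i : ι), i ∈ s → δ (c' i) = 0 := by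
      intro δ i hi
      by_cases hii : i = i₀
      · rw [hii, hc'0]; exact δ.map_one_eq_zero
      · have h1 := key_step p hinj v s c' hc' δ
        rw [← Finset.add_sum_erase s _ hi₀, hc'0, δ.map_one_eq_zero, zero_smul, zero_add] at h1
        exact ih' (fun i => δ (c' i)) h1 i (Finset.mem_erase.2 ⟨hii, hi⟩)
    have hpow : ∀ i : ι, ∃ b : k, i ∈ s → b ^ p = c' i := by
      intro i
      by_cases hi : i ∈ s
      · obtain ⟨b, hb⟩ := Groth.Agent.Lib.Helper97.PthPower.exists_pow_eq_of_forall_derivation p (c' i)
          (fun δ => hder δ i hi)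
        exact ⟨b, fun _ => hb⟩
      · exact ⟨0, fun h => absurd h hi⟩
    choose b hb using hpow
    have hsum : (∑ i ∈ s, b i • v i) ^ p = 0 := by
      rw [sum_pow_char]
      rw [← hc']
      refine Finset.sum_congr rfl fun i hi => ?_
      rw [Algebra.smul_def, mul_pow, ← map_pow, hb i hi, Algebra.smul_def]
    have hsum0 : ∑ i ∈ s, b i • v i = 0 := by
      exact pow_eq_zero_iff (Fact.out : p.Prime).ne_zero |>.1 hsum
    rw [linearIndepOn_finset_iff] at hli
    have hb0 := hli b hsum0 i₀ hi₀
    have := hb i₀ hi₀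
    rw [hb0, zero_pow (Fact.out : p.Prime).ne_zero, hc'0] at this
    exact zero_ne_one this

include p in
theorem linIndep_pow_pow_of_injective
    (hinj : Function.Injective (KaehlerDifferential.mapBaseChange ℤ k K))
    {ι : Type*} (v : ι → K) (s : Finset ι) (hli : LinearIndepOn k v (s : Set ι)) :
    ∀ n : ℕ, LinearIndepOn k (fun i => v i ^ p ^ n) (s : Set ι) := by
  intro n
  induction n with
  | zero => simpa using hli
  | succ n ih =>
    have h := linIndep_pow_of_injective p hinj (fun i => v i ^ p ^ n) _ s rfl ih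
    have e : (fun i => (v i ^ p ^ n) ^ p) = (fun i => v i ^ p ^ (n + 1)) := by
      funext i
      rw [← pow_mul, ← pow_succ]
    rw [← e]
    exact h

include p in
theorem isGeometricallyReduced_of_linIndep
    (H : ∀ {ι : Type u} (v : ι → K) (s : Finset ι) (n : ℕ), LinearIndepOn k v (s : Set ι) →
      LinearIndepOn k (fun i => v i ^ p ^ n) (s : Set ι)) :
    Algebra.IsGeometricallyReduced k K := by
  classical
  let kb := AlgebraicClosure k
  have hp : p.Prime := Fact.out
  have hnt : Nontrivial (kb ⊗[k] K) :=
    Algebra.TensorProduct.nontrivial_of_algebraMap_injective_of_flat_left k kb K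
      (algebraMap k K).injective
  have hchar : CharP (kb ⊗[k] K) p :=
    charP_of_injective_algebraMap (algebraMap k (kb ⊗[k] K)).injective p
  rw [Algebra.isGeometricallyReduced_field_iff]
  refine ⟨fun z hz => ?_⟩
  change kb ⊗[k] K at z
  obtain ⟨N, hN⟩ := hz
  have hN' : z ^ p ^ N = 0 := pow_eq_zero_of_le (Nat.lt_pow_self hp.one_lt).le hN
  let b := Module.Basis.ofVectorSpace k K
  let B := Algebra.TensorProduct.basis kb b
  let a := B.repr z
  let S := a.support
  have hz : z = ∑ i ∈ S, a i • B i := by
    have := B.linearCombination_repr z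
    rw [Finsupp.linearCombination_apply, Finsupp.sum] at this
    exact this.symm
  have hw : LinearIndepOn k (fun i => b i ^ p ^ N) (S : Set _) :=
    H b S N (b.linearIndependent.linearIndepOn _)
  have hli : LinearIndepOn kb (fun i => (1 : kb) ⊗ₜ[k] (b i ^ p ^ N)) (S : Set _) :=
    Module.Flat.linearIndependent_one_tmul (S := kb) hw
  rw [linearIndepOn_finset_iff] at hli
  have hsum : ∑ i ∈ S, (a i ^ p ^ N) • ((1 : kb) ⊗ₜ[k] (b i ^ p ^ N)) = 0 := by
    rw [← hN', hz, sum_pow_char_pow]
    refine Finset.sum_congr rfl fun i _ => ?_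
    rw [Algebra.TensorProduct.basis_apply, smul_pow, Algebra.TensorProduct.tmul_pow, one_pow]
  have hzero : ∀ i ∈ S, a i = 0 := fun i hi =>
    pow_eq_zero_iff (pow_pos hp.pos N).ne' |>.1 (hli (fun i => a i ^ p ^ N) hsum i hi)
  rw [hz]
  exact Finset.sum_eq_zero fun i hi => by rw [hzero i hi, zero_smul]

end Helpers

/-- Let k be a field of characteristic p > 0 and K a field extension of k. Then K is geometrically
reduced over k (equivalently, K/k is separable: every finitely generated subextension is separably
generated) if and only if the natural base-change map K ⊗_k Ω_{k/ℤ} → Ω_{K/ℤ} on absolute Kähler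
differentials is injective. -/
theorem result {k K : Type u} [Field k] [Field K] [Algebra k K] (p : ℕ)
    [Fact p.Prime] [CharP k p] :
    Algebra.IsGeometricallyReduced k K ↔ Function.Injective (KaehlerDifferential.mapBaseChange ℤ k K) := by
  constructor
  · intro h
    exact Groth.Agent.Lib.Helper97.KaehlerColim.mapBaseChange_injective_of_isGeometricallyReduced
      (k₀ := ℤ) (k := k) (L := K)
  · intro hinj
    exact isGeometricallyReduced_of_linIndep p
      (fun v s n h => linIndep_pow_pow_of_injective p hinj v s h n)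

end Groth.Agent.S2117
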