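import Groth.Statements.S2025
import Mathlib
import Groth.Agent.Lib.Helper27.SmoothRetractA
import Groth.Agent.Lib.Helper27.SmoothRetractB
import Groth.Agent.Lib.Helper27.SmoothRetractF
import Groth.Agent.Lib.Helper27.SmoothRetractG

set_option autoImplicit false
universe u
open Smoothing

namespace Groth.Agent.S2025

/-- If `A` is smooth over `R` there is a smooth `A`-algebra `B` with an `A`-algebra retraction `B → A`
such that `B` is standard smooth over `R`. -/
theorem result {R A : Type u} [CommRing R] [CommRing A]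
    [Algebra R A] [Algebra.Smooth R A] :
    ∃ (B : Type u) (_ : CommRing B) (_ : Algebra R B) (_ : Algebra A B) (_ : IsScalarTower R A B),
      Algebra.Smooth A B ∧ Nonempty (B →ₐ[A] A) ∧ Algebra.IsStandardSmooth R B := by
  obtain ⟨N, f, hf⟩ := Algebra.FiniteType.iff_quotient_mvPolynomial''.mp
    (inferInstance : Algebra.FiniteType R A)
  have hp : Function.Surjective (Groth.Agent.Lib.Helper27.SmoothRetract.pmap (R := R)
      (fun j => f (MvPolynomial.X j))) :=
    Groth.Agent.Lib.Helper27.SmoothRetract.pmap_surjective _ f hf (fun _ => rfl)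
  obtain ⟨s, hs⟩ := Module.projective_lifting_property
    (Groth.Agent.Lib.Helper27.SmoothRetract.pmap (R := R) (fun j => f (MvPolynomial.X j)))
    LinearMap.id hp
  have hE := Groth.Agent.Lib.Helper27.SmoothRetract.Emap_idem _ s hs
  have : Algebra.Smooth A (Groth.Agent.Lib.Helper27.SmoothRetract.B1
      (Groth.Agent.Lib.Helper27.SmoothRetract.Emap (fun j => f (MvPolynomial.X j)) s)) :=
    Groth.Agent.Lib.Helper27.SmoothRetract.smooth_B1 _ hE
  have : Algebra.Smooth R (Groth.Agent.Lib.Helper27.SmoothRetract.B1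
      (Groth.Agent.Lib.Helper27.SmoothRetract.Emap (fun j => f (MvPolynomial.X j)) s)) :=
    Algebra.Smooth.comp R A _
  have h1 := Groth.Agent.Lib.Helper27.SmoothRetract.top_le_Usub _ s hs f hf (fun _ => rfl)
  have h2 := Groth.Agent.Lib.Helper27.SmoothRetract.ker_Psi_le _ s hs
  obtain ⟨t, ht, ht1, ht2⟩ := Groth.Agent.Lib.Helper27.SmoothRetract.exists_spread
    (RingHom.ker (Groth.Agent.Lib.Helper27.SmoothRetract.sigma1
      (Groth.Agent.Lib.Helper27.SmoothRetract.Emap (fun j => f (MvPolynomial.X j)) s)))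
    (Groth.Agent.Lib.Helper27.SmoothRetract.Psi (fun j => f (MvPolynomial.X j)) s) h1 h2
  exact Groth.Agent.Lib.Helper27.SmoothRetract.finish
    (Groth.Agent.Lib.Helper27.SmoothRetract.sigma1
      (Groth.Agent.Lib.Helper27.SmoothRetract.Emap (fun j => f (MvPolynomial.X j)) s))
    (Groth.Agent.Lib.Helper27.SmoothRetract.Psi (fun j => f (MvPolynomial.X j)) s)
    (fun j => ⟨_, (Groth.Agent.Lib.Helper27.SmoothRetract.Psi_single
      (fun j => f (MvPolynomial.X j)) s j).symm⟩) t ht ht1 ht2

end Groth.Agent.S2025
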