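import Groth.Statements.S2033
import Mathlib
import Groth.Agent.Lib.Helper27.SmoothDescD
import Groth.Agent.Lib.Helper27.SmoothDescE
import Groth.Agent.Lib.Helper27.SmoothDescF

set_option autoImplicit false
universe u
open Smoothing

namespace Groth.Agent.S2033

open TensorProduct in
/-- Let `R` be Noetherian, `A → Λ` an `R`-algebra map with `A` finitely presented, `𝔮 ⊆ Λ` a prime
minimal over the radical of the extended singular ideal of `A`, and `𝔭` its contraction to `R`. If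
the localized problem `R_𝔭 → R_𝔭 ⊗ A → Λ_𝔮` can be resolved at `𝔮Λ_𝔮`, then `A → Λ` factors through
a finitely presented `R`-algebra `C` whose singular ideal over `R` does not extend into `𝔮`. -/
theorem result {R A Λ Rₚ Λq : Type u} [CommRing R] [IsNoetherianRing R] [CommRing A]
    [Algebra R A] [Algebra.FinitePresentation R A] [CommRing Λ] [Algebra R Λ] (φ : A →ₐ[R] Λ)
    (𝔮 : Ideal Λ) [𝔮.IsPrime] (hmin : 𝔮 ∈ (Smoothing.singRad R φ).minimalPrimes)
    [CommRing Rₚ] [Algebra R Rₚ] [IsLocalization.AtPrime Rₚ (𝔮.comap (algebraMap R Λ))]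
    [CommRing Λq] [Algebra Λ Λq] [IsLocalization.AtPrime Λq 𝔮] [Algebra R Λq] [IsScalarTower R Λ Λq]
    [Algebra Rₚ Λq] [IsScalarTower R Rₚ Λq]
    (hres : Smoothing.Resolvable Rₚ
      (Algebra.TensorProduct.lift (Algebra.ofId Rₚ Λq) ((IsScalarTower.toAlgHom R Λ Λq).comp φ)
        (fun _ _ => Commute.all _ _) : Rₚ ⊗[R] A →ₐ[Rₚ] Λq) (𝔮.map (algebraMap Λ Λq))) :
    ∃ (C : Type u) (_ : CommRing C) (_ : Algebra R C), Algebra.FinitePresentation R C ∧
      ∃ (g : A →ₐ[R] C) (h : C →ₐ[R] Λ), h.comp g = φ ∧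
        ¬ (Smoothing.singularIdeal R C).map h ≤ 𝔮 := by
  classical
  obtain ⟨B, _, _, hfp, g, h, hgh, -, hnle⟩ := hres
  haveI hloc : IsLocalRing Λq := IsLocalization.AtPrime.isLocalRing Λq 𝔮
  have hQ : 𝔮.map (algebraMap Λ Λq) = IsLocalRing.maximalIdeal Λq :=
    IsLocalization.AtPrime.map_eq_maximalIdeal 𝔮 Λq
  have hb : ∃ b ∈ Smoothing.singularIdeal Rₚ B, h b ∉ 𝔮.map (algebraMap Λ Λq) := by
    by_contra hcon
    push_neg at hcon
    apply hnle
    unfold Smoothing.singRad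
    have hprime : (𝔮.map (algebraMap Λ Λq)).IsPrime := by rw [hQ]; infer_instance
    rw [hprime.radical_le_iff, Ideal.map_le_iff_le_comap]
    intro b hb
    exact hcon b hb
  obtain ⟨b, hbs, hbQ⟩ := hb
  have hbunit : IsUnit (h b) := by
    rw [hQ] at hbQ
    exact IsLocalRing.notMem_maximalIdeal.mp hbQ
  have hfs : Algebra.FormallySmooth Rₚ (Localization.Away b) := by
    rw [← Algebra.basicOpen_subset_smoothLocus_iff]
    intro P hP
    by_contra hns
    unfold Smoothing.singularIdeal at hbs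
    rw [PrimeSpectrum.mem_vanishingIdeal] at hbs
    exact hP (hbs P hns)
  have hfpb : Algebra.FinitePresentation Rₚ (Localization.Away b) := by
    have : Algebra.FinitePresentation B (Localization.Away b) :=
      IsLocalization.Away.finitePresentation b
    exact .trans _ B _
  have hsm : Algebra.Smooth Rₚ (Localization.Away b) := ⟨hfs, hfpb⟩
  let g₀ : A →+* Localization.Away b := (algebraMap B (Localization.Away b)).comp
    (g.toRingHom.comp (Algebra.TensorProduct.includeRight : A →ₐ[R] Rₚ ⊗[R] A).toRingHom)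
  have hg₀ : ∀ r, g₀ (algebraMap R A r) =
      algebraMap Rₚ (Localization.Away b) (algebraMap R Rₚ r) := by
    intro r
    show algebraMap B (Localization.Away b) (g ((1 : Rₚ) ⊗ₜ[R] algebraMap R A r)) = _
    have h1 : (1 : Rₚ) ⊗ₜ[R] algebraMap R A r =
        algebraMap Rₚ (Rₚ ⊗[R] A) (algebraMap R Rₚ r) := by
      rw [Algebra.TensorProduct.algebraMap_apply, Algebra.algebraMap_eq_smul_one,
        TensorProduct.tmul_smul, TensorProduct.smul_tmul', Algebra.algebraMap_eq_smul_one]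
      simp [Algebra.algebraMap_eq_smul_one]
    rw [h1, g.commutes, ← IsScalarTower.algebraMap_apply]
  let h₁ : Localization.Away b →ₐ[Rₚ] Λq :=
    IsLocalization.Away.liftAlgHom (A := Rₚ) (S := Localization.Away b) b (f := h) hbunit
  have hgh₁ : ∀ a, h₁ (g₀ a) = (RingHom.id Λq)
      (((IsScalarTower.toAlgHom R Λ Λq).comp φ) a) := by
    intro a
    show h₁ (algebraMap B (Localization.Away b) (g ((1 : Rₚ) ⊗ₜ[R] a))) = _
    have h1 : h₁ (algebraMap B (Localization.Away b) (g ((1 : Rₚ) ⊗ₜ[R] a))) =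
        h (g ((1 : Rₚ) ⊗ₜ[R] a)) := IsLocalization.Away.lift_eq b hbunit _
    rw [h1]
    have h2 := DFunLike.congr_fun hgh ((1 : Rₚ) ⊗ₜ[R] a)
    rw [AlgHom.comp_apply] at h2
    rw [h2]
    simp
  obtain ⟨B₁, _, _, α₁, β₁, hαβ₁, s, hs, hstd⟩ := Helper27.SmoothDesc.descent_gen
    (R := R) (A := A) (Λ := Λq) (K := Rₚ) (B' := Localization.Away b) (ΛK := Λq)
    ((IsScalarTower.toAlgHom R Λ Λq).comp φ) (𝔮.comap (algebraMap R Λ)).primeCompl
    (RingHom.id Λq)
    (fun z => ⟨1, Submonoid.one_mem _, z, by simp⟩)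
    (fun l hl => ⟨1, Submonoid.one_mem _, by simpa using hl⟩)
    (fun r => by simp [← IsScalarTower.algebraMap_apply R Rₚ Λq])
    g₀ hg₀ h₁ hgh₁
  have hfpB₁ : Algebra.FinitePresentation R B₁ := by
    obtain ⟨MP, -, -⟩ := hstd
    exact Helper27.StdElem.finitePresentation_of_surjective MP.rel MP.hom MP.surj MP.ker_eq
  have hβ₁ : ∀ a, β₁ (α₁ a) = algebraMap Λ Λq (φ a) := by
    intro a
    have := DFunLike.congr_fun hαβ₁ a
    simpa using this
  obtain ⟨t, ht, β', hβ'⟩ := Helper27.SmoothDesc.exists_finite_stage φ α₁ 𝔮.primeCompl β₁ hβ₁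
    (algebraMap R Λ s)
  obtain ⟨C, _, _, hfpC, gC, hC, hcomp, x, hx, k, hxk⟩ :=
    Helper27.SmoothDesc.exists_factor_of_away φ α₁ s hstd t β' hβ'
  refine ⟨C, _, _, hfpC, gC, hC, hcomp, ?_⟩
  intro hle'
  have h1 : hC x ∈ 𝔮 := hle' (Ideal.mem_map_of_mem _ hx)
  rw [hxk] at h1
  have h2 := Ideal.IsPrime.mem_of_pow_mem ‹𝔮.IsPrime› k h1
  rcases Ideal.IsPrime.mem_or_mem ‹𝔮.IsPrime› h2 with h3 | h3
  · exact hs h3
  · exact ht h3

end Groth.Agent.S2033
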