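import Groth.Statements.S6829
import Mathlib

set_option autoImplicit false
universe u
open Smoothing

namespace Groth.Agent.S6829
open MvPolynomial TensorProduct Smoothing

variable {R A R' : Type u} [CommRing R] [CommRing A] [Algebra R A] [CommRing R'] [Algebra R R']

/-- Mathlib presentation attached to a marked presentation -/
noncomputable def toPres (P : MarkedPresentation R A) :
    Algebra.Presentation R A (Fin P.n) (Fin P.m) where
  __ := Algebra.Generators.ofSurjective (fun i => P.hom (X i)) (by
    have : aeval (fun i => P.hom (X i)) = P.hom := by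
      apply MvPolynomial.algHom_ext; intro i; simp
    rw [this]; exact P.surj)
  relation := P.rel
  span_range_relation_eq_ker := by
    rw [Algebra.Generators.ker_eq_ker_aeval_val, ← P.ker_eq]
    have : aeval (fun i => P.hom (X i)) = P.hom := by
      apply MvPolynomial.algHom_ext; intro i; simp
    show RingHom.ker P.hom.toRingHom = RingHom.ker (aeval (fun i => P.hom (X i)))
    rw [this]; rfl

theorem aeval_eq_hom (P : MarkedPresentation R A) : aeval (fun i => P.hom (X i)) = P.hom := by
  apply MvPolynomial.algHom_ext; intro i; simp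

/-- the base-changed evaluation -/
noncomputable def hom' (P : MarkedPresentation R A) :
    MvPolynomial (Fin P.n) R' →ₐ[R'] R' ⊗[R] A :=
  aeval (fun i => (1 : R') ⊗ₜ[R] P.hom (X i))

theorem hom'_map (P : MarkedPresentation R A) (q : MvPolynomial (Fin P.n) R) :
    hom' (R' := R') P (MvPolynomial.map (algebraMap R R') q) = (1 : R') ⊗ₜ[R] P.hom q := by
  induction q using MvPolynomial.induction_on with
  | C a =>
    simp only [hom', map_C, aeval_C]
    rw [Algebra.TensorProduct.algebraMap_apply, Algebra.algebraMap_self, RingHom.id_apply,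
      Algebra.algebraMap_eq_smul_one a, smul_tmul]
    congr 1
    rw [← algebraMap_eq, AlgHom.commutes, Algebra.algebraMap_eq_smul_one]
  | add p q hp hq => rw [map_add, map_add, hp, hq, map_add, tmul_add]
  | mul_X p i hp =>
    rw [map_mul, map_mul, hp, map_X, map_mul]
    simp [hom']

@[reducible] noncomputable def bc (P : MarkedPresentation R A) : MarkedPresentation R' (R' ⊗[R] A) where
  n := P.n
  m := P.m
  c := P.c
  hcn := P.hcn
  hcm := P.hcm
  rel := fun j => MvPolynomial.map (algebraMap R R') (P.rel j)
  hom := hom' P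
  surj := ((toPres P).baseChange R').toGenerators.aeval_val_surjective
  ker_eq := ((toPres P).span_range_relation_eq_ker_baseChange R').symm


theorem jacobianMinor_map {n m c : ℕ} (f : Fin m → MvPolynomial (Fin n) R) (rows : Fin c → Fin m)
    (cols : Fin c → Fin n) :
    jacobianMinor (fun j => MvPolynomial.map (algebraMap R R') (f j)) rows cols =
      MvPolynomial.map (algebraMap R R') (jacobianMinor f rows cols) := by
  unfold jacobianMinor
  rw [RingHom.map_det]
  congr 1
  ext j k : 2
  simp only [Matrix.of_apply, RingHom.mapMatrix_apply, Matrix.map_apply]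
  rw [MvPolynomial.pderiv_map]

theorem killsTail_bc (P : MarkedPresentation R A) (a : A) (h : KillsTail P a) :
    KillsTail (bc (R' := R') P) ((1 : R') ⊗ₜ[R] a) := by
  intro a'' ha'' j hj
  obtain ⟨a', ha'⟩ := P.surj a
  have h1 := h a' ha' j hj
  set φ := MvPolynomial.map (σ := Fin P.n) (algebraMap R R') with hφ
  -- image of h1 under φ
  have h2 : φ (a' * P.rel j) ∈ Ideal.span ((bc (R' := R') P).rel '' {j' : Fin P.m | (j' : ℕ) < P.c}) ⊔
      Ideal.span (Set.range (bc (R' := R') P).rel) ^ 2 := by
    have h3 := Ideal.mem_map_of_mem φ h1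
    rw [Ideal.map_sup, Ideal.map_pow, Ideal.map_span, Ideal.map_span] at h3
    have e1 : φ '' (P.rel '' {j' : Fin P.m | (j' : ℕ) < P.c}) =
        (bc (R' := R') P).rel '' {j' : Fin P.m | (j' : ℕ) < P.c} := by
      rw [Set.image_image]
    have e2 : φ '' (Set.range P.rel) = Set.range (bc (R' := R') P).rel := by
      rw [← Set.range_comp]; rfl
    rw [e1, e2] at h3
    exact h3
  have h4 : a'' - φ a' ∈ Ideal.span (Set.range (bc (R' := R') P).rel) := by
    rw [← (bc (R' := R') P).ker_eq, RingHom.mem_ker]
    show (bc (R' := R') P).hom (a'' - φ a') = 0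
    rw [map_sub, ha'']
    show _ - hom' P (φ a') = 0
    rw [hom'_map, ha', sub_self]
  have h5 : (a'' - φ a') * (bc (R' := R') P).rel j ∈ Ideal.span (Set.range (bc (R' := R') P).rel) ^ 2 := by
    rw [pow_two]
    exact Ideal.mul_mem_mul h4 (Ideal.subset_span ⟨j, rfl⟩)
  have h6 : a'' * (bc (R' := R') P).rel j = φ (a' * P.rel j) + (a'' - φ a') * (bc (R' := R') P).rel j := by
    rw [map_mul]
    show _ = φ a' * (bc (R' := R') P).rel j + _
    ring
  rw [h6]
  exact Ideal.add_mem _ h2 (Ideal.mem_sup_right h5)

theorem main (a : A) :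
    (Smoothing.IsElementaryStandard R A a →
        Smoothing.IsElementaryStandard R' (R' ⊗[R] A) ((1 : R') ⊗ₜ[R] a)) ∧
      (Smoothing.IsStrictlyStandard R A a →
        Smoothing.IsStrictlyStandard R' (R' ⊗[R] A) ((1 : R') ⊗ₜ[R] a)) := by
  constructor
  · rintro ⟨P, ⟨a₀, ha₀⟩, hk⟩
    refine ⟨bc P, ⟨(1 : R') ⊗ₜ[R] a₀, ?_⟩, killsTail_bc P a hk⟩
    show _ = _ * hom' P (jacobianMinor (fun j => MvPolynomial.map (algebraMap R R') (P.rel j)) _ _)
    rw [jacobianMinor_map, hom'_map, ha₀, Algebra.TensorProduct.tmul_mul_tmul, one_mul]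
  · rintro ⟨P, hmem, hk⟩
    refine ⟨bc P, ?_, killsTail_bc P a hk⟩
    have h1 := Ideal.mem_map_of_mem (Algebra.TensorProduct.includeRight (R := R) (A := R') (B := A)).toRingHom hmem
    rw [Ideal.map_span, ← Set.range_comp] at h1
    show (1 : R') ⊗ₜ[R] a ∈ Ideal.span (Set.range (fun cols : Fin P.c → Fin P.n =>
      hom' (R' := R') P (jacobianMinor (fun j => MvPolynomial.map (algebraMap R R') (P.rel j))
        (Fin.castLE P.hcm) cols)))
    simp_rw [jacobianMinor_map, hom'_map]
    exact h1

end Groth.Agent.S6829

namespace Groth.Agent.S6829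

open TensorProduct in
/-- Let A be a finitely presented R-algebra, R → R' a ring map and a ∈ A. If a is elementary standard,
resp. strictly standard, in A over R, then a ⊗ 1 is elementary standard, resp. strictly standard, in
A ⊗_R R' over R' (written here as 1 ⊗ a in R' ⊗_R A). -/
theorem result {R A R' : Type u} [CommRing R] [CommRing A] [Algebra R A]
    [Algebra.FinitePresentation R A] [CommRing R'] [Algebra R R'] (a : A) :
    (Smoothing.IsElementaryStandard R A a →
        Smoothing.IsElementaryStandard R' (R' ⊗[R] A) ((1 : R') ⊗ₜ[R] a)) ∧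
      (Smoothing.IsStrictlyStandard R A a →
        Smoothing.IsStrictlyStandard R' (R' ⊗[R] A) ((1 : R') ⊗ₜ[R] a)) := by
  exact main a

end Groth.Agent.S6829
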