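import Groth.Statements.S2029
import Mathlib
import Groth.Agent.S2025
import Groth.Agent.Lib.Helper27.SmoothDescA
import Groth.Agent.Lib.Helper27.SmoothDescB
import Groth.Agent.Lib.Helper27.SmoothDescC

set_option autoImplicit false
universe u
open Smoothing

namespace Groth.Agent.S2029

open TensorProduct in
/-- Let `R → A → Λ` with `A` finitely presented over `R`, `S ⊆ R` a multiplicative subset and `R_S` the
localization. If `R_S ⊗ A → R_S ⊗ Λ` factors through a smooth `R_S`-algebra, then `A → Λ` factors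
through an `R`-algebra `B` in which some element of `S` is elementary standard over `R`. -/
theorem result {R A Λ Rₛ B' : Type u} [CommRing R] [CommRing A] [Algebra R A]
    [Algebra.FinitePresentation R A] [CommRing Λ] [Algebra R Λ] (φ : A →ₐ[R] Λ) (S : Submonoid R)
    [CommRing Rₛ] [Algebra R Rₛ] [IsLocalization S Rₛ] [CommRing B'] [Algebra Rₛ B']
    [Algebra.Smooth Rₛ B'] (g : Rₛ ⊗[R] A →ₐ[Rₛ] B') (h : B' →ₐ[Rₛ] Rₛ ⊗[R] Λ)
    (hgh : h.comp g = Algebra.TensorProduct.map (AlgHom.id Rₛ Rₛ) φ) :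
    ∃ (B : Type u) (_ : CommRing B) (_ : Algebra R B) (α : A →ₐ[R] B) (β : B →ₐ[R] Λ),
      β.comp α = φ ∧ ∃ s ∈ S, Smoothing.IsElementaryStandard R B (algebraMap R B s) := by
  classical
  obtain ⟨B'', _, _, _, _, _, ⟨retr⟩, _⟩ := Groth.Agent.S2025.result (R := Rₛ) (A := B')
  let _ : Algebra R B'' := Algebra.compHom B'' (algebraMap R Rₛ)
  have : IsScalarTower R Rₛ B'' := IsScalarTower.of_algebraMap_eq (fun _ => rfl)
  let g' : Rₛ ⊗[R] A →ₐ[Rₛ] B'' := (IsScalarTower.toAlgHom Rₛ B' B'').comp g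
  let h' : B'' →ₐ[Rₛ] Rₛ ⊗[R] Λ := h.comp (retr.restrictScalars Rₛ)
  have hgh' : ∀ x : A, h' (g' (1 ⊗ₜ x)) = 1 ⊗ₜ φ x := by
    intro x
    show h (retr (algebraMap B' B'' (g (1 ⊗ₜ x)))) = _
    rw [retr.commutes]
    have := DFunLike.congr_fun hgh (1 ⊗ₜ x)
    simp only [AlgHom.comp_apply, Algebra.TensorProduct.map_tmul, AlgHom.id_apply] at this
    exact this
  obtain ⟨n, t, gA, φA, hφA, hgA⟩ := Helper27.StdElem.exists_presentation (R := R) (A := A)
  obtain ⟨N, c, κ, mp, val, rel, hval, hraw⟩ := Helper27.SmoothDesc.exists_raw (K := Rₛ)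
    (B := B'') (fun i : Fin n => g' (1 ⊗ₜ φA (MvPolynomial.X i)))
  have h1 : ∀ i, ∃ s ∈ S, ∃ l : Λ, s • h' (val i) = 1 ⊗ₜ l :=
    fun i => Helper27.SmoothDesc.exists_smul_eq_one_tmul S _
  choose s₀ hs₀ l₀ hl₀ using h1
  let a : Fin N → Rₛ := fun i => if ∃ i', κ i' = i then 1 else algebraMap R Rₛ (s₀ i)
  have ha1 : ∀ i', a (κ i') = 1 := fun i' => if_pos ⟨i', rfl⟩
  have ha2 : ∀ i, (¬ ∃ i', κ i' = i) → a i = algebraMap R Rₛ (s₀ i) := fun i hi => if_neg hi
  have h2 : ∀ i, ∃ b : Rₛ, a i * b = 1 := by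
    intro i
    by_cases hi : ∃ i', κ i' = i
    · obtain ⟨i', rfl⟩ := hi
      exact ⟨1, by rw [ha1, mul_one]⟩
    · obtain ⟨b, hb⟩ := (IsLocalization.map_units Rₛ ⟨s₀ i, hs₀ i⟩).exists_right_inv
      exact ⟨b, by rw [ha2 i hi]; exact hb⟩
  choose b hab using h2
  let lam : Fin N → Λ := fun i =>
    if hi : ∃ i', κ i' = i then φ (φA (MvPolynomial.X hi.choose)) else l₀ i
  have hlamκ : ∀ i', lam (κ i') = φ (φA (MvPolynomial.X i')) := by
    intro i'
    have hi : ∃ i'', κ i'' = κ i' := ⟨i', rfl⟩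
    simp only [lam, dif_pos hi]
    rw [κ.injective hi.choose_spec]
  have hraw' := hraw.scale a b hab
  have hlam : ∀ i, h' (a i • val i) = 1 ⊗ₜ lam i := by
    intro i
    by_cases hi : ∃ i', κ i' = i
    · obtain ⟨i', rfl⟩ := hi
      rw [ha1, one_smul, hval, hgh', hlamκ]
    · rw [ha2 i hi, map_smul, algebraMap_smul, hl₀]
      simp only [lam, dif_neg hi]
  have hG : ∀ k, MvPolynomial.aeval (R := Rₛ) (fun i => a i • val i)
      (MvPolynomial.map (algebraMap R Rₛ) (MvPolynomial.rename κ (gA k))) = 0 := by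
    intro k
    rw [Helper27.SmoothDesc.aeval_map_rename g' φA κ (fun i => a i • val i) ?_ (gA k)]
    · have : gA k ∈ RingHom.ker φA.toRingHom := by
        rw [hgA]; exact Ideal.subset_span ⟨k, rfl⟩
      have h2 : φA (gA k) = 0 := this
      rw [h2, tmul_zero, map_zero]
    · intro i
      rw [ha1, one_smul, hval]
  obtain ⟨F, A₁, s, hs, hF0, hGs, hA⟩ := Helper27.SmoothDesc.descend S h'
    (fun i => a i • val i) (fun j => Helper27.SmoothDesc.scaleHom b (rel j)) mp hraw' lam hlam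
    (fun k => MvPolynomial.rename κ (gA k)) hG
  obtain ⟨B, _, _, α, β, hαβ, hstd⟩ := Helper27.SmoothDesc.assemble φ φA hφA gA hgA κ mp lam
    hlamκ F A₁ s hF0 hGs hA
  exact ⟨B, _, _, α, β, hαβ, s, hs, hstd⟩

end Groth.Agent.S2029
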