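import Groth.Statements.S9041
import Groth.Agent.Lib.Helper42.FinPres
import Groth.Agent.Lib.Helper42.ModSheaf
import Mathlib.CategoryTheory.Sites.EpiMono

set_option autoImplicit false
universe u
open CategoryTheory CategoryTheory.Limits Opposite
open ModSite

namespace Groth.Agent.S9041

section
open Groth.Agent.Lib.Helper42.FinPres SheafOfModules

variable {C : Type u} [SmallCategory C] {J : GrothendieckTopology C}

theorem iInf_mem_of_finite {ι : Type*} [Finite ι] (V : C) (S : ι → Sieve V)
    (h : ∀ i, S i ∈ J V) : (⨅ i, S i) ∈ J V := by
  classical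
  haveI := Fintype.ofFinite ι
  have : ∀ t : Finset ι, (⨅ i ∈ t, S i) ∈ J V := by
    intro t
    induction t using Finset.induction_on with
    | empty => simpa using J.top_mem V
    | insert a t ha ih =>
      rw [Finset.iInf_insert]
      exact J.intersection_covering (h a) ih
  simpa using this Finset.univ

variable (O : Sheaf J CommRingCat.{u})

/-- an epimorphism of modules is locally surjective on sections -/
theorem imageSieve_mem {G F : ModSite.Mod O} (p : G ⟶ F) [Epi p] (V : C) (s : El F V) :
    ∃ R ∈ J V, ∀ ⦃W : C⦄ (g : W ⟶ V), R g → ∃ t : El G W, ap p W t = F.val.map g.op s := by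
  have : PreservesFiniteColimits (SheafOfModules.toSheaf.{u} (ringSh O)) :=
    haveI := Groth.Agent.Lib.Helper42.ModSheaf.toSheaf_preservesColimitsOfSize (ringSh O)
    PreservesColimitsOfSize.preservesFiniteColimits _
  have hepi : Epi ((SheafOfModules.toSheaf.{u} (ringSh O)).map p) :=
    (SheafOfModules.toSheaf.{u} (ringSh O)).map_epi p
  have hls : Sheaf.IsLocallySurjective ((SheafOfModules.toSheaf.{u} (ringSh O)).map p) :=
    (Sheaf.isLocallySurjective_iff_epi' _ _).mpr hepi
  refine ⟨_, hls.imageSieve_mem s, ?_⟩
  intro W g hg
  exact hg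

end

open Groth.Agent.Lib.Helper42.FinPres in

/-- On a ringed site (C, O), let E be a direct summand of a finite free O-module, p : G → F a surjection
of O-modules and φ : E → F a morphism. Then locally φ lifts through p: every object V has a covering
sieve such that over each of its arrows W → V there is a morphism E|_W → G|_W whose composite with
p|_W is φ|_W. (The published statement is phrased for modules over the localisation (C/U, O_U) at an
object U and a covering of U; a localised ringed site is again a ringed site, and this row states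
the conclusion at every object of an arbitrary ringed site.) -/
theorem result
    {C : Type u} [SmallCategory C] {J : GrothendieckTopology C} (O : Sheaf J CommRingCat.{u})
    (E F G : ModSite.Mod O) (hE : DCoh.IsFinFreeSummandMod (ModSite.ringSh O) E)
    (p : G ⟶ F) [Epi p] (φ : E ⟶ F) (V : C) :
    ∃ R ∈ J V, ∀ ⦃W : C⦄ (g : W ⟶ V), R g →
      ∃ l : (ModSite.restr O W).obj E ⟶ (ModSite.restr O W).obj G,
        l ≫ (ModSite.restr O W).map p = (ModSite.restr O W).map φ := by
  obtain ⟨n, i, r, hir⟩ := hE
  let I : Type u := ULift.{u} (Fin n)
  let α : SheafOfModules.free (R := ringSh O) I ⟶ F := r ≫ φ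
  let s : I → F.sections := fun k => SheafOfModules.freeHomEquiv F α k
  have hl := fun k => imageSieve_mem O p V (ev (s k) V)
  choose R hR hRt using hl
  refine ⟨⨅ k, R k, iInf_mem_of_finite V R hR, ?_⟩
  intro W g hg
  have hgk : ∀ k, R k g := by
    intro k
    have h1 : (⨅ k, R k) ≤ R k := iInf_le R k
    exact h1 _ hg
  choose t ht using fun k => hRt k g (hgk k)
  let β : SheafOfModules.free (R := ringSh (O.over W)) I ⟶ (restr O W).obj G := mkT O W t
  have key : β ≫ (restr O W).map p = (freeIso O W I).hom ≫ (restr O W).map α := by
    apply hom_ext_T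
    intro j
    rw [valT_comp, valT_comp, valT_mkT, valT_freeIso, apT_restr_map, apT_restr_map, ht]
    change _ = ev (s j) W
    exact (s j).property g.op
  refine ⟨(restr O W).map i ≫ (freeIso O W I).inv ≫ β, ?_⟩
  rw [Category.assoc, Category.assoc, key, Iso.inv_hom_id_assoc, ← Functor.map_comp]
  congr 1
  change i ≫ r ≫ φ = φ
  rw [← Category.assoc, hir, Category.id_comp]

end Groth.Agent.S9041
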