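import Groth.Statements.S1055
import Groth.Agent.Lib.Helper2.LpullComp
import Groth.Agent.Lib.Helper12.SkyTilde2
import Groth.Agent.Lib.Lead.PullbackAff1
import Groth.Agent.Lib.Helper25.LTenCompute
import Groth.Agent.Lib.Helper15.LDerived
import Groth.Prelude.Def_HTor

set_option autoImplicit false
universe u
open CategoryTheory CategoryTheory.Limits AlgebraicGeometry Opposite
attribute [local instance] HasDerivedCategory.standard
open Perf

namespace Groth.Agent.S1055

open Groth.Agent.Lib.Helper2.Lpull Groth.Agent.Lib.Helper12 Groth.Agent.Lib.Helper15.QhAdj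

instance isLeftAdjoint_tilde (B : Type u) [CommRing B] :
    (tilde.functor (CommRingCat.of B)).IsLeftAdjoint :=
  (tilde.adjunction (R := CommRingCat.of B)).isLeftAdjoint

variable {A B : Type u} [CommRing A] [CommRing B] (φ : A →+* B)
  [PreservesFiniteLimits (tilde.functor (CommRingCat.of A))]
  [PreservesFiniteLimits (tilde.functor (CommRingCat.of B))]

/-- the morphism of affine schemes -/
noncomputable abbrev ff : Spec (CommRingCat.of B) ⟶ Spec (CommRingCat.of A) :=
  Spec.map (CommRingCat.ofHom φ)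

/-- `F₁ = (B ⊗ -) ⋙ tilde` on homotopy categories, to the derived category -/
noncomputable abbrev F₁ : KA A ⥤ DCoh.D (Spec (CommRingCat.of B)) :=
  DRing.baseChangeKh φ ⋙ DCoh.tildeD (CommRingCat.of B)

/-- `F₂ = tilde ⋙ f^*` on homotopy categories, to the derived category -/
noncomputable abbrev F₂ : KA A ⥤ DCoh.D (Spec (CommRingCat.of B)) :=
  (tilde.functor (CommRingCat.of A)).mapHomotopyCategory (ComplexShape.up ℤ) ⋙ DCoh.pullKh (ff φ)

/-- `F₂ ≅ F₁` -/
noncomputable def θ : F₂ φ ≅ F₁ φ :=
  (Functor.associator _ _ _).symm ≪≫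
    Functor.isoWhiskerRight
      (Functor.mapHomotopyCategoryCompIso
        (Groth.Agent.Lib.Lead.PullbackAff.tildePullbackIso (CommRingCat.ofHom φ))
        (ComplexShape.up ℤ)) DerivedCategory.Qh ≪≫
    Functor.isoWhiskerRight
      (Functor.mapHomotopyCategoryCompIso
        (Iso.refl (ModuleCat.extendScalars.{u, u, u} φ ⋙ tilde.functor (CommRingCat.of B)))
        (ComplexShape.up ℤ)).symm DerivedCategory.Qh ≪≫
    Functor.associator _ _ _ ≪≫
    Functor.isoWhiskerLeft _
      ((tilde.functor (CommRingCat.of B)).mapDerivedCategoryFactorsh).symm ≪≫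
    (Functor.associator _ _ _).symm

variable [DRing.HasLBaseChange φ] [DCoh.HasLpull (ff φ)]

noncomputable abbrev LHS : DA A ⥤ DCoh.D (Spec (CommRingCat.of B)) :=
  DRing.LBaseChange φ ⋙ DCoh.tildeD (CommRingCat.of B)

noncomputable abbrev RHS : DA A ⥤ DCoh.D (Spec (CommRingCat.of B)) :=
  DCoh.tildeD (CommRingCat.of A) ⋙ DCoh.Lpull (ff φ)

noncomputable def α₁ : DerivedCategory.Qh ⋙ LHS φ ⟶ F₁ φ :=
  (Functor.associator _ _ _).inv ≫
    Functor.whiskerRight ((DRing.baseChangeKh φ).totalLeftDerivedCounit DerivedCategory.Qh (W A))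
      (DCoh.tildeD (CommRingCat.of B))

instance isLeftDerivedFunctor_α₁ : (LHS φ).IsLeftDerivedFunctor (α₁ φ) (W A) :=
  isLeftDerivedFunctor_comp (DRing.baseChangeKh φ) (DRing.LBaseChange φ)
    ((DRing.baseChangeKh φ).totalLeftDerivedCounit DerivedCategory.Qh (W A))
    (DCoh.tildeD (CommRingCat.of B))

noncomputable def β₂ : DerivedCategory.Qh ⋙ RHS φ ⟶ F₂ φ :=
  (Functor.associator _ _ _).inv ≫
    Functor.whiskerRight ((tilde.functor (CommRingCat.of A)).mapDerivedCategoryFactorsh).hom
      (DCoh.Lpull (ff φ)) ≫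
    (Functor.associator _ _ _).hom ≫ Functor.whiskerLeft _ (cou (ff φ))

theorem β₂_app (Y : KA A) : (β₂ φ).app Y =
    (DCoh.Lpull (ff φ)).map
      (((tilde.functor (CommRingCat.of A)).mapDerivedCategoryFactorsh).hom.app Y) ≫
      (cou (ff φ)).app
        (((tilde.functor (CommRingCat.of A)).mapHomotopyCategory (ComplexShape.up ℤ)).obj Y) := by
  simp [β₂]

theorem isIso_β₂_app (P : DRing.Cx A) (hP : DRing.IsKFlat A P) :
    IsIso ((β₂ φ).app ((quot A).obj P)) := by
  rw [β₂_app]
  have hK : DCoh.IsKFlat (((tilde.functor (CommRingCat.of A)).mapHomologicalComplex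
      (ComplexShape.up ℤ)).obj P) := Sky.isKFlat_tilde (CommRingCat.of A) P hP
  have i1 : IsIso ((couC (ff φ)).app (((tilde.functor (CommRingCat.of A)).mapHomologicalComplex
      (ComplexShape.up ℤ)).obj P)) := isIso_couC_app (pb (ff φ)) _ hK
  have i2 : IsIso ((cou (ff φ)).app ((LTK.quot).obj
      (((tilde.functor (CommRingCat.of A)).mapHomologicalComplex (ComplexShape.up ℤ)).obj P))) := i1
  have i3 : IsIso ((cou (ff φ)).app
      (((tilde.functor (CommRingCat.of A)).mapHomotopyCategory (ComplexShape.up ℤ)).obj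
        ((quot A).obj P))) :=
    (NatTrans.isIso_app_iff_of_iso (cou (ff φ))
      (((tilde.functor (CommRingCat.of A)).mapHomotopyCategoryFactors (ComplexShape.up ℤ)).app P)).mpr i2
  infer_instance

theorem mainIso : Nonempty (LHS φ ≅ RHS φ) := by
  let τ := (LHS φ).leftDerivedLift (α₁ φ) (W A) (RHS φ) (β₂ φ ≫ (θ φ).hom)
  have hτ : ∀ X, IsIso (τ.app X) := by
    intro X
    obtain ⟨P, hP, hPf, ⟨e⟩⟩ := Groth.Agent.Lib.Helper25.LTenCompute.exists_kproj_kflat X
    let e' : DerivedCategory.Qh.obj ((quot A).obj P) ≅ X :=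
      (DerivedCategory.quotientCompQhIso _).app P ≪≫ e
    rw [← NatTrans.isIso_app_iff_of_iso τ e']
    have fac := Functor.leftDerived_fac_app (LHS φ) (α₁ φ) (W A) (RHS φ) (β₂ φ ≫ (θ φ).hom)
      ((quot A).obj P)
    have i1 : IsIso ((α₁ φ).app ((quot A).obj P)) := by
      have : IsIso (((DRing.baseChangeKh φ).totalLeftDerivedCounit DerivedCategory.Qh (W A)).app
        ((quot A).obj P)) := inferInstance
      simp only [α₁, NatTrans.comp_app, Functor.associator_inv_app, Functor.whiskerRight_app,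
        Category.id_comp]
      infer_instance
    have i2 : IsIso ((β₂ φ ≫ (θ φ).hom).app ((quot A).obj P)) := by
      have := isIso_β₂_app φ P hPf
      rw [NatTrans.comp_app]
      infer_instance
    rw [← fac] at i2
    exact IsIso.of_isIso_comp_right _ ((α₁ φ).app ((quot A).obj P))
  have : IsIso τ := NatIso.isIso_of_isIso_app τ
  exact ⟨(asIso τ).symm⟩


/-- Let φ : A → B be a ring map and f : Spec B ⟶ Spec A the corresponding morphism. Assuming the derived
functors involved exist (and tilde is recorded as exact), derived base change - ⊗^L_A B : D(A) ⥤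
D(B) followed by M ↦ M~ is isomorphic to M ↦ M~ followed by Lf^*. -/
theorem result {A B : Type u} [CommRing A] [CommRing B] (φ : A →+* B)
    [PreservesFiniteLimits (tilde.functor (CommRingCat.of A))] [PreservesFiniteLimits (tilde.functor (CommRingCat.of B))]
    [DRing.HasLBaseChange φ] [DCoh.HasLpull (Spec.map (CommRingCat.ofHom φ))] :
    Nonempty (DRing.LBaseChange φ ⋙ DCoh.tildeD (CommRingCat.of B) ≅
      DCoh.tildeD (CommRingCat.of A) ⋙ DCoh.Lpull (Spec.map (CommRingCat.ofHom φ))) := by
  exact mainIso φ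

end Groth.Agent.S1055
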