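import Groth.Statements.S17014
-- import your own Groth.Agent.* helpers here
import Mathlib.LinearAlgebra.Matrix.ToLin
import Mathlib.LinearAlgebra.Determinant
import Mathlib.RingTheory.MvPolynomial.Basic
import Mathlib.Algebra.CharP.Two
import Mathlib.Data.ZMod.Basic

set_option autoImplicit false
universe u v
open QuadGrp

namespace Groth.Agent.S17014

section Helpers

open Matrix MvPolynomial

/-- The polar matrix attached to a coefficient family. -/
def polarMat {R : Type*} [CommRing R] {n : ℕ} (a : Sym2 (Fin n) → R) : Matrix (Fin n) (Fin n) R :=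
  Matrix.of fun k l => if k = l then 2 * a s(k, l) else a s(k, l)

theorem polarMat_symm {R : Type*} [CommRing R] {n : ℕ} (a : Sym2 (Fin n) → R) (k l : Fin n) :
    polarMat a k l = polarMat a l k := by
  unfold polarMat
  by_cases h : k = l
  · subst h; rfl
  · simp [h, Ne.symm h, Sym2.eq_swap]

theorem polarMat_transpose {R : Type*} [CommRing R] {n : ℕ} (a : Sym2 (Fin n) → R) :
    (polarMat a)ᵀ = polarMat a := by
  ext k l
  exact polarMat_symm a l k

/-- Lemma C: the universal discriminant evaluates to the determinant of the polar matrix. -/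
theorem eval₂_discUniv {R : Type*} [CommRing R] {n : ℕ} (a : Sym2 (Fin n) → R) :
    MvPolynomial.eval₂ (Int.castRingHom R) a (discUniv n) = (polarMat a).det := by
  have := RingHom.map_det (MvPolynomial.eval₂Hom (Int.castRingHom R) a) (univPolarMat n)
  rw [discUniv]
  rw [MvPolynomial.coe_eval₂Hom] at this
  rw [this]
  congr 1
  ext k l
  simp only [RingHom.mapMatrix_apply, Matrix.map_apply, univPolarMat, polarMat, Matrix.of_apply]
  by_cases h : k = l
  · simp [h]
  · simp [h]


/-- A skew-symmetric matrix of odd size over a ring without 2-torsion has determinant zero. -/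
theorem det_eq_zero_of_skew {S : Type*} [CommRing S] [NoZeroDivisors S] [CharZero S] {n : ℕ}
    (hn : Odd n) (N : Matrix (Fin n) (Fin n) S) (hN : Nᵀ = -N) : N.det = 0 := by
  have h1 : N.det = (-N).det := by rw [← hN, Matrix.det_transpose]
  rw [Matrix.det_neg, Fintype.card_fin, hn.neg_one_pow, neg_one_mul] at h1
  have h2 : (2 : S) * N.det = 0 := by linear_combination h1
  rcases mul_eq_zero.1 h2 with h | h
  · exact absurd h two_ne_zero
  · exact h

/-- The integral skew-symmetric lift of the universal polar matrix. -/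
noncomputable def skewMat (n : ℕ) : Matrix (Fin n) (Fin n) (MvPolynomial (Sym2 (Fin n)) ℤ) :=
  Matrix.of fun i j => if i = j then 0 else if i < j then X s(i, j) else - X s(i, j)

theorem skewMat_transpose (n : ℕ) : (skewMat n)ᵀ = - skewMat n := by
  ext i j
  simp only [skewMat, Matrix.transpose_apply, Matrix.of_apply, Matrix.neg_apply]
  rcases lt_trichotomy i j with h | h | h
  · have h1 : ¬ j = i := (ne_of_lt h).symm
    have h2 : ¬ i = j := ne_of_lt h
    have h3 : ¬ j < i := not_lt.2 (le_of_lt h)
    simp [h1, h2, h3, h, Sym2.eq_swap]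
  · simp [h]
  · have h1 : ¬ j = i := ne_of_lt h
    have h2 : ¬ i = j := (ne_of_lt h).symm
    have h3 : ¬ i < j := not_lt.2 (le_of_lt h)
    simp [h1, h2, h3, h, Sym2.eq_swap]

theorem map_univPolarMat_eq (n : ℕ) :
    (univPolarMat n).map (MvPolynomial.map (Int.castRingHom (ZMod 2))) =
      (skewMat n).map (MvPolynomial.map (Int.castRingHom (ZMod 2))) := by
  ext i j
  simp only [univPolarMat, skewMat, Matrix.map_apply, Matrix.of_apply]
  by_cases h : i = j
  · simp only [h, if_true, map_mul, map_zero]
    have : (MvPolynomial.map (Int.castRingHom (ZMod 2))) (2 : MvPolynomial (Sym2 (Fin n)) ℤ) = 0 := by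
      rw [map_ofNat]
      exact CharTwo.two_eq_zero
    rw [this, zero_mul]
  · simp only [h, if_false]
    by_cases h2 : i < j
    · simp [h2]
    · simp only [h2, if_false, map_neg]
      exact (CharTwo.neg_eq _).symm

theorem even_coeff_discUniv (n : ℕ) (hn : Odd n) (s : Sym2 (Fin n) →₀ ℕ) :
    (2 : ℤ) ∣ MvPolynomial.coeff s (discUniv n) := by
  have h0 : MvPolynomial.map (Int.castRingHom (ZMod 2)) (discUniv n) = 0 := by
    rw [discUniv, RingHom.map_det, RingHom.mapMatrix_apply, map_univPolarMat_eq,
      ← RingHom.mapMatrix_apply, ← RingHom.map_det,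
      det_eq_zero_of_skew hn (skewMat n) (skewMat_transpose n), map_zero]
  have h1 := congrArg (MvPolynomial.coeff s) h0
  rw [MvPolynomial.coeff_map, MvPolynomial.coeff_zero] at h1
  exact (ZMod.intCast_zmod_eq_zero_iff_dvd _ 2).1 h1

/-- Lemma D. -/
theorem discUniv_eq_two_mul (n : ℕ) (hn : Odd n) : discUniv n = 2 * halfDiscUniv n := by
  ext s
  have h2 : (2 : MvPolynomial (Sym2 (Fin n)) ℤ) = MvPolynomial.C 2 := by simp
  rw [h2, MvPolynomial.coeff_C_mul, coeff_halfDiscUniv]
  exact (Int.mul_ediv_cancel' (even_coeff_discUniv n hn s)).symm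

/-- The diagonal coefficient of the transformed form. -/
def diagEntry {R : Type*} [CommRing R] {n : ℕ} (a : Sym2 (Fin n) → R)
    (G : Matrix (Fin n) (Fin n) R) (i : Fin n) : R :=
  (∑ k, G k i ^ 2 * a s(k, k)) + ∑ k, ∑ l, if k < l then G k i * G l i * a s(k, l) else 0

/-- The coefficients of the transformed form. -/
def compCoeffs {R : Type*} [CommRing R] {n : ℕ} (a : Sym2 (Fin n) → R)
    (G : Matrix (Fin n) (Fin n) R) : Sym2 (Fin n) → R :=
  Sym2.lift ⟨fun i j => if i = j then diagEntry a G i else (Gᵀ * polarMat a * G) i j, fun i j => by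
    by_cases h : i = j
    · subst h; rfl
    · simp only [h, Ne.symm h, if_false]
      have : (Gᵀ * polarMat a * G)ᵀ = Gᵀ * polarMat a * G := by
        rw [Matrix.transpose_mul, Matrix.transpose_mul, Matrix.transpose_transpose,
          polarMat_transpose, Matrix.mul_assoc]
      conv_lhs => rw [← this]
      rfl⟩

theorem compCoeffs_mk {R : Type*} [CommRing R] {n : ℕ} (a : Sym2 (Fin n) → R)
    (G : Matrix (Fin n) (Fin n) R) (i j : Fin n) :
    compCoeffs a G s(i, j) = if i = j then diagEntry a G i else (Gᵀ * polarMat a * G) i j := rfl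

theorem sum_sum_symm {R : Type*} [CommRing R] {n : ℕ} (f : Fin n → Fin n → R)
    (hf : ∀ k l, f k l = f l k) :
    ∑ k, ∑ l, f k l = (∑ k, f k k) + 2 * ∑ k, ∑ l, if k < l then f k l else 0 := by
  have h1 : ∀ k l, f k l = (if k = l then f k l else 0) + (if k < l then f k l else 0) +
      (if l < k then f k l else 0) := by
    intro k l
    rcases lt_trichotomy k l with h | h | h
    · simp [h, ne_of_lt h, not_lt.2 (le_of_lt h)]
    · simp [h]
    · simp [h, (ne_of_lt h).symm, not_lt.2 (le_of_lt h)]
  have h2 : ∑ k, ∑ l, (if l < k then f k l else 0) = ∑ k, ∑ l, if k < l then f k l else 0 := by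
    rw [Finset.sum_comm]
    refine Finset.sum_congr rfl fun k _ => Finset.sum_congr rfl fun l _ => ?_
    rw [hf l k]
  calc ∑ k, ∑ l, f k l
      = ∑ k, ∑ l, ((if k = l then f k l else 0) + (if k < l then f k l else 0) +
          (if l < k then f k l else 0)) := by
        refine Finset.sum_congr rfl fun k _ => Finset.sum_congr rfl fun l _ => h1 k l
    _ = (∑ k, ∑ l, if k = l then f k l else 0) + (∑ k, ∑ l, if k < l then f k l else 0) +
          ∑ k, ∑ l, if l < k then f k l else 0 := by
        simp only [Finset.sum_add_distrib]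
    _ = _ := by
        rw [h2]
        have : ∑ k, ∑ l, (if k = l then f k l else 0) = ∑ k, f k k := by
          refine Finset.sum_congr rfl fun k _ => ?_
          simp
        rw [this]
        ring

/-- Lemma B. -/
theorem polarMat_compCoeffs {R : Type*} [CommRing R] {n : ℕ} (a : Sym2 (Fin n) → R)
    (G : Matrix (Fin n) (Fin n) R) :
    polarMat (compCoeffs a G) = Gᵀ * polarMat a * G := by
  ext i j
  by_cases h : i = j
  · subst h
    simp only [polarMat, Matrix.of_apply, if_true, compCoeffs_mk]
    have hexp : (Gᵀ * Matrix.of (fun k l => if k = l then 2 * a s(k, l) else a s(k, l)) * G) i i =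
        ∑ k, ∑ l, G k i * (polarMat a k l) * G l i := by
      rw [Matrix.mul_apply]
      rw [Finset.sum_comm]
      refine Finset.sum_congr rfl fun l _ => ?_
      rw [Matrix.mul_apply, Finset.sum_mul]
      refine Finset.sum_congr rfl fun k _ => ?_
      rfl
    rw [hexp, sum_sum_symm (fun k l => G k i * (polarMat a k l) * G l i)
      (fun k l => by rw [polarMat_symm a k l]; ring)]
    unfold diagEntry
    rw [mul_add, Finset.mul_sum]
    congr 1
    · refine Finset.sum_congr rfl fun k _ => ?_
      simp only [polarMat, Matrix.of_apply, if_true]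
      ring
    · congr 1
      refine Finset.sum_congr rfl fun k _ => Finset.sum_congr rfl fun l _ => ?_
      by_cases hkl : k < l
      · simp only [hkl, if_true, polarMat, Matrix.of_apply, ne_of_lt hkl, if_false]
        ring
      · simp [hkl]
  · simp only [polarMat, Matrix.of_apply, h, if_false, compCoeffs_mk]

/-- Naturality of `compCoeffs` under ring homomorphisms. -/
theorem map_compCoeffs {R S : Type*} [CommRing R] [CommRing S] (ψ : S →+* R) {n : ℕ}
    (a : Sym2 (Fin n) → S) (G : Matrix (Fin n) (Fin n) S) (s : Sym2 (Fin n)) :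
    ψ (compCoeffs a G s) = compCoeffs (fun s => ψ (a s)) (G.map ψ) s := by
  induction s using Sym2.ind with
  | _ i j =>
    rw [compCoeffs_mk, compCoeffs_mk]
    by_cases h : i = j
    · simp only [h, if_true, diagEntry, map_add, map_sum, map_mul, map_pow, Matrix.map_apply]
      congr 1
      refine Finset.sum_congr rfl fun k _ => Finset.sum_congr rfl fun l _ => ?_
      by_cases hkl : k < l
      · simp [hkl]
      · simp [hkl]
    · simp only [h, if_false]
      have hP : (polarMat a).map ψ = polarMat (fun s => ψ (a s)) := by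
        ext k l
        simp only [polarMat, Matrix.map_apply, Matrix.of_apply]
        by_cases hkl : k = l
        · simp [hkl, map_ofNat]
        · simp [hkl]
      rw [← hP, ← Matrix.transpose_map, ← Matrix.map_mul, ← Matrix.map_mul, Matrix.map_apply]


/-- Evaluation of the universal half-discriminant. -/
noncomputable def hd {R : Type*} [CommRing R] {n : ℕ} (a : Sym2 (Fin n) → R) : R :=
  MvPolynomial.eval₂ (Int.castRingHom R) a (halfDiscUniv n)

theorem hd_map {R S : Type*} [CommRing R] [CommRing S] (ψ : S →+* R) {n : ℕ}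
    (a : Sym2 (Fin n) → S) : ψ (hd a) = hd (fun s => ψ (a s)) := by
  unfold hd
  rw [MvPolynomial.eval₂_comp_left]
  congr 1
  exact RingHom.ext_int _ _

theorem two_mul_hd {R : Type*} [CommRing R] {n : ℕ} (hn : Odd n) (a : Sym2 (Fin n) → R) :
    2 * hd a = (polarMat a).det := by
  rw [← eval₂_discUniv, discUniv_eq_two_mul n hn, MvPolynomial.eval₂_mul]
  congr 1
  have h2 : (2 : MvPolynomial (Sym2 (Fin n)) ℤ) = MvPolynomial.C 2 := by simp
  rw [h2, MvPolynomial.eval₂_C]
  simp

theorem hd_compCoeffs_aux {S : Type*} [CommRing S] [NoZeroDivisors S] [CharZero S] {n : ℕ}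
    (hn : Odd n) (a : Sym2 (Fin n) → S) (G : Matrix (Fin n) (Fin n) S) :
    hd (compCoeffs a G) = G.det ^ 2 * hd a := by
  have h1 : 2 * hd (compCoeffs a G) = 2 * (G.det ^ 2 * hd a) := by
    rw [two_mul_hd hn, polarMat_compCoeffs, Matrix.det_mul, Matrix.det_mul, Matrix.det_transpose,
      ← two_mul_hd hn a]
    ring
  exact mul_left_cancel₀ two_ne_zero h1

/-- Lemma E. -/
theorem hd_compCoeffs {R : Type*} [CommRing R] {n : ℕ} (hn : Odd n) (a : Sym2 (Fin n) → R)
    (G : Matrix (Fin n) (Fin n) R) : hd (compCoeffs a G) = G.det ^ 2 * hd a := by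
  let S := MvPolynomial (Sym2 (Fin n) ⊕ Fin n × Fin n) ℤ
  let aU : Sym2 (Fin n) → S := fun s => X (Sum.inl s)
  let GU : Matrix (Fin n) (Fin n) S := Matrix.of fun k l => X (Sum.inr (k, l))
  let ψ : S →+* R := MvPolynomial.eval₂Hom (Int.castRingHom R)
    (Sum.elim a (fun p : Fin n × Fin n => G p.1 p.2))
  have ha : (fun s => ψ (aU s)) = a := by
    funext s
    exact MvPolynomial.eval₂Hom_X' _ _ _
  have hG : GU.map ψ = G := by
    ext k l
    exact MvPolynomial.eval₂Hom_X' _ _ _
  have hU := hd_compCoeffs_aux hn aU GU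
  have := congrArg ψ hU
  rw [hd_map, map_mul, map_pow, hd_map, RingHom.map_det, RingHom.mapMatrix_apply, hG, ha] at this
  rw [← this]
  congr 1
  funext s
  rw [map_compCoeffs, ha, hG]

/-- Lemma A. -/
theorem coeffs_comp {R : Type u} [CommRing R] {M : Type v} [AddCommGroup M] [Module R M] {n : ℕ}
    (b : Module.Basis (Fin n) R M) (Q : QuadraticForm R M) (g : M →ₗ[R] M) :
    coeffs b (LinearEquiv.refl R R) (Q.comp g) =
      compCoeffs (coeffs b (LinearEquiv.refl R R) Q) (LinearMap.toMatrix b b g) := by
  set c := coeffs b (LinearEquiv.refl R R) Q with hc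
  set Gm := LinearMap.toMatrix b b g with hGm
  have hg : ∀ i, g (b i) = ∑ k, Gm k i • b k := by
    intro i
    rw [← b.sum_repr (g (b i))]
    refine Finset.sum_congr rfl fun k _ => ?_
    rw [hGm, LinearMap.toMatrix_apply]
  have F0 : ∀ k l, QuadraticMap.polar Q (b k) (b l) = polarMat c k l := by
    intro k l
    simp only [polarMat, Matrix.of_apply, hc, coeffs_mk, LinearEquiv.refl_apply]
    by_cases h : k = l
    · subst h
      simp [QuadraticMap.polar_self, two_mul]
    · simp [h]
  have E2 : ∀ i j, QuadraticMap.polar Q (g (b i)) (g (b j)) = (Gmᵀ * polarMat c * Gm) i j := by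
    intro i j
    rw [hg i, hg j, ← QuadraticMap.polarBilin_apply_apply]
    simp only [map_sum, LinearMap.sum_apply, map_smul, LinearMap.smul_apply,
      QuadraticMap.polarBilin_apply_apply, F0, smul_eq_mul]
    rw [Matrix.mul_apply]
    refine Finset.sum_congr rfl fun l _ => ?_
    rw [Matrix.mul_apply, mul_comm]
    rfl
  have E1 : ∀ i, Q (g (b i)) = diagEntry c Gm i := by
    intro i
    classical
    rw [hg i, QuadraticMap.map_sum, Finset.sum_sym2_filter_not_isDiag]
    unfold diagEntry
    congr 1
    · refine Finset.sum_congr rfl fun k _ => ?_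
      rw [QuadraticMap.map_smul, hc, coeffs_mk, if_pos rfl, LinearEquiv.refl_apply, smul_eq_mul]
      ring
    · rw [Finset.sum_filter, ← Finset.sum_product', Finset.univ_product_univ]
      rw [← Finset.sum_subset (Finset.subset_univ (Finset.univ : Finset (Fin n)).offDiag)]
      · refine Finset.sum_congr rfl fun p hp => ?_
        by_cases hlt : p.1 < p.2
        · simp only [hlt, if_true, Sym2.map_mk, QuadraticMap.polarSym2_sym2Mk]
          rw [QuadraticMap.polar_smul_left, QuadraticMap.polar_smul_right, F0]
          simp only [polarMat, Matrix.of_apply, ne_of_lt hlt, if_false, smul_eq_mul]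
          ring
        · simp [hlt]
      · intro p _ hp
        have : p.1 = p.2 := by
          by_contra hne
          exact hp (Finset.mem_offDiag.2 ⟨Finset.mem_univ _, Finset.mem_univ _, hne⟩)
        simp [this]
  funext s
  induction s using Sym2.ind with
  | _ i j =>
    rw [compCoeffs_mk, coeffs_mk]
    by_cases h : i = j
    · subst h
      simp only [if_true, LinearEquiv.refl_apply, QuadraticMap.comp_apply]
      exact E1 i
    · simp only [h, if_false, LinearEquiv.refl_apply]
      rw [← E2 i j]
      simp [QuadraticMap.polar, QuadraticMap.comp_apply]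

theorem main {R : Type u} [CommRing R] {M : Type v} [AddCommGroup M] [Module R M]
    (m : ℕ) (b : Module.Basis (Fin (2 * m + 1)) R M) (Q : QuadraticForm R M) (g : M →ₗ[R] M) :
    QuadGrp.halfDisc b (LinearEquiv.refl R R) (Q.comp g) =
      LinearMap.det g ^ 2 * QuadGrp.halfDisc b (LinearEquiv.refl R R) Q := by
  have hn : Odd (2 * m + 1) := ⟨m, rfl⟩
  show hd (coeffs b (LinearEquiv.refl R R) (Q.comp g)) = _ * hd (coeffs b (LinearEquiv.refl R R) Q)
  rw [coeffs_comp, hd_compCoeffs hn, LinearMap.det_toMatrix]


end Helpers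

/-- For a quadratic form Q on a free module with a basis b indexed by Fin (2m+1) over a commutative ring
and any linear endomorphism g of the module, the half-discriminant of Q ∘ g relative to b is (det
g)² times that of Q. -/
theorem result {R : Type u} [CommRing R] {M : Type v} [AddCommGroup M] [Module R M]
    (m : ℕ) (b : Module.Basis (Fin (2 * m + 1)) R M) (Q : QuadraticForm R M) (g : M →ₗ[R] M) :
    QuadGrp.halfDisc b (LinearEquiv.refl R R) (Q.comp g) =
      LinearMap.det g ^ 2 * QuadGrp.halfDisc b (LinearEquiv.refl R R) Q := by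
  exact main m b Q g

end Groth.Agent.S17014
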