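import Groth.Statements.S7402
import Mathlib
import Groth.Agent.Lib.Helper20.UnivHomeo

set_option autoImplicit false
universe u
open CategoryTheory AlgebraicGeometry
open Polynomial
open Mor

namespace Groth.Agent.S7402

open AlgebraicGeometry CategoryTheory Limits TopologicalSpace
open Groth.Agent.Lib.Helper20.UnivHomeo

section
variable {A : Type u} [CommRing A] (I : Ideal A[X])

theorem adjoin_mk_X : Algebra.adjoin A {(Ideal.Quotient.mk I X : A[X] ⧸ I)} = ⊤ := by
  rw [Algebra.adjoin_singleton_eq_range_aeval, eq_top_iff]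
  rintro b -
  obtain ⟨f, rfl⟩ := Ideal.Quotient.mk_surjective b
  refine ⟨f, ?_⟩
  have := Polynomial.aeval_algHom_apply (Ideal.Quotient.mkₐ A I) (X : A[X]) f
  simp only [Ideal.Quotient.mkₐ_eq_mk, aeval_X_left, AlgHom.id_apply] at this
  exact this

theorem algebraMap_quot (a : A) : algebraMap A (A[X] ⧸ I) a = Ideal.Quotient.mk I (C a) := rfl

/-- a ring hom out of the quotient given by evaluating at `τ` -/
theorem exists_hom_of_eval {L : Type u} [CommRing L] [Algebra A L] (G : Set A[X]) (τ : L)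
    (h : ∀ f ∈ G, Polynomial.eval₂ (algebraMap A L) τ f = 0) :
    ∃ ψ : (A[X] ⧸ Ideal.span G) →+* L, ψ.comp (algebraMap A (A[X] ⧸ Ideal.span G)) = algebraMap A L := by
  have hle : Ideal.span G ≤ RingHom.ker (Polynomial.eval₂RingHom (algebraMap A L) τ) := by
    rw [Ideal.span_le]
    intro f hf
    exact h f hf
  refine ⟨Ideal.Quotient.lift _ (Polynomial.eval₂RingHom (algebraMap A L) τ) (fun f hf => hle hf), ?_⟩
  ext a
  simp [algebraMap_quot]

end

theorem field_sq_cube {K : Type*} [Field K] (x y : K) (h : x ^ 3 = y ^ 2) :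
    ∃ τ : K, τ ^ 2 = x ∧ τ ^ 3 = y := by
  by_cases hx : x = 0
  · subst hx
    have hy : y = 0 := by
      have : y ^ 2 = 0 := by rw [← h]; simp
      exact pow_eq_zero_iff (two_ne_zero) |>.mp this
    exact ⟨0, by simp, by simp [hy]⟩
  · refine ⟨y / x, ?_, ?_⟩
    · field_simp
      rw [← h]
    · field_simp
      have : y ^ 3 = y * y ^ 2 := by ring
      rw [this, ← h]

/-- Let `A` be a ring and `x, y ∈ A` with `x^3 = y^2`. Then `A → B = A[t]/(t^2 - x, t^3 - y)` induces a
universal homeomorphism on spectra and isomorphisms on residue fields. -/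
theorem result (A : Type u) [CommRing A] (x y : A) (h : x ^ 3 = y ^ 2) :
    FlatMor.IsUnivHomeo (Spec.map (CommRingCat.ofHom (algebraMap A
      (A[X] ⧸ Ideal.span ({X ^ 2 - C x, X ^ 3 - C y} : Set A[X]))))) ∧
    ∀ q : Spec (CommRingCat.of (A[X] ⧸ Ideal.span ({X ^ 2 - C x, X ^ 3 - C y} : Set A[X]))),
      Function.Surjective ((Spec.map (CommRingCat.ofHom (algebraMap A
        (A[X] ⧸ Ideal.span ({X ^ 2 - C x, X ^ 3 - C y} : Set A[X]))))).residueFieldMap q) := by
  set I : Ideal A[X] := Ideal.span ({X ^ 2 - C x, X ^ 3 - C y} : Set A[X]) with hI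
  set t : A[X] ⧸ I := Ideal.Quotient.mk I X with ht
  have ht2 : t ^ 2 = algebraMap A (A[X] ⧸ I) x := by
    rw [ht, ← map_pow, algebraMap_quot, Ideal.Quotient.eq]
    exact Ideal.subset_span (by simp)
  have ht3 : t ^ 3 = algebraMap A (A[X] ⧸ I) y := by
    rw [ht, ← map_pow, algebraMap_quot, Ideal.Quotient.eq]
    exact Ideal.subset_span (by simp)
  have hgen : Algebra.adjoin A {t} = ⊤ := adjoin_mk_X I
  have hker : ∀ a : A, algebraMap A (A[X] ⧸ I) a = 0 → IsNilpotent a := by
    apply ker_nil_of_forall_prime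
    intro 𝔭 _
    obtain ⟨τ, hτ2, hτ3⟩ := field_sq_cube (algebraMap A 𝔭.ResidueField x)
      (algebraMap A 𝔭.ResidueField y) (by rw [← map_pow, ← map_pow, h])
    obtain ⟨ψ, hψ⟩ := exists_hom_of_eval (L := 𝔭.ResidueField)
      ({X ^ 2 - C x, X ^ 3 - C y} : Set A[X]) τ (by
        intro f hf
        rcases hf with rfl | rfl
        · simp [hτ2]
        · simp [hτ3])
    refine ⟨𝔭.ResidueField, inferInstance, ψ, ?_⟩
    rw [hψ, Ideal.ker_algebraMap_residueField]
  have hUH : UH A (A[X] ⧸ I) := by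
    refine uh_of_adjoin {t} hgen ?_ hker ?_
    · rintro _ rfl
      refine IsIntegral.of_pow (n := 2) (by norm_num) ?_
      rw [ht2]
      exact isIntegral_algebraMap
    · rintro _ rfl
      apply mem_radicialClosure_of_sq_cube
      · rw [ht2]; exact Subalgebra.algebraMap_mem _ _
      · rw [ht3]; exact Subalgebra.algebraMap_mem _ _
  refine ⟨(isUnivHomeo_iff A (A[X] ⧸ I)).mpr hUH, ?_⟩
  rw [forall_surjective_residueFieldMap_iff]
  apply resTriv_of_adjoin {t} hgen
  rintro 𝔮 _ _ rfl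
  apply ResTrivAt.of_sq_cube
  · rw [ht2]; exact ResTrivAt.of_algebraMap _
  · rw [ht3]; exact ResTrivAt.of_algebraMap _

end Groth.Agent.S7402
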