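import Groth.Statements.S7403
import Mathlib
import Groth.Agent.Lib.Helper20.UnivHomeo

set_option autoImplicit false
universe u
open CategoryTheory AlgebraicGeometry
open Polynomial
open Mor

namespace Groth.Agent.S7403

open AlgebraicGeometry CategoryTheory Limits TopologicalSpace
open Groth.Agent.Lib.Helper20.UnivHomeo

section
variable {A : Type u} [CommRing A] (I : Ideal A[X])

theorem adjoin_mk_X : Algebra.adjoin A {(Ideal.Quotient.mk I X : A[X] ⧸ I)} = ⊤ := by
  rw [Algebra.adjoin_singleton_eq_range_aeval, eq_top_iff]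
  rintro b -
  obtain ⟨f, rfl⟩ := Ideal.Quotient.mk_surjective b
  refine ⟨f, ?_⟩
  have := Polynomial.aeval_algHom_apply (Ideal.Quotient.mkₐ A I) (X : A[X]) f
  simp only [Ideal.Quotient.mkₐ_eq_mk, aeval_X_left, AlgHom.id_apply] at this
  exact this

theorem algebraMap_quot (a : A) : algebraMap A (A[X] ⧸ I) a = Ideal.Quotient.mk I (C a) := rfl

/-- a ring hom out of the quotient given by evaluating at `τ` -/
theorem exists_hom_of_eval {L : Type u} [CommRing L] [Algebra A L] (G : Set A[X]) (τ : L)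
    (h : ∀ f ∈ G, Polynomial.eval₂ (algebraMap A L) τ f = 0) :
    ∃ ψ : (A[X] ⧸ Ideal.span G) →+* L, ψ.comp (algebraMap A (A[X] ⧸ Ideal.span G)) = algebraMap A L := by
  have hle : Ideal.span G ≤ RingHom.ker (Polynomial.eval₂RingHom (algebraMap A L) τ) := by
    rw [Ideal.span_le]
    intro f hf
    exact h f hf
  refine ⟨Ideal.Quotient.lift _ (Polynomial.eval₂RingHom (algebraMap A L) τ) (fun f hf => hle hf), ?_⟩
  ext a
  simp [algebraMap_quot]

end

theorem field_prime {K : Type*} [Field K] [IsAlgClosed K] (p : ℕ) (hp : p.Prime) (x y : K)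
    (h : (p : K) ^ p * x = y ^ p) :
    ∃ τ : K, τ ^ p = x ∧ (p : K) * τ = y := by
  by_cases hp0 : (p : K) = 0
  · have hy : y = 0 := by
      have : y ^ p = 0 := by rw [← h, hp0, zero_pow hp.ne_zero, zero_mul]
      exact pow_eq_zero_iff hp.ne_zero |>.mp this
    obtain ⟨τ, hτ⟩ := IsAlgClosed.exists_pow_nat_eq x hp.pos
    exact ⟨τ, hτ, by rw [hp0, hy, zero_mul]⟩
  · refine ⟨y / p, ?_, by field_simp⟩
    rw [div_pow, ← h]
    field_simp

/-- Let `A` be a ring, `p` a prime number and `x, y ∈ A` with `p^p x = y^p`. Then `A → B = A[t]/(t^p -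
x, p t - y)` induces a universal homeomorphism on spectra. -/
theorem result (A : Type u) [CommRing A] (p : ℕ) (hp : p.Prime) (x y : A)
    (h : (p : A) ^ p * x = y ^ p) :
    FlatMor.IsUnivHomeo (Spec.map (CommRingCat.ofHom (algebraMap A
      (A[X] ⧸ Ideal.span ({X ^ p - C x, C (p : A) * X - C y} : Set A[X]))))) := by
  set I : Ideal A[X] := Ideal.span ({X ^ p - C x, C (p : A) * X - C y} : Set A[X]) with hI
  set t : A[X] ⧸ I := Ideal.Quotient.mk I X with ht
  have ht2 : t ^ p = algebraMap A (A[X] ⧸ I) x := by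
    rw [ht, ← map_pow, algebraMap_quot, Ideal.Quotient.eq]
    exact Ideal.subset_span (by simp)
  have ht3 : (p : A[X] ⧸ I) * t = algebraMap A (A[X] ⧸ I) y := by
    have : (p : A[X] ⧸ I) = Ideal.Quotient.mk I (C (p : A)) := by simp
    rw [ht, this, ← map_mul, algebraMap_quot, Ideal.Quotient.eq]
    exact Ideal.subset_span (by simp)
  have hgen : Algebra.adjoin A {t} = ⊤ := adjoin_mk_X I
  have hker : ∀ a : A, algebraMap A (A[X] ⧸ I) a = 0 → IsNilpotent a := by
    apply ker_nil_of_forall_prime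
    intro 𝔭 _
    obtain ⟨τ, hτ2, hτ3⟩ := field_prime (K := AlgebraicClosure 𝔭.ResidueField) p hp
      (algebraMap A _ x) (algebraMap A _ y) (by
        rw [← map_natCast (algebraMap A (AlgebraicClosure 𝔭.ResidueField)), ← map_pow, ← map_pow,
          ← map_mul, h])
    obtain ⟨ψ, hψ⟩ := exists_hom_of_eval (L := AlgebraicClosure 𝔭.ResidueField)
      ({X ^ p - C x, C (p : A) * X - C y} : Set A[X]) τ (by
        intro f hf
        rcases hf with rfl | rfl
        · simp [hτ2]
        · simp [hτ3])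
    refine ⟨AlgebraicClosure 𝔭.ResidueField, inferInstance, ψ, ?_⟩
    rw [hψ, IsScalarTower.algebraMap_eq A 𝔭.ResidueField (AlgebraicClosure 𝔭.ResidueField),
      ← RingHom.comap_ker, (RingHom.injective_iff_ker_eq_bot _).mp
        (algebraMap 𝔭.ResidueField (AlgebraicClosure 𝔭.ResidueField)).injective,
      ← RingHom.ker_eq_comap_bot, Ideal.ker_algebraMap_residueField]
  have hUH : UH A (A[X] ⧸ I) := by
    refine uh_of_adjoin {t} hgen ?_ hker ?_
    · rintro _ rfl
      refine IsIntegral.of_pow (n := p) hp.pos ?_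
      rw [ht2]
      exact isIntegral_algebraMap
    · rintro _ rfl
      apply mem_radicialClosure_of_prime p hp
      · rw [ht3]; exact Subalgebra.algebraMap_mem _ _
      · rw [ht2]; exact Subalgebra.algebraMap_mem _ _
  exact (isUnivHomeo_iff A (A[X] ⧸ I)).mpr hUH

end Groth.Agent.S7403
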