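import Groth.Statements.S7423
import Mathlib
import Groth.Agent.Lib.Helper20.UnivHomeoAwn
import Groth.Agent.S7402
import Groth.Agent.S7403

set_option autoImplicit false
universe u
open CategoryTheory AlgebraicGeometry
open HTop

namespace Groth.Agent.S7423

open AlgebraicGeometry CategoryTheory Limits TopologicalSpace Polynomial
open Groth.Agent.Lib.Helper20.UnivHomeo

section
variable {A W : Type u} [CommRing A] [CommRing W] [Algebra A W]

theorem awn_lift (hφ : HTop.IsRingAWN (algebraMap A W)) {C : Type u} [CommRing C] [Algebra A C]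
    (hC : UH A C) : ∃! χ : C →+* W, χ.comp (algebraMap A C) = algebraMap A W :=
  hφ.2 C (algebraMap A C) ((isUnivHomeo_iff A C).mpr hC)

theorem awn_uh (hφ : HTop.IsRingAWN (algebraMap A W)) : UH A W := (isUnivHomeo_iff A W).mp hφ.1

/-- any endomorphism of `W` over `A` is the identity -/
theorem awn_endo (hφ : HTop.IsRingAWN (algebraMap A W)) (ρ : W →+* W)
    (hρ : ρ.comp (algebraMap A W) = algebraMap A W) : ρ = RingHom.id W := by
  obtain ⟨χ, -, hχ⟩ := awn_lift hφ (awn_uh hφ)
  rw [hχ ρ hρ, hχ (RingHom.id W) (RingHom.id_comp _)]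

/-- a retraction of every universally homeomorphic `W`-algebra -/
theorem awn_retract (hφ : HTop.IsRingAWN (algebraMap A W)) {E : Type u} [CommRing E] [Algebra W E]
    [Algebra A E] [IsScalarTower A W E] (hE : UH W E) :
    ∃ ρ : E →+* W, ∀ w : W, ρ (algebraMap W E w) = w := by
  have hAE : UH A E := (awn_uh hφ).trans hE
  obtain ⟨ρ, hρ, -⟩ := awn_lift hφ hAE
  refine ⟨ρ, fun w => ?_⟩
  have := awn_endo hφ (ρ.comp (algebraMap W E)) (by
    rw [RingHom.comp_assoc, ← IsScalarTower.algebraMap_eq, hρ])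
  exact congrArg (fun f => f w) this

theorem awn_isReduced (hφ : HTop.IsRingAWN (algebraMap A W)) : IsReduced W := by
  have hE : UH W (W ⧸ nilradical W) := by
    apply uh_of_surjective Ideal.Quotient.mk_surjective
    intro w hw
    exact mem_nilradical.mp (Ideal.Quotient.eq_zero_iff_mem.mp hw)
  obtain ⟨ρ, hρ⟩ := awn_retract hφ hE
  refine ⟨fun w hw => ?_⟩
  have : algebraMap W (W ⧸ nilradical W) w = 0 :=
    Ideal.Quotient.eq_zero_iff_mem.mpr (mem_nilradical.mpr hw)
  rw [← hρ w, this, map_zero]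

theorem retract_sq_cube (x y : W)
    (ρ : (W[X] ⧸ Ideal.span ({X ^ 2 - C x, X ^ 3 - C y} : Set W[X])) →+* W)
    (hρ : ∀ w : W, ρ (algebraMap W _ w) = w) :
    (ρ (Ideal.Quotient.mk _ X)) ^ 2 = x ∧ (ρ (Ideal.Quotient.mk _ X)) ^ 3 = y := by
  constructor
  · rw [← map_pow, ← map_pow]
    have : Ideal.Quotient.mk (Ideal.span ({X ^ 2 - C x, X ^ 3 - C y} : Set W[X])) (X ^ 2) =
        algebraMap W _ x := by
      change _ = Ideal.Quotient.mk _ (C x)
      rw [Ideal.Quotient.eq]
      exact Ideal.subset_span (by simp)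
    rw [this, hρ]
  · rw [← map_pow, ← map_pow]
    have : Ideal.Quotient.mk (Ideal.span ({X ^ 2 - C x, X ^ 3 - C y} : Set W[X])) (X ^ 3) =
        algebraMap W _ y := by
      change _ = Ideal.Quotient.mk _ (C y)
      rw [Ideal.Quotient.eq]
      exact Ideal.subset_span (by simp)
    rw [this, hρ]

theorem retract_prime (p : ℕ) (x y : W)
    (ρ : (W[X] ⧸ Ideal.span ({X ^ p - C x, C (p : W) * X - C y} : Set W[X])) →+* W)
    (hρ : ∀ w : W, ρ (algebraMap W _ w) = w) :
    (ρ (Ideal.Quotient.mk _ X)) ^ p = x ∧ (p : W) * (ρ (Ideal.Quotient.mk _ X)) = y := by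
  constructor
  · rw [← map_pow, ← map_pow]
    have : Ideal.Quotient.mk (Ideal.span ({X ^ p - C x, C (p : W) * X - C y} : Set W[X])) (X ^ p) =
        algebraMap W _ x := by
      change _ = Ideal.Quotient.mk _ (C x)
      rw [Ideal.Quotient.eq]
      exact Ideal.subset_span (by simp)
    rw [this, hρ]
  · have h1 : (p : W) = ρ (Ideal.Quotient.mk
        (Ideal.span ({X ^ p - C x, C (p : W) * X - C y} : Set W[X])) (C (p : W))) := by
      have : Ideal.Quotient.mk (Ideal.span ({X ^ p - C x, C (p : W) * X - C y} : Set W[X]))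
          (C (p : W)) = algebraMap W _ (p : W) := rfl
      rw [this, hρ]
    have : Ideal.Quotient.mk (Ideal.span ({X ^ p - C x, C (p : W) * X - C y} : Set W[X]))
        (C (p : W) * X) = algebraMap W _ y := by
      change _ = Ideal.Quotient.mk _ (C y)
      rw [Ideal.Quotient.eq]
      exact Ideal.subset_span (by simp)
    calc (p : W) * ρ (Ideal.Quotient.mk _ X)
        = ρ (Ideal.Quotient.mk _ (C (p : W))) * ρ (Ideal.Quotient.mk _ X) := by
          exact congrArg (· * ρ (Ideal.Quotient.mk _ X)) h1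
      _ = y := by rw [← map_mul, ← map_mul, this, hρ]

theorem awn_isAWNRing (hφ : HTop.IsRingAWN (algebraMap A W)) : HTop.IsAWNRing W := by
  have hred := awn_isReduced hφ
  refine ⟨?_, ?_⟩
  · intro x y h
    have hE := (isUnivHomeo_iff W _).mp (Groth.Agent.S7402.result W x y h).1
    obtain ⟨ρ, hρ⟩ := awn_retract hφ hE
    obtain ⟨e2, e3⟩ := retract_sq_cube x y ρ hρ
    refine ⟨_, ⟨e2.symm, e3.symm⟩, ?_⟩
    rintro a' ⟨h2, h3⟩
    have hn : IsNilpotent (a' - ρ (Ideal.Quotient.mk _ X)) := by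
      apply isNilpotent_sub_of_sq_cube
      · rw [← h2, e2, sub_self]; exact IsNilpotent.zero
      · rw [← h3, e3, sub_self]; exact IsNilpotent.zero
    exact sub_eq_zero.mp hn.eq_zero
  · intro p hp x y h
    have hE := (isUnivHomeo_iff W _).mp (Groth.Agent.S7403.result W p hp x y h)
    obtain ⟨ρ, hρ⟩ := awn_retract hφ hE
    obtain ⟨e2, e3⟩ := retract_prime p x y ρ hρ
    refine ⟨_, ⟨e2.symm, e3.symm⟩, ?_⟩
    rintro a' ⟨h2, h3⟩
    have hn : IsNilpotent (a' - ρ (Ideal.Quotient.mk _ X)) := by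
      apply isNilpotent_sub_of_prime p hp
      · rw [← h3, e3, sub_self]; exact IsNilpotent.zero
      · rw [← h2, e2, sub_self]; exact IsNilpotent.zero
    exact sub_eq_zero.mp hn.eq_zero

end


theorem isReduced_of_isSeminormalRing {B : Type u} [CommRing B] (h : HTop.IsSeminormalRing B) :
    IsReduced B := by
  rw [isReduced_iff_pow_one_lt 2 (by norm_num)]
  intro n hn
  obtain ⟨a, -, ha⟩ := h 0 0 (by simp)
  have h0 : (0 : B) = a := ha 0 ⟨by simp, by simp⟩
  have h1 : n = a := ha n ⟨by rw [hn], by rw [pow_succ, hn, zero_mul]⟩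
  rw [h1, ← h0]

theorem isAWNRing_of_equiv {B W : Type u} [CommRing B] [CommRing W] (e : B ≃+* W)
    (h : HTop.IsAWNRing W) : HTop.IsAWNRing B := by
  refine ⟨?_, ?_⟩
  · intro x y hxy
    obtain ⟨a', ⟨h2, h3⟩, hu⟩ := h.1 (e x) (e y) (by rw [← map_pow, ← map_pow, hxy])
    refine ⟨e.symm a', ⟨?_, ?_⟩, ?_⟩
    · apply e.injective; rw [map_pow, e.apply_symm_apply, h2]
    · apply e.injective; rw [map_pow, e.apply_symm_apply, h3]
    · rintro b ⟨hb2, hb3⟩
      have := hu (e b) ⟨by rw [hb2, map_pow], by rw [hb3, map_pow]⟩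
      rw [← this, e.symm_apply_apply]
  · intro p hp x y hxy
    obtain ⟨a', ⟨h2, h3⟩, hu⟩ := h.2 p hp (e x) (e y) (by
      rw [← map_pow, ← map_natCast e, ← map_pow, ← map_mul, hxy])
    refine ⟨e.symm a', ⟨?_, ?_⟩, ?_⟩
    · apply e.injective; rw [map_pow, e.apply_symm_apply, h2]
    · apply e.injective; rw [map_mul, e.apply_symm_apply, h3, map_natCast]
    · rintro b ⟨hb2, hb3⟩
      have := hu (e b) ⟨by rw [hb2, map_pow], by rw [hb3, map_mul, map_natCast]⟩
      rw [← this, e.symm_apply_apply]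

/-- Let `φ : A → A^awn` be an absolute weak normalization and `ψ : A → B` a ring map inducing a
universal homeomorphism on spectra. Then `B` is absolutely weakly normal exactly when the induced
map `χ : B → A^awn` with `χ ∘ ψ = φ` is an isomorphism. -/
theorem result {A B W : Type u} [CommRing A] [CommRing B] [CommRing W]
    (φ : A →+* W) (hφ : HTop.IsRingAWN φ) (ψ : A →+* B)
    (hψ : FlatMor.IsUnivHomeo (Spec.map (CommRingCat.ofHom ψ))) (χ : B →+* W) (hχ : χ.comp ψ = φ) :
    Function.Bijective χ ↔ HTop.IsAWNRing B := by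
  letI := φ.toAlgebra
  letI := ψ.toAlgebra
  letI := χ.toAlgebra
  haveI : IsScalarTower A B W := .of_algebraMap_eq' hχ.symm
  have hφ' : HTop.IsRingAWN (algebraMap A W) := hφ
  have hWawn := awn_isAWNRing hφ'
  have hWred := awn_isReduced hφ'
  constructor
  · intro hbij
    exact isAWNRing_of_equiv (RingEquiv.ofBijective χ hbij) hWawn
  · intro hB
    have hBred := isReduced_of_isSeminormalRing hB.1
    have hAB : UH A B := (isUnivHomeo_iff A B).mp hψ
    have hBW : UH B W := hAB.cancel (awn_uh hφ')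
    have hinj : Function.Injective χ := by
      rw [injective_iff_map_eq_zero]
      intro b hb
      exact (hBW.ker_nil b hb).eq_zero
    refine ⟨hinj, ?_⟩
    by_contra hns
    rcases global_general hBW hns with ⟨w, hw1, ⟨x, hx⟩, ⟨y, hy⟩⟩ |
      ⟨p, w, hp, hw1, ⟨y, hy⟩, ⟨x, hx⟩⟩
    · have hxy : x ^ 3 = y ^ 2 := by
        apply hinj
        change algebraMap B W (x ^ 3) = algebraMap B W (y ^ 2)
        rw [map_pow, map_pow, hx, hy]; ring
      obtain ⟨a, ⟨h2, h3⟩, -⟩ := hB.1 x y hxy
      have hn : IsNilpotent (algebraMap B W a - w) := by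
        apply isNilpotent_sub_of_sq_cube
        · rw [← map_pow, ← h2, hx, sub_self]; exact IsNilpotent.zero
        · rw [← map_pow, ← h3, hy, sub_self]; exact IsNilpotent.zero
      exact hw1 ⟨a, sub_eq_zero.mp hn.eq_zero⟩
    · have hxy : (p : B) ^ p * x = y ^ p := by
        apply hinj
        change algebraMap B W ((p : B) ^ p * x) = algebraMap B W (y ^ p)
        rw [map_mul, map_pow, map_pow, map_natCast, hx, hy]; ring
      obtain ⟨a, ⟨h2, h3⟩, -⟩ := hB.2 p hp x y hxy
      have hn : IsNilpotent (algebraMap B W a - w) := by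
        apply isNilpotent_sub_of_prime p hp
        · rw [← map_natCast (algebraMap B W), ← map_mul, ← h3, hy, map_natCast, sub_self]
          exact IsNilpotent.zero
        · rw [← map_pow, ← h2, hx, sub_self]; exact IsNilpotent.zero
      exact hw1 ⟨a, sub_eq_zero.mp hn.eq_zero⟩

end Groth.Agent.S7423
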