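import Groth.Statements.S8993
import Groth.Agent.Lib.Helper20.PerfAWN
import Groth.Agent.S7422
import Groth.Agent.S7423

set_option autoImplicit false
universe u
open HTop

namespace Groth.Agent.S8993

open AlgebraicGeometry in
theorem isRingAWN_of_uh_of_isAWNRing {A B : Type u} [CommRing A] [CommRing B] (ψ : A →+* B)
    (hψ : FlatMor.IsUnivHomeo (Spec.map (CommRingCat.ofHom ψ))) (hB : HTop.IsAWNRing B) :
    HTop.IsRingAWN ψ := by
  obtain ⟨W, _, φ, hφ⟩ := Groth.Agent.S7422.result A
  obtain ⟨χ, hχ, -⟩ := hφ.2 B ψ hψ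
  have hbij := (Groth.Agent.S7423.result φ hφ ψ hψ χ hχ).mpr hB
  let e : B ≃+* W := RingEquiv.ofBijective χ hbij
  have heχ : ∀ b, e b = χ b := fun _ => rfl
  refine ⟨hψ, fun C _ ψ' hψ' => ?_⟩
  obtain ⟨τ, hτ, hτu⟩ := hφ.2 C ψ' hψ'
  refine ⟨e.symm.toRingHom.comp τ, ?_, ?_⟩
  · ext a
    have h1 : τ (ψ' a) = φ a := congr($hτ a)
    have h2 : χ (ψ a) = φ a := congr($hχ a)
    change e.symm (τ (ψ' a)) = ψ a
    rw [h1, ← h2, ← heχ, e.symm_apply_apply]
  · intro χ' hχ'
    have h3 : χ.comp χ' = τ := hτu _ (by
      change (χ.comp χ').comp ψ' = φ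
      rw [RingHom.comp_assoc, hχ', hχ])
    ext c
    change χ' c = e.symm (τ c)
    rw [← h3]
    change χ' c = e.symm (χ (χ' c))
    rw [← heχ, e.symm_apply_apply]

/-- For a ring A of prime characteristic p, the map from A to the direct limit of A along Frobenius (the
perfect closure) is an absolute weak normalization of A. (The published statement also identifies,
over a base of characteristic p, the h sheafification of the structure sheaf on quasi-compact
quasi-separated objects with this colimit; that part is not stated here.) -/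
theorem result (p : ℕ) [Fact p.Prime] (A : Type u) [CommRing A] [CharP A p] : HTop.IsRingAWN (PerfectClosure.of A p) := by
  have hp : p.Prime := Fact.out
  apply isRingAWN_of_uh_of_isAWNRing
  · letI := (PerfectClosure.of A p).toAlgebra
    have hUH : Groth.Agent.Lib.Helper20.UnivHomeo.UH A (PerfectClosure A p) :=
      Groth.Agent.Lib.Helper20.UnivHomeo.uh_of_isPRadical p hp
        (CharP.cast_eq_zero (PerfectClosure A p) p)
        (fun x => IsPRadical.pow_mem (PerfectClosure.of A p) p x)
        (fun a ha => pNilradical_le_nilradical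
          (IsPRadical.ker_le (PerfectClosure.of A p) p ((RingHom.mem_ker).mpr ha)))
    exact (Groth.Agent.Lib.Helper20.UnivHomeo.isUnivHomeo_iff A (PerfectClosure A p)).mpr hUH
  · exact Groth.Agent.Lib.Helper20.UnivHomeo.isAWNRing_of_perfect p hp
      (CharP.cast_eq_zero (PerfectClosure A p) p) PerfectRing.bijective_frobenius

end Groth.Agent.S8993
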