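import Groth.Statements.S1695
import Mathlib
import Groth.Agent.Lib.Helper41.BlowUpExist
import Groth.Agent.Lib.Helper41.ReesChartIso

set_option autoImplicit false
universe u
open CategoryTheory CategoryTheory.Limits AlgebraicGeometry TopologicalSpace
open SDiv

namespace Groth.Agent.S1695

open Groth.Agent.Lib.Helper41.BlowUpAffine Groth.Agent.Lib.Helper41.BlowUpExist
  Groth.Agent.Lib.Helper41.ReesChart

/-- Let A be a ring, I an ideal, and b : X' ⟶ Spec A a blowing-up of Spec A along the ideal sheaf of I.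
Then every point of X' has an open neighbourhood which is isomorphic, over Spec A, to the spectrum
of an affine blow-up algebra A[I/a] for some a ∈ I. -/
theorem result (A : Type u) [CommRing A] (I : Ideal A) {X' : Scheme.{u}}
    (b : X' ⟶ Spec (CommRingCat.of A)) (hb : BlowUp.IsBlowUp b (Scheme.IdealSheafData.ofIdealTop (I.map (Scheme.ΓSpecIso (CommRingCat.of A)).inv.hom))) (x' : ↥X') :
    ∃ (a : A) (_ : a ∈ I) (V : X'.Opens) (e : (V : Scheme.{u}) ≅ Spec (CommRingCat.of ↥(BlowUp.affineAlgebra A I a))),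
      x' ∈ V ∧ e.hom ≫ Spec.map (CommRingCat.ofHom (algebraMap A ↥(BlowUp.affineAlgebra A I a))) = V.ι ≫ b := by
  classical
  let X : Scheme.{u} := Spec (CommRingCat.of A)
  let ε : A ≃+* Γ(X, ⊤) := (Scheme.ΓSpecIso (CommRingCat.of A)).symm.commRingCatIsoToRingEquiv
  have hε : (ε : A →+* Γ(X, ⊤)) = (Scheme.ΓSpecIso (CommRingCat.of A)).inv.hom := rfl
  obtain ⟨𝓘, h𝓘⟩ : ∃ 𝓘 : X.IdealSheafData, 𝓘 = Scheme.IdealSheafData.ofIdealTop
    (I.map (Scheme.ΓSpecIso (CommRingCat.of A)).inv.hom) := ⟨_, rfl⟩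
  rw [← h𝓘] at hb
  have hI₁ : topIdeal 𝓘 = I.map (ε : A →+* Γ(X, ⊤)) := by
    rw [h𝓘, hε]
    exact Scheme.IdealSheafData.equivOfIsAffine.right_inv _
  have hπ : BlowUp.IsBlowUp (π 𝓘) 𝓘 := isBlowUp_π 𝓘
  obtain ⟨c, hc, -⟩ := hπ.2 X' b hb.1
  haveI : IsIso c := isIso_of_isBlowUp 𝓘 b (π 𝓘) hb hπ c hc
  obtain ⟨a₁, ha₁, hx⟩ := exists_mem_range_chart 𝓘 (c x')
  obtain ⟨a, ha, rfl⟩ := (Ideal.mem_map_iff_of_surjective (ε : A →+* Γ(X, ⊤)) ε.surjective).mp
    (hI₁ ▸ ha₁)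
  obtain ⟨f, g, hfg, hgf, her⟩ := exists_ringHoms_affineAlgebra ε I a (topIdeal 𝓘) hI₁ ha₁
  refine ⟨a, ha, c ⁻¹ᵁ (chart 𝓘 (ε a) ha₁).opensRange, ?_, hx, ?_⟩
  · exact asIso (c ∣_ (chart 𝓘 (ε a) ha₁).opensRange) ≪≫
      (chart 𝓘 (ε a) ha₁).isoOpensRange.symm ≪≫
      { hom := Spec.map (CommRingCat.ofHom g)
        inv := Spec.map (CommRingCat.ofHom f)
        hom_inv_id := by
          rw [← Spec.map_comp, ← CommRingCat.ofHom_comp, hgf]
          exact Spec.map_id _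
        inv_hom_id := by
          rw [← Spec.map_comp, ← CommRingCat.ofHom_comp, hfg]
          exact Spec.map_id _ }
  · simp only [Iso.trans_hom, asIso_hom, Iso.symm_hom, Category.assoc]
    rw [← hc, ← morphismRestrict_ι_assoc]
    congr 1
    have hW : (chart 𝓘 (ε a) ha₁).opensRange.ι =
        (chart 𝓘 (ε a) ha₁).isoOpensRange.inv ≫ chart 𝓘 (ε a) ha₁ := by
      rw [Iso.eq_inv_comp]
      exact (chart 𝓘 (ε a) ha₁).isoOpensRange_hom_ι
    rw [hW, Category.assoc, chart_π]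
    congr 1
    rw [← Spec.map_comp, ← CommRingCat.ofHom_comp]
    have h1 : g.comp (algebraMap A ↥(BlowUp.affineAlgebra A I a)) =
        (ιB (topIdeal 𝓘) (ε a) ha₁).comp (ε : A →+* Γ(X, ⊤)) := by
      refine RingHom.ext fun r => ?_
      have h3 : g (f (ιB (topIdeal 𝓘) (ε a) ha₁ (ε r))) = ιB (topIdeal 𝓘) (ε a) ha₁ (ε r) :=
        congrArg (fun φ : _ →+* _ => φ (ιB (topIdeal 𝓘) (ε a) ha₁ (ε r))) hgf
      rw [her r] at h3
      exact h3
    rw [h1, CommRingCat.ofHom_comp, Spec.map_comp]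
    congr 1
    have h2 : X.isoSpec.inv = Spec.map (Scheme.ΓSpecIso (CommRingCat.of A)).inv := by
      rw [← cancel_epi X.isoSpec.hom, Iso.hom_inv_id, Scheme.isoSpec_hom]
      exact (toSpecΓ_SpecMap_ΓSpecIso_inv _).symm
    rw [h2]
    rfl

end Groth.Agent.S1695
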