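import Groth.Statements.S17391
import Mathlib
import Groth.Agent.Lib.Helper82.EffCartier

set_option autoImplicit false
universe u
open BlowUp

namespace Groth.Agent.S17391

section Aux
open CategoryTheory CategoryTheory.Limits AlgebraicGeometry

theorem core {R R' B C : Type u} [CommRing R] [CommRing R'] [CommRing B] [CommRing C]
    (ρ : R →+* R') (β : R →+* B) (σ : B →+* C) (τ : R' →+* C) (hcomm : σ.comp β = τ.comp ρ)
    (I₁ I₂ : Ideal R) (K : Ideal B) (e : R') (he : (I₁ ⊔ I₂).map ρ = Ideal.span {e})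
    (hincl : I₂.map β ≤ (I₁ * I₁).map β ⊔ K) (𝔭 : Ideal C) [𝔭.IsPrime]
    (hJ : ∀ j : R', j * e ∈ I₁.map ρ → τ j ∈ 𝔭) :
    ∃ w : C, w ∉ 𝔭 ∧ τ e * w ∈ K.map σ := by
  have he_mem : e ∈ I₁.map ρ ⊔ I₂.map ρ := by
    rw [← Ideal.map_sup, he]; exact Ideal.mem_span_singleton_self e
  obtain ⟨u, hu, v, hv, huv⟩ := Submodule.mem_sup.mp he_mem
  have hI₁le : I₁.map ρ ≤ Ideal.span {e} := by
    rw [← he]; exact Ideal.map_mono le_sup_left
  obtain ⟨j, hj⟩ := Ideal.mem_span_singleton'.mp (hI₁le hu)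
  have hτj : τ j ∈ 𝔭 := hJ j (hj ▸ hu)
  have hv' : v = (1 - j) * e := by rw [sub_mul, one_mul, hj]; exact (eq_sub_of_add_eq' huv)
  -- colon ideal
  let J' : Ideal R' :=
    { carrier := {j | j * e ∈ I₁.map ρ}
      add_mem' := fun {a b} ha hb => by
        change (a + b) * e ∈ I₁.map ρ; rw [add_mul]; exact add_mem ha hb
      zero_mem' := by change (0 : R') * e ∈ I₁.map ρ; rw [zero_mul]; exact zero_mem _
      smul_mem' := fun c a ha => by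
        change (c • a) * e ∈ I₁.map ρ; rw [smul_eq_mul, mul_assoc]; exact Ideal.mul_mem_left _ _ ha }
  have hJ'le : J'.map τ ≤ 𝔭 := by
    rw [Ideal.map_le_iff_le_comap]
    intro a ha
    exact hJ a ha
  have hI₁J' : I₁.map ρ ≤ J' * Ideal.span {e} := by
    intro a ha
    obtain ⟨b, hb⟩ := Ideal.mem_span_singleton'.mp (hI₁le ha)
    rw [← hb]
    exact Ideal.mul_mem_mul (show b ∈ J' from (hb ▸ ha : b * e ∈ I₁.map ρ))
      (Ideal.mem_span_singleton_self e)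
  have hτv : τ v ∈ (I₁ * I₁).map (σ.comp β) ⊔ K.map σ := by
    have h1 : τ v ∈ (I₂.map ρ).map τ := Ideal.mem_map_of_mem τ hv
    rw [Ideal.map_map, ← hcomm, ← Ideal.map_map] at h1
    have h2 := Ideal.map_mono (f := σ) hincl h1
    rw [Ideal.map_sup, Ideal.map_map] at h2
    exact h2
  obtain ⟨s, hs, κ, hκ, hsκ⟩ := Submodule.mem_sup.mp hτv
  have hs' : s ∈ 𝔭 * Ideal.span {τ e * τ e} := by
    have h1 : (I₁ * I₁).map (σ.comp β) ≤ 𝔭 * Ideal.span {τ e * τ e} := by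
      rw [hcomm, ← Ideal.map_map, Ideal.map_mul, Ideal.map_mul]
      have h2 : (I₁.map ρ).map τ ≤ J'.map τ * Ideal.span {τ e} := by
        refine (Ideal.map_mono hI₁J').trans ?_
        rw [Ideal.map_mul, Ideal.map_span, Set.image_singleton]
      refine (Ideal.mul_mono h2 h2).trans ?_
      rw [mul_mul_mul_comm, Ideal.span_singleton_mul_span_singleton]
      exact Ideal.mul_mono_left ((Ideal.mul_le_right).trans hJ'le)
    exact h1 hs
  obtain ⟨m, hm, hms⟩ := Ideal.mem_mul_span_singleton.mp hs'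
  refine ⟨1 - τ j - m * τ e, ?_, ?_⟩
  · intro hw
    have h1 : (1 : C) ∈ 𝔭 := by
      have : (1 : C) = (1 - τ j - m * τ e) + τ j + m * τ e := by ring
      rw [this]
      exact add_mem (add_mem hw hτj) (Ideal.mul_mem_right _ _ hm)
    exact (Ideal.IsPrime.ne_top inferInstance) ((Ideal.eq_top_iff_one _).mpr h1)
  · have h1 : τ e * (1 - τ j - m * τ e) = κ := by
      have h2 : τ v = (1 - τ j) * τ e := by rw [hv', map_mul, map_sub, map_one]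
      have h3 : s + κ = (1 - τ j) * τ e := hsκ.trans h2
      rw [← hms] at h3
      have : κ = (1 - τ j) * τ e - m * (τ e * τ e) := by rw [← h3]; ring
      rw [this]; ring
    rw [h1]; exact hκ



theorem asIdeal_primeIdealOf {X : Scheme.{u}} {U : X.Opens} (hU : IsAffineOpen U) (x : X)
    (hxU : x ∈ U) :
    (hU.primeIdealOf ⟨x, hxU⟩).asIdeal =
      Ideal.comap (X.presheaf.germ U x hxU).hom (IsLocalRing.maximalIdeal _) := by
  rw [hU.primeIdealOf_eq_map_closedPoint ⟨x, hxU⟩]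
  rfl

theorem not_mem_primeIdealOf_iff {X : Scheme.{u}} {U : X.Opens} (hU : IsAffineOpen U) (x : X)
    (hxU : x ∈ U) (a : Γ(X, U)) :
    a ∉ (hU.primeIdealOf ⟨x, hxU⟩).asIdeal ↔ x ∈ X.basicOpen a := by
  rw [Scheme.mem_basicOpen X a x hxU, asIdeal_primeIdealOf, Ideal.mem_comap,
    IsLocalRing.mem_maximalIdeal, mem_nonunits_iff, not_not]

theorem mem_support_iff_le {X : Scheme.{u}} (I : X.IdealSheafData) {U : X.Opens}
    (hU : IsAffineOpen U) (x : X) (hxU : x ∈ U) :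
    x ∈ I.support ↔ I.ideal ⟨U, hU⟩ ≤ (hU.primeIdealOf ⟨x, hxU⟩).asIdeal := by
  rw [Scheme.IdealSheafData.mem_support_iff_of_mem (U := ⟨U, hU⟩) hxU, Scheme.mem_zeroLocus_iff]
  constructor
  · intro h a ha
    by_contra hcon
    exact h a ha ((not_mem_primeIdealOf_iff hU x hxU a).mp hcon)
  · intro h a ha hcon
    exact ((not_mem_primeIdealOf_iff hU x hxU a).mpr hcon) (h ha)

theorem comap_primeIdealOf {X Y : Scheme.{u}} (f : X ⟶ Y) {U : Y.Opens} (hU : IsAffineOpen U)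
    {V : X.Opens} (hV : IsAffineOpen V) (hVU : V ≤ f ⁻¹ᵁ U) (x : X) (hx : x ∈ V) :
    (hV.primeIdealOf ⟨x, hx⟩).asIdeal.comap (f.appLE U V hVU).hom =
      (hU.primeIdealOf ⟨f x, hVU hx⟩).asIdeal :=
  congrArg PrimeSpectrum.asIdeal (IsAffineOpen.comap_primeIdealOf_appLE U hU V hV hVU hx)

theorem appLE_congr_hom {X Y : Scheme.{u}} {h₁ h₂ : X ⟶ Y} (e : h₁ = h₂) (W : Y.Opens)
    (N : X.Opens) (e₁ : N ≤ h₁ ⁻¹ᵁ W) (e₂ : N ≤ h₂ ⁻¹ᵁ W) :
    h₁.appLE W N e₁ = h₂.appLE W N e₂ := by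
  subst e; rfl

theorem main {X Y Z X' : Scheme.{u}} (p : Z ⟶ X) (U V : X.Opens) (hUV : U ≤ V)
    (f : Y ⟶ Z) (hY : Set.range (fun y => p (f y)) ⊆ (U : Set X))
    (𝓘₁ 𝓘₂ : X.IdealSheafData)
    (h₁ : (V : Set X) \ (U : Set X) ⊆ (𝓘₁.support : Set X)) (h₁' : Disjoint (𝓘₁.support : Set X) (U : Set X))
    (h₂ : (𝓘₂.support : Set X) ⊆ (𝓘₁.support : Set X) \ (V : Set X))
    (hincl : 𝓘₂.comap p ≤ (𝓘₁ * 𝓘₁).comap p ⊔ f.ker)
    (q : X' ⟶ X) (hq : BlowUp.IsBlowUp q (𝓘₁ ⊔ 𝓘₂)) :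
    Disjoint (closure (Set.range (fun y => (pullback.snd f (pullback.fst p q)) y)))
      ((fun z => (pullback.snd p q) z) ⁻¹'
        closure ((fun x' => q x') ⁻¹' ((V : Set X) \ (U : Set X)))) := by
  rw [Set.disjoint_left]
  intro z' hz'1 hz'2
  have hsq : pullback.fst p q ≫ p = pullback.snd p q ≫ q := pullback.condition
  set π₁ := pullback.fst p q with hπ₁
  set π₂ := pullback.snd p q with hπ₂
  set x' : X' := π₂ z' with hx'
  have hx'cl : x' ∈ closure ((fun x' => q x') ⁻¹' ((V : Set X) \ (U : Set X))) := hz'2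
  obtain ⟨W, hW, hxW, -⟩ :=
    exists_isAffineOpen_mem_and_subset (X := X) (U := ⊤) (x := q x') (by simp)
  obtain ⟨D₀, hx'D₀, e₀, -, hD₀⟩ := hq.1 x'
  obtain ⟨D, hD, hx'D, hDle⟩ := exists_isAffineOpen_mem_and_subset (X := X')
    (U := D₀.1 ⊓ q ⁻¹ᵁ W) (x := x') ⟨hx'D₀, hxW⟩
  have hDD₀ : D ≤ D₀.1 := hDle.trans inf_le_left
  have hDW : D ≤ q ⁻¹ᵁ W := hDle.trans inf_le_right
  set e : Γ(X', D) := X'.presheaf.map (homOfLE hDD₀).op e₀ with he_def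
  have hDe : ((𝓘₁ ⊔ 𝓘₂).comap q).ideal ⟨D, hD⟩ = Ideal.span {e} := by
    rw [← ((𝓘₁ ⊔ 𝓘₂).comap q).map_ideal (U := ⟨D, hD⟩) (V := D₀) hDD₀, hD₀, Ideal.map_span,
      Set.image_singleton]
    rfl
  have he : ((𝓘₁.ideal ⟨W, hW⟩) ⊔ (𝓘₂.ideal ⟨W, hW⟩)).map (q.appLE W D hDW).hom =
      Ideal.span {e} := by
    rw [← hDe, Groth.Agent.Lib.Helper82.ideal_comap_of_le q (𝓘₁ ⊔ 𝓘₂) D hD W hW hDW,
      Scheme.IdealSheafData.ideal_sup]
    rfl
  set z : Z := π₁ z' with hz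
  have hpz : p z = q x' := by
    have h1 : (π₁ ≫ p) z' = (π₂ ≫ q) z' := by rw [hsq]
    simpa using h1
  obtain ⟨Z₀, hZ₀, hzZ₀, hZ₀W⟩ := exists_isAffineOpen_mem_and_subset (X := Z)
    (U := p ⁻¹ᵁ W) (x := z) (by change p z ∈ W; rw [hpz]; exact hxW)
  obtain ⟨N, hN, hz'N, hNle⟩ := exists_isAffineOpen_mem_and_subset (X := pullback p q)
    (U := π₂ ⁻¹ᵁ D ⊓ π₁ ⁻¹ᵁ Z₀) (x := z') ⟨hx'D, hzZ₀⟩
  have hND : N ≤ π₂ ⁻¹ᵁ D := hNle.trans inf_le_left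
  have hNZ₀ : N ≤ π₁ ⁻¹ᵁ Z₀ := hNle.trans inf_le_right
  have hcomm : (π₁.appLE Z₀ N hNZ₀).hom.comp (p.appLE W Z₀ hZ₀W).hom =
      (π₂.appLE D N hND).hom.comp (q.appLE W D hDW).hom := by
    rw [← CommRingCat.hom_comp, ← CommRingCat.hom_comp, Scheme.Hom.appLE_comp_appLE,
      Scheme.Hom.appLE_comp_appLE]
    exact congrArg _ (appLE_congr_hom hsq W N _ _)
  have hincl' : (𝓘₂.ideal ⟨W, hW⟩).map (p.appLE W Z₀ hZ₀W).hom ≤
      ((𝓘₁.ideal ⟨W, hW⟩) * (𝓘₁.ideal ⟨W, hW⟩)).map (p.appLE W Z₀ hZ₀W).hom ⊔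
        f.ker.ideal ⟨Z₀, hZ₀⟩ := by
    have h1 := hincl ⟨Z₀, hZ₀⟩
    rw [Scheme.IdealSheafData.ideal_sup, Pi.sup_apply,
      Groth.Agent.Lib.Helper82.ideal_comap_of_le p 𝓘₂ Z₀ hZ₀ W hW hZ₀W,
      Groth.Agent.Lib.Helper82.ideal_comap_of_le p (𝓘₁ * 𝓘₁) Z₀ hZ₀ W hW hZ₀W,
      Scheme.IdealSheafData.ideal_mul] at h1
    exact h1
  haveI h𝔭 : (hN.primeIdealOf ⟨z', hz'N⟩).asIdeal.IsPrime := (hN.primeIdealOf ⟨z', hz'N⟩).isPrime
  have hJ : ∀ j : Γ(X', D), j * e ∈ (𝓘₁.ideal ⟨W, hW⟩).map (q.appLE W D hDW).hom →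
      (π₂.appLE D N hND).hom j ∈ (hN.primeIdealOf ⟨z', hz'N⟩).asIdeal := by
    intro j hj
    by_contra hcon
    have hj1 : j ∉ (hD.primeIdealOf ⟨x', hx'D⟩).asIdeal := by
      rw [← comap_primeIdealOf π₂ hD hN hND z' hz'N]
      exact hcon
    have hx'j : x' ∈ X'.basicOpen j := (not_mem_primeIdealOf_iff hD x' hx'D j).mp hj1
    obtain ⟨x'', hx''j, hx''VU⟩ := mem_closure_iff.mp hx'cl (X'.basicOpen j)
      (X'.basicOpen j).isOpen hx'j
    have hx''D : x'' ∈ D := X'.basicOpen_le j hx''j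
    have hyW : q x'' ∈ W := hDW hx''D
    haveI hP'' : (hD.primeIdealOf ⟨x'', hx''D⟩).asIdeal.IsPrime :=
      (hD.primeIdealOf ⟨x'', hx''D⟩).isPrime
    have hcm := comap_primeIdealOf q hW hD hDW x'' hx''D
    have hI₁ : 𝓘₁.ideal ⟨W, hW⟩ ≤ (hW.primeIdealOf ⟨q x'', hyW⟩).asIdeal :=
      (mem_support_iff_le 𝓘₁ hW (q x'') hyW).mp (h₁ hx''VU)
    have hI₂ : ¬ 𝓘₂.ideal ⟨W, hW⟩ ≤ (hW.primeIdealOf ⟨q x'', hyW⟩).asIdeal := by
      intro hle
      have := (mem_support_iff_le 𝓘₂ hW (q x'') hyW).mpr hle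
      exact (h₂ this).2 hx''VU.1
    obtain ⟨i₂, hi₂, hi₂'⟩ := SetLike.not_le_iff_exists.mp hI₂
    have h3 : (q.appLE W D hDW).hom i₂ ∈ Ideal.span {e} := by
      rw [← he]
      exact Ideal.mem_map_of_mem _ (Ideal.mem_sup_right hi₂)
    obtain ⟨c, hc⟩ := Ideal.mem_span_singleton'.mp h3
    have h4 : (q.appLE W D hDW).hom i₂ ∉ (hD.primeIdealOf ⟨x'', hx''D⟩).asIdeal := by
      intro h5
      apply hi₂'
      rw [← hcm]
      exact h5
    have he'' : e ∉ (hD.primeIdealOf ⟨x'', hx''D⟩).asIdeal := by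
      intro h5
      exact h4 (hc ▸ Ideal.mul_mem_left _ c h5)
    have hj'' : j ∉ (hD.primeIdealOf ⟨x'', hx''D⟩).asIdeal :=
      (not_mem_primeIdealOf_iff hD x'' hx''D j).mpr hx''j
    have h6 : (𝓘₁.ideal ⟨W, hW⟩).map (q.appLE W D hDW).hom ≤
        (hD.primeIdealOf ⟨x'', hx''D⟩).asIdeal := by
      rw [Ideal.map_le_iff_le_comap, hcm]
      exact hI₁
    rcases hP''.mem_or_mem (h6 hj) with h7 | h7
    · exact hj'' h7
    · exact he'' h7
  obtain ⟨w, hw, hwK⟩ := core (q.appLE W D hDW).hom (p.appLE W Z₀ hZ₀W).hom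
    (π₁.appLE Z₀ N hNZ₀).hom (π₂.appLE D N hND).hom hcomm (𝓘₁.ideal ⟨W, hW⟩) (𝓘₂.ideal ⟨W, hW⟩)
    (f.ker.ideal ⟨Z₀, hZ₀⟩) e he hincl' (hN.primeIdealOf ⟨z', hz'N⟩).asIdeal hJ
  have hz'w : z' ∈ (pullback p q).basicOpen w := (not_mem_primeIdealOf_iff hN z' hz'N w).mp hw
  obtain ⟨y', hy'w, y₁, hy₁⟩ := mem_closure_iff.mp hz'1 ((pullback p q).basicOpen w)
    ((pullback p q).basicOpen w).isOpen hz'w
  have hy'N : y' ∈ N := (pullback p q).basicOpen_le w hy'w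
  haveI hP' : (hN.primeIdealOf ⟨y', hy'N⟩).asIdeal.IsPrime := (hN.primeIdealOf ⟨y', hy'N⟩).isPrime
  have hw' : w ∉ (hN.primeIdealOf ⟨y', hy'N⟩).asIdeal :=
    (not_mem_primeIdealOf_iff hN y' hy'N w).mpr hy'w
  -- the point of Y
  set y₀ : Y := (pullback.fst f π₁) y₁ with hy₀
  have hfy₀ : f y₀ = π₁ y' := by
    have h1 : (pullback.fst f π₁ ≫ f) y₁ = (pullback.snd f π₁ ≫ π₁) y₁ := by
      rw [pullback.condition]
    rw [← hy₁]
    simpa using h1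
  have hπ₁y'Z₀ : π₁ y' ∈ Z₀ := hNZ₀ hy'N
  have hK : f.ker.ideal ⟨Z₀, hZ₀⟩ ≤ (hZ₀.primeIdealOf ⟨π₁ y', hπ₁y'Z₀⟩).asIdeal := by
    apply (mem_support_iff_le f.ker hZ₀ (π₁ y') hπ₁y'Z₀).mp
    apply f.range_subset_ker_support
    exact ⟨y₀, hfy₀⟩
  have hKσ : (f.ker.ideal ⟨Z₀, hZ₀⟩).map (π₁.appLE Z₀ N hNZ₀).hom ≤
      (hN.primeIdealOf ⟨y', hy'N⟩).asIdeal := by
    rw [Ideal.map_le_iff_le_comap, comap_primeIdealOf π₁ hZ₀ hN hNZ₀ y' hy'N]
    exact hK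
  have hτe : (π₂.appLE D N hND).hom e ∈ (hN.primeIdealOf ⟨y', hy'N⟩).asIdeal := by
    rcases hP'.mem_or_mem (hKσ hwK) with h | h
    · exact h
    · exact absurd h hw'
  have hπ₂y'D : π₂ y' ∈ D := hND hy'N
  have heP : e ∈ (hD.primeIdealOf ⟨π₂ y', hπ₂y'D⟩).asIdeal := by
    rw [← comap_primeIdealOf π₂ hD hN hND y' hy'N]
    exact hτe
  have hqW : q (π₂ y') ∈ W := hDW hπ₂y'D
  have hqU : q (π₂ y') ∈ U := by
    have h1 : (π₁ ≫ p) y' = (π₂ ≫ q) y' := by rw [hsq]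
    have h2 : p (π₁ y') = q (π₂ y') := by simpa using h1
    rw [← h2, ← hfy₀]
    exact hY ⟨y₀, rfl⟩
  have hnot : ¬ 𝓘₁.ideal ⟨W, hW⟩ ≤ (hW.primeIdealOf ⟨q (π₂ y'), hqW⟩).asIdeal := by
    intro hle
    have := (mem_support_iff_le 𝓘₁ hW _ hqW).mpr hle
    exact Set.disjoint_left.mp h₁' this hqU
  obtain ⟨i₁, hi₁, hi₁'⟩ := SetLike.not_le_iff_exists.mp hnot
  have h3 : (q.appLE W D hDW).hom i₁ ∈ Ideal.span {e} := by
    rw [← he]
    exact Ideal.mem_map_of_mem _ (Ideal.mem_sup_left hi₁)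
  obtain ⟨c, hc⟩ := Ideal.mem_span_singleton'.mp h3
  apply hi₁'
  rw [← comap_primeIdealOf q hW hD hDW (π₂ y') hπ₂y'D]
  change (q.appLE W D hDW).hom i₁ ∈ (hD.primeIdealOf ⟨π₂ y', hπ₂y'D⟩).asIdeal
  rw [← hc]
  exact Ideal.mul_mem_left _ c heP


end Aux

open AlgebraicGeometry CategoryTheory Limits in
/-- Let X and Z be schemes, p : Z → X a morphism, U ⊆ V ⊆ X open subschemes, and f : Y → Z a
quasi-compact immersion whose composite with p lands in U. Let I₁ be a quasi-coherent ideal on X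
whose support contains V ∖ U and is disjoint from U, and I₂ a quasi-coherent ideal whose support
lies in supp(I₁) ∖ V. Assume that the closed subscheme p⁻¹(V(I₁²)) ∩ Ȳ of Z, where Ȳ is the
scheme-theoretic image of f, is contained in p⁻¹(V(I₂)) as a closed subscheme: the inverse image
ideal of I₂ on Z lies in the sum of the inverse image ideal of I₁² and the kernel ideal of f. Then
for every blowing up q : X' → X of X in I₁ + I₂, writing Z' = Z ×_X X' → X' and Y' = Y ×_Z Z' → Z'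
for the base changes, the closure in Z' of the image of Y' is disjoint from the preimage in Z' of
the closure in X' of q⁻¹(V ∖ U). (The blowing up is an isomorphism over V, since the support of I₁ +
I₂ is that of I₂ and lies in X ∖ V; the point is that the closure of q⁻¹(V ∖ U) in X', which may
reach over X ∖ V, still misses the closure of Y'.) -/
theorem result
    {X Y Z X' : Scheme.{u}} (p : Z ⟶ X) (U V : X.Opens) (hUV : U ≤ V)
    (f : Y ⟶ Z) [IsImmersion f] [QuasiCompact f] (hY : Set.range (fun y => p (f y)) ⊆ (U : Set X))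
    (𝓘₁ 𝓘₂ : X.IdealSheafData)
    (h₁ : (V : Set X) \ (U : Set X) ⊆ (𝓘₁.support : Set X)) (h₁' : Disjoint (𝓘₁.support : Set X) (U : Set X))
    (h₂ : (𝓘₂.support : Set X) ⊆ (𝓘₁.support : Set X) \ (V : Set X))
    (hincl : 𝓘₂.comap p ≤ (𝓘₁ * 𝓘₁).comap p ⊔ f.ker)
    (q : X' ⟶ X) (hq : BlowUp.IsBlowUp q (𝓘₁ ⊔ 𝓘₂)) :
    Disjoint (closure (Set.range (fun y => (pullback.snd f (pullback.fst p q)) y)))
      ((fun z => (pullback.snd p q) z) ⁻¹'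
        closure ((fun x' => q x') ⁻¹' ((V : Set X) \ (U : Set X)))) := by
  exact main p U V hUV f hY 𝓘₁ 𝓘₂ h₁ h₁' h₂ hincl q hq

end Groth.Agent.S17391
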