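import Groth.Statements.S17392
import Mathlib
import Groth.Agent.S17391
import Groth.Agent.Lib.Helper40.FTIdeal

set_option autoImplicit false
universe u
open BlowUp

namespace Groth.Agent.S17392

section Aux
open AlgebraicGeometry CategoryTheory Opposite TopologicalSpace Limits

section FT
set_option backward.isDefEq.respectTransparency.types false

open Groth.Agent.Lib.Lead.QCohAff Groth.Agent.Lib.Helper22.IdealModAff Groth.Agent.Lib.Lead.Inv
  Groth.Agent.Lib.Helper40.SSh Groth.Agent.S4408 Groth.Agent.Lib.Helper40.FTIdeal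

theorem ft1 {X : Scheme.{u}} [CompactSpace X] [QuasiSeparatedSpace X] (M : X.IdealSheafData)
    (W : X.Opens) (hW : IsAffineOpen W) (h1 : (1 : Γ(X, W)) ∈ M.ideal ⟨W, hW⟩) :
    ∃ G : X.IdealSheafData, BlowUp.IsFiniteTypeIdeal G ∧ G ≤ M ∧
      (1 : Γ(X, W)) ∈ G.ideal ⟨W, hW⟩ := by
  obtain ⟨t0, ht0⟩ := (mem_ideal_iff M ⟨W, hW⟩ 1).mp h1
  obtain ⟨G, j, hmono, hq, hft, hmem⟩ := exists_ft_sub_of_fg_qcqs (ClSub.idealMod M) hW
    (Submodule.span _ {t0}) (Submodule.fg_span_singleton _)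
  obtain ⟨g, hg⟩ := hmem t0 (Submodule.mem_span_singleton_self _)
  haveI : G.IsQuasicoherent := hq
  have h1 : (1 : Γ(X, W)) ∈ (ofSub M j).ideal ⟨W, hW⟩ := ⟨g, by rw [ii_apply, hg, ht0]⟩
  exact ⟨ofSub M j, isFiniteTypeIdeal_ofSub M j hft, ofSub_le M j, h1⟩

end FT

theorem isFT_sup {X : Scheme.{u}} (I J : X.IdealSheafData) (hI : BlowUp.IsFiniteTypeIdeal I)
    (hJ : BlowUp.IsFiniteTypeIdeal J) : BlowUp.IsFiniteTypeIdeal (I ⊔ J) := by
  intro V
  rw [Scheme.IdealSheafData.ideal_sup]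
  exact Submodule.FG.sup (hI V) (hJ V)

theorem isFT_bot {X : Scheme.{u}} : BlowUp.IsFiniteTypeIdeal (⊥ : X.IdealSheafData) := by
  intro V
  rw [Scheme.IdealSheafData.ideal_bot]
  exact Submodule.fg_bot

theorem ft2 {X : Scheme.{u}} [CompactSpace X] [QuasiSeparatedSpace X] (M : X.IdealSheafData)
    (C : Set X) (hC : IsClosed C) (hCc : IsCompact Cᶜ) (hM : (M.support : Set X) ⊆ C) :
    ∃ G : X.IdealSheafData, BlowUp.IsFiniteTypeIdeal G ∧ G ≤ M ∧ (G.support : Set X) ⊆ C := by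
  classical
  -- cover the complement by affine opens
  have hcov : ∀ x : X, x ∈ Cᶜ → ∃ W : X.Opens, IsAffineOpen W ∧ x ∈ W ∧ (W : Set X) ⊆ Cᶜ := by
    intro x hx
    obtain ⟨W, hW, hxW, hWle⟩ := exists_isAffineOpen_mem_and_subset (X := X)
      (U := ⟨Cᶜ, hC.isOpen_compl⟩) (x := x) hx
    exact ⟨W, hW, hxW, hWle⟩
  choose W hW hxW hWC using hcov
  obtain ⟨t, ht⟩ := hCc.elim_finite_subcover (ι := {x : X // x ∈ Cᶜ})
    (fun x => ((W x.1 x.2 : X.Opens) : Set X))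
    (fun x => (W x.1 x.2).isOpen) (by
      intro x hx
      exact Set.mem_iUnion.mpr ⟨⟨x, hx⟩, hxW x hx⟩)
  -- for each, M.ideal = ⊤
  have hone : ∀ x : {x : X // x ∈ Cᶜ}, (1 : Γ(X, W x.1 x.2)) ∈ M.ideal ⟨W x.1 x.2, hW x.1 x.2⟩ := by
    intro x
    have h1 : M.ideal ⟨W x.1 x.2, hW x.1 x.2⟩ = ⊤ := by
      have h2 := M.coe_support_inter ⟨W x.1 x.2, hW x.1 x.2⟩
      have h3 : (M.support : Set X) ∩ (W x.1 x.2 : Set X) = ∅ := by
        rw [Set.eq_empty_iff_forall_notMem]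
        rintro y ⟨hy1, hy2⟩
        exact hWC x.1 x.2 hy2 (hM hy1)
      have h4 := (hW x.1 x.2).fromSpec_image_zeroLocus (M.ideal ⟨W x.1 x.2, hW x.1 x.2⟩ : Set _)
      rw [← h2, h3, Set.image_eq_empty] at h4
      exact PrimeSpectrum.zeroLocus_empty_iff_eq_top.mp h4
    rw [h1]; trivial
  choose G hGft hGle hG1 using fun x => ft1 M (W x.1 x.2) (hW x.1 x.2) (hone x)
  refine ⟨t.sup G, ?_, ?_, ?_⟩
  · refine Finset.sup_induction (p := BlowUp.IsFiniteTypeIdeal) isFT_bot ?_ (fun x _ => hGft x)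
    intro a ha b hb
    exact isFT_sup a b ha hb
  · exact Finset.sup_le (fun x _ => hGle x)
  · intro y hy
    by_contra hyC
    obtain ⟨x, hx, hyW⟩ := Set.mem_iUnion₂.mp (ht hyC)
    have hle : G x ≤ t.sup G := Finset.le_sup hx
    have hy' : y ∈ ((G x).support : Set X) := Scheme.IdealSheafData.support_antitone hle hy
    have h2 := (Scheme.IdealSheafData.mem_support_iff_of_mem (I := G x)
      (U := ⟨W x.1 x.2, hW x.1 x.2⟩) hyW).mp hy'
    rw [Scheme.mem_zeroLocus_iff] at h2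
    have h3 := h2 1 (hG1 x)
    rw [Scheme.basicOpen_of_isUnit _ isUnit_one] at h3
    exact h3 hyW



end Aux

open AlgebraicGeometry CategoryTheory Limits in
/-- Let X₁ and X₂ be quasi-compact quasi-separated schemes, q : X₂ → X₁ a quasi-compact separated
morphism, V₁ ⊆ X₁ a quasi-compact open subscheme and U ⊆ q⁻¹(V₁) an open subscheme of X₂ on which q
restricts to an open immersion (so U is identified with an open of V₁). Let Z₁ ⊆ X₁ be a closed
subset whose open complement is quasi-compact, put Y₁ = Z₁ ∩ V₁, and let Z₂ ⊆ X₂ be a closed subset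
whose open complement is also quasi-compact, with q⁻¹(Y₁) ⊆ Z₂. Then there is a quasi-coherent ideal
E of finite type on X₁ with support contained in Z₁ ∖ V₁ (so that blowing up E is V₁-admissible)
such that, for every blowing up c : X₁' → X₁ of X₁ in E with base change q' : X₂' = X₂ ×_{X₁} X₁' →
X₁' and c₂ : X₂' → X₂, one has q'⁻¹(closure of c⁻¹(Y₁)) ∩ closure(c₂⁻¹(U)) ⊆ c₂⁻¹(Z₂) as subsets of
X₂'. -/
theorem result
    {X₁ X₂ : Scheme.{u}} [CompactSpace X₁] [QuasiSeparatedSpace X₁] [CompactSpace X₂] [QuasiSeparatedSpace X₂]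
    (q : X₂ ⟶ X₁) [QuasiCompact q] [IsSeparated q]
    (V₁ : X₁.Opens) (hV₁ : IsCompact (V₁ : Set X₁))
    (U : X₂.Opens) (hU : U ≤ q ⁻¹ᵁ V₁) [IsOpenImmersion (U.ι ≫ q)]
    (Z₁ : Set X₁) (hZ₁ : IsClosed Z₁) (hZ₁c : IsCompact Z₁ᶜ)
    (Z₂ : Set X₂) (hZ₂ : IsClosed Z₂) (hZ₂c : IsCompact Z₂ᶜ)
    (hYZ : (fun x => q x) ⁻¹' (Z₁ ∩ (V₁ : Set X₁)) ⊆ Z₂) :
    ∃ 𝓔 : X₁.IdealSheafData, BlowUp.IsFiniteTypeIdeal 𝓔 ∧ (𝓔.support : Set X₁) ⊆ Z₁ \ (V₁ : Set X₁) ∧
      ∀ (X₁' : Scheme.{u}) (c : X₁' ⟶ X₁), BlowUp.IsBlowUp c 𝓔 →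
        (fun z => (pullback.snd q c) z) ⁻¹' closure ((fun x => c x) ⁻¹' (Z₁ ∩ (V₁ : Set X₁))) ∩
            closure ((fun z => (pullback.fst q c) z) ⁻¹' (U : Set X₂)) ⊆
          (fun z => (pullback.fst q c) z) ⁻¹' Z₂ := by
  classical
  -- the first ideal: finite type with support `Z₁`
  obtain ⟨I₁, hI₁ft, hI₁le, hI₁supp⟩ := ft2 (Scheme.IdealSheafData.vanishingIdeal ⟨Z₁, hZ₁⟩) Z₁ hZ₁
    hZ₁c (by rw [Scheme.IdealSheafData.coe_support_vanishingIdeal]; intro x hx; exact hx)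
  have hI₁ : (I₁.support : Set X₁) = Z₁ := by
    refine subset_antisymm hI₁supp ?_
    have h1 := Scheme.IdealSheafData.support_antitone hI₁le
    have h2 : (Z₁ : Set X₁) = ((Scheme.IdealSheafData.vanishingIdeal ⟨Z₁, hZ₁⟩).support : Set X₁) := by
      rw [Scheme.IdealSheafData.coe_support_vanishingIdeal]; rfl
    rw [h2]
    exact SetLike.coe_subset_coe.mpr h1
  let O : X₂.Opens := ⟨Z₂ᶜ, hZ₂.isOpen_compl⟩
  haveI : CompactSpace O.toScheme := isCompact_iff_compactSpace.mp hZ₂c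
  let p : O.toScheme ⟶ X₁ := O.ι ≫ q
  let Y : O.toScheme.Opens := O.ι ⁻¹ᵁ U
  let f : Y.toScheme ⟶ O.toScheme := Y.ι
  let U₀ : X₁.Opens := V₁ ⊓ ⟨Z₁ᶜ, hZ₁.isOpen_compl⟩
  have hO : ∀ w : O.toScheme, (O.ι w : X₂) ∉ Z₂ := by
    intro w
    have h1 : (O.ι w) ∈ Set.range O.ι := ⟨w, rfl⟩
    rw [Scheme.Opens.range_ι] at h1
    exact h1
  have hpw : ∀ w : O.toScheme, p w ∈ Z₁ → p w ∉ (V₁ : Set X₁) := by
    intro w h1 h2
    exact hO w (hYZ (show q (O.ι w) ∈ Z₁ ∩ (V₁ : Set X₁) from ⟨h1, h2⟩))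
  let M : X₁.IdealSheafData := ((I₁ * I₁).comap p ⊔ f.ker).map p
  have hM : (M.support : Set X₁) ⊆ Z₁ \ (V₁ : Set X₁) := by
    have h1 : ((I₁ * I₁).comap p).map p ≤ M :=
      (Scheme.IdealSheafData.map_gc p).monotone_u le_sup_left
    refine (SetLike.coe_subset_coe.mpr (Scheme.IdealSheafData.support_antitone h1)).trans ?_
    rw [Scheme.IdealSheafData.support_map, TopologicalSpace.Closeds.coe_closure]
    refine closure_minimal ?_ (hZ₁.sdiff V₁.isOpen)
    rintro _ ⟨w, hw, rfl⟩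
    rw [Scheme.IdealSheafData.support_comap, Scheme.IdealSheafData.support_mul] at hw
    have hw' : p w ∈ (I₁.support : Set X₁) := by
      rcases hw with h | h <;> exact h
    rw [hI₁] at hw'
    exact ⟨hw', hpw w hw'⟩
  have hcpt : IsCompact (Z₁ \ (V₁ : Set X₁))ᶜ := by
    rw [Set.compl_sdiff]
    exact hV₁.union hZ₁c
  obtain ⟨I₂, hI₂ft, hI₂le, hI₂supp⟩ := ft2 M (Z₁ \ (V₁ : Set X₁)) (hZ₁.sdiff V₁.isOpen) hcpt hM
  refine ⟨I₁ ⊔ I₂, isFT_sup I₁ I₂ hI₁ft hI₂ft, ?_, ?_⟩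
  · rw [Scheme.IdealSheafData.support_sup]
    exact Set.inter_subset_right.trans hI₂supp
  · intro X₁' c hc z' hz'
    obtain ⟨hz1, hz2⟩ := hz'
    by_contra hzZ₂
    have hY : Set.range (fun y => p (f y)) ⊆ (U₀ : Set X₁) := by
      rintro _ ⟨y, rfl⟩
      have hyU : (O.ι (f y) : X₂) ∈ U := y.2
      have hV : p (f y) ∈ (V₁ : Set X₁) := hU hyU
      exact ⟨hV, fun hZ => hpw (f y) hZ hV⟩
    have hdiff : (V₁ : Set X₁) \ (U₀ : Set X₁) = Z₁ ∩ (V₁ : Set X₁) := by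
      ext x
      constructor
      · rintro ⟨h1, h2⟩
        refine ⟨?_, h1⟩
        by_contra h3
        exact h2 ⟨h1, h3⟩
      · rintro ⟨h1, h2⟩
        exact ⟨h2, fun h3 => h3.2 h1⟩
    have hdisj := Groth.Agent.S17391.main p U₀ V₁ inf_le_left f hY I₁ I₂
      (by rw [hdiff, hI₁]; exact Set.inter_subset_left)
      (by
        rw [hI₁, Set.disjoint_left]
        intro x hx hx'
        exact hx'.2 hx)
      (by rw [hI₁]; exact hI₂supp)
      (Scheme.IdealSheafData.le_map_iff_comap_le.mp hI₂le) c hc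
    rw [hdiff] at hdisj
    let ι' : pullback p c ⟶ pullback q c :=
      pullback.map p c q c O.ι (𝟙 _) (𝟙 _) (by simp [p]) (by simp)
    have hrange : z' ∈ Set.range ι' := by
      rw [Scheme.Pullback.range_map]
      refine ⟨?_, ⟨(pullback.snd q c) z', rfl⟩⟩
      change (pullback.fst q c) z' ∈ Set.range O.ι
      rw [Scheme.Opens.range_ι]
      exact hzZ₂
    obtain ⟨w', hw'⟩ := hrange
    have hfst : ι' ≫ pullback.fst q c = pullback.fst p c ≫ O.ι := by
      dsimp only [ι', pullback.map]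
      exact pullback.lift_fst _ _ _
    have hsnd : ι' ≫ pullback.snd q c = pullback.snd p c := by
      dsimp only [ι', pullback.map]
      rw [pullback.lift_snd, Category.comp_id]
    rw [Set.disjoint_left] at hdisj
    refine hdisj (a := w') ?_ ?_
    · rw [show Set.range (fun y => (pullback.snd f (pullback.fst p c)) y) =
        Set.range (pullback.snd f (pullback.fst p c)) from rfl, Scheme.Pullback.range_snd]
      have hopen : IsOpenMap ι' := ι'.isOpenEmbedding.isOpenMap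
      have h1 : w' ∈ ι' ⁻¹' closure ((fun z => (pullback.fst q c) z) ⁻¹' (U : Set X₂)) := by
        rw [Set.mem_preimage, hw']; exact hz2
      rw [hopen.preimage_closure_eq_closure_preimage ι'.continuous] at h1
      convert h1 using 2
      ext w
      simp only [Set.mem_preimage]
      have h2 : (pullback.fst q c) (ι' w) = O.ι ((pullback.fst p c) w) := by
        rw [← Scheme.Hom.comp_apply, hfst, Scheme.Hom.comp_apply]
      rw [h2]
      change (pullback.fst p c) w ∈ Set.range Y.ι ↔ _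
      rw [Scheme.Opens.range_ι]
      rfl
    · rw [Set.mem_preimage]
      have h2 : (pullback.snd p c) w' = (pullback.snd q c) z' := by
        rw [← hw', ← Scheme.Hom.comp_apply, hsnd]
      rw [h2]
      exact hz1

end Groth.Agent.S17392
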