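import Groth.Statements.S8857
import Mathlib
import Groth.Agent.S17392

set_option autoImplicit false
universe u
open CategoryTheory CategoryTheory.Limits AlgebraicGeometry TopologicalSpace
open SDiv

namespace Groth.Agent.S8857

section Aux
open AlgebraicGeometry CategoryTheory Opposite TopologicalSpace Limits

section FT
set_option backward.isDefEq.respectTransparency.types false

open Groth.Agent.Lib.Lead.QCohAff Groth.Agent.Lib.Helper22.IdealModAff Groth.Agent.Lib.Lead.Inv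
  Groth.Agent.Lib.Helper40.SSh Groth.Agent.S4408 Groth.Agent.Lib.Helper40.FTIdeal

theorem ft1' {X : Scheme.{u}} [CompactSpace X] [QuasiSeparatedSpace X] (M : X.IdealSheafData)
    (W : X.Opens) (hW : IsAffineOpen W) (hfg : (M.ideal ⟨W, hW⟩).FG) :
    ∃ G : X.IdealSheafData, BlowUp.IsFiniteTypeIdeal G ∧ G ≤ M ∧
      G.ideal ⟨W, hW⟩ = M.ideal ⟨W, hW⟩ := by
  classical
  obtain ⟨S, hS⟩ := hfg
  have hSmem : ∀ s ∈ S, ∃ t : Γ(ClSub.idealMod M, W), incl M W t = s := by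
    intro s hs
    refine (mem_ideal_iff M ⟨W, hW⟩ s).mp ?_
    rw [← hS]
    exact Submodule.subset_span hs
  choose! t ht using hSmem
  obtain ⟨G, j, hmono, hq, hft, hmem⟩ := exists_ft_sub_of_fg_qcqs (ClSub.idealMod M) hW
    (Submodule.span _ (t '' (S : Set Γ(X, W)))) (Submodule.fg_span (S.finite_toSet.image t))
  haveI : G.IsQuasicoherent := hq
  refine ⟨ofSub M j, isFiniteTypeIdeal_ofSub M j hft, ofSub_le M j, ?_⟩
  refine le_antisymm (ofSub_le M j ⟨W, hW⟩) ?_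
  rw [← hS]
  refine Ideal.span_le.mpr ?_
  intro s hs
  obtain ⟨g, hg⟩ := hmem (t s) (Submodule.subset_span ⟨s, hs, rfl⟩)
  exact ⟨g, by rw [ii_apply, hg, ht s hs]⟩

end FT

theorem isFT_finset_sup {X : Scheme.{u}} {ι : Type*} (t : Finset ι) (G : ι → X.IdealSheafData)
    (hG : ∀ i ∈ t, BlowUp.IsFiniteTypeIdeal (G i)) : BlowUp.IsFiniteTypeIdeal (t.sup G) := by
  classical
  refine Finset.sup_induction (p := BlowUp.IsFiniteTypeIdeal) Groth.Agent.S17392.isFT_bot ?_ hG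
  intro a ha b hb
  exact Groth.Agent.S17392.isFT_sup a b ha hb

theorem isBlowUp_of_isPullback {P X₁ X₂ X₂' : Scheme.{u}} (g : X₁ ⟶ X₂) [Flat g]
    (I : X₂.IdealSheafData) (b : X₂' ⟶ X₂) (hb : BlowUp.IsBlowUp b I)
    (b' : P ⟶ X₁) (g' : P ⟶ X₂') (h : IsPullback b' g' g b) :
    BlowUp.IsBlowUp b' (I.comap g) := by
  haveI : Flat g' := MorphismProperty.of_isPullback (P := @Flat) h inferInstance
  refine ⟨?_, ?_⟩
  · rw [← Scheme.IdealSheafData.comap_comp, h.w, Scheme.IdealSheafData.comap_comp]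
    exact Groth.Agent.Lib.Helper82.isEffCartierIdeal_comap_of_flat _ _ hb.1
  · intro Y k hY
    rw [← Scheme.IdealSheafData.comap_comp] at hY
    obtain ⟨t, ht, htu⟩ := hb.2 Y (k ≫ g) hY
    refine ⟨h.lift k t ht.symm, h.lift_fst _ _ _, ?_⟩
    intro l hl
    apply h.hom_ext
    · rw [h.lift_fst]; exact hl
    · rw [h.lift_snd]
      apply htu
      show (l ≫ g') ≫ b = k ≫ g
      rw [Category.assoc, ← h.w, ← Category.assoc, hl]



end Aux

/-- Let X be a quasi-compact and quasi-separated scheme, U, V ⊆ X quasi-compact open subschemes and 𝓘 a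
quasi-coherent ideal sheaf on V which is of finite type with support disjoint from U ∩ V (a blowing
up of V in 𝓘 is a (U ∩ V)-admissible blow-up). Then there is a quasi-coherent ideal sheaf 𝓙 on X, of
finite type with support disjoint from U, whose restriction to V is 𝓘; and every blowing up of X in
𝓙 restricts over V to a blowing up of V in 𝓘 (the U-admissible blow-up of X extends the given one of
V). -/
theorem result (X : Scheme.{u}) [CompactSpace ↥X] [QuasiSeparatedSpace ↥X]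
    (U V : X.Opens) (hU : IsCompact (U : Set ↥X)) (hV : IsCompact (V : Set ↥X))
    (𝓘 : (V : Scheme.{u}).IdealSheafData) (h𝓘 : BlowUp.IsAdmissibleFor (V.ι ⁻¹ᵁ U) 𝓘) :
    ∃ 𝓙 : X.IdealSheafData, BlowUp.IsAdmissibleFor U 𝓙 ∧ 𝓙.comap V.ι = 𝓘 ∧
      ∀ (X' : Scheme.{u}) (c : X' ⟶ X), BlowUp.IsBlowUp c 𝓙 → BlowUp.IsBlowUp (c ∣_ V) 𝓘 := by
  classical
  obtain ⟨h𝓘ft, h𝓘supp⟩ := h𝓘
  haveI : CompactSpace (V : Scheme.{u}) := isCompact_iff_compactSpace.mp hV
  let M : X.IdealSheafData := 𝓘.map V.ι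
  -- support of `M` misses `U`
  have hMsupp : (M.support : Set X) ⊆ (U : Set X)ᶜ := by
    rw [Scheme.IdealSheafData.support_map, TopologicalSpace.Closeds.coe_closure]
    refine closure_minimal ?_ U.isOpen.isClosed_compl
    rintro _ ⟨v, hv, rfl⟩ hvU
    exact Set.disjoint_left.mp h𝓘supp hv hvU
  obtain ⟨G₀, hG₀ft, hG₀le, hG₀supp⟩ := Groth.Agent.S17392.ft2 M (U : Set X)ᶜ
    U.isOpen.isClosed_compl (by rw [compl_compl]; exact hU) hMsupp
  -- finite affine cover of `V`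
  have hcov : ∀ x : X, x ∈ (V : Set X) → ∃ W : X.Opens, IsAffineOpen W ∧ x ∈ W ∧ W ≤ V := by
    intro x hx
    obtain ⟨W, hW, hxW, hWle⟩ := exists_isAffineOpen_mem_and_subset (X := X) (U := V) (x := x) hx
    exact ⟨W, hW, hxW, hWle⟩
  choose W hW hxW hWV using hcov
  obtain ⟨t, ht⟩ := hV.elim_finite_subcover (ι := {x : X // x ∈ (V : Set X)})
    (fun x => ((W x.1 x.2 : X.Opens) : Set X))
    (fun x => (W x.1 x.2).isOpen) (by
      intro x hx
      exact Set.mem_iUnion.mpr ⟨⟨x, hx⟩, hxW x hx⟩)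
  -- ideals of `M` on affine opens inside `V`
  have hWr : ∀ x : {x : X // x ∈ (V : Set X)}, W x.1 x.2 ≤ V.ι.opensRange := by
    intro x
    rw [Scheme.Opens.opensRange_ι]
    exact hWV x.1 x.2
  have hWaff : ∀ x : {x : X // x ∈ (V : Set X)}, IsAffineOpen (V.ι ⁻¹ᵁ W x.1 x.2) :=
    fun x => (hW x.1 x.2).preimage_of_isOpenImmersion V.ι (hWr x)
  have hMideal : ∀ x : {x : X // x ∈ (V : Set X)},
      M.ideal ⟨W x.1 x.2, hW x.1 x.2⟩ =
        (𝓘.ideal ⟨V.ι ⁻¹ᵁ W x.1 x.2, hWaff x⟩).comap (V.ι.app (W x.1 x.2)).hom :=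
    fun x => Scheme.IdealSheafData.ideal_map 𝓘 V.ι ⟨W x.1 x.2, hW x.1 x.2⟩ (hWaff x)
  have hbij : ∀ x : {x : X // x ∈ (V : Set X)},
      Function.Bijective (V.ι.app (W x.1 x.2)).hom := by
    intro x
    haveI : IsIso (V.ι.app (W x.1 x.2)) := Scheme.Hom.isIso_app V.ι _ (hWr x)
    exact ConcreteCategory.bijective_of_isIso (V.ι.app (W x.1 x.2))
  have hMfg : ∀ x : {x : X // x ∈ (V : Set X)}, (M.ideal ⟨W x.1 x.2, hW x.1 x.2⟩).FG := by
    intro x
    rw [hMideal x]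
    let e := RingEquiv.ofBijective _ (hbij x)
    have h1 : (𝓘.ideal ⟨V.ι ⁻¹ᵁ W x.1 x.2, hWaff x⟩).comap (V.ι.app (W x.1 x.2)).hom =
        (𝓘.ideal ⟨V.ι ⁻¹ᵁ W x.1 x.2, hWaff x⟩).map e.symm.toRingHom :=
      (Ideal.map_symm e).symm
    rw [h1]
    exact Ideal.FG.map (h𝓘ft _) _
  choose G hGft hGle hGeq using fun x => ft1' M (W x.1 x.2) (hW x.1 x.2) (hMfg x)
  let 𝓙 : X.IdealSheafData := G₀ ⊔ t.sup G
  have h𝓙ft : BlowUp.IsFiniteTypeIdeal 𝓙 :=
    Groth.Agent.S17392.isFT_sup _ _ hG₀ft (isFT_finset_sup t G (fun i _ => hGft i))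
  have h𝓙le : 𝓙 ≤ M := sup_le hG₀le (Finset.sup_le (fun x _ => hGle x))
  have h𝓙eq : ∀ x ∈ t, 𝓙.ideal ⟨W x.1 x.2, hW x.1 x.2⟩ = M.ideal ⟨W x.1 x.2, hW x.1 x.2⟩ := by
    intro x hx
    refine le_antisymm (h𝓙le _) ?_
    rw [← hGeq x]
    have h1 : G x ≤ 𝓙 := (Finset.le_sup hx).trans le_sup_right
    exact h1 _
  have h𝓙comap : 𝓙.comap V.ι = 𝓘 := by
    refine le_antisymm ?_ ?_
    · exact (Scheme.IdealSheafData.comap_mono V.ι h𝓙le).trans
        (Scheme.IdealSheafData.comap_map_le 𝓘 V.ι)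
    · refine Scheme.IdealSheafData.le_of_iSup_eq_top
        (fun x : {x // x ∈ t} => (⟨V.ι ⁻¹ᵁ W x.1.1 x.1.2, hWaff x.1⟩ : (V : Scheme.{u}).affineOpens))
        ?_ ?_
      · rw [eq_top_iff]
        intro v _
        have hv : (V.ι v : X) ∈ (V : Set X) := by
          have h1 : (V.ι v) ∈ Set.range V.ι := ⟨v, rfl⟩
          rw [Scheme.Opens.range_ι] at h1
          exact h1
        obtain ⟨x, hx, hvx⟩ := Set.mem_iUnion₂.mp (ht hv)
        exact TopologicalSpace.Opens.mem_iSup.mpr ⟨⟨x, hx⟩, hvx⟩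
      · intro x
        rw [Groth.Agent.Lib.Helper82.ideal_comap_of_le V.ι 𝓙 (V.ι ⁻¹ᵁ W x.1.1 x.1.2) (hWaff x.1)
          (W x.1.1 x.1.2) (hW x.1.1 x.1.2) le_rfl, h𝓙eq x.1 x.2, hMideal x.1,
          ← Scheme.Hom.app_eq_appLE]
        rw [Ideal.map_comap_of_surjective _ (hbij x.1).2]
  refine ⟨𝓙, ⟨h𝓙ft, ?_⟩, h𝓙comap, ?_⟩
  · rw [Set.disjoint_left]
    intro x hx hxU
    have h1 : G₀ ≤ 𝓙 := le_sup_left
    exact hG₀supp (SetLike.coe_subset_coe.mpr (Scheme.IdealSheafData.support_antitone h1) hx) hxU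
  · intro X' c hc
    rw [← h𝓙comap]
    exact isBlowUp_of_isPullback V.ι 𝓙 c hc (c ∣_ V) (c ⁻¹ᵁ V).ι (isPullback_morphismRestrict c V)

end Groth.Agent.S8857
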