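import Groth.Statements.S4458
import Groth.Agent.Lib.Helper21.DevSummand

set_option autoImplicit false
universe u
open Coherent

namespace Groth.Agent.S4458

open AlgebraicGeometry CategoryTheory CategoryTheory.Limits in
/-- Let X be a Noetherian scheme and K' a class of O_X-modules, closed under isomorphism, containing 0,
such that in every short exact sequence of coherent modules with two terms in K' the third is in K',
and such that every coherent direct summand of a coherent module in K' is in K'. Let X' be a closed
subset such that for every irreducible closed subset Z ⊆ X' with generic point y there is a coherent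
module G in K' supported in Z, annihilated by the ideal sheaf of the reduced closed subscheme Z,
whose stalk at y is nonzero. Then every coherent O_X-module with support contained in X' belongs to
K'. (The published statement asks of G only that it lie in K' and have nonzero stalk at y, remarking
that this amounts to G having support Z; that is not sufficient: on the spectrum of the ring
k[e]/(e^2) of dual numbers over a field the free coherent modules form such a class K', containing
the structure sheaf and not the residue field. This row asks G to be supported in Z and annihilated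
by the ideal sheaf of Z, which is what the published proof uses, through the stalk of G at y being a
vector space over the residue field of y.) -/
theorem result (X : Scheme.{u}) [IsNoetherian X]
    (K' : ObjectProperty X.Modules) [K'.IsClosedUnderIsomorphisms]
    (h0 : ∀ M : X.Modules, IsZero M → K' M)
    (hex : ∀ S : ShortComplex X.Modules, S.ShortExact → Coh.IsCoh S.X₁ → Coh.IsCoh S.X₂ → Coh.IsCoh S.X₃ →
      (K' S.X₁ → K' S.X₂ → K' S.X₃) ∧ (K' S.X₁ → K' S.X₃ → K' S.X₂) ∧ (K' S.X₂ → K' S.X₃ → K' S.X₁))
    (hsum : ∀ (M N : X.Modules) (i : N ⟶ M) (r : M ⟶ N), i ≫ r = 𝟙 N → Coh.IsCoh M → Coh.IsCoh N →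
      K' M → K' N)
    (X' : Set X) (hX' : IsClosed X')
    (hgen : ∀ (Z : Set X) (hZ : IsClosed Z), IsIrreducible Z → Z ⊆ X' → ∀ y : X, closure {y} = Z →
      ∃ G : X.Modules, Coh.IsCoh G ∧ K' G ∧ CohB1.support G ⊆ Z ∧
        ClSub.KilledByIdeal (Scheme.IdealSheafData.vanishingIdeal ⟨Z, hZ⟩) G ∧ y ∈ CohB1.support G)
    (F : X.Modules) (hF : Coh.IsCoh F) (hsupp : CohB1.support F ⊆ X') : K' F := by
  have hP : ∀ M N : X.Modules, Nonempty (M ≅ N) → K' M → K' N :=
    fun M N ⟨e⟩ h => K'.prop_of_iso e h
  refine Groth.Agent.Lib.Helper21.Devissage.noetherian_induction X' K' hP h0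
    (fun S hS h1 h2 h3 _ p1 p3 => (hex S hS h1 h2 h3).2.1 p1 p3) ?_ F hF hsupp
  intro Z₀ hZ₀ hirr hZX IH F hF hFs
  have hξ : closure {hirr.genericPoint} = Z₀ := by
    have := hirr.isGenericPoint_genericPoint_closure
    rw [hZ₀.closure_eq] at this
    exact this.def
  obtain ⟨G, hG, hKG, hGs, hkill, hne⟩ := hgen Z₀ hZ₀ hirr hZX hirr.genericPoint hξ
  haveI : G.IsQuasicoherent := hG.1
  refine Groth.Agent.Lib.Helper21.DevSummand.summand_step Z₀ K' hP
    (fun S hS h1 h2 h3 _ => hex S hS h1 h2 h3)
    (fun M N i r hir hM hN _ hKM => hsum M N i r hir hM hN hKM) hirr.genericPoint hξ ?_ G hG hGs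
    (fun a ha t => Groth.Agent.Lib.Helper21.StalkKilled.stalk_killed_of_killedByIdeal G Z₀ hZ₀
      hirr.genericPoint hξ hkill a ha t) hne hKG F hF hFs
  intro F' hF' hs' hnot
  refine IH F' hF' hs' (fun h => hnot ?_)
  have hmem : hirr.genericPoint ∈ closure {hirr.genericPoint} :=
    subset_closure (Set.mem_singleton _)
  have hmem' : hirr.genericPoint ∈ Z₀ := by
    generalize hirr.genericPoint = y at hmem hξ
    rw [hξ] at hmem
    exact hmem
  rw [h]
  exact hmem'

end Groth.Agent.S4458
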