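import Groth.Statements.S8875
import Groth.Agent.Lib.Helper2.FreeModAff
import Groth.Agent.Lib.Helper2.FittPullback
import Groth.Agent.Lib.Lead.QCohAff3
import Groth.Agent.Lib.Helper75.Fitting16

set_option autoImplicit false
universe u
open CategoryTheory CategoryTheory.Limits AlgebraicGeometry TopologicalSpace
open SDiv

namespace Groth.Agent.S8875

set_option linter.style.haveILetI false

open Groth.Agent.Lib.Helper2.FinTypeAff Groth.Agent.Lib.Helper2.FittSheaf
  Groth.Agent.Lib.Helper75.Fitting Groth.Agent.Lib.Lead.QCohAff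
  Groth.Agent.Lib.Helper2.FreeModAff Groth.Agent.Lib.Helper21.RelFPSch

section helpers

/-- Fitting ideals of a free module of rank `r`. -/
theorem fitt_of_equiv_fun {A : Type u} [CommRing A] {M : Type u} [AddCommGroup M] [Module A M]
    (r : ℕ) (e : M ≃ₗ[A] (Fin r → A)) :
    (∀ k, k < r → Fitt.ideal A M k = ⊥) ∧ (∀ k, r ≤ k → Fitt.ideal A M k = ⊤) := by
  have hfin : Module.Finite A M := Module.Finite.equiv e.symm
  constructor
  · intro k hk
    rcases subsingleton_or_nontrivial A with hA | hA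
    · exact Subsingleton.elim _ _
    · rw [fitt_congr e k]
      apply fitt_free_eq_bot
      rw [Module.finrank_fin_fun]
      exact hk
  · intro k hk
    let b : Module.Basis (Fin r) A M := Module.Basis.ofEquivFun e
    have h1 : Fitt.ideal A M r = ⊤ := fitt_eq_top b b.span_eq
    exact top_le_iff.mp (h1 ▸ fitt_mono hk)

/-- membership in the zero locus of an ideal in terms of the prime ideal of the point -/
theorem mem_zeroLocus_iff_le {X : Scheme.{u}} {U : X.Opens} (hU : IsAffineOpen U) (x : X)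
    (hx : x ∈ U) (I : Ideal Γ(X, U)) :
    x ∈ X.zeroLocus (U := U) (I : Set Γ(X, U)) ↔ I ≤ (hU.primeIdealOf ⟨x, hx⟩).asIdeal := by
  rw [Scheme.mem_zeroLocus_iff]
  constructor
  · intro h f hf
    by_contra hc
    exact h f hf ((mem_basicOpen_iff_notMem_primeIdealOf hU x hx f).2 hc)
  · intro h f hf hxf
    exact (mem_basicOpen_iff_notMem_primeIdealOf hU x hx f).1 hxf (h hf)

/-- If some Fitting determinant `d` is given, then over `D(d)` the module is generated by `k`
sections. -/
theorem exists_generators_basicOpen {X : Scheme.{u}} (F : X.Modules) [F.IsQuasicoherent]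
    {U : X.Opens} (hU : IsAffineOpen U) (k n : ℕ) (x : Fin n → Γ(F, U))
    (a : Matrix (Fin n) (Fin n) Γ(X, U))
    (hx : Submodule.span Γ(X, U) (Set.range x) = ⊤)
    (ha : ∀ i : Fin n, (i : ℕ) < n - k → ∑ j, a i j • x j = 0) :
    ∃ g : Fin k → Γ(F, X.basicOpen a.det),
      Submodule.span Γ(X, X.basicOpen a.det) (Set.range g) = ⊤ := by
  set d := a.det with hd
  letI : Module Γ(X, U) Γ(F, X.basicOpen d) :=
    Module.compHom _ (resRing X (X.basicOpen_le d))
  haveI : IsScalarTower Γ(X, U) Γ(X, X.basicOpen d) Γ(F, X.basicOpen d) :=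
    IsScalarTower.of_algebraMap_smul fun _ _ => rfl
  haveI := hU.isLocalization_basicOpen d
  haveI := isLocalizedModule_resL F hU d
  let ρ := resL F (X.basicOpen_le d)
  let φ : Γ(X, U) →+* Γ(X, X.basicOpen d) := algebraMap _ _
  have h1 : Submodule.span Γ(X, X.basicOpen d) (Set.range (ρ ∘ x)) = ⊤ := by
    rw [Set.range_comp]
    exact span_eq_top_of_isLocalizedModule Γ(X, X.basicOpen d) (Submonoid.powers d) ρ hx
  have h2 : ∀ i : Fin n, (i : ℕ) < n - k → ∑ j, (φ.mapMatrix a) i j • (ρ ∘ x) j = 0 := by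
    intro i hi
    have := congrArg ρ (ha i hi)
    rw [map_sum, map_zero] at this
    rw [← this]
    refine Finset.sum_congr rfl (fun j _ => ?_)
    rw [LinearMap.map_smul]
    rfl
  have h3 : IsUnit (φ.mapMatrix a).det := by
    rw [← RingHom.map_det]
    exact IsLocalization.Away.algebraMap_isUnit d
  exact exists_fin_generating_of_isUnit_det (ρ ∘ x) h1 k (φ.mapMatrix a) h2 h3

end helpers


/-- (1) ⇔ (3): let S be a scheme, F a quasi-coherent O_S-module of finite type and r ≥ 0. Then F is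
finite locally free of rank r if and only if Fit_k(F) = 0 for every k < r and Fit_k(F) = O_S for
every k ≥ r. -/
theorem result (S : Scheme.{u}) (F : S.Modules) (hF : Coh.IsQCoh F) (hft : CohB1.IsFT F)
    (r : ℕ) :
    FlatMod.IsFinLocFreeOfRank r F ↔
      (∀ k : ℕ, k < r → Fitt.sheafIdeal F k = ⊥) ∧ (∀ k : ℕ, r ≤ k → Fitt.sheafIdeal F k = ⊤) := by
  have : F.IsQuasicoherent := hF
  have : SheafOfModules.IsFiniteType (R := S.ringCatSheaf) F := hft
  constructor
  · intro h
    -- an affine cover on which `F` is free of rank `r`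
    have key : ∀ x : S, ∃ W : S.affineOpens, x ∈ W.1 ∧
        Nonempty (Γ(F, W.1) ≃ₗ[Γ(S, W.1)] (Fin r → Γ(S, W.1))) := by
      intro x
      obtain ⟨U, hxU, hU⟩ := h x
      obtain ⟨_, ⟨W, hW, rfl⟩, hxW, hWU⟩ :=
        S.isBasis_affineOpens.exists_subset_of_mem_open hxU U.isOpen
      exact ⟨⟨W, hW⟩, hxW, (nonempty_iso_freeMod_iff F hW r).1
        (nonempty_iso_freeMod_of_le F (show W ≤ U from hWU) r hU)⟩
    choose W hxW hW using key
    have hcov : ⨆ x, (W x).1 = ⊤ := by
      rw [eq_top_iff]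
      intro x _
      rw [TopologicalSpace.Opens.mem_iSup]
      exact ⟨x, hxW x⟩
    constructor
    · intro k hk
      refine Scheme.IdealSheafData.ext_of_iSup_eq_top W hcov (fun x => ?_)
      obtain ⟨e⟩ := hW x
      rw [sheafIdeal_ideal, (fitt_of_equiv_fun r e).1 k hk]
      rfl
    · intro k hk
      refine Scheme.IdealSheafData.ext_of_iSup_eq_top W hcov (fun x => ?_)
      obtain ⟨e⟩ := hW x
      rw [sheafIdeal_ideal, (fitt_of_equiv_fun r e).2 k hk]
      rfl
  · rintro ⟨h1, h2⟩ s
    obtain ⟨_, ⟨U, hU, rfl⟩, hsU, -⟩ :=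
      S.isBasis_affineOpens.exists_subset_of_mem_open (Set.mem_univ s) isOpen_univ
    have := finite_sections F hU
    have hr : Fitt.ideal Γ(S, U) Γ(F, U) r = ⊤ := by
      rw [← sheafIdeal_ideal F r ⟨U, hU⟩, h2 r le_rfl]
      rfl
    -- some Fitting determinant is outside the prime of `s`
    have : ∃ (n : ℕ) (x : Fin n → Γ(F, U)) (a : Matrix (Fin n) (Fin n) Γ(S, U)),
        Submodule.span Γ(S, U) (Set.range x) = ⊤ ∧
        (∀ i : Fin n, (i : ℕ) < n - r → ∑ j, a i j • x j = 0) ∧
        a.det ∉ (hU.primeIdealOf ⟨s, hsU⟩).asIdeal := by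
      by_contra hcon
      push Not at hcon
      have hle : Fitt.ideal Γ(S, U) Γ(F, U) r ≤ (hU.primeIdealOf ⟨s, hsU⟩).asIdeal := by
        apply Ideal.span_le.mpr
        rintro d ⟨n, x, a, hx, ha, rfl⟩
        exact hcon n x a hx ha
      rw [hr] at hle
      exact (hU.primeIdealOf ⟨s, hsU⟩).isPrime.ne_top (top_le_iff.mp hle)
    obtain ⟨n, x, a, hx, ha, hdet⟩ := this
    obtain ⟨g, hg⟩ := exists_generators_basicOpen F hU r n x a hx ha
    have hW := hU.basicOpen a.det
    refine ⟨S.basicOpen a.det, (mem_basicOpen_iff_notMem_primeIdealOf hU s hsU _).2 hdet, ?_⟩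
    refine (nonempty_iso_freeMod_iff F hW r).2 ?_
    have hbot : ∀ k, k < r → Fitt.ideal Γ(S, S.basicOpen a.det) Γ(F, S.basicOpen a.det) k = ⊥ := by
      intro k hk
      rw [← sheafIdeal_ideal F k ⟨_, hW⟩, h1 k hk]
      rfl
    let b : Module.Basis (Fin r) Γ(S, S.basicOpen a.det) Γ(F, S.basicOpen a.det) :=
      Module.Basis.mk (linearIndependent_of_fitt_eq_bot g hg hbot) (by rw [hg])
    exact ⟨b.equivFun⟩

end Groth.Agent.S8875
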