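import Groth.Statements.S12083
import Mathlib
import Groth.Agent.Lib.Helper94.FPRel
-- import your own Groth.Agent.* helpers here

set_option autoImplicit false
universe u
open CAlg

namespace Groth.Agent.S12083

/-- Let `R → A` be a finite type ring map with a surjective presentation `α : R[x_1, …, x_n] → A` and
`M` an `A`-module finitely presented relative to `R` (finitely presented as an `R[x_1, …,
x_n]`-module through `α`). For a ring map `R → R'` let `A' = R' ⊗_R A` (a pushout square) and `γ :
R'[z_1, …, z_k] → A'` any surjective presentation. Then `A' ⊗_A M = R' ⊗_R M` is finitely presented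
relative to `R'`, i.e. finitely presented as an `R'[z_1, …, z_k]`-module through `γ`. -/
theorem result {R A R' A' : Type u} [CommRing R] [CommRing A] [CommRing R'] [CommRing A']
    [Algebra R A] [Algebra R R'] [Algebra A A'] [Algebra R' A'] [Algebra R A'] [IsScalarTower R A A'] [IsScalarTower R R' A']
    [Algebra.IsPushout R A R' A'] [Algebra.FiniteType R A] (M : Type u) [AddCommGroup M] [Module A M] {n k : ℕ}
    (α : MvPolynomial (Fin n) R →ₐ[R] A) (hα : Function.Surjective α)
    (hM : @Module.FinitePresentation (MvPolynomial (Fin n) R) M _ _ (Module.compHom M α.toRingHom))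
    (γ : MvPolynomial (Fin k) R' →ₐ[R'] A') (hγ : Function.Surjective γ) :
    @Module.FinitePresentation (MvPolynomial (Fin k) R') (TensorProduct A A' M) _ _
      (Module.compHom (TensorProduct A A' M) γ.toRingHom) := by
  classical
  let α' : MvPolynomial (Fin n) R' →ₐ[R'] A' :=
    MvPolynomial.aeval (fun i => algebraMap A A' (α (MvPolynomial.X i)))
  have hsq : ∀ p : MvPolynomial (Fin n) R,
      α' (MvPolynomial.map (algebraMap R R') p) = algebraMap A A' (α p) := by
    intro p
    induction p using MvPolynomial.induction_on with
    | C r =>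
      simp only [MvPolynomial.map_C, α', MvPolynomial.aeval_C]
      rw [← MvPolynomial.algebraMap_eq, α.commutes, ← IsScalarTower.algebraMap_apply,
        ← IsScalarTower.algebraMap_apply]
    | add p q hp hq => simp only [map_add, hp, hq]
    | mul_X p i hp =>
      simp only [map_mul, hp, MvPolynomial.map_X]
      simp [α']
  have hα' : Function.Surjective α' := by
    intro x
    have hpush : Algebra.IsPushout R R' A A' := Algebra.IsPushout.symm inferInstance
    induction x using hpush.out.inductionOn with
    | zero => exact ⟨0, map_zero _⟩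
    | tmul a =>
      obtain ⟨p, rfl⟩ := hα a
      exact ⟨MvPolynomial.map (algebraMap R R') p, hsq p⟩
    | smul s x hx =>
      obtain ⟨p, rfl⟩ := hx
      exact ⟨s • p, map_smul _ _ _⟩
    | add x y hx hy =>
      obtain ⟨p, rfl⟩ := hx
      obtain ⟨q, rfl⟩ := hy
      exact ⟨p + q, map_add _ _ _⟩
  let _ : Algebra (MvPolynomial (Fin n) R) (MvPolynomial (Fin n) R') :=
    MvPolynomial.algebraMvPolynomial
  let _ : Algebra (MvPolynomial (Fin n) R) A := α.toRingHom.toAlgebra
  let _ : Algebra (MvPolynomial (Fin n) R') A' := α'.toRingHom.toAlgebra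
  let _ : Algebra (MvPolynomial (Fin n) R) A' := ((algebraMap A A').comp α.toRingHom).toAlgebra
  have t1 : IsScalarTower R (MvPolynomial (Fin n) R) A :=
    IsScalarTower.of_algebraMap_eq' α.comp_algebraMap.symm
  have t2 : IsScalarTower (MvPolynomial (Fin n) R) A A' := IsScalarTower.of_algebraMap_eq' rfl
  have t3 : IsScalarTower (MvPolynomial (Fin n) R) (MvPolynomial (Fin n) R') A' := by
    apply IsScalarTower.of_algebraMap_eq
    intro p
    exact (hsq p).symm
  have t5 : IsScalarTower R' (MvPolynomial (Fin n) R') A' :=
    IsScalarTower.of_algebraMap_eq' α'.comp_algebraMap.symm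
  have t4 : IsScalarTower R (MvPolynomial (Fin n) R') A' := by
    apply IsScalarTower.of_algebraMap_eq
    intro r
    rw [IsScalarTower.algebraMap_apply R R' A', IsScalarTower.algebraMap_apply R R' (MvPolynomial (Fin n) R'),
      ← IsScalarTower.algebraMap_apply R' (MvPolynomial (Fin n) R') A']
  have push : Algebra.IsPushout (MvPolynomial (Fin n) R) A (MvPolynomial (Fin n) R') A' :=
    (Algebra.IsPushout.comp_iff R (MvPolynomial (Fin n) R) R' (MvPolynomial (Fin n) R')).mp
      inferInstance
  have push' : Algebra.IsPushout (MvPolynomial (Fin n) R) (MvPolynomial (Fin n) R') A A' :=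
    push.symm
  let _ : Module (MvPolynomial (Fin n) R) M := Module.compHom M α.toRingHom
  have t7 : IsScalarTower (MvPolynomial (Fin n) R) A M := by
    refine ⟨fun p a m => ?_⟩
    change (α p * a) • m = α p • (a • m)
    rw [mul_smul]
  have hMfp : Module.FinitePresentation (MvPolynomial (Fin n) R) M := hM
  let e := Algebra.IsPushout.cancelBaseChange (MvPolynomial (Fin n) R) (MvPolynomial (Fin n) R')
    A A' M
  have hfp2 : Module.FinitePresentation (MvPolynomial (Fin n) R') (TensorProduct A A' M) :=
    Module.FinitePresentation.of_equiv e.symm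
  let _ : Module (MvPolynomial (Fin k) R') (TensorProduct A A' M) :=
    Module.compHom _ γ.toRingHom
  refine Groth.Agent.Lib.Helper94.fp_change_presentation α' hα' γ hγ (TensorProduct A A' M) ?_
    (fun _ _ => rfl)
  intro p x
  exact (algebraMap_smul A' p x).symm

end Groth.Agent.S12083
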