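import Groth.Statements.S5480
import Groth.Agent.Lib.Helper21.RootLen
import Groth.Agent.S5452
import Mathlib.LinearAlgebra.RootSystem.Reduced
import Mathlib.Tactic

set_option autoImplicit false
open RootD

namespace Groth.Agent.S5480

open Groth.Agent.Lib.Helper21 RootPairing

theorem pos_smul_root_eq {ι M N : Type*} [AddCommGroup M] [AddCommGroup N]
    (P : RootPairing ι ℤ M N) [Finite ι] [P.IsReduced] (a b : ℤ) (ha : 0 < a) (hb : 0 < b)
    (x y : ι) (h : a • P.root x = b • P.root y) : x = y ∧ a = b := by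
  have htf : Module.IsTorsionFree ℤ M := torsionFreeM P
  have hdep : ¬ LinearIndependent ℤ ![P.root x, P.root y] := by
    rw [LinearIndependent.pair_iff]
    intro hli
    have := hli a (-b) (by rw [h]; module)
    omega
  rcases IsReduced.eq_or_eq_neg (P := P) x y hdep with hxy | hxy
  · have hxy' : x = y := P.root.injective hxy
    refine ⟨hxy', ?_⟩
    rw [hxy] at h
    have h2 : (a - b) • P.root y = 0 := by rw [sub_smul, h, sub_self]
    rcases smul_eq_zero.mp h2 with h3 | h3
    · omega
    · exact absurd h3 (P.ne_zero y)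
  · exfalso
    rw [hxy] at h
    have h2 : (a + b) • P.root y = 0 := by
      rw [add_smul, ← h]; module
    rcases smul_eq_zero.mp h2 with h3 | h3
    · omega
    · exact absurd h3 (P.ne_zero y)

/-- For a p-morphism of reduced root data with root bijection u and radicial exponents q: (a) for all
roots α, β one has q(s_α(β)) = q(β) and u(s_α(β)) = s_{u(α)}(u(β)); (b) the exponents are invariant
under the Weyl group, q(w(α)) = q(α); (c) there is an isomorphism ū from the Weyl group of the first
datum to that of the second with ū(s_α) = s_{u(α)} and u(w(α)) = ū(w)(u(α)) for every Weyl group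
element w and every root α. -/
theorem result {ι M N ι' M' N' : Type*} [AddCommGroup M] [AddCommGroup N] [AddCommGroup M'] [AddCommGroup N']
    (P : RootPairing ι ℤ M N) (P' : RootPairing ι' ℤ M' N') [Finite ι] [Finite ι'] [P.IsReduced] [P'.IsReduced]
    (p : ℕ) (hp : 0 < p) (f : M' →ₗ[ℤ] M) (g : N →ₗ[ℤ] N')
    (hfg : ∀ (m' : M') (n : N), P.toLinearMap (f m') n = P'.toLinearMap m' (g n))
    (u : ι ≃ ι') (q : ι → ℕ) (hq : ∀ i, ∃ e : ℕ, q i = p ^ e)
    (hroot : ∀ i : ι, f (P'.root (u i)) = (q i : ℤ) • P.root i)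
    (hcoroot : ∀ i : ι, g (P.coroot i) = (q i : ℤ) • P'.coroot (u i)) :
    (∀ i j : ι, q (P.reflectionPerm i j) = q j ∧ u (P.reflectionPerm i j) = P'.reflectionPerm (u i) (u j)) ∧
      (∀ w ∈ P.weylGroup, ∀ i : ι, q (w • i) = q i) ∧
      ∃ ubar : P.weylGroup ≃* P'.weylGroup,
        (∀ i : ι, ubar (RootPairing.weylGroup.ofIdx P i) = RootPairing.weylGroup.ofIdx P' (u i)) ∧
        ∀ (w : P.weylGroup) (i : ι), u ((w : P.Aut) • i) = ((ubar w : P'.weylGroup) : P'.Aut) • u i := by
  have hq_pos : ∀ i, (0 : ℤ) < (q i : ℤ) := by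
    intro i
    obtain ⟨e, he⟩ := hq i
    rw [he]
    positivity
  have hstar : ∀ i j : ι, (q i : ℤ) * P'.pairing (u j) (u i) = (q j : ℤ) * P.pairing j i := by
    intro i j
    have h1 := hfg (P'.root (u j)) (P.coroot i)
    rw [hroot, hcoroot, map_smul, LinearMap.smul_apply, map_smul] at h1
    simp only [root_coroot_eq_pairing, smul_eq_mul] at h1
    exact h1.symm
  have ha : ∀ i j : ι, q (P.reflectionPerm i j) = q j ∧
      u (P.reflectionPerm i j) = P'.reflectionPerm (u i) (u j) := by
    intro i j
    set k' := P'.reflectionPerm (u i) (u j) with hk'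
    set k := u.symm k' with hk
    have huk : u k = k' := u.apply_symm_apply k'
    have h1 : f (P'.root k') = (q k : ℤ) • P.root k := by rw [← huk, hroot]
    have h2 : f (P'.root k') = (q j : ℤ) • P.root (P.reflectionPerm i j) := by
      rw [hk', P'.root_reflectionPerm, P'.reflection_apply_root, map_sub, map_smul, hroot, hroot,
        P.root_reflectionPerm, P.reflection_apply_root, smul_sub, smul_smul, smul_smul,
        mul_comm (P'.pairing (u j) (u i)), hstar i j]
    obtain ⟨hkeq, hqeq⟩ := pos_smul_root_eq P (q k) (q j) (hq_pos k) (hq_pos j) k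
      (P.reflectionPerm i j) (h1.symm.trans h2)
    constructor
    · rw [← hkeq]
      exact_mod_cast hqeq
    · rw [← hkeq, huk]
  have hb : ∀ w ∈ P.weylGroup, ∀ i : ι, q (w • i) = q i := by
    intro w hw
    induction hw using RootPairing.weylGroup.induction with
    | mem k => intro i; exact (ha k i).1
    | one => intro i; rw [one_smul]
    | mul x y _ _ hx hy => intro i; rw [mul_smul, hx, hy]
  refine ⟨ha, hb, ?_⟩
  have hψ : Function.Injective P.weylGroupToPerm := Groth.Agent.S5452.result P
  have hψ' : Function.Injective P'.weylGroupToPerm := Groth.Agent.S5452.result P'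
  let c : Equiv.Perm ι ≃* Equiv.Perm ι' := u.permCongrHom
  have hc : ∀ i, c (P.reflectionPerm i) = P'.reflectionPerm (u i) := by
    intro i
    ext j'
    change u (P.reflectionPerm i (u.symm j')) = _
    rw [(ha i (u.symm j')).2, u.apply_symm_apply]
  have hrange : P.weylGroupToPerm.range.map (c : Equiv.Perm ι →* Equiv.Perm ι') =
      P'.weylGroupToPerm.range := by
    rw [P.range_weylGroupToPerm, P'.range_weylGroupToPerm, MonoidHom.map_closure]
    congr 1
    ext σ
    constructor
    · rintro ⟨_, ⟨i, rfl⟩, rfl⟩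
      exact ⟨u i, (hc i).symm⟩
    · rintro ⟨i', rfl⟩
      refine ⟨P.reflectionPerm (u.symm i'), ⟨_, rfl⟩, ?_⟩
      change c (P.reflectionPerm (u.symm i')) = _
      rw [hc, u.apply_symm_apply]
  let e1 : P.weylGroup ≃* P.weylGroupToPerm.range := MonoidHom.ofInjective hψ
  let e2 : P.weylGroupToPerm.range ≃*
      P.weylGroupToPerm.range.map (c : Equiv.Perm ι →* Equiv.Perm ι') :=
    c.subgroupMap P.weylGroupToPerm.range
  let e3 : P.weylGroupToPerm.range.map (c : Equiv.Perm ι →* Equiv.Perm ι') ≃*
      P'.weylGroupToPerm.range := MulEquiv.subgroupCongr hrange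
  let e4 : P'.weylGroup ≃* P'.weylGroupToPerm.range := MonoidHom.ofInjective hψ'
  let ubar : P.weylGroup ≃* P'.weylGroup := e1.trans (e2.trans (e3.trans e4.symm))
  have key : ∀ w : P.weylGroup, P'.weylGroupToPerm (ubar w) = c (P.weylGroupToPerm w) := by
    intro w
    have h1 : (e4 (ubar w) : Equiv.Perm ι') = c (P.weylGroupToPerm w) := by
      change (e4 (e4.symm (e3 (e2 (e1 w)))) : Equiv.Perm ι') = _
      rw [MulEquiv.apply_symm_apply]
      rfl
    rw [← h1]
    rfl
  refine ⟨ubar, ?_, ?_⟩
  · intro i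
    apply hψ'
    rw [key]
    change c (P.reflectionPerm i) = P'.reflectionPerm (u i)
    exact hc i
  · intro w i
    have h1 := key w
    have h2 : ((ubar w : P'.weylGroup) : P'.Aut) • u i = P'.weylGroupToPerm (ubar w) (u i) := rfl
    rw [h2, h1]
    change u ((w : P.Aut) • i) = u (P.weylGroupToPerm w (u.symm (u i)))
    rw [u.symm_apply_apply]
    rfl

end Groth.Agent.S5480
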