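import Groth.Statements.S5488
import Mathlib.Tactic
import Mathlib.LinearAlgebra.RootSystem.Finite.Lemmas
import Mathlib.LinearAlgebra.RootSystem.Reduced

set_option autoImplicit false
open RootPairing
open scoped Pointwise
open RootD

namespace Groth.Agent.S5488

/-- The reduced datum of indivisible roots has the same Weyl group: the reflections in indivisible roots
generate W. -/
theorem result {ι M N : Type*} [AddCommGroup M] [AddCommGroup N]
    (P : RootPairing ι ℤ M N) [Finite ι] :
    Subgroup.closure ((fun i : ι => Equiv.reflection P i) '' {i : ι | RootD.IsIndiv P i}) = P.weylGroup := by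
  have : Module.IsReflexive ℤ M := .of_isPerfPair P.toLinearMap
  have : Module.IsReflexive ℤ N := .of_isPerfPair P.flip.toLinearMap
  have : IsAddTorsionFree M := .of_isTorsionFree ℤ M
  have : IsAddTorsionFree N := .of_isTorsionFree ℤ N
  apply le_antisymm
  · apply Subgroup.closure_mono
    rintro _ ⟨i, -, rfl⟩
    exact ⟨i, rfl⟩
  · unfold RootPairing.weylGroup
    rw [Subgroup.closure_le]
    rintro _ ⟨i, rfl⟩
    by_cases hi : RootD.IsIndiv P i
    · exact Subgroup.subset_closure ⟨i, hi, rfl⟩
    · unfold RootD.IsIndiv at hi
      push Not at hi
      obtain ⟨j, hj⟩ := hi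
      have hco : P.coroot j = (2 : ℤ) • P.coroot i :=
        (RootPairing.coroot_eq_smul_coroot_iff).mpr hj.symm
      have heq : Equiv.reflection P i = Equiv.reflection P j := by
        apply Equiv.weightHom_injective P
        ext x
        change P.reflection i x = P.reflection j x
        rw [RootPairing.reflection_apply, RootPairing.reflection_apply, ← hj]
        change x - (P.toLinearMap x (P.coroot i)) • ((2 : ℤ) • P.root j) =
          x - (P.toLinearMap x (P.coroot j)) • P.root j
        rw [hco, map_smul, smul_smul, smul_eq_mul, mul_comm]
      have hjind : RootD.IsIndiv P j := by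
        intro j' hj'
        have h4 : P.root i = (4 : ℤ) • P.root j' := by
          rw [← hj, ← hj', smul_smul]; norm_num
        have h8 : P.pairing i j' = 8 := by
          change P.toLinearMap (P.root i) (P.coroot j') = 8
          rw [h4, map_smul, LinearMap.smul_apply]
          have : P.toLinearMap (P.root j') (P.coroot j') = 2 := P.pairing_same j'
          rw [this]; norm_num
        have hmem := P.pairingIn_pairingIn_mem_set_of_isCrystallographic i j'
        have hpi : P.pairingIn ℤ i j' = P.pairing i j' := by
          have := P.algebraMap_pairingIn ℤ i j'
          simpa using this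
        rw [hpi, h8] at hmem
        simp at hmem
      rw [SetLike.mem_coe, heq]
      exact Subgroup.subset_closure ⟨j, hjind, rfl⟩

end Groth.Agent.S5488
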