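import Groth.Statements.S5503
import Mathlib.Tactic

set_option autoImplicit false
open RootPairing
open scoped Pointwise
open RootD

namespace Groth.Agent.S5503

/-- For an automorphism u of a root datum and a root α, u s_α u⁻¹ = s_{u(α)}; hence W(R) is a normal
subgroup of Aut(R). -/
theorem result {ι M N : Type*} [AddCommGroup M] [AddCommGroup N]
    (P : RootPairing ι ℤ M N) [Finite ι] (u : P.Aut) (i : ι) :
    u * Equiv.reflection P i * u⁻¹ = Equiv.reflection P (u • i) := by
  apply Equiv.weightHom_injective P
  ext x
  rw [map_mul, map_mul]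
  change Equiv.weightHom P u (Equiv.weightHom P (Equiv.reflection P i)
    (Equiv.weightHom P u⁻¹ x)) = Equiv.weightHom P (Equiv.reflection P (u • i)) x
  set y := Equiv.weightHom P u⁻¹ x with hy
  have hx : x = Equiv.weightHom P u y := by
    rw [hy, ← LinearEquiv.mul_apply, ← map_mul, mul_inv_cancel, map_one]
    rfl
  have h1 : ∀ z, Equiv.weightHom P (Equiv.reflection P i) z = P.reflection i z := fun z => rfl
  have h2 : ∀ z, Equiv.weightHom P (Equiv.reflection P (u • i)) z = P.reflection (u • i) z :=
    fun z => rfl
  have h3 : Equiv.weightHom P u (P.root i) = P.root (u • i) :=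
    Hom.root_weightMap_apply P P i u.toHom
  have h4 : P.toLinearMap (Equiv.weightHom P u y) (P.coroot (u • i)) =
      P.toLinearMap y (P.coroot i) := by
    have := Hom.weight_coweight_transpose_apply P P (P.coroot (u • i)) u.toHom
    have h5 := LinearMap.congr_fun this y
    have h6 : u.toHom.coweightMap (P.coroot (u • i)) = P.coroot i := by
      rw [Hom.coroot_coweightMap_apply]
      congr 1
      exact u.toHom.indexEquiv.symm_apply_apply i
    rw [h6] at h5
    simpa using h5
  rw [h1, h2, reflection_apply, reflection_apply, map_sub, map_smul, h3, ← hx, hx]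
  have h4' : (P.coroot' (u • i)) (Equiv.weightHom P u y) = (P.coroot' i) y := h4
  rw [h4']

end Groth.Agent.S5503
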