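import Groth.Statements.S2015
import Mathlib

set_option autoImplicit false
universe u
open EtAlg

namespace Groth.Agent.S2015

theorem exists_min_dvd {R : Type*} [CommRing R] (h : ∀ a b : R, a ∣ b ∨ b ∣ a)
    (T : Finset R) (hT : T.Nonempty) : ∃ d ∈ T, ∀ t ∈ T, d ∣ t := by
  classical
  induction hT using Finset.Nonempty.cons_induction with
  | singleton a => exact ⟨a, by simp, by simp⟩
  | cons a s ha hs ih =>
    obtain ⟨d, hd, hdt⟩ := ih
    rcases h d a with hda | had
    · refine ⟨d, by simp [hd], ?_⟩
      intro t ht
      rw [Finset.mem_cons] at ht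
      rcases ht with rfl | ht
      · exact hda
      · exact hdt t ht
    · refine ⟨a, by simp, ?_⟩
      intro t ht
      rw [Finset.mem_cons] at ht
      rcases ht with rfl | ht
      · exact dvd_rfl
      · exact had.trans (hdt t ht)

theorem main {R : Type u} [CommRing R] (h : ∀ a b : R, a ∣ b ∨ b ∣ a) (n : ℕ) :
    ∀ (M : Type u) [AddCommGroup M] [Module R M] [Module.FinitePresentation R M]
      (x : Fin n → M), Submodule.span R (Set.range x) = ⊤ →
      ∃ f : Fin n → R, Nonempty (M ≃ₗ[R] ((i : Fin n) → R ⧸ Ideal.span {f i})) := by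
  classical
  induction n with
  | zero =>
    intro M _ _ _ x hx
    have hsub : Subsingleton M := by
      have : (⊥ : Submodule R M) = ⊤ := by
        rw [← hx, Set.range_eq_empty x, Submodule.span_empty]
      exact (Submodule.subsingleton_iff R).1 (subsingleton_of_bot_eq_top this)
    exact ⟨Fin.elim0, ⟨LinearEquiv.ofSubsingleton _ _⟩⟩
  | succ n ih =>
    intro M _ _ _ x hx
    let π : (Fin (n + 1) → R) →ₗ[R] M := Fintype.linearCombination R x
    have hπ : ∀ b : Fin (n + 1) → R, π b = ∑ i, b i • x i := fun b => rfl
    have hπsurj : Function.Surjective π := by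
      rw [← LinearMap.range_eq_top, Fintype.range_linearCombination, hx]
    have hK : (LinearMap.ker π).FG := Module.FinitePresentation.fg_ker π hπsurj
    obtain ⟨S, hS⟩ := hK
    let T : Finset R := (insert 0 S).biUnion fun v => Finset.univ.image v
    have hTne : T.Nonempty := ⟨0, by
      simp only [T, Finset.mem_biUnion, Finset.mem_image, Finset.mem_univ, true_and]
      exact ⟨0, Finset.mem_insert_self _ _, 0, rfl⟩⟩
    obtain ⟨d, hdT, hd⟩ := exists_min_dvd h T hTne
    simp only [T, Finset.mem_biUnion, Finset.mem_image, Finset.mem_univ, true_and] at hdT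
    obtain ⟨v, hvS, i₀, hvi₀⟩ := hdT
    have hvK : v ∈ LinearMap.ker π := by
      rw [Finset.mem_insert] at hvS
      rcases hvS with rfl | hvS
      · exact Submodule.zero_mem _
      · rw [← hS]; exact Submodule.subset_span hvS
    have hdS : ∀ w ∈ S, ∀ i, d ∣ w i := by
      intro w hw i
      apply hd
      simp only [T, Finset.mem_biUnion, Finset.mem_image, Finset.mem_univ, true_and]
      exact ⟨w, Finset.mem_insert_of_mem hw, i, rfl⟩
    have hdv : ∀ i, d ∣ v i := by
      intro i
      apply hd
      simp only [T, Finset.mem_biUnion, Finset.mem_image, Finset.mem_univ, true_and]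
      exact ⟨v, hvS, i, rfl⟩
    have hdK : ∀ w ∈ LinearMap.ker π, ∀ i, d ∣ w i := by
      intro w hw
      rw [← hS] at hw
      induction hw using Submodule.span_induction with
      | mem w hw => exact hdS w hw
      | zero => intro i; exact dvd_zero _
      | add a b _ _ ha hb => intro i; exact dvd_add (ha i) (hb i)
      | smul r a _ ha => intro i; exact Dvd.dvd.mul_left (ha i) r
    choose c hc using hdv
    let w : Fin (n + 1) → R := Function.update c i₀ 1
    have hdw : d • w = v := by
      funext i
      by_cases hi : i = i₀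
      · subst hi
        simp [w, hvi₀]
      · simp [w, Function.update_of_ne hi, hc i]
    let y : M := π w
    have hdy : d • y = 0 := by
      rw [← map_smul, hdw]
      exact hvK
    let p : Submodule R M := Submodule.span R {y}
    let x' : Fin n → M := fun k => x (i₀.succAbove k)
    let q : Submodule R M := Submodule.span R (Set.range x')
    have hy_eq : y = x i₀ + ∑ k, c (i₀.succAbove k) • x (i₀.succAbove k) := by
      rw [show y = ∑ i, w i • x i from rfl, Fin.sum_univ_succAbove _ i₀]
      congr 1
      · simp [w]
      · refine Finset.sum_congr rfl fun k _ => ?_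
        simp [w]
    have hsum_q : ∀ b : Fin n → R, ∑ k, b k • x (i₀.succAbove k) ∈ q := fun b =>
      Submodule.sum_mem _ fun k _ => Submodule.smul_mem _ _ (Submodule.subset_span ⟨k, rfl⟩)
    have hcompl : IsCompl p q := by
      constructor
      · rw [Submodule.disjoint_def]
        intro z hzp hzq
        obtain ⟨a, rfl⟩ := Submodule.mem_span_singleton.1 hzp
        obtain ⟨b, hb⟩ := (Submodule.mem_span_range_iff_exists_fun R).1 hzq
        have hker : a • w - i₀.insertNth 0 b ∈ LinearMap.ker π := by
          rw [LinearMap.mem_ker, map_sub, map_smul, sub_eq_zero, hπ (i₀.insertNth 0 b),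
            Fin.sum_univ_succAbove _ i₀]
          simp only [Fin.insertNth_apply_same, zero_smul, zero_add, Fin.insertNth_apply_succAbove]
          exact hb.symm
        have hda : d ∣ a := by
          have := hdK _ hker i₀
          simpa [w] using this
        obtain ⟨a', rfl⟩ := hda
        rw [mul_comm, mul_smul, hdy, smul_zero]
      · rw [codisjoint_iff, eq_top_iff, ← hx, Submodule.span_le]
        rintro _ ⟨i, rfl⟩
        by_cases hi : i = i₀
        · subst hi
          have : x i = y - ∑ k, c (i.succAbove k) • x (i.succAbove k) := by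
            rw [hy_eq]; abel
          rw [this]
          exact Submodule.sub_mem _
            (Submodule.mem_sup_left (Submodule.mem_span_singleton_self y))
            (Submodule.mem_sup_right (hsum_q _))
        · obtain ⟨k, rfl⟩ := Fin.exists_succAbove_eq hi
          exact Submodule.mem_sup_right (Submodule.subset_span ⟨k, rfl⟩)
    -- the quotient M ⧸ p
    have hfpN : Module.FinitePresentation R (M ⧸ p) :=
      Module.finitePresentation_of_surjective p.mkQ (Submodule.mkQ_surjective p) (by
        rw [Submodule.ker_mkQ]
        exact Submodule.fg_span_singleton y)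
    have hxN : Submodule.span R (Set.range fun k => p.mkQ (x' k)) = ⊤ := by
      have h1 : Submodule.map p.mkQ q = ⊤ := by
        rw [eq_top_iff]
        rintro z -
        obtain ⟨z, rfl⟩ := Submodule.mkQ_surjective p z
        have hz : z ∈ p ⊔ q := by rw [hcompl.sup_eq_top]; trivial
        obtain ⟨z₁, hz₁, z₂, hz₂, rfl⟩ := Submodule.mem_sup.1 hz
        refine ⟨z₂, hz₂, ?_⟩
        rw [map_add]
        simp only [Submodule.mkQ_apply]
        rw [(Submodule.Quotient.mk_eq_zero p).2 hz₁, zero_add]
      rw [← h1, Submodule.map_span, ← Set.range_comp]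
      rfl
    obtain ⟨f, ⟨e⟩⟩ := ih (M ⧸ p) (fun k => p.mkQ (x' k)) hxN
    -- p ≃ R ⧸ span {d}
    have hkerspan : LinearMap.ker (LinearMap.toSpanSingleton R M y) = Ideal.span {d} := by
      ext a
      rw [LinearMap.mem_ker, LinearMap.toSpanSingleton_apply, Ideal.mem_span_singleton]
      constructor
      · intro ha
        have hker : a • w ∈ LinearMap.ker π := by
          rw [LinearMap.mem_ker, map_smul]; exact ha
        have := hdK _ hker i₀
        simpa [w] using this
      · rintro ⟨a', rfl⟩
        rw [mul_comm, mul_smul, hdy, smul_zero]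
    let e₁ : (R ⧸ Ideal.span {d}) ≃ₗ[R] p :=
      (Submodule.quotEquivOfEq _ _ hkerspan.symm).trans
        ((LinearMap.toSpanSingleton R M y).quotKerEquivRange.trans
          (LinearEquiv.ofEq _ _ (LinearMap.span_singleton_eq_range R M y).symm))
    let e₂ : (M ⧸ p) ≃ₗ[R] q := Submodule.quotientEquivOfIsCompl p q hcompl
    let e₃ : M ≃ₗ[R] (R ⧸ Ideal.span {d}) × ((i : Fin n) → R ⧸ Ideal.span {f i}) :=
      (Submodule.prodEquivOfIsCompl p q hcompl).symm.trans
        (LinearEquiv.prodCongr e₁.symm (e₂.symm.trans e))
    let e₄ : ((R ⧸ Ideal.span {d}) × ((i : Fin n) → R ⧸ Ideal.span {f i})) ≃ₗ[R]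
        ((i : Fin (n + 1)) → R ⧸ Ideal.span {(Fin.cons d f : Fin (n + 1) → R) i}) :=
      Fin.consLinearEquiv R
        (fun i : Fin (n + 1) => R ⧸ Ideal.span {(Fin.cons d f : Fin (n + 1) → R) i})
    exact ⟨Fin.cons d f, ⟨e₃.trans e₄⟩⟩

/-- Let R be a nonzero ring such that for all a, b in R either a divides b or b divides a. Then each
finitely presented R-module decomposes as a direct sum of finitely many cyclic modules R/fR. -/
theorem result (R : Type u) [CommRing R] [Nontrivial R] (h : ∀ a b : R, a ∣ b ∨ b ∣ a)
    (M : Type u) [AddCommGroup M] [Module R M] [Module.FinitePresentation R M] :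
    ∃ (n : ℕ) (f : Fin n → R), Nonempty (M ≃ₗ[R] ((i : Fin n) → R ⧸ Ideal.span {f i})) := by
  obtain ⟨n, x, hx⟩ := Module.Finite.exists_fin (R := R) (M := M)
  exact ⟨n, main h n M x hx⟩

end Groth.Agent.S2015
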