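import Groth.Statements.S7123
import Mathlib.LinearAlgebra.Quotient.Basic
import Mathlib.RingTheory.Ideal.Quotient.Basic
-- import your own Groth.Agent.* helpers here

set_option autoImplicit false
universe u
open CAlg

namespace Groth.Agent.S7123

open DirectSum

variable {R : Type u} [CommRing R]

noncomputable def cyc {B : Type u} [AddCommGroup B] [Module R B] (f : R) (b : B) (h : f • b = 0) :
    (R ⧸ Ideal.span {f}) →ₗ[R] B :=
  Submodule.liftQ _ (LinearMap.toSpanSingleton R B b) (by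
    intro a ha
    rw [Ideal.mem_span_singleton'] at ha
    obtain ⟨c, rfl⟩ := ha
    simp [LinearMap.mem_ker, mul_smul, h])

theorem cyc_mk {B : Type u} [AddCommGroup B] [Module R B] (f : R) (b : B) (h : f • b = 0) (r : R) :
    cyc f b h (Submodule.Quotient.mk r) = r • b := by
  unfold cyc
  rw [Submodule.liftQ_apply]
  simp [LinearMap.toSpanSingleton_apply]

theorem forward (P : Type u) [AddCommGroup P] [Module R P]
    (ι : Type u) (f : ι → R) (i : P →ₗ[R] (⨁ j, R ⧸ Ideal.span {f j}))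
    (p : (⨁ j, R ⧸ Ideal.span {f j}) →ₗ[R] P) (hpi : p ∘ₗ i = LinearMap.id)
    (B C : Type u) [AddCommGroup B] [Module R B] [AddCommGroup C] [Module R C] (π : B →ₗ[R] C)
    (hπ : Function.Surjective π)
    (hrd : ∀ (f : R) (b : B), π (f • b) = 0 → ∃ a : B, π a = 0 ∧ f • a = f • b)
    (ψ : P →ₗ[R] C) : ∃ φ : P →ₗ[R] B, π ∘ₗ φ = ψ := by
  classical
  have key : ∀ j : ι, ∃ b : B, f j • b = 0 ∧
      π b = ψ (p (DirectSum.lof R ι (fun j => R ⧸ Ideal.span {f j}) j (Submodule.Quotient.mk 1))) := by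
    intro j
    set c := ψ (p (DirectSum.lof R ι (fun j => R ⧸ Ideal.span {f j}) j (Submodule.Quotient.mk 1)))
      with hc
    have hfc : f j • c = 0 := by
      rw [hc, ← map_smul, ← map_smul, ← map_smul, ← Submodule.Quotient.mk_smul]
      have : (Submodule.Quotient.mk (f j • (1 : R)) : R ⧸ (Ideal.span {f j} : Submodule R R)) = 0 := by
        rw [Submodule.Quotient.mk_eq_zero]
        simp [Ideal.mem_span_singleton]
      rw [this]
      simp
    obtain ⟨b, hb⟩ := hπ c
    obtain ⟨a, ha0, ha⟩ := hrd (f j) b (by rw [map_smul, hb, hfc])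
    refine ⟨b - a, ?_, ?_⟩
    · rw [smul_sub, ha, sub_self]
    · rw [map_sub, ha0, sub_zero, hb]
  choose b hb0 hb using key
  let Φ : (⨁ j, R ⧸ Ideal.span {f j}) →ₗ[R] B :=
    DirectSum.toModule R ι B (fun j => cyc (f j) (b j) (hb0 j))
  have hΦ : π ∘ₗ Φ = ψ ∘ₗ p := by
    apply DirectSum.linearMap_ext
    intro j
    apply LinearMap.ext
    intro y
    obtain ⟨r, rfl⟩ := Submodule.Quotient.mk_surjective _ y
    simp only [LinearMap.comp_apply, Φ, DirectSum.toModule_lof, cyc_mk]
    rw [map_smul, hb j]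
    rw [← map_smul, ← map_smul, ← map_smul, ← Submodule.Quotient.mk_smul]
    simp
  refine ⟨Φ ∘ₗ i, ?_⟩
  rw [← LinearMap.comp_assoc, hΦ, LinearMap.comp_assoc, hpi, LinearMap.comp_id]

theorem backward (P : Type u) [AddCommGroup P] [Module R P]
    (H : ∀ (B C : Type u) [AddCommGroup B] [Module R B] [AddCommGroup C] [Module R C] (π : B →ₗ[R] C),
        Function.Surjective π →
        (∀ (f : R) (b : B), π (f • b) = 0 → ∃ a : B, π a = 0 ∧ f • a = f • b) →
        ∀ ψ : P →ₗ[R] C, ∃ φ : P →ₗ[R] B, π ∘ₗ φ = ψ) :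
    ∃ (ι : Type u) (f : ι → R) (i : P →ₗ[R] (⨁ j, R ⧸ Ideal.span {f j}))
        (p : (⨁ j, R ⧸ Ideal.span {f j}) →ₗ[R] P), p ∘ₗ i = LinearMap.id := by
  classical
  let ι : Type u := Σ f : R, {x : P // f • x = 0}
  let f : ι → R := fun j => j.1
  let π : (⨁ j, R ⧸ Ideal.span {f j}) →ₗ[R] P :=
    DirectSum.toModule R ι P (fun j => cyc (f j) j.2.1 j.2.2)
  have hπe : ∀ j : ι, π (DirectSum.lof R ι (fun j => R ⧸ Ideal.span {f j}) j
      (Submodule.Quotient.mk 1)) = j.2.1 := by
    intro j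
    simp only [π, DirectSum.toModule_lof, cyc_mk, one_smul]
  have hsurj : Function.Surjective π := by
    intro x
    exact ⟨_, hπe ⟨0, x, zero_smul R x⟩⟩
  have hrd : ∀ (g : R) (b : ⨁ j, R ⧸ Ideal.span {f j}), π (g • b) = 0 →
      ∃ a : (⨁ j, R ⧸ Ideal.span {f j}), π a = 0 ∧ g • a = g • b := by
    intro g b hgb
    rw [map_smul] at hgb
    let j : ι := ⟨g, π b, hgb⟩
    let e := DirectSum.lof R ι (fun j => R ⧸ Ideal.span {f j}) j (Submodule.Quotient.mk 1)
    have he : g • e = 0 := by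
      simp only [e]
      rw [← map_smul, ← Submodule.Quotient.mk_smul]
      have : (Submodule.Quotient.mk (g • (1 : R)) : R ⧸ (Ideal.span {f j} : Submodule R R)) = 0 := by
        rw [Submodule.Quotient.mk_eq_zero]
        simp [Ideal.mem_span_singleton, f, j]
      rw [this]
      simp
    refine ⟨b - e, ?_, ?_⟩
    · rw [map_sub, hπe j, sub_self]
    · rw [smul_sub, he, sub_zero]
  obtain ⟨φ, hφ⟩ := H _ P π hsurj hrd LinearMap.id
  exact ⟨ι, f, φ, π, hφ⟩


open DirectSum in
/-- For a module P over a ring R these two conditions are equivalent: (1) P is a retract (direct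
summand) of a direct sum of cyclic modules R/fR, f ranging over R; (2) for every surjection of
R-modules π : B → C whose kernel A satisfies fA = A ∩ fB for every f in R, each linear map P → C
lifts through π. -/
theorem result (R : Type u) [CommRing R] (P : Type u)
    [AddCommGroup P] [Module R P] :
    (∃ (ι : Type u) (f : ι → R) (i : P →ₗ[R] (⨁ j, R ⧸ Ideal.span {f j}))
        (p : (⨁ j, R ⧸ Ideal.span {f j}) →ₗ[R] P), p ∘ₗ i = LinearMap.id) ↔
      ∀ (B C : Type u) [AddCommGroup B] [Module R B] [AddCommGroup C] [Module R C] (π : B →ₗ[R] C),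
        Function.Surjective π →
        (∀ (f : R) (b : B), π (f • b) = 0 → ∃ a : B, π a = 0 ∧ f • a = f • b) →
        ∀ ψ : P →ₗ[R] C, ∃ φ : P →ₗ[R] B, π ∘ₗ φ = ψ := by
  constructor
  · rintro ⟨ι, f, i, p, hpi⟩ B C _ _ _ _ π hπ hrd ψ
    exact forward P ι f i p hpi B C π hπ hrd ψ
  · intro H
    exact backward P H

end Groth.Agent.S7123
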