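import Groth.Statements.S7120
import Mathlib.Algebra.Category.ModuleCat.Biproducts
import Mathlib.RingTheory.Ideal.IsPrincipal
import Mathlib.Algebra.Module.Projective
import Mathlib.RingTheory.Finiteness.Basic
import Mathlib.LinearAlgebra.Pi
import Mathlib.LinearAlgebra.Basis.Prod
import Mathlib.RingTheory.PrincipalIdealDomain
-- import your own Groth.Agent.* helpers here

set_option autoImplicit false
universe u
open CAlg

namespace Groth.Agent.S7120

theorem free_of_injective_fin (R : Type u) [CommRing R] [IsDomain R] [IsBezout R] :
    ∀ (n : ℕ) (M : Type u) [AddCommGroup M] [Module R M] [Module.Finite R M]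
      (ι : M →ₗ[R] (Fin n → R)), Function.Injective ι → Module.Free R M := by
  intro n
  induction n with
  | zero =>
    intro M _ _ _ ι hι
    have : Subsingleton M := hι.subsingleton
    exact Module.Free.of_subsingleton R M
  | succ n ih =>
    intro M _ _ _ ι hι
    let π : M →ₗ[R] R := LinearMap.proj 0 ∘ₗ ι
    let I : Ideal R := LinearMap.range π
    have hIfg : I.FG := by
      show (LinearMap.range π).FG
      rw [LinearMap.range_eq_map]
      exact (Module.Finite.fg_top).map π
    have hprinc : I.IsPrincipal := IsBezout.isPrincipal_of_FG I hIfg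
    have : Module.Free R I := by
      by_cases hI : I = ⊥
      · have : Subsingleton I := by rw [hI]; infer_instance
        exact Module.Free.of_subsingleton R I
      · exact Module.Free.of_equiv (Ideal.isoBaseOfIsPrincipal hI)
    let π' : M →ₗ[R] I := π.rangeRestrict
    have hπ' : Function.Surjective π' := LinearMap.surjective_rangeRestrict π
    obtain ⟨s, hs⟩ := π'.exists_rightInverse_of_surjective (LinearMap.range_eq_top.2 hπ')
    let e : (LinearMap.ker π' × I) ≃ₗ[R] M :=
      lequivProdOfRightSplitExact (j := (LinearMap.ker π').subtype) (g := π')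
        (Submodule.subtype_injective _) (by simp) hs
    have : Module.Finite R (LinearMap.ker π' × I) := Module.Finite.equiv e.symm
    have : Module.Finite R (LinearMap.ker π') :=
      Module.Finite.of_surjective (LinearMap.fst R (LinearMap.ker π') I) LinearMap.fst_surjective
    let ι' : LinearMap.ker π' →ₗ[R] (Fin n → R) :=
      (LinearMap.pi fun i => LinearMap.proj i.succ) ∘ₗ ι ∘ₗ (LinearMap.ker π').subtype
    have hι' : Function.Injective ι' := by
      intro x y hxy
      apply Subtype.ext
      apply hι
      funext i
      refine Fin.cases ?_ ?_ i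
      · have hx : π' x = 0 := x.2
        have hy : π' y = 0 := y.2
        have hx' : π x = 0 := congrArg Subtype.val hx
        have hy' : π y = 0 := congrArg Subtype.val hy
        exact hx'.trans hy'.symm
      · intro j
        exact congr_fun hxy j
    have := ih (LinearMap.ker π') ι' hι'
    exact Module.Free.of_equiv e


/-- Over a Bézout domain, a finitely generated submodule of a free module is itself free of finite rank. -/
theorem result (R : Type u) [CommRing R] [IsDomain R] [IsBezout R]
    (F : Type u) [AddCommGroup F] [Module R F] [Module.Free R F] (N : Submodule R F) (hN : N.FG) :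
    Module.Free R N ∧ Module.Finite R N := by
  classical
  have : Module.Finite R N := Module.Finite.iff_fg.mpr hN
  refine ⟨?_, inferInstance⟩
  let b := Module.Free.chooseBasis R F
  obtain ⟨S, hS⟩ := hN
  let J : Finset (Module.Free.ChooseBasisIndex R F) := S.biUnion (fun x => (b.repr x).support)
  have hsupp : N ≤ (Finsupp.supported R R (J : Set (Module.Free.ChooseBasisIndex R F))).comap
      b.repr.toLinearMap := by
    rw [← hS, Submodule.span_le]
    intro x hx
    simp only [Submodule.comap_coe, Set.mem_preimage, SetLike.mem_coe, Finsupp.mem_supported]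
    intro j hj
    simp only [J, Finset.coe_biUnion, Set.mem_iUnion]
    exact ⟨x, hx, hj⟩
  let ρ : F →ₗ[R] (J → R) := LinearMap.pi (fun j => Finsupp.lapply j.1 ∘ₗ b.repr.toLinearMap)
  let e : (J → R) ≃ₗ[R] (Fin (Fintype.card J) → R) :=
    LinearEquiv.funCongrLeft R R (Fintype.equivFin J).symm
  apply free_of_injective_fin R (Fintype.card J) N (e.toLinearMap ∘ₗ ρ ∘ₗ N.subtype)
  rw [← LinearMap.ker_eq_bot, LinearMap.ker_eq_bot']
  intro x hx
  simp only [LinearMap.comp_apply, LinearEquiv.coe_coe, EmbeddingLike.map_eq_zero_iff] at hx
  apply Subtype.ext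
  apply b.repr.injective
  rw [Submodule.coe_zero, map_zero]
  ext j
  have hmem := hsupp x.2
  simp only [Submodule.mem_comap, Finsupp.mem_supported] at hmem
  by_cases hj : j ∈ J
  · have := congr_fun hx ⟨j, hj⟩
    simpa [ρ] using this
  · have : j ∉ (b.repr x).support := fun h => hj (hmem h)
    simpa using this

end Groth.Agent.S7120
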