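import Groth.Statements.S1628
import Groth.Agent.Lib.Helper30.SmoothRegular
import Groth.Agent.S0558

set_option autoImplicit false
universe u
open CategoryTheory CategoryTheory.Limits AlgebraicGeometry
open Variety

namespace Groth.Agent.S1628

/-- If X is smooth over a field k then X is geometrically reduced over k and geometrically regular at
every point. -/
theorem result (k : Type u) [Field k] (X : Scheme.{u}) [X.Over (Spec (CommRingCat.of k))] [Smooth (X ↘ (Spec (CommRingCat.of k)))] :
    GeometricallyReduced (X ↘ (Spec (CommRingCat.of k))) ∧ ∀ x : X, Curv2.IsGeomRegularAt k X x := by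
  have hX : Smooth (X ↘ Spec (CommRingCat.of k)) := inferInstance
  constructor
  · rw [geometricallyReduced_iff]
    intro K _ y Z fst snd h
    have hsm : Smooth snd := MorphismProperty.of_isPullback (P := @Smooth) h hX
    have : ∀ z : Z, _root_.IsReduced (Z.presheaf.stalk z) := fun z => by
      have := Groth.Agent.Lib.Helper30.SmoothRegular.stalk_regular_of_smooth_field K snd z
      have := Groth.Agent.S0558.result (Z.presheaf.stalk z)
      infer_instance
    exact isReduced_of_isReduced_stalk Z
  · intro x k' _ _ _ x' _
    have hsm : Smooth (Limits.pullback.snd (X ↘ Spec (CommRingCat.of k))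
        (Spec.map (CommRingCat.ofHom (algebraMap k k')))) := inferInstance
    exact Groth.Agent.Lib.Helper30.SmoothRegular.stalk_regular_of_smooth_field k'
      (Limits.pullback.snd (X ↘ Spec (CommRingCat.of k))
        (Spec.map (CommRingCat.ofHom (algebraMap k k')))) x'

end Groth.Agent.S1628
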