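import Groth.Statements.S2082
import Groth.Agent.Lib.Helper77.CMQuot
import Groth.Agent.Lib.Helper6.LocalFlat
import Groth.Agent.Lib.Helper6.FlatRegular
import Groth.Agent.Lib.Helper76.RegularLocal
import Groth.Agent.Lib.Helper56.Serre1
import Mathlib.RingTheory.TensorProduct.Quotient

set_option autoImplicit false
universe u
open CAlg

namespace Groth.Agent.S2082

section Aux
open IsLocalRing LocCoh TensorProduct
open scoped Pointwise

open Groth.Agent.Lib.Helper77.FlatDepth Groth.Agent.Lib.Helper77.CMQuot Groth.Agent.Lib.Helper67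

theorem flat_of_maximalIdeal_eq_bot (R S : Type u) [CommRing R] [IsLocalRing R] [AddCommGroup S]
    [Module R S] (h : maximalIdeal R = ⊥) : Module.Flat R S := by
  have hF : IsField R := IsLocalRing.isField_iff_maximalIdeal_eq.mpr h
  letI := hF.toField
  infer_instance

section Step
variable (R S : Type u) [CommRing R] [CommRing S] [IsLocalRing R] [IsLocalRing S]
  [Algebra R S] [IsLocalHom (algebraMap R S)]

theorem map_ne_top (I : Ideal R) (hI : I ≠ ⊤) : I.map (algebraMap R S) ≠ ⊤ := by
  intro h
  have h1 : I ≤ maximalIdeal R := le_maximalIdeal hI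
  have h2 : I.map (algebraMap R S) ≤ maximalIdeal S :=
    (Ideal.map_mono h1).trans (map_maximalIdeal_le (A := R) (B := S))
  rw [h] at h2
  exact (maximalIdeal.isMaximal S).ne_top (top_le_iff.mp h2)

theorem quot_isLocalHom (I : Ideal R) [IsLocalRing (R ⧸ I)]
    [IsLocalRing (S ⧸ I.map (algebraMap R S))] :
    IsLocalHom (algebraMap (R ⧸ I) (S ⧸ I.map (algebraMap R S))) := by
  constructor
  intro a ha
  obtain ⟨r, rfl⟩ := Ideal.Quotient.mk_surjective a
  have h1 : algebraMap (R ⧸ I) (S ⧸ I.map (algebraMap R S)) (Ideal.Quotient.mk I r) =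
      Ideal.Quotient.mk _ (algebraMap R S r) := rfl
  rw [h1] at ha
  have hmk : IsLocalHom (Ideal.Quotient.mk (I.map (algebraMap R S))) :=
    IsLocalHom.of_surjective _ Ideal.Quotient.mk_surjective
  have h2 : IsUnit (algebraMap R S r) := hmk.map_nonunit _ ha
  have h3 : IsUnit r := (isUnit_map_iff (algebraMap R S) r).mp h2
  exact h3.map _

/-- the closed fibre of `R/I → S/IS` is the closed fibre of `R → S` -/
theorem nonempty_fibre_equiv (I : Ideal R) (hI : I ≠ ⊤) [IsLocalRing (R ⧸ I)] :
    Nonempty (((S ⧸ I.map (algebraMap R S)) ⧸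
      (maximalIdeal (R ⧸ I)).map (algebraMap (R ⧸ I) (S ⧸ I.map (algebraMap R S)))) ≃+*
      (S ⧸ (maximalIdeal R).map (algebraMap R S))) := by
  have hmax : maximalIdeal (R ⧸ I) = (maximalIdeal R).map (Ideal.Quotient.mk I) := by
    have hsurj : Function.Surjective (Ideal.Quotient.mk I) := Ideal.Quotient.mk_surjective
    have hloc : IsLocalHom (Ideal.Quotient.mk I) := IsLocalHom.of_surjective _ hsurj
    apply le_antisymm
    · intro x hx
      obtain ⟨b, rfl⟩ := hsurj x
      apply Ideal.mem_map_of_mem
      rw [mem_maximalIdeal, mem_nonunits_iff] at *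
      intro hu
      exact hx (hu.map _)
    · rw [Ideal.map_le_iff_le_comap]
      intro b hb
      rw [Ideal.mem_comap, mem_maximalIdeal, mem_nonunits_iff] at *
      intro hu
      exact hb (hloc.map_nonunit b hu)
  have h1 : (maximalIdeal (R ⧸ I)).map (algebraMap (R ⧸ I) (S ⧸ I.map (algebraMap R S))) =
      ((maximalIdeal R).map (algebraMap R S)).map (Ideal.Quotient.mk (I.map (algebraMap R S))) := by
    rw [hmax, Ideal.map_map, Ideal.map_map]
    congr 1
  have hle : I.map (algebraMap R S) ≤ (maximalIdeal R).map (algebraMap R S) :=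
    Ideal.map_mono (le_maximalIdeal hI)
  refine ⟨(Ideal.quotEquivOfEq h1).trans ((DoubleQuot.quotQuotEquivQuotSup _ _).trans
    (Ideal.quotEquivOfEq (sup_eq_right.mpr hle)))⟩

end Step

/-- Stacks 00ML for `M = S`: `x ∈ m_R` regular on `S` with `S/xS` flat over `R/xR` ⇒ `S` flat -/
theorem flat_of_flat_quot (R S : Type u) [CommRing R] [CommRing S] [IsLocalRing R] [IsLocalRing S]
    [IsNoetherianRing R] [IsNoetherianRing S] [Algebra R S] [IsLocalHom (algebraMap R S)]
    (x : R) (hx : x ∈ maximalIdeal R) (hreg : IsSMulRegular S (algebraMap R S x))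
    (hflat : Module.Flat (R ⧸ Ideal.span {x}) (S ⧸ (Ideal.span {x}).map (algebraMap R S))) :
    Module.Flat R S := by
  have hle : Ideal.span {x} ≤ maximalIdeal R := (Ideal.span_singleton_le_iff_mem _).mpr hx
  have hne : Ideal.span {x} ≠ ⊤ := fun h =>
    (maximalIdeal.isMaximal R).ne_top (top_le_iff.mp (h ▸ hle))
  have hreg' : IsSMulRegular S x := by
    intro a b hab
    apply hreg
    simpa [Algebra.smul_def] using hab
  apply Groth.Agent.Lib.Helper6.LocalFlat.flat_of_isLocalHom (S := S) (M := S) (Ideal.span {x}) hne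
  · exact Groth.Agent.Lib.Helper6.FlatRegular.rTensor_span_singleton_injective x hreg'
  · exact Module.Flat.of_linearEquiv
      (Algebra.TensorProduct.quotIdealMapEquivQuotTensor S (Ideal.span {x})).symm.toLinearEquiv

theorem main_aux (d : ℕ) : ∀ (R S : Type u) [CommRing R] [CommRing S] [IsRegularLocalRing R]
    [LocCoh.IsCohenMacaulayLocalRing S] [Algebra R S] [IsLocalHom (algebraMap R S)],
    ringKrullDim R = d →
    ringKrullDim S = ringKrullDim R +
      ringKrullDim (S ⧸ (IsLocalRing.maximalIdeal R).map (algebraMap R S)) →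
    Module.Flat R S := by
  induction d with
  | zero =>
    intro R S _ _ _ _ _ _ hd _
    apply flat_of_maximalIdeal_eq_bot
    apply Groth.Agent.Lib.Helper56.maximalIdeal_eq_bot_of_isRegularLocalRing_of_dim_eq_zero
    rw [hd]; rfl
  | succ d ih =>
    intro R S _ _ _ _ _ _ hd hdim
    have hd0 : ringKrullDim R ≠ 0 := by
      rw [hd]
      intro h
      have : ((d + 1 : ℕ) : WithBot ℕ∞) = ((0 : ℕ) : WithBot ℕ∞) := h
      have : d + 1 = 0 := by exact_mod_cast this
      omega
    obtain ⟨x, hxm, hx2, -⟩ :=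
      Groth.Agent.Lib.Helper76.exists_mem_maximalIdeal_notMem_sq_notMem_minimalPrimes R hd0
    obtain ⟨hR'reg, hR'dim⟩ :=
      Groth.Agent.Lib.Helper76.isRegularLocalRing_quotient_of_notMem_sq R x hxm hx2
    set I := Ideal.span ({x} : Set R) with hI
    have hle : I ≤ maximalIdeal R := (Ideal.span_singleton_le_iff_mem _).mpr hxm
    have hne : I ≠ ⊤ := fun h =>
      (maximalIdeal.isMaximal R).ne_top (top_le_iff.mp (h ▸ hle))
    set y := algebraMap R S x with hy
    have hym : y ∈ maximalIdeal S := map_maximalIdeal_le (A := R) (B := S)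
      (Ideal.mem_map_of_mem _ hxm)
    have hJ : I.map (algebraMap R S) = Ideal.span {y} := by
      rw [hI, Ideal.map_span, Set.image_singleton]
    have hne' : I.map (algebraMap R S) ≠ ⊤ := map_ne_top R S I hne
    have : Nontrivial (S ⧸ I.map (algebraMap R S)) := Ideal.Quotient.nontrivial_iff.mpr hne'
    have hS'loc : IsLocalRing (S ⧸ I.map (algebraMap R S)) :=
      IsLocalRing.of_surjective' (Ideal.Quotient.mk _) Ideal.Quotient.mk_surjective
    have hlh : IsLocalHom (algebraMap (R ⧸ I) (S ⧸ I.map (algebraMap R S))) :=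
      quot_isLocalHom R S I
    obtain ⟨efib⟩ := nonempty_fibre_equiv R S I hne
    have hfibdim := ringKrullDim_eq_of_ringEquiv efib
    -- dimension count
    have h1 := dim_le_add (R ⧸ I) (S ⧸ I.map (algebraMap R S))
    have h2 : ringKrullDim S ≤ ringKrullDim (S ⧸ I.map (algebraMap R S)) + 1 := by
      have := ringKrullDim_le_ringKrullDim_quotSMulTop_succ hym
      have h3 : Ideal.span {y} = y • (⊤ : Ideal S) := span_singleton_eq_smul_top S y
      rw [hJ]
      have key : ∀ (J J' : Ideal S), J = J' → ringKrullDim (S ⧸ J) = ringKrullDim (S ⧸ J') := by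
        intro J J' h; subst h; rfl
      rw [key _ _ h3]
      exact this
    obtain ⟨dR', hdR'⟩ := exists_nat_dim (R ⧸ I)
    obtain ⟨dS, hdS⟩ := exists_nat_dim S
    obtain ⟨dS', hdS'⟩ := exists_nat_dim (S ⧸ I.map (algebraMap R S))
    obtain ⟨dF, hdF⟩ := exists_nat_dim (S ⧸ (maximalIdeal R).map (algebraMap R S))
    rw [hfibdim, hdR', hdS', hdF] at h1
    rw [hdS, hdS'] at h2
    rw [hdS, hd, hdF] at hdim
    rw [hdR', hd] at hR'dim
    have e1 : dS' ≤ dR' + dF := by exact_mod_cast h1
    have e2 : dS ≤ dS' + 1 := by exact_mod_cast h2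
    have e3 : dS = d + 1 + dF := by exact_mod_cast hdim
    have e4 : dR' + 1 = d + 1 := by exact_mod_cast hR'dim
    have e5 : dS' + 1 = dS := by omega
    have e6 : dS' = dR' + dF := by omega
    -- y is S-regular
    have hyreg : IsSMulRegular S y := by
      apply isSMulRegular_of_dim S y _ hJ
      rw [hdS', hdS]
      exact_mod_cast e5
    have hS'CM : IsCohenMacaulayLocalRing (S ⧸ I.map (algebraMap R S)) :=
      isCM_quot_of_regular S y hym hyreg _ hJ
    have hflat' : Module.Flat (R ⧸ I) (S ⧸ I.map (algebraMap R S)) := by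
      apply ih (R ⧸ I) (S ⧸ I.map (algebraMap R S))
      · rw [hdR']
        have : dR' = d := by omega
        rw [this]
      · rw [hfibdim, hdR', hdS', hdF]
        exact_mod_cast e6
    exact flat_of_flat_quot R S x hxm hyreg hflat'

theorem main {R S : Type u} [CommRing R] [CommRing S] [IsRegularLocalRing R]
    [LocCoh.IsCohenMacaulayLocalRing S] [Algebra R S] [IsLocalHom (algebraMap R S)]
    (hdim : ringKrullDim S = ringKrullDim R +
      ringKrullDim (S ⧸ (IsLocalRing.maximalIdeal R).map (algebraMap R S))) :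
    Module.Flat R S := by
  obtain ⟨d, hd⟩ := exists_nat_dim R
  exact main_aux d R S hd hdim


end Aux

/-- Take a local homomorphism `R → S` between Noetherian local rings, where `R` is regular, `S` is
Cohen–Macaulay, and `dim S = dim R + dim (S/𝔪_R S)`. Then `S` is flat over `R`. -/
theorem result {R S : Type u} [CommRing R] [CommRing S] [IsRegularLocalRing R]
    [LocCoh.IsCohenMacaulayLocalRing S] [Algebra R S] [IsLocalHom (algebraMap R S)]
    (hdim : ringKrullDim S = ringKrullDim R +
      ringKrullDim (S ⧸ (IsLocalRing.maximalIdeal R).map (algebraMap R S))) :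
    Module.Flat R S := by
  exact main hdim

end Groth.Agent.S2082
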