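import Groth.Statements.S9829
import Groth.Agent.S0601
import Groth.Agent.Lib.Helper77.RegularLocalization
import Groth.Agent.Lib.Helper56.DepthAss
import Groth.Agent.Lib.Helper67.Depth
import Mathlib.RingTheory.IntegralClosure.IntegrallyClosed

set_option autoImplicit false
universe u
open CAlg

namespace Groth.Agent.S9829

section Aux
open IsLocalRing
/-- a regular local ring is Cohen–Macaulay: `dim B ≤ depth B` -/
theorem dim_le_depth (B : Type u) [CommRing B] [IsRegularLocalRing B] :
    ringKrullDim B ≤ ((LocCoh.depth B B : ℕ∞) : WithBot ℕ∞) := by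
  obtain ⟨d, hd⟩ : ∃ d : ℕ, ringKrullDim B = d := by
    have hd' : ringKrullDim B ≠ ⊥ := ringKrullDim_ne_bot
    have hd'' : ringKrullDim B ≠ ⊤ := ringKrullDim_ne_top
    cases h : ringKrullDim B with
    | bot => exact absurd h hd'
    | coe a =>
      cases a with
      | top => exact absurd h hd''
      | coe n => exact ⟨n, rfl⟩
  obtain ⟨x, hx⟩ := Groth.Agent.Lib.Helper76.exists_fin_span_range_eq_maximalIdeal B d hd
  have hreg := Groth.Agent.Lib.Helper76.isRegular_of_span_range_eq_maximalIdeal B d hd x hx
  have hmem : ∀ r ∈ List.ofFn x, r ∈ maximalIdeal B := by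
    intro r hr
    obtain ⟨i, rfl⟩ := (List.mem_ofFn' x r).mp hr
    rw [← hx]; exact Ideal.subset_span ⟨i, rfl⟩
  have h1 := Groth.Agent.Lib.Helper67.length_le_idealDepth (maximalIdeal B) B (List.ofFn x)
    hreg.toIsWeaklyRegular hmem
  rw [List.length_ofFn] at h1
  rw [hd]
  unfold LocCoh.depth
  exact_mod_cast h1

theorem main (A : Type u) [CommRing A] [IsRegularLocalRing A] :
    IsIntegrallyClosed A := by
  have hR1 : LocCoh.HasRk 1 A := fun p _ _ =>
    Groth.Agent.Lib.Helper77.RegularLocalization.localization_regular A p
  have hS2 : LocCoh.HasSk 2 A A := by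
    intro p _
    have := Groth.Agent.Lib.Helper77.RegularLocalization.localization_regular A p
    rw [Groth.Agent.Lib.Helper56.depth_localizedModule_self,
      Groth.Agent.Lib.Helper56.supportDim_localizedModule_self,
      Module.supportDim_self_eq_ringKrullDim]
    exact le_trans (min_le_right _ _) (dim_le_depth _)
  have h := (Groth.Agent.S0601.result A).mpr ⟨hR1, hS2⟩ (maximalIdeal A)
  have : IsIntegrallyClosed (Localization.AtPrime (maximalIdeal A)) := h.2
  let e : A ≃ₐ[A] (Localization.AtPrime (maximalIdeal A)) :=
    IsLocalization.atUnits A (maximalIdeal A).primeCompl (fun x ↦ by simpa using! fun a ↦ a)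
  exact IsIntegrallyClosed.of_equiv e.symm.toRingEquiv
end Aux

/-- A regular local ring is an integrally closed domain. Hence a scheme all of whose local rings are
regular is normal. -/
theorem result (A : Type u) [CommRing A] [IsRegularLocalRing A] :
    IsIntegrallyClosed A := by
  exact main A

end Groth.Agent.S9829
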