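import Groth.Statements.S0515
import Groth.Agent.Lib.Helper87.HensNormal

set_option autoImplicit false
universe u
open Hensel

namespace Groth.Agent.S0515

/-- A local ring is an integrally closed domain exactly when its henselization is. -/
theorem result (R : Type u) [CommRing R] [IsLocalRing R] (S : Type u) [CommRing S] [IsLocalRing S]
    [Algebra R S] [IsLocalHom (algebraMap R S)] [Hensel.IsHenselization R S] :
    (IsDomain R ∧ IsIntegrallyClosed R) ↔ (IsDomain S ∧ IsIntegrallyClosed S) := by
  constructor
  · rintro ⟨hd, hic⟩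
    obtain ⟨e⟩ := Groth.Agent.Lib.Helper87.Hens.nonempty_algEquiv_Hh R S
    haveI : IsDomain (Groth.Agent.Lib.Helper87.Hens.Hh R) := Groth.Agent.Lib.Helper87.Hens.H.isDomain
    haveI : IsIntegrallyClosed (Groth.Agent.Lib.Helper87.Hens.Hh R) := Groth.Agent.Lib.Helper87.Hens.H.isIntegrallyClosed
    exact Groth.Agent.Lib.Helper87.NormalDvd.isDomain_and_isIntegrallyClosed_of_ringEquiv e.symm.toRingEquiv
  · rintro ⟨hd, hic⟩
    haveI := Groth.Agent.Lib.Helper87.Hens.faithfullyFlat_of_isHenselization R S
    exact Groth.Agent.Lib.Helper87.NormalDvd.isDomain_and_isIntegrallyClosed_of_faithfullyFlat R S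

end Groth.Agent.S0515
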