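import Groth.Statements.S9237
import Groth.Agent.Lib.Helper87.BranchCount

set_option autoImplicit false
universe u
open Brnch

namespace Groth.Agent.S9237

/-- Let A be a local ring and S a henselization of A. Then the number of minimal prime ideals of S, a
natural number or infinity, equals the number of branches of A as computed from the integral closure
of A_red in its total ring of fractions: infinity if A has infinitely many minimal primes, and
otherwise the number of maximal ideals of that integral closure. -/
theorem result (A S : Type u) [CommRing A]
    [IsLocalRing A] [CommRing S] [IsLocalRing S] [Algebra A S] [IsLocalHom (algebraMap A S)]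
    [Hensel.IsHenselization A S] :
    ENat.card (minimalPrimes S) = Brnch.numBranches A := by
  haveI : HenselianLocalRing S := Hensel.IsHenselization.henselian (R := A)
  haveI : Module.FaithfullyFlat A S :=
    Groth.Agent.Lib.Helper87.Hens.faithfullyFlat_of_isHenselization A S
  unfold Brnch.numBranches
  split_ifs with hfin
  · have hpres : Groth.Agent.Lib.Helper87.IndEt.HasPres A S := by
      obtain ⟨e⟩ := Groth.Agent.Lib.Helper87.Hens.nonempty_algEquiv_Hh A S
      exact Groth.Agent.Lib.Helper87.IndEt.exists_filtered_colimit_of_equiv e.symm
        Groth.Agent.Lib.Helper87.Hens.H.exists_filtered_colimit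
    rw [Groth.Agent.Lib.Helper87.BranchCount.card_minimalPrimes_eq_tensor A S,
      Groth.Agent.Lib.Helper87.BranchCount.card_minimalPrimes_tensor_eq A S hfin hpres,
      Groth.Agent.Lib.Helper87.BranchCount.card_maximalSpectrum_tensor_eq A S (CAlg2.normRed A)]
  · haveI := Groth.Agent.Lib.Helper87.BranchCount.infinite_minimalPrimes_of_faithfullyFlat A S hfin
    exact ENat.card_eq_top_of_infinite

end Groth.Agent.S9237
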