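import Groth.Statements.S9459
import Mathlib

set_option autoImplicit false
universe u
open Hensel

namespace Groth.Agent.S9459

open TensorProduct

/-- General formal lemma: if `(Sh, ψ)` satisfies the universal property of the henselization
of `T`, any henselization `E` of `T` is isomorphic to `Sh` compatibly. -/
theorem equiv_of_universal (T Sh E : Type u) [CommRing T] [IsLocalRing T] [CommRing Sh]
    [hSh : HenselianLocalRing Sh] (ψ : T →+* Sh) (hψ : IsLocalHom ψ)
    (UP : ∀ (H : Type u) [CommRing H] [HenselianLocalRing H] (f : T →+* H), IsLocalHom f →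
      ∃! g : Sh →+* H, g.comp ψ = f)
    [CommRing E] [IsLocalRing E] [Algebra T E] [IsLocalHom (algebraMap T E)]
    [hE : Hensel.IsHenselization T E] :
    ∃ e : E ≃+* Sh, ∀ x : T, e (algebraMap T E x) = ψ x := by
  have : HenselianLocalRing E := hE.henselian
  obtain ⟨e₀, he₀, -⟩ := hE.universal Sh ψ hψ
  obtain ⟨g₀, hg₀, -⟩ := UP E (algebraMap T E) inferInstance
  have h1 : e₀.comp g₀ = RingHom.id Sh := by
    obtain ⟨g, -, hg⟩ := UP Sh ψ hψ
    rw [hg (e₀.comp g₀) (by change (e₀.comp g₀).comp ψ = ψ; rw [RingHom.comp_assoc, hg₀, he₀]), hg (RingHom.id Sh) (by change (RingHom.id Sh).comp ψ = ψ; simp)]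
  have h2 : g₀.comp e₀ = RingHom.id E := by
    obtain ⟨g, -, hg⟩ := hE.universal E (algebraMap T E) inferInstance
    rw [hg (g₀.comp e₀) (by change (g₀.comp e₀).comp (algebraMap T E) = algebraMap T E; rw [RingHom.comp_assoc, he₀, hg₀]), hg (RingHom.id E) (by change (RingHom.id E).comp (algebraMap T E) = algebraMap T E; simp)]
  refine ⟨RingEquiv.ofRingHom e₀ g₀ h1 h2, ?_⟩
  intro x
  change e₀ (algebraMap T E x) = ψ x
  rw [← RingHom.comp_apply, he₀]

theorem tensor_ringHom_ext {R A B C : Type*} [CommRing R] [CommRing A] [CommRing B] [Algebra R A]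
    [Algebra R B] [CommRing C] (F G : A ⊗[R] B →+* C) (h1 : ∀ a, F (a ⊗ₜ 1) = G (a ⊗ₜ 1))
    (h2 : ∀ b, F (1 ⊗ₜ b) = G (1 ⊗ₜ b)) : F = G := by
  refine RingHom.ext fun x => ?_
  induction x using TensorProduct.induction_on with
  | zero => simp
  | tmul a b =>
    have : a ⊗ₜ[R] b = (a ⊗ₜ 1) * (1 ⊗ₜ b) := by simp
    rw [this, map_mul, map_mul, h1, h2]
  | add x y hx hy => rw [map_add, map_add, hx, hy]

section ctx
variable (R : Type u) [CommRing R] (S : Type u)
    [CommRing S] [Algebra R S] (p : Ideal R) [p.IsPrime] (q : Ideal S) [q.IsPrime] [q.LiesOver p]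
    (Rh : Type u) [CommRing Rh] [IsLocalRing Rh] [Algebra (Localization.AtPrime p) Rh]
    [IsLocalHom (algebraMap (Localization.AtPrime p) Rh)]
    [Hensel.IsHenselization (Localization.AtPrime p) Rh] [Algebra R Rh]
    [IsScalarTower R (Localization.AtPrime p) Rh]
    (Sh : Type u) [CommRing Sh] [IsLocalRing Sh] [Algebra (Localization.AtPrime q) Sh]
    [IsLocalHom (algebraMap (Localization.AtPrime q) Sh)]
    [Hensel.IsHenselization (Localization.AtPrime q) Sh] [Algebra S Sh]
    [IsScalarTower S (Localization.AtPrime q) Sh] [Algebra R Sh] [IsScalarTower R S Sh]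
    [Algebra Rh Sh] [IsScalarTower R Rh Sh]

/-- the map `φ : Rh ⊗[R] S → Sh` -/
noncomputable abbrev phi : Rh ⊗[R] S →ₐ[R] Sh :=
  Algebra.TensorProduct.lift (IsScalarTower.toAlgHom R Rh Sh) (IsScalarTower.toAlgHom R S Sh)
    (fun _ _ => Commute.all _ _)

/-- the prime `Q` -/
noncomputable abbrev QQ : Ideal (Rh ⊗[R] S) := Ideal.comap (phi R S Rh Sh) (IsLocalRing.maximalIdeal Sh)

theorem isUnit_phi (y : (QQ R S Rh Sh).primeCompl) : IsUnit ((phi R S Rh Sh : Rh ⊗[R] S →+* Sh) y) := by
  have := y.2
  by_contra h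
  exact this ((IsLocalRing.mem_maximalIdeal _).mpr h)

/-- the induced map `ψ : T → Sh` -/
noncomputable def psi : Localization.AtPrime (QQ R S Rh Sh) →+* Sh :=
  IsLocalization.lift (M := (QQ R S Rh Sh).primeCompl) (g := (phi R S Rh Sh : Rh ⊗[R] S →+* Sh))
    (isUnit_phi R S Rh Sh)

theorem psi_algebraMap (d : Rh ⊗[R] S) :
    psi R S Rh Sh (algebraMap _ _ d) = phi R S Rh Sh d := by
  simp [psi]

theorem psi_comp : (psi R S Rh Sh).comp (algebraMap (Rh ⊗[R] S) (Localization.AtPrime (QQ R S Rh Sh))) =
    (phi R S Rh Sh : Rh ⊗[R] S →+* Sh) := by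
  exact RingHom.ext fun d => psi_algebraMap R S Rh Sh d

theorem isLocalHom_psi : IsLocalHom (psi R S Rh Sh) := by
  constructor
  intro x hx
  obtain ⟨w, s, rfl⟩ := IsLocalization.exists_mk'_eq (QQ R S Rh Sh).primeCompl x
  have h1 : psi R S Rh Sh (IsLocalization.mk' _ w s) * phi R S Rh Sh s = phi R S Rh Sh w := by
    rw [← psi_algebraMap, ← psi_algebraMap, ← map_mul, IsLocalization.mk'_spec]
  have h2 : IsUnit (phi R S Rh Sh w) := by
    rw [← h1]; exact hx.mul (isUnit_phi R S Rh Sh s)
  have h3 : w ∈ (QQ R S Rh Sh).primeCompl := by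
    intro hw
    exact ((IsLocalRing.mem_maximalIdeal _).mp hw) h2
  have h4 : IsUnit (algebraMap (Rh ⊗[R] S) (Localization.AtPrime (QQ R S Rh Sh)) w) :=
    IsLocalization.map_units _ (⟨w, h3⟩ : (QQ R S Rh Sh).primeCompl)
  have h5 : IsLocalization.mk' (Localization.AtPrime (QQ R S Rh Sh)) w s * algebraMap _ _ (s : Rh ⊗[R] S) = algebraMap _ _ w := IsLocalization.mk'_spec _ _ _
  exact isUnit_of_mul_isUnit_left (h5 ▸ h4)

include p q in
theorem UP (H : Type u) [CommRing H] [HenselianLocalRing H]
    (f : Localization.AtPrime (QQ R S Rh Sh) →+* H) (hf : IsLocalHom f) :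
    ∃! g : Sh →+* H, g.comp (psi R S Rh Sh) = f := by
  have hShhens : Hensel.IsHenselization (Localization.AtPrime q) Sh := inferInstance
  have hRhhens : Hensel.IsHenselization (Localization.AtPrime p) Rh := inferInstance
  let σ : S →+* Localization.AtPrime (QQ R S Rh Sh) :=
    (algebraMap (Rh ⊗[R] S) (Localization.AtPrime (QQ R S Rh Sh))).comp
      (Algebra.TensorProduct.includeRight : S →ₐ[R] Rh ⊗[R] S).toRingHom
  have hσ : ∀ s : S, σ s = algebraMap (Rh ⊗[R] S) (Localization.AtPrime (QQ R S Rh Sh)) (1 ⊗ₜ s) :=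
    fun s => rfl
  have hφσ : ∀ s : S, phi R S Rh Sh (1 ⊗ₜ s) = algebraMap S Sh s := by intro s; simp [phi]
  have hφl : ∀ a : Rh, phi R S Rh Sh (a ⊗ₜ 1) = algebraMap Rh Sh a := by intro a; simp [phi]
  have hunit : ∀ s : S, IsUnit (f (σ s)) ↔ s ∉ q := by
    intro s
    constructor
    · intro h
      have h1 : IsUnit (σ s) := hf.map_nonunit _ h
      have h2 : (1 : Rh) ⊗ₜ[R] s ∈ (QQ R S Rh Sh).primeCompl :=
        (IsLocalization.AtPrime.isUnit_to_map_iff (Localization.AtPrime (QQ R S Rh Sh))
          (QQ R S Rh Sh) _).mp h1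
      have h3 : IsUnit (algebraMap S Sh s) := by
        rw [← hφσ]
        by_contra hn; exact h2 ((IsLocalRing.mem_maximalIdeal _).mpr hn)
      rw [IsScalarTower.algebraMap_apply S (Localization.AtPrime q) Sh] at h3
      have h4 : IsUnit (algebraMap S (Localization.AtPrime q) s) := isUnit_of_map_unit _ _ h3
      exact (IsLocalization.AtPrime.isUnit_to_map_iff (Localization.AtPrime q) q s).mp h4
    · intro hs
      have h4 : IsUnit (algebraMap S (Localization.AtPrime q) s) :=
        (IsLocalization.AtPrime.isUnit_to_map_iff (Localization.AtPrime q) q s).mpr hs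
      have h3 : IsUnit (algebraMap S Sh s) := by
        rw [IsScalarTower.algebraMap_apply S (Localization.AtPrime q) Sh]; exact h4.map _
      have h2 : (1 : Rh) ⊗ₜ[R] s ∈ (QQ R S Rh Sh).primeCompl := by
        intro hmem
        rw [← hφσ] at h3
        exact ((IsLocalRing.mem_maximalIdeal _).mp hmem) h3
      exact ((IsLocalization.map_units (Localization.AtPrime (QQ R S Rh Sh))
        (⟨_, h2⟩ : (QQ R S Rh Sh).primeCompl)).map f)
  let fq : Localization.AtPrime q →+* H :=
    IsLocalization.lift (M := q.primeCompl) (g := f.comp σ) (fun y => (hunit y).mpr y.2)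
  have hfq : ∀ s : S, fq (algebraMap S _ s) = f (σ s) := by
    intro s; simp [fq]
  have hfq_local : IsLocalHom fq := by
    constructor
    intro x hx
    obtain ⟨s, t, rfl⟩ := IsLocalization.exists_mk'_eq q.primeCompl x
    have h1 : fq (IsLocalization.mk' _ s t) * f (σ t) = f (σ s) := by
      rw [← hfq, ← hfq, ← map_mul, IsLocalization.mk'_spec]
    have h2 : IsUnit (f (σ s)) := by
      rw [← h1]; exact hx.mul ((hunit t).mpr t.2)
    have h3 : s ∉ q := (hunit s).mp h2
    have h4 : IsUnit (algebraMap S (Localization.AtPrime q) s) :=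
      (IsLocalization.AtPrime.isUnit_to_map_iff (Localization.AtPrime q) q s).mpr h3
    have h5 : IsLocalization.mk' (Localization.AtPrime q) s t * algebraMap _ _ (t : S) =
      algebraMap _ _ s := IsLocalization.mk'_spec _ _ _
    exact isUnit_of_mul_isUnit_left (h5 ▸ h4)
  obtain ⟨g, hg, hguniq⟩ := hShhens.universal H fq hfq_local
  have hgS : ∀ s : S, g (algebraMap S Sh s) = f (σ s) := by
    intro s
    rw [IsScalarTower.algebraMap_apply S (Localization.AtPrime q) Sh, ← hfq, ← hg]
    rfl
  -- the two maps Rh → H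
  let g₁ : Rh →+* H := g.comp (algebraMap Rh Sh)
  let g₂ : Rh →+* H := (f.comp (algebraMap (Rh ⊗[R] S) (Localization.AtPrime (QQ R S Rh Sh)))).comp
    (Algebra.TensorProduct.includeLeft : Rh →ₐ[R] Rh ⊗[R] S).toRingHom
  have hR : ∀ r : R, g₁ (algebraMap R Rh r) = f (σ (algebraMap R S r)) := by
    intro r
    change g (algebraMap Rh Sh (algebraMap R Rh r)) = _
    rw [← IsScalarTower.algebraMap_apply R Rh Sh, IsScalarTower.algebraMap_apply R S Sh, hgS]
  have hR2 : ∀ r : R, g₂ (algebraMap R Rh r) = f (σ (algebraMap R S r)) := by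
    intro r
    change f (algebraMap (Rh ⊗[R] S) _ ((algebraMap R Rh r) ⊗ₜ[R] (1 : S))) = _
    rw [hσ]
    congr 2
    rw [Algebra.algebraMap_eq_smul_one, Algebra.algebraMap_eq_smul_one, TensorProduct.smul_tmul]
  have h12 : g₁.comp (algebraMap (Localization.AtPrime p) Rh) =
      g₂.comp (algebraMap (Localization.AtPrime p) Rh) := by
    apply IsLocalization.ringHom_ext p.primeCompl
    ext r
    simp only [RingHom.comp_apply]
    rw [← IsScalarTower.algebraMap_apply R (Localization.AtPrime p) Rh, hR, hR2]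
  have hfp_local : IsLocalHom (g₂.comp (algebraMap (Localization.AtPrime p) Rh)) := by
    constructor
    intro x hx
    obtain ⟨r, t, rfl⟩ := IsLocalization.exists_mk'_eq p.primeCompl x
    have hval : ∀ r : R, (g₂.comp (algebraMap (Localization.AtPrime p) Rh)) (algebraMap R _ r) =
        f (σ (algebraMap R S r)) := by
      intro r
      simp only [RingHom.comp_apply]
      rw [← IsScalarTower.algebraMap_apply R (Localization.AtPrime p) Rh, hR2]
    have h1 : (g₂.comp (algebraMap (Localization.AtPrime p) Rh)) (IsLocalization.mk' _ r t) *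
        f (σ (algebraMap R S t)) = f (σ (algebraMap R S r)) := by
      rw [← hval, ← hval, ← map_mul, IsLocalization.mk'_spec]
    have hpq : p = q.comap (algebraMap R S) := Ideal.LiesOver.over (P := q) (p := p)
    have htq : algebraMap R S (t : R) ∉ q := by
      intro hmem
      have : (t : R) ∈ q.comap (algebraMap R S) := hmem
      rw [← hpq] at this
      exact t.2 this
    have h2 : IsUnit (f (σ (algebraMap R S r))) := by
      rw [← h1]; exact hx.mul ((hunit _).mpr htq)
    have h3 : algebraMap R S r ∉ q := (hunit _).mp h2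
    have h3' : r ∉ p := by
      intro hmem
      apply h3
      rw [hpq] at hmem
      exact hmem
    have h4 : IsUnit (algebraMap R (Localization.AtPrime p) r) :=
      (IsLocalization.AtPrime.isUnit_to_map_iff (Localization.AtPrime p) p r).mpr h3'
    have h5 : IsLocalization.mk' (Localization.AtPrime p) r t * algebraMap _ _ (t : R) =
      algebraMap _ _ r := IsLocalization.mk'_spec _ _ _
    exact isUnit_of_mul_isUnit_left (h5 ▸ h4)
  have hg12 : g₁ = g₂ := by
    obtain ⟨g', -, huniq'⟩ := hRhhens.universal H _ hfp_local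
    rw [huniq' g₁ h12, huniq' g₂ rfl]
  have hgψ : g.comp (psi R S Rh Sh) = f := by
    apply IsLocalization.ringHom_ext (QQ R S Rh Sh).primeCompl
    rw [RingHom.comp_assoc, psi_comp]
    apply tensor_ringHom_ext
    · intro a
      have := congrArg (fun h => h a) hg12
      simp only [RingHom.comp_apply]
      change g (phi R S Rh Sh (a ⊗ₜ 1)) = _
      rw [hφl]
      exact this
    · intro s
      simp only [RingHom.comp_apply]
      change g (phi R S Rh Sh (1 ⊗ₜ s)) = f (σ s)
      rw [hφσ, hgS]
  refine ⟨g, hgψ, ?_⟩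
  intro g' hg'
  apply hguniq
  apply IsLocalization.ringHom_ext q.primeCompl
  ext s
  simp only [RingHom.comp_apply]
  rw [hfq, ← IsScalarTower.algebraMap_apply S (Localization.AtPrime q) Sh, ← hφσ, ← psi_algebraMap,
    ← RingHom.comp_apply, hg']
  rfl

end ctx


open TensorProduct in
/-- Let R → S be a ring map, q a prime of S over p, and R^h, S^h henselizations of R_p and S_q, S^h
carrying the compatible R^h-algebra structure (the canonical map R^h → S^h). Let φ : R^h ⊗_R S → S^h
be the induced map and Q the preimage under φ of the maximal ideal (a prime lying over the maximal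
ideal of R^h and over q). Then S^h is a henselization of the local ring (R^h ⊗_R S)_Q: for every
henselization E of (R^h ⊗_R S)_Q there is a ring isomorphism E ≅ S^h compatible with the two maps
from R^h ⊗_R S. -/
theorem result (R : Type u) [CommRing R] (S : Type u)
    [CommRing S] [Algebra R S] (p : Ideal R) [p.IsPrime] (q : Ideal S) [q.IsPrime] [q.LiesOver p]
    (Rh : Type u) [CommRing Rh] [IsLocalRing Rh] [Algebra (Localization.AtPrime p) Rh]
    [IsLocalHom (algebraMap (Localization.AtPrime p) Rh)]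
    [Hensel.IsHenselization (Localization.AtPrime p) Rh] [Algebra R Rh]
    [IsScalarTower R (Localization.AtPrime p) Rh]
    (Sh : Type u) [CommRing Sh] [IsLocalRing Sh] [Algebra (Localization.AtPrime q) Sh]
    [IsLocalHom (algebraMap (Localization.AtPrime q) Sh)]
    [Hensel.IsHenselization (Localization.AtPrime q) Sh] [Algebra S Sh]
    [IsScalarTower S (Localization.AtPrime q) Sh] [Algebra R Sh] [IsScalarTower R S Sh]
    [Algebra Rh Sh] [IsScalarTower R Rh Sh]
    (E : Type u) [CommRing E] [IsLocalRing E]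
    [Algebra (Localization.AtPrime (Ideal.comap (Algebra.TensorProduct.lift (IsScalarTower.toAlgHom R Rh Sh) (IsScalarTower.toAlgHom R S Sh)
          (fun _ _ => Commute.all _ _)) (IsLocalRing.maximalIdeal Sh))) E]
    [IsLocalHom (algebraMap (Localization.AtPrime
      (Ideal.comap (Algebra.TensorProduct.lift (IsScalarTower.toAlgHom R Rh Sh) (IsScalarTower.toAlgHom R S Sh)
          (fun _ _ => Commute.all _ _)) (IsLocalRing.maximalIdeal Sh))) E)]
    [Hensel.IsHenselization (Localization.AtPrime
      (Ideal.comap (Algebra.TensorProduct.lift (IsScalarTower.toAlgHom R Rh Sh) (IsScalarTower.toAlgHom R S Sh)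
          (fun _ _ => Commute.all _ _)) (IsLocalRing.maximalIdeal Sh))) E] :
    ∃ e : E ≃+* Sh, ∀ d : Rh ⊗[R] S,
      e (algebraMap (Localization.AtPrime
        (Ideal.comap (Algebra.TensorProduct.lift (IsScalarTower.toAlgHom R Rh Sh) (IsScalarTower.toAlgHom R S Sh)
          (fun _ _ => Commute.all _ _)) (IsLocalRing.maximalIdeal Sh))) E
        (algebraMap (Rh ⊗[R] S) _ d)) = (Algebra.TensorProduct.lift (IsScalarTower.toAlgHom R Rh Sh) (IsScalarTower.toAlgHom R S Sh)
          (fun _ _ => Commute.all _ _)) d := by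
  have hSh : HenselianLocalRing Sh :=
    (inferInstance : Hensel.IsHenselization (Localization.AtPrime q) Sh).henselian
  obtain ⟨e, he⟩ := equiv_of_universal (Localization.AtPrime (QQ R S Rh Sh)) Sh E
    (psi R S Rh Sh) (isLocalHom_psi R S Rh Sh) (fun H _ _ f hf => UP R S p q Rh Sh H f hf)
  exact ⟨e, fun d => by rw [he, psi_algebraMap]⟩

end Groth.Agent.S9459
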