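import Groth.Statements.S9460
import Groth.Agent.S9459
import Groth.Agent.Lib.Helper87.HensStrictProps

set_option autoImplicit false
universe u
open Hensel

namespace Groth.Agent.S9460

open TensorProduct IsLocalRing Groth.Agent.S9459

section ctx
variable (R : Type u) [CommRing R] (S : Type u)
    [CommRing S] [Algebra R S] (p : Ideal R) [p.IsPrime] (q : Ideal S) [q.IsPrime] [q.LiesOver p]
    (Rh : Type u) [CommRing Rh] [IsLocalRing Rh] [Algebra (Localization.AtPrime p) Rh]
    [IsLocalHom (algebraMap (Localization.AtPrime p) Rh)]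
    [Hensel.IsStrictHenselization (Localization.AtPrime p) Rh] [Algebra R Rh]
    [IsScalarTower R (Localization.AtPrime p) Rh]
    (Sh : Type u) [CommRing Sh] [IsLocalRing Sh] [Algebra (Localization.AtPrime q) Sh]
    [IsLocalHom (algebraMap (Localization.AtPrime q) Sh)]
    [Hensel.IsStrictHenselization (Localization.AtPrime q) Sh] [Algebra S Sh]
    [IsScalarTower S (Localization.AtPrime q) Sh] [Algebra R Sh] [IsScalarTower R S Sh]
    [Algebra Rh Sh] [IsScalarTower R Rh Sh]

/-- `σ : S → T` -/
noncomputable def sigma : S →+* Localization.AtPrime (QQ R S Rh Sh) :=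
  (algebraMap (Rh ⊗[R] S) (Localization.AtPrime (QQ R S Rh Sh))).comp
    (Algebra.TensorProduct.includeRight : S →ₐ[R] Rh ⊗[R] S).toRingHom

theorem phi_right (s : S) : phi R S Rh Sh ((1 : Rh) ⊗ₜ[R] s) = algebraMap S Sh s := by simp [phi]

theorem phi_left (a : Rh) : phi R S Rh Sh (a ⊗ₜ[R] (1 : S)) = algebraMap Rh Sh a := by simp [phi]

theorem psi_sigma (s : S) : psi R S Rh Sh (sigma R S Rh Sh s) = algebraMap S Sh s := by
  change psi R S Rh Sh (algebraMap _ _ ((1 : Rh) ⊗ₜ[R] s)) = _
  rw [psi_algebraMap, phi_right R S Rh Sh]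

theorem isUnit_sigma_iff (s : S) : IsUnit (sigma R S Rh Sh s) ↔ s ∉ q := by
  haveI hψ := isLocalHom_psi R S Rh Sh
  constructor
  · intro h
    have h3 : IsUnit (algebraMap S Sh s) := by rw [← psi_sigma R S Rh Sh]; exact h.map _
    rw [IsScalarTower.algebraMap_apply S (Localization.AtPrime q) Sh] at h3
    have h4 : IsUnit (algebraMap S (Localization.AtPrime q) s) := isUnit_of_map_unit _ _ h3
    exact (IsLocalization.AtPrime.isUnit_to_map_iff (Localization.AtPrime q) q s).mp h4
  · intro hs
    have h4 : IsUnit (algebraMap S (Localization.AtPrime q) s) :=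
      (IsLocalization.AtPrime.isUnit_to_map_iff (Localization.AtPrime q) q s).mpr hs
    have h3 : IsUnit (algebraMap S Sh s) := by
      rw [IsScalarTower.algebraMap_apply S (Localization.AtPrime q) Sh]; exact h4.map _
    rw [← psi_sigma R S Rh Sh] at h3
    exact isUnit_of_map_unit (psi R S Rh Sh) _ h3

/-- `ι : S_q → T` -/
noncomputable def iota : Localization.AtPrime q →+* Localization.AtPrime (QQ R S Rh Sh) :=
  IsLocalization.lift (M := q.primeCompl) (g := sigma R S Rh Sh)
    (fun y => (isUnit_sigma_iff R S q Rh Sh y).mpr y.2)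

theorem iota_algebraMap (s : S) :
    iota R S q Rh Sh (algebraMap S _ s) = sigma R S Rh Sh s := by
  simp [iota]

theorem psi_iota : (psi R S Rh Sh).comp (iota R S q Rh Sh) =
    algebraMap (Localization.AtPrime q) Sh := by
  apply IsLocalization.ringHom_ext q.primeCompl
  ext s
  simp only [RingHom.comp_apply]
  rw [iota_algebraMap, psi_sigma, ← IsScalarTower.algebraMap_apply]

theorem psi_iota_apply (x : Localization.AtPrime q) :
    psi R S Rh Sh (iota R S q Rh Sh x) = algebraMap (Localization.AtPrime q) Sh x := by
  rw [← psi_iota R S q Rh Sh]; rfl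

theorem isLocalHom_iota : IsLocalHom (iota R S q Rh Sh) := by
  constructor
  intro x hx
  have : IsUnit (algebraMap (Localization.AtPrime q) Sh x) := by
    rw [← psi_iota_apply R S q Rh Sh]; exact hx.map _
  exact isUnit_of_map_unit _ _ this

include p q in
theorem isLocalHom_Rh_Sh : IsLocalHom (algebraMap Rh Sh) := by
  constructor
  intro a ha
  by_contra hna
  have hmem : a ∈ maximalIdeal Rh := (mem_maximalIdeal a).mpr hna
  rw [← Groth.Agent.Lib.Helper87.Hens.map_maximalIdeal_of_isStrictHenselization
    (Localization.AtPrime p) Rh, ← Localization.AtPrime.map_eq_maximalIdeal, Ideal.map_map,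
    ← IsScalarTower.algebraMap_eq] at hmem
  have hle : p.map (algebraMap R Rh) ≤ (maximalIdeal Sh).comap (algebraMap Rh Sh) := by
    rw [Ideal.map_le_iff_le_comap]
    intro r hr
    rw [Ideal.mem_comap, Ideal.mem_comap, ← IsScalarTower.algebraMap_apply R Rh Sh,
      IsScalarTower.algebraMap_apply R S Sh,
      IsScalarTower.algebraMap_apply S (Localization.AtPrime q) Sh]
    have hq : algebraMap R S r ∈ q := by
      have hpq : p = q.comap (algebraMap R S) := Ideal.LiesOver.over (P := q) (p := p)
      rw [hpq] at hr; exact hr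
    have h1 : algebraMap S (Localization.AtPrime q) (algebraMap R S r) ∈
        maximalIdeal (Localization.AtPrime q) :=
      (IsLocalization.AtPrime.to_map_mem_maximal_iff _ q _).mpr hq
    rw [mem_maximalIdeal] at h1 ⊢
    intro hu
    exact h1 (isUnit_of_map_unit _ _ hu)
  have := hle hmem
  exact (mem_maximalIdeal _).mp this ha

include p q in
theorem strictHens :
    letI : Algebra (Localization.AtPrime (QQ R S Rh Sh)) Sh := (psi R S Rh Sh).toAlgebra
    haveI : IsLocalHom (algebraMap (Localization.AtPrime (QQ R S Rh Sh)) Sh) :=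
      isLocalHom_psi R S Rh Sh
    Hensel.IsStrictHenselization (Localization.AtPrime (QQ R S Rh Sh)) Sh := by
  letI : Algebra (Localization.AtPrime (QQ R S Rh Sh)) Sh := (psi R S Rh Sh).toAlgebra
  haveI hψloc : IsLocalHom (algebraMap (Localization.AtPrime (QQ R S Rh Sh)) Sh) :=
    isLocalHom_psi R S Rh Sh
  have halg : ∀ x, algebraMap (Localization.AtPrime (QQ R S Rh Sh)) Sh x = psi R S Rh Sh x :=
    fun _ => rfl
  have hShs : Hensel.IsStrictHenselization (Localization.AtPrime q) Sh := inferInstance
  have hRhs : Hensel.IsStrictHenselization (Localization.AtPrime p) Rh := inferInstance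
  haveI hιloc := isLocalHom_iota R S q Rh Sh
  haveI hRS := isLocalHom_Rh_Sh R S p q Rh Sh
  refine ⟨hShs.henselian, ?_, ?_⟩
  · haveI := hShs.isSepClosure
    letI : Algebra (ResidueField (Localization.AtPrime q))
        (ResidueField (Localization.AtPrime (QQ R S Rh Sh))) :=
      (ResidueField.map (iota R S q Rh Sh)).toAlgebra
    haveI : IsScalarTower (ResidueField (Localization.AtPrime q))
        (ResidueField (Localization.AtPrime (QQ R S Rh Sh))) (ResidueField Sh) := by
      apply IsScalarTower.of_algebraMap_eq
      intro y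
      obtain ⟨x, rfl⟩ := residue_surjective y
      change _ = algebraMap (ResidueField (Localization.AtPrime (QQ R S Rh Sh))) (ResidueField Sh)
        (ResidueField.map (iota R S q Rh Sh) (residue _ x))
      rw [ResidueField.map_residue, ResidueField.algebraMap_residue,
        ResidueField.algebraMap_residue, halg, psi_iota_apply]
    exact ⟨hShs.isSepClosure.sep_closed,
      Algebra.isSeparable_tower_top_of_isSeparable (ResidueField (Localization.AtPrime q))
        (ResidueField (Localization.AtPrime (QQ R S Rh Sh))) (ResidueField Sh)⟩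
  · intro H _ _ f hf τ hτ
    have hτ' : ∀ x : Localization.AtPrime (QQ R S Rh Sh),
        τ (residue Sh (psi R S Rh Sh x)) = residue H (f x) := by
      intro x
      have := congrArg (fun h => h (residue _ x)) hτ
      simp only [RingHom.comp_apply, ResidueField.map_residue] at this
      exact this
    -- the map `fq : S_q → H`
    let fq : Localization.AtPrime q →+* H := f.comp (iota R S q Rh Sh)
    haveI hfq : IsLocalHom fq := RingHom.isLocalHom_comp _ _
    have hcompat : τ.comp (ResidueField.map (algebraMap (Localization.AtPrime q) Sh)) =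
        ResidueField.map fq := by
      refine RingHom.ext fun y => ?_
      obtain ⟨x, rfl⟩ := residue_surjective y
      simp only [RingHom.comp_apply]
      rw [ResidueField.map_residue, ResidueField.map_residue, ← psi_iota_apply R S q Rh Sh, hτ']
      rfl
    obtain ⟨g, ⟨hg1, hg2⟩, hguniq⟩ := hShs.universal H fq τ hcompat
    have hgS : ∀ s : S, g (algebraMap S Sh s) = f (sigma R S Rh Sh s) := by
      intro s
      rw [IsScalarTower.algebraMap_apply S (Localization.AtPrime q) Sh, ← RingHom.comp_apply, hg1]
      change f (iota R S q Rh Sh _) = _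
      rw [iota_algebraMap]
    -- the two maps `Rh → H`
    let g₁ : Rh →+* H := g.comp (algebraMap Rh Sh)
    let g₂ : Rh →+* H :=
      (f.comp (algebraMap (Rh ⊗[R] S) (Localization.AtPrime (QQ R S Rh Sh)))).comp
        (Algebra.TensorProduct.includeLeft : Rh →ₐ[R] Rh ⊗[R] S).toRingHom
    have hg₂ : ∀ a : Rh, g₂ a = f (algebraMap (Rh ⊗[R] S) _ (a ⊗ₜ[R] (1 : S))) := fun _ => rfl
    let τ' : ResidueField Rh →+* ResidueField H := τ.comp (ResidueField.map (algebraMap Rh Sh))
    have hres₁ : ∀ a : Rh, residue H (g₁ a) = τ' (residue Rh a) := by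
      intro a
      change residue H (g (algebraMap Rh Sh a)) = τ (ResidueField.map (algebraMap Rh Sh) (residue Rh a))
      rw [hg2, ResidueField.map_residue]
    have hres₂ : ∀ a : Rh, residue H (g₂ a) = τ' (residue Rh a) := by
      intro a
      change _ = τ (ResidueField.map (algebraMap Rh Sh) (residue Rh a))
      rw [hg₂, ← hτ', psi_algebraMap, phi_left R S Rh Sh, ResidueField.map_residue]
    have hR : ∀ r : R, g₁ (algebraMap R Rh r) = f (sigma R S Rh Sh (algebraMap R S r)) := by
      intro r
      change g (algebraMap Rh Sh (algebraMap R Rh r)) = _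
      rw [← IsScalarTower.algebraMap_apply R Rh Sh, IsScalarTower.algebraMap_apply R S Sh, hgS]
    have hR2 : ∀ r : R, g₂ (algebraMap R Rh r) = f (sigma R S Rh Sh (algebraMap R S r)) := by
      intro r
      rw [hg₂]
      change _ = f (algebraMap (Rh ⊗[R] S) _ ((1 : Rh) ⊗ₜ[R] (algebraMap R S r)))
      congr 2
      rw [Algebra.algebraMap_eq_smul_one, Algebra.algebraMap_eq_smul_one, TensorProduct.smul_tmul]
    have h12 : g₁.comp (algebraMap (Localization.AtPrime p) Rh) =
        g₂.comp (algebraMap (Localization.AtPrime p) Rh) := by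
      apply IsLocalization.ringHom_ext p.primeCompl
      ext r
      simp only [RingHom.comp_apply]
      rw [← IsScalarTower.algebraMap_apply R (Localization.AtPrime p) Rh, hR, hR2]
    -- `g₂ ∘ (R_p → Rh)` is local since residues are compatible
    have hg₂loc : IsLocalHom g₂ := by
      constructor
      intro a ha
      by_contra hna
      have h0 : residue Rh a = 0 := (residue_eq_zero_iff a).mpr ((mem_maximalIdeal a).mpr hna)
      have h1 : residue H (g₂ a) = 0 := by rw [hres₂, h0, map_zero]
      exact ((residue_eq_zero_iff _).mp h1) ha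
    haveI : IsLocalHom (g₂.comp (algebraMap (Localization.AtPrime p) Rh)) :=
      RingHom.isLocalHom_comp _ _
    have hcompat' : τ'.comp (ResidueField.map (algebraMap (Localization.AtPrime p) Rh)) =
        ResidueField.map (g₂.comp (algebraMap (Localization.AtPrime p) Rh)) := by
      refine RingHom.ext fun y => ?_
      obtain ⟨x, rfl⟩ := residue_surjective y
      simp only [RingHom.comp_apply]
      rw [ResidueField.map_residue, ResidueField.map_residue, ← hres₂]
      rfl
    have hg12 : g₁ = g₂ := by
      obtain ⟨g', -, huniq'⟩ := hRhs.universal H _ τ' hcompat'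
      rw [huniq' g₁ ⟨h12, hres₁⟩, huniq' g₂ ⟨rfl, hres₂⟩]
    have hgψ : g.comp (psi R S Rh Sh) = f := by
      apply IsLocalization.ringHom_ext (QQ R S Rh Sh).primeCompl
      rw [RingHom.comp_assoc, psi_comp]
      apply tensor_ringHom_ext
      · intro a
        have := congrArg (fun h => h a) hg12
        simp only [RingHom.comp_apply]
        change g (phi R S Rh Sh (a ⊗ₜ[R] (1 : S))) = _
        rw [phi_left R S Rh Sh]
        exact this
      · intro s
        simp only [RingHom.comp_apply]
        change g (phi R S Rh Sh ((1 : Rh) ⊗ₜ[R] s)) = f (sigma R S Rh Sh s)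
        rw [phi_right R S Rh Sh, hgS]
    refine ⟨g, ⟨hgψ, hg2⟩, ?_⟩
    rintro g' ⟨hg'1, hg'2⟩
    apply hguniq
    refine ⟨?_, hg'2⟩
    rw [← psi_iota R S q Rh Sh, ← RingHom.comp_assoc]
    change (g'.comp (psi R S Rh Sh)).comp _ = _
    have : g'.comp (psi R S Rh Sh) = f := hg'1
    rw [this]

end ctx


open TensorProduct in
/-- Let R → S be a ring map, q a prime of S over p, and R^{sh}, S^{sh} strict henselizations of R_p and
S_q, S^{sh} carrying a compatible R^{sh}-algebra structure (a map R^{sh} → S^{sh} over R; these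
correspond to the embeddings of separable closures in the published statement). Let φ : R^{sh} ⊗_R S
→ S^{sh} be the induced map and Q the preimage under φ of the maximal ideal (a prime over the
maximal ideal of R^{sh} and over q). Then S^{sh} is a strict henselization of (R^{sh} ⊗_R S)_Q:
every strict henselization E of that local ring admits a ring isomorphism E ≅ S^{sh} compatible with
the two maps from R^{sh} ⊗_R S. -/
theorem result (R : Type u) [CommRing R]
    (S : Type u) [CommRing S] [Algebra R S] (p : Ideal R) [p.IsPrime] (q : Ideal S) [q.IsPrime]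
    [q.LiesOver p]
    (Rh : Type u) [CommRing Rh] [IsLocalRing Rh] [Algebra (Localization.AtPrime p) Rh]
    [IsLocalHom (algebraMap (Localization.AtPrime p) Rh)]
    [Hensel.IsStrictHenselization (Localization.AtPrime p) Rh] [Algebra R Rh]
    [IsScalarTower R (Localization.AtPrime p) Rh]
    (Sh : Type u) [CommRing Sh] [IsLocalRing Sh] [Algebra (Localization.AtPrime q) Sh]
    [IsLocalHom (algebraMap (Localization.AtPrime q) Sh)]
    [Hensel.IsStrictHenselization (Localization.AtPrime q) Sh] [Algebra S Sh]
    [IsScalarTower S (Localization.AtPrime q) Sh] [Algebra R Sh] [IsScalarTower R S Sh]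
    [Algebra Rh Sh] [IsScalarTower R Rh Sh]
    (E : Type u) [CommRing E] [IsLocalRing E]
    [Algebra (Localization.AtPrime (Ideal.comap (Algebra.TensorProduct.lift (IsScalarTower.toAlgHom R Rh Sh) (IsScalarTower.toAlgHom R S Sh)
          (fun _ _ => Commute.all _ _)) (IsLocalRing.maximalIdeal Sh))) E]
    [IsLocalHom (algebraMap (Localization.AtPrime
      (Ideal.comap (Algebra.TensorProduct.lift (IsScalarTower.toAlgHom R Rh Sh) (IsScalarTower.toAlgHom R S Sh)
          (fun _ _ => Commute.all _ _)) (IsLocalRing.maximalIdeal Sh))) E)]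
    [Hensel.IsStrictHenselization (Localization.AtPrime
      (Ideal.comap (Algebra.TensorProduct.lift (IsScalarTower.toAlgHom R Rh Sh) (IsScalarTower.toAlgHom R S Sh)
          (fun _ _ => Commute.all _ _)) (IsLocalRing.maximalIdeal Sh))) E] :
    ∃ e : E ≃+* Sh, ∀ d : Rh ⊗[R] S,
      e (algebraMap (Localization.AtPrime
        (Ideal.comap (Algebra.TensorProduct.lift (IsScalarTower.toAlgHom R Rh Sh) (IsScalarTower.toAlgHom R S Sh)
          (fun _ _ => Commute.all _ _)) (IsLocalRing.maximalIdeal Sh))) E
        (algebraMap (Rh ⊗[R] S) _ d)) = (Algebra.TensorProduct.lift (IsScalarTower.toAlgHom R Rh Sh) (IsScalarTower.toAlgHom R S Sh)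
          (fun _ _ => Commute.all _ _)) d := by
  letI : Algebra (Localization.AtPrime (QQ R S Rh Sh)) Sh := (psi R S Rh Sh).toAlgebra
  haveI hψloc : IsLocalHom (algebraMap (Localization.AtPrime (QQ R S Rh Sh)) Sh) :=
    isLocalHom_psi R S Rh Sh
  haveI : Hensel.IsStrictHenselization (Localization.AtPrime (QQ R S Rh Sh)) Sh :=
    strictHens R S p q Rh Sh
  obtain ⟨e1⟩ := Groth.Agent.Lib.Helper87.Hens.nonempty_algEquiv_Hsh
    (Localization.AtPrime (QQ R S Rh Sh)) E
  obtain ⟨e2⟩ := Groth.Agent.Lib.Helper87.Hens.nonempty_algEquiv_Hsh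
    (Localization.AtPrime (QQ R S Rh Sh)) Sh
  refine ⟨(e1.trans e2.symm).toRingEquiv, fun d => ?_⟩
  have h := (e1.trans e2.symm).commutes (algebraMap (Rh ⊗[R] S) _ d)
  refine h.trans ?_
  exact psi_algebraMap R S Rh Sh d


end Groth.Agent.S9460
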