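import Groth.Statements.S4567
import Groth.Agent.Lib.Helper87.NormRadicial

set_option autoImplicit false
universe u
open AlgebraicGeometry
open CAlg2

namespace Groth.Agent.S4567

/-- Let A be a domain with integral closure A' (in its fraction field) and f : Spec A' → Spec A the
canonical morphism. Then f is radicial (universally injective) if and only if every local ring A_p
is geometrically unibranch; when this holds f is a homeomorphism. -/
theorem result {A : Type u} [CommRing A] [IsDomain A] :
    (UniversallyInjective (Spec.map (CommRingCat.ofHom (algebraMap A (integralClosure A (FractionRing A))))) ↔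
      ∀ (p : Ideal A) [p.IsPrime], CAlg2.IsGeomUnibranch (Localization.AtPrime p)) ∧
    ((∀ (p : Ideal A) [p.IsPrime], CAlg2.IsGeomUnibranch (Localization.AtPrime p)) →
      IsHomeomorph (PrimeSpectrum.comap (algebraMap A (integralClosure A (FractionRing A))))) := by
  open Groth.Agent.Lib.Helper87.NormRadicial CategoryTheory in
  have hint : (algebraMap A (integralClosure A (FractionRing A))).IsIntegral :=
    algebraMap_isIntegral_iff.mpr inferInstance
  have hinjA : Function.Injective (algebraMap A (integralClosure A (FractionRing A))) :=
    FaithfulSMul.algebraMap_injective _ _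
  have key : (∀ (p : Ideal A) [p.IsPrime], CAlg2.IsGeomUnibranch (Localization.AtPrime p)) →
      UniversallyInjective (Spec.map (CommRingCat.ofHom
        (algebraMap A (integralClosure A (FractionRing A))))) := by
    intro h
    have hUI := ringUI_of_isGeomUnibranch h
    refine ((tfae_universallyInjective _).out 0 1).mpr ?_
    intro F _ g1 g2 hg
    obtain ⟨ψ1, rfl⟩ := Spec.map_surjective g1
    obtain ⟨ψ2, rfl⟩ := Spec.map_surjective g2
    have hg' : Spec.map (CommRingCat.ofHom (algebraMap A (integralClosure A (FractionRing A))) ≫ ψ1) =
        Spec.map (CommRingCat.ofHom (algebraMap A (integralClosure A (FractionRing A))) ≫ ψ2) := by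
      rw [Spec.map_comp, Spec.map_comp]
      exact hg
    have h2 := Spec.map_injective hg'
    have h3 : ψ1.hom = ψ2.hom := hUI F ψ1.hom ψ2.hom (by
      have := congrArg CommRingCat.Hom.hom h2
      simpa using this)
    rw [CommRingCat.hom_ext h3]
  refine ⟨⟨fun hU p _ => ?_, key⟩, fun h => ?_⟩
  · have hUI : RingUI A := by
      intro F _ φ1 φ2 hφ
      have h2 : ∀ (K : Type u) [Field K], Function.Injective
          (fun g : Spec (.of K) ⟶ Spec (.of (integralClosure A (FractionRing A))) ↦
            g ≫ Spec.map (CommRingCat.ofHom
              (algebraMap A (integralClosure A (FractionRing A))))) :=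
        ((tfae_universallyInjective _).out 0 1).mp hU
      have h3 : Spec.map (CommRingCat.ofHom φ1) = Spec.map (CommRingCat.ofHom φ2) := by
        apply h2 F
        show Spec.map (CommRingCat.ofHom φ1) ≫ Spec.map (CommRingCat.ofHom
            (algebraMap A (integralClosure A (FractionRing A)))) =
          Spec.map (CommRingCat.ofHom φ2) ≫ Spec.map (CommRingCat.ofHom
            (algebraMap A (integralClosure A (FractionRing A))))
        rw [← Spec.map_comp, ← Spec.map_comp, ← CommRingCat.ofHom_comp, ← CommRingCat.ofHom_comp, hφ]
      have h4 := Spec.map_injective h3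
      exact congrArg CommRingCat.Hom.hom h4
    have hinj : Function.Injective
        (PrimeSpectrum.comap (algebraMap A (integralClosure A (FractionRing A)))) := by
      have := hU
      exact (Spec.map (CommRingCat.ofHom
        (algebraMap A (integralClosure A (FractionRing A))))).injective
    exact isGeomUnibranch_of_ringUI hUI hinj p
  · rw [isHomeomorph_iff_continuous_isClosedMap_bijective]
    refine ⟨PrimeSpectrum.continuous_comap _,
      PrimeSpectrum.isClosedMap_comap_of_isIntegral _ hint,
      comap_injective_of_isGeomUnibranch h, ?_⟩
    intro x
    obtain ⟨Q, hQ, hQp⟩ := Ideal.exists_ideal_over_prime_of_isIntegral_of_isDomain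
      (S := integralClosure A (FractionRing A)) x.asIdeal (by
        rw [(RingHom.injective_iff_ker_eq_bot _).mp hinjA]
        exact bot_le)
    exact ⟨⟨Q, hQ⟩, PrimeSpectrum.ext hQp⟩

end Groth.Agent.S4567
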