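import Groth.Statements.S2129
import Groth.Agent.Lib.Helper87.SmoothMinPrimes

set_option autoImplicit false
universe u
open CAlg

namespace Groth.Agent.S2129

/-- Let `R → S` be a smooth ring map, `𝔮` a prime of `S` over `𝔭`, and `A = R_𝔭 → B = S_𝔮` the induced
local homomorphism. Then strict henselizations of `A` and `B` have the same number of minimal prime
ideals (the same number of geometric branches, counted in ℕ∞, infinite counting as ∞). -/
theorem result {R S Ash Bsh : Type u} [CommRing R] [CommRing S] [Algebra R S]
    [Algebra.Smooth R S] (q : Ideal S) [q.IsPrime] (p : Ideal R) [p.IsPrime] [q.LiesOver p]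
    [CommRing Ash] [IsLocalRing Ash] [Algebra (Localization.AtPrime p) Ash]
    [IsLocalHom (algebraMap (Localization.AtPrime p) Ash)] [Hensel.IsStrictHenselization (Localization.AtPrime p) Ash]
    [CommRing Bsh] [IsLocalRing Bsh] [Algebra (Localization.AtPrime q) Bsh]
    [IsLocalHom (algebraMap (Localization.AtPrime q) Bsh)] [Hensel.IsStrictHenselization (Localization.AtPrime q) Bsh] :
    (minimalPrimes Ash).encard = (minimalPrimes Bsh).encard := by
  letI : Algebra R Ash :=
    ((algebraMap (Localization.AtPrime p) Ash).comp (algebraMap R (Localization.AtPrime p))).toAlgebra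
  haveI : IsScalarTower R (Localization.AtPrime p) Ash := IsScalarTower.of_algebraMap_eq' rfl
  letI : Algebra S Bsh :=
    ((algebraMap (Localization.AtPrime q) Bsh).comp (algebraMap S (Localization.AtPrime q))).toAlgebra
  haveI : IsScalarTower S (Localization.AtPrime q) Bsh := IsScalarTower.of_algebraMap_eq' rfl
  letI : Algebra R Bsh := ((algebraMap S Bsh).comp (algebraMap R S)).toAlgebra
  haveI : IsScalarTower R S Bsh := IsScalarTower.of_algebraMap_eq' rfl
  have hle : p.primeCompl ≤ q.primeCompl.comap (algebraMap R S) := by
    intro r hr hrq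
    apply hr
    rw [Ideal.LiesOver.over (P := q) (p := p)]
    exact hrq
  haveI : IsLocalHom (Localization.localRingHom p q (algebraMap R S)
      (Ideal.LiesOver.over (P := q) (p := p))) := Localization.isLocalHom_localRingHom _ _ _ _
  obtain ⟨φ, hφloc, hφ⟩ := Groth.Agent.Lib.Helper87.SmoothMinPrimes.exists_strict_map
    (Localization.AtPrime p) (Localization.AtPrime q) Ash Bsh
    (Localization.localRingHom p q (algebraMap R S) (Ideal.LiesOver.over (P := q) (p := p)))
  letI : Algebra Ash Bsh := φ.toAlgebra
  haveI : IsScalarTower R Ash Bsh := by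
    refine IsScalarTower.of_algebraMap_eq' ?_
    ext r
    have h1 := congrArg (fun g => g (algebraMap R (Localization.AtPrime p) r)) hφ
    simp only [RingHom.comp_apply, Localization.localRingHom_to_map] at h1
    exact h1.symm
  exact Groth.Agent.Lib.Helper87.SmoothMinPrimes.encard_minimalPrimes_eq R S p q Ash Bsh

end Groth.Agent.S2129
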