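import Groth.Statements.S2130
import Groth.Agent.Lib.Helper87.SmoothMinPrimesHens

set_option autoImplicit false
universe u
open CAlg

namespace Groth.Agent.S2130

/-- Let `R → S` be smooth, `𝔮` a prime of `S` over `𝔭` with `κ(𝔮)/κ(𝔭)` purely inseparable, and `A = R_𝔭
→ B = S_𝔮`. Then henselizations of `A` and `B` have the same number of minimal prime ideals (the
same number of branches). -/
theorem result {R S Ah Bh : Type u} [CommRing R] [CommRing S]
    [Algebra R S] [Algebra.Smooth R S] (q : Ideal S) [q.IsPrime] (p : Ideal R) [p.IsPrime] [q.LiesOver p]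
    (hpi : @IsPurelyInseparable p.ResidueField q.ResidueField _ _
      (Ideal.ResidueField.mapₐ p q (Algebra.ofId R S) (q.over_def p)).toRingHom.toAlgebra)
    [CommRing Ah] [IsLocalRing Ah] [Algebra (Localization.AtPrime p) Ah]
    [IsLocalHom (algebraMap (Localization.AtPrime p) Ah)] [Hensel.IsHenselization (Localization.AtPrime p) Ah]
    [CommRing Bh] [IsLocalRing Bh] [Algebra (Localization.AtPrime q) Bh]
    [IsLocalHom (algebraMap (Localization.AtPrime q) Bh)] [Hensel.IsHenselization (Localization.AtPrime q) Bh] :
    (minimalPrimes Ah).encard = (minimalPrimes Bh).encard := by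
  letI : Algebra R Ah :=
    ((algebraMap (Localization.AtPrime p) Ah).comp (algebraMap R (Localization.AtPrime p))).toAlgebra
  haveI : IsScalarTower R (Localization.AtPrime p) Ah := IsScalarTower.of_algebraMap_eq' rfl
  letI : Algebra S Bh :=
    ((algebraMap (Localization.AtPrime q) Bh).comp (algebraMap S (Localization.AtPrime q))).toAlgebra
  haveI : IsScalarTower S (Localization.AtPrime q) Bh := IsScalarTower.of_algebraMap_eq' rfl
  letI : Algebra R Bh := ((algebraMap S Bh).comp (algebraMap R S)).toAlgebra
  haveI : IsScalarTower R S Bh := IsScalarTower.of_algebraMap_eq' rfl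
  haveI : IsLocalHom (Localization.localRingHom p q (algebraMap R S)
      (Ideal.LiesOver.over (P := q) (p := p))) := Localization.isLocalHom_localRingHom _ _ _ _
  obtain ⟨φ, hφloc, hφ⟩ := Groth.Agent.Lib.Helper87.SmoothMinPrimesHens.exists_hens_map
    (Localization.AtPrime p) (Localization.AtPrime q) Ah Bh
    (Localization.localRingHom p q (algebraMap R S) (Ideal.LiesOver.over (P := q) (p := p)))
  letI : Algebra Ah Bh := φ.toAlgebra
  haveI : IsScalarTower R Ah Bh := by
    refine IsScalarTower.of_algebraMap_eq' ?_
    ext r
    have h1 := congrArg (fun g => g (algebraMap R (Localization.AtPrime p) r)) hφ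
    simp only [RingHom.comp_apply, Localization.localRingHom_to_map] at h1
    exact h1.symm
  have hPI : Groth.Agent.Lib.Helper87.SmoothMinPrimesHens.PIHyp R S p q Ah := by
    intro x
    letI : Algebra p.ResidueField q.ResidueField :=
      (Ideal.ResidueField.mapₐ p q (Algebra.ofId R S) (q.over_def p)).toRingHom.toAlgebra
    haveI : ExpChar p.ResidueField (ringExpChar (IsLocalRing.ResidueField Ah)) := by
      rw [Groth.Agent.Lib.Helper87.PurelyInsepTensor.ringExpChar_residueField_eq
        (Localization.AtPrime p) Ah]
      exact ringExpChar.expChar _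
    obtain ⟨n, w, hw⟩ := IsPurelyInseparable.pow_mem p.ResidueField
      (ringExpChar (IsLocalRing.ResidueField Ah)) x
    exact ⟨n, w, hw.symm⟩
  exact Groth.Agent.Lib.Helper87.SmoothMinPrimesHens.encard_minimalPrimes_eq_hens R S p q Ah Bh hPI

end Groth.Agent.S2130
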