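import Groth.Statements.S4925
import Groth.Agent.Lib.Helper80.UnivOpenAt

set_option autoImplicit false
open CategoryTheory AlgebraicGeometry
universe u v w
open EGA43

namespace Groth.Agent.S4925

/-- Let f : X ⟶ Y and g : Y ⟶ Z be morphisms of schemes and x a point of X. If f is universally open at
x and g is universally open at f x, then f ≫ g is universally open at x. -/
theorem result {X Y Z : Scheme.{u}} (f : X ⟶ Y) (g : Y ⟶ Z) (x : X)
    (hf : EGA43.IsUnivOpenAt f x) (hg : EGA43.IsUnivOpenAt g (f.base x)) :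
    EGA43.IsUnivOpenAt (f ≫ g) x := by
  intro Z' h x' hx'
  -- W = Y ×_Z Z'
  let k : Limits.pullback (f ≫ g) h ⟶ Limits.pullback g h :=
    Limits.pullback.lift (Limits.pullback.fst (f ≫ g) h ≫ f) (Limits.pullback.snd (f ≫ g) h)
      (by rw [Category.assoc, Limits.pullback.condition])
  have hk1 : k ≫ Limits.pullback.fst g h = Limits.pullback.fst (f ≫ g) h ≫ f :=
    Limits.pullback.lift_fst _ _ _
  have hk2 : k ≫ Limits.pullback.snd g h = Limits.pullback.snd (f ≫ g) h :=
    Limits.pullback.lift_snd _ _ _
  have big : IsPullback (Limits.pullback.fst (f ≫ g) h) (k ≫ Limits.pullback.snd g h) (f ≫ g) h := by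
    rw [hk2]
    exact IsPullback.of_hasPullback (f ≫ g) h
  have top : IsPullback (Limits.pullback.fst (f ≫ g) h) k f (Limits.pullback.fst g h) :=
    IsPullback.of_bot big hk1.symm (IsPullback.of_hasPullback g h)
  have h1 : EGA43.IsOpenAt k.base x' :=
    Groth.Agent.Lib.Helper80.UnivOpenAt.isOpenAt_of_isPullback hf top x' hx'
  have hpt : (Limits.pullback.fst g h).base (k.base x') = f.base x := by
    rw [← Scheme.Hom.comp_apply, hk1, Scheme.Hom.comp_apply, hx']
  have h2 : EGA43.IsOpenAt (Limits.pullback.snd g h).base (k.base x') := hg Z' h _ hpt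
  have h3 : (Limits.pullback.snd (f ≫ g) h).base = (Limits.pullback.snd g h).base ∘ k.base := by
    rw [← hk2]
    ext z
    simp
  rw [h3]
  exact Groth.Agent.Lib.Helper80.UnivOpenAt.isOpenAt_comp h1 h2

end Groth.Agent.S4925
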