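import Groth.Statements.S5924
import Groth.Agent.Lib.Helper73.DimFormula.FiberCut

set_option autoImplicit false
open CategoryTheory AlgebraicGeometry
universe u
open EGA43

namespace Groth.Agent.S5924

/-- Let Y be an irreducible locally Noetherian scheme, f : X ⟶ Y a morphism locally of finite type which
is equidimensional at the point x, and suppose that x is not a maximal point of its fibre f⁻¹(f x),
i.e. some point of the fibre other than x specializes to x. Then there exist an affine open
neighbourhood U of x and a section g of O_X over U such that g vanishes at x (x is not in the basic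
open set of g) while every maximal point of f⁻¹(f x) lying in U is in the basic open set of g. -/
theorem result {X Y : Scheme.{u}} [IrreducibleSpace Y]
    [IsLocallyNoetherian Y] (f : X ⟶ Y) [LocallyOfFiniteType f] (x : X) (hf : EGA43.IsEquidimAt f x)
    (hx : ∃ x' : X, f.base x' = f.base x ∧ x' ≠ x ∧ x ∈ closure ({x'} : Set X)) :
    ∃ U : X.Opens, IsAffineOpen U ∧ x ∈ U ∧ ∃ g : Γ(X, U), x ∉ X.basicOpen g ∧
      ∀ z : X, f.base z = f.base x → (∀ z' : X, f.base z' = f.base x → z ∈ closure ({z'} : Set X) → z' = z) →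
        z ∈ U → z ∈ X.basicOpen g := by
  open Groth.Agent.Lib.Helper73 in
  classical
  obtain ⟨W, hxW, hW⟩ := exists_open_forall_maximal_fiber_specializes f x
  obtain ⟨U, hU, hxU, hUW⟩ := exists_isAffineOpen_mem_and_subset (X := X) (x := x) (U := W) hxW
  have hMfin := finite_maximal_fiber_generizations f x
  have hMU : ∀ z ∈ {z : X | z ⤳ x ∧ f z = f x ∧ ∀ t' : X, t' ⤳ z → f t' = f z → t' = z}, z ∈ U :=
    fun z hz => hz.1.mem_open U.isOpen hxU
  let q : Ideal Γ(X, U) := (hU.primeIdealOf ⟨x, hxU⟩).asIdeal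
  let Q : X → Ideal Γ(X, U) := fun z =>
    if hz : z ∈ U then (hU.primeIdealOf ⟨z, hz⟩).asIdeal else ⊤
  have hxnotmax : ¬ (∀ t : X, t ⤳ x → f t = f x → t = x) := by
    intro hmax
    obtain ⟨x', h1, h2, h3⟩ := hx
    exact h2 (hmax x' (specializes_iff_mem_closure.mpr h3) h1)
  have hnot : ¬ ((q : Set Γ(X, U)) ⊆ ⋃ z ∈ (hMfin.toFinset : Set X), (Q z : Set Γ(X, U))) := by
    rw [Ideal.subset_union_prime x x (fun z hz _ _ => by
      have hzM := hMfin.mem_toFinset.mp hz
      simp only [Q, dif_pos (hMU z hzM)]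
      exact (hU.primeIdealOf ⟨z, hMU z hzM⟩).isPrime)]
    rintro ⟨z, hz, hqz⟩
    have hzM := hMfin.mem_toFinset.mp hz
    simp only [Q, dif_pos (hMU z hzM)] at hqz
    have hxz : x ⤳ z := specializes_of_primeIdealOf_le hU x z hxU (hMU z hzM) hqz
    have hzx : z = x := (hzM.1.antisymm hxz).eq
    rw [hzx] at hzM
    exact hxnotmax hzM.2.2
  obtain ⟨g, hgq, hgZ⟩ := Set.not_subset.mp hnot
  refine ⟨U, hU, hxU, g, ?_, ?_⟩
  · rw [mem_basicOpen_iff_not_mem_primeIdealOf hU g x hxU, not_not]
    exact hgq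
  · intro z hfz hzmax hzU
    have hzmax' : ∀ t : X, t ⤳ z → f t = f z → t = z := fun t ht hft =>
      hzmax t (hft.trans hfz) (specializes_iff_mem_closure.mp ht)
    have hzx : z ⤳ x := hW z (hUW hzU) hfz hzmax'
    rw [mem_basicOpen_iff_not_mem_primeIdealOf hU g z hzU]
    intro hgz
    apply hgZ
    simp only [Set.mem_iUnion]
    refine ⟨z, hMfin.mem_toFinset.mpr ⟨hzx, hfz, hzmax'⟩, ?_⟩
    simp only [Q, dif_pos hzU]
    exact hgz

end Groth.Agent.S5924
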