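import Groth.Statements.S4934
import Groth.Agent.Lib.Helper87.ChevalleyPointwise
import Groth.Agent.Lib.Helper80.UnivOpenAt

set_option autoImplicit false
open CategoryTheory AlgebraicGeometry
universe u v w
open EGA43

namespace Groth.Agent.S4934

/-- Let Y be a locally Noetherian scheme, f : X ⟶ Y a morphism locally of finite type, x a maximal point
of its fibre X_y, and suppose y = f x is a geometrically unibranch point of Y (so that y lies on
exactly one irreducible component Y₀ of Y, with generic point η). The following are equivalent: a) f
is universally open at x; b) there is an irreducible component Z of X containing x and dominating Y₀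
with dim_x(Z ∩ X_y) = dim(Z ∩ X_η); b') for every open neighbourhood U of x and every generization
y' of y, dim(U ∩ X_{y'}) ≥ dim_x(X_y); c) f is open at x. (The published statement asserts a) ⇔ b) ⇔
b') over an arbitrary base and adds c) for a locally Noetherian one; over the spectrum Y of an
infinite product of copies of a field, the inclusion of a non-open closed point satisfies b) and not
a), and the published proof of b) ⇒ a) uses the openness criterion by lifting of generizations and a
finiteness of irreducible components, both available over a locally Noetherian base, which is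
assumed here throughout.) -/
theorem result {X Y : Scheme.{u}} [IsLocallyNoetherian Y] (f : X ⟶ Y)
    [LocallyOfFiniteType f] (x : X) (hmax : ∀ x' : X, f.base x' = f.base x → x ∈ closure {x'} → x' = x)
    (hy : CAlg2.IsGeomUnibranch (Y.presheaf.stalk (f.base x))) :
    List.TFAE [EGA43.IsUnivOpenAt f x,
      (∀ Y₀ ∈ irreducibleComponents (Y : Type u), f.base x ∈ Y₀ →
        ∃ Z ∈ irreducibleComponents (X : Type u), ∃ hx : x ∈ Z, closure (f.base '' Z) = Y₀ ∧
          ∀ η : Y, closure ({η} : Set Y) = Y₀ →
            FlatMor.localDim ↥(Z ∩ f.base ⁻¹' {f.base x}) ⟨x, ⟨hx, rfl⟩⟩ =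
              topologicalKrullDim ↥(Z ∩ f.base ⁻¹' {η})),
      (∀ U : X.Opens, x ∈ U → ∀ y' : Y, y' ⤳ f.base x →
        FlatMor.fibreDimAt f x ≤ topologicalKrullDim ↥((U : Set X) ∩ f.base ⁻¹' {y'})),
      EGA43.IsOpenAt f.base x] := by
  open Groth.Agent.Lib.Helper87.ChevalleyPointwise in
  obtain ⟨c⟩ := exists_chart f x hmax
  tfae_have 1 → 4 := fun h =>
    Groth.Agent.Lib.Helper80.UnivOpenAt.isOpenAt_of_isPullback h
      (IsPullback.of_id_fst (f := f)) x rfl
  tfae_have 4 → 2 := fun h =>
    Groth.Agent.Lib.Helper87.ChevalleyPointwise.component_of_hasGoodGenerization f x hmax hy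
      (Groth.Agent.Lib.Helper87.ChevalleyPointwise.hasGoodGenerization_of_isOpenAt f x hmax h)
  tfae_have 2 → 3 := fun H U hU y' hy' =>
    c.fibreDimAt_le hmax hy
      (Groth.Agent.Lib.Helper87.ChevalleyPointwise.hasGoodGenerization_of_component f x hmax H)
      rfl U hU y' hy'
  tfae_have 3 → 1 := fun H =>
    c.isUnivOpenAt hy (c.hasGoodGenerization_of_fibreDimAt_le hmax rfl H) rfl
  tfae_finish

end Groth.Agent.S4934
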