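import Groth.Statements.S1373
import Groth.Agent.Lib.Helper50.UnivOC

set_option autoImplicit false
universe u
open FlatMor

namespace Groth.Agent.S1373

open AlgebraicGeometry CategoryTheory Limits in
/-- (1) ⇔ (3): a morphism f : X → S is universally open if and only if for every n the induced morphism
from affine n-space over X to affine n-space over S is open. -/
theorem result {X S : Scheme.{u}} (f : X ⟶ S) :
    UniversallyOpen f ↔ ∀ n : ℕ, IsOpenMap ⇑(AffineSpace.map (ULift.{u} (Fin n)) f) := by
  have sq : ∀ n : ℕ, IsPullback (AffineSpace.map (ULift.{u} (Fin n)) f)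
      (𝔸(ULift.{u} (Fin n); X) ↘ X) (𝔸(ULift.{u} (Fin n); S) ↘ S) f :=
    fun n ↦ AffineSpace.isPullback_map (n := ULift.{u} (Fin n)) f
  refine ⟨fun hf n ↦ ?_, fun H ↦ ?_⟩
  · exact hf.out _ _ _ (sq n)
  · refine Lib.Helper50.universallyOpen_of_affineSpace f (fun n _ ↦ ?_)
    have e := (sq n).flip.isoPullback_inv_snd
    have h1 : IsOpenMap ⇑((sq n).flip.isoPullback.inv ≫
        AffineSpace.map (ULift.{u} (Fin n)) f) := by
      rw [Scheme.Hom.comp_base, TopCat.coe_comp]
      exact (H n).comp ((sq n).flip.isoPullback.inv.homeomorph).isOpenMap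
    rwa [e] at h1

end Groth.Agent.S1373
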