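import Groth.Statements.S9219
import Mathlib
-- import your own Groth.Agent.* helpers here

set_option autoImplicit false
universe u
open CategoryTheory CategoryTheory.Limits AlgebraicGeometry
open Lim

namespace Groth.Agent.S9219

attribute [local instance] IsCofiltered.isConnected

section
variable {I : Type u} [SmallCategory I] [IsCofiltered I]
    (D : I ⥤ Scheme.{u}) (c : Limits.Cone D) (hc : Limits.IsLimit c) (i : I)
    {Xi : Scheme.{u}} (xi : Xi ⟶ D.obj i)

noncomputable def D' : Over i ⥤ Scheme.{u} :=
  Over.post D ⋙ Over.pullback xi ⋙ Over.forget _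

noncomputable def c' : Cone (D' D i xi) :=
  (Over.pullback xi ⋙ Over.forget _).mapCone ((Over.conePost _ _).obj c)

noncomputable def hc' : IsLimit (c' D c i xi) :=
  isLimitOfPreserves (Over.pullback xi ⋙ Over.forget _) (Over.isLimitConePost _ hc)

set_option backward.defeqAttrib.useBackward true in
set_option backward.isDefEq.respectTransparency false in
noncomputable def t' : D' D i xi ⟶ (Functor.const (Over i)).obj (D.obj i) where
  app j := pullback.snd _ _ ≫ xi
  naturality j k f := by
    simp [D']

theorem D'_obj (j : Over i) : (D' D i xi).obj j = pullback (D.map j.hom) xi := rfl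

theorem c'_pt : (c' D c i xi).pt = pullback (c.π.app i) xi := rfl

set_option backward.defeqAttrib.useBackward true in
set_option backward.isDefEq.respectTransparency false in
theorem c'_π_snd (j : Over i) :
    (c' D c i xi).π.app j ≫ pullback.snd (D.map j.hom) xi = pullback.snd (c.π.app i) xi := by
  simp [c', D']

set_option backward.defeqAttrib.useBackward true in
set_option backward.isDefEq.respectTransparency false in
theorem D'_map_snd (j k : Over i) (f : j ⟶ k) :
    (D' D i xi).map f ≫ pullback.snd (D.map k.hom) xi = pullback.snd (D.map j.hom) xi := by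
  simp [D']

theorem D'_affine [∀ (i j : I) (f : i ⟶ j), IsAffineHom (D.map f)] (j k : Over i) (f : j ⟶ k) :
    IsAffineHom ((D' D i xi).map f) := by
  have h1 : IsAffineHom (pullback.snd (D.map k.hom) xi) :=
    MorphismProperty.pullback_snd (P := @IsAffineHom) _ _ inferInstance
  have h2 : IsAffineHom ((D' D i xi).map f ≫ pullback.snd (D.map k.hom) xi) := by
    rw [D'_map_snd]
    exact MorphismProperty.pullback_snd (P := @IsAffineHom) _ _ inferInstance
  exact (@IsAffineHom.comp_iff _ _ _ ((D' D i xi).map f) (pullback.snd (D.map k.hom) xi) h1).1 h2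

theorem D'_compact [∀ (i j : I) (f : i ⟶ j), IsAffineHom (D.map f)] [CompactSpace Xi] (j : Over i) :
    CompactSpace ((D' D i xi).obj j) := by
  have h1 : IsAffineHom (pullback.snd (D.map j.hom) xi) :=
    MorphismProperty.pullback_snd (P := @IsAffineHom) _ _ inferInstance
  have h2 : QuasiCompact (pullback.snd (D.map j.hom) xi) := inferInstance
  exact @QuasiCompact.compactSpace_of_compactSpace _ _ (pullback.snd (D.map j.hom) xi) h2 _

end


/-- Let S = lim S_i be a cofiltered limit of schemes with affine transition morphisms (the S_i are not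
assumed quasi-compact or quasi-separated), i an index, and X_i → S_i, Y_i → S_i morphisms locally of
finite presentation with X_i, Y_i quasi-compact and quasi-separated; let X be the base change of X_i
to S (a pullback square). If two S_i-morphisms f_i, g_i : X_i → Y_i have the same base change to S
(equivalently, the same composite with X → X_i), then for some index j over i their base changes to
S_j agree, i.e. they have the same composite with X_i ×_{S_i} S_j → X_i. This is the faithfulness
part of the equivalence between the colimit of the categories of quasi-compact quasi-separated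
schemes locally of finite presentation over the S_i and the corresponding category over S. -/
theorem result {I : Type u} [SmallCategory I] [IsCofiltered I]
    (D : I ⥤ Scheme.{u}) (c : Limits.Cone D) (hc : Limits.IsLimit c)
    [∀ (i j : I) (f : i ⟶ j), IsAffineHom (D.map f)] (i : I)
    {Xi Yi : Scheme.{u}} (xi : Xi ⟶ D.obj i) (yi : Yi ⟶ D.obj i)
    [CompactSpace Xi] [QuasiSeparatedSpace Xi] [LocallyOfFinitePresentation xi]
    [CompactSpace Yi] [QuasiSeparatedSpace Yi] [LocallyOfFinitePresentation yi]
    {X : Scheme.{u}} (qX : X ⟶ Xi) (pX : X ⟶ c.pt) (hX : IsPullback qX pX xi (c.π.app i))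
    (fi gi : Xi ⟶ Yi) (hfi : fi ≫ yi = xi) (hgi : gi ≫ yi = xi) (h : qX ≫ fi = qX ≫ gi) :
    ∃ (j : I) (φ : j ⟶ i), pullback.fst xi (D.map φ) ≫ fi = pullback.fst xi (D.map φ) ≫ gi := by
  have : ∀ {j k : Over i} (f : j ⟶ k), IsAffineHom ((D' D i xi).map f) := fun f => D'_affine D i xi _ _ f
  have : ∀ j : Over i, CompactSpace ((D' D i xi).obj j) := fun j => D'_compact D i xi j
  have hsnd : pullback.snd (c.π.app i) xi ≫ fi = pullback.snd (c.π.app i) xi ≫ gi := by
    have e : pullback.snd (c.π.app i) xi = hX.flip.isoPullback.inv ≫ qX := by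
      rw [Iso.eq_inv_comp]
      exact hX.flip.isoPullback_hom_snd
    rw [e, Category.assoc, Category.assoc, h]
  obtain ⟨k, hik, hk⟩ := Scheme.exists_hom_comp_eq_comp_of_locallyOfFiniteType
    (D' D i xi) (t' D i xi) yi (c' D c i xi) (hc' D c hc i xi) (i := Over.mk (𝟙 i))
    (pullback.snd (D.map (𝟙 i)) xi ≫ fi) (pullback.snd (D.map (𝟙 i)) xi ≫ gi)
    (by rw [Category.assoc, hfi]; rfl) (by rw [Category.assoc, hgi]; rfl)
    (by
      have := c'_π_snd D c i xi (Over.mk (𝟙 i))
      rw [← Category.assoc, ← Category.assoc]
      exact (congrArg (· ≫ fi) this).trans (hsnd.trans (congrArg (· ≫ gi) this).symm))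
  refine ⟨k.left, k.hom, ?_⟩
  have h2 := D'_map_snd D i xi k (Over.mk (𝟙 i)) hik
  rw [← Category.assoc, ← Category.assoc] at hk
  have hk' : pullback.snd (D.map k.hom) xi ≫ fi = pullback.snd (D.map k.hom) xi ≫ gi :=
    (congrArg (· ≫ fi) h2).symm.trans (hk.trans (congrArg (· ≫ gi) h2))
  have e : pullback.fst xi (D.map k.hom) = (pullbackSymmetry _ _).hom ≫ pullback.snd (D.map k.hom) xi := by
    simp
  rw [e, Category.assoc, Category.assoc, hk']


end Groth.Agent.S9219
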