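import Groth.Statements.S9218
import Mathlib
import Groth.Agent.S9219
-- import your own Groth.Agent.* helpers here

set_option autoImplicit false
universe u
open CategoryTheory CategoryTheory.Limits AlgebraicGeometry
open Lim

namespace Groth.Agent.S9218

open Groth.Agent.S9219

section
variable {I : Type u} [SmallCategory I] [IsCofiltered I]
    (D : I ⥤ Scheme.{u}) (c : Limits.Cone D) (hc : Limits.IsLimit c) (i : I)
    {Xi : Scheme.{u}} (xi : Xi ⟶ D.obj i)

set_option backward.defeqAttrib.useBackward true in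
set_option backward.isDefEq.respectTransparency false in
theorem c'_π_fst (j : Over i) :
    (c' D c i xi).π.app j ≫ pullback.fst (D.map j.hom) xi =
      pullback.fst (c.π.app i) xi ≫ c.π.app j.left := by
  simp [c', D']

theorem D'_quasiSeparated [∀ (i j : I) (f : i ⟶ j), IsAffineHom (D.map f)] [QuasiSeparatedSpace Xi]
    (j : Over i) : QuasiSeparatedSpace ((D' D i xi).obj j) := by
  have h1 : IsAffineHom (pullback.snd (D.map j.hom) xi) :=
    MorphismProperty.pullback_snd (P := @IsAffineHom) _ _ inferInstance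
  have h2 : QuasiSeparated (pullback.snd (D.map j.hom) xi) := inferInstance
  exact @quasiSeparatedSpace_of_quasiSeparated _ _ (pullback.snd (D.map j.hom) xi) _ h2

end


/-- Let S = lim S_i be a cofiltered limit of schemes with affine transition morphisms (the S_i are not
assumed quasi-compact or quasi-separated), i an index, and X_i → S_i, Y_i → S_i morphisms locally of
finite presentation with X_i, Y_i quasi-compact and quasi-separated; let X, Y be their base changes
to S (pullback squares). Then every S-morphism f : X → Y comes from some stage: for some index j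
over i there is an S_j-morphism f_j : X_i ×_{S_i} S_j → Y_i ×_{S_i} S_j whose base change to S is f,
in the sense that the canonical morphisms X → X_i ×_{S_i} S_j and Y → Y_i ×_{S_i} S_j intertwine f
and f_j. This is the fullness part of the equivalence between the colimit of the categories of
quasi-compact quasi-separated schemes locally of finite presentation over the S_i and the
corresponding category over S. -/
theorem result {I : Type u} [SmallCategory I] [IsCofiltered I]
    (D : I ⥤ Scheme.{u}) (c : Limits.Cone D) (hc : Limits.IsLimit c)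
    [∀ (i j : I) (f : i ⟶ j), IsAffineHom (D.map f)] (i : I)
    {Xi Yi : Scheme.{u}} (xi : Xi ⟶ D.obj i) (yi : Yi ⟶ D.obj i)
    [CompactSpace Xi] [QuasiSeparatedSpace Xi] [LocallyOfFinitePresentation xi]
    [CompactSpace Yi] [QuasiSeparatedSpace Yi] [LocallyOfFinitePresentation yi]
    {X Y : Scheme.{u}} (qX : X ⟶ Xi) (pX : X ⟶ c.pt) (hX : IsPullback qX pX xi (c.π.app i))
    (qY : Y ⟶ Yi) (pY : Y ⟶ c.pt) (hY : IsPullback qY pY yi (c.π.app i))
    (f : X ⟶ Y) (hf : f ≫ pY = pX) :
    ∃ (j : I) (φ : j ⟶ i) (fj : pullback xi (D.map φ) ⟶ pullback yi (D.map φ))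
      (sX : X ⟶ pullback xi (D.map φ)) (sY : Y ⟶ pullback yi (D.map φ)),
      fj ≫ pullback.snd yi (D.map φ) = pullback.snd xi (D.map φ) ∧
      sX ≫ pullback.fst xi (D.map φ) = qX ∧ sX ≫ pullback.snd xi (D.map φ) = pX ≫ c.π.app j ∧
      sY ≫ pullback.fst yi (D.map φ) = qY ∧ sY ≫ pullback.snd yi (D.map φ) = pY ≫ c.π.app j ∧
      sX ≫ fj = f ≫ sY := by
  have : ∀ {j k : Over i} (f : j ⟶ k), IsAffineHom ((D' D i xi).map f) := fun f => D'_affine D i xi _ _ f
  have : ∀ j : Over i, CompactSpace ((D' D i xi).obj j) := fun j => D'_compact D i xi j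
  have : ∀ j : Over i, QuasiSeparatedSpace ((D' D i xi).obj j) := fun j => D'_quasiSeparated D i xi j
  obtain ⟨e, he_snd, he_fst⟩ : ∃ e : X ≅ pullback (c.π.app i) xi,
      e.hom ≫ pullback.snd (c.π.app i) xi = qX ∧ e.hom ≫ pullback.fst (c.π.app i) xi = pX :=
    ⟨hX.flip.isoPullback, hX.flip.isoPullback_hom_snd, hX.flip.isoPullback_hom_fst⟩
  have he_inv : e.inv ≫ qX = pullback.snd (c.π.app i) xi := by
    rw [Iso.inv_comp_eq, he_snd]
  have hayi : (e.inv ≫ f ≫ qY) ≫ yi = pullback.snd (c.π.app i) xi ≫ xi := by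
    rw [Category.assoc, Category.assoc, hY.w, ← Category.assoc f, hf, ← hX.w, ← Category.assoc,
      he_inv]
  obtain ⟨k, g0, hg1, hg2⟩ := Scheme.exists_π_app_comp_eq_of_locallyOfFinitePresentation
    (D' D i xi) (t' D i xi) yi (c' D c i xi) (hc' D c hc i xi) (e.inv ≫ f ≫ qY)
    (by
      ext j : 2
      have h1 := c'_π_snd D c i xi j
      change (c' D c i xi).π.app j ≫ (pullback.snd (D.map j.hom) xi ≫ xi) = (e.inv ≫ f ≫ qY) ≫ yi
      rw [hayi]
      exact (Category.assoc _ _ _).symm.trans (congrArg (· ≫ xi) h1))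
  obtain ⟨g, hg⟩ : ∃ g : pullback (D.map k.hom) xi ⟶ Yi, g = g0 := ⟨g0, rfl⟩
  have hg2' : g ≫ yi = pullback.snd (D.map k.hom) xi ≫ xi := by rw [hg]; exact hg2
  obtain ⟨π, hπ, hπ_fst, hπ_snd⟩ : ∃ π : pullback (c.π.app i) xi ⟶ pullback (D.map k.hom) xi,
      π = (c' D c i xi).π.app k ∧
      π ≫ pullback.fst (D.map k.hom) xi = pullback.fst (c.π.app i) xi ≫ c.π.app k.left ∧
      π ≫ pullback.snd (D.map k.hom) xi = pullback.snd (c.π.app i) xi :=
    ⟨(c' D c i xi).π.app k, rfl, c'_π_fst D c i xi k, c'_π_snd D c i xi k⟩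
  have hg1' : π ≫ g = e.inv ≫ f ≫ qY := by rw [hg, hπ]; exact hg1
  have hw : qX ≫ xi = (pX ≫ c.π.app k.left) ≫ D.map k.hom := by
    rw [Category.assoc, c.w, hX.w]
  have hwY : qY ≫ yi = (pY ≫ c.π.app k.left) ≫ D.map k.hom := by
    rw [Category.assoc, c.w, hY.w]
  have hcond : ((pullbackSymmetry xi (D.map k.hom)).hom ≫ g) ≫ yi =
      pullback.snd xi (D.map k.hom) ≫ D.map k.hom := by
    rw [Category.assoc, hg2', ← pullback.condition]
    simp
  refine ⟨k.left, k.hom,
    pullback.lift ((pullbackSymmetry _ _).hom ≫ g) (pullback.snd xi (D.map k.hom)) hcond,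
    pullback.lift qX (pX ≫ c.π.app k.left) hw,
    pullback.lift qY (pY ≫ c.π.app k.left) hwY, ?_, ?_, ?_, ?_, ?_, ?_⟩
  · exact pullback.lift_snd _ _ _
  · exact pullback.lift_fst _ _ _
  · exact pullback.lift_snd _ _ _
  · exact pullback.lift_fst _ _ _
  · exact pullback.lift_snd _ _ _
  · apply pullback.hom_ext
    · simp only [Category.assoc, pullback.lift_fst]
      have h3 : pullback.lift qX (pX ≫ c.π.app k.left) hw ≫ (pullbackSymmetry xi (D.map k.hom)).hom =
          e.hom ≫ π := by
        apply pullback.hom_ext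
        · rw [Category.assoc, Category.assoc, pullbackSymmetry_hom_comp_fst, pullback.lift_snd,
            hπ_fst, ← Category.assoc, he_fst]
        · rw [Category.assoc, Category.assoc, pullbackSymmetry_hom_comp_snd, pullback.lift_fst,
            hπ_snd, he_snd]
      rw [← Category.assoc, h3, Category.assoc, hg1']
      simp
    · simp only [Category.assoc, pullback.lift_snd]
      rw [← Category.assoc, hf]


end Groth.Agent.S9218
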