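import Groth.Statements.S4759
import Groth.Agent.Lib.Helper73.LimConstructible

set_option autoImplicit false
universe u
open CategoryTheory AlgebraicGeometry
open Lim8

namespace Groth.Agent.S4759

/-- Let S = lim S_i be a cofiltered limit of schemes with affine transition maps, some stage S_{i₀}
being quasi-compact and quasi-separated. Then every constructible subset Z of S is the preimage
under the projection S ⟶ S_i of a constructible subset of S_i, for some index i over i₀. -/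
theorem result {I : Type u} [SmallCategory I] [IsCofiltered I]
    (D : I ⥤ Scheme.{u}) (c : Limits.Cone D) (hc : Limits.IsLimit c)
    [∀ (i j : I) (f : i ⟶ j), IsAffineHom (D.map f)] (i₀ : I) [CompactSpace (D.obj i₀)]
    [QuasiSeparatedSpace (D.obj i₀)] (Z : Set c.pt) (hZ : Topology.IsConstructible Z) :
    ∃ (i : I) (_ : i ⟶ i₀) (Zi : Set (D.obj i)),
      Topology.IsConstructible Zi ∧ (⇑(c.π.app i) ⁻¹' Zi : Set c.pt) = Z := by
  have hcpt := Groth.Agent.Lib.Helper73.compactSpace_pt D c hc i₀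
  have hcomp : ∀ {i j : I} (f : i ⟶ j) (s : c.pt), D.map f (c.π.app i s) = c.π.app j s := by
    intro i j f s
    rw [← Scheme.Hom.comp_apply, c.w]
  refine Groth.Agent.Lib.Helper73.isConstructible_sdiff_union_induction
    (P := fun Z => ∃ (i : I) (_ : i ⟶ i₀) (Zi : Set (D.obj i)),
      Topology.IsConstructible Zi ∧ (⇑(c.π.app i) ⁻¹' Zi : Set c.pt) = Z) ?_ ?_ hZ
  · intro A B hA hA' hB hB'
    obtain ⟨i, a, A', B', hA'c, hB'c, eA, eB⟩ :=
      Groth.Agent.Lib.Helper73.exists_compact_opens_preimage_eq₂ D c hc i₀ ⟨A, hA⟩ ⟨B, hB⟩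
        hA'.isCompact hB'.isCompact
    have := Groth.Agent.Lib.Helper73.compactSpace_of_hom D a
    have := Groth.Agent.Lib.Helper73.quasiSeparatedSpace_of_hom D a
    refine ⟨i, a, (A' : Set _) \ B',
      (hA'c.isConstructible A'.2).sdiff (hB'c.isConstructible B'.2), ?_⟩
    have e1 : (⇑(c.π.app i) ⁻¹' (A' : Set _)) = A :=
      congrArg (fun (U : c.pt.Opens) => (U : Set c.pt)) eA
    have e2 : (⇑(c.π.app i) ⁻¹' (B' : Set _)) = B :=
      congrArg (fun (U : c.pt.Opens) => (U : Set c.pt)) eB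
    rw [Set.preimage_sdiff, e1, e2]
  · rintro Z₁ Z₂ ⟨i₁, a₁, Y₁, hY₁, e₁⟩ ⟨i₂, a₂, Y₂, hY₂, e₂⟩
    refine ⟨IsCofiltered.min i₁ i₂, IsCofiltered.minToLeft i₁ i₂ ≫ a₁,
      (D.map (IsCofiltered.minToLeft i₁ i₂)) ⁻¹' Y₁ ∪ (D.map (IsCofiltered.minToRight i₁ i₂)) ⁻¹' Y₂,
      ((D.map _).isConstructible_preimage hY₁).union ((D.map _).isConstructible_preimage hY₂), ?_⟩
    rw [← e₁, ← e₂]
    ext s
    simp only [Set.mem_preimage, Set.mem_union, hcomp]

end Groth.Agent.S4759
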