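import Groth.Statements.S0084
-- import your own Groth.Agent.* helpers here
import Groth.Agent.S0082
import Mathlib.RingTheory.Finiteness.Descent

set_option autoImplicit false
open CategoryTheory CategoryTheory.Limits AlgebraicGeometry Opposite
universe u
open EtBase

namespace Groth.Agent.S0084


/-- Finiteness of a morphism descends along a quasi-compact flat surjective base change: if the base
change of a morphism along a quasi-compact, flat, surjective morphism is finite, then the morphism
is finite. (The published statement is the fpqc-local form; stated here for a single quasi-compact
flat surjective base change, from which that form follows by Zariski-locality on the target.) -/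
theorem result :
    MorphismProperty.DescendsAlong @IsFinite (@Surjective ⊓ @Flat ⊓ @QuasiCompact : MorphismProperty Scheme.{u}) := by
  exact Groth.Agent.S0082.descendsAlong_of_affineAnd' (P := @IsFinite)
    (Q := RingHom.Finite) inferInstance RingHom.finite_respectsIso
    RingHom.Finite.codescendsAlong_faithfullyFlat

end Groth.Agent.S0084
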