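import Groth.Statements.S1460
import Mathlib.RingTheory.Extension.Presentation.Core
import Mathlib.Algebra.Category.Ring.Constructions
import Mathlib.AlgebraicGeometry.Pullbacks

set_option autoImplicit false
universe u
open FlatMor

namespace Groth.Agent.S1460

open AlgebraicGeometry CategoryTheory Limits TensorProduct in
lemma affine_model {R B : Type u} [CommRing R] [CommRing B] [Algebra R B]
    [Algebra.FinitePresentation R B] :
    ∃ (R₀ B₀ : Type u) (_ : CommRing R₀) (_ : CommRing B₀) (_ : Algebra R₀ R) (_ : Algebra R₀ B₀)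
      (ψ : B₀ →+* B), Algebra.FiniteType ℤ R₀ ∧ Algebra.FiniteType R₀ B₀ ∧
      IsPushout (CommRingCat.ofHom (algebraMap R₀ R)) (CommRingCat.ofHom (algebraMap R₀ B₀))
        (CommRingCat.ofHom (algebraMap R B)) (CommRingCat.ofHom ψ) := by
  let P := Algebra.Presentation.ofFinitePresentation R B
  let R₀ := P.Core
  let B₀ := P.ModelOfHasCoeffs R₀
  let e : R ⊗[R₀] B₀ ≃ₐ[R] B := P.tensorModelOfHasCoeffsEquiv R₀
  let ψ : B₀ →+* B := (e : R ⊗[R₀] B₀ →+* B).comp
    (Algebra.TensorProduct.includeRight (R := R₀) (A := R) (B := B₀)).toRingHom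
  refine ⟨R₀, B₀, inferInstance, inferInstance, inferInstance, inferInstance, ψ,
    inferInstance, inferInstance, ?_⟩
  refine (CommRingCat.isPushout_tensorProduct R₀ R B₀).of_iso (Iso.refl _) (Iso.refl _)
    (Iso.refl _) e.toRingEquiv.toCommRingCatIso (by simp) (by simp) ?_ ?_
  · ext x
    exact e.commutes x
  · rw [Iso.refl_hom, Category.id_comp]
    rfl

open AlgebraicGeometry CategoryTheory Limits in
/-- Let f : X → S be a morphism of finite presentation between affine schemes. Then f is the base change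
of a morphism of finite type f₀ : X₀ → S₀ between affine schemes with S₀ of finite type over ℤ. -/
theorem result {X S : Scheme.{u}} (f : X ⟶ S) [IsAffine X] [IsAffine S] [LocallyOfFinitePresentation f] :
    ∃ (X₀ S₀ : Scheme.{u}) (f₀ : X₀ ⟶ S₀) (g : S ⟶ S₀) (g' : X ⟶ X₀), IsAffine X₀ ∧ IsAffine S₀ ∧ IsPullback g' f f₀ g ∧
      Algebra.FiniteType ℤ Γ(S₀, ⊤) ∧ LocallyOfFiniteType f₀ := by
  have hfp : RingHom.FinitePresentation f.appTop.hom :=
    (HasRingHomProperty.iff_of_isAffine (P := @LocallyOfFinitePresentation)).1 inferInstance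
  algebraize [f.appTop.hom]
  obtain ⟨R₀, B₀, _, _, _, _, ψ, hR₀, hB₀, hpo⟩ := affine_model (R := Γ(S, ⊤)) (B := Γ(X, ⊤))
  have hpb := (isPullback_SpecMap_of_isPushout _ _ _ _ hpo).flip
  refine ⟨Spec (.of B₀), Spec (.of R₀), Spec.map (CommRingCat.ofHom (algebraMap R₀ B₀)),
    S.isoSpec.hom ≫ Spec.map (CommRingCat.ofHom (algebraMap R₀ Γ(S, ⊤))),
    X.isoSpec.hom ≫ Spec.map (CommRingCat.ofHom ψ), inferInstance, inferInstance, ?_, ?_, ?_⟩
  · refine hpb.of_iso X.isoSpec.symm (Iso.refl _) S.isoSpec.symm (Iso.refl _) ?_ ?_ ?_ ?_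
    · simp
    · exact Scheme.isoSpec_inv_naturality f
    · simp
    · simp
  · exact Algebra.FiniteType.equiv hR₀
      (Scheme.ΓSpecIso (.of R₀)).commRingCatIsoToRingEquiv.symm.toIntAlgEquiv
  · rw [HasRingHomProperty.Spec_iff (P := @LocallyOfFiniteType)]
    exact RingHom.finiteType_algebraMap.2 hB₀

end Groth.Agent.S1460
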