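import Groth.Statements.S9355
import Mathlib
import Groth.Agent.S0402
import Groth.Agent.S9358
import Groth.Agent.S1460
import Groth.Agent.Lib.Helper73.DimFormula.Chevalley

set_option autoImplicit false
universe u
open FibDim

namespace Groth.Agent.S9355

open AlgebraicGeometry CategoryTheory in
private lemma affine_case {X S : Scheme.{u}} [IsAffine X] [IsAffine S] (f : X ⟶ S)
    [LocallyOfFinitePresentation f] (n : ℕ) :
    IsCompact {x : ↑X | FlatMor.fibreDimAt f x ≤ n} := by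
  obtain ⟨X₀, S₀, f₀, g, g', hX₀, hS₀, hpb, hft, hlft⟩ := Groth.Agent.S1460.result f
  have e : {x : ↑X | FlatMor.fibreDimAt f x ≤ n} =
      g' ⁻¹' {x : ↑X₀ | FlatMor.fibreDimAt f₀ x ≤ n} := by
    ext x
    simp only [Set.mem_setOf_eq, Set.mem_preimage]
    rw [(Groth.Agent.S9358.result f₀ g g' f hpb n).1 x]
  haveI : IsLocallyNoetherian S₀ := by
    haveI : IsNoetherianRing Γ(S₀, ⊤) := Algebra.FiniteType.isNoetherianRing ℤ _
    exact isLocallyNoetherian_of_affine_cover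
      (S := fun _ : Unit ↦ ⟨⊤, isAffineOpen_top S₀⟩) (by simp) (fun _ => this)
  haveI : IsLocallyNoetherian X₀ := LocallyOfFiniteType.isLocallyNoetherian f₀
  haveI : IsNoetherian X₀ := {}
  rw [e]
  exact QuasiCompact.isCompact_preimage (f := g') _ (Groth.Agent.S0402.result f₀ n)
    (TopologicalSpace.NoetherianSpace.isCompact _)

open AlgebraicGeometry CategoryTheory in
/-- For f : X → S locally of finite presentation and n ≥ 0, the open set U_n of points x with dim_x(X_{f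
x}) ≤ n is retrocompact in X. -/
theorem result {X S : Scheme.{u}} (f : X ⟶ S) [LocallyOfFinitePresentation f] (n : ℕ) :
    IsRetrocompact {x : ↑X | FlatMor.fibreDimAt f x ≤ n} := by
  intro U hUc hUo
  set s : Set ↑X := {x : ↑X | FlatMor.fibreDimAt f x ≤ n} with hs
  have key : ∀ x ∈ U, ∃ V : Set ↑X, V ∈ nhds x ∧ V ⊆ U ∧ IsCompact (s ∩ V) := by
    intro x hx
    obtain ⟨W, hW, hxW, -⟩ := exists_isAffineOpen_mem_and_subset
      (x := f.base x) (U := ⊤) trivial
    obtain ⟨V, hV, hxV, hVU⟩ := exists_isAffineOpen_mem_and_subset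
      (x := x) (U := (⟨U, hUo⟩ : X.Opens) ⊓ f ⁻¹ᵁ W) ⟨hx, hxW⟩
    have e : V ≤ f ⁻¹ᵁ W := fun y hy => (hVU hy).2
    refine ⟨V, V.2.mem_nhds hxV, fun y hy => (hVU hy).1, ?_⟩
    haveI : IsAffine V.toScheme := hV
    haveI : IsAffine W.toScheme := hW
    have hsq : f.resLE W V e ≫ W.ι = V.ι ≫ f := Scheme.Hom.resLE_comp_ι f e
    have h1 : ∀ v : V.toScheme, FlatMor.fibreDimAt (f.resLE W V e) v =
        FlatMor.fibreDimAt f (V.ι.base v) := fun v =>
      Groth.Agent.Lib.Helper73.fibreDimAt_eq_of_isOpenImmersion_square V.ι W.ι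
        (f.resLE W V e) f hsq v
    have h2 : s ∩ V = V.ι.base '' {v | FlatMor.fibreDimAt (f.resLE W V e) v ≤ n} := by
      ext y
      constructor
      · rintro ⟨hy1, hy2⟩
        refine ⟨⟨y, hy2⟩, ?_, rfl⟩
        change FlatMor.fibreDimAt (f.resLE W V e) ⟨y, hy2⟩ ≤ n
        rw [h1]
        exact hy1
      · rintro ⟨v, hv, rfl⟩
        refine ⟨?_, v.2⟩
        change FlatMor.fibreDimAt f (V.ι.base v) ≤ n
        rw [← h1]
        exact hv
    rw [h2]
    exact (affine_case (f.resLE W V e) n).image V.ι.continuous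
  choose! V hV1 hV2 hV3 using key
  obtain ⟨t, ht1, ht2⟩ := hUc.elim_nhds_subcover V hV1
  have h3 : s ∩ U = ⋃ x ∈ t, s ∩ V x := by
    ext y
    simp only [Set.mem_inter_iff, Set.mem_iUnion, exists_prop]
    constructor
    · rintro ⟨hy1, hy2⟩
      obtain ⟨x, hx, hyx⟩ := Set.mem_iUnion₂.mp (ht2 hy2)
      exact ⟨x, hx, hy1, hyx⟩
    · rintro ⟨x, hx, hy1, hyx⟩
      exact ⟨hy1, hV2 x (ht1 x hx) hyx⟩
  rw [h3]
  exact t.isCompact_biUnion (fun x hx => hV3 x (ht1 x hx))

end Groth.Agent.S9355
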