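import Groth.Statements.S3445
import Mathlib
import Groth.Agent.S0402
import Groth.Agent.S9355
import Groth.Agent.S9358
import Groth.Agent.Lib.Helper36.FibreDimZero
import Groth.Agent.Lib.Helper50.LimDesc10
import Groth.Agent.Lib.Helper73.DimFormula.FibreDimSemi

set_option autoImplicit false
open CategoryTheory AlgebraicGeometry
universe u
open EGA43

namespace Groth.Agent.S3445

private lemma lc_compl {Y : Type*} [TopologicalSpace Y] {s : Set Y}
    (hs : Topology.IsLocallyConstructible s) : Topology.IsLocallyConstructible sᶜ := by
  intro x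
  obtain ⟨U, hU, hUo, hUs⟩ := hs x
  exact ⟨U, hU, hUo, hUs.compl⟩

open CategoryTheory.Limits in
/-- Let g : Y ⟶ S and f : X ⟶ Y be such that X and Y are of finite presentation over S (locally of
finite presentation, quasi-compact and quasi-separated). For each point s of S let f_s be the
induced morphism from the fibre of f ≫ g over s to the fibre of g over s. Then the set of s for
which f_s is quasi-finite is locally constructible in S. -/
theorem result {X Y S : Scheme.{u}} (f : X ⟶ Y) (g : Y ⟶ S)
    [LocallyOfFinitePresentation g] [QuasiCompact g] [QuasiSeparated g]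
    [LocallyOfFinitePresentation (f ≫ g)] [QuasiCompact (f ≫ g)] [QuasiSeparated (f ≫ g)] :
    Topology.IsLocallyConstructible {s : S |
      LocallyQuasiFinite (pullback.lift (pullback.fst (f ≫ g) (S.fromSpecResidueField s) ≫ f) (pullback.snd (f ≫ g) (S.fromSpecResidueField s))
          ((Category.assoc _ _ _).trans pullback.condition) :
        pullback (f ≫ g) (S.fromSpecResidueField s) ⟶ pullback g (S.fromSpecResidueField s))} := by
  have hg : LocallyOfFiniteType g := inferInstance
  have hf : LocallyOfFinitePresentation f :=
    Groth.Agent.Lib.Helper50.locallyOfFinitePresentation_of_comp f g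
  have hft : LocallyOfFiniteType f := inferInstance
  have hU : Topology.IsLocallyConstructible {x : ↑X | FlatMor.fibreDimAt f x ≤ (0 : ℕ)} :=
    (Groth.Agent.S9355.result f 0).isLocallyConstructible (Groth.Agent.S0402.result f 0)
  have h1 := lc_compl ((f ≫ g).isLocallyConstructible_image (lc_compl hU))
  convert h1 using 1
  ext s
  simp only [Set.mem_setOf_eq, Set.mem_compl_iff, Set.mem_image, not_exists, not_and]
  set ι := S.fromSpecResidueField s with hι
  set fs : pullback (f ≫ g) ι ⟶ pullback g ι :=
    pullback.lift (pullback.fst (f ≫ g) ι ≫ f) (pullback.snd (f ≫ g) ι)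
      ((Category.assoc _ _ _).trans pullback.condition) with hfs
  have H : IsPullback (pullback.fst (f ≫ g) ι) fs f (pullback.fst g ι) := by
    refine IsPullback.of_bot ?_ (pullback.lift_fst _ _ _).symm (IsPullback.of_hasPullback g ι)
    rw [pullback.lift_snd]
    exact IsPullback.of_hasPullback (f ≫ g) ι
  have hfslft : LocallyOfFiniteType fs := MorphismProperty.of_isPullback H hft
  have hdim := (Groth.Agent.S9358.result f (pullback.fst g ι) (pullback.fst (f ≫ g) ι) fs H 0).1
  rw [Groth.Agent.Lib.Helper36.FibreDimZero.locallyQuasiFinite_iff_fibreDimAt_eq_zero fs]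
  constructor
  · intro h x hx hxs
    apply hx
    have hxr : x ∈ Set.range (pullback.fst (f ≫ g) ι).base := by
      rw [Scheme.Pullback.range_fst, Scheme.range_fromSpecResidueField]
      exact hxs
    obtain ⟨x', rfl⟩ := hxr
    rw [← hdim x', h x']
    exact le_rfl
  · intro h x'
    have hxs : (f ≫ g).base ((pullback.fst (f ≫ g) ι).base x') = s := by
      have : (pullback.fst (f ≫ g) ι).base x' ∈ Set.range (pullback.fst (f ≫ g) ι).base := ⟨x', rfl⟩
      rw [Scheme.Pullback.range_fst, Scheme.range_fromSpecResidueField] at this
      exact this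
    have hle : FlatMor.fibreDimAt f ((pullback.fst (f ≫ g) ι).base x') ≤ (0 : ℕ) := by
      by_contra hcon
      exact h _ hcon hxs
    rw [← hdim x'] at hle
    obtain ⟨d, hd⟩ := Groth.Agent.Lib.Helper73.exists_fibreDimAt_eq_natCast fs x'
    rw [hd] at hle ⊢
    have : d ≤ 0 := by exact_mod_cast hle
    have : d = 0 := by omega
    subst this
    rfl

end Groth.Agent.S3445
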