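import Groth.Statements.S4801
import Groth.Agent.Lib.Helper18.GenericFP
import Mathlib.RingTheory.Flat.Equalizer
import Mathlib.RingTheory.LocalRing.ResidueField.Ideal
import Mathlib.RingTheory.Flat.Localization

set_option autoImplicit false
universe u
open TensorProduct
open Cons9

namespace Groth.Agent.S4801

open Groth.Agent.Lib.Helper18

section Lemmas

variable {R : Type u} [CommRing R]

theorem tmul_eq_zero_of_pow_smul {M : Type u} [AddCommGroup M] [Module R M]
    (f : R) (κ : Type u) [CommRing κ] [Algebra R κ] (hf : IsUnit (algebraMap R κ f))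
    (c : κ) (z : M) (k : ℕ) (hz : f ^ k • z = 0) : c ⊗ₜ[R] z = 0 := by
  have hu : IsUnit (algebraMap R κ (f ^ k)) := by
    rw [map_pow]
    exact hf.pow k
  have ha : c = f ^ k • ((↑hu.unit⁻¹ : κ) * c) := by
    rw [Algebra.smul_def, ← mul_assoc, IsUnit.mul_val_inv, one_mul]
  rw [ha, TensorProduct.smul_tmul, hz, TensorProduct.tmul_zero]

theorem baseChange_injective_of_pow_torsion_ker {M M' : Type u} [AddCommGroup M] [Module R M]
    [AddCommGroup M'] [Module R M']
    (f : R) (κ : Type u) [CommRing κ] [Algebra R κ] (hf : IsUnit (algebraMap R κ f))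
    (π : M' →ₗ[R] M) (hπ : Function.Surjective π)
    (hker : ∀ z, π z = 0 → ∃ k : ℕ, f ^ k • z = 0) : Function.Injective (π.baseChange κ) := by
  have hex := lTensor_exact κ (LinearMap.exact_subtype_ker_map π) hπ
  rw [injective_iff_map_eq_zero]
  intro x hx
  obtain ⟨w, rfl⟩ := (hex x).1 hx
  have hw : ∀ w : κ ⊗[R] (LinearMap.ker π), w = 0 := by
    intro w
    induction w using TensorProduct.induction_on with
    | zero => rfl
    | tmul a z =>
      obtain ⟨k, hk⟩ := hker z.1 z.2
      exact tmul_eq_zero_of_pow_smul f κ hf a z k (Subtype.ext hk)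
    | add a b ha hb => rw [ha, hb, add_zero]
  rw [hw w, map_zero]

theorem baseChange_injective_of_flat_localized {A B D : Type u} [AddCommGroup A] [Module R A]
    [AddCommGroup B] [Module R B] [AddCommGroup D] [Module R D]
    (f : R) (κ : Type u) [CommRing κ] [Algebra R κ] (hf : IsUnit (algebraMap R κ f))
    (j : A →ₗ[R] B) (hj : Function.Injective j) (p : B →ₗ[R] D) (hp : Function.Surjective p)
    (hex : Function.Exact j p)
    [Module.Flat (Localization.Away f) (Localization.Away f ⊗[R] D)] :
    Function.Injective (j.baseChange κ) := by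
  letI : Algebra (Localization.Away f) κ := (IsLocalization.Away.lift f hf).toAlgebra
  haveI : IsScalarTower R (Localization.Away f) κ :=
    IsScalarTower.of_algebraMap_eq (fun r => (IsLocalization.Away.lift_eq f hf r).symm)
  have hj' : Function.Injective (j.baseChange (Localization.Away f)) :=
    Module.Flat.lTensor_preserves_injective_linearMap j hj
  have hp' : Function.Surjective (p.baseChange (Localization.Away f)) :=
    LinearMap.lTensor_surjective _ hp
  have hex' : Function.Exact (j.baseChange (Localization.Away f))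
      (p.baseChange (Localization.Away f)) := lTensor_exact (Localization.Away f) hex hp
  have key : Function.Injective ((j.baseChange (Localization.Away f)).baseChange κ) :=
    LinearMap.lTensor_injective_of_exact_of_flat (p.baseChange (Localization.Away f)) hp'
      (j.baseChange (Localization.Away f)) hj' hex' κ
  rw [LinearMap.baseChange_baseChange] at key
  intro x y hxy
  have h1 := @key ((TensorProduct.AlgebraTensorModule.cancelBaseChange R (Localization.Away f) κ κ A).symm x)
    ((TensorProduct.AlgebraTensorModule.cancelBaseChange R (Localization.Away f) κ κ A).symm y)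
    (by simp [hxy])
  exact (TensorProduct.AlgebraTensorModule.cancelBaseChange R (Localization.Away f) κ κ A).symm.injective h1

theorem exists_smul_eq_zero_of_tmul_eq_zero [IsDomain R] {M : Type u} [AddCommGroup M] [Module R M]
    (x : M) (h : (1 : FractionRing R) ⊗ₜ[R] x = 0) : ∃ c : R, c ≠ 0 ∧ c • x = 0 := by
  haveI : IsLocalizedModule (nonZeroDivisors R) (TensorProduct.mk R (FractionRing R) M 1) :=
    (isLocalizedModule_iff_isBaseChange (nonZeroDivisors R) (FractionRing R) _).2
      (TensorProduct.isBaseChange R M (FractionRing R))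
  obtain ⟨c, hc⟩ := (IsLocalizedModule.eq_zero_iff (nonZeroDivisors R)
    (TensorProduct.mk R (FractionRing R) M 1)).1 h
  exact ⟨c.1, nonZeroDivisors.ne_zero c.2, hc⟩

end Lemmas

/-- Let R be an integral domain with fraction field K, B an R-algebra of finite presentation, F, G, H
three B-modules of finite presentation and u : F → G, v : G → H homomorphisms of B-modules such that
the generic fibre sequence K ⊗_R F → K ⊗_R G → K ⊗_R H is exact. Then there is a nonzero f ∈ R such
that, for every prime ideal p of R with f ∉ p, the fibre sequence κ(p) ⊗_R F → κ(p) ⊗_R G → κ(p) ⊗_R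
H is exact. Affine form: S = Spec R, X = Spec B with B a finitely presented R-algebra, the modules
finitely presented B-modules, and the fibre of a module M at a prime p taken as κ(p) ⊗_R M; the
published statement, for a morphism of finite presentation and quasi-coherent modules of finite
presentation, is local on S and on X and reduces to this one. -/
theorem result {R B : Type u} [CommRing R] [IsDomain R]
    [CommRing B] [Algebra R B] [Algebra.FinitePresentation R B]
    {F G H : Type u} [AddCommGroup F] [Module B F] [Module R F] [IsScalarTower R B F] [Module.FinitePresentation B F]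
    [AddCommGroup G] [Module B G] [Module R G] [IsScalarTower R B G] [Module.FinitePresentation B G]
    [AddCommGroup H] [Module B H] [Module R H] [IsScalarTower R B H] [Module.FinitePresentation B H]
    (u : F →ₗ[B] G) (v : G →ₗ[B] H)
    (hgen : Function.Exact ((u.restrictScalars R).baseChange (FractionRing R)) ((v.restrictScalars R).baseChange (FractionRing R))) :
    ∃ f : R, f ≠ 0 ∧ ∀ p : PrimeSpectrum R, f ∉ p.asIdeal →
      Function.Exact ((u.restrictScalars R).baseChange p.asIdeal.ResidueField) ((v.restrictScalars R).baseChange p.asIdeal.ResidueField) := by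
  classical
  have hx0 : ∀ x : F, ∃ c : R, c ≠ 0 ∧ c • v (u x) = 0 := by
    intro x
    apply exists_smul_eq_zero_of_tmul_eq_zero
    have h0 := hgen.apply_apply_eq_zero ((1 : FractionRing R) ⊗ₜ[R] x)
    simpa using h0
  choose c hc0 hc using hx0
  obtain ⟨s, hs⟩ := (Module.Finite.fg_top : (⊤ : Submodule B F).FG)
  have hf₁ : ∀ x : F, (∏ y ∈ s, c y) • v (u x) = 0 := by
    intro x
    have hx : x ∈ Submodule.span B (s : Set F) := by rw [hs]; trivial
    induction hx using Submodule.span_induction with
    | mem y hy =>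
      obtain ⟨d, hd⟩ := Finset.dvd_prod_of_mem c hy
      rw [hd, mul_comm, mul_smul, hc, smul_zero]
    | zero => simp
    | add y z _ _ hy hz => rw [map_add, map_add, smul_add, hy, hz, add_zero]
    | smul b y _ hy => rw [map_smul, map_smul, smul_comm, hy, smul_zero]
  have hf₁0 : (∏ y ∈ s, c y) ≠ 0 := Finset.prod_ne_zero_iff.2 (fun y _ => hc0 y)
  set f₁ := ∏ y ∈ s, c y with hf₁def
  let W : Submodule B G := LinearMap.range u
  let T : Submodule B H := LinearMap.range (v ∘ₗ u)
  have hWT : W ≤ T.comap v := by
    rintro _ ⟨x, rfl⟩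
    exact ⟨x, rfl⟩
  let w : (G ⧸ W) →ₗ[B] (H ⧸ T) := W.mapQ T v hWT
  haveI : Algebra.FiniteType R B := inferInstance
  obtain ⟨f₂, hf₂, ι, m, hm⟩ := genFree_finiteType (R := R) B (G ⧸ W)
  obtain ⟨f₃, hf₃, hfree⟩ := exists_free_tensor_dvd (R := R) B ((H ⧸ T) ⧸ LinearMap.range w)
  have hfne : f₁ * f₂ * f₃ ≠ 0 := mul_ne_zero (mul_ne_zero hf₁0 hf₂) hf₃
  refine ⟨f₁ * f₂ * f₃, hfne, fun p hp => ?_⟩
  set f := f₁ * f₂ * f₃ with hfdef
  have hfu : IsUnit (algebraMap R p.asIdeal.ResidueField f) := by
    apply IsUnit.mk0
    rwa [Ne, Ideal.algebraMap_residueField_eq_zero]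
  have hf₁u : IsUnit (algebraMap R p.asIdeal.ResidueField f₁) := by
    have : algebraMap R p.asIdeal.ResidueField f = algebraMap R p.asIdeal.ResidueField f₁ *
        algebraMap R p.asIdeal.ResidueField (f₂ * f₃) := by
      rw [← map_mul, hfdef, mul_assoc]
    rw [this] at hfu
    exact isUnit_of_mul_isUnit_left hfu
  have hmf : IsGenBasis f m := hm.of_dvd ⟨f₁ * f₃, by rw [hfdef]; ring⟩ hfne
  haveI : Module.Free (Localization.Away f) (Localization.Away f ⊗[R]
      ((H ⧸ T) ⧸ LinearMap.range w)) :=
    hfree f ⟨f₁ * f₂, by rw [hfdef]; ring⟩ hfne (Localization.Away f)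
  set uR := u.restrictScalars R with huR
  set vR := v.restrictScalars R with hvR
  let π : G →ₗ[R] (G ⧸ W) := W.mkQ.restrictScalars R
  let qT : H →ₗ[R] (H ⧸ T) := T.mkQ.restrictScalars R
  let wR : (G ⧸ W) →ₗ[R] (H ⧸ T) := w.restrictScalars R
  have hπsurj : Function.Surjective π := W.mkQ_surjective
  have hexπ0 : Function.Exact uR π := by
    intro y
    show W.mkQ y = 0 ↔ y ∈ Set.range u
    rw [Submodule.mkQ_apply, Submodule.Quotient.mk_eq_zero]
    rfl
  have hπu : π ∘ₗ uR = 0 := by
    ext x
    exact hexπ0.apply_apply_eq_zero x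
  have hcomm : wR ∘ₗ π = qT ∘ₗ vR := by
    ext x
    rfl
  have hker : ∀ z : G ⧸ W, wR z = 0 → ∃ k : ℕ, f ^ k • z = 0 := by
    intro z hz
    obtain ⟨g, rfl⟩ := W.mkQ_surjective z
    have hz' : T.mkQ (v g) = 0 := hz
    rw [Submodule.mkQ_apply, Submodule.Quotient.mk_eq_zero] at hz'
    obtain ⟨x, hx⟩ := hz'
    have hv0 : v (g - u x) = 0 := by
      rw [map_sub, sub_eq_zero]
      exact hx.symm
    have h1 : (vR.baseChange (FractionRing R)) ((1 : FractionRing R) ⊗ₜ[R] (g - u x)) = 0 := by
      rw [LinearMap.baseChange_tmul]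
      show (1 : FractionRing R) ⊗ₜ[R] v (g - u x) = 0
      rw [hv0, TensorProduct.tmul_zero]
    obtain ⟨η, hη⟩ := (hgen _).1 h1
    have h2 : (π.baseChange (FractionRing R)) ((1 : FractionRing R) ⊗ₜ[R] (g - u x)) = 0 := by
      rw [← hη, ← LinearMap.comp_apply, ← LinearMap.baseChange_comp, hπu,
        LinearMap.baseChange_zero, LinearMap.zero_apply]
    rw [LinearMap.baseChange_tmul] at h2
    have h3 : π (g - u x) = W.mkQ g := by
      show W.mkQ (g - u x) = W.mkQ g
      rw [map_sub, sub_eq_self, Submodule.mkQ_apply, Submodule.Quotient.mk_eq_zero]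
      exact ⟨x, rfl⟩
    rw [h3] at h2
    obtain ⟨c', hc', hcz⟩ := exists_smul_eq_zero_of_tmul_eq_zero _ h2
    exact hmf.pow_smul_eq_zero hc' hcz
  have hw₀ : Function.Injective (wR.rangeRestrict.baseChange p.asIdeal.ResidueField) :=
    baseChange_injective_of_pow_torsion_ker f _ hfu wR.rangeRestrict
      wR.surjective_rangeRestrict (fun z hz => hker z (by
        have := congrArg Subtype.val hz
        simpa using this))
  have hι : Function.Injective ((LinearMap.range wR).subtype.baseChange p.asIdeal.ResidueField) := by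
    refine baseChange_injective_of_flat_localized f _ hfu (LinearMap.range wR).subtype
      (Submodule.injective_subtype _) ((LinearMap.range w).mkQ.restrictScalars R)
      (LinearMap.range w).mkQ_surjective ?_
    intro y
    show (LinearMap.range w).mkQ y = 0 ↔ y ∈ Set.range (LinearMap.range wR).subtype
    rw [Submodule.mkQ_apply, Submodule.Quotient.mk_eq_zero]
    constructor
    · rintro ⟨x, rfl⟩
      exact ⟨⟨w x, ⟨x, rfl⟩⟩, rfl⟩
    · rintro ⟨⟨_, ⟨x, rfl⟩⟩, rfl⟩
      exact ⟨x, rfl⟩
  have hwinj : Function.Injective (wR.baseChange p.asIdeal.ResidueField) := by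
    have h4 : wR = (LinearMap.range wR).subtype ∘ₗ wR.rangeRestrict := by
      ext x
      rfl
    rw [h4, LinearMap.baseChange_comp]
    exact hι.comp hw₀
  have hexπ : Function.Exact (uR.baseChange p.asIdeal.ResidueField)
      (π.baseChange p.asIdeal.ResidueField) :=
    lTensor_exact p.asIdeal.ResidueField hexπ0 hπsurj
  intro y
  constructor
  · intro hy
    apply (hexπ y).1
    apply hwinj
    rw [map_zero, ← LinearMap.comp_apply, ← LinearMap.baseChange_comp, hcomm,
      LinearMap.baseChange_comp, LinearMap.comp_apply, hy, map_zero]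
  · rintro ⟨x, rfl⟩
    induction x using TensorProduct.induction_on with
    | zero => simp
    | tmul a x =>
      rw [LinearMap.baseChange_tmul, LinearMap.baseChange_tmul]
      exact tmul_eq_zero_of_pow_smul f₁ _ hf₁u a _ 1 (by rw [pow_one]; exact hf₁ x)
    | add a b ha hb => rw [map_add, map_add, ha, hb, add_zero]

end Groth.Agent.S4801
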