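import Groth.Statements.S4824
import Mathlib

set_option autoImplicit false
open CategoryTheory AlgebraicGeometry
universe u
open Cons9

set_option linter.unusedSectionVars false

namespace Groth.Agent.S4824Aux
open MvPolynomial TensorProduct CategoryTheory.Limits

/-- Nullstellensatz-type lemma -/
lemma exists_algHom_ne_zero (Ω : Type u) [Field Ω] [IsAlgClosed Ω] (A : Type u) [CommRing A] [IsDomain A]
    [Algebra Ω A] [Algebra.FiniteType Ω A] (a : A) (ha : a ≠ 0) :
    ∃ φ : A →ₐ[Ω] Ω, φ a ≠ 0 := by
  let B := Localization.Away a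
  have hle : Submonoid.powers a ≤ nonZeroDivisors A :=
    Submonoid.powers_le.2 (mem_nonZeroDivisors_of_ne_zero ha)
  have : IsDomain B := IsLocalization.isDomain_localization hle
  have : Algebra.FiniteType Ω B :=
    Algebra.FiniteType.trans (inferInstance : Algebra.FiniteType Ω A) (IsLocalization.finiteType_of_monoid_fg (Submonoid.powers a) B)
  obtain ⟨m, hm⟩ := Ideal.exists_maximal B
  let _ : Field (B ⧸ m) := Ideal.Quotient.field m
  have : Algebra.FiniteType Ω (B ⧸ m) := inferInstance
  have : Module.Finite Ω (B ⧸ m) := finite_of_finite_type_of_isJacobsonRing Ω (B ⧸ m)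
  have : Algebra.IsIntegral Ω (B ⧸ m) := Algebra.IsIntegral.of_finite Ω (B ⧸ m)
  have hbij : Function.Bijective (algebraMap Ω (B ⧸ m)) :=
    IsAlgClosed.algebraMap_bijective_of_isIntegral
  let e : Ω ≃ₐ[Ω] (B ⧸ m) := AlgEquiv.ofBijective (Algebra.ofId Ω (B ⧸ m)) hbij
  let ψ : A →ₐ[Ω] (B ⧸ m) := (Ideal.Quotient.mkₐ Ω m).comp (IsScalarTower.toAlgHom Ω A B)
  refine ⟨(e.symm : (B ⧸ m) →ₐ[Ω] Ω).comp ψ, ?_⟩
  have hu : IsUnit (algebraMap A B a) := IsLocalization.Away.algebraMap_isUnit a
  have hu2 : IsUnit (ψ a) := hu.map (Ideal.Quotient.mk m)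
  have : ψ a ≠ 0 := hu2.ne_zero
  simpa using this

variable {σ : Type*}

lemma isUnit_iff_field {R : Type*} [Field R] (P : MvPolynomial σ R) :
    IsUnit P ↔ P.coeff 0 ≠ 0 ∧ ∀ i ≠ 0, P.coeff i = 0 := by
  rw [MvPolynomial.isUnit_iff]
  simp [isNilpotent_iff_eq_zero]

lemma exists_coeff_ne_zero_of_not_isUnit {R : Type*} [Field R] (P : MvPolynomial σ R) (h0 : P ≠ 0)
    (hu : ¬ IsUnit P) : ∃ i, i ≠ 0 ∧ P.coeff i ≠ 0 := by
  by_contra hno
  push Not at hno
  apply hu
  rw [isUnit_iff_field]
  refine ⟨?_, hno⟩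
  intro h00
  apply h0
  ext i
  by_cases hi : i = 0
  · subst hi; simpa using h00
  · simpa using hno i hi

lemma isUnit_map_iff {R S : Type*} [Field R] [Field S] (f : R →+* S) (P : MvPolynomial σ R) :
    IsUnit (map f P) ↔ IsUnit P := by
  simp [isUnit_iff_field, coeff_map]

lemma irreducible_of_map {R S : Type*} [Field R] [Field S] (f : R →+* S) (P : MvPolynomial σ R)
    (h : Irreducible (map f P)) : Irreducible P := by
  constructor
  · intro hu
    exact h.not_isUnit ((isUnit_map_iff f P).2 hu)
  · intro a b hab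
    have := h.isUnit_or_isUnit (a := map f a) (b := map f b) (by rw [hab, map_mul])
    rwa [isUnit_map_iff, isUnit_map_iff] at this

lemma irreducible_map_of_algClosed (Ω : Type u) [Field Ω] [IsAlgClosed Ω] (L : Type u) [Field L]
    [Algebra Ω L] (P : MvPolynomial σ Ω) (hP : Irreducible P) :
    Irreducible (map (algebraMap Ω L) P) := by
  classical
  have hP0 : P ≠ 0 := hP.ne_zero
  have hinjL : Function.Injective (map (σ := σ) (algebraMap Ω L)) :=
    map_injective _ (algebraMap Ω L).injective
  have hPL0 : map (algebraMap Ω L) P ≠ 0 := by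
    intro h; apply hP0; apply hinjL; rw [h, map_zero]
  constructor
  · intro hu
    exact hP.not_isUnit ((isUnit_map_iff _ P).1 hu)
  · intro G H hGH
    by_contra hno
    push Not at hno
    obtain ⟨hGu, hHu⟩ := hno
    have hG0 : G ≠ 0 := by rintro rfl; rw [zero_mul] at hGH; exact hPL0 hGH
    have hH0 : H ≠ 0 := by rintro rfl; rw [mul_zero] at hGH; exact hPL0 hGH
    obtain ⟨mG, hmG, hcG⟩ := exists_coeff_ne_zero_of_not_isUnit G hG0 hGu
    obtain ⟨mH, hmH, hcH⟩ := exists_coeff_ne_zero_of_not_isUnit H hH0 hHu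
    -- the subalgebra generated by coefficients
    let A : Subalgebra Ω L := Algebra.adjoin Ω ((G.coeffs ∪ H.coeffs : Finset L) : Set L)
    have hAfg : Algebra.FiniteType Ω A :=
      (Subalgebra.fg_iff_finiteType A).1 (Subalgebra.fg_adjoin_finset _)
    have hGA : G ∈ Set.range (map (σ := σ) (algebraMap A L)) := by
      rw [mem_range_map_iff_coeffs_subset]
      intro c hc
      exact ⟨⟨c, Algebra.subset_adjoin (by simp [hc])⟩, rfl⟩
    have hHA : H ∈ Set.range (map (σ := σ) (algebraMap A L)) := by
      rw [mem_range_map_iff_coeffs_subset]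
      intro c hc
      exact ⟨⟨c, Algebra.subset_adjoin (by simp [hc])⟩, rfl⟩
    obtain ⟨G', hG'⟩ := hGA
    obtain ⟨H', hH'⟩ := hHA
    have hinjA : Function.Injective (map (σ := σ) (algebraMap A L)) :=
      map_injective _ (Subtype.val_injective)
    have hprod : G' * H' = map (algebraMap Ω A) P := by
      apply hinjA
      rw [map_mul, hG', hH', ← hGH, MvPolynomial.map_map]
      congr 1
    have hg : coeff mG G' ≠ 0 := by
      intro h; apply hcG; rw [← hG', coeff_map, h, map_zero]
    have hh : coeff mH H' ≠ 0 := by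
      intro h; apply hcH; rw [← hH', coeff_map, h, map_zero]
    obtain ⟨φ, hφ⟩ := exists_algHom_ne_zero Ω A (coeff mG G' * coeff mH H') (mul_ne_zero hg hh)
    rw [map_mul] at hφ
    have hφg : φ (coeff mG G') ≠ 0 := left_ne_zero_of_mul hφ
    have hφh : φ (coeff mH H') ≠ 0 := right_ne_zero_of_mul hφ
    have hcomp : (φ : A →+* Ω).comp (algebraMap Ω A) = RingHom.id Ω := by
      ext c; simp
    have hprod2 : P = map (φ : A →+* Ω) G' * map (φ : A →+* Ω) H' := by
      rw [← map_mul, hprod, MvPolynomial.map_map, hcomp, MvPolynomial.map_id]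
    rcases hP.isUnit_or_isUnit hprod2 with hu | hu
    · rw [isUnit_iff_field] at hu
      have := hu.2 mG hmG
      rw [coeff_map] at this
      exact hφg this
    · rw [isUnit_iff_field] at hu
      have := hu.2 mH hmH
      rw [coeff_map] at this
      exact hφh this


/-- irreducibility over an algebraically closed extension implies irreducibility over every
extension -/
lemma irreducible_of_algClosed (k : Type u) [Field k] (Ω : Type u) [Field Ω] [Algebra k Ω]
    [IsAlgClosed Ω] (K : Type u) [Field K] [Algebra k K] {σ : Type*} (F : MvPolynomial σ k)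
    (h : Irreducible (map (algebraMap k Ω) F)) : Irreducible (map (algebraMap k K) F) := by
  obtain ⟨m, hm⟩ := Ideal.exists_maximal (K ⊗[k] Ω)
  let _ : Field ((K ⊗[k] Ω) ⧸ m) := Ideal.Quotient.field m
  let L := (K ⊗[k] Ω) ⧸ m
  let ιK : K →ₐ[k] L := (Ideal.Quotient.mkₐ k m).comp Algebra.TensorProduct.includeLeft
  let ιΩ : Ω →ₐ[k] L := (Ideal.Quotient.mkₐ k m).comp Algebra.TensorProduct.includeRight
  let _ : Algebra Ω L := ιΩ.toRingHom.toAlgebra
  have h1 : Irreducible (map (algebraMap Ω L) (map (algebraMap k Ω) F)) :=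
    irreducible_map_of_algClosed Ω L _ h
  have e1 : (algebraMap Ω L).comp (algebraMap k Ω) = algebraMap k L := by
    ext c; exact ιΩ.commutes c
  have e2 : (ιK : K →+* L).comp (algebraMap k K) = algebraMap k L := by
    ext c; exact ιK.commutes c
  rw [MvPolynomial.map_map, e1, ← e2, ← MvPolynomial.map_map] at h1
  exact irreducible_of_map _ _ h1

noncomputable def quotEquiv (k K : Type*) [Field k] [Field K] [Algebra k K] (F : MvPolynomial σ k) :
    (K ⊗[k] (MvPolynomial σ k ⧸ Ideal.span {F})) ≃+*
      (MvPolynomial σ K ⧸ Ideal.span {map (algebraMap k K) F}) :=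
  (Algebra.TensorProduct.tensorQuotientEquiv (R := k) K (MvPolynomial σ k) K (Ideal.span {F})).toRingEquiv.trans
   (Ideal.quotientEquiv _ _ (MvPolynomial.algebraTensorAlgEquiv k K).toRingEquiv (by
      rw [Ideal.map_span, Set.image_singleton, Ideal.map_span, Set.image_singleton]
      congr 2
      simp [algebraTensorAlgEquiv_tmul]))

lemma isDomain_tensor_iff (k K : Type*) [Field k] [Field K] [Algebra k K] {n : ℕ} (F : MvPolynomial (Fin n) k)
    (hF : F ≠ 0) :
    IsDomain ((MvPolynomial (Fin n) k ⧸ Ideal.span {F}) ⊗[k] K) ↔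
      Irreducible (map (algebraMap k K) F) := by
  have hFK : map (algebraMap k K) F ≠ 0 := by
    intro h; apply hF
    apply map_injective _ (algebraMap k K).injective
    rw [h, map_zero]
  rw [UniqueFactorizationMonoid.irreducible_iff_prime, ← Ideal.span_singleton_prime hFK,
    ← Ideal.Quotient.isDomain_iff_prime]
  let e : ((MvPolynomial (Fin n) k ⧸ Ideal.span {F}) ⊗[k] K) ≃+*
      (MvPolynomial (Fin n) K ⧸ Ideal.span {map (algebraMap k K) F}) :=
    (Algebra.TensorProduct.comm k _ K).toRingEquiv.trans (quotEquiv k K F)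
  constructor
  · intro h
    have hinj : Function.Injective ((e.symm : (MvPolynomial (Fin n) K ⧸ Ideal.span {map (algebraMap k K) F}) →+*
        ((MvPolynomial (Fin n) k ⧸ Ideal.span {F}) ⊗[k] K))) := e.symm.injective
    exact hinj.isDomain _
  · intro h
    have hinj : Function.Injective ((e : ((MvPolynomial (Fin n) k ⧸ Ideal.span {F}) ⊗[k] K) →+*
        (MvPolynomial (Fin n) K ⧸ Ideal.span {map (algebraMap k K) F}))) := e.injective
    exact hinj.isDomain _

lemma isIntegral_of_iso {X Y : Scheme.{u}} (e : X ≅ Y) [IsIntegral Y] : IsIntegral X := by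
  have : Nonempty X := ⟨e.inv (Classical.arbitrary Y)⟩
  exact isIntegral_of_isOpenImmersion e.hom

lemma geomIntegral_iff (k : Type u) [Field k] (B : Type u) [CommRing B] [Algebra k B] :
    GeometricallyIntegral (Spec.map (CommRingCat.ofHom (algebraMap k B))) ↔
      ∀ (K : Type u) [Field K] [Algebra k K], IsDomain (B ⊗[k] K) := by
  rw [geometricallyIntegral_iff, geometrically_iff_of_commRing]
  constructor
  · intro h K _ _
    have h1 : IsIntegral (pullback (Spec.map (CommRingCat.ofHom (algebraMap k B)))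
        (Spec.map (CommRingCat.ofHom (algebraMap k K)))) :=
      h _ _ (IsPullback.of_hasPullback _ _)
    have h2 : IsIntegral (Spec (.of (B ⊗[k] K))) := isIntegral_of_iso (pullbackSpecIso k B K).symm
    exact (affine_isIntegral_iff _).1 h2
  · intro h K _ _ Y fst snd hpb
    have h2 : IsIntegral (Spec (.of (B ⊗[k] K))) := (affine_isIntegral_iff _).2 (h K)
    exact isIntegral_of_iso (hpb.isoPullback ≪≫ pullbackSpecIso k B K)

end Groth.Agent.S4824Aux

namespace Groth.Agent.S4824

/-- Let k be a field, Ω an algebraically closed extension of k and F a non-constant polynomial in k[T_1,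
…, T_n]. The following are equivalent: (a) the k-scheme Spec(k[T_1, …, T_n]/(F)) is geometrically
integral; (b) for every extension field K of k the image of F in K[T_1, …, T_n] is irreducible; (c)
the image of F in Ω[T_1, …, T_n] is irreducible. (Such an F is called geometrically irreducible.) -/
theorem result {k : Type u} [Field k] (Ω : Type u) [Field Ω] [Algebra k Ω]
    [IsAlgClosed Ω] {n : ℕ} (F : MvPolynomial (Fin n) k) (hF : 0 < F.totalDegree) :
    List.TFAE [
      GeometricallyIntegral (Spec.map (CommRingCat.ofHom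
        (algebraMap k (MvPolynomial (Fin n) k ⧸ Ideal.span ({F} : Set (MvPolynomial (Fin n) k)))))),
      ∀ (K : Type u) [Field K] [Algebra k K], Irreducible (MvPolynomial.map (algebraMap k K) F),
      Irreducible (MvPolynomial.map (algebraMap k Ω) F)] := by
  have hF0 : F ≠ 0 := by
    rintro rfl
    simp at hF
  tfae_have 1 ↔ 2 := by
    rw [Groth.Agent.S4824Aux.geomIntegral_iff]
    constructor
    · intro h K _ _
      exact (Groth.Agent.S4824Aux.isDomain_tensor_iff k K F hF0).1 (h K)
    · intro h K _ _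
      exact (Groth.Agent.S4824Aux.isDomain_tensor_iff k K F hF0).2 (h K)
  tfae_have 2 → 3 := fun h => h Ω
  tfae_have 3 → 2 := fun h K _ _ => Groth.Agent.S4824Aux.irreducible_of_algClosed k Ω K F h
  tfae_finish

end Groth.Agent.S4824
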