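import Groth.Statements.S1352
import Groth.Agent.S4824
import Mathlib

set_option autoImplicit false
universe u
open FlatMor

namespace Groth.Agent.S1352

open MvPolynomial Topology in
/-- A constructible subset of the spectrum of a domain missing the generic point is contained in
`V(f)` for some nonzero `f`. -/
theorem exists_ne_zero_of_isConstructible {A : Type u} [CommRing A] [IsDomain A]
    (E : Set (PrimeSpectrum A)) (hE : IsConstructible E)
    (h : (⟨⊥, Ideal.isPrime_bot⟩ : PrimeSpectrum A) ∉ E) :
    ∃ f : A, f ≠ 0 ∧ ∀ p ∈ E, f ∈ p.asIdeal := by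
  classical
  obtain ⟨S, rfl⟩ := PrimeSpectrum.exists_constructibleSetData_iff.mpr hE
  clear hE
  induction S using Finset.induction_on with
  | empty => exact ⟨1, one_ne_zero, by simp [PrimeSpectrum.ConstructibleSetData.toSet]⟩
  | insert C S hC ih =>
    have hsplit : PrimeSpectrum.ConstructibleSetData.toSet (insert C S) =
        C.toSet ∪ PrimeSpectrum.ConstructibleSetData.toSet S := by
      simp [PrimeSpectrum.ConstructibleSetData.toSet]
    rw [hsplit] at h ⊢
    obtain ⟨f₁, hf₁, hf₁'⟩ := ih (fun hh => h (Or.inr hh))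
    have hC' : (⟨⊥, Ideal.isPrime_bot⟩ : PrimeSpectrum A) ∉ C.toSet := fun hh => h (Or.inl hh)
    have : ∃ a : A, a ≠ 0 ∧ ∀ p ∈ C.toSet, a ∈ p.asIdeal := by
      by_cases hf : C.f = 0
      · refine ⟨1, one_ne_zero, ?_⟩
        intro p hp
        exfalso
        simp only [PrimeSpectrum.BasicConstructibleSetData.toSet, Set.mem_sdiff,
          PrimeSpectrum.mem_zeroLocus, Set.singleton_subset_iff, SetLike.mem_coe] at hp
        exact hp.2 (by rw [hf]; exact zero_mem _)
      · by_cases hg : ∀ i, C.g i = 0
        · exfalso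
          apply hC'
          simp only [PrimeSpectrum.BasicConstructibleSetData.toSet, Set.mem_sdiff,
            PrimeSpectrum.mem_zeroLocus, Set.singleton_subset_iff, SetLike.mem_coe]
          refine ⟨?_, ?_⟩
          · rintro _ ⟨i, rfl⟩
            rw [hg i]; exact zero_mem _
          · simpa using hf
        · push Not at hg
          obtain ⟨i, hi⟩ := hg
          refine ⟨C.g i, hi, ?_⟩
          intro p hp
          simp only [PrimeSpectrum.BasicConstructibleSetData.toSet, Set.mem_sdiff,
            PrimeSpectrum.mem_zeroLocus, Set.singleton_subset_iff, SetLike.mem_coe] at hp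
          exact hp.1 ⟨i, rfl⟩
    obtain ⟨a, ha, ha'⟩ := this
    refine ⟨a * f₁, mul_ne_zero ha hf₁, ?_⟩
    rintro p (hp | hp)
    · exact Ideal.mul_mem_right _ _ (ha' p hp)
    · exact Ideal.mul_mem_left _ _ (hf₁' p hp)

section Fact
open MvPolynomial Topology

variable {A : Type u} [CommRing A] {n : ℕ}

/-- Monomials of degree `≤ a`. -/
noncomputable def Mon (n a : ℕ) : Finset (Fin n →₀ ℕ) :=
  (Finsupp.finite_of_degree_le (σ := Fin n) a).toFinset

theorem mem_Mon {n a : ℕ} {m : Fin n →₀ ℕ} : m ∈ Mon n a ↔ m.degree ≤ a := by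
  simp [Mon]

theorem mem_Mon_of_mem_support {L : Type*} [CommSemiring L] {a : ℕ} {Q : MvPolynomial (Fin n) L}
    (hQ : Q.totalDegree ≤ a) {m : Fin n →₀ ℕ} (hm : m ∈ Q.support) : m ∈ Mon n a := by
  rw [mem_Mon]
  refine le_trans ?_ hQ
  have := le_totalDegree hm
  simpa [Finsupp.degree_apply, Finsupp.sum] using this

abbrev Idx (n a b : ℕ) := ↥(Mon n a) ⊕ ↥(Mon n b)

variable (A) in
noncomputable def Qu (n a b : ℕ) : MvPolynomial (Fin n) (MvPolynomial (Idx n a b) A) :=
  ∑ m ∈ (Mon n a).attach, monomial m.1 (X (Sum.inl m))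

variable (A) in
noncomputable def Su (n a b : ℕ) : MvPolynomial (Fin n) (MvPolynomial (Idx n a b) A) :=
  ∑ m ∈ (Mon n b).attach, monomial m.1 (X (Sum.inr m))

noncomputable def Gu (P : MvPolynomial (Fin n) A) (a b : ℕ) :
    MvPolynomial (Fin n) (MvPolynomial (Idx n a b) A) :=
  map C P - Qu A n a b * Su A n a b

open Classical in
noncomputable def gens (P : MvPolynomial (Fin n) A) (a b : ℕ) :
    Finset (MvPolynomial (Idx n a b) A) :=
  (Gu P a b).support.image (Gu P a b).coeff

theorem mem_gens {P : MvPolynomial (Fin n) A} {a b : ℕ} {x : MvPolynomial (Idx n a b) A} :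
    x ∈ gens P a b ↔ ∃ m ∈ (Gu P a b).support, (Gu P a b).coeff m = x := by
  classical
  unfold gens
  exact Finset.mem_image

def Eset (P : MvPolynomial (Fin n) A) (a b : ℕ) : Set (PrimeSpectrum A) :=
  PrimeSpectrum.comap (C : A →+* MvPolynomial (Idx n a b) A) ''
    PrimeSpectrum.zeroLocus (gens P a b : Set (MvPolynomial (Idx n a b) A))

theorem isConstructible_Eset (P : MvPolynomial (Fin n) A) (a b : ℕ) :
    IsConstructible (Eset P a b) := by
  apply PrimeSpectrum.isConstructible_comap_image
  · have : (C : A →+* MvPolynomial (Idx n a b) A) = algebraMap A (MvPolynomial (Idx n a b) A) := rfl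
    rw [this, RingHom.finitePresentation_algebraMap]
    infer_instance
  · have h1 := PrimeSpectrum.isRetrocompact_zeroLocus_compl (gens P a b).finite_toSet
    have h2 := h1.isConstructible (PrimeSpectrum.isClosed_zeroLocus _).isOpen_compl
    simpa using h2.compl

theorem map_sum_monomial {R L : Type*} [CommRing R] [CommRing L] (ψ : R →+* L) {a : ℕ}
    (Q : MvPolynomial (Fin n) L) (hQ : Q.totalDegree ≤ a) (x : ↥(Mon n a) → R)
    (hψ : ∀ m : ↥(Mon n a), ψ (x m) = Q.coeff m.1) :
    map ψ (∑ m ∈ (Mon n a).attach, monomial m.1 (x m)) = Q := by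
  classical
  rw [map_sum]
  simp only [map_monomial, hψ]
  rw [Finset.sum_attach (Mon n a) (fun m => monomial m (coeff m Q))]
  conv_rhs => rw [← support_sum_monomial_coeff Q]
  symm
  apply Finset.sum_subset
  · intro m hm
    exact mem_Mon_of_mem_support hQ hm
  · intro m _ hm
    rw [notMem_support_iff] at hm
    rw [hm, map_zero]

theorem totalDegree_sum_monomial_le {R : Type*} [CommRing R] {a : ℕ} (x : ↥(Mon n a) → R) :
    (∑ m ∈ (Mon n a).attach, monomial m.1 (x m)).totalDegree ≤ a := by
  apply totalDegree_finsetSum_le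
  intro m _
  refine (totalDegree_monomial_le _ _).trans ?_
  have := mem_Mon.mp m.2
  simpa [Finsupp.degree_apply, Finsupp.sum] using this

theorem map_Gu_eq_zero_iff {L : Type*} [CommRing L] (P : MvPolynomial (Fin n) A) (a b : ℕ)
    (ψ : MvPolynomial (Idx n a b) A →+* L) :
    (∀ x ∈ gens P a b, ψ x = 0) ↔ map ψ (Gu P a b) = 0 := by
  classical
  constructor
  · intro h
    ext m
    rw [coeff_map, coeff_zero]
    by_cases hm : m ∈ (Gu P a b).support
    · exact h _ (mem_gens.mpr ⟨m, hm, rfl⟩)
    · rw [notMem_support_iff] at hm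
      rw [hm, map_zero]
  · intro h x hx
    obtain ⟨m, _, rfl⟩ := mem_gens.mp hx
    rw [← coeff_map, h, coeff_zero]

theorem mem_Eset_of_factor {L : Type*} [Field L] (P : MvPolynomial (Fin n) A) (a b : ℕ)
    (g : A →+* L) (Q S : MvPolynomial (Fin n) L) (hQ : Q.totalDegree ≤ a)
    (hS : S.totalDegree ≤ b) (h : map g P = Q * S) :
    (⟨RingHom.ker g, RingHom.ker_isPrime g⟩ : PrimeSpectrum A) ∈ Eset P a b := by
  classical
  let ψ : MvPolynomial (Idx n a b) A →+* L :=
    eval₂Hom g (Sum.elim (fun m => Q.coeff m.1) (fun m => S.coeff m.1))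
  have hψC : ψ.comp C = g := by
    ext x; simp [ψ]
  have h0 : map ψ (Gu P a b) = 0 := by
    rw [Gu, map_sub, map_mul, map_map, hψC, Qu, Su,
      map_sum_monomial ψ Q hQ _ (fun m => by simp [ψ]),
      map_sum_monomial ψ S hS _ (fun m => by simp [ψ]), h, sub_self]
  refine ⟨⟨RingHom.ker ψ, RingHom.ker_isPrime ψ⟩, ?_, ?_⟩
  · rw [PrimeSpectrum.mem_zeroLocus]
    intro x hx
    exact (map_Gu_eq_zero_iff P a b ψ).mpr h0 x hx
  · ext x
    simp only [PrimeSpectrum.comap_asIdeal, Ideal.mem_comap, RingHom.mem_ker]
    rw [← hψC]; rfl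

theorem exists_factor_of_mem_Eset (P : MvPolynomial (Fin n) A) (a b : ℕ)
    (p : PrimeSpectrum A) (hp : p ∈ Eset P a b) :
    ∃ (L : Type u) (_ : Field L) (g : A →+* L) (Q S : MvPolynomial (Fin n) L),
      RingHom.ker g = p.asIdeal ∧ Q.totalDegree ≤ a ∧ S.totalDegree ≤ b ∧ map g P = Q * S := by
  classical
  obtain ⟨q, hq, rfl⟩ := hp
  let L := q.asIdeal.ResidueField
  let ρ : MvPolynomial (Idx n a b) A →+* L := algebraMap _ L
  have hker : RingHom.ker ρ = q.asIdeal := Ideal.ker_algebraMap_residueField _
  have h0 : map ρ (Gu P a b) = 0 := by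
    rw [← map_Gu_eq_zero_iff]
    intro x hx
    have : x ∈ q.asIdeal := hq hx
    rwa [← hker] at this
  refine ⟨L, inferInstance, ρ.comp C, map ρ (Qu A n a b), map ρ (Su A n a b), ?_, ?_, ?_, ?_⟩
  · rw [← RingHom.comap_ker, hker]; rfl
  · rw [Qu, map_sum]
    simp only [map_monomial]
    exact totalDegree_sum_monomial_le _
  · rw [Su, map_sum]
    simp only [map_monomial]
    exact totalDegree_sum_monomial_le _
  · rw [Gu, map_sub, map_mul, map_map, sub_eq_zero] at h0
    exact h0

theorem totalDegree_map_le' {R L : Type*} [CommSemiring R] [CommSemiring L] (g : R →+* L)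
    (P : MvPolynomial (Fin n) R) : (map g P).totalDegree ≤ P.totalDegree :=
  Finset.sup_mono (support_map_subset g P)

end Fact

/-- For a domain A and a polynomial P in finitely many variables over A which is irreducible over an
algebraic closure of the fraction field of A: Then there is a nonzero f in A such that for every
ring map from A[1/f] to a field (in the same universe) the image of P is irreducible. (The source
leaves the nonvanishing of f implicit; for f = 0 the conclusion would be vacuous.) -/
theorem result {A : Type u} [CommRing A] [IsDomain A] {n : ℕ} (P : MvPolynomial (Fin n) A)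
    (hP : Irreducible (MvPolynomial.map (algebraMap A (AlgebraicClosure (FractionRing A))) P)) :
    ∃ f : A, f ≠ 0 ∧ ∀ (κ : Type u) [Field κ] (φ : Localization.Away f →+* κ),
      Irreducible (MvPolynomial.map (φ.comp (algebraMap A (Localization.Away f))) P) := by
  classical
  have hinjK : Function.Injective (algebraMap A (FractionRing A)) :=
    IsFractionRing.injective A (FractionRing A)
  have htd : ∀ {R : Type u} [CommRing R] (g : A →+* R), Function.Injective g →
      (MvPolynomial.map g P).totalDegree = P.totalDegree := by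
    intro R _ g hg
    simp only [MvPolynomial.totalDegree, MvPolynomial.support_map_of_injective _ hg]
  have hPKΩ : MvPolynomial.map (algebraMap (FractionRing A) (AlgebraicClosure (FractionRing A)))
      (MvPolynomial.map (algebraMap A (FractionRing A)) P) =
      MvPolynomial.map (algebraMap A (AlgebraicClosure (FractionRing A))) P := by
    rw [MvPolynomial.map_map, ← IsScalarTower.algebraMap_eq]
  have hinjΩ : Function.Injective (algebraMap A (AlgebraicClosure (FractionRing A))) := by
    rw [IsScalarTower.algebraMap_eq A (FractionRing A) (AlgebraicClosure (FractionRing A))]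
    exact (algebraMap (FractionRing A) (AlgebraicClosure (FractionRing A))).injective.comp hinjK
  have hDpos : 0 < P.totalDegree := by
    by_contra h0
    have h0' : P.totalDegree = 0 := by omega
    have h1 : (MvPolynomial.map (algebraMap A (AlgebraicClosure (FractionRing A))) P).totalDegree
        = 0 := by rw [htd _ hinjΩ, h0']
    apply hP.not_isUnit
    rw [MvPolynomial.isUnit_iff_totalDegree_of_isReduced]
    refine ⟨?_, h1⟩
    rw [isUnit_iff_ne_zero]
    intro hc
    apply hP.ne_zero
    rw [MvPolynomial.totalDegree_eq_zero_iff_eq_C.mp h1, hc, map_zero]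
  have hb : ∀ (L : Type u) [Field L] [Algebra (FractionRing A) L],
      Irreducible (MvPolynomial.map (algebraMap (FractionRing A) L)
        (MvPolynomial.map (algebraMap A (FractionRing A)) P)) := by
    have := (Groth.Agent.S4824.result (AlgebraicClosure (FractionRing A))
      (MvPolynomial.map (algebraMap A (FractionRing A)) P)
      (by rw [htd _ hinjK]; exact hDpos)).out 2 1
    exact this.mp (by rw [hPKΩ]; exact hP)
  -- the generic point is not in the bad sets
  have hbot : ∀ i, 0 < i → i < P.totalDegree →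
      (⟨⊥, Ideal.isPrime_bot⟩ : PrimeSpectrum A) ∉ Eset P i (P.totalDegree - i) := by
    intro i hi hiD hmem
    obtain ⟨L, _, g, Q, S, hker, hQ, hS, hfac⟩ := exists_factor_of_mem_Eset P i _ _ hmem
    have hg : Function.Injective g := (RingHom.injective_iff_ker_eq_bot g).mpr hker
    let _ : Algebra (FractionRing A) L := (IsFractionRing.lift hg).toAlgebra
    have hcomp : (algebraMap (FractionRing A) L).comp (algebraMap A (FractionRing A)) = g := by
      ext x
      simp [RingHom.algebraMap_toAlgebra]
    have hirr := hb L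
    rw [MvPolynomial.map_map, hcomp, hfac] at hirr
    have hdeg : (Q * S).totalDegree = P.totalDegree := by rw [← hfac, htd _ hg]
    have hle := MvPolynomial.totalDegree_mul Q S
    rcases hirr.isUnit_or_isUnit rfl with hu | hu
    · have hQ0 := ((MvPolynomial.isUnit_iff_totalDegree_of_isReduced).mp hu).2
      omega
    · have hS0 := ((MvPolynomial.isUnit_iff_totalDegree_of_isReduced).mp hu).2
      omega
  -- choose the functions
  have hex : ∀ i : ℕ, ∃ f : A, f ≠ 0 ∧ (0 < i → i < P.totalDegree →
      ∀ p ∈ Eset P i (P.totalDegree - i), f ∈ p.asIdeal) := by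
    intro i
    by_cases hi : 0 < i ∧ i < P.totalDegree
    · obtain ⟨f, hf, hf'⟩ := exists_ne_zero_of_isConstructible _ (isConstructible_Eset P i _)
        (hbot i hi.1 hi.2)
      exact ⟨f, hf, fun _ _ => hf'⟩
    · exact ⟨1, one_ne_zero, fun h1 h2 => absurd ⟨h1, h2⟩ hi⟩
  choose F hF0 hF using hex
  -- the top coefficient
  have hPne : P ≠ 0 := by
    rintro rfl
    simp at hDpos
  obtain ⟨m₀, hm₀, hm₀D⟩ : ∃ m ∈ P.support, P.totalDegree = m.sum fun _ e => e := by
    have hne : P.support.Nonempty := by
      rwa [Finset.nonempty_iff_ne_empty, Ne, MvPolynomial.support_eq_empty]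
    obtain ⟨m, hm, hm'⟩ := Finset.exists_mem_eq_sup P.support hne (fun s => s.sum fun _ e => e)
    exact ⟨m, hm, hm'⟩
  have hc₀ : P.coeff m₀ ≠ 0 := MvPolynomial.mem_support_iff.mp hm₀
  obtain ⟨f, hf⟩ : ∃ f : A, f = P.coeff m₀ * ∏ i ∈ Finset.range P.totalDegree, F i := ⟨_, rfl⟩
  refine ⟨f, by rw [hf]; exact mul_ne_zero hc₀ (Finset.prod_ne_zero_iff.mpr fun i _ => hF0 i), ?_⟩
  intro κ _ φ
  obtain ⟨ψ, hψ⟩ : ∃ ψ : A →+* κ, ψ = φ.comp (algebraMap A (Localization.Away f)) := ⟨_, rfl⟩
  rw [← hψ]
  have hfu : ψ f ≠ 0 := by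
    have : IsUnit (algebraMap A (Localization.Away f) f) := IsLocalization.Away.algebraMap_isUnit f
    rw [hψ]
    exact (this.map φ).ne_zero
  have hc₀' : ψ (P.coeff m₀) ≠ 0 := by
    intro h0
    apply hfu
    rw [hf, map_mul, h0, zero_mul]
  have hFi : ∀ i, i < P.totalDegree → ψ (F i) ≠ 0 := by
    intro i hi h0
    apply hfu
    rw [hf, map_mul, map_prod, Finset.prod_eq_zero (Finset.mem_range.mpr hi) h0, mul_zero]
  -- total degree of the image
  have hdegκ : (MvPolynomial.map ψ P).totalDegree = P.totalDegree := by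
    apply le_antisymm
    · exact totalDegree_map_le' ψ P
    · rw [hm₀D]
      apply MvPolynomial.le_totalDegree
      rw [MvPolynomial.mem_support_iff, MvPolynomial.coeff_map]
      exact hc₀'
  have hne : MvPolynomial.map ψ P ≠ 0 := by
    intro h0
    rw [h0] at hdegκ
    simp at hdegκ
    omega
  rw [irreducible_iff]
  refine ⟨?_, ?_⟩
  · intro hu
    have := ((MvPolynomial.isUnit_iff_totalDegree_of_isReduced).mp hu).2
    omega
  · intro a b hab
    have ha : a ≠ 0 := by
      rintro rfl
      exact hne (by rw [hab, zero_mul])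
    have hb' : b ≠ 0 := by
      rintro rfl
      exact hne (by rw [hab, mul_zero])
    have hsum : a.totalDegree + b.totalDegree = P.totalDegree := by
      rw [← MvPolynomial.totalDegree_mul_of_isDomain ha hb', ← hab, hdegκ]
    have hconst : ∀ c : MvPolynomial (Fin n) κ, c ≠ 0 → c.totalDegree = 0 → IsUnit c := by
      intro c hc h0
      rw [MvPolynomial.isUnit_iff_totalDegree_of_isReduced]
      refine ⟨?_, h0⟩
      rw [isUnit_iff_ne_zero]
      intro hc0
      apply hc
      rw [MvPolynomial.totalDegree_eq_zero_iff_eq_C.mp h0, hc0, map_zero]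
    by_cases ha0 : a.totalDegree = 0
    · exact Or.inl (hconst a ha ha0)
    by_cases hb0 : b.totalDegree = 0
    · exact Or.inr (hconst b hb' hb0)
    exfalso
    have hi : 0 < a.totalDegree := Nat.pos_of_ne_zero ha0
    have hiD : a.totalDegree < P.totalDegree := by omega
    have hmem := mem_Eset_of_factor P a.totalDegree (P.totalDegree - a.totalDegree) ψ a b le_rfl
      (by omega) hab
    have := hF _ hi hiD _ hmem
    exact hFi _ hiD this

end Groth.Agent.S1352
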