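import Groth.Statements.S1334
import Mathlib
import Groth.Agent.Lib.Helper51.GeomFibreBC

set_option autoImplicit false
universe u
open FlatMor

namespace Groth.Agent.S1334

open AlgebraicGeometry CategoryTheory Limits in
/-- The function on the target counting the irreducible components of the geometric fibres (fibres base
changed to a separable closure of the residue field) is compatible with base change: for a cartesian
square it is obtained on the new base by composing with the map to the old base. (This expresses
that the count does not depend on the separably closed field used.) -/
theorem result {X Y X' Y' : Scheme.{u}} (f : X ⟶ Y) (f' : X' ⟶ Y') (g' : X' ⟶ X) (g : Y' ⟶ Y)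
    (hc : IsPullback g' f' f g) (y' : Y') :
    MoreMor.nGeomIrredComp f' y' = MoreMor.nGeomIrredComp f (g y') := by
  open Groth.Agent.Lib.Helper51 in
  haveI := geometricallyIrreducible_geomFiberMap hc y'
  open Groth.Agent.Lib.Helper51 in
  haveI := universallyOpen_geomFiberMap hc y'
  open Groth.Agent.Lib.Helper51 in
  have e := (geomFiberMap hc y').irreducibleComponentsEquiv (geomFiberMap hc y').isOpenMap
  unfold MoreMor.nGeomIrredComp
  exact Set.encard_congr e

end Groth.Agent.S1334
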