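import Groth.Statements.S1336
import Mathlib
import Groth.Agent.S1334
import Groth.Agent.Lib.Helper78.GeomCount

set_option autoImplicit false
universe u
open FlatMor

namespace Groth.Agent.S1336

open AlgebraicGeometry CategoryTheory Limits Groth.Agent.Lib.Helper78.GeomIrr
  Groth.Agent.Lib.Helper78.GeomConn Groth.Agent.Lib.Helper78.GeomCount in
/-- Constancy of the count over the part of `V(p)` where `a` is invertible. -/
theorem count_const {X Y : Scheme.{u}} (f : X ⟶ Y) [LocallyOfFiniteType f] [QuasiCompact f]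
    {V : Y.Opens} (hV : IsAffineOpen V) (p : Ideal Γ(Y, V)) [p.IsPrime] :
    ∃ (n : ℕ) (a : Γ(Y, V)), a ∉ p ∧ ∀ q : Spec Γ(Y, V),
      p ≤ (show PrimeSpectrum Γ(Y, V) from q).asIdeal →
      a ∉ (show PrimeSpectrum Γ(Y, V) from q).asIdeal →
      MoreMor.nGeomIrredComp f (hV.fromSpec q) = n := by
  classical
  -- the algebraic closure of the function field and the integral closure of the base in it
  have hinjΩ : Function.Injective (algebraMap (Γ(Y, V) ⧸ p)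
      (AlgebraicClosure (FractionRing (Γ(Y, V) ⧸ p)))) := by
    rw [IsScalarTower.algebraMap_eq (Γ(Y, V) ⧸ p) (FractionRing (Γ(Y, V) ⧸ p))]
    exact (algebraMap (FractionRing (Γ(Y, V) ⧸ p)) _).injective.comp
      (IsFractionRing.injective _ _)
  have hinj01 : Function.Injective (algebraMap (Γ(Y, V) ⧸ p)
      (integralClosure (Γ(Y, V) ⧸ p) (AlgebraicClosure (FractionRing (Γ(Y, V) ⧸ p))))) := by
    intro x y hxy
    apply hinjΩ
    have := congrArg (algebraMap (integralClosure (Γ(Y, V) ⧸ p)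
      (AlgebraicClosure (FractionRing (Γ(Y, V) ⧸ p))))
      (AlgebraicClosure (FractionRing (Γ(Y, V) ⧸ p)))) hxy
    rwa [← IsScalarTower.algebraMap_apply, ← IsScalarTower.algebraMap_apply] at this
  have halg : Algebra.IsAlgebraic (Γ(Y, V) ⧸ p)
      (AlgebraicClosure (FractionRing (Γ(Y, V) ⧸ p))) := by
    have : Algebra.IsAlgebraic (Γ(Y, V) ⧸ p) (FractionRing (Γ(Y, V) ⧸ p)) :=
      IsLocalization.isAlgebraic (FractionRing (Γ(Y, V) ⧸ p)) (nonZeroDivisors (Γ(Y, V) ⧸ p))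
    exact Algebra.IsAlgebraic.trans (Γ(Y, V) ⧸ p) (FractionRing (Γ(Y, V) ⧸ p)) _
  have hfracA₁ : IsFractionRing (integralClosure (Γ(Y, V) ⧸ p)
      (AlgebraicClosure (FractionRing (Γ(Y, V) ⧸ p))))
      (AlgebraicClosure (FractionRing (Γ(Y, V) ⧸ p))) :=
    integralClosure.isFractionRing_of_algebraic (fun x hx => hinjΩ (by rw [hx, map_zero]))
  obtain ⟨A₁, hA₁⟩ : ∃ A₁ : Subalgebra (Γ(Y, V) ⧸ p)
      (AlgebraicClosure (FractionRing (Γ(Y, V) ⧸ p))), A₁ = integralClosure (Γ(Y, V) ⧸ p)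
      (AlgebraicClosure (FractionRing (Γ(Y, V) ⧸ p))) := ⟨_, rfl⟩
  rw [← hA₁] at hinj01 hfracA₁
  have hint : Algebra.IsIntegral (Γ(Y, V) ⧸ p) A₁ := by
    rw [hA₁]
    infer_instance
  have hint' : Algebra.IsIntegral Γ(Y, V) A₁ := Algebra.IsIntegral.trans (Γ(Y, V) ⧸ p)
  -- the base change
  let Y₁ : Scheme.{u} := Spec (CommRingCat.of A₁)
  let g : Y₁ ⟶ Y := Spec.map (CommRingCat.ofHom (algebraMap Γ(Y, V) A₁)) ≫ hV.fromSpec
  let f₁ : pullback f g ⟶ Y₁ := pullback.snd f g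
  let eΓ : Γ(Y₁, ⊤) ≃+* A₁ := (Scheme.ΓSpecIso (CommRingCat.of A₁)).commRingCatIsoToRingEquiv
  have hdom : IsDomain Γ(Y₁, ⊤) := MulEquiv.isDomain A₁ eΓ.toMulEquiv
  have hlft : LocallyOfFiniteType f₁ := inferInstanceAs (LocallyOfFiniteType (pullback.snd f g))
  have hqc : QuasiCompact f₁ := inferInstanceAs (QuasiCompact (pullback.snd f g))
  let algΩ : Algebra Γ(Y₁, ⊤) (AlgebraicClosure (FractionRing (Γ(Y, V) ⧸ p))) :=
    ((algebraMap A₁ (AlgebraicClosure (FractionRing (Γ(Y, V) ⧸ p)))).comp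
      (eΓ : Γ(Y₁, ⊤) →+* A₁)).toAlgebra
  have hfrac : IsFractionRing Γ(Y₁, ⊤) (AlgebraicClosure (FractionRing (Γ(Y, V) ⧸ p))) :=
    isFractionRing_of_ringEquiv eΓ (fun r => rfl)
  obtain ⟨n, g₁, hg₁, H⟩ := exists_count_points f₁ (isAffineOpen_top Y₁)
    (AlgebraicClosure (FractionRing (Γ(Y, V) ⧸ p)))
  have ha₁ : eΓ g₁ ≠ 0 := fun h0 => hg₁ (eΓ.injective (by rw [h0, map_zero]))
  -- descend the nonzero element
  have hne : (Ideal.span {eΓ g₁}).comap (algebraMap (Γ(Y, V) ⧸ p) A₁) ≠ ⊥ :=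
    Ideal.comap_ne_bot_of_integral_mem ha₁ (Ideal.mem_span_singleton_self _)
      (Algebra.IsIntegral.isIntegral _)
  obtain ⟨a', ha'mem, ha'0⟩ := Submodule.exists_mem_ne_zero_of_ne_bot hne
  obtain ⟨w, hw⟩ := Ideal.mem_span_singleton'.1 (Ideal.mem_comap.1 ha'mem)
  obtain ⟨a, rfl⟩ := Ideal.Quotient.mk_surjective a'
  have hap : a ∉ p := fun hmem => ha'0 (Ideal.Quotient.eq_zero_iff_mem.2 hmem)
  refine ⟨n, a, hap, ?_⟩
  intro q hpq haq
  have hqprime : ((show PrimeSpectrum Γ(Y, V) from q).asIdeal).IsPrime :=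
    (show PrimeSpectrum Γ(Y, V) from q).isPrime
  -- a prime of `A₁` over `q`
  have hker : RingHom.ker (algebraMap Γ(Y, V) A₁) ≤
      (show PrimeSpectrum Γ(Y, V) from q).asIdeal := by
    intro x hx
    apply hpq
    rw [RingHom.mem_ker, IsScalarTower.algebraMap_apply Γ(Y, V) (Γ(Y, V) ⧸ p) A₁,
      map_eq_zero_iff _ hinj01, Ideal.Quotient.algebraMap_eq,
      Ideal.Quotient.eq_zero_iff_mem] at hx
    exact hx
  have hdomA₁ : IsDomain A₁ := by
    rw [hA₁]
    infer_instance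
  obtain ⟨Q₁, hQ₁prime, hQ₁⟩ := Ideal.exists_ideal_over_prime_of_isIntegral_of_isDomain
    (S := A₁) (show PrimeSpectrum Γ(Y, V) from q).asIdeal hker
  let y₁ : Y₁ := (⟨Q₁, hQ₁prime⟩ : PrimeSpectrum A₁)
  have hgy₁ : g y₁ = hV.fromSpec q := by
    show (Spec.map (CommRingCat.ofHom (algebraMap Γ(Y, V) A₁)) ≫ hV.fromSpec) y₁ = _
    rw [Scheme.Hom.comp_apply]
    congr 1
    exact PrimeSpectrum.ext hQ₁
  have ha₁Q : eΓ g₁ ∉ Q₁ := by
    intro hmem
    apply haq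
    rw [← hQ₁, Ideal.mem_comap, IsScalarTower.algebraMap_apply Γ(Y, V) (Γ(Y, V) ⧸ p) A₁,
      Ideal.Quotient.algebraMap_eq, ← hw]
    exact Ideal.mul_mem_left _ _ hmem
  -- the point of `Spec Γ(Y₁, ⊤)`
  have hy₁r : y₁ ∈ Set.range (isAffineOpen_top Y₁).fromSpec := by
    rw [(isAffineOpen_top Y₁).range_fromSpec]
    trivial
  obtain ⟨q₁, hq₁⟩ := hy₁r
  have hg₁q₁ : g₁ ∉ (show PrimeSpectrum Γ(Y₁, ⊤) from q₁).asIdeal := by
    intro hmem
    apply ha₁Q
    have h1 : (isAffineOpen_top Y₁).fromSpec =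
        Spec.map (Scheme.ΓSpecIso (CommRingCat.of A₁)).inv := by
      rw [IsAffineOpen.fromSpec_top, Scheme.isoSpec_Spec_inv]
    rw [h1] at hq₁
    have h2 : eΓ g₁ ∈ (show PrimeSpectrum A₁ from
        Spec.map (Scheme.ΓSpecIso (CommRingCat.of A₁)).inv q₁).asIdeal := by
      show (Scheme.ΓSpecIso (CommRingCat.of A₁)).inv.hom (eΓ g₁) ∈
        (show PrimeSpectrum Γ(Y₁, ⊤) from q₁).asIdeal
      have : (Scheme.ΓSpecIso (CommRingCat.of A₁)).inv.hom (eΓ g₁) = g₁ := eΓ.symm_apply_apply g₁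
      rw [this]
      exact hmem
    rw [hq₁] at h2
    exact h2
  have h3 := H q₁ hg₁q₁
  rw [hq₁] at h3
  have h4 := Groth.Agent.S1334.result f f₁ (pullback.fst f g) g (IsPullback.of_hasPullback f g) y₁
  rw [← hgy₁, ← h4]
  exact h3

open AlgebraicGeometry CategoryTheory Limits in

open AlgebraicGeometry CategoryTheory Limits in
/-- Let f be of finite type and let y be a point of the target. Then the function counting the
irreducible components of the geometric fibres of f is constant on some subset of the closure of y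
which is open in that closure and contains y. -/
theorem result {X Y : Scheme.{u}} (f : X ⟶ Y) [LocallyOfFiniteType f] [QuasiCompact f] (y : Y) :
    ∃ V : Set ↑Y, V ⊆ closure {y} ∧ y ∈ V ∧ IsOpen (Subtype.val ⁻¹' V : Set ↑(closure ({y} : Set ↑Y))) ∧
      ∀ y' ∈ V, MoreMor.nGeomIrredComp f y' = MoreMor.nGeomIrredComp f y := by
  obtain ⟨_, ⟨V, hV : IsAffineOpen V, rfl⟩, hyV, -⟩ :=
    Y.isBasis_affineOpens.exists_subset_of_mem_open (Set.mem_univ y) isOpen_univ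
  have hyr : y ∈ Set.range hV.fromSpec := by
    rw [hV.range_fromSpec]
    exact hyV
  obtain ⟨q₀, hq₀⟩ := hyr
  have hq₀prime : ((show PrimeSpectrum Γ(Y, V) from q₀).asIdeal).IsPrime :=
    (show PrimeSpectrum Γ(Y, V) from q₀).isPrime
  obtain ⟨n, a, hap, H⟩ := count_const f hV (show PrimeSpectrum Γ(Y, V) from q₀).asIdeal
  have hy : MoreMor.nGeomIrredComp f y = n := by
    rw [← hq₀]
    exact H q₀ le_rfl hap
  refine ⟨hV.fromSpec '' {q | (show PrimeSpectrum Γ(Y, V) from q₀).asIdeal ≤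
    (show PrimeSpectrum Γ(Y, V) from q).asIdeal ∧
    a ∉ (show PrimeSpectrum Γ(Y, V) from q).asIdeal}, ?_, ?_, ?_, ?_⟩
  · rintro _ ⟨q, ⟨hq, -⟩, rfl⟩
    rw [← hq₀]
    have hsp : (show PrimeSpectrum Γ(Y, V) from q₀) ⤳ (show PrimeSpectrum Γ(Y, V) from q) :=
      (PrimeSpectrum.le_iff_specializes _ _).1 hq
    have := hsp.map hV.fromSpec.continuous
    exact specializes_iff_mem_closure.1 this
  · exact ⟨q₀, ⟨le_rfl, hap⟩, hq₀⟩
  · have hopen : IsOpen (hV.fromSpec '' {q | a ∉ (show PrimeSpectrum Γ(Y, V) from q).asIdeal}) :=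
      hV.fromSpec.isOpenEmbedding.isOpenMap _ (PrimeSpectrum.basicOpen a).isOpen
    convert hopen.preimage continuous_subtype_val using 1
    ext ⟨x, hx⟩
    constructor
    · rintro ⟨q, ⟨-, hq⟩, hqx⟩
      exact ⟨q, hq, hqx⟩
    · rintro ⟨q, hq, hqx⟩
      refine ⟨q, ⟨?_, hq⟩, hqx⟩
      have hx' : hV.fromSpec q₀ ⤳ hV.fromSpec q := by
        rw [hq₀, hqx]
        exact specializes_iff_mem_closure.2 hx
      have := (hV.fromSpec.isOpenEmbedding.isInducing.specializes_iff).1 hx'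
      exact (PrimeSpectrum.le_iff_specializes _ _).2 this
  · rintro _ ⟨q, ⟨hq, hqa⟩, rfl⟩
    rw [hy]
    exact H q hq hqa

end Groth.Agent.S1336
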