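import Groth.Statements.S4664
import Groth.Agent.Lib.Helper30.GeometricallyDescent

set_option autoImplicit false
open CategoryTheory AlgebraicGeometry
universe u
open FBase

namespace Groth.Agent.S4664

open CategoryTheory.Limits in
/-- Let f : X → Y and g : Y' → Y be morphisms of schemes with g surjective, and let f' : X ×_Y Y' → Y'
be the base change of f. If every fibre of f' is geometrically irreducible, then every fibre of f is
geometrically irreducible. -/
theorem result {X Y Y' : Scheme.{u}} (f : X ⟶ Y)
    (g : Y' ⟶ Y) [Surjective g] [GeometricallyIrreducible (pullback.snd f g)] : GeometricallyIrreducible f := by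
  refine ⟨Groth.Agent.Lib.Helper30.geometrically_of_pullback_snd_of_surjective
    (fun Z : Scheme.{u} => IrreducibleSpace ↥Z) ?_ f g
    (GeometricallyIrreducible.geometrically_irreducibleSpace)⟩
  intro Z Z' h _ hZ
  have hirr : IsIrreducible (Set.range h) := by
    rw [← Set.image_univ]
    exact (IrreducibleSpace.isIrreducible_univ Z).image h h.continuous.continuousOn
  rw [Set.range_eq_univ.mpr h.surjective] at hirr
  exact (irreducibleSpace_def Z').mpr hirr

end Groth.Agent.S4664
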