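import Groth.Statements.S10309
-- import your own Groth.Agent.* helpers here
import Groth.Agent.Lib.Helper36.BaseChangeChart
import Groth.Agent.Lib.Helper73.DimFormula.Chevalley
import Groth.Agent.Lib.Helper73.DimFormula.CMFlat.FibrewiseCons
import Groth.Agent.Lib.Helper73.LimConstructible
import Groth.Agent.Lib.Helper23.AlgSpMor3

set_option autoImplicit false
universe u
open CategoryTheory CategoryTheory.Limits AlgebraicGeometry
open AlgSp

namespace Groth.Agent.S10309

open Groth.Agent.Lib.Helper36.AlgSpCharts Groth.Agent.Lib.Helper37.AlgSpPoints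
  Groth.Agent.Lib.Helper36.AlgSpChartDiag Groth.Agent.Lib.Helper36.AlgSpHasAtMor
  Groth.Agent.Lib.Helper36

/-- "Fibre dimension at most `n`" is a fibrewise property in the sense of helper73. -/
theorem fibrewiseProp_fibreDimAt_le (n : ℕ) :
    Groth.Agent.Lib.Helper73.FibrewiseProp.{u}
      (fun _ _ f x => FlatMor.fibreDimAt f x ≤ ((n : ℕ) : WithBot ℕ∞)) where
  baseChange := by
    intro X Y X' Y' f f' g' g hsq hlft x'
    have := hlft
    show FlatMor.fibreDimAt f' x' ≤ _ ↔ FlatMor.fibreDimAt f (g' x') ≤ _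
    rw [Groth.Agent.Lib.Helper73.fibreDimAt_eq_of_isPullback f g g' f' hsq x']
  openImmersion := by
    intro U X S j f hj hlft u
    have := hj
    show FlatMor.fibreDimAt (j ≫ f) u ≤ _ ↔ FlatMor.fibreDimAt f (j u) ≤ _
    rw [FibreEtale.fibreDimAt_eq f (j ≫ f) j (𝟙 S) (by simp) u]
  isOpen := by
    intro X S f hfl hfp
    have := hfp
    exact Groth.Agent.Lib.Helper73.isOpen_fibreDimAt_le n X S f

/-- The Chevalley locus of a morphism locally of finite presentation meets every affine open in a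
quasi-compact set. -/
theorem isCompact_inter_affine {W V' : Scheme.{u}} (h : W ⟶ V') [LocallyOfFinitePresentation h]
    (n : ℕ) (A : W.affineOpens) :
    IsCompact ({w : ↥W | FlatMor.fibreDimAt h w ≤ ((n : ℕ) : WithBot ℕ∞)} ∩ (A.1 : Set ↥W)) := by
  have hE : Topology.IsLocallyConstructible
      {w : ↥W | FlatMor.fibreDimAt h w ≤ ((n : ℕ) : WithBot ℕ∞)} :=
    (fibrewiseProp_fibreDimAt_le n).isLocallyConstructible h
  have : IsAffine (A.1 : Scheme.{u}) := A.2
  have h1 := hE.preimage_of_isOpenEmbedding A.1.ι.isOpenEmbedding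
  have h2 := h1.isConstructible
  have h3 := Groth.Agent.Lib.Helper73.isCompact_of_isConstructible h2
  have h4 := h3.image A.1.ι.continuous
  rwa [Set.image_preimage_eq_inter_range, Scheme.Opens.range_ι] at h4

/-- For f locally of finite presentation, the locus where the relative dimension is at most n is
retrocompact in |X|. -/
theorem result {S : Scheme.{u}} {X Y : AlgSp.Space S} (f : X ⟶ Y)
    (hf : AlgSp.LocP @LocallyOfFinitePresentation f.hom) (n : ℕ) (V : Set (AlgSp.Points X.obj))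
    (hV : IsOpen V) (hVc : IsCompact V) :
    IsCompact (V ∩ {x : AlgSp.Points X.obj |
      AlgSp.HasAtMor (fun _ _ h u => FlatMor.fibreDimAt h u ≤ (n : WithBot ℕ∞)) f.hom x}) := by
  classical
  obtain ⟨T, g, hT, hge, hgV⟩ :=
    Groth.Agent.Lib.Helper23.AlgSpMor.exists_compact_chart_of_isCompact_isOpen X.property V hV hVc
  obtain ⟨V', b, hbe, hbs⟩ := Y.property.atlas
  obtain ⟨W, p1, h, hp1e, hp1s, sqW⟩ := exists_chart_diagram_of_charts f.hom g b hbe
  have hp1s' : Surjective p1.left := hp1s hbs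
  have hae : RepWith @Etale ((yon S).map p1 ≫ g) := repWith_yon_map_comp p1 hp1e g hge
  have comm : ((yon S).map p1 ≫ g) ≫ f.hom = (yon S).map h ≫ b := by
    rw [Category.assoc]
    exact sqW.w
  have hlfp : LocallyOfFinitePresentation h.left := hf _ b h hae hbe comm
  have hE : ∀ w : ↥W.left, FlatMor.fibreDimAt h.left w ≤ ((n : ℕ) : WithBot ℕ∞) ↔
      AlgSp.HasAtMor (fun _ _ h u => FlatMor.fibreDimAt h u ≤ (n : WithBot ℕ∞)) f.hom
        (Points.ofPt ((yon S).map p1 ≫ g) w) := fun w =>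
    ⟨fun hw => ⟨W, V', _, b, h, w, hae, hbe, comm, rfl, hw⟩, fun hw =>
      (hasAtMor_iff_forall_chart
        (isEtaleLocalGermMor_fibreDimAt (· ≤ ((n : ℕ) : WithBot ℕ∞))) f _).1 hw W V' _ b h w
        hae hbe comm rfl⟩
  have hcov : (Set.univ : Set ↥T.left) ⊆
      ⋃ A : W.left.affineOpens, p1.left '' (A.1 : Set ↥W.left) := by
    intro t _
    obtain ⟨w, rfl⟩ := hp1s'.surj t
    obtain ⟨_, ⟨A, hA, rfl⟩, hwA, -⟩ :=
      W.left.isBasis_affineOpens.exists_subset_of_mem_open (Set.mem_univ w) isOpen_univ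
    exact Set.mem_iUnion.2 ⟨⟨A, hA⟩, w, hwA, rfl⟩
  have := hp1e
  obtain ⟨t, ht⟩ := isCompact_univ.elim_finite_subcover
    (fun A : W.left.affineOpens => p1.left '' (A.1 : Set ↥W.left))
    (fun A => p1.left.isOpenMap _ A.1.2) hcov
  have hK : IsCompact (⋃ A ∈ t, {w : ↥W.left | FlatMor.fibreDimAt h.left w ≤
      ((n : ℕ) : WithBot ℕ∞)} ∩ (A.1 : Set ↥W.left)) :=
    t.isCompact_biUnion fun A _ => isCompact_inter_affine h.left n A
  have heq : V ∩ {x : AlgSp.Points X.obj |
      AlgSp.HasAtMor (fun _ _ h u => FlatMor.fibreDimAt h u ≤ (n : WithBot ℕ∞)) f.hom x} =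
      Points.ofPt ((yon S).map p1 ≫ g) '' (⋃ A ∈ t, {w : ↥W.left | FlatMor.fibreDimAt h.left w ≤
      ((n : ℕ) : WithBot ℕ∞)} ∩ (A.1 : Set ↥W.left)) := by
    ext x
    constructor
    · rintro ⟨hxV, hxZ⟩
      rw [← hgV] at hxV
      obtain ⟨t0, rfl⟩ := hxV
      obtain ⟨A, hAt, w, hwA, rfl⟩ : ∃ A ∈ t, t0 ∈ p1.left '' (A.1 : Set ↥W.left) := by
        simpa using ht (Set.mem_univ t0)
      have hpt : Points.ofPt ((yon S).map p1 ≫ g) w = Points.ofPt g (p1.left w) :=
        ofPt_map_comp p1 g w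
      refine ⟨w, Set.mem_biUnion hAt ⟨(hE w).2 (by rw [hpt]; exact hxZ), hwA⟩, hpt⟩
    · rintro ⟨w, hw, rfl⟩
      obtain ⟨A, hAt, hwE, hwA⟩ := Set.mem_iUnion₂.1 hw
      refine ⟨?_, (hE w).1 hwE⟩
      rw [← hgV, ofPt_map_comp]
      exact ⟨_, rfl⟩
  rw [heq]
  exact hK.image (Points.continuous_ofPt _)

end Groth.Agent.S10309
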