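import Groth.Statements.S3404
-- import your own Groth.Agent.* helpers here
import Groth.Agent.Lib.Helper36.ProConsScheme2

set_option autoImplicit false
open CategoryTheory AlgebraicGeometry
universe u
open EGA41

namespace Groth.Agent.S3404

/-- Let f : X ⟶ Y be a morphism of schemes, x a point of X and y = f x. If f is open at x then every
generization of y is the image of a generization of x; when f is locally of finite presentation the
converse holds. -/
theorem result {X Y : Scheme.{u}} (f : X ⟶ Y) (x : X) :
    (EGA43.IsOpenAt f.base x → ∀ y' : Y, y' ⤳ f.base x → ∃ x' : X, x' ⤳ x ∧ f.base x' = y') ∧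
    (LocallyOfFinitePresentation f →
      ((EGA43.IsOpenAt f.base x) ↔ ∀ y' : Y, y' ⤳ f.base x → ∃ x' : X, x' ⤳ x ∧ f.base x' = y')) := by
  open Groth.Agent.Lib.Helper36 in
  have part1 : EGA43.IsOpenAt f.base x →
      ∀ y' : Y, y' ⤳ f.base x → ∃ x' : X, x' ⤳ x ∧ f.base x' = y' := by
    intro hopen y' hy'
    obtain ⟨U, hU, hxU, -⟩ :=
      exists_isAffineOpen_mem_and_subset (TopologicalSpace.Opens.mem_top (f.base x))
    obtain ⟨W, hW, hxW, hWU⟩ := scheme_exists_isAffineOpen_subset x (f.base ⁻¹' (U : Set Y))
      (U.isOpen.preimage f.continuous) hxU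
    have hmaps : Set.MapsTo f.base (W : Set X) (U : Set Y) := fun w hw => hWU hw
    exact exists_specializes_of_isOpenAt f.base (isGoodOpen_of_isAffineOpen hW) hxW
      (isGoodOpen_of_isAffineOpen hU) hmaps (isSpectralMap_restrict f hU hW hmaps) hopen hy'
  refine ⟨part1, fun hlfp => ⟨part1, fun hlift => ?_⟩⟩
  intro N hN
  obtain ⟨U, hU, hxU, -⟩ :=
    exists_isAffineOpen_mem_and_subset (TopologicalSpace.Opens.mem_top (f.base x))
  obtain ⟨W, hW, hxW, hWsub⟩ := scheme_exists_isAffineOpen_subset x
    (interior N ∩ f.base ⁻¹' (U : Set Y))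
    (isOpen_interior.inter (U.isOpen.preimage f.continuous)) ⟨mem_interior_iff_mem_nhds.2 hN, hxU⟩
  have hmaps : Set.MapsTo f.base (W : Set X) (U : Set Y) := fun w hw => (hWsub hw).2
  refine isOpenAt_of_forall_exists_specializes f.base (isGoodOpen_of_isAffineOpen hU) hxU hlift
    W.isOpen hxW (fun w hw => interior_subset (hWsub hw).1) hmaps ?_
  rw [← Set.image_univ]
  exact isConstructible_restrict_image f hU hW hmaps Set.univ Topology.IsConstructible.univ

end Groth.Agent.S3404
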