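import Groth.Statements.S1326
import Mathlib
import Groth.Agent.S2396
import Groth.Agent.S1325
import Groth.Agent.Lib.Helper78.ConsMor
import Groth.Agent.Lib.Helper78.ConsOne
import Groth.Agent.Lib.Helper19.GC.SectionComponents

set_option autoImplicit false
universe u
open FlatMor

namespace Groth.Agent.S1326

open AlgebraicGeometry CategoryTheory Limits in
/-- section components commute with base change. -/
theorem sectionComponents_baseChange {X Y X' Y' : Scheme.{u}} (f : X ⟶ Y)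
    (s : Y ⟶ X) (hs : s ≫ f = 𝟙 Y)
    (f' : X' ⟶ Y') (g' : X' ⟶ X) (g : Y' ⟶ Y) (hc : IsPullback g' f' f g)
    (s' : Y' ⟶ X') (hs' : s' ≫ f' = 𝟙 Y') (hs'g : s' ≫ g' = g ≫ s) :
    MoreMor.sectionComponents f' s' = g' ⁻¹' MoreMor.sectionComponents f s := by
  ext x'
  exact Groth.Agent.Lib.Helper19.mem_connectedComponentIn_fibre_baseChange f s hs f' g' g hc s'
    hs' hs'g x'

open AlgebraicGeometry CategoryTheory Limits in
/-- Noetherian case. -/
theorem isConstructible_noeth {X Y : Scheme.{u}} [IsNoetherian Y] (f : X ⟶ Y) (s : Y ⟶ X)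
    (hs : s ≫ f = 𝟙 Y) [LocallyOfFiniteType f] [QuasiCompact f] :
    Topology.IsConstructible (MoreMor.sectionComponents f s) := by
  haveI : IsNoetherian X := Groth.Agent.Lib.Helper78.ConsOne.isNoetherian_of_finiteType f
  rw [Groth.Agent.S2396.result]
  intro Z hZc hZi
  obtain ⟨x, hx⟩ := QuasiSober.sober hZi hZc
  obtain rfl : closure {x} = Z := hx.def
  obtain ⟨V, hVsub, hyV, hVopen, hVclopen⟩ := Groth.Agent.S1325.result f s hs (f x)
  obtain ⟨O, hO, hOV⟩ := isOpen_induced_iff.1 hVopen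
  have hOV' : O ∩ closure {f x} = V := by
    ext z
    constructor
    · rintro ⟨hzO, hzY⟩
      have : (⟨z, hzY⟩ : closure ({f x} : Set Y)) ∈ Subtype.val ⁻¹' O := hzO
      rw [hOV] at this
      exact this
    · intro hzV
      have hzY := hVsub hzV
      have : (⟨z, hzY⟩ : closure ({f x} : Set Y)) ∈ Subtype.val ⁻¹' V := hzV
      rw [← hOV] at this
      exact ⟨this, hzY⟩
  -- the open `U = f⁻¹ O`
  set U : Set X := f ⁻¹' O with hUdef
  have hU : IsOpen U := hO.preimage f.continuous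
  have hfcl : ∀ z ∈ closure ({x} : Set X), f z ∈ closure ({f x} : Set Y) := by
    intro z hz
    have h1 := image_closure_subset_closure_image f.continuous (s := {x}) ⟨z, hz, rfl⟩
    have h0 : f '' {x} = {f x} := Set.image_singleton
    rwa [h0] at h1
  have hxU : x ∈ U := by
    show f x ∈ O
    have : f x ∈ O ∩ closure {f x} := by rw [hOV']; exact hyV
    exact this.1
  have hWsub : U ∩ closure {x} ⊆ f ⁻¹' V := by
    rintro z ⟨hzU, hzZ⟩
    show f z ∈ V
    rw [← hOV']
    exact ⟨hzU, hfcl z hzZ⟩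
  have hWpre : _root_.IsPreconnected (U ∩ closure {x}) :=
    (isPreconnected_singleton (x := x)).subset_closure
      (Set.singleton_subset_iff.2 ⟨hxU, subset_closure rfl⟩) Set.inter_subset_right
  -- transport to the subspace `f⁻¹ V`
  have hWpre' : _root_.IsPreconnected (Subtype.val ⁻¹' (U ∩ closure {x}) : Set ↑(f ⁻¹' V)) := by
    rw [← Topology.IsInducing.subtypeVal.isPreconnected_image, Subtype.image_preimage_coe,
      Set.inter_eq_right.2 hWsub]
    exact hWpre
  have hxV : x ∈ f ⁻¹' V := hWsub ⟨hxU, subset_closure rfl⟩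
  by_cases hxE : x ∈ MoreMor.sectionComponents f s
  · right
    refine ⟨U, hU, ⟨x, hxU, subset_closure rfl⟩, ?_⟩
    intro z hz
    have hsub := hWpre'.subset_isClopen hVclopen ⟨⟨x, hxV⟩, ⟨hxU, subset_closure rfl⟩, hxE⟩
    exact hsub (show (⟨z, hWsub hz⟩ : ↑(f ⁻¹' V)) ∈ _ from hz)
  · left
    rw [Groth.Agent.S2396.nowhereDense_iff _ _ hZi]
    intro hsub
    have hsub' := hWpre'.subset_isClopen hVclopen.compl ⟨⟨x, hxV⟩, ⟨hxU, subset_closure rfl⟩, hxE⟩
    have hcl : closure (MoreMor.sectionComponents f s ∩ closure {x}) ⊆ closure {x} \ U := by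
      apply closure_minimal
      · rintro z ⟨hzE, hzZ⟩
        refine ⟨hzZ, fun hzU => ?_⟩
        exact hsub' (show (⟨z, hWsub ⟨hzU, hzZ⟩⟩ : ↑(f ⁻¹' V)) ∈ _ from ⟨hzU, hzZ⟩) hzE
      · exact isClosed_closure.sdiff hU
    exact (hcl (hsub (subset_closure rfl))).2 hxU

open AlgebraicGeometry CategoryTheory Limits in
/-- Affine base: Noetherian approximation with an honest section (diagonal trick). -/
theorem isConstructible_of_isAffine {X Y : Scheme.{u}} [IsAffine Y] (f : X ⟶ Y) (s : Y ⟶ X)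
    (hs : s ≫ f = 𝟙 Y) [LocallyOfFinitePresentation f] [QuasiCompact f] [QuasiSeparated f] :
    Topology.IsConstructible (MoreMor.sectionComponents f s) := by
  haveI : LocallyOfFinitePresentation (s ≫ f) := by rw [hs]; infer_instance
  haveI : QuasiCompact (s ≫ f) := by rw [hs]; infer_instance
  haveI : QuasiSeparated (s ≫ f) := by rw [hs]; infer_instance
  obtain ⟨S₀, T, X₀, s₀, p₀, h, eT, eX, hN, hp1, hp2, hp3, hp4, hY, hX⟩ :=
    Groth.Agent.Lib.Helper78.ConsMor.exists_noeth_model_mor s f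
  haveI : IsNoetherian T := Groth.Agent.Lib.Helper78.ConsOne.isNoetherian_of_finiteType (s₀ ≫ p₀)
  -- the new family over `T`
  let f₁ : pullback p₀ (s₀ ≫ p₀) ⟶ T := pullback.snd p₀ (s₀ ≫ p₀)
  let s₁ : T ⟶ pullback p₀ (s₀ ≫ p₀) := pullback.lift s₀ (𝟙 T) (by rw [Category.id_comp])
  have hs₁ : s₁ ≫ f₁ = 𝟙 T := pullback.lift_snd _ _ _
  have hh : h = eT ≫ s₀ ≫ p₀ := by
    have h1 : eT ≫ s₀ = s ≫ eX := hX.w
    have h2 : eX ≫ p₀ = f ≫ h := hY.w
    rw [← Category.assoc, h1, Category.assoc, h2, ← Category.assoc, hs, Category.id_comp]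
  let g' : X ⟶ pullback p₀ (s₀ ≫ p₀) := pullback.lift eX (f ≫ eT) (by
    rw [hY.w, Category.assoc, ← hh])
  have hg'1 : g' ≫ pullback.fst p₀ (s₀ ≫ p₀) = eX := pullback.lift_fst _ _ _
  have hg'2 : g' ≫ f₁ = f ≫ eT := pullback.lift_snd _ _ _
  have hpb : IsPullback g' f f₁ eT := by
    refine IsPullback.of_right (h₁₂ := pullback.fst p₀ (s₀ ≫ p₀)) (h₂₂ := s₀ ≫ p₀)
      (v₁₃ := p₀) ?_ hg'2 (IsPullback.of_hasPullback p₀ (s₀ ≫ p₀))
    rw [hg'1, ← hh]
    exact hY
  have hsg : s ≫ g' = eT ≫ s₁ := by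
    apply pullback.hom_ext
    · rw [Category.assoc, hg'1, Category.assoc, pullback.lift_fst]
      exact hX.w.symm
    · rw [Category.assoc, Category.assoc]
      show s ≫ g' ≫ f₁ = eT ≫ s₁ ≫ f₁
      rw [hg'2, hs₁, ← Category.assoc, hs, Category.id_comp, Category.comp_id]
  rw [sectionComponents_baseChange f₁ s₁ hs₁ f g' eT hpb s hs hsg]
  exact g'.isConstructible_preimage (isConstructible_noeth f₁ s₁ hs₁)

open AlgebraicGeometry CategoryTheory Limits in

open AlgebraicGeometry CategoryTheory Limits in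
/-- Let f be of finite presentation (locally of finite presentation, quasi-compact and quasi-separated)
with a section s. Then the section components of (f, s) form a locally constructible subset of the
source. -/
theorem result {X Y : Scheme.{u}} (f : X ⟶ Y) (s : Y ⟶ X) (hs : s ≫ f = 𝟙 Y)
    [LocallyOfFinitePresentation f] [QuasiCompact f] [QuasiSeparated f] :
    Topology.IsLocallyConstructible (MoreMor.sectionComponents f s) := by
  intro x₀
  obtain ⟨_, ⟨V, hV : IsAffineOpen V, rfl⟩, hyV, -⟩ :=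
    Y.isBasis_affineOpens.exists_subset_of_mem_open (Set.mem_univ (f x₀)) isOpen_univ
  refine ⟨f ⁻¹ᵁ V, (f ⁻¹ᵁ V).2.mem_nhds hyV, (f ⁻¹ᵁ V).2, ?_⟩
  suffices hsuff : Topology.IsConstructible ((Scheme.Opens.ι (f ⁻¹ᵁ V)) ⁻¹'
      MoreMor.sectionComponents f s) from hsuff
  have : IsAffine (V : Scheme.{u}) := hV
  have hpb : IsPullback (Scheme.Opens.ι (f ⁻¹ᵁ V)) (f ∣_ V) f (Scheme.Opens.ι V) :=
    (isPullback_morphismRestrict f V).flip
  let s' : (V : Scheme.{u}) ⟶ (f ⁻¹ᵁ V : Scheme.{u}) :=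
    hpb.lift (Scheme.Opens.ι V ≫ s) (𝟙 _) (by
      rw [Category.assoc, hs, Category.comp_id, Category.id_comp])
  have hs' : s' ≫ (f ∣_ V) = 𝟙 _ := hpb.lift_snd _ _ _
  have hs'g : s' ≫ Scheme.Opens.ι (f ⁻¹ᵁ V) = Scheme.Opens.ι V ≫ s := hpb.lift_fst _ _ _
  rw [← sectionComponents_baseChange f s hs (f ∣_ V) _ _ hpb s' hs' hs'g]
  exact isConstructible_of_isAffine (f ∣_ V) s' hs'

end Groth.Agent.S1326
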