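import Groth.Statements.S5325
import Groth.Agent.Lib.Helper78.NeutralCons

set_option autoImplicit false
universe u
open CategoryTheory CategoryTheory.Limits MonoidalCategory CartesianMonoidalCategory MonObj GrpObj AlgebraicGeometry
open SGA3

namespace Groth.Agent.S5325

open Groth.Agent.Lib.Helper78.NeutralCons Topology

/-- Let G be an S-group scheme locally of finite presentation over S, and let G⁰ denote the union of the
neutral components of the fibres G_s. Then (i) G⁰ is ind-constructible in G; (ii) if G is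
quasi-separated over S and S is quasi-compact and quasi-separated, G⁰ is constructible in G; (iii)
if G is quasi-separated over S, G⁰ is locally constructible in G. -/
theorem result (S : Scheme.{u}) (G : Over S) [GrpObj G] [LocallyOfFinitePresentation G.hom] :
    ProCons.IsIndConstructible (SGA3x.neutralSet G) ∧
    (QuasiSeparated G.hom → CompactSpace S → QuasiSeparatedSpace S → Topology.IsConstructible (SGA3x.neutralSet G)) ∧
    (QuasiSeparated G.hom → Topology.IsLocallyConstructible (SGA3x.neutralSet G)) := by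
  -- local data at every point
  have hloc : ∀ x : G.left, ∃ (B : G.left.Opens) (_ : IsAffineOpen B) (_ : x ∈ B),
      (∃ 𝒮 : Set (Set ↥(B : Scheme.{u})), (∀ T ∈ 𝒮, IsConstructible T) ∧
        (B.ι ⁻¹' SGA3x.neutralSet G : Set ↥(B : Scheme.{u})) = ⋃₀ 𝒮) ∧
      (QuasiSeparated G.hom →
        IsConstructible (B.ι ⁻¹' SGA3x.neutralSet G : Set ↥(B : Scheme.{u}))) := by
    intro x
    obtain ⟨V, U, hV, hU, hsV, hUV, hVU⟩ :=
      exists_affine_nbhd_section G.hom (unitSec G) (unitSec_hom G) (G.hom x)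
    obtain ⟨P, hP, m, hm, T₂, hT₂, hE, hr⟩ := exists_local_package G V U hV hU hUV hVU
    have hxΩ : x ∈ G.hom ⁻¹ᵁ V := hsV
    obtain ⟨_, ⟨B, hB : IsAffineOpen B, rfl⟩, hxB, hBΩ'⟩ :=
      G.left.isBasis_affineOpens.exists_subset_of_mem_open hxΩ (G.hom ⁻¹ᵁ V).isOpen
    have hBΩ : B ≤ G.hom ⁻¹ᵁ V := hBΩ'
    refine ⟨B, hB, hxB, exists_sUnion_of_image m hT₂ _ (G.hom ⁻¹ᵁ V) hE B hB hBΩ, ?_⟩
    intro hqs
    apply isConstructible_of_image m hT₂ _ (G.hom ⁻¹ᵁ V) hE B hB hBΩ
    -- compactness of the preimage of `B`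
    haveI : IsAffine ↑V := hV
    haveI : QuasiSeparated (G.hom ∣_ V) := inferInstance
    haveI : QuasiSeparatedSpace ↥((G.hom ⁻¹ᵁ V : G.left.Opens) : Scheme.{u}) :=
      quasiSeparatedSpace_of_quasiSeparated (G.hom ∣_ V)
    have hrange : Set.range m ⊆ Set.range (G.hom ⁻¹ᵁ V).ι := by
      rw [Scheme.Opens.range_ι]
      exact hr
    let m' : P ⟶ ↑(G.hom ⁻¹ᵁ V) := IsOpenImmersion.lift (G.hom ⁻¹ᵁ V).ι m hrange
    have hm' : m' ≫ (G.hom ⁻¹ᵁ V).ι = m := IsOpenImmersion.lift_fac _ _ _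
    haveI : QuasiCompact m' := inferInstance
    have hBc : IsCompact ((G.hom ⁻¹ᵁ V).ι ⁻¹' (B : Set G.left)) := by
      rw [(G.hom ⁻¹ᵁ V).ι.isOpenEmbedding.isInducing.isCompact_preimage_iff]
      · exact hB.isCompact
      · rw [Scheme.Opens.range_ι]
        exact hBΩ
    have h3 := QuasiCompact.isCompact_preimage (f := m') _
      (B.isOpen.preimage (G.hom ⁻¹ᵁ V).ι.continuous) hBc
    have h4 : m ⁻¹' (B : Set G.left) = m' ⁻¹' ((G.hom ⁻¹ᵁ V).ι ⁻¹' (B : Set G.left)) := by
      rw [← hm']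
      rfl
    rw [h4]
    exact h3
  -- (iii)
  have hiii : QuasiSeparated G.hom → IsLocallyConstructible (SGA3x.neutralSet G) := by
    intro hqs x
    obtain ⟨B, hB, hxB, -, hc⟩ := hloc x
    exact ⟨(B : Set G.left), B.isOpen.mem_nhds hxB, B.isOpen, hc hqs⟩
  refine ⟨?_, ?_, hiii⟩
  · intro x
    obtain ⟨B, hB, hxB, ⟨𝒮, h𝒮, heq⟩, -⟩ := hloc x
    exact ⟨(B : Set G.left), B.isOpen, hxB, 𝒮,
      fun T hT => (h𝒮 T hT).isLocallyConstructible, heq⟩
  · intro hqs hc hqsS
    haveI : QuasiSeparatedSpace G.left := quasiSeparatedSpace_of_quasiSeparated G.hom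
    have hlc := hiii hqs
    obtain ⟨Uc, hUc, hsub⟩ := Groth.Agent.Lib.Helper72.NeutralQC.exists_isCompact_isOpen_neutralSet G
    haveI : CompactSpace ↥(Uc : Scheme.{u}) := isCompact_iff_compactSpace.1 hUc
    haveI : QuasiSeparatedSpace ↥(Uc : Scheme.{u}) := quasiSeparatedSpace_of_quasiSeparated Uc.ι
    have h1 : IsConstructible (Uc.ι ⁻¹' SGA3x.neutralSet G : Set ↥(Uc : Scheme.{u})) :=
      (hlc.preimage_of_isOpenEmbedding Uc.ι.isOpenEmbedding).isConstructible
    have h2 := h1.image_of_isOpenEmbedding Uc.ι.isOpenEmbedding (by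
      rw [Scheme.Opens.range_ι]
      exact hUc.isRetrocompact Uc.isOpen)
    rw [Set.image_preimage_eq_inter_range, Scheme.Opens.range_ι,
      Set.inter_eq_left.2 hsub] at h2
    exact h2

end Groth.Agent.S5325
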