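import Groth.Statements.S12491
import Groth.Agent.Lib.Helper77.RegularLocalization
import Mathlib.RingTheory.Regular.ProjectiveDimension

set_option autoImplicit false
universe u
open VBPn

namespace Groth.Agent.S12491

open CategoryTheory in
/-- A `k`-th syzygy over a ring of global dimension `≤ k` is projective. -/
theorem projective_of_syzygy (B : Type u) [CommRing B] (k : ℕ)
    (hgl : ∀ (C : Type u) [AddCommGroup C] [Module B C],
      HasProjectiveDimensionLT (ModuleCat.of B C) (k + 1))
    (M : ℕ → Type u) [∀ i, AddCommGroup (M i)] [∀ i, Module B (M i)]
    (hproj : ∀ i, 1 ≤ i → i ≤ k → Module.Projective B (M i))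
    (d : ∀ i, M i →ₗ[B] M (i + 1)) (hinj : Function.Injective (d 0))
    (hex : ∀ i, i + 1 < k → LinearMap.range (d i) = LinearMap.ker (d (i + 1))) :
    Module.Projective B (M 0) := by
  rcases Nat.eq_zero_or_pos k with rfl | hk
  · have := hgl (M 0)
    rw [zero_add, ← projective_iff_hasProjectiveDimensionLT_one, ← IsProjective.iff_projective]
      at this
    exact this
  obtain ⟨k', rfl⟩ : ∃ k', k = k' + 1 := ⟨k - 1, by omega⟩
  -- P i : pd (range (d i)) < i + 1
  have step : ∀ i, i + 1 ≤ k' →
      HasProjectiveDimensionLT (ModuleCat.of B (LinearMap.range (d (i + 1)))) (i + 2) →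
      HasProjectiveDimensionLT (ModuleCat.of B (LinearMap.range (d i))) (i + 1) := by
    intro i hi h
    have hexact : Function.Exact (LinearMap.range (d i)).subtype (d (i + 1)).rangeRestrict := by
      intro x
      constructor
      · intro hx
        have : x ∈ LinearMap.ker (d (i + 1)) := by
          rw [LinearMap.mem_ker]
          exact congrArg Subtype.val hx
        rw [← hex i (by omega)] at this
        exact ⟨⟨x, this⟩, rfl⟩
      · rintro ⟨⟨y, hy⟩, rfl⟩
        rw [hex i (by omega)] at hy
        exact Subtype.ext hy
    let S : ShortComplex (ModuleCat.{u} B) :=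
      ModuleCat.shortComplexOfCompEqZero (LinearMap.range (d i)).subtype
        (d (i + 1)).rangeRestrict hexact.linearMap_comp_eq_zero
    have hS : S.ShortExact := ModuleCat.shortComplex_shortExact S hexact
      (Submodule.injective_subtype _) (LinearMap.surjective_rangeRestrict _)
    have hp : Projective S.X₂ := by
      show Projective (ModuleCat.of B (M (i + 1)))
      rw [← IsProjective.iff_projective]
      exact hproj (i + 1) (by omega) (by omega)
    exact (hS.hasProjectiveDimensionLT_X₃_iff i hp).mp h
  have top : HasProjectiveDimensionLT (ModuleCat.of B (LinearMap.range (d k'))) (k' + 1) := by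
    let S : ShortComplex (ModuleCat.{u} B) :=
      ModuleCat.shortComplexOfCompEqZero (LinearMap.range (d k')).subtype
        (LinearMap.range (d k')).mkQ (LinearMap.exact_subtype_mkQ _).linearMap_comp_eq_zero
    have hS : S.ShortExact := ModuleCat.shortComplex_shortExact S (LinearMap.exact_subtype_mkQ _)
      (Submodule.injective_subtype _) (Submodule.mkQ_surjective _)
    have hp : Projective S.X₂ := by
      show Projective (ModuleCat.of B (M (k' + 1)))
      rw [← IsProjective.iff_projective]
      exact hproj (k' + 1) (by omega) le_rfl
    exact (hS.hasProjectiveDimensionLT_X₃_iff k' hp).mp (hgl _)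
  have down : ∀ n i, i + n = k' →
      HasProjectiveDimensionLT (ModuleCat.of B (LinearMap.range (d i))) (i + 1) := by
    intro n
    induction n with
    | zero => intro i hi; rw [add_zero] at hi; subst hi; exact top
    | succ n ih =>
      intro i hi
      exact step i (by omega) (ih (i + 1) (by omega))
  have h0 : HasProjectiveDimensionLT (ModuleCat.of B (LinearMap.range (d 0))) 1 :=
    down k' 0 (by omega)
  rw [← projective_iff_hasProjectiveDimensionLT_one, ← IsProjective.iff_projective] at h0
  exact Module.Projective.of_equiv (LinearEquiv.ofInjective (d 0) hinj).symm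

/-- Let A be a regular local ring, k ≥ 0, and N_0, N_1, … A-modules with N_0 finitely generated and N_1,
…, N_k finitely generated and free, with linear maps d_i : N_i → N_{i+1} such that d_0 is injective
and the sequence 0 → N_0 → N_1 → ⋯ → N_k is exact. Then for every prime ideal p of A of height at
most k the localization of N_0 at p is a free module over A_p. The published statement is for a
coherent analytic sheaf on a complex manifold that is locally a k-th syzygy sheaf and says its set
of non-free stalks has codimension greater than k; this row is the statement at one stalk, over any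
regular local ring. -/
theorem result (A : Type u) [CommRing A] [IsRegularLocalRing A]
    (k : ℕ) (N : ℕ → Type u) [∀ i, AddCommGroup (N i)] [∀ i, Module A (N i)] [Module.Finite A (N 0)]
    (hfree : ∀ i, 1 ≤ i → i ≤ k → Module.Free A (N i) ∧ Module.Finite A (N i))
    (d : ∀ i, N i →ₗ[A] N (i + 1)) (hinj : Function.Injective (d 0))
    (hex : ∀ i, i + 1 < k → LinearMap.range (d i) = LinearMap.ker (d (i + 1)))
    (p : Ideal A) [p.IsPrime] (hp : p.height ≤ k) :
    Module.Free (Localization.AtPrime p) (LocalizedModule p.primeCompl (N 0)) := by
  have hreg : IsRegularLocalRing (Localization.AtPrime p) :=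
    Groth.Agent.Lib.Helper77.RegularLocalization.localization_regular A p
  obtain ⟨e, he⟩ : ∃ e : ℕ, ringKrullDim (Localization.AtPrime p) = e := by
    have hd' : ringKrullDim (Localization.AtPrime p) ≠ ⊥ := ringKrullDim_ne_bot
    have hd'' : ringKrullDim (Localization.AtPrime p) ≠ ⊤ := ringKrullDim_ne_top
    cases h : ringKrullDim (Localization.AtPrime p) with
    | bot => exact absurd h hd'
    | coe a =>
      cases a with
      | top => exact absurd h hd''
      | coe n => exact ⟨n, rfl⟩
  have hek : e ≤ k := by
    have h1 := IsLocalization.AtPrime.ringKrullDim_eq_height p (Localization.AtPrime p)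
    rw [he] at h1
    have h2 : ((e : ℕ∞) : WithBot ℕ∞) = (p.height : WithBot ℕ∞) := by exact_mod_cast h1
    have h3 : (e : ℕ∞) = p.height := WithBot.coe_injective h2
    have h4 : (e : ℕ∞) ≤ k := h3 ▸ hp
    exact_mod_cast h4
  have hgl : ∀ (C : Type u) [AddCommGroup C] [Module (Localization.AtPrime p) C],
      CategoryTheory.HasProjectiveDimensionLT (ModuleCat.of (Localization.AtPrime p) C) (k + 1) := by
    intro C _ _
    have := Groth.Agent.Lib.Helper76.hasProjectiveDimensionLT_of_isRegularLocalRing
      (Localization.AtPrime p) e he C
    exact CategoryTheory.hasProjectiveDimensionLT_of_ge _ (e + 1) (k + 1) (by omega)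
  have hproj : Module.Projective (Localization.AtPrime p) (LocalizedModule p.primeCompl (N 0)) := by
    apply projective_of_syzygy (Localization.AtPrime p) k hgl
      (fun i => LocalizedModule p.primeCompl (N i)) ?_
      (fun i => LocalizedModule.map p.primeCompl (d i))
      (LocalizedModule.map_injective p.primeCompl (d 0) hinj) ?_
    · intro i h1 h2
      obtain ⟨hf, _⟩ := hfree i h1 h2
      have : Module.Free (Localization.AtPrime p) (LocalizedModule p.primeCompl (N i)) :=
        Module.free_of_isLocalizedModule p.primeCompl
          (LocalizedModule.mkLinearMap p.primeCompl (N i))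
      infer_instance
    · intro i hi
      have h1 : Function.Exact (d i) (d (i + 1)) := (LinearMap.exact_iff.mpr (hex i hi).symm)
      have h2 := LocalizedModule.map_exact p.primeCompl (d i) (d (i + 1)) h1
      have h3 : Function.Exact (LocalizedModule.map p.primeCompl (d i))
          (LocalizedModule.map p.primeCompl (d (i + 1))) := h2
      exact (LinearMap.exact_iff.mp h3).symm
  have hfin : Module.Finite (Localization.AtPrime p) (LocalizedModule p.primeCompl (N 0)) :=
    Module.Finite.of_isLocalizedModule p.primeCompl
      (LocalizedModule.mkLinearMap p.primeCompl (N 0))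
  exact Module.free_of_flat_of_isLocalRing

end Groth.Agent.S12491
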