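import Groth.Statements.S2568
import Groth.Agent.Lib.Helper22.ChevalleyNN
import Groth.Agent.Lib.Helper73.DimFormula.EquidimAt
import Groth.Agent.Lib.Helper73.DimFormula.GenericFibre
import Groth.Agent.Lib.Helper73.DimFormula.QuasiSection
import Groth.Agent.Lib.Helper73.DimFormula.AffineSpaceQF

set_option autoImplicit false
open CategoryTheory AlgebraicGeometry
universe u
open EGA43

namespace Groth.Agent.S2568

open Groth.Agent.Lib.Helper22.ChevalleyNN Groth.Agent.Lib.Helper87 Groth.Agent.Lib.Helper73

/-- Chevalley's criterion in the case of irreducible source and base: let X and Y be irreducible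
schemes, all local rings of Y geometrically unibranch, and f : X ⟶ Y a dominant morphism locally of
finite type such that for every point x the local dimension at x of the fibre through x equals the
dimension of the generic fibre (the fibre over the image of the generic point of X). Then f is
universally open. -/
theorem result {X Y : Scheme.{u}} [IrreducibleSpace X] [IrreducibleSpace Y]
    (hY : ∀ y : Y, CAlg2.IsGeomUnibranch (Y.presheaf.stalk y)) (f : X ⟶ Y) [LocallyOfFiniteType f] [IsDominant f]
    (h : ∀ x : X, FlatMor.fibreDimAt f x = topologicalKrullDim ↥(f.fiber (f.base (genericPoint X)))) :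
    UniversallyOpen f := by
  apply UnivOpenAtSpecialize.universallyOpen_of_forall_isUnivOpenAt
  intro x
  have hηsp : ∀ t : X, genericPoint X ⤳ t := fun t => genericPoint_specializes t
  have hηmax : ∀ t : X, t ⤳ genericPoint X → t = genericPoint X :=
    fun t ht => (ht.antisymm (hηsp t)).eq
  have hmax : ∀ x' : X, f.base x' = f.base (genericPoint X) →
      genericPoint X ∈ closure {x'} → x' = genericPoint X :=
    fun x' _ hx' => hηmax x' (specializes_iff_mem_closure.mpr hx')
  have he := ChevalleyPointwise.fibreDimAt_eq_resTrdegNat f (genericPoint X) hmax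
  have hx : FlatMor.fibreDimAt f x = ((resTrdegNat f (genericPoint X) : ℕ) : WithBot ℕ∞) :=
    (h x).trans ((h (genericPoint X)).symm.trans he)
  obtain ⟨U, g, hxU, -, hgover, hgqf⟩ :=
    exists_locallyQuasiFinite_toAffineSpace f x (resTrdegNat f (genericPoint X)) hx.le ⊤ trivial
  haveI := hgqf
  have hηU : genericPoint X ∈ U := (hηsp x).mem_open U.isOpen hxU
  let c : ChevalleyPointwise.Chart f x (resTrdegNat f (genericPoint X)) :=
    ⟨U, hxU, g, hgover, hgqf, fun ξ _ hξ => by
      rw [← hξ _ (hηsp ξ)]; exact hηsp x⟩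
  haveI : LocallyOfFiniteType g := c.locallyOfFiniteType
  haveI : IrreducibleSpace ↥(U : Scheme.{u}) := by
    apply irreducibleSpace_of_forall_specializes (W := ↥(U : Scheme.{u}))
      (⟨genericPoint X, hηU⟩ : ↥(U : Scheme.{u}))
    intro t
    exact (U.ι.isOpenEmbedding.isInducing.specializes_iff
      (x := (⟨genericPoint X, hηU⟩ : ↥(U : Scheme.{u}))) (y := t)).mp (hηsp t.1)
  -- the image of the generic point is maximal in `Y`
  have hfηmax : ∀ t : Y, t ⤳ f (genericPoint X) → t = f (genericPoint X) := by
    intro t ht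
    have hcl : closure ({f (genericPoint X)} : Set Y) = Set.univ := by
      rw [← closure_image_closure_singleton f (genericPoint X),
        (genericPoint_spec X).def, Set.image_univ]
      exact (IsDominant.denseRange (f := f)).closure_eq
    have h2 : f (genericPoint X) ⤳ t := by
      rw [specializes_iff_mem_closure, hcl]; trivial
    exact (ht.antisymm h2).eq
  have hgen : ∀ ζ : ↥(U : Scheme.{u}), (∀ t : ↥(U : Scheme.{u}), t ⤳ ζ → t = ζ) →
      ∀ t : 𝔸(ULift.{u} (Fin (resTrdegNat f (genericPoint X))); Y), t ⤳ g ζ → t = g ζ := by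
    intro ζ hζ
    have h1 : (⟨genericPoint X, hηU⟩ : ↥(U : Scheme.{u})) ⤳ ζ :=
      (U.ι.isOpenEmbedding.isInducing.specializes_iff
        (x := (⟨genericPoint X, hηU⟩ : ↥(U : Scheme.{u}))) (y := ζ)).mp (hηsp ζ.1)
    have h2 := hζ _ h1
    rw [← h2]
    exact c.maximal_of_resTrdegNat_eq (⟨genericPoint X, hηU⟩ : ↥(U : Scheme.{u})) rfl hfηmax
  let xU : ↥(U : Scheme.{u}) := ⟨x, hxU⟩
  obtain ⟨_, ⟨V, hV, rfl⟩, hsV, -⟩ :=
    Y.isBasis_affineOpens.exists_subset_of_mem_open (Set.mem_univ (f x)) isOpen_univ
  have hVirr : IsPreirreducible (V : Set Y) :=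
    (IrreducibleSpace.isIrreducible_univ Y).isPreirreducible.open_subset V.isOpen
      (Set.subset_univ _)
  have hwV : (𝔸(ULift.{u} (Fin (resTrdegNat f (genericPoint X))); Y) ↘ Y) (g xU) ∈ V := by
    rw [← Scheme.Hom.comp_apply, hgover, Scheme.Hom.comp_apply]
    exact hsV
  have key := isUnivOpenAt_of_chart hY _ g hgen xU hV hVirr hwV
  have h2 : EGA43.IsUnivOpenAt
      (g ≫ (𝔸(ULift.{u} (Fin (resTrdegNat f (genericPoint X))); Y) ↘ Y)) xU :=
    Groth.Agent.S4925.result g _ _ key (UnivOpenAtChart.isUnivOpenAt_of_universallyOpen _ _)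
  rw [hgover] at h2
  exact Groth.Agent.S4926.result U.ι f xU h2

end Groth.Agent.S2568
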