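import Groth.Statements.S4932
import Groth.Agent.Lib.Helper22.ValTrdegSch

set_option autoImplicit false
open CategoryTheory AlgebraicGeometry
universe u v w
open EGA43

namespace Groth.Agent.S4932

/-- Let A be a valuation ring (not necessarily discrete), X an irreducible scheme and f : X ⟶ Spec A a
dominant morphism of finite type. If the fibre X_0 of f over the closed point is nonempty, then dim
X_0 = dim X_1, where X_1 is the fibre over the generic point. -/
theorem result {A : Type u} [CommRing A] [IsDomain A]
    [ValuationRing A] {X : Scheme.{u}} [IrreducibleSpace X] (f : X ⟶ Spec (CommRingCat.of A))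
    [LocallyOfFiniteType f] [QuasiCompact f] [IsDominant f]
    (h0 : Nonempty ↥(f.fiber (IsLocalRing.closedPoint A))) :
    topologicalKrullDim ↥(f.fiber (IsLocalRing.closedPoint A)) =
      topologicalKrullDim ↥(f.fiber (genericPoint (Spec (CommRingCat.of A)))) := by
  open Groth.Agent.Lib.Helper73 Groth.Agent.Lib.Helper72.FibDimIrr Groth.Agent.Lib.Helper22.ValTrdeg Groth.Agent.Lib.Helper22.GenStr in
  set ξ := genericPoint ↥X with hξdef
  have hξ : f ξ = genericPoint ↥(Spec (CommRingCat.of A)) := by
    have h1 : IsGenericPoint (f ξ) (Set.univ : Set ↥(Spec (CommRingCat.of A))) := by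
      have := (genericPoint_spec ↥X).image f.continuous
      rwa [Set.image_univ, f.denseRange.closure_range] at this
    exact h1.eq (genericPoint_spec _)
  have hle : ∀ y (x : X), f x = y → resTrdegNat f x ≤ resTrdegNat f ξ := fun y x _ =>
    resTrdegNat_le_of_specializes f (genericPoint_specializes x)
  have hgen : topologicalKrullDim ↥(f.fiber (genericPoint ↥(Spec (CommRingCat.of A)))) =
      ((resTrdegNat f ξ : ℕ) : WithBot ℕ∞) :=
    le_antisymm ((topologicalKrullDim_fiber_le_iff_resTrdegNat f _ _).2 (hle _))
      (le_topologicalKrullDim_fiber f _ _ ξ hξ le_rfl)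
  rw [hgen]
  refine le_antisymm ((topologicalKrullDim_fiber_le_iff_resTrdegNat f _ _).2 (hle _)) ?_
  obtain ⟨z⟩ := h0
  obtain ⟨t, -, -, hft, hle'⟩ := exists_generization_resTrdegNat_ge f ξ (f.fiberι _ z)
    (genericPoint_specializes _)
  exact le_topologicalKrullDim_fiber f _ _ t (hft.trans (map_fiberι f _ z)) hle'

end Groth.Agent.S4932
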