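import Groth.Statements.S9885
-- import your own Groth.Agent.* helpers here

set_option autoImplicit false
universe u
open CategoryTheory CategoryTheory.Limits AlgebraicGeometry
open AlgSp

namespace Groth.Agent.S9885

/-- Let `a : F ⟶ G` be a map of fppf sheaves of sets over `S` which is representable by schemes, flat,
locally of finite presentation and surjective (in the representable sense). Then `a` is surjective
as a map of sheaves (locally surjective). -/
theorem result (S : Scheme.{u}) (F G : AlgSp.Sp S) (a : F ⟶ G)
    (h₁ : AlgSp.RepWith @Flat a) (h₂ : AlgSp.RepWith @LocallyOfFinitePresentation a)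
    (h₃ : AlgSp.RepWith @Surjective a) : Sheaf.IsLocallySurjective a := by
  constructor
  intro U s
  let g : (AlgSp.yon S).obj U ⟶ G := ((AlgSp.J S).uliftYonedaEquiv).symm s
  have hrep : AlgSp.Representable a := h₁.rep
  have hpb := hrep.isPullback g
  have hfl : Flat (hrep.snd g).left := h₁.property _ _ _ hpb
  have hlfp : LocallyOfFinitePresentation (hrep.snd g).left := h₂.property _ _ _ hpb
  have hsurj : Surjective (hrep.snd g).left := h₃.property _ _ _ hpb
  have hcov : Sieve.ofArrows (fun _ : PUnit.{1} => hrep.pullback g) (fun _ => hrep.snd g) ∈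
      AlgSp.J S U := by
    rw [AlgSp.J_eq, GrothendieckTopology.mem_over_iff, Sieve.overEquiv_ofArrows]
    rw [Sieve.ofArrows, Presieve.ofArrows_pUnit]
    exact Precoverage.generate_mem_toGrothendieck (Scheme.Hom.singleton_mem_fppfPrecoverage _)
  refine (AlgSp.J S).superset_covering ?_ hcov
  rw [Sieve.ofArrows, Sieve.generate_le_iff]
  rintro _ _ ⟨⟩
  refine ⟨(AlgSp.J S).uliftYonedaEquiv (hrep.fst g), ?_⟩
  have h1 := (AlgSp.J S).uliftYonedaEquiv_comp (hrep.fst g) a
  have h2 := (AlgSp.J S).uliftYonedaEquiv_naturality g (hrep.snd g)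
  rw [← hpb.w, h1] at h2
  rw [← h2]
  simp [g]

end Groth.Agent.S9885
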