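import Groth.Statements.S9884
-- import your own Groth.Agent.* helpers here

set_option autoImplicit false
universe u
open CategoryTheory CategoryTheory.Limits AlgebraicGeometry
open AlgSp

namespace Groth.Agent.S9884

/-- Let `a : F ⟶ G` be a map of fppf sheaves of sets over `S` which is representable by schemes, `b : H
⟶ G` a surjective map of sheaves, and `a' : H ×_G F ⟶ H` the base change of `a` along `b` (a
pullback square in sheaves). Let `P` be a property of morphisms of schemes stable under base change
and fppf local on the base. If `a'` has `P` in the representable sense, then so does `a`. (The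
published statement is for presheaves, with `b` inducing a surjection of fppf sheafifications; this
row is the case of sheaves.) -/
theorem result (S : Scheme.{u}) (F G H : AlgSp.Sp S) (a : F ⟶ G)
    (ha : AlgSp.Representable a) (b : H ⟶ G) [Sheaf.IsLocallySurjective b] (Q : AlgSp.Sp S) (b' : Q ⟶ F)
    (a' : Q ⟶ H) (sq : IsPullback b' a' a b) (P : MorphismProperty Scheme.{u}) [P.IsStableUnderBaseChange]
    [P.IsLocalAtTarget Scheme.fppfPrecoverage] (h : AlgSp.RepWith P a') : AlgSp.RepWith P a := by
  refine ⟨ha, ?_⟩
  intro U V g fst snd sqV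
  have hmem : Presheaf.imageSieve b.hom ((AlgSp.J S).uliftYonedaEquiv g) ∈
      (Scheme.fppfTopology.over S) U :=
    Presheaf.imageSieve_mem (AlgSp.J S) b.hom (U := Opposite.op U) ((AlgSp.J S).uliftYonedaEquiv g)
  have hci : (@Flat ⊓ @LocallyOfFinitePresentation : MorphismProperty Scheme.{u}).ContainsIdentities :=
    ⟨fun X => ⟨inferInstance, inferInstance⟩⟩
  have : Scheme.fppfPrecoverage.{u}.HasIsos := by
    unfold Scheme.fppfPrecoverage
    infer_instance
  rw [GrothendieckTopology.mem_over_iff,
    Precoverage.mem_toGrothendieck_iff_of_isStableUnderComposition] at hmem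
  obtain ⟨R, hR, hle⟩ := hmem
  refine MorphismProperty.IsLocalAtTarget.of_forall_pullbackSnd (K := Scheme.fppfPrecoverage) hR ?_
  intro T c _ hc
  have hc' := hle _ _ hc
  rw [Sieve.overEquiv_iff] at hc'
  obtain ⟨t, ht⟩ := hc'
  set c' : Over.mk (c ≫ U.hom) ⟶ U := Over.homMk c with hc'def
  let hT : (AlgSp.yon S).obj (Over.mk (c ≫ U.hom)) ⟶ H := ((AlgSp.J S).uliftYonedaEquiv).symm t
  have hcomm : (AlgSp.yon S).map c' ≫ g = hT ≫ b := by
    apply (AlgSp.J S).uliftYonedaEquiv.injective
    rw [← (AlgSp.J S).uliftYonedaEquiv_naturality, (AlgSp.J S).uliftYonedaEquiv_comp]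
    simp only [hT, Equiv.apply_symm_apply]
    exact ht.symm
  have hpbO : IsPullback (pullback.fst snd c') (pullback.snd snd c') snd c' :=
    IsPullback.of_hasPullback snd c'
  have hpbY := hpbO.map (AlgSp.yon S)
  have hbig := hpbY.paste_horiz sqV
  rw [hcomm] at hbig
  have hfin := IsPullback.of_right' hbig sq
  have hP : P (pullback.snd snd c').left := h.property _ _ _ hfin
  have hpbS : IsPullback (pullback.fst snd c').left (pullback.snd snd c').left snd.left c :=
    hpbO.map (Over.forget S)
  have : pullback.snd snd.left c = hpbS.isoPullback.inv ≫ (pullback.snd snd c').left := by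
    rw [Iso.eq_inv_comp, hpbS.isoPullback_hom_snd]
  change P (pullback.snd snd.left c)
  rw [this]
  have : P.RespectsIso := MorphismProperty.IsStableUnderBaseChange.respectsIso
  exact (P.cancel_left_of_respectsIso _ _).mpr hP

end Groth.Agent.S9884
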