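import Groth.Statements.S10191
import Groth.Agent.Lib.Helper37.AlgSpPoints
import Mathlib

set_option autoImplicit false
universe u
open CategoryTheory CategoryTheory.Limits AlgebraicGeometry Topology TopologicalSpace
open AlgSp

namespace Groth.Agent.S10191

open Groth.Agent.Lib.Helper37.AlgSpPoints

theorem top_lemma {U X Z V : Type*} [TopologicalSpace U] [TopologicalSpace X] [TopologicalSpace Z]
    [TopologicalSpace V] (a : U → X) (i : Z → X) (b : V → Z) (k : V → U)
    (ha : IsOpenMap a) (hac : Continuous a) (has : Function.Surjective a)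
    (hi : Continuous i) (hb : Continuous b) (hbs : Function.Surjective b)
    (hk : IsEmbedding k) (hkl : IsLocallyClosed (Set.range k))
    (comm : ∀ v, a (k v) = i (b v))
    (cart : ∀ z u, i z = a u → ∃ v, b v = z ∧ k v = u) :
    IsEmbedding i ∧ IsLocallyClosed (Set.range i) := by
  have hinj : Function.Injective i := by
    intro z1 z2 h
    obtain ⟨u, hu⟩ := has (i z1)
    obtain ⟨v1, hv1, hk1⟩ := cart z1 u hu.symm
    obtain ⟨v2, hv2, hk2⟩ := cart z2 u (h ▸ hu.symm)
    have : v1 = v2 := hk.injective (hk1.trans hk2.symm)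
    rw [← hv1, ← hv2, this]
  refine ⟨⟨⟨?_⟩, hinj⟩, ?_⟩
  · apply le_antisymm
    · exact hi.le_induced
    · intro T hT
      have hTV : IsOpen (b ⁻¹' T) := hT.preimage hb
      obtain ⟨WU, hWU, hWUe⟩ := hk.isInducing.isOpen_iff.1 hTV
      refine ⟨a '' WU, ha _ hWU, ?_⟩
      ext z
      constructor
      · rintro ⟨u, hu, hau⟩
        obtain ⟨v, hv, hkv⟩ := cart z u hau.symm
        have : v ∈ k ⁻¹' WU := by rw [Set.mem_preimage, hkv]; exact hu
        rw [hWUe] at this
        rw [← hv]; exact this
      · intro hz
        obtain ⟨v, rfl⟩ := hbs z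
        have : v ∈ k ⁻¹' WU := by rw [hWUe]; exact hz
        exact ⟨k v, this, comm v⟩
  · rw [isLocallyClosed_iff_isOpen_coborder]
    have hq : IsQuotientMap a := ha.isQuotientMap hac has
    rw [← hq.isOpen_preimage, ← coborder_preimage ha hac]
    have : a ⁻¹' Set.range i = Set.range k := by
      ext u
      constructor
      · rintro ⟨z, hz⟩
        obtain ⟨v, -, hkv⟩ := cart z u hz
        exact ⟨v, hkv⟩
      · rintro ⟨v, rfl⟩
        exact ⟨b v, (comm v).symm⟩
    rw [this]
    exact hkl.isOpen_coborder

/-- Let i : Z ⟶ X be an immersion of algebraic spaces over a scheme S (a morphism representable by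
immersions of schemes). Then |i| : |Z| → |X| is a homeomorphism onto its image, and this image is a
locally closed subset of |X|. -/
theorem result {S : Scheme.{u}} {Z X : AlgSp.Space S} (i : Z ⟶ X)
    (hi : AlgSp.RepWith @IsImmersion i.hom) :
    IsEmbedding (AlgSp.Points.map i.hom) ∧ IsLocallyClosed (Set.range (AlgSp.Points.map i.hom)) := by
  obtain ⟨U, a, ha, has⟩ := X.property.atlas
  have hsq := hi.rep.isPullback a
  have himm : IsImmersion (hi.rep.snd a).left := hi.property_snd a
  set V := hi.rep.pullback a with hV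
  set fst' := hi.rep.fst a with hfst
  set snd := hi.rep.snd a with hsnd
  have hfs : RepWith @Surjective fst' :=
    (RepWith @Surjective).of_isPullback hsq.flip has
  refine top_lemma (Points.ofPt a) (Points.map i.hom) (Points.ofPt fst') (snd.left)
    (isOpenMap_ofPt a ha) (Points.continuous_ofPt a) (ofPt_surjective a has)
    (Points.continuous_map i.hom) (Points.continuous_ofPt fst') (ofPt_surjective fst' hfs)
    snd.left.isEmbedding snd.left.isLocallyClosed_range ?_ ?_
  · intro v
    rw [Points.map_ofPt, hsq.w, ofPt_map_comp]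
  · intro z u h
    rw [Points.ofPt_eq_map_ofScheme a u] at h
    obtain ⟨p, hp1, hp2⟩ := points_exists_of_isPullback hsq.flip (Points.ofScheme U u) z h.symm
    refine ⟨Points.toScheme V p, ?_, ?_⟩
    · rw [Points.ofPt_eq_map_ofScheme, Points.ofScheme_toScheme, hp2]
    · apply (Points.schemeEquiv U).injective
      change Points.ofScheme U _ = Points.ofScheme U u
      rw [← hp1, ← ofPt_yon_map, Points.ofPt_eq_map_ofScheme, Points.ofScheme_toScheme]

end Groth.Agent.S10191
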