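import Groth.Statements.S10261
-- import your own Groth.Agent.* helpers here
import Groth.Agent.Lib.Helper36.AlgSpCharts
import Groth.Agent.Lib.Helper37.AlgSpPoints
import Groth.Agent.Lib.Helper5.SheafPullback
import Groth.Agent.S10262
import Groth.Agent.S9872

set_option autoImplicit false
universe u
open CategoryTheory CategoryTheory.Limits AlgebraicGeometry
open AlgSp

namespace Groth.Agent.S10261

open Groth.Agent.Lib.Helper36.AlgSpCharts Groth.Agent.Lib.Helper37.AlgSpPoints Groth.Agent.Lib.Helper5

/-- A morphism of sheaves which is injective on representable test objects is a monomorphism. -/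
theorem mono_of_yon_cancel {S : Scheme.{u}} {X Y : Sp S} (F : X ⟶ Y)
    (h : ∀ (T : Over S) (a b : (yon S).obj T ⟶ X), a ≫ F = b ≫ F → a = b) : Mono F := by
  have : Mono F.hom := by
    have : ∀ T, Mono (F.hom.app T) := by
      intro T
      rw [mono_iff_injective]
      intro x y hxy
      have := h T.unop ((J S).uliftYonedaEquiv.symm x) ((J S).uliftYonedaEquiv.symm y) (by
        rw [(J S).uliftYonedaEquiv_symm_naturality_right, (J S).uliftYonedaEquiv_symm_naturality_right]
        exact congrArg _ hxy)
      exact (J S).uliftYonedaEquiv.symm.injective this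
    exact NatTrans.mono_of_mono_app _
  exact (sheafToPresheaf _ _).mono_of_mono_map this

/-- étale + universally injective implies monomorphism -/
theorem mono_of_etale_univInjective {S : Scheme.{u}} {X Y : AlgSp.Space S}
    (f : X ⟶ Y) (het : AlgSp.IsEtaleMor f.hom) (hinj : AlgSp.IsUnivInjectiveMor f.hom) :
    Mono f.hom := by
  set F := f.hom
  have hunr : LocP (@LocallyOfFiniteType ⊓ @FormallyUnramified) F := by
    intro U V a b k ha hb w
    have := etale_of_comp_eq (a ≫ F) b k (het a ha) hb w.symm
    exact ⟨inferInstance, inferInstance⟩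
  have hΔ : RepWith @IsOpenImmersion (pullback.diagonal F) := Groth.Agent.S10262.part1 f hunr
  -- Δ is surjective on points
  have hsnd : Function.Injective (Points.map (pullback.snd F F)) :=
    hinj X.property F (pullback.fst F F) (pullback.snd F F) (IsPullback.of_hasPullback F F)
  have hΔs : Function.Surjective (Points.map (pullback.diagonal F)) := by
    intro z
    refine ⟨Points.map (pullback.snd F F) z, hsnd ?_⟩
    rw [← Points.map_comp, pullback.diagonal_snd, Points.map_id]
  apply mono_of_yon_cancel
  intro T a b hab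
  let g : (yon S).obj T ⟶ pullback F F := pullback.lift a b hab
  have sq := hΔ.rep.isPullback g
  have hιo : IsOpenImmersion (hΔ.rep.snd g).left := hΔ.property_snd g
  have hιs : Surjective (hΔ.rep.snd g).left := by
    refine ⟨fun t => ?_⟩
    obtain ⟨x, hx⟩ := hΔs (Points.ofPt g t)
    obtain ⟨p, -, hp2⟩ := points_exists_of_isPullback sq x (Points.ofScheme T t) (by
      rw [hx, Points.ofPt_eq_map_ofScheme])
    refine ⟨Points.toScheme _ p, ?_⟩
    have h1 : Points.map ((yon S).map (hΔ.rep.snd g)) (Points.ofScheme _ (Points.toScheme _ p)) =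
        Points.ofScheme T t := by rw [Points.ofScheme_toScheme, hp2]
    rw [← Points.ofPt_eq_map_ofScheme] at h1
    have h2 := congrArg (Points.toScheme T) h1
    rwa [Points.toScheme_ofPt, Points.toScheme_ofScheme] at h2
  have hιiso : IsIso (hΔ.rep.snd g).left := by
    have : Epi (hΔ.rep.snd g).left.base := (TopCat.epi_iff_surjective _).2 hιs.surj
    exact IsOpenImmersion.isIso _
  have : IsIso ((Over.forget S).map (hΔ.rep.snd g)) := hιiso
  have : IsIso (hΔ.rep.snd g) := isIso_of_reflects_iso _ (Over.forget S)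
  have e1 : (yon S).map (hΔ.rep.snd g) ≫ a = hΔ.rep.fst g := by
    have := congrArg (· ≫ pullback.fst F F) sq.w
    simp only [Category.assoc, pullback.diagonal_fst, Category.comp_id] at this
    rw [this, pullback.lift_fst]
  have e2 : (yon S).map (hΔ.rep.snd g) ≫ b = hΔ.rep.fst g := by
    have := congrArg (· ≫ pullback.snd F F) sq.w
    simp only [Category.assoc, pullback.diagonal_snd, Category.comp_id] at this
    rw [this, pullback.lift_snd]
  rw [← cancel_epi ((yon S).map (hΔ.rep.snd g)), e1, e2]

/-- An etale and universally injective morphism of algebraic spaces is an open immersion. -/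
theorem result {S : Scheme.{u}} {X Y : AlgSp.Space S}
    (f : X ⟶ Y) (het : AlgSp.IsEtaleMor f.hom) (hinj : AlgSp.IsUnivInjectiveMor f.hom) :
    AlgSp.RepWith @IsOpenImmersion f.hom := by
  have hmono : Mono f.hom := mono_of_etale_univInjective f het hinj
  set F := f.hom
  obtain ⟨U, a, hae, has⟩ := X.property.atlas
  have haF : RepWith @Etale (a ≫ F) := het a hae
  refine MorphismProperty.relative.of_exists fun T g => ?_
  -- W = U ×_Y T
  have sqW := haF.rep.isPullback' g
  set W := haF.rep.pullback g
  set wU : W ⟶ U := haF.rep.fst' g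
  set wT : W ⟶ T := haF.rep.snd g
  have hwT : Etale wT.left := haF.property_snd g
  -- the open image T' of W in T
  let T'o : T.left.Opens := ⟨Set.range wT.left, wT.left.isOpenMap.isOpen_range⟩
  let T' : Over S := Over.mk (T'o.ι ≫ T.hom)
  let j : T' ⟶ T := Over.homMk T'o.ι rfl
  have hj : IsOpenImmersion j.left := inferInstanceAs (IsOpenImmersion T'o.ι)
  have hjm : Mono ((yon S).map j) := by
    have : Mono j.left := inferInstance
    have : Mono j := (Over.forget S).mono_of_mono_map this
    infer_instance
  have hrange : Set.range wT.left ⊆ Set.range T'o.ι := by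
    rw [Scheme.Opens.range_ι]; exact subset_rfl
  let w'l : W.left ⟶ T'.left := IsOpenImmersion.lift T'o.ι wT.left hrange
  have hw'l : w'l ≫ T'o.ι = wT.left := IsOpenImmersion.lift_fac _ _ _
  let w' : W ⟶ T' := Over.homMk w'l (by
    change w'l ≫ T'o.ι ≫ T.hom = W.hom
    rw [reassoc_of% hw'l]; exact Over.w wT)
  have hw'j : w' ≫ j = wT := Over.OverMorphism.ext hw'l
  have hw'e : Etale w'.left := by
    have : Etale (w'l ≫ T'o.ι) := by rw [hw'l]; exact hwT
    exact MorphismProperty.of_postcomp (W := @Etale) (W' := @Etale) w'l T'o.ι inferInstance this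
  have hw's : Surjective w'.left := by
    refine ⟨fun t => ?_⟩
    have ht : T'o.ι t ∈ Set.range wT.left := by
      have h0 : T'o.ι t ∈ Set.range T'o.ι := Set.mem_range_self t
      rw [Scheme.Opens.range_ι] at h0
      exact h0
    obtain ⟨w, hw⟩ := ht
    refine ⟨w, ?_⟩
    apply T'o.ι.injective
    rw [← Scheme.Hom.comp_apply]
    change (w'l ≫ T'o.ι) w = _
    rw [hw'l, hw]
  -- coequalizer presentation of h_{T'}
  have sqR := (IsPullback.of_hasPullback w' w').map (yon S)
  obtain ⟨-, ⟨hcoeq⟩⟩ := Groth.Agent.S9872.result S ((yon S).obj T') (IsAlgSpace.yon_obj T')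
    ((yon S).map w') ((repWith_yon_map_iff _ _).2 hw'e) ((repWith_yon_map_iff _ _).2 hw's)
    (pullback.snd w' w') (pullback.fst w' w') sqR
  have hepi : Epi ((yon S).map w') := epi_of_isColimit_cofork hcoeq
  have hk : (yon S).map (pullback.fst w' w') ≫ ((yon S).map wU ≫ a) =
      (yon S).map (pullback.snd w' w') ≫ ((yon S).map wU ≫ a) := by
    rw [← cancel_mono F]
    simp only [Category.assoc]
    rw [sqW.w, ← hw'j]
    simp only [Functor.map_comp, Category.assoc]
    rw [reassoc_of% sqR.w]
  let fst : (yon S).obj T' ⟶ X.obj := Cofork.IsColimit.desc hcoeq ((yon S).map wU ≫ a) hk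
  have hfst : (yon S).map w' ≫ fst = (yon S).map wU ≫ a := Cofork.IsColimit.π_desc hcoeq
  have hcomm : fst ≫ F = (yon S).map j ≫ g := by
    rw [← cancel_epi ((yon S).map w'), reassoc_of% hfst, ← Functor.map_comp_assoc, hw'j]
    simpa using sqW.w
  refine ⟨T', fst, j, ?_, hj⟩
  refine sheaf_isPullback_of_yon.{u, u + 1, u + 1} (J S) fst ((yon S).map j) F g hcomm ?_ ?_
  · intro Z z z' _ h2
    exact (cancel_mono ((yon S).map j)).1 h2
  · intro Z s t hst
    obtain ⟨t0, rfl⟩ := (yon S).map_surjective t
    have hsub : Set.range t0.left ⊆ Set.range T'o.ι := by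
      rw [Scheme.Opens.range_ι]
      rintro _ ⟨z, rfl⟩
      obtain ⟨u, hu⟩ := ofPt_surjective a has (Points.ofPt s z)
      have : Points.ofPt (a ≫ F) u = Points.ofPt g (t0.left z) := by
        rw [← Points.map_ofPt, hu, Points.map_ofPt, hst, ofPt_map_comp]
      obtain ⟨w, -, hw⟩ := (ofPt_eq_ofPt_iff sqW u (t0.left z)).1 this
      exact ⟨w, hw⟩
    let ll : Z.left ⟶ T'.left := IsOpenImmersion.lift T'o.ι t0.left hsub
    have hll : ll ≫ T'o.ι = t0.left := IsOpenImmersion.lift_fac _ _ _
    let l : Z ⟶ T' := Over.homMk ll (by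
      change ll ≫ T'o.ι ≫ T.hom = Z.hom
      rw [reassoc_of% hll]; exact Over.w t0)
    have hlj : l ≫ j = t0 := Over.OverMorphism.ext hll
    refine ⟨(yon S).map l, ?_, by rw [← Functor.map_comp, hlj]⟩
    rw [← cancel_mono F, Category.assoc, hcomm, ← Functor.map_comp_assoc, hlj, hst]

end Groth.Agent.S10261
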