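import Groth.Statements.S10265
-- import your own Groth.Agent.* helpers here
import Groth.Agent.Lib.Helper36.AlgSpCharts
import Mathlib.RingTheory.Unramified.LocalStructure

set_option autoImplicit false
universe u
open CategoryTheory CategoryTheory.Limits AlgebraicGeometry
open AlgSp

namespace Groth.Agent.S10265

open Groth.Agent.Lib.Helper36.AlgSpCharts

theorem locallyQuasiFinite_of_etale {X Y : Scheme.{u}} (f : X ⟶ Y) [Etale f] :
    LocallyQuasiFinite f := by
  refine ⟨fun {U} hU {V} hV e => ?_⟩
  have h := f.etale_appLE hU hV e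
  algebraize [(f.appLE U V e).hom]
  have : Algebra.Etale Γ(Y, U) Γ(X, V) := h
  rw [RingHom.QuasiFinite]
  infer_instance

/-- Whenever a morphism of algebraic spaces is etale, it is, etale locally on both source and target,
smooth, flat, unramified, locally quasi-finite, locally of finite type and locally of finite
presentation. -/
theorem result {S : Scheme.{u}} {X Y : AlgSp.Space S} (f : X ⟶ Y) (hf : AlgSp.IsEtaleMor f.hom) :
    AlgSp.LocP (@LocallyQuasiFinite ⊓ @LocallyOfFiniteType) f.hom ∧ AlgSp.LocP @Smooth f.hom ∧
    AlgSp.LocP @Flat f.hom ∧ AlgSp.LocP @LocallyOfFinitePresentation f.hom ∧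
    AlgSp.LocP @LocallyOfFiniteType f.hom ∧ AlgSp.LocP (@LocallyOfFiniteType ⊓ @FormallyUnramified) f.hom := by
  have key : ∀ ⦃U V : Over S⦄ (a : (yon S).obj U ⟶ X.obj) (b : (yon S).obj V ⟶ Y.obj) (h : U ⟶ V),
      RepWith @Etale a → RepWith @Etale b → a ≫ f.hom = (yon S).map h ≫ b → Etale h.left :=
    fun U V a b h ha hb w => etale_of_comp_eq (a ≫ f.hom) b h (hf a ha) hb w.symm
  refine ⟨?_, ?_, ?_, ?_, ?_, ?_⟩
  · intro U V a b h ha hb w
    have := key a b h ha hb w
    exact ⟨locallyQuasiFinite_of_etale _, inferInstance⟩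
  · intro U V a b h ha hb w
    have := key a b h ha hb w
    infer_instance
  · intro U V a b h ha hb w
    have := key a b h ha hb w
    infer_instance
  · intro U V a b h ha hb w
    have := key a b h ha hb w
    infer_instance
  · intro U V a b h ha hb w
    have := key a b h ha hb w
    infer_instance
  · intro U V a b h ha hb w
    have := key a b h ha hb w
    exact ⟨inferInstance, inferInstance⟩

end Groth.Agent.S10265
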