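import Groth.Statements.S10174
import Groth.Agent.Lib.Helper37.AlgSpPoints

set_option autoImplicit false
universe u
open CategoryTheory CategoryTheory.Limits AlgebraicGeometry Topology TopologicalSpace
open AlgSp

namespace Groth.Agent.S10174

/-- An algebraic space X over a scheme S is quasi-compact (that is, it has a surjective etale chart from
a scheme whose underlying space is quasi-compact) if and only if the space of points |X| is
quasi-compact. -/
theorem result {S : Scheme.{u}} (X : AlgSp.Space S) :
    AlgSp.IsQuasiCompactSp X.obj ↔ CompactSpace (AlgSp.Points X.obj) := by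
  open Groth.Agent.Lib.Helper37.AlgSpPoints in
  constructor
  · rintro ⟨U, p, hpe, hps, hc⟩
    have : CompactSpace ↥U.left := hc
    refine ⟨?_⟩
    rw [← Set.range_eq_univ.2 (ofPt_surjective p hps)]
    exact isCompact_range (Points.continuous_ofPt p)
  · intro hc
    obtain ⟨U, p, hpe, hps⟩ := X.property.atlas
    have hV : ∀ u : ↥U.left, ∃ V : U.left.Opens, IsAffineOpen V ∧ u ∈ V := by
      intro u
      obtain ⟨_, ⟨V, hV, rfl⟩, huV, -⟩ :=
        U.left.isBasis_affineOpens.exists_subset_of_mem_open (Set.mem_univ u) isOpen_univ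
      exact ⟨V, hV, huV⟩
    choose V hVa hVu using hV
    obtain ⟨t, ht⟩ := isCompact_univ.elim_finite_subcover
      (fun u : ↥U.left => Points.ofPt p '' (V u : Set ↥U.left))
      (fun u => isOpenMap_ofPt p hpe _ (V u).2)
      (fun x _ => by
        obtain ⟨u, rfl⟩ := ofPt_surjective p hps x
        exact Set.mem_iUnion.2 ⟨u, u, hVu u, rfl⟩)
    let U' : U.left.Opens := ⨆ u ∈ t, V u
    have hU'c : IsCompact (U' : Set ↥U.left) := by
      have : (U' : Set ↥U.left) = ⋃ u ∈ t, (V u : Set ↥U.left) := by
        simp [U']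
      rw [this]
      exact t.isCompact_biUnion fun u _ => (hVa u).isCompact
    let ι : Over.mk (U'.ι ≫ U.hom) ⟶ U := Over.homMk U'.ι rfl
    have hι : Etale ι.left := by
      change Etale U'.ι
      infer_instance
    have hpe' : RepWith @Etale ((yon S).map ι ≫ p) :=
      (RepWith @Etale).comp_mem _ _ ((repWith_yon_map_iff @Etale ι).2 hι) hpe
    refine ⟨Over.mk (U'.ι ≫ U.hom), (yon S).map ι ≫ p, hpe', ?_, ?_⟩
    · refine repWith_surjective_of_ofPt_surjective _ hpe'.rep fun x => ?_
      obtain ⟨u, hu, v, hv, rfl⟩ : ∃ u ∈ t, ∃ v ∈ (V u : Set ↥U.left), Points.ofPt p v = x := by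
        simpa using ht (Set.mem_univ x)
      have hvU' : v ∈ U' := by
        simp only [U', TopologicalSpace.Opens.mem_iSup]
        exact ⟨u, hu, hv⟩
      refine ⟨(⟨v, hvU'⟩ : ↥U'), ?_⟩
      rw [ofPt_map_comp]
      rfl
    · exact isCompact_iff_compactSpace.1 hU'c

end Groth.Agent.S10174
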