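import Groth.Statements.S10587
-- import your own Groth.Agent.* helpers here
import Groth.Agent.Lib.Helper36.Thickening
import Groth.Agent.S10174
import Groth.Agent.Lib.Helper23.AlgSpMor4

set_option autoImplicit false
universe u
open CategoryTheory CategoryTheory.Limits AlgebraicGeometry
open AlgSp

namespace Groth.Agent.S10587

open Groth.Agent.Lib.Helper36.Thickening Groth.Agent.Lib.Helper23.AlgSpMor

variable {S : Scheme.{u}}

/-- `Q` only depends on the map of points up to homeomorphisms of source and target. -/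
def HomeoInv (Q : MorphismProperty (Sp S)) : Prop :=
  ∀ ⦃A B C D : Sp S⦄ (a : A ⟶ B) (b : B ⟶ D) (c : A ⟶ C) (d : C ⟶ D), a ≫ b = c ≫ d →
    IsHomeomorph (Points.map a) → IsHomeomorph (Points.map d) → (Q c ↔ Q b)

theorem top_closed {A B C D : Type*} [TopologicalSpace A] [TopologicalSpace B] [TopologicalSpace C]
    [TopologicalSpace D] (α : A → B) (β : B → D) (γ : A → C) (δ : C → D)
    (h : ∀ x, β (α x) = δ (γ x)) (hα : IsHomeomorph α) (hδ : IsHomeomorph δ) :
    IsClosedMap γ ↔ IsClosedMap β := by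
  obtain ⟨eα, rfl⟩ := isHomeomorph_iff_exists_homeomorph.1 hα
  obtain ⟨eδ, rfl⟩ := isHomeomorph_iff_exists_homeomorph.1 hδ
  constructor
  · intro hγ
    have : β = eδ ∘ γ ∘ eα.symm := by
      funext x; simp only [Function.comp_apply]; rw [← h]; simp
    rw [this]
    exact eδ.isClosedMap.comp (hγ.comp eα.symm.isClosedMap)
  · intro hβ
    have : γ = eδ.symm ∘ β ∘ eα := by
      funext x; simp only [Function.comp_apply]; rw [h]; simp
    rw [this]
    exact eδ.symm.isClosedMap.comp (hβ.comp eα.isClosedMap)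

theorem top_open {A B C D : Type*} [TopologicalSpace A] [TopologicalSpace B] [TopologicalSpace C]
    [TopologicalSpace D] (α : A → B) (β : B → D) (γ : A → C) (δ : C → D)
    (h : ∀ x, β (α x) = δ (γ x)) (hα : IsHomeomorph α) (hδ : IsHomeomorph δ) :
    IsOpenMap γ ↔ IsOpenMap β := by
  obtain ⟨eα, rfl⟩ := isHomeomorph_iff_exists_homeomorph.1 hα
  obtain ⟨eδ, rfl⟩ := isHomeomorph_iff_exists_homeomorph.1 hδ
  constructor
  · intro hγ
    have : β = eδ ∘ γ ∘ eα.symm := by
      funext x; simp only [Function.comp_apply]; rw [← h]; simp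
    rw [this]
    exact eδ.isOpenMap.comp (hγ.comp eα.symm.isOpenMap)
  · intro hβ
    have : γ = eδ.symm ∘ β ∘ eα := by
      funext x; simp only [Function.comp_apply]; rw [h]; simp
    rw [this]
    exact eδ.symm.isOpenMap.comp (hβ.comp eα.isOpenMap)

theorem top_inj {A B C D : Type*} [TopologicalSpace A] [TopologicalSpace B] [TopologicalSpace C]
    [TopologicalSpace D] (α : A → B) (β : B → D) (γ : A → C) (δ : C → D)
    (h : ∀ x, β (α x) = δ (γ x)) (hα : IsHomeomorph α) (hδ : IsHomeomorph δ) :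
    Function.Injective γ ↔ Function.Injective β := by
  obtain ⟨eα, rfl⟩ := isHomeomorph_iff_exists_homeomorph.1 hα
  obtain ⟨eδ, rfl⟩ := isHomeomorph_iff_exists_homeomorph.1 hδ
  constructor
  · intro hγ
    have : β = eδ ∘ γ ∘ eα.symm := by
      funext x; simp only [Function.comp_apply]; rw [← h]; simp
    rw [this]
    exact eδ.injective.comp (hγ.comp eα.symm.injective)
  · intro hβ
    have : γ = eδ.symm ∘ β ∘ eα := by
      funext x; simp only [Function.comp_apply]; rw [h]; simp
    rw [this]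
    exact eδ.symm.injective.comp (hβ.comp eα.injective)

theorem top_surj {A B C D : Type*} [TopologicalSpace A] [TopologicalSpace B] [TopologicalSpace C]
    [TopologicalSpace D] (α : A → B) (β : B → D) (γ : A → C) (δ : C → D)
    (h : ∀ x, β (α x) = δ (γ x)) (hα : IsHomeomorph α) (hδ : IsHomeomorph δ) :
    Function.Surjective γ ↔ Function.Surjective β := by
  obtain ⟨eα, rfl⟩ := isHomeomorph_iff_exists_homeomorph.1 hα
  obtain ⟨eδ, rfl⟩ := isHomeomorph_iff_exists_homeomorph.1 hδ
  constructor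
  · intro hγ
    have : β = eδ ∘ γ ∘ eα.symm := by
      funext x; simp only [Function.comp_apply]; rw [← h]; simp
    rw [this]
    exact eδ.surjective.comp (hγ.comp eα.symm.surjective)
  · intro hβ
    have : γ = eδ.symm ∘ β ∘ eα := by
      funext x; simp only [Function.comp_apply]; rw [h]; simp
    rw [this]
    exact eδ.symm.surjective.comp (hβ.comp eα.surjective)

theorem comm_points {A B C D : Sp S} {a : A ⟶ B} {b : B ⟶ D} {c : A ⟶ C} {d : C ⟶ D}
    (h : a ≫ b = c ≫ d) (x : Points A) :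
    Points.map b (Points.map a x) = Points.map d (Points.map c x) := by
  rw [← Points.map_comp, ← Points.map_comp, h]

theorem homeoInv_closed : HomeoInv (S := S) IsClosedMor := fun _ _ _ _ _ _ _ _ h ha hd =>
  top_closed _ _ _ _ (comm_points h) ha hd

theorem homeoInv_open : HomeoInv (S := S) IsOpenMor := fun _ _ _ _ _ _ _ _ h ha hd =>
  top_open _ _ _ _ (comm_points h) ha hd

theorem homeoInv_inj :
    HomeoInv (S := S) (fun _ _ f => Function.Injective (Points.map f)) :=
  fun _ _ _ _ _ _ _ _ h ha hd => top_inj _ _ _ _ (comm_points h) ha hd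

theorem isHomeomorph_map_id (Z : Sp S) : IsHomeomorph (Points.map (𝟙 Z)) := by
  have : Points.map (𝟙 Z) = id := funext fun x => Points.map_id x
  rw [this]
  exact IsHomeomorph.id

theorem univSp_iff (Q : MorphismProperty (Sp S)) (hQ : HomeoInv Q) {X X' Y Y' : Sp S}
    (hX' : IsAlgSpace X') (hY : IsAlgSpace Y) (hY' : IsAlgSpace Y') (i : X ⟶ X') (j : Y ⟶ Y')
    (f : X ⟶ Y) (f' : X' ⟶ Y') (hi : IsThickMor i) (hj : IsThickMor j) (w : i ≫ f' = f ≫ j) :
    UnivSp Q f ↔ UnivSp Q f' := by
  constructor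
  · intro h Z' P' hZ' g' fst' snd' sqP'
    have sqZ := IsPullback.of_hasPullback j g'
    have hZ : IsAlgSpace (pullback j g') := isAlgSpace_of_isPullback hY hZ' hY'.diag sqZ
    have sqP := IsPullback.of_hasPullback f (pullback.fst j g')
    obtain ⟨iP, hiP, e1, e2⟩ := exists_thick_lift i j f f' hi w sqZ sqP sqP'
    have hP' : IsAlgSpace P' := isAlgSpace_of_isPullback hX' hZ' hY'.diag sqP'
    have hjZ : IsThickMor (pullback.snd j g') := isThickMor_of_isPullback sqZ hj
    exact (hQ iP snd' (pullback.snd f _) (pullback.snd j g') e1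
      (isHomeomorph_points_of_isThickMor hP' iP hiP)
      (isHomeomorph_points_of_isThickMor hZ' _ hjZ)).1 (h hZ _ _ _ sqP)
  · intro h Z P hZ g fst snd sqP
    have := mono_of_isThickMor j hj
    have sqZ : IsPullback g (𝟙 Z) j (g ≫ j) :=
      (Groth.Agent.Lib.Helper5.LargestOpenSp.isPullback_of_factor j (g ≫ j) g rfl).flip
    have sqP' := IsPullback.of_hasPullback f' (g ≫ j)
    obtain ⟨iP, hiP, e1, e2⟩ := exists_thick_lift i j f f' hi w sqZ sqP sqP'
    have hP' : IsAlgSpace (pullback f' (g ≫ j)) := isAlgSpace_of_isPullback hX' hZ hY'.diag sqP'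
    exact (hQ iP (pullback.snd _ _) snd (𝟙 Z) e1
      (isHomeomorph_points_of_isThickMor hP' iP hiP) (isHomeomorph_map_id Z)).2 (h hZ _ _ _ sqP')

theorem qcSp_iff_of_homeo {A B : Sp S} (hA : IsAlgSpace A) (hB : IsAlgSpace B) (a : A ⟶ B)
    (ha : IsHomeomorph (Points.map a)) : IsQuasiCompactSp A ↔ IsQuasiCompactSp B := by
  have h1 := Groth.Agent.S10174.result (S := S) ⟨A, hA⟩
  have h2 := Groth.Agent.S10174.result (S := S) ⟨B, hB⟩
  change IsQuasiCompactSp A ↔ _ at h1
  change IsQuasiCompactSp B ↔ _ at h2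
  rw [h1, h2]
  exact ⟨fun _ => (ha.homeomorph _).compactSpace, fun _ => (ha.homeomorph _).symm.compactSpace⟩

theorem qc_iff {X X' Y Y' : Sp S}
    (hX : IsAlgSpace X) (hX' : IsAlgSpace X') (hY : IsAlgSpace Y) (hY' : IsAlgSpace Y')
    (i : X ⟶ X') (j : Y ⟶ Y')
    (f : X ⟶ Y) (f' : X' ⟶ Y') (hi : IsThickMor i) (hj : IsThickMor j) (w : i ≫ f' = f ≫ j) :
    IsQuasiCompactMor f ↔ IsQuasiCompactMor f' := by
  constructor
  · intro h Z' P' hZ' hqZ' g' fst' snd' sqP'
    have sqZ := IsPullback.of_hasPullback j g'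
    have hZ : IsAlgSpace (pullback j g') := isAlgSpace_of_isPullback hY hZ' hY'.diag sqZ
    have sqP := IsPullback.of_hasPullback f (pullback.fst j g')
    obtain ⟨iP, hiP, e1, e2⟩ := exists_thick_lift i j f f' hi w sqZ sqP sqP'
    have hP' : IsAlgSpace P' := isAlgSpace_of_isPullback hX' hZ' hY'.diag sqP'
    have hP : IsAlgSpace (pullback f (pullback.fst j g')) :=
      isAlgSpace_of_isPullback hX hZ hY.diag sqP
    have hjZ : IsThickMor (pullback.snd j g') := isThickMor_of_isPullback sqZ hj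
    have hqZ : IsQuasiCompactSp (pullback j g') :=
      (qcSp_iff_of_homeo hZ hZ' _ (isHomeomorph_points_of_isThickMor hZ' _ hjZ)).2 hqZ'
    exact (qcSp_iff_of_homeo hP hP' iP (isHomeomorph_points_of_isThickMor hP' iP hiP)).1
      (h hZ hqZ _ _ _ sqP)
  · intro h Z P hZ hqZ g fst snd sqP
    have := mono_of_isThickMor j hj
    have sqZ : IsPullback g (𝟙 Z) j (g ≫ j) :=
      (Groth.Agent.Lib.Helper5.LargestOpenSp.isPullback_of_factor j (g ≫ j) g rfl).flip
    have sqP' := IsPullback.of_hasPullback f' (g ≫ j)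
    obtain ⟨iP, hiP, e1, e2⟩ := exists_thick_lift i j f f' hi w sqZ sqP sqP'
    have hP' : IsAlgSpace (pullback f' (g ≫ j)) := isAlgSpace_of_isPullback hX' hZ hY'.diag sqP'
    have hP : IsAlgSpace P := isAlgSpace_of_isPullback hX hZ hY.diag sqP
    exact (qcSp_iff_of_homeo hP hP' iP (isHomeomorph_points_of_isThickMor hP' iP hiP)).2
      (h hZ hqZ _ _ _ sqP')

/-- Consider a morphism (f, f') from the thickening X ⊂ X' to the thickening Y ⊂ Y' of algebraic spaces
over S, meaning: i : X ⟶ X' and j : Y ⟶ Y' are thickenings (representable, every base change to a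
scheme a surjective closed immersion) and i ≫ f' = f ≫ j. Then f is surjective, resp. quasi-compact,
universally closed, universally injective, universally open, if and only if f' is. -/
theorem result {S : Scheme.{u}} {X X' Y Y' : AlgSp.Space S} (i : X ⟶ X') (j : Y ⟶ Y')
    (f : X ⟶ Y) (f' : X' ⟶ Y')
    (hi : AlgSp.IsThickMor i.hom)
    (hj : AlgSp.IsThickMor j.hom) (w : i ≫ f' = f ≫ j) :
    (AlgSp.IsSurjectiveMor f.hom ↔ AlgSp.IsSurjectiveMor f'.hom) ∧
    (AlgSp.IsQuasiCompactMor f.hom ↔ AlgSp.IsQuasiCompactMor f'.hom) ∧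
    (AlgSp.IsUnivClosedMor f.hom ↔ AlgSp.IsUnivClosedMor f'.hom) ∧
    (AlgSp.IsUnivInjectiveMor f.hom ↔ AlgSp.IsUnivInjectiveMor f'.hom) ∧
    (AlgSp.IsUnivOpenMor f.hom ↔ AlgSp.IsUnivOpenMor f'.hom) := by
  have w' : i.hom ≫ f'.hom = f.hom ≫ j.hom := by
    have := congrArg (fun k => k.hom) w
    exact this
  refine ⟨?_, qc_iff X.property X'.property Y.property Y'.property _ _ _ _ hi hj w',
    univSp_iff _ homeoInv_closed X'.property Y.property Y'.property _ _ _ _ hi hj w',
    univSp_iff _ homeoInv_inj X'.property Y.property Y'.property _ _ _ _ hi hj w',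
    univSp_iff _ homeoInv_open X'.property Y.property Y'.property _ _ _ _ hi hj w'⟩
  exact top_surj _ _ _ _ (comm_points w')
    (isHomeomorph_points_of_isThickMor X'.property _ hi)
    (isHomeomorph_points_of_isThickMor Y'.property _ hj)

end Groth.Agent.S10587
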