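import Groth.Statements.S10260
import Groth.Agent.Lib.Helper23.SLQMain

set_option autoImplicit false
universe u
open CategoryTheory CategoryTheory.Limits AlgebraicGeometry
open AlgSp

namespace Groth.Agent.S10260

/-- A locally quasi-finite separated morphism of algebraic spaces is representable by schemes. -/
theorem result {S : Scheme.{u}} {X Y : AlgSp.Space S} (f : X ⟶ Y)
    (hqf : AlgSp.LocP (@LocallyQuasiFinite ⊓ @LocallyOfFiniteType) f.hom) (hsep : AlgSp.IsSeparatedMor f.hom) :
    AlgSp.Representable f.hom := by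
  intro T g
  have sq : IsPullback (pullback.fst f.hom g) (pullback.snd f.hom g) f.hom g :=
    IsPullback.of_hasPullback _ _
  have hP : IsAlgSpace (pullback f.hom g) :=
    Groth.Agent.Lib.Helper23.AlgSpMor.isAlgSpace_of_isPullback X.property (IsAlgSpace.yon_obj T)
      Y.property.diag sq
  have hsepP := Groth.Agent.Lib.Helper23.AlgSpMor.isSeparatedMor_of_isPullback sq hsep
  have hqfP := Groth.Agent.Lib.Helper46.LocPChart.locP_of_isPullback
    Groth.Agent.Lib.Helper30.EtLocalInst.etLocal_lqf X.property Y.property hP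
    (IsAlgSpace.yon_obj T) sq hqf
  obtain ⟨V, ⟨e⟩⟩ := Groth.Agent.Lib.Helper23.SLQ.exists_iso_of_isRepresentable
    (Groth.Agent.Lib.Helper23.SLQ.isRepresentable_of_sep_lqf hP _ hsepP hqfP)
  obtain ⟨q, hq⟩ := (yon S).map_surjective (e.hom ≫ pullback.snd f.hom g)
  refine ⟨V, q, e.hom ≫ pullback.fst f.hom g, ?_⟩
  rw [hq]
  exact IsPullback.of_iso sq e.symm (Iso.refl _) (Iso.refl _) (Iso.refl _) (by simp) (by simp)
    (by simp) (by simp)

end Groth.Agent.S10260
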