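import Groth.Statements.S10322
import Mathlib.RingTheory.Unramified.LocalStructure

set_option autoImplicit false
universe u
open CategoryTheory CategoryTheory.Limits AlgebraicGeometry
open AlgSp

namespace Groth.Agent.S10322

theorem lqf_of_unram {X Y : Scheme.{u}} (g : X ⟶ Y) (h1 : LocallyOfFiniteType g) (h2 : FormallyUnramified g) :
    LocallyQuasiFinite g := by
  constructor
  intro U hU V hV e
  have a1 : (g.appLE U V e).hom.FiniteType := LocallyOfFiniteType.finiteType_appLE (f := g) hU hV e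
  have a2 : (g.appLE U V e).hom.FormallyUnramified := FormallyUnramified.formallyUnramified_appLE (f := g) hU hV e
  algebraize [(g.appLE U V e).hom]
  change Algebra.QuasiFinite _ _
  infer_instance



/-- Unramified at a point implies quasi-finite at that point; an unramified morphism of algebraic spaces
is locally quasi-finite. -/
theorem result {S : Scheme.{u}} {X Y : AlgSp.Space S} (f : X ⟶ Y) :
    (∀ x : AlgSp.Points X.obj, AlgSp.HasAtMor (fun U _ h u => ∃ W : U.Opens, u ∈ W ∧ LocallyOfFiniteType (W.ι ≫ h) ∧ FormallyUnramified (W.ι ≫ h)) f.hom x → AlgSp.HasAtMor (fun U _ h u => ∃ W : U.Opens, u ∈ W ∧ LocallyQuasiFinite (W.ι ≫ h) ∧ LocallyOfFiniteType (W.ι ≫ h)) f.hom x) ∧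
    (AlgSp.LocP (@LocallyOfFiniteType ⊓ @FormallyUnramified) f.hom →
      AlgSp.LocP (@LocallyQuasiFinite ⊓ @LocallyOfFiniteType) f.hom) := by
  constructor
  · rintro x ⟨U, V, a, b, h, u, ha, hb, hc, hx, W, huW, h1, h2⟩
    exact ⟨U, V, a, b, h, u, ha, hb, hc, hx, W, huW, lqf_of_unram _ h1 h2, h1⟩
  · intro H U V a b h ha hb hc
    obtain ⟨h1, h2⟩ := H a b h ha hb hc
    exact ⟨lqf_of_unram _ h1 h2, h1⟩

end Groth.Agent.S10322
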