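import Groth.Statements.S10613
import Groth.Agent.S10262
import Groth.Agent.S9938
import Groth.Agent.S10322
import Groth.Agent.S10260
import Groth.Agent.S10621
import Groth.Agent.Lib.Helper46.OpenImmFpqc
import Groth.Agent.Lib.Helper30.LocPNbhd

set_option autoImplicit false
universe u
open CategoryTheory CategoryTheory.Limits AlgebraicGeometry
open AlgSp

namespace Groth.Agent.S10613

/-- For a morphism f : X ⟶ Y of algebraic spaces over S, these four conditions on f are equivalent: (a)
unramified plus monomorphism; (b) unramified plus universally injective; (c) a monomorphism that is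
locally of finite type; (d) universally injective, locally of finite type and formally unramified
(lifting sense). In that case f is representable by schemes, separated and locally quasi-finite.
(Unramified is the etale-local condition locally of finite type and formally unramified on charts;
monomorphisms are taken in fppf sheaves.) -/
theorem result {S : Scheme.{u}} {X Y : AlgSp.Space S} (f : X ⟶ Y) :
    ((AlgSp.LocP (@LocallyOfFiniteType ⊓ @FormallyUnramified) f.hom ∧ Mono f.hom) ↔
      (AlgSp.LocP (@LocallyOfFiniteType ⊓ @FormallyUnramified) f.hom ∧ AlgSp.IsUnivInjectiveMor f.hom)) ∧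
    ((AlgSp.LocP (@LocallyOfFiniteType ⊓ @FormallyUnramified) f.hom ∧ Mono f.hom) ↔
      (AlgSp.LocP @LocallyOfFiniteType f.hom ∧ Mono f.hom)) ∧
    ((AlgSp.LocP (@LocallyOfFiniteType ⊓ @FormallyUnramified) f.hom ∧ Mono f.hom) ↔
      (AlgSp.IsUnivInjectiveMor f.hom ∧ AlgSp.LocP @LocallyOfFiniteType f.hom ∧ AlgSp.IsFormallyUnramifiedMor f.hom)) ∧
    (AlgSp.LocP @LocallyOfFiniteType f.hom ∧ Mono f.hom →
      AlgSp.Representable f.hom ∧ AlgSp.IsSeparatedMor f.hom ∧
        AlgSp.LocP (@LocallyQuasiFinite ⊓ @LocallyOfFiniteType) f.hom) := by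

  have hU_of_mono : LocP @LocallyOfFiniteType f.hom → Mono f.hom →
      LocP (@LocallyOfFiniteType ⊓ @FormallyUnramified) f.hom := by
    intro hlft hm
    haveI := hm
    exact (Groth.Agent.S10262.result f).2 hlft
      (Groth.Agent.Lib.Helper46.RepIso.repWith_of_isIso @IsOpenImmersion _)
  have hUI_of_mono : Mono f.hom → IsUnivInjectiveMor f.hom := by
    intro hm Z Z' hZ g fst snd sq
    haveI : Mono snd := (MorphismProperty.monomorphisms (Sp S)).of_isPullback sq hm
    exact Groth.Agent.Lib.Helper30.LocPNbhd.points_map_injective_of_mono snd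
  have hmono_of_U_UI : LocP (@LocallyOfFiniteType ⊓ @FormallyUnramified) f.hom →
      IsUnivInjectiveMor f.hom → Mono f.hom := by
    intro hU hUI
    have h1 := (Groth.Agent.S10262.result f).1 hU
    have h2 := (Groth.Agent.S9938.result f).2.1 hUI
    haveI := Groth.Agent.Lib.Helper46.OpenImmFpqc.isIso_of_isOpenImmersion_of_surjective _ h1 h2
    exact (pullback.isIso_diagonal_iff _).1 inferInstance
  have hlft_of_U : LocP (@LocallyOfFiniteType ⊓ @FormallyUnramified) f.hom →
      LocP @LocallyOfFiniteType f.hom := fun h U V a b k ha hb e => (h a b k ha hb e).1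
  have hFU : IsFormallyUnramifiedMor f.hom ↔ LocP @FormallyUnramified f.hom :=
    (Groth.Agent.S10621.result f).1
  refine ⟨⟨fun ⟨h1, h2⟩ => ⟨h1, hUI_of_mono h2⟩, fun ⟨h1, h2⟩ => ⟨h1, hmono_of_U_UI h1 h2⟩⟩,
    ⟨fun ⟨h1, h2⟩ => ⟨hlft_of_U h1, h2⟩, fun ⟨h1, h2⟩ => ⟨hU_of_mono h1 h2, h2⟩⟩,
    ⟨fun ⟨h1, h2⟩ => ⟨hUI_of_mono h2, hlft_of_U h1,
        hFU.2 (fun U V a b k ha hb e => (h1 a b k ha hb e).2)⟩,
     fun ⟨h1, h2, h3⟩ => ?_⟩, ?_⟩
  · have hU : LocP (@LocallyOfFiniteType ⊓ @FormallyUnramified) f.hom :=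
      fun U V a b k ha hb e => ⟨h2 a b k ha hb e, hFU.1 h3 a b k ha hb e⟩
    exact ⟨hU, hmono_of_U_UI hU h1⟩
  · rintro ⟨hlft, hm⟩
    haveI := hm
    have hU := hU_of_mono hlft hm
    have hsep : IsSeparatedMor f.hom :=
      Groth.Agent.Lib.Helper46.RepIso.repWith_of_isIso @IsClosedImmersion (pullback.diagonal f.hom)
    have hlqf := (Groth.Agent.S10322.result f).2 hU
    exact ⟨Groth.Agent.S10260.result f hlqf hsep, hsep, hlqf⟩

end Groth.Agent.S10613
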