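import Groth.Statements.S9793
import Mathlib.RingTheory.Ideal.KrullsHeightTheorem
import Mathlib.AlgebraicGeometry.Properties
-- import your own Groth.Agent.* helpers here

set_option autoImplicit false
universe u
open CategoryTheory AlgebraicGeometry TopologicalSpace
open Props

namespace Groth.Agent.S9793

theorem coheight_ne_top (S : Scheme.{u}) [IsLocallyNoetherian S] (x : S) :
    Order.coheight x ≠ ⊤ := by
  have h1 := ringKrullDim_stalk_eq_coheight x
  have h2 : ringKrullDim (S.presheaf.stalk x) ≠ ⊤ := ringKrullDim_ne_top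
  intro h
  rw [h] at h1
  exact h2 h1

theorem coheight_lt_of_specializes (S : Scheme.{u}) [IsLocallyNoetherian S] {a b : S}
    (hab : a ⤳ b) (hne : a ≠ b) : Order.coheight a < Order.coheight b := by
  have hlt : b < a := by
    refine ⟨hab, fun hba => hne ?_⟩
    exact (hab.antisymm hba).eq
  have h1 := Order.coheight_add_one_le hlt
  have h2 := coheight_ne_top S a
  exact lt_of_lt_of_le (ENat.lt_add_one_iff h2 |>.mpr le_rfl) h1


/-- Let S be a Noetherian scheme and T a set of points of S. Every point of T is a specialization of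
some point of T which admits no non-trivial generization lying in T. -/
theorem result (S : Scheme.{u}) [IsNoetherian S]
    (T : Set S) (t : S) (ht : t ∈ T) :
    ∃ t₀ ∈ T, (∀ t' ∈ T, t' ⤳ t₀ → t' = t₀) ∧ t₀ ⤳ t := by
  let A : Set S := {t' | t' ∈ T ∧ t' ⤳ t}
  have hA : A.Nonempty := ⟨t, ht, specializes_rfl⟩
  obtain ⟨t₀, ht₀A, hmin⟩ :=
    (InvImage.wf (Order.coheight : S → ℕ∞) wellFounded_lt).has_min A hA
  refine ⟨t₀, ht₀A.1, fun t' ht' hspec => ?_, ht₀A.2⟩
  by_contra hne
  exact hmin t' ⟨ht', hspec.trans ht₀A.2⟩ (coheight_lt_of_specializes S hspec hne)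

end Groth.Agent.S9793
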