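import Groth.Statements.S10313
-- import your own Groth.Agent.* helpers here
import Groth.Agent.Lib.Helper36.QFLocus
import Groth.Agent.Lib.Helper46.LocPChart
import Groth.Agent.Lib.Helper30.EtLocalInst
import Groth.Agent.Lib.Helper23.AlgSpMor4

set_option autoImplicit false
universe u
open CategoryTheory CategoryTheory.Limits AlgebraicGeometry
open AlgSp

namespace Groth.Agent.S10313

open Groth.Agent.Lib.Helper36.AlgSpCharts Groth.Agent.Lib.Helper36.AlgSpChartDiag
  Groth.Agent.Lib.Helper36.AlgSpHasAtMor Groth.Agent.Lib.Helper36.QuasiFiniteAt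
  Groth.Agent.Lib.Helper36.OpenSubspace Groth.Agent.Lib.Helper37.AlgSpPoints
  Groth.Agent.Lib.Helper36.QFLocus Groth.Agent.Lib.Helper36.CartesianCharts
  Groth.Agent.Lib.Helper36.AlgSpHasAt Groth.Agent.Lib.Helper36.FibreDimZero
  Groth.Agent.Lib.Helper84

/-- The template form of "quasi-finite at a point" agrees with membership in the quasi-finite locus. -/
theorem hasAtMor_lqf_iff_mem_qfLocus {S : Scheme.{u}} {X Y : AlgSp.Space S} (f : X ⟶ Y)
    (hf : AlgSp.LocP @LocallyOfFiniteType f.hom) (x : AlgSp.Points X.obj) :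
    AlgSp.HasAtMor (fun U _ h u => ∃ W : U.Opens, u ∈ W ∧ LocallyQuasiFinite (W.ι ≫ h) ∧
      LocallyOfFiniteType (W.ι ≫ h)) f.hom x ↔ x ∈ qfLocus f := by
  constructor
  · rintro ⟨U, V, a, b, h, u, ha, hb, w, hu, hq⟩
    have : LocallyOfFiniteType h.left := hf a b h ha hb w
    exact ⟨U, V, a, b, h, u, ha, hb, w, hu,
      (fibreDimAt_eq_zero_iff_quasiFiniteAt h.left u).2
        ((exists_opens_lqf_iff_quasiFiniteAt h.left u).1 hq)⟩
  · rintro ⟨U, V, a, b, h, u, ha, hb, w, hu, hq⟩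
    have : LocallyOfFiniteType h.left := hf a b h ha hb w
    exact ⟨U, V, a, b, h, u, ha, hb, w, hu,
      (exists_opens_lqf_iff_quasiFiniteAt h.left u).2
        ((fibreDimAt_eq_zero_iff_quasiFiniteAt h.left u).1 hq)⟩

/-- The quasi-finite locus commutes with base change. -/
theorem mem_qfLocus_iff_of_isPullback {S : Scheme.{u}} {X Y X'' Y'' : AlgSp.Space S} (f : X ⟶ Y)
    (hf : AlgSp.LocP @LocallyOfFiniteType f.hom) (g : Y'' ⟶ Y) (b : X'' ⟶ X) (f'' : X'' ⟶ Y'')
    (sq : IsPullback b.hom f''.hom f.hom g.hom)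
    (hf'' : AlgSp.LocP @LocallyOfFiniteType f''.hom) (x'' : AlgSp.Points X''.obj) :
    x'' ∈ qfLocus f'' ↔ AlgSp.Points.map b.hom x'' ∈ qfLocus f := by
  obtain ⟨U₀, p₀, hpe, hps⟩ := X.property.atlas
  obtain ⟨V, bV, hbe, hbs⟩ := Y.property.atlas
  have hYV : IsAlgSpace (pullback g.hom bV) :=
    Groth.Agent.Lib.Helper23.AlgSpMor.isAlgSpace_of_isPullback Y''.property (IsAlgSpace.yon_obj V)
      Y.property.diag (IsPullback.of_hasPullback g.hom bV)
  obtain ⟨V'', c, hce, hcs⟩ := hYV.atlas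
  obtain ⟨β, hβ⟩ := (yon S).map_surjective (c ≫ pullback.snd g.hom bV)
  have hfst_e : RepWith @Etale (pullback.fst g.hom bV) :=
    MorphismProperty.pullback_fst (P := RepWith @Etale) g.hom bV hbe
  have hfst_s : RepWith @Surjective (pullback.fst g.hom bV) :=
    MorphismProperty.pullback_fst (P := RepWith @Surjective) g.hom bV hbs
  have hb''e : RepWith @Etale (c ≫ pullback.fst g.hom bV) := (RepWith @Etale).comp_mem _ _ hce hfst_e
  have hb''s : RepWith @Surjective (c ≫ pullback.fst g.hom bV) :=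
    (RepWith @Surjective).comp_mem _ _ hcs hfst_s
  have hcomp : (c ≫ pullback.fst g.hom bV) ≫ g.hom = (yon S).map β ≫ bV := by
    rw [hβ, Category.assoc, Category.assoc, pullback.condition]
  obtain ⟨W, U'', p1, h, α, h'', a'', sqW, sqS, ha1, ha2, hP⟩ :=
    exists_cartesian_charts f.hom g.hom b.hom f''.hom sq p₀ bV (c ≫ pullback.fst g.hom bV) β hcomp
      hbe.rep
  have hae : RepWith @Etale ((yon S).map p1 ≫ p₀) :=
    repWith_yon_map_comp p1 (prop_fst_of_isPullback sqW hbe) p₀ hpe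
  have weq : ((yon S).map p1 ≫ p₀) ≫ f.hom = (yon S).map h ≫ bV := by
    rw [Category.assoc]; exact sqW.w
  have ha''e : RepWith @Etale a'' := hP @Etale hpe hb''e
  have ha''s : RepWith @Surjective a'' := hP @Surjective hps hb''s
  obtain ⟨u'', rfl⟩ := ofPt_surjective a'' ha''s x''
  have : LocallyOfFiniteType h.left := hf _ bV h hae hbe weq
  rw [mem_qfLocus_iff_of_chart f'' hf'' a'' _ h'' ha''e hb''e ha2 u'',
    quasiFiniteAt_iff_of_isPullback h.left h''.left α.left β.left sqS u'',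
    ← mem_qfLocus_iff_of_chart f hf _ bV h hae hbe weq (α.left u''),
    ← ofPt_map_comp, ← ha1, ← Points.map_ofPt]

/-- For f locally of finite type there is an open subspace of X on which f is locally quasi-finite,
outside of which the relative dimension is at least 1, and whose formation commutes with base
change. -/
theorem result {S : Scheme.{u}} {X Y : AlgSp.Space S} (f : X ⟶ Y)
    (hf : AlgSp.LocP @LocallyOfFiniteType f.hom) :
    ∃ (X' : AlgSp.Space S) (j : X' ⟶ X), AlgSp.RepWith @IsOpenImmersion j.hom ∧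
      AlgSp.LocP (@LocallyQuasiFinite ⊓ @LocallyOfFiniteType) (j ≫ f).hom ∧
      (∀ x : AlgSp.Points X.obj, x ∉ Set.range (AlgSp.Points.map j.hom) →
        AlgSp.HasAtMor (fun _ _ h u => 1 ≤ FlatMor.fibreDimAt h u) f.hom x) ∧
      ∀ (Y'' X'' : AlgSp.Space S) (g : Y'' ⟶ Y) (b : X'' ⟶ X) (f'' : X'' ⟶ Y''),
        IsPullback b.hom f''.hom f.hom g.hom → ∀ x'' : AlgSp.Points X''.obj,
          AlgSp.Points.map b.hom x'' ∈ Set.range (AlgSp.Points.map j.hom) ↔ AlgSp.HasAtMor (fun U _ h u => ∃ W : U.Opens, u ∈ W ∧ LocallyQuasiFinite (W.ι ≫ h) ∧ LocallyOfFiniteType (W.ι ≫ h)) f''.hom x'' := by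
  have hW := isOpen_qfLocus f hf
  have hrange : Set.range (Points.map (openSubι X.obj (qfLocus f))) = qfLocus f :=
    range_map_openSubι X.obj (qfLocus f)
  refine ⟨⟨openSub X.obj (qfLocus f), isAlgSpace_openSub X.obj X.property _ hW⟩,
    ObjectProperty.homMk (openSubι X.obj (qfLocus f)),
    repWith_isOpenImmersion_openSubι X.obj _ hW, locP_lqf_openSub f hf, ?_, ?_⟩
  · intro x hx
    change x ∉ Set.range (Points.map (openSubι X.obj (qfLocus f))) at hx
    rw [hrange] at hx
    obtain ⟨W, V, a, b, h, w, hae, has, hbe, hbs, weq, hw, hv⟩ := exists_chart_diagram_at f x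
    refine ⟨W, V, a, b, h, w, hae, hbe, weq, hw, ?_⟩
    apply one_le_of_pos
    have hne : FlatMor.fibreDimAt h.left w ≠ 0 := fun h0 =>
      hx ⟨W, V, a, b, h, w, hae, hbe, weq, hw, h0⟩
    refine lt_of_le_of_ne ?_ (Ne.symm hne)
    unfold FlatMor.fibreDimAt FlatMor.localDim
    refine le_iInf fun O => ?_
    have : Nonempty ↥((O.1 : TopologicalSpace.Opens ↥(h.left.fiber (h.left w))) :
        Set ↥(h.left.fiber (h.left w))) := ⟨⟨h.left.asFiber w, O.2⟩⟩
    exact dim_nonneg_of_nonempty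
  · intro Y'' X'' g b f'' sq x''
    have hf'' : LocP @LocallyOfFiniteType f''.hom :=
      Groth.Agent.Lib.Helper46.LocPChart.locP_of_isPullback Groth.Agent.Lib.Helper30.EtLocalInst.etLocal_lft
        X.property Y.property X''.property Y''.property sq hf
    change Points.map b.hom x'' ∈ Set.range (Points.map (openSubι X.obj (qfLocus f))) ↔ _
    rw [hrange, hasAtMor_lqf_iff_mem_qfLocus f'' hf'' x'',
      mem_qfLocus_iff_of_isPullback f hf g b f'' sq hf'' x'']

end Groth.Agent.S10313
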