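import Groth.Statements.S10399
-- import your own Groth.Agent.* helpers here
import Groth.Agent.S10313
import Groth.Agent.Lib.Helper36.Codim0

set_option autoImplicit false
universe u
open CategoryTheory CategoryTheory.Limits AlgebraicGeometry Topology TopologicalSpace
open AlgSp

namespace Groth.Agent.S10399

open Groth.Agent.Lib.Helper36.AlgSpCharts Groth.Agent.Lib.Helper36.AlgSpChartDiag
  Groth.Agent.Lib.Helper36.QuasiFiniteAt
  Groth.Agent.Lib.Helper37.AlgSpPoints
  Groth.Agent.Lib.Helper36.QFLocus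
  Groth.Agent.Lib.Helper36.AlgSpHasAt Groth.Agent.Lib.Helper36.Codim0

/-- Let f : X ⟶ Y be a morphism locally of finite type of algebraic spaces over a scheme S and y a
codimension 0 point of Y. The following are equivalent: (1) every point of |X| over y has
codimension 0 on X; (2) f is quasi-finite at all points over y; (3) f is quasi-finite at all
codimension 0 points of X over y. Stated as (1) ⇔ (2) together with (3) ⇒ (1). -/
theorem result {S : Scheme.{u}} {X Y : AlgSp.Space S} (f : X ⟶ Y)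
    (hf : AlgSp.LocP @LocallyOfFiniteType f.hom) (y : AlgSp.Points Y.obj) (hy : AlgSp.HasAt (fun U u => ringKrullDim ↥(U.presheaf.stalk u) = 0) Y.obj y) :
    ((∀ x : AlgSp.Points X.obj, AlgSp.Points.map f.hom x = y → AlgSp.HasAt (fun U u => ringKrullDim ↥(U.presheaf.stalk u) = 0) X.obj x) ↔
        (∀ x : AlgSp.Points X.obj, AlgSp.Points.map f.hom x = y → AlgSp.HasAtMor (fun U _ h u => ∃ W : U.Opens, u ∈ W ∧ LocallyQuasiFinite (W.ι ≫ h) ∧ LocallyOfFiniteType (W.ι ≫ h)) f.hom x)) ∧
      ((∀ x : AlgSp.Points X.obj, AlgSp.Points.map f.hom x = y → AlgSp.HasAt (fun U u => ringKrullDim ↥(U.presheaf.stalk u) = 0) X.obj x → AlgSp.HasAtMor (fun U _ h u => ∃ W : U.Opens, u ∈ W ∧ LocallyQuasiFinite (W.ι ≫ h) ∧ LocallyOfFiniteType (W.ι ≫ h)) f.hom x) →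
        ∀ x : AlgSp.Points X.obj, AlgSp.Points.map f.hom x = y → AlgSp.HasAt (fun U u => ringKrullDim ↥(U.presheaf.stalk u) = 0) X.obj x) := by
  have hQ := isEtaleLocalGerm_ringKrullDim (0 : WithBot ℕ∞)
  have hCA : (∀ x : AlgSp.Points X.obj, AlgSp.Points.map f.hom x = y → AlgSp.HasAt (fun U u => ringKrullDim ↥(U.presheaf.stalk u) = 0) X.obj x → AlgSp.HasAtMor (fun U _ h u => ∃ W : U.Opens, u ∈ W ∧ LocallyQuasiFinite (W.ι ≫ h) ∧ LocallyOfFiniteType (W.ι ≫ h)) f.hom x) →
        ∀ x : AlgSp.Points X.obj, AlgSp.Points.map f.hom x = y → AlgSp.HasAt (fun U u => ringKrullDim ↥(U.presheaf.stalk u) = 0) X.obj x := by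
    intro HC x hx
    obtain ⟨W, V, a, b, h, w, hae, has, hbe, hbs, weq, hw, hv⟩ := exists_chart_diagram_at f x
    have : LocallyOfFiniteType h.left := hf a b h hae hbe weq
    have hdimV : ringKrullDim ↥(V.left.presheaf.stalk (h.left w)) = 0 :=
      (hasAt_iff_forall_chart hQ Y.property.atlas y).1 hy V b (h.left w) hbe (hv.trans hx)
    obtain ⟨ξ, hs, hξ0⟩ := exists_generic_specializes w
    have hhξ : h.left ξ = h.left w :=
      eq_of_specializes_of_dim_zero (hs.map h.left.continuous) hdimV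
    have hfξ : Points.map f.hom (Points.ofPt a ξ) = y := by
      rw [Points.map_ofPt, weq, ofPt_map_comp, hhξ, hv, hx]
    have hq1 := HC (Points.ofPt a ξ) hfξ ⟨W, a, ξ, hae, rfl, hξ0⟩
    rw [Groth.Agent.S10313.hasAtMor_lqf_iff_mem_qfLocus f hf,
      mem_qfLocus_iff_of_chart f hf a b h hae hbe weq ξ] at hq1
    have hwξ : w = ξ := eq_of_quasiFiniteAt_of_specializes h.left hs hhξ.symm hq1
    exact ⟨W, a, w, hae, hw, by rw [hwξ]; exact hξ0⟩
  refine ⟨⟨?_, fun HB => hCA fun x hx _ => HB x hx⟩, hCA⟩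
  intro HA x hx
  obtain ⟨W, V, a, b, h, w, hae, has, hbe, hbs, weq, hw, hv⟩ := exists_chart_diagram_at f x
  have : LocallyOfFiniteType h.left := hf a b h hae hbe weq
  have hq : h.left.QuasiFiniteAt w := by
    refine quasiFiniteAt_of_fibre_dim_zero h.left w fun u' hu' => ?_
    have hfu' : Points.map f.hom (Points.ofPt a u') = y := by
      rw [Points.map_ofPt, weq, ofPt_map_comp, hu', hv, hx]
    exact (hasAt_iff_forall_chart hQ X.property.atlas _).1 (HA _ hfu') W a u' hae rfl
  rw [Groth.Agent.S10313.hasAtMor_lqf_iff_mem_qfLocus f hf, ← hw,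
    mem_qfLocus_iff_of_chart f hf a b h hae hbe weq w]
  exact hq

end Groth.Agent.S10399
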