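import Groth.Statements.S16833
import Groth.Agent.Lib.Helper23.SLQSplit5
import Groth.Agent.S10271

set_option autoImplicit false
universe u
open AlgSp

namespace Groth.Agent.S16833

open Groth.Agent.Lib.Helper23.SLQSplit AlgSp CategoryTheory CategoryTheory.Limits AlgebraicGeometry

open CategoryTheory AlgebraicGeometry in
/-- Let p : U → X and f : X → Y be morphisms of algebraic spaces over a scheme S with p etale and
surjective and f separated. If the composite U → Y is finite, then f is finite. -/
theorem result {S : Scheme.{u}}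
    {U X Y : AlgSp.Space S} (p : U ⟶ X) (f : X ⟶ Y)
    (hp : AlgSp.IsEtaleMor p.hom) (hps : AlgSp.IsSurjectiveMor p.hom)
    (hf : AlgSp.IsSeparatedMor f.hom) (h : AlgSp.IsFiniteMor (p ≫ f).hom) :
    AlgSp.IsFiniteMor f.hom := by
  have hpf := ((Groth.Agent.S10271.result (p ≫ f)).1 h).2
  have huc : IsUnivClosedMor f.hom := by
    intro Z Z' hZ g fst snd sq
    have sqp : IsPullback (pullback.fst p.hom fst) (pullback.snd p.hom fst) p.hom fst :=
      IsPullback.of_hasPullback _ _
    have hs : IsSurjectiveMor (pullback.snd p.hom fst) :=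
      Groth.Agent.Lib.Helper23.AlgSpMor.isSurjectiveMor_of_isPullback sqp hps
    have big : IsPullback (pullback.fst p.hom fst) (pullback.snd p.hom fst ≫ snd)
        (p.hom ≫ f.hom) g := sqp.paste_vert sq
    have hcl : IsClosedMap (Points.map (pullback.snd p.hom fst ≫ snd)) :=
      hpf.2.2 hZ g _ _ big
    intro C hC
    have e : Points.map snd '' C = Points.map (pullback.snd p.hom fst ≫ snd) ''
        (Points.map (pullback.snd p.hom fst) ⁻¹' C) := by
      ext z
      constructor
      · rintro ⟨c, hc, rfl⟩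
        obtain ⟨q, rfl⟩ := hs c
        exact ⟨q, hc, Points.map_comp _ _ _⟩
      · rintro ⟨q, hq, rfl⟩
        exact ⟨_, hq, (Points.map_comp _ _ _).symm⟩
    rw [e]
    exact hcl _ (hC.preimage (Points.continuous_map _))
  have hq : LocP (@LocallyQuasiFinite ⊓ @LocallyOfFiniteType) f.hom := by
    obtain ⟨W, a, hae, has⟩ := U.property.atlas
    have hφe : RepWith @Etale (a ≫ p.hom) := hp a hae
    have hφs : RepWith @Surjective (a ≫ p.hom) := by
      refine Groth.Agent.Lib.Helper23.AlgSpMor.repWith_surjective_of_isSurjectiveMor _ hφe.rep ?_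
      intro x
      obtain ⟨u, rfl⟩ := hps x
      obtain ⟨w, rfl⟩ := Groth.Agent.Lib.Helper17.ACov.points_map_surjective a has u
      exact ⟨w, Points.map_comp _ _ _⟩
    refine Groth.Agent.Lib.Helper46.LocPChart.locP_of_precomp_chart
      Groth.Agent.Lib.Helper30.EtLocalInst.etLocal_lqf Y.property f.hom (a ≫ p.hom) hφe hφs ?_
    have hrep : RepWith @IsFinite (p ≫ f).hom := by
      refine Groth.Agent.Lib.Helper5.LocalRep.repWith_of_affine_test @IsFinite (p ≫ f).hom ?_
      intro Z hZ g
      obtain ⟨W', i, fst, sq, -, hi⟩ := h hZ g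
      exact ⟨W', i, fst, sq, hi⟩
    have h0 : LocP (@LocallyQuasiFinite ⊓ @LocallyOfFiniteType) (p ≫ f).hom := by
      refine Groth.Agent.S9961.locP_of_repWith
        Groth.Agent.Lib.Helper30.EtLocalInst.etLocal_lqf ?_ Y.property (p ≫ f).hom hrep
      intro A B g hg
      haveI : IsFinite g := hg
      exact ⟨inferInstance, inferInstance⟩
    intro U' V' a' b h' ha' hb w
    refine h0 (a' ≫ a) b h' ((RepWith @Etale).comp_mem _ _ ha' hae) hb ?_
    rw [Category.assoc]
    simpa [Category.assoc] using w
  exact isFiniteMor_of_sep_uc_lqf f hf huc hq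

end Groth.Agent.S16833
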