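import Groth.Statements.S10540
import Groth.Agent.Lib.Helper23.AffDescLocal
import Groth.Agent.S0084

set_option autoImplicit false
universe u
open CategoryTheory CategoryTheory.Limits AlgebraicGeometry
open AlgSp

namespace Groth.Agent.S10540

/-- The property of morphisms of algebraic spaces over S given by f is finite (every base change to an
affine scheme is an affine scheme finite over it) is fpqc local on the base: for an fpqc covering of
an algebraic space Y by algebraic spaces Y_i, a morphism f : X ⟶ Y of algebraic spaces and cartesian
squares X_i = Y_i ×_Y X, f has the property if and only if every X_i ⟶ Y_i has it. -/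
theorem result (S : Scheme.{u}) :
    AlgSp.IsLocalOnBase (AlgSp.IsFpqcCover (S := S)) AlgSp.IsFiniteMor := by
  intro ι Y Yi g hY hYi hcov X f hX Xi p q hXi hsq
  constructor
  · intro hf i
    exact Groth.Agent.Lib.Helper17.SLP.affMor_of_isPullback _ (hsq i) hf
  · intro hp Z hZ gZ
    haveI := Groth.Agent.S0084.result.{u}
    obtain ⟨W, i, fst, sq, hi⟩ :=
      Groth.Agent.Lib.Helper23.AffDesc.exists_isPullback_of_fpqc @IsFinite
        (fun _ _ f hf => by haveI : IsFinite f := hf; infer_instance) Yi g hY hcov f
        hX Xi p q hsq (fun k Z' hZ' g' => by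
          obtain ⟨W', i', fst', sq', hW', hi'⟩ := hp k hZ' g'
          exact ⟨W', i', fst', sq', hi'⟩) hZ gZ
    haveI := hZ
    haveI : IsFinite i.left := hi
    exact ⟨W, i, fst, sq, isAffine_of_isAffineHom i.left, hi⟩

end Groth.Agent.S10540
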