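import Groth.Statements.S4682
import Groth.Agent.S4628
import Mathlib.Tactic
import Mathlib.AlgebraicGeometry.IdealSheaf.Functorial
import Mathlib.AlgebraicGeometry.IdealSheaf.Subscheme
-- import your own Groth.Agent.* helpers here

set_option autoImplicit false
open CategoryTheory AlgebraicGeometry
universe u
open FBase

namespace Groth.Agent.S4682


open CategoryTheory.Limits Scheme.IdealSheafData in
/-- The closed subscheme defined by a vanishing ideal sheaf is reduced. -/
lemma isReduced_vanishingIdeal_subscheme {Y : Scheme.{u}} (T' : TopologicalSpace.Closeds ↥Y) :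
    AlgebraicGeometry.IsReduced (Scheme.IdealSheafData.vanishingIdeal T').subscheme := by
  refine @IsReduced.of_openCover _
    (Scheme.IdealSheafData.vanishingIdeal T').subschemeCover.openCover ?_
  intro U
  have hrad : ((Scheme.IdealSheafData.vanishingIdeal T').ideal U).IsRadical := by
    rw [Scheme.IdealSheafData.vanishingIdeal_ideal]
    exact PrimeSpectrum.isRadical_vanishingIdeal _
  have : _root_.IsReduced (Γ(Y, U.1) ⧸ (Scheme.IdealSheafData.vanishingIdeal T').ideal U) :=
    (Ideal.isRadical_iff_quotient_reduced _).1 hrad
  change AlgebraicGeometry.IsReduced (Spec (CommRingCat.of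
    (Γ(Y, U.1) ⧸ (Scheme.IdealSheafData.vanishingIdeal T').ideal U)))
  infer_instance

open CategoryTheory.Limits Scheme.IdealSheafData in
/-- The kernel of a morphism from a reduced scheme is the vanishing ideal of the closure of its
range. -/
lemma ker_eq_vanishingIdeal_of_isReduced {W V : Scheme.{u}} [AlgebraicGeometry.IsReduced W]
    (i : W ⟶ V) :
    i.ker = Scheme.IdealSheafData.vanishingIdeal (.closure (i '' (⊤ : TopologicalSpace.Closeds W))) := by
  rw [← Scheme.IdealSheafData.map_vanishingIdeal, Scheme.IdealSheafData.vanishingIdeal_top,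
    Scheme.nilradical_eq_bot, Scheme.IdealSheafData.map_bot]

/-- Let Y be a scheme over a field K', let K be an extension field of K' which is separable over K'
(Spec K → Spec K' is geometrically reduced), let g : Y ⊗_{K'} K → Y be the projection and T a closed
subset of Y ⊗_{K'} K. Then T is defined over K' as a closed subset, that is T = g⁻¹(T') for some
closed subset T' of Y, if and only if the reduced closed subscheme of Y ⊗_{K'} K with support T is
defined over K', that is, there is a quasi-coherent ideal sheaf of O_Y whose inverse image in Y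
⊗_{K'} K is the vanishing ideal sheaf of T. -/
theorem result {K' K : Type u} [Field K'] [Field K] [Algebra K' K]
    {Y : Scheme.{u}} (fY : Y ⟶ Spec (CommRingCat.of K'))
    [GeometricallyReduced (Spec.map (CommRingCat.ofHom (algebraMap K' K)))]
    (T : TopologicalSpace.Closeds ↥(FBase.bc fY K)) :
    (∃ T' : TopologicalSpace.Closeds ↥Y, (T : Set ↥(FBase.bc fY K)) = ⇑(FBase.bcπ fY K) ⁻¹' (T' : Set ↥Y)) ↔
      ∃ J : Y.IdealSheafData, J.comap (FBase.bcπ fY K) = Scheme.IdealSheafData.vanishingIdeal T := by
  classical
  constructor
  · rintro ⟨T', hT'⟩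
    refine ⟨Scheme.IdealSheafData.vanishingIdeal T', ?_⟩
    set J := Scheme.IdealSheafData.vanishingIdeal T' with hJ
    have hZ : AlgebraicGeometry.IsReduced J.subscheme := isReduced_vanishingIdeal_subscheme T'
    set s := Spec.map (CommRingCat.ofHom (algebraMap K' K)) with hs
    -- the pullback is reduced
    have hW1 : AlgebraicGeometry.IsReduced (Limits.pullback s (J.subschemeι ≫ fY)) :=
      Groth.Agent.S4628.result s (J.subschemeι ≫ fY)
    have hW2 : AlgebraicGeometry.IsReduced (Limits.pullback (J.subschemeι ≫ fY) s) :=
      isReduced_of_isOpenImmersion (Limits.pullbackSymmetry _ _).hom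
    have hW3 : AlgebraicGeometry.IsReduced
        (Limits.pullback J.subschemeι (Limits.pullback.fst fY s)) :=
      isReduced_of_isOpenImmersion (Limits.pullbackRightPullbackFstIso fY s J.subschemeι).hom
    have hW : AlgebraicGeometry.IsReduced
        (Limits.pullback (Limits.pullback.fst fY s) J.subschemeι) :=
      isReduced_of_isOpenImmersion (Limits.pullbackSymmetry _ _).hom
    change (Limits.pullback.fst (Limits.pullback.fst fY s) J.subschemeι).ker = _
    rw [ker_eq_vanishingIdeal_of_isReduced]
    congr 1
    apply TopologicalSpace.Closeds.ext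
    simp only [TopologicalSpace.Closeds.coe_closure, TopologicalSpace.Closeds.coe_top,
      Set.image_univ]
    rw [Scheme.Pullback.range_fst, Scheme.IdealSheafData.range_subschemeι, hJ,
      Scheme.IdealSheafData.coe_support_vanishingIdeal]
    have hcl : IsClosed ((Limits.pullback.fst fY s) ⁻¹' (T' : Set ↥Y)) :=
      T'.isClosed.preimage (Limits.pullback.fst fY s).continuous
    rw [hcl.closure_eq]
    exact hT'.symm
  · rintro ⟨J, hJ⟩
    refine ⟨J.support, ?_⟩
    have h1 := congrArg (fun I => (I.support : Set ↥(FBase.bc fY K))) hJ
    simp only [Scheme.IdealSheafData.support_comap, Scheme.IdealSheafData.coe_support_vanishingIdeal,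
      TopologicalSpace.Closeds.coe_preimage] at h1
    exact h1.symm

end Groth.Agent.S4682
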