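import Groth.Statements.S15426
-- import your own Groth.Agent.* helpers here

set_option autoImplicit false
universe u
open LocCoh

namespace Groth.Agent.S15426

open CategoryTheory Opposite Limits

variable {R : Type u} [CommRing R]

noncomputable def nu (a : R) : 𝟭 (ModuleCat.{u} R)ᵒᵖ ⟶ 𝟭 (ModuleCat.{u} R)ᵒᵖ where
  app N := (a • 𝟙 (unop N)).op
  naturality N N' f := by
    apply Quiver.Hom.unop_inj
    simp [Linear.smul_comp, Linear.comp_smul]

theorem homologyMap_of_nat {D : Type*} [Category D] [Abelian D] (ν : 𝟭 D ⟶ 𝟭 D)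
    {ι : Type*} {c : ComplexShape ι} (L : HomologicalComplex D c) (φ : L ⟶ L)
    (hφ : ∀ i, φ.f i = ν.app (L.X i)) (i : ι) :
    HomologicalComplex.homologyMap φ i = ν.app (L.homology i) := by
  have h1 : HomologicalComplex.cyclesMap φ i = ν.app (L.cycles i) := by
    rw [← cancel_mono (L.iCycles i), HomologicalComplex.cyclesMap_i, hφ]
    exact (ν.naturality (L.iCycles i))
  rw [← cancel_epi (L.homologyπ i), HomologicalComplex.homologyπ_naturality, h1]
  exact (ν.naturality (L.homologyπ i)).symm

theorem smul_ext_eq_zero (X Y : ModuleCat.{u} R) (n : ℕ) (a : R) (ha : a • 𝟙 X = 0)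
    (z : ((Ext R (ModuleCat.{u} R) n).obj (op X)).obj Y) : a • z = 0 := by
  let P := ProjectiveResolution.of X
  let G := ((linearYoneda R (ModuleCat.{u} R)).obj Y).rightOp
  let L := (G.mapHomologicalComplex _).obj P.complex
  have hcomm : (a • 𝟙 P.complex) ≫ P.π = 0 := by
    have : (a • 𝟙 P.complex) ≫ P.π = P.π ≫ (ChainComplex.single₀ _).map (a • 𝟙 X) := by
      ext
      simp [Linear.smul_comp, Linear.comp_smul]
      rfl
    rw [this, ha, Functor.map_zero, comp_zero]
  have hom : Homotopy (a • 𝟙 P.complex) 0 := ProjectiveResolution.liftHomotopyZero _ hcomm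
  let φ := (G.mapHomologicalComplex _).map (a • 𝟙 P.complex)
  have hφ : ∀ i, φ.f i = (nu a).app (L.X i) := by
    intro i
    apply Quiver.Hom.unop_inj
    ext g
    change ((a • 𝟙 P.complex : P.complex ⟶ P.complex).f i) ≫ g = a • g
    simp [Linear.smul_comp]
    rfl
  have h0 : HomologicalComplex.homologyMap φ n = 0 := by
    rw [(G.mapHomotopy hom).homologyMap_eq n]
    simp
  have h1 : (nu a).app (L.homology n) = 0 := by
    rw [← homologyMap_of_nat (nu a) L φ hφ n, h0]
  let N : ModuleCat.{u} R := unop (L.homology n)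
  have h2 : a • 𝟙 N = 0 := by
    have := congr($(h1).unop)
    exact this
  let e : N ≅ ((Ext R (ModuleCat.{u} R) n).obj (op X)).obj Y := (P.isoLeftDerivedObj G n).unop
  have hz : z = e.hom (e.inv z) := by simp
  rw [hz, ← map_smul]
  have : a • e.inv z = (a • 𝟙 N).hom (e.inv z) := by simp
  rw [this, h2]
  simp


/-- Let A be a commutative ring, I an ideal, M an A-module and i ≥ 0. Every element of the local
cohomology module H^i_I(M), the direct limit over n of Ext^i_A(A/I^n, M), is annihilated by some
power of I. -/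
theorem result (A : Type u) [CommRing A] (I : Ideal A) (i : ℕ)
    (M : Type u) [AddCommGroup M] [Module A M] :
    LocCoh.IsPowerTorsion I (LocCoh.H I i M) := by
  let F := localCohomology.diagram (localCohomology.idealPowersDiagram I) i
  let MM := ModuleCat.of A M
  let N : ModuleCat.{u} A := (colimit F).obj MM
  let T : Submodule A N :=
    { carrier := {m | ∃ n : ℕ, ∀ a ∈ I ^ n, a • m = 0}
      add_mem' := by
        rintro x y ⟨n, hn⟩ ⟨k, hk⟩
        refine ⟨max n k, fun a ha => ?_⟩
        rw [smul_add, hn a (Ideal.pow_le_pow_right (le_max_left n k) ha),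
          hk a (Ideal.pow_le_pow_right (le_max_right n k) ha), add_zero]
      zero_mem' := ⟨0, fun a _ => smul_zero a⟩
      smul_mem' := by
        rintro c x ⟨n, hn⟩
        refine ⟨n, fun a ha => ?_⟩
        rw [smul_comm, hn a ha, smul_zero] }
  suffices hT : T = ⊤ by
    intro m
    have : (m : N) ∈ T := by rw [hT]; trivial
    exact this
  let e := colimitObjIsoColimitCompEvaluation F MM
  let q : N ⟶ ModuleCat.of A (N ⧸ T) := ModuleCat.ofHom T.mkQ
  have hq : e.inv ≫ q = 0 := by
    apply colimit.hom_ext
    intro j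
    rw [← Category.assoc, colimitObjIsoColimitCompEvaluation_ι_inv, comp_zero]
    ext z
    change T.mkQ (((colimit.ι F j).app MM).hom z) = 0
    rw [Submodule.mkQ_apply, Submodule.Quotient.mk_eq_zero]
    refine ⟨j.unop.unop, fun a ha => ?_⟩
    rw [← map_smul]
    have hz0 : a • z = 0 := by
      refine smul_ext_eq_zero _ _ i a ?_ z
      ext x
      have key : ∀ x : A ⧸ I ^ (unop (unop j)), a • x = 0 := by
        intro x
        obtain ⟨y, rfl⟩ := Submodule.Quotient.mk_surjective _ x
        rw [← Submodule.Quotient.mk_smul, Submodule.Quotient.mk_eq_zero]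
        exact Ideal.mul_mem_right _ _ ha
      exact key x
    rw [hz0, map_zero]
  have hq0 : q = 0 := by
    rw [← cancel_epi e.inv, hq, comp_zero]
  rw [eq_top_iff]
  intro m _
  have := congr($(hq0).hom m)
  change T.mkQ m = 0 at this
  rwa [Submodule.mkQ_apply, Submodule.Quotient.mk_eq_zero] at this

end Groth.Agent.S15426
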