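import Groth.Statements.S17776
import Groth.Agent.Lib.Helper47.ExtCechLib
import Groth.Agent.S9264

set_option autoImplicit false
universe u
open CategoryTheory CategoryTheory.Limits
attribute [local instance] HasDerivedCategory.standard
open LocCoh

namespace Groth.Agent.S17776

open Groth.Agent.Lib.Helper47.ExtCech

/-- elements killed by a power of each entry of the list -/
def T {R : Type u} [CommRing R] (fs : List R) (M : ModuleCat.{u} R) : Submodule R M where
  carrier := {m | ∀ f ∈ fs, ∃ n : ℕ, f ^ n • m = 0}
  zero_mem' := fun f _ => ⟨0, smul_zero _⟩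
  add_mem' := by
    rintro a b ha hb f hf
    obtain ⟨n, hn⟩ := ha f hf
    obtain ⟨k, hk⟩ := hb f hf
    refine ⟨n + k, ?_⟩
    have h1 : f ^ (n + k) • a = 0 := by rw [pow_add, mul_comm, mul_smul, hn, smul_zero]
    have h2 : f ^ (n + k) • b = 0 := by rw [pow_add, mul_smul, hk, smul_zero]
    rw [smul_add, h1, h2, add_zero]
  smul_mem' := by
    rintro c a ha f hf
    obtain ⟨n, hn⟩ := ha f hf
    exact ⟨n, by rw [smul_comm, hn, smul_zero]⟩

theorem main {R : Type u} [CommRing R] (M : ModuleCat.{u} R) (fs : List R) :
    ∃ ι : (DerCA.extCech M fs).homology 0 →ₗ[R] M,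
      Function.Injective ι ∧ LinearMap.range ι = T fs M := by
  induction fs with
  | nil =>
    have hb := ConcreteCategory.bijective_of_isIso
        (HomologicalComplex.singleObjHomologySelfIso (ComplexShape.up ℤ) 0 M).hom
    refine ⟨(HomologicalComplex.singleObjHomologySelfIso (ComplexShape.up ℤ) 0 M).hom.hom, hb.1, ?_⟩
    have : T [] M = ⊤ := by
      ext m
      simp [T]
    rw [this]
    exact LinearMap.range_eq_top.mpr hb.2
  | cons f fs ih =>
    obtain ⟨ι, hι, hr⟩ := ih
    have hd := DerivedCategory.mappingCocone_triangle_distinguished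
      (DerCA.locCxUnit (Submonoid.powers f) (DerCA.extCech M fs))
    have e1 := CochainComplex.homologyMap_exact₁_of_distTriang _ hd (-1) 0 (by norm_num)
    have e2 := CochainComplex.homologyMap_exact₂_of_distTriang _ hd 0
    have hz : IsZero (((DerCA.locCx (Submonoid.powers f)).obj (DerCA.extCech M fs)).homology (-1)) := by
      refine IsZero.of_iso ?_ (locHomologyIso _ _ _)
      exact (DerCA.locFunctor (Submonoid.powers f)).map_isZero
        (Groth.Agent.S9264.result R fs M (-1) (Or.inl (by norm_num)))
    have hmono : Mono (HomologicalComplex.homologyMap (CochainComplex.mappingCocone.fst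
        (DerCA.locCxUnit (Submonoid.powers f) (DerCA.extCech M fs))) 0) :=
      e1.mono_g (hz.eq_of_src _ _)
    have hinj := (ModuleCat.mono_iff_injective _).mp hmono
    rw [ShortComplex.moduleCat_exact_iff] at e2
    let p := (HomologicalComplex.homologyMap (CochainComplex.mappingCocone.fst
        (DerCA.locCxUnit (Submonoid.powers f) (DerCA.extCech M fs))) 0)
    change Function.Injective p.hom at hinj
    refine ⟨ι ∘ₗ p.hom, hι.comp hinj, ?_⟩
    ext m
    constructor
    · rintro ⟨x, rfl⟩
      intro g hg
      rcases List.mem_cons.mp hg with rfl | hmem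
      · obtain ⟨r, ⟨n, rfl⟩, hn⟩ := torsH_extCech M (g :: fs) g List.mem_cons_self 0 x
        refine ⟨n, ?_⟩
        rw [← map_smul, hn, map_zero]
      · have : (ι ∘ₗ p.hom) x ∈ T fs M := by
          rw [← hr]; exact ⟨_, rfl⟩
        exact this g hmem
    · intro hm
      have hm' : m ∈ T fs M := fun g hg => hm g (List.mem_cons_of_mem _ hg)
      rw [← hr] at hm'
      obtain ⟨y, rfl⟩ := hm'
      obtain ⟨n, hn⟩ := hm f List.mem_cons_self
      have hy : f ^ n • y = 0 := by
        apply hι
        rw [map_smul, hn, map_zero]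
      have hφy : (HomologicalComplex.homologyMap
          (DerCA.locCxUnit (Submonoid.powers f) (DerCA.extCech M fs)) 0).hom y = 0 := by
        have hb : Function.Injective (fun z : ((DerCA.locCx (Submonoid.powers f)).obj
            (DerCA.extCech M fs)).homology 0 => f ^ n • z) := by
          have := (ActsBij.of_iso (locHomologyIso (Submonoid.powers f) (DerCA.extCech M fs) 0).symm
            (smul_bijective_localizedModule (Submonoid.powers f) _ (f ^ n) ⟨n, rfl⟩))
          exact this.1
        apply hb
        change f ^ n • _ = f ^ n • 0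
        rw [← map_smul, hy, map_zero, smul_zero]
      obtain ⟨x, hx⟩ := e2 y hφy
      refine ⟨x, ?_⟩
      exact congrArg ι hx

theorem T_eq {R : Type u} [CommRing R] (fs : List R) (M : ModuleCat.{u} R) :
    T fs M = DRing.torsionSub (Ideal.span {x | x ∈ fs}) M := by
  classical
  ext m
  constructor
  · intro hm
    have h1 : Ideal.span {x | x ∈ fs} ≤ (Ideal.torsionOf R M m).radical := by
      rw [Ideal.span_le]
      intro g hg
      obtain ⟨n, hn⟩ := hm g hg
      exact ⟨n, (Ideal.mem_torsionOf_iff m _).mpr hn⟩
    have hfg : (Ideal.span {x | x ∈ fs}).FG := by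
      refine ⟨fs.toFinset, ?_⟩
      congr 1
      ext x
      simp
    obtain ⟨k, hk⟩ := Ideal.exists_pow_le_of_le_radical_of_fg h1 hfg
    exact ⟨k, fun a ha => (Ideal.mem_torsionOf_iff m _).mp (hk ha)⟩
  · rintro ⟨n, hn⟩ g hg
    have hg' : g ∈ Ideal.span {x | x ∈ fs} := Ideal.subset_span (show g ∈ {x | x ∈ fs} from hg)
    exact ⟨n, hn _ (Ideal.pow_mem_pow hg' n)⟩


/-- Let R be an arbitrary commutative ring, x_1, …, x_n a finite list of elements of R generating the
ideal I, and M an R-module. Then the degree-zero cohomology of the extended Čech complex 0 → M → ⊕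
M_{x_i} → ⊕ M_{x_i x_j} → ⋯ is isomorphic to Γ_I(M), the submodule of elements of M annihilated by
some power of I (existence of an isomorphism of R-modules; R need not be Noetherian). -/
theorem result (R : Type u) [CommRing R] (fs : List R) (M : Type u) [AddCommGroup M] [Module R M] : Nonempty (DerCA.extCechH fs (ModuleCat.of R M) 0 ≅ (DRing.gammaI (Ideal.span {x | x ∈ fs})).obj (ModuleCat.of R M)) := by
  obtain ⟨ι, hι, hr⟩ := main (ModuleCat.of R M) fs
  rw [T_eq] at hr
  exact ⟨((LinearEquiv.ofInjective ι hι).trans (LinearEquiv.ofEq _ _ hr)).toModuleIso⟩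

end Groth.Agent.S17776
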