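import Groth.Statements.S17778
import Groth.Agent.S17776
import Groth.Agent.Lib.Helper92.LocCohTorsion

set_option autoImplicit false
universe u
open CategoryTheory CategoryTheory.Limits
attribute [local instance] HasDerivedCategory.standard
open LocCoh

namespace Groth.Agent.S17778

open Groth.Agent.Lib.Helper47.ExtCech

/-- over a Noetherian ring, an injective module surjects onto its localisation at an element -/
theorem surj_loc {R : Type u} [CommRing R] [IsNoetherianRing R] (N : Type u) [AddCommGroup N]
    [Module R N] [Module.Injective R N] (f : R) :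
    Function.Surjective (LocalizedModule.mkLinearMap (Submonoid.powers f) N) := by
  intro z
  induction z using LocalizedModule.induction_on with
  | h x s =>
    obtain ⟨s, n, rfl⟩ := s
    -- stabilisation of annihilators
    let chain : ℕ →o Ideal R :=
      ⟨fun k => LinearMap.ker (LinearMap.toSpanSingleton R R (f ^ k)), by
        intro a b hab r hr
        simp only [LinearMap.mem_ker, LinearMap.toSpanSingleton_apply, smul_eq_mul] at hr ⊢
        obtain ⟨c, rfl⟩ := Nat.exists_eq_add_of_le hab
        rw [pow_add, ← mul_assoc, hr, zero_mul]⟩
    obtain ⟨K, hK⟩ := monotone_stabilizes_iff_noetherian.mpr (inferInstance : IsNoetherian R R) chain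
    let a : R := f ^ (n + K)
    let P := R ⧸ LinearMap.ker (LinearMap.toSpanSingleton R R a)
    let ι : P →ₗ[R] R := (LinearMap.ker (LinearMap.toSpanSingleton R R a)).liftQ
      (LinearMap.toSpanSingleton R R a) le_rfl
    have hι : Function.Injective ι := by
      rw [← LinearMap.ker_eq_bot]
      exact Submodule.ker_liftQ_eq_bot _ _ _ le_rfl
    have hker : LinearMap.ker (LinearMap.toSpanSingleton R R a) ≤
        LinearMap.ker (LinearMap.toSpanSingleton R N (f ^ K • x)) := by
      intro r hr
      have h1 : r ∈ chain (n + K) := hr
      have h2 : r ∈ chain K := by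
        rw [hK (n + K) (by omega)]; exact h1
      simp only [LinearMap.mem_ker, LinearMap.toSpanSingleton_apply]
      have h3 : r * f ^ K = 0 := h2
      rw [← mul_smul, h3, zero_smul]
    let g : P →ₗ[R] N := (LinearMap.ker (LinearMap.toSpanSingleton R R a)).liftQ
      (LinearMap.toSpanSingleton R N (f ^ K • x)) hker
    obtain ⟨h, hh⟩ := Module.Injective.extension_property R N P R ι hι g
    refine ⟨h 1, ?_⟩
    rw [LocalizedModule.mkLinearMap_apply, LocalizedModule.mk_eq]
    refine ⟨⟨f ^ K, K, rfl⟩, ?_⟩
    simp only [Submonoid.smul_def, one_smul]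
    have h4 : a • h 1 = f ^ K • x := by
      have := congrArg (fun t => t (Submodule.Quotient.mk 1)) hh
      simp only [LinearMap.comp_apply] at this
      have hι1 : ι (Submodule.Quotient.mk 1) = a := by
        change (LinearMap.toSpanSingleton R R a) 1 = a
        simp
      have hg1 : g (Submodule.Quotient.mk 1) = f ^ K • x := by
        change (LinearMap.toSpanSingleton R N (f ^ K • x)) 1 = _
        simp
      rw [hι1, hg1] at this
      rw [← this, ← map_smul, smul_eq_mul, mul_one]
    rw [← mul_smul, ← pow_add, add_comm K n]
    exact h4

theorem epi_H0 {R : Type u} [CommRing R] (S : Submonoid R) (C : DRing.Cx R) (q : ℤ)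
    (hs : Function.Surjective (LocalizedModule.mkLinearMap S (C.homology q))) :
    Epi (HomologicalComplex.homologyMap (DerCA.locCxUnit S C) q) := by
  have key := NatTrans.app_homology (DerCA.locUnit S) (C.sc q)
  have hepi : Epi ((DerCA.locUnit S).app (C.sc q).homology) :=
    (ModuleCat.epi_iff_surjective _).2 hs
  have h2 : ShortComplex.homologyMap ((C.sc q).mapNatTrans (DerCA.locUnit S)) =
      ((C.sc q).mapHomologyIso (𝟭 _)).hom ≫ (DerCA.locUnit S).app (C.sc q).homology ≫
        ((C.sc q).mapHomologyIso (DerCA.locFunctor S)).inv := by
    rw [key]; simp only [Category.assoc, Iso.hom_inv_id, Category.comp_id]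
    exact (Iso.hom_inv_id_assoc _ _).symm
  have : Epi (ShortComplex.homologyMap ((C.sc q).mapNatTrans (DerCA.locUnit S))) := by
    rw [h2]; infer_instance
  exact this

theorem main {R : Type u} [CommRing R] [IsNoetherianRing R] (E : Type u) [AddCommGroup E]
    [Module R E] [Module.Injective R E] (fs : List R) :
    ∀ q : ℤ, 1 ≤ q → IsZero ((DerCA.extCech (ModuleCat.of R E) fs).homology q) := by
  induction fs with
  | nil =>
    intro q hq
    exact HomologicalComplex.isZero_single_obj_homology _ _ _ _ (by omega)
  | cons f fs ih =>
    intro q hq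
    have hd := DerivedCategory.mappingCocone_triangle_distinguished
      (DerCA.locCxUnit (Submonoid.powers f) (DerCA.extCech (ModuleCat.of R E) fs))
    have e1 := CochainComplex.homologyMap_exact₁_of_distTriang _ hd (q - 1) q (by omega)
    by_cases hq1 : q = 1
    · subst hq1
      have e3 := CochainComplex.homologyMap_exact₃_of_distTriang _ hd 0 1 (by norm_num)
      obtain ⟨ι, hι, hr⟩ := Groth.Agent.S17776.main (ModuleCat.of R E) fs
      rw [Groth.Agent.S17776.T_eq] at hr
      let e : (DerCA.extCech (ModuleCat.of R E) fs).homology 0 ≃ₗ[R]
          DRing.torsionSub (Ideal.span {x | x ∈ fs}) E :=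
        (LinearEquiv.ofInjective ι hι).trans (LinearEquiv.ofEq _ _ hr)
      have : Module.Injective R (DRing.torsionSub (Ideal.span {x | x ∈ fs}) E) :=
        Groth.Agent.Lib.Helper92.LC.injective_torsionSub _ E
      have : Module.Injective R ((DerCA.extCech (ModuleCat.of R E) fs).homology 0) :=
        Module.Baer.injective ((Module.Baer.of_injective inferInstance).of_equiv e.symm)
      have hepi := epi_H0 (Submonoid.powers f) (DerCA.extCech (ModuleCat.of R E) fs) 0
        (surj_loc _ f)
      have hz := CochainComplex.homologyMap_homologyδOfTriangle _ hd 0 1 (by norm_num)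
      have hδ : CochainComplex.homologyδOfTriangle (CochainComplex.mappingCocone.triangle
          (DerCA.locCxUnit (Submonoid.powers f) (DerCA.extCech (ModuleCat.of R E) fs))) 0 1
          (by norm_num) = 0 := by
        have : Epi (HomologicalComplex.homologyMap (CochainComplex.mappingCocone.triangle
          (DerCA.locCxUnit (Submonoid.powers f) (DerCA.extCech (ModuleCat.of R E) fs))).mor₂ 0) := hepi
        exact (cancel_epi _).1 (hz.trans comp_zero.symm)
      exact e1.isZero_X₂ hδ ((ih 1 le_rfl).eq_of_tgt _ _)
    · have h1 : IsZero (((DerCA.locCx (Submonoid.powers f)).obj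
          (DerCA.extCech (ModuleCat.of R E) fs)).homology (q - 1)) := by
        refine IsZero.of_iso ?_ (locHomologyIso _ _ _)
        exact (DerCA.locFunctor (Submonoid.powers f)).map_isZero (ih (q - 1) (by omega))
      exact e1.isZero_X₂ (h1.eq_of_src _ _) ((ih q hq).eq_of_tgt _ _)


/-- Let R be a Noetherian commutative ring, x_1, …, x_n a finite list of elements of R and E an
injective R-module. Then the cohomology of the extended Čech complex of E on x_1, …, x_n vanishes in
every positive degree. -/
theorem result (R : Type u) [CommRing R] [IsNoetherianRing R] (fs : List R) (E : Type u) [AddCommGroup E] [Module R E] [Module.Injective R E] (q : ℤ) (hq : 1 ≤ q) : IsZero (DerCA.extCechH fs (ModuleCat.of R E) q) := by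
  exact main E fs q hq

end Groth.Agent.S17778
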