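import Groth.Statements.S1661
import Mathlib

set_option autoImplicit false
universe u
open CategoryTheory CategoryTheory.Limits AlgebraicGeometry

namespace Groth.Agent.S1661

open RingTheory.Sequence Ideal

theorem isRegular_map_of_flat {R S : Type*} [CommRing R] [CommRing S] (φ : R →+* S)
    (hφ : φ.Flat) (rs : List R) (hreg : IsRegular R rs)
    (hne : Ideal.map φ (ofList rs) ≠ ⊤) : IsRegular S (rs.map φ) := by
  let _ := φ.toAlgebra
  have : Module.Flat R S := hφ
  have h1 := hreg.toIsWeaklyRegular.of_flat (S := S)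
  rw [RingHom.algebraMap_toAlgebra] at h1
  refine ⟨h1, ?_⟩
  rw [smul_eq_mul, Ideal.mul_top, ← Ideal.map_ofList]
  exact hne.symm

theorem exists_append {A B : Type*} [CommRing A] [CommRing B] (π : A →+* B)
    (hπ : Function.Surjective π) (fs : List A) (hker : RingHom.ker π = ofList fs)
    (hfs : IsWeaklyRegular A fs) (gs : List B) (hgs : IsWeaklyRegular B gs) :
    ∃ gt : List A, IsWeaklyRegular A (fs ++ gt) ∧
      Ideal.comap π (ofList gs) = ofList (fs ++ gt) := by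
  classical
  obtain ⟨gt, hgt⟩ : ∃ gt : List A, gt.map π = gs := by
    refine ⟨gs.map (Function.surjInv hπ), ?_⟩
    rw [List.map_map]
    conv_rhs => rw [← List.map_id gs]
    refine List.map_congr_left fun x _ => ?_
    simp [Function.surjInv_eq hπ]
  refine ⟨gt, ?_, ?_⟩
  · rw [isWeaklyRegular_append_iff]
    refine ⟨hfs, ?_⟩
    let _ := π.toAlgebra
    have hsm : (ofList fs • ⊤ : Submodule A A) = RingHom.ker (Algebra.ofId A B) := by
      rw [smul_eq_mul, Ideal.mul_top, ← hker]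
      rfl
    have hsurj : Function.Surjective (Algebra.ofId A B) := hπ
    let e : (A ⧸ (ofList fs • ⊤ : Submodule A A)) ≃ₗ[A] B :=
      (Submodule.quotEquivOfEq _ _ hsm).trans
        (Ideal.quotientKerAlgEquivOfSurjective hsurj).toLinearEquiv
    rw [e.isWeaklyRegular_congr gt, ← isWeaklyRegular_map_algebraMap_iff B B gt]
    have : gt.map (algebraMap A B) = gs := hgt
    rw [this]
    exact hgs
  · rw [← hgt, ← Ideal.map_ofList, Ideal.comap_map_of_surjective π hπ, ← RingHom.ker_eq_comap_bot,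
      hker, Ideal.ofList_append, sup_comm]


theorem res_flat {X : Scheme.{u}} {U V : X.Opens} (hU : IsAffineOpen U) (f : Γ(X, U))
    (i : V ⟶ U) (e : V = X.basicOpen f) : (X.presheaf.map i.op).hom.Flat := by
  have h1 := hU.isLocalization_of_eq_basicOpen f i e
  let _ := (X.presheaf.map i.op).hom.toAlgebra
  exact IsLocalization.flat Γ(X, V) (Submonoid.powers f)

theorem ker_res {Z X : Scheme.{u}} (i : Z ⟶ X) [IsClosedImmersion i] {U V : X.Opens}
    (hU : IsAffineOpen U) (hV : IsAffineOpen V) (h : V ≤ U) (rs : List Γ(X, U))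
    (hker : i.ker.ideal ⟨U, hU⟩ = Ideal.ofList rs) :
    RingHom.ker (i.app V).hom = Ideal.ofList (rs.map (X.presheaf.map (homOfLE h).op).hom) := by
  have h1 := i.ker.map_ideal (U := ⟨V, hV⟩) (V := ⟨U, hU⟩) h
  rw [hker, Ideal.map_ofList, Scheme.Hom.ker_apply] at h1
  exact h1.symm

theorem ker_ne_top {Z X : Scheme.{u}} (i : Z ⟶ X) (V : X.Opens) (z : Z) (hz : i z ∈ V) :
    RingHom.ker (i.app V).hom ≠ ⊤ := by
  intro h
  have hne : Nonempty ↥(i ⁻¹ᵁ V) := ⟨⟨z, hz⟩⟩
  have hnt : Nontrivial Γ(Z, i ⁻¹ᵁ V) := by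
    have : Nonempty ((i ⁻¹ᵁ V : Z.Opens) : Scheme.{u}) := hne
    exact (Scheme.component_nontrivial Z (i ⁻¹ᵁ V))
  have h1 : (1 : Γ(X, V)) ∈ RingHom.ker (i.app V).hom := by rw [h]; trivial
  rw [RingHom.mem_ker, map_one] at h1
  exact one_ne_zero h1

theorem result {Z Y X : Scheme.{u}} (i : Z ⟶ Y) (j : Y ⟶ X)
    (hi : Mor2.IsRegularClosedImmersion i) (hj : Mor2.IsRegularClosedImmersion j) : Mor2.IsRegularClosedImmersion (i ≫ j) := by
  obtain ⟨hic, hi⟩ := hi
  obtain ⟨hjc, hj⟩ := hj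
  refine ⟨inferInstance, fun z => ?_⟩
  obtain ⟨U, hU, hyU, fs, hfs, hkerU⟩ := hj (i z)
  obtain ⟨V, hV, hzV, gs, hgs, hkerV⟩ := hi z
  have hU' : IsAffineOpen (j ⁻¹ᵁ U) := hU.preimage j
  obtain ⟨b, g, hbg, hyb⟩ := exists_basicOpen_le_affine_inter hU' hV (i z) ⟨hyU, hzV⟩
  obtain ⟨a, rfl⟩ := j.app_surjective U hU b
  have hW : IsAffineOpen (X.basicOpen a) := hU.basicOpen a
  have hV'' : IsAffineOpen (j ⁻¹ᵁ X.basicOpen a) := hW.preimage j
  have e : j ⁻¹ᵁ X.basicOpen a = Y.basicOpen g := by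
    rw [Scheme.preimage_basicOpen]; exact hbg
  have hle : j ⁻¹ᵁ X.basicOpen a ≤ V := e ▸ Y.basicOpen_le g
  have hzW : j (i z) ∈ X.basicOpen a := by
    have : i z ∈ j ⁻¹ᵁ X.basicOpen a := by rw [Scheme.preimage_basicOpen]; exact hyb
    exact this
  have k1 := ker_res j hU hW (X.basicOpen_le a) fs hkerU
  have k2 := ker_res i hV hV'' hle gs hkerV
  have r1 : IsRegular Γ(X, X.basicOpen a) (fs.map (X.presheaf.map (homOfLE (X.basicOpen_le a)).op).hom) := by
    refine isRegular_map_of_flat _ (res_flat hU a _ rfl) fs hfs ?_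
    rw [Ideal.map_ofList, ← k1]
    exact ker_ne_top j _ (i z) hzW
  have r2 : IsRegular Γ(Y, j ⁻¹ᵁ X.basicOpen a) (gs.map (Y.presheaf.map (homOfLE hle).op).hom) := by
    refine isRegular_map_of_flat _ (res_flat hV g _ e) gs hgs ?_
    rw [Ideal.map_ofList, ← k2]
    exact ker_ne_top i _ z hzW
  obtain ⟨gt, hgt, hcomap⟩ := exists_append (j.app (X.basicOpen a)).hom
    (j.app_surjective _ hW) _ k1 r1.toIsWeaklyRegular _ r2.toIsWeaklyRegular
  have hker : RingHom.ker ((i ≫ j).app (X.basicOpen a)).hom =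
      Ideal.ofList (fs.map (X.presheaf.map (homOfLE (X.basicOpen_le a)).op).hom ++ gt) := by
    rw [← hcomap, ← k2, Scheme.Hom.comp_app]
    exact (RingHom.comap_ker _ _).symm
  refine ⟨X.basicOpen a, hW, hzW, _, ⟨hgt, ?_⟩, ?_⟩
  · rw [smul_eq_mul, Ideal.mul_top, ← hker]
    exact (ker_ne_top (i ≫ j) _ z hzW).symm
  · rw [Scheme.Hom.ker_apply]
    exact hker

end Groth.Agent.S1661
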