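import Groth.Statements.S2002
import Groth.Agent.Lib.Helper28.BL
import Groth.Agent.Lib.Helper28.FlatBC
import Mathlib.RingTheory.LocalRing.Module
import Mathlib.RingTheory.Flat.Localization

set_option autoImplicit false
universe u
open TensorProduct
open EtAlg
namespace Groth.Agent.S2002

open Groth.Agent.Lib.Helper28.BL Groth.Agent.Lib.Helper28.FlatBC

section Aux

variable {R R' : Type u} [CommRing R] [CommRing R'] [Algebra R R'] {f : R}

theorem linj (h : EtGlue.IsGlueingPair R R' f) (M : Type u) [AddCommGroup M] [Module R M]
    [Module.Flat (Localization.Away f) (Localization.Away f ⊗[R] M)]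
    (N : Type u) [AddCommGroup N] [Module R N]
    (hN : Function.Injective ((iP (R := R) (R' := R') (f := f)).rTensor N)) :
    Function.Injective (((iP (R := R) (R' := R') (f := f)).rTensor N).lTensor M) := by
  letI : Algebra (Localization.Away f) (Localization.Away (algebraMap R R' f)) :=
    (Localization.awayMap (algebraMap R R') f).toAlgebra
  haveI : IsScalarTower R (Localization.Away f) (Localization.Away (algebraMap R R' f)) :=
    IsScalarTower.of_algebraMap_eq (fun r => by
      rw [RingHom.algebraMap_toAlgebra, awayMap_algebraMap, ← IsScalarTower.algebraMap_apply])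
  let π : (M →₀ R) →ₗ[R] M := Finsupp.linearCombination R id
  have hπ : Function.Surjective π :=
    Finsupp.linearCombination_surjective R Function.surjective_id
  exact lTensor_injective_of_exact_of_exact_of_rTensor_injective
    (M₁ := ↥(LinearMap.ker π)) (M₂ := M →₀ R) (M₃ := M)
    (f₁ := (LinearMap.ker π).subtype) (f₂ := π)
    (LinearMap.exact_subtype_ker_map π) hπ
    (rTensor_exact N (exact_iP_gP h) (surjective_gP h))
    (LinearMap.rTensor_surjective N (surjective_gP h))
    (rTensor_injective_of_exact_of_flat_baseChange (Localization.Away f) M _ π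
      (Submodule.injective_subtype _) hπ (LinearMap.exact_subtype_ker_map π)
      (Localization.Away (algebraMap R R' f) ⊗[R] N))
    (Module.Flat.lTensor_preserves_injective_linearMap _ hN)

theorem injective_iP (h : EtGlue.IsGlueingPair R R' f) :
    Function.Injective (iP (R := R) (R' := R') (f := f)) := by
  intro a b hab
  apply h.2.1
  simpa [iP] using hab

theorem injective_iP_rTensor_ideal (h : EtGlue.IsGlueingPair R R' f) (I : Ideal R) :
    Function.Injective ((iP (R := R) (R' := R') (f := f)).rTensor I) := by
  have h1 : Function.Injective ((iP (R := R) (R' := R') (f := f)).rTensor R) :=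
    Module.Flat.rTensor_preserves_injective_linearMap _ (injective_iP h)
  have h2 : Function.Injective (I.subtype.lTensor R) :=
    Module.Flat.lTensor_preserves_injective_linearMap _ (Submodule.injective_subtype _)
  have h3 : ((I.subtype.lTensor (R' × Localization.Away f)) ∘ₗ
      ((iP (R := R) (R' := R') (f := f)).rTensor I)) =
      ((iP (R := R) (R' := R') (f := f)).rTensor R) ∘ₗ (I.subtype.lTensor R) := by
    rw [LinearMap.lTensor_comp_rTensor, LinearMap.rTensor_comp_lTensor]
  have h4 : Function.Injective ((I.subtype.lTensor (R' × Localization.Away f)) ∘ₗ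
      ((iP (R := R) (R' := R') (f := f)).rTensor I)) := by
    rw [h3]
    exact h1.comp h2
  exact Function.Injective.of_comp h4

theorem decomp (M : Type u) [AddCommGroup M] [Module R M] (N : Type u) [AddCommGroup N] [Module R N]
    (z : M ⊗[R] ((R' × Localization.Away f) ⊗[R] N))
    (h1 : ((LinearMap.fst R R' (Localization.Away f)).rTensor N).lTensor M z = 0)
    (h2 : ((LinearMap.snd R R' (Localization.Away f)).rTensor N).lTensor M z = 0) : z = 0 := by
  have e : (LinearMap.inl R R' (Localization.Away f)) ∘ₗ (LinearMap.fst R R' (Localization.Away f)) +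
      (LinearMap.inr R R' (Localization.Away f)) ∘ₗ (LinearMap.snd R R' (Localization.Away f)) =
      LinearMap.id := by
    ext <;> simp
  have e2 : z = (((LinearMap.inl R R' (Localization.Away f)) ∘ₗ (LinearMap.fst R R' (Localization.Away f)) +
      (LinearMap.inr R R' (Localization.Away f)) ∘ₗ (LinearMap.snd R R' (Localization.Away f))).rTensor N).lTensor M z := by
    rw [e, LinearMap.rTensor_id, LinearMap.lTensor_id, LinearMap.id_apply]
  rw [e2, LinearMap.rTensor_add, LinearMap.lTensor_add, LinearMap.add_apply,
    LinearMap.rTensor_comp, LinearMap.rTensor_comp, LinearMap.lTensor_comp, LinearMap.lTensor_comp,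
    LinearMap.comp_apply, LinearMap.comp_apply, h1, h2, map_zero, map_zero, add_zero]

theorem smul_pow_inj_ker (h : EtGlue.IsGlueingPair R R' f) (I : Ideal R) (n : ℕ)
    (z : R' ⊗[R] I) (hz : (I.subtype.baseChange R') z = 0) (hn : f ^ n • z = 0) : z = 0 := by
  obtain ⟨i, ⟨k, hk⟩, rfl⟩ := TS h I z n hn
  rw [LinearMap.baseChange_tmul] at hz
  have h1 := congrArg (TensorProduct.rid R R') hz
  rw [TensorProduct.rid_tmul, map_zero, Submodule.subtype_apply, ← Algebra.algebraMap_eq_smul_one] at h1
  have h2 : (i : R) = 0 := by
    apply torsion_inj_of_glueingPair h _ ⟨k, ?_⟩ h1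
    have := congrArg Subtype.val hk
    simpa using this
  have h3 : i = 0 := Subtype.ext h2
  rw [h3, tmul_zero]

theorem flat_of (h : EtGlue.IsGlueingPair R R' f) (M : Type u) [AddCommGroup M] [Module R M]
    [Module.Flat R' (R' ⊗[R] M)]
    [Module.Flat (Localization.Away f) (Localization.Away f ⊗[R] M)] : Module.Flat R M := by
  rw [Module.Flat.iff_lTensor_injective']
  intro I
  rw [injective_iff_map_eq_zero]
  intro x hx
  set jf : I →ₗ[R] Localization.Away f ⊗[R] I := TensorProduct.mk R (Localization.Away f) I 1 with hjf
  set j' : I →ₗ[R] R' ⊗[R] I := TensorProduct.mk R R' I 1 with hj'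
  have hz2 : (jf.lTensor M) x = 0 := by
    have hinj := lTensor_injective_of_flat_baseChange (R := R) (Localization.Away f) M
      (I.subtype.baseChange (Localization.Away f))
      (Module.Flat.lTensor_preserves_injective_linearMap _ (Submodule.injective_subtype _))
    apply hinj
    rw [map_zero, ← LinearMap.comp_apply, ← LinearMap.lTensor_comp]
    have e : ((I.subtype.baseChange (Localization.Away f)).restrictScalars R) ∘ₗ jf =
        (TensorProduct.mk R (Localization.Away f) R 1) ∘ₗ I.subtype := by
      ext i
      simp [jf]
    rw [e, LinearMap.lTensor_comp, LinearMap.comp_apply, hx, map_zero]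
  obtain ⟨n, hn⟩ : ∃ n : ℕ, f ^ n • x = 0 := by
    have : IsLocalizedModule (Submonoid.powers f) (jf.lTensor M) :=
      isLocalizedModule_lTensor _ jf M
    obtain ⟨⟨_, n, rfl⟩, hn⟩ :=
      (IsLocalizedModule.eq_zero_iff (Submonoid.powers f) (jf.lTensor M)).mp hz2
    exact ⟨n, hn⟩
  have hz1 : (j'.lTensor M) x = 0 := by
    have hv0 : (((I.subtype.baseChange R').restrictScalars R).lTensor M) ((j'.lTensor M) x) = 0 := by
      rw [← LinearMap.comp_apply, ← LinearMap.lTensor_comp]
      have e : ((I.subtype.baseChange R').restrictScalars R) ∘ₗ j' =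
          (TensorProduct.mk R R' R 1) ∘ₗ I.subtype := by
        ext i
        simp [j']
      rw [e, LinearMap.lTensor_comp, LinearMap.comp_apply, hx, map_zero]
    exact eq_zero_of_lTensor_eq_zero_of_smul_eq_zero (R := R) R' M
      (X := R' ⊗[R] I) (Y := R' ⊗[R] R) (I.subtype.baseChange R') (f ^ n)
      (fun z hz hnz => smul_pow_inj_ker h I n z hz hnz) _ hv0
      (by rw [← map_smul, hn, map_zero])
  have h3 := linj h M I (injective_iP_rTensor_ideal h I)
  have hx' : ((TensorProduct.lid R I).symm.toLinearMap.lTensor M) x = 0 := by
    apply h3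
    rw [map_zero]
    apply decomp
    · rw [← LinearMap.comp_apply, ← LinearMap.lTensor_comp, ← LinearMap.comp_apply,
        ← LinearMap.lTensor_comp]
      have e : (((LinearMap.fst R R' (Localization.Away f)).rTensor I) ∘ₗ
          ((iP (R := R) (R' := R') (f := f)).rTensor I)) ∘ₗ
            (TensorProduct.lid R I).symm.toLinearMap = j' := by
        ext i
        simp [iP, j']
      rw [e]
      exact hz1
    · rw [← LinearMap.comp_apply, ← LinearMap.lTensor_comp, ← LinearMap.comp_apply,
        ← LinearMap.lTensor_comp]
      have e : (((LinearMap.snd R R' (Localization.Away f)).rTensor I) ∘ₗ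
          ((iP (R := R) (R' := R') (f := f)).rTensor I)) ∘ₗ
            (TensorProduct.lid R I).symm.toLinearMap = jf := by
        ext i
        simp [iP, jf]
      rw [e]
      exact hz2
  have hinj : Function.Injective ((TensorProduct.lid R I).symm.toLinearMap.lTensor M) :=
    (LinearEquiv.lTensor M (TensorProduct.lid R I).symm).injective
  exact hinj (hx'.trans (map_zero _).symm)

end Aux

/-- Let (R -> R', f) be a glueing pair and M any R-module. Then M is flat over R if and only if R' ⊗_R M
is flat over R' and M_f is flat over R_f. -/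
theorem result (R R' : Type u) [CommRing R] [CommRing R'] [Algebra R R'] (f : R)
    (hRR : EtGlue.IsGlueingPair R R' f) (M : Type u) [AddCommGroup M] [Module R M] :
    Module.Flat R M ↔ Module.Flat R' (R' ⊗[R] M) ∧
      Module.Flat (Localization.Away f) (LocalizedModule (Submonoid.powers f) M) := by
  constructor
  · intro h
    exact ⟨inferInstance, inferInstance⟩
  · rintro ⟨h1, h2⟩
    have : Module.Flat (Localization.Away f) (Localization.Away f ⊗[R] M) :=
      Module.Flat.of_linearEquiv (LocalizedModule.equivTensorProduct (Submonoid.powers f) M).symm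
    exact flat_of hRR M

end Groth.Agent.S2002
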