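import Groth.Statements.S10843
import Mathlib.RingTheory.NoetherNormalization
import Mathlib.RingTheory.KrullDimension.Polynomial
import Mathlib.RingTheory.KrullDimension.Field
import Mathlib.RingTheory.Ideal.HasGoingUp
import Mathlib.RingTheory.Ideal.GoingUp
-- import your own Groth.Agent.* helpers here

set_option autoImplicit false
universe u
open CAlg

namespace Groth.Agent.S10843

theorem ringKrullDim_eq_of_isIntegral_of_injective {R S : Type*} [CommRing R] [CommRing S]
    [Algebra R S] [Algebra.IsIntegral R S] (hinj : Function.Injective (algebraMap R S)) :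
    ringKrullDim S = ringKrullDim R := by
  apply le_antisymm
  · refine Order.krullDim_le_of_strictMono (PrimeSpectrum.comap (algebraMap R S)) ?_
    intro P Q hPQ
    exact Ideal.IsIntegral.comap_lt_comap (R := R) (I := P.asIdeal) (J := Q.asIdeal) hPQ
  · unfold ringKrullDim Order.krullDim
    refine iSup_le fun l => ?_
    have hker : (⊥ : Ideal S).comap (algebraMap R S) ≤ (RelSeries.head l).asIdeal := by
      rw [← RingHom.ker_eq_comap_bot, (RingHom.injective_iff_ker_eq_bot _).1 hinj]
      exact bot_le
    obtain ⟨P, -, hP, hPc⟩ := Ideal.exists_ideal_over_prime_of_isIntegral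
      (RelSeries.head l).asIdeal (⊥ : Ideal S) hker
    have : P.IsPrime := hP
    have : P.LiesOver (RelSeries.head l).asIdeal := ⟨hPc.symm⟩
    obtain ⟨L, hlen, -, -⟩ := Ideal.exists_ltSeries_of_hasGoingUp l P
    rw [← hlen]
    exact Order.LTSeries.length_le_krullDim L

theorem ringKrullDim_eq_of_ringHom {R S : Type*} [CommRing R] [CommRing S] (f : R →+* S)
    (hf : f.IsIntegral) (hinj : Function.Injective f) : ringKrullDim S = ringKrullDim R := by
  let _ := f.toAlgebra
  have : Algebra.IsIntegral R S := ⟨hf⟩
  exact ringKrullDim_eq_of_isIntegral_of_injective hinj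

theorem dim_mvPoly (k : Type u) [Field k] (d : ℕ) :
    ringKrullDim (MvPolynomial (Fin d) k) = (d : WithBot ℕ∞) := by
  rw [MvPolynomial.ringKrullDim_of_isNoetherianRing, ringKrullDim_eq_zero_of_field]
  simp

/-- For a field k, a nonzero finitely generated k-algebra A and a natural number d, the algebra A has
Krull dimension d exactly when some injective k-algebra map from the polynomial ring in d variables
over k to A makes A a finite module over that polynomial ring. -/
theorem result (k A : Type u) [Field k]
    [CommRing A] [Nontrivial A] [Algebra k A] [Algebra.FiniteType k A] (d : ℕ) :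
    ringKrullDim A = (d : WithBot ℕ∞) ↔
      ∃ φ : MvPolynomial (Fin d) k →ₐ[k] A, φ.toRingHom.Finite ∧ Function.Injective φ := by
  constructor
  · intro h
    obtain ⟨s, g, hinj, hfin⟩ := exists_finite_inj_algHom_of_fg k A
    have h1 : ringKrullDim A = (s : WithBot ℕ∞) := by
      rw [ringKrullDim_eq_of_ringHom g.toRingHom hfin.to_isIntegral hinj, dim_mvPoly]
    rw [h] at h1
    have : d = s := by exact_mod_cast h1
    subst this
    exact ⟨g, hfin, hinj⟩
  · rintro ⟨φ, hfin, hinj⟩
    rw [ringKrullDim_eq_of_ringHom φ.toRingHom hfin.to_isIntegral hinj, dim_mvPoly]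

end Groth.Agent.S10843
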