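import Groth.Statements.S0302
import Groth.Agent.Lib.Helper27.InjHull

set_option autoImplicit false
universe u v
open InjHull

namespace Groth.Agent.S0302

/-- Two injective hulls of the same module are isomorphic by an isomorphism compatible with the two
embeddings. -/
theorem result (R : Type u) [CommRing R] (M : Type u) [AddCommGroup M] [Module R M] (E : Type u) [AddCommGroup E] [Module R E] (E' : Type u) [AddCommGroup E'] [Module R E'] (f : M →ₗ[R] E) (hf : InjHull.IsInjectiveHull f) (g : M →ₗ[R] E') (hg : InjHull.IsInjectiveHull g) : ∃ e : E ≃ₗ[R] E', e.toLinearMap ∘ₗ f = g := by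
  haveI := hg.isInjective
  obtain ⟨α, hα⟩ := Module.Injective.extension_property R E' M E f hf.injective g
  have hαinj : Function.Injective α :=
    Groth.Agent.Lib.Helper27.InjHullLib.injective_of_comp_injective hf.toIsEssentialInj α
      (by rw [hα]; exact hg.injective)
  obtain ⟨C, hC⟩ :=
    Groth.Agent.Lib.Helper27.InjHullLib.exists_isCompl_of_injective hf.isInjective α hαinj
  have hCbot : C = ⊥ := by
    by_contra hne
    apply hg.essential C hne
    rw [eq_bot_iff]
    have hle : LinearMap.range g ≤ LinearMap.range α := by
      rw [← hα, LinearMap.range_comp]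
      exact LinearMap.map_le_range
    calc C ⊓ LinearMap.range g ≤ C ⊓ LinearMap.range α := inf_le_inf_left _ hle
      _ = ⊥ := by rw [inf_comm]; exact hC.inf_eq_bot
  have htop : LinearMap.range α = ⊤ := by
    have := hC.sup_eq_top
    rwa [hCbot, sup_bot_eq] at this
  refine ⟨LinearEquiv.ofBijective α ⟨hαinj, LinearMap.range_eq_top.mp htop⟩, ?_⟩
  ext m
  exact LinearMap.congr_fun hα m

end Groth.Agent.S0302
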