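import Groth.Statements.S5755
import Groth.Agent.Lib.Helper67.Depth

set_option autoImplicit false
universe u
open EGA41

namespace Groth.Agent.S5755

/-- A reduced Noetherian local ring A has depth 0 if and only if A is a field. -/
theorem result (A : Type u) [CommRing A] [IsLocalRing A]
    [IsNoetherianRing A] [IsReduced A] : LocCoh.depth A A = 0 ↔ IsField A := by
  rw [Groth.Agent.Lib.Helper67.depth_eq_zero_iff, AssociatedPrimes.mem_iff, isAssociatedPrime_iff]
  constructor
  · intro hm
    obtain ⟨hprime, x, hx⟩ := hm
    rw [IsLocalRing.isField_iff_maximalIdeal_eq]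
    by_cases hxm : x ∈ IsLocalRing.maximalIdeal A
    · exfalso
      have h1 : x ∈ (⊥ : Submodule A A).colon {x} := by rw [← hx]; exact hxm
      have h2 : x * x = 0 := by
        rw [Submodule.mem_colon_singleton] at h1
        simpa using h1
      have h3 : x = 0 := by
        have : IsNilpotent x := ⟨2, by rw [pow_two, h2]⟩
        exact this.eq_zero
      have h4 : (1 : A) ∈ IsLocalRing.maximalIdeal A := by
        rw [hx, h3, Submodule.mem_colon_singleton]
        simp
      exact (IsLocalRing.maximalIdeal.isMaximal A).ne_top ((Ideal.eq_top_iff_one _).mpr h4)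
    · have hu : IsUnit x := by
        by_contra hnu
        exact hxm ((IsLocalRing.mem_maximalIdeal x).mpr hnu)
      rw [hx]
      ext y
      rw [Submodule.mem_colon_singleton]
      simp only [smul_eq_mul, Submodule.mem_bot]
      exact hu.mul_left_eq_zero
  · intro hf
    have hm : IsLocalRing.maximalIdeal A = ⊥ := IsLocalRing.isField_iff_maximalIdeal_eq.mp hf
    refine ⟨(IsLocalRing.maximalIdeal.isMaximal A).isPrime, 1, ?_⟩
    rw [hm]
    ext y
    rw [Submodule.mem_colon_singleton]
    simp

end Groth.Agent.S5755
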