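import Groth.Statements.S0602
import Groth.Agent.Lib.Helper56.Serre3
import Groth.Agent.S5755
import Mathlib.RingTheory.KrullDimension.Zero
import Mathlib.RingTheory.LocalProperties.Reduced

set_option autoImplicit false
universe u
open CAlg

namespace Groth.Agent.S0602

/-- A Noetherian ring is reduced exactly when it satisfies the conditions R₀ and S₁. -/
theorem result (R : Type u) [CommRing R] [IsNoetherianRing R] :
    IsReduced R ↔ (LocCoh.HasRk 0 R ∧ LocCoh.HasSk 1 R R) := by
  open Groth.Agent.Lib.Helper56 IsLocalRing in
  constructor
  · intro hred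
    constructor
    · intro p _ hp
      have hdim : ringKrullDim (Localization.AtPrime p) ≤ 0 := by
        rw [IsLocalization.AtPrime.ringKrullDim_eq_height p]
        exact_mod_cast hp
      have : Ring.KrullDimLE 0 (Localization.AtPrime p) := Ring.krullDimLE_iff.mpr hdim
      have hf : IsField (Localization.AtPrime p) := Ring.KrullDimLE.isField_of_isReduced
      have hm : maximalIdeal (Localization.AtPrime p) = ⊥ :=
        IsLocalRing.isField_iff_maximalIdeal_eq.mp hf
      apply IsRegularLocalRing.of_spanFinrank_maximalIdeal_le
      rw [hm, Submodule.spanFinrank_bot]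
      exact_mod_cast ringKrullDim_nonneg_of_nontrivial
    · rw [hasSk_self_iff]
      intro p _
      obtain ⟨k, hk⟩ := exists_natCast_eq_ringKrullDim (Localization.AtPrime p)
      rcases Nat.eq_zero_or_pos k with rfl | hkpos
      · rw [hk]
        simp
      · have hnf : ¬ IsField (Localization.AtPrime p) := fun hf => by
          rw [ringKrullDim_eq_zero_of_isField hf] at hk
          have : (0 : ℕ) = k := by exact_mod_cast hk
          omega
        have hne : LocCoh.depth (Localization.AtPrime p) (Localization.AtPrime p) ≠ 0 :=
          fun h0 => hnf ((Groth.Agent.S5755.result _).mp h0)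
        have h1 : 1 ≤ LocCoh.depth (Localization.AtPrime p) (Localization.AtPrime p) :=
          Order.one_le_iff_pos.mpr (pos_iff_ne_zero.mpr hne)
        refine le_trans (min_le_left _ _) ?_
        have h' : ((1 : ℕ∞) : WithBot ℕ∞) ≤
            ((LocCoh.depth (Localization.AtPrime p) (Localization.AtPrime p) : ℕ∞) :
              WithBot ℕ∞) := WithBot.coe_le_coe.mpr h1
        simpa using h'
  · rintro ⟨hR, hS⟩
    constructor
    intro x hx
    by_contra hne
    obtain ⟨P, hP, hle⟩ := exists_le_isAssociatedPrime_of_isNoetherianRing R x hne
    have hPp : P.IsPrime := IsAssociatedPrime.isPrime hP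
    have hxP : x ∈ P := by
      obtain ⟨n, hn⟩ := hx
      exact hPp.mem_of_pow_mem n (by rw [hn]; exact P.zero_mem)
    obtain ⟨u, huP, hux⟩ := exists_notMem_mul_eq_zero_of_mem_ass hR hS P hP x hxP
    exact huP (hle (by rw [Submodule.mem_colon_singleton, Submodule.mem_bot]; exact hux))

end Groth.Agent.S0602
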