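import Groth.Statements.S1223
import Mathlib.AlgebraicGeometry.Pullbacks
import Mathlib.AlgebraicGeometry.Properties
import Mathlib.RingTheory.Ideal.GoingDown
import Mathlib.RingTheory.Flat.Stability

set_option autoImplicit false
universe u
open FlatMor

namespace Groth.Agent.S1223

open TensorProduct CategoryTheory AlgebraicGeometry

/-- geometric integrality gives domains after base change to fields -/
theorem isDomain_tensor_of_geomIntegral {A B : Type u} [CommRing A] [CommRing B] [Algebra A B]
    (h : FlatCA.GeomIntegralFibres A B) (κ : Type u) [Field κ] [Algebra A κ] :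
    IsDomain (B ⊗[A] κ) := by
  have hpo := CommRingCat.isPushout_tensorProduct A B κ
  have hpb := isPullback_SpecMap_of_isPushout _ _ _ _ hpo
  have := h.geometrically_isIntegral (Spec.map (CommRingCat.ofHom (algebraMap A κ))) _ _ hpb
  exact (affine_isIntegral_iff (CommRingCat.of (B ⊗[A] κ))).mp this

/-- geometric integrality is stable under base change (ring form) -/
theorem geomIntegral_baseChange {A B A' B' : Type u} [CommRing A] [CommRing B] [Algebra A B]
    [CommRing A'] [CommRing B'] [Algebra A A'] [Algebra B B'] [Algebra A' B'] [Algebra A B']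
    [IsScalarTower A B B'] [IsScalarTower A A' B'] (hpush : Algebra.IsPushout A B A' B')
    (h : FlatCA.GeomIntegralFibres A B) : FlatCA.GeomIntegralFibres A' B' := by
  have hpo := CommRingCat.isPushout_of_isPushout A B A' B'
  have hpb := isPullback_SpecMap_of_isPushout _ _ _ _ hpo
  exact MorphismProperty.of_isPullback hpb h

attribute [local instance] Algebra.TensorProduct.rightAlgebra

/-- In a domain `D`, an associated prime of a module isomorphic to `D` is `⊥`. -/
theorem assoc_eq_bot_of_domain {D M : Type u} [CommRing D] [IsDomain D] [AddCommGroup M] [Module D M]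
    (e : M ≃ₗ[D] D) (Q : Ideal D) (hQ : Q ∈ associatedPrimes D M) : Q = ⊥ := by
  have hQ' : IsAssociatedPrime Q D := (LinearEquiv.isAssociatedPrime_iff e).mp hQ
  obtain ⟨hprime, x, hx⟩ := hQ'
  by_cases hx0 : x = 0
  · exfalso
    apply hprime.ne_top
    rw [hx, hx0]
    simp
  · rw [hx]
    have : (⊥ : Submodule D D).colon {x} = ⊥ := by
      ext a
      rw [Submodule.mem_colon_singleton, Submodule.mem_bot, Submodule.mem_bot, smul_eq_mul,
        mul_eq_zero]
      tauto
    rw [this]
    exact Ideal.radical_eq_iff.mpr (Ideal.isRadical_bot)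

/-- the fibre module of a base change of the ring itself is the fibre ring -/
noncomputable def fiberModEquiv {A' B B' N' : Type u} [CommRing A'] [CommRing B] [CommRing B']
    [Algebra A' B'] [Algebra B B']
    [AddCommGroup N'] [Module B' N'] [Module B N'] [IsScalarTower B B' N'] (f : B →ₗ[B] N')
    (hbc : IsBaseChange B' f) (t' : Ideal A') [t'.IsPrime] :
    FlatCA.fiberMod t' B' N' ≃ₗ[t'.Fiber B'] t'.Fiber B' :=
  let e1 : N' ≃ₗ[B'] B' := hbc.equiv.symm ≪≫ₗ (TensorProduct.AlgebraTensorModule.rid B B' B')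
  (TensorProduct.AlgebraTensorModule.congr (LinearEquiv.refl (t'.Fiber B') (t'.Fiber B')) e1) ≪≫ₗ
    (TensorProduct.AlgebraTensorModule.rid B' (t'.Fiber B') (t'.Fiber B'))

/-- The fibre ring over `t'` is a domain. -/
theorem isDomain_fiber {A' B' : Type u} [CommRing A'] [CommRing B'] [Algebra A' B']
    (h : FlatCA.GeomIntegralFibres A' B') (t' : Ideal A') [t'.IsPrime] :
    IsDomain (t'.Fiber B') := by
  have := isDomain_tensor_of_geomIntegral h t'.ResidueField
  exact MulEquiv.isDomain _ (Algebra.TensorProduct.comm A' t'.ResidueField B').toMulEquiv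

/-- the kernel of `B' → κ(t') ⊗ B'` is contained in every prime over `t'`. -/
theorem ker_le_of_liesOver {A' B' : Type u} [CommRing A'] [CommRing B'] [Algebra A' B']
    (t' : Ideal A') [t'.IsPrime] (P₂ : Ideal B') [P₂.IsPrime] [hP : P₂.LiesOver t'] :
    (⊥ : Ideal (t'.Fiber B')).comap
      (Algebra.TensorProduct.includeRight (R := A') (A := t'.ResidueField) (B := B')).toRingHom
        ≤ P₂ := by
  let P₀ : PrimeSpectrum.comap (algebraMap A' B') ⁻¹' {⟨t', inferInstance⟩} :=
    ⟨⟨P₂, inferInstance⟩, by
      simp only [Set.mem_preimage, Set.mem_singleton_iff]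
      exact PrimeSpectrum.ext (hP.over).symm⟩
  let Q₀ := PrimeSpectrum.preimageEquivFiber A' B' ⟨t', inferInstance⟩ P₀
  have h1 := Ideal.comap_mono (f := (Algebra.TensorProduct.includeRight (R := A')
    (A := t'.ResidueField) (B := B')).toRingHom) (bot_le : ⊥ ≤ Q₀.asIdeal)
  refine h1.trans ?_
  have h2 := (PrimeSpectrum.preimageEquivFiber A' B' ⟨t', inferInstance⟩).symm_apply_apply P₀
  have h3 : ((PrimeSpectrum.preimageEquivFiber A' B' ⟨t', inferInstance⟩).symm Q₀).1.asIdeal
      = P₂ := by
    rw [h2]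
  rw [← h3]
  rfl

/-- a nontrivial fibre ring gives a prime over `t`. -/
theorem exists_prime_liesOver {A' B' : Type u} [CommRing A'] [CommRing B'] [Algebra A' B']
    (t : Ideal A') [t.IsPrime] [Nontrivial (t.Fiber B')] :
    ∃ P₁ : Ideal B', P₁.IsPrime ∧ P₁.LiesOver t := by
  obtain ⟨Q₁, hQ₁⟩ := Ideal.exists_maximal (t.Fiber B')
  let q : PrimeSpectrum (t.Fiber B') := ⟨Q₁, hQ₁.isPrime⟩
  let P := (PrimeSpectrum.preimageEquivFiber A' B' ⟨t, inferInstance⟩).symm q
  refine ⟨P.1.asIdeal, P.1.isPrime, ⟨?_⟩⟩
  have := P.2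
  simp only [Set.mem_preimage, Set.mem_singleton_iff] at this
  exact congrArg PrimeSpectrum.asIdeal this.symm


/-- Ring form, X = Spec B affine: a finite type, flat A-algebra B with geometrically integral fibres is
universally pure relative to Spec A. -/
theorem result {A B : Type u} [CommRing A] [CommRing B] [Algebra A B] [Algebra.FiniteType A B] [Module.Flat A B]
    (h : FlatCA.GeomIntegralFibres A B) : FlatCA.IsUnivPure A B B := by
  intro p _ A' B' N' _ _ _ _ _ _ _ _ _ _ _ _ _ _ f t' t _ _ P _ himp
  obtain ⟨hpush, hbc, hle, htp, hPt', hass, hno⟩ := himp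
  have h' : FlatCA.GeomIntegralFibres A' B' := geomIntegral_baseChange hpush h
  have hD' : IsDomain (t'.Fiber B') := isDomain_fiber h' t'
  have hD : IsDomain (t.Fiber B') := isDomain_fiber h' t
  -- `P` is the generic point of the fibre over `t'`
  have hQ : FlatCA.fiberIdeal t' P = ⊥ :=
    assoc_eq_bot_of_domain (fiberModEquiv f hbc t') _ hass
  have hPgen : ∀ (P₂ : Ideal B') [P₂.IsPrime] [P₂.LiesOver t'], P ≤ P₂ := by
    intro P₂ _ _
    refine le_trans ?_ (ker_le_of_liesOver t' P₂)
    rw [← hQ, FlatCA.fiberIdeal]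
    exact Ideal.le_comap_map
  -- a prime over `t`
  obtain ⟨P₁, hP₁, hP₁t⟩ := exists_prime_liesOver (B' := B') t
  -- going down
  have hflat : Module.Flat A' B' :=
    Module.Flat.isBaseChange A A' B B' (f := (IsScalarTower.toAlgHom A B B').toLinearMap)
      hpush.symm.out
  obtain ⟨P₂, hP₂le, hP₂, hP₂t'⟩ := Ideal.exists_ideal_le_liesOver_of_le (p := t') (q := t) P₁ hle
  exact hno P₁ ((hPgen P₂).trans hP₂le) hP₁t

end Groth.Agent.S1223
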