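import Mathlib
import Groth.Statements.S18650
import Groth.Agent.S13225
import Groth.Agent.Lib.Helper24.GrInjLocC
import Groth.Agent.Lib.Helper24.GrInjLocD
import Groth.Agent.Lib.Helper24.GrInjLocE
import Groth.Agent.Lib.Helper24.GorGrB
import Groth.Agent.Lib.Helper24.GorGrD
import Groth.Agent.Lib.Helper8.GrLCTopQuot

set_option autoImplicit false
universe u
open GrLC

namespace Groth.Agent.S18650

/-- The case M = R of the published statement. Let R be a commutative Noetherian ℤ-graded ring which is
H-local, i.e. has a unique maximal graded ideal m, and which is Cohen–Macaulay, with ht m = n. Then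
R is a Gorenstein ring if and only if the graded local cohomology module H^n_m(R) is an injective
object of the category of graded R-modules. Here H^n_m(R) is computed from a *injective resolution I
of R in the graded category, and its *injectivity is expressed as the existence of a *injective
graded R-module X and an R-linear isomorphism H^n_m(R) ≅ X preserving degrees. (The published item
is stated for a Cohen–Macaulay graded module M and the notion of Gorenstein module; this row is its
case M = R.) -/
theorem result (R : Type u) [CommRing R] [LocCoh.IsCohenMacaulayRing R] (𝒜 : ℤ → AddSubgroup R) [GradedRing 𝒜] (m : HomogeneousIdeal 𝒜) (hm : GrLC.IsStarLocal 𝒜 m) (n : ℕ) (hn : m.toIdeal.height = n) (I : GrLC.StarInjRes 𝒜 𝒜) : LocCoh.IsGorensteinRing R ↔ ∃ (X : GrLC.GMod.{u} 𝒜) (φ : I.H m n ≃ₗ[R] X.carrier), GrLC.IsStarInj 𝒜 X.gr ∧ GrLC.IsGrHom (I.Hgr m n) X.gr φ.toLinearMap := by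
  classical
  haveI : IsNoetherianRing R := inferInstance
  haveI hp : m.toIdeal.IsPrime :=
    Groth.Agent.Lib.Helper24.GrInjLocD.isPrime_of_isStarLocal 𝒜 m hm
  have hnA : ringKrullDim (Localization.AtPrime m.toIdeal) = n := by
    rw [IsLocalization.AtPrime.ringKrullDim_eq_height m.toIdeal (Localization.AtPrime m.toIdeal),
      hn]
    rfl
  have hint := Groth.Agent.S13225.result R 𝒜 m R 𝒜 I n
  letI : DirectSum.Decomposition (I.Hgr m n) := hint.chooseDecomposition
  haveI : SetLike.GradedSMul 𝒜 (I.Hgr m n) :=
    Groth.Agent.Lib.Helper8.GrLCTopQuot.gradedSMul_Hgr m n I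
  constructor
  · intro hG
    haveI : LocCoh.IsGorensteinLocalRing (Localization.AtPrime m.toIdeal) :=
      LocCoh.IsGorensteinRing.isGorensteinLocalRing_localization m.toIdeal
    exact ⟨GrLC.GMod.of 𝒜 (I.H m n) (I.Hgr m n), LinearEquiv.refl R _,
      Groth.Agent.Lib.Helper24.GrInjLocC.isStarInj_H_of_gor 𝒜 m hm n I hnA, fun g x hx => hx⟩
  · rintro ⟨X, φ, hX, hφ⟩
    have htors : ∀ x : X.carrier, ∃ k : ℕ, ∀ r ∈ m.toIdeal ^ k, r • x = 0 := by
      intro x
      obtain ⟨k, hk⟩ := Groth.Agent.Lib.Helper24.GrInjLocC.isPowerTorsion_H 𝒜 m n I (φ.symm x)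
      refine ⟨k, fun r hr => ?_⟩
      have := congrArg φ (hk r hr)
      rwa [map_smul, LinearEquiv.apply_symm_apply, map_zero] at this
    have hinjX := Groth.Agent.Lib.Helper24.GrInjLocE.injective_localization_of_isStarInj 𝒜 m X.gr
      hX htors
    obtain ⟨e2⟩ := Groth.Agent.Lib.Helper24.GrInjLocC.exists_equiv_loc 𝒜 m n I
    let eX : LocalizedModule m.toIdeal.primeCompl (I.H m n) ≃ₗ[Localization.AtPrime m.toIdeal]
        LocalizedModule m.toIdeal.primeCompl X.carrier :=
      IsLocalizedModule.mapEquiv m.toIdeal.primeCompl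
        (LocalizedModule.mkLinearMap m.toIdeal.primeCompl _)
        (LocalizedModule.mkLinearMap m.toIdeal.primeCompl _) (Localization.AtPrime m.toIdeal) φ
    have hinjY : Module.Injective (Localization.AtPrime m.toIdeal)
        (LocCoh.H (IsLocalRing.maximalIdeal (Localization.AtPrime m.toIdeal)) n
          (Localization.AtPrime m.toIdeal)) :=
      (Module.Baer.of_equiv (eX.symm ≪≫ₗ e2) (Module.Baer.of_injective hinjX)).injective
    haveI : LocCoh.IsCohenMacaulayLocalRing (Localization.AtPrime m.toIdeal) :=
      LocCoh.IsCohenMacaulayRing.isCohenMacaulayLocalRing_localization m.toIdeal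
    have hdepth : LocCoh.depth (Localization.AtPrime m.toIdeal)
        (Localization.AtPrime m.toIdeal) = n := by
      have h := LocCoh.IsCohenMacaulayLocalRing.supportDim_eq_depth
        (R := Localization.AtPrime m.toIdeal)
      rw [Module.supportDim_self_eq_ringKrullDim, hnA] at h
      have h' : ((n : ℕ∞) : WithBot ℕ∞) =
          ((LocCoh.depth (Localization.AtPrime m.toIdeal) (Localization.AtPrime m.toIdeal) : ℕ∞) :
            WithBot ℕ∞) := by
        exact_mod_cast h
      exact (WithBot.coe_injective h').symm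
    have hvan : ∀ i, i ≠ n → Subsingleton (LocCoh.H
        (IsLocalRing.maximalIdeal (Localization.AtPrime m.toIdeal)) i
        (Localization.AtPrime m.toIdeal)) := by
      intro i hi
      rcases lt_or_gt_of_ne hi with h | h
      · exact (Groth.Agent.Lib.Helper85.FLCrit.le_depth_iff (Localization.AtPrime m.toIdeal)
          (Localization.AtPrime m.toIdeal) n).mp (le_of_eq hdepth.symm) i h
      · exact Groth.Agent.Lib.Helper92.LC.cdLE_of_ringKrullDim_le
          (IsLocalRing.maximalIdeal (Localization.AtPrime m.toIdeal)) n (le_of_eq hnA)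
          (Localization.AtPrime m.toIdeal) i h
    have := Groth.Agent.Lib.Helper85.Canon.hasInjectiveDimensionLT_of_H
      (Localization.AtPrime m.toIdeal) n hvan hinjY
    haveI : LocCoh.IsGorensteinLocalRing (Localization.AtPrime m.toIdeal) :=
      { exists_hasInjectiveDimensionLT := ⟨n + 1, this⟩ }
    exact Groth.Agent.Lib.Helper24.GorGrB.gorRing_of_starLocal 𝒜 m hm

end Groth.Agent.S18650
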