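import Mathlib
-- Template for statement S18655 (row 18654; see the milestone table for weights).
-- Copy to Groth/Agent/S18655.lean and replace the sorry. The statement below is byte-identical to the frozen
-- statement GrLC.GrothFrozen.S18655 (Groth/Statements/S18655.lean; the theorem GrLC.bassNum_veronese_eq_finrank_comp_mod_of_gorenstein);
-- the grader kernel-checks Groth.Agent.S18655.result against that frozen type. Keep the theorem IN THIS FILE
-- (a `result` declared elsewhere and merely imported here is not credited); helpers may live anywhere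
-- under Groth/Agent/.
import Groth.Statements.S18655
import Groth.Agent.Lib.Helper24.GorGrH
import Groth.Agent.Lib.Helper24.GorGrI
import Groth.Agent.Lib.Helper24.GorGrJ
import Groth.Agent.Lib.Helper24.GorGrK
import Groth.Agent.Lib.Helper24.BassTop
import Groth.Agent.Lib.Helper24.GrUnmixed
import Groth.Agent.Lib.Helper8.GrLCTopQuot
import Groth.Agent.S13225

set_option autoImplicit false
universe u
open GrLC

namespace Groth.Agent.S18655

/-- Let R be a graded ring defined over a field k = R_0 which is Gorenstein and generated over k by R_1,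
of dimension n, and let q ≥ 1. Then the type r(R^(q)) of the Veronese subring equals H(j + a(R), R)
= dim_k R_{j + a(R)}, where j is the smallest multiple of q with j + a(R) ≥ 0 (so j + a(R) is the
remainder ρ of a(R) modulo q, 0 ≤ ρ < q; the statement is written in terms of ρ). Here the type of
R^(q) is the Bass number μ_n(m', R^(q)), the dimension over the residue field of Ext^n over the
local ring of R^(q) at its graded maximal ideal m' = (R^(q))_+ (R^(q) has dimension n). Here 'graded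
ring defined over a field' means R = ⊕_{n ≥ 0} R_n is Noetherian with R_0 a field, and m = R_+ is
its unique graded maximal ideal. The a-invariant a(R) is the largest degree in which the graded
local cohomology H^n_m(R) (n = dim R, m = R_+), computed from a *injective resolution of R in the
graded category, is nonzero. The Veronese subring R^(q) = ⊕_j R_{jq}, regraded by (R^(q))_j =
R_{jq}, is presented abstractly as a ℤ-graded ring R' with an injective ring homomorphism φ : R' → R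
carrying R'_j onto R_{jq} for every j. -/
theorem result (R : Type u) [CommRing R] [LocCoh.IsGorensteinRing R] (𝒜 : ℤ → AddSubgroup R) [GradedRing 𝒜] (hpos : ∀ n : ℤ, n < 0 → 𝒜 n = ⊥) (h0 : IsField (GrLC.deg0 𝒜)) (m : HomogeneousIdeal 𝒜) (hm : GrLC.IsStarLocal 𝒜 m) (hmsp : m.toIdeal = Ideal.span (⋃ n ∈ Set.Ioi (0 : ℤ), (𝒜 n : Set R))) (hstd : Ideal.span (⋃ n ∈ Set.Ioi (0 : ℤ), (𝒜 n : Set R)) = Ideal.span ((𝒜 1 : AddSubgroup R) : Set R)) (n : ℕ) (hn : ringKrullDim R = n) (I : GrLC.StarInjRes 𝒜 𝒜) (a : ℤ) (ha : GrLC.endDeg (I.Hgr m n) = ((a : WithTop ℤ) : WithBot (WithTop ℤ))) (q : ℕ) (hq : 0 < q) (R' : Type u) [CommRing R'] (𝒜' : ℤ → AddSubgroup R') [GradedRing 𝒜'] (φ : R' →+* R) (hφ : Function.Injective φ) (hdeg : ∀ j : ℤ, (𝒜' j).map (φ : R' →+ R) = 𝒜 (j * q)) (m' : HomogeneousIdeal 𝒜') [m'.toIdeal.IsMaximal] (hm'sp : m'.toIdeal = Ideal.span (⋃ j ∈ Set.Ioi (0 : ℤ), (𝒜' j : Set R'))) (ρ : ℤ) (hρ0 : 0 ≤ ρ) (hρq : ρ < q) (hρa : (q : ℤ) ∣ a - ρ) : GrLC.bassNum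 m'.toIdeal R' n = (Module.finrank (GrLC.deg0 𝒜) (GrLC.comp 𝒜 𝒜 ρ) : ℕ∞) := by
  classical
  haveI : IsNoetherianRing R := inferInstance
  haveI hCMR : LocCoh.IsCohenMacaulayRing R :=
    Groth.Agent.Lib.Helper24.GrUnmixed.isCohenMacaulayRing_of_isGorensteinRing R
  haveI hmax : m.toIdeal.IsMaximal :=
    Groth.Agent.Lib.Helper8.GrLCPieces.isMaximal_of_isStarLocal hpos m hm
  have hnA : ringKrullDim (Localization.AtPrime m.toIdeal) = n := by
    rw [IsLocalization.AtPrime.ringKrullDim_eq_height m.toIdeal (Localization.AtPrime m.toIdeal),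
      ← Groth.Agent.Lib.Helper8.GrHeight.ringKrullDim_eq_height 𝒜 m hm, hn]
  have hqpos : (0 : ℤ) < (q : ℤ) := by exact_mod_cast hq
  haveI : IsNoetherianRing R' :=
    Groth.Agent.Lib.Helper24.GorGrI.isNoetherianRing_ver R 𝒜 q R' 𝒜' φ hφ hdeg
  obtain ⟨m'', I', hm''sp, hm', hmax', hpos', h0', hdim', hJ⟩ :=
    Groth.Agent.Lib.Helper24.GorGrI.exists_ver_data R 𝒜 hpos h0 m hmsp n hn I q hq R' 𝒜' φ hφ hdeg
  have hmm : m'' = m' := HomogeneousIdeal.toIdeal_injective (hm''sp.trans hm'sp.symm)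
  subst hmm
  obtain ⟨b, hb⟩ := hρa
  have hab : a = b * q + ρ := by linarith [mul_comm (q : ℤ) b]
  -- vanishing below the dimension
  have hvan : ∀ p, p < n → Subsingleton (LocCoh.H
      (IsLocalRing.maximalIdeal (Localization.AtPrime m''.toIdeal)) p
      (Localization.AtPrime m''.toIdeal)) := by
    intro p hp
    obtain ⟨J, hJinj, -, -⟩ := hJ p
    exact Groth.Agent.Lib.Helper24.GorGrK.subsingleton_H_localization hpos m hm n hn I m'' I' φ p
      hp J hJinj
  -- top local cohomology of `R`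
  have hintH := Groth.Agent.S13225.result R 𝒜 m R 𝒜 I n
  letI : DirectSum.Decomposition (I.Hgr m n) := hintH.chooseDecomposition
  haveI : SetLike.GradedSMul 𝒜 (I.Hgr m n) :=
    Groth.Agent.Lib.Helper8.GrLCTopQuot.gradedSMul_Hgr m n I
  haveI : LocCoh.IsGorensteinLocalRing (Localization.AtPrime m.toIdeal) :=
    LocCoh.IsGorensteinRing.isGorensteinLocalRing_localization m.toIdeal
  obtain ⟨hB, ⟨h₀, hsoc, hcyc⟩, htors⟩ :=
    Groth.Agent.Lib.Helper24.GorGrI.top_data_of_gor m n hnA I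
  obtain ⟨hatop, hane⟩ := Groth.Agent.Lib.Helper24.GorGrI.endDeg_data (I.Hgr m n) a ha
  obtain ⟨ytop, hytop, hytop0⟩ : ∃ y ∈ I.Hgr m n a, y ≠ 0 := by
    by_contra hcon
    push Not at hcon
    apply hane
    rw [eq_bot_iff]
    intro y hy
    rw [AddSubgroup.mem_bot]
    exact hcon y hy
  have hytops := Groth.Agent.Lib.Helper24.GorGrG.top_mem_socle 𝒜 m hmsp (I.Hgr m n) a hatop hytop
  have hND : ∀ (d : ℤ) (h : I.H m n), h ∈ I.Hgr m n d → h ≠ 0 → ∃ s ∈ 𝒜 (a - d), s • h ≠ 0 :=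
    fun d h hh hne => Groth.Agent.Lib.Helper24.GorGrG.exists_smul_ne_zero 𝒜 hpos m hmsp
      (I.Hgr m n) a hatop hane h₀ hsoc hcyc htors hh hne
  -- top local cohomology of `R'`
  have hintH' := Groth.Agent.S13225.result R' 𝒜' m'' R' 𝒜' I' n
  letI : DirectSum.Decomposition (I'.Hgr m'' n) := hintH'.chooseDecomposition
  haveI : SetLike.GradedSMul 𝒜' (I'.Hgr m'' n) :=
    Groth.Agent.Lib.Helper8.GrLCTopQuot.gradedSMul_Hgr m'' n I'
  obtain ⟨J, hJinj, hJmem, hJsurj⟩ := hJ n
  have hatop' : ∀ t, b < t → I'.Hgr m'' n t = ⊥ := by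
    intro t ht
    rw [eq_bot_iff]
    intro x hx
    rw [AddSubgroup.mem_bot]
    apply hJinj
    rw [map_zero]
    have h3 := hJmem t x hx
    have h4 : a < t * q := by
      have : (b + 1) * (q : ℤ) ≤ t * q := by
        apply mul_le_mul_of_nonneg_right _ hqpos.le
        omega
      nlinarith
    rw [hatop (t * q) h4, AddSubgroup.mem_bot] at h3
    exact h3
  have hsocle' : ∀ x : I'.H m'' n, (∀ r ∈ m''.toIdeal, r • x = 0) → x ∈ I'.Hgr m'' n b :=
    fun x hx => Groth.Agent.Lib.Helper24.GorGrJ.socle_le_top 𝒜 hstd 𝒜' φ q hq hdeg m'' hm''sp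
      (I.Hgr m n) (I'.Hgr m'' n) J hJinj hJmem a b ρ hab hρ0 hND hatop' hx
  have htopsoc' : ∀ x ∈ I'.Hgr m'' n b, ∀ r ∈ m''.toIdeal, r • x = 0 := fun x hx =>
    Groth.Agent.Lib.Helper24.GorGrG.top_mem_socle 𝒜' m'' hm''sp (I'.Hgr m'' n) b hatop' hx
  -- dimension count
  letI : Field (GrLC.deg0 𝒜) := h0.toField
  haveI : IsNoetherian (GrLC.deg0 𝒜) ↥(GrLC.comp 𝒜 𝒜 ρ) :=
    Groth.Agent.Lib.Helper8.GrLCPieces.isNoetherian_comp (𝒜 := 𝒜) (ℳ := 𝒜) ρ
  haveI : Module.Finite (GrLC.deg0 𝒜) ↥(GrLC.comp 𝒜 𝒜 ρ) := Module.IsNoetherian.finite _ _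
  have hmemB : ∀ v ∈ 𝒜 ρ, ∀ w ∈ I.Hgr m n (b * q), v • w ∈ I.Hgr m n a := by
    intro v hv w hw
    have h3 := Groth.Agent.Lib.Helper30.smul_mem_piece 𝒜 (I.Hgr m n) hv hw
    have h4 : ρ + b * q = a := by omega
    rwa [h4] at h3
  let B : ↥(GrLC.comp 𝒜 𝒜 ρ) →ₗ[GrLC.deg0 𝒜] ↥(GrLC.comp 𝒜 (I.Hgr m n) (b * q)) →ₗ[GrLC.deg0 𝒜]
      ↥(GrLC.comp 𝒜 (I.Hgr m n) a) :=
    LinearMap.mk₂ (GrLC.deg0 𝒜)
      (fun v w => ⟨(v : R) • (w : I.H m n), hmemB v.1 v.2 w.1 w.2⟩)
      (fun v v' w => Subtype.ext (add_smul (v : R) (v' : R) (w : I.H m n)))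
      (fun c v w => Subtype.ext (mul_smul (c : R) (v : R) (w : I.H m n)))
      (fun v w w' => Subtype.ext (smul_add (v : R) (w : I.H m n) (w' : I.H m n)))
      (fun c v w => Subtype.ext (smul_comm (v : R) (c : R) (w : I.H m n)))
  have hBapp : ∀ v w, ((B v w : ↥(GrLC.comp 𝒜 (I.Hgr m n) a)) : I.H m n) =
      (v : R) • (w : I.H m n) := fun v w => rfl
  have hL : Module.finrank (GrLC.deg0 𝒜) ↥(GrLC.comp 𝒜 (I.Hgr m n) a) = 1 := by
    apply finrank_eq_one (⟨ytop, hytop⟩ : ↥(GrLC.comp 𝒜 (I.Hgr m n) a))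
    · intro h
      exact hytop0 (congrArg Subtype.val h)
    · intro w
      obtain ⟨c, hc, hcw⟩ := Groth.Agent.Lib.Helper24.GorGrH.top_cyclic 𝒜 m hmsp (I.Hgr m n) a hatop
        h₀ hsoc hcyc hytop hytop0 w.2
      exact ⟨⟨c, hc⟩, Subtype.ext hcw.symm⟩
  have haρ : a - ρ = b * q := by omega
  obtain ⟨hWfin, hWrank⟩ := Groth.Agent.Lib.Helper24.GorGrJ.finrank_eq_of_nondegenerate hL B (by
      intro v hv
      have hv0 : (v : R) ≠ 0 := fun h => hv (Subtype.ext h)
      obtain ⟨x, hx, hxv⟩ := Groth.Agent.Lib.Helper24.GorGrH.exists_smul_eq 𝒜 m (I.Hgr m n) a hm hB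
        hytop hytops v.2 hv0
      rw [haρ] at hx
      refine ⟨⟨x, hx⟩, fun h => hytop0 ?_⟩
      have := congrArg Subtype.val h
      rw [hBapp] at this
      rw [← hxv]
      exact this) (by
      intro w hw
      have hw0 : (w : I.H m n) ≠ 0 := fun h => hw (Subtype.ext h)
      obtain ⟨s, hs, hsw⟩ := hND (b * q) w.1 w.2 hw0
      have h5 : a - b * q = ρ := by omega
      rw [h5] at hs
      refine ⟨⟨s, hs⟩, fun h => hsw ?_⟩
      have := congrArg Subtype.val h
      rw [hBapp] at this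
      exact this)
  haveI := hWfin
  let bas := Module.finBasis (GrLC.deg0 𝒜) ↥(GrLC.comp 𝒜 (I.Hgr m n) (b * q))
  -- lift the basis to `H^n_{m'}(R')`
  have hlift : ∀ α, ∃ x ∈ I'.Hgr m'' n b, J x = ((bas α : ↥(GrLC.comp 𝒜 (I.Hgr m n) (b * q))) :
      I.H m n) := fun α => hJsurj b _ (bas α).2
  choose x' hx'mem hx'J using hlift
  obtain ⟨c'⟩ := Groth.Agent.Lib.Helper8.GrLCCompareRows.compare m'' I' n
  -- degree-zero components
  have hdeg0 : ∀ (r : R') (x : I'.H m'' n), x ∈ I'.Hgr m'' n b →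
      r • x = (DirectSum.decompose 𝒜' r 0 : R') • x := by
    intro r x hx
    have h3 := Groth.Agent.Lib.Helper30.decompose_smul_of_mem_right 𝒜' (I'.Hgr m'' n) hx r 0
    rw [zero_add] at h3
    rw [← h3]
    have h4 : r • x ∈ I'.Hgr m'' n b := by
      rw [← DirectSum.sum_support_decompose 𝒜' r, Finset.sum_smul]
      apply AddSubgroup.sum_mem
      intro i _
      by_cases hi : i = 0
      · subst hi
        have := Groth.Agent.Lib.Helper30.smul_mem_piece 𝒜' (I'.Hgr m'' n)
          (DirectSum.decompose 𝒜' r 0).2 hx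
        rwa [zero_add] at this
      · rcases lt_or_gt_of_ne hi with hlt | hgt
        · have h5 : ∀ z ∈ 𝒜' i, z = 0 := by
            intro z hz
            rw [hpos' i hlt, AddSubgroup.mem_bot] at hz
            exact hz
          rw [h5 _ (DirectSum.decompose 𝒜' r i).2, zero_smul]
          exact zero_mem _
        · have h5 := Groth.Agent.Lib.Helper30.smul_mem_piece 𝒜' (I'.Hgr m'' n)
            (DirectSum.decompose 𝒜' r i).2 hx
          rw [hatop' (i + b) (by omega), AddSubgroup.mem_bot] at h5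
          rw [h5]
          exact zero_mem _
    exact (DirectSum.decompose_of_mem_same (I'.Hgr m'' n) h4).symm
  have hφ0 : ∀ r : R', φ (DirectSum.decompose 𝒜' r 0 : R') ∈ 𝒜 0 := by
    intro r
    have h3 : φ (DirectSum.decompose 𝒜' r 0 : R') ∈ 𝒜 (0 * q) := by
      rw [← hdeg 0]
      exact ⟨_, (DirectSum.decompose 𝒜' r 0).2, rfl⟩
    rwa [zero_mul] at h3
  have hmem_of_deg0 : ∀ r : R', (DirectSum.decompose 𝒜' r 0 : R') = 0 → r ∈ m''.toIdeal := by
    intro r hr0
    apply Groth.Agent.Lib.Helper8.GrLCPieces.mem_of_forall_decompose_mem (ℳ := 𝒜') m''.toIdeal r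
    intro i
    rcases lt_trichotomy i 0 with hlt | heq | hgt
    · have h5 : ∀ z ∈ 𝒜' i, z = 0 := by
        intro z hz
        rw [hpos' i hlt, AddSubgroup.mem_bot] at hz
        exact hz
      rw [h5 _ (DirectSum.decompose 𝒜' r i).2]
      exact Submodule.zero_mem _
    · subst heq
      rw [hr0]
      exact Submodule.zero_mem _
    · rw [hm''sp]
      apply Ideal.subset_span
      simp only [Set.mem_iUnion, Set.mem_Ioi, SetLike.mem_coe, exists_prop]
      exact ⟨i, hgt, (DirectSum.decompose 𝒜' r i).2⟩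
  -- the Bass number
  rw [Groth.Agent.Lib.Helper24.BassTop.bassNum_eq_bassNumLocal_zero m''.toIdeal n hvan,
    Groth.Agent.Lib.Helper24.BassTop.bassNumLocal_zero_localized m''.toIdeal
      (Groth.Agent.Lib.Helper24.GorGrD.isPowerTorsion_H m''.toIdeal n) (fun α => c' (x' α))]
  · rw [ENat.card_eq_coe_fintype_card, Fintype.card_fin, hWrank]
  · intro α r hr
    rw [← map_smul, htopsoc' (x' α) (hx'mem α) r hr, map_zero]
  · intro s r hsum
    have h3 : ∑ α ∈ s, r α • x' α = 0 := by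
      apply c'.injective
      rw [map_zero, map_sum, ← hsum]
      apply Finset.sum_congr rfl
      intro α _
      rw [map_smul]
    have h4 : ∑ α ∈ s, (⟨φ (DirectSum.decompose 𝒜' (r α) 0 : R'), hφ0 (r α)⟩ : GrLC.deg0 𝒜) •
        bas α = 0 := by
      apply Subtype.ext
      rw [Submodule.coe_sum, ZeroMemClass.coe_zero]
      have h5 : J (∑ α ∈ s, r α • x' α) = 0 := by rw [h3, map_zero]
      rw [map_sum] at h5
      rw [← h5]
      apply Finset.sum_congr rfl
      intro α _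
      rw [hdeg0 (r α) (x' α) (hx'mem α), map_smulₛₗ, hx'J α]
      rfl
    have h6 := (linearIndependent_iff'.mp bas.linearIndependent) s _ h4
    intro α hα
    apply hmem_of_deg0
    apply hφ
    rw [map_zero]
    exact congrArg Subtype.val (h6 α hα)
  · intro z hz
    have hx : ∀ r ∈ m''.toIdeal, r • c'.symm z = 0 := fun r hr => by
      rw [← map_smul, hz r hr, map_zero]
    have hxb := hsocle' _ hx
    have hJx : J (c'.symm z) ∈ I.Hgr m n (b * q) := hJmem b _ hxb
    have h3 := bas.sum_repr ⟨J (c'.symm z), hJx⟩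
    have hcoef : ∀ α, ∃ r' : R', r' ∈ 𝒜' 0 ∧ φ r' = ((bas.repr ⟨J (c'.symm z), hJx⟩ α :
        GrLC.deg0 𝒜) : R) := by
      intro α
      have h4 : ((bas.repr ⟨J (c'.symm z), hJx⟩ α : GrLC.deg0 𝒜) : R) ∈ 𝒜 (0 * q) := by
        rw [zero_mul]
        exact (bas.repr ⟨J (c'.symm z), hJx⟩ α).2
      rw [← hdeg 0] at h4
      obtain ⟨r', hr', hr'φ⟩ := h4
      exact ⟨r', hr', hr'φ⟩
    choose r' hr'0 hr'φ using hcoef
    have h5 : c'.symm z = ∑ α, r' α • x' α := by
      apply hJinj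
      rw [map_sum]
      have h6 : ((∑ α, bas.repr ⟨J (c'.symm z), hJx⟩ α • bas α :
          ↥(GrLC.comp 𝒜 (I.Hgr m n) (b * q))) : I.H m n) = J (c'.symm z) :=
        congrArg Subtype.val h3
      rw [Submodule.coe_sum] at h6
      rw [← h6]
      apply Finset.sum_congr rfl
      intro α _
      rw [map_smulₛₗ, hx'J α, hr'φ α]
      rfl
    have h7 : z = ∑ α, r' α • c' (x' α) := by
      have := congrArg c' h5
      rw [LinearEquiv.apply_symm_apply, map_sum] at this
      rw [this]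
      apply Finset.sum_congr rfl
      intro α _
      rw [map_smul]
    rw [h7]
    apply Submodule.sum_mem
    intro α _
    exact Submodule.smul_mem _ _ (Submodule.subset_span ⟨α, rfl⟩)

end Groth.Agent.S18655
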