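import Groth.Statements.S0333
import Groth.Agent.Lib.Helper92.LocCohTopVan

set_option autoImplicit false
universe u v
open LocCoh

namespace Groth.Agent.S0333

open Groth.Agent.Lib.Helper92.LC CategoryTheory in
/-- Over a Noetherian ring of dimension d, if H^d_I(M) = 0 for one finite module M whose support
contains every minimal prime p with dim R/p = d, then H^i_I vanishes in degrees ≥ d on all modules. -/
theorem result (R : Type u) [CommRing R] [IsNoetherianRing R] (I : Ideal R) (d : ℕ) (hd : ringKrullDim R = d) (M : Type u) [AddCommGroup M] [Module R M] [Module.Finite R M] (hsupp : ∀ p ∈ minimalPrimes R, ringKrullDim (R ⧸ p) = d → ∀ hp : p.IsPrime, (⟨p, hp⟩ : PrimeSpectrum R) ∈ Module.support R M) (hvan : Subsingleton (LocCoh.H I d M)) (N : Type u) [AddCommGroup N] [Module R N] (i : ℕ) (hi : d ≤ i) : Subsingleton (LocCoh.H I i N) := by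
  rcases Nat.lt_or_ge d i with hlt | hge
  · exact cdLE_of_ringKrullDim_le I d (le_of_eq hd) N i hlt
  · obtain rfl : i = d := le_antisymm hge hi
    have hfin : ∀ (N : Type u) [AddCommGroup N] [Module R N] [Module.Finite R N],
        Subsingleton ((localCohomology I i).obj (ModuleCat.of R N)) := by
      intro N _ _ hN
      induction hN using IsNoetherianRing.induction_on_isQuotientEquivQuotientPrime R with
      | subsingleton N => exact subsingleton_of_subsingleton I i (ModuleCat.of R N)
      | quotient N q e =>
        suffices h : Subsingleton ((localCohomology I i).obj (ModuleCat.of R (R ⧸ q.asIdeal))) by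
          let e' : ModuleCat.of R N ≅ ModuleCat.of R (R ⧸ q.asIdeal) := e.toModuleIso
          exact ((localCohomology I i).mapIso e').toLinearEquiv.injective.subsingleton
        by_cases hq : q ∈ Module.support R M
        · exact subsingleton_top_of_mem_support I i hd M hvan q hq
        · apply subsingleton_of_supportDim_lt I i
          apply krullDim_lt_of_not_minimal i hd
          intro z hz hzmin hdim
          apply hq
          rw [Module.support_eq_zeroLocus, Ideal.annihilator_quotient] at hz
          have hqz : q.asIdeal ≤ z.asIdeal := hz
          have hzq : z.asIdeal ≤ q.asIdeal := hzmin.2 ⟨q.isPrime, bot_le⟩ hqz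
          have hzq' : z = q := PrimeSpectrum.ext (le_antisymm hzq hqz)
          have := hsupp z.asIdeal hzmin hdim z.isPrime
          rw [← hzq']
          exact this
      | exact N₁ N₂ N₃ f g hf hg hfg h₁ h₃ =>
        have hS : (ModuleCat.shortComplexOfCompEqZero f g hfg.linearMap_comp_eq_zero).ShortExact :=
          ModuleCat.shortComplex_shortExact _ hfg hf hg
        refine ⟨fun y y' => ?_⟩
        suffices h : ∀ y : (localCohomology I i).obj (ModuleCat.of R N₂), y = 0 from
          (h y).trans (h y').symm
        intro y
        have h₃' : Subsingleton ((localCohomology I i).obj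
          (ModuleCat.shortComplexOfCompEqZero f g hfg.linearMap_comp_eq_zero).X₃) := h₃
        have h₁' : Subsingleton ((localCohomology I i).obj
          (ModuleCat.shortComplexOfCompEqZero f g hfg.linearMap_comp_eq_zero).X₁) := h₁
        obtain ⟨x, rfl⟩ := exact₂ I i hS y (Subsingleton.elim _ _)
        rw [Subsingleton.elim x 0, map_zero]
    refine ⟨fun y y' => ?_⟩
    suffices h : ∀ y : (localCohomology I i).obj (ModuleCat.of R N), y = 0 from
      (h y).trans (h y').symm
    intro y
    obtain ⟨N', hN', yN, rfl⟩ := exists_fg_rep I N i y
    have : Module.Finite R N' := Module.Finite.iff_fg.2 hN'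
    have := hfin N'
    rw [Subsingleton.elim yN 0, map_zero]

end Groth.Agent.S0333
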