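import Groth.Statements.S7057
import Groth.Agent.Lib.Helper84.DComp
import Mathlib

set_option autoImplicit false
universe u
attribute [local instance] HasDerivedCategory.standard
open DRing

namespace Groth.Agent.S7057

open Groth.Agent.Lib.Helper84 AwayRes DCompAlg DComp
open CategoryTheory DerivedCategory

section Alg
variable {A : Type u} [CommRing A] {M : Type u} [AddCommGroup M] [Module A M]

/-- `h` acts surjectively on the kernel of `seqMap M h` -/
lemma smul_surjective_ker (h : A) :
    Function.Surjective (fun x : LinearMap.ker (seqMap M h) => h • x) := by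
  intro m
  have hm : ∀ k, h • (m : ℕ → M) (k + 1) = (m : ℕ → M) k := by
    intro k
    have := congrFun (LinearMap.mem_ker.1 m.2) k
    rw [seqMap_apply, Pi.zero_apply, sub_eq_zero] at this
    exact this
  refine ⟨⟨fun k => (m : ℕ → M) (k + 1), ?_⟩, ?_⟩
  · rw [LinearMap.mem_ker]
    ext k
    rw [seqMap_apply, Pi.zero_apply, sub_eq_zero]
    exact hm (k + 1)
  · ext k
    exact hm k

/-- `h` acts surjectively on the cokernel of `seqMap M h` -/
lemma smul_surjective_coker (h : A) :
    Function.Surjective (fun x : (ℕ → M) ⧸ LinearMap.range (seqMap M h) => h • x) := by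
  intro q
  obtain ⟨y, rfl⟩ := Submodule.mkQ_surjective _ q
  refine ⟨Submodule.Quotient.mk (fun k => y (k + 1)), ?_⟩
  change h • Submodule.Quotient.mk (fun k => y (k + 1)) = Submodule.Quotient.mk y
  rw [← Submodule.Quotient.mk_smul, Submodule.Quotient.eq]
  refine ⟨y, ?_⟩
  ext k
  rw [seqMap_apply]
  rfl

lemma seqBij_of_subsingleton_ker_coker (h : A)
    (h0 : Subsingleton (LinearMap.ker (seqMap M h)))
    (h1 : Subsingleton ((ℕ → M) ⧸ LinearMap.range (seqMap M h))) : SeqBij h M := by
  constructor
  · rw [← LinearMap.ker_eq_bot]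
    exact Submodule.eq_bot_of_subsingleton
  · rw [← LinearMap.range_eq_top]
    exact Submodule.Quotient.subsingleton_iff.1 h1

theorem seqBij_mul (a f : A) (hf : SeqBij f M) : SeqBij (a * f) M := by
  have hP : SeqBij f (ℕ → M) := seqBij_pi M f hf
  apply seqBij_of_subsingleton_ker_coker
  · have hK := seqBij_ker (seqMap M (a * f)) f hP hP
    refine subsingleton_of_smul_surjective f hK.1 ?_
    intro x
    obtain ⟨y, hy⟩ := smul_surjective_ker (M := M) (a * f) x
    refine ⟨a • y, ?_⟩
    change f • a • y = x
    rw [smul_smul, mul_comm f a]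
    exact hy
  · have hK := seqBij_coker (seqMap M (a * f)) f hP hP
    refine subsingleton_of_smul_surjective f hK.1 ?_
    intro x
    obtain ⟨y, hy⟩ := smul_surjective_coker (M := M) (a * f) x
    refine ⟨a • y, ?_⟩
    change f • a • y = x
    rw [smul_smul, mul_comm f a]
    exact hy

theorem seqBij_add (f g : A) (hf : SeqBij f M) (hg : SeqBij g M) : SeqBij (f + g) M := by
  classical
  have hPf : SeqBij f (ℕ → M) := seqBij_pi M f hf
  have hPg : SeqBij g (ℕ → M) := seqBij_pi M g hg
  have key : ∀ (N : Type u) [AddCommGroup N] [Module A N], SeqBij f N → SeqBij g N →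
      Function.Surjective (fun x : N => (f + g) • x) → Subsingleton N := by
    intro N _ _ hNf hNg hs
    apply subsingleton_of_span_smul_top_eq_top ({f, g} : Finset A) N
    · intro c hc
      rcases Finset.mem_insert.1 hc with rfl | hc
      · exact hNf
      · rw [Finset.mem_singleton] at hc
        subst hc
        exact hNg
    · rw [eq_top_iff]
      rintro x -
      obtain ⟨y, rfl⟩ := hs x
      apply Submodule.smul_mem_smul _ Submodule.mem_top
      apply Ideal.add_mem
      · exact Ideal.subset_span (by simp)
      · exact Ideal.subset_span (by simp)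
  apply seqBij_of_subsingleton_ker_coker
  · exact key _ (seqBij_ker (seqMap M (f + g)) f hPf hPf) (seqBij_ker (seqMap M (f + g)) g hPg hPg)
      (smul_surjective_ker (f + g))
  · exact key _ (seqBij_coker (seqMap M (f + g)) f hPf hPf)
      (seqBij_coker (seqMap M (f + g)) g hPg hPg) (smul_surjective_coker (f + g))

theorem seqBij_zero : SeqBij (0 : A) M := by
  constructor
  · intro m m' h
    ext k
    have := congrFun h k
    simpa [seqMap_apply] using this
  · intro c
    refine ⟨fun k => - c k, ?_⟩
    ext k
    simp [seqMap_apply]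

theorem seqBij_of_mem_span (s : Set A) (hs : ∀ f ∈ s, SeqBij f M) (g : A) (hg : g ∈ Ideal.span s) :
    SeqBij g M := by
  induction hg using Submodule.span_induction with
  | mem x hx => exact hs x hx
  | zero => exact seqBij_zero
  | add x y _ _ hx hy => exact seqBij_add x y hx hy
  | smul a x _ hx => exact seqBij_mul a x hx

end Alg


section Der
variable {A B : Type u} [CommRing A] [CommRing B] (φ : A →+* B)

noncomputable def hdRestrictIso (L : Dual.D B) (i : ℤ) :
    (homologyFunctor (ModuleCat.{u} A) i).obj ((DRing.restrictD φ).obj L) ≅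
      (ModuleCat.restrictScalars.{u} φ).obj ((homologyFunctor (ModuleCat.{u} B) i).obj L) := by
  let F := ModuleCat.restrictScalars.{u} φ
  let E := Q.objPreimage L
  let eL : Q.obj E ≅ L := Q.objObjPreimageIso L
  refine (homologyFunctor (ModuleCat.{u} A) i).mapIso ((DRing.restrictD φ).mapIso eL.symm) ≪≫ ?_
  refine (homologyFunctor (ModuleCat.{u} A) i).mapIso (F.mapDerivedCategoryFactors.app E) ≪≫ ?_
  refine (homologyFunctorFactors (ModuleCat.{u} A) i).app _ ≪≫ ?_
  refine ?_ ≪≫ F.mapIso ((homologyFunctor (ModuleCat.{u} B) i).mapIso eL)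
  refine ?_ ≪≫ F.mapIso ((homologyFunctorFactors (ModuleCat.{u} B) i).app E).symm
  exact (E.sc i).mapHomologyIso F

lemma seqBij_restrict_iff (N : ModuleCat.{u} B) (f : A) :
    SeqBij f ((ModuleCat.restrictScalars.{u} φ).obj N) ↔ SeqBij (φ f) N := by
  exact Iff.rfl

end Der

/-- For a homomorphism of commutative rings A → B, an ideal I of A and an object L of D(B), L is derived
complete with respect to the extended ideal IB if and only if L viewed in D(A) by restriction of
scalars is derived complete with respect to I. -/
theorem result {A B : Type u} [CommRing A] [CommRing B] (φ : A →+* B)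
    (I : Ideal A) (L : Dual.D B) :
    DRing.IsDerivedComplete (I.map φ) L ↔ DRing.IsDerivedComplete I ((DRing.restrictD φ).obj L) := by
  rw [isDerivedComplete_iff, isDerivedComplete_iff]
  have key : ∀ (f : A) (i : ℤ), SeqBij f (Dual.HD A ((DRing.restrictD φ).obj L) i) ↔
      SeqBij (φ f) (Dual.HD B L i) := by
    intro f i
    rw [← seqBij_restrict_iff φ ((homologyFunctor (ModuleCat.{u} B) i).obj L) f]
    exact ⟨fun h => seqBij_of_linearEquiv (hdRestrictIso φ L i).toLinearEquiv f h,
      fun h => seqBij_of_linearEquiv (hdRestrictIso φ L i).toLinearEquiv.symm f h⟩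
  constructor
  · intro H f hf i
    rw [key]
    exact H (φ f) (Ideal.mem_map_of_mem φ hf) i
  · intro H g hg i
    refine seqBij_of_mem_span (φ '' I) ?_ g hg
    rintro _ ⟨f, hf, rfl⟩
    rw [← key]
    exact H f hf i

end Groth.Agent.S7057
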