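import Groth.Statements.S5155
import Groth.Agent.Lib.Helper85.Matlis

set_option autoImplicit false
universe u
open Matlis

namespace Groth.Agent.S5155

open IsLocalRing InjHull Groth.Agent.Lib.Helper85.Matlis

theorem result (A : Type u) [CommRing A] [IsLocalRing A] [IsNoetherianRing A] (E : Type u) [AddCommGroup E] [Module A E] : (∃ f : IsLocalRing.ResidueField A →ₗ[A] E, InjHull.IsInjectiveHull f) ↔ (Module.Injective A E ∧ LocCoh.IsPowerTorsion (IsLocalRing.maximalIdeal A) E ∧ IsSimpleModule A (IsLocalRing.ResidueField A →ₗ[A] E)) := by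
  constructor
  · rintro ⟨f, hf⟩
    exact ⟨hf.isInjective, isPowerTorsion hf.toIsEssentialInj,
      Module.length_eq_one_iff.mp (length_hom_residue hf.toIsEssentialInj)⟩
  · rintro ⟨hinj, htors, hsimple⟩
    have hnt : Nontrivial (IsLocalRing.ResidueField A →ₗ[A] E) := IsSimpleModule.nontrivial A _
    obtain ⟨f, hf0⟩ := exists_ne (0 : IsLocalRing.ResidueField A →ₗ[A] E)
    have hfinj : Function.Injective f := by
      rcases LinearMap.injective_or_eq_zero f with h | h
      · exact h
      · exact absurd h hf0
    refine ⟨f, ⟨⟨hfinj, ?_⟩, hinj⟩⟩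
    intro N hN
    obtain ⟨x, hxN, hx0⟩ := Submodule.exists_mem_ne_zero_of_ne_bot hN
    classical
    have hex := htors x
    have hn0 : Nat.find hex ≠ 0 := by
      intro h0
      have := Nat.find_spec hex
      rw [h0, pow_zero, Ideal.one_eq_top] at this
      exact hx0 (by simpa using this 1 Submodule.mem_top)
    obtain ⟨k, hk⟩ := Nat.exists_eq_succ_of_ne_zero hn0
    have hmin := Nat.find_min hex (m := k) (by omega)
    push Not at hmin
    obtain ⟨a, hak, hax⟩ := hmin
    have hy : ∀ b ∈ maximalIdeal A, b • (a • x) = 0 := by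
      intro b hb
      rw [smul_smul]
      apply Nat.find_spec hex
      rw [hk, pow_succ']
      exact Ideal.mul_mem_mul hb hak
    have hle : maximalIdeal A ≤ LinearMap.ker (LinearMap.toSpanSingleton A E (a • x)) := by
      intro b hb
      rw [LinearMap.mem_ker, LinearMap.toSpanSingleton_apply]
      exact hy b hb
    let φ : IsLocalRing.ResidueField A →ₗ[A] E :=
      Submodule.liftQ (maximalIdeal A) (LinearMap.toSpanSingleton A E (a • x)) hle
    have hφ1 : φ 1 = a • x := by
      change (LinearMap.toSpanSingleton A E (a • x)) 1 = _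
      rw [LinearMap.toSpanSingleton_apply, one_smul]
    have hspan : Submodule.span A {f} = ⊤ := by
      rcases eq_bot_or_eq_top (Submodule.span A {f}) with h | h
      · exact absurd (Submodule.span_singleton_eq_bot.mp h) hf0
      · exact h
    have hφmem : φ ∈ Submodule.span A {f} := by rw [hspan]; trivial
    obtain ⟨r, hr⟩ := Submodule.mem_span_singleton.mp hφmem
    intro hbot
    have : a • x ∈ N ⊓ LinearMap.range f := by
      refine ⟨N.smul_mem _ hxN, ⟨r • 1, ?_⟩⟩
      rw [map_smul, ← hφ1, ← hr, LinearMap.smul_apply]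
    rw [hbot, Submodule.mem_bot] at this
    exact hax this

end Groth.Agent.S5155
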