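import Groth.Statements.S11185
import Groth.Agent.Lib.Helper68.DualBasic
import Groth.Agent.Lib.Helper76.RegularLocalGlDim
import Mathlib.RingTheory.LocalProperties.InjectiveDimension
import Mathlib.RingTheory.Ideal.KrullsHeightTheorem

set_option autoImplicit false
universe u
open CategoryTheory
attribute [local instance] HasDerivedCategory.standard
open Dual

namespace Groth.Agent.S11185

/-- a regular local ring of dimension `d` has self-injective dimension at most `d` -/
lemma injDim_regularLocal (R : Type u) [CommRing R] [IsRegularLocalRing R] (d : ℕ)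
    (hd : ringKrullDim R = d) : HasInjectiveDimensionLT (ModuleCat.of R R) (d + 1) := by
  refine HasInjectiveDimensionLT.mk (fun i hi Y e => ?_)
  have : HasProjectiveDimensionLT Y (d + 1) :=
    Groth.Agent.Lib.Helper76.hasProjectiveDimensionLT_of_isRegularLocalRing R d hd Y
  exact e.eq_zero_of_hasProjectiveDimensionLT (d + 1) hi

lemma exists_nat_of_le {x : WithBot ℕ∞} {n : ℕ} (h0 : x ≠ ⊥) (h : x ≤ n) :
    ∃ d : ℕ, x = d ∧ d ≤ n := by
  induction x with
  | bot => exact absurd rfl h0
  | coe y =>
    induction y with
    | top =>
      exfalso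
      have : ((⊤ : ℕ∞) : WithBot ℕ∞) ≤ ((n : ℕ∞) : WithBot ℕ∞) := h
      rw [WithBot.coe_le_coe] at this
      simp at this
    | coe m =>
      refine ⟨m, rfl, ?_⟩
      have : ((m : ℕ∞) : WithBot ℕ∞) ≤ ((n : ℕ∞) : WithBot ℕ∞) := h
      rw [WithBot.coe_le_coe] at this
      exact_mod_cast this

lemma exists_nat_of_lt_top {x : WithBot ℕ∞} (h : x < ⊤) : ∃ n : ℕ, x ≤ n := by
  induction x with
  | bot => exact ⟨0, bot_le⟩
  | coe y =>
    induction y with
    | top => exact absurd h (lt_irrefl _)
    | coe m => exact ⟨m, le_rfl⟩



/-- Let A be a Noetherian ring all of whose local rings A_p at primes are regular and whose Krull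
dimension is finite. Then the complex A[0] is a dualizing complex for A (finite injective dimension,
finite cohomology, A → End(A[0]) bijective and no self-maps of nonzero degree). -/
theorem result (A : Type u) [CommRing A] [IsNoetherianRing A] (hreg : ∀ p : PrimeSpectrum A, IsRegularLocalRing (Localization.AtPrime p.asIdeal)) (hdim : ringKrullDim A < ⊤) : Dual.IsDualizing A (Dual.inD A A) := by
  obtain ⟨n, hn⟩ := exists_nat_of_lt_top hdim
  have key : HasInjectiveDimensionLE (ModuleCat.of A A) n := by
    rw [ModuleCat.hasInjectiveDimensionLE_iff_forall_primeSpectrum]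
    intro p
    have _ := hreg p
    have hp : ringKrullDim (Localization.AtPrime p.asIdeal) ≤ n := by
      rw [IsLocalization.AtPrime.ringKrullDim_eq_height p.asIdeal (Localization.AtPrime p.asIdeal)]
      exact Ideal.height_le_ringKrullDim_of_isPrime.trans hn
    obtain ⟨d, hd, hdn⟩ := exists_nat_of_le ringKrullDim_ne_bot hp
    have h1 := injDim_regularLocal (Localization.AtPrime p.asIdeal) d hd
    have h2 : HasInjectiveDimensionLT
        (ModuleCat.of (Localization.AtPrime p.asIdeal) (Localization.AtPrime p.asIdeal)) (n + 1) :=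
      hasInjectiveDimensionLT_of_ge _ (d + 1) (n + 1) (by omega)
    let e1 : LocalizedModule p.asIdeal.primeCompl A ≃ₗ[Localization.AtPrime p.asIdeal]
        Localization.AtPrime p.asIdeal :=
      LinearEquiv.extendScalarsOfIsLocalization p.asIdeal.primeCompl
        (Localization.AtPrime p.asIdeal)
        (IsLocalizedModule.linearEquiv p.asIdeal.primeCompl
          (LocalizedModule.mkLinearMap p.asIdeal.primeCompl A)
          (Algebra.linearMap A (Localization.AtPrime p.asIdeal)))
    let e2 : Shrink.{u} (LocalizedModule p.asIdeal.primeCompl A)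
        ≃ₗ[Localization.AtPrime p.asIdeal] Localization.AtPrime p.asIdeal :=
      (Shrink.linearEquiv (Localization.AtPrime p.asIdeal) _).trans e1
    exact hasInjectiveDimensionLT_of_iso e2.toModuleIso.symm (n + 1)
  exact Groth.Agent.Lib.Helper68.DualBasic.isDualizing_self_of_hasInjectiveDimensionLT A (n + 1)

end Groth.Agent.S11185
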