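import Groth.Statements.S5763
import Mathlib.RingTheory.Ideal.HasGoingUp
import Mathlib.RingTheory.Ideal.GoingUp
-- import your own Groth.Agent.* helpers here

set_option autoImplicit false
universe u
open EGA41

namespace Groth.Agent.S5763

/-- Let ρ : A → B be a ring homomorphism making B an integral A-algebra. Then dim(B) ≤ dim(A), and if ρ
is injective then dim(B) = dim(A) (Krull dimensions). -/
theorem result (A B : Type u) [CommRing A] [CommRing B] [Algebra A B]
    [Algebra.IsIntegral A B] :
    ringKrullDim B ≤ ringKrullDim A ∧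
      (Function.Injective (algebraMap A B) → ringKrullDim B = ringKrullDim A) := by
  constructor
  · unfold ringKrullDim
    refine Order.krullDim_le_of_strictMono (PrimeSpectrum.comap (algebraMap A B)) ?_
    intro p q hpq
    rw [← PrimeSpectrum.asIdeal_lt_asIdeal] at hpq ⊢
    exact Ideal.IsIntegral.comap_lt_comap hpq
  · intro hinj
    refine le_antisymm ?_ ?_
    · unfold ringKrullDim
      refine Order.krullDim_le_of_strictMono (PrimeSpectrum.comap (algebraMap A B)) ?_
      intro p q hpq
      rw [← PrimeSpectrum.asIdeal_lt_asIdeal] at hpq ⊢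
      exact Ideal.IsIntegral.comap_lt_comap hpq
    · unfold ringKrullDim Order.krullDim
      refine iSup_le fun l => ?_
      obtain ⟨Q, -, hQ, hQl⟩ := Ideal.exists_ideal_over_prime_of_isIntegral l.head.asIdeal (⊥ : Ideal B)
        (by
          rw [← RingHom.ker_eq_comap_bot, (RingHom.injective_iff_ker_eq_bot _).mp hinj]
          exact bot_le)
      haveI : Q.LiesOver l.head.asIdeal := ⟨hQl.symm⟩
      obtain ⟨L, hL, -, -⟩ := Ideal.exists_ltSeries_of_hasGoingUp l Q
      rw [← hL]
      exact le_iSup (fun (p : LTSeries (PrimeSpectrum B)) => (p.length : WithBot ℕ∞)) L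

end Groth.Agent.S5763
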