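import Groth.Statements.S5766
import Groth.Agent.S5763
import Mathlib.RingTheory.IntegralClosure.Algebra.Basic
import Mathlib.RingTheory.KrullDimension.Module
-- import your own Groth.Agent.* helpers here

set_option autoImplicit false
universe u
open EGA41

namespace Groth.Agent.S5766

/-- Let A be a Noetherian ring, ρ : A → B a ring homomorphism and M a B-module which is finitely
generated as an A-module via ρ. Then the dimension of M as an A-module equals its dimension as a
B-module. -/
theorem result (A B : Type u) [CommRing A] [CommRing B] [IsNoetherianRing A]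
    [Algebra A B] (M : Type u) [AddCommGroup M] [Module B M] [Module A M] [IsScalarTower A B M]
    [Module.Finite A M] : Module.supportDim A M = Module.supportDim B M := by
  have : Module.Finite B M := Module.Finite.of_restrictScalars_finite A B M
  rw [Module.supportDim_eq_ringKrullDim_quotient_annihilator,
    Module.supportDim_eq_ringKrullDim_quotient_annihilator]
  set I := Module.annihilator A M with hI
  set J := Module.annihilator B M with hJ
  have hIJ : I ≤ J.comap (algebraMap A B) := by
    intro a ha
    rw [Ideal.mem_comap, hJ, Module.mem_annihilator]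
    intro m
    rw [algebraMap_smul]
    exact Module.mem_annihilator.mp ha m
  have hJI : J.comap (algebraMap A B) ≤ I := by
    intro a ha
    rw [Ideal.mem_comap, hJ, Module.mem_annihilator] at ha
    rw [hI, Module.mem_annihilator]
    intro m
    rw [← algebraMap_smul B a m]
    exact ha m
  letI : Algebra (A ⧸ I) (B ⧸ J) := (Ideal.quotientMap J (algebraMap A B) hIJ).toAlgebra
  have hinj : Function.Injective (algebraMap (A ⧸ I) (B ⧸ J)) :=
    Ideal.quotientMap_injective' hJI
  have : Algebra.IsIntegral (A ⧸ I) (B ⧸ J) := by
    constructor
    intro x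
    obtain ⟨b, rfl⟩ := Ideal.Quotient.mk_surjective x
    obtain ⟨P, hP, hP0⟩ := Algebra.IsIntegral.isIntegral (R := A) (Algebra.lsmul A A M b)
    have hmem : Polynomial.eval₂ (algebraMap A B) b P ∈ J := by
      rw [hJ, Module.mem_annihilator]
      intro m
      have h1 : Algebra.lsmul A A M (Polynomial.aeval b P) = 0 := by
        rw [← Polynomial.aeval_algHom_apply]
        exact hP0
      have h2 : (Polynomial.aeval b P : B) • m = 0 := LinearMap.congr_fun h1 m
      rwa [Polynomial.aeval_def] at h2
    refine ⟨P.map (Ideal.Quotient.mk I), hP.map _, ?_⟩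
    rw [Polynomial.eval₂_map]
    have hcomp : (algebraMap (A ⧸ I) (B ⧸ J)).comp (Ideal.Quotient.mk I) =
        (Ideal.Quotient.mk J).comp (algebraMap A B) := Ideal.quotientMap_comp_mk hIJ
    rw [hcomp, ← Polynomial.hom_eval₂]
    exact Ideal.Quotient.eq_zero_iff_mem.mpr hmem
  exact ((Groth.Agent.S5763.result (A ⧸ I) (B ⧸ J)).2 hinj).symm

end Groth.Agent.S5766
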