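import Groth.Statements.S0069
-- import your own Groth.Agent.* helpers here

set_option autoImplicit false
open CategoryTheory CategoryTheory.Limits AlgebraicGeometry Opposite
universe u
open EtBase

namespace Groth.Agent.S0069


theorem isZero_of_isEmpty {Z : Scheme.{u}} (G : EtCoh.Ab Z) (V : Z.Etale) [IsEmpty V.left] :
    IsZero (G.obj.obj (op V)) := by
  have hbot : (⊥ : Sieve V) ∈ Z.smallEtaleTopology V := by
    have h := (Scheme.ofArrows_mem_smallEtaleTopology_iff (X := Z) (W := V) (ι := PEmpty.{1})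
      (Z := fun e => e.elim) (fun e => e.elim)).2 (by
        ext x
        exact (IsEmpty.false x).elim)
    convert h using 1
    ext Y f
    constructor
    · intro hf
      exact hf.elim
    · rintro ⟨W, a, b, ⟨e⟩, _⟩
      exact e.elim
  have hT : IsTerminal (G.obj.obj (op V)) := Sheaf.isTerminalOfBotCover G V hbot
  exact hT.isZero

/-- Abelian case, first half — the pushforward along a closed immersion has zero stalk at geometric
points outside the closed subscheme. -/
theorem result {Z X : Scheme.{u}} (i : Z ⟶ X) [IsClosedImmersion i] [EtCoh.BCCont i]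
    (G : EtCoh.Ab Z) {Ω : Type u} [Field Ω] [IsSepClosed Ω] (ξ : Spec (CommRingCat.of Ω) ⟶ X)
    (hξ : Disjoint (Set.range ξ.base) (Set.range i.base)) :
    IsZero ((EtCoh.stalk ξ).obj ((EtCoh.push i).obj G)) := by
  set Φ := Scheme.pointSmallEtale ξ with hΦ
  set P : (X.Etale)ᵒᵖ ⥤ AddCommGrpCat.{u+1} := ((EtCoh.push i).obj G).obj with hP
  change IsZero (Φ.presheafFiber.obj P)
  rw [IsZero.iff_id_eq_zero]
  apply Φ.presheafFiber_hom_ext
  intro U u
  rw [Category.comp_id, comp_zero]
  cases U with | _ Y f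
  obtain ⟨v, hv, rfl⟩ := Over.homMk_surjective u
  dsimp at v hv
  let W : X.Opens := ⟨(Set.range i.base)ᶜ, i.isClosedEmbedding.isClosed_range.isOpen_compl⟩
  let W' : Y.Opens := f ⁻¹ᵁ W
  let U' : X.Etale := Scheme.Etale.mk (W'.ι ≫ f)
  let j : U' ⟶ Scheme.Etale.mk f := MorphismProperty.Over.homMk W'.ι rfl
  have hrange : Set.range v.base ⊆ Set.range W'.ι.base := by
    rintro _ ⟨a, rfl⟩
    rw [Scheme.Opens.range_ι]
    change f.base (v.base a) ∈ (Set.range i.base)ᶜ
    have : f.base (v.base a) = ξ.base a := by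
      rw [← hv]; rfl
    rw [this]
    exact Set.disjoint_left.1 hξ ⟨a, rfl⟩
  let l : Spec (CommRingCat.of Ω) ⟶ W'.toScheme := IsOpenImmersion.lift W'.ι v hrange
  have hl : l ≫ W'.ι = v := IsOpenImmersion.lift_fac _ _ _
  let u' : Φ.fiber.obj U' := Over.homMk l (by
    change l ≫ W'.ι ≫ f = ξ
    rw [← Category.assoc, hl, hv])
  have hu' : Φ.fiber.map j u' = Over.homMk v hv := by
    apply Over.OverMorphism.ext
    exact hl
  have hempty : IsEmpty ((EtCoh.bc i).obj U').left := by
    constructor
    intro z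
    have h1 : (pullback.fst U'.hom i ≫ U'.hom).base z = (pullback.snd U'.hom i ≫ i).base z := by
      rw [pullback.condition]
    have h2 : (pullback.fst U'.hom i ≫ U'.hom).base z ∈ (Set.range i.base)ᶜ := by
      change f.base (W'.ι.base ((pullback.fst U'.hom i).base z)) ∈ (Set.range i.base)ᶜ
      exact ((pullback.fst U'.hom i).base z).2
    rw [h1] at h2
    exact h2 ⟨_, rfl⟩
  have hz : IsZero (P.obj (op U')) := isZero_of_isEmpty G ((EtCoh.bc i).obj U')
  rw [← hu', ← Φ.toPresheafFiber_w j u' P]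
  rw [hz.eq_of_tgt (P.map j.op) 0, zero_comp]

end Groth.Agent.S0069
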