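import Groth.Statements.S14451
import Groth.Agent.Lib.Helper68.RightDerivedLES
import Groth.Agent.Lib.Helper68.LerayAcyclic
import Groth.Agent.Lib.Helper4.EtStalk
import Mathlib.Algebra.Homology.DerivedCategory.Ext.ExactSequences
import Mathlib.Algebra.Homology.DerivedCategory.Ext.EnoughInjectives

set_option autoImplicit false
universe u
open CategoryTheory CategoryTheory.Limits AlgebraicGeometry
open EtCore

namespace Groth.Agent.S14451
open Abelian

variable {X Y : Scheme.{u}} (f : X ⟶ Y) [PreservesFiniteLimits (EtCoh.pull f)]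

theorem T_apply (F : EtCoh.Ab X) (n : ℕ) (x : EtCoh.H Y ((EtCoh.push f).obj F) n) :
    EtLim.HofPush f F n x =
      ((Ext.mk₀ (EtCore.pullConst f ℤ).inv).comp (x.mapExactFunctor (EtCoh.pull f)) (zero_add n)).comp
        (Ext.mk₀ ((EtCoh.pullPushAdj f).counit.app F)) (add_zero n) := rfl

theorem T_natural {F G : EtCoh.Ab X} (φ : F ⟶ G) (n : ℕ) (x : EtCoh.H Y ((EtCoh.push f).obj F) n) :
    EtLim.HofPush f G n (x.comp (Ext.mk₀ ((EtCoh.push f).map φ)) (add_zero n)) =
      (EtLim.HofPush f F n x).comp (Ext.mk₀ φ) (add_zero n) := by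
  rw [T_apply, T_apply, Ext.mapExactFunctor_comp, Ext.mapExactFunctor_mk₀]
  rw [Ext.comp_assoc_of_third_deg_zero, Ext.comp_assoc_of_third_deg_zero,
    Ext.comp_assoc_of_third_deg_zero, Ext.comp_assoc_of_third_deg_zero,
    Ext.mk₀_comp_mk₀, Ext.mk₀_comp_mk₀]
  congr 3
  exact (EtCoh.pullPushAdj f).counit.naturality φ

noncomputable def counitSC (S : ShortComplex (EtCoh.Ab X)) :
    (S.map (EtCoh.push f)).map (EtCoh.pull f) ⟶ S where
  τ₁ := (EtCoh.pullPushAdj f).counit.app S.X₁
  τ₂ := (EtCoh.pullPushAdj f).counit.app S.X₂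
  τ₃ := (EtCoh.pullPushAdj f).counit.app S.X₃
  comm₁₂ := ((EtCoh.pullPushAdj f).counit.naturality S.f).symm
  comm₂₃ := ((EtCoh.pullPushAdj f).counit.naturality S.g).symm

theorem T_delta' (S : ShortComplex (EtCoh.Ab X)) (hS : S.ShortExact)
    (hS' : (S.map (EtCoh.push f)).ShortExact) (n : ℕ)
    (Z : EtCoh.Ab Y) (Z' : EtCoh.Ab X) (c : Z' ⟶ (EtCoh.pull f).obj Z)
    (x : Ext Z (S.map (EtCoh.push f)).X₃ n) :
    ((Ext.mk₀ c).comp ((x.comp hS'.extClass rfl).mapExactFunctor (EtCoh.pull f)) (zero_add (n + 1))).comp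
        (Ext.mk₀ (counitSC f S).τ₁) (add_zero (n + 1)) =
      (((Ext.mk₀ c).comp (x.mapExactFunctor (EtCoh.pull f)) (zero_add n)).comp
        (Ext.mk₀ (counitSC f S).τ₃) (add_zero n)).comp hS.extClass rfl := by
  rw [Ext.mapExactFunctor_comp, Ext.mapExactFunctor_extClass]
  have h1 := ShortComplex.ShortExact.extClass_naturality (hS'.map_of_exact (EtCoh.pull f)) hS
    (counitSC f S)
  rw [Ext.comp_assoc_of_third_deg_zero, Ext.comp_assoc_of_third_deg_zero]
  rw [Ext.comp_assoc_of_second_deg_zero]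
  rw [Ext.comp_assoc _ _ _ (zero_add n) rfl (by omega)]
  congr 2

theorem T_delta (S : ShortComplex (EtCoh.Ab X)) (hS : S.ShortExact)
    (hS' : (S.map (EtCoh.push f)).ShortExact) (n : ℕ)
    (x : EtCoh.H Y (S.map (EtCoh.push f)).X₃ n) :
    EtLim.HofPush f S.X₁ (n + 1) (x.comp hS'.extClass rfl) =
      (EtLim.HofPush f S.X₃ n x).comp hS.extClass rfl :=
  T_delta' f S hS hS' n _ _ (EtCore.pullConst f ℤ).inv x

theorem T_zero_bijective (F : EtCoh.Ab X) : Function.Bijective (EtLim.HofPush f F 0) := by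
  let ZY := (constantSheaf Y.smallEtaleTopology AddCommGrpCat.{u + 1}).obj
    (AddCommGrpCat.of (ULift.{u + 1} ℤ))
  let ZX := (constantSheaf X.smallEtaleTopology AddCommGrpCat.{u + 1}).obj
    (AddCommGrpCat.of (ULift.{u + 1} ℤ))
  let φ : (ZY ⟶ (EtCoh.push f).obj F) → (ZX ⟶ F) := fun g =>
    (EtCore.pullConst f ℤ).inv ≫ ((EtCoh.pullPushAdj f).homEquiv ZY F).symm g
  have hφ : Function.Bijective φ := by
    constructor
    · intro g g' h
      have h' := (cancel_epi (EtCore.pullConst f ℤ).inv).mp h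
      exact ((EtCoh.pullPushAdj f).homEquiv ZY F).symm.injective h'
    · intro k
      refine ⟨((EtCoh.pullPushAdj f).homEquiv ZY F) ((EtCore.pullConst f ℤ).hom ≫ k), ?_⟩
      change (EtCore.pullConst f ℤ).inv ≫ _ = k
      rw [Equiv.symm_apply_apply, Iso.inv_hom_id_assoc]
  have key : ∀ g : ZY ⟶ (EtCoh.push f).obj F,
      EtLim.HofPush f F 0 (Ext.mk₀ g) = Ext.mk₀ (φ g) := by
    intro g
    rw [T_apply, Ext.mapExactFunctor_mk₀, Ext.mk₀_comp_mk₀, Ext.mk₀_comp_mk₀]
    congr 1
  constructor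
  · intro x x' h
    obtain ⟨g, rfl⟩ := (Ext.mk₀_bijective _ _).2 x
    obtain ⟨g', rfl⟩ := (Ext.mk₀_bijective _ _).2 x'
    rw [key, key] at h
    rw [hφ.1 ((Ext.mk₀_bijective _ _).1 h)]
  · intro y
    obtain ⟨k, rfl⟩ := (Ext.mk₀_bijective _ _).2 y
    obtain ⟨g, rfl⟩ := hφ.2 k
    exact ⟨Ext.mk₀ g, key g⟩

instance : PreservesFiniteLimits (EtCoh.push f) :=
  have : PreservesLimitsOfSize.{0, 0} (EtCoh.push f) := (EtCoh.pullPushAdj f).rightAdjoint_preservesLimits
  PreservesLimitsOfSize.preservesFiniteLimits _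

theorem injective_push (I : EtCoh.Ab X) [Injective I] : Injective ((EtCoh.push f).obj I) :=
  Injective.injective_of_adjoint (EtCoh.pullPushAdj f) I

noncomputable def injSC (F : EtCoh.Ab X) : ShortComplex (EtCoh.Ab X) :=
  ShortComplex.mk (Injective.ι F) (cokernel.π (Injective.ι F)) (cokernel.condition _)

theorem injSC_shortExact (F : EtCoh.Ab X) : (injSC F).ShortExact := by
  have : Mono (injSC F).f := inferInstanceAs (Mono (Injective.ι F))
  have : Epi (injSC F).g := inferInstanceAs (Epi (cokernel.π (Injective.ι F)))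
  exact ShortComplex.ShortExact.mk (ShortComplex.exact_of_g_is_cokernel _ (cokernelIsCokernel _))

instance (F : EtCoh.Ab X) : Injective (injSC F).X₂ := inferInstanceAs (Injective (Injective.under F))

open Groth.Agent.Lib.Helper68 in
theorem push_injSC_shortExact (F : EtCoh.Ab X)
    (h : IsZero ((EtCoh.Rpush f 1).obj F)) : ((injSC F).map (EtCoh.push f)).ShortExact := by
  have hS := injSC_shortExact F
  have : Mono (injSC F).f := hS.mono_f
  have h1 : Mono ((injSC F).map (EtCoh.push f)).f :=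
    inferInstanceAs (Mono ((EtCoh.push f).map (injSC F).f))
  have h2 : Epi ((injSC F).map (EtCoh.push f)).g := LerayAcyclic.epi_map_g (EtCoh.push f) hS h
  exact ShortComplex.ShortExact.mk (hS.exact.map_of_mono_of_preservesKernel _ hS.mono_f inferInstance)

open Groth.Agent.Lib.Helper68 in
theorem acyclic_coker (F : EtCoh.Ab X)
    (hR : ∀ q : ℕ, 0 < q → IsZero ((EtCoh.Rpush f q).obj F)) (q : ℕ) (hq : 0 < q) :
    IsZero ((EtCoh.Rpush f q).obj (injSC F).X₃) := by
  obtain ⟨q, rfl⟩ : ∃ j, q = j + 1 := ⟨q - 1, by omega⟩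
  exact RightDerivedLES.isZero_right (EtCoh.push f) (injSC_shortExact F) (q + 1)
    (Functor.isZero_rightDerived_obj_injective_succ (EtCoh.push f) q (injSC F).X₂)
    (hR (q + 1 + 1) (by omega))

theorem T_succ_bijective (n : ℕ)
    (IH : ∀ G : EtCoh.Ab X, (∀ q : ℕ, 0 < q → IsZero ((EtCoh.Rpush f q).obj G)) →
      Function.Bijective (EtLim.HofPush f G n))
    (F : EtCoh.Ab X) (hR : ∀ q : ℕ, 0 < q → IsZero ((EtCoh.Rpush f q).obj F)) :
    Function.Bijective (EtLim.HofPush f F (n + 1)) := by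
  let S := injSC F
  have hS : S.ShortExact := injSC_shortExact F
  have hS' : (S.map (EtCoh.push f)).ShortExact := push_injSC_shortExact f F (hR 1 Nat.one_pos)
  have hI : Function.Bijective (EtLim.HofPush f S.X₂ n) := IH _ (fun q hq => by
    obtain ⟨q, rfl⟩ : ∃ j, q = j + 1 := ⟨q - 1, by omega⟩
    exact Functor.isZero_rightDerived_obj_injective_succ (EtCoh.push f) q S.X₂)
  have hQ : Function.Bijective (EtLim.HofPush f S.X₃ n) := IH _ (acyclic_coker f F hR)
  have hinjI : Injective ((S.map (EtCoh.push f)).X₂) := injective_push f S.X₂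
  constructor
  · rw [injective_iff_map_eq_zero]
    intro x hx
    have hx0 : x.comp (Ext.mk₀ (S.map (EtCoh.push f)).f) (add_zero (n + 1)) = 0 :=
      Ext.eq_zero_of_injective _
    obtain ⟨z', hz'⟩ := Ext.covariant_sequence_exact₁ _ hS' x hx0 rfl
    have h1 : (EtLim.HofPush f S.X₃ n z').comp hS.extClass rfl = 0 := by
      rw [← T_delta f S hS hS' n z', hz']
      exact hx
    obtain ⟨w, hw⟩ := Ext.covariant_sequence_exact₃ _ hS (EtLim.HofPush f S.X₃ n z') rfl h1
    obtain ⟨w', rfl⟩ := hI.2 w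
    have h2 : z' = w'.comp (Ext.mk₀ (S.map (EtCoh.push f)).g) (add_zero n) := by
      apply hQ.1
      rw [← hw]
      exact (T_natural f S.g n w').symm
    rw [← hz', h2, Ext.comp_assoc_of_second_deg_zero]
    exact (congrArg (fun e => Ext.comp w' e rfl) hS'.comp_extClass).trans
      (Ext.comp_zero _ _ _ _ _)
  · intro y
    have hy0 : y.comp (Ext.mk₀ S.f) (add_zero (n + 1)) = 0 := Ext.eq_zero_of_injective _
    obtain ⟨z, hz⟩ := Ext.covariant_sequence_exact₁ _ hS y hy0 rfl
    obtain ⟨z', rfl⟩ := hQ.2 z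
    exact ⟨z'.comp hS'.extClass rfl, (T_delta f S hS hS' n z').trans hz⟩


/-- Let f : X ⟶ Y be a morphism of schemes and F an abelian sheaf on the small étale site of X whose
higher direct images R^q f_* F vanish for all q > 0. Then for every p the canonical map H^p(Y, f_*
F) → H^p(X, F) (pull back along f, then apply the counit f⁻¹ f_* F ⟶ F) is bijective. (Exactness of
f⁻¹, which always holds, is carried as an instance hypothesis.) -/
theorem result {X Y : Scheme.{u}} (f : X ⟶ Y)
    [PreservesFiniteLimits (EtCoh.pull f)] (F : EtCoh.Ab X)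
    (hR : ∀ q : ℕ, 0 < q → IsZero ((EtCoh.Rpush f q).obj F)) (p : ℕ) :
    Function.Bijective (EtLim.HofPush f F p) := by
  induction p generalizing F with
  | zero => exact T_zero_bijective f F
  | succ n IH => exact T_succ_bijective f n (fun G hG => IH G hG) F hR

end Groth.Agent.S14451
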