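import Groth.Statements.S0642
import Groth.Agent.Lib.Helper57.IntRecoll
import Groth.Agent.Lib.Helper57.EtPushExact
import Groth.Agent.S14451

set_option autoImplicit false
open CategoryTheory CategoryTheory.Limits AlgebraicGeometry Opposite
universe u
open EtCore

namespace Groth.Agent.S0642

open Abelian in
theorem Hpull_eq {X₀ X : Scheme.{u}} (i : X₀ ⟶ X) [PreservesFiniteLimits (EtCoh.pull i)]
    (F : EtCoh.Ab X) (q : ℕ) (x : EtCoh.H X F q) :
    EtCore.Hpull i F q x =
      EtLim.HofPush i ((EtCoh.pull i).obj F) q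
        (x.comp (Ext.mk₀ ((EtCoh.pullPushAdj i).unit.app F)) (add_zero q)) := by
  rw [Groth.Agent.S14451.T_apply, Ext.mapExactFunctor_comp, Ext.mapExactFunctor_mk₀]
  rw [Ext.comp_assoc_of_third_deg_zero, Ext.comp_assoc_of_third_deg_zero, Ext.mk₀_comp_mk₀]
  have h := (EtCoh.pullPushAdj i).left_triangle_components F
  rw [h, Ext.comp_mk₀_id]
  rfl

/-- Let X_0 -> X be integral, universally injective and surjective (a universal homeomorphism). Then for
every abelian sheaf F on the small etale site of X and every q the pullback map from H^q(X, F) to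
H^q(X_0, F|_{X_0}) is bijective. (Exactness of pullback of abelian sheaves, which always holds, is
carried as an instance hypothesis.) -/
theorem result {X₀ X : Scheme.{u}} (i : X₀ ⟶ X) [IsIntegralHom i]
    [UniversallyInjective i] [Surjective i] [PreservesFiniteLimits (EtCoh.pull i)] (F : EtCoh.Ab X) (q : ℕ) :
    Function.Bijective (EtCore.Hpull i F q) := by
  have hsupp : EtPBC.supp F ⊆ Set.range i.base := by
    intro x _
    exact i.surjective x
  have hunit : IsIso ((EtCoh.pullPushAdj i).unit.app F) :=
    Groth.Agent.Lib.Helper57.IntStalk.isIso_unit_of_supp i F hsupp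
  have hpush : Function.Bijective (EtLim.HofPush i ((EtCoh.pull i).obj F) q) :=
    Groth.Agent.S14451.result i _
      (fun q hq => Groth.Agent.Lib.Helper57.EtPushExact.isZero_Rpush i _ q hq) q
  have hcomp : Function.Bijective
      (fun x : EtCoh.H X F q =>
        x.comp (Abelian.Ext.mk₀ ((EtCoh.pullPushAdj i).unit.app F)) (add_zero q)) := by
    refine Function.bijective_iff_has_inverse.mpr
      ⟨fun y => y.comp (Abelian.Ext.mk₀ (inv ((EtCoh.pullPushAdj i).unit.app F))) (add_zero q),
        fun x => ?_, fun y => ?_⟩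
    · show (x.comp _ _).comp _ _ = x
      rw [Abelian.Ext.comp_assoc_of_third_deg_zero, Abelian.Ext.mk₀_comp_mk₀, IsIso.hom_inv_id,
        Abelian.Ext.comp_mk₀_id]
    · show (y.comp _ _).comp _ _ = y
      rw [Abelian.Ext.comp_assoc_of_third_deg_zero, Abelian.Ext.mk₀_comp_mk₀, IsIso.inv_hom_id,
        Abelian.Ext.comp_mk₀_id]
  have heq : ⇑(EtCore.Hpull i F q) = (EtLim.HofPush i ((EtCoh.pull i).obj F) q) ∘
      (fun x : EtCoh.H X F q =>
        x.comp (Abelian.Ext.mk₀ ((EtCoh.pullPushAdj i).unit.app F)) (add_zero q)) := by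
    funext x
    exact Hpull_eq i F q x
  rw [heq]
  exact hpush.comp hcomp

end Groth.Agent.S0642
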