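import Groth.Statements.S0455
import Groth.Agent.Lib.Helper28.CechTop2
import Groth.Agent.Lib.Helper53.Flasque

set_option autoImplicit false
universe u
open CategoryTheory
open CohTop

namespace Groth.Agent.S0455

open Groth.Agent.Lib.Helper28 Opposite CategoryTheory.Limits Simplicial TopologicalSpace
open Groth.Agent.Lib.Helper53

lemma surjective_g {X : TopCat.{u}} {S : ShortComplex (CohTop.Ab X)} (hS : S.ShortExact)
    [TopCat.Sheaf.IsFlasque S.X₁] (U : Opens X) : Function.Surjective (S.g.hom.app (op U)) := by
  have hepi : Epi (S.g.hom.app (op U)) := TopCat.Sheaf.IsFlasque.epi_of_shortExact hS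
  exact (AddCommGrpCat.epi_iff_surjective _).mp hepi

lemma aux {X : TopCat.{u}} {ι : Type u} (W : ι → Opens X) (p : ℕ) :
    ∀ (F : CohTop.Ab X) [TopCat.Sheaf.IsFlasque F], IsZero (CohTop.cechH F.obj W (p + 1)) := by
  induction p with
  | zero =>
    intro F _
    exact CechTop.isZero_cechH_one_X₁ (injSeq_shortExact F) W
      (surjective_g (injSeq_shortExact F) _)
      (CechTop.isZero_cechH_of_injective (injSeq F).X₂ W 0)
  | succ p ih =>
    intro F _
    exact CechTop.isZero_cechH_X₁ (injSeq_shortExact F) W p
      (fun i => surjective_g (injSeq_shortExact F) _)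
      (CechTop.isZero_cechH_of_injective (injSeq F).X₂ W (p + 1))
      (ih (injSeq F).X₃)

open TopologicalSpace CategoryTheory.Limits in

/-- If F is a flasque abelian sheaf on X, then for any family of opens the Cech cohomology groups of F
in positive degree are zero. -/
theorem result {X : TopCat.{u}} (F : CohTop.Ab X) [TopCat.Sheaf.IsFlasque F]
    {ι : Type u} (U : ι → Opens X) (p : ℕ) : IsZero (CohTop.cechH F.obj U (p + 1)) := by
  exact aux U p F

end Groth.Agent.S0455
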