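import Groth.Statements.S0671
import Groth.Agent.Lib.Helper4.EtStalk
import Mathlib.AlgebraicGeometry.Morphisms.UniversallyOpen
import Mathlib.AlgebraicGeometry.Morphisms.Etale

set_option autoImplicit false
open CategoryTheory CategoryTheory.Limits AlgebraicGeometry Opposite
universe u
open EtCore

namespace Groth.Agent.S0671

instance presFilt : PreservesFilteredColimitsOfSize.{u, u} (forget AddCommGrpCat.{u + 1}) :=
  preservesFilteredColimitsOfSize_shrink.{u, u + 1, u, u + 1} (forget AddCommGrpCat.{u + 1})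

theorem isClosed_sectSupp {S : Scheme.{u}} (F : EtCoh.Ab S) (U : S.Etale) (σ : EtCoh.sect F U) :
    IsClosed (EtShriek.sectSupp F U σ) := by
  rw [← isOpen_compl_iff, isOpen_iff_forall_mem_open]
  intro x hx
  simp only [EtShriek.sectSupp, Set.mem_compl_iff, Set.mem_ofPred_eq, not_forall, not_not] at hx
  obtain ⟨W, g, ⟨w, hw⟩, h0⟩ := hx
  have : Etale g.left := inferInstance
  refine ⟨Set.range g.left.base, ?_, g.left.isOpenMap.isOpen_range, ⟨w, hw⟩⟩
  rintro _ ⟨w', rfl⟩
  simp only [EtShriek.sectSupp, Set.mem_compl_iff, Set.mem_ofPred_eq, not_forall, not_not]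
  exact ⟨W, g, ⟨w', rfl⟩, h0⟩

theorem germ_eq_zero_iff {S : Scheme.{u}} (F : EtCoh.Ab S) {Ω : Type u} [Field Ω] [IsSepClosed Ω]
    (ξ : Spec (CommRingCat.of Ω) ⟶ S) (V : S.Etale) (v : (Scheme.pointSmallEtale ξ).fiber.obj V)
    (σ : EtCoh.sect F V) :
    (Scheme.pointSmallEtale ξ).toPresheafFiber V v F.obj σ = 0 ↔
      ∃ (W : S.Etale) (g : W ⟶ V) (w : (Scheme.pointSmallEtale ξ).fiber.obj W),
        (Scheme.pointSmallEtale ξ).fiber.map g w = v ∧ F.obj.map g.op σ = 0 := by
  have h := (Scheme.pointSmallEtale ξ).toPresheafFiber_eq_iff' (P := F.obj) V v σ 0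
  simp only [map_zero] at h
  exact h

theorem supp_subset {S : Scheme.{u}} (F : EtCoh.Ab S) :
    EtPBC.supp F ⊆ ⋃ (U : S.Etale) (σ : EtCoh.sect F U), U.hom.base '' EtShriek.sectSupp F U σ := by
  rintro x ⟨Ω, _, _, ξ, hξ, hnz⟩
  let pt : ↥(Spec (CommRingCat.of Ω)) := default
  have hne : ∃ p : ((Scheme.pointSmallEtale ξ).presheafFiber.obj F.obj : AddCommGrpCat.{u + 1}),
      p ≠ 0 := by
    by_contra hcon
    push Not at hcon
    apply hnz
    have : Subsingleton
        ((Scheme.pointSmallEtale ξ).presheafFiber.obj F.obj : AddCommGrpCat.{u + 1}) :=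
      ⟨fun a b => (hcon a).trans (hcon b).symm⟩
    change IsZero ((Scheme.pointSmallEtale ξ).presheafFiber.obj F.obj)
    exact AddCommGrpCat.isZero_of_subsingleton _
  obtain ⟨p, hp⟩ := hne
  obtain ⟨V, v, σ, rfl⟩ := (Scheme.pointSmallEtale ξ).toPresheafFiber_jointly_surjective
    (P := F.obj) p
  let v' : Over.mk ξ ⟶ (Scheme.Etale.forget S).obj V := v
  have hv' : v'.left ≫ V.hom = ξ := Over.w v'
  refine Set.mem_iUnion.2 ⟨V, Set.mem_iUnion.2 ⟨σ, v'.left.base pt, ?_, ?_⟩⟩
  · intro W g hw h0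
    obtain ⟨w, hw⟩ := hw
    obtain ⟨l, hl1, hl2⟩ := Scheme.exists_fac_of_etale_of_isSepClosed g.left v'.left w hw
    apply hp
    refine (germ_eq_zero_iff F ξ V v σ).2 ⟨W, g, (Over.homMk l (by
      have hg : g.left ≫ V.hom = W.hom := MorphismProperty.Over.w g
      exact ((congrArg (l ≫ ·) hg.symm).trans ((Category.assoc _ _ _).symm.trans
        ((congrArg (· ≫ V.hom) hl1).trans hv')))) : Over.mk ξ ⟶ (Scheme.Etale.forget S).obj W), ?_, h0⟩
    exact Over.OverMorphism.ext hl1
  · have : V.hom.base (v'.left.base pt) = ξ.base pt :=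
      congrArg (fun (f : Spec (CommRingCat.of Ω) ⟶ S) => f.base pt) hv'
    rw [this]
    have h2 : ξ.base pt ∈ Set.range ξ := ⟨pt, rfl⟩
    rw [hξ] at h2
    exact h2

theorem subset_supp {S : Scheme.{u}} (F : EtCoh.Ab S) :
    (⋃ (U : S.Etale) (σ : EtCoh.sect F U), U.hom.base '' EtShriek.sectSupp F U σ) ⊆
      EtPBC.supp F := by
  intro x hx
  obtain ⟨U, hx⟩ := Set.mem_iUnion.1 hx
  obtain ⟨σ, y, hy, rfl⟩ := Set.mem_iUnion.1 hx
  let Ω := SeparableClosure (U.left.residueField y)
  let v : Spec (CommRingCat.of Ω) ⟶ U.left :=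
    Spec.map (CommRingCat.ofHom (algebraMap (U.left.residueField y) Ω)) ≫
      U.left.fromSpecResidueField y
  let pt : ↥(Spec (CommRingCat.of Ω)) := default
  have hv : v.base pt = y := by
    change (U.left.fromSpecResidueField y).base _ = y
    exact Scheme.fromSpecResidueField_apply _ _
  let ξ : Spec (CommRingCat.of Ω) ⟶ S := v ≫ U.hom
  refine ⟨Ω, inferInstance, inferInstance, ξ, ?_, ?_⟩
  · ext z
    constructor
    · rintro ⟨a, rfl⟩
      rw [Subsingleton.elim a pt]
      change U.hom.base (v.base pt) = _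
      rw [hv]
    · intro hz
      refine ⟨pt, ?_⟩
      rw [hz]
      change U.hom.base (v.base pt) = _
      rw [hv]
  · intro hz
    let v' : (Scheme.pointSmallEtale ξ).fiber.obj U :=
      (Over.homMk v rfl : Over.mk ξ ⟶ (Scheme.Etale.forget S).obj U)
    have h0 : (Scheme.pointSmallEtale ξ).toPresheafFiber U v' F.obj σ = 0 := by
      have hz' : IsZero ((Scheme.pointSmallEtale ξ).presheafFiber.obj F.obj) := hz
      have := AddCommGrpCat.subsingleton_of_isZero hz'
      exact Subsingleton.elim _ _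
    obtain ⟨W, g, w, hw, hσ⟩ := (germ_eq_zero_iff F ξ U v' σ).1 h0
    let w' : Over.mk ξ ⟶ (Scheme.Etale.forget S).obj W := w
    refine hy W g ⟨w'.left.base pt, ?_⟩ hσ
    have h1 : w'.left ≫ g.left = v := congrArg (fun k => CommaMorphism.left k) hw
    exact (congrArg (fun (f : Spec (CommRingCat.of Ω) ⟶ U.left) => f.base pt) h1).trans hv


/-- For an abelian sheaf F on the small etale site of S and a section σ over an etale S-scheme U, the
support of σ is a closed subset of U; and a point of S has a nonzero geometric stalk exactly when it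
is the image of a point lying in the support of some section over some etale S-scheme. -/
theorem result {S : Scheme.{u}} (F : EtCoh.Ab S) :
    (∀ (U : S.Etale) (σ : EtCoh.sect F U), IsClosed (EtShriek.sectSupp F U σ)) ∧
    EtPBC.supp F = ⋃ (U : S.Etale) (σ : EtCoh.sect F U), U.hom.base '' EtShriek.sectSupp F U σ :=
  ⟨isClosed_sectSupp F, (supp_subset F).antisymm (subset_supp F)⟩

end Groth.Agent.S0671
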