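import Groth.Statements.S0102
import Groth.Agent.S0671

set_option autoImplicit false
open CategoryTheory CategoryTheory.Limits AlgebraicGeometry Opposite
universe u
open EtBase

namespace Groth.Agent.S0102

theorem mem_of_forall_exists {S : Scheme.{u}} (V : S.Etale) (R : Sieve V)
    (h : ∀ x : V.left, ∃ (T : S.Etale) (g : T ⟶ V) (t : T.left), R g ∧ g.left.base t = x) :
    R ∈ S.smallEtaleTopology V := by
  have eX : S.smallEtaleTopology =
      (S.smallPretopology (P := EtCoh.etaleMP) (Q := EtCoh.etaleMP)).toGrothendieck :=
    Scheme.smallGrothendieckTopology_eq_toGrothendieck_smallPretopology S le_rfl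
  rw [eX]
  refine (Scheme.mem_toGrothendieck_smallPretopology V R).2 ?_
  intro x
  obtain ⟨T, g, t, hg, ht⟩ := h x
  exact ⟨T, g, t, hg, inferInstance, ht⟩


/-- A section of an abelian étale sheaf over an étale scheme U vanishes on pullback to an étale V → U
exactly when V maps into a certain largest open subset of U. -/
theorem result {S : Scheme.{u}} (F : EtCoh.Ab S) (U : S.Etale) (σ : EtCoh.sect F U) :
    ∃ W : U.left.Opens, ∀ (V : S.Etale) (φ : V ⟶ U),
      F.obj.map φ.op σ = 0 ↔ Set.range φ.left.base ⊆ (W : Set U.left) := by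
  refine ⟨⟨(EtShriek.sectSupp F U σ)ᶜ, (Groth.Agent.S0671.isClosed_sectSupp F U σ).isOpen_compl⟩, ?_⟩
  intro V φ
  constructor
  · rintro h0 _ ⟨v, rfl⟩
    intro hv
    exact hv V φ ⟨v, rfl⟩ h0
  · intro hsub
    have hsep := Sheaf.isSeparated F
    let R : Sieve V :=
      { arrows := fun T g => F.obj.map (g ≫ φ).op σ = 0
        downward_closed := by
          intro T T' g hg k
          rw [Category.assoc, op_comp, Functor.map_comp]
          change F.obj.map k.op (F.obj.map (g ≫ φ).op σ) = 0
          rw [hg, map_zero] }
    have hR : R ∈ S.smallEtaleTopology V := by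
      apply mem_of_forall_exists
      intro x
      have hx : φ.left.base x ∉ EtShriek.sectSupp F U σ := hsub ⟨x, rfl⟩
      simp only [EtShriek.sectSupp, Set.mem_ofPred_eq, not_forall, not_not] at hx
      obtain ⟨W', g, ⟨w, hw⟩, h0⟩ := hx
      have : Etale φ.left := inferInstance
      have : Etale g.left := inferInstance
      have : Etale V.hom := V.prop
      let T : S.Etale := Scheme.Etale.mk (pullback.fst φ.left g.left ≫ V.hom)
      let k : T ⟶ V := MorphismProperty.Over.homMk (pullback.fst φ.left g.left) rfl
      have hφ : φ.left ≫ U.hom = V.hom := MorphismProperty.Over.w φ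
      have hg : g.left ≫ U.hom = W'.hom := MorphismProperty.Over.w g
      let k' : T ⟶ W' := MorphismProperty.Over.homMk (pullback.snd φ.left g.left) (by
        change pullback.snd φ.left g.left ≫ W'.hom = pullback.fst φ.left g.left ≫ V.hom
        rw [← hg, ← hφ, ← Category.assoc, ← Category.assoc, pullback.condition])
      have hk : k ≫ φ = k' ≫ g := by
        apply MorphismProperty.Over.Hom.ext
        exact pullback.condition
      obtain ⟨z, hz1, hz2⟩ := Scheme.Pullback.exists_preimage_pullback (f := φ.left) (g := g.left)
        x w hw.symm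
      refine ⟨T, k, z, ?_, hz1⟩
      change F.obj.map (k ≫ φ).op σ = 0
      rw [hk, op_comp, Functor.map_comp]
      change F.obj.map k'.op (F.obj.map g.op σ) = 0
      rw [h0, map_zero]
    refine hsep V R hR _ _ ?_
    intro T g hg
    rw [map_zero]
    have : F.obj.map g.op (F.obj.map φ.op σ) = F.obj.map (g ≫ φ).op σ := by
      rw [op_comp, Functor.map_comp]
      rfl
    rw [this]
    exact hg

end Groth.Agent.S0102
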