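import Groth.Statements.S6658
import Groth.Agent.Lib.Helper4.LocCoh

set_option autoImplicit false
universe u
open CategoryTheory CategoryTheory.Limits AlgebraicGeometry Opposite
open EtDual

namespace Groth.Agent.S6658
open Groth.Agent.Lib.Helper4

variable {X U : Scheme.{u}} (j : U ⟶ X) [IsOpenImmersion j]

noncomputable abbrev Ψ : EtCoh.Ab X ⥤ EtCoh.Ab X := EtCoh.pull j ⋙ EtCoh.push j

noncomputable def v (S : ShortComplex (EtCoh.Ab X)) : S ⟶ S.map (Ψ j) where
  τ₁ := EtDual.unitApp j S.X₁
  τ₂ := EtDual.unitApp j S.X₂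
  τ₃ := EtDual.unitApp j S.X₃
  comm₁₂ := ((EtCoh.pullPushAdj j).unit.naturality S.f).symm
  comm₂₃ := ((EtCoh.pullPushAdj j).unit.naturality S.g).symm

instance : PreservesFiniteLimits (EtDual.secSupp j) := LocCoh.preservesFiniteLimits_secSupp j

noncomputable def part1 (F : EtCoh.Ab X) :
    cokernel (EtDual.unitApp j F) ≅ (EtDual.locCoh j 1).obj F := by
  have hS := FlasquePush.injSC_shortExact F
  have := hS.mono_f
  have := hS.epi_g
  have h₂ : ((FlasquePush.injSC F).map (Ψ j)).Exact :=
    hS.exact.map_of_mono_of_preservesKernel (Ψ j) hS.mono_f inferInstance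
  have hm : Mono ((FlasquePush.injSC F).map (Ψ j)).f := by
    change Mono ((Ψ j).map (FlasquePush.injSC F).f)
    infer_instance
  have he : Epi (v j (FlasquePush.injSC F)).τ₂ := LocCoh.epi_unitApp j (FlasquePush.injSC F).X₂
  exact (SnakeCoker.cokerKernelMapIso (v j (FlasquePush.injSC F)) hS.exact h₂).symm ≪≫
    (SnakeCoker.oneIso (EtDual.secSupp j) hS).symm


instance : PreservesFiniteLimits (EtCoh.push j) :=
  have : PreservesLimitsOfSize.{0, 0} (EtCoh.push j) :=
    (EtCoh.pullPushAdj j).rightAdjoint_preservesLimits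
  PreservesLimitsOfSize.preservesFiniteLimits _

theorem pulled_shortExact (F : EtCoh.Ab X) :
    ((FlasquePush.injSC F).map (EtCoh.pull j)).ShortExact := by
  have : PreservesFiniteLimits (EtCoh.pull j) := EtStalk.preservesFiniteLimits_pull j
  exact (FlasquePush.injSC_shortExact F).map_of_exact (EtCoh.pull j)

instance (F : EtCoh.Ab X) : Injective ((FlasquePush.injSC F).map (EtCoh.pull j)).X₂ :=
  InjPull.injective_pull j (FlasquePush.injSC F).X₂

noncomputable def cokerIso (F : EtCoh.Ab X) :
    cokernel ((EtCoh.push j).map ((EtCoh.pull j).map (FlasquePush.injSC F).g)) ≅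
      cokernel (EtDual.unitApp j (FlasquePush.injSC F).X₃) := by
  have hS := FlasquePush.injSC_shortExact F
  have := hS.epi_g
  have := LocCoh.epi_unitApp j (FlasquePush.injSC F).X₂
  have hnat : (FlasquePush.injSC F).g ≫ EtDual.unitApp j (FlasquePush.injSC F).X₃ =
      EtDual.unitApp j (FlasquePush.injSC F).X₂ ≫
        (EtCoh.push j).map ((EtCoh.pull j).map (FlasquePush.injSC F).g) :=
    (EtCoh.pullPushAdj j).unit.naturality (FlasquePush.injSC F).g
  exact (cokernelEpiComp (EtDual.unitApp j (FlasquePush.injSC F).X₂) _).symm ≪≫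
    cokernelIsoOfEq hnat.symm ≪≫ cokernelEpiComp (FlasquePush.injSC F).g _

theorem part2 (n : ℕ) : ∀ F : EtCoh.Ab X,
    Nonempty ((EtCoh.Rpush j (n + 1)).obj ((EtCoh.pull j).obj F) ≅
      (EtDual.locCoh j (n + 2)).obj F) := by
  induction n with
  | zero =>
    intro F
    have hS := FlasquePush.injSC_shortExact F
    have hS' := pulled_shortExact j F
    exact ⟨SnakeCoker.oneIso (EtCoh.push j) hS' ≪≫ cokerIso j F ≪≫
      part1 j (FlasquePush.injSC F).X₃ ≪≫ SnakeCoker.succIso (EtDual.secSupp j) hS 0⟩
  | succ n ih =>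
    intro F
    have hS := FlasquePush.injSC_shortExact F
    have hS' := pulled_shortExact j F
    obtain ⟨e⟩ := ih (FlasquePush.injSC F).X₃
    exact ⟨(SnakeCoker.succIso (EtCoh.push j) hS' n).symm ≪≫ e ≪≫
      SnakeCoker.succIso (EtDual.secSupp j) hS (n + 1)⟩


/-- The exact sequence and the isomorphisms: let j : U → X be an open immersion of schemes with closed
complement Z and F an abelian sheaf on the small etale site of X. Write H^q_Z(F) for the q-th local
cohomology sheaf of F with support in Z, kept as a sheaf on X (the q-th right derived functor of G ↦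
ker(G → j_* j⁻¹ G)). Then the cokernel of the unit F → j_* j⁻¹ F is isomorphic to H^1_Z(F), and for
every p ≥ 1 the higher direct image R^p j_* (j⁻¹ F) is isomorphic to H^{p+1}_Z(F). (The published
statement also gives the distinguished triangle behind these isomorphisms and identifies them with
its connecting maps; this row asserts only that isomorphisms exist.) -/
theorem result {X U : Scheme.{u}} (j : U ⟶ X) [IsOpenImmersion j]
    (F : EtCoh.Ab X) :
    Nonempty (cokernel (EtDual.unitApp j F) ≅ (EtDual.locCoh j 1).obj F) ∧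
      ∀ p : ℕ, 1 ≤ p →
        Nonempty ((EtCoh.Rpush j p).obj ((EtCoh.pull j).obj F) ≅ (EtDual.locCoh j (p + 1)).obj F) := by
  refine ⟨⟨part1 j F⟩, ?_⟩
  intro p hp
  obtain ⟨n, rfl⟩ : ∃ n, p = n + 1 := ⟨p - 1, by omega⟩
  exact part2 j n F

end Groth.Agent.S6658
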