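import Groth.Statements.S0124
import Groth.Agent.Lib.Helper28.EtTors

set_option autoImplicit false
universe u
open CategoryTheory CategoryTheory.Limits AlgebraicGeometry Opposite
open EtPBC

namespace Groth.Agent.S0124

open Groth.Agent.Lib.Helper28

/-- The nonzero integers as a submonoid of `ℤ`. -/
def nz : Submonoid ℤ where
  carrier := {a | a ≠ 0}
  one_mem' := one_ne_zero
  mul_mem' := fun ha hb => mul_ne_zero ha hb

lemma zero_notMem_nz : (0 : ℤ) ∉ nz := fun h => h rfl

lemma locKilled_of_isTorsion {X : Scheme.{u}} {F : EtCoh.Ab X} (hF : EtCoh.IsTorsion F) :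
    EtTors.LocKilled nz F := by
  intro U s x
  obtain ⟨V, g, hv, h⟩ := hF U s x
  obtain ⟨n, hn, hn0⟩ := h.exists_nsmul_eq_zero
  refine ⟨V, g, hv, (n : ℤ), ?_, ?_⟩
  · exact Int.natCast_ne_zero.2 hn.ne'
  · rw [natCast_zsmul]
    exact hn0

/-- Part (1): if X is quasi-compact and quasi-separated and F is a torsion abelian sheaf on X_et, then
H^n(X_et, F) is a torsion abelian group for every n. -/
theorem result (X : Scheme.{u}) [CompactSpace X] [QuasiSeparatedSpace X]
    (F : EtCoh.Ab X) (hF : EtCoh.IsTorsion F) (n : ℕ) :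
    IsAddTorsion (EtCoh.H X F n) := by
  have hadd : (EtCoh.HF X n).Additive := by
    unfold EtCoh.HF
    infer_instance
  have := EtColim.preservesColimit_HF X (Groth.Agent.S19975.D.{u} zero_notMem_nz F) n
  intro (x : (EtCoh.HF X n).obj F)
  obtain ⟨a, ha, hax⟩ := EtTors.exists_smul_eq_zero_of_preserves zero_notMem_nz
    (locKilled_of_isTorsion hF) (EtCoh.HF X n) x
  exact isOfFinAddOrder_iff_zsmul_eq_zero.2 ⟨a, ha, hax⟩

end Groth.Agent.S0124
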