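import Groth.Statements.S6329
import Groth.Agent.Lib.Helper29.LengthFormula4

set_option autoImplicit false
universe u
open CAlg

namespace Groth.Agent.S6329

open Groth.Agent.Lib.Helper29.LengthFormula

theorem tele {n : ℕ} (f : Fin (n+1) → ℕ∞) (d : Fin n → ℕ∞)
    (h : ∀ i : Fin n, f i.succ = f i.castSucc + d i) : f (Fin.last n) = f 0 + ∑ i, d i := by
  induction n with
  | zero => simp
  | succ n ih =>
    have h1 := ih (fun i => f i.castSucc) (fun i => d i.castSucc) (fun i => by
      have := h i.castSucc
      rw [Fin.succ_castSucc] at this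
      exact this)
    rw [Fin.sum_univ_castSucc, ← add_assoc]
    have h2 := h (Fin.last n)
    rw [Fin.succ_last] at h2
    rw [h2]
    congr 1

theorem lam_step {R : Type u} [CommRing R] {M : Type u} [AddCommGroup M] [Module R M]
    (N₁ N₂ : Submodule R M) (h : N₁ ⋖ N₂) (m : Ideal R) [hm : m.IsMaximal] :
    lam ↥N₂ m = lam ↥N₁ m + (if N₁.colon (N₂ : Set M) = m then 1 else 0) := by
  classical
  have hle : N₁ ≤ N₂ := h.le
  have hs : IsSimpleModule R (↥N₂ ⧸ Submodule.comap N₂.subtype N₁) :=
    (covBy_iff_quot_is_simple hle).mp h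
  rw [lam_add (Submodule.inclusion hle) (Submodule.comap N₂.subtype N₁).mkQ
    (Submodule.inclusion_injective hle) (Submodule.mkQ_surjective _)
    (by
      rw [LinearMap.exact_iff, Submodule.ker_mkQ, Submodule.range_inclusion]) m]
  congr 1
  obtain ⟨I, hI, ⟨e⟩⟩ := isSimpleModule_iff_quot_maximal.mp hs
  rw [lam_congr e m]
  have hcol : N₁.colon (N₂ : Set M) = I := by
    have h1 : Module.annihilator R (↥N₂ ⧸ Submodule.comap N₂.subtype N₁) = I := by
      rw [e.annihilator_eq, Ideal.annihilator_quotient]
    rw [← h1]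
    ext r
    rw [Submodule.mem_colon, Module.mem_annihilator]
    constructor
    · intro hr q
      obtain ⟨x, rfl⟩ := Submodule.mkQ_surjective _ q
      rw [← map_smul, Submodule.mkQ_apply, Submodule.Quotient.mk_eq_zero, Submodule.mem_comap]
      exact hr x.1 x.2
    · intro hr x hx
      have := hr ((Submodule.comap N₂.subtype N₁).mkQ ⟨x, hx⟩)
      rw [← map_smul, Submodule.mkQ_apply, Submodule.Quotient.mk_eq_zero, Submodule.mem_comap] at this
      exact this
  rw [hcol]
  by_cases hIm : I = m
  · subst hIm
    rw [if_pos rfl]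
    exact lam_quotient_self I
  · rw [if_neg hIm]
    apply lam_quotient_of_not_le
    intro hle'
    exact hIm (hI.eq_of_le hm.ne_top hle')


/-- Let R be a ring, M an R-module and 0 = M₀ ⊂ M₁ ⊂ … ⊂ Mₙ = M a maximal chain of submodules (a
composition series; each Mᵢ/Mᵢ₋₁ is simple, of the form R/mᵢ with mᵢ = (Mᵢ₋₁ : Mᵢ) maximal). Then
for every maximal ideal m of R the number of indices i with mᵢ = m equals length_{R_m}(M_m). -/
theorem result {R : Type u} [CommRing R] (M : Type u) [AddCommGroup M] [Module R M] (s : CompositionSeries (Submodule R M)) (h0 : s.head = ⊥) (h1 : s.last = ⊤) (m : Ideal R) [m.IsMaximal] : ((Finset.univ.filter fun i : Fin s.length => (s i.castSucc).colon (s i.succ : Set M) = m).card : ℕ∞) = Module.length (Localization.AtPrime m) (LocalizedModule m.primeCompl M) := by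
  classical
  have hm : m.IsMaximal := inferInstance
  have key := tele (fun i => lam ↥(s i) m)
    (fun i => if (s i.castSucc).colon (s i.succ : Set M) = m then 1 else 0)
    (fun i => lam_step _ _ (s.step i) m)
  have hhead : lam ↥(s 0) m = 0 := by
    apply lam_eq_zero_of_smul_eq_zero _ m 1 (fun h => hm.ne_top ((Ideal.eq_top_iff_one m).mpr h))
    intro x
    have hx : (x : M) ∈ (⊥ : Submodule R M) := h0 ▸ x.2
    rw [one_smul]
    ext
    exact (Submodule.mem_bot R).mp hx
  have hlast : lam ↥(s (Fin.last s.length)) m = lam M m := by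
    have : s (Fin.last s.length) = ⊤ := h1
    rw [this]
    exact lam_congr Submodule.topEquiv m
  simp only [hhead, hlast, zero_add] at key
  rw [← lam_of_isPrime, key, Finset.card_filter, Nat.cast_sum]
  apply Finset.sum_congr rfl
  intro i _
  split_ifs <;> simp

end Groth.Agent.S6329
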