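import Groth.Statements.S6320
import Groth.Agent.S6329

set_option autoImplicit false
universe u
open CAlg

namespace Groth.Agent.S6320

open Groth.Agent.Lib.Helper29.LengthFormula

theorem exists_maximal_of_covBy {R : Type u} [CommRing R] {M : Type u} [AddCommGroup M] [Module R M]
    (N₁ N₂ : Submodule R M) (h : N₁ ⋖ N₂) :
    (N₁.colon (N₂ : Set M)).IsMaximal ∧
      Nonempty ((↥N₂ ⧸ Submodule.comap N₂.subtype N₁) ≃ₗ[R] R ⧸ N₁.colon (N₂ : Set M)) := by
  have hle : N₁ ≤ N₂ := h.le
  have hs : IsSimpleModule R (↥N₂ ⧸ Submodule.comap N₂.subtype N₁) :=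
    (covBy_iff_quot_is_simple hle).mp h
  obtain ⟨I, hI, ⟨e⟩⟩ := isSimpleModule_iff_quot_maximal.mp hs
  have hcol : N₁.colon (N₂ : Set M) = I := by
    have h1 : Module.annihilator R (↥N₂ ⧸ Submodule.comap N₂.subtype N₁) = I := by
      rw [e.annihilator_eq, Ideal.annihilator_quotient]
    rw [← h1]
    ext r
    rw [Submodule.mem_colon, Module.mem_annihilator]
    constructor
    · intro hr q
      obtain ⟨x, rfl⟩ := Submodule.mkQ_surjective _ q
      rw [← map_smul, Submodule.mkQ_apply, Submodule.Quotient.mk_eq_zero, Submodule.mem_comap]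
      exact hr x.1 x.2
    · intro hr x hx
      have := hr ((Submodule.comap N₂.subtype N₁).mkQ ⟨x, hx⟩)
      rw [← map_smul, Submodule.mkQ_apply, Submodule.Quotient.mk_eq_zero, Submodule.mem_comap] at this
      exact this
  rw [hcol]
  exact ⟨hI, ⟨e⟩⟩

theorem length_quotient_eq_finrank {A B : Type u} [CommRing A] [CommRing B] [Algebra A B]
    (I : Ideal B) [hmax : (I.comap (algebraMap A B)).IsMaximal]
    [Module.Finite (A ⧸ I.comap (algebraMap A B)) (B ⧸ I)] :
    Module.length A (B ⧸ I) = (Module.finrank (A ⧸ I.comap (algebraMap A B)) (B ⧸ I) : ℕ∞) := by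
  letI : Field (A ⧸ I.comap (algebraMap A B)) := Ideal.Quotient.field _
  rw [Module.length_eq_of_surjective (S := A) (R := A ⧸ I.comap (algebraMap A B)) (M := B ⧸ I)
    Ideal.Quotient.mk_surjective]
  exact Module.length_eq_finrank _ _

theorem length_step {A B : Type u} [CommRing A] [IsLocalRing A] [CommRing B] [Algebra A B]
    (hover : ∀ n : MaximalSpectrum B, n.asIdeal.comap (algebraMap A B) = IsLocalRing.maximalIdeal A)
    (hfin : ∀ n : MaximalSpectrum B,
      Module.Finite (A ⧸ n.asIdeal.comap (algebraMap A B)) (B ⧸ n.asIdeal))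
    {M : Type u} [AddCommGroup M] [Module B M] [Module A M] [IsScalarTower A B M]
    (N₁ N₂ : Submodule B M) (h : N₁ ⋖ N₂) :
    Module.length A ↥N₂ = Module.length A ↥N₁ +
      (Module.finrank (A ⧸ (N₁.colon (N₂ : Set M)).comap (algebraMap A B))
        (B ⧸ N₁.colon (N₂ : Set M)) : ℕ∞) := by
  obtain ⟨hmax, ⟨e⟩⟩ := exists_maximal_of_covBy N₁ N₂ h
  have hle : N₁ ≤ N₂ := h.le
  have hf : Function.Injective ((Submodule.inclusion hle).restrictScalars A) := by
    rw [LinearMap.coe_restrictScalars]
    exact Submodule.inclusion_injective hle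
  have hg : Function.Surjective ((Submodule.comap N₂.subtype N₁).mkQ.restrictScalars A) := by
    rw [LinearMap.coe_restrictScalars]
    exact Submodule.mkQ_surjective _
  have hex : Function.Exact ((Submodule.inclusion hle).restrictScalars A)
      ((Submodule.comap N₂.subtype N₁).mkQ.restrictScalars A) := by
    rw [LinearMap.coe_restrictScalars, LinearMap.coe_restrictScalars, LinearMap.exact_iff,
      Submodule.ker_mkQ, Submodule.range_inclusion]
  rw [Module.length_eq_add_of_exact _ _ hf hg hex]
  congr 1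
  rw [(e.restrictScalars A).length_eq]
  have h1 := hover ⟨_, hmax⟩
  have h2 := hfin ⟨_, hmax⟩
  simp only at h1 h2
  haveI : (Ideal.comap (algebraMap A B) (N₁.colon (N₂ : Set M))).IsMaximal := by
    rw [h1]; infer_instance
  exact length_quotient_eq_finrank _

theorem rhs_step {A B : Type u} [CommRing A] [CommRing B] [Algebra A B]
    [Fintype (MaximalSpectrum B)]
    {M : Type u} [AddCommGroup M] [Module B M]
    (N₁ N₂ : Submodule B M) (h : N₁ ⋖ N₂) :
    ∑ n : MaximalSpectrum B, (Module.finrank (A ⧸ n.asIdeal.comap (algebraMap A B)) (B ⧸ n.asIdeal) : ℕ∞)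
        * lam ↥N₂ n.asIdeal =
    ∑ n : MaximalSpectrum B, (Module.finrank (A ⧸ n.asIdeal.comap (algebraMap A B)) (B ⧸ n.asIdeal) : ℕ∞)
        * lam ↥N₁ n.asIdeal +
      (Module.finrank (A ⧸ (N₁.colon (N₂ : Set M)).comap (algebraMap A B))
        (B ⧸ N₁.colon (N₂ : Set M)) : ℕ∞) := by
  classical
  obtain ⟨hmax, -⟩ := exists_maximal_of_covBy N₁ N₂ h
  have : ∀ n : MaximalSpectrum B, lam ↥N₂ n.asIdeal = lam ↥N₁ n.asIdeal +
      (if N₁.colon (N₂ : Set M) = n.asIdeal then 1 else 0) := fun n =>
    haveI := n.isMaximal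
    Groth.Agent.S6329.lam_step N₁ N₂ h n.asIdeal
  simp only [this, mul_add, Finset.sum_add_distrib]
  congr 1
  rw [Finset.sum_eq_single (⟨_, hmax⟩ : MaximalSpectrum B)]
  · simp
  · intro n _ hn
    rw [if_neg, mul_zero]
    intro hh
    apply hn
    ext1
    exact hh.symm
  · intro hh
    exact absurd (Finset.mem_univ _) hh


/-- Let A be a local ring with maximal ideal m, B a semi-local ring with maximal ideals m₁, …, mₙ and A
→ B a ring map such that each mᵢ lies over m with [κ(mᵢ) : κ(m)] finite. Then for every B-module M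
of finite length, length_A(M) = Σᵢ [κ(mᵢ) : κ(m)] · length_{B_{mᵢ}}(M_{mᵢ}); in particular
length_A(M) is finite. -/
theorem result {A B : Type u} [CommRing A] [IsLocalRing A] [CommRing B] [Algebra A B] [Finite (MaximalSpectrum B)] (hover : ∀ n : MaximalSpectrum B, n.asIdeal.comap (algebraMap A B) = IsLocalRing.maximalIdeal A) (hfin : ∀ n : MaximalSpectrum B, Module.Finite (A ⧸ n.asIdeal.comap (algebraMap A B)) (B ⧸ n.asIdeal)) (M : Type u) [AddCommGroup M] [Module B M] [Module A M] [IsScalarTower A B M] (hM : IsFiniteLength B M) : Module.length A M = ∑ᶠ n : MaximalSpectrum B, (Module.finrank (A ⧸ n.asIdeal.comap (algebraMap A B)) (B ⧸ n.asIdeal) : ℕ∞) * Module.length (Localization.AtPrime n.asIdeal) (LocalizedModule n.asIdeal.primeCompl M) := by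
  classical
  obtain ⟨s, h0, h1⟩ := isFiniteLength_iff_exists_compositionSeries.mp hM
  haveI : Fintype (MaximalSpectrum B) := Fintype.ofFinite _
  rw [finsum_eq_sum_of_fintype]
  have keyL := Groth.Agent.S6329.tele (fun i => Module.length A ↥(s i))
    (fun i => (Module.finrank (A ⧸ ((s i.castSucc).colon (s i.succ : Set M)).comap (algebraMap A B))
        (B ⧸ (s i.castSucc).colon (s i.succ : Set M)) : ℕ∞))
    (fun i => length_step hover hfin _ _ (s.step i))
  have keyR := Groth.Agent.S6329.tele (fun i => ∑ n : MaximalSpectrum B,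
      (Module.finrank (A ⧸ n.asIdeal.comap (algebraMap A B)) (B ⧸ n.asIdeal) : ℕ∞)
        * lam ↥(s i) n.asIdeal)
    (fun i => (Module.finrank (A ⧸ ((s i.castSucc).colon (s i.succ : Set M)).comap (algebraMap A B))
        (B ⧸ (s i.castSucc).colon (s i.succ : Set M)) : ℕ∞))
    (fun i => rhs_step _ _ (s.step i))
  have hbot : s 0 = ⊥ := h0
  have htop : s (Fin.last s.length) = ⊤ := h1
  have hL0 : Module.length A ↥(s 0) = 0 := by
    rw [hbot]
    exact Module.length_eq_zero
  have hR0 : ∀ n : MaximalSpectrum B, lam ↥(s 0) n.asIdeal = 0 := by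
    intro n
    apply lam_eq_zero_of_smul_eq_zero _ n.asIdeal 1
      (fun h => n.isMaximal.ne_top ((Ideal.eq_top_iff_one _).mpr h))
    intro x
    have hx : (x : M) ∈ (⊥ : Submodule B M) := hbot ▸ x.2
    rw [one_smul]
    ext
    exact (Submodule.mem_bot B).mp hx
  have hLlast : Module.length A ↥(s (Fin.last s.length)) = Module.length A M := by
    rw [htop]
    exact ((Submodule.topEquiv (R := B) (M := M)).restrictScalars A).length_eq
  have hRlast : ∀ n : MaximalSpectrum B, lam ↥(s (Fin.last s.length)) n.asIdeal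
      = Module.length (Localization.AtPrime n.asIdeal) (LocalizedModule n.asIdeal.primeCompl M) := by
    intro n
    haveI := n.isMaximal
    rw [htop, ← lam_of_isPrime]
    exact lam_congr Submodule.topEquiv _
  simp only [hL0, hR0, hLlast, hRlast, zero_add, mul_zero, Finset.sum_const_zero] at keyL keyR
  rw [keyL, keyR]

end Groth.Agent.S6320
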