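import Groth.Statements.S14438
import Groth.Agent.S6320

set_option autoImplicit false
universe u
open CAlg

namespace Groth.Agent.S14438

open Groth.Agent.Lib.Helper29.LengthFormula

section
variable {A B : Type u} [CommRing A] [IsLocalRing A] [CommRing B] [Algebra A B] [Module.Finite A B]

theorem comap_eq_maximalIdeal (n : Ideal B) [n.IsMaximal] :
    n.comap (algebraMap A B) = IsLocalRing.maximalIdeal A := by
  haveI : Algebra.IsIntegral A B := inferInstance
  have := Ideal.isMaximal_comap_of_isIntegral_of_isMaximal (R := A) n
  exact IsLocalRing.eq_maximalIdeal this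

theorem map_le_of_isMaximal (n : Ideal B) [n.IsMaximal] :
    Ideal.map (algebraMap A B) (IsLocalRing.maximalIdeal A) ≤ n := by
  rw [Ideal.map_le_iff_le_comap, comap_eq_maximalIdeal n]

attribute [local instance] Ideal.Quotient.field in
theorem finite_maximalSpectrum_of_finite (A : Type u) {B : Type u} [CommRing A] [IsLocalRing A]
    [CommRing B] [Algebra A B] [Module.Finite A B] : Finite (MaximalSpectrum B) := by
  set I := Ideal.map (algebraMap A B) (IsLocalRing.maximalIdeal A) with hI
  haveI : Module.Finite (A ⧸ IsLocalRing.maximalIdeal A) (B ⧸ I) :=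
    Module.Finite.of_restrictScalars_finite A _ _
  haveI : IsArtinianRing (B ⧸ I) := IsArtinianRing.of_finite (A ⧸ IsLocalRing.maximalIdeal A) (B ⧸ I)
  have hker : ∀ n : MaximalSpectrum B, RingHom.ker (Ideal.Quotient.mk I) ≤ n.asIdeal := by
    intro n
    haveI := n.isMaximal
    rw [Ideal.mk_ker]
    exact map_le_of_isMaximal (A := A) n.asIdeal
  let f : MaximalSpectrum B → MaximalSpectrum (B ⧸ I) := fun n =>
    ⟨n.asIdeal.map (Ideal.Quotient.mk I),
      haveI := n.isMaximal
      Ideal.IsMaximal.map_of_surjective_of_ker_le Ideal.Quotient.mk_surjective (hker n)⟩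
  apply Finite.of_injective f
  intro n n' h
  have h1 : n.asIdeal.map (Ideal.Quotient.mk I) = n'.asIdeal.map (Ideal.Quotient.mk I) :=
    congrArg MaximalSpectrum.asIdeal h
  have h2 := congrArg (Ideal.comap (Ideal.Quotient.mk I)) h1
  rw [Ideal.comap_map_of_surjective _ Ideal.Quotient.mk_surjective,
    Ideal.comap_map_of_surjective _ Ideal.Quotient.mk_surjective,
    ← RingHom.ker_eq_comap_bot, sup_of_le_left (hker n), sup_of_le_left (hker n')] at h2
  ext1
  exact h2

attribute [local instance] Ideal.Quotient.field in
theorem length_quotient_map_eq [Module.Free A B] :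
    Module.length A (B ⧸ Ideal.map (algebraMap A B) (IsLocalRing.maximalIdeal A)) =
      (Module.finrank A B : ℕ∞) := by
  haveI : Module.Finite (A ⧸ IsLocalRing.maximalIdeal A)
      (B ⧸ Ideal.map (algebraMap A B) (IsLocalRing.maximalIdeal A)) :=
    Module.Finite.of_restrictScalars_finite A _ _
  rw [Module.length_eq_of_surjective (S := A) (R := A ⧸ IsLocalRing.maximalIdeal A)
    Ideal.Quotient.mk_surjective, Module.length_eq_finrank, IsLocalRing.finrank_quotient_map]

end


/-- Let (A, m) be a local ring, B a commutative A-algebra which is free of finite rank d as an A-module,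
and assume that for every maximal ideal n of B containing mB the induced map of residue fields A/m →
B/n is bijective (as for the points of a fibre of a finite flat morphism of varieties over an
algebraically closed field). Then the multiplicities of the points of the fibre add up to the
degree: the sum over all such n of the length of the B_n-module (B/mB)_n equals d. -/
theorem result (A B : Type u) [CommRing A] [IsLocalRing A] [CommRing B] [Algebra A B]
    [Module.Free A B] [Module.Finite A B] (d : ℕ) (hd : Module.finrank A B = d)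
    (hres : ∀ (n : Ideal B) [n.IsMaximal] (h : Ideal.map (algebraMap A B) (IsLocalRing.maximalIdeal A) ≤ n),
      Function.Bijective (Ideal.quotientMap n (algebraMap A B) (Ideal.map_le_iff_le_comap.mp h))) :
    finsum (fun n : {n : MaximalSpectrum B // Ideal.map (algebraMap A B) (IsLocalRing.maximalIdeal A) ≤ n.asIdeal} =>
      Module.length (Localization.AtPrime n.1.asIdeal)
        (LocalizedModule n.1.asIdeal.primeCompl (B ⧸ Ideal.map (algebraMap A B) (IsLocalRing.maximalIdeal A)))) = (d : ℕ∞) := by
  classical
  haveI : Finite (MaximalSpectrum B) := finite_maximalSpectrum_of_finite A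
  set I := Ideal.map (algebraMap A B) (IsLocalRing.maximalIdeal A) with hI
  have hall : ∀ n : MaximalSpectrum B, I ≤ n.asIdeal := fun n =>
    haveI := n.isMaximal
    map_le_of_isMaximal (A := A) n.asIdeal
  have hlen : Module.length A (B ⧸ I) = (d : ℕ∞) := by
    rw [hI, length_quotient_map_eq, hd]
  have hfl : IsFiniteLength B (B ⧸ I) := by
    have h1 : IsFiniteLength A (B ⧸ I) := by
      rw [← Module.length_ne_top_iff, hlen]
      exact ENat.coe_ne_top d
    rw [isFiniteLength_iff_isNoetherian_isArtinian] at h1 ⊢
    exact h1.imp (isNoetherian_of_tower A) (isArtinian_of_tower A)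
  have hover : ∀ n : MaximalSpectrum B,
      n.asIdeal.comap (algebraMap A B) = IsLocalRing.maximalIdeal A := fun n =>
    haveI := n.isMaximal
    comap_eq_maximalIdeal n.asIdeal
  have hfin : ∀ n : MaximalSpectrum B,
      Module.Finite (A ⧸ n.asIdeal.comap (algebraMap A B)) (B ⧸ n.asIdeal) := fun n =>
    Module.Finite.of_restrictScalars_finite A _ _
  have key := Groth.Agent.S6320.result hover hfin (B ⧸ I) hfl
  rw [hlen] at key
  rw [key]
  rw [← finsum_comp_equiv (Equiv.subtypeUnivEquiv hall)]
  apply finsum_congr
  intro n
  have h1 : Module.finrank (A ⧸ n.1.asIdeal.comap (algebraMap A B)) (B ⧸ n.1.asIdeal) = 1 := by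
    haveI := n.1.isMaximal
    have hb := hres n.1.asIdeal n.2
    have e : (A ⧸ n.1.asIdeal.comap (algebraMap A B)) ≃ₗ[A ⧸ n.1.asIdeal.comap (algebraMap A B)]
        (B ⧸ n.1.asIdeal) :=
      LinearEquiv.ofBijective (Algebra.linearMap _ _) (by
        change Function.Bijective (algebraMap _ _)
        refine ⟨Ideal.algebraMap_quotient_injective, ?_⟩
        intro y
        obtain ⟨x, rfl⟩ := hb.2 y
        obtain ⟨a, rfl⟩ := Ideal.Quotient.mk_surjective x
        exact ⟨Ideal.Quotient.mk _ a, rfl⟩)
    rw [← e.finrank_eq, Module.finrank_self]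
  change _ = ((Module.finrank (A ⧸ n.1.asIdeal.comap (algebraMap A B)) (B ⧸ n.1.asIdeal) : ℕ) : ℕ∞) *
    Module.length (Localization.AtPrime n.1.asIdeal) (LocalizedModule n.1.asIdeal.primeCompl (B ⧸ I))
  rw [h1, Nat.cast_one, one_mul]

end Groth.Agent.S14438
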