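import Groth.Statements.S1836
import Groth.Agent.Lib.Helper29.SemilocalBlowup
import Groth.Agent.S14438

set_option autoImplicit false
universe u
open CycAlg

namespace Groth.Agent.S1836

open Groth.Agent.Lib.Helper29.BlowupDimOne
open Groth.Agent.Lib.Helper29.SemilocalBlowup
open Groth.Agent.Lib.Helper29.LengthFormula
open scoped Pointwise

-- AUX BEGIN
section Aux

variable {A : Type u} [CommRing A] [IsNoetherianRing A] [IsLocalRing A]

/-- a common denominator for a finite subalgebra of the total ring of fractions -/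
theorem exists_conductor (B : Subalgebra A (FractionRing A)) [hfin : Module.Finite A B] :
    ∃ d : nonZeroDivisors A, ∀ y : B, ∃ z : A,
      algebraMap A (FractionRing A) z = (d : A) • (y : FractionRing A) := by
  classical
  obtain ⟨Gm, hGm⟩ := Module.finite_def.mp hfin
  obtain ⟨d, hd⟩ := IsLocalization.exist_integer_multiples_of_finset (nonZeroDivisors A)
    (Gm.image (Subtype.val : B → FractionRing A))
  refine ⟨d, fun y => ?_⟩
  have hy : y ∈ Submodule.span A (Gm : Set B) := hGm ▸ Submodule.mem_top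
  induction hy using Submodule.span_induction with
  | mem y hy =>
    obtain ⟨z, hz⟩ := hd (y : FractionRing A) (Finset.mem_image.mpr ⟨y, hy, rfl⟩)
    exact ⟨z, hz⟩
  | zero => exact ⟨0, by simp⟩
  | add y₁ y₂ _ _ h₁ h₂ =>
    obtain ⟨z₁, hz₁⟩ := h₁
    obtain ⟨z₂, hz₂⟩ := h₂
    refine ⟨z₁ + z₂, ?_⟩
    rw [map_add, hz₁, hz₂, Subalgebra.coe_add, smul_add]
  | smul x y _ h =>
    obtain ⟨z, hz⟩ := h
    refine ⟨x * z, ?_⟩
    rw [map_mul, hz, Subalgebra.coe_smul, smul_comm (d : A) x, Algebra.smul_def x]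

/-- multiplication by an element of `B` as an `A`-linear endomorphism of `B` -/
noncomputable abbrev mulL (B : Subalgebra A (FractionRing A)) (x : B) : B →ₗ[A] B :=
  LinearMap.mulLeft A x

theorem mulL_injective (B : Subalgebra A (FractionRing A)) (x : B)
    (hx : IsUnit (x : FractionRing A)) : Function.Injective (mulL B x) := by
  intro y z hyz
  apply Subtype.ext
  have := congrArg Subtype.val hyz
  simp only [mulL, LinearMap.mulLeft_apply, Subalgebra.coe_mul] at this
  exact hx.mul_right_injective this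

theorem length_quot_smul_ne_top (hA : ringKrullDim A = 1) (B : Subalgebra A (FractionRing A))
    [Module.Finite A B] (d : A) (hd : d ∈ nonZeroDivisors A) :
    Module.length A (B ⧸ (d • (⊤ : Submodule A B))) ≠ ⊤ := by
  haveI := Groth.Agent.Lib.Helper87.artinian_quot hA d hd
  exact (Groth.Agent.Lib.Helper87.length_quot_lt_top d B).ne

theorem length_quot_mulL_ne_top (hA : ringKrullDim A = 1) (B : Subalgebra A (FractionRing A))
    [Module.Finite A B] (x : B) (hx : IsUnit (x : FractionRing A)) :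
    Module.length A (B ⧸ LinearMap.range (mulL B x)) ≠ ⊤ := by
  obtain ⟨xinv, hxinv⟩ := hx.exists_right_inv
  obtain ⟨⟨p, d⟩, hpd⟩ := IsLocalization.surj (nonZeroDivisors A) xinv
  have hd : algebraMap A (FractionRing A) d = (x : FractionRing A) * algebraMap A (FractionRing A) p := by
    simp only at hpd
    rw [← hpd, ← mul_assoc, hxinv, one_mul]
  have hle : ((d : A) • (⊤ : Submodule A B)) ≤ LinearMap.range (mulL B x) := by
    intro y hy
    obtain ⟨b, -, rfl⟩ := (Submodule.mem_smul_pointwise_iff_exists _ _ _).mp hy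
    refine ⟨algebraMap A B p * b, ?_⟩
    apply Subtype.ext
    simp only [mulL, LinearMap.mulLeft_apply, Subalgebra.coe_mul, Subalgebra.coe_smul,
      Subalgebra.coe_algebraMap]
    rw [← mul_assoc, ← hd, Algebra.smul_def]
  exact ne_top_of_le_ne_top (length_quot_smul_ne_top hA B d d.2) (length_le_of_le hle)

theorem length_quot_inclusion_ne_top (hA : ringKrullDim A = 1)
    (B B₁ : Subalgebra A (FractionRing A)) [Module.Finite A B₁] (h : B ≤ B₁) :
    Module.length A (B₁ ⧸ LinearMap.range (Subalgebra.inclusion h).toLinearMap) ≠ ⊤ := by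
  obtain ⟨d, hd⟩ := exists_conductor B₁
  have hle : ((d : A) • (⊤ : Submodule A B₁)) ≤
      LinearMap.range (Subalgebra.inclusion h).toLinearMap := by
    intro y hy
    obtain ⟨b, -, rfl⟩ := (Submodule.mem_smul_pointwise_iff_exists _ _ _).mp hy
    obtain ⟨z, hz⟩ := hd b
    refine ⟨algebraMap A B z, ?_⟩
    apply Subtype.ext
    simp only [AlgHom.toLinearMap_apply, Subalgebra.coe_inclusion, Subalgebra.coe_algebraMap,
      Subalgebra.coe_smul]
    exact hz
  exact ne_top_of_le_ne_top (length_quot_smul_ne_top hA B₁ d d.2) (length_le_of_le hle)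

theorem mem_nonZeroDivisors_of_isUnit_coe (B : Subalgebra A (FractionRing A)) (x : B)
    (hx : IsUnit (x : FractionRing A)) : x ∈ nonZeroDivisors B := by
  rw [mem_nonZeroDivisors_iff_right]
  intro y hy
  apply Subtype.ext
  have := congrArg Subtype.val hy
  simp only [Subalgebra.coe_mul, ZeroMemClass.coe_zero] at this
  exact hx.mul_left_eq_zero.mp this

set_option synthInstance.maxHeartbeats 200000 in
theorem length_self_quot_ne_top (hA : ringKrullDim A = 1) (B : Subalgebra A (FractionRing A))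
    [Module.Finite A B] (x : B) (hx : IsUnit (x : FractionRing A)) :
    Module.length B (B ⧸ Ideal.span {x}) ≠ ⊤ := by
  haveI : IsNoetherianRing B := IsNoetherianRing.of_finite A B
  rw [Module.length_ne_top_iff, isFiniteLength_iff_isNoetherian_isArtinian]
  refine ⟨inferInstance, ?_⟩
  have h1 : IsFiniteLength A (B ⧸ LinearMap.range (mulL B x)) :=
    Module.length_ne_top_iff.mp (length_quot_mulL_ne_top hA B x hx)
  have h2 : IsArtinian A (B ⧸ LinearMap.range (mulL B x)) :=
    (isFiniteLength_iff_isNoetherian_isArtinian.mp h1).2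
  have heq : LinearMap.range (mulL B x) = (Ideal.span {x} : Ideal B).restrictScalars A := by
    ext z
    rw [LinearMap.mem_range, Submodule.restrictScalars_mem, Ideal.mem_span_singleton']
    constructor
    · rintro ⟨w, rfl⟩
      exact ⟨w, by simp [mulL, mul_comm]⟩
    · rintro ⟨w, rfl⟩
      exact ⟨w, by simp [mulL, mul_comm]⟩
  have e : (B ⧸ LinearMap.range (mulL B x)) ≃ₗ[A] (B ⧸ (Ideal.span {x} : Ideal B)) :=
    (Submodule.quotEquivOfEq _ _ heq).trans
      (Submodule.Quotient.restrictScalarsEquiv A (Ideal.span {x} : Ideal B))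
  have h3 : IsArtinian A (B ⧸ (Ideal.span {x} : Ideal B)) := e.isArtinian_iff.mp h2
  exact isArtinian_of_tower A h3

/-- semilocal blow-up for finite subalgebras of the total ring of fractions -/
theorem exists_common_factor_subalgebra (hA : ringKrullDim A = 1)
    (B : Subalgebra A (FractionRing A)) [Module.Finite A B] (x y : B)
    (hx : IsUnit (x : FractionRing A)) (hy : IsUnit (y : FractionRing A)) :
    ∃ B₁ : Subalgebra A (FractionRing A), B ≤ B₁ ∧ Module.Finite A B₁ ∧
      ∃ t x' y' α β : FractionRing A, t ∈ B₁ ∧ x' ∈ B₁ ∧ y' ∈ B₁ ∧ α ∈ B₁ ∧ β ∈ B₁ ∧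
        (x : FractionRing A) = t * x' ∧ (y : FractionRing A) = t * y' ∧ α * x' + β * y' = 1 := by
  haveI : IsNoetherianRing B := IsNoetherianRing.of_finite A B
  haveI : Finite (MaximalSpectrum B) := Groth.Agent.S14438.finite_maximalSpectrum_of_finite A
  have hfinA : ∀ R' : Subalgebra B (FractionRing A), Module.Finite B R' →
      Module.Finite A (R'.restrictScalars A) := by
    intro R' hR'
    letI : Algebra A R' := ((algebraMap B R').comp (algebraMap A B)).toAlgebra
    haveI : IsScalarTower A B R' := IsScalarTower.of_algebraMap_eq (fun _ => rfl)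
    haveI : Module.Finite A R' := Module.Finite.trans B R'
    let e : R' ≃ₗ[A] (R'.restrictScalars A) :=
      { toFun := fun r => ⟨r.1, r.2⟩
        invFun := fun r => ⟨r.1, r.2⟩
        map_add' := fun _ _ => rfl
        map_smul' := fun a r => by
          apply Subtype.ext
          change ((a • r : R') : FractionRing A) = a • (r : FractionRing A)
          rw [Algebra.smul_def a r, Algebra.smul_def a (r : FractionRing A)]
          rfl
        left_inv := fun _ => rfl
        right_inv := fun _ => rfl }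
    exact Module.Finite.equiv e
  have hmax : ∀ R' : Subalgebra B (FractionRing A), Module.Finite B R' →
      Finite (MaximalSpectrum R') := by
    intro R' hR'
    haveI := hfinA R' hR'
    exact Groth.Agent.S14438.finite_maximalSpectrum_of_finite (B := (R'.restrictScalars A)) A
  obtain ⟨R', hR'fin, t, x', y', hxt, hyt, hspan⟩ :=
    exists_common_factor (Q := FractionRing A) x y (mem_nonZeroDivisors_of_isUnit_coe B x hx)
      (length_self_quot_ne_top hA B x hx) hy hmax
  have h1mem : (1 : R') ∈ Ideal.span {x', y'} := by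
    rw [hspan]
    exact Submodule.mem_top
  obtain ⟨α, β, hαβ⟩ := Ideal.mem_span_pair.mp h1mem
  refine ⟨R'.restrictScalars A, fun b hb => R'.algebraMap_mem ⟨b, hb⟩, hfinA R' hR'fin,
    t, x', y', α, β, t.2, x'.2, y'.2, α.2, β.2, hxt, hyt, ?_⟩
  have := congrArg Subtype.val hαβ
  simpa using this

/-- `z` is a unit multiple of a power of `ϖ` at the ideal `n` of `B'` -/
def FactAt (B' : Subalgebra A (FractionRing A)) (n : Ideal B') (z ϖ : FractionRing A) : Prop :=
  ∃ (e : ℕ) (s s' : B'), s ∉ n ∧ s' ∉ n ∧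
    (s : FractionRing A) * z = (s' : FractionRing A) * ϖ ^ e

/-- `z` is a unit multiple of a power of `ϖ` at every prime of `B'` -/
def Fact (B' : Subalgebra A (FractionRing A)) (z ϖ : FractionRing A) : Prop :=
  ∀ n : Ideal B', n.IsPrime → FactAt B' n z ϖ

theorem length_mulL_mul (B : Subalgebra A (FractionRing A)) (z w : B)
    (hz : IsUnit (z : FractionRing A)) :
    Module.length A (B ⧸ LinearMap.range (mulL B (z * w))) =
      Module.length A (B ⧸ LinearMap.range (mulL B w)) +
        Module.length A (B ⧸ LinearMap.range (mulL B z)) := by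
  have h := length_quot_map_of_injective (mulL B z) (mulL_injective B z hz)
    (LinearMap.range (mulL B w))
  rw [← LinearMap.range_comp] at h
  have : mulL B z ∘ₗ mulL B w = mulL B (z * w) := by
    ext b
    simp [mulL]
  rw [this] at h
  exact h

theorem length_mulL_inclusion (hA : ringKrullDim A = 1) (B B₁ : Subalgebra A (FractionRing A))
    [Module.Finite A B₁] (h : B ≤ B₁) (x : B) (hx : IsUnit (x : FractionRing A)) :
    Module.length A (B ⧸ LinearMap.range (mulL B x)) =
      Module.length A (B₁ ⧸ LinearMap.range (mulL B₁ (Subalgebra.inclusion h x))) := by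
  apply length_quot_range_eq_of_injective (Subalgebra.inclusion h).toLinearMap
    (Subalgebra.inclusion_injective h) (mulL B x) (mulL B₁ (Subalgebra.inclusion h x))
    (mulL_injective B₁ _ hx) ?_ (length_quot_inclusion_ne_top hA B B₁ h)
  ext b
  simp [mulL]

theorem one_le_length_mulL (B : Subalgebra A (FractionRing A)) (t : B) (ht : ¬ IsUnit t) :
    1 ≤ Module.length A (B ⧸ LinearMap.range (mulL B t)) := by
  rw [Order.one_le_iff_pos, Module.length_pos_iff, Submodule.Quotient.nontrivial_iff]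
  intro htop
  have h1 : (1 : B) ∈ LinearMap.range (mulL B t) := by
    rw [htop]
    exact Submodule.mem_top
  obtain ⟨w, hw⟩ := h1
  exact ht (IsUnit.of_mul_eq_one w hw)

theorem combine (B' : Subalgebra A (FractionRing A)) (n : Ideal B') (hn : n.IsPrime)
    (x y t x' y' ϖ : FractionRing A) (hx' : x' ∈ B') (hxt : x = t * x') (hyt : y = t * y')
    (hone : (⟨x', hx'⟩ : B') ∉ n) (hFt : FactAt B' n t ϖ) (hFxy : FactAt B' n (x' * y') ϖ) :
    FactAt B' n x ϖ ∧ FactAt B' n y ϖ := by
  obtain ⟨e, s, s', hs, hs', h1⟩ := hFt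
  obtain ⟨f, σ, σ', hσ, hσ', h2⟩ := hFxy
  constructor
  · refine ⟨e, s, s' * ⟨x', hx'⟩, hs, ?_, ?_⟩
    · intro hmem
      rcases hn.mem_or_mem hmem with h | h
      · exact hs' h
      · exact hone h
    · rw [hxt, Subalgebra.coe_mul]
      linear_combination x' * h1
  · refine ⟨e + f, s * σ * ⟨x', hx'⟩, s' * σ', ?_, ?_, ?_⟩
    · intro hmem
      rcases hn.mem_or_mem hmem with h | h
      · rcases hn.mem_or_mem h with h | h
        · exact hs h
        · exact hσ h
      · exact hone h
    · intro hmem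
      rcases hn.mem_or_mem hmem with h | h
      · exact hs' h
      · exact hσ' h
    · rw [hyt, pow_add]
      simp only [Subalgebra.coe_mul]
      linear_combination ((σ : FractionRing A) * x' * y') * h1 + ((s' : FractionRing A) * ϖ ^ e) * h2

theorem star (hA : ringKrullDim A = 1) : ∀ (μ : ℕ) (B : Subalgebra A (FractionRing A))
    (_ : Module.Finite A B) (x y : B), IsUnit (x : FractionRing A) → IsUnit (y : FractionRing A) →
    Module.length A (B ⧸ LinearMap.range (mulL B x)) +
      Module.length A (B ⧸ LinearMap.range (mulL B y)) ≤ μ →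
    ∃ B' : Subalgebra A (FractionRing A), B ≤ B' ∧ Module.Finite A B' ∧
      ∃ ϖ : FractionRing A, ϖ ∈ B' ∧ IsUnit ϖ ∧ Fact B' x ϖ ∧ Fact B' y ϖ := by
  intro μ
  induction μ using Nat.strong_induction_on with
  | _ μ ih =>
  intro B hB x y hx hy hμ
  obtain ⟨B₁, hBB₁, hB₁fin, t, x', y', α, β, ht, hx', hy', hα, hβ, hxt, hyt, hαβ⟩ :=
    exists_common_factor_subalgebra hA B x y hx hy
  have htu : IsUnit t := by
    rw [hxt] at hx
    exact isUnit_of_mul_isUnit_left hx
  have hx'u : IsUnit x' := by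
    rw [hxt] at hx
    exact isUnit_of_mul_isUnit_right hx
  have hy'u : IsUnit y' := by
    rw [hyt] at hy
    exact isUnit_of_mul_isUnit_right hy
  -- at every prime of an overring, one of x', y' is a unit
  have hone : ∀ (B' : Subalgebra A (FractionRing A)) (h : B₁ ≤ B') (n : Ideal B'), n.IsPrime →
      (⟨x', h hx'⟩ : B') ∉ n ∨ (⟨y', h hy'⟩ : B') ∉ n := by
    intro B' h n hn
    by_contra hcon
    push Not at hcon
    apply hn.ne_top
    rw [Ideal.eq_top_iff_one]
    have : (1 : B') = ⟨α, h hα⟩ * ⟨x', h hx'⟩ + ⟨β, h hβ⟩ * ⟨y', h hy'⟩ := by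
      apply Subtype.ext
      exact hαβ.symm
    rw [this]
    exact n.add_mem (n.mul_mem_left _ hcon.1) (n.mul_mem_left _ hcon.2)
  set t₁ : B₁ := ⟨t, ht⟩ with ht₁
  set x₁ : B₁ := ⟨x', hx'⟩ with hx₁
  set y₁ : B₁ := ⟨y', hy'⟩ with hy₁
  by_cases htunit : IsUnit t₁
  · -- `t` is a unit of `B₁`
    refine ⟨B₁, hBB₁, hB₁fin, (x : FractionRing A) * y,
      B₁.mul_mem (hBB₁ x.2) (hBB₁ y.2), hx.mul hy, ?_⟩
    have key : ∀ n : Ideal B₁, n.IsPrime → FactAt B₁ n x ((x : FractionRing A) * y) ∧
        FactAt B₁ n y ((x : FractionRing A) * y) := by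
      intro n hn
      have htn : t₁ ∉ n := fun h => hn.ne_top (Ideal.eq_top_of_isUnit_mem _ h htunit)
      rcases hone B₁ le_rfl n hn with h | h
      · have hxn : (⟨x, hBB₁ x.2⟩ : B₁) ∉ n := by
          have : (⟨x, hBB₁ x.2⟩ : B₁) = t₁ * x₁ := Subtype.ext hxt
          rw [this]
          intro hmem
          rcases hn.mem_or_mem hmem with h' | h'
          · exact htn h'
          · exact h h'
        have h1n : (1 : B₁) ∉ n := (Ideal.ne_top_iff_one n).mp hn.ne_top
        refine ⟨⟨0, 1, ⟨x, hBB₁ x.2⟩, h1n, hxn, by simp⟩, ⟨1, ⟨x, hBB₁ x.2⟩, 1, hxn, h1n, by simp⟩⟩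
      · have hyn : (⟨y, hBB₁ y.2⟩ : B₁) ∉ n := by
          have : (⟨y, hBB₁ y.2⟩ : B₁) = t₁ * y₁ := Subtype.ext hyt
          rw [this]
          intro hmem
          rcases hn.mem_or_mem hmem with h' | h'
          · exact htn h'
          · exact h h'
        have h1n : (1 : B₁) ∉ n := (Ideal.ne_top_iff_one n).mp hn.ne_top
        refine ⟨⟨1, ⟨y, hBB₁ y.2⟩, 1, hyn, h1n, by simp [mul_comm]⟩,
          ⟨0, 1, ⟨y, hBB₁ y.2⟩, h1n, hyn, by simp⟩⟩
    exact ⟨fun n hn => (key n hn).1, fun n hn => (key n hn).2⟩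
  · -- `t` is not a unit: the measure drops
    haveI := hB₁fin
    have hLx := length_mulL_inclusion hA B B₁ hBB₁ x hx
    have hLy := length_mulL_inclusion hA B B₁ hBB₁ y hy
    have hx₁' : Subalgebra.inclusion hBB₁ x = t₁ * x₁ := Subtype.ext hxt
    have hy₁' : Subalgebra.inclusion hBB₁ y = t₁ * y₁ := Subtype.ext hyt
    rw [hx₁', length_mulL_mul B₁ t₁ x₁ htu] at hLx
    rw [hy₁', length_mulL_mul B₁ t₁ y₁ htu] at hLy
    have hLxy := length_mulL_mul B₁ x₁ y₁ hx'u
    have hLt := one_le_length_mulL B₁ t₁ htunit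
    obtain ⟨lt, hlt⟩ := ENat.ne_top_iff_exists.mp (length_quot_mulL_ne_top hA B₁ t₁ htu)
    obtain ⟨lx, hlx⟩ := ENat.ne_top_iff_exists.mp (length_quot_mulL_ne_top hA B₁ x₁ hx'u)
    obtain ⟨ly, hly⟩ := ENat.ne_top_iff_exists.mp (length_quot_mulL_ne_top hA B₁ y₁ hy'u)
    rw [hLx, hLy, ← hlt, ← hlx, ← hly] at hμ
    rw [← hlt] at hLt
    rw [← hlx, ← hly] at hLxy
    have hμ' : lx + lt + (ly + lt) ≤ μ := by exact_mod_cast hμ
    have hlt1 : 1 ≤ lt := by exact_mod_cast hLt
    have hnew : Module.length A (B₁ ⧸ LinearMap.range (mulL B₁ t₁)) +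
        Module.length A (B₁ ⧸ LinearMap.range (mulL B₁ (x₁ * y₁))) ≤ ((μ - 1 : ℕ) : ℕ∞) := by
      rw [hLxy, ← hlt]
      have : lt + (ly + lx) ≤ μ - 1 := by omega
      exact_mod_cast this
    obtain ⟨B', hB₁B', hB'fin, ϖ, hϖ, hϖu, hFt, hFxy⟩ :=
      ih (μ - 1) (by omega) B₁ hB₁fin t₁ (x₁ * y₁) htu (hx'u.mul hy'u) hnew
    refine ⟨B', hBB₁.trans hB₁B', hB'fin, ϖ, hϖ, hϖu, ?_⟩
    have key : ∀ n : Ideal B', n.IsPrime → FactAt B' n x ϖ ∧ FactAt B' n y ϖ := by
      intro n hn
      rcases hone B' hB₁B' n hn with h | h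
      · exact combine B' n hn x y t x' y' ϖ (hB₁B' hx') hxt hyt h (hFt n hn) (hFxy n hn)
      · have hFyx : FactAt B' n (y' * x') ϖ := by
          rw [mul_comm]
          exact hFxy n hn
        exact (combine B' n hn y x t y' x' ϖ (hB₁B' hy') hyt hxt h (hFt n hn) hFyx).symm
    exact ⟨fun n hn => (key n hn).1, fun n hn => (key n hn).2⟩

theorem multi (hA : ringKrullDim A = 1) : ∀ (r : ℕ) (z : Fin r → FractionRing A)
    (B : Subalgebra A (FractionRing A)) (_ : Module.Finite A B), (∀ i, z i ∈ B) →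
    (∀ i, IsUnit (z i)) →
    ∃ B' : Subalgebra A (FractionRing A), B ≤ B' ∧ Module.Finite A B' ∧
      ∃ ϖ : FractionRing A, ϖ ∈ B' ∧ IsUnit ϖ ∧ ∀ i, Fact B' (z i) ϖ := by
  intro r
  induction r with
  | zero =>
    intro z B hB _ _
    exact ⟨B, le_rfl, hB, 1, B.one_mem, isUnit_one, fun i => i.elim0⟩
  | succ r ih =>
    intro z B hB hz hzu
    obtain ⟨B', hBB', hB'fin, ϖ, hϖ, hϖu, hF⟩ :=
      ih (fun i => z i.castSucc) B hB (fun i => hz _) (fun i => hzu _)
    haveI := hB'fin
    set ϖ₁ : B' := ⟨ϖ, hϖ⟩ with hϖ₁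
    set w : B' := ⟨z (Fin.last r), hBB' (hz _)⟩ with hw
    obtain ⟨μ, hμ⟩ := ENat.ne_top_iff_exists.mp (WithTop.add_ne_top.mpr
      ⟨length_quot_mulL_ne_top hA B' ϖ₁ hϖu, length_quot_mulL_ne_top hA B' w (hzu _)⟩)
    obtain ⟨B'', hB'B'', hB''fin, ϖ', hϖ', hϖ'u, hF1, hF2⟩ :=
      star hA μ B' hB'fin ϖ₁ w hϖu (hzu _) hμ.symm.le
    refine ⟨B'', hBB'.trans hB'B'', hB''fin, ϖ', hϖ', hϖ'u, fun i => ?_⟩
    refine Fin.lastCases ?_ (fun j => ?_) i
    · exact hF2
    · intro n hn
      have hn' : (n.comap (Subalgebra.inclusion hB'B'')).IsPrime := Ideal.comap_isPrime _ _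
      obtain ⟨e, s, s', hs, hs', h1⟩ := hF j _ hn'
      obtain ⟨f, σ, σ', hσ, hσ', h2⟩ := hF1 n hn
      refine ⟨f * e, σ ^ e * Subalgebra.inclusion hB'B'' s,
        Subalgebra.inclusion hB'B'' s' * σ' ^ e, ?_, ?_, ?_⟩
      · intro hmem
        rcases hn.mem_or_mem hmem with h | h
        · exact hσ (hn.mem_of_pow_mem e h)
        · exact hs h
      · intro hmem
        rcases hn.mem_or_mem hmem with h | h
        · exact hs' h
        · exact hσ' (hn.mem_of_pow_mem e h)
      · simp only [Subalgebra.coe_mul, Subalgebra.coe_pow, Subalgebra.coe_inclusion]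
        have h2' : ((σ : FractionRing A) * ϖ) ^ e = ((σ' : FractionRing A) * ϖ' ^ f) ^ e := by
          rw [h2]
        rw [mul_pow, mul_pow, ← pow_mul] at h2'
        linear_combination ((σ : FractionRing A) ^ e) * h1 + (s' : FractionRing A) * h2'

end Aux
-- AUX END

/-- Let A be a Noetherian local ring of dimension 1 and a₁, …, a_r (r ≥ 2) nonzerodivisors, not all
units. There is a finite extension ring A ⊆ B with B/A killed by a power of the maximal ideal such
that at every maximal ideal of B there is a nonzerodivisor π of the local ring B_𝔪 with each a_i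
equal to a unit of B_𝔪 times a power of π. -/
theorem result (A : Type u) [CommRing A] [IsNoetherianRing A] [IsLocalRing A] (hA : ringKrullDim A = 1) (r : ℕ) (hr : 2 ≤ r) (a : Fin r → A) (ha : ∀ i, a i ∈ nonZeroDivisors A) (hna : ∃ i, ¬ IsUnit (a i)) : ∃ (B : Type u) (_ : CommRing B) (_ : Algebra A B), CycAlg.IsFinExt A B (IsLocalRing.maximalIdeal A) ∧ ∀ q : MaximalSpectrum B, ∃ π : Localization.AtPrime q.asIdeal, π ∈ nonZeroDivisors (Localization.AtPrime q.asIdeal) ∧ ∀ i, ∃ (v : (Localization.AtPrime q.asIdeal)ˣ) (e : ℕ), algebraMap A (Localization.AtPrime q.asIdeal) (a i) = (v : Localization.AtPrime q.asIdeal) * π ^ e := by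
  classical
  obtain ⟨B', -, hB'fin, ϖ, hϖ, hϖu, hF⟩ := multi hA r
    (fun i => algebraMap A (FractionRing A) (a i)) ⊥ (Subalgebra.finite_bot)
    (fun i => Subalgebra.algebraMap_mem _ _)
    (fun i => IsLocalization.map_units (FractionRing A) ⟨a i, ha i⟩)
  haveI := hB'fin
  refine ⟨B', inferInstance, inferInstance, ⟨?_, hB'fin, ?_⟩, ?_⟩
  · intro x y hxy
    apply IsFractionRing.injective A (FractionRing A)
    exact congrArg Subtype.val hxy
  · obtain ⟨d, hd⟩ := exists_conductor B'
    haveI := Groth.Agent.S6480.krullDimLE_one_of_eq hA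
    have hlen : Module.length A (A ⧸ Ideal.span {(d : A)}) ≠ ⊤ :=
      Module.length_ne_top_iff.mpr (isFiniteLength_quotient_span_singleton A d.2)
    obtain ⟨n, hn⟩ := exists_pow_le_of_length_quotient_ne_top _ hlen
    refine ⟨n, fun x hx y => ?_⟩
    obtain ⟨x', rfl⟩ := Ideal.mem_span_singleton'.mp (hn hx)
    obtain ⟨z, hz⟩ := hd y
    refine ⟨x' * z, ?_⟩
    apply Subtype.ext
    simp only [map_mul, Subalgebra.coe_mul, Subalgebra.coe_algebraMap, Subalgebra.coe_smul]
    rw [hz, mul_smul, Algebra.smul_def x']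
  · intro q
    set ϖ₁ : B' := ⟨ϖ, hϖ⟩ with hϖ₁
    refine ⟨algebraMap B' (Localization.AtPrime q.asIdeal) ϖ₁, ?_, fun i => ?_⟩
    · apply IsLocalization.map_nonZeroDivisors_le q.asIdeal.primeCompl
        (Localization.AtPrime q.asIdeal)
      exact Submonoid.mem_map.mpr ⟨ϖ₁, mem_nonZeroDivisors_of_isUnit_coe B' ϖ₁ hϖu, rfl⟩
    · obtain ⟨e, s, s', hs, hs', h⟩ := hF i q.asIdeal q.isMaximal.isPrime
      have hsu : IsUnit (algebraMap B' (Localization.AtPrime q.asIdeal) s) :=
        IsLocalization.map_units (Localization.AtPrime q.asIdeal)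
          (⟨s, hs⟩ : q.asIdeal.primeCompl)
      have hs'u : IsUnit (algebraMap B' (Localization.AtPrime q.asIdeal) s') :=
        IsLocalization.map_units (Localization.AtPrime q.asIdeal)
          (⟨s', hs'⟩ : q.asIdeal.primeCompl)
      have hB : s * algebraMap A B' (a i) = s' * ϖ₁ ^ e := by
        apply Subtype.ext
        simp only [Subalgebra.coe_mul, Subalgebra.coe_pow, Subalgebra.coe_algebraMap]
        exact h
      have hloc := congrArg (algebraMap B' (Localization.AtPrime q.asIdeal)) hB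
      rw [map_mul, map_mul, map_pow, ← IsScalarTower.algebraMap_apply] at hloc
      refine ⟨hs'u.unit * hsu.unit⁻¹, e, ?_⟩
      rw [Units.val_mul, mul_assoc, mul_comm _ (_ ^ e), ← mul_assoc, IsUnit.unit_spec,
        ← hloc, mul_comm, ← mul_assoc, Units.inv_mul_eq_one.mpr (IsUnit.unit_spec hsu).symm, one_mul]

end Groth.Agent.S1836
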