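import Groth.Statements.S1869
import Groth.Agent.Lib.Helper29.Herbrand

set_option autoImplicit false
universe u v
open CycAlg

namespace Groth.Agent.S1869

open Groth.Agent.Lib.Helper29.Herbrand Groth.Agent.Lib.Helper87 Function

-- AUX BEGIN
section Aux

variable {R : Type u} [CommRing R]

theorem length_le_add_of_exact {X Y Z : Type v} [AddCommGroup X] [Module R X]
    [AddCommGroup Y] [Module R Y] [AddCommGroup Z] [Module R Z]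
    (f : X →ₗ[R] Y) (g : Y →ₗ[R] Z) (h : Exact f g) :
    Module.length R Y ≤ Module.length R X + Module.length R Z := by
  rw [length_eq_range_add_range f g h]
  exact add_le_add (Module.length_le_of_surjective f.rangeRestrict f.surjective_rangeRestrict)
    (Module.length_le_of_injective (LinearMap.range g).subtype (Submodule.subtype_injective _))

theorem lt_top_of_exact {X Y Z : Type v} [AddCommGroup X] [Module R X]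
    [AddCommGroup Y] [Module R Y] [AddCommGroup Z] [Module R Z]
    (f : X →ₗ[R] Y) (g : Y →ₗ[R] Z) (h : Exact f g) (hX : Module.length R X < ⊤)
    (hZ : Module.length R Z < ⊤) : Module.length R Y < ⊤ :=
  lt_of_le_of_lt (length_le_add_of_exact f g h) (WithTop.add_lt_top.mpr ⟨hX, hZ⟩)

/-- the alternating sum of lengths around an exact hexagon vanishes -/
theorem hexagon_toNat {X₁ X₂ X₃ X₄ X₅ X₆ : Type v}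
    [AddCommGroup X₁] [Module R X₁] [AddCommGroup X₂] [Module R X₂]
    [AddCommGroup X₃] [Module R X₃] [AddCommGroup X₄] [Module R X₄]
    [AddCommGroup X₅] [Module R X₅] [AddCommGroup X₆] [Module R X₆]
    (d₁ : X₁ →ₗ[R] X₂) (d₂ : X₂ →ₗ[R] X₃) (d₃ : X₃ →ₗ[R] X₄) (d₄ : X₄ →ₗ[R] X₅)
    (d₅ : X₅ →ₗ[R] X₆) (d₆ : X₆ →ₗ[R] X₁)
    (e₁ : Exact d₆ d₁) (e₂ : Exact d₁ d₂) (e₃ : Exact d₂ d₃) (e₄ : Exact d₃ d₄)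
    (e₅ : Exact d₄ d₅) (e₆ : Exact d₅ d₆)
    (f₁ : Module.length R X₁ < ⊤) (f₂ : Module.length R X₂ < ⊤) (f₃ : Module.length R X₃ < ⊤)
    (f₄ : Module.length R X₄ < ⊤) (f₅ : Module.length R X₅ < ⊤) (f₆ : Module.length R X₆ < ⊤) :
    ((Module.length R X₂).toNat : ℤ) - ((Module.length R X₅).toNat : ℤ) =
      (((Module.length R X₁).toNat : ℤ) - ((Module.length R X₄).toNat : ℤ)) +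
        (((Module.length R X₃).toNat : ℤ) - ((Module.length R X₆).toNat : ℤ)) := by
  have h₁ := length_eq_range_add_range d₆ d₁ e₁
  have h₂ := length_eq_range_add_range d₁ d₂ e₂
  have h₃ := length_eq_range_add_range d₂ d₃ e₃
  have h₄ := length_eq_range_add_range d₃ d₄ e₄
  have h₅ := length_eq_range_add_range d₄ d₅ e₅
  have h₆ := length_eq_range_add_range d₅ d₆ e₆
  have r₁ : Module.length R (LinearMap.range d₁) ≠ ⊤ := by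
    intro h; rw [h, add_top] at h₁; exact f₁.ne h₁
  have r₂ : Module.length R (LinearMap.range d₂) ≠ ⊤ := by
    intro h; rw [h, add_top] at h₂; exact f₂.ne h₂
  have r₃ : Module.length R (LinearMap.range d₃) ≠ ⊤ := by
    intro h; rw [h, add_top] at h₃; exact f₃.ne h₃
  have r₄ : Module.length R (LinearMap.range d₄) ≠ ⊤ := by
    intro h; rw [h, add_top] at h₄; exact f₄.ne h₄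
  have r₅ : Module.length R (LinearMap.range d₅) ≠ ⊤ := by
    intro h; rw [h, add_top] at h₅; exact f₅.ne h₅
  have r₆ : Module.length R (LinearMap.range d₆) ≠ ⊤ := by
    intro h; rw [h, add_top] at h₆; exact f₆.ne h₆
  obtain ⟨n₁, hn₁⟩ := ENat.ne_top_iff_exists.mp r₁
  obtain ⟨n₂, hn₂⟩ := ENat.ne_top_iff_exists.mp r₂
  obtain ⟨n₃, hn₃⟩ := ENat.ne_top_iff_exists.mp r₃
  obtain ⟨n₄, hn₄⟩ := ENat.ne_top_iff_exists.mp r₄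
  obtain ⟨n₅, hn₅⟩ := ENat.ne_top_iff_exists.mp r₅
  obtain ⟨n₆, hn₆⟩ := ENat.ne_top_iff_exists.mp r₆
  rw [← hn₆, ← hn₁, ← Nat.cast_add] at h₁
  rw [← hn₁, ← hn₂, ← Nat.cast_add] at h₂
  rw [← hn₂, ← hn₃, ← Nat.cast_add] at h₃
  rw [← hn₃, ← hn₄, ← Nat.cast_add] at h₄
  rw [← hn₄, ← hn₅, ← Nat.cast_add] at h₅
  rw [← hn₅, ← hn₆, ← Nat.cast_add] at h₆
  rw [h₁, h₂, h₃, h₄, h₅, h₆]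
  simp only [ENat.toNat_coe]
  push_cast
  ring

end Aux
-- AUX END


/-- Let 0 → (M₁, N₁, φ₁, ψ₁) → (M₂, N₂, φ₂, ψ₂) → (M₃, N₃, φ₃, ψ₃) → 0 be a short exact sequence of
2-periodic complexes over a ring R (so the maps f_i : M₁ → M₂ → M₃ and g_i : N₁ → N₂ → N₃ commute
with the φ's and ψ's and both rows are short exact). If two of the three complexes have cohomology
modules of finite length then so does the third, and e_R of the middle one is the sum of e_R of the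
outer ones. -/
theorem result {R : Type u} [CommRing R] {M₁ N₁ M₂ N₂ M₃ N₃ : Type v} [AddCommGroup M₁] [Module R M₁] [AddCommGroup N₁] [Module R N₁] [AddCommGroup M₂] [Module R M₂] [AddCommGroup N₂] [Module R N₂] [AddCommGroup M₃] [Module R M₃] [AddCommGroup N₃] [Module R N₃] (φ₁ : M₁ →ₗ[R] N₁) (ψ₁ : N₁ →ₗ[R] M₁) (φ₂ : M₂ →ₗ[R] N₂) (ψ₂ : N₂ →ₗ[R] M₂) (φ₃ : M₃ →ₗ[R] N₃) (ψ₃ : N₃ →ₗ[R] M₃) (h₁ : CycAlg.IsPeriodic φ₁ ψ₁) (h₂ : CycAlg.IsPeriodic φ₂ ψ₂) (h₃ : CycAlg.IsPeriodic φ₃ ψ₃) (f₁ : M₁ →ₗ[R] M₂) (g₁ : N₁ →ₗ[R] N₂) (f₂ : M₂ →ₗ[R] M₃) (g₂ : N₂ →ₗ[R] N₃) (cφ₁ : φ₂ ∘ₗ f₁ = g₁ ∘ₗ φ₁) (cψ₁ : ψ₂ ∘ₗ g₁ = f₁ ∘ₗ ψ₁) (cφ₂ : φ₃ ∘ₗ f₂ = g₂ ∘ₗ φ₂) (cψ₂ : ψ₃ ∘ₗ g₂ = f₂ ∘ₗ ψ₂) (hf₁ : Function.Injective f₁) (hg₁ : Function.Injective g₁) (hf₂ : Function.Surjective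 f₂) (hg₂ : Function.Surjective g₂) (hM : LinearMap.range f₁ = LinearMap.ker f₂) (hN : LinearMap.range g₁ = LinearMap.ker g₂) (htwo : (CycAlg.FinCoh R φ₁ ψ₁ ∧ CycAlg.FinCoh R φ₂ ψ₂) ∨ (CycAlg.FinCoh R φ₁ ψ₁ ∧ CycAlg.FinCoh R φ₃ ψ₃) ∨ (CycAlg.FinCoh R φ₂ ψ₂ ∧ CycAlg.FinCoh R φ₃ ψ₃)) : CycAlg.FinCoh R φ₁ ψ₁ ∧ CycAlg.FinCoh R φ₂ ψ₂ ∧ CycAlg.FinCoh R φ₃ ψ₃ ∧ CycAlg.herbrand R φ₂ ψ₂ = CycAlg.herbrand R φ₁ ψ₁ + CycAlg.herbrand R φ₃ ψ₃ := by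
  have h₁' : IsPeriodic ψ₁ φ₁ := ⟨h₁.2, h₁.1⟩
  have h₂' : IsPeriodic ψ₂ φ₂ := ⟨h₂.2, h₂.1⟩
  have h₃' : IsPeriodic ψ₃ φ₃ := ⟨h₃.2, h₃.1⟩
  -- the six maps
  set a := hMap φ₁ ψ₁ φ₂ ψ₂ f₁ g₁ cφ₁ cψ₁ with ha
  set b := hMap φ₂ ψ₂ φ₃ ψ₃ f₂ g₂ cφ₂ cψ₂ with hb
  set δ := delta φ₁ ψ₁ φ₂ ψ₂ φ₃ ψ₃ h₁ h₂ h₃ f₁ g₁ f₂ g₂ cφ₁ cψ₁ cφ₂ cψ₂ hf₁ hg₁ hf₂ hg₂ hM hN
    with hδ
  set a' := hMap ψ₁ φ₁ ψ₂ φ₂ g₁ f₁ cψ₁ cφ₁ with ha'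
  set b' := hMap ψ₂ φ₂ ψ₃ φ₃ g₂ f₂ cψ₂ cφ₂ with hb'
  set δ' := delta ψ₁ φ₁ ψ₂ φ₂ ψ₃ φ₃ h₁' h₂' h₃' g₁ f₁ g₂ f₂ cψ₁ cφ₁ cψ₂ cφ₂ hg₁ hf₁ hg₂ hf₂ hN hM
    with hδ'
  have e₂ : Exact a b := exact_hMap φ₁ ψ₁ φ₂ ψ₂ φ₃ ψ₃ h₂ f₁ g₁ f₂ g₂ cφ₁ cψ₁ cφ₂ cψ₂ hg₁ hg₂ hM
  have e₃ : Exact b δ :=
    exact_hMap_delta φ₁ ψ₁ φ₂ ψ₂ φ₃ ψ₃ h₁ h₂ h₃ f₁ g₁ f₂ g₂ cφ₁ cψ₁ cφ₂ cψ₂ hf₁ hg₁ hf₂ hg₂ hM hN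
  have e₄ : Exact δ a' :=
    exact_delta_hMap φ₁ ψ₁ φ₂ ψ₂ φ₃ ψ₃ h₁ h₂ h₃ f₁ g₁ f₂ g₂ cφ₁ cψ₁ cφ₂ cψ₂ hf₁ hg₁ hf₂ hg₂ hM hN
  have e₅ : Exact a' b' :=
    exact_hMap ψ₁ φ₁ ψ₂ φ₂ ψ₃ φ₃ h₂' g₁ f₁ g₂ f₂ cψ₁ cφ₁ cψ₂ cφ₂ hf₁ hf₂ hN
  have e₆ : Exact b' δ' :=
    exact_hMap_delta ψ₁ φ₁ ψ₂ φ₂ ψ₃ φ₃ h₁' h₂' h₃' g₁ f₁ g₂ f₂ cψ₁ cφ₁ cψ₂ cφ₂ hg₁ hf₁ hg₂ hf₂
      hN hM
  have e₁ : Exact δ' a :=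
    exact_delta_hMap ψ₁ φ₁ ψ₂ φ₂ ψ₃ φ₃ h₁' h₂' h₃' g₁ f₁ g₂ f₂ cψ₁ cφ₁ cψ₂ cφ₂ hg₁ hf₁ hg₂ hf₂
      hN hM
  have hall : CycAlg.FinCoh R φ₁ ψ₁ ∧ CycAlg.FinCoh R φ₂ ψ₂ ∧ CycAlg.FinCoh R φ₃ ψ₃ := by
    rcases htwo with ⟨⟨p₁, q₁⟩, ⟨p₂, q₂⟩⟩ | ⟨⟨p₁, q₁⟩, ⟨p₃, q₃⟩⟩ | ⟨⟨p₂, q₂⟩, ⟨p₃, q₃⟩⟩
    · exact ⟨⟨p₁, q₁⟩, ⟨p₂, q₂⟩, ⟨lt_top_of_exact b δ e₃ p₂ q₁, lt_top_of_exact b' δ' e₆ q₂ p₁⟩⟩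
    · exact ⟨⟨p₁, q₁⟩, ⟨lt_top_of_exact a b e₂ p₁ p₃, lt_top_of_exact a' b' e₅ q₁ q₃⟩, ⟨p₃, q₃⟩⟩
    · exact ⟨⟨lt_top_of_exact δ' a e₁ q₃ p₂, lt_top_of_exact δ a' e₄ p₃ q₂⟩, ⟨p₂, q₂⟩, ⟨p₃, q₃⟩⟩
  obtain ⟨⟨p₁, q₁⟩, ⟨p₂, q₂⟩, ⟨p₃, q₃⟩⟩ := hall
  refine ⟨⟨p₁, q₁⟩, ⟨p₂, q₂⟩, ⟨p₃, q₃⟩, ?_⟩
  unfold CycAlg.herbrand
  exact hexagon_toNat a b δ a' b' δ' e₁ e₂ e₃ e₄ e₅ e₆ p₁ p₂ p₃ q₁ q₂ q₃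

end Groth.Agent.S1869
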