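import Groth.Statements.S1870
import Groth.Agent.S1869

set_option autoImplicit false
universe u v
open CycAlg

namespace Groth.Agent.S1870

open Groth.Agent.Lib.Helper29.Herbrand Groth.Agent.Lib.Helper87 Function

-- AUX BEGIN
section Aux

variable {R : Type u} [CommRing R]

/-- on a module of finite length every (2,1)-periodic complex has vanishing Herbrand quotient -/
theorem herbrand_eq_zero_of_length_lt_top {X : Type v} [AddCommGroup X] [Module R X]
    (φ ψ : X →ₗ[R] X) (h : IsPeriodic φ ψ) (hX : Module.length R X < ⊤) :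
    FinCoh R φ ψ ∧ herbrand R φ ψ = 0 := by
  have key : ∀ (φ ψ : X →ₗ[R] X), IsPeriodic φ ψ →
      Module.length R (perH φ ψ) + Module.length R (LinearMap.range ψ) =
        Module.length R (LinearMap.ker φ) := by
    intro φ ψ h
    have hle : LinearMap.range ψ ≤ LinearMap.ker φ := by
      rintro _ ⟨x, rfl⟩
      rw [LinearMap.mem_ker, ← LinearMap.comp_apply, h.1, LinearMap.zero_apply]
    have h1 := Module.length_eq_add_of_exact
      ((LinearMap.range ψ).submoduleOf (LinearMap.ker φ)).subtype
      ((LinearMap.range ψ).submoduleOf (LinearMap.ker φ)).mkQ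
      (Submodule.subtype_injective _) (Submodule.mkQ_surjective _)
      (LinearMap.exact_subtype_mkQ _)
    rw [h1, add_comm, (Submodule.submoduleOfEquivOfLe hle).length_eq]
  have hk : ∀ (φ : X →ₗ[R] X), Module.length R (LinearMap.ker φ) +
      Module.length R (LinearMap.range φ) = Module.length R X := by
    intro φ
    have := Module.length_eq_add_of_exact (LinearMap.ker φ).subtype φ.rangeRestrict
      (Submodule.subtype_injective _) φ.surjective_rangeRestrict (by
        intro x
        constructor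
        · intro hx
          exact ⟨⟨x, congrArg Subtype.val hx⟩, rfl⟩
        · rintro ⟨y, rfl⟩
          exact Subtype.ext y.2)
    exact this.symm
  have h' : IsPeriodic ψ φ := ⟨h.2, h.1⟩
  have e1 := key φ ψ h
  have e2 := key ψ φ h'
  have e3 := hk φ
  have e4 := hk ψ
  have fin : ∀ {Y : Submodule R X}, Module.length R Y < ⊤ := fun {Y} =>
    lt_of_le_of_lt (Module.length_le_of_injective Y.subtype (Submodule.subtype_injective _)) hX
  have f0 : Module.length R (perH φ ψ) < ⊤ :=
    lt_of_le_of_lt (Module.length_le_of_surjective _ (Submodule.mkQ_surjective _)) fin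
  have f1 : Module.length R (perH ψ φ) < ⊤ :=
    lt_of_le_of_lt (Module.length_le_of_surjective _ (Submodule.mkQ_surjective _)) fin
  refine ⟨⟨f0, f1⟩, ?_⟩
  obtain ⟨a, ha⟩ := ENat.ne_top_iff_exists.mp f0.ne
  obtain ⟨b, hb⟩ := ENat.ne_top_iff_exists.mp f1.ne
  obtain ⟨rφ, hrφ⟩ := ENat.ne_top_iff_exists.mp (fin (Y := LinearMap.range φ)).ne
  obtain ⟨rψ, hrψ⟩ := ENat.ne_top_iff_exists.mp (fin (Y := LinearMap.range ψ)).ne
  obtain ⟨kφ, hkφ⟩ := ENat.ne_top_iff_exists.mp (fin (Y := LinearMap.ker φ)).ne
  obtain ⟨kψ, hkψ⟩ := ENat.ne_top_iff_exists.mp (fin (Y := LinearMap.ker ψ)).ne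
  obtain ⟨x, hx⟩ := ENat.ne_top_iff_exists.mp hX.ne
  rw [← ha, ← hrψ, ← hkφ, ← Nat.cast_add, Nat.cast_inj] at e1
  rw [← hb, ← hrφ, ← hkψ, ← Nat.cast_add, Nat.cast_inj] at e2
  rw [← hkφ, ← hrφ, ← hx, ← Nat.cast_add, Nat.cast_inj] at e3
  rw [← hkψ, ← hrψ, ← hx, ← Nat.cast_add, Nat.cast_inj] at e4
  unfold herbrand
  rw [← ha, ← hb]
  simp only [ENat.toNat_coe]
  omega

end Aux
-- AUX END


/-- A morphism of (2,1)-periodic complexes, both with finite-length cohomology, whose kernel and
cokernel have finite length does not change the additive Herbrand quotient: e_R(M, φ, ψ) = e_R(M',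
φ', ψ'). -/
theorem result {R : Type u} [CommRing R] {M M' : Type v} [AddCommGroup M] [Module R M] [AddCommGroup M'] [Module R M'] (φ ψ : M →ₗ[R] M) (φ' ψ' : M' →ₗ[R] M') (h : CycAlg.IsPeriodic φ ψ) (h' : CycAlg.IsPeriodic φ' ψ') (f : M →ₗ[R] M') (cφ : φ' ∘ₗ f = f ∘ₗ φ) (cψ : ψ' ∘ₗ f = f ∘ₗ ψ) (hfin : CycAlg.FinCoh R φ ψ) (hfin' : CycAlg.FinCoh R φ' ψ') (hker : Module.length R (LinearMap.ker f) < ⊤) (hcoker : Module.length R (M' ⧸ LinearMap.range f) < ⊤) : CycAlg.herbrand R φ ψ = CycAlg.herbrand R φ' ψ' := by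
  -- the complexes on the kernel, the image and the cokernel
  have hφK : ∀ x ∈ LinearMap.ker f, φ x ∈ LinearMap.ker f := by
    intro x hx
    rw [LinearMap.mem_ker] at hx ⊢
    rw [← LinearMap.comp_apply, ← cφ, LinearMap.comp_apply, hx, map_zero]
  have hψK : ∀ x ∈ LinearMap.ker f, ψ x ∈ LinearMap.ker f := by
    intro x hx
    rw [LinearMap.mem_ker] at hx ⊢
    rw [← LinearMap.comp_apply, ← cψ, LinearMap.comp_apply, hx, map_zero]
  have hφI : ∀ y ∈ LinearMap.range f, φ' y ∈ LinearMap.range f := by
    rintro _ ⟨x, rfl⟩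
    exact ⟨φ x, by rw [← LinearMap.comp_apply, ← cφ, LinearMap.comp_apply]⟩
  have hψI : ∀ y ∈ LinearMap.range f, ψ' y ∈ LinearMap.range f := by
    rintro _ ⟨x, rfl⟩
    exact ⟨ψ x, by rw [← LinearMap.comp_apply, ← cψ, LinearMap.comp_apply]⟩
  set φK := φ.restrict hφK with hφKdef
  set ψK := ψ.restrict hψK with hψKdef
  set φI := φ'.restrict hφI with hφIdef
  set ψI := ψ'.restrict hψI with hψIdef
  set φC : (M' ⧸ LinearMap.range f) →ₗ[R] (M' ⧸ LinearMap.range f) :=
    Submodule.mapQ _ _ φ' hφI with hφCdef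
  set ψC : (M' ⧸ LinearMap.range f) →ₗ[R] (M' ⧸ LinearMap.range f) :=
    Submodule.mapQ _ _ ψ' hψI with hψCdef
  have hK : IsPeriodic φK ψK := by
    constructor
    · apply LinearMap.ext
      intro x
      apply Subtype.ext
      change φ (ψ x) = 0
      rw [← LinearMap.comp_apply, h.1, LinearMap.zero_apply]
    · apply LinearMap.ext
      intro x
      apply Subtype.ext
      change ψ (φ x) = 0
      rw [← LinearMap.comp_apply, h.2, LinearMap.zero_apply]
  have hI : IsPeriodic φI ψI := by
    constructor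
    · apply LinearMap.ext
      intro x
      apply Subtype.ext
      change φ' (ψ' x) = 0
      rw [← LinearMap.comp_apply, h'.1, LinearMap.zero_apply]
    · apply LinearMap.ext
      intro x
      apply Subtype.ext
      change ψ' (φ' x) = 0
      rw [← LinearMap.comp_apply, h'.2, LinearMap.zero_apply]
  have hC : IsPeriodic φC ψC := by
    constructor
    · apply LinearMap.ext
      intro x
      obtain ⟨x, rfl⟩ := Submodule.mkQ_surjective _ x
      change Submodule.Quotient.mk (φ' (ψ' x)) = 0
      rw [← LinearMap.comp_apply, h'.1, LinearMap.zero_apply, Submodule.Quotient.mk_zero]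
    · apply LinearMap.ext
      intro x
      obtain ⟨x, rfl⟩ := Submodule.mkQ_surjective _ x
      change Submodule.Quotient.mk (ψ' (φ' x)) = 0
      rw [← LinearMap.comp_apply, h'.2, LinearMap.zero_apply, Submodule.Quotient.mk_zero]
  obtain ⟨finK, eK⟩ := herbrand_eq_zero_of_length_lt_top φK ψK hK hker
  obtain ⟨finC, eC⟩ := herbrand_eq_zero_of_length_lt_top φC ψC hC hcoker
  -- first sequence 0 → ker f → M → im f → 0
  have s1 := Groth.Agent.S1869.result φK ψK φ ψ φI ψI hK h hI
    (LinearMap.ker f).subtype (LinearMap.ker f).subtype f.rangeRestrict f.rangeRestrict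
    (by apply LinearMap.ext; intro x; rfl) (by apply LinearMap.ext; intro x; rfl)
    (by
      apply LinearMap.ext
      intro x
      apply Subtype.ext
      change φ' (f x) = f (φ x)
      rw [← LinearMap.comp_apply, cφ, LinearMap.comp_apply])
    (by
      apply LinearMap.ext
      intro x
      apply Subtype.ext
      change ψ' (f x) = f (ψ x)
      rw [← LinearMap.comp_apply, cψ, LinearMap.comp_apply])
    (Submodule.subtype_injective _) (Submodule.subtype_injective _)
    f.surjective_rangeRestrict f.surjective_rangeRestrict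
    (by rw [Submodule.range_subtype, LinearMap.ker_rangeRestrict])
    (by rw [Submodule.range_subtype, LinearMap.ker_rangeRestrict])
    (Or.inl ⟨finK, hfin⟩)
  obtain ⟨-, -, finI, e1⟩ := s1
  -- second sequence 0 → im f → M' → coker f → 0
  have s2 := Groth.Agent.S1869.result φI ψI φ' ψ' φC ψC hI h' hC
    (LinearMap.range f).subtype (LinearMap.range f).subtype (LinearMap.range f).mkQ
    (LinearMap.range f).mkQ
    (by apply LinearMap.ext; intro x; rfl) (by apply LinearMap.ext; intro x; rfl)
    (by apply LinearMap.ext; intro x; rfl) (by apply LinearMap.ext; intro x; rfl)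
    (Submodule.subtype_injective _) (Submodule.subtype_injective _)
    (Submodule.mkQ_surjective _) (Submodule.mkQ_surjective _)
    (by rw [Submodule.range_subtype, Submodule.ker_mkQ])
    (by rw [Submodule.range_subtype, Submodule.ker_mkQ])
    (Or.inl ⟨finI, hfin'⟩)
  obtain ⟨-, -, -, e2⟩ := s2
  rw [e1, e2, eK, eC]
  ring

end Groth.Agent.S1870
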