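import Groth.Statements.S1833
import Groth.Agent.Lib.Helper29.LengthFormula7
import Mathlib.RingTheory.OrderOfVanishing.Basic

set_option autoImplicit false
universe u v
open Pointwise
open CycAlg

namespace Groth.Agent.S1833

open Groth.Agent.Lib.Helper29.LengthFormula

open IsLocalRing in
/-- a finite module over a Noetherian local ring whose support has dimension `≤ 0` has finite
length -/
theorem length_ne_top_of_supportDim_le_zero {R : Type u} [CommRing R] [IsNoetherianRing R]
    [IsLocalRing R] (T : Type u) [AddCommGroup T] [Module R T] [Module.Finite R T]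
    (h : Module.supportDim R T ≤ 0) : Module.length R T ≠ ⊤ := by
  rw [Module.length_ne_top_iff]
  have hprime : ∀ Q : Ideal R, Q.IsPrime → Module.annihilator R T ≤ Q → Q = maximalIdeal R := by
    intro Q hQ hann
    by_contra hne
    have hQs : (⟨Q, hQ⟩ : PrimeSpectrum R) ∈ Module.support R T :=
      Module.mem_support_iff_of_finite.mpr hann
    have hms : closedPoint R ∈ Module.support R T :=
      Module.mem_support_iff_of_finite.mpr (hann.trans (le_maximalIdeal hQ.ne_top))
    have hlt : (⟨⟨Q, hQ⟩, hQs⟩ : Module.support R T) < ⟨closedPoint R, hms⟩ := by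
      refine lt_of_le_of_ne (le_maximalIdeal hQ.ne_top) ?_
      intro e
      exact hne (congrArg (fun z : Module.support R T => z.1.asIdeal) e)
    have hpos : 0 < Module.supportDim R T := by
      unfold Module.supportDim
      rw [Order.krullDim_pos_iff]
      exact ⟨_, _, hlt⟩
    exact absurd h (not_le_of_gt hpos)
  obtain ⟨n, hn⟩ : ∃ n : ℕ, (maximalIdeal R) ^ n ≤ Module.annihilator R T := by
    apply Ideal.exists_pow_le_of_le_radical_of_fg _ (IsNoetherian.noetherian _)
    rw [Ideal.radical_eq_sInf]
    refine le_sInf ?_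
    rintro Q ⟨hIQ, hQ⟩
    rw [hprime Q hQ hIQ]
  refine isFiniteLength_of_pow_smul_eq_zero T n ?_
  intro r hr y
  exact Module.mem_annihilator.mp (hn hr) y

/-- `ord_{R/p}(x) = length_R (R/(p + xR))` -/
theorem ord_quotient_eq_cst {R : Type u} [CommRing R] [IsLocalRing R] (x : R) (p : Ideal R) :
    Ring.ord (R ⧸ p) (Ideal.Quotient.mk p x) = cst x p := by
  unfold Ring.ord cst
  rw [← Module.length_eq_of_surjective (S := R) (R := R ⧸ p)
    (M := (R ⧸ p) ⧸ Ideal.span {Ideal.Quotient.mk p x}) Ideal.Quotient.mk_surjective]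
  have hspan : Ideal.span {Ideal.Quotient.mk p x} =
      Ideal.map (Ideal.Quotient.mkₐ R p) (Ideal.span {x}) := by
    rw [Ideal.map_span, Set.image_singleton]
    rfl
  rw [hspan]
  exact (DoubleQuot.quotQuotEquivQuotSupₐ R p (Ideal.span {x})).toLinearEquiv.length_eq


/-- Let R be Noetherian local, M a finite R-module whose support has dimension at most 1, and x an
element with M/xM supported in dimension ≤ 0. Then length(M/xM) = length(ker(x : M → M)) + Σ_q
ord_{R/q}(x) · length_{R_q}(M_q), the sum running over the primes q of the support other than the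
maximal ideal (stated in ℕ∞; all terms are finite under the hypotheses). -/
theorem result (R : Type u) [CommRing R] [IsNoetherianRing R] [IsLocalRing R] (M : Type u) [AddCommGroup M] [Module R M] [Module.Finite R M] (x : R) (h1 : Module.supportDim R M ≤ 1) (h0 : Module.supportDim R (M ⧸ x • (⊤ : Submodule R M)) ≤ 0) : Module.length R (M ⧸ x • (⊤ : Submodule R M)) = Module.length R (LinearMap.ker (LinearMap.lsmul R M x)) + ∑ᶠ (p : PrimeSpectrum R) (_ : p ∈ Module.support R M ∧ p.asIdeal ≠ IsLocalRing.maximalIdeal R), Ring.ord (R ⧸ p.asIdeal) (Ideal.Quotient.mk p.asIdeal x) * Module.length (Localization.AtPrime p.asIdeal) (LocalizedModule p.asIdeal.primeCompl M) := by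
  have hker : Groth.Agent.Lib.Helper87.tmul x M = LinearMap.lsmul R M x := by
    ext m
    rfl
  -- rewrite the sum in terms of `lam` and `cst`
  let S' : Set (PrimeSpectrum R) :=
    {p | p ∈ Module.support R M ∧ p.asIdeal ≠ IsLocalRing.maximalIdeal R}
  have hsum : (∑ᶠ (p : PrimeSpectrum R) (_ : p ∈ Module.support R M ∧ p.asIdeal ≠ IsLocalRing.maximalIdeal R), Ring.ord (R ⧸ p.asIdeal) (Ideal.Quotient.mk p.asIdeal x) * Module.length (Localization.AtPrime p.asIdeal) (LocalizedModule p.asIdeal.primeCompl M)) =
      ∑ᶠ I ∈ G R, lam M I * cst x I := by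
    have e1 : (∑ᶠ (p : PrimeSpectrum R) (_ : p ∈ Module.support R M ∧ p.asIdeal ≠ IsLocalRing.maximalIdeal R), Ring.ord (R ⧸ p.asIdeal) (Ideal.Quotient.mk p.asIdeal x) * Module.length (Localization.AtPrime p.asIdeal) (LocalizedModule p.asIdeal.primeCompl M)) =
        ∑ᶠ p ∈ S', (fun I : Ideal R => lam M I * cst x I) p.asIdeal := by
      apply finsum_mem_congr rfl
      intro p _
      have : p.asIdeal.IsPrime := p.2
      change _ = lam M p.asIdeal * cst x p.asIdeal
      rw [lam_of_isPrime, ord_quotient_eq_cst, mul_comm]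
    rw [e1, ← finsum_mem_image (g := PrimeSpectrum.asIdeal)
      (f := fun I : Ideal R => lam M I * cst x I)
      (fun a _ b _ h => PrimeSpectrum.ext h)]
    apply finsum_mem_inter_support_eq
    ext I
    simp only [Set.mem_inter_iff, Set.mem_image, Function.mem_support]
    constructor
    · rintro ⟨⟨p, ⟨-, hpm⟩, rfl⟩, hne⟩
      exact ⟨⟨p.2, hpm⟩, hne⟩
    · rintro ⟨⟨hI, hIm⟩, hne⟩
      have hl : lam M I ≠ 0 := left_ne_zero_of_mul hne
      exact ⟨⟨⟨I, hI⟩, ⟨(lam_ne_zero_iff M I).mp hl, hIm⟩, rfl⟩, hne⟩
  rw [hsum, ← hker]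
  by_cases hx : x ∈ IsLocalRing.maximalIdeal R
  · have hb : Module.length R (QuotSMulTop x M) ≠ ⊤ :=
      length_ne_top_of_supportDim_le_zero _ h0
    exact (formula x hx M hb).2
  · have hu : IsUnit x := by
      by_contra h
      exact hx ((IsLocalRing.mem_maximalIdeal x).mpr h)
    have hq : Subsingleton (M ⧸ x • (⊤ : Submodule R M)) := by
      rw [Submodule.Quotient.subsingleton_iff, eq_top_iff]
      intro m _
      obtain ⟨u, rfl⟩ := hu
      exact (Submodule.mem_smul_pointwise_iff_exists _ _ _).mpr
        ⟨(↑u⁻¹ : R) • m, trivial, by rw [← mul_smul, Units.mul_inv, one_smul]⟩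
    have hk : Subsingleton (LinearMap.ker (Groth.Agent.Lib.Helper87.tmul x M)) := by
      rw [Submodule.subsingleton_iff_eq_bot, LinearMap.ker_eq_bot]
      intro a b hab
      obtain ⟨u, rfl⟩ := hu
      have h2 : (↑u : R) • a = (↑u : R) • b := hab
      have := congrArg (fun z => (↑u⁻¹ : R) • z) h2
      simpa [← mul_smul] using this
    rw [Module.length_eq_zero, Module.length_eq_zero, zero_add]
    symm
    apply finsum_mem_eq_zero_of_forall_eq_zero
    intro I hI
    have : cst x I = 0 := by
      unfold cst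
      rw [Module.length_eq_zero_iff]
      have htop : I ⊔ Ideal.span {x} = ⊤ :=
        Ideal.eq_top_of_isUnit_mem _ (Ideal.mem_sup_right (Ideal.subset_span rfl)) hu
      rw [htop]
      exact Ideal.Quotient.subsingleton_iff.mpr rfl
    rw [this, mul_zero]

end Groth.Agent.S1833
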