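import Groth.Statements.S1852
import Groth.Agent.S6329

set_option autoImplicit false
universe u
open CycAlg

namespace Groth.Agent.S1852

open Groth.Agent.Lib.Helper29.LengthFormula

section
variable {R : Type u} [CommRing R] {M : Type u} [AddCommGroup M] [Module R M]

theorem step_iso (N : Submodule R M) (y : M) (q : Ideal R) (hy : ∀ r : R, r • y ∈ N ↔ r ∈ q) :
    Nonempty ((↥(N ⊔ Submodule.span R {y}) ⧸ N.submoduleOf (N ⊔ Submodule.span R {y}))
      ≃ₗ[R] R ⧸ q) := by
  set N' := N ⊔ Submodule.span R {y} with hN'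
  have hyN' : y ∈ N' := Submodule.mem_sup_right (Submodule.mem_span_singleton_self y)
  let f : R →ₗ[R] (↥N' ⧸ N.submoduleOf N') :=
    (N.submoduleOf N').mkQ ∘ₗ LinearMap.toSpanSingleton R ↥N' ⟨y, hyN'⟩
  have hf : ∀ r : R, f r = (N.submoduleOf N').mkQ ⟨r • y, N'.smul_mem r hyN'⟩ := by
    intro r
    rfl
  have hsurj : Function.Surjective f := by
    intro z
    obtain ⟨⟨w, hw⟩, rfl⟩ := Submodule.mkQ_surjective _ z
    obtain ⟨t, ht, u, hu, rfl⟩ := Submodule.mem_sup.mp hw
    obtain ⟨r, rfl⟩ := Submodule.mem_span_singleton.mp hu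
    refine ⟨r, ?_⟩
    rw [hf, Submodule.mkQ_apply, Submodule.mkQ_apply, Submodule.Quotient.eq]
    change ((⟨r • y, _⟩ : ↥N') - ⟨t + r • y, hw⟩ : ↥N').1 ∈ N
    have : ((⟨r • y, N'.smul_mem r hyN'⟩ : ↥N') - ⟨t + r • y, hw⟩ : ↥N').1 = -t := by
      change r • y - (t + r • y) = -t
      abel
    rw [this]
    exact N.neg_mem ht
  have hker : LinearMap.ker f = q := by
    ext r
    rw [LinearMap.mem_ker, ← hy r, hf, Submodule.mkQ_apply, Submodule.Quotient.mk_eq_zero]
    rfl
  exact ⟨(f.quotKerEquivOfSurjective hsurj).symm ≪≫ₗ Submodule.quotEquivOfEq _ _ hker⟩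

open Classical in
noncomputable def pick (q : Ideal R) (N : Submodule R M) : M :=
  if h : ∃ y : M, ∀ r : R, r • y ∈ N ↔ r ∈ q then h.choose else 0

noncomputable def chain (q : Ideal R) : ℕ → Submodule R M
  | 0 => ⊥
  | k+1 => chain q k ⊔ Submodule.span R {pick q (chain q k)}

noncomputable def ys (q : Ideal R) (k : ℕ) : M := pick q (chain (M := M) q k)

theorem chain_eq_span (q : Ideal R) (k : ℕ) :
    chain (M := M) q k = Submodule.span R (ys q '' {j | j < k}) := by
  induction k with
  | zero => simp [chain]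
  | succ k ih =>
    have : {j | j < k+1} = insert k {j | j < k} := by
      ext j
      simp only [Set.mem_setOf_eq, Set.mem_insert_iff]
      omega
    rw [this, Set.image_insert_eq, Submodule.span_insert, ← ih, sup_comm]
    rfl

theorem chain_mono (q : Ideal R) : Monotone (chain (M := M) q) :=
  monotone_nat_of_le_succ (fun _ => le_sup_left)

theorem exists_of_mem_support [IsNoetherianRing R] [Module.Finite R M] (q : PrimeSpectrum R)
    (hq : Minimal (fun p : PrimeSpectrum R => p ∈ Module.support R M) q) (N : Submodule R M)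
    (h : q ∈ Module.support R (M ⧸ N)) : ∃ y : M, ∀ r : R, r • y ∈ N ↔ r ∈ q.asIdeal := by
  have hsub : Module.support R (M ⧸ N) ⊆ Module.support R M :=
    Module.support_subset_of_surjective N.mkQ (Submodule.mkQ_surjective _)
  have hmin : q.asIdeal ∈ (Module.annihilator R (M ⧸ N)).minimalPrimes := by
    rw [Module.support_eq_zeroLocus] at h
    refine ⟨⟨q.2, h⟩, ?_⟩
    rintro p' ⟨hp', hle⟩ hp'q
    have h1 : (⟨p', hp'⟩ : PrimeSpectrum R) ∈ Module.support R (M ⧸ N) := by
      rw [Module.support_eq_zeroLocus]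
      exact hle
    have h2 := hq.2 (y := ⟨p', hp'⟩) (hsub h1) hp'q
    exact h2
  have hass : q.asIdeal ∈ associatedPrimes R (M ⧸ N) :=
    Module.associatedPrimes.minimalPrimes_annihilator_subset_associatedPrimes R (M ⧸ N) hmin
  obtain ⟨-, ybar, hy⟩ := isAssociatedPrime_iff.mp hass
  obtain ⟨y, rfl⟩ := Submodule.mkQ_surjective _ ybar
  refine ⟨y, fun r => ?_⟩
  rw [hy, Submodule.mem_colon_singleton, ← map_smul, Submodule.mem_bot, Submodule.mkQ_apply,
    Submodule.Quotient.mk_eq_zero]

theorem pick_spec [IsNoetherianRing R] [Module.Finite R M] (q : PrimeSpectrum R)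
    (hq : Minimal (fun p : PrimeSpectrum R => p ∈ Module.support R M) q) (N : Submodule R M)
    (h : q ∈ Module.support R (M ⧸ N)) (r : R) : r • pick q.asIdeal N ∈ N ↔ r ∈ q.asIdeal := by
  unfold pick
  rw [dif_pos (exists_of_mem_support q hq N h)]
  exact (exists_of_mem_support q hq N h).choose_spec r

theorem exists_not_mem_support [IsNoetherianRing R] [Module.Finite R M] (q : PrimeSpectrum R)
    (hq : Minimal (fun p : PrimeSpectrum R => p ∈ Module.support R M) q) :
    ∃ k : ℕ, q ∉ Module.support R (M ⧸ chain (M := M) q.asIdeal k) := by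
  haveI : IsNoetherian R M := isNoetherian_of_isNoetherianRing_of_finite R M
  obtain ⟨n, hn⟩ := monotone_stabilizes_iff_noetherian.mpr ‹IsNoetherian R M›
    ⟨chain (M := M) q.asIdeal, chain_mono _⟩
  refine ⟨n, fun h => ?_⟩
  have h1 := hn (n+1) (Nat.le_succ n)
  have h2 : pick q.asIdeal (chain (M := M) q.asIdeal n) ∈ chain (M := M) q.asIdeal (n+1) :=
    Submodule.mem_sup_right (Submodule.mem_span_singleton_self _)
  change chain (M := M) q.asIdeal n = chain (M := M) q.asIdeal (n+1) at h1
  rw [← h1] at h2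
  have h3 := (pick_spec q hq _ h 1).mp (by rwa [one_smul])
  exact q.2.ne_top ((Ideal.eq_top_iff_one _).mpr h3)

theorem lam_succ_of_iso (q : Ideal R) [q.IsPrime] (N₁ N₂ : Submodule R M) (hle : N₁ ≤ N₂)
    (e : (↥N₂ ⧸ N₁.submoduleOf N₂) ≃ₗ[R] R ⧸ q) : lam ↥N₂ q = lam ↥N₁ q + 1 := by
  rw [lam_add (Submodule.inclusion hle) (N₁.submoduleOf N₂).mkQ
    (Submodule.inclusion_injective hle) (Submodule.mkQ_surjective _)
    (by
      rw [LinearMap.exact_iff, Submodule.ker_mkQ, Submodule.range_inclusion]
      rfl) q, lam_congr e q, lam_quotient_self]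

end


/-- Let R be a Noetherian local ring, M a finite R-module and 𝔮 a minimal prime of the support of M.
There are x₁, …, x_l in M such that 𝔮 is not in the support of M/⟨x₁, …, x_l⟩ and each ⟨x₁, …,
x_i⟩/⟨x₁, …, x_{i−1}⟩ is isomorphic to R/𝔮; and for any such sequence l equals the length of M_𝔮
over R_𝔮. -/
theorem result (R : Type u) [CommRing R] [IsNoetherianRing R] [IsLocalRing R] (M : Type u) [AddCommGroup M] [Module R M] [Module.Finite R M] (q : PrimeSpectrum R) (hq : Minimal (fun p : PrimeSpectrum R => p ∈ Module.support R M) q) : (∃ (l : ℕ) (x : Fin l → M), q ∉ Module.support R (M ⧸ Submodule.span R (Set.range x)) ∧ ∀ i : Fin l, Nonempty ((↥(CycDet.spanBefore R M x (i + 1)) ⧸ (CycDet.spanBefore R M x i).submoduleOf (CycDet.spanBefore R M x (i + 1))) ≃ₗ[R] (R ⧸ q.asIdeal))) ∧ ∀ (l : ℕ) (x : Fin l → M), q ∉ Module.support R (M ⧸ Submodule.span R (Set.range x)) → (∀ i : Fin l, Nonempty ((↥(CycDet.spanBefore R M x (i + 1)) ⧸ (CycDet.spanBefore R M x i).submoduleOf (CycDet.spanBefore R M x (i +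 1))) ≃ₗ[R] (R ⧸ q.asIdeal))) → (l : ℕ∞) = Module.length (Localization.AtPrime q.asIdeal) (LocalizedModule q.asIdeal.primeCompl M) := by
  classical
  haveI : q.asIdeal.IsPrime := q.2
  constructor
  · have hex := exists_not_mem_support q hq
    set l := Nat.find hex with hl
    have hspan : ∀ k ≤ l, CycDet.spanBefore R M (fun i : Fin l => ys (M := M) q.asIdeal i) k
        = chain (M := M) q.asIdeal k := by
      intro k hk
      rw [chain_eq_span]
      unfold CycDet.spanBefore
      congr 1
      ext m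
      constructor
      · rintro ⟨j, hj, rfl⟩
        exact ⟨j.1, hj, rfl⟩
      · rintro ⟨j, hj, rfl⟩
        exact ⟨⟨j, lt_of_lt_of_le hj hk⟩, hj, rfl⟩
    have hrange : Submodule.span R (Set.range (fun i : Fin l => ys (M := M) q.asIdeal i))
        = chain (M := M) q.asIdeal l := by
      rw [chain_eq_span]
      congr 1
      ext m
      constructor
      · rintro ⟨j, rfl⟩
        exact ⟨j.1, j.2, rfl⟩
      · rintro ⟨j, hj, rfl⟩
        exact ⟨⟨j, hj⟩, rfl⟩
    refine ⟨l, fun i => ys (M := M) q.asIdeal i, ?_, ?_⟩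
    · rw [hrange]
      exact Nat.find_spec hex
    · intro i
      rw [hspan (i + 1) i.2, hspan i i.2.le]
      have hmem : q ∈ Module.support R (M ⧸ chain (M := M) q.asIdeal i) := by
        by_contra hcon
        exact Nat.find_min hex i.2 hcon
      exact step_iso _ _ _ (pick_spec q hq _ hmem)
  · intro l x hsupp hiso
    have hmono : ∀ k : ℕ, CycDet.spanBefore R M x k ≤ CycDet.spanBefore R M x (k+1) := by
      intro k
      unfold CycDet.spanBefore
      apply Submodule.span_mono
      apply Set.image_mono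
      intro j hj
      exact Nat.lt_succ_of_lt hj
    have hind : ∀ k : ℕ, k ≤ l → lam ↥(CycDet.spanBefore R M x k) q.asIdeal = (k : ℕ∞) := by
      intro k
      induction k with
      | zero =>
        intro _
        have h0 : CycDet.spanBefore R M x 0 = ⊥ := by
          unfold CycDet.spanBefore
          simp
        rw [h0, Nat.cast_zero]
        apply lam_eq_zero_of_smul_eq_zero _ q.asIdeal 1
          (fun h => q.2.ne_top ((Ideal.eq_top_iff_one _).mpr h))
        intro z
        rw [one_smul]
        exact Subtype.ext ((Submodule.mem_bot R).mp z.2)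
      | succ k ih =>
        intro hk
        obtain ⟨e⟩ := hiso ⟨k, hk⟩
        rw [lam_succ_of_iso q.asIdeal _ _ (hmono k) e, ih (Nat.le_of_succ_le hk), Nat.cast_succ]
    have hl : CycDet.spanBefore R M x l = Submodule.span R (Set.range x) := by
      unfold CycDet.spanBefore
      congr 1
      ext m
      constructor
      · rintro ⟨j, -, rfl⟩
        exact ⟨j, rfl⟩
      · rintro ⟨j, rfl⟩
        exact ⟨j, j.2, rfl⟩
    have h1 := hind l le_rfl
    rw [hl] at h1
    have h2 : lam (M ⧸ Submodule.span R (Set.range x)) q.asIdeal = 0 := by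
      by_contra hne
      exact hsupp ((lam_ne_zero_iff _ q.asIdeal).mp hne)
    rw [← lam_of_isPrime, lam_add (Submodule.span R (Set.range x)).subtype
      (Submodule.span R (Set.range x)).mkQ (Submodule.subtype_injective _)
      (Submodule.mkQ_surjective _) (by
        rw [LinearMap.exact_iff, Submodule.ker_mkQ, Submodule.range_subtype]) q.asIdeal,
      h1, h2, add_zero]

end Groth.Agent.S1852
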