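import Groth.Statements.S1831
import Groth.Agent.Lib.Helper29.Idx

set_option autoImplicit false
universe u v
open CycAlg

namespace Groth.Agent.S1831

open Groth.Agent.Lib.Helper29.Idx

-- AUX BEGIN
section
variable {R : Type u} [CommRing R] {M : Type v} [AddCommGroup M] [Module R M] (φ : M →ₗ[R] M)

/-- `K i = ker φ^i` -/
def K (i : ℕ) : Submodule R M := LinearMap.ker (φ ^ i)
/-- `Im j = im φ^j` -/
def Im (j : ℕ) : Submodule R M := LinearMap.range (φ ^ j)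

theorem mem_K {i : ℕ} {m : M} : m ∈ K φ i ↔ (φ ^ i) m = 0 := LinearMap.mem_ker

theorem pow_add_apply (i j : ℕ) (m : M) : (φ ^ (i + j)) m = (φ ^ i) ((φ ^ j) m) := by
  rw [pow_add]; rfl

theorem pow_succ_apply' (i : ℕ) (m : M) : (φ ^ (i + 1)) m = (φ ^ i) (φ m) := by
  rw [pow_succ]; rfl

theorem pow_succ_apply'' (i : ℕ) (m : M) : (φ ^ (i + 1)) m = φ ((φ ^ i) m) := by
  rw [pow_succ']; rfl

theorem K_zero : K φ 0 = ⊥ := by
  ext m; rw [mem_K, pow_zero]; simp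

theorem K_mono {i j : ℕ} (h : i ≤ j) : K φ i ≤ K φ j := by
  intro m hm
  rw [mem_K] at hm ⊢
  obtain ⟨k, rfl⟩ := Nat.exists_eq_add_of_le h
  rw [add_comm, pow_add_apply, hm, map_zero]

theorem K_one : K φ 1 = LinearMap.ker φ := by
  unfold K; rw [pow_one]

theorem map_K_succ_le (i : ℕ) : (K φ (i + 1)).map φ ≤ K φ i := by
  rintro _ ⟨m, hm, rfl⟩
  rw [SetLike.mem_coe, mem_K] at hm
  rw [mem_K, ← pow_succ_apply', hm]

theorem map_pow_K (i k : ℕ) : (K φ (i + k)).map (φ ^ i) ≤ K φ k := by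
  rintro _ ⟨m, hm, rfl⟩
  rw [SetLike.mem_coe, mem_K] at hm
  rw [mem_K, ← pow_add_apply, add_comm, hm]

theorem map_inf_K (i j : ℕ) : (K φ (i + j)).map (φ ^ j) = Im φ j ⊓ K φ i := by
  ext y
  constructor
  · rintro ⟨m, hm, rfl⟩
    rw [SetLike.mem_coe, mem_K] at hm
    exact ⟨⟨m, rfl⟩, (mem_K φ).mpr (by rw [← pow_add_apply, hm])⟩
  · rintro ⟨⟨m, rfl⟩, h⟩
    rw [SetLike.mem_coe, mem_K, ← pow_add_apply] at h
    exact ⟨m, mem_K φ |>.mpr h, rfl⟩

/-- `b i` -/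
noncomputable def b (i : ℕ) : ℕ∞ := idx (K φ i) ((K φ (i + 1)).map φ)
/-- `c i` -/
noncomputable def c (i : ℕ) : ℕ∞ := idx (K φ 1) ((K φ (i + 1)).map (φ ^ i))
/-- `T i` -/
noncomputable def T (i : ℕ) : ℕ∞ := idx (K φ (i + 1)) (K φ i ⊔ (K φ (i + 2)).map φ)

theorem b_succ (i : ℕ) : b φ (i + 1) = b φ i + T φ i := by
  unfold b T
  have h1 : (K φ (i + 2)).map φ ≤ K φ i ⊔ (K φ (i + 2)).map φ := le_sup_right
  have h2 : K φ i ⊔ (K φ (i + 2)).map φ ≤ K φ (i + 1) :=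
    sup_le (K_mono φ (Nat.le_succ i)) (map_K_succ_le φ (i + 1))
  rw [idx_chain h1 h2, idx_sup_left, ← idx_inf_right]
  congr 2
  ext y
  constructor
  · rintro ⟨⟨m, -, rfl⟩, h⟩
    rw [SetLike.mem_coe, mem_K, ← pow_succ_apply'] at h
    exact ⟨m, (mem_K φ).mpr h, rfl⟩
  · rintro ⟨m, hm, rfl⟩
    exact ⟨⟨m, K_mono φ (Nat.le_succ _) hm, rfl⟩, map_K_succ_le φ i ⟨m, hm, rfl⟩⟩

theorem c_succ (i : ℕ) : c φ (i + 1) = c φ i + T φ i := by
  unfold c T
  have e : (K φ (i + 1 + 1)).map (φ ^ (i + 1)) = (K φ i ⊔ (K φ (i + 2)).map φ).map (φ ^ i) := by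
    rw [Submodule.map_sup]
    have : (K φ i).map (φ ^ i) = ⊥ := by
      rw [eq_bot_iff]
      rintro _ ⟨m, hm, rfl⟩
      exact (mem_K φ).mp hm
    rw [this, bot_sup_eq, ← Submodule.map_comp]
    congr 1
  have h2 : K φ i ⊔ (K φ (i + 2)).map φ ≤ K φ (i + 1) :=
    sup_le (K_mono φ (Nat.le_succ i)) (map_K_succ_le φ (i + 1))
  have h1 : (K φ (i + 1 + 1)).map (φ ^ (i + 1)) ≤ (K φ (i + 1)).map (φ ^ i) := by
    rw [e]; exact Submodule.map_mono h2
  have h3 : (K φ (i + 1)).map (φ ^ i) ≤ K φ 1 := map_pow_K φ i 1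
  rw [idx_chain h1 h3, add_comm]
  congr 1
  rw [e]
  refine idx_map (φ ^ i) h2 ?_
  exact inf_le_left.trans le_sup_left

theorem b_zero : b φ 0 = 0 := by
  unfold b
  apply idx_eq_zero
  rw [K_zero]; exact bot_le

theorem c_zero : c φ 0 = 0 := by
  unfold c
  apply idx_eq_zero
  rw [pow_zero]
  intro m hm
  exact ⟨m, hm, rfl⟩

theorem b_eq_c (i : ℕ) : b φ i = c φ i := by
  induction i with
  | zero => rw [b_zero, c_zero]
  | succ i ih => rw [b_succ, c_succ, ih]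

/-- `a i` -/
noncomputable def a (n i : ℕ) : ℕ∞ := idx (K φ i) (Im φ (n - i))

theorem Im_le_K {n : ℕ} (hφ : φ ^ n = 0) {i j : ℕ} (h : n ≤ i + j) : Im φ j ≤ K φ i := by
  rintro _ ⟨m, rfl⟩
  rw [mem_K, ← pow_add_apply]
  obtain ⟨k, hk⟩ := Nat.exists_eq_add_of_le h
  rw [hk, add_comm, pow_add_apply, hφ]; simp

theorem c_lt_top {n : ℕ} (hn : 0 < n) (hφ : φ ^ n = 0)
    (hfin : Module.length R (CycAlg.perH φ (φ ^ (n - 1))) < ⊤) {i : ℕ} (hi : i < n) :
    c φ i < ⊤ := by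
  have hfin' : idx (K φ 1) (Im φ (n - 1)) < ⊤ := by
    rw [K_one]; exact hfin
  refine lt_of_le_of_lt ?_ hfin'
  unfold c
  apply idx_anti_right
  rintro _ ⟨m, rfl⟩
  refine ⟨(φ ^ (n - 1 - i)) m, ?_, ?_⟩
  · rw [SetLike.mem_coe, mem_K, ← pow_add_apply]
    have : i + 1 + (n - 1 - i) = n := by omega
    rw [this, hφ]; simp
  · rw [← pow_add_apply]
    congr 2
    omega

theorem key {n : ℕ} (hφ : φ ^ n = 0) {i : ℕ} (hi : i < n) :
    a φ n (i + 1) + b φ i = a φ n i + c φ (n - 1 - i) := by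
  have hsub : n - i = (n - (i + 1)) + 1 := by omega
  -- a_{i+1}
  have h1 : Im φ (n - (i + 1)) ≤ K φ 1 ⊔ Im φ (n - (i + 1)) := le_sup_right
  have h2 : K φ 1 ⊔ Im φ (n - (i + 1)) ≤ K φ (i + 1) :=
    sup_le (K_mono φ (by omega)) (Im_le_K φ hφ (by omega))
  have ea : a φ n (i + 1) = c φ (n - 1 - i) +
      idx ((K φ (i + 1)).map φ) (Im φ (n - i)) := by
    unfold a
    rw [idx_chain h1 h2, idx_sup_left, ← idx_inf_right]
    congr 1
    · have hj : n - 1 - i = n - (i + 1) := by omega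
      rw [hj]
      unfold c
      congr 1
      rw [add_comm (n - (i + 1)) 1, map_inf_K]
    · rw [← idx_map φ h2 (by rw [← K_one]; exact inf_le_left.trans le_sup_left)]
      congr 1
      rw [Submodule.map_sup]
      have : (K φ 1).map φ = ⊥ := by
        rw [eq_bot_iff]
        rintro _ ⟨m, hm, rfl⟩
        rw [SetLike.mem_coe, K_one] at hm
        exact hm
      rw [this, bot_sup_eq, hsub]
      unfold Im
      rw [LinearMap.range_eq_map, LinearMap.range_eq_map, ← Submodule.map_comp]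
      congr 1
      rw [pow_succ']; rfl
  -- a_i
  have h3 : Im φ (n - i) ≤ (K φ (i + 1)).map φ := by
    rintro _ ⟨m, rfl⟩
    refine ⟨(φ ^ (n - (i + 1))) m, ?_, ?_⟩
    · exact Im_le_K φ hφ (by omega) ⟨m, rfl⟩
    · rw [hsub, pow_succ_apply'']
  have h4 : (K φ (i + 1)).map φ ≤ K φ i := map_K_succ_le φ i
  have eb : a φ n i = idx ((K φ (i + 1)).map φ) (Im φ (n - i)) + b φ i := by
    unfold a b
    rw [idx_chain h3 h4]
  rw [ea, eb]
  ring

theorem a_zero (n : ℕ) : a φ n 0 = 0 := by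
  unfold a
  apply idx_eq_zero
  rw [K_zero]; exact bot_le

theorem a_self (n : ℕ) : a φ n n = 0 := by
  unfold a
  apply idx_eq_zero
  rw [Nat.sub_self]
  intro m _
  exact ⟨m, by rw [pow_zero]; rfl⟩

theorem a_lt_top {n : ℕ} (hn : 0 < n) (hφ : φ ^ n = 0)
    (hfin : Module.length R (CycAlg.perH φ (φ ^ (n - 1))) < ⊤) {i : ℕ} (hi : i ≤ n) :
    a φ n i < ⊤ := by
  induction i with
  | zero => rw [a_zero]; exact ENat.top_pos
  | succ i ih =>
    have h := key φ hφ (i := i) (by omega)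
    have h1 : a φ n i + c φ (n - 1 - i) < ⊤ :=
      ENat.add_lt_top.mpr ⟨ih (by omega), c_lt_top φ hn hφ hfin (by omega)⟩
    rw [← h] at h1
    exact lt_of_le_of_lt le_self_add h1

theorem symm_toNat {n : ℕ} (hn : 0 < n) (hφ : φ ^ n = 0)
    (hfin : Module.length R (CycAlg.perH φ (φ ^ (n - 1))) < ⊤) {i : ℕ} (hi : i ≤ n) :
    (a φ n i).toNat = (a φ n (n - i)).toNat := by
  have hkey : ∀ i, i < n → (a φ n (i + 1)).toNat + (c φ i).toNat =
      (a φ n i).toNat + (c φ (n - 1 - i)).toNat := by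
    intro i hi
    have h := key φ hφ hi
    rw [b_eq_c] at h
    have h' := congrArg ENat.toNat h
    rwa [ENat.toNat_add (a_lt_top φ hn hφ hfin (by omega)).ne (c_lt_top φ hn hφ hfin hi).ne,
      ENat.toNat_add (a_lt_top φ hn hφ hfin (by omega)).ne
        (c_lt_top φ hn hφ hfin (by omega)).ne] at h'
  induction i with
  | zero => rw [a_zero, Nat.sub_zero, a_self]
  | succ i ih =>
    have ih' := ih (by omega)
    have e1 := hkey i (by omega)
    have e2 := hkey (n - (i + 1)) (by omega)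
    have hj1 : n - (i + 1) + 1 = n - i := by omega
    have hj2 : n - 1 - (n - (i + 1)) = i := by omega
    have hj3 : n - 1 - i = n - (i + 1) := by omega
    rw [hj1, hj2] at e2
    rw [hj3] at e1
    omega
end
-- AUX END


/-- If φ is an endomorphism of M with φ^n = 0 (n > 0) and ker φ / im φ^(n-1) has finite length, then for
each 0 ≤ i ≤ n the (2,1)-periodic complex (M, φ^i, φ^(n-i)) has finite-length cohomology modules and
its Herbrand quotient vanishes. -/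
theorem result {R : Type u} [CommRing R] {M : Type v} [AddCommGroup M] [Module R M] (φ : M →ₗ[R] M) (n : ℕ) (hn : 0 < n) (hφ : φ ^ n = 0) (hfin : Module.length R (CycAlg.perH φ (φ ^ (n - 1))) < ⊤) (i : ℕ) (hi : i ≤ n) : CycAlg.FinCoh R (φ ^ i) (φ ^ (n - i)) ∧ CycAlg.herbrand R (φ ^ i) (φ ^ (n - i)) = 0 := by
  have h1 : a φ n i < ⊤ := a_lt_top φ hn hφ hfin hi
  have h2 : a φ n (n - i) < ⊤ := a_lt_top φ hn hφ hfin (Nat.sub_le n i)
  have h3 := symm_toNat φ hn hφ hfin hi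
  have hni : n - (n - i) = i := Nat.sub_sub_self hi
  have e1 : Module.length R (perH (φ ^ i) (φ ^ (n - i))) = a φ n i := rfl
  have e2 : Module.length R (perH (φ ^ (n - i)) (φ ^ i)) = a φ n (n - i) := by
    unfold a K Im
    rw [hni]
    rfl
  refine ⟨⟨?_, ?_⟩, ?_⟩
  · rw [e1]; exact h1
  · rw [e2]; exact h2
  · unfold herbrand
    rw [e1, e2, h3, sub_self]

end Groth.Agent.S1831
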