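import Groth.Statements.S14503
import Groth.Agent.Lib.Helper29.LatticeE

set_option autoImplicit false
universe u
open IntTh

namespace Groth.Agent.S14503

open Groth.Agent.Lib.Helper29.Lattice

-- AUX BEGIN
section aux

theorem ql_top {A : Type u} [CommRing A] {W : Type u} [AddCommGroup W] [Module A W]
    (N : Submodule A W) : ql (⊤ : Submodule A W) N = Module.length A (W ⧸ N) := by
  unfold ql
  apply LinearEquiv.length_eq
  refine Submodule.Quotient.equiv _ _ Submodule.topEquiv ?_
  ext x
  simp only [Submodule.mem_map, Submodule.submoduleOf, Submodule.mem_comap,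
    Submodule.subtype_apply]
  constructor
  · rintro ⟨y, hy, rfl⟩
    exact hy
  · intro hx
    exact ⟨⟨x, trivial⟩, hx, rfl⟩

end aux
-- AUX END


/-- Let A ⊆ B be a module-finite extension of domains with A Noetherian local of Krull dimension one, K
⊆ L their fraction fields, and r ∈ B nonzero. Then B/rB has finite length as an A-module and
length_A(B/rB) equals the order at the closed point of A of the norm N_{L/K}(r), i.e.
length_A(A/(a)) − length_A(A/(b)) for N_{L/K}(r) = a/b. -/
theorem result (A : Type u) [CommRing A] [IsDomain A]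
    [IsNoetherianRing A] [IsLocalRing A] (hA : ringKrullDim A = 1) (B : Type u) [CommRing B]
    [IsDomain B] [Algebra A B] (hinj : Function.Injective (algebraMap A B)) [Module.Finite A B]
    (K L : Type u) [Field K] [Field L] [Algebra A K] [IsFractionRing A K] [Algebra B L]
    [IsFractionRing B L] [Algebra K L] [Algebra A L] [IsScalarTower A B L] [IsScalarTower A K L]
    [FiniteDimensional K L] (r : B) (hr : r ≠ 0) :
    Module.length A (B ⧸ Ideal.span {r}) < ⊤ ∧
      ((Module.length A (B ⧸ Ideal.span {r})).toNat : ℤ) =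
        CycAlg.ordFrac A K (Algebra.norm K (algebraMap B L r)) := by
  set ι : B →ₗ[A] L := (IsScalarTower.toAlgHom A B L).toLinearMap with hι
  have hιinj : Function.Injective ι := IsFractionRing.injective B L
  have hιapp : ∀ b, ι b = algebraMap B L b := fun b => rfl
  set MB : Submodule A L := (⊤ : Submodule A B).map ι with hMB
  haveI : Algebra.IsAlgebraic A B := Algebra.IsIntegral.isAlgebraic
  haveI hlat : Submodule.IsLattice K MB := by
    refine ⟨Submodule.FG.map _ Module.Finite.fg_top, ?_⟩
    rw [eq_top_iff]
    intro x _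
    obtain ⟨a, b, hb, rfl⟩ := IsFractionRing.div_surjective (A := B) x
    have hb0 : b ≠ 0 := nonZeroDivisors.ne_zero hb
    obtain ⟨c, d, hd, hcd⟩ := Algebra.IsAlgebraic.exists_smul_eq_mul A a hb0
    have hbL : algebraMap B L b ≠ 0 := by
      rw [Ne, map_eq_zero_iff _ (IsFractionRing.injective B L)]; exact hb0
    have hdK : algebraMap A K d ≠ 0 := by
      rw [Ne, map_eq_zero_iff _ (IsFractionRing.injective A K)]; exact hd
    have hdL : algebraMap A L d ≠ 0 := by
      rw [IsScalarTower.algebraMap_apply A K L, Ne, map_eq_zero_iff _ (algebraMap K L).injective]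
      exact hdK
    have h1 : algebraMap A L d * algebraMap B L a = algebraMap B L b * algebraMap B L c := by
      have := congrArg (algebraMap B L) hcd
      rw [Algebra.smul_def, map_mul, map_mul, ← IsScalarTower.algebraMap_apply A B L] at this
      exact this
    have h2 : algebraMap B L a / algebraMap B L b = (algebraMap A K d)⁻¹ • algebraMap B L c := by
      rw [Algebra.smul_def, map_inv₀, ← IsScalarTower.algebraMap_apply A K L]
      field_simp
      rw [mul_comm, h1]
    rw [h2]
    exact Submodule.smul_mem _ _ (Submodule.subset_span ⟨c, trivial, rfl⟩)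
  set y : L := algebraMap B L r with hy
  have hy0 : y ≠ 0 := by
    rw [hy, Ne, map_eq_zero_iff _ (IsFractionRing.injective B L)]; exact hr
  set φ : L ≃ₗ[K] L := LinearEquiv.ofBijective (LinearMap.mul K L y)
    ⟨fun a b h => mul_left_cancel₀ hy0 h, fun x => ⟨y⁻¹ * x, by
      simp [LinearMap.mul_apply', mul_inv_cancel_left₀ hy0]⟩⟩ with hφ
  have hφlin : φ.toLinearMap = LinearMap.mul K L y := LinearMap.ext fun _ => rfl
  have key := dist_imL_eq_ordFrac_det hA φ MB
  have hn : Algebra.norm K y = LinearMap.det (LinearMap.mul K L y) := by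
    rw [Algebra.norm_apply]; rfl
  rw [hφlin, ← hn] at key
  have him : imL (LinearMap.mul K L y) MB =
      ((Ideal.span {r} : Ideal B).restrictScalars A).map ι := by
    ext x
    simp only [imL, hMB, Submodule.mem_map, Submodule.mem_top, true_and,
      Submodule.restrictScalars_mem]
    constructor
    · rintro ⟨_, ⟨b, rfl⟩, rfl⟩
      refine ⟨r * b, Ideal.mul_mem_right _ _ (Ideal.mem_span_singleton_self r), ?_⟩
      rw [hιapp, map_mul]
      rfl
    · rintro ⟨c, hc, rfl⟩
      obtain ⟨b, rfl⟩ := Ideal.mem_span_singleton'.mp hc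
      refine ⟨ι b, ⟨b, rfl⟩, ?_⟩
      rw [hιapp, hιapp, mul_comm b r, map_mul]
      rfl
  have hle : imL (LinearMap.mul K L y) MB ≤ MB := by
    rw [him]
    exact Submodule.map_mono le_top
  have hql : ql MB (imL (LinearMap.mul K L y) MB) = Module.length A (B ⧸ Ideal.span {r}) := by
    rw [him, hMB, ql_map ι hιinj, ql_top]
    exact (Submodule.Quotient.restrictScalarsEquiv A (Ideal.span {r})).length_eq
  have hlt : ql MB (imL (LinearMap.mul K L y) MB) < ⊤ := by
    haveI := isLattice_imL (A := A) φ.toLinearMap φ.surjective MB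
    rw [hφlin] at this
    exact ql_lt_top (K := K) hA _ _
  refine ⟨hql ▸ hlt, ?_⟩
  rw [← key, ← hql]
  unfold Groth.Agent.Lib.Helper29.Lattice.dist
  rw [inf_eq_right.mpr hle, ql_self]
  simp

end Groth.Agent.S14503
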