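import Groth.Statements.S9667
import Groth.Agent.Lib.Helper74.WeakAss
import Mathlib.RingTheory.TensorProduct.DirectLimitFG

set_option autoImplicit false
universe u
open CAlg

namespace Groth.Agent.S9667

open FlatCA TensorProduct

local macro "ann" R:term:max m:term:max : term =>
  `(Submodule.annihilator (Submodule.span $R (Singleton.singleton $m : Set _)))

section

variable {R : Type u} [CommRing R] {N M : Type u} [AddCommGroup N] [Module R N]
  [AddCommGroup M] [Module R M]

theorem exists_of_fg_right (u : N ⊗[R] M) :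
    ∃ Q : Submodule R M, Q.FG ∧ u ∈ LinearMap.range (LinearMap.lTensor N Q.subtype) := by
  classical
  let ⟨P, t, ht⟩ := Module.DirectLimit.exists_of ((Submodule.FG.lTensor.directLimit R N M).symm u)
  use P.val, P.property, t
  rw [← Submodule.FG.lTensor.directLimit_apply, ht, LinearEquiv.apply_symm_apply]

theorem eq_zero_of_fg_right {Q : Submodule R M} (hQ : Q.FG) {t : N ⊗[R] Q}
    (h : LinearMap.lTensor N Q.subtype t = 0) :
    ∃ (Q' : Submodule R M) (hQQ' : Q ≤ Q'), Q'.FG ∧
      LinearMap.lTensor N (Submodule.inclusion hQQ') t = 0 := by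
  classical
  rw [← (LinearMap.lTensor N Q.subtype).map_zero] at h
  simp only [← Submodule.FG.lTensor.directLimit_apply' R N M Q hQ,
    EmbeddingLike.apply_eq_iff_eq] at h
  obtain ⟨Q', hQQ', h⟩ := Module.DirectLimit.exists_eq_of_of_eq h
  exact ⟨Q'.val, Subtype.coe_le_coe.mpr hQQ', Q'.property, by simpa using h⟩

end

section

variable {R S : Type u} [CommRing R] [CommRing S] [Algebra R S] {N : Type u} [AddCommGroup N]
  [Module S N] [Module R N] [IsScalarTower R S N]

theorem lTensor_smul {X Y : Type u} [AddCommGroup X] [Module R X] [AddCommGroup Y] [Module R Y]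
    (g : X →ₗ[R] Y) (s : S) (w : N ⊗[R] X) :
    LinearMap.lTensor N g (s • w) = s • LinearMap.lTensor N g w := by
  induction w using TensorProduct.induction_on with
  | zero => simp
  | tmul n x => simp [TensorProduct.smul_tmul']
  | add a b ha hb => rw [smul_add, map_add, ha, hb, map_add, smul_add]

theorem lTensor_inclusion_trans {M : Type u} [AddCommGroup M] [Module R M]
    {Q Q' Q'' : Submodule R M} (h₁ : Q ≤ Q') (h₂ : Q' ≤ Q'') (t : N ⊗[R] Q) :
    LinearMap.lTensor N (Submodule.inclusion (h₁.trans h₂)) t =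
      LinearMap.lTensor N (Submodule.inclusion h₂) (LinearMap.lTensor N (Submodule.inclusion h₁) t) := by
  have : Submodule.inclusion (h₁.trans h₂) =
      (Submodule.inclusion h₂).comp (Submodule.inclusion h₁) := by ext; rfl
  rw [this, LinearMap.lTensor_comp]; rfl

theorem lTensor_subtype_inclusion {M : Type u} [AddCommGroup M] [Module R M]
    {Q Q' : Submodule R M} (h₁ : Q ≤ Q') (t : N ⊗[R] Q) :
    LinearMap.lTensor N Q'.subtype (LinearMap.lTensor N (Submodule.inclusion h₁) t) =
      LinearMap.lTensor N Q.subtype t := by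
  have : Q.subtype = Q'.subtype.comp (Submodule.inclusion h₁) := by ext; rfl
  rw [this, LinearMap.lTensor_comp]; rfl

theorem main [IsNoetherianRing S] (M : Type u) [AddCommGroup M] [Module R M] (q : Ideal S)
    (h : q ∈ ass S (N ⊗[R] M)) :
    ∃ M' : Submodule R M, M'.FG ∧ q ∈ ass S (N ⊗[R] ↥M') := by
  classical
  obtain ⟨hq, z, hz⟩ := h
  obtain ⟨Q, hQ, t, ht⟩ := exists_of_fg_right z
  have step : ∀ s ∈ q, ∃ (Q' : Submodule R M) (hQQ' : Q ≤ Q'), Q'.FG ∧
      s • LinearMap.lTensor N (Submodule.inclusion hQQ') t = 0 := by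
    intro s hs
    have h0 : LinearMap.lTensor N Q.subtype (s • t) = 0 := by
      rw [lTensor_smul, ht]
      rw [hz] at hs
      exact Groth.Agent.Lib.Helper74.WeakAss.mem_ann.mp hs
    obtain ⟨Q', hQQ', hQ', h1⟩ := eq_zero_of_fg_right hQ h0
    exact ⟨Q', hQQ', hQ', by rw [← lTensor_smul]; exact h1⟩
  obtain ⟨F, hF⟩ := (isNoetherianRing_iff_ideal_fg S).mp ‹_› q
  have hFq : ∀ s ∈ F, s ∈ q := fun s hs => by rw [← hF]; exact Ideal.subset_span hs
  have hind : ∀ G : Finset S, (∀ s ∈ G, s ∈ q) → ∃ (Q₁ : Submodule R M) (hQQ₁ : Q ≤ Q₁), Q₁.FG ∧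
      ∀ s ∈ G, s • LinearMap.lTensor N (Submodule.inclusion hQQ₁) t = 0 := by
    intro G
    induction G using Finset.induction_on with
    | empty => intro _; exact ⟨Q, le_rfl, hQ, by simp⟩
    | insert a G _ ih =>
      intro hG
      obtain ⟨Q₁, hQQ₁, hQ₁, h1⟩ := ih (fun s hs => hG s (Finset.mem_insert_of_mem hs))
      obtain ⟨Q₂, hQQ₂, hQ₂, h2⟩ := step a (hG a (Finset.mem_insert_self a G))
      refine ⟨Q₁ ⊔ Q₂, hQQ₁.trans le_sup_left, hQ₁.sup hQ₂, ?_⟩
      intro s hs
      rcases Finset.mem_insert.mp hs with rfl | hs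
      · rw [lTensor_inclusion_trans hQQ₂ le_sup_right, ← lTensor_smul, h2, map_zero]
      · rw [lTensor_inclusion_trans hQQ₁ le_sup_left, ← lTensor_smul, h1 s hs, map_zero]
  obtain ⟨Q₁, hQQ₁, hQ₁, h1⟩ := hind F hFq
  refine ⟨Q₁, hQ₁, hq, LinearMap.lTensor N (Submodule.inclusion hQQ₁) t, ?_⟩
  apply le_antisymm
  · rw [← hF, Ideal.span_le]
    intro s hs
    exact Groth.Agent.Lib.Helper74.WeakAss.mem_ann.mpr (h1 s hs)
  · intro s hs
    rw [hz, Groth.Agent.Lib.Helper74.WeakAss.mem_ann, ← ht, ← lTensor_subtype_inclusion hQQ₁, ← lTensor_smul,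
      Groth.Agent.Lib.Helper74.WeakAss.mem_ann.mp hs, map_zero]

end

open TensorProduct in
/-- Part (3): (B = B_fin): let R → S be a ring map with S Noetherian, N an S-module, M an R-module and q
a prime of S; an associated prime of a module is a prime ideal equal to the annihilator of some
element. If q is an associated prime of the S-module N ⊗_R M, then there is a finitely generated
R-submodule M' ⊆ M such that q is an associated prime of the S-module N ⊗_R M'. -/
theorem result {R S : Type u} [CommRing R] [CommRing S] [Algebra R S] (N : Type u) [AddCommGroup N] [Module S N] [Module R N] [IsScalarTower R S N] [IsNoetherianRing S]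
    (M : Type u) [AddCommGroup M] [Module R M] (q : Ideal S) [q.IsPrime] (h : q ∈ FlatCA.ass S (N ⊗[R] M)) :
    ∃ M' : Submodule R M, M'.FG ∧ q ∈ FlatCA.ass S (N ⊗[R] ↥M') := by
  exact main M q h

end Groth.Agent.S9667
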