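import Groth.Statements.S2069
import Groth.Agent.Lib.Helper74.FlatFiber
import Groth.Agent.S9667

set_option autoImplicit false
universe u
open CAlg

namespace Groth.Agent.S2069

open TensorProduct
open Groth.Agent.Lib.Helper74 Groth.Agent.Lib.Helper74.FiberAss

local macro "ann" R:term:max m:term:max : term =>
  `(Submodule.annihilator (Submodule.span $R (Singleton.singleton $m : Set _)))

section

variable {A : Type u} [CommRing A] {X : Type u} [AddCommGroup X] [Module A X]

theorem mem_assoc_iff {q : Ideal A} :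
    q ∈ associatedPrimes A X ↔ q.IsPrime ∧ ∃ x : X, q = (ann A x).radical := by
  constructor
  · rintro ⟨hq, x, hx⟩
    refine ⟨hq, x, ?_⟩
    rw [hx]
    congr 1
    ext r
    rw [Submodule.mem_colon_singleton, Submodule.mem_bot, WeakAss.mem_ann]
  · rintro ⟨hq, x, hx⟩
    refine ⟨hq, x, ?_⟩
    rw [hx]
    congr 1
    ext r
    rw [Submodule.mem_colon_singleton, Submodule.mem_bot, WeakAss.mem_ann]

theorem mem_assoc_of_mem_ass {q : Ideal A} (h : q ∈ FlatCA.ass A X) :
    q ∈ associatedPrimes A X := by
  obtain ⟨hq, x, hx⟩ := h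
  rw [mem_assoc_iff]
  refine ⟨hq, x, ?_⟩
  rw [← hx, hq.radical]

end

variable {R : Type u} [CommRing R] (S : Type u) [CommRing S] [Algebra R S] (N : Type u)
  [AddCommGroup N] [Module S N] [Module R N] [IsScalarTower R S N]

theorem comap_eq_of_mem_assoc_quotient [Module.Flat R N] (p : Ideal R) [p.IsPrime] {q : Ideal S}
    (hq : q ∈ associatedPrimes S (N ⧸ (p.map (algebraMap R S)) • (⊤ : Submodule S N))) :
    q.comap (algebraMap R S) = p := by
  rw [mem_assoc_iff] at hq
  obtain ⟨hqp, x, hx⟩ := hq
  apply le_antisymm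
  · intro r hr
    by_contra hrp
    rw [Ideal.mem_comap, hx] at hr
    obtain ⟨n, hn⟩ := hr
    rw [WeakAss.mem_ann, ← map_pow] at hn
    have hreg := regular_quotient_of_flat S N p (algebraMap R S (r ^ n))
      ⟨r ^ n, fun h => hrp (Ideal.IsPrime.mem_of_pow_mem ‹_› n h), rfl⟩
    have hx0 : x = 0 := hreg (by simp only; rw [hn, smul_zero])
    apply hqp.ne_top
    rw [hx, Ideal.radical_eq_top, Ideal.eq_top_iff_one, WeakAss.mem_ann, hx0, smul_zero]
  · intro r hr
    rw [Ideal.mem_comap, hx]
    apply Ideal.le_radical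
    rw [WeakAss.mem_ann]
    obtain ⟨n, rfl⟩ := Submodule.Quotient.mk_surjective _ x
    rw [← Submodule.Quotient.mk_smul, Submodule.Quotient.mk_eq_zero]
    exact Submodule.smul_mem_smul (Ideal.mem_map_of_mem _ hr) Submodule.mem_top

theorem mem_assoc_quotient_of_mem_assoc_tensor [IsNoetherianRing R] [Module.Flat R N]
    (M : Type u) [AddCommGroup M] [Module R M] [hfin : Module.Finite R M] :
    ∀ (q : Ideal S), q ∈ associatedPrimes S (N ⊗[R] M) → ∀ (p' : Ideal R) [p'.IsPrime],
      q.comap (algebraMap R S) = p' →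
      q ∈ associatedPrimes S (N ⧸ (p'.map (algebraMap R S)) • (⊤ : Submodule S N)) := by
  induction hfin using IsNoetherianRing.induction_on_isQuotientEquivQuotientPrime R with
  | subsingleton M' =>
    intro q hq
    exact absurd hq (not_isAssociatedPrime_of_subsingleton)
  | quotient M' p'' e =>
    intro q hq p' _ hqp'
    have hp'' : p''.asIdeal.IsPrime := p''.2
    have hr1 : ∀ r : R, r • (1 : R ⧸ p''.asIdeal) = Ideal.Quotient.mk p''.asIdeal r := fun r => by
      rw [Algebra.smul_def, mul_one]; rfl
    have hm : ∀ r ∈ p''.asIdeal, r • e.symm 1 = 0 := by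
      intro r hr
      rw [← map_smul, hr1, Ideal.Quotient.eq_zero_iff_mem.mpr hr, map_zero]
    have hm' : ∀ r : R, r ∈ p''.asIdeal ↔ r • e.symm 1 = 0 := by
      intro r
      refine ⟨hm r, fun h => ?_⟩
      rw [← map_smul, hr1] at h
      have h2 := e.symm.injective (h.trans (map_zero e.symm).symm)
      exact Ideal.Quotient.eq_zero_iff_mem.mp h2
    have hspan : ∀ x : M', ∃ r : R, x = r • e.symm 1 := by
      intro x
      obtain ⟨r, hr⟩ := Ideal.Quotient.mk_surjective (e x)
      refine ⟨r, ?_⟩
      rw [← map_smul, hr1, hr, e.symm_apply_apply]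
    have hbij : Function.Bijective (iota S N p''.asIdeal M' (e.symm 1) hm) :=
      ⟨iota_injective S N p''.asIdeal M' (e.symm 1) hm',
        iota_surjective S N p''.asIdeal M' (e.symm 1) hm hspan⟩
    let E := LinearEquiv.ofBijective _ hbij
    have h1 : q ∈ associatedPrimes S
        (N ⧸ (p''.asIdeal.map (algebraMap R S)) • (⊤ : Submodule S N)) :=
      associatedPrimes.subset_of_injective (f := E.symm.toLinearMap) E.symm.injective hq
    have h2 := comap_eq_of_mem_assoc_quotient S N p''.asIdeal h1
    have h3 : p''.asIdeal = p' := h2.symm.trans hqp'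
    subst h3
    exact h1
  | exact N₁ N₂ N₃ f g hf hg hfg h₁ h₃ =>
    intro q hq p' _ hqp'
    have hinj : Function.Injective (TensorProduct.AlgebraTensorModule.lTensor S N f) :=
      Module.Flat.lTensor_preserves_injective_linearMap (M := N) f hf
    have hex : Function.Exact (TensorProduct.AlgebraTensorModule.lTensor S N f)
        (TensorProduct.AlgebraTensorModule.lTensor S N g) := lTensor_exact N hfg hg
    rcases associatedPrimes.subset_union_of_exact hinj hex hq with h | h
    · exact h₁ q h p' hqp'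
    · exact h₃ q h p' hqp'

theorem comap_mem_assoc_of_mem_assoc_tensor [IsNoetherianRing R] [Module.Flat R N]
    (M : Type u) [AddCommGroup M] [Module R M] [Module.Finite R M] (q : Ideal S)
    (hq : q ∈ associatedPrimes S (N ⊗[R] M)) :
    q.comap (algebraMap R S) ∈ associatedPrimes R M := by
  classical
  rw [mem_assoc_iff] at hq
  obtain ⟨hqp, z, hz⟩ := hq
  have hp'prime : (q.comap (algebraMap R S)).IsPrime := Ideal.IsPrime.comap _
  by_contra hnot
  have hfin : (associatedPrimes R M).Finite := associatedPrimes.finite R M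
  have hfin' : {P ∈ associatedPrimes R M | P ≤ q.comap (algebraMap R S)}.Finite :=
    hfin.subset (fun _ h => h.1)
  have havoid : ¬ (((q.comap (algebraMap R S) : Ideal R) : Set R) ⊆
      ⋃ P ∈ {P ∈ associatedPrimes R M | P ≤ q.comap (algebraMap R S)}, ((id P : Ideal R) : Set R)) := by
    rw [Ideal.subset_union_prime_finite hfin' (f := id) 0 0 (fun P hP _ _ => hP.1.isPrime)]
    rintro ⟨P, ⟨hPass, hPle⟩, hle⟩
    have : P = q.comap (algebraMap R S) := le_antisymm hPle hle
    exact hnot (this ▸ hPass)
  obtain ⟨x, hxp', hxnot⟩ := Set.not_subset.mp havoid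
  have hxq : algebraMap R S x ∈ q := hxp'
  rw [hz] at hxq
  obtain ⟨n, hn⟩ := hxq
  rw [WeakAss.mem_ann, ← map_pow, algebraMap_smul] at hn
  let ℓ : M →ₗ[R] M := LinearMap.lsmul R M (x ^ n)
  have hexact : Function.Exact (LinearMap.ker ℓ).subtype ℓ := LinearMap.exact_subtype_ker_map ℓ
  have hex2 := Module.Flat.lTensor_exact N hexact
  have hz0 : ℓ.lTensor N z = 0 := by
    have : ℓ.lTensor N = LinearMap.lsmul R (N ⊗[R] M) (x ^ n) := by
      ext a b
      simp [ℓ]
    rw [this]; exact hn
  obtain ⟨w, hw⟩ := (hex2 z).mp hz0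
  have hkill : ∀ k ∈ LinearMap.ker ℓ, ∃ s : R, s ∉ q.comap (algebraMap R S) ∧ s • k = 0 := by
    intro k hk
    by_contra hcon
    push Not at hcon
    have hle : ann R k ≤ q.comap (algebraMap R S) := by
      intro s hs
      by_contra hsp
      exact hcon s hsp (WeakAss.mem_ann.mp hs)
    obtain ⟨P, hPmin, hPle⟩ := Ideal.exists_minimalPrimes_le hle
    have hPw : P ∈ FlatCA.weakAss R M := ⟨k, hPmin⟩
    have hPa : P ∈ FlatCA.ass R M := WeakAss.mem_ass_of_mem_weakAss_of_fg
      ((isNoetherianRing_iff_ideal_fg R).mp ‹_› P) hPw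
    have hPA : P ∈ associatedPrimes R M := mem_assoc_of_mem_ass hPa
    have hxn : x ^ n ∈ P := hPmin.1.2 (WeakAss.mem_ann.mpr hk)
    have hxP : x ∈ P := hPmin.1.1.mem_of_pow_mem n hxn
    apply hxnot
    exact Set.mem_biUnion (show P ∈ {P ∈ associatedPrimes R M | P ≤ q.comap (algebraMap R S)} from
      ⟨hPA, hPle⟩) hxP
  have hnoeth : IsNoetherian R M := isNoetherian_of_isNoetherianRing_of_finite R M
  obtain ⟨F, hF⟩ : (LinearMap.ker ℓ).FG := IsNoetherian.noetherian _
  have hprodF : ∀ G : Finset M, (∀ k ∈ G, k ∈ LinearMap.ker ℓ) →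
      ∃ s : R, s ∉ q.comap (algebraMap R S) ∧ ∀ k ∈ G, s • k = 0 := by
    intro G
    induction G using Finset.induction_on with
    | empty => intro _; exact ⟨1, hp'prime.one_notMem, by simp⟩
    | insert a G _ ih =>
      intro hG
      obtain ⟨s, hs, hsG⟩ := ih (fun k hk => hG k (Finset.mem_insert_of_mem hk))
      obtain ⟨s', hs', hs'a⟩ := hkill a (hG a (Finset.mem_insert_self a G))
      refine ⟨s * s', fun h => (hp'prime.mem_or_mem h).elim hs hs', ?_⟩
      intro k hk
      rcases Finset.mem_insert.mp hk with rfl | hk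
      · rw [mul_smul, hs'a, smul_zero]
      · rw [mul_comm, mul_smul, hsG k hk, smul_zero]
  obtain ⟨s, hs, hsF⟩ := hprodF F (fun k hk => by rw [← hF]; exact Submodule.subset_span hk)
  have hsK : ∀ k : LinearMap.ker ℓ, s • k = 0 := by
    rintro ⟨k, hk⟩
    apply Subtype.ext
    change s • k = 0
    rw [← hF] at hk
    refine Submodule.span_induction ?_ ?_ ?_ ?_ hk
    · intro y hy; exact hsF y hy
    · exact smul_zero s
    · intro a b _ _ ha hb; rw [smul_add, ha, hb, add_zero]
    · intro r a _ ha; rw [smul_comm, ha, smul_zero]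
  have hsw : ∀ w' : N ⊗[R] (LinearMap.ker ℓ), s • w' = 0 := by
    intro w'
    induction w' using TensorProduct.induction_on with
    | zero => exact smul_zero s
    | tmul a k => rw [← TensorProduct.tmul_smul, hsK k, tmul_zero]
    | add a b ha hb => rw [smul_add, ha, hb, add_zero]
  have hsz : s • z = 0 := by
    rw [← hw, ← map_smul, hsw w, map_zero]
  apply hs
  rw [Ideal.mem_comap, hz]
  apply Ideal.le_radical
  rw [WeakAss.mem_ann, algebraMap_smul]
  exact hsz

theorem main {R S M N : Type u} [CommRing R] [IsNoetherianRing R] [CommRing S]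
    [Algebra R S] [AddCommGroup M] [Module R M] [AddCommGroup N] [Module S N] [Module R N]
    [IsScalarTower R S N] [Module.Flat R N] :
    associatedPrimes S (N ⊗[R] M) =
      ⋃ p ∈ associatedPrimes R M,
        associatedPrimes S (N ⧸ p.map (algebraMap R S) • (⊤ : Submodule S N)) := by
  apply Set.Subset.antisymm
  · intro q hq
    obtain ⟨hqp, z, hz⟩ := mem_assoc_iff.mp hq
    obtain ⟨Q, hQ, t, ht⟩ := Groth.Agent.S9667.exists_of_fg_right z
    have hinj : Function.Injective (TensorProduct.AlgebraTensorModule.lTensor S N Q.subtype) :=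
      Module.Flat.lTensor_preserves_injective_linearMap (M := N) Q.subtype Q.injective_subtype
    have hqQ : q ∈ associatedPrimes S (N ⊗[R] Q) := by
      rw [mem_assoc_iff]
      refine ⟨hqp, t, ?_⟩
      rw [hz, ← ht]
      congr 1
      exact WeakAss.ann_map_of_injective (TensorProduct.AlgebraTensorModule.lTensor S N Q.subtype)
        hinj t
    have : Module.Finite R Q := Module.Finite.iff_fg.mpr hQ
    have hp' := comap_mem_assoc_of_mem_assoc_tensor S N Q q hqQ
    have hp'M : q.comap (algebraMap R S) ∈ associatedPrimes R M :=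
      associatedPrimes.subset_of_injective (f := Q.subtype) Q.injective_subtype hp'
    have : (q.comap (algebraMap R S)).IsPrime := Ideal.IsPrime.comap _
    exact Set.mem_iUnion₂.mpr ⟨_, hp'M,
      mem_assoc_quotient_of_mem_assoc_tensor S N Q q hqQ _ rfl⟩
  · intro q hq
    obtain ⟨p, hp, hqp⟩ := Set.mem_iUnion₂.mp hq
    obtain ⟨hpp, j, hj⟩ := (isAssociatedPrime_iff_exists_injective_linearMap p M).mp hp
    have hr1 : ∀ r : R, r • (1 : R ⧸ p) = Ideal.Quotient.mk p r := fun r => by
      rw [Algebra.smul_def, mul_one]; rfl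
    have hm' : ∀ r : R, r ∈ p ↔ r • j 1 = 0 := by
      intro r
      rw [← map_smul, hr1, map_eq_zero_iff j hj, Ideal.Quotient.eq_zero_iff_mem]
    exact associatedPrimes.subset_of_injective
      (f := iota S N p M (j 1) (fun r hr => (hm' r).mp hr)) (iota_injective S N p M (j 1) hm') hqp

open TensorProduct in
/-- Let `R → S` be a ring map, `M` an `R`-module and `N` an `S`-module flat over `R`. Then a prime of
`S` is associated to `N ⊗_R M` if and only if it is associated to `N/𝔭N` for some prime `𝔭` of `R`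
associated to `M`. -/
theorem result {R S M N : Type u} [CommRing R] [IsNoetherianRing R] [CommRing S]
    [Algebra R S] [AddCommGroup M] [Module R M] [AddCommGroup N] [Module S N] [Module R N]
    [IsScalarTower R S N] [Module.Flat R N] :
    associatedPrimes S (N ⊗[R] M) =
      ⋃ p ∈ associatedPrimes R M, associatedPrimes S (N ⧸ p.map (algebraMap R S) • (⊤ : Submodule S N)) := by
  exact main

end Groth.Agent.S2069
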