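import Groth.Statements.S9317
import Groth.Agent.Lib.Helper61.FSAdicCompl

set_option autoImplicit false
universe u
open CAlg

namespace Groth.Agent.S9317

/-- Let `R → S` be a ring map, let `𝔪 ⊆ R` and `𝔫 ⊆ S` be finitely generated ideals such that some power
of `𝔪` maps into `𝔫`, and let `R^`, `S^` be the `𝔪`-adic and `𝔫`-adic completions. Let `ψ : R^ → S^`
be a ring map whose composite with `R → R^` is the composite `R → S → S^` (there is exactly one such
map, the canonical one, since any such map is continuous for the adic topologies). Then `R → S` is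
formally smooth for the `𝔫`-adic topology if and only if `R^ → S^`, i.e. `S^` viewed as an
`R^`-algebra through `ψ`, is formally smooth for the adic topology of the extension of `𝔫` to `S^`. -/
theorem result {R S : Type u} [CommRing R] [CommRing S]
    [Algebra R S] (𝔪 : Ideal R) (𝔫 : Ideal S) (h𝔪 : 𝔪.FG) (h𝔫 : 𝔫.FG)
    (hc : ∃ c : ℕ, (𝔪 ^ c).map (algebraMap R S) ≤ 𝔫)
    (ψ : AdicCompletion 𝔪 R →+* AdicCompletion 𝔫 S)
    (hψ : ψ.comp (algebraMap R (AdicCompletion 𝔪 R)) =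
      (algebraMap S (AdicCompletion 𝔫 S)).comp (algebraMap R S)) :
    CAlgX.IsAdicFormallySmooth R S 𝔫 ↔
      letI : Algebra (AdicCompletion 𝔪 R) (AdicCompletion 𝔫 S) := ψ.toAlgebra
      CAlgX.IsAdicFormallySmooth (AdicCompletion 𝔪 R) (AdicCompletion 𝔫 S)
        (𝔫.map (algebraMap S (AdicCompletion 𝔫 S))) := by
  open Groth.Agent.Lib.Helper61.FSCompl AdicCompletion in
  letI : Algebra (AdicCompletion 𝔪 R) (AdicCompletion 𝔫 S) := ψ.toAlgebra
  haveI : IsScalarTower R (AdicCompletion 𝔪 R) (AdicCompletion 𝔫 S) :=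
    IsScalarTower.of_algebraMap_eq (fun r => (DFunLike.congr_fun hψ r).symm)
  have hsurj : ∀ (N : ℕ) (x : AdicCompletion 𝔪 R), ∃ r : R,
      x - algebraMap R (AdicCompletion 𝔪 R) r ∈
        (𝔪 ^ N).map (algebraMap R (AdicCompletion 𝔪 R)) := fun N x => by
    obtain ⟨s, _, hs⟩ := exists_of_sub_mem 𝔪 h𝔪 N x
    exact ⟨s, hs⟩
  have hc' : ∃ c : ℕ, (𝔪 ^ c).map (algebraMap R (AdicCompletion 𝔫 S)) ≤
      𝔫.map (algebraMap S (AdicCompletion 𝔫 S)) := by
    obtain ⟨c, hc⟩ := hc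
    refine ⟨c, ?_⟩
    rw [IsScalarTower.algebraMap_eq R S (AdicCompletion 𝔫 S), ← Ideal.map_map]
    exact Ideal.map_mono hc
  have hext : ∀ (A : Type u) [CommRing A] (N : ℕ) (f : R →+* A), (∀ m ∈ 𝔪 ^ N, f m = 0) →
      ∃ g : AdicCompletion 𝔪 R →+* A, g.comp (algebraMap R (AdicCompletion 𝔪 R)) = f := by
    intro A _ N f hf
    refine ⟨(Ideal.Quotient.lift (𝔪 ^ N) f hf).comp
      (evalₐ 𝔪 N : AdicCompletion 𝔪 R →+* R ⧸ 𝔪 ^ N), RingHom.ext fun r => ?_⟩
    rw [RingHom.comp_apply, RingHom.comp_apply]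
    change Ideal.Quotient.lift _ f hf (evalₐ 𝔪 N (of 𝔪 R r)) = f r
    rw [evalₐ_of, Ideal.Quotient.lift_mk]
  constructor
  · intro h
    exact change_base_up 𝔪 _ hsurj hc' (to_completion 𝔫 h𝔫 h)
  · intro h
    exact of_completion 𝔫 (change_base_down 𝔪 _ hsurj hc' hext h)

end Groth.Agent.S9317
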