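import Groth.Statements.S9314
-- import your own Groth.Agent.* helpers here
import Groth.Agent.Lib.Helper49.FSReg3
import Groth.Agent.Lib.Helper56.CplFlat
import Groth.Agent.Lib.Helper56.HomComp
import Groth.Agent.Lib.Helper56.HomDescent
import Groth.Agent.Lib.Helper56.FiberLoc
import Groth.Agent.S9317

set_option autoImplicit false
universe u
open CAlg

namespace Groth.Agent.S9314

open IsLocalRing Groth.Agent.Lib.Helper56

theorem isRegularHom_cpl_cpl {A B : Type u}
    [CommRing A] [CommRing B] [IsLocalRing A] [IsLocalRing B] [IsNoetherianRing A]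
    [IsNoetherianRing B] [Algebra A B] [IsLocalHom (algebraMap A B)]
    (h : CAlgX.IsAdicFormallySmooth A B (IsLocalRing.maximalIdeal B)) :
    letI := cplAlgebra A B
    CAlg.IsRegularHom (EGA4.Cpl A) (EGA4.Cpl B) := by
  classical
  haveI hAN : IsNoetherianRing (EGA4.Cpl A) := Groth.Agent.S0543.result _ _
  haveI hBN : IsNoetherianRing (EGA4.Cpl B) := Groth.Agent.S0543.result _ _
  haveI hAc : IsAdicComplete (maximalIdeal (EGA4.Cpl A)) (EGA4.Cpl A) :=
    AdicCompletion.isAdicComplete_of_fg (IsNoetherian.noetherian _)
  haveI hBc : IsAdicComplete (maximalIdeal (EGA4.Cpl B)) (EGA4.Cpl B) :=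
    AdicCompletion.isAdicComplete_of_fg (IsNoetherian.noetherian _)
  letI := cplAlgebra A B
  haveI : IsLocalHom (algebraMap (EGA4.Cpl A) (EGA4.Cpl B)) := isLocalHom_cplMap A B
  have h' : CAlgX.IsAdicFormallySmooth (EGA4.Cpl A) (EGA4.Cpl B) (maximalIdeal (EGA4.Cpl B)) := by
    have := (Groth.Agent.S9317.result (maximalIdeal A) (maximalIdeal B)
      (IsNoetherian.noetherian _) (IsNoetherian.noetherian _)
      ⟨1, by rw [pow_one]; exact map_maximalIdeal_le_of_isLocalHom A B⟩ (cplMap A B)
      (RingHom.ext (cplMap_algebraMap A B))).mp h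
    rwa [← AdicCompletion.maximalIdeal_eq_map] at this
  exact Groth.Agent.Lib.Helper49.FSReg.isRegularHom_of_fs h'

/-- Let `A` and `B` be Noetherian local rings and `A → B` a local ring map, and suppose that the map
from `A` to its completion along the maximal ideal is a regular ring map. If `A → B` is formally
smooth for the adic topology of the maximal ideal of `B`, then `A → B` is a regular ring map: flat,
with Noetherian fibres that are geometrically regular over the residue fields of `A`. -/
theorem result {A B : Type u}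
    [CommRing A] [CommRing B] [IsLocalRing A] [IsLocalRing B] [IsNoetherianRing A]
    [IsNoetherianRing B] [Algebra A B] [IsLocalHom (algebraMap A B)]
    (hA : CAlg.IsRegularHom A (AdicCompletion (IsLocalRing.maximalIdeal A) A))
    (h : CAlgX.IsAdicFormallySmooth A B (IsLocalRing.maximalIdeal B)) :
    CAlg.IsRegularHom A B := by
  classical
  haveI hBN : IsNoetherianRing (EGA4.Cpl B) := Groth.Agent.S0543.result _ _
  letI := cplAlgebra A B
  haveI := isScalarTower_cpl A B
  haveI := isScalarTower_cpl_base A B
  have hreg := isRegularHom_cpl_cpl h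
  have hAC : CAlg.IsRegularHom A (EGA4.Cpl B) :=
    isRegularHom_comp A (EGA4.Cpl A) (EGA4.Cpl B) hA hreg
      (fun p _ => isNoetherianRing_fiber A (EGA4.Cpl B) p)
  haveI := faithfullyFlat_cpl B
  exact isRegularHom_descent A B (EGA4.Cpl B) hAC

end Groth.Agent.S9314
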