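import Groth.Statements.S5719
import Groth.Agent.Lib.Helper3.AzumayaFamily
import Groth.Agent.S7722
import Groth.Agent.S8128
import Mathlib.RingTheory.LocalRing.ResidueField.Ideal
-- import your own Groth.Agent.* helpers here

set_option autoImplicit false
universe u v
open TensorProduct
open Dix

namespace Groth.Agent.S5719

section helpers

/-- An Azumaya algebra over a field is a simple ring. -/
theorem isSimpleRing_of_isAzumaya_field (k : Type*) [Field k] (A : Type*) [Ring A] [Algebra k A]
    [IsAzumaya k A] : IsSimpleRing A := by
  haveI : Nontrivial A := by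
    have hinj := FaithfulSMul.algebraMap_injective k A
    exact hinj.nontrivial
  apply IsSimpleRing.of_eq_bot_or_eq_top
  intro I
  have hI := S8128.part_a k A I
  rcases Ideal.eq_bot_or_top ((TwoSidedIdeal.asIdeal I).comap (algebraMap k A)) with h | h
  · left
    rw [h, Ideal.map_bot] at hI
    rw [eq_bot_iff]
    intro x hx
    have : x ∈ TwoSidedIdeal.asIdeal I := TwoSidedIdeal.mem_asIdeal.mpr hx
    rw [hI] at this
    rw [Ideal.mem_bot.mp this]
    exact TwoSidedIdeal.zero_mem _
  · right
    have h1' : (1 : k) ∈ (TwoSidedIdeal.asIdeal I).comap (algebraMap k A) := by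
      rw [h]; trivial
    rw [Ideal.mem_comap, map_one, TwoSidedIdeal.mem_asIdeal] at h1'
    rw [eq_top_iff]
    intro x _
    have := I.mul_mem_left x 1 h1'
    rwa [mul_one] at this

end helpers

/-- (i) ⇔ (ii), over an affine base. Let R be a commutative ring and A an R-algebra whose underlying
module is finite and projective (locally free of finite type). Then A ⊗_R A° → End_R(A) is bijective
with A faithful, i.e. A is an Azumaya algebra over R, if and only if every fibre κ(p) ⊗_R A, p a
prime ideal of R, is a central simple algebra over the residue field κ(p). -/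
theorem result (R : Type u) [CommRing R] (A : Type u) [Ring A] [Algebra R A] [Module.Finite R A] [Module.Projective R A] : IsAzumaya R A ↔ ∀ (p : Ideal R) [p.IsPrime], Algebra.IsCentral p.ResidueField (p.ResidueField ⊗[R] A) ∧ IsSimpleRing (p.ResidueField ⊗[R] A) := by
  constructor
  · intro hAz p hp
    haveI : IsAzumaya p.ResidueField (p.ResidueField ⊗[R] A) :=
      Groth.Agent.Lib.Helper3.Az.isAzumaya_baseChange R p.ResidueField A
    exact ⟨inferInstance, isSimpleRing_of_isAzumaya_field p.ResidueField _⟩
  · intro h
    apply Groth.Agent.Lib.Helper3.Az.isAzumaya_of_forall_prime R A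
    intro p hp
    obtain ⟨hc, hs⟩ := h p
    refine ⟨p.ResidueField, inferInstance, inferInstance, ⟨⟨⊥, Ideal.isPrime_bot⟩, ?_⟩, ?_⟩
    · show Ideal.comap (algebraMap R p.ResidueField) ⊥ = p
      rw [← RingHom.ker_eq_comap_bot, Ideal.ker_algebraMap_residueField]
    · haveI hfaith : FaithfulSMul p.ResidueField (p.ResidueField ⊗[R] A) :=
        (faithfulSMul_iff_algebraMap_injective _ _).mpr
          (RingHom.injective (algebraMap p.ResidueField (p.ResidueField ⊗[R] A)))
      exact { bij := Groth.Agent.S7722.result p.ResidueField (p.ResidueField ⊗[R] A) }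

end Groth.Agent.S5719
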