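import Groth.Statements.S15063
import Groth.Agent.Lib.Helper69.HopfUnit
import Groth.Agent.Lib.Helper96.NormalInv

set_option autoImplicit false
universe u
open Hopf

namespace Groth.Agent.S15063

open TensorProduct IsLocalRing WithConv
open Groth.Agent.Lib.Helper69.HopfUnit

section
variable (R : Type u) [CommRing R] (A : Type u) [CommRing A] [HopfAlgebra R A]
    (e : A) (hε : Bialgebra.counitAlgHom R A e = 1)

local notation "II" => Ideal.span ({1 - e} : Set A)

/-- `id ⊗ ε̄ : A ⊗ A₀ → A`. -/
noncomputable def theta : A ⊗[R] (A ⧸ II) →ₐ[R] A :=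
  Algebra.TensorProduct.lift (AlgHom.id R A) ((Algebra.ofId R A).comp (epsBar R A e hε))
    (fun _ _ => Commute.all _ _)

theorem theta_tmul (a : A) (x : A ⧸ II) :
    theta R A e hε (a ⊗ₜ[R] x) = a * algebraMap R A (epsBar R A e hε x) := by
  simp [theta]

theorem sub_mem_of_isMaximal' [Nontrivial R] [IsLocalRing (A ⧸ II)] [Module.Finite R A]
    (M : Ideal (A ⊗[R] (A ⧸ II))) [hM : M.IsMaximal] (t : A ⊗[R] (A ⧸ II)) :
    t - (theta R A e hε t) ⊗ₜ[R] (1 : A ⧸ II) ∈ M := by
  have hint : Algebra.IsIntegral R (A ⊗[R] (A ⧸ II)) := Algebra.IsIntegral.of_finite R _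
  have hint0 : Algebra.IsIntegral R (A ⧸ II) := Algebra.IsIntegral.of_finite R _
  have hmax : (M.comap (algebraMap R (A ⊗[R] (A ⧸ II)))).IsMaximal :=
    Ideal.isMaximal_comap_of_isIntegral_of_isMaximal M
  have h2 : ∀ y ∈ maximalIdeal (A ⧸ II), (1 : A) ⊗ₜ[R] y ∈ M := by
    let iR : (A ⧸ II) →ₐ[R] A ⊗[R] (A ⧸ II) := Algebra.TensorProduct.includeRight
    have hq : (M.comap iR.toRingHom).IsPrime := Ideal.comap_isPrime _ _
    have hcomap : (M.comap iR.toRingHom).comap (algebraMap R (A ⧸ II)) =
        M.comap (algebraMap R (A ⊗[R] (A ⧸ II))) := by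
      rw [Ideal.comap_comap]
      exact congrArg (fun f => Ideal.comap f M) iR.comp_algebraMap
    have hqmax : (M.comap iR.toRingHom).IsMaximal :=
      Ideal.isMaximal_of_isIntegral_of_isMaximal_comap _ (by rw [hcomap]; exact hmax)
    have := IsLocalRing.eq_maximalIdeal hqmax
    intro x hx
    rw [← this] at hx
    exact hx
  induction t with
  | zero => simp
  | add x y hx hy =>
    have : x + y - (theta R A e hε (x + y)) ⊗ₜ[R] (1 : A ⧸ II) =
        (x - (theta R A e hε x) ⊗ₜ[R] (1 : A ⧸ II)) +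
          (y - (theta R A e hε y) ⊗ₜ[R] (1 : A ⧸ II)) := by
      rw [map_add, add_tmul]; ring
    rw [this]
    exact M.add_mem hx hy
  | tmul a x =>
    rw [theta_tmul]
    have e1 : a ⊗ₜ[R] x - (a * algebraMap R A (epsBar R A e hε x)) ⊗ₜ[R] (1 : A ⧸ II) =
        (a ⊗ₜ[R] (1 : A ⧸ II)) *
          ((1 : A) ⊗ₜ[R] (x - algebraMap R (A ⧸ II) (epsBar R A e hε x))) := by
      rw [Algebra.TensorProduct.tmul_mul_tmul, mul_one, one_mul, tmul_sub]
      congr 1
      generalize epsBar R A e hε x = r
      rw [mul_comm, ← Algebra.smul_def, smul_tmul, ← Algebra.algebraMap_eq_smul_one]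
    rw [e1]
    exact M.mul_mem_left _ (h2 _ (sub_mem_maximalIdeal R A e hε x))

theorem idem_eq_one [Nontrivial R] [IsLocalRing (A ⧸ II)] [Module.Finite R A]
    (f : A ⊗[R] (A ⧸ II)) (hf : IsIdempotentElem f) (hθ : theta R A e hε f = 1) : f = 1 := by
  have hg : IsIdempotentElem (1 - f) := hf.one_sub
  have hjac : (1 - f) - 0 ∈ Ideal.jacobson (⊥ : Ideal (A ⊗[R] (A ⧸ II))) := by
    rw [sub_zero, Ideal.jacobson, Ideal.mem_sInf]
    rintro M ⟨-, hM⟩
    have := sub_mem_of_isMaximal' R A e hε M (1 - f)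
    rwa [map_sub, map_one, hθ, sub_self, zero_tmul, sub_zero] at this
  have := Groth.Agent.Lib.Helper58.HenselPair.idempotent_eq_of_sub_mem_jacobson hg
    IsIdempotentElem.zero hjac
  exact (sub_eq_zero.mp this).symm

end

theorem comp_conv3 {k : Type u} [CommRing k] {A : Type u} [CommRing A] [HopfAlgebra k A]
    {C C' : Type u} [CommRing C] [Algebra k C] [CommRing C'] [Algebra k C'] (ρ : C →ₐ[k] C')
    (x y z : A →ₐ[k] C) :
    ρ.comp (Dyn.conv3 k A x y z) = Dyn.conv3 k A (ρ.comp x) (ρ.comp y) (ρ.comp z) := by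
  rw [Groth.Agent.Lib.Helper96.NormalInv.conv3_eq, Groth.Agent.Lib.Helper96.NormalInv.conv3_eq,
    AlgHom.comp_convMul_distrib, AlgHom.comp_convMul_distrib]


/-- Let R be a henselian Noetherian local ring and A a commutative Hopf algebra over R which is finite
and flat as an R-module (a finite flat R-group G = Spec A, not assumed commutative); let e ∈ A be an
idempotent with ε(e) = 1 such that A/(1 − e) is a local ring, so that Spec A/(1 − e) is the
connected component G⁰ of G containing the unit section. Then G⁰ is normal in G: for every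
commutative R-algebra T, every T-valued point g of G and every T-valued point h of G killing the
ideal (1 − e), the conjugate g·h·g⁻¹ again kills (1 − e). (The published statement is for a flat
affine algebraic R-group and also asserts that G⁰ is an open and closed flat subgroup; this row
states the normality clause for finite flat G.) -/
theorem result (R : Type u) [CommRing R] [HenselianLocalRing R] [IsNoetherianRing R]
    (A : Type u) [CommRing A] [HopfAlgebra R A] [Module.Finite R A] [Module.Flat R A]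
    (e : A) (he : IsIdempotentElem e) (hε : Bialgebra.counitAlgHom R A e = 1)
    [IsLocalRing (A ⧸ Ideal.span ({1 - e} : Set A))] :
    SGA3.IsNormalHopfIdeal R A (Ideal.span ({1 - e} : Set A)) := by
  intro T _ _ g h hh a ha
  set π := Ideal.Quotient.mkₐ R (Ideal.span ({1 - e} : Set A)) with hπ
  -- the universal case
  let g₀ : A →ₐ[R] A ⊗[R] (A ⧸ Ideal.span ({1 - e} : Set A)) := Algebra.TensorProduct.includeLeft
  let h₀ : A →ₐ[R] A ⊗[R] (A ⧸ Ideal.span ({1 - e} : Set A)) :=
    (Algebra.TensorProduct.includeRight).comp π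
  let c : A →ₐ[R] A ⊗[R] (A ⧸ Ideal.span ({1 - e} : Set A)) :=
    Dyn.conv3 R A g₀ h₀ (g₀.comp (HopfAlgebra.antipodeAlgHom R A))
  -- `c e = 1`
  have hce : c e = 1 := by
    apply idem_eq_one R A e hε (c e) (he.map c)
    have h1 : (theta R A e hε).comp c = ofConv (1 : WithConv (A →ₐ[R] A)) := by
      rw [comp_conv3]
      have hg : (theta R A e hε).comp g₀ = AlgHom.id R A := by
        ext a
        simp [theta, g₀]
      have hh₀ : (theta R A e hε).comp h₀ = ofConv (1 : WithConv (A →ₐ[R] A)) := by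
        ext a
        simp [theta, h₀, AlgHom.convOne_def, π, epsBar] <;> rfl
      have hgS : (theta R A e hε).comp (g₀.comp (HopfAlgebra.antipodeAlgHom R A)) =
          HopfAlgebra.antipodeAlgHom R A := by
        rw [← AlgHom.comp_assoc, hg, AlgHom.id_comp]
      rw [hg, hh₀, hgS, Groth.Agent.Lib.Helper96.NormalInv.conv3_eq]
      simp only [toConv_ofConv, mul_one]
      rw [Groth.Agent.Lib.Helper96.NormalInv.id_antipode_cancel]
    have h2 := DFunLike.congr_fun h1 e
    rw [AlgHom.comp_apply] at h2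
    rw [h2, AlgHom.convOne_apply]
    have : Coalgebra.counit (R := R) e = 1 := hε
    rw [this, map_one]
  -- the specialisation
  let hbar : (A ⧸ Ideal.span ({1 - e} : Set A)) →ₐ[R] T :=
    Ideal.Quotient.liftₐ _ h (fun x hx => hh x hx)
  let ρ : A ⊗[R] (A ⧸ Ideal.span ({1 - e} : Set A)) →ₐ[R] T :=
    Algebra.TensorProduct.lift g hbar (fun _ _ => Commute.all _ _)
  have hρg : ρ.comp g₀ = g := by
    ext a
    simp [ρ, g₀]
  have hρh : ρ.comp h₀ = h := by
    ext a
    simp [ρ, h₀, hbar, π] <;> rfl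
  have hρgS : ρ.comp (g₀.comp (HopfAlgebra.antipodeAlgHom R A)) =
      g.comp (HopfAlgebra.antipodeAlgHom R A) := by
    rw [← AlgHom.comp_assoc, hρg]
  have hρc : ρ.comp c = Dyn.conv3 R A g h (g.comp (HopfAlgebra.antipodeAlgHom R A)) := by
    rw [comp_conv3, hρg, hρh, hρgS]
  rw [← hρc, AlgHom.comp_apply]
  obtain ⟨b, rfl⟩ := Ideal.mem_span_singleton'.mp ha
  rw [map_mul, map_sub, map_one, hce, sub_self, mul_zero, map_zero]

end Groth.Agent.S15063
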