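import Mathlib
import Groth.Statements.S0518
import Groth.Agent.Lib.Helper9.HenselSplit

set_option autoImplicit false
universe u
open Hensel

namespace Groth.Agent.S0518

open IsLocalRing TensorProduct Polynomial Groth.Agent.Lib.Helper9

/-- Over a henselian local ring `R` with residue field `κ`, every finite étale `κ`-algebra is the base
change of some finite étale `R`-algebra. -/
theorem result (R : Type u) [CommRing R]
    [HenselianLocalRing R] (A : Type u) [CommRing A] [Algebra (IsLocalRing.ResidueField R) A]
    [Module.Finite (IsLocalRing.ResidueField R) A] [Algebra.Etale (IsLocalRing.ResidueField R) A] :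
    ∃ (S : Type u) (_ : CommRing S) (_ : Algebra R S), Module.Finite R S ∧ Algebra.Etale R S ∧
      Nonempty (TensorProduct R (IsLocalRing.ResidueField R) S ≃ₐ[IsLocalRing.ResidueField R] A) := by
  classical
  obtain ⟨I, hI, L, hLf, hLa, eA, hL⟩ :=
    (Algebra.Etale.iff_exists_algEquiv_prod (ResidueField R) A).mp inferInstance
  have hfin : ∀ i, Module.Finite (ResidueField R) (L i) := fun i => (hL i).1
  have hsep : ∀ i, Algebra.IsSeparable (ResidueField R) (L i) := fun i => (hL i).2
  have hprim : ∀ i, ∃ α : L i, IntermediateField.adjoin (ResidueField R) {α} = ⊤ :=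
    fun i => Field.exists_primitive_element (ResidueField R) (L i)
  choose α hα using hprim
  have hint : ∀ i, IsIntegral (ResidueField R) (α i) := fun i =>
    Algebra.IsIntegral.isIntegral (α i)
  have hlift : ∀ i, ∃ P : R[X], P.Monic ∧ P.map (residue R) = minpoly (ResidueField R) (α i) := by
    intro i
    have hmem : minpoly (ResidueField R) (α i) ∈ Polynomial.lifts (residue R) := by
      rw [Polynomial.mem_lifts]
      exact Polynomial.map_surjective (residue R) residue_surjective _
    obtain ⟨P, hP1, -, hP2⟩ := Polynomial.lifts_and_degree_eq_and_monic hmem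
      (minpoly.monic (hint i))
    exact ⟨P, hP2, hP1⟩
  choose P hPmonic hPmap using hlift
  have hPsep : ∀ i, ((P i).map (residue R)).Separable := by
    intro i
    rw [hPmap]
    exact Algebra.IsSeparable.isSeparable (ResidueField R) (α i)
  have hfinS : ∀ i, Module.Finite R (AdjoinRoot (P i)) := fun i => (hPmonic i).finite_adjoinRoot
  have hetS : ∀ i, Algebra.Etale R (AdjoinRoot (P i)) := fun i =>
    etale_adjoinRoot_of_separable (P i) (hPmonic i) (hPsep i)
  have : Fintype I := Fintype.ofFinite I
  refine ⟨∀ i, AdjoinRoot (P i), inferInstance, inferInstance, inferInstance, inferInstance, ⟨?_⟩⟩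
  -- the chain of isomorphisms
  let e₁ : ResidueField R ⊗[R] (∀ i, AdjoinRoot (P i)) ≃ₐ[ResidueField R]
      ∀ i, ResidueField R ⊗[R] AdjoinRoot (P i) :=
    Algebra.TensorProduct.piRight R (ResidueField R) (ResidueField R) _
  let e₂ : ∀ i, ResidueField R ⊗[R] AdjoinRoot (P i) ≃ₐ[ResidueField R] L i := fun i =>
    (adjoinRootResidueEquiv (P i)).trans <|
      (AdjoinRoot.algEquivOfAssociated (ResidueField R) _ _ (Associated.of_eq (hPmap i))).trans <|
      (IntermediateField.adjoinRootEquivAdjoin (ResidueField R) (hint i)).trans <|
      (IntermediateField.equivOfEq (hα i)).trans IntermediateField.topEquiv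
  exact e₁.trans ((AlgEquiv.piCongrRight e₂).trans eA.symm)

end Groth.Agent.S0518
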