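import Groth.Statements.S15893
import Mathlib
-- import your own Groth.Agent.* helpers here

set_option autoImplicit false
universe u v w
open CartDual

namespace Groth.Agent.S15893

theorem eval_bijective (R : Type u) [CommRing R] (A : Type v) [Ring A] [Bialgebra R A]
    [Module.Finite R A] [Module.Projective R A] : Function.Bijective (CartDual.eval R A) := by
  have h := Module.bijective_dual_eval R A
  constructor
  · intro a b hab
    apply h.1
    apply LinearMap.ext
    intro x
    have := congrArg (fun z => z ((CartDual.toDual R A).symm x)) hab
    simpa using this
  · intro z
    obtain ⟨a, ha⟩ := h.2 (z.ofConv ∘ₗ (CartDual.toDual R A).symm.toLinearMap)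
    refine ⟨a, ?_⟩
    apply WithConv.ext
    apply LinearMap.ext
    intro x
    have := congrArg (fun φ => φ (CartDual.toDual R A x)) ha
    simpa using this

set_option backward.isDefEq.respectTransparency false in

/-- Let R be a commutative ring and A, B commutative and cocommutative Hopf algebras over R, each
finitely generated and projective as an R-module (finite locally free commutative group schemes G =
Spec A, H = Spec B over Spec R). Then Cartier duality is a fully faithful contravariant functor: the
map sending a bialgebra homomorphism f : A → B (a homomorphism of group schemes H → G) to its
transpose between the dual Hopf algebras, Hom_R(B, R) → Hom_R(A, R) (the dual homomorphism G^D →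
H^D), is a bijection between bialgebra homomorphisms A → B and bialgebra homomorphisms Hom_R(B, R) →
Hom_R(A, R). (The published statement also asserts that the canonical map to the double dual is an
isomorphism, which makes duality an involutory anti-equivalence; that part is not restated here. The
published notes work over a Noetherian base ring; the row allows any commutative base ring.) -/
theorem result (R : Type u) [CommRing R] (A : Type v) (B : Type w)
    [CommRing A] [HopfAlgebra R A] [Coalgebra.IsCocomm R A] [Module.Finite R A] [Module.Projective R A]
    [CommRing B] [HopfAlgebra R B] [Coalgebra.IsCocomm R B] [Module.Finite R B] [Module.Projective R B] :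
    Function.Bijective (fun f : A →ₐc[R] B => CartDual.transpose R f) := by
  constructor
  · intro f g hfg
    apply BialgHom.ext
    intro a
    apply (eval_bijective R B).1
    apply WithConv.ext
    apply LinearMap.ext
    intro x
    have := congrArg (fun h => h x a) hfg
    simpa using this
  · intro h
    let eB : B ≃ₐc[R] CartDual.D R (CartDual.D R B) :=
      BialgEquiv.ofBijective (R := R) (A := B) (B := CartDual.D R (CartDual.D R B))
        (CartDual.eval R B) (eval_bijective R B)
    refine ⟨((eB.symm : _ →ₐc[R] B).comp (CartDual.transpose R h)).comp (CartDual.eval R A), ?_⟩
    apply BialgHom.ext
    intro x
    apply WithConv.ext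
    apply LinearMap.ext
    intro a
    change x (eB.symm (CartDual.transpose R h (CartDual.eval R A a))) = h x a
    have h1 : CartDual.eval R B (eB.symm (CartDual.transpose R h (CartDual.eval R A a))) =
        CartDual.transpose R h (CartDual.eval R A a) := eB.apply_symm_apply _
    have h2 := congrArg (fun z => z x) h1
    simpa using h2


end Groth.Agent.S15893
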