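import Groth.Statements.S15586
import Mathlib

set_option autoImplicit false
universe u v w
open scoped TensorProduct
open RInv

namespace Groth.Agent.S15586

/-- Let `R` be a commutative ring with an involution `lam` and fixed ring `S`, and let `S'` be a
commutative `S`-algebra. If `S'` is flat over `S`, or if `2` is invertible in `S`, then `S'` is the
fixed ring of the base-changed involution `id ⊗ lam` of `S' ⊗_S R`: the structure map `S' → S' ⊗_S
R` is injective with image the fixed elements. (In general the fixed ring does not commute with base
change.) -/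
theorem result (S : Type u) (R : Type v) (S' : Type w)
    [CommRing S] [CommRing R] [Algebra S R] [CommRing S'] [Algebra S S']
    (lam : R ≃ₐ[S] R) (hlam : Function.Involutive lam)
    (hS : RInv.IsFixedRing S R lam.toRingEquiv)
    (h : Module.Flat S S' ∨ IsUnit (2 : S)) :
    RInv.IsFixedRing S' (S' ⊗[S] R)
      (Algebra.TensorProduct.congr (AlgEquiv.refl : S' ≃ₐ[S] S') lam).toRingEquiv := by
  obtain ⟨hinj, hfix⟩ := hS
  have hcongr : ∀ x : S' ⊗[S] R,
      (Algebra.TensorProduct.congr (AlgEquiv.refl : S' ≃ₐ[S] S') lam) x =
        (lam.toLinearMap.lTensor S') x := by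
    intro x
    induction x using TensorProduct.induction_on with
    | zero => simp
    | tmul a b => simp
    | add x y hx hy => rw [map_add, map_add, hx, hy]
  have halg : ∀ s' : S', algebraMap S' (S' ⊗[S] R) s' = s' ⊗ₜ[S] (1 : R) := fun s' => rfl
  have hfixed_of_range : ∀ s' : S',
      (Algebra.TensorProduct.congr (AlgEquiv.refl : S' ≃ₐ[S] S') lam) (s' ⊗ₜ[S] (1 : R)) =
        s' ⊗ₜ[S] (1 : R) := by
    intro s'
    simp
  let f : S →ₗ[S] R := Algebra.linearMap S R
  have hf1 : ∀ s' : S', (f.lTensor S') (s' ⊗ₜ[S] (1 : S)) = s' ⊗ₜ[S] (1 : R) := by
    intro s'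
    simp [f]
  have hyform : ∀ y : S' ⊗[S] S, y = (TensorProduct.rid S S' y) ⊗ₜ[S] (1 : S) := by
    intro y
    have := (TensorProduct.rid S S').symm_apply_apply y
    rw [TensorProduct.rid_symm_apply] at this
    exact this.symm
  rcases h with hflat | h2
  · refine ⟨?_, fun x => ⟨fun hx => ?_, ?_⟩⟩
    · have hinjT : Function.Injective (f.lTensor S') :=
        Module.Flat.lTensor_preserves_injective_linearMap f hinj
      intro a b hab
      rw [halg, halg, ← hf1, ← hf1] at hab
      have := hinjT hab
      have h2 := congrArg (TensorProduct.rid S S') this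
      simpa using h2
    · let g : R →ₗ[S] R := lam.toLinearMap - LinearMap.id
      have hexact : Function.Exact f g := by
        intro r
        constructor
        · intro hr
          have : lam r = r := by
            have : lam r - r = 0 := hr
            exact sub_eq_zero.mp this
          exact (hfix r).mp this
        · rintro ⟨s, rfl⟩
          change lam (algebraMap S R s) - algebraMap S R s = 0
          rw [lam.commutes, sub_self]
      have hexT := Module.Flat.lTensor_exact S' hexact
      have hgx : (g.lTensor S') x = 0 := by
        simp only [g, LinearMap.lTensor_sub, LinearMap.sub_apply, LinearMap.lTensor_id,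
          LinearMap.id_apply]
        rw [← hcongr]
        exact sub_eq_zero.mpr hx
      obtain ⟨y, hy⟩ := (hexT x).mp hgx
      rw [hyform y, hf1] at hy
      exact ⟨_, hy⟩
    · rintro ⟨s', rfl⟩
      exact hfixed_of_range s'
  · obtain ⟨u2, hu2⟩ := h2
    have hτ : ∀ r : R, ∃ s : S, algebraMap S R s = r + lam r := fun r =>
      (hfix _).mp (by
        change lam (r + lam r) = r + lam r
        rw [map_add, hlam r, add_comm])
    choose σ hσ using hτ
    let τ : R →ₗ[S] S :=
      { toFun := fun r => (↑u2⁻¹ : S) * σ r
        map_add' := fun a b => by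
          have : σ (a + b) = σ a + σ b := by
            apply hinj
            rw [map_add, hσ, hσ, hσ, map_add]
            abel
          rw [this, mul_add]
        map_smul' := fun c a => by
          have : σ (c • a) = c * σ a := by
            apply hinj
            rw [map_mul, hσ, hσ, map_smul, ← smul_add, Algebra.smul_def]
          rw [this, RingHom.id_apply, smul_eq_mul]
          ring }
    have hτf : ∀ r : R, algebraMap S R (τ r) + algebraMap S R (↑u2⁻¹ : S) * (r - lam r) = r := by
      intro r
      change algebraMap S R ((↑u2⁻¹ : S) * σ r) + _ = r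
      rw [map_mul, hσ, ← mul_add]
      have : r + lam r + (r - lam r) = algebraMap S R 2 * r := by
        rw [map_ofNat]
        ring
      rw [this, ← mul_assoc, ← map_mul, ← hu2, Units.inv_mul, map_one, one_mul]
    have hτ1 : τ 1 = 1 := by
      apply hinj
      have := hτf 1
      rw [map_one lam, sub_self, mul_zero, add_zero] at this
      rw [this, map_one]
    have hdecomp : ∀ x : S' ⊗[S] R,
        (f.lTensor S') ((τ.lTensor S') x) + (↑u2⁻¹ : S) • (x - (lam.toLinearMap.lTensor S') x) = x := by
      intro x
      induction x using TensorProduct.induction_on with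
      | zero => simp
      | tmul a b =>
        simp only [LinearMap.lTensor_tmul, f, Algebra.linearMap_apply, AlgEquiv.toLinearMap_apply]
        rw [← TensorProduct.tmul_sub, ← TensorProduct.tmul_smul, ← TensorProduct.tmul_add,
          Algebra.smul_def, hτf]
      | add x y hx hy =>
        conv_rhs => rw [← hx, ← hy]
        simp only [map_add, smul_add, smul_sub]
        abel
    refine ⟨?_, fun x => ⟨fun hx => ?_, ?_⟩⟩
    · intro a b hab
      rw [halg, halg] at hab
      have h3 := congrArg (fun z => TensorProduct.rid S S' ((τ.lTensor S') z)) hab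
      simpa [hτ1] using h3
    · have := hdecomp x
      rw [← hcongr] at this
      have hx' : (Algebra.TensorProduct.congr (AlgEquiv.refl : S' ≃ₐ[S] S') lam) x = x := hx
      rw [hx', sub_self, smul_zero, add_zero, hyform ((τ.lTensor S') x), hf1] at this
      exact ⟨_, this⟩
    · rintro ⟨s', rfl⟩
      exact hfixed_of_range s'

end Groth.Agent.S15586
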