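import Groth.Statements.S15574
import Groth.Agent.Lib.Helper80.RInv2

set_option autoImplicit false
universe u v
open RInv

namespace Groth.Agent.S15574

/-- Let `R` be a commutative ring with an involution `lam` whose fixed ring `S` is local, and suppose
`R` is a quadratic etale `S`-algebra. Then some `r` in `R` has `r - lam r` invertible. -/
theorem result (S : Type u) (R : Type v) [CommRing S] [CommRing R]
    [Algebra S R] (lam : R ≃+* R) (hlam : Function.Involutive lam) (hS : RInv.IsFixedRing S R lam)
    [IsLocalRing S] (hq : RInv.IsQuadEtale S R) : ∃ r : R, IsUnit (r - lam r) := by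
  obtain ⟨hfin, hproj, hunr, hrank⟩ := hq
  have hfree : Module.Free S R := Module.free_of_flat_of_isLocalRing
  have hfr : Module.finrank S R = 2 := by
    have h := hrank (IsLocalRing.closedPoint S)
    rw [Module.rankAtStalk_eq_finrank_of_free] at h
    simpa using h
  let b := Module.finBasisOfFinrankEq S R hfr
  obtain ⟨r, hr⟩ := Groth.Agent.Lib.Helper80.RInvLib.exists_isPairBasis_one b
  exact ⟨r, Groth.Agent.Lib.Helper80.RInvLib.isUnit_of_isPairBasis hlam hS hr⟩

end Groth.Agent.S15574
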