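import Groth.Statements.S15577
import Groth.Agent.Lib.Helper80.RInv3
import Groth.Agent.S15574

set_option autoImplicit false
universe u v
open RInv

namespace Groth.Agent.S15577

/-- Let `R` be a commutative ring with an involution `lam` whose fixed ring `S` is local. If `lam`
induces the identity on `R` modulo its Jacobson radical, then `R` is a local ring and is not a
quadratic etale `S`-algebra. -/
theorem result (S : Type u) (R : Type v) [CommRing S] [CommRing R]
    [Algebra S R] (lam : R ≃+* R) (hlam : Function.Involutive lam) (hS : RInv.IsFixedRing S R lam)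
    [IsLocalRing S] (h : ∀ r : R, lam r - r ∈ Ring.jacobson R) :
    IsLocalRing R ∧ ¬ RInv.IsQuadEtale S R := by
  have hnt : Nontrivial R := Groth.Agent.Lib.Helper80.RInvLib.nontrivial_of_isFixedRing hS
  constructor
  · obtain ⟨M, hM⟩ := Ideal.exists_maximal R
    apply Groth.Agent.Lib.Helper80.RInvLib.isLocalRing_of_comap_eq hlam hS hM
    have hcm : (M.comap lam).IsMaximal := Ideal.comap_isMaximal_of_equiv lam
    symm
    apply hM.eq_of_le hcm.ne_top
    intro x hx
    rw [Ideal.mem_comap]
    have h1 : lam x - x ∈ M :=
      (Groth.Agent.Lib.Helper80.RInvLib.mem_ringJacobson_iff.mp (h x)) M hM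
    have : lam x = (lam x - x) + x := by ring
    rw [this]
    exact M.add_mem h1 hx
  · intro hq
    obtain ⟨r, hr⟩ := Groth.Agent.S15574.result S R lam hlam hS hq
    obtain ⟨M, hM⟩ := Ideal.exists_maximal R
    have h1 : lam r - r ∈ M :=
      (Groth.Agent.Lib.Helper80.RInvLib.mem_ringJacobson_iff.mp (h r)) M hM
    have h2 : r - lam r ∈ M := by
      have : r - lam r = -(lam r - r) := by ring
      rw [this]
      exact M.neg_mem h1
    exact hM.ne_top (Ideal.eq_top_of_isUnit_mem _ h2 hr)

end Groth.Agent.S15577
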