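import Groth.Statements.S18543
-- import your own Groth.Agent.* helpers here
import Mathlib.RingTheory.Etale.Field
import Mathlib.FieldTheory.PrimitiveElement
import Mathlib.FieldTheory.IsAlgClosed.AlgebraicClosure
import Mathlib.LinearAlgebra.FreeModule.Finite.Matrix
import Mathlib.RingTheory.HopfAlgebra.Convolution
import Mathlib.Algebra.CharP.Lemmas
import Mathlib.Algebra.CharP.Algebra

set_option autoImplicit false
universe u
open Hopf

namespace Groth.Agent.S18543

section Count

variable (k : Type u) [Field k] (A : Type u) [CommRing A] [Algebra k A] [Module.Finite k A]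
  [Algebra.Etale k A] (K : Type u) [Field K] [Algebra k K] [IsAlgClosed K]

theorem card_algHom_eq_finrank : Nat.card (A →ₐ[k] K) = Module.finrank k A := by
  classical
  obtain ⟨I, hI, Ai, hF, hAlg, e, hsep⟩ :=
    (Algebra.Etale.iff_exists_algEquiv_prod k A).mp inferInstance
  apply le_antisymm (card_algHom_le_finrank k A K)
  haveI : Fintype I := Fintype.ofFinite I
  haveI hfin : ∀ i, Module.Finite k (Ai i) := fun i => (hsep i).1
  haveI hs : ∀ i, Algebra.IsSeparable k (Ai i) := fun i => (hsep i).2
  have h1 : Module.finrank k A = ∑ i, Module.finrank k (Ai i) := by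
    rw [e.toLinearEquiv.finrank_eq, Module.finrank_pi_fintype]
  let Φ : (Σ i, (Ai i →ₐ[k] K)) → (A →ₐ[k] K) :=
    fun x => (x.2.comp (Pi.evalAlgHom k Ai x.1)).comp e.toAlgHom
  have hΦ : Function.Injective Φ := by
    rintro ⟨i, φ⟩ ⟨j, ψ⟩ h
    have hij : i = j := by
      by_contra hne
      have h2 := DFunLike.congr_fun h (e.symm (Pi.single i 1))
      simp [Φ, Pi.single_eq_of_ne (Ne.symm hne)] at h2
    subst hij
    congr 1
    ext b
    have h2 := DFunLike.congr_fun h (e.symm (Pi.single i b))
    simpa [Φ] using h2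
  haveI : Finite (A →ₐ[k] K) := inferInstance
  calc Module.finrank k A = ∑ i, Module.finrank k (Ai i) := h1
    _ = ∑ i, Nat.card (Ai i →ₐ[k] K) := by
        refine Finset.sum_congr rfl (fun i _ => ?_)
        rw [← AlgHom.card (k) (Ai i) K, Fintype.card_eq_nat_card]
    _ = Nat.card (Σ i, (Ai i →ₐ[k] K)) := by rw [Nat.card_sigma]
    _ ≤ Nat.card (A →ₐ[k] K) := Nat.card_le_card_of_injective Φ hΦ

end Count

section Grp

open WithConv Coalgebra

variable (k : Type u) [Field k] (A : Type u) [CommRing A] [HopfAlgebra k A]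
  (K : Type u) [Field K] [Algebra k K]

theorem inv_mul_cancel' (f : WithConv (A →ₐ[k] K)) :
    toConv (f.ofConv.comp (HopfAlgebra.antipodeAlgHom k A)) * f = 1 := by
  apply WithConv.ofConv_injective
  apply AlgHom.toLinearMap_injective
  apply WithConv.toConv_injective
  rw [AlgHom.toLinearMap_convMul, AlgHom.toLinearMap_convOne]
  have h := LinearMap.algHom_comp_convMul_distrib (R := k) (C := A) f.ofConv
    (toConv (HopfAlgebra.antipode k (A := A))) (toConv LinearMap.id)
  rw [LinearMap.antipode_mul_id] at h
  apply WithConv.ofConv_injective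
  simp only [ofConv_toConv, AlgHom.comp_toLinearMap, HopfAlgebra.toLinearMap_antipodeAlgHom]
  rw [LinearMap.comp_id] at h
  rw [← h]
  ext a
  simp

noncomputable def grp : Group (WithConv (A →ₐ[k] K)) :=
  { (inferInstance : Monoid (WithConv (A →ₐ[k] K))) with
    inv := fun f => toConv (f.ofConv.comp (HopfAlgebra.antipodeAlgHom k A))
    inv_mul_cancel := inv_mul_cancel' k A K }

end Grp

section Main

open WithConv Coalgebra

variable (p : ℕ) [Fact p.Prime] (k : Type u) [Field k] [CharP k p] (A : Type u) [CommRing A]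
  [HopfAlgebra k A] [Coalgebra.IsCocomm k A] [Module.Finite k A] [Algebra.Etale k A]
  (K : Type u) [Field K] [Algebra k K] [IsAlgClosed K]

noncomputable def jmap (f : A →ₐ[k] K) : WithConv (A →ₗ[k] K) := toConv f.toLinearMap

theorem jmap_pow (n : ℕ) (hA : Module.finrank k A = p ^ n) (f : A →ₐ[k] K) :
    (jmap k A K f) ^ (p ^ n) = 1 := by
  have h1 : (toConv f : WithConv (A →ₐ[k] K)) ^ (p ^ n) = 1 := by
    have := @pow_card_eq_one' _ (grp k A K) (toConv f)
    rwa [Nat.card_congr (WithConv.equiv _), card_algHom_eq_finrank, hA] at this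
  have h2 := AlgHom.toLinearMap_convPow (toConv f : WithConv (A →ₐ[k] K)) (p ^ n)
  rw [h1] at h2
  rw [jmap]
  simpa using h2.symm

instance nontrivialDbar : Nontrivial (WithConv (A →ₗ[k] K)) := by
  refine ⟨1, 0, fun h => ?_⟩
  have h1 := congrArg (fun z : WithConv (A →ₗ[k] K) => z.ofConv (1 : A)) h
  simp at h1

theorem charPDbar : CharP (WithConv (A →ₗ[k] K)) p :=
  charP_of_injective_algebraMap (algebraMap k (WithConv (A →ₗ[k] K))).injective p

theorem span_jmap (n : ℕ) (hA : Module.finrank k A = p ^ n) :
    Submodule.span K (Set.range (jmap k A K)) = ⊤ := by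
  classical
  haveI : Finite (A →ₐ[k] K) := inferInstance
  haveI : Fintype (A →ₐ[k] K) := Fintype.ofFinite _
  haveI : Module.Finite K (WithConv (A →ₗ[k] K)) :=
    Module.Finite.equiv (WithConv.linearEquiv K (A →ₗ[k] K)).symm
  have hli : LinearIndependent K (jmap k A K) := by
    have := linearIndependent_algHom_toLinearMap k A K
    exact this.map' (WithConv.linearEquiv K (A →ₗ[k] K)).symm.toLinearMap (LinearEquiv.ker _)
  apply hli.span_eq_top_of_card_eq_finrank'
  rw [Fintype.card_eq_nat_card, card_algHom_eq_finrank,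
    (WithConv.linearEquiv K (A →ₗ[k] K)).finrank_eq, Module.finrank_linearMap_self]

noncomputable def Ssub (n : ℕ) : Submodule K (WithConv (A →ₗ[k] K)) :=
  haveI := charPDbar p k A K
  { carrier := {y | ∃ c : K, y ^ (p ^ n) = c • 1}
    zero_mem' := ⟨0, by rw [zero_pow (pow_ne_zero _ (Fact.out : p.Prime).ne_zero), zero_smul]⟩
    add_mem' := by
      rintro a b ⟨c, hc⟩ ⟨d, hd⟩
      exact ⟨c + d, by rw [add_pow_char_pow, hc, hd, add_smul]⟩
    smul_mem' := by
      rintro c y ⟨d, hd⟩
      exact ⟨c ^ (p ^ n) * d, by rw [smul_pow, hd, smul_smul]⟩ }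

theorem Ssub_eq_top (n : ℕ) (hA : Module.finrank k A = p ^ n) : Ssub p k A K n = ⊤ := by
  rw [eq_top_iff, ← span_jmap p k A K n hA, Submodule.span_le]
  rintro _ ⟨f, rfl⟩
  exact ⟨1, by rw [jmap_pow p k A K n hA, one_smul]⟩

noncomputable def iotaHom : CartDual.D k A →+* WithConv (A →ₗ[k] K) where
  toFun y := toConv ((Algebra.linearMap k K).comp y.ofConv)
  map_one' := by
    ext a
    simp [LinearMap.convOne_def]
  map_mul' y z := by
    have h := LinearMap.algHom_comp_convMul_distrib (R := k) (C := A) (Algebra.ofId k K) y z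
    apply WithConv.ofConv_injective
    exact h
  map_zero' := by
    ext a
    simp
  map_add' y z := by
    ext a
    simp

theorem iotaHom_apply (y : CartDual.D k A) (a : A) :
    (iotaHom k A K y) a = algebraMap k K (y a) := rfl

theorem iotaHom_injective : Function.Injective (iotaHom k A K) := by
  intro y z h
  ext a
  have := congrArg (fun w : WithConv (A →ₗ[k] K) => w a) h
  simp only [iotaHom_apply] at this
  exact (algebraMap k K).injective this

theorem iotaHom_algebraMap (r : k) :
    iotaHom k A K (algebraMap k (CartDual.D k A) r) =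
      algebraMap K (WithConv (A →ₗ[k] K)) (algebraMap k K r) := by
  ext a
  rw [iotaHom_apply]
  simp [Algebra.smul_def]

theorem key (n : ℕ) (hA : Module.finrank k A = p ^ n) (y : CartDual.D k A) :
    y ^ (p ^ n) = (y 1) ^ (p ^ n) • (1 : CartDual.D k A) := by
  have hmem : iotaHom k A (AlgebraicClosure k) y ∈ Ssub p k A (AlgebraicClosure k) n := by
    rw [Ssub_eq_top p k A (AlgebraicClosure k) n hA]
    trivial
  obtain ⟨c, hc⟩ := hmem
  rw [← map_pow] at hc
  have h1 : (y ^ (p ^ n)) 1 = (y 1) ^ (p ^ n) := by
    have := map_pow (Bialgebra.counitAlgHom k (CartDual.D k A)) y (p ^ n)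
    rw [Bialgebra.counitAlgHom_apply, Bialgebra.counitAlgHom_apply,
      CartDual.coalgebra_counit_apply, CartDual.coalgebra_counit_apply] at this
    exact this
  have h2 := congrArg (fun w : WithConv (A →ₗ[k] AlgebraicClosure k) => w (1 : A)) hc
  simp only [iotaHom_apply, h1] at h2
  have h3 : (c • (1 : WithConv (A →ₗ[k] AlgebraicClosure k))) (1 : A) = c := by
    simp
  rw [h3] at h2
  apply iotaHom_injective k A (AlgebraicClosure k)
  rw [hc, ← h2, ← Algebra.algebraMap_eq_smul_one, ← Algebra.algebraMap_eq_smul_one,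
    iotaHom_algebraMap]

theorem main (n : ℕ) (hA : Module.finrank k A = p ^ n) : IsLocalRing (CartDual.D k A) := by
  haveI : Nontrivial (CartDual.D k A) := by
    refine ⟨1, 0, fun h => ?_⟩
    have h1 := congrArg (fun z : CartDual.D k A => z (1 : A)) h
    simp at h1
  apply IsLocalRing.of_isUnit_or_isUnit_one_sub_self
  intro y
  have hp0 : p ^ n ≠ 0 := pow_ne_zero _ (Fact.out : p.Prime).ne_zero
  by_cases h : y 1 = 0
  · right
    have h0 : y ^ (p ^ n) = 0 := by
      rw [key p k A n hA, h, zero_pow hp0, zero_smul]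
    exact IsNilpotent.isUnit_one_sub ⟨p ^ n, h0⟩
  · left
    have hu : IsUnit (y ^ (p ^ n)) := by
      rw [key p k A n hA, ← Algebra.algebraMap_eq_smul_one]
      exact (IsUnit.mk0 _ (pow_ne_zero _ h)).map (algebraMap k (CartDual.D k A))
    exact (isUnit_pow_iff hp0).mp hu

end Main


/-- Let p be a prime number, k a field of characteristic p and A a finite-dimensional commutative,
cocommutative Hopf algebra over k — the coordinate ring of a finite commutative group scheme G over
k — such that A is étale over k and dim_k A = p^n for some n (G is an étale group scheme of p-power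
order). Then the Cartier dual A^∨ = Hom_k(A, k), with its convolution ring structure, is a local
ring; that is, the Cartier dual group scheme G^∨ = Spec A^∨ is infinitesimal (its underlying space
is a single point). -/
theorem result (p : ℕ) [Fact p.Prime]
    (k : Type u) [Field k] [CharP k p] (A : Type u) [CommRing A] [HopfAlgebra k A] [Coalgebra.IsCocomm k A]
    [Module.Finite k A] [Algebra.Etale k A] (n : ℕ) (hA : Module.finrank k A = p ^ n) :
    IsLocalRing (CartDual.D k A) := by
  exact main p k A n hA

end Groth.Agent.S18543
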