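import Groth.Statements.S14967
import Groth.Agent.Lib.Helper3.AzumayaDescent
import Mathlib.RingTheory.Finiteness.Descent
import Mathlib.RingTheory.Flat.EquationalCriterion
import Mathlib.RingTheory.Flat.FaithfullyFlat.Algebra
-- import your own Groth.Agent.* helpers here

set_option autoImplicit false
universe u v w
open TensorProduct
open Brauer

namespace Groth.Agent.S14967

section helpers

theorem finitePresentation_of_faithfullyFlat (R : Type*) (S : Type*) (M : Type*) [CommRing R] [CommRing S]
    [Algebra R S] [Module.FaithfullyFlat R S] [AddCommGroup M] [Module R M]
    [Module.FinitePresentation S (S ⊗[R] M)] : Module.FinitePresentation R M := by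
  have hfin : Module.Finite R M := Module.Finite.of_finite_tensorProduct_of_faithfullyFlat S
  obtain ⟨n, f, hf⟩ := Module.Finite.exists_fin' R M
  have hfS : Function.Surjective (f.baseChange S) := LinearMap.lTensor_surjective S hf
  have hker : (LinearMap.ker (f.baseChange S)).FG := Module.FinitePresentation.fg_ker _ hfS
  have hinj : Function.Injective ((LinearMap.ker f).subtype.baseChange S) :=
    Module.Flat.lTensor_preserves_injective_linearMap _ (Submodule.injective_subtype _)
  have hex := lTensor_exact S (LinearMap.exact_subtype_ker_map f) hf
  have hrange : LinearMap.range ((LinearMap.ker f).subtype.baseChange S) = LinearMap.ker (f.baseChange S) := by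
    ext x
    rw [LinearMap.mem_ker, LinearMap.mem_range]
    exact (hex x).symm
  have : Module.Finite S (LinearMap.range ((LinearMap.ker f).subtype.baseChange S)) := by
    rw [hrange]
    exact Module.Finite.iff_fg.mpr hker
  have : Module.Finite S (S ⊗[R] (LinearMap.ker f)) :=
    Module.Finite.equiv (LinearEquiv.ofInjective _ hinj).symm
  have : Module.Finite R (LinearMap.ker f) := Module.Finite.of_finite_tensorProduct_of_faithfullyFlat S
  exact Module.finitePresentation_of_surjective f hf (Module.Finite.iff_fg.mp this)

end helpers

/-- Let R → S be a faithfully flat homomorphism of commutative rings and B an R-algebra, with no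
finiteness assumption. If S ⊗_R B is an Azumaya S-algebra then B is an Azumaya R-algebra. (The
published statement is for a flat surjective morphism of schemes X → Y and a quasi-coherent
O_Y-algebra; this row is the case of affine X and Y, where flat and surjective means faithfully
flat. The converse, base change, is omitted.) -/
theorem result (R : Type u) [CommRing R]
    (S : Type v) [CommRing S] [Algebra R S] [Module.FaithfullyFlat R S]
    (B : Type w) [Ring B] [Algebra R B] [IsAzumaya S (S ⊗[R] B)] : IsAzumaya R B := by
  haveI hfin : Module.Finite R B := Module.Finite.of_finite_tensorProduct_of_faithfullyFlat S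
  haveI hflat : Module.Flat R B := Module.Flat.of_flat_tensorProduct R B S
  haveI : Module.FinitePresentation S (S ⊗[R] B) := Module.finitePresentation_of_projective _ _
  haveI hfp : Module.FinitePresentation R B := finitePresentation_of_faithfullyFlat R S B
  haveI hproj : Module.Projective R B := Module.Flat.projective_of_finitePresentation
  exact Groth.Agent.Lib.Helper3.Az.isAzumaya_of_baseChange R S B
    PrimeSpectrum.comap_surjective_of_faithfullyFlat

end Groth.Agent.S14967
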