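import Groth.Statements.S7661
import Mathlib.RingTheory.Ideal.Operations
import Mathlib.RingTheory.Ideal.Quotient.Basic
import Mathlib.Order.Minimal

set_option autoImplicit false
universe u
open CategoryTheory CategoryTheory.Limits AlgebraicGeometry
open Variety

namespace Groth.Agent.S7661

theorem key {A : Type u} [CommRing A] (I : Ideal A) :
    ∀ (n : ℕ) (s : Finset (Ideal A)), s.card = n → (∀ p ∈ s, p.IsPrime) → (∀ p ∈ s, ¬ I ≤ p) →
      ∀ f₀ : A, ∃ g ∈ I, ∀ p ∈ s, f₀ + g ∉ p := by
  classical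
  intro n
  induction n with
  | zero =>
    intro s hcard _ _ f₀
    rw [Finset.card_eq_zero] at hcard
    subst hcard
    exact ⟨0, I.zero_mem, fun p hp => absurd hp (Finset.notMem_empty p)⟩
  | succ n ih =>
    intro s hcard hs hI f₀
    have hne : s.Nonempty := by
      rw [← Finset.card_pos, hcard]; exact Nat.succ_pos n
    obtain ⟨q, hq⟩ := s.exists_minimal hne
    have hqs : q ∈ s := hq.1
    have hqmin : ∀ p ∈ s, p ≤ q → p = q := fun p hp hpq => le_antisymm hpq (hq.2 hp hpq)
    have hqp : q.IsPrime := hs q hqs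
    obtain ⟨g', hg'I, hg'⟩ := ih (s.erase q) (by rw [Finset.card_erase_of_mem hqs, hcard]; rfl)
      (fun p hp => hs p (Finset.mem_of_mem_erase hp))
      (fun p hp => hI p (Finset.mem_of_mem_erase hp)) f₀
    by_cases hf1 : f₀ + g' ∈ q
    · have hnle : ¬ (I * ∏ p ∈ s.erase q, p ≤ q) := by
        intro hle
        rcases hqp.mul_le.mp hle with h1 | h1
        · exact hI q hqs h1
        · obtain ⟨p, hp, hpq⟩ := (hqp.prod_le).mp h1
          have := hqmin p (Finset.mem_of_mem_erase hp) hpq
          exact (Finset.ne_of_mem_erase hp) this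
      obtain ⟨h, hh, hhq⟩ := SetLike.not_le_iff_exists.mp hnle
      refine ⟨g' + h, I.add_mem hg'I (Ideal.mul_le_left hh), fun p hp => ?_⟩
      by_cases hpq : p = q
      · subst hpq
        intro hmem
        have : h ∈ p := by
          have h2 : h = (f₀ + (g' + h)) - (f₀ + g') := by ring
          rw [h2]
          exact p.sub_mem hmem hf1
        exact hhq this
      · have hpe : p ∈ s.erase q := Finset.mem_erase.mpr ⟨hpq, hp⟩
        intro hmem
        have hhp : h ∈ p := by
          have h3 : ∏ p ∈ s.erase q, p ≤ p := Ideal.prod_le_inf.trans (Finset.inf_le hpe)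
          exact h3 (Ideal.mul_le_right hh)
        have : f₀ + g' ∈ p := by
          have h2 : f₀ + g' = (f₀ + (g' + h)) - h := by ring
          rw [h2]
          exact p.sub_mem hmem hhp
        exact hg' p hpe this
    · refine ⟨g', hg'I, fun p hp => ?_⟩
      by_cases hpq : p = q
      · subst hpq; exact hf1
      · exact hg' p (Finset.mem_erase.mpr ⟨hpq, hp⟩)

/-- Let A be a ring, I an ideal, p_1, …, p_r prime ideals with I ⊄ p_i for all i, and let f̄ ∈ A/I. Then
f̄ lifts to an element f ∈ A with f ∉ p_i for all i. -/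
theorem result (A : Type u) [CommRing A] (I : Ideal A)
    (s : Finset (Ideal A)) (hs : ∀ p ∈ s, p.IsPrime) (hI : ∀ p ∈ s, ¬ I ≤ p) (fbar : A ⧸ I) :
    ∃ f : A, Ideal.Quotient.mk I f = fbar ∧ ∀ p ∈ s, f ∉ p := by
  obtain ⟨f₀, rfl⟩ := Ideal.Quotient.mk_surjective fbar
  obtain ⟨g, hgI, hg⟩ := key I s.card s rfl hs hI f₀
  refine ⟨f₀ + g, ?_, hg⟩
  rw [map_add, Ideal.Quotient.eq_zero_iff_mem.mpr hgI, add_zero]

end Groth.Agent.S7661
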