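import Groth.Statements.S7441
import Groth.Agent.Lib.Helper58.BddFib

set_option autoImplicit false
universe u
open CategoryTheory AlgebraicGeometry
open BddFib

namespace Groth.Agent.S7441

/-- Let `f : X → Y` be locally quasi-finite (locally of finite type with discrete fibres) with `X`
quasi-compact. Then the fibres of `f` are universally bounded. -/
theorem result {X Y : Scheme.{u}} (f : X ⟶ Y) [LocallyQuasiFinite f]
    [LocallyOfFiniteType f] [CompactSpace X] : BddFib.UnivBounded f := by
  choose W j hj N hx hN using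
    Groth.Agent.Lib.Helper58.BddFibLib.exists_open_nbhd_fibreDegLE f
  let 𝒰 : Scheme.OpenCover.{u} X :=
    { I₀ := X
      X := W
      f := j
      mem₀ := by
        rw [Scheme.presieve₀_mem_precoverage_iff]
        exact ⟨fun x => ⟨x, hx x⟩, hj⟩ }
  exact ⟨∑ i : 𝒰.finiteSubcover.I₀, N (𝒰.idx i.1),
    Groth.Agent.Lib.Helper58.BddFibLib.fibreDegLE_of_openCover f 𝒰.finiteSubcover
      (fun i => N (𝒰.idx i.1)) (fun i => hN (𝒰.idx i.1))⟩

end Groth.Agent.S7441
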