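import Groth.Statements.S1877
import Groth.Agent.Lib.Helper95.Q8
import Mathlib.Algebra.Category.Ring.Constructions
-- import your own Groth.Agent.* helpers here

set_option autoImplicit false
universe u
open CategoryTheory CategoryTheory.Limits AlgebraicGeometry
open Grpd

namespace Groth.Agent.S1877

open Groth.Agent.Lib.Helper15.ProjCharpoly Groth.Agent.Lib.Helper95 TensorProduct

theorem ring_data (S : Scheme.{u}) (G : Grpd.GroupoidScheme S) [IsAffine G.U] [IsAffine G.R]
    [IsFinite G.s] [Flat G.s] [LocallyOfFinitePresentation G.s] [IsFinite G.t] [Flat G.t]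
    [LocallyOfFinitePresentation G.t] [Mono G.j] :
    (G.invariants.subtype.Finite ∧ G.invariants.subtype.Flat ∧
      G.invariants.subtype.FinitePresentation) ∧
    (letI : Algebra G.invariants Γ(G.R, ⊤) :=
      (G.s.appTop.hom.comp G.invariants.subtype).toAlgebra
     ∀ φ : Γ(G.U, ⊤) ⊗[G.invariants] Γ(G.U, ⊤) →ₗ[G.invariants] Γ(G.R, ⊤),
      (∀ a a' : Γ(G.U, ⊤), φ (a ⊗ₜ[G.invariants] a') =
        G.t.appTop.hom a * G.s.appTop.hom a') → Function.Bijective φ) := by
  have hfin : G.s.appTop.hom.Finite :=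
    ((HasAffineProperty.iff_of_isAffine (P := @IsFinite)).mp (inferInstance : IsFinite G.s)).2
  have hflat : G.s.appTop.hom.Flat :=
    (HasRingHomProperty.iff_of_isAffine (P := @Flat)).mp (inferInstance : Flat G.s)
  have hfp : G.s.appTop.hom.FinitePresentation :=
    (HasRingHomProperty.iff_of_isAffine (P := @LocallyOfFinitePresentation)).mp
      (inferInstance : LocallyOfFinitePresentation G.s)
  letI alg : Algebra Γ(G.U, ⊤) Γ(G.R, ⊤) := G.s.appTop.hom.toAlgebra
  haveI : Module.Finite Γ(G.U, ⊤) Γ(G.R, ⊤) := hfin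
  haveI : Module.Flat Γ(G.U, ⊤) Γ(G.R, ⊤) := hflat
  haveI : Algebra.FinitePresentation Γ(G.U, ⊤) Γ(G.R, ⊤) := hfp
  haveI : Module.FinitePresentation Γ(G.U, ⊤) Γ(G.R, ⊤) :=
    Module.FinitePresentation.of_finite_of_finitePresentation _ _
  haveI : Module.Projective Γ(G.U, ⊤) Γ(G.R, ⊤) := Module.Flat.projective_of_finitePresentation
  obtain ⟨π⟩ := Groth.Agent.Lib.Helper15.ProjCharpoly.exists_pres (R := Γ(G.U, ⊤)) (P := Γ(G.R, ⊤))
  have hint : Algebra.IsIntegral G.invariants Γ(G.U, ⊤) := Groth.Agent.S1879.result S G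
  have hes : ∀ a, G.e.appTop.hom (G.s.appTop.hom a) = a := by
    intro a
    have h : G.s.appTop ≫ G.e.appTop = 𝟙 _ := by
      rw [← Scheme.Hom.comp_appTop, G.e_s]; rfl
    exact congrArg (fun f => f.hom a) h
  have het : ∀ a, G.e.appTop.hom (G.t.appTop.hom a) = a := by
    intro a
    have h : G.t.appTop ≫ G.e.appTop = 𝟙 _ := by
      rw [← Scheme.Hom.comp_appTop, G.e_t]; rfl
    exact congrArg (fun f => f.hom a) h
  have hNinv : ∀ x, G.s.appTop.hom (Q1.dn π (G.t.appTop.hom x)) =
      G.t.appTop.hom (Q1.dn π (G.t.appTop.hom x)) := by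
    intro x
    have h := Q8.cp_invariant G π (1 - x)
    have h1 : G.t.appTop.hom (1 - x) = 1 - G.t.appTop.hom x := by rw [map_sub, map_one]
    rw [h1] at h
    have h2 := congrArg (Polynomial.eval 1) h
    rw [Polynomial.eval_one_map, Polynomial.eval_one_map] at h2
    exact h2
  exact Q7.ring_main (t := G.t.appTop.hom) G.e.appTop.hom hes het
    (fun BB _ ιL ιR h1 => Groth.Agent.Lib.Helper72.GrpdAffine.exists_ring_data G BB ιL ιR h1)
    (Q8.hsurj_of_mono G) hint (fun x => Q1.dn π (G.t.appTop.hom x)) hNinv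
    (fun x => Q1.dvd_dn π _) (fun x q hq h => Q1.exists_prime_of_dn_mem π _ q h)

/-- Let (U, R, s, t, c) be a groupoid scheme over S with U and R affine, s and t finite locally free,
and j = (t, s) : R → U ×_S U a monomorphism (so an equivalence relation). Then U → M = Spec C is
finite locally free and (t, s) identifies R with U ×_M U. (The source's final clause, that M is the
fppf quotient sheaf U/R, is not restated.) (A groupoid scheme carries U, R, s, t, c, e, i over S
with the groupoid axioms on T-points; 'finite locally free' is finite, flat and locally of finite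
presentation; C ⊂ Γ(U) is the ring of functions a with s♯(a) = t♯(a) and M = Spec C.) -/
theorem result (S : Scheme.{u}) (G : Grpd.GroupoidScheme S) [IsAffine G.U] [IsAffine G.R] [IsFinite G.s] [Flat G.s] [LocallyOfFinitePresentation G.s] [IsFinite G.t] [Flat G.t] [LocallyOfFinitePresentation G.t] [Mono G.j] : (IsFinite G.toQuot ∧ Flat G.toQuot ∧ LocallyOfFinitePresentation G.toQuot) ∧ ∃ φ : G.R ≅ pullback G.toQuot G.toQuot, φ.hom ≫ pullback.fst G.toQuot G.toQuot = G.t ∧ φ.hom ≫ pullback.snd G.toQuot G.toQuot = G.s := by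
  obtain ⟨⟨h1, h2, h3⟩, hbij⟩ := ring_data S G
  have hF : IsFinite (Spec.map (CommRingCat.ofHom G.invariants.subtype)) :=
    (IsFinite.SpecMap_iff _).mpr h1
  have hFl : Flat (Spec.map (CommRingCat.ofHom G.invariants.subtype)) :=
    Flat.SpecMap_iff.mpr h2
  have hFp : LocallyOfFinitePresentation (Spec.map (CommRingCat.ofHom G.invariants.subtype)) :=
    (HasRingHomProperty.Spec_iff (P := @LocallyOfFinitePresentation)).mpr h3
  refine ⟨⟨?_, ?_, ?_⟩, ?_⟩
  · unfold GroupoidScheme.toQuot
    infer_instance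
  · unfold GroupoidScheme.toQuot
    infer_instance
  · unfold GroupoidScheme.toQuot
    infer_instance
  · letI algAB : Algebra Γ(G.U, ⊤) Γ(G.R, ⊤) := G.s.appTop.hom.toAlgebra
    letI algCB : Algebra G.invariants Γ(G.R, ⊤) :=
      (G.s.appTop.hom.comp G.invariants.subtype).toAlgebra
    let tC : Γ(G.U, ⊤) →ₐ[G.invariants] Γ(G.R, ⊤) :=
      { G.t.appTop.hom with commutes' := fun c => c.2.symm }
    let sC : Γ(G.U, ⊤) →ₐ[G.invariants] Γ(G.R, ⊤) :=
      { G.s.appTop.hom with commutes' := fun c => rfl }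
    let Φ : Γ(G.U, ⊤) ⊗[G.invariants] Γ(G.U, ⊤) →ₐ[G.invariants] Γ(G.R, ⊤) :=
      Algebra.TensorProduct.productMap tC sC
    have hΦ : ∀ a a' : Γ(G.U, ⊤), Φ (a ⊗ₜ[G.invariants] a') =
        G.t.appTop.hom a * G.s.appTop.hom a' := by
      intro a a'
      simp [Φ, tC, sC]
    have hb : Function.Bijective Φ := hbij Φ.toLinearMap hΦ
    let eΦ : Γ(G.U, ⊤) ⊗[G.invariants] Γ(G.U, ⊤) ≃+* Γ(G.R, ⊤) :=
      RingEquiv.ofBijective Φ.toRingHom hb
    have hpo := CommRingCat.isPushout_tensorProduct G.invariants Γ(G.U, ⊤) Γ(G.U, ⊤)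
    have hpo2 : IsPushout (CommRingCat.ofHom G.invariants.subtype)
        (CommRingCat.ofHom G.invariants.subtype) G.t.appTop G.s.appTop := by
      refine hpo.of_iso (Iso.refl _) (Iso.refl _) (Iso.refl _) eΦ.toCommRingCatIso ?_ ?_ ?_ ?_
      · rfl
      · rfl
      · ext a
        change Φ (a ⊗ₜ[G.invariants] 1) = G.t.appTop.hom a
        rw [hΦ, map_one, mul_one]
      · ext a
        change Φ (1 ⊗ₜ[G.invariants] a) = G.s.appTop.hom a
        rw [hΦ, map_one, one_mul]
    have hpb := isPullback_SpecMap_of_isPushout _ _ _ _ hpo2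
    have hpb2 : IsPullback G.t G.s G.toQuot G.toQuot := by
      refine hpb.of_iso G.R.isoSpec.symm G.U.isoSpec.symm G.U.isoSpec.symm (Iso.refl _) ?_ ?_ ?_ ?_
      · exact Scheme.isoSpec_inv_naturality G.t
      · exact Scheme.isoSpec_inv_naturality G.s
      · unfold GroupoidScheme.toQuot
        rw [Iso.refl_hom, Category.comp_id, Iso.symm_hom, ← Scheme.isoSpec_hom,
          Iso.inv_hom_id_assoc]
      · unfold GroupoidScheme.toQuot
        rw [Iso.refl_hom, Category.comp_id, Iso.symm_hom, ← Scheme.isoSpec_hom,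
          Iso.inv_hom_id_assoc]
    exact ⟨hpb2.isoPullback, hpb2.isoPullback_hom_fst, hpb2.isoPullback_hom_snd⟩

end Groth.Agent.S1877
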