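import Groth.Statements.S1886
import Mathlib.AlgebraicGeometry.Morphisms.Separated
import Mathlib.AlgebraicGeometry.Morphisms.QuasiSeparated

set_option autoImplicit false
universe u
open CategoryTheory CategoryTheory.Limits AlgebraicGeometry
open Grpd

namespace Groth.Agent.S1886

section

open CategoryTheory CategoryTheory.Limits AlgebraicGeometry

variable {S : Scheme.{u}} (G : Grpd.GroupoidScheme S)

noncomputable def comp {T : Scheme.{u}} (α β : T ⟶ G.R) (h : α ≫ G.s = β ≫ G.t) : T ⟶ G.R :=
  pullback.lift α β h ≫ G.c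

theorem comp_congr {T : Scheme.{u}} {α α' β β' : T ⟶ G.R} (h : α ≫ G.s = β ≫ G.t)
    (hα : α = α') (hβ : β = β') :
    comp G α β h = comp G α' β' (by rw [← hα, ← hβ]; exact h) := by
  subst hα
  subst hβ
  rfl

theorem precomp_comp {T T' : Scheme.{u}} (f : T' ⟶ T) (α β : T ⟶ G.R) (h : α ≫ G.s = β ≫ G.t) :
    f ≫ comp G α β h = comp G (f ≫ α) (f ≫ β) (by rw [Category.assoc, Category.assoc, h]) := by
  unfold comp
  rw [← Category.assoc]
  congr 1
  apply pullback.hom_ext
  · rw [Category.assoc, pullback.lift_fst, pullback.lift_fst]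
  · rw [Category.assoc, pullback.lift_snd, pullback.lift_snd]

theorem j_fst : G.j ≫ pullback.fst G.pU G.pU = G.t := pullback.lift_fst _ _ _

theorem j_snd : G.j ≫ pullback.snd G.pU G.pU = G.s := pullback.lift_snd _ _ _

theorem fst_t_eq : pullback.fst G.j G.j ≫ G.t = pullback.snd G.j G.j ≫ G.t := by
  rw [← j_fst, ← Category.assoc, pullback.condition, Category.assoc]

theorem fst_s_eq : pullback.fst G.j G.j ≫ G.s = pullback.snd G.j G.j ≫ G.s := by
  rw [← j_snd, ← Category.assoc, pullback.condition, Category.assoc]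

noncomputable def φR : pullback G.j G.j ⟶ G.R :=
  comp G (pullback.fst G.j G.j ≫ G.i) (pullback.snd G.j G.j)
    (by rw [Category.assoc, G.i_s, fst_t_eq])

theorem φR_s : φR G ≫ G.s = pullback.fst G.j G.j ≫ G.s := by
  unfold φR comp
  rw [G.comp_s, fst_s_eq]

theorem φR_t : φR G ≫ G.t = pullback.fst G.j G.j ≫ G.s := by
  unfold φR comp
  rw [G.comp_t, Category.assoc, G.i_t]

noncomputable def φ : pullback G.j G.j ⟶ G.stabilizer :=
  pullback.lift (φR G) (pullback.fst G.j G.j ≫ G.s) (by
    apply pullback.hom_ext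
    · rw [Category.assoc, j_fst, φR_t, Category.assoc, Grpd.GroupoidScheme.diag, pullback.lift_fst,
        Category.comp_id]
    · rw [Category.assoc, j_snd, φR_s, Category.assoc, Grpd.GroupoidScheme.diag, pullback.lift_snd,
        Category.comp_id])

theorem eq_of_cone {T : Scheme.{u}} (r₁ r₂ : T ⟶ G.R) (ht : r₁ ≫ G.t = r₂ ≫ G.t)
    (H1 : comp G (r₁ ≫ G.i) r₂ (by rw [Category.assoc, G.i_s, ht]) = r₁ ≫ G.s ≫ G.e) :
    r₂ = r₁ := by
  have h0 : (r₁ ≫ G.i) ≫ G.s = r₂ ≫ G.t := by rw [Category.assoc, G.i_s, ht]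
  have h1 : r₁ ≫ G.s = (r₁ ≫ G.i) ≫ G.t := by rw [Category.assoc, G.i_t]
  have e1 : r₂ ≫ G.t ≫ G.e = comp G r₁ (r₁ ≫ G.i) h1 := by
    rw [← Category.assoc, ← ht, Category.assoc]
    exact (G.comp_i r₁).symm
  calc r₂ = comp G (r₂ ≫ G.t ≫ G.e) r₂
        (by rw [Category.assoc, Category.assoc, G.e_s, Category.comp_id]) := (G.e_comp r₂).symm
    _ = comp G (comp G r₁ (r₁ ≫ G.i) h1) r₂ ((G.comp_s r₁ (r₁ ≫ G.i) h1).trans h0) :=
        comp_congr G _ e1 rfl
    _ = comp G r₁ (comp G (r₁ ≫ G.i) r₂ h0) (h1.trans (G.comp_t (r₁ ≫ G.i) r₂ h0).symm) :=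
        G.assoc r₁ (r₁ ≫ G.i) r₂ h1 h0
    _ = comp G r₁ (r₁ ≫ G.s ≫ G.e)
        (by rw [Category.assoc, Category.assoc, G.e_t, Category.comp_id]) :=
        comp_congr G _ rfl H1
    _ = r₁ := G.comp_e r₁

noncomputable def stFst : G.stabilizer ⟶ G.R := pullback.fst G.j G.diag

theorem stab_ext {T : Scheme.{u}} (a b : T ⟶ G.stabilizer) (h1 : a ≫ stFst G = b ≫ stFst G)
    (h2 : a ≫ G.stabilizerToU = b ≫ G.stabilizerToU) : a = b :=
  pullback.hom_ext (f := G.j) (g := G.diag) h1 h2

theorem φ_stFst : φ G ≫ stFst G = φR G :=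
  pullback.lift_fst (f := G.j) (g := G.diag) _ _ _

theorem φ_toU : φ G ≫ G.stabilizerToU = pullback.fst G.j G.j ≫ G.s :=
  pullback.lift_snd (f := G.j) (g := G.diag) _ _ _

theorem eStab_stFst : G.eStab ≫ stFst G = G.e :=
  pullback.lift_fst (f := G.j) (g := G.diag) _ _ _

theorem eStab_toU : G.eStab ≫ G.stabilizerToU = 𝟙 _ :=
  pullback.lift_snd (f := G.j) (g := G.diag) _ _ _

theorem isPullback_diag : IsPullback (pullback.diagonal G.j) G.s (φ G) G.eStab := by
  refine ⟨⟨?_⟩, ⟨PullbackCone.IsLimit.mk _ (fun c => c.fst ≫ pullback.fst G.j G.j) ?_ ?_ ?_⟩⟩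
  · apply stab_ext
    · rw [Category.assoc, φ_stFst, Category.assoc, eStab_stFst]
      unfold φR
      rw [precomp_comp]
      exact (comp_congr G _ (show pullback.diagonal G.j ≫ pullback.fst G.j G.j ≫ G.i = 𝟙 G.R ≫ G.i by
        rw [← Category.assoc, pullback.diagonal_fst]) (pullback.diagonal_snd _)).trans
        ((G.i_comp (𝟙 G.R)).trans (Category.id_comp _))
    · rw [Category.assoc, φ_toU, Category.assoc, eStab_toU, ← Category.assoc, pullback.diagonal_fst,
        Category.id_comp, Category.comp_id]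
  · intro c
    have hc := c.condition
    have H2 : (c.fst ≫ pullback.fst G.j G.j) ≫ G.s = c.snd := by
      have := congrArg (· ≫ G.stabilizerToU) hc
      simp only [Category.assoc, φ_toU, eStab_toU, Category.comp_id] at this
      exact this
    have ht : (c.fst ≫ pullback.fst G.j G.j) ≫ G.t = (c.fst ≫ pullback.snd G.j G.j) ≫ G.t := by
      rw [Category.assoc, Category.assoc, fst_t_eq]
    have H1 : comp G ((c.fst ≫ pullback.fst G.j G.j) ≫ G.i) (c.fst ≫ pullback.snd G.j G.j)
        (by rw [Category.assoc, G.i_s, ht]) = (c.fst ≫ pullback.fst G.j G.j) ≫ G.s ≫ G.e := by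
      have := congrArg (· ≫ stFst G) hc
      simp only [Category.assoc, φ_stFst, eStab_stFst] at this
      have e3 : c.fst ≫ φR G = comp G ((c.fst ≫ pullback.fst G.j G.j) ≫ G.i)
          (c.fst ≫ pullback.snd G.j G.j) (by rw [Category.assoc, G.i_s, ht]) := by
        unfold φR
        rw [precomp_comp]
        exact comp_congr G _ (Category.assoc _ _ _).symm rfl
      exact e3.symm.trans (this.trans (by rw [← H2, Category.assoc]))
    have key := eq_of_cone G _ _ ht H1
    apply pullback.hom_ext
    · rw [Category.assoc, pullback.diagonal_fst, Category.comp_id]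
    · rw [Category.assoc, pullback.diagonal_snd, Category.comp_id, key]
  · intro c
    have hc := c.condition
    have := congrArg (· ≫ G.stabilizerToU) hc
    simp only [Category.assoc, φ_toU, eStab_toU, Category.comp_id] at this
    rw [Category.assoc]
    exact this
  · intro c m h1 h2
    rw [← h1, Category.assoc, pullback.diagonal_fst, Category.comp_id]

end

/-- Let (U, R, s, t, c) be a groupoid scheme over S with stabilizer group scheme G → U and identity
section e : U → G. Then j = (t, s) : R → U ×_S U is separated iff G → U is separated iff e is a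
closed immersion; and j is quasi-separated iff G → U is quasi-separated iff e is quasi-compact. (A
groupoid scheme carries U, R, s, t, c, e, i over S with the groupoid axioms on T-points; 'finite
locally free' is finite, flat and locally of finite presentation; C ⊂ Γ(U) is the ring of functions
a with s♯(a) = t♯(a) and M = Spec C.) -/
theorem result (S : Scheme.{u}) (G : Grpd.GroupoidScheme S) : ((IsSeparated G.j ↔ IsSeparated G.stabilizerToU) ∧ (IsSeparated G.stabilizerToU ↔ IsClosedImmersion G.eStab)) ∧ ((QuasiSeparated G.j ↔ QuasiSeparated G.stabilizerToU) ∧ (QuasiSeparated G.stabilizerToU ↔ QuasiCompact G.eStab)) := by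
  have hP := isPullback_diag G
  have hsec : G.eStab ≫ G.stabilizerToU = 𝟙 _ := eStab_toU G
  have s1 : IsSeparated G.j → IsSeparated G.stabilizerToU := fun h =>
    MorphismProperty.pullback_snd (P := @IsSeparated) G.j G.diag h
  have s2 : IsSeparated G.stabilizerToU → IsClosedImmersion G.eStab := fun h => by
    have : IsClosedImmersion (G.eStab ≫ G.stabilizerToU) := by
      rw [hsec]
      infer_instance
    exact IsClosedImmersion.of_comp G.eStab G.stabilizerToU
  have s3 : IsClosedImmersion G.eStab → IsSeparated G.j := fun h =>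
    ⟨MorphismProperty.of_isPullback hP.flip h⟩
  have q1 : QuasiSeparated G.j → QuasiSeparated G.stabilizerToU := fun h =>
    MorphismProperty.pullback_snd (P := @QuasiSeparated) G.j G.diag h
  have q2 : QuasiSeparated G.stabilizerToU → QuasiCompact G.eStab := fun h => by
    have : QuasiCompact (G.eStab ≫ G.stabilizerToU) := by
      rw [hsec]
      infer_instance
    exact QuasiCompact.of_comp G.eStab G.stabilizerToU
  have q3 : QuasiCompact G.eStab → QuasiSeparated G.j := fun h =>
    ⟨MorphismProperty.of_isPullback hP.flip h⟩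
  exact ⟨⟨⟨s1, fun h => s3 (s2 h)⟩, ⟨s2, fun h => s1 (s3 h)⟩⟩,
    ⟨⟨q1, fun h => q3 (q2 h)⟩, ⟨q2, fun h => q1 (q3 h)⟩⟩⟩

end Groth.Agent.S1886
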