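import Groth.Statements.S1880
import Groth.Agent.S1886
import Mathlib.RingTheory.Norm.Basic
import Mathlib.RingTheory.IsTensorProduct
import Mathlib.LinearAlgebra.Charpoly.BaseChange
import Mathlib.Algebra.Category.Ring.Constructions
import Mathlib.AlgebraicGeometry.Morphisms.Affine

set_option autoImplicit false
universe u
open CategoryTheory CategoryTheory.Limits AlgebraicGeometry
open Grpd

namespace Groth.Agent.S1880

section

open TensorProduct

theorem norm_tmul_one {R A B : Type*} [CommRing R] [CommRing A] [CommRing B] [Algebra R A]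
    [Algebra R B] [Module.Free R A] [Module.Finite R A] (a : A) :
    Algebra.norm B ((1 : B) ⊗ₜ[R] a) = algebraMap R B (Algebra.norm R a) := by
  rw [Algebra.norm_apply, Algebra.norm_apply, ← LinearMap.det_baseChange]
  congr 1
  ext x
  simp

theorem norm_of_algebraIsPushout {R A B X : Type*} [CommRing R] [CommRing A] [CommRing B]
    [CommRing X] [Algebra R A] [Algebra R B] [Algebra R X] [Algebra A X] [Algebra B X]
    [IsScalarTower R A X] [IsScalarTower R B X] [Algebra.IsPushout R B A X]
    [Module.Free R A] [Module.Finite R A] (a : A) :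
    Algebra.norm B (algebraMap A X a) = algebraMap R B (Algebra.norm R a) := by
  rw [← norm_tmul_one (B := B) a, ← Algebra.norm_eq_of_algEquiv (Algebra.IsPushout.equiv R B A X)]
  congr 1
  rw [Algebra.IsPushout.equiv_tmul, map_one, one_mul]

open CategoryTheory CategoryTheory.Limits in
theorem norm_of_isPushout {R A B X : CommRingCat.{u}} {σ : R ⟶ A} {τ : R ⟶ B} {φ : A ⟶ X}
    {ψ : B ⟶ X} (H : IsPushout τ σ ψ φ)
    (hfree : letI := σ.hom.toAlgebra; Module.Free R A)
    (hfin : letI := σ.hom.toAlgebra; Module.Finite R A) (a : A) :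
    (letI := ψ.hom.toAlgebra; Algebra.norm B (φ.hom a)) =
      τ.hom (letI := σ.hom.toAlgebra; Algebra.norm R a) := by
  letI : Algebra R A := σ.hom.toAlgebra
  letI : Algebra R B := τ.hom.toAlgebra
  letI : Algebra A X := φ.hom.toAlgebra
  letI : Algebra B X := ψ.hom.toAlgebra
  letI : Algebra R X := (σ ≫ φ).hom.toAlgebra
  haveI : IsScalarTower R A X := .of_algebraMap_eq' rfl
  haveI : IsScalarTower R B X := .of_algebraMap_eq' (by
    show (σ ≫ φ).hom = (τ ≫ ψ).hom
    rw [H.w])
  haveI : Algebra.IsPushout R B A X := CommRingCat.isPushout_iff_isPushout.mp H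
  exact norm_of_algebraIsPushout (R := R) (A := A) (B := B) (X := X) a

end

section

open CategoryTheory CategoryTheory.Limits AlgebraicGeometry Groth.Agent.S1886

variable {S : Scheme.{u}} (G : Grpd.GroupoidScheme S)

theorem right_cancel {T : Scheme.{u}} (α β : T ⟶ G.R) (h : α ≫ G.s = β ≫ G.t)
    (h' : comp G α β h ≫ G.s = (β ≫ G.i) ≫ G.t) :
    comp G (comp G α β h) (β ≫ G.i) h' = α := by
  have h2 : β ≫ G.s = (β ≫ G.i) ≫ G.t := by rw [Category.assoc, G.i_t]
  calc comp G (comp G α β h) (β ≫ G.i) h'
      = comp G α (comp G β (β ≫ G.i) h2) (h.trans (G.comp_t _ _ h2).symm) := G.assoc _ _ _ h h2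
    _ = comp G α (α ≫ G.s ≫ G.e)
        (by rw [Category.assoc, Category.assoc, G.e_t, Category.comp_id]) := by
      apply comp_congr
      · rfl
      · exact (G.comp_i β).trans (by rw [← Category.assoc, ← h, Category.assoc])
    _ = α := G.comp_e α

theorem right_cancel' {T : Scheme.{u}} (α β : T ⟶ G.R) (h : α ≫ G.s = (β ≫ G.i) ≫ G.t)
    (h' : comp G α (β ≫ G.i) h ≫ G.s = β ≫ G.t) :
    comp G (comp G α (β ≫ G.i) h) β h' = α := by
  have h2 : (β ≫ G.i) ≫ G.s = β ≫ G.t := by rw [Category.assoc, G.i_s]
  have hαβ : α ≫ G.s = β ≫ G.s := by rw [h, Category.assoc, G.i_t]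
  calc comp G (comp G α (β ≫ G.i) h) β h'
      = comp G α (comp G (β ≫ G.i) β h2) (h.trans (G.comp_t _ _ h2).symm) := G.assoc _ _ _ h h2
    _ = comp G α (α ≫ G.s ≫ G.e)
        (by rw [Category.assoc, Category.assoc, G.e_t, Category.comp_id]) := by
      apply comp_congr
      · rfl
      · exact (G.i_comp β).trans (by rw [← Category.assoc, ← hαβ, Category.assoc])
    _ = α := G.comp_e α

theorem c_eq : G.c = comp G (pullback.fst G.s G.t) (pullback.snd G.s G.t) pullback.condition := by
  unfold comp
  have : pullback.lift (pullback.fst G.s G.t) (pullback.snd G.s G.t) pullback.condition = 𝟙 _ := by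
    apply pullback.hom_ext <;> simp
  rw [this, Category.id_comp]

theorem lift_comp_c {T : Scheme.{u}} (α β : T ⟶ G.R) (h : α ≫ G.s = β ≫ G.t) :
    pullback.lift α β h ≫ G.c = comp G α β h := rfl

theorem isPullback_c_snd : IsPullback G.c (pullback.snd G.s G.t) G.s G.s := by
  have hw : G.c ≫ G.s = pullback.snd G.s G.t ≫ G.s := by
    rw [c_eq]
    unfold comp
    rw [G.comp_s]
  refine ⟨⟨hw⟩, ⟨PullbackCone.IsLimit.mk _ (fun c =>
    pullback.lift (comp G c.fst (c.snd ≫ G.i)
      (by rw [Category.assoc, G.i_t]; exact c.condition)) c.snd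
      (by unfold comp; rw [G.comp_s, Category.assoc, G.i_s])) ?_ ?_ ?_⟩⟩
  · intro c
    rw [lift_comp_c]
    exact right_cancel' G _ _ _ _
  · intro c
    exact pullback.lift_snd _ _ _
  · intro c m h1 h2
    have hm : pullback.lift (m ≫ pullback.fst G.s G.t) (m ≫ pullback.snd G.s G.t)
        (by rw [Category.assoc, Category.assoc, pullback.condition]) = m := by
      apply pullback.hom_ext
      · rw [pullback.lift_fst]
      · rw [pullback.lift_snd]
    have h1' : comp G (m ≫ pullback.fst G.s G.t) (m ≫ pullback.snd G.s G.t)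
        (by rw [Category.assoc, Category.assoc, pullback.condition]) = c.fst := by
      rw [← h1]
      unfold comp
      rw [hm]
    apply pullback.hom_ext
    · rw [pullback.lift_fst]
      have := right_cancel G (m ≫ pullback.fst G.s G.t) (m ≫ pullback.snd G.s G.t)
        (by rw [Category.assoc, Category.assoc, pullback.condition])
        (by unfold comp; rw [G.comp_s, Category.assoc _ G.i, G.i_t])
      rw [← this]
      apply comp_congr
      · exact h1'
      · rw [h2]
    · rw [pullback.lift_snd, h2]

end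

/-- Let (U, R, s, t, c) be a groupoid scheme with U, R affine and s, t finite locally free. For f ∈
Γ(U), the norm along s♯ of t♯(f) is an R-invariant function. (Mathlib's norm is the determinant when
Γ(R) is free over Γ(U) via s♯ and 1 otherwise; the content is the free case, e.g. after localizing
U.) (A groupoid scheme carries U, R, s, t, c, e, i over S with the groupoid axioms on T-points;
'finite locally free' is finite, flat and locally of finite presentation; C ⊂ Γ(U) is the ring of
functions a with s♯(a) = t♯(a) and M = Spec C.) -/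
theorem result (S : Scheme.{u}) (G : Grpd.GroupoidScheme S) [IsAffine G.U] [IsAffine G.R] [IsFinite G.s] [Flat G.s] [LocallyOfFinitePresentation G.s] [IsFinite G.t] [Flat G.t] [LocallyOfFinitePresentation G.t] (f : Γ(G.U, ⊤)) : G.normST f ∈ G.invariants := by
  show G.s.appTop.hom (G.normST f) = G.t.appTop.hom (G.normST f)
  unfold Grpd.GroupoidScheme.normST
  by_cases hb : (letI := G.s.appTop.hom.toAlgebra
    ∃ s : Finset Γ(G.R, ⊤), Nonempty (Module.Basis s Γ(G.U, ⊤) Γ(G.R, ⊤)))
  · obtain ⟨s, ⟨b⟩⟩ := hb
    have hfree : letI := G.s.appTop.hom.toAlgebra; Module.Free Γ(G.U, ⊤) Γ(G.R, ⊤) :=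
      letI := G.s.appTop.hom.toAlgebra
      Module.Free.of_basis b
    have hfin : letI := G.s.appTop.hom.toAlgebra; Module.Finite Γ(G.U, ⊤) Γ(G.R, ⊤) :=
      letI := G.s.appTop.hom.toAlgebra
      Module.Finite.of_basis b
    have P1 : IsPullback (pullback.fst G.s G.t) (pullback.snd G.s G.t) G.s G.t :=
      IsPullback.of_hasPullback _ _
    have Q1 := isPushout_appTop_of_isPullback P1
    have N1 := norm_of_isPushout Q1.flip hfree hfin (G.t.appTop.hom f)
    have Q2 := isPushout_appTop_of_isPullback (isPullback_c_snd G)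
    have N2 := norm_of_isPushout Q2.flip hfree hfin (G.t.appTop.hom f)
    have hct : G.c ≫ G.t = pullback.fst G.s G.t ≫ G.t := by
      rw [c_eq]
      unfold Groth.Agent.S1886.comp
      rw [G.comp_t]
    have e : G.c.appTop.hom (G.t.appTop.hom f) =
        (pullback.fst G.s G.t).appTop.hom (G.t.appTop.hom f) := by
      have := congrArg (fun φ => φ.appTop.hom f) hct
      simpa using this
    rw [← N1, ← N2, e]
  · letI := G.s.appTop.hom.toAlgebra
    rw [Algebra.norm_eq_one_of_not_exists_basis _ hb, map_one, map_one]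

end Groth.Agent.S1880
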