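import Groth.Statements.S1879
import Groth.Agent.S1880
import Groth.Agent.Lib.Helper15.ProjCharpoly
import Mathlib.RingTheory.Flat.EquationalCriterion
import Mathlib.RingTheory.Finiteness.ModuleFinitePresentation
import Mathlib.AlgebraicGeometry.Morphisms.Finite
import Mathlib.AlgebraicGeometry.Morphisms.Flat
import Mathlib.AlgebraicGeometry.Morphisms.FinitePresentation
import Mathlib.RingTheory.Polynomial.Subring

set_option autoImplicit false
universe u
open CategoryTheory CategoryTheory.Limits AlgebraicGeometry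
open Grpd

namespace Groth.Agent.S1879

open Groth.Agent.Lib.Helper15.ProjCharpoly Polynomial

theorem cp_of_isPushout {R A B Y : CommRingCat.{u}} {σ : R ⟶ A} {τ : R ⟶ B} {φ : A ⟶ Y}
    {ψ : B ⟶ Y} (H : IsPushout τ σ ψ φ) :
    letI : Algebra R A := σ.hom.toAlgebra
    letI : Algebra B Y := ψ.hom.toAlgebra
    ∀ (π : Pres R A) (π' : Pres B Y) (a : A),
    (Polynomial.X : Polynomial B) ^ π'.n * (π.cp (LinearMap.mulLeft R a)).map τ.hom =
      (Polynomial.X : Polynomial B) ^ π.n * π'.cp (LinearMap.mulLeft B (φ.hom a)) := by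
  letI : Algebra R A := σ.hom.toAlgebra
  letI : Algebra R B := τ.hom.toAlgebra
  letI : Algebra A Y := φ.hom.toAlgebra
  letI : Algebra B Y := ψ.hom.toAlgebra
  letI : Algebra R Y := (σ ≫ φ).hom.toAlgebra
  haveI : IsScalarTower R A Y := .of_algebraMap_eq' rfl
  haveI : IsScalarTower R B Y := .of_algebraMap_eq' (by
    show (σ ≫ φ).hom = (τ ≫ ψ).hom
    rw [H.w])
  haveI : Algebra.IsPushout R B A Y := CommRingCat.isPushout_iff_isPushout.mp H
  have hf : IsBaseChange B (IsScalarTower.toAlgHom R A Y).toLinearMap := Algebra.IsPushout.out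
  intro π π' a
  exact Pres.map_cp_mul π hf (LinearMap.mulLeft R a) (LinearMap.mulLeft B (φ.hom a))
    (fun x => (map_mul φ.hom a x).symm) π'

theorem exists_pres_of_isPushout {R A B Y : CommRingCat.{u}} {σ : R ⟶ A} {τ : R ⟶ B} {φ : A ⟶ Y}
    {ψ : B ⟶ Y} (H : IsPushout τ σ ψ φ) :
    letI : Algebra R A := σ.hom.toAlgebra
    letI : Algebra B Y := ψ.hom.toAlgebra
    Pres R A → Nonempty (Pres B Y) := by
  letI : Algebra R A := σ.hom.toAlgebra
  letI : Algebra R B := τ.hom.toAlgebra
  letI : Algebra A Y := φ.hom.toAlgebra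
  letI : Algebra B Y := ψ.hom.toAlgebra
  letI : Algebra R Y := (σ ≫ φ).hom.toAlgebra
  haveI : IsScalarTower R A Y := .of_algebraMap_eq' rfl
  haveI : IsScalarTower R B Y := .of_algebraMap_eq' (by
    show (σ ≫ φ).hom = (τ ≫ ψ).hom
    rw [H.w])
  haveI : Algebra.IsPushout R B A Y := CommRingCat.isPushout_iff_isPushout.mp H
  have hf : IsBaseChange B (IsScalarTower.toAlgHom R A Y).toLinearMap := Algebra.IsPushout.out
  intro π
  exact ⟨π.baseChange hf⟩

theorem cp_of_two_pushouts {R A B Y : CommRingCat.{u}} {σ : R ⟶ A} {τ₁ τ₂ : R ⟶ B}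
    {φ₁ φ₂ : A ⟶ Y} {ψ : B ⟶ Y} (H₁ : IsPushout τ₁ σ ψ φ₁) (H₂ : IsPushout τ₂ σ ψ φ₂) :
    letI : Algebra R A := σ.hom.toAlgebra
    ∀ (π : Pres R A) (a : A), φ₁.hom a = φ₂.hom a →
      (π.cp (LinearMap.mulLeft R a)).map τ₁.hom = (π.cp (LinearMap.mulLeft R a)).map τ₂.hom := by
  letI : Algebra R A := σ.hom.toAlgebra
  letI : Algebra B Y := ψ.hom.toAlgebra
  intro π a ha
  obtain ⟨π'⟩ := exists_pres_of_isPushout H₁ π
  have h1 := cp_of_isPushout H₁ π π' a
  have h2 := cp_of_isPushout H₂ π π' a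
  rw [ha, ← h2] at h1
  exact (isRegular_X_pow π'.n).left h1

end Groth.Agent.S1879

namespace Groth.Agent.S1879

/-- Let (U, R, s, t, c) be a groupoid scheme with U, R affine and s, t finite locally free. Then Γ(U) is
integral over the subring C of R-invariant functions. (A groupoid scheme carries U, R, s, t, c, e, i
over S with the groupoid axioms on T-points; 'finite locally free' is finite, flat and locally of
finite presentation; C ⊂ Γ(U) is the ring of functions a with s♯(a) = t♯(a) and M = Spec C.) -/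
theorem result (S : Scheme.{u}) (G : Grpd.GroupoidScheme S) [IsAffine G.U] [IsAffine G.R] [IsFinite G.s] [Flat G.s] [LocallyOfFinitePresentation G.s] [IsFinite G.t] [Flat G.t] [LocallyOfFinitePresentation G.t] : Algebra.IsIntegral G.invariants Γ(G.U, ⊤) := by
  have hfin : G.s.appTop.hom.Finite :=
    ((HasAffineProperty.iff_of_isAffine (P := @IsFinite)).mp (inferInstance : IsFinite G.s)).2
  have hflat : G.s.appTop.hom.Flat :=
    (HasRingHomProperty.iff_of_isAffine (P := @Flat)).mp (inferInstance : Flat G.s)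
  have hfp : G.s.appTop.hom.FinitePresentation :=
    (HasRingHomProperty.iff_of_isAffine (P := @LocallyOfFinitePresentation)).mp
      (inferInstance : LocallyOfFinitePresentation G.s)
  letI alg : Algebra Γ(G.U, ⊤) Γ(G.R, ⊤) := G.s.appTop.hom.toAlgebra
  haveI : Module.Finite Γ(G.U, ⊤) Γ(G.R, ⊤) := hfin
  haveI : Module.Flat Γ(G.U, ⊤) Γ(G.R, ⊤) := hflat
  haveI : Algebra.FinitePresentation Γ(G.U, ⊤) Γ(G.R, ⊤) := hfp
  haveI : Module.FinitePresentation Γ(G.U, ⊤) Γ(G.R, ⊤) :=
    Module.FinitePresentation.of_finite_of_finitePresentation _ _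
  haveI : Module.Projective Γ(G.U, ⊤) Γ(G.R, ⊤) := Module.Flat.projective_of_finitePresentation
  obtain ⟨π⟩ := Groth.Agent.Lib.Helper15.ProjCharpoly.exists_pres (R := Γ(G.U, ⊤)) (P := Γ(G.R, ⊤))
  refine ⟨fun x => ?_⟩
  set y : Γ(G.R, ⊤) := G.t.appTop.hom x with hy
  set Q : Polynomial Γ(G.U, ⊤) := π.cp (LinearMap.mulLeft Γ(G.U, ⊤) y) with hQ
  have hinv : Q.map G.s.appTop.hom = Q.map G.t.appTop.hom := by
    have P1 : IsPullback (pullback.fst G.s G.t) (pullback.snd G.s G.t) G.s G.t :=
      IsPullback.of_hasPullback _ _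
    have Q1 := isPushout_appTop_of_isPullback P1
    have Q2 := isPushout_appTop_of_isPullback (Groth.Agent.S1880.isPullback_c_snd G)
    have hct : G.c ≫ G.t = pullback.fst G.s G.t ≫ G.t := by
      rw [Groth.Agent.S1880.c_eq]
      unfold Groth.Agent.S1886.comp
      rw [G.comp_t]
    have e : G.c.appTop.hom y = (pullback.fst G.s G.t).appTop.hom y := by
      have := congrArg (fun φ => φ.appTop.hom x) hct
      simpa using this
    exact cp_of_two_pushouts Q2.flip Q1.flip π y e
  have hroot : Q.eval x = 0 := by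
    have h1 : Polynomial.aeval (LinearMap.mulLeft Γ(G.U, ⊤) y) Q = 0 := π.aeval_cp _
    have h2 : Polynomial.aeval y Q = 0 := by
      have h3 : LinearMap.mulLeft Γ(G.U, ⊤) y = Algebra.lmul Γ(G.U, ⊤) Γ(G.R, ⊤) y := by
        ext z
        simp
      rw [h3, Polynomial.aeval_algHom_apply] at h1
      have := LinearMap.congr_fun h1 1
      simpa using this
    have h4 := congrArg G.e.appTop.hom h2
    rw [Polynomial.aeval_def, Polynomial.hom_eval₂, map_zero] at h4
    have h5 : G.e.appTop.hom.comp (algebraMap Γ(G.U, ⊤) Γ(G.R, ⊤)) = RingHom.id _ := by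
      have := congrArg (fun φ => φ.appTop.hom) G.e_s
      simpa [RingHom.algebraMap_toAlgebra] using this
    have h6 : G.e.appTop.hom y = x := by
      have := congrArg (fun φ => φ.appTop.hom x) G.e_t
      simpa [hy] using this
    rw [h5, h6] at h4
    simpa [Polynomial.eval₂_id] using h4
  have hcoef : ∀ n, Q.coeff n ∈ G.invariants := by
    intro n
    show G.s.appTop.hom (Q.coeff n) = G.t.appTop.hom (Q.coeff n)
    rw [← Polynomial.coeff_map, ← Polynomial.coeff_map, hinv]
  have hsub : (↑Q.coeffs : Set Γ(G.U, ⊤)) ⊆ G.invariants := by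
    intro c hc
    obtain ⟨n, -, rfl⟩ := Polynomial.mem_coeffs_iff.mp hc
    exact hcoef n
  refine ⟨Q.toSubring G.invariants hsub, ?_, ?_⟩
  · exact (Polynomial.monic_toSubring Q G.invariants hsub).mpr (π.cp_monic _)
  · rw [← Polynomial.eval_map]
    have : (Q.toSubring G.invariants hsub).map (algebraMap G.invariants Γ(G.U, ⊤)) = Q :=
      Polynomial.map_toSubring Q G.invariants hsub
    rw [this, hroot]

end Groth.Agent.S1879
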