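import Groth.Statements.S1878
import Mathlib
import Groth.Agent.S1879
import Groth.Agent.S1880
import Groth.Agent.Lib.Helper61.GrpdRG

set_option autoImplicit false
universe u
open CategoryTheory CategoryTheory.Limits AlgebraicGeometry
open Grpd

namespace Groth.Agent.S1878
set_option maxHeartbeats 400000
open CategoryTheory CategoryTheory.Limits AlgebraicGeometry
open Grpd
set_option backward.isDefEq.respectTransparency.types false

open Groth.Agent.Lib.Helper15.ProjCharpoly Groth.Agent.Lib.Helper61.GrpdOrbit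

variable {S : Scheme.{u}} (G : Grpd.GroupoidScheme S) [IsAffine G.U] [IsAffine G.R]

theorem pres_of [IsFinite G.s] [Flat G.s] [LocallyOfFinitePresentation G.s] :
    letI : Algebra Γ(G.U, ⊤) Γ(G.R, ⊤) := G.s.appTop.hom.toAlgebra
    Nonempty (Pres Γ(G.U, ⊤) Γ(G.R, ⊤)) := by
  have hfin : G.s.appTop.hom.Finite :=
    ((HasAffineProperty.iff_of_isAffine (P := @AlgebraicGeometry.IsFinite)).mp (inferInstance : IsFinite G.s)).2
  have hflat : G.s.appTop.hom.Flat :=
    (HasRingHomProperty.iff_of_isAffine (P := @AlgebraicGeometry.Flat)).mp (inferInstance : Flat G.s)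
  have hfp : G.s.appTop.hom.FinitePresentation :=
    (HasRingHomProperty.iff_of_isAffine (P := @LocallyOfFinitePresentation)).mp
      (inferInstance : LocallyOfFinitePresentation G.s)
  letI alg : Algebra Γ(G.U, ⊤) Γ(G.R, ⊤) := G.s.appTop.hom.toAlgebra
  haveI : Module.Finite Γ(G.U, ⊤) Γ(G.R, ⊤) := hfin
  haveI : Module.Flat Γ(G.U, ⊤) Γ(G.R, ⊤) := hflat
  haveI : Algebra.FinitePresentation Γ(G.U, ⊤) Γ(G.R, ⊤) := hfp
  haveI : Module.FinitePresentation Γ(G.U, ⊤) Γ(G.R, ⊤) :=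
    Module.FinitePresentation.of_finite_of_finitePresentation _ _
  haveI : Module.Projective Γ(G.U, ⊤) Γ(G.R, ⊤) := Module.Flat.projective_of_finitePresentation
  exact Groth.Agent.Lib.Helper15.ProjCharpoly.exists_pres (R := Γ(G.U, ⊤)) (P := Γ(G.R, ⊤))

/-- the ring-level data of the groupoid -/
noncomputable def toRG [IsFinite G.s] [Flat G.s] [LocallyOfFinitePresentation G.s] : RG.{u} where
  A := Γ(G.U, ⊤)
  B := Γ(G.R, ⊤)
  Y := Γ(pullback G.s G.t, ⊤)
  s := G.s.appTop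
  t := G.t.appTop
  e := G.e.appTop
  i := G.i.appTop
  p1 := (pullback.fst G.s G.t).appTop
  p2 := (pullback.snd G.s G.t).appTop
  c := G.c.appTop
  es := by rw [← Scheme.Hom.comp_appTop, G.e_s, Scheme.Hom.id_appTop]
  et := by rw [← Scheme.Hom.comp_appTop, G.e_t, Scheme.Hom.id_appTop]
  si := by rw [← Scheme.Hom.comp_appTop, G.i_s]
  ti := by rw [← Scheme.Hom.comp_appTop, G.i_t]
  Q1 := (isPushout_appTop_of_isPullback (IsPullback.of_hasPullback G.s G.t)).flip
  Q2 := (isPushout_appTop_of_isPullback (Groth.Agent.S1880.isPullback_c_snd G)).flip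
  hct := by
    rw [← Scheme.Hom.comp_appTop, ← Scheme.Hom.comp_appTop]
    congr 1
    rw [Groth.Agent.S1880.c_eq]
    unfold Groth.Agent.S1886.comp
    rw [G.comp_t]
  pres := pres_of G


theorem t_toQuot : G.t ≫ G.toQuot = G.s ≫ G.toQuot := by
  unfold Grpd.GroupoidScheme.toQuot
  rw [Scheme.toSpecΓ_naturality_assoc, Scheme.toSpecΓ_naturality_assoc, ← Spec.map_comp,
    ← Spec.map_comp]
  congr 2
  ext c
  exact c.2.symm

theorem toSpecΓ_injective (X : Scheme.{u}) [IsAffine X] : Function.Injective X.toSpecΓ := by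
  intro a b h
  have h1 : (X.toSpecΓ ≫ X.isoSpec.inv) a = (X.toSpecΓ ≫ X.isoSpec.inv) b := by
    rw [Scheme.Hom.comp_apply, Scheme.Hom.comp_apply, h]
  rwa [Scheme.toSpecΓ_isoSpec_inv] at h1

theorem toSpecΓ_isoSpec_inv_apply (X : Scheme.{u}) [IsAffine X] (y : Spec Γ(X, ⊤)) :
    X.toSpecΓ (X.isoSpec.inv y) = y := by
  have : (X.isoSpec.inv ≫ X.toSpecΓ) y = y := by
    rw [Scheme.isoSpec_inv_toSpecΓ]; rfl
  rwa [Scheme.Hom.comp_apply] at this

theorem toQuot_apply (u : G.U) :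
    G.toQuot u = Spec.map (CommRingCat.ofHom G.invariants.subtype) (G.U.toSpecΓ u) := by
  unfold Grpd.GroupoidScheme.toQuot
  rw [Scheme.Hom.comp_apply]


theorem specMap_asIdeal {R T : CommRingCat.{u}} (f : R ⟶ T) (x : Spec T) :
    ((Spec.map f) x).asIdeal = x.asIdeal.comap f.hom := rfl

section Main
variable [IsFinite G.s] [Flat G.s] [LocallyOfFinitePresentation G.s]

theorem surj : Function.Surjective G.toQuot := by
  intro m
  obtain ⟨Q, hQ, hQP⟩ := @RG.exists_prime_over (toRG G) m.asIdeal m.isPrime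
  refine ⟨G.U.isoSpec.inv ⟨Q, hQ⟩, ?_⟩
  rw [toQuot_apply, toSpecΓ_isoSpec_inv_apply]
  apply PrimeSpectrum.ext
  rw [specMap_asIdeal]
  exact hQP

theorem fibres (u₀ u₁ : G.U) :
    G.toQuot u₀ = G.toQuot u₁ ↔ ∃ r : G.R, G.t r = u₀ ∧ G.s r = u₁ := by
  constructor
  · intro h
    have hC : ∀ c : Γ(G.U, ⊤), G.s.appTop.hom c = G.t.appTop.hom c →
        (c ∈ (G.U.toSpecΓ u₀).asIdeal ↔ c ∈ (G.U.toSpecΓ u₁).asIdeal) := by
      intro c hc
      rw [toQuot_apply, toQuot_apply] at h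
      have h' := congrArg PrimeSpectrum.asIdeal h
      rw [specMap_asIdeal, specMap_asIdeal] at h'
      have := SetLike.ext_iff.mp h' (⟨c, hc⟩ : G.invariants)
      simpa [Ideal.mem_comap] using this
    obtain ⟨q, hq, hq0, hq1⟩ := @RG.link (toRG G) (G.U.toSpecΓ u₀).asIdeal (G.U.toSpecΓ u₁).asIdeal
      (G.U.toSpecΓ u₀).isPrime (G.U.toSpecΓ u₁).isPrime hC
    refine ⟨G.R.isoSpec.inv ⟨q, hq⟩, ?_, ?_⟩
    · apply toSpecΓ_injective
      rw [← Scheme.Hom.comp_apply, Scheme.toSpecΓ_naturality, Scheme.Hom.comp_apply,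
        toSpecΓ_isoSpec_inv_apply]
      apply PrimeSpectrum.ext
      rw [specMap_asIdeal]
      exact hq0
    · apply toSpecΓ_injective
      rw [← Scheme.Hom.comp_apply, Scheme.toSpecΓ_naturality, Scheme.Hom.comp_apply,
        toSpecΓ_isoSpec_inv_apply]
      apply PrimeSpectrum.ext
      rw [specMap_asIdeal]
      exact hq1
  · rintro ⟨r, rfl, rfl⟩
    rw [← Scheme.Hom.comp_apply, ← Scheme.Hom.comp_apply, t_toQuot]

theorem lift_kpoint (k : Type u) [Field k] [IsAlgClosed k]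
    (m : Spec (CommRingCat.of k) ⟶ Spec (CommRingCat.of G.invariants)) :
    ∃ x : Spec (CommRingCat.of k) ⟶ G.U, x ≫ G.toQuot = m := by
  obtain ⟨x, hx⟩ := (toRG G).lift_point k (Spec.preimage m).hom
  obtain ⟨φ, hφ⟩ : ∃ φ : Γ(G.U, ⊤) ⟶ CommRingCat.of k, φ.hom = x := ⟨CommRingCat.ofHom x, rfl⟩
  refine ⟨Spec.map φ ≫ G.U.isoSpec.inv, ?_⟩
  unfold Grpd.GroupoidScheme.toQuot
  rw [Category.assoc, ← Category.assoc G.U.isoSpec.inv, Scheme.isoSpec_inv_toSpecΓ,
    Category.id_comp, ← Spec.map_comp]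
  conv_rhs => rw [← Spec.map_preimage m]
  congr 1
  ext c
  show φ.hom (G.invariants.subtype c) = _
  rw [hφ]
  exact RingHom.congr_fun hx c

theorem kpoints_iff (k : Type u) [Field k] [IsAlgClosed k]
    (x₀ x₁ : Spec (CommRingCat.of k) ⟶ G.U) :
    x₀ ≫ G.toQuot = x₁ ≫ G.toQuot ↔
      ∃ r : Spec (CommRingCat.of k) ⟶ G.R, r ≫ G.t = x₀ ∧ r ≫ G.s = x₁ := by
  constructor
  · intro h
    have e₀ : Spec.map (Spec.preimage (x₀ ≫ G.U.toSpecΓ)) = x₀ ≫ G.U.toSpecΓ := Spec.map_preimage _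
    have e₁ : Spec.map (Spec.preimage (x₁ ≫ G.U.toSpecΓ)) = x₁ ≫ G.U.toSpecΓ := Spec.map_preimage _
    have hsub : CommRingCat.ofHom G.invariants.subtype ≫ Spec.preimage (x₀ ≫ G.U.toSpecΓ) =
        CommRingCat.ofHom G.invariants.subtype ≫ Spec.preimage (x₁ ≫ G.U.toSpecΓ) := by
      apply Spec.map_injective
      rw [Spec.map_comp, Spec.map_comp, e₀, e₁]
      simpa [Grpd.GroupoidScheme.toQuot, Category.assoc] using h
    obtain ⟨ρ, hρt, hρs⟩ := (toRG G).kpoints k (Spec.preimage (x₀ ≫ G.U.toSpecΓ)).hom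
      (Spec.preimage (x₁ ≫ G.U.toSpecΓ)).hom (fun c hc => by
        exact congrArg (fun ψ => ψ.hom (⟨c, hc⟩ : G.invariants)) hsub)
    obtain ⟨ψ, hψ⟩ : ∃ ψ : Γ(G.R, ⊤) ⟶ CommRingCat.of k, ψ.hom = ρ := ⟨CommRingCat.ofHom ρ, rfl⟩
    refine ⟨Spec.map ψ ≫ G.R.isoSpec.inv, ?_, ?_⟩
    · rw [Category.assoc, ← Scheme.isoSpec_inv_naturality, ← Category.assoc, ← Spec.map_comp]
      have : G.t.appTop ≫ ψ = Spec.preimage (x₀ ≫ G.U.toSpecΓ) := by
        ext a
        show ψ.hom (G.t.appTop.hom a) = _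
        rw [hψ]
        exact RingHom.congr_fun hρt a
      rw [this, e₀, Category.assoc, Scheme.toSpecΓ_isoSpec_inv, Category.comp_id]
    · rw [Category.assoc, ← Scheme.isoSpec_inv_naturality, ← Category.assoc, ← Spec.map_comp]
      have : G.s.appTop ≫ ψ = Spec.preimage (x₁ ≫ G.U.toSpecΓ) := by
        ext a
        show ψ.hom (G.s.appTop.hom a) = _
        rw [hψ]
        exact RingHom.congr_fun hρs a
      rw [this, e₁, Category.assoc, Scheme.toSpecΓ_isoSpec_inv, Category.comp_id]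
  · rintro ⟨r, rfl, rfl⟩
    rw [Category.assoc, Category.assoc, t_toQuot]

end Main

end Groth.Agent.S1878

namespace Groth.Agent.S1878

/-- Let (U, R, s, t, c) be a groupoid scheme over S with U, R affine and s, t finite locally free, and M
= Spec C. (1) U → M is surjective and two points of U have the same image iff some point of R has
them as target and source. (2) For every algebraically closed field k, M(k) = U(k)/R(k): every
k-point of M lifts to U, and two k-points of U agree in M iff they are the target and source of a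
k-point of R. (A groupoid scheme carries U, R, s, t, c, e, i over S with the groupoid axioms on
T-points; 'finite locally free' is finite, flat and locally of finite presentation; C ⊂ Γ(U) is the
ring of functions a with s♯(a) = t♯(a) and M = Spec C.) -/
theorem result (S : Scheme.{u}) (G : Grpd.GroupoidScheme S) [IsAffine G.U] [IsAffine G.R] [IsFinite G.s] [Flat G.s] [LocallyOfFinitePresentation G.s] [IsFinite G.t] [Flat G.t] [LocallyOfFinitePresentation G.t] : (Function.Surjective G.toQuot ∧ ∀ u₀ u₁ : G.U, G.toQuot u₀ = G.toQuot u₁ ↔ ∃ r : G.R, G.t r = u₀ ∧ G.s r = u₁) ∧ ∀ (k : Type u) [Field k] [IsAlgClosed k], (∀ m : Spec (CommRingCat.of k) ⟶ Spec (CommRingCat.of G.invariants), ∃ x : Spec (CommRingCat.of k) ⟶ G.U, x ≫ G.toQuot = m) ∧ ∀ x₀ x₁ : Spec (CommRingCat.of k) ⟶ G.U, x₀ ≫ G.toQuot = x₁ ≫ G.toQuot ↔ ∃ r : Spec (CommRingCat.of k) ⟶ G.R, r ≫ G.t = x₀ ∧ r ≫ G.s = x₁ := by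
  exact ⟨⟨surj G, fibres G⟩, fun k _ _ => ⟨lift_kpoint G k, kpoints_iff G k⟩⟩

end Groth.Agent.S1878
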