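import Groth.Statements.S7488
import Groth.Agent.S1877
import Groth.Agent.Lib.Helper5.QuotShK
import Mathlib.AlgebraicGeometry.EffectiveEpi
import Mathlib.CategoryTheory.Limits.Constructions.Over.Connected
-- import your own Groth.Agent.* helpers here

set_option autoImplicit false
universe u
open CategoryTheory CategoryTheory.Limits AlgebraicGeometry
open Grpd

namespace Groth.Agent.S7488

open Groth.Agent.Lib.Helper5.QuotShK

theorem generate_singleton_mem_J {S : Scheme.{u}} {T' T : Over S} (c : T' ⟶ T) [Flat c.left]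
    [Surjective c.left] [LocallyOfFinitePresentation c.left] :
    Sieve.generate (Presieve.singleton c) ∈ QuotSh.J Scheme.fppfPrecoverage S T := by
  rw [GrothendieckTopology.mem_over_iff]
  refine GrothendieckTopology.superset_covering _ ?_
    (Precoverage.generate_mem_toGrothendieck c.left.singleton_mem_fppfPrecoverage)
  rintro Z _ ⟨W, ψ, _, ⟨⟩, rfl⟩
  rw [Sieve.overEquiv_iff]
  refine ⟨T', (Over.homMk ψ (by
    change ψ ≫ T'.hom = (ψ ≫ c.left) ≫ T.hom
    rw [Category.assoc, Over.w]) : Over.mk ((ψ ≫ c.left) ≫ T.hom) ⟶ T'), c,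
    Presieve.singleton.mk, ?_⟩
  ext1
  rfl

theorem epi_yonK_map_of_fppf {S : Scheme.{u}} {U Y : Over S} (q : U ⟶ Y) [Flat q.left]
    [Surjective q.left] [LocallyOfFinitePresentation q.left] :
    Epi ((yonK Scheme.fppfPrecoverage S).map q) := by
  apply epi_of_local_lift
  intro T y
  obtain ⟨y₀, rfl⟩ := (yonK Scheme.fppfPrecoverage S).map_surjective y
  let T' : Over S := Over.mk (pullback.snd q.left y₀.left ≫ T.hom)
  let c : T' ⟶ T := Over.homMk (pullback.snd q.left y₀.left) rfl
  let x : T' ⟶ U := Over.homMk (pullback.fst q.left y₀.left) (by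
    change pullback.fst q.left y₀.left ≫ U.hom = pullback.snd q.left y₀.left ≫ T.hom
    rw [← Over.w q, ← Over.w y₀, pullback.condition_assoc])
  have hxc : x ≫ q = c ≫ y₀ := by
    ext1
    exact pullback.condition
  haveI : Flat c.left := by change Flat (pullback.snd q.left y₀.left); infer_instance
  haveI : Surjective c.left := by change Surjective (pullback.snd q.left y₀.left); infer_instance
  haveI : LocallyOfFinitePresentation c.left := by
    change LocallyOfFinitePresentation (pullback.snd q.left y₀.left); infer_instance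
  refine ⟨_, generate_singleton_mem_J c, ?_⟩
  rintro T'' φ ⟨Z, ψ, _, ⟨⟩, rfl⟩
  refine ⟨(yonK Scheme.fppfPrecoverage S).map (ψ ≫ x), ?_⟩
  rw [← Functor.map_comp, ← Functor.map_comp, Category.assoc, hxc, Category.assoc]

/-- Let (U, R, s, t, c) be a groupoid scheme over S with U and R affine, s and t finite locally free,
and j = (t, s) : R -> U x_S U a monomorphism. Let C be the ring of R-invariant functions on U and M
= Spec C. Then the structure morphism U -> S factors uniquely through U -> M, and for the resulting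
structure of scheme over S on M, the morphism U -> M represents the quotient sheaf U/R in the fppf
topology: it coequalizes s and t and the induced map from the coequalizer of h_R => h_U (sheaves of
sets on the big fppf site of S) to h_M is an isomorphism. (The published statement also asserts that
U -> M is finite locally free and that R = U x_M U; this row states only the quotient-sheaf clause.)
(A groupoid scheme carries U, R, s, t, c, e, i over S with the groupoid axioms on T-points; c is
defined on the fibre product of s and t and sends a pair (a, b) with s(a) = t(b) to a composed with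
b.) -/
theorem result (S : Scheme.{u}) (G : Grpd.GroupoidScheme S) [IsAffine G.U] [IsAffine G.R] [IsFinite G.s] [Flat G.s] [LocallyOfFinitePresentation G.s] [IsFinite G.t] [Flat G.t] [LocallyOfFinitePresentation G.t] [Mono G.j] : ∃! m : Spec (CommRingCat.of G.invariants) ⟶ S, ∃ h : G.toQuot ≫ m = G.pU, QuotSh.IsQuotient Scheme.fppfPrecoverage (Over.homMk G.s G.s_over : Over.mk G.pR ⟶ Over.mk G.pU) (Over.homMk G.t G.t_over : Over.mk G.pR ⟶ Over.mk G.pU) (Over.homMk G.toQuot h : Over.mk G.pU ⟶ Over.mk m) := by
  obtain ⟨⟨hfin, hflat, hfp⟩, φ, hφ1, hφ2⟩ := Groth.Agent.S1877.result S G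
  have hint : Algebra.IsIntegral G.invariants Γ(G.U, ⊤) := Groth.Agent.S1879.result S G
  have hsurjSpec : Surjective (Spec.map (CommRingCat.ofHom G.invariants.subtype)) := by
    refine ⟨fun x => ?_⟩
    have hbot : (⊥ : Ideal Γ(G.U, ⊤)).comap (algebraMap G.invariants Γ(G.U, ⊤)) ≤ x.asIdeal := by
      intro c hc0
      have : (c : Γ(G.U, ⊤)) = 0 := hc0
      have hc' : c = 0 := Subtype.ext this
      rw [hc']
      exact x.asIdeal.zero_mem
    obtain ⟨q, -, hqp, hq⟩ := Ideal.exists_ideal_over_prime_of_isIntegral x.asIdeal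
      (⊥ : Ideal Γ(G.U, ⊤)) hbot
    refine ⟨⟨q, hqp⟩, ?_⟩
    apply PrimeSpectrum.ext
    exact hq
  have hsurj : Surjective G.toQuot := by
    unfold GroupoidScheme.toQuot
    infer_instance
  have hpb : IsPullback G.t G.s G.toQuot G.toQuot :=
    IsPullback.of_iso_pullback ⟨by rw [← hφ1, ← hφ2, Category.assoc, Category.assoc,
      pullback.condition]⟩ φ hφ1 hφ2
  haveI : IsRegularEpi G.toQuot := isRegularEpi_of_flat_of_surjective_of_isAffine G.toQuot
  have hdesc : ∀ {Z : Scheme.{u}} (g₁ g₂ : Z ⟶ G.U), g₁ ≫ G.toQuot = g₂ ≫ G.toQuot →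
      g₁ ≫ G.pU = g₂ ≫ G.pU := by
    intro Z g₁ g₂ h
    have h1 : hpb.lift g₁ g₂ h ≫ G.t = g₁ := hpb.lift_fst _ _ _
    have h2 : hpb.lift g₁ g₂ h ≫ G.s = g₂ := hpb.lift_snd _ _ _
    calc g₁ ≫ G.pU = (hpb.lift g₁ g₂ h ≫ G.t) ≫ G.pU := by rw [h1]
      _ = (hpb.lift g₁ g₂ h ≫ G.s) ≫ G.pU := by
        rw [Category.assoc, Category.assoc, G.t_over, G.s_over]
      _ = g₂ ≫ G.pU := by rw [h2]
  let m : Spec (CommRingCat.of G.invariants) ⟶ S := EffectiveEpi.desc G.toQuot G.pU hdesc
  have hm : G.toQuot ≫ m = G.pU := EffectiveEpi.fac G.toQuot G.pU hdesc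
  haveI : Epi G.toQuot := Flat.epi_of_flat_of_surjective _
  refine ⟨m, ⟨hm, ?_⟩, ?_⟩
  · let q : Over.mk G.pU ⟶ Over.mk m := Over.homMk G.toQuot hm
    haveI : Flat q.left := hflat
    haveI : Surjective q.left := hsurj
    haveI : LocallyOfFinitePresentation q.left := hfp
    haveI := epi_yonK_map_of_fppf q
    have hk : IsKernelPair q (Over.homMk G.s G.s_over : Over.mk G.pR ⟶ Over.mk G.pU)
        (Over.homMk G.t G.t_over : Over.mk G.pR ⟶ Over.mk G.pU) := by
      refine IsPullback.of_map (Over.forget S) ?_ ?_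
      · ext1
        exact hpb.flip.w
      · exact hpb.flip
    exact isQuotient_of_isKernelPair_of_epi Scheme.fppfPrecoverage _ _ q hk
  · rintro m' ⟨hm', -⟩
    rw [← cancel_epi G.toQuot, hm', hm]

end Groth.Agent.S7488
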