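import Groth.Statements.S9235
import Mathlib

set_option autoImplicit false
universe u
open Brnch

namespace Groth.Agent.S9235

open Polynomial in
theorem red_isDomain (A : Type u) [CommRing A] [Nontrivial A] (hfin : (minimalPrimes A).Finite)
    (hloc : ∀ e : CAlg2.normRed A, IsIdempotentElem e → e = 0 ∨ e = 1) :
    IsDomain (CAlg2.red A) := by
  classical
  by_contra hnd
  have hsInf : sInf (minimalPrimes A) = nilradical A := by
    have := Ideal.sInf_minimalPrimes (I := (⊥ : Ideal A))
    simpa [nilradical, minimalPrimes] using this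
  obtain ⟨p₁, hp₁⟩ : (minimalPrimes A).Nonempty := by
    obtain ⟨m, hm⟩ := Ideal.exists_maximal A
    obtain ⟨p, hp, _⟩ := Ideal.exists_minimalPrimes_le (I := ⊥) (J := m) bot_le
    exact ⟨p, hp⟩
  set T : Finset (Ideal A) := hfin.toFinset.erase p₁ with hT
  have hTmem : ∀ q, q ∈ T ↔ q ∈ minimalPrimes A ∧ q ≠ p₁ := by
    intro q; simp [hT, and_comm]
  have hprime : ∀ q ∈ minimalPrimes A, q.IsPrime := fun q hq => hq.1.1
  have hmin : ∀ q ∈ minimalPrimes A, ∀ q' ∈ minimalPrimes A, q ≤ q' → q = q' := by
    intro q hq q' hq' hle
    exact le_antisymm hle (hq'.2 ⟨hq.1.1, bot_le⟩ hle)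
  have hp₁' := hprime p₁ hp₁
  have hnil_le : ∀ q ∈ minimalPrimes A, nilradical A ≤ q := by
    intro q hq
    rw [← hsInf]; exact sInf_le hq
  by_cases hTe : T = ∅
  · apply hnd
    have h1 : nilradical A = p₁ := by
      rw [← hsInf]
      have : minimalPrimes A = {p₁} := by
        ext q
        constructor
        · intro hq
          by_contra hne
          have : q ∈ T := (hTmem q).2 ⟨hq, hne⟩
          simp [hTe] at this
        · rintro rfl; exact hp₁
      rw [this, sInf_singleton]
    have : (nilradical A).IsPrime := h1 ▸ hp₁'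
    exact Ideal.Quotient.isDomain _
  · obtain ⟨q₀, hq₀⟩ := Finset.nonempty_iff_ne_empty.2 hTe
    have hb : ∃ b, (∀ q ∈ T, b ∈ q) ∧ b ∉ p₁ := by
      by_contra hcon
      push Not at hcon
      have : T.inf id ≤ p₁ := by
        intro b hb
        apply hcon b
        intro q hq
        exact (Submodule.mem_finsetInf.1 hb) q hq
      obtain ⟨q, hq, hle⟩ := (Ideal.IsPrime.inf_le' hp₁').1 this
      have := hmin q ((hTmem q).1 hq).1 p₁ hp₁ hle
      exact ((hTmem q).1 hq).2 this
    have ha : ∃ a ∈ p₁, ∀ q ∈ T, a ∉ q := by
      by_contra hcon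
      push Not at hcon
      have hsub : ((p₁ : Ideal A) : Set A) ⊆ ⋃ i ∈ (↑T : Set (Ideal A)), ((id i : Ideal A) : Set A) := by
        intro a ha
        obtain ⟨q, hq, haq⟩ := hcon a ha
        exact Set.mem_biUnion (by exact_mod_cast hq) haq
      obtain ⟨q, hq, hle⟩ := (Ideal.subset_union_prime (f := id) p₁ p₁
        (fun i hi _ _ => hprime i ((hTmem i).1 hi).1)).1 hsub
      have := hmin p₁ hp₁ q ((hTmem q).1 hq).1 hle
      exact ((hTmem q).1 hq).2 this.symm
    obtain ⟨b, hbT, hbp⟩ := hb
    obtain ⟨a, hap, haT⟩ := ha
    have hab : a * b ∈ nilradical A := by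
      rw [← hsInf, Ideal.mem_sInf]
      intro q hq
      by_cases hqp : q = p₁
      · subst hqp; exact Ideal.mul_mem_right _ _ hap
      · exact Ideal.mul_mem_left _ _ (hbT q ((hTmem q).2 ⟨hq, hqp⟩))
    have hs : ∀ q ∈ minimalPrimes A, a + b ∉ q := by
      intro q hq hmem
      by_cases hqp : q = p₁
      · subst hqp
        exact hbp (by simpa using Ideal.sub_mem _ hmem hap)
      · have hqT := (hTmem q).2 ⟨hq, hqp⟩
        exact haT q hqT (by simpa using Ideal.sub_mem _ hmem (hbT q hqT))
    let R := CAlg2.red A
    let K := FractionRing R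
    let mk : A →+* R := Ideal.Quotient.mk (nilradical A)
    have hnzd : mk (a + b) ∈ nonZeroDivisors R := by
      rw [mem_nonZeroDivisors_iff_right]
      intro c hc
      obtain ⟨c, rfl⟩ := Ideal.Quotient.mk_surjective c
      rw [← map_mul] at hc
      have hc' : c * (a + b) ∈ nilradical A := Ideal.Quotient.eq_zero_iff_mem.1 hc
      have : c ∈ nilradical A := by
        rw [← hsInf, Ideal.mem_sInf]
        intro q hq
        exact ((hprime q hq).mem_or_mem (hnil_le q hq hc')).resolve_right (hs q hq)
      exact Ideal.Quotient.eq_zero_iff_mem.2 this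
    have hinj : Function.Injective (algebraMap R K) :=
      IsLocalization.injective K (le_refl (nonZeroDivisors R))
    have ha0 : mk a ≠ 0 := by
      intro h
      exact haT q₀ hq₀ (hnil_le q₀ ((hTmem q₀).1 hq₀).1 (Ideal.Quotient.eq_zero_iff_mem.1 h))
    have hb0 : mk b ≠ 0 := by
      intro h
      exact hbp (hnil_le p₁ hp₁ (Ideal.Quotient.eq_zero_iff_mem.1 h))
    have hab0 : mk a * mk b = 0 := by
      rw [← map_mul]; exact Ideal.Quotient.eq_zero_iff_mem.2 hab
    let x : K := algebraMap R K (mk a)
    let y : K := algebraMap R K (mk b)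
    have hxy : x * y = 0 := by
      simp only [x, y]
      rw [← map_mul, hab0, map_zero]
    have hsu : IsUnit (x + y) := by
      have := IsLocalization.map_units K (⟨mk (a + b), hnzd⟩ : nonZeroDivisors R)
      simpa [x, y, map_add] using this
    obtain ⟨s, hs'⟩ := hsu
    let e : K := x * (↑s⁻¹ : K)
    have hes : e * (x + y) = x := by
      simp only [e]
      rw [← hs', mul_assoc]
      simp
    have hee : e * e = e := by
      have h1 : e * e * ((x + y) * (x + y)) = e * ((x + y) * (x + y)) := by
        have : e * e * ((x + y) * (x + y)) = (e * (x + y)) * (e * (x + y)) := by ring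
        rw [this, hes]
        have : e * ((x + y) * (x + y)) = (e * (x + y)) * (x + y) := by ring
        rw [this, hes]
        have : x * (x + y) = x * x + x * y := by ring
        rw [this, hxy, add_zero]
      have hu : IsUnit ((x + y) * (x + y)) := by
        rw [← hs']; exact (s * s).isUnit
      exact hu.mul_left_injective h1
    haveI : Nontrivial R := ⟨⟨mk a, 0, ha0⟩⟩
    have hint : IsIntegral R e := by
      have hm : (X ^ 2 - X : R[X]).Monic :=
        monic_X_pow_sub (n := 2) (by rw [degree_X]; exact_mod_cast one_lt_two)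
      refine ⟨X ^ 2 - X, hm, ?_⟩
      rw [eval₂_sub, eval₂_pow, eval₂_X, pow_two, hee, sub_self]
    let e' : CAlg2.normRed A := ⟨e, hint⟩
    have he' : IsIdempotentElem e' := by
      apply Subtype.ext
      exact hee
    rcases hloc e' he' with h0 | h1
    · have : e = 0 := congrArg Subtype.val h0
      rw [this, zero_mul] at hes
      exact ha0 (hinj (by simpa [x] using hes.symm))
    · have : e = 1 := congrArg Subtype.val h1
      rw [this, one_mul] at hes
      have : y = 0 := by simpa using hes
      exact hb0 (hinj (by simpa [y] using this))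

/-- A local ring A has exactly one branch if and only if it is unibranch. Here the number of branches is
computed as the number of maximal ideals of the integral closure of A_red in its total ring of
fractions (infinity when A has infinitely many minimal primes). -/
theorem result (A : Type u) [CommRing A] [IsLocalRing A] :
    Brnch.numBranches A = 1 ↔ CAlg2.IsUnibranch A := by
  classical
  unfold Brnch.numBranches CAlg2.IsUnibranch
  constructor
  · intro h
    split_ifs at h with hfin
    · obtain ⟨hu⟩ := ENat.card_eq_one_iff_unique.1 h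
      have hl : IsLocalRing (CAlg2.normRed A) := IsLocalRing.of_singleton_maximalSpectrum
      refine ⟨red_isDomain A hfin ?_, hl⟩
      intro e he
      have h2 : e * (1 - e) = 0 := by
        rw [mul_sub, mul_one, he.eq, sub_self]
      rcases IsLocalRing.isUnit_or_isUnit_one_sub_self e with hu | hu
      · right
        have := hu.mul_right_eq_zero.1 h2
        exact (sub_eq_zero.1 this).symm
      · left
        exact hu.mul_left_eq_zero.1 h2
    · exact absurd h (by simp)
  · rintro ⟨hd, hl⟩
    have hprime : (nilradical A).IsPrime := (Ideal.Quotient.isDomain_iff_prime _).1 hd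
    have hsub : minimalPrimes A ⊆ {nilradical A} := by
      intro q hq
      have hle : nilradical A ≤ q := by
        haveI := hq.1.1
        exact nilradical_le_prime q
      exact (le_antisymm hle (hq.2 ⟨hprime, bot_le⟩ hle)).symm ▸ rfl
    have hfin : (minimalPrimes A).Finite := (Set.finite_singleton _).subset hsub
    rw [if_pos hfin]
    exact ENat.card_eq_one_iff_unique.2 ⟨inferInstance⟩

end Groth.Agent.S9235
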