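import Groth.Statements.S10234
-- import your own Groth.Agent.* helpers here

set_option autoImplicit false
universe u
open CategoryTheory CategoryTheory.Limits AlgebraicGeometry Topology TopologicalSpace
open AlgSp

namespace Groth.Agent.S10234

section Aux
set_option backward.isDefEq.respectTransparency false

variable {S : Scheme.{u}} {X Y : Sp S} (f : X ⟶ Y) (hf : IsEtaleMor f)

section
variable {E₁ E₂ E₀ : EtOver X} (g₁ : E₁ ⟶ E₀) (g₂ : E₂ ⟶ E₀)

noncomputable def mapIsLimit :
    IsLimit (PullbackCone.mk ((EtOver.postcomp f hf).map (EtOver.pullbackFst g₁ g₂))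
      ((EtOver.postcomp f hf).map (EtOver.pullbackSnd g₁ g₂))
      (by rw [← Functor.map_comp, ← Functor.map_comp, EtOver.pullback_condition])) :=
  PullbackCone.IsLimit.mk _
    (fun s => EtOver.homMk (pullback.lift s.fst.hom.left s.snd.hom.left
        (congrArg (fun k => k.hom.left) s.condition)) (by
      change (yon S).map _ ≫ ((yon S).map _ ≫ E₁.obj.hom) ≫ f = s.pt.obj.hom
      rw [Category.assoc, ← Category.assoc, ← Functor.map_comp, pullback.lift_fst]
      exact EtOver.w s.fst))
    (fun s => EtOver.hom_ext _ _ (pullback.lift_fst _ _ _))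
    (fun s => EtOver.hom_ext _ _ (pullback.lift_snd _ _ _))
    (fun s m h₁ h₂ => EtOver.hom_ext _ _ (pullback.hom_ext
      ((congrArg (fun k => k.hom.left) h₁).trans (pullback.lift_fst _ _ _).symm)
      ((congrArg (fun k => k.hom.left) h₂).trans (pullback.lift_snd _ _ _).symm)))

instance preservesLimit_cospan_postcomp : PreservesLimit (cospan g₁ g₂) (EtOver.postcomp f hf) :=
  preservesLimit_of_preserves_limit_cone (EtOver.pullbackIsLimit g₁ g₂)
    ((isLimitMapConePullbackConeEquiv _ _).symm (mapIsLimit f hf g₁ g₂))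

end

instance preservesPullbacks_postcomp : PreservesLimitsOfShape WalkingCospan (EtOver.postcomp f hf) where
  preservesLimit {K} := preservesLimit_of_iso_diagram _ (diagramIsoCospan K).symm

theorem continuous_postcomp :
    (EtOver.postcomp f hf).IsContinuous (etTop X) (etTop Y) := by
  unfold etTop
  refine Functor.isContinuous_toGrothendieck_of_pullbacksPreservedBy (EtOver.postcomp f hf) (etPre X)
    (etPre Y) ?_
  have h : EtOver.toScheme X = EtOver.postcomp f hf ⋙ EtOver.toScheme Y := rfl
  have : etPre X = (etPre Y).comap (EtOver.postcomp f hf) := by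
    unfold etPre
    rw [h, Precoverage.comap_comp]
  exact le_of_eq this

theorem cocontinuous_postcomp :
    (EtOver.postcomp f hf).IsCocontinuous (etTop X) (etTop Y) := by
  constructor
  intro E T hT
  unfold etTop at hT
  rw [Precoverage.mem_toGrothendieck_iff_of_isStableUnderComposition] at hT
  obtain ⟨R, hR, hle⟩ := hT
  rw [Precoverage.mem_iff_exists_zeroHypercover] at hR
  obtain ⟨𝒰, rfl⟩ := hR
  have hcov := (ofArrows_mem_etPre_iff 𝒰.X 𝒰.f).1 𝒰.mem₀
  let Z' : 𝒰.I₀ → EtOver X := fun i =>
    EtOver.mk ((yon S).map (𝒰.f i).hom.left ≫ E.obj.hom)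
      ((repWith_isMultiplicative (S := S) @Etale).comp_mem _ _
        ((repWith_yon_map_iff _ _).2 (EtOver.etale_left (𝒰.f i))) E.property)
  let h' : ∀ i, Z' i ⟶ E := fun i => EtOver.homMk (𝒰.f i).hom.left rfl
  refine (etTop X).superset_covering ?_ (ofArrows_mem_etTop Z' h' ?_)
  · rw [Sieve.ofArrows, Sieve.generate_le_iff]
    rintro _ _ ⟨i⟩
    change T ((EtOver.postcomp f hf).map (h' i))
    let e : (EtOver.postcomp f hf).obj (Z' i) ⟶ 𝒰.X i := EtOver.homMk (𝟙 _) (by
      rw [CategoryTheory.Functor.map_id, Category.id_comp]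
      change (𝒰.X i).obj.hom = ((yon S).map (𝒰.f i).hom.left ≫ E.obj.hom) ≫ f
      rw [Category.assoc]
      exact (EtOver.w (𝒰.f i)).symm)
    have : (EtOver.postcomp f hf).map (h' i) = e ≫ 𝒰.f i := EtOver.hom_ext _ _ (by
      change (𝒰.f i).hom.left = 𝟙 _ ≫ (𝒰.f i).hom.left
      rw [Category.id_comp])
    rw [this]
    exact T.downward_closed (hle _ _ ⟨i⟩) e
  · intro x
    obtain ⟨i, hi⟩ := hcov x
    exact ⟨i, hi⟩

end Aux

/-- Suppose f : X ⟶ Y is a morphism of algebraic spaces over a scheme S that is etale. Then the functor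
j : X_etale ⟶ Y_etale, (U ⟶ X) ↦ (U ⟶ X ⟶ Y), is continuous and cocontinuous for the etale
topologies. (The identification of the associated morphism of topoi with f_small, and the resulting
formula for inverse images, are not part of this row.) -/
theorem result {S : Scheme.{u}} {X Y : AlgSp.Space S} (f : X ⟶ Y)
    (hf : AlgSp.IsEtaleMor f.hom) :
    (AlgSp.EtOver.postcomp f.hom hf).IsContinuous (AlgSp.etTop X.obj) (AlgSp.etTop Y.obj) ∧
      (AlgSp.EtOver.postcomp f.hom hf).IsCocontinuous (AlgSp.etTop X.obj) (AlgSp.etTop Y.obj) := by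
  exact ⟨continuous_postcomp f.hom hf, cocontinuous_postcomp f.hom hf⟩

end Groth.Agent.S10234
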