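import Groth.Statements.S10184
import Groth.Agent.Lib.Helper30.AlgSpDiag

set_option autoImplicit false
universe u
open CategoryTheory CategoryTheory.Limits AlgebraicGeometry Topology TopologicalSpace
open AlgSp

namespace Groth.Agent.S10184

/-- Let X be an algebraic space over a scheme S such that for all affine schemes U, V over S mapping to
X, every scheme P over S representing h_U ×_X h_V is quasi-compact. Then X is quasi-separated over
S. (The published statement is about absolute quasi-separatedness, over the integers, which this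
hypothesis also gives and which implies quasi-separatedness over S.) -/
theorem result {S : Scheme.{u}} (X : AlgSp.Space S)
    (h : ∀ (U V P : Over S) (a : (AlgSp.yon S).obj U ⟶ X.obj) (b : (AlgSp.yon S).obj V ⟶ X.obj)
      (fst : P ⟶ U) (snd : P ⟶ V),
      IsAffine U.left → IsAffine V.left →
      IsPullback ((AlgSp.yon S).map fst) ((AlgSp.yon S).map snd) a b → CompactSpace ↥P.left) :
    AlgSp.IsQuasiSeparatedSp X.obj := by
  -- the affine case
  have affine_case : ∀ (T W : Over S) (g : (AlgSp.yon S).obj T ⟶ X.obj ⨯ X.obj)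
      (fst : (AlgSp.yon S).obj W ⟶ X.obj) (snd : W ⟶ T), IsAffine T.left →
      IsPullback fst ((AlgSp.yon S).map snd) (Limits.diag X.obj) g → CompactSpace ↥W.left := by
    intro T W g fst snd hT hsq
    have hrep := X.property.representable_from_yon (g ≫ prod.fst)
    have hP : IsPullback ((AlgSp.yon S).map (hrep.fst' (g ≫ prod.snd)))
        ((AlgSp.yon S).map (hrep.snd (g ≫ prod.snd))) (g ≫ prod.fst) (g ≫ prod.snd) :=
      hrep.isPullback' _
    have hPc : CompactSpace ↥(hrep.pullback (g ≫ prod.snd)).left := h T T _ _ _ _ _ hT hT hP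
    have hW₂ := IsPullback.of_hasPullback
      (prod.lift (hrep.fst' (g ≫ prod.snd)) (hrep.snd (g ≫ prod.snd))) (Limits.diag T)
    have hsq₂ := Groth.Agent.Lib.Helper30.AlgSpDiag.isPullback_diag_of_pullback g hP hW₂
    have hdiag : IsClosedImmersion (Limits.diag T).left := by
      have h' : (Limits.diag T).left =
          pullback.diagonal T.hom ≫ (Over.prodLeftIsoPullback T T).inv := by
        rw [← AlgSp.diag_left_comp_prodLeftIsoPullback T, Category.assoc, Iso.hom_inv_id,
          Category.comp_id]
      rw [h']
      infer_instance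
    have hfst : IsClosedImmersion (pullback.fst
        (prod.lift (hrep.fst' (g ≫ prod.snd)) (hrep.snd (g ≫ prod.snd))) (Limits.diag T)).left :=
      MorphismProperty.of_isPullback (P := @IsClosedImmersion) (hW₂.flip.map (Over.forget S)) hdiag
    have hW₂c : CompactSpace ↥(pullback
        (prod.lift (hrep.fst' (g ≫ prod.snd)) (hrep.snd (g ≫ prod.snd))) (Limits.diag T)).left :=
      QuasiCompact.compactSpace_of_compactSpace (pullback.fst
        (prod.lift (hrep.fst' (g ≫ prod.snd)) (hrep.snd (g ≫ prod.snd))) (Limits.diag T)).left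
    let e := (AlgSp.yon S).preimageIso (hsq.isoIsPullback _ _ hsq₂)
    exact @QuasiCompact.compactSpace_of_compactSpace _ _ ((Over.forget S).mapIso e).hom
      inferInstance hW₂c
  refine ⟨X.property.diag, fun T W g fst snd hsq => ?_⟩
  change QuasiCompact snd.left
  rw [quasiCompact_iff_forall_isAffineOpen]
  intro V hV
  rw [isCompact_iff_compactSpace]
  let T' : Over S := Over.mk (V.ι ≫ T.hom)
  let W' : Over S := Over.mk ((snd.left ⁻¹ᵁ V).ι ≫ W.hom)
  let ιT : T' ⟶ T := Over.homMk V.ι rfl
  let ιW : W' ⟶ W := Over.homMk (snd.left ⁻¹ᵁ V).ι rfl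
  have hw : (snd.left ∣_ V) ≫ V.ι ≫ T.hom = (snd.left ⁻¹ᵁ V).ι ≫ W.hom := by
    rw [← Category.assoc, morphismRestrict_ι, Category.assoc, Over.w snd]
  let snd' : W' ⟶ T' := Over.homMk (snd.left ∣_ V) hw
  have hres : IsPullback ιW snd' snd ιT := by
    have h0 : IsPullback snd' ιW ιT snd :=
      IsPullback.of_map (Over.forget S)
        (Over.OverMorphism.ext (morphismRestrict_ι snd.left V))
        (isPullback_morphismRestrict snd.left V)
    exact h0.flip
  have hpaste := (hres.map (AlgSp.yon S)).paste_horiz hsq
  exact affine_case T' W' _ _ snd' hV hpaste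

end Groth.Agent.S10184
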