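import Groth.Statements.S10397
import Groth.Agent.Lib.Helper30.IrrFin
import Groth.Agent.S10337
import Groth.Agent.Lib.Helper37.DecentPoint2
import Groth.Agent.Lib.Helper5.LargestOpenSp

set_option autoImplicit false
universe u
open CategoryTheory CategoryTheory.Limits AlgebraicGeometry Topology TopologicalSpace
open AlgSp

namespace Groth.Agent.S10397

open Groth.Agent.Lib.Helper30.DecentOpenScheme Groth.Agent.Lib.Helper36.OpenSubspace
  Groth.Agent.Lib.Helper37.AlgSpPoints
  Groth.Agent.Lib.Helper37.AlgSpFibres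
  Groth.Agent.Lib.Helper30.DecentSober
  Groth.Agent.Lib.Helper36.AlgSpCharts Groth.Agent.Lib.Helper30.IrrFin
  Groth.Agent.Lib.Helper37.DecentPoint

/-- the generic points of the irreducible components of a scheme with finitely many of them form a finite set -/
theorem finite_generic {Y : Scheme.{u}} (h : (irreducibleComponents ↥Y).Finite) :
    {x' : ↥Y | ∃ T ∈ irreducibleComponents ↥Y, IsGenericPoint x' T}.Finite := by
  have : {x' : ↥Y | ∃ T ∈ irreducibleComponents ↥Y, IsGenericPoint x' T} =
      ⋃ T ∈ irreducibleComponents ↥Y, {x' | IsGenericPoint x' T} := by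
    ext x'
    simp only [Set.mem_iUnion, exists_prop]
    rfl
  rw [this]
  refine h.biUnion fun T _ => Set.Subsingleton.finite ?_
  intro x hx y hy
  exact IsGenericPoint.eq hx hy

theorem exists_generic_specializes {Y : Scheme.{u}} (x' : ↥Y) :
    ∃ ξ ∈ {x' : ↥Y | ∃ T ∈ irreducibleComponents ↥Y, IsGenericPoint x' T}, ξ ⤳ x' := by
  have hT := irreducibleComponent_mem_irreducibleComponents x'
  obtain ⟨ξ, hξ⟩ := QuasiSober.sober (isIrreducible_irreducibleComponent (x := x'))
    (isClosed_irreducibleComponent (x := x'))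
  refine ⟨ξ, ⟨_, hT, hξ⟩, ?_⟩
  rw [specializes_iff_mem_closure, hξ.def]
  exact mem_irreducibleComponent

theorem dir31 {S : Scheme.{u}} (X : AlgSp.Space S) (X' : Over S) (j : (AlgSp.yon S).obj X' ⟶ X.obj)
    (hj : AlgSp.RepWith @IsOpenImmersion j) (hdense : Dense (Set.range (AlgSp.Points.ofPt j)))
    (hfin : (irreducibleComponents ↥X'.left).Finite)
    (hqc : ∀ x' : ↥X'.left, (∃ T ∈ irreducibleComponents ↥X'.left, IsGenericPoint x' T) →
          AlgSp.RepWith @QuasiCompact (AlgSp.FieldPt.ofPt j x').toHom) :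
    AlgSp.IsDecent X.obj ∧ (irreducibleComponents (AlgSp.Points X.obj)).Finite := by
  let D : GenData X := ⟨X', j, hj, hdense,
    {x' | ∃ T ∈ irreducibleComponents ↥X'.left, IsGenericPoint x' T}, finite_generic hfin,
    exists_generic_specializes, fun ξ hξ => hqc ξ hξ⟩
  exact ⟨D.isDecent, D.finite_irreducibleComponents⟩

theorem finite_irreducibleComponents_of_isOpenEmbedding {A B : Type*} [TopologicalSpace A]
    [TopologicalSpace B] (f : A → B) (hf : Topology.IsOpenEmbedding f)
    (h : (irreducibleComponents B).Finite) : (irreducibleComponents A).Finite := by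
  refine (h.image (fun T => f ⁻¹' T)).subset ?_
  intro Z hZ
  have hirr : IsIrreducible Z := hZ.1
  obtain ⟨T, hT, hZT⟩ := exists_mem_irreducibleComponents_subset_of_isIrreducible (f '' Z)
    (hirr.image f hf.continuous.continuousOn)
  refine ⟨T, hT, ?_⟩
  have hsub : Z ⊆ f ⁻¹' T := fun z hz => hZT ⟨z, hz, rfl⟩
  have hpre : IsIrreducible (f ⁻¹' T) := ⟨hirr.nonempty.mono hsub, hT.1.isPreirreducible.preimage hf⟩
  exact Set.Subset.antisymm (hZ.2 hpre hsub) hsub

theorem injective_ofPt_of_mono {S : Scheme.{u}} {F : Sp S} {T : Over S} (j : (yon S).obj T ⟶ F) [Mono j] :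
    Function.Injective (Points.ofPt j) := by
  intro x₁ x₂ h
  have sq : IsPullback ((yon S).map (𝟙 T)) ((yon S).map (𝟙 T)) j j := by
    rw [CategoryTheory.Functor.map_id]
    exact IsKernelPair.id_of_mono j
  obtain ⟨r, hr1, hr2⟩ := (ofPt_eq_ofPt_iff sq x₁ x₂).1 h
  exact hr1.symm.trans hr2

set_option backward.isDefEq.respectTransparency.types false in
theorem repWith_quasiCompact_of_mk_eq {S : Scheme.{u}} (X : Space S) (p q : FieldPt X.obj)
    (h : Points.mk p = Points.mk q) (hp : RepWith @QuasiCompact p.toHom) :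
    RepWith @QuasiCompact q.toHom := by
  obtain ⟨Ω, _, w, a, b, hab⟩ := Points.mk_eq_mk_iff.1 h
  have e : (yon S).map a ≫ p.toHom = (yon S).map b ≫ q.toHom := by
    have h1 : (yon S).map a ≫ (J S).uliftYonedaEquiv.symm p.val =
        (J S).uliftYonedaEquiv.symm (X.obj.obj.map a.op p.val) :=
      GrothendieckTopology.uliftYonedaEquiv_symm_naturality_left (J S) a X.obj p.val
    have h2 : (yon S).map b ≫ (J S).uliftYonedaEquiv.symm q.val =
        (J S).uliftYonedaEquiv.symm (X.obj.obj.map b.op q.val) :=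
      GrothendieckTopology.uliftYonedaEquiv_symm_naturality_left (J S) b X.obj q.val
    change (yon S).map a ≫ (J S).uliftYonedaEquiv.symm p.val =
      (yon S).map b ≫ (J S).uliftYonedaEquiv.symm q.val
    rw [h1, h2, hab]
  have hqa : QuasiCompact a.left := by
    have h1 : IsAffine (Over.mk w).left := inferInstanceAs (IsAffine (Spec (CommRingCat.of Ω)))
    have h2 : IsAffine p.pt.left := inferInstanceAs (IsAffine (Spec (CommRingCat.of p.K)))
    have : IsAffineHom a.left := isAffineHom_of_isAffine a.left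
    infer_instance
  have h3 : RepWith @QuasiCompact ((yon S).map b ≫ q.toHom) := by
    rw [← e]
    exact (RepWith @QuasiCompact).comp_mem _ _ ((repWith_yon_map_iff @QuasiCompact a).2 hqa) hp
  refine repWith_quasiCompact_of_comp_surjective b ?_ q.toHom (X.property.representable_from_yon _) h3
  intro y
  obtain ⟨z⟩ : Nonempty ↥(Spec (CommRingCat.of Ω)) := inferInstance
  exact ⟨z, Subsingleton.elim (α := PrimeSpectrum q.K) _ _⟩

set_option backward.isDefEq.respectTransparency.types false in
theorem dir13 {S : Scheme.{u}} (X : AlgSp.Space S) (hX : AlgSp.IsDecent X.obj)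
    (hfin : (irreducibleComponents (AlgSp.Points X.obj)).Finite) :
    ∃ (X' : Over S) (j : (AlgSp.yon S).obj X' ⟶ X.obj), AlgSp.RepWith @IsOpenImmersion j ∧
        Dense (Set.range (AlgSp.Points.ofPt j)) ∧ (irreducibleComponents ↥X'.left).Finite ∧
        ∀ x' : ↥X'.left, (∃ T ∈ irreducibleComponents ↥X'.left, IsGenericPoint x' T) →
          AlgSp.RepWith @QuasiCompact (AlgSp.FieldPt.ofPt j x').toHom := by
  obtain ⟨X'', j'', hj'', hrep, hdense⟩ := Groth.Agent.S10337.result X hX
  obtain ⟨X', ⟨e⟩⟩ := Groth.Agent.Lib.Helper23.SLQ.exists_iso_of_isRepresentable hrep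
  obtain ⟨j, hjdef⟩ : ∃ j : (yon S).obj X' ⟶ X.obj, j = e.hom ≫ j''.hom := ⟨_, rfl⟩
  have hj : RepWith @IsOpenImmersion j := by
    rw [hjdef]
    exact (RepWith @IsOpenImmersion).comp_mem _ _ ((RepWith @IsOpenImmersion).of_isIso e.hom) hj''
  have hmono : Mono j := Groth.Agent.Lib.Helper5.LargestOpenSp.mono_of_openImm j hj
  have hje : RepWith @Etale j :=
    MorphismProperty.relative_monotone (fun _ _ g hg => by
      have : IsOpenImmersion g.left := hg
      exact (inferInstance : Etale g.left)) _ hj
  have hrange : Set.range (Points.ofPt j) = Set.range (Points.map j''.hom) := by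
    ext x
    constructor
    · rintro ⟨x', rfl⟩
      refine ⟨Points.ofPt e.hom x', ?_⟩
      rw [Points.map_ofPt, hjdef]
    · rintro ⟨y, rfl⟩
      obtain ⟨x', rfl⟩ := ofPt_surjective e.hom ((RepWith @Surjective).of_isIso e.hom) y
      refine ⟨x', ?_⟩
      rw [Points.map_ofPt, hjdef]
  have hemb : Topology.IsOpenEmbedding (Points.ofPt j) :=
    .of_continuous_injective_isOpenMap (Points.continuous_ofPt j) (injective_ofPt_of_mono j)
      (isOpenMap_ofPt j hje)
  refine ⟨X', j, hj, hrange ▸ hdense,
    finite_irreducibleComponents_of_isOpenEmbedding _ hemb hfin, ?_⟩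
  intro x' _
  obtain ⟨p, hp, hm, hq⟩ := hX (Points.ofPt j x')
  exact repWith_quasiCompact_of_mk_eq X p (FieldPt.ofPt j x') hp hq

/-- (1) ⇔ (3): an algebraic space X over a scheme S is decent with |X| having finitely many irreducible
components if and only if X has a dense open subscheme X' with finitely many irreducible components
whose generic points x'_j give quasi-compact morphisms Spec κ(x'_j) ⟶ X. -/
theorem result {S : Scheme.{u}} (X : AlgSp.Space S) :
    (AlgSp.IsDecent X.obj ∧ (irreducibleComponents (AlgSp.Points X.obj)).Finite) ↔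
      ∃ (X' : Over S) (j : (AlgSp.yon S).obj X' ⟶ X.obj), AlgSp.RepWith @IsOpenImmersion j ∧
        Dense (Set.range (AlgSp.Points.ofPt j)) ∧ (irreducibleComponents ↥X'.left).Finite ∧
        ∀ x' : ↥X'.left, (∃ T ∈ irreducibleComponents ↥X'.left, IsGenericPoint x' T) →
          AlgSp.RepWith @QuasiCompact (AlgSp.FieldPt.ofPt j x').toHom := by
  constructor
  · rintro ⟨hX, hfin⟩
    exact dir13 X hX hfin
  · rintro ⟨X', j, hj, hdense, hfin, hqc⟩
    exact dir31 X X' j hj hdense hfin hqc

end Groth.Agent.S10397
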