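import Groth.Statements.S2174
import Mathlib.Tactic

set_option autoImplicit false
open Finset
open Models Models.NumericalType

namespace Groth.Agent.S2174

theorem row_eq {n : ℕ} (T : Models.NumericalType n) (i : Fin n) : ∑ j, T.a i j * T.m j = 0 := by
  have := congrFun T.mulVec_m i
  simpa [Matrix.mulVec, dotProduct] using this

theorem diag_mul_eq {n : ℕ} (T : Models.NumericalType n) (i : Fin n) :
    T.a i i * T.m i = - ∑ j ∈ univ.erase i, T.a i j * T.m j := by
  have hrow := row_eq T i
  rw [← Finset.add_sum_erase _ _ (Finset.mem_univ i)] at hrow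
  linarith

theorem erase_term_nonneg {n : ℕ} (T : Models.NumericalType n) (i : Fin n) :
    ∀ j ∈ univ.erase i, 0 ≤ T.a i j * T.m j := fun j hj =>
  mul_nonneg (T.offDiag_nonneg i j (Finset.ne_of_mem_erase hj).symm) (T.m_pos j).le

/-- If a numerical type has n > 1 indices then every diagonal entry a i i of its matrix is negative. -/
theorem result {n : ℕ} (T : Models.NumericalType n) (hn : 1 < n) (i : Fin n) : T.a i i < 0 := by
  have hne : ({i} : Finset (Fin n)) ≠ univ := by
    intro h
    have := congrArg Finset.card h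
    rw [Finset.card_singleton, Finset.card_univ, Fintype.card_fin] at this
    omega
  obtain ⟨i', hi', j, hj, hij⟩ := T.connected {i} (Finset.singleton_nonempty i) hne
  rw [Finset.mem_singleton] at hi'
  subst hi'
  rw [Finset.mem_singleton] at hj
  have hjpos : 0 < T.a i' j := lt_of_le_of_ne (T.offDiag_nonneg i' j (Ne.symm hj)) (Ne.symm hij)
  have hpos : 0 < ∑ j ∈ univ.erase i', T.a i' j * T.m j :=
    Finset.sum_pos' (erase_term_nonneg T i')
      ⟨j, Finset.mem_erase.mpr ⟨hj, Finset.mem_univ j⟩, mul_pos hjpos (T.m_pos j)⟩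
  have hlt : T.a i' i' * T.m i' < 0 := by rw [diag_mul_eq]; linarith
  by_contra h
  push Not at h
  have := mul_nonneg h (T.m_pos i').le
  linarith

end Groth.Agent.S2174
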