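import Groth.Statements.S2178
import Mathlib
import Groth.Agent.S2174

set_option autoImplicit false
open Finset
open Models Models.NumericalType

namespace Groth.Agent.S2178

theorem ker_prop {n : ℕ} (T : Models.NumericalType n) (x : Fin n → ℤ) (hx : T.a.mulVec x = 0) :
    ∀ i l, x i * T.m l = x l * T.m i := by
  classical
  have : Nonempty (Fin n) := ⟨⟨0, T.pos⟩⟩
  obtain ⟨i0, -, hi0⟩ := Finset.exists_max_image (univ : Finset (Fin n))
    (fun i => (x i : ℚ) / T.m i) Finset.univ_nonempty
  have hmpos : ∀ i, (0 : ℚ) < T.m i := fun i => by exact_mod_cast T.m_pos i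
  have hmax : ∀ j, x j * T.m i0 ≤ x i0 * T.m j := by
    intro j
    have h1 := hi0 j (Finset.mem_univ j)
    rw [div_le_div_iff₀ (hmpos j) (hmpos i0)] at h1
    exact_mod_cast h1
  have hrowx : ∀ i, ∑ l, T.a i l * x l = 0 := by
    intro i
    have := congrFun hx i
    simpa [Matrix.mulVec, dotProduct] using this
  let I : Finset (Fin n) := univ.filter (fun i => x i * T.m i0 = x i0 * T.m i)
  have hI0 : i0 ∈ I := by simp [I]
  have hIuniv : I = univ := by
    by_contra hne
    obtain ⟨i, hi, j, hj, hij⟩ := T.connected I ⟨i0, hI0⟩ hne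
    have hiI : x i * T.m i0 = x i0 * T.m i := (Finset.mem_filter.mp hi).2
    have hsum : ∑ l, T.a i l * (x i0 * T.m l - x l * T.m i0) = 0 := by
      have h1 : ∑ l, T.a i l * (x i0 * T.m l - x l * T.m i0) =
          x i0 * ∑ l, T.a i l * T.m l - T.m i0 * ∑ l, T.a i l * x l := by
        rw [Finset.mul_sum, Finset.mul_sum, ← Finset.sum_sub_distrib]
        exact Finset.sum_congr rfl fun l _ => by ring
      rw [h1, Groth.Agent.S2174.row_eq, hrowx, mul_zero, mul_zero, sub_zero]
    have hnonneg : ∀ l ∈ (univ : Finset (Fin n)), 0 ≤ T.a i l * (x i0 * T.m l - x l * T.m i0) := by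
      intro l _
      by_cases hl : l = i
      · subst hl
        rw [hiI, sub_self, mul_zero]
      · exact mul_nonneg (T.offDiag_nonneg i l (Ne.symm hl)) (sub_nonneg.mpr (hmax l))
    have hzero := (Finset.sum_eq_zero_iff_of_nonneg hnonneg).mp hsum j (Finset.mem_univ j)
    rcases mul_eq_zero.mp hzero with h | h
    · exact hij h
    · apply hj
      rw [Finset.mem_filter]
      exact ⟨Finset.mem_univ j, by linarith⟩
  have hall : ∀ i, x i * T.m i0 = x i0 * T.m i := by
    intro i
    have : i ∈ I := by rw [hIuniv]; exact Finset.mem_univ i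
    exact (Finset.mem_filter.mp this).2
  intro i l
  have h0 : T.m i0 ≠ 0 := (T.m_pos i0).ne'
  apply mul_right_cancel₀ h0
  calc x i * T.m l * T.m i0 = (x i * T.m i0) * T.m l := by ring
    _ = (x i0 * T.m i) * T.m l := by rw [hall i]
    _ = (x i0 * T.m l) * T.m i := by ring
    _ = (x l * T.m i0) * T.m i := by rw [hall l]
    _ = x l * T.m i * T.m i0 := by ring

theorem picMatrix_mulVec_eq_zero_iff {n : ℕ} (T : Models.NumericalType n) (x : Fin n → ℤ) :
    T.picMatrix.mulVec x = 0 ↔ T.a.mulVec x = 0 := by
  have hkey : ∀ i, T.w i * (T.picMatrix.mulVec x) i = (T.a.mulVec x) i := by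
    intro i
    simp only [Matrix.mulVec, dotProduct, Models.NumericalType.picMatrix, Finset.mul_sum]
    refine Finset.sum_congr rfl fun j _ => ?_
    rw [← mul_assoc, Int.mul_ediv_cancel' (T.w_dvd i j)]
  constructor
  · intro h
    funext i
    rw [← hkey, h]; simp
  · intro h
    funext i
    have := hkey i
    rw [h] at this
    simp only [Pi.zero_apply] at this ⊢
    rcases mul_eq_zero.mp this with h1 | h1
    · exact absurd h1 (T.w_pos i).ne'
    · exact h1

/-- The Picard group of a numerical type (the cokernel of the matrix (a i j / w i) acting on Z^n) has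
free rank one: its rank as a Z-module is 1. -/
theorem result {n : ℕ} (T : Models.NumericalType n) : Module.finrank ℤ T.Pic = 1 := by
  classical
  let f : (Fin n → ℤ) →ₗ[ℤ] (Fin n → ℤ) := Matrix.mulVecLin T.picMatrix
  have h1 := (LinearMap.range f).finrank_quotient_add_finrank
  have h2 := (LinearMap.ker f).finrank_quotient_add_finrank
  rw [LinearEquiv.finrank_eq f.quotKerEquivRange] at h2
  -- finrank of the kernel is one
  have hmker : T.m ∈ LinearMap.ker f := by
    rw [LinearMap.mem_ker, Matrix.mulVecLin_apply, picMatrix_mulVec_eq_zero_iff]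
    exact T.mulVec_m
  let i0 : Fin n := ⟨0, T.pos⟩
  let ψ : LinearMap.ker f →ₗ[ℤ] ℤ := (LinearMap.proj i0).comp (Submodule.subtype _)
  have hψ : Function.Injective ψ := by
    rw [← LinearMap.ker_eq_bot, LinearMap.ker_eq_bot']
    rintro ⟨x, hx⟩ hx0
    have hx0' : x i0 = 0 := hx0
    rw [LinearMap.mem_ker, Matrix.mulVecLin_apply, picMatrix_mulVec_eq_zero_iff] at hx
    have hp := ker_prop T x hx
    apply Subtype.ext
    funext i
    have := hp i i0
    rw [hx0', zero_mul] at this
    rcases mul_eq_zero.mp this with h | h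
    · exact h
    · exact absurd h (T.m_pos i0).ne'
  let φ : ℤ →ₗ[ℤ] LinearMap.ker f := LinearMap.toSpanSingleton ℤ _ ⟨T.m, hmker⟩
  have hφ : Function.Injective φ := by
    rw [← LinearMap.ker_eq_bot, LinearMap.ker_eq_bot']
    intro c hc
    have hc' : c • T.m = 0 := congrArg Subtype.val hc
    have := congrFun hc' i0
    simp only [Pi.smul_apply, smul_eq_mul, Pi.zero_apply] at this
    rcases mul_eq_zero.mp this with h | h
    · exact h
    · exact absurd h (T.m_pos i0).ne'
  have hle1 : Module.finrank ℤ (LinearMap.ker f) ≤ 1 := by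
    have := LinearMap.finrank_le_finrank_of_injective hψ
    simpa using this
  have hge1 : 1 ≤ Module.finrank ℤ (LinearMap.ker f) := by
    have := LinearMap.finrank_le_finrank_of_injective hφ
    simpa using this
  show Module.finrank ℤ ((Fin n → ℤ) ⧸ LinearMap.range f) = 1
  omega

end Groth.Agent.S2178
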