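import Groth.Statements.S0536
import Mathlib
import Groth.Agent.Lib.Helper27.SmoothSection
import Groth.Agent.Lib.Helper58.HenselPairEtale

set_option autoImplicit false
universe u
open Hensel
open scoped TensorProduct

namespace Groth.Agent.S0536

/-- Let `S` be a smooth `R`-algebra and `A` an `R`-algebra Henselian at an ideal `I`. Every `R`-algebra
map `S → A/I` lifts to an `R`-algebra map `S → A`. -/
theorem result (R : Type u) [CommRing R] (S : Type u) [CommRing S]
    [Algebra R S] [Algebra.Smooth R S] (A : Type u) [CommRing A] [Algebra R A] (I : Ideal A)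
    [HenselianRing A I] (σ : S →ₐ[R] A ⧸ I) :
    ∃ τ : S →ₐ[R] A, (Ideal.Quotient.mkₐ R I).comp τ = σ := by
  classical
  let σA : TensorProduct R A S →ₐ[A] A ⧸ I :=
    Algebra.TensorProduct.lift (Algebra.ofId A (A ⧸ I)) σ (fun _ _ => Commute.all _ _)
  obtain ⟨A', _, _, hEt, ψ, τ', hker, hcomp⟩ :=
    Groth.Agent.Lib.Helper27.SmoothSection.exists_etale_section I σA
  obtain ⟨ρ, hρ⟩ := Groth.Agent.Lib.Helper58.HenselPair.exists_etale_lift ψ
  have hρ' : ∀ y : A', Ideal.Quotient.mk I (ρ y) = ψ y := fun y => DFunLike.congr_fun hρ y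
  have hτ' : ∀ z, ψ (τ' z) = σA z := fun z => DFunLike.congr_fun hcomp z
  refine ⟨AlgHom.mk (ρ.toRingHom.comp (τ'.toRingHom.comp
      (Algebra.TensorProduct.includeRight (R := R) (A := A) (B := S)).toRingHom)) ?_, ?_⟩
  · intro r
    show ρ (τ' ((1 : A) ⊗ₜ[R] algebraMap R S r)) = algebraMap R A r
    have h1 : ((1 : A) ⊗ₜ[R] algebraMap R S r) =
        algebraMap A (TensorProduct R A S) (algebraMap R A r) := by
      rw [Algebra.TensorProduct.algebraMap_apply, Algebra.algebraMap_self, RingHom.id_apply,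
        Algebra.algebraMap_eq_smul_one r, Algebra.algebraMap_eq_smul_one r,
        TensorProduct.smul_tmul]
    rw [h1, AlgHom.commutes, AlgHom.commutes]
    rfl
  · ext s
    show Ideal.Quotient.mk I (ρ (τ' ((1 : A) ⊗ₜ[R] s))) = σ s
    rw [hρ', hτ']
    show Algebra.TensorProduct.lift (Algebra.ofId A (A ⧸ I)) σ (fun _ _ => Commute.all _ _)
      ((1 : A) ⊗ₜ[R] s) = σ s
    rw [Algebra.TensorProduct.lift_tmul, map_one, one_mul]

end Groth.Agent.S0536
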