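import Groth.Statements.S16233
import Mathlib

set_option autoImplicit false
open NCTr

namespace Groth.Agent.S16233


theorem mk_mul_comm {A : Type*} [Ring A] (a b : A) :
    (QuotientAddGroup.mk (a * b) : NCTr.Abel A) = QuotientAddGroup.mk (b * a) := by
  rw [QuotientAddGroup.eq]
  apply AddSubgroup.subset_closure
  exact ⟨b, a, by abel⟩

/-- The Hattori–Stallings trace does not depend on the basis. -/
theorem hsTrace_indep {A : Type*} [Ring A] {E : Type*} [AddCommGroup E] [Module A E]
    {κ κ' : Type*} [Fintype κ] [Fintype κ'] (c : Module.Basis κ A E) (c' : Module.Basis κ' A E)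
    (u : E →ₗ[A] E) : NCTr.hsTrace c u = NCTr.hsTrace c' u := by
  classical
  set X : κ → κ' → A := fun k k' => c'.repr (c k) k' with hX
  set Y : κ' → κ → A := fun k' k => c.repr (c' k') k with hY
  set U : κ → κ → A := fun k l => c.repr (u (c k)) l with hU
  have ha : ∀ k, c k = ∑ k', X k k' • c' k' := fun k => (c'.sum_repr (c k)).symm
  have hb : ∀ k', c' k' = ∑ k, Y k' k • c k := fun k' => (c.sum_repr (c' k')).symm
  have hu : ∀ k, u (c k) = ∑ l, U k l • c l := fun k => (c.sum_repr (u (c k))).symm
  have hc : ∀ l k, ∑ k', X l k' * Y k' k = if l = k then 1 else 0 := by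
    intro l k
    have h1 : c.repr (c l) k = ∑ k', X l k' * Y k' k := by
      conv_lhs => rw [ha l]
      rw [map_sum, Finsupp.finset_sum_apply]
      refine Finset.sum_congr rfl fun k' _ => ?_
      rw [map_smul, Finsupp.smul_apply, smul_eq_mul]
    rw [← h1, Module.Basis.repr_self, Finsupp.single_apply]
  have hd : ∀ k' l', c'.repr (u (c' k')) l' = ∑ k, ∑ l, Y k' k * (U k l * X l l') := by
    intro k' l'
    conv_lhs => rw [hb k']
    rw [map_sum, map_sum, Finsupp.finset_sum_apply]
    refine Finset.sum_congr rfl fun k _ => ?_
    rw [map_smul, map_smul, Finsupp.smul_apply, smul_eq_mul, hu k, map_sum,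
      Finsupp.finset_sum_apply, Finset.mul_sum]
    refine Finset.sum_congr rfl fun l _ => ?_
    rw [map_smul, Finsupp.smul_apply, smul_eq_mul]
  unfold NCTr.hsTrace
  symm
  calc ∑ k', (QuotientAddGroup.mk (c'.repr (u (c' k')) k') : NCTr.Abel A)
      = ∑ k', ∑ k, ∑ l, (QuotientAddGroup.mk (Y k' k * (U k l * X l k')) : NCTr.Abel A) := by
        refine Finset.sum_congr rfl fun k' _ => ?_
        rw [hd, QuotientAddGroup.mk_sum]
        refine Finset.sum_congr rfl fun k _ => ?_
        rw [QuotientAddGroup.mk_sum]
    _ = ∑ k', ∑ k, ∑ l, (QuotientAddGroup.mk (U k l * (X l k' * Y k' k)) : NCTr.Abel A) := by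
        refine Finset.sum_congr rfl fun k' _ => Finset.sum_congr rfl fun k _ =>
          Finset.sum_congr rfl fun l _ => ?_
        rw [mk_mul_comm, mul_assoc]
    _ = ∑ k, ∑ l, ∑ k', (QuotientAddGroup.mk (U k l * (X l k' * Y k' k)) : NCTr.Abel A) := by
        rw [Finset.sum_comm]
        refine Finset.sum_congr rfl fun k _ => ?_
        rw [Finset.sum_comm]
    _ = ∑ k, ∑ l, (QuotientAddGroup.mk (U k l * (if l = k then 1 else 0)) : NCTr.Abel A) := by
        refine Finset.sum_congr rfl fun k _ => Finset.sum_congr rfl fun l _ => ?_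
        rw [← QuotientAddGroup.mk_sum, ← Finset.mul_sum, hc]
    _ = ∑ k, (QuotientAddGroup.mk (U k k) : NCTr.Abel A) := by
        refine Finset.sum_congr rfl fun k _ => ?_
        rw [Finset.sum_eq_single k]
        · simp
        · intro l _ hl
          simp [hl]
        · intro h
          exact absurd (Finset.mem_univ k) h

/-- Let Λ be a ring, not necessarily commutative, G a finite group, P a left Λ[G]-module with a finite
Λ[G]-basis b, regarded also as a Λ-module by restriction of scalars and equipped with any finite
Λ-basis c, and u a Λ[G]-linear endomorphism of P with diagonal matrix entries u_ii = (b.repr (u (b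
i))) i in Λ[G]. Then the trace of u as a Λ-linear endomorphism, taken in Λ modulo additive
commutators with respect to c, equals |G| times the class of the sum over i of the coefficients of
the identity element of G in the u_ii (that sum of coefficients is the value at the identity class
of the Λ[G]-trace of u, the G-trace of u). The source states this for P finitely generated
projective over Λ[G]; this row is the free case. -/
theorem result
    (Λ : Type*) [Ring Λ] (G : Type*) [Group G] [Fintype G]
    (P : Type*) [AddCommGroup P] [Module Λ P] [Module (MonoidAlgebra Λ G) P]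
    [IsScalarTower Λ (MonoidAlgebra Λ G) P]
    {ι κ : Type*} [Fintype ι] [Fintype κ]
    (b : Module.Basis ι (MonoidAlgebra Λ G) P) (c : Module.Basis κ Λ P)
    (u : P →ₗ[MonoidAlgebra Λ G] P) :
    NCTr.hsTrace c (u.restrictScalars Λ) =
      Fintype.card G • ∑ i, (QuotientAddGroup.mk ((b.repr (u (b i)) i).coeff 1) : NCTr.Abel Λ) := by
  classical
  set c' : Module.Basis (G × ι) Λ P := (MonoidAlgebra.basis G Λ).smulTower b with hc'
  rw [hsTrace_indep c c']
  unfold NCTr.hsTrace
  rw [Fintype.sum_prod_type]
  have key : ∀ (g : G) (i : ι), c'.repr ((u.restrictScalars Λ) (c' (g, i))) (g, i) =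
      (b.repr (u (b i)) i).coeff 1 := by
    intro g i
    rw [hc', Module.Basis.smulTower_repr_mk, Module.Basis.smulTower_apply]
    simp only [LinearMap.coe_restrictScalars, map_smul, MonoidAlgebra.basis_apply,
      Finsupp.smul_apply, smul_eq_mul]
    change (MonoidAlgebra.single g 1 * (b.repr (u (b i))) i).coeff g = _
    rw [MonoidAlgebra.coeff_single_mul_apply]
    simp
  simp_rw [key]
  rw [Finset.sum_const, Finset.card_univ]

end Groth.Agent.S16233
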