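import Groth.Statements.S2952
-- import your own Groth.Agent.* helpers here

set_option autoImplicit false
open RootPairing
open scoped Pointwise
universe u
open RootD

namespace Groth.Agent.S2952

theorem weightHom_reflection {ι R M N : Type*} [CommRing R] [AddCommGroup M] [Module R M]
    [AddCommGroup N] [Module R N] (P : RootPairing ι R M N) (i : ι) :
    Equiv.weightHom P (Equiv.reflection P i) = P.reflection i :=
  Equiv.reflection_weightEquiv P i

theorem reflection_conj {ι R M N : Type*} [CommRing R] [AddCommGroup M] [Module R M]
    [AddCommGroup N] [Module R N] (P : RootPairing ι R M N) (i j : ι) :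
    Equiv.reflection P (P.reflectionPerm j i) =
      Equiv.reflection P j * Equiv.reflection P i * Equiv.reflection P j := by
  apply Equiv.weightHom_injective
  rw [map_mul, map_mul, weightHom_reflection, weightHom_reflection, weightHom_reflection]
  exact P.reflection_reflectionPerm

theorem reflection_neg {ι R M N : Type*} [CommRing R] [AddCommGroup M] [Module R M]
    [AddCommGroup N] [Module R N] (P : RootPairing ι R M N) (i : ι) :
    Equiv.reflection P (P.reflectionPerm i i) = Equiv.reflection P i := by
  apply Equiv.weightHom_injective
  rw [weightHom_reflection, weightHom_reflection]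
  ext x
  simp [reflection_apply, two_smul]

theorem reflection_mem_closure {ι R M N : Type*} [CommRing R] [CharZero R] [IsDomain R] [AddCommGroup M] [Module R M]
    [AddCommGroup N] [Module R N] (P : RootPairing ι R M N) [Finite ι] [P.IsCrystallographic] [P.IsReduced]
    (b : P.Base) (i : ι) :
    Equiv.reflection P i ∈
      Subgroup.closure ((fun i : ι => Equiv.reflection P i) '' (b.support : Set ι)) := by
  refine b.induction_reflect i (p := fun i => Equiv.reflection P i ∈
      Subgroup.closure ((fun i : ι => Equiv.reflection P i) '' (b.support : Set ι))) ?_ ?_ ?_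
  · intro i hi
    rw [reflection_neg]; exact hi
  · intro i hi
    exact Subgroup.subset_closure ⟨i, hi, rfl⟩
  · intro i j hi hj
    rw [reflection_conj]
    have hj' : Equiv.reflection P j ∈
        Subgroup.closure ((fun i : ι => Equiv.reflection P i) '' (b.support : Set ι)) :=
      Subgroup.subset_closure ⟨j, hj, rfl⟩
    exact mul_mem (mul_mem hj' hi) hj'

theorem smul_reflectionPerm_self {ι R M N : Type*} [CommRing R] [AddCommGroup M] [Module R M]
    [AddCommGroup N] [Module R N] (P : RootPairing ι R M N) (g : P.Aut) (j : ι) :
    g • (P.reflectionPerm j j) = P.reflectionPerm (g • j) (g • j) := by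
  apply P.root.injective
  have h1 : ∀ k : ι, P.root (g • k) = g • P.root k := fun k => Equiv.root_indexEquiv_eq_smul P k g
  rw [h1, P.root_reflectionPerm, P.root_reflectionPerm, P.reflection_apply_self,
    P.reflection_apply_self, h1, smul_neg]

/-- For a finite crystallographic reduced root pairing over a characteristic-zero domain with a base b:
(1) the Weyl group is generated by the reflections in the simple roots; (2) every root is the image
of a simple root under an element of the Weyl group (acting on the indexing type). (The published
statement also covers the non-reduced case.) -/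
theorem result {ι R M N : Type*} [CommRing R] [CharZero R] [IsDomain R] [AddCommGroup M] [Module R M]
    [AddCommGroup N] [Module R N] (P : RootPairing ι R M N) [Finite ι] [P.IsCrystallographic] [P.IsReduced]
    (b : P.Base) :
    Subgroup.closure ((fun i : ι => Equiv.reflection P i) '' (b.support : Set ι)) = P.weylGroup ∧
    ∀ i : ι, ∃ g : P.Aut, g ∈ P.weylGroup ∧ ∃ j ∈ b.support, g • j = i := by
  refine ⟨?_, ?_⟩
  · apply le_antisymm
    · apply Subgroup.closure_mono
      rintro _ ⟨i, _, rfl⟩
      exact ⟨i, rfl⟩
    · rw [RootPairing.weylGroup, Subgroup.closure_le]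
      rintro _ ⟨i, rfl⟩
      exact reflection_mem_closure P b i
  · intro i
    refine b.induction_reflect i (p := fun i => ∃ g : P.Aut, g ∈ P.weylGroup ∧ ∃ j ∈ b.support, g • j = i)
      ?_ ?_ ?_
    · rintro i ⟨g, hg, j, hj, rfl⟩
      refine ⟨g * Equiv.reflection P j, mul_mem hg (P.reflection_mem_weylGroup j), j, hj, ?_⟩
      rw [mul_smul]
      exact smul_reflectionPerm_self P g j
    · intro i hi
      exact ⟨1, one_mem _, i, hi, one_smul _ _⟩
    · rintro i j ⟨g, hg, k, hk, rfl⟩ hj
      refine ⟨Equiv.reflection P j * g, mul_mem (P.reflection_mem_weylGroup j) hg, k, hk, ?_⟩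
      rw [mul_smul]
      rfl

end Groth.Agent.S2952
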