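import Groth.Statements.S16691
import Groth.Agent.Lib.Helper10.DualTensorFP

set_option autoImplicit false
universe u v w w'
open scoped TensorProduct
open ComodTens

namespace Groth.Agent.S16691

open Groth.Agent.Lib.Helper10.DualTensorFP

section Aux

variable {k : Type u} [CommRing k]
    {A : Type v} [CommRing A] [HopfAlgebra k A]
    {B : Type w} [AddCommGroup B] [Module k B]
    {M : Type w'} [AddCommGroup M] [Module k M]

variable (k A B) in
/-- right multiplication `(b ⊗ a) ⊗ a' ↦ b ⊗ a a'` -/
noncomputable def mur : (B ⊗[k] A) ⊗[k] A →ₗ[k] B ⊗[k] A :=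
  (LinearMap.mul' k A).lTensor B ∘ₗ (TensorProduct.assoc k B A A).toLinearMap

@[simp] theorem mur_tmul (b : B) (a a' : A) :
    mur k A B ((b ⊗ₜ[k] a) ⊗ₜ[k] a') = b ⊗ₜ[k] (a * a') := by
  simp [mur]

theorem mur_mur (z : B ⊗[k] A) (s a' : A) :
    mur k A B (mur k A B (z ⊗ₜ[k] s) ⊗ₜ[k] a') = mur k A B (z ⊗ₜ[k] (s * a')) := by
  induction z using TensorProduct.induction_on with
  | zero => simp
  | add x y hx hy => simp only [map_add, TensorProduct.add_tmul, hx, hy]
  | tmul b a => simp [mul_assoc]

theorem mur_algebraMap (z : B ⊗[k] A) (r : k) :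
    mur k A B (z ⊗ₜ[k] algebraMap k A r) = r • z := by
  induction z using TensorProduct.induction_on with
  | zero => simp
  | add x y hx hy => simp only [map_add, TensorProduct.add_tmul, hx, hy, smul_add]
  | tmul b a => simp [Algebra.algebraMap_eq_smul_one, TensorProduct.tmul_smul]

variable (k A B M) in
/-- reading map `(B ⊗ M^*) ⊗ A → Hom(M, B ⊗ A)` -/
noncomputable def R' : (B ⊗[k] Module.Dual k M) ⊗[k] A →ₗ[k] (M →ₗ[k] B ⊗[k] A) :=
  T k M (B ⊗[k] A) ∘ₗ (TensorProduct.rightComm k B (Module.Dual k M) A).toLinearMap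

@[simp] theorem R'_tmul (b : B) (φ : Module.Dual k M) (a : A) (m : M) :
    R' k A B M ((b ⊗ₜ[k] φ) ⊗ₜ[k] a) m = φ m • (b ⊗ₜ[k] a) := by
  simp [R']

/-- `Ψ(h)(m) = Σ ρ_B(h m₀) · (1 ⊗ S m₁)` -/
noncomputable def Psi (cB : HopfRep.Comod k A B) (cM : HopfRep.Comod k A M) (h : M →ₗ[k] B) :
    M →ₗ[k] B ⊗[k] A :=
  mur k A B ∘ₗ TensorProduct.map (cB.coact ∘ₗ h) (HopfAlgebraStruct.antipode (R := k) (A := A)) ∘ₗ
    cM.coact

theorem Psi_apply (cB : HopfRep.Comod k A B) (cM : HopfRep.Comod k A M) (h : M →ₗ[k] B) (m : M) :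
    Psi cB cM h m = mur k A B (TensorProduct.map (cB.coact ∘ₗ h)
      (HopfAlgebraStruct.antipode (R := k) (A := A)) (cM.coact m)) := rfl

theorem Psi_zero (cB : HopfRep.Comod k A B) (cM : HopfRep.Comod k A M) :
    Psi cB cM 0 = 0 := by
  unfold Psi
  rw [LinearMap.comp_zero, TensorProduct.map_zero_left, LinearMap.zero_comp, LinearMap.comp_zero]

theorem Psi_add (cB : HopfRep.Comod k A B) (cM : HopfRep.Comod k A M) (h h' : M →ₗ[k] B) :
    Psi cB cM (h + h') = Psi cB cM h + Psi cB cM h' := by
  unfold Psi
  rw [LinearMap.comp_add, TensorProduct.map_add_left, LinearMap.add_comp, LinearMap.comp_add]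

theorem R'_tensor (u : B ⊗[k] A) (v : Module.Dual k M ⊗[k] A) (m : M) :
    R' k A B M (TensorProduct.map LinearMap.id (LinearMap.mul' k A)
      (TensorProduct.AlgebraTensorModule.tensorTensorTensorComm k k k k B A (Module.Dual k M) A
        (u ⊗ₜ[k] v))) m = mur k A B (u ⊗ₜ[k] dualTensorHom k M A v m) := by
  induction u using TensorProduct.induction_on with
  | zero => simp
  | add x y hx hy => simp only [map_add, TensorProduct.add_tmul, LinearMap.add_apply, hx, hy]
  | tmul b a =>
    induction v using TensorProduct.induction_on with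
    | zero => simp
    | add x y hx hy => simp only [map_add, TensorProduct.tmul_add, LinearMap.add_apply, hx, hy]
    | tmul ψ a' =>
      simp [dualTensorHom_apply, TensorProduct.tmul_smul]

theorem mur_T_tmul (cB : HopfRep.Comod k A B) (b : B) (φ : Module.Dual k M) (w : M ⊗[k] A) :
    mur k A B (TensorProduct.map (cB.coact ∘ₗ T k M B (b ⊗ₜ[k] φ))
      (HopfAlgebraStruct.antipode (R := k) (A := A)) w) =
    mur k A B (cB.coact b ⊗ₜ[k] TensorProduct.lid k A
      (TensorProduct.map φ (HopfAlgebraStruct.antipode (R := k) (A := A)) w)) := by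
  induction w using TensorProduct.induction_on with
  | zero => simp
  | add x y hx hy => simp only [map_add, TensorProduct.tmul_add, hx, hy]
  | tmul m a => simp [TensorProduct.smul_tmul', TensorProduct.tmul_smul]

/-- Claim A -/
theorem R'_coact (cB : HopfRep.Comod k A B) (cM : HopfRep.Comod k A M)
    (d : HopfRep.Comod k A (Module.Dual k M)) (hd : ComodTens.Comod.IsDual cM d)
    (x : B ⊗[k] Module.Dual k M) :
    R' k A B M ((ComodTens.Comod.tensor cB d).coact x) = Psi cB cM (T k M B x) := by
  induction x using TensorProduct.induction_on with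
  | zero => simp [Psi_zero]
  | add x y hx hy => simp only [map_add, hx, hy, Psi_add]
  | tmul b φ =>
    apply LinearMap.ext
    intro m
    rw [ComodTens.tensor_coact_tmul, R'_tensor, hd φ, ComodTens.dualCoactFun_apply, Psi_apply,
      mur_T_tmul]

theorem R'_tmul_one (x : B ⊗[k] Module.Dual k M) (m : M) :
    R' k A B M (x ⊗ₜ[k] (1 : A)) m = T k M B x m ⊗ₜ[k] (1 : A) := by
  induction x using TensorProduct.induction_on with
  | zero => simp
  | add x y hx hy => simp only [map_add, TensorProduct.add_tmul, LinearMap.add_apply, hx, hy]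
  | tmul b φ => simp [TensorProduct.smul_tmul']

/-- Claim B (⇐) -/
theorem Psi_of_isComodHom (cB : HopfRep.Comod k A B) (cM : HopfRep.Comod k A M) (h : M →ₗ[k] B)
    (hh : cB.coact ∘ₗ h = h.rTensor A ∘ₗ cM.coact) (m : M) :
    Psi cB cM h m = h m ⊗ₜ[k] (1 : A) := by
  -- G₁ : m' ⊗ (a ⊗ a') ↦ h m' ⊗ a * S a'
  let G₁ : M ⊗[k] (A ⊗[k] A) →ₗ[k] B ⊗[k] A :=
    TensorProduct.map h (LinearMap.mul' k A ∘ₗ
      (HopfAlgebraStruct.antipode (R := k) (A := A)).lTensor A)
  have h1 : ∀ w : M ⊗[k] A, mur k A B (TensorProduct.map (h.rTensor A ∘ₗ cM.coact)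
      (HopfAlgebraStruct.antipode (R := k) (A := A)) w) =
      G₁ (TensorProduct.assoc k M A A (cM.coact.rTensor A w)) := by
    intro w
    induction w using TensorProduct.induction_on with
    | zero => simp
    | add x y hx hy => simp only [map_add, hx, hy]
    | tmul m' a' =>
      simp only [TensorProduct.map_tmul, LinearMap.coe_comp, Function.comp_apply,
        LinearMap.rTensor_tmul]
      generalize cM.coact m' = y
      induction y using TensorProduct.induction_on with
      | zero => simp
      | add x y hx hy => simp only [map_add, TensorProduct.add_tmul, hx, hy]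
      | tmul m'' a'' => simp [G₁]
  have h2 : ∀ w : M ⊗[k] A, G₁ ((CoalgebraStruct.comul (R := k) (A := A)).lTensor M w) =
      TensorProduct.map h (Algebra.linearMap k A)
        ((CoalgebraStruct.counit (R := k) (A := A)).lTensor M w) := by
    intro w
    induction w using TensorProduct.induction_on with
    | zero => simp
    | add x y hx hy => simp only [map_add, hx, hy]
    | tmul m' a => simp [G₁]
  rw [Psi_apply, hh, h1]
  have h3 := LinearMap.congr_fun cM.coassoc m
  simp only [LinearMap.coe_comp, Function.comp_apply, LinearEquiv.coe_coe] at h3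
  rw [h3, h2]
  have h4 := LinearMap.congr_fun cM.counit_comp m
  simp only [LinearMap.coe_comp, Function.comp_apply, LinearMap.flip_apply,
    TensorProduct.mk_apply] at h4
  rw [h4]
  simp

/-- Claim B (⇒) -/
theorem isComodHom_of_Psi (cB : HopfRep.Comod k A B) (cM : HopfRep.Comod k A M) (h : M →ₗ[k] B)
    (hh : ∀ m, Psi cB cM h m = h m ⊗ₜ[k] (1 : A)) :
    cB.coact ∘ₗ h = h.rTensor A ∘ₗ cM.coact := by
  -- G₂ : m' ⊗ (a ⊗ a') ↦ ρ_B (h m') · (1 ⊗ S a * a')
  let G₂ : M ⊗[k] (A ⊗[k] A) →ₗ[k] B ⊗[k] A :=
    mur k A B ∘ₗ TensorProduct.map (cB.coact ∘ₗ h) (LinearMap.mul' k A ∘ₗ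
      (HopfAlgebraStruct.antipode (R := k) (A := A)).rTensor A)
  have h0 : ∀ w : M ⊗[k] A, h.rTensor A w =
      mur k A B (TensorProduct.map (Psi cB cM h) LinearMap.id w) := by
    intro w
    induction w using TensorProduct.induction_on with
    | zero => simp
    | add x y hx hy => simp only [map_add, hx, hy]
    | tmul m' a' => simp [hh]
  have h1 : ∀ w : M ⊗[k] A, mur k A B (TensorProduct.map (Psi cB cM h) LinearMap.id w) =
      G₂ (TensorProduct.assoc k M A A (cM.coact.rTensor A w)) := by
    intro w
    induction w using TensorProduct.induction_on with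
    | zero => simp
    | add x y hx hy => simp only [map_add, hx, hy]
    | tmul m' a' =>
      simp only [TensorProduct.map_tmul, LinearMap.id_apply, LinearMap.rTensor_tmul, Psi_apply]
      generalize cM.coact m' = y
      induction y using TensorProduct.induction_on with
      | zero => simp
      | add x y hx hy => simp only [map_add, TensorProduct.add_tmul, hx, hy]
      | tmul m'' a'' => simp [G₂, mur_mur]
  have h2 : ∀ w : M ⊗[k] A, G₂ ((CoalgebraStruct.comul (R := k) (A := A)).lTensor M w) =
      cB.coact (h (TensorProduct.rid k M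
        ((CoalgebraStruct.counit (R := k) (A := A)).lTensor M w))) := by
    intro w
    induction w using TensorProduct.induction_on with
    | zero => simp
    | add x y hx hy => simp only [map_add, hx, hy]
    | tmul m' a => simp [G₂, mur_algebraMap]
  apply LinearMap.ext
  intro m
  simp only [LinearMap.coe_comp, Function.comp_apply]
  rw [h0, h1]
  have h3 := LinearMap.congr_fun cM.coassoc m
  simp only [LinearMap.coe_comp, Function.comp_apply, LinearEquiv.coe_coe] at h3
  rw [h3, h2]
  have h4 := LinearMap.congr_fun cM.counit_comp m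
  simp only [LinearMap.coe_comp, Function.comp_apply, LinearMap.flip_apply,
    TensorProduct.mk_apply] at h4
  rw [h4]
  simp

end Aux

section Main

variable {k : Type u} [CommRing k]
    {A : Type v} [CommRing A] [HopfAlgebra k A] [Module.Flat k A]
    {B : Type w} [AddCommGroup B] [Module k B] [Module.Flat k B]
    {M : Type w'} [AddCommGroup M] [Module k M] [Module.FinitePresentation k M]

theorem R'_injective : Function.Injective (R' k A B M) := by
  have h1 : Function.Injective (T k M (B ⊗[k] A)) := (T_bijective k (B ⊗[k] A)).1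
  exact h1.comp (TensorProduct.rightComm k B (Module.Dual k M) A).injective

theorem fixed_iff (cB : HopfRep.Comod k A B) (cM : HopfRep.Comod k A M)
    (d : HopfRep.Comod k A (Module.Dual k M)) (hd : ComodTens.Comod.IsDual cM d)
    (x : B ⊗[k] Module.Dual k M) :
    (ComodTens.Comod.tensor cB d).coact x = x ⊗ₜ[k] (1 : A) ↔
      cB.coact ∘ₗ T k M B x = (T k M B x).rTensor A ∘ₗ cM.coact := by
  constructor
  · intro hx
    apply isComodHom_of_Psi
    intro m
    rw [← R'_coact cB cM d hd, hx, R'_tmul_one]
  · intro hh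
    apply R'_injective
    apply LinearMap.ext
    intro m
    rw [R'_coact cB cM d hd, R'_tmul_one, Psi_of_isComodHom cB cM _ hh]

end Main

/-- Let `k` be a commutative ring, `A` a commutative Hopf algebra over `k`, flat over `k`, `B` a flat
`k`-module with a right `A`-comodule structure, and `M` a finitely presented `k`-module with a right
`A`-comodule structure; let `M^*` carry the contragredient structure `d` (for each form `f`, `d f`
read as a map `M → A` is `m ↦ Σ f(m₀) S(m₁)`) and `B ⊗ M^*` the tensor-product coaction `b ⊗ φ ↦ Σ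
(b₀ ⊗ φ₀) ⊗ b₁ φ₁`. Then `b ⊗ φ ↦ (m ↦ φ(m) b)` restricts to a bijection from the invariants `(B ⊗
M^*)^A` (elements with coaction `x ⊗ 1`) onto the `A`-comodule maps `M → B`. (The published
statement assumes `B` only finitely presented over `k`; for `k = ℤ`, `A = ℤ` the Hopf algebra of the
trivial group and `B = M = ℤ/2` with trivial coactions, `M^* = 0` so the invariants vanish while the
identity of `ℤ/2` is a comodule map, and the published proof uses that `B ⊗ M^* → Hom(M, B)` is
bijective, which holds for `B` flat; so `B` is taken flat here.) -/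
theorem result (k : Type u) [CommRing k]
    (A : Type v) [CommRing A] [HopfAlgebra k A] [Module.Flat k A]
    (B : Type w) [AddCommGroup B] [Module k B] [Module.Flat k B] (cB : HopfRep.Comod k A B)
    (M : Type w') [AddCommGroup M] [Module k M] [Module.FinitePresentation k M]
    (cM : HopfRep.Comod k A M)
    (d : HopfRep.Comod k A (Module.Dual k M)) (hd : ComodTens.Comod.IsDual cM d) :
    Set.BijOn
      (fun x : B ⊗[k] Module.Dual k M => dualTensorHom k M B (TensorProduct.comm k B (Module.Dual k M) x))
      ((@HopfRep.fixedPts k A _ _ _ (B ⊗[k] Module.Dual k M) _ _ (ComodTens.Comod.tensor cB d)) :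
        Set (B ⊗[k] Module.Dual k M))
      {h : M →ₗ[k] B | @Hoch.IsComodHom k _ A _ _ _ M _ _ cM B _ _ cB h} := by
  have key := fixed_iff cB cM d hd
  refine ⟨?_, ?_, ?_⟩
  · intro x hx
    exact (key x).1 hx
  · intro x _ y _ hxy
    exact (T_bijective (k := k) (M := M) B).1 hxy
  · intro h hh
    obtain ⟨x, rfl⟩ := (T_bijective (k := k) (M := M) B).2 h
    exact ⟨x, (key x).2 hh, rfl⟩

end Groth.Agent.S16691
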