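import Groth.Statements.S18252
import Mathlib

set_option autoImplicit false
universe u
open W4c5m1nsnscurves
open Curves

namespace Groth.Agent.S18252

section
open MvPolynomial

variable (R : Type u) [CommRing R] (m : ℕ)

theorem urel1 (i j : Fin m) (h : i ≠ j) :
    ugen R m (.cij i j h) + ugen R m (.cij j i (Ne.symm h)) =
      ugen R m .a + ugen R m (.ci i) + ugen R m (.cbi i) + ugen R m (.ci j) + ugen R m (.cbi j) := by
  have := Ideal.Quotient.eq_zero_iff_mem.mpr (Ideal.subset_span
    (show (X (.cij i j h) + X (.cij j i (Ne.symm h)) -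
      (X .a + X (.ci i) + X (.cbi i) + X (.ci j) + X (.cbi j)) : MvPolynomial (UGen m) R) ∈ URel R m from
      Or.inl (Or.inl (Or.inl ⟨⟨(i, j), h⟩, rfl⟩))))
  simp only [map_sub, map_add, sub_eq_zero] at this
  exact this

theorem urel2 (i j : Fin m) (h : i ≠ j) :
    ugen R m (.cij j i (Ne.symm h)) * ugen R m (.ci j) + ugen R m (.cij i j h) * ugen R m (.ci i) -
      ugen R m (.ci i) * ugen R m (.ci j) - ugen R m .c = 0 := by
  have := Ideal.Quotient.eq_zero_iff_mem.mpr (Ideal.subset_span
    (show (X (.cij j i (Ne.symm h)) * X (.ci j) + X (.cij i j h) * X (.ci i) -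
      X (.ci i) * X (.ci j) - X .c : MvPolynomial (UGen m) R) ∈ URel R m from
      Or.inl (Or.inl (Or.inr ⟨⟨(i, j), h⟩, rfl⟩))))
  simp only [map_sub, map_add, map_mul] at this
  exact this

theorem urel3 (i j : Fin m) (h : i ≠ j) :
    ugen R m (.cij j i (Ne.symm h)) * ugen R m (.cbi i) + ugen R m (.cij i j h) * ugen R m (.cbi j) -
      ugen R m (.cbi i) * ugen R m (.cbi j) - ugen R m .cb = 0 := by
  have := Ideal.Quotient.eq_zero_iff_mem.mpr (Ideal.subset_span
    (show (X (.cij j i (Ne.symm h)) * X (.cbi i) + X (.cij i j h) * X (.cbi j) -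
      X (.cbi i) * X (.cbi j) - X .cb : MvPolynomial (UGen m) R) ∈ URel R m from
      Or.inl (Or.inr ⟨⟨(i, j), h⟩, rfl⟩)))
  simp only [map_sub, map_add, map_mul] at this
  exact this

theorem urel4 (i j k : Fin m) (hij : i ≠ j) (hjk : j ≠ k) (hik : i ≠ k) :
    ugen R m (.cij i j hij) * ugen R m (.cij j k hjk) +
      ugen R m (.cij j i (Ne.symm hij)) * ugen R m (.cij i k hik) -
      ugen R m (.cij i k hik) * ugen R m (.cij j k hjk) +
      (ugen R m .a + ugen R m (.ci k) + ugen R m (.cbi k)) * ugen R m (.ci k) - ugen R m .c = 0 := by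
  have := Ideal.Quotient.eq_zero_iff_mem.mpr (Ideal.subset_span
    (show (X (.cij i j hij) * X (.cij j k hjk) +
      X (.cij j i (Ne.symm hij)) * X (.cij i k hik) -
      X (.cij i k hik) * X (.cij j k hjk) +
      (X .a + X (.ci k) + X (.cbi k)) * X (.ci k) - X .c : MvPolynomial (UGen m) R) ∈ URel R m from
      Or.inr ⟨⟨(i, j, k), ⟨hij, hjk, hik⟩⟩, rfl⟩))
  simp only [map_sub, map_add, map_mul] at this
  exact this

theorem uincl_ugen (g : UGen m) : uincl R m (ugen R m g) = ugen R (m + 1) g.castSucc := by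
  change ((Ideal.Quotient.mkₐ R (Ideal.span (URel R (m + 1)))).comp (rename UGen.castSucc)) (X g) = _
  simp [ugen]

noncomputable abbrev Cn : Type u := CurveAlg (URing R m) m (ugen R m)

noncomputable def qm : MvPolynomial (CVar m) (URing R m) →+* Cn R m :=
  Ideal.Quotient.mk (Ideal.span (CRel (URing R m) m (ugen R m)))

noncomputable def io : URing R m →+* Cn R m := (qm R m).comp C

theorem crel1 (i : Fin m) :
    qm R m (X .x2) * qm R m (X (.xi i)) =
      qm R m (X .x2) * qm R m (X .x3) + io R m (ugen R m (.ci i)) * qm R m (X (.xi i)) +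
        io R m (ugen R m (.cbi i)) * qm R m (X .x2) - io R m (ugen R m .c) := by
  have := Ideal.Quotient.eq_zero_iff_mem.mpr (Ideal.subset_span
    (show (X .x2 * X (.xi i) -
      (X .x2 * X .x3 + C (ugen R m (.ci i)) * X (.xi i) + C (ugen R m (.cbi i)) * X .x2 -
        C (ugen R m .c)) : MvPolynomial (CVar m) (URing R m)) ∈ CRel (URing R m) m (ugen R m) from
      Or.inl (Or.inl ⟨i, rfl⟩)))
  simp only [map_sub, map_add, map_mul, sub_eq_zero] at this
  exact this

theorem crel2 (i : Fin m) :
    qm R m (X .x3) * qm R m (X (.xi i)) =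
      qm R m (X .x2) * qm R m (X .x3) +
        (io R m (ugen R m .a) + io R m (ugen R m (.ci i)) + io R m (ugen R m (.cbi i))) *
          (qm R m (X (.xi i)) - io R m (ugen R m (.cbi i))) +
        io R m (ugen R m .cb) - io R m (ugen R m .c) := by
  have := Ideal.Quotient.eq_zero_iff_mem.mpr (Ideal.subset_span
    (show (X .x3 * X (.xi i) -
      (X .x2 * X .x3 + C (ugen R m .a + ugen R m (.ci i) + ugen R m (.cbi i)) *
        (X (.xi i) - C (ugen R m (.cbi i))) +
        C (ugen R m .cb) - C (ugen R m .c)) : MvPolynomial (CVar m) (URing R m)) ∈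
          CRel (URing R m) m (ugen R m) from
      Or.inl (Or.inr ⟨i, rfl⟩)))
  simp only [map_sub, map_add, map_mul, sub_eq_zero] at this
  exact this

theorem crel3 (i j : Fin m) (h : i ≠ j) :
    qm R m (X (.xi i)) * qm R m (X (.xi j)) =
      qm R m (X .x2) * qm R m (X .x3) + io R m (ugen R m (.cij i j h)) * qm R m (X (.xi j)) +
        io R m (ugen R m (.cij j i (Ne.symm h))) * qm R m (X (.xi i)) - io R m (ugen R m .c) := by
  have := Ideal.Quotient.eq_zero_iff_mem.mpr (Ideal.subset_span
    (show (X (.xi i) * X (.xi j) -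
      (X .x2 * X .x3 + C (ugen R m (.cij i j h)) * X (.xi j) +
        C (ugen R m (.cij j i (Ne.symm h))) * X (.xi i) - C (ugen R m .c)) :
          MvPolynomial (CVar m) (URing R m)) ∈ CRel (URing R m) m (ugen R m) from
      Or.inr ⟨⟨(i, j), h⟩, rfl⟩))
  simp only [map_sub, map_add, map_mul, sub_eq_zero] at this
  exact this

noncomputable def fv : CVar m → URing R (m + 1)
  | .x2 => ugen R (m + 1) (.ci (Fin.last m))
  | .x3 => ugen R (m + 1) .a + ugen R (m + 1) (.ci (Fin.last m)) + ugen R (m + 1) (.cbi (Fin.last m))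
  | .xi i => ugen R (m + 1) (.cij i.castSucc (Fin.last m) (Fin.castSucc_lt_last i).ne)

noncomputable def phi0 : MvPolynomial (CVar m) (URing R m) →+* URing R (m + 1) :=
  eval₂Hom (uincl R m : URing R m →+* URing R (m + 1)) (fv R m)

theorem phi0_C (r : URing R m) : phi0 R m (C r) = uincl R m r := by
  simp [phi0]

theorem phi0_X (v : CVar m) : phi0 R m (X v) = fv R m v := by
  simp [phi0]

theorem phi0_rel : ∀ p ∈ Ideal.span (CRel (URing R m) m (ugen R m)), phi0 R m p = 0 := by
  intro p hp
  have hle : Ideal.span (CRel (URing R m) m (ugen R m)) ≤ RingHom.ker (phi0 R m) := by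
    rw [Ideal.span_le]
    intro p hp
    rw [SetLike.mem_coe, RingHom.mem_ker]
    rcases hp with (⟨i, rfl⟩ | ⟨i, rfl⟩) | ⟨⟨⟨i, j⟩, hij⟩, rfl⟩
    · simp only [map_sub, map_add, map_mul, phi0_C, phi0_X, uincl_ugen, fv, UGen.castSucc]
      have h1 := urel1 R (m + 1) i.castSucc (Fin.last m) (Fin.castSucc_lt_last i).ne
      have h2 := urel2 R (m + 1) i.castSucc (Fin.last m) (Fin.castSucc_lt_last i).ne
      linear_combination (ugen R (m + 1) (.ci (Fin.last m))) * h1 - h2
    · simp only [map_sub, map_add, map_mul, phi0_C, phi0_X, uincl_ugen, fv, UGen.castSucc]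
      have h1 := urel1 R (m + 1) i.castSucc (Fin.last m) (Fin.castSucc_lt_last i).ne
      have h2 := urel2 R (m + 1) i.castSucc (Fin.last m) (Fin.castSucc_lt_last i).ne
      have h3 := urel3 R (m + 1) i.castSucc (Fin.last m) (Fin.castSucc_lt_last i).ne
      linear_combination (ugen R (m + 1) (.ci (Fin.last m)) - ugen R (m + 1) (.cbi i.castSucc)) * h1
        - h2 + h3
    · simp only [map_sub, map_add, map_mul, phi0_C, phi0_X, uincl_ugen, fv, UGen.castSucc]
      have hij' : i.castSucc ≠ j.castSucc := fun e => hij (Fin.castSucc_injective _ e)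
      have h4 := urel4 R (m + 1) i.castSucc j.castSucc (Fin.last m) hij'
        (Fin.castSucc_lt_last j).ne (Fin.castSucc_lt_last i).ne
      linear_combination (-1 : URing R (m + 1)) * h4
  exact RingHom.mem_ker.mp (hle hp)

noncomputable def phi : Cn R m →+* URing R (m + 1) :=
  Ideal.Quotient.lift (Ideal.span (CRel (URing R m) m (ugen R m))) (phi0 R m) (phi0_rel R m)

theorem phi_qm (p : MvPolynomial (CVar m) (URing R m)) : phi R m (qm R m p) = phi0 R m p := by
  simp [phi, qm]

noncomputable def gv : UGen (m + 1) → Cn R m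
  | .a => io R m (ugen R m .a)
  | .c => io R m (ugen R m .c)
  | .cb => io R m (ugen R m .cb)
  | .ci i => if h : i = Fin.last m then qm R m (X .x2) else io R m (ugen R m (.ci (i.castPred h)))
  | .cbi i => if h : i = Fin.last m then qm R m (X .x3) - io R m (ugen R m .a) - qm R m (X .x2)
      else io R m (ugen R m (.cbi (i.castPred h)))
  | .cij i j hij =>
      if hi : i = Fin.last m then
        (if hj : j = Fin.last m then 0
          else io R m (ugen R m (.ci (j.castPred hj))) + io R m (ugen R m (.cbi (j.castPred hj))) +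
            qm R m (X .x3) - qm R m (X (.xi (j.castPred hj))))
      else
        (if hj : j = Fin.last m then qm R m (X (.xi (i.castPred hi)))
          else io R m (ugen R m (.cij (i.castPred hi) (j.castPred hj)
            (fun e => hij (Fin.castPred_inj.mp e)))))

theorem gv_ci_cast (i : Fin m) : gv R m (.ci i.castSucc) = io R m (ugen R m (.ci i)) := by
  simp [gv, Fin.castSucc_ne_last]

theorem gv_ci_last : gv R m (.ci (Fin.last m)) = qm R m (X .x2) := by
  simp [gv]

theorem gv_cbi_cast (i : Fin m) : gv R m (.cbi i.castSucc) = io R m (ugen R m (.cbi i)) := by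
  simp [gv, Fin.castSucc_ne_last]

theorem gv_cbi_last : gv R m (.cbi (Fin.last m)) =
    qm R m (X .x3) - io R m (ugen R m .a) - qm R m (X .x2) := by
  simp [gv]

theorem gv_cij_cc (i j : Fin m) (h : i.castSucc ≠ j.castSucc) :
    gv R m (.cij i.castSucc j.castSucc h) =
      io R m (ugen R m (.cij i j (fun e => h (congrArg Fin.castSucc e)))) := by
  simp [gv, Fin.castSucc_ne_last]

theorem gv_cij_cl (i : Fin m) (h : i.castSucc ≠ Fin.last m) :
    gv R m (.cij i.castSucc (Fin.last m) h) = qm R m (X (.xi i)) := by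
  simp [gv, Fin.castSucc_ne_last]

theorem gv_cij_lc (j : Fin m) (h : Fin.last m ≠ j.castSucc) :
    gv R m (.cij (Fin.last m) j.castSucc h) =
      io R m (ugen R m (.ci j)) + io R m (ugen R m (.cbi j)) + qm R m (X .x3) - qm R m (X (.xi j)) := by
  simp [gv, Fin.castSucc_ne_last]

theorem gv_a : gv R m .a = io R m (ugen R m .a) := rfl
theorem gv_c : gv R m .c = io R m (ugen R m .c) := rfl
theorem gv_cb : gv R m .cb = io R m (ugen R m .cb) := rfl

noncomputable def psi0 : MvPolynomial (UGen (m + 1)) R →+* Cn R m :=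
  eval₂Hom ((io R m).comp (algebraMap R (URing R m))) (gv R m)

theorem psi0_X (g : UGen (m + 1)) : psi0 R m (X g) = gv R m g := by
  simp [psi0]

theorem psi0_C (r : R) : psi0 R m (C r) = io R m (algebraMap R (URing R m) r) := by
  simp [psi0]

theorem io1 (i j : Fin m) (h : i ≠ j) :
    io R m (ugen R m (.cij i j h)) + io R m (ugen R m (.cij j i (Ne.symm h))) =
      io R m (ugen R m .a) + io R m (ugen R m (.ci i)) + io R m (ugen R m (.cbi i)) +
        io R m (ugen R m (.ci j)) + io R m (ugen R m (.cbi j)) := by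
  have := congrArg (io R m) (urel1 R m i j h)
  simpa only [map_add] using this

theorem io2 (i j : Fin m) (h : i ≠ j) :
    io R m (ugen R m (.cij j i (Ne.symm h))) * io R m (ugen R m (.ci j)) +
      io R m (ugen R m (.cij i j h)) * io R m (ugen R m (.ci i)) -
      io R m (ugen R m (.ci i)) * io R m (ugen R m (.ci j)) - io R m (ugen R m .c) = 0 := by
  have := congrArg (io R m) (urel2 R m i j h)
  simpa only [map_add, map_sub, map_mul, map_zero] using this

theorem io3 (i j : Fin m) (h : i ≠ j) :
    io R m (ugen R m (.cij j i (Ne.symm h))) * io R m (ugen R m (.cbi i)) +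
      io R m (ugen R m (.cij i j h)) * io R m (ugen R m (.cbi j)) -
      io R m (ugen R m (.cbi i)) * io R m (ugen R m (.cbi j)) - io R m (ugen R m .cb) = 0 := by
  have := congrArg (io R m) (urel3 R m i j h)
  simpa only [map_add, map_sub, map_mul, map_zero] using this

theorem io4 (i j k : Fin m) (hij : i ≠ j) (hjk : j ≠ k) (hik : i ≠ k) :
    io R m (ugen R m (.cij i j hij)) * io R m (ugen R m (.cij j k hjk)) +
      io R m (ugen R m (.cij j i (Ne.symm hij))) * io R m (ugen R m (.cij i k hik)) -
      io R m (ugen R m (.cij i k hik)) * io R m (ugen R m (.cij j k hjk)) +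
      (io R m (ugen R m .a) + io R m (ugen R m (.ci k)) + io R m (ugen R m (.cbi k))) *
        io R m (ugen R m (.ci k)) - io R m (ugen R m .c) = 0 := by
  have := congrArg (io R m) (urel4 R m i j k hij hjk hik)
  simpa only [map_add, map_sub, map_mul, map_zero] using this

theorem keyE (i k : Fin m) (h : i ≠ k) :
    qm R m (X (.xi i)) * (io R m (ugen R m (.ci k)) + io R m (ugen R m (.cbi k)) + qm R m (X .x3) -
        qm R m (X (.xi k))) +
      (io R m (ugen R m (.ci i)) + io R m (ugen R m (.cbi i)) + qm R m (X .x3) - qm R m (X (.xi i))) *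
        io R m (ugen R m (.cij i k h)) -
      io R m (ugen R m (.cij i k h)) * (io R m (ugen R m (.ci k)) + io R m (ugen R m (.cbi k)) +
        qm R m (X .x3) - qm R m (X (.xi k))) +
      (io R m (ugen R m .a) + io R m (ugen R m (.ci k)) + io R m (ugen R m (.cbi k))) *
        io R m (ugen R m (.ci k)) - io R m (ugen R m .c) = 0 := by
  have c2 := crel2 R m i
  have c3 := crel3 R m i k h
  have l1 := io1 R m i k h
  have q1 := io2 R m i k h
  have q2 := io3 R m i k h
  linear_combination c2 - c3 - qm R m (X (.xi i)) * l1 - q2 + q1 +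
    (io R m (ugen R m (.cbi i)) - io R m (ugen R m (.ci k))) * l1

theorem psi0_rel : ∀ p ∈ Ideal.span (URel R (m + 1)), psi0 R m p = 0 := by
  intro p hp
  have hle : Ideal.span (URel R (m + 1)) ≤ RingHom.ker (psi0 R m) := by
    rw [Ideal.span_le]
    intro p hp
    rw [SetLike.mem_coe, RingHom.mem_ker]
    rcases hp with ((⟨⟨⟨i, j⟩, hij⟩, rfl⟩ | ⟨⟨⟨i, j⟩, hij⟩, rfl⟩) | ⟨⟨⟨i, j⟩, hij⟩, rfl⟩) |
      ⟨⟨⟨i, j, k⟩, hij, hjk, hik⟩, rfl⟩
    · rcases Fin.eq_castSucc_or_eq_last i with ⟨i', rfl⟩ | rfl <;>
      rcases Fin.eq_castSucc_or_eq_last j with ⟨j', rfl⟩ | rfl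
      · have hij' : i' ≠ j' := fun e => hij (congrArg Fin.castSucc e)
        simp only [map_sub, map_add, map_mul, psi0_X, gv_ci_cast, gv_ci_last, gv_cbi_cast, gv_cbi_last,
          gv_cij_cc, gv_cij_cl, gv_cij_lc, gv_a, gv_c, gv_cb]
        linear_combination io1 R m i' j' hij'
      · simp only [map_sub, map_add, map_mul, psi0_X, gv_ci_cast, gv_ci_last, gv_cbi_cast, gv_cbi_last,
          gv_cij_cc, gv_cij_cl, gv_cij_lc, gv_a, gv_c, gv_cb]
        ring
      · simp only [map_sub, map_add, map_mul, psi0_X, gv_ci_cast, gv_ci_last, gv_cbi_cast, gv_cbi_last,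
          gv_cij_cc, gv_cij_cl, gv_cij_lc, gv_a, gv_c, gv_cb]
        ring
      · exact absurd rfl hij
    · rcases Fin.eq_castSucc_or_eq_last i with ⟨i', rfl⟩ | rfl <;>
      rcases Fin.eq_castSucc_or_eq_last j with ⟨j', rfl⟩ | rfl
      · have hij' : i' ≠ j' := fun e => hij (congrArg Fin.castSucc e)
        simp only [map_sub, map_add, map_mul, psi0_X, gv_ci_cast, gv_ci_last, gv_cbi_cast, gv_cbi_last,
          gv_cij_cc, gv_cij_cl, gv_cij_lc, gv_a, gv_c, gv_cb]
        linear_combination io2 R m i' j' hij'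
      · simp only [map_sub, map_add, map_mul, psi0_X, gv_ci_cast, gv_ci_last, gv_cbi_cast, gv_cbi_last,
          gv_cij_cc, gv_cij_cl, gv_cij_lc, gv_a, gv_c, gv_cb]
        linear_combination (-1 : Cn R m) * crel1 R m i'
      · simp only [map_sub, map_add, map_mul, psi0_X, gv_ci_cast, gv_ci_last, gv_cbi_cast, gv_cbi_last,
          gv_cij_cc, gv_cij_cl, gv_cij_lc, gv_a, gv_c, gv_cb]
        linear_combination (-1 : Cn R m) * crel1 R m j'
      · exact absurd rfl hij
    · rcases Fin.eq_castSucc_or_eq_last i with ⟨i', rfl⟩ | rfl <;>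
      rcases Fin.eq_castSucc_or_eq_last j with ⟨j', rfl⟩ | rfl
      · have hij' : i' ≠ j' := fun e => hij (congrArg Fin.castSucc e)
        simp only [map_sub, map_add, map_mul, psi0_X, gv_ci_cast, gv_ci_last, gv_cbi_cast, gv_cbi_last,
          gv_cij_cc, gv_cij_cl, gv_cij_lc, gv_a, gv_c, gv_cb]
        linear_combination io3 R m i' j' hij'
      · simp only [map_sub, map_add, map_mul, psi0_X, gv_ci_cast, gv_ci_last, gv_cbi_cast, gv_cbi_last,
          gv_cij_cc, gv_cij_cl, gv_cij_lc, gv_a, gv_c, gv_cb]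
        linear_combination crel2 R m i' - crel1 R m i'
      · simp only [map_sub, map_add, map_mul, psi0_X, gv_ci_cast, gv_ci_last, gv_cbi_cast, gv_cbi_last,
          gv_cij_cc, gv_cij_cl, gv_cij_lc, gv_a, gv_c, gv_cb]
        linear_combination crel2 R m j' - crel1 R m j'
      · exact absurd rfl hij
    · rcases Fin.eq_castSucc_or_eq_last i with ⟨i', rfl⟩ | rfl <;>
      rcases Fin.eq_castSucc_or_eq_last j with ⟨j', rfl⟩ | rfl <;>
      rcases Fin.eq_castSucc_or_eq_last k with ⟨k', rfl⟩ | rfl
      · have hij' : i' ≠ j' := fun e => hij (congrArg Fin.castSucc e)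
        have hjk' : j' ≠ k' := fun e => hjk (congrArg Fin.castSucc e)
        have hik' : i' ≠ k' := fun e => hik (congrArg Fin.castSucc e)
        simp only [map_sub, map_add, map_mul, psi0_X, gv_ci_cast, gv_ci_last, gv_cbi_cast, gv_cbi_last,
          gv_cij_cc, gv_cij_cl, gv_cij_lc, gv_a, gv_c, gv_cb]
        linear_combination io4 R m i' j' k' hij' hjk' hik'
      · have hij' : i' ≠ j' := fun e => hij (congrArg Fin.castSucc e)
        simp only [map_sub, map_add, map_mul, psi0_X, gv_ci_cast, gv_ci_last, gv_cbi_cast, gv_cbi_last,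
          gv_cij_cc, gv_cij_cl, gv_cij_lc, gv_a, gv_c, gv_cb]
        linear_combination (-1 : Cn R m) * crel3 R m i' j' hij'
      · have hik' : i' ≠ k' := fun e => hik (congrArg Fin.castSucc e)
        simp only [map_sub, map_add, map_mul, psi0_X, gv_ci_cast, gv_ci_last, gv_cbi_cast, gv_cbi_last,
          gv_cij_cc, gv_cij_cl, gv_cij_lc, gv_a, gv_c, gv_cb]
        linear_combination keyE R m i' k' hik'
      · exact absurd rfl hjk
      · have hjk' : j' ≠ k' := fun e => hjk (congrArg Fin.castSucc e)
        simp only [map_sub, map_add, map_mul, psi0_X, gv_ci_cast, gv_ci_last, gv_cbi_cast, gv_cbi_last,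
          gv_cij_cc, gv_cij_cl, gv_cij_lc, gv_a, gv_c, gv_cb]
        linear_combination keyE R m j' k' hjk'
      · exact absurd rfl hik
      · exact absurd rfl hij
      · exact absurd rfl hij
  exact RingHom.mem_ker.mp (hle hp)

noncomputable def psi : URing R (m + 1) →+* Cn R m :=
  Ideal.Quotient.lift (Ideal.span (URel R (m + 1))) (psi0 R m) (psi0_rel R m)

theorem psi_ugen (g : UGen (m + 1)) : psi R m (ugen R (m + 1) g) = gv R m g := by
  simp [psi, ugen, psi0_X]

theorem psi_uincl : (psi R m).comp (uincl R m : URing R m →+* URing R (m + 1)) = io R m := by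
  apply Ideal.Quotient.ringHom_ext
  apply MvPolynomial.ringHom_ext
  · intro r
    have h1 : (Ideal.Quotient.mk (Ideal.span (URel R m))) (C r) = algebraMap R (URing R m) r := rfl
    have h2 : (Ideal.Quotient.mk (Ideal.span (URel R (m + 1)))) (C r) =
        algebraMap R (URing R (m + 1)) r := rfl
    simp only [RingHom.comp_apply, h1]
    rw [show (uincl R m : URing R m →+* URing R (m + 1)) (algebraMap R (URing R m) r) =
      algebraMap R (URing R (m + 1)) r from AlgHom.commutes (uincl R m) r]
    rw [← h2]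
    show psi R m (Ideal.Quotient.mk _ (C r)) = _
    simp only [psi, Ideal.Quotient.lift_mk, psi0_C]
  · intro g
    simp only [RingHom.comp_apply]
    have : (Ideal.Quotient.mk (Ideal.span (URel R m))) (X g) = ugen R m g := rfl
    rw [this]
    show psi R m (uincl R m (ugen R m g)) = _
    rw [uincl_ugen, psi_ugen]
    cases g <;> simp [UGen.castSucc, gv_a, gv_c, gv_cb, gv_ci_cast, gv_cbi_cast, gv_cij_cc]

theorem psi_phi : (psi R m).comp (phi R m) = RingHom.id _ := by
  apply Ideal.Quotient.ringHom_ext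
  apply MvPolynomial.ringHom_ext
  · intro r
    have := congrArg (fun f => f r) (psi_uincl R m)
    simp only [RingHom.comp_apply] at this
    simp only [RingHom.comp_apply, RingHom.id_apply]
    show psi R m (phi R m (qm R m (C r))) = _
    rw [phi_qm, phi0_C]
    exact this
  · intro v
    simp only [RingHom.comp_apply, RingHom.id_apply]
    show psi R m (phi R m (qm R m (X v))) = qm R m (X v)
    rw [phi_qm, phi0_X]
    cases v with
    | x2 => simp only [fv, psi_ugen, gv_ci_last]
    | x3 =>
      simp only [fv, map_add, psi_ugen, gv_ci_last, gv_cbi_last, gv_a]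
      ring
    | xi i => simp only [fv, psi_ugen, gv_cij_cl]

theorem phi_io (r : URing R m) : phi R m (io R m r) = uincl R m r := by
  show phi R m (qm R m (C r)) = _
  rw [phi_qm, phi0_C]

theorem phi_psi : (phi R m).comp (psi R m) = RingHom.id _ := by
  apply Ideal.Quotient.ringHom_ext
  apply MvPolynomial.ringHom_ext
  · intro r
    simp only [RingHom.comp_apply, RingHom.id_apply]
    show phi R m (psi R m (Ideal.Quotient.mk _ (C r))) = _
    simp only [psi, Ideal.Quotient.lift_mk, psi0_C, phi_io]
    exact AlgHom.commutes (uincl R m) r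
  · intro g
    simp only [RingHom.comp_apply, RingHom.id_apply]
    show phi R m (psi R m (ugen R (m + 1) g)) = ugen R (m + 1) g
    rw [psi_ugen]
    cases g with
    | a => rw [gv_a, phi_io, uincl_ugen]; rfl
    | c => rw [gv_c, phi_io, uincl_ugen]; rfl
    | cb => rw [gv_cb, phi_io, uincl_ugen]; rfl
    | ci i =>
      rcases Fin.eq_castSucc_or_eq_last i with ⟨i', rfl⟩ | rfl
      · rw [gv_ci_cast, phi_io, uincl_ugen]; rfl
      · rw [gv_ci_last, phi_qm, phi0_X]; rfl
    | cbi i =>
      rcases Fin.eq_castSucc_or_eq_last i with ⟨i', rfl⟩ | rfl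
      · rw [gv_cbi_cast, phi_io, uincl_ugen]; rfl
      · rw [gv_cbi_last]
        simp only [map_sub, phi_qm, phi0_X, phi_io, uincl_ugen, fv, UGen.castSucc]
        ring
    | cij i j hij =>
      rcases Fin.eq_castSucc_or_eq_last i with ⟨i', rfl⟩ | rfl <;>
      rcases Fin.eq_castSucc_or_eq_last j with ⟨j', rfl⟩ | rfl
      · rw [gv_cij_cc, phi_io, uincl_ugen]; rfl
      · rw [gv_cij_cl, phi_qm, phi0_X]; rfl
      · rw [gv_cij_lc]
        simp only [map_sub, map_add, phi_qm, phi0_X, phi_io, uincl_ugen, fv, UGen.castSucc]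
        have h1 := urel1 R (m + 1) j'.castSucc (Fin.last m) (Fin.castSucc_lt_last j').ne
        linear_combination (-1 : URing R (m + 1)) * h1
      · exact absurd rfl hij

end

/-- Let R be a commutative ring and m ≥ 1, so that n = m + 3 ≥ 4. Consider the projection U_{n+1} → U_n
forgetting the coordinates c_{n+1}, c̄_{n+1}, c_{i,n+1}, c_{n+1,i}, i.e. the ring map O(U_n) →
O(U_{n+1}) sending each generator to the generator with the same indices, and the affine curve C_n →
U_n, i.e. the curve algebra over O(U_n) whose constants a, c, c̄, c_i, c̄_i, c_{ij} are the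
generators of O(U_n) themselves. Then x_2 ↦ c_{n+1}, x_3 ↦ a + c_{n+1} + c̄_{n+1}, x_i ↦ c_{i,n+1}
defines an isomorphism O(C_n) ≅ O(U_{n+1}) over O(U_n): there is a ring isomorphism with these
values on the variables whose composite with the structure map O(U_n) → O(C_n) is the projection's
ring map. -/
theorem result (R : Type u) [CommRing R] (m : ℕ) (hm : 1 ≤ m) :
    ∃ e : CurveAlg (URing R m) m (ugen R m) ≃+* URing R (m + 1),
      (∀ r : URing R m, e (algebraMap (URing R m) (CurveAlg (URing R m) m (ugen R m)) r) = uincl R m r) ∧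
      e (Ideal.Quotient.mk (Ideal.span (CRel (URing R m) m (ugen R m))) (MvPolynomial.X CVar.x2)) =
        ugen R (m + 1) (UGen.ci (Fin.last m)) ∧
      e (Ideal.Quotient.mk (Ideal.span (CRel (URing R m) m (ugen R m))) (MvPolynomial.X CVar.x3)) =
        ugen R (m + 1) UGen.a + ugen R (m + 1) (UGen.ci (Fin.last m)) + ugen R (m + 1) (UGen.cbi (Fin.last m)) ∧
      ∀ i : Fin m, e (Ideal.Quotient.mk (Ideal.span (CRel (URing R m) m (ugen R m))) (MvPolynomial.X (CVar.xi i))) =
        ugen R (m + 1) (UGen.cij i.castSucc (Fin.last m) (Fin.castSucc_lt_last i).ne) := by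
  refine ⟨RingEquiv.ofRingHom (phi R m) (psi R m) (phi_psi R m) (psi_phi R m), ?_, ?_, ?_, ?_⟩
  · intro r
    exact phi_io R m r
  · exact (phi_qm R m _).trans (phi0_X R m _)
  · exact (phi_qm R m _).trans (phi0_X R m _)
  · intro i
    exact (phi_qm R m _).trans (phi0_X R m _)

end Groth.Agent.S18252
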