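import Groth.Statements.S2173
import Mathlib.Tactic
import Mathlib.Data.ZMod.Basic
import Groth.Agent.S2174

set_option autoImplicit false
open Finset
open Models Models.NumericalType

namespace Groth.Agent.S2173

/-- For a numerical type the sum over i of m i * a i i is even; equivalently the rational number 1 + sum
m_i (w_i (g_i - 1) - a_ii / 2) defining the genus is an integer. -/
theorem result {n : ℕ} (T : Models.NumericalType n) : (2 : ℤ) ∣ ∑ i, T.m i * T.a i i := by
  classical
  let F : Fin n × Fin n → ZMod 2 := fun p => ((T.m p.1 * T.a p.1 p.2 * T.m p.2 : ℤ) : ZMod 2)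
  have htotal : ∑ p ∈ (univ : Finset (Fin n)) ×ˢ (univ : Finset (Fin n)), F p = 0 := by
    rw [Finset.sum_product]
    have : ∀ i : Fin n, ∑ j, F (i, j) = 0 := by
      intro i
      simp only [F]
      rw [← Int.cast_sum]
      have h1 : ∑ j, T.m i * T.a i j * T.m j = T.m i * ∑ j, T.a i j * T.m j := by
        rw [Finset.mul_sum]; exact Finset.sum_congr rfl fun j _ => by ring
      rw [h1, Groth.Agent.S2174.row_eq, mul_zero, Int.cast_zero]
    exact Finset.sum_eq_zero fun i _ => this i
  have hoff : ∑ p ∈ (univ : Finset (Fin n)).offDiag, F p = 0 := by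
    refine Finset.sum_involution (fun p _ => p.swap) ?_ ?_ ?_ ?_
    · intro p _
      simp only [F, Prod.fst_swap, Prod.snd_swap]
      have hs : T.a p.2 p.1 = T.a p.1 p.2 := congrFun (congrFun T.symm p.1) p.2
      rw [hs, ← Int.cast_add]
      have : T.m p.1 * T.a p.1 p.2 * T.m p.2 + T.m p.2 * T.a p.1 p.2 * T.m p.1 =
          2 * (T.m p.1 * T.a p.1 p.2 * T.m p.2) := by ring
      rw [this, Int.cast_mul]
      have h2 : ((2 : ℤ) : ZMod 2) = 0 := by decide
      rw [h2, zero_mul]
    · intro p hp _ h
      rw [Finset.mem_offDiag] at hp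
      apply hp.2.2
      have := congrArg Prod.fst h
      simpa using this.symm
    · intro p hp
      rw [Finset.mem_offDiag] at hp ⊢
      exact ⟨hp.2.1, hp.1, fun h => hp.2.2 h.symm⟩
    · intro p _
      exact Prod.swap_swap p
  rw [← Finset.diag_union_offDiag, Finset.sum_union (Finset.disjoint_diag_offDiag _), hoff, add_zero,
    Finset.sum_diag] at htotal
  have hsq : ∀ x : ZMod 2, x * x = x := by decide
  have hfinal : ((∑ i, T.m i * T.a i i : ℤ) : ZMod 2) = 0 := by
    rw [Int.cast_sum, ← htotal]
    refine Finset.sum_congr rfl fun i _ => ?_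
    simp only [F]
    push_cast
    have := hsq (T.m i : ZMod 2)
    calc (T.m i : ZMod 2) * (T.a i i : ZMod 2)
        = ((T.m i : ZMod 2) * (T.m i : ZMod 2)) * (T.a i i : ZMod 2) := by rw [this]
      _ = (T.m i : ZMod 2) * (T.a i i : ZMod 2) * (T.m i : ZMod 2) := by ring
  exact_mod_cast (ZMod.intCast_zmod_eq_zero_iff_dvd _ 2).mp hfinal

end Groth.Agent.S2173
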