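import Groth.Statements.S2176
import Mathlib.Tactic
import Groth.Agent.S2173
import Groth.Agent.S2174

set_option autoImplicit false
open Finset
open Models Models.NumericalType

namespace Groth.Agent.S2176

theorem term_nonneg {n : ℕ} (T : Models.NumericalType n) (hmin : T.IsMinimal) (hn : 1 < n) (i : Fin n) :
    0 ≤ 2 * T.w i * (T.g i - 1) - T.a i i := by
  have hneg := Groth.Agent.S2174.result T hn i
  obtain ⟨c, hc⟩ := T.w_dvd i i
  have hw := T.w_pos i
  have hg := T.g_nonneg i
  have hcneg : c < 0 := by
    by_contra h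
    push Not at h
    have := mul_nonneg hw.le h
    rw [← hc] at this
    linarith
  rcases eq_or_lt_of_le hg with hg0 | hgpos
  · have hc2 : c ≤ -2 := by
      by_contra h
      push Not at h
      have hc1 : c = -1 := by omega
      apply hmin i
      refine ⟨hg0.symm, ?_⟩
      rw [hc, hc1]; ring
    rw [← hg0, hc]
    nlinarith
  · have : 0 ≤ 2 * T.w i * (T.g i - 1) := by
      have h1 : 0 ≤ T.g i - 1 := by omega
      positivity
    linarith

/-- A minimal numerical type (no (-1)-index) with n > 1 indices has genus at least 1. -/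
theorem result {n : ℕ} (T : Models.NumericalType n) (hmin : T.IsMinimal) (hn : 1 < n) : 1 ≤ T.genus := by
  unfold Models.NumericalType.genus
  obtain ⟨e, he⟩ := Groth.Agent.S2173.result T
  rw [he, Int.mul_ediv_cancel_left e (by norm_num : (2 : ℤ) ≠ 0)]
  have hsum : 0 ≤ ∑ i, T.m i * (2 * T.w i * (T.g i - 1) - T.a i i) :=
    Finset.sum_nonneg fun i _ => mul_nonneg (T.m_pos i).le (term_nonneg T hmin hn i)
  have hexpand : ∑ i, T.m i * (2 * T.w i * (T.g i - 1) - T.a i i) =
      2 * (∑ i, T.m i * T.w i * (T.g i - 1)) - ∑ i, T.m i * T.a i i := by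
    rw [Finset.mul_sum, ← Finset.sum_sub_distrib]
    exact Finset.sum_congr rfl fun i _ => by ring
  rw [hexpand, he] at hsum
  linarith

end Groth.Agent.S2176
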