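import Groth.Statements.S18747
-- import your own Groth.Agent.* helpers here
import Groth.Agent.Lib.Helper33.IdealSigma

set_option autoImplicit false
universe u
open CategoryTheory CategoryTheory.Limits AlgebraicGeometry TopologicalSpace
open ModPair

namespace Groth.Agent.S18747

open Groth.Agent.Lib.Helper33.IdealSigma AlgebraicGeometry.Scheme.IdealSheafData

theorem isEffCartier_glue {σ : Type u} (g : σ → Scheme.{u}) (K : ∀ i, (g i).IdealSheafData)
    (hK : ∀ i, BlowUp.IsEffCartierIdeal (K i)) : BlowUp.IsEffCartierIdeal (glue g K) := by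
  intro x
  obtain ⟨i, y, rfl⟩ := exists_sigmaι_eq g x
  obtain ⟨W, hyW, f, hf, hI⟩ := hK i y
  have hbij := ConcreteCategory.bijective_of_isIso ((Sigma.ι g i).appIso W.1).inv
  have hbij' := ConcreteCategory.bijective_of_isIso ((Sigma.ι g i).appIso W.1).hom
  refine ⟨⟨Sigma.ι g i ''ᵁ W.1, W.2.image_of_isOpenImmersion _⟩, ⟨y, hyW, rfl⟩,
    ((Sigma.ι g i).appIso W.1).inv f, ?_, ?_⟩
  · refine mem_nonZeroDivisors_of_injective (f := ((Sigma.ι g i).appIso W.1).hom.hom) hbij'.1 ?_
    have : ((Sigma.ι g i).appIso W.1).hom.hom (((Sigma.ι g i).appIso W.1).inv f) = f :=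
      Iso.inv_hom_id_apply _ _
    rw [this]
    exact hf
  · have h := ideal_comap_of_isOpenImmersion (glue g K) (Sigma.ι g i) W
    rw [comap_glue, hI] at h
    have h2 := congrArg (Ideal.map ((Sigma.ι g i).appIso W.1).inv.hom) h
    rw [Ideal.map_comap_of_surjective _ hbij.2, Ideal.map_span, Set.image_singleton] at h2
    exact h2.symm

/-- The coproduct pair. -/
noncomputable def sigmaPair {σ : Type u} (P : σ → Pair.{u}) : Pair.{u} where
  total := ∐ fun i => (P i).total
  mod := glue _ fun i => (P i).mod
  isEffCartier := isEffCartier_glue _ _ fun i => (P i).isEffCartier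

theorem inj_cond {σ : Type u} (P : σ → Pair.{u}) (i : σ) :
    (P i).mod ≤ (glue (fun i => (P i).total) fun i => (P i).mod).comap
      (Sigma.ι (fun i => (P i).total) i) :=
  (comap_glue (fun i => (P i).total) (fun i => (P i).mod) i).ge

theorem desc_cond {σ : Type u} (P : σ → Pair.{u}) (Q : Pair.{u}) (f : ∀ i, P i ⟶ Q) :
    glue (fun i => (P i).total) (fun i => (P i).mod) ≤
      Q.mod.comap (Sigma.desc fun i => (f i).hom) := by
  refine glue_le _ fun i => ?_
  rw [← comap_comp, Sigma.ι_desc]
  exact (f i).cond

noncomputable def sigmaInj {σ : Type u} (P : σ → Pair.{u}) (i : σ) : P i ⟶ sigmaPair P :=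
  ⟨Sigma.ι (fun i => (P i).total) i, inj_cond P i⟩

noncomputable def sigmaDesc {σ : Type u} (P : σ → Pair.{u}) (Q : Pair.{u}) (f : ∀ i, P i ⟶ Q) :
    sigmaPair P ⟶ Q :=
  ⟨Sigma.desc fun i => (f i).hom, desc_cond P Q f⟩

noncomputable def sigmaCofan {σ : Type u} (P : σ → Pair.{u}) : Cofan P :=
  Cofan.mk (sigmaPair P) (sigmaInj P)

noncomputable def sigmaCofanIsColimit {σ : Type u} (P : σ → Pair.{u}) : IsColimit (sigmaCofan P) :=
  Cofan.IsColimit.mk _
    (fun s => sigmaDesc P s.pt s.inj)
    (fun s i => by
      apply Pair.Hom.ext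
      exact Sigma.ι_desc _ _)
    (fun s m hm => by
      apply Pair.Hom.ext
      refine Sigma.hom_ext _ _ fun i => ?_
      have := congrArg Pair.Hom.hom (hm i)
      change Sigma.ι (fun i => (P i).total) i ≫ m.hom = _ at this
      rw [this]
      exact (Sigma.ι_desc (fun i => (s.inj i).hom) i).symm)


/-- The category of modulus pairs and ambient morphisms admits coproducts (indexed by any type in the
universe of the schemes involved), and the total-space functor to schemes preserves them: the
coproduct of a family (X_i, I_i) is the disjoint union of the X_i with the modulus restricting to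
I_i on each summand. (The published statement adds that the total-space functor detects coproducts;
read as reflection of coproducts this fails, since the identity of a scheme X is an ambient morphism
from (X, I) to (X, unit ideal) whose image is trivially a coproduct of the one-member family while
(X, unit ideal) is not the coproduct of (X, I) when I is not the unit ideal; only existence and
preservation are stated.) -/
theorem result (σ : Type u) :
    HasColimitsOfShape (Discrete σ) ModPair.Pair.{u} ∧
      PreservesColimitsOfShape (Discrete σ) ModPair.Pair.forget.{u} := by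
  have hpres : ∀ P : σ → Pair.{u}, PreservesColimit (Discrete.functor P) Pair.forget := fun P =>
    preservesColimit_of_preserves_colimit_cocone (sigmaCofanIsColimit P)
      ((isColimitMapCoconeCofanMkEquiv Pair.forget P (sigmaInj P)).symm
        (coproductIsCoproduct fun i => (P i).total))
  refine ⟨⟨fun F => ?_⟩, ⟨fun {F} => ?_⟩⟩
  · have : HasColimit (Discrete.functor (F.obj ∘ Discrete.mk)) :=
      ⟨⟨⟨_, sigmaCofanIsColimit _⟩⟩⟩
    exact hasColimit_of_iso Discrete.natIsoFunctor
  · have := hpres (F.obj ∘ Discrete.mk)
    exact preservesColimit_of_iso_diagram _ Discrete.natIsoFunctor.symm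

end Groth.Agent.S18747
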