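import Groth.Statements.S18748
-- import your own Groth.Agent.* helpers here
import Groth.Agent.S18747
import Groth.Agent.Lib.Helper33.LocCoprod

set_option autoImplicit false
universe u
open CategoryTheory CategoryTheory.Limits AlgebraicGeometry TopologicalSpace
open ModPair

namespace Groth.Agent.S18748

open Groth.Agent.Lib.Helper33.IdealSigma AlgebraicGeometry.Scheme.IdealSheafData
open Groth.Agent.S18747

theorem interior_comap {X Y : Scheme.{u}} (J : Y.IdealSheafData) (g : X ⟶ Y) :
    ModPair.interior (J.comap g) = g ⁻¹ᵁ ModPair.interior J := by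
  ext x
  simp only [ModPair.interior, support_comap]
  rfl

theorem iso_minimal {P Q : Pair.{u}} (e : P ≅ Q) : P.mod = Q.mod.comap e.hom.hom := by
  apply le_antisymm e.hom.cond
  have h : Q.mod ≤ P.mod.comap e.inv.hom := e.inv.cond
  have h2 : Q.mod.comap e.hom.hom ≤ (P.mod.comap e.inv.hom).comap e.hom.hom :=
    comap_mono e.hom.hom h
  rw [← comap_comp] at h2
  have h3 : e.hom.hom ≫ e.inv.hom = 𝟙 _ := congrArg Pair.Hom.hom e.hom_inv_id
  rw [h3, comap_id] at h2
  exact h2

instance isIso_forget {P Q : Pair.{u}} (f : P ⟶ Q) [IsIso f] : IsIso f.hom :=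
  inferInstanceAs (IsIso (Pair.forget.map f))

theorem admBlowup_of_isIso {P Q : Pair.{u}} (f : P ⟶ Q) [IsIso f] : Pair.admBlowup f := by
  refine ⟨iso_minimal (asIso f), inferInstance, inferInstance⟩

theorem admBlowup_comp {P Q R : Pair.{u}} (f : P ⟶ Q) (g : Q ⟶ R) (hf : Pair.admBlowup f)
    (hg : Pair.admBlowup g) : Pair.admBlowup (f ≫ g) := by
  obtain ⟨hf1, hf2, hf3⟩ := hf
  obtain ⟨hg1, hg2, hg3⟩ := hg
  refine ⟨?_, ?_, ?_⟩
  · change P.mod = R.mod.comap (f.hom ≫ g.hom)
    rw [comap_comp]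
    rw [← show Q.mod = R.mod.comap g.hom from hg1]
    exact hf1
  · change IsProper (f.hom ≫ g.hom)
    infer_instance
  · change IsIso ((f.hom ≫ g.hom) ∣_ ModPair.interior R.mod)
    rw [morphismRestrict_comp]
    have : IsIso (f.hom ∣_ g.hom ⁻¹ᵁ ModPair.interior R.mod) := by
      rw [← interior_comap, ← show Q.mod = R.mod.comap g.hom from hg1]
      exact hf3
    have hg3' : IsIso (g.hom ∣_ ModPair.interior R.mod) := hg3
    exact @IsIso.comp_isIso _ _ _ _ _ _ _ this hg3' 

instance : (Pair.admBlowup.{u}).ContainsIdentities := ⟨fun P => admBlowup_of_isIso (𝟙 P)⟩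

instance : (Pair.admBlowup.{u}).IsStableUnderComposition :=
  ⟨fun f g hf hg => admBlowup_comp f g hf hg⟩

instance : (Pair.admBlowup.{u}).RespectsIso :=
  MorphismProperty.respectsIso_of_isStableUnderComposition
    (fun _ _ f (hf : IsIso f) => admBlowup_of_isIso f)

section BCIso

variable {A B V V' A' : Scheme.{u}}

/-- The base change of `g` along `j` is an isomorphism. -/
def BCIso (g : A ⟶ B) (j : V ⟶ B) : Prop := IsIso (pullback.snd g j)

theorem bcIso_iff_of_isPullback {g : A ⟶ B} {j : V ⟶ B} {a : A' ⟶ A} {g' : A' ⟶ V}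
    (h : IsPullback a g' g j) : BCIso g j ↔ IsIso g' := by
  have : g' = h.isoPullback.hom ≫ pullback.snd g j := by simp
  unfold BCIso
  constructor
  · intro _; rw [this]; infer_instance
  · intro _
    have : pullback.snd g j = h.isoPullback.inv ≫ g' := by simp
    rw [this]; infer_instance

theorem bcIso_comp_iff {g : A ⟶ B} {b : V ⟶ B} {a : A' ⟶ A} {g' : A' ⟶ V}
    (h : IsPullback a g' g b) (k : V' ⟶ V) : BCIso g (k ≫ b) ↔ BCIso g' k := by
  have h2 : IsPullback (pullback.fst g' k ≫ a) (pullback.snd g' k) g (k ≫ b) :=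
    (IsPullback.of_hasPullback g' k).paste_horiz h
  exact bcIso_iff_of_isPullback h2

theorem BCIso.comp {g : A ⟶ B} {j : V ⟶ B} (h : BCIso g j) (k : V' ⟶ V) : BCIso g (k ≫ j) := by
  rw [bcIso_comp_iff (IsPullback.of_hasPullback g j) k]
  have : IsIso (pullback.snd g j) := h
  unfold BCIso
  infer_instance

theorem bcIso_of_openCover {g : A ⟶ B} {j : V ⟶ B} (𝒰 : V.OpenCover)
    (H : ∀ i, BCIso g (𝒰.f i ≫ j)) : BCIso g j := by
  unfold BCIso
  change MorphismProperty.isomorphisms Scheme.{u} (pullback.snd g j)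
  refine IsZariskiLocalAtTarget.of_openCover (P := MorphismProperty.isomorphisms Scheme.{u}) 𝒰
    fun i => ?_
  exact (bcIso_comp_iff (IsPullback.of_hasPullback g j) (𝒰.f i)).mp (H i)

theorem bcIso_ι_iff (g : A ⟶ B) (U : B.Opens) : BCIso g U.ι ↔ IsIso (g ∣_ U) :=
  bcIso_iff_of_isPullback (isPullback_morphismRestrict g U).flip

end BCIso

section Geo

variable {σ : Type u} [Finite σ] (X Y : σ → Scheme.{u}) (f : ∀ i, X i ⟶ Y i)

theorem isPullback_sigma (i : σ) :
    IsPullback (Sigma.ι X i) (f i) (Limits.Sigma.map f) (Sigma.ι Y i) := by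
  have hvk := FinitaryExtensive.isVanKampen_finiteCoproducts
    (colimit.isColimit (Discrete.functor Y))
  have := (hvk (colimit.cocone (Discrete.functor X)) (Discrete.natTrans fun i => f i.as)
    (Limits.Sigma.map f) (by ext ⟨j⟩; simp)
    (NatTrans.equifibered_of_discrete _)).mp ⟨colimit.isColimit _⟩ ⟨i⟩
  exact this

variable (I : ∀ i, (X i).IdealSheafData) (J : ∀ i, (Y i).IdealSheafData)

omit [Finite σ] in
theorem minimal_sigma (h : ∀ i, I i = (J i).comap (f i)) :
    glue X I = (glue Y J).comap (Limits.Sigma.map f) := by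
  apply le_antisymm
  · refine glue_le X fun i => ?_
    rw [← comap_comp, Sigma.ι_map, comap_comp, comap_glue, h i]
  · refine le_of_comap_le (Sigma.ι X) (exists_sigmaι_eq X) fun i => ?_
    rw [← comap_comp, Sigma.ι_map, comap_comp, comap_glue, comap_glue, h i]

theorem isProper_sigma [∀ i, IsProper (f i)] : IsProper (Limits.Sigma.map f) := by
  refine IsZariskiLocalAtTarget.of_openCover (P := @IsProper) (sigmaOpenCover Y) fun i => ?_
  have h := isPullback_sigma X Y f i
  have : pullback.snd (Limits.Sigma.map f) (Sigma.ι Y i) = h.isoPullback.inv ≫ f i := by simp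
  change IsProper (pullback.snd (Limits.Sigma.map f) (Sigma.ι Y i))
  rw [this]; infer_instance

theorem isIso_sigma_restrict (h : ∀ i, IsIso (f i ∣_ ModPair.interior (J i))) :
    IsIso (Limits.Sigma.map f ∣_ ModPair.interior (glue Y J)) := by
  rw [← bcIso_ι_iff]
  set U := ModPair.interior (glue Y J) with hU
  refine bcIso_of_openCover ((sigmaOpenCover Y).pullback₁ U.ι) fun i => ?_
  change BCIso _ (pullback.fst U.ι (Sigma.ι Y i) ≫ U.ι)
  rw [pullback.condition, bcIso_comp_iff (isPullback_sigma X Y f i)]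
  have hr : Set.range (pullback.snd U.ι (Sigma.ι Y i)) ⊆
      Set.range (ModPair.interior (J i)).ι := by
    rintro _ ⟨x, rfl⟩
    rw [Scheme.Opens.range_ι]
    have hx : Sigma.ι Y i (pullback.snd U.ι (Sigma.ι Y i) x) ∈ U := by
      rw [← Scheme.Hom.comp_apply, ← pullback.condition, Scheme.Hom.comp_apply]
      exact (pullback.fst U.ι (Sigma.ι Y i) x).2
    have := interior_comap (glue Y J) (Sigma.ι Y i)
    rw [comap_glue] at this
    rw [this]
    exact hx
  have : pullback.snd U.ι (Sigma.ι Y i) =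
      IsOpenImmersion.lift (ModPair.interior (J i)).ι _ hr ≫ (ModPair.interior (J i)).ι :=
    (IsOpenImmersion.lift_fac _ _ hr).symm
  rw [this]
  exact ((bcIso_ι_iff _ _).mpr (h i)).comp _

end Geo

section PairLevel

variable {σ : Type u} [Finite σ] (P Q : σ → Pair.{u}) (f : ∀ i, P i ⟶ Q i)

/-- The explicit coproduct map. -/
noncomputable def sigmaMap : sigmaPair P ⟶ sigmaPair Q :=
  sigmaDesc P (sigmaPair Q) fun i => f i ≫ sigmaInj Q i

omit [Finite σ] in
theorem sigmaInj_sigmaMap (i : σ) : sigmaInj P i ≫ sigmaMap P Q f = f i ≫ sigmaInj Q i := by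
  apply Pair.Hom.ext
  exact Sigma.ι_desc _ _

omit [Finite σ] in
theorem sigmaMap_hom : ((sigmaMap P Q f).hom :
    (∐ fun i => (P i).total) ⟶ ∐ fun i => (Q i).total) = Limits.Sigma.map fun i => (f i).hom := by
  refine Sigma.hom_ext _ _ fun i => ?_
  have h1 : Sigma.ι (fun i => (P i).total) i ≫ (sigmaMap P Q f).hom =
      (f i).hom ≫ Sigma.ι (fun i => (Q i).total) i :=
    Sigma.ι_desc (fun i => (f i).hom ≫ Sigma.ι (fun i => (Q i).total) i) i
  have h2 : Sigma.ι (fun i => (P i).total) i ≫ Limits.Sigma.map (fun i => (f i).hom) =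
      (f i).hom ≫ Sigma.ι (fun i => (Q i).total) i := Sigma.ι_map (fun i => (f i).hom) i
  exact h1.trans h2.symm

theorem admBlowup_sigmaMap (h : ∀ i, Pair.admBlowup (f i)) :
    Pair.admBlowup (sigmaMap P Q f) := by
  change IsAdmBlowup _ _ (sigmaMap P Q f).hom
  rw [sigmaMap_hom]
  have : ∀ i, IsProper (f i).hom := fun i => (h i).2.1
  exact ⟨minimal_sigma _ _ _ _ _ fun i => (h i).1, isProper_sigma _ _ _,
    isIso_sigma_restrict _ _ _ _ fun i => (h i).2.2⟩

end PairLevel

section WP

/-- explicit colimit cocone over `Discrete WalkingPair`. -/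
noncomputable def wpCocone (X : Discrete WalkingPair ⥤ Pair.{u}) : Cocone X where
  pt := sigmaPair (fun i : ULift.{u} WalkingPair => X.obj ⟨i.down⟩)
  ι := Discrete.natTrans fun j =>
    sigmaInj (fun i : ULift.{u} WalkingPair => X.obj ⟨i.down⟩) ⟨j.as⟩

theorem wpCocone_ι (X : Discrete WalkingPair ⥤ Pair.{u}) (j : Discrete WalkingPair) :
    (wpCocone X).ι.app j =
      sigmaInj (fun i : ULift.{u} WalkingPair => X.obj ⟨i.down⟩) (ULift.up j.as) := rfl

noncomputable def wpCoconeIsColimit (X : Discrete WalkingPair ⥤ Pair.{u}) :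
    IsColimit (wpCocone X) where
  desc s := (sigmaCofanIsColimit (fun i : ULift.{u} WalkingPair => X.obj ⟨i.down⟩)).desc
    (Cofan.mk s.pt fun i => s.ι.app ⟨i.down⟩)
  fac s j := (sigmaCofanIsColimit (fun i : ULift.{u} WalkingPair => X.obj ⟨i.down⟩)).fac
    (Cofan.mk s.pt fun i => s.ι.app ⟨i.down⟩) ⟨ULift.up j.as⟩
  uniq s m hm := (sigmaCofanIsColimit (fun i : ULift.{u} WalkingPair => X.obj ⟨i.down⟩)).uniq
    (Cofan.mk s.pt fun i => s.ι.app ⟨i.down⟩) m (fun i => hm ⟨i.as.down⟩)

instance : (Pair.admBlowup.{u}).IsStableUnderCoproductsOfShape WalkingPair where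
  condition X₁ X₂ c₁ c₂ hc₁ hc₂ f hf α hα := by
    let e₁ := hc₁.coconePointUniqueUpToIso (wpCoconeIsColimit X₁)
    let e₂ := hc₂.coconePointUniqueUpToIso (wpCoconeIsColimit X₂)
    have key : α = e₁.hom ≫ sigmaMap _ _ (fun i : ULift.{u} WalkingPair => f.app ⟨i.down⟩) ≫
        e₂.inv := by
      refine hc₁.hom_ext ?_
      rintro ⟨j⟩
      rw [hα, IsColimit.comp_coconePointUniqueUpToIso_hom_assoc]
      have h1 := sigmaInj_sigmaMap (fun i : ULift.{u} WalkingPair => X₁.obj ⟨i.down⟩)
        (fun i : ULift.{u} WalkingPair => X₂.obj ⟨i.down⟩)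
        (fun i : ULift.{u} WalkingPair => f.app ⟨i.down⟩) (ULift.up j)
      have h2 := IsColimit.comp_coconePointUniqueUpToIso_inv hc₂ (wpCoconeIsColimit X₂) ⟨j⟩
      calc f.app ⟨j⟩ ≫ c₂.ι.app ⟨j⟩
          = f.app ⟨j⟩ ≫ ((wpCocone X₂).ι.app ⟨j⟩ ≫ e₂.inv) := by rw [h2]
        _ = (f.app ⟨j⟩ ≫ sigmaInj (fun i : ULift.{u} WalkingPair => X₂.obj ⟨i.down⟩)
              (ULift.up j)) ≫ e₂.inv := (Category.assoc _ _ _).symm
        _ = (sigmaInj (fun i : ULift.{u} WalkingPair => X₁.obj ⟨i.down⟩) (ULift.up j) ≫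
              sigmaMap _ _ (fun i : ULift.{u} WalkingPair => f.app ⟨i.down⟩)) ≫ e₂.inv := by
            rw [h1]
        _ = _ := Category.assoc _ _ _
    rw [key]
    refine (MorphismProperty.cancel_left_of_respectsIso _ e₁.hom _).mpr
      ((MorphismProperty.cancel_right_of_respectsIso _ _ e₂.inv).mpr ?_)
    exact admBlowup_sigmaMap _ _ _ fun i => hf (Discrete.mk i.down)

end WP


/-- The localization of the category of modulus pairs and ambient morphisms at the class of abstract
admissible blow-ups has binary coproducts, and the localization functor carries the coproduct of two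
modulus pairs (the disjoint union of the total spaces with the disjoint union of the moduli) to a
coproduct. (The source also states that the interior functor detects these coproducts; that part is
not included.) -/
theorem result :
    HasBinaryCoproducts (ModPair.Pair.admBlowup.{u}).Localization ∧
      PreservesColimitsOfShape (Discrete WalkingPair) (ModPair.Pair.admBlowup.{u}).Q := by
  have : HasCoproductsOfShape WalkingPair Pair.{u} :=
    ⟨fun F => ⟨⟨⟨wpCocone F, wpCoconeIsColimit F⟩⟩⟩⟩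
  exact ⟨Groth.Agent.Lib.Helper33.LocCoprod.hasCoproductsOfShape (Pair.admBlowup.{u}).Q
      Pair.admBlowup WalkingPair,
    Groth.Agent.Lib.Helper33.LocCoprod.preservesCoproductsOfShape (Pair.admBlowup.{u}).Q
      Pair.admBlowup WalkingPair⟩

end Groth.Agent.S18748
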