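import Groth.Statements.S18738
-- import your own Groth.Agent.* helpers here
import Groth.Agent.S18748
import Groth.Agent.S18732
import Groth.Agent.Lib.Helper82.EffCartierCompl

set_option autoImplicit false
universe u
open CategoryTheory CategoryTheory.Limits AlgebraicGeometry TopologicalSpace
open ModPair

namespace Groth.Agent.S18738

open Groth.Agent.S18748 AlgebraicGeometry.Scheme.IdealSheafData

section Image

variable {U P : Scheme.{u}} (j : U ⟶ P) [QuasiCompact j]

/-- For quasi-compact `j`, the map to the scheme-theoretic image is scheme-theoretically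
dominant. -/
theorem isSchemeTheoreticallyDominant_toImage : IsSchemeTheoreticallyDominant j.toImage := by
  constructor
  refine Scheme.IdealSheafData.ext_of_iSup_eq_top
    (fun V : P.affineOpens => ⟨j.imageι ⁻¹ᵁ V.1, V.2.preimage j.imageι⟩) ?_ ?_
  · rw [eq_top_iff]
    intro x _
    obtain ⟨_, ⟨V, hV, rfl⟩, hxV, -⟩ :=
      P.isBasis_affineOpens.exists_subset_of_mem_open (Set.mem_univ (j.imageι x)) isOpen_univ
    exact Opens.mem_iSup.mpr ⟨⟨V, hV⟩, hxV⟩
  · intro V
    rw [Scheme.Hom.ker_apply, Scheme.IdealSheafData.ideal_bot]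
    simp only [Pi.bot_apply]
    exact (RingHom.injective_iff_ker_eq_bot _).mp (j.toImage_app_injective V)

end Image

section General

variable {X Y Z W : Scheme.{u}}

/-- If `τ ≫ ι` is scheme-theoretically dominant then so is `ι`. -/
theorem isSchemeTheoreticallyDominant_of_comp (τ : W ⟶ X) (ι : X ⟶ Y)
    [IsSchemeTheoreticallyDominant (τ ≫ ι)] : IsSchemeTheoreticallyDominant ι := by
  constructor
  have h1 : (τ ≫ ι).ker = ⊥ := Scheme.Hom.ker_eq_bot _
  rw [Scheme.Hom.ker_comp] at h1
  rw [← le_bot_iff, ← h1, ← Scheme.IdealSheafData.map_bot]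
  exact Scheme.IdealSheafData.map_mono ι bot_le

/-- A closed immersion admitting a section over an open `U` of the target restricts to an
isomorphism over `U`. -/
theorem isIso_morphismRestrict_of_section (c : X ⟶ Y) [IsClosedImmersion c] (U : Y.Opens)
    (τ : (U : Scheme.{u}) ⟶ X) (hτ : τ ≫ c = U.ι) : IsIso (c ∣_ U) := by
  have hr : Set.range τ ⊆ Set.range (c ⁻¹ᵁ U).ι := by
    rintro _ ⟨u, rfl⟩
    rw [Scheme.Opens.range_ι]
    change c (τ u) ∈ U
    rw [← Scheme.Hom.comp_apply, hτ]
    exact u.2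
  let σ : (U : Scheme.{u}) ⟶ (c ⁻¹ᵁ U : Scheme.{u}) := IsOpenImmersion.lift (c ⁻¹ᵁ U).ι τ hr
  have hσ : σ ≫ (c ⁻¹ᵁ U).ι = τ := IsOpenImmersion.lift_fac _ _ hr
  have h1 : σ ≫ (c ∣_ U) = 𝟙 _ := by
    rw [← cancel_mono U.ι, Category.assoc, morphismRestrict_ι, ← Category.assoc, hσ, hτ,
      Category.id_comp]
  have : IsClosedImmersion (c ∣_ U) := IsZariskiLocalAtTarget.restrict ‹_› U
  have h2 : (c ∣_ U) ≫ σ = 𝟙 _ := by
    rw [← cancel_mono (c ∣_ U), Category.assoc, h1, Category.comp_id, Category.id_comp]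
  exact ⟨σ, h2, h1⟩

/-- Two morphisms over a separated `s` that agree after a scheme-theoretically dominant `ι`
are equal. -/
theorem ext_of_isSchemeTheoreticallyDominant_of_isSeparated {f g : X ⟶ Y}
    (s : Y ⟶ Z) [IsSeparated s] (h : f ≫ s = g ≫ s)
    (ι : W ⟶ X) [IsSchemeTheoreticallyDominant ι] (hU : ι ≫ f = ι ≫ g) : f = g := by
  let X' : Over Z := Over.mk (f ≫ s)
  let Y' : Over Z := Over.mk s
  let U' : Over Z := Over.mk (ι ≫ f ≫ s)
  let f' : X' ⟶ Y' := Over.homMk f
  let g' : X' ⟶ Y' := Over.homMk g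
  let ι' : U' ⟶ X' := Over.homMk ι
  have : IsSeparated Y'.hom := ‹_›
  have hlift : ι' ≫ f' = ι' ≫ g' := by ext1; exact hU
  have hfac : (equalizer.lift ι' hlift).left ≫ (equalizer.ι f' g').left = ι := by
    rw [← Over.comp_left, equalizer.lift_ι]; rfl
  have : IsSchemeTheoreticallyDominant
      ((equalizer.lift ι' hlift).left ≫ (equalizer.ι f' g').left) := by rw [hfac]; infer_instance
  have hdom := isSchemeTheoreticallyDominant_of_comp (equalizer.lift ι' hlift).left
    (equalizer.ι f' g').left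
  have : IsIso (equalizer.ι f' g').left :=
    IsClosedImmersion.isIso_iff_ker_eq_bot.mpr (Scheme.Hom.ker_eq_bot _)
  rw [← cancel_epi (equalizer.ι f' g').left]
  exact congr($(equalizer.condition f' g').left)

end General

section Pairs

/-- ambient morphisms map the interior into the interior -/
theorem apply_mem_interior {P Q : Pair.{u}} (f : P ⟶ Q) {x : P.total}
    (hx : x ∈ ModPair.interior P.mod) : f.hom x ∈ ModPair.interior Q.mod := by
  have h := f.cond
  change x ∉ P.mod.support at hx
  change f.hom x ∉ Q.mod.support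
  intro hfx
  apply hx
  have h2 : x ∈ (Q.mod.comap f.hom).support := by
    rw [support_comap]; exact hfx
  exact Scheme.IdealSheafData.support_antitone h h2

theorem quasiCompact_interior_ι (P : Pair.{u}) : QuasiCompact (ModPair.interior P.mod).ι := by
  have : IsAffineHom (ModPair.interior P.mod).ι :=
    Groth.Agent.Lib.Helper82.isAffineHom_ι_compl_support P.mod P.isEffCartier
  infer_instance

theorem ext_of_admBlowup {X Y Z : Pair.{u}} (f₁ f₂ : X ⟶ Y) (s : Y ⟶ Z) (hs : Pair.admBlowup s)
    (h : f₁ ≫ s = f₂ ≫ s) : f₁ = f₂ := by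
  obtain ⟨hs1, hs2, hs3⟩ := hs
  have hs3' : IsIso (s.hom ∣_ ModPair.interior Z.mod) := hs3
  apply Pair.Hom.ext
  have h' : f₁.hom ≫ s.hom = f₂.hom ≫ s.hom := congrArg Pair.Hom.hom h
  have : IsSchemeTheoreticallyDominant (ModPair.interior X.mod).ι :=
    Groth.Agent.Lib.Helper82.isSchemeTheoreticallyDominant_ι_compl_support X.mod X.isEffCartier
  have : IsSeparated s.hom := by have := hs2; infer_instance
  refine ext_of_isSchemeTheoreticallyDominant_of_isSeparated s.hom h'
    (ModPair.interior X.mod).ι ?_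
  have hr : ∀ f : X ⟶ Y, Set.range ((ModPair.interior X.mod).ι ≫ f.hom) ⊆
      Set.range (s.hom ⁻¹ᵁ ModPair.interior Z.mod).ι := by
    intro f
    rintro _ ⟨x, rfl⟩
    rw [Scheme.Opens.range_ι]
    exact apply_mem_interior (f ≫ s) x.2
  have hl : ∀ f : X ⟶ Y, IsOpenImmersion.lift (s.hom ⁻¹ᵁ ModPair.interior Z.mod).ι
      ((ModPair.interior X.mod).ι ≫ f.hom) (hr f) ≫ (s.hom ∣_ ModPair.interior Z.mod) ≫
        (ModPair.interior Z.mod).ι = (ModPair.interior X.mod).ι ≫ f.hom ≫ s.hom := by
    intro f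
    rw [morphismRestrict_ι, ← Category.assoc, IsOpenImmersion.lift_fac, Category.assoc]
  have heq : IsOpenImmersion.lift (s.hom ⁻¹ᵁ ModPair.interior Z.mod).ι
      ((ModPair.interior X.mod).ι ≫ f₁.hom) (hr f₁) =
      IsOpenImmersion.lift (s.hom ⁻¹ᵁ ModPair.interior Z.mod).ι
      ((ModPair.interior X.mod).ι ≫ f₂.hom) (hr f₂) := by
    rw [← cancel_mono (s.hom ∣_ ModPair.interior Z.mod), ← cancel_mono (ModPair.interior Z.mod).ι,
      Category.assoc, Category.assoc, hl f₁, hl f₂, h']
  calc (ModPair.interior X.mod).ι ≫ f₁.hom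
      = IsOpenImmersion.lift (s.hom ⁻¹ᵁ ModPair.interior Z.mod).ι
          ((ModPair.interior X.mod).ι ≫ f₁.hom) (hr f₁) ≫
          (s.hom ⁻¹ᵁ ModPair.interior Z.mod).ι := (IsOpenImmersion.lift_fac _ _ _).symm
    _ = _ := by rw [heq, IsOpenImmersion.lift_fac]

section Ore

variable {X Y Z : Pair.{u}} (f : X ⟶ Z) (s : Y ⟶ Z)

/-- The open of the fibre product lying over the interior of `X`. -/
noncomputable def oreU : (pullback f.hom s.hom).Opens :=
  pullback.fst f.hom s.hom ⁻¹ᵁ ModPair.interior X.mod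

instance quasiCompact_oreU_ι : QuasiCompact (oreU f s).ι := by
  have : IsAffineHom (ModPair.interior X.mod).ι :=
    Groth.Agent.Lib.Helper82.isAffineHom_ι_compl_support X.mod X.isEffCartier
  have : IsAffineHom (oreU f s).ι :=
    MorphismProperty.of_isPullback
      (isPullback_morphismRestrict (pullback.fst f.hom s.hom) (ModPair.interior X.mod))
      inferInstance
  infer_instance

/-- The total space of the completed square: the closure of the interior in the fibre product. -/
noncomputable def oreX : Scheme.{u} := (oreU f s).ι.image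

/-- the closed immersion into the fibre product -/
noncomputable def oreC : oreX f s ⟶ pullback f.hom s.hom := (oreU f s).ι.imageι

instance : IsClosedImmersion (oreC f s) :=
  inferInstanceAs (IsClosedImmersion (oreU f s).ι.ker.subschemeι)

/-- the dominant map from the interior part -/
noncomputable def oreTau : (oreU f s : Scheme.{u}) ⟶ oreX f s := (oreU f s).ι.toImage

theorem oreTau_oreC : oreTau f s ≫ oreC f s = (oreU f s).ι := Scheme.Hom.toImage_imageι _

instance : IsSchemeTheoreticallyDominant (oreTau f s) :=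
  isSchemeTheoreticallyDominant_toImage (oreU f s).ι

noncomputable def oreT : oreX f s ⟶ X.total := oreC f s ≫ pullback.fst f.hom s.hom

noncomputable def oreQ : oreX f s ⟶ Y.total := oreC f s ≫ pullback.snd f.hom s.hom

theorem oreT_comp : oreT f s ≫ f.hom = oreQ f s ≫ s.hom := by
  simp only [oreT, oreQ, Category.assoc, pullback.condition]

theorem oreT_preimage :
    oreT f s ⁻¹ᵁ ModPair.interior X.mod = oreC f s ⁻¹ᵁ oreU f s := rfl

theorem isSchemeTheoreticallyDominant_ore :
    IsSchemeTheoreticallyDominant (oreT f s ⁻¹ᵁ ModPair.interior X.mod).ι := by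
  rw [oreT_preimage]
  have hr : Set.range (oreTau f s) ⊆ Set.range (oreC f s ⁻¹ᵁ oreU f s).ι := by
    rintro _ ⟨u, rfl⟩
    rw [Scheme.Opens.range_ι]
    change oreC f s (oreTau f s u) ∈ oreU f s
    rw [← Scheme.Hom.comp_apply, oreTau_oreC]
    exact u.2
  have hfac := IsOpenImmersion.lift_fac (oreC f s ⁻¹ᵁ oreU f s).ι (oreTau f s) hr
  have : IsSchemeTheoreticallyDominant
      (IsOpenImmersion.lift (oreC f s ⁻¹ᵁ oreU f s).ι (oreTau f s) hr ≫
        (oreC f s ⁻¹ᵁ oreU f s).ι) := by rw [hfac]; infer_instance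
  exact isSchemeTheoreticallyDominant_of_comp
    (IsOpenImmersion.lift (oreC f s ⁻¹ᵁ oreU f s).ι (oreTau f s) hr) (oreC f s ⁻¹ᵁ oreU f s).ι

theorem isEffCartier_ore : BlowUp.IsEffCartierIdeal (X.mod.comap (oreT f s)) :=
  have := isSchemeTheoreticallyDominant_ore f s
  (Groth.Agent.S18732.result X.mod X.isEffCartier (oreT f s)).2

/-- The completed pair. -/
noncomputable def orePair : Pair.{u} where
  total := oreX f s
  mod := X.mod.comap (oreT f s)
  isEffCartier := isEffCartier_ore f s

noncomputable def oreTHom : orePair f s ⟶ X := ⟨oreT f s, le_refl _⟩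

theorem oreQ_cond (hs1 : Y.mod = Z.mod.comap s.hom) :
    X.mod.comap (oreT f s) ≤ Y.mod.comap (oreQ f s) :=
  calc X.mod.comap (oreT f s) ≤ (Z.mod.comap f.hom).comap (oreT f s) := comap_mono _ f.cond
    _ = Z.mod.comap (oreT f s ≫ f.hom) := (comap_comp _ _ _).symm
    _ = Z.mod.comap (oreQ f s ≫ s.hom) := by rw [oreT_comp]
    _ = (Z.mod.comap s.hom).comap (oreQ f s) := comap_comp _ _ _
    _ = Y.mod.comap (oreQ f s) := by rw [← hs1]

noncomputable def oreQHom (hs : Pair.admBlowup s) : orePair f s ⟶ Y :=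
  ⟨oreQ f s, oreQ_cond f s hs.1⟩

theorem oreTHom_comp (hs : Pair.admBlowup s) : oreTHom f s ≫ f = oreQHom f s hs ≫ s :=
  Pair.Hom.ext (oreT_comp f s)

theorem isIso_fst_restrict (hs3 : IsIso (s.hom ∣_ ModPair.interior Z.mod)) :
    IsIso (pullback.fst f.hom s.hom ∣_ ModPair.interior X.mod) := by
  rw [← bcIso_ι_iff, ← bcIso_comp_iff (IsPullback.of_hasPullback f.hom s.hom).flip]
  have hr : Set.range ((ModPair.interior X.mod).ι ≫ f.hom) ⊆
      Set.range (ModPair.interior Z.mod).ι := by
    rintro _ ⟨x, rfl⟩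
    rw [Scheme.Opens.range_ι]
    exact apply_mem_interior f x.2
  rw [← IsOpenImmersion.lift_fac (ModPair.interior Z.mod).ι _ hr]
  exact ((bcIso_ι_iff _ _).mpr hs3).comp _

theorem admBlowup_oreTHom (hs : Pair.admBlowup s) : Pair.admBlowup (oreTHom f s) := by
  obtain ⟨hs1, hs2, hs3⟩ := hs
  have hs2' : IsProper s.hom := hs2
  have hs3' : IsIso (s.hom ∣_ ModPair.interior Z.mod) := hs3
  refine ⟨rfl, ?_, ?_⟩
  · change IsProper (oreC f s ≫ pullback.fst f.hom s.hom)
    infer_instance
  · change IsIso ((oreC f s ≫ pullback.fst f.hom s.hom) ∣_ ModPair.interior X.mod)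
    rw [morphismRestrict_comp]
    have h1 : IsIso (oreC f s ∣_ oreU f s) :=
      isIso_morphismRestrict_of_section _ _ (oreTau f s) (oreTau_oreC f s)
    have h2 := isIso_fst_restrict f s hs3'
    exact @IsIso.comp_isIso _ _ _ _ _ _ _ h1 h2

end Ore

end Pairs


/-- In the category of modulus pairs and ambient morphisms, the class Σ of abstract admissible blow-ups
(minimal, proper, an isomorphism over the interior of the target) admits a calculus of right
fractions: it contains the identities and is stable under composition; every pair X' ⟶ X ⟵ Y with X'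
⟶ X in Σ can be completed to a commutative square with a morphism Y' ⟶ Y in Σ; and two ambient
morphisms f, g : X ⟶ Y equalized by some Y ⟶ Z in Σ are equalized by some X' ⟶ X in Σ. -/
theorem result :
    (ModPair.Pair.admBlowup.{u}).HasRightCalculusOfFractions := by
  refine { exists_rightFraction := ?_, ext := ?_ }
  · intro X Y φ
    exact ⟨⟨oreTHom φ.f φ.s, admBlowup_oreTHom φ.f φ.s φ.hs, oreQHom φ.f φ.s φ.hs⟩,
      oreTHom_comp φ.f φ.s φ.hs⟩
  · intro X Y Z f₁ f₂ s hs h
    exact ⟨X, 𝟙 X, MorphismProperty.id_mem _ X, by rw [ext_of_admBlowup f₁ f₂ s hs h]⟩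

end Groth.Agent.S18738
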