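import Groth.Statements.S7665
import Groth.Agent.Lib.Helper63.SemilocalGlueN

set_option autoImplicit false
universe u
open CategoryTheory CategoryTheory.Limits AlgebraicGeometry
open Variety

namespace Groth.Agent.S7665

open Groth.Agent.Lib.Helper63.SemilocalGlue2 Groth.Agent.Lib.Helper63.SemilocalGlueN

/-- Let K be a field and A_1, …, A_r ⊆ K (r ≥ 1) Noetherian semi-local rings of dimension one with
fraction field K, and assume A_i and A_j generate K as a ring whenever i ≠ j. Then A = A_1 ∩ … ∩ A_r
is a Noetherian semi-local domain of dimension one with fraction field K contained in every A_i,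
each Spec A_i → Spec A is an open immersion, Spec A is the union of their images, and every closed
point of Spec A belongs to the image of exactly one Spec A_i. (The published statement asserts only
that some such subring A exists; this row takes A to be the intersection A_1 ∩ … ∩ A_r.) -/
theorem result (K : Type u) [Field K] (r : ℕ) (hr : 1 ≤ r)
    (A : Fin r → Subring K) [∀ i, IsNoetherianRing (A i)] [∀ i, IsFractionRing (A i) K]
    (hdim : ∀ i, ringKrullDim (A i) = 1) (hsl : ∀ i, Finite (MaximalSpectrum (A i)))
    (hgen : ∀ i j, i ≠ j → A i ⊔ A j = ⊤) :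
    IsNoetherianRing ↥(⨅ i, A i) ∧ ringKrullDim ↥(⨅ i, A i) = 1 ∧ Finite (MaximalSpectrum ↥(⨅ i, A i)) ∧
      IsFractionRing ↥(⨅ i, A i) K ∧
      (∀ i, IsOpenImmersion (Spec.map (CommRingCat.ofHom (Subring.inclusion (iInf_le A i))))) ∧
      (⋃ i, Set.range (Spec.map (CommRingCat.ofHom (Subring.inclusion (iInf_le A i)))).base) = Set.univ ∧
      (∀ m : PrimeSpectrum ↥(⨅ i, A i), m.asIdeal.IsMaximal →
        ∃! i, m ∈ Set.range (Spec.map (CommRingCat.ofHom (Subring.inclusion (iInf_le A i)))).base) := by
  have hne : Nonempty (Fin r) := ⟨⟨0, hr⟩⟩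
  have hK1 : ∀ i, Ring.KrullDimLE 1 (A i) := fun i => Ring.krullDimLE_iff.mpr (hdim i).le
  have hnf : ∀ i, ¬ IsField (A i) := fun i h => by
    have h0 := ringKrullDim_eq_zero_of_isField h
    rw [hdim i] at h0
    exact one_ne_zero h0
  obtain ⟨e, he1, he0, herad, hsum⟩ := exists_partition_of_unity A hK1 hnf hsl hgen
  exact ⟨isNoetherianRing_iInf A e he1 he0 herad hsum inferInstance,
    ringKrullDim_iInf A e he1 he0 herad hsum hnf,
    finite_maximalSpectrum_iInf A e he1 he0 herad hsum hnf hsl,
    isFractionRing_iInf A e he1 he0 herad,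
    fun i => isOpenImmersion_iInf A e he1 he0 herad i,
    iUnion_range_iInf A e he1 he0 herad hsum,
    fun m hm => existsUnique_range_iInf A e he1 he0 herad hsum hnf m hm⟩

end Groth.Agent.S7665
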