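import Groth.Statements.S7662
import Mathlib
import Groth.Agent.Lib.Helper7.AffineAvoid

set_option autoImplicit false
set_option linter.style.haveILetI false
universe u
open CategoryTheory CategoryTheory.Limits AlgebraicGeometry
open Variety

namespace Groth.Agent.S7662


open Groth.Agent.Lib.Helper7.AffineAvoid Scheme IdealSheafData in


/-- Let X be a scheme with finitely many irreducible components Z_1, …, Z_t and T ⊆ X a finite set of
points such that, for each i, some affine open of Z_i with its reduced closed subscheme structure
contains the points of T on Z_i. Then some affine open of X contains every point of T. -/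
theorem result (X : Scheme.{u})
    (hX : (irreducibleComponents (X : Type u)).Finite) (T : Finset X)
    (h : ∀ (Z : Set X) (hZ : Z ∈ irreducibleComponents (X : Type u)),
      ∃ V : (Scheme.IdealSheafData.vanishingIdeal
          (⟨Z, isClosed_of_mem_irreducibleComponents Z hZ⟩ : TopologicalSpace.Closeds X)).subscheme.Opens,
        IsAffineOpen V ∧ ∀ t ∈ T, t ∈ Z → t ∈ (Scheme.IdealSheafData.vanishingIdeal
          (⟨Z, isClosed_of_mem_irreducibleComponents Z hZ⟩ : TopologicalSpace.Closeds X)).subschemeι.base '' (V : Set _)) :
    ∃ U : X.Opens, IsAffineOpen U ∧ ∀ t ∈ T, t ∈ U := by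
  classical
  haveI : Finite (irreducibleComponents (X : Type u)) := hX.to_subtype
  haveI := Fintype.ofFinite (irreducibleComponents (X : Type u))
  let J : irreducibleComponents (X : Type u) → X.IdealSheafData := fun Z =>
    vanishingIdeal ⟨Z.1, isClosed_of_mem_irreducibleComponents Z.1 Z.2⟩
  have hgood : ∀ Z, Good (T : Set X) (J Z) := by
    intro Z
    obtain ⟨V, hV, hVT⟩ := h Z.1 Z.2
    refine ⟨V, hV, fun z hz => ?_⟩
    have hzZ : (J Z).subschemeι z ∈ Z.1 := by
      have : (J Z).subschemeι z ∈ ((J Z).support : Set X) := by
        rw [← range_subschemeι]; exact ⟨z, rfl⟩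
      rw [coe_support_vanishingIdeal] at this
      exact this
    obtain ⟨z', hz'V, e⟩ := hVT _ hz hzZ
    have hinj : Function.Injective (J Z).subschemeι :=
      (J Z).subschemeι.isClosedEmbedding.injective
    exact hinj e ▸ hz'V
  have hG := good_finset_inf (T : Set X) T.finite_toSet J Finset.univ (fun Z _ => hgood Z)
  obtain ⟨U, hU, hTU⟩ := exists_affineOpen_of_good (T : Set X) _ (by
    intro x
    obtain ⟨Z, hZ, hxZ⟩ := exists_mem_irreducibleComponents_subset_of_isIrreducible
      ({x} : Set X) isIrreducible_singleton
    have h1 : (J ⟨Z, hZ⟩).support ≤ (Finset.univ.inf J).support :=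
      support_antitone (Finset.inf_le (Finset.mem_univ _))
    apply h1
    change x ∈ ((J ⟨Z, hZ⟩).support : Set X)
    rw [coe_support_vanishingIdeal]
    exact hxZ rfl) hG
  exact ⟨U, hU, fun t ht => hTU t ht⟩

end Groth.Agent.S7662
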