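import Groth.Statements.S11000
import Mathlib.FieldTheory.LinearDisjoint
import Mathlib.FieldTheory.PrimitiveElement
import Mathlib.FieldTheory.IsAlgClosed.AlgebraicClosure
import Mathlib.RingTheory.Polynomial.IsIntegral
import Mathlib.RingTheory.PowerBasis
-- import your own Groth.Agent.* helpers here

set_option autoImplicit false
universe u v
open FunFld

namespace Groth.Agent.S11000

open Polynomial in
theorem natDegree_minpoly_eq {k : Type u} {K : Type v} [Field k] [Field K] [Algebra k K]
    (hcl : ∀ y : K, IsAlgebraic k y → y ∈ Set.range (algebraMap k K))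
    {Ω : Type*} [Field Ω] [Algebra k Ω] [Algebra K Ω] [IsScalarTower k K Ω]
    (a : Ω) (ha : IsIntegral k a) :
    (minpoly K a).natDegree = (minpoly k a).natDegree := by
  have haK : IsIntegral K a := ha.tower_top
  have hdvd : minpoly K a ∣ (minpoly k a).map (algebraMap k K) :=
    minpoly.dvd_map_of_isScalarTower k K a
  have hcoeff : ∀ i, (minpoly K a).coeff i ∈ Set.range (algebraMap k K) := fun i =>
    hcl _ (isIntegral_coeff_of_dvd (minpoly k a) (minpoly K a) (minpoly.monic ha)
      (minpoly.monic haK) hdvd i).isAlgebraic
  have hlift : minpoly K a ∈ Polynomial.lifts (algebraMap k K) :=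
    (Polynomial.lifts_iff_coeff_lifts _).mpr hcoeff
  obtain ⟨q, hq, hqdeg, hqmonic⟩ :=
    Polynomial.lifts_and_natDegree_eq_and_monic hlift (minpoly.monic haK)
  have hqa : aeval a q = 0 := by
    rw [← aeval_map_algebraMap K, hq, minpoly.aeval]
  have h1 : (minpoly k a).natDegree ≤ q.natDegree :=
    natDegree_le_of_dvd (minpoly.dvd k a hqa) hqmonic.ne_zero
  have h2 : (minpoly K a).natDegree ≤ ((minpoly k a).map (algebraMap k K)).natDegree :=
    natDegree_le_of_dvd hdvd ((minpoly.monic ha).map _).ne_zero
  rw [natDegree_map] at h2
  omega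


/-- Over a perfect ground field every function field of one variable is geometric (`k' ⊗_k K` is a field
for all finite `k'/k`). -/
theorem result (k : Type u) (K : Type v) [Field k] [Field K] [Algebra k K] [PerfectField k]
    (hK : FunFld.IsFunctionField k K) : FunFld.IsGeometric k K := by
  intro k' _ _ hfin
  have hsep : Algebra.IsSeparable k k' := Algebra.IsAlgebraic.isSeparable_of_perfectField
  let Ω := AlgebraicClosure K
  let fa : k' →ₐ[k] Ω := IsAlgClosed.lift
  let A : IntermediateField k Ω := fa.fieldRange
  let e : k' ≃ₐ[k] A := AlgEquiv.ofInjectiveField fa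
  let pb := Field.powerBasisOfFiniteOfSeparable k k'
  set a : Ω := fa pb.gen with ha
  have haint : IsIntegral k a := (Algebra.IsIntegral.isIntegral pb.gen).map fa
  have hdeg : (minpoly K a).natDegree = pb.dim := by
    rw [natDegree_minpoly_eq hK.2 a haint, ha, minpoly.algHom_eq fa fa.injective,
      pb.natDegree_minpoly]
  have hli : LinearIndependent K (fun i : Fin pb.dim => a ^ (i : ℕ)) := by
    have h0 := linearIndependent_pow (K := K) a
    have h1 := h0.comp (Fin.cast hdeg.symm) (Fin.cast_injective _)
    exact h1
  have hdisj : A.LinearDisjoint K := by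
    refine IntermediateField.LinearDisjoint.of_basis_left (pb.basis.map e.toLinearEquiv) ?_
    convert hli using 1
    ext i
    simp only [Function.comp_apply, Module.Basis.map_apply, PowerBasis.coe_basis,
      AlgEquiv.toLinearEquiv_apply, map_pow, IntermediateField.coe_val, e, ha]
    rfl
  have hA : IsField (TensorProduct k A K) :=
    hdisj.isField_of_isAlgebraic (Or.inl (e.isAlgebraic_iff.mp inferInstance))
  exact (Algebra.TensorProduct.congr e AlgEquiv.refl).toMulEquiv.isField hA

end Groth.Agent.S11000
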