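import Groth.Statements.S11006
import Mathlib.RingTheory.TensorProduct.Maps
import Mathlib.RingTheory.TensorProduct.Finite
import Mathlib.LinearAlgebra.Dimension.Constructions
import Mathlib.RingTheory.AdjoinRoot
import Mathlib.FieldTheory.Minpoly.Field
import Mathlib.LinearAlgebra.FiniteDimensional.Lemmas
-- import your own Groth.Agent.* helpers here

set_option autoImplicit false
universe u v
open FunFld

namespace Groth.Agent.S11006

open TensorProduct

section

variable (k k' : Type u) (K K' : Type v) [Field k] [Field k'] [Field K] [Field K']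
    [Algebra k k'] [Algebra k K] [Algebra K K'] [Algebra k' K'] [Algebra k K']
    [IsScalarTower k k' K'] [IsScalarTower k K K']

noncomputable def psi : k' ⊗[k] K →ₐ[k'] K' :=
  Algebra.TensorProduct.productLeftAlgHom (Algebra.ofId k' K') (IsScalarTower.toAlgHom k K K')

theorem psi_bijective
    (h : Function.Bijective (Algebra.TensorProduct.productMap
      (IsScalarTower.toAlgHom k k' K') (IsScalarTower.toAlgHom k K K'))) :
    Function.Bijective (psi k k' K K') := by
  have : ⇑(psi k k' K K') = ⇑(Algebra.TensorProduct.productMap
      (IsScalarTower.toAlgHom k k' K') (IsScalarTower.toAlgHom k K K')) := by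
    funext t
    induction t using TensorProduct.induction_on with
    | zero => simp
    | tmul a b => simp [psi, Algebra.ofId_apply]
    | add x y hx hy => simp [hx, hy]
  rw [this]
  exact h

theorem isGeometric_part [FiniteDimensional k k']
    (h : Function.Bijective (Algebra.TensorProduct.productMap
      (IsScalarTower.toAlgHom k k' K') (IsScalarTower.toAlgHom k K K')))
    (hg : FunFld.IsGeometric k K) : FunFld.IsGeometric k' K' := by
  intro k'' _ _ hfin
  let _ : Algebra k k'' := ((algebraMap k' k'').comp (algebraMap k k')).toAlgebra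
  have : IsScalarTower k k' k'' := IsScalarTower.of_algebraMap_eq (fun _ => rfl)
  have : FiniteDimensional k k'' := FiniteDimensional.trans k k' k''
  have hf : IsField (k'' ⊗[k] K) := hg k'' inferInstance
  let e₁ : k' ⊗[k] K ≃ₐ[k'] K' := AlgEquiv.ofBijective (psi k k' K K') (psi_bijective k k' K K' h)
  let e₂ : k'' ⊗[k'] K' ≃ₐ[k''] k'' ⊗[k'] (k' ⊗[k] K) :=
    Algebra.TensorProduct.congr AlgEquiv.refl e₁.symm
  let e₃ : k'' ⊗[k'] (k' ⊗[k] K) ≃ₐ[k''] k'' ⊗[k] K :=
    Algebra.TensorProduct.cancelBaseChange k k' k'' k'' K
  exact (e₂.trans e₃).toMulEquiv.isField hf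

noncomputable def psiK : K ⊗[k] k' →ₐ[K] K' :=
  Algebra.TensorProduct.productLeftAlgHom (Algebra.ofId K K') (IsScalarTower.toAlgHom k k' K')

theorem psiK_bijective
    (h : Function.Bijective (Algebra.TensorProduct.productMap
      (IsScalarTower.toAlgHom k k' K') (IsScalarTower.toAlgHom k K K'))) :
    Function.Bijective (psiK k k' K K') := by
  have : ⇑(psiK k k' K K') = ⇑(Algebra.TensorProduct.productMap
      (IsScalarTower.toAlgHom k k' K') (IsScalarTower.toAlgHom k K K')) ∘
      ⇑(Algebra.TensorProduct.comm k K k') := by
    funext t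
    induction t using TensorProduct.induction_on with
    | zero => simp
    | tmul a b => simp [psiK, Algebra.ofId_apply, mul_comm]
    | add x y hx hy => simp only [map_add, hx, hy, Function.comp_apply]
  rw [this]
  exact h.comp (Algebra.TensorProduct.comm k K k').bijective

theorem finrank_K' [FiniteDimensional k k']
    (h : Function.Bijective (Algebra.TensorProduct.productMap
      (IsScalarTower.toAlgHom k k' K') (IsScalarTower.toAlgHom k K K'))) :
    Module.Finite K K' ∧ Module.finrank K K' = Module.finrank k k' := by
  let e : K ⊗[k] k' ≃ₗ[K] K' :=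
    LinearEquiv.ofBijective (psiK k k' K K').toLinearMap (psiK_bijective k k' K K' h)
  refine ⟨Module.Finite.equiv e, ?_⟩
  rw [← e.finrank_eq, Module.finrank_baseChange]

open Polynomial in
theorem mem_range_of_isAlgebraic [FiniteDimensional k k']
    (h : Function.Bijective (Algebra.TensorProduct.productMap
      (IsScalarTower.toAlgHom k k' K') (IsScalarTower.toAlgHom k K K')))
    (hg : FunFld.IsGeometric k K) (y : K') (hy : IsAlgebraic k' y) :
    y ∈ Set.range (algebraMap k' K') := by
  have hyint : IsIntegral k' y := hy.isIntegral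
  set m := minpoly k' y with hm
  have hmirr : Irreducible m := minpoly.irreducible hyint
  have hm0 : m ≠ 0 := hmirr.ne_zero
  have : Fact (Irreducible m) := ⟨hmirr⟩
  let M := AdjoinRoot m
  let pb := AdjoinRoot.powerBasis hm0
  have hfinM : FiniteDimensional k' M := pb.finite
  have hrankM : Module.finrank k' M = m.natDegree := by
    rw [pb.finrank]
    rfl
  have : IsScalarTower k k' M := inferInstance
  have : FiniteDimensional k M := FiniteDimensional.trans k k' M
  have hf : IsField (M ⊗[k] K) := hg M inferInstance
  have hf' : IsField (K ⊗[k] M) := (Algebra.TensorProduct.comm k K M).toMulEquiv.isField hf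
  let g : M →ₐ[k'] K' := AdjoinRoot.liftAlgHom m (Algebra.ofId k' K') y (by
    rw [hm]
    exact minpoly.aeval k' y)
  let Ψ : K ⊗[k] M →ₐ[K] K' :=
    Algebra.TensorProduct.productLeftAlgHom (Algebra.ofId K K') (g.restrictScalars k)
  have hΨinj : Function.Injective Ψ := by
    let := hf'.toField
    exact (Ψ : K ⊗[k] M →+* K').injective
  obtain ⟨hfinK', hrankK'⟩ := finrank_K' k k' K K' h
  have h1 : Module.finrank K (K ⊗[k] M) ≤ Module.finrank K K' :=
    LinearMap.finrank_le_finrank_of_injective (f := Ψ.toLinearMap) hΨinj
  rw [Module.finrank_baseChange, hrankK', ← Module.finrank_mul_finrank k k' M, hrankM] at h1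
  have hpos : 0 < Module.finrank k k' := Module.finrank_pos
  have hdeg1 : m.natDegree ≤ 1 := by
    by_contra hcon
    push Not at hcon
    have : Module.finrank k k' * 2 ≤ Module.finrank k k' * m.natDegree :=
      Nat.mul_le_mul_left _ hcon
    omega
  have hdeg2 : 0 < m.natDegree := minpoly.natDegree_pos hyint
  have hdeg : m.degree = 1 := by
    rw [degree_eq_natDegree hm0]
    have : m.natDegree = 1 := by omega
    rw [this]
    rfl
  exact minpoly.mem_range_of_degree_eq_one k' y hdeg

open IntermediateField in
theorem finite_part [FiniteDimensional k k']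
    (h : Function.Bijective (Algebra.TensorProduct.productMap
      (IsScalarTower.toAlgHom k k' K') (IsScalarTower.toAlgHom k K K')))
    (x : K) (hfin : FiniteDimensional k⟮x⟯ K) :
    FiniteDimensional k'⟮algebraMap K K' x⟯ K' := by
  obtain ⟨hfinK', -⟩ := finrank_K' k k' K K' h
  have h1 : Module.Finite k⟮x⟯ K' := Module.Finite.trans K K'
  obtain ⟨s, hs⟩ := h1.fg_top
  have hmem : ∀ f : k⟮x⟯, algebraMap K K' (f : K) ∈ k'⟮algebraMap K K' x⟯ := by
    intro f
    have h2 : (k⟮x⟯).map (IsScalarTower.toAlgHom k K K') ≤
        (k'⟮algebraMap K K' x⟯).restrictScalars k := by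
      rw [IntermediateField.adjoin_map, IntermediateField.adjoin_le_iff]
      rintro _ ⟨y, hy, rfl⟩
      rw [Set.mem_singleton_iff] at hy
      subst hy
      exact IntermediateField.mem_adjoin_simple_self k' _
    exact h2 ⟨f, f.2, rfl⟩
  refine ⟨⟨s, ?_⟩⟩
  rw [eq_top_iff]
  intro z hztop
  clear hztop
  have hz : z ∈ Submodule.span k⟮x⟯ (s : Set K') := hs ▸ Submodule.mem_top
  induction hz using Submodule.span_induction with
  | mem y hy => exact Submodule.subset_span hy
  | zero => exact zero_mem _
  | add a b _ _ ha hb => exact add_mem ha hb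
  | smul f y _ hy =>
    have : f • y = (⟨algebraMap K K' f, hmem f⟩ : k'⟮algebraMap K K' x⟯) • y := by
      rw [IntermediateField.smul_def, IntermediateField.smul_def, Algebra.smul_def, smul_eq_mul]
    rw [this]
    exact Submodule.smul_mem _ _ hy

end

/-- For `K/k` a geometric function field of one variable and `k'/k` finite, the field `K' = k' ⊗_k K` is
a geometric function field of one variable over `k'`: some element of `K'` is transcendental over
`k'` with `K'` of finite degree over the subfield it generates over `k'`, `k'` is algebraically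
closed in `K'`, and `K'` stays a field after tensoring over `k'` with any finite field extension of
`k'`. -/
theorem result (k k' : Type u) (K K' : Type v) [Field k] [Field k'] [Field K] [Field K']
    [Algebra k k'] [FiniteDimensional k k'] [Algebra k K] [Algebra K K'] [Algebra k' K'] [Algebra k K']
    [IsScalarTower k k' K'] [IsScalarTower k K K']
    (h : Function.Bijective (Algebra.TensorProduct.productMap
      (IsScalarTower.toAlgHom k k' K') (IsScalarTower.toAlgHom k K K')))
    (hK : FunFld.IsFunctionField k K) (hg : FunFld.IsGeometric k K) :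
    FunFld.IsFunctionField k' K' ∧ FunFld.IsGeometric k' K' := by
  refine ⟨⟨?_, fun y hy => mem_range_of_isAlgebraic k k' K K' h hg y hy⟩,
    isGeometric_part k k' K K' h hg⟩
  obtain ⟨x, hx, hfin⟩ := hK.1
  refine ⟨algebraMap K K' x, ?_, finite_part k k' K K' h x hfin⟩
  intro halg
  have h1 : IsAlgebraic k (algebraMap K K' x) := halg.restrictScalars k
  exact hx ((isAlgebraic_algebraMap_iff (algebraMap K K').injective).mp h1)

end Groth.Agent.S11006
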