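import Groth.Statements.S11078
import Groth.Agent.Lib.Helper68.FunFldRes2

set_option autoImplicit false
open FunFld

namespace Groth.Agent.S11078

open Groth.Agent.Lib.Helper68.FunFldRes

variable {k K : Type*} [Field k] [Field K] [Algebra k K]


lemma forward {ι : Type*} (φ : ι → K) (P Q : Place k K) (h : SameImage φ P Q) (z : K)
    (hz : InLocRing φ P z) : Q.1 z ≤ 1 ∧ (Q.1 z < 1 ↔ P.1 z < 1) := by
  obtain ⟨j, hj0, hPj, hQj, hc⟩ := h
  obtain ⟨j', hj'0, hPj', u, hu, w, hw, hPw, hzw⟩ := hz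
  -- step 1
  have hPeq : P.1 (φ j') = P.1 (φ j) := le_antisymm (hPj j') (hPj' j)
  have hPj0 : P.1 (φ j) ≠ 0 := by simpa using hj0
  have hPr : P.1 (φ j' / φ j) = 1 := by
    rw [map_div₀, hPeq, div_self hPj0]
  obtain ⟨c₀, hc₀P, hc₀Q⟩ := hc j'
  have hc₀ : c₀ ≠ 0 := by
    rintro rfl
    rw [map_zero, sub_zero, hPr] at hc₀P
    exact lt_irrefl _ hc₀P
  have hPc₀ := val_const P hc₀
  have hQc₀ := val_const Q hc₀
  have hQr : Q.1 (φ j' / φ j) = 1 := by
    have := Valuation.map_eq_of_sub_lt Q.1 (x := algebraMap k K c₀) (y := φ j' / φ j)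
      (by rw [hQc₀]; exact hc₀Q)
    rw [this, hQc₀]
  -- new constants
  have hnew : ∀ x ∈ Set.range (fun i => φ i / φ j'),
      ∃ c : k, P.1 (x - algebraMap k K c) < 1 ∧ Q.1 (x - algebraMap k K c) < 1 := by
    rintro x ⟨i, rfl⟩
    obtain ⟨c, hcP, hcQ⟩ := hc i
    refine ⟨c / c₀, ?_, ?_⟩
    · have e : φ i / φ j' - algebraMap k K (c / c₀) =
          (φ i / φ j) / (φ j' / φ j) - algebraMap k K c / algebraMap k K c₀ := by
        rw [map_div₀]
        congr 1
        field_simp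
      rw [e]
      exact v_div_sub_lt P.1 hPr hPc₀ (P.2.1 c) hcP hc₀P
    · have e : φ i / φ j' - algebraMap k K (c / c₀) =
          (φ i / φ j) / (φ j' / φ j) - algebraMap k K c / algebraMap k K c₀ := by
        rw [map_div₀]
        congr 1
        field_simp
      rw [e]
      exact v_div_sub_lt Q.1 hQr hQc₀ (Q.2.1 c) hcQ hc₀Q
  obtain ⟨du, hduP, hduQ⟩ := key_adjoin P Q _ hnew hu
  obtain ⟨dw, hdwP, hdwQ⟩ := key_adjoin P Q _ hnew hw
  have hdw : dw ≠ 0 := by
    intro h0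
    have := (v_lt_iff_of_sub_lt P.1 hdwP).mpr ((const_lt_one_iff P dw).mpr h0)
    rw [hPw] at this
    exact lt_irrefl _ this
  have hQw : Q.1 w = 1 := by
    refine le_antisymm (v_le_of_sub_lt Q.1 hdwQ (Q.2.1 dw)) (not_lt.mp ?_)
    intro hlt
    exact hdw ((const_lt_one_iff Q dw).mp ((v_lt_iff_of_sub_lt Q.1 hdwQ).mp hlt))
  have hQz : Q.1 z = Q.1 u := by
    rw [← hzw, map_mul, hQw, mul_one]
  have hPz : P.1 z = P.1 u := by
    rw [← hzw, map_mul, hPw, mul_one]
  rw [hQz, hPz]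
  refine ⟨v_le_of_sub_lt Q.1 hduQ (Q.2.1 du), ?_⟩
  rw [v_lt_iff_of_sub_lt Q.1 hduQ, v_lt_iff_of_sub_lt P.1 hduP, const_lt_one_iff, const_lt_one_iff]

lemma backward (hK : IsFunctionField k K) [IsAlgClosed k] {ι : Type*} [Finite ι] [Nonempty ι]
    (φ : ι → K) (hφ : ∀ i, φ i ≠ 0) (P Q : Place k K)
    (h : ∀ z : K, InLocRing φ P z → (Q.1 z ≤ 1 ∧ (Q.1 z < 1 ↔ P.1 z < 1))) :
    SameImage φ P Q := by
  obtain ⟨j, hj⟩ := Finite.exists_max (fun i => P.1 (φ i))
  have hmem : ∀ x ∈ Algebra.adjoin k (Set.range fun i => φ i / φ j), InLocRing φ P x := by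
    intro x hx
    exact ⟨j, hφ j, hj, x, hx, 1, Subalgebra.one_mem _, map_one _, mul_one _⟩
  have hr : ∀ i, φ i / φ j ∈ Algebra.adjoin k (Set.range fun i => φ i / φ j) :=
    fun i => Algebra.subset_adjoin ⟨i, rfl⟩
  have hQφj : Q.1 (φ j) ≠ 0 := by simpa using hφ j
  have hPφj : P.1 (φ j) ≠ 0 := by simpa using hφ j
  refine ⟨j, hφ j, hj, ?_, ?_⟩
  · intro i
    have := (h _ (hmem _ (hr i))).1
    rw [map_div₀] at this
    exact (div_le_one₀ (zero_lt_iff.mpr hQφj)).mp this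
  · intro i
    have hPi : P.1 (φ i / φ j) ≤ 1 := by
      rw [map_div₀]
      exact (div_le_one₀ (zero_lt_iff.mpr hPφj)).mpr (hj i)
    obtain ⟨c, hc⟩ := exists_const hK P hPi
    refine ⟨c, hc, ?_⟩
    have hmem' : φ i / φ j - algebraMap k K c ∈ Algebra.adjoin k (Set.range fun i => φ i / φ j) :=
      Subalgebra.sub_mem _ (hr i) (Subalgebra.algebraMap_mem _ c)
    exact (h _ (hmem _ hmem')).2.mpr hc


/-- Over an algebraically closed constant field, for a projective map `φ = (φ₀, …, φₙ)`, `n ≥ 1`, and a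
point `a = φ(P)` with local ring `O_a`, the fibre `φ⁻¹(a)` consists of the places `Q` with `O_a ⊆
O_Q` and `m_Q ∩ O_a` equal to the maximal ideal of `O_a` (which is `m_P ∩ O_a`). Here `O_a` consists
of the quotients of polynomials over `k` in the ratios `φᵢ/φⱼ`, `φⱼ` of least order at `P`, with
denominator a unit at `P`; and `Q` has the same image point as `P` when some entry has least order
at both places and the ratios are congruent to common constants modulo both maximal ideals. -/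
theorem result
    (k K : Type*) [Field k] [IsAlgClosed k] [Field K] [Algebra k K]
    (hK : FunFld.IsFunctionField k K) {n : ℕ} (hn : 1 ≤ n) (φ : Fin (n + 1) → K)
    (hφ : LinearIndependent k φ) (P Q : FunFld.Place k K) :
    FunFld.SameImage φ P Q ↔
      ∀ z : K, FunFld.InLocRing φ P z → (Q.1 z ≤ 1 ∧ (Q.1 z < 1 ↔ P.1 z < 1)) := by
  constructor
  · intro h z hz
    exact forward φ P Q h z hz
  · intro h
    exact backward hK φ (fun i => hφ.ne_zero i) P Q h

end Groth.Agent.S11078
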