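import Groth.Statements.S11277
import Mathlib
-- import your own Groth.Agent.* helpers here

set_option autoImplicit false
universe u v
open W4bk4grassmannian

namespace Groth.Agent.S11277

/-- Let K be a field, R = ⊕_{i ≥ 0} R_i an ℕ-graded commutative K-algebra which is an integral domain,
and s ∈ R_e a homogeneous element of degree e > 0. Let R_(s) ⊆ R[1/s] be the homogeneous
localization (fractions f / s^k with f homogeneous of degree k e). Then the image of s in R[1/s] is
transcendental over R_(s). -/
theorem result (K : Type u) [Field K] (R : Type v) [CommRing R]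
    [IsDomain R] [Algebra K R] (𝒜 : ℕ → Submodule K R) [GradedAlgebra 𝒜] (e : ℕ) (he : 0 < e) (s : R)
    (hs : s ∈ 𝒜 e) :
    Transcendental (HomogeneousLocalization.Away 𝒜 s) (algebraMap R (Localization.Away s) s) := by
  classical
  by_cases hs0 : s = 0
  · subst hs0
    have : Subsingleton (HomogeneousLocalization.Away 𝒜 (0 : R)) :=
      HomogeneousLocalization.subsingleton 𝒜 ⟨1, by simp⟩
    rintro ⟨p, hp, _⟩
    exact hp (Subsingleton.elim _ _)
  rintro ⟨p, hp, hpe⟩
  apply hp
  have hinj : Function.Injective (algebraMap R (Localization.Away s)) :=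
    IsLocalization.injective (Localization.Away s)
      (powers_le_nonZeroDivisors_of_noZeroDivisors hs0)
  have hev : ∀ᶠ n in Filter.atTop, ∀ i ∈ Finset.range (p.natDegree + 1),
      s ^ n • (p.coeff i).val ∈ algebraMap R (Localization.Away s) '' (𝒜 (n • e) : Set R) := by
    rw [Filter.eventually_all_finset]
    intro i _
    exact HomogeneousLocalization.Away.eventually_smul_mem hs (p.coeff i)
  obtain ⟨N, hN⟩ := hev.exists
  choose! g hg using hN
  have hsum : ∑ i ∈ Finset.range (p.natDegree + 1), g i * s ^ i = 0 := by
    apply hinj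
    rw [map_zero, map_sum]
    have h1 : s ^ N • Polynomial.aeval (algebraMap R (Localization.Away s) s) p = 0 := by
      rw [hpe, smul_zero]
    rw [Polynomial.aeval_eq_sum_range, Finset.smul_sum] at h1
    rw [← h1]
    apply Finset.sum_congr rfl
    intro i hi
    rw [map_mul, (hg i hi).2, map_pow, Algebra.smul_def (p.coeff i),
      HomogeneousLocalization.algebraMap_apply, smul_mul_assoc]
  have hdeg : ∀ i ∈ Finset.range (p.natDegree + 1), g i * s ^ i ∈ 𝒜 (N • e + i • e) := by
    intro i hi
    exact SetLike.mul_mem_graded (hg i hi).1 (SetLike.pow_mem_graded i hs)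
  have hzero : ∀ i ∈ Finset.range (p.natDegree + 1), g i * s ^ i = 0 := by
    intro i₀ hi₀
    have h2 := congrArg (GradedRing.proj 𝒜 (N • e + i₀ • e)) hsum
    rw [map_sum, map_zero, Finset.sum_eq_single i₀] at h2
    · rw [GradedRing.proj_apply, DirectSum.decompose_of_mem_same 𝒜 (hdeg i₀ hi₀)] at h2
      exact h2
    · intro i hi hne
      rw [GradedRing.proj_apply, DirectSum.decompose_of_mem_ne 𝒜 (hdeg i hi)]
      intro h
      apply hne
      have : i • e = i₀ • e := by omega
      simpa [smul_eq_mul, Nat.mul_right_cancel_iff he] using this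
    · intro h; exact absurd hi₀ h
  apply Polynomial.ext
  intro i
  rw [Polynomial.coeff_zero]
  by_cases hi : i ∈ Finset.range (p.natDegree + 1)
  · have h3 : g i = 0 := by
      rcases mul_eq_zero.mp (hzero i hi) with h | h
      · exact h
      · exact absurd (pow_eq_zero_iff (Nat.pos_of_ne_zero (fun h0 => by
          subst h0; simp at h)).ne' |>.mp h) hs0
    apply HomogeneousLocalization.val_injective (Submonoid.powers s)
    rw [HomogeneousLocalization.val_zero]
    have h4 := (hg i hi).2
    rw [h3, map_zero] at h4
    have hunit : IsUnit (algebraMap R (Localization.Away s) (s ^ N)) :=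
      IsLocalization.map_units (Localization.Away s) (⟨s ^ N, N, rfl⟩ : Submonoid.powers s)
    rw [Algebra.smul_def] at h4
    exact (hunit.mul_right_eq_zero).mp h4.symm
  · rw [Finset.mem_range, not_lt] at hi
    exact Polynomial.coeff_eq_zero_of_natDegree_lt (Nat.lt_of_succ_le hi)

end Groth.Agent.S11277
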