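import Groth.Statements.S11278
import Groth.Agent.S11277
import Mathlib
-- import your own Groth.Agent.* helpers here

set_option autoImplicit false
universe u v
open W4bk4grassmannian

namespace Groth.Agent.S11278

theorem nagata {R : Type*} [CommRing R] [IsDomain R] [WfDvdMonoid R] (s : R) (hp : Prime s)
    (h : UniqueFactorizationMonoid (Localization.Away s)) : UniqueFactorizationMonoid R := by
  classical
  rw [UniqueFactorizationMonoid.iff_exists_prime_mem_of_isPrime]
  intro I hI hIp
  by_cases hsI : s ∈ I
  · exact ⟨s, hsI, hp⟩
  have hs0 : s ≠ 0 := hp.ne_zero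
  have hinj : Function.Injective (algebraMap R (Localization.Away s)) :=
    IsLocalization.injective (Localization.Away s)
      (powers_le_nonZeroDivisors_of_noZeroDivisors hs0)
  have hdisj : Disjoint (Submonoid.powers s : Set R) (I : Set R) := by
    rw [Set.disjoint_left]
    rintro _ ⟨n, rfl⟩ hn
    exact hsI (hIp.mem_of_pow_mem n hn)
  have hI'p : (I.map (algebraMap R (Localization.Away s))).IsPrime :=
    IsLocalization.isPrime_of_isPrime_disjoint (Submonoid.powers s) _ I hIp hdisj
  have hI'ne : I.map (algebraMap R (Localization.Away s)) ≠ ⊥ := by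
    intro hbot
    apply hI
    rw [eq_bot_iff]
    intro a ha
    have : algebraMap R (Localization.Away s) a ∈ I.map (algebraMap R (Localization.Away s)) :=
      Ideal.mem_map_of_mem _ ha
    rw [hbot, Ideal.mem_bot] at this
    rw [Ideal.mem_bot]
    exact hinj (by rw [this, map_zero])
  obtain ⟨π, hπI, hπ⟩ := hI'p.exists_mem_prime_of_ne_bot hI'ne
  obtain ⟨⟨a, t⟩, hat⟩ := IsLocalization.surj (Submonoid.powers s) π
  have htunit : IsUnit (algebraMap R (Localization.Away s) t) :=
    IsLocalization.map_units (Localization.Away s) t
  have haprime : Prime (algebraMap R (Localization.Away s) a) := by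
    rw [← hat]
    exact (associated_mul_unit_right π _ htunit).prime hπ
  have haI' : algebraMap R (Localization.Away s) a ∈ I.map (algebraMap R (Localization.Away s)) := by
    rw [← hat]
    exact Ideal.mul_mem_right _ _ hπI
  have haI : a ∈ I := by
    have hcomap := IsLocalization.under_map_of_isPrime_disjoint (Submonoid.powers s)
      (Localization.Away s) hIp hdisj
    rw [← hcomap]
    exact haI'
  have ha0 : a ≠ 0 := by
    rintro rfl
    exact haprime.ne_zero (map_zero _)
  obtain ⟨e, a', hsa', rfl⟩ := WfDvdMonoid.max_power_factor ha0 hp.irreducible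
  have ha'I : a' ∈ I := by
    rcases hIp.mem_or_mem haI with h1 | h1
    · exact absurd (hIp.mem_of_pow_mem e h1) hsI
    · exact h1
  have hseunit : IsUnit (algebraMap R (Localization.Away s) (s ^ e)) :=
    IsLocalization.map_units (Localization.Away s) (⟨s ^ e, e, rfl⟩ : Submonoid.powers s)
  have ha'prime : Prime (algebraMap R (Localization.Away s) a') := by
    rw [map_mul] at haprime
    exact (associated_unit_mul_left _ _ hseunit).prime haprime
  refine ⟨a', ha'I, ?_, ?_, ?_⟩
  · rintro rfl
    exact ha0 (mul_zero _)
  · intro hu
    exact ha'prime.not_isUnit (hu.map _)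
  · intro x y hxy
    have key : ∀ z : R, algebraMap R (Localization.Away s) a' ∣ algebraMap R (Localization.Away s) z →
        a' ∣ z := by
      intro z hz
      have h1 := ((IsLocalization.toLocalizationMap (Submonoid.powers s)
        (Localization.Away s)).map_dvd_map (m₁ := a') (m₂ := z)).mp hz
      obtain ⟨t', ⟨n, rfl⟩, w, hw⟩ := h1
      have h2 : s ^ n ∣ a' * w := ⟨z, hw.symm⟩
      obtain ⟨w', rfl⟩ := hp.pow_dvd_of_dvd_mul_left n hsa' h2
      refine ⟨w', ?_⟩
      have h3 : s ^ n * z = s ^ n * (a' * w') := by rw [hw]; ring
      exact mul_left_cancel₀ (pow_ne_zero n hs0) h3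
    have h4 : algebraMap R (Localization.Away s) a' ∣
        algebraMap R (Localization.Away s) x * algebraMap R (Localization.Away s) y := by
      rw [← map_mul]
      exact map_dvd _ hxy
    rcases ha'prime.dvd_or_dvd h4 with h5 | h5
    · exact Or.inl (key x h5)
    · exact Or.inr (key y h5)

/-- Unique factorization lifts from the homogeneous localization at a prime element of degree one, in
the generality of the published argument: let K be a field, R = ⊕_{i ≥ 0} R_i a Noetherian ℕ-graded
commutative K-algebra which is an integral domain, and s ∈ R_1 a homogeneous element of degree one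
which is a prime element of R. If the homogeneous localization R_(s) (degree-zero part of R[1/s])
has unique factorization, then R is a unique factorization domain. (The published statement is the
case where R is the homogeneous coordinate ring of a Schubert variety, s the Plücker coordinate of
the least index, which is a prime element there, and R_(s) the coordinate ring of the opposite
cell.) -/
theorem result (K : Type u) [Field K] (R : Type v)
    [CommRing R] [IsDomain R] [IsNoetherianRing R] [Algebra K R] (𝒜 : ℕ → Submodule K R) [GradedAlgebra 𝒜]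
    (s : R) (hs : s ∈ 𝒜 1) (hp : Prime s)
    (h : UniqueFactorizationMonoid (HomogeneousLocalization.Away 𝒜 s)) :
    UniqueFactorizationMonoid R := by
  classical
  have : WfDvdMonoid R := IsNoetherianRing.wfDvdMonoid
  apply nagata s hp
  have hs0 : s ≠ 0 := hp.ne_zero
  have htr := Groth.Agent.S11277.result K R 𝒜 1 one_pos s hs
  rw [transcendental_iff_injective] at htr
  have hinjval : Function.Injective
      (algebraMap (HomogeneousLocalization.Away 𝒜 s) (Localization.Away s)) :=
    HomogeneousLocalization.val_injective (Submonoid.powers s)
  have hdomRs : IsDomain (Localization.Away s) :=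
    IsLocalization.isDomain_localization (powers_le_nonZeroDivisors_of_noZeroDivisors hs0)
  have hdom : IsDomain (HomogeneousLocalization.Away 𝒜 s) :=
    hinjval.isDomain (algebraMap (HomogeneousLocalization.Away 𝒜 s) (Localization.Away s))
  let φ : Polynomial (HomogeneousLocalization.Away 𝒜 s) →ₐ[HomogeneousLocalization.Away 𝒜 s]
      Localization.Away s := Polynomial.aeval (algebraMap R (Localization.Away s) s)
  letI : Algebra (Polynomial (HomogeneousLocalization.Away 𝒜 s)) (Localization.Away s) :=
    φ.toRingHom.toAlgebra
  have halg : ∀ p, algebraMap (Polynomial (HomogeneousLocalization.Away 𝒜 s))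
      (Localization.Away s) p = φ p := fun p => rfl
  have hxunit : IsUnit (algebraMap R (Localization.Away s) s) :=
    IsLocalization.map_units (Localization.Away s) (⟨s, 1, pow_one s⟩ : Submonoid.powers s)
  have hrange : ∀ r : R, ∃ p, φ p = algebraMap R (Localization.Away s) r := by
    intro r
    induction r using DirectSum.Decomposition.inductionOn 𝒜 with
    | zero => exact ⟨0, by simp⟩
    | @homogeneous d m =>
      have hm : (m : R) ∈ 𝒜 (d • 1) := by
        rw [smul_eq_mul, mul_one]
        exact m.2
      refine ⟨Polynomial.C (HomogeneousLocalization.Away.mk 𝒜 hs d (m : R) hm) * Polynomial.X ^ d, ?_⟩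
      rw [map_mul, map_pow, Polynomial.aeval_X, Polynomial.aeval_C,
        HomogeneousLocalization.algebraMap_apply, HomogeneousLocalization.Away.val_mk,
        ← map_pow, Localization.mk_eq_mk']
      exact IsLocalization.mk'_spec _ _ _
    | add a b ha hb =>
      obtain ⟨pa, hpa⟩ := ha
      obtain ⟨pb, hpb⟩ := hb
      exact ⟨pa + pb, by rw [map_add, map_add, hpa, hpb]⟩
  have hloc : IsLocalization (Submonoid.powers (Polynomial.X :
      Polynomial (HomogeneousLocalization.Away 𝒜 s))) (Localization.Away s) := by
    rw [isLocalization_iff]
    refine ⟨?_, ?_, ?_⟩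
    · rintro ⟨_, n, rfl⟩
      rw [halg, map_pow, Polynomial.aeval_X]
      exact hxunit.pow n
    · intro z
      obtain ⟨⟨r, ⟨_, n, rfl⟩⟩, hr⟩ := IsLocalization.surj (Submonoid.powers s) z
      obtain ⟨p, hp'⟩ := hrange r
      refine ⟨⟨p, ⟨Polynomial.X ^ n, n, rfl⟩⟩, ?_⟩
      rw [halg, halg, hp', map_pow, Polynomial.aeval_X, ← map_pow]
      exact hr
    · intro p q hpq
      exact ⟨1, by rw [htr hpq]⟩
  exact UniqueFactorizationMonoid.of_isLocalization (Submonoid.powers (Polynomial.X :
      Polynomial (HomogeneousLocalization.Away 𝒜 s))) (Localization.Away s)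

end Groth.Agent.S11278
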