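import Groth.Statements.S10994
-- import your own Groth.Agent.* helpers here
import Groth.Agent.Lib.Helper88.FunFldApps

set_option autoImplicit false
open FunFld

namespace Groth.Agent.S10994

/-- A function field of one variable has genus `0` and a place of degree `1` iff it is a rational
function field `k(x)`. -/
theorem result (k K : Type*) [Field k] [Field K] [Algebra k K]
    (hK : FunFld.IsFunctionField k K) :
    (FunFld.genus k K = 0 ∧ ∃ P : FunFld.Place k K, P.deg = 1) ↔
      ∃ x : K, IntermediateField.adjoin k ({x} : Set K) = ⊤ := by
  exact Groth.Agent.Lib.Helper88.FF.genus_zero_iff_rational hK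

end Groth.Agent.S10994
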