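import Groth.Statements.S11005
import Groth.Agent.Lib.Helper44.FunFldExt3
import Groth.Agent.Lib.Helper88.FunFldTransc
import Mathlib.RingTheory.TensorProduct.Finite
import Mathlib.RingTheory.Flat.Basic
import Mathlib.RingTheory.IntegralClosure.IsIntegralClosure.Basic

set_option autoImplicit false
universe u v
open FunFld

namespace Groth.Agent.S11005

/-- An intermediate field `K₀` of a geometric function field of one variable `K/k` that is
transcendental over `k` is again a geometric function field of one variable over `k`. -/
theorem result (k : Type u) (K : Type v) [Field k] [Field K] [Algebra k K]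
    (hK : FunFld.IsFunctionField k K) (hg : FunFld.IsGeometric k K) (K₀ : IntermediateField k K)
    (h₀ : ∃ x ∈ K₀, Transcendental k x) : FunFld.IsFunctionField k K₀ ∧ FunFld.IsGeometric k K₀ := by
  classical
  obtain ⟨x, hxK₀, hx⟩ := h₀
  refine ⟨⟨⟨⟨x, hxK₀⟩, ?_, ?_⟩, ?_⟩, ?_⟩
  · -- transcendental in `K₀`
    exact (isAlgebraic_algHom_iff K₀.val K₀.val.injective (a := (⟨x, hxK₀⟩ : K₀))).not.1 hx
  · -- finiteness
    have hfin : FiniteDimensional (IntermediateField.adjoin k ({x} : Set K)) K :=
      Groth.Agent.Lib.Helper88.FF.finiteDimensional_adjoin_of_transcendental hK hx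
    set F₀ := IntermediateField.adjoin k ({(⟨x, hxK₀⟩ : K₀)} : Set K₀) with hF₀
    have hlift : IntermediateField.lift F₀ = IntermediateField.adjoin k ({x} : Set K) :=
      IntermediateField.lift_adjoin_simple k K₀ ⟨x, hxK₀⟩
    letI : Algebra F₀ K := ((algebraMap K₀ K).comp (algebraMap F₀ K₀)).toAlgebra
    haveI : IsScalarTower F₀ K₀ K := IsScalarTower.of_algebraMap_eq (fun _ => rfl)
    have hmem : ∀ z : F₀, ((z : K₀) : K) ∈ IntermediateField.adjoin k ({x} : Set K) := by
      intro z
      rw [← hlift]
      exact (IntermediateField.mem_lift z.1).2 z.2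
    have hrank : Module.finrank F₀ K =
        Module.finrank (IntermediateField.adjoin k ({x} : Set K)) K := by
      apply Groth.Agent.Lib.Helper44.FFExt.finrank_eq_of_bij
        (fun z : F₀ => (⟨((z : K₀) : K), hmem z⟩ : IntermediateField.adjoin k ({x} : Set K)))
      · constructor
        · intro z₁ z₂ h12
          simp only [Subtype.mk.injEq] at h12
          exact Subtype.ext (Subtype.ext h12)
        · rintro ⟨w, hw⟩
          rw [← hlift] at hw
          obtain ⟨z, hz, rfl⟩ := hw
          exact ⟨⟨z, hz⟩, rfl⟩
      · intro r m
        rfl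
    haveI : FiniteDimensional F₀ K := by
      apply Module.finite_of_finrank_pos
      rw [hrank]
      exact Module.finrank_pos
    let l : K₀ →ₗ[F₀] K :=
      { toFun := fun y => (y : K)
        map_add' := fun _ _ => rfl
        map_smul' := fun _ _ => rfl }
    exact Module.Finite.of_injective l Subtype.val_injective
  · -- constants
    intro y hy
    have hy' : IsAlgebraic k (y : K) := (isAlgebraic_algHom_iff K₀.val K₀.val.injective).2 hy
    obtain ⟨c, hc⟩ := hK.2 _ hy'
    exact ⟨c, Subtype.ext hc⟩
  · -- geometric
    intro k' _ _ hfin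
    have hfld := hg k' hfin
    haveI : IsDomain (TensorProduct k k' K) := hfld.isDomain
    -- pass to `K₀ ⊗ k'`
    let f : TensorProduct k K₀ k' →ₐ[k] TensorProduct k k' K :=
      (Algebra.TensorProduct.comm k K k').toAlgHom.comp
        (Algebra.TensorProduct.map K₀.val (AlgHom.id k k'))
    have hf : Function.Injective f := by
      have h1 : Function.Injective (Algebra.TensorProduct.map K₀.val (AlgHom.id k k')) := by
        have := Module.Flat.rTensor_preserves_injective_linearMap (M := k')
          K₀.val.toLinearMap K₀.val.injective
        exact this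
      exact (Algebra.TensorProduct.comm k K k').injective.comp h1
    haveI : IsDomain (TensorProduct k K₀ k') := Function.Injective.isDomain f.toRingHom hf
    haveI : Module.Finite K₀ (TensorProduct k K₀ k') := Module.Finite.base_change k K₀ k'
    have hfld₀ : IsField (TensorProduct k K₀ k') :=
      isField_of_isIntegral_of_isField' (R := K₀) (S := TensorProduct k K₀ k') (Field.toIsField K₀)
    exact (Algebra.TensorProduct.comm k k' K₀).toMulEquiv.isField hfld₀

end Groth.Agent.S11005
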