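import Groth.Statements.S12596
import Groth.Agent.Lib.Helper16.HasseBasic
import Mathlib.LinearAlgebra.Matrix.ToLinearEquiv

set_option autoImplicit false
open FunFld

namespace Groth.Agent.S12596

/-- Over an algebraically closed constant field, replacing a projective map `φ` by `Aφ` for an
invertible matrix `A` over `k` does not change the `τ`-order sequence, and multiplies every
generalized Wronskian determinant `det [τ(φ) | D^(I₁) φ | ⋯ | D^(Iₙ) φ]` (Hasse derivatives taken
with `H`) by `det A`. -/
theorem result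
    (k K : Type*) [Field k] [IsAlgClosed k] [Field K] [Algebra k K]
    (hK : FunFld.IsFunctionField k K) {n : ℕ} (φ : Fin (n + 1) → K) (hφ : LinearIndependent k φ)
    (τ : K →ₐ[k] K) (s : K) (H : K →ₐ[k] PowerSeries K) (hH : LocRes.IsHasseFamily s H)
    (A : Matrix (Fin (n + 1)) (Fin (n + 1)) k) (hA : A.det ≠ 0)
    (φ' : Fin (n + 1) → K) (hφ' : ∀ i, φ' i = ∑ j, A i j • φ j) :
    (∀ J : Fin n → ℕ, FunFld.IsOrders K (FunFld.hcol τ H φ') J ↔ FunFld.IsOrders K (FunFld.hcol τ H φ) J) ∧
    ∀ I : Fin n → ℕ, (FunFld.wrMat τ H φ' I).det = algebraMap k K A.det * (FunFld.wrMat τ H φ I).det := by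
  classical
  let A' : Matrix (Fin (n + 1)) (Fin (n + 1)) K := A.map (algebraMap k K)
  have hdet : A'.det = algebraMap k K A.det := by
    have := RingHom.map_det (algebraMap k K) A
    rw [this]; rfl
  have hdet0 : A'.det ≠ 0 := by
    rw [hdet]; exact (map_ne_zero_iff _ (algebraMap k K).injective).mpr hA
  have hcol : ∀ m, FunFld.hcol τ H φ' m = A'.mulVec (FunFld.hcol τ H φ m) := by
    intro m
    cases m with
    | zero =>
      ext i
      simp only [Groth.Agent.Lib.Helper16.Hasse.hcol_zero, Matrix.mulVec, dotProduct, A',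
        Matrix.map_apply]
      rw [hφ' i, map_sum]
      refine Finset.sum_congr rfl fun j _ => ?_
      rw [map_smul, Algebra.smul_def]
    | succ m =>
      ext i
      simp only [Groth.Agent.Lib.Helper16.Hasse.hcol_succ, Matrix.mulVec, dotProduct, A',
        Matrix.map_apply]
      rw [hφ' i, Groth.Agent.Lib.Helper16.Hasse.hasseD_sum]
      refine Finset.sum_congr rfl fun j _ => ?_
      rw [Groth.Agent.Lib.Helper16.Hasse.hasseD_smul, Algebra.smul_def]
  have hinv : Invertible A' := Matrix.invertibleOfIsUnitDet A' (isUnit_iff_ne_zero.mpr hdet0)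
  let e := Matrix.toLinearEquiv' A' hinv
  have he : ∀ v, e v = A'.mulVec v := fun v => by
    show (Matrix.toLin' A') v = _
    rw [Matrix.toLin'_apply]
  have hcol' : FunFld.hcol τ H φ' = fun m => e (FunFld.hcol τ H φ m) := by
    funext m; rw [hcol m, he]
  refine ⟨fun J => ?_, fun I => ?_⟩
  · rw [hcol']
    exact Groth.Agent.Lib.Helper16.Jump.isOrders_map e _ J
  · rw [← hdet, ← Matrix.det_mul]
    congr 1
    rw [Groth.Agent.Lib.Helper16.Jump.wrMat_eq_wr, Groth.Agent.Lib.Helper16.Jump.wrMat_eq_wr]
    ext i q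
    simp only [Groth.Agent.Lib.Helper16.Jump.wr, Matrix.of_apply, Matrix.mul_apply]
    rw [hcol]
    simp only [Matrix.mulVec, dotProduct]

end Groth.Agent.S12596
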