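import Groth.Statements.S12606
import Groth.Agent.Lib.Helper16.LocExp13
import Groth.Agent.Lib.Helper16.Jump7
import Groth.Agent.S12596

set_option autoImplicit false
open FunFld

namespace Groth.Agent.S12606

/-- Over an algebraically closed constant field, let `P` be a strong fixed point of the `k`-endomorphism
`τ`, `φ = (φ₀, …, φₙ)` (`n ≥ 1`) an effective projective map normalized at `P` with `τ(φ)` not a
`K`-multiple of `φ`, `t` a local parameter at `P`, `j₁, …, jₙ` the `τ`-orders of `φ` and `j'₁, …,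
j'ₙ` the orders of `φ` at `P`. Then `jₗ ≤ j'ₗ - j'₁` for `1 ≤ l ≤ n`. -/
theorem result
    (k K : Type*) [Field k] [IsAlgClosed k] [Field K] [Algebra k K]
    (hK : FunFld.IsFunctionField k K) (τ : K →ₐ[k] K) (P : FunFld.Place k K) (hP : FunFld.IsStrongFixedPt τ P)
    {n : ℕ} (hn : 0 < n) (φ : Fin (n + 1) → K) (hφ : LinearIndependent k φ)
    (heff : (1 : K) ∈ Submodule.span k (Set.range φ)) (hnorm : ∀ i, P.1 (φ i) ≤ 1)
    (hτφ : ¬ ∃ y : K, ∀ i, τ (φ i) = y * φ i)
    (t : K) (ht : P.1 t = WithZero.exp (-1))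
    (Ht : K →ₐ[k] PowerSeries K) (hHt : LocRes.IsHasseFamily t Ht)
    (J : Fin n → ℕ) (hJ : FunFld.IsOrders K (FunFld.hcol τ Ht φ) J)
    (J' : Fin n → ℕ) (hJ' : FunFld.IsOrders (IsLocalRing.ResidueField P.O) (FunFld.hcolAt P Ht φ) J') :
    ∀ l, J l + J' ⟨0, hn⟩ ≤ J' l := by
  classical
  obtain ⟨g, hgmem, hgval, hga, hJpos, hli⟩ :=
    Groth.Agent.Lib.Helper16.LocExp.exists_adapted hK P ht hHt φ hnorm J' hJ'
  have hmem : ∀ q : Fin (n + 1), (fun q => Fin.cases (motive := fun _ => K) 1 g q) q ∈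
      Submodule.span k (Set.range φ) := by
    intro q
    induction q using Fin.cases with
    | zero => exact heff
    | succ l => exact hgmem l
  obtain ⟨A, hA, hAψ⟩ := Groth.Agent.Lib.Helper16.LocExp.exists_matrix_of_span hli hmem
  have hJψ : IsOrders K (hcol τ Ht (fun q => Fin.cases (motive := fun _ => K) 1 g q)) J :=
    ((Groth.Agent.S12596.result k K hK φ hφ τ t Ht hHt A hA _ hAψ).1 J).mpr hJ
  intro l
  have hJ0l : J' ⟨0, hn⟩ ≤ J' l := hJ'.1.monotone (Fin.mk_le_of_le_val (Nat.zero_le _))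
  suffices hsuff : J l ≤ J' l - J' ⟨0, hn⟩ by omega
  apply Groth.Agent.Lib.Helper16.Jump.order_le_of_no_relation hJψ l
  intro x0 x hx
  have hlast : Fin.castLE l.2 (Fin.last l.val) = l := Fin.ext rfl
  have hzero : Fin.castLE l.2 (0 : Fin (l.val + 1)) = ⟨0, hn⟩ := Fin.ext rfl
  apply Groth.Agent.Lib.Helper16.LocExp.eq_zero_of_adapted hK P ht hHt hP
    (fun r => g (Fin.castLE l.2 r)) (fun r => J' (Fin.castLE l.2 r))
    (fun r r' hrr' => hJ'.1 (by simpa using hrr'))
    (fun r => hJpos _) (fun r => hgval _) (fun r => hga _) x0 x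
  · have h0 := hx 0 (by omega)
    simpa [hcol] using h0
  · intro i hi
    simp only [hlast, hzero] at hi
    have h1 := hx (i + 1) (by omega)
    simpa [hcol] using h1

end Groth.Agent.S12606
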