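import Groth.Statements.S12615
import Groth.Agent.Lib.Helper16.LocExp12
import Groth.Agent.S12605

set_option autoImplicit false
open FunFld

namespace Groth.Agent.S12615

/-- Over an algebraically closed constant field, let `P` be a fixed point of the `k`-endomorphism `τ`,
`φ` an effective projective map normalized at `P` with `τ`-orders `j₁, …, jₙ` and orders `j'₁, …,
j'ₙ` at `P`. Then the coefficient of the Weierstrass divisor `W(φ, τ)` at `P` is at least `Σ (j'ₗ -
jₗ)`; if `τ = 1` or `P` is a strong fixed point, it equals `Σ (j'ₗ - jₗ)` exactly when the matrix of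
binomial coefficients `(j'_r choose j_s)`, read in `k`, has nonzero determinant. The divisor of `dt`
in `W` is read through a family of Laurent expansions. -/
theorem result
    (k K : Type*) [Field k] [IsAlgClosed k] [Field K] [Algebra k K]
    (hK : FunFld.IsFunctionField k K) (τ : K →ₐ[k] K) (P : FunFld.Place k K) (hP : FunFld.IsFixedPt τ P)
    {n : ℕ} (φ : Fin (n + 1) → K) (hφ : LinearIndependent k φ)
    (heff : (1 : K) ∈ Submodule.span k (Set.range φ)) (hnorm : ∀ i, P.1 (φ i) ≤ 1)
    (t : K) (ht : P.1 t = WithZero.exp (-1))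
    (Ht : K →ₐ[k] PowerSeries K) (hHt : LocRes.IsHasseFamily t Ht)
    (J : Fin n → ℕ) (hJ : FunFld.IsOrders K (FunFld.hcol τ Ht φ) J)
    (J' : Fin n → ℕ) (hJ' : FunFld.IsOrders (IsLocalRing.ResidueField P.O) (FunFld.hcolAt P Ht φ) J')
    (Φ : FunFld.Place k K → (K →ₐ[k] LaurentSeries k))
    (hΦ : ∀ P : FunFld.Place k K, LocRes.IsExpansionAt P.1 (Φ P)) :
    (∑ l, ((J' l : ℤ) - J l)) ≤ FunFld.wDiv τ Ht Φ t φ J P ∧
    ((τ = AlgHom.id k K ∨ FunFld.IsStrongFixedPt τ P) →
      (FunFld.wDiv τ Ht Φ t φ J P = ∑ l, ((J' l : ℤ) - J l) ↔ (FunFld.binomMat k J' J).det ≠ 0)) := by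
  classical
  have h0 : hcol τ Ht φ 0 ≠ 0 := by
    intro h
    have h1 : τ (φ 0) = 0 := congrFun h 0
    exact hφ.ne_zero 0 ((map_eq_zero_iff τ τ.toRingHom.injective).mp h1)
  have hwne : (wrMat τ Ht φ J).det ≠ 0 := by
    rw [Groth.Agent.Lib.Helper16.Jump.wrMat_eq_wr]
    exact Groth.Agent.Lib.Helper16.Jump.det_wr_ne_zero hJ h0
  have key := Groth.Agent.S12605.result k K hK τ P hP φ hφ heff hnorm t ht Ht hHt J' hJ' J hJ.1
  have heff' : (1 : K) ∈ Submodule.span k (Set.range (⇑τ ∘ φ)) := by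
    obtain ⟨d, hd⟩ := (Submodule.mem_span_range_iff_exists_fun k).mp heff
    refine (Submodule.mem_span_range_iff_exists_fun k).mpr ⟨d, ?_⟩
    have := congrArg τ hd
    rw [map_sum, map_one] at this
    rw [← this]
    refine Finset.sum_congr rfl fun i _ => ?_
    rw [Function.comp_apply, map_smul]
  have hnorm' : ∀ i, P.1 ((⇑τ ∘ φ) i) ≤ 1 := fun i =>
    Groth.Agent.Lib.Helper16.LocExp.val_tau_le hK P hP (hnorm i)
  have hcoef : wDiv τ Ht Φ t φ J P = P.ord (wrMat τ Ht φ J).det := by
    unfold wDiv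
    rw [Finsupp.add_apply, Finsupp.add_apply, Finsupp.add_apply, Finsupp.smul_apply,
      Finsupp.smul_apply, Groth.Agent.Lib.Helper88.FF.div_apply hK,
      Groth.Agent.Lib.Helper16.WDivAt.divDiff_apply_eq_zero Φ P t (((hΦ P).1 t).trans ht),
      Groth.Agent.Lib.Helper16.WDivAt.mapDiv_apply_eq_zero P φ heff hnorm,
      Groth.Agent.Lib.Helper16.WDivAt.mapDiv_apply_eq_zero P (⇑τ ∘ φ) heff' hnorm']
    simp
  have hv : P.1 (wrMat τ Ht φ J).det ≠ 0 := (Valuation.ne_zero_iff _).mpr hwne
  rw [hcoef]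
  refine ⟨?_, fun hyp => ?_⟩
  · have h1 := (WithZero.log_le_iff_le_exp hv).mpr key.1
    unfold Place.ord
    omega
  · have hyp' : (∀ l, 0 < J l) ∨ IsStrongFixedPt τ P := by
      rcases hyp with rfl | hs
      · left
        intro l
        by_contra hl
        have hl0 : J l = 0 := by omega
        have hj : IsJump K (hcol (AlgHom.id k K) Ht φ) (0 + 1) := (hJ.2 0).mp ⟨l, hl0⟩
        apply hj
        have h10 : hcol (AlgHom.id k K) Ht φ (0 + 1) = hcol (AlgHom.id k K) Ht φ 0 := by
          funext i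
          show LocRes.hasseD Ht 0 (φ i) = φ i
          rw [LocRes.hasseD_apply, PowerSeries.coeff_zero_eq_constantCoeff_apply, hHt.2]
        rw [h10]
        exact Submodule.subset_span ⟨0, by simp, rfl⟩
      · exact Or.inr hs
    rw [← key.2 hyp']
    unfold Place.ord
    constructor
    · intro h
      rw [← WithZero.exp_log hv]
      congr 1
      omega
    · intro h
      rw [h, WithZero.log_exp]
      omega

end Groth.Agent.S12615
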