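import Groth.Statements.S11069
import Groth.Agent.Lib.Helper44.FunFldExt5
import Groth.Agent.Lib.Helper44.FunFldMapDiv

set_option autoImplicit false
open FunFld

namespace Groth.Agent.S11069

/-- Over an algebraically closed constant field, for function fields `K ⊇ K'` and a projective map `φ`
with entries in `K'`, the divisor of `φ` as a map of `K` is the conorm `N*_{K/K'}` of its divisor as
a map of `K'`. -/
theorem result
    (k K' K : Type*) [Field k] [IsAlgClosed k] [Field K'] [Field K] [Algebra k K'] [Algebra k K]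
    [Algebra K' K] [IsScalarTower k K' K] [FiniteDimensional K' K]
    (hK : FunFld.IsFunctionField k K) (hK' : FunFld.IsFunctionField k K') {n : ℕ}
    (φ : Fin (n + 1) → K') (hφ : LinearIndependent k φ) :
    FunFld.mapDiv k (fun i => algebraMap K' K (φ i)) = FunFld.conorm K (FunFld.mapDiv k φ) := by
  classical
  haveI : Algebra.IsAlgebraic K' K := Algebra.IsAlgebraic.of_finite _ _
  ext Q
  obtain ⟨P₀, hP₀⟩ := Groth.Agent.Lib.Helper44.FFExt.exists_isOver_below (K := K') Q
  rw [Groth.Agent.Lib.Helper44.FFExt.mapDiv_apply hK,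
    Groth.Agent.Lib.Helper44.FFExt.conorm_apply_of_isOver
      (fun P => Groth.Agent.Lib.Helper44.FFExt.finite_isOver hK' P) _ hP₀,
    Groth.Agent.Lib.Helper44.FFExt.mapDiv_apply hK']
  have hord : ∀ i, Q.ord (algebraMap K' K (φ i)) = (FunFld.ramIdx Q P₀ : ℤ) * P₀.ord (φ i) :=
    fun i => Groth.Agent.Lib.Helper44.FFExt.isOverWith_ord_eq
      (Groth.Agent.Lib.Helper44.FFExt.isOverWith_ramIdx hP₀) (φ i)
  simp only [hord]
  have he : (0 : ℤ) ≤ (FunFld.ramIdx Q P₀ : ℤ) := Int.natCast_nonneg _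
  have : (FunFld.ramIdx Q P₀ : ℤ) * Finset.univ.inf' Finset.univ_nonempty (fun i => P₀.ord (φ i)) =
      Finset.univ.inf' Finset.univ_nonempty (fun i => (FunFld.ramIdx Q P₀ : ℤ) * P₀.ord (φ i)) :=
    Finset.apply_inf'_eq_inf'_comp (s := (Finset.univ : Finset (Fin (n + 1))))
      Finset.univ_nonempty (f := fun i => P₀.ord (φ i))
      (fun z : ℤ => (FunFld.ramIdx Q P₀ : ℤ) * z)
      (fun a b => mul_min_of_nonneg a b he)
  rw [← this]
  ring

end Groth.Agent.S11069
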