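import Groth.Statements.S11052
import Groth.Agent.S11069
import Groth.Agent.Lib.Helper88.FunFldTransc

set_option autoImplicit false
open FunFld

namespace Groth.Agent.S11052

/-- The source copy of `K`, over which `K` is an algebra via `τ`. -/
def Src {k K : Type*} [Field k] [Field K] [Algebra k K] (_τ : K →ₐ[k] K) : Type _ := K

section

variable {k K : Type*} [Field k] [Field K] [Algebra k K] (τ : K →ₐ[k] K)

instance : Field (Src τ) := inferInstanceAs (Field K)
instance : Algebra k (Src τ) := inferInstanceAs (Algebra k K)
instance : Algebra (Src τ) K := τ.toRingHom.toAlgebra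
instance : IsScalarTower k (Src τ) K := IsScalarTower.of_algebraMap_eq (fun c => (τ.commutes c).symm)

lemma algebraMap_src (x : Src τ) : algebraMap (Src τ) K x = τ x := rfl

lemma finrank_src : Module.finrank (Src τ) K = Module.finrank τ.fieldRange K := by
  apply Groth.Agent.Lib.Helper44.FFExt.finrank_eq_of_bij
    (fun x : Src τ => (⟨τ x, ⟨x, rfl⟩⟩ : τ.fieldRange))
  · constructor
    · intro x y hxy
      exact τ.injective (congrArg Subtype.val hxy)
    · rintro ⟨_, ⟨x, rfl⟩⟩
      exact ⟨x, rfl⟩
  · intro r m
    rfl

lemma finiteDimensional_src (hK : FunFld.IsFunctionField k K) : FiniteDimensional (Src τ) K := by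
  obtain ⟨⟨x, hx, -⟩, -⟩ := id hK
  have hτx : Transcendental k (τ x) := (isAlgebraic_algHom_iff τ τ.injective).not.2 hx
  have hfin : FiniteDimensional (IntermediateField.adjoin k ({τ x} : Set K)) K :=
    Groth.Agent.Lib.Helper88.FF.finiteDimensional_adjoin_of_transcendental hK hτx
  -- `k(τ x)` maps into `Src τ`
  have hmem : ∀ z : IntermediateField.adjoin k ({τ x} : Set K), ∃ w : K, τ w = z.1 := by
    intro z
    have hle : IntermediateField.adjoin k ({τ x} : Set K) ≤ τ.fieldRange := by
      rw [IntermediateField.adjoin_le_iff]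
      rintro _ rfl
      exact ⟨x, rfl⟩
    exact hle z.2
  choose g hg using hmem
  let i : IntermediateField.adjoin k ({τ x} : Set K) →+* Src τ :=
    { toFun := fun z => (g z : K)
      map_one' := τ.injective (show τ (g 1) = τ 1 by rw [hg, map_one]; rfl)
      map_mul' := fun a b => τ.injective
        (show τ (g (a * b)) = τ (g a * g b) by rw [map_mul, hg, hg, hg]; rfl)
      map_zero' := τ.injective (show τ (g 0) = τ 0 by rw [hg, map_zero]; rfl)
      map_add' := fun a b => τ.injective
        (show τ (g (a + b)) = τ (g a + g b) by rw [map_add, hg, hg, hg]; rfl) }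
  letI : Algebra (IntermediateField.adjoin k ({τ x} : Set K)) (Src τ) := i.toAlgebra
  haveI : IsScalarTower (IntermediateField.adjoin k ({τ x} : Set K)) (Src τ) K :=
    IsScalarTower.of_algebraMap_eq (fun z => (hg z).symm)
  exact Module.Finite.of_restrictScalars_finite (IntermediateField.adjoin k ({τ x} : Set K))
    (Src τ) K

end

/-- Over an algebraically closed constant field, for a `k`-embedding `τ` of the function field `K` into
itself and a projective map `φ = (φ₀, …, φₙ)` (a linearly independent tuple), the degree of the map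
`τ(φ)` is `deg τ · deg φ`, where `deg τ = [K : τ(K)]`. -/
theorem result
    (k K : Type*) [Field k] [IsAlgClosed k] [Field K] [Algebra k K]
    (hK : FunFld.IsFunctionField k K) (τ : K →ₐ[k] K) {n : ℕ}
    (φ : Fin (n + 1) → K) (hφ : LinearIndependent k φ) :
    (FunFld.mapDiv k (τ ∘ φ)).deg =
      Module.finrank τ.fieldRange K * (FunFld.mapDiv k φ).deg := by
  haveI := finiteDimensional_src τ hK
  have hK' : FunFld.IsFunctionField k (Src τ) := hK
  have key : ∀ (φ' : Fin (n + 1) → Src τ), LinearIndependent k φ' →
      (FunFld.mapDiv k (fun i => algebraMap (Src τ) K (φ' i))).deg =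
        Module.finrank (Src τ) K * (FunFld.mapDiv k φ').deg := by
    intro φ' hφ'
    rw [Groth.Agent.S11069.result k (Src τ) K hK hK' φ' hφ',
      Groth.Agent.Lib.Helper44.FFExt.deg_conorm hK']
  have h := key φ hφ
  rw [finrank_src] at h
  exact h

end Groth.Agent.S11052
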