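import Groth.Statements.S12603
-- import your own Groth.Agent.* helpers here
import Groth.Agent.Lib.Helper88.SVLocal
import Groth.Agent.S11052
import Groth.Agent.Lib.Helper88.ResCanonical

set_option autoImplicit false
open FunFld

namespace Groth.Agent.S12603

/-- Over an algebraically closed constant field, the Weierstrass divisor `W(φ, τ) = [w_s(φ, τ)] + [τ(φ)]
+ n[φ] + j(φ, τ)[ds]` of a linearly independent tuple `φ = (φ₀, …, φₙ)` with respect to a
`k`-endomorphism `τ` is nonnegative, and its degree is `(deg τ + n) deg φ + (2g - 2) j(φ, τ)`, where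
`deg τ = [K : τ(K)]`, `deg φ` is the degree of the divisor of `φ`, `g` is the genus and `j(φ, τ)`
the sum of the `τ`-orders. The divisor of `ds` is read through a family of Laurent expansions at the
places. -/
theorem result
    (k K : Type*) [Field k] [IsAlgClosed k] [Field K] [Algebra k K]
    (hK : FunFld.IsFunctionField k K) {n : ℕ} (φ : Fin (n + 1) → K) (hφ : LinearIndependent k φ)
    (τ : K →ₐ[k] K) (s : K) (H : K →ₐ[k] PowerSeries K) (hH : LocRes.IsHasseFamily s H)
    (J : Fin n → ℕ) (hJ : FunFld.IsOrders K (FunFld.hcol τ H φ) J)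
    (Φ : FunFld.Place k K → (K →ₐ[k] LaurentSeries k))
    (hΦ : ∀ P : FunFld.Place k K, LocRes.IsExpansionAt P.1 (Φ P)) :
    0 ≤ FunFld.wDiv τ H Φ s φ J ∧
    (FunFld.wDiv τ H Φ s φ J).deg =
      ((Module.finrank τ.fieldRange K : ℤ) + n) * (FunFld.mapDiv k φ).deg +
        (2 * (FunFld.genus k K : ℤ) - 2) * ∑ l, (J l : ℤ) := by
  classical
  refine ⟨Groth.Agent.Lib.Helper88.SV.wDiv_nonneg hK Φ hΦ φ hφ τ hH hJ, ?_⟩
  obtain ⟨-, hdeg, -⟩ := Groth.Agent.Lib.Helper88.TG.isCanonical_divDiff_hasse hK Φ hΦ hH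
  have hτ := Groth.Agent.S11052.result k K hK τ φ hφ
  have hz : ∀ (z : ℤ) (D : FunFld.Divisor k K), (z • D).deg = z * D.deg := by
    intro z D
    rw [← Groth.Agent.Lib.Helper88.FF.degHom_apply, map_zsmul,
      Groth.Agent.Lib.Helper88.FF.degHom_apply, smul_eq_mul]
  unfold FunFld.wDiv
  rw [Groth.Agent.Lib.Helper88.FF.deg_add, Groth.Agent.Lib.Helper88.FF.deg_add,
    Groth.Agent.Lib.Helper88.FF.deg_add, Groth.Agent.Lib.Helper88.FF.deg_div hK, hz, hz, hdeg, hτ]
  ring


end Groth.Agent.S12603
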