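import Groth.Statements.S12604
-- import your own Groth.Agent.* helpers here
import Groth.Agent.Lib.Helper88.SVFixed
import Groth.Agent.S12603
import Groth.Agent.Lib.Helper88.FunFldLinSeries2

set_option autoImplicit false
open FunFld

namespace Groth.Agent.S12604

/-- Over an algebraically closed constant field, let `τ` be a `k`-endomorphism of the function field `K`
of genus `g`, of degree `deg τ = [K : τ(K)]`, and `φ = (φ₀, …, φₙ)` a projective map such that
`τ(φ)` is not a `K`-multiple of `φ`, with `τ`-orders `j₁, …, jₙ`. Then the number `N` of strong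
fixed points of `τ` (places whose maximal ideal `τ` maps into its square) is finite and `n N ≤ (n +
deg τ) deg φ + (2g - 2)(j₁ + ⋯ + jₙ)`, i.e. `N ≤ (1/n) deg W(φ, τ)`. -/
theorem result
    (k K : Type*) [Field k] [IsAlgClosed k] [Field K] [Algebra k K]
    (hK : FunFld.IsFunctionField k K) (τ : K →ₐ[k] K) {n : ℕ} (φ : Fin (n + 1) → K) (hφ : LinearIndependent k φ)
    (hτφ : ¬ ∃ y : K, ∀ i, τ (φ i) = y * φ i) (s : K) (H : K →ₐ[k] PowerSeries K) (hH : LocRes.IsHasseFamily s H)
    (J : Fin n → ℕ) (hJ : FunFld.IsOrders K (FunFld.hcol τ H φ) J) :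
    {P : FunFld.Place k K | FunFld.IsStrongFixedPt τ P}.Finite ∧
    (n : ℤ) * (Set.ncard {P : FunFld.Place k K | FunFld.IsStrongFixedPt τ P} : ℤ) ≤
      ((n : ℤ) + Module.finrank τ.fieldRange K) * (FunFld.mapDiv k φ).deg +
        (2 * (FunFld.genus k K : ℤ) - 2) * ∑ l, (J l : ℤ) := by
  classical
  choose Φ hΦ using fun P : FunFld.Place k K => Groth.Agent.Lib.Helper88.SV.exists_expansion hK P
  obtain ⟨hnonneg, hdegW⟩ := Groth.Agent.S12603.result k K hK φ hφ τ s H hH J hJ Φ hΦ
  set W := FunFld.wDiv τ H Φ s φ J with hW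
  have hge : ∀ P, FunFld.IsStrongFixedPt τ P → (n : ℤ) ≤ W P := fun P hP =>
    Groth.Agent.Lib.Helper88.SV.le_wDiv_of_isStrongFixedPt hK Φ hΦ φ hφ τ hτφ hH hJ hP
  have hn : 0 < n := by
    by_contra hn0
    have hn0' : n = 0 := by omega
    subst hn0'
    apply hτφ
    refine ⟨τ (φ 0) / φ 0, fun i => ?_⟩
    rw [Fin.fin_one_eq_zero i, div_mul_cancel₀ _ (hφ.ne_zero 0)]
  have hsub : {P : FunFld.Place k K | FunFld.IsStrongFixedPt τ P} ⊆ ↑W.support := by
    intro P hP
    rw [Finset.mem_coe, Finsupp.mem_support_iff]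
    have := hge P hP
    omega
  have hfin : {P : FunFld.Place k K | FunFld.IsStrongFixedPt τ P}.Finite :=
    W.support.finite_toSet.subset hsub
  refine ⟨hfin, ?_⟩
  have hdeg : W.deg = ∑ P ∈ W.support, W P := by
    unfold FunFld.Divisor.deg Finsupp.sum
    apply Finset.sum_congr rfl
    intro P _
    show W P * (P.deg : ℤ) = W P
    rw [Groth.Agent.Lib.Helper88.FF.deg_eq_one_of_isAlgClosed hK P]
    simp
  rw [Set.ncard_eq_toFinset_card _ hfin]
  have h1 : (n : ℤ) * (hfin.toFinset.card : ℤ) = ∑ P ∈ hfin.toFinset, (n : ℤ) := by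
    rw [Finset.sum_const, nsmul_eq_mul]
    ring
  have h2 : ∑ P ∈ hfin.toFinset, (n : ℤ) ≤ ∑ P ∈ hfin.toFinset, W P :=
    Finset.sum_le_sum (fun P hP => hge P ((Set.Finite.mem_toFinset hfin).1 hP))
  have h3 : ∑ P ∈ hfin.toFinset, W P ≤ ∑ P ∈ W.support, W P := by
    apply Finset.sum_le_sum_of_subset_of_nonneg
    · intro P hP
      exact hsub ((Set.Finite.mem_toFinset hfin).1 hP)
    · intro P _ _
      exact hnonneg P
  rw [h1]
  refine le_trans (le_trans h2 h3) ?_
  rw [← hdeg, hdegW]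
  apply le_of_eq
  ring


end Groth.Agent.S12604
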