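import Groth.Statements.S12607
import Groth.Agent.Lib.Helper16.LocExp8

set_option autoImplicit false
open FunFld

namespace Groth.Agent.S12607

/-- Over an algebraically closed constant field, let `φ = (φ₀, …, φₙ)` be an effective projective map
normalized at the place `P`, `t` a local parameter at `P` and `j'₁ < ⋯ < j'ₙ` the orders of `φ` at
`P`, `j'₀ = 0`. Then the span of `φ` has a basis `φ'₀, …, φ'ₙ` with `φ'ₗ = t^(j'ₗ) · (1 + higher
order terms)` at `P`; in particular `j` is one of the `j'ₗ` exactly when some function in the span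
of `φ` has order `j` at `P`. -/
theorem result
    (k K : Type*) [Field k] [IsAlgClosed k] [Field K] [Algebra k K]
    (hK : FunFld.IsFunctionField k K) (P : FunFld.Place k K) {n : ℕ} (φ : Fin (n + 1) → K) (hφ : LinearIndependent k φ)
    (heff : (1 : K) ∈ Submodule.span k (Set.range φ)) (hnorm : ∀ i, P.1 (φ i) ≤ 1)
    (t : K) (ht : P.1 t = WithZero.exp (-1))
    (Ht : K →ₐ[k] PowerSeries K) (hHt : LocRes.IsHasseFamily t Ht)
    (J' : Fin n → ℕ) (hJ' : FunFld.IsOrders (IsLocalRing.ResidueField P.O) (FunFld.hcolAt P Ht φ) J') :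
    (∃ φ' : Fin (n + 1) → K,
      Submodule.span k (Set.range φ') = Submodule.span k (Set.range φ) ∧
      P.1 (φ' 0) = 1 ∧ FunFld.evalP P (φ' 0) = 1 ∧
      ∀ l : Fin n, P.1 (φ' l.succ) = WithZero.exp (-(J' l : ℤ)) ∧
        FunFld.evalP P (φ' l.succ / t ^ J' l) = 1) ∧
    ∀ j : ℕ, (j = 0 ∨ j ∈ Set.range J') ↔
      ∃ f ∈ Submodule.span k (Set.range φ), P.1 f = WithZero.exp (-(j : ℤ)) := by
  classical
  have hB := fun j hj =>
    Groth.Agent.Lib.Helper16.LocExp.exists_of_isJump hK P ht hHt φ hnorm j hj
  have hJpos : ∀ l, 1 ≤ J' l := by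
    intro l
    by_contra h
    have h0 : J' l = 0 := by omega
    have hj : IsJump (IsLocalRing.ResidueField P.O) (hcolAt P Ht φ) (0 + 1) :=
      (hJ'.2 0).mp ⟨l, h0⟩
    apply hj
    rw [Nat.zero_add, ← Groth.Agent.Lib.Helper16.LocExp.hcolAt_zero_eq_one P hHt φ]
    exact Submodule.subset_span ⟨0, by simp, rfl⟩
  choose g hgmem hgval hga using fun l : Fin n => hB (J' l) ((hJ'.2 (J' l)).mp ⟨l, rfl⟩)
  refine ⟨⟨fun q => Fin.cases (motive := fun _ => K) 1 g q, ?_, ?_, ?_, ?_⟩, ?_⟩
  · -- span equality
    set φ' : Fin (n + 1) → K := fun q => Fin.cases (motive := fun _ => K) 1 g q with hφ'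
    have hval : ∀ q, P.1 (φ' q) = WithZero.exp (-((Fin.cases (motive := fun _ => ℕ) 0 J' q : ℕ) : ℤ)) := by
      intro q
      induction q using Fin.cases with
      | zero => simp [φ']
      | succ l => simpa [φ'] using hgval l
    have hne : ∀ q, φ' q ≠ 0 := by
      intro q h0
      have := hval q
      rw [h0, map_zero] at this
      exact absurd this.symm (by simp)
    have hinj : Function.Injective fun q => P.1 (φ' q) := by
      intro p q hpq
      simp only [hval] at hpq
      have h1 := WithZero.exp_injective hpq
      have h2 : (Fin.cases (motive := fun _ => ℕ) 0 J' p : ℕ) =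
          (Fin.cases (motive := fun _ => ℕ) 0 J' q : ℕ) := by omega
      induction p using Fin.cases with
      | zero =>
        induction q using Fin.cases with
        | zero => rfl
        | succ l =>
          simp only [Fin.cases_zero, Fin.cases_succ] at h2
          have := hJpos l
          omega
      | succ l =>
        induction q using Fin.cases with
        | zero =>
          simp only [Fin.cases_zero, Fin.cases_succ] at h2
          have := hJpos l
          omega
        | succ l' =>
          simp only [Fin.cases_succ] at h2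
          rw [hJ'.1.injective h2]
    have hli : LinearIndependent k φ' :=
      Groth.Agent.Lib.Helper16.LocExp.linearIndependent_of_val_injective P φ' hne hinj
    have hle : Submodule.span k (Set.range φ') ≤ Submodule.span k (Set.range φ) := by
      rw [Submodule.span_le]
      rintro _ ⟨q, rfl⟩
      induction q using Fin.cases with
      | zero => exact heff
      | succ l => exact hgmem l
    haveI : FiniteDimensional k (Submodule.span k (Set.range φ)) :=
      FiniteDimensional.span_of_finite k (Set.finite_range φ)
    apply Submodule.eq_of_le_of_finrank_eq hle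
    rw [finrank_span_eq_card hli, finrank_span_eq_card hφ]
  · simp
  · show evalP P (1 : K) = 1
    rw [Groth.Agent.Lib.Helper16.LocExp.evalP_eq hK P (by simp),
      Groth.Agent.Lib.Helper16.LocExp.rho_one, map_one]
  · intro l
    refine ⟨by simpa using hgval l, ?_⟩
    show evalP P (g l / t ^ J' l) = 1
    rw [Groth.Agent.Lib.Helper16.LocExp.evalP_eq hK P
        (Groth.Agent.Lib.Helper16.LocExp.val_div_pow P ht (hgval l).le),
      ← Groth.Agent.Lib.Helper16.LocExp.a_zero,
      ← Groth.Agent.Lib.Helper16.LocExp.a_shift hK P ht (J' l) (hgval l).le 0, Nat.add_zero, hga l,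
      map_one]
  · intro j
    constructor
    · rintro (rfl | ⟨l, rfl⟩)
      · exact ⟨1, heff, by simp⟩
      · exact ⟨g l, hgmem l, hgval l⟩
    · rintro ⟨f, hf, hfv⟩
      rcases Nat.eq_zero_or_pos j with h0 | hpos
      · exact Or.inl h0
      · right
        exact (hJ'.2 j).mpr
          (Groth.Agent.Lib.Helper16.LocExp.isJump_of_exists hK P ht hHt φ hnorm j hpos hf hfv)

end Groth.Agent.S12607
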