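import Groth.Statements.S8880
import Mathlib.AlgebraicGeometry.Morphisms.QuasiFinite
import Mathlib.AlgebraicGeometry.Morphisms.Integral

set_option autoImplicit false
universe u
open CategoryTheory CategoryTheory.Limits AlgebraicGeometry TopologicalSpace
open SDiv

namespace Groth.Agent.S8880

open Opposite

section QA

variable (X : Scheme.{u})

theorem mem_basicOpen_top_iff (t : Γ(X, ⊤)) (x : X) :
    x ∈ X.basicOpen t ↔ t ∉ (X.toSpecΓ x).asIdeal := by
  rw [← X.toSpecΓ_preimage_basicOpen t]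
  rfl

/-- in a quasi-affine scheme, a finite set of points in an open set is contained in a basic open
of a global function contained in that open set -/
theorem exists_basicOpen_finite [X.IsQuasiAffine] (F : Set X) (hF : F.Finite) (O : X.Opens)
    (hFO : F ⊆ O) : ∃ t : Γ(X, ⊤), F ⊆ X.basicOpen t ∧ X.basicOpen t ≤ O := by
  classical
  have hr : ∀ x : F, ∃ r : Γ(X, ⊤), x.1 ∈ X.basicOpen r ∧ X.basicOpen r ≤ O := by
    intro x
    obtain ⟨_, ⟨_, ⟨r, -, rfl⟩, rfl⟩, hxr, hrO⟩ := (Scheme.IsQuasiAffine.isBasis_basicOpen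
      X).exists_subset_of_mem_open (hFO x.2) O.2
    exact ⟨r, hxr, hrO⟩
  choose r hxr hrO using hr
  set I : Ideal Γ(X, ⊤) := Ideal.span (Set.range r) with hI
  haveI : Fintype F := hF.fintype
  let s : Finset (Ideal Γ(X, ⊤)) := Finset.univ.image (fun x : F => (X.toSpecΓ x.1).asIdeal)
  have hnot : ¬ ((I : Set Γ(X, ⊤)) ⊆ ⋃ i ∈ (↑s : Set (Ideal Γ(X, ⊤))), (id i : Ideal Γ(X, ⊤))) := by
    intro hsub
    obtain ⟨q, hq, hle⟩ := (Ideal.subset_union_prime (f := id) ⊤ ⊤ (fun i hi _ _ => by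
      obtain ⟨x, -, rfl⟩ := Finset.mem_image.1 hi
      exact (X.toSpecΓ x.1).isPrime)).1 hsub
    obtain ⟨x, -, rfl⟩ := Finset.mem_image.1 hq
    have h1 : r x ∈ I := Ideal.subset_span ⟨x, rfl⟩
    exact (mem_basicOpen_top_iff X (r x) x.1).1 (hxr x) (hle h1)
  rw [Set.not_subset] at hnot
  obtain ⟨t, htI, htn⟩ := hnot
  refine ⟨t, fun x hx => ?_, fun x' hx' => ?_⟩
  · rw [SetLike.mem_coe, mem_basicOpen_top_iff]
    intro h
    apply htn
    exact Set.mem_biUnion (show (X.toSpecΓ x).asIdeal ∈ (↑s : Set (Ideal Γ(X, ⊤))) from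
      Finset.mem_image.2 ⟨⟨x, hx⟩, Finset.mem_univ _, rfl⟩) h
  · rw [mem_basicOpen_top_iff] at hx'
    by_contra hO
    apply hx'
    have hle : I ≤ (X.toSpecΓ x').asIdeal := by
      rw [hI, Ideal.span_le]
      rintro _ ⟨x, rfl⟩
      by_contra hn
      exact hO (hrO x ((mem_basicOpen_top_iff X (r x) x').2 hn))
    exact hle htI

end QA

section Norm

variable {X Y : Scheme.{u}} (π : X ⟶ Y) [IsFinite π] {d : ℕ} (N : Nrm.NormOfDegree π d)

include N in
/-- a finite morphism carrying a norm of degree `d ≥ 1` is surjective -/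
theorem surjective_of_norm : Function.Surjective π.base := by
  intro y
  by_contra hy
  have hy' : y ∉ Set.range π.base := fun ⟨x, hx⟩ => hy ⟨x, hx⟩
  have hcl : IsClosed (Set.range π.base) := π.isClosedMap.isClosed_range
  let V' : Y.Opens := ⟨(Set.range π.base)ᶜ, hcl.isOpen_compl⟩
  have hyV : y ∈ V' := hy'
  have hpre : π ⁻¹ᵁ V' = ⊥ := by
    ext x
    simp only [Opens.coe_bot, Set.mem_empty_iff_false, iff_false]
    intro hx
    exact hx ⟨x, rfl⟩
  haveI : Subsingleton Γ(X, π ⁻¹ᵁ V') := by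
    rw [hpre]
    infer_instance
  have h1 := N.norm_app V' 0
  rw [zero_pow (by have := N.one_le; omega), Subsingleton.elim ((π.app V').hom 0) 1, map_one] at h1
  haveI : Nonempty V' := ⟨⟨y, hyV⟩⟩
  haveI : Nontrivial Γ(Y, V') := Y.component_nontrivial V'
  exact one_ne_zero h1

include N in
/-- if `t` is invertible at all points above `y`, its norm is invertible at `y` -/
theorem mem_basicOpen_norm (t : Γ(X, π ⁻¹ᵁ ⊤)) (y : Y)
    (h : π.base ⁻¹' {y} ⊆ X.basicOpen t) : y ∈ Y.basicOpen (N.norm ⊤ t) := by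
  have hcl : IsClosed (π.base '' ((X.basicOpen t : Set X)ᶜ)) :=
    π.isClosedMap _ (X.basicOpen t).2.isClosed_compl
  let V' : Y.Opens := ⟨(π.base '' ((X.basicOpen t : Set X)ᶜ))ᶜ, hcl.isOpen_compl⟩
  have hyV : y ∈ V' := by
    rintro ⟨x, hx, hxy⟩
    exact hx (h hxy)
  have hpre : π ⁻¹ᵁ V' ≤ X.basicOpen t := by
    intro x hx
    by_contra hxt
    exact hx ⟨x, hxt, rfl⟩
  have hunit : IsUnit (X.presheaf.map ((Opens.map π.base).map (homOfLE (le_top : V' ≤ ⊤))).op t) := by
    have h1 : IsUnit ((X.presheaf.map (homOfLE (X.basicOpen_le t)).op).hom t) :=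
      X.toRingedSpace.isUnit_res_basicOpen t
    have h2 := h1.map (X.presheaf.map (homOfLE hpre).op).hom
    rw [← CommRingCat.comp_apply, ← Functor.map_comp] at h2
    exact h2
  have h3 := N.norm_res (homOfLE (le_top : V' ≤ ⊤)) t
  have h4 : IsUnit (Y.presheaf.map (homOfLE (le_top : V' ≤ ⊤)).op (N.norm ⊤ t)) := by
    rw [h3]
    exact hunit.map (N.norm V')
  have h5 := Y.basicOpen_res (N.norm ⊤ t) (homOfLE (le_top : V' ≤ ⊤)).op
  rw [Scheme.basicOpen_of_isUnit _ h4] at h5
  have : V' ≤ Y.basicOpen (N.norm ⊤ t) := by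
    rw [h5]
    exact inf_le_right
  exact this hyV

include N in
/-- the norm of `t` is invertible only at images of points where `t` is invertible -/
theorem preimage_basicOpen_norm_le (t : Γ(X, π ⁻¹ᵁ ⊤)) :
    π ⁻¹ᵁ Y.basicOpen (N.norm ⊤ t) ≤ X.basicOpen t := by
  intro x hx
  by_contra hxt
  have h1 : X.presheaf.germ (π ⁻¹ᵁ ⊤) x trivial t ∈
      IsLocalRing.maximalIdeal (X.presheaf.stalk x) := by
    rw [IsLocalRing.mem_maximalIdeal, mem_nonunits_iff]
    intro hu
    exact hxt ((X.mem_basicOpen t x trivial).2 hu)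
  have h2 := N.norm_mem ⊤ t x trivial h1
  rw [IsLocalRing.mem_maximalIdeal, mem_nonunits_iff] at h2
  exact h2 ((Y.mem_basicOpen (N.norm ⊤ t) (π.base x) trivial).1 hx)

end Norm


/-- Let π : X ⟶ Y be a finite morphism of schemes such that a norm of degree d exists for π, and assume
X is quasi-affine. Then Y is quasi-affine. -/
theorem result {X Y : Scheme.{u}} (π : X ⟶ Y) [IsFinite π] (d : ℕ) (hN : Nrm.HasNorm π d)
    (hX : X.IsQuasiAffine) : Y.IsQuasiAffine := by
  obtain ⟨N⟩ := hN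
  have hsurj := surjective_of_norm π N
  haveI : CompactSpace Y := hsurj.compactSpace π.continuous
  refine Scheme.IsQuasiAffine.of_forall_exists_mem_basicOpen Y fun y => ?_
  obtain ⟨V, hV, hyV, -⟩ := exists_isAffineOpen_mem_and_subset (U := (⊤ : Y.Opens)) (x := y) trivial
  have hfin : (π.base ⁻¹' {y}).Finite := IsFinite.finite_preimage_singleton π y
  obtain ⟨t, hFt, htV⟩ := exists_basicOpen_finite X (π.base ⁻¹' {y}) hfin (π ⁻¹ᵁ V) (by
    intro x hx
    have : π.base x = y := hx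
    change π.base x ∈ V
    rw [this]
    exact hyV)
  refine ⟨N.norm ⊤ t, ?_, mem_basicOpen_norm π N t y hFt⟩
  have hle : Y.basicOpen (N.norm ⊤ t) ≤ V := by
    intro y' hy'
    obtain ⟨x', rfl⟩ := hsurj y'
    exact htV (preimage_basicOpen_norm_le π N t hy')
  have h1 := Y.basicOpen_res (N.norm ⊤ t) (homOfLE (le_top : V ≤ ⊤)).op
  rw [inf_eq_right.2 hle] at h1
  rw [← h1]
  exact hV.basicOpen _

end Groth.Agent.S8880
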