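import Groth.Statements.S19695
import Groth.Agent.Lib.Helper2.QCAlgMod

set_option autoImplicit false
universe u
open CategoryTheory CategoryTheory.Limits AlgebraicGeometry Opposite
open FinCov

namespace Groth.Agent.S19695

open Scheme.Modules Groth.Agent.Lib.Helper2.QCAlgMod

/-- On an affine open where `A` has a basis of `d` elements, structure map then trace is `d •`. -/
theorem trace_str {X : Scheme.{u}} (A : RelSpec.QCAlg X) (d : ℕ)
    (τ : A.toModule ⟶ Coh.structureModule X) (hτ : FinCov.IsTrace A τ)
    (U : X.Opens) (hU : IsAffineOpen U)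
    (e : Γ(A.toModule, U) ≃ₗ[Γ(X, U)] (Fin d → Γ(X, U))) (s : Γ(X, U)) :
    (τ.val.app (op U)).hom ((A.str.app (op U)).hom s) = d • s := by
  let _ : Algebra Γ(X, U) (A.presheaf.obj (op U)) := (A.str.app (op U)).hom.toAlgebra
  let e' : (A.presheaf.obj (op U)) ≃ₗ[Γ(X, U)] (Fin d → Γ(X, U)) := e
  let b : Module.Basis (Fin d) Γ(X, U) (A.presheaf.obj (op U)) := Module.Basis.ofEquivFun e'
  have hfree : Module.Free Γ(X, U) (A.presheaf.obj (op U)) := Module.Free.of_basis b
  have hfin : Module.Finite Γ(X, U) (A.presheaf.obj (op U)) := Module.Finite.of_basis b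
  have h1 := hτ U hU hfree hfin ((A.str.app (op U)).hom s)
  rw [h1]
  have h2 := Algebra.trace_algebraMap_of_basis b s
  rw [Fintype.card_fin] at h2
  exact h2


theorem nsmul_app {X : Scheme.{u}} {M N : X.Modules} (φ : M ⟶ N) (d : ℕ) (U : X.Opens)
    (s : Γ(M, U)) : (d • φ).app U s = d • φ.app U s := by
  induction d with
  | zero => simp
  | succ n ih => rw [succ_nsmul, succ_nsmul, Hom.add_app]; simp [ih]


/-- Let X be a scheme, A a quasi-coherent O_X-algebra which is locally free of rank d as an O_X-module,
and τ : A → O_X its trace (the O_X-linear map which over every affine open where A is finite free is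
the trace of the regular representation). Then the structure map O_X → A followed by τ equals
multiplication by d on O_X. -/
theorem result {X : Scheme.{u}} (A : RelSpec.QCAlg X) (d : ℕ)
    (hA : FlatMod.IsFinLocFreeOfRank d A.toModule)
    (τ : A.toModule ⟶ Coh.structureModule X) (hτ : FinCov.IsTrace A τ) :
    FinCov.strMod A ≫ τ = d • 𝟙 (Coh.structureModule X) := by
  have := toModule_isQuasicoherent A
  apply hom_ext_of_local
  intro x
  obtain ⟨V, hxV, hV⟩ := exists_equiv_of_isFinLocFreeOfRank A.toModule d hA x
  refine ⟨V, hxV, fun U hUV hU => ?_⟩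
  obtain ⟨e⟩ := hV U hUV hU
  ext s
  rw [nsmul_app]
  exact trace_str A d τ hτ U hU e s

end Groth.Agent.S19695
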