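import Groth.Statements.S19696
import Groth.Agent.S19695
import Groth.Agent.Lib.Helper2.SmulEnd
import Groth.Agent.Lib.Helper21.QCohSections
import Groth.Agent.Lib.Helper29.QCohUnit

set_option autoImplicit false
universe u
open CategoryTheory CategoryTheory.Limits AlgebraicGeometry Opposite
open FinCov

namespace Groth.Agent.S19696

open Scheme.Modules Groth.Agent.Lib.Helper2.QCAlgMod Groth.Agent.Lib.Helper2.KerSec
  Groth.Agent.Lib.Helper2.LocFreeAff Groth.Agent.Lib.Helper21.QCohSections

theorem ker_of_split {R P : Type u} [CommRing R] [AddCommGroup P] [Module R P] (d : ℕ)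
    (e : P ≃ₗ[R] (Fin d → R)) (τ : P →ₗ[R] R) (σ : R →ₗ[R] P) (h : τ ∘ₗ σ = LinearMap.id) :
    Module.Finite R (LinearMap.ker τ) ∧ Module.Projective R (LinearMap.ker τ) ∧
      ∀ p : PrimeSpectrum R, Module.rankAtStalk (LinearMap.ker τ) p = d - 1 := by
  have hτσ : ∀ r, τ (σ r) = r := fun r => LinearMap.congr_fun h r
  let π : P →ₗ[R] LinearMap.ker τ :=
    LinearMap.codRestrict (LinearMap.ker τ) (LinearMap.id - σ ∘ₗ τ) (fun x => by
      simp [LinearMap.mem_ker, hτσ])
  have hπ : π ∘ₗ (LinearMap.ker τ).subtype = LinearMap.id := by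
    ext ⟨k, hk⟩
    have : τ k = 0 := hk
    simp [π, this]
  have : Module.Free R P := Module.Free.of_equiv e.symm
  have : Module.Finite R P := Module.Finite.equiv e.symm
  have hfin : Module.Finite R (LinearMap.ker τ) := by
    apply Module.Finite.of_surjective π
    intro k
    exact ⟨k.1, LinearMap.congr_fun hπ k⟩
  have hproj : Module.Projective R (LinearMap.ker τ) :=
    Module.Projective.of_split (LinearMap.ker τ).subtype π hπ
  refine ⟨hfin, hproj, fun p => ?_⟩
  have : Nontrivial R := p.nontrivial
  let f : P ≃ₗ[R] (LinearMap.ker τ × R) :=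
    LinearEquiv.ofLinearMap (π.prod τ) ((LinearMap.ker τ).subtype.coprod σ)
      (by
        apply LinearMap.ext
        rintro ⟨⟨k, hk⟩, r⟩
        have hk' : τ k = 0 := hk
        ext <;> simp [π, hτσ, hk'])
      (by
        ext x
        simp [π])
  have h1 : Module.rankAtStalk P p = d := by
    rw [Module.rankAtStalk_eq_of_equiv e, Module.rankAtStalk_eq_finrank_of_free]
    simp
  have h2 : Module.rankAtStalk P p = Module.rankAtStalk (LinearMap.ker τ) p + 1 := by
    rw [Module.rankAtStalk_eq_of_equiv f, Module.rankAtStalk_prod]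
    simp
  omega


theorem structureModule_isQuasicoherent (X : Scheme.{u}) :
    (Coh.structureModule X).IsQuasicoherent :=
  (Groth.Agent.Lib.Lead.QCohCrit.isQuasicoherent_iff_locOn _).2 (fun _ hU =>
    ⟨(Groth.Agent.Lib.Helper29.QCohLoc.locAt_structureModule X hU).kill,
      (Groth.Agent.Lib.Helper29.QCohLoc.locAt_structureModule X hU).ext⟩)



/-- Let X be a scheme, A a quasi-coherent O_X-algebra which is locally free of rank d as an O_X-module,
and τ : A → O_X its trace (the O_X-linear map which over every affine open where A is finite free is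
the trace of the regular representation). If d is invertible in O_X(X), then τ is a split
epimorphism of O_X-modules — so 0 → ker τ → A → O_X → 0 is split exact — and its kernel ker τ is
locally free of rank d − 1 as an O_X-module. -/
theorem result {X : Scheme.{u}}
    (A : RelSpec.QCAlg X) (d : ℕ) (hA : FlatMod.IsFinLocFreeOfRank d A.toModule)
    (τ : A.toModule ⟶ Coh.structureModule X) (hτ : FinCov.IsTrace A τ)
    (hd : IsUnit ((d : Γ(X, ⊤)))) :
    IsSplitEpi τ ∧ FlatMod.IsFinLocFreeOfRank (d - 1) (kernel τ) := by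
  have hq := toModule_isQuasicoherent A
  have hO := structureModule_isQuasicoherent X
  obtain ⟨c, hc⟩ := hd.exists_right_inv
  let σ : Coh.structureModule X ⟶ A.toModule := smulEnd c _ ≫ strMod A
  have hστ : σ ≫ τ = 𝟙 _ := by
    rw [Category.assoc, Groth.Agent.S19695.result A d hA τ hτ]
    apply Scheme.Modules.hom_ext
    intro U
    ext s
    rw [Hom.comp_app]
    change (d • 𝟙 (Coh.structureModule X)).app U ((smulEnd c _).app U s) = s
    rw [Groth.Agent.S19695.nsmul_app, Hom.id_app, smulEnd_app]
    change d • (resTop c U * (show Γ(X, U) from s)) = s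
    have h1 : (d : Γ(X, U)) * resTop c U = 1 := by
      have := congrArg (fun t => resTop t U) hc
      simpa [resTop] using this
    rw [nsmul_eq_mul, ← mul_assoc, h1, one_mul]
  refine ⟨⟨⟨σ, hστ⟩⟩, ?_⟩
  have hK : (kernel τ).IsQuasicoherent := isQuasicoherent_kernel τ
  apply isFinLocFreeOfRank_of_projective
  intro x
  obtain ⟨V, hxV, hV⟩ := exists_equiv_of_isFinLocFreeOfRank A.toModule d hA x
  obtain ⟨_, ⟨U, hU : IsAffineOpen U, rfl⟩, hxU, hUV⟩ :=
    (X.isBasis_affineOpens).exists_subset_of_mem_open hxV V.2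
  obtain ⟨e⟩ := hV U hUV hU
  refine ⟨U, hU, hxU, ?_⟩
  have hcomp : (appL τ U) ∘ₗ (appL σ U) = LinearMap.id := by
    apply LinearMap.ext
    intro s
    have := congr($(congrArg (fun ψ : Coh.structureModule X ⟶ Coh.structureModule X => ψ.app U) hστ) s)
    simpa using this
  obtain ⟨hfin, hproj, hrank⟩ := ker_of_split d e (appL τ U) (appL σ U) hcomp
  let g0 : Γ(kernel τ, U) →ₗ[Γ(X, U)] LinearMap.ker (appL τ U) :=
    LinearMap.codRestrict _ (appL (kernel.ι τ) U) (fun k => app_kernelι_comp τ U k)
  have hg0 : Function.Bijective g0 := by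
    constructor
    · intro a b hab
      apply app_kernelι_injective τ U
      exact congrArg Subtype.val hab
    · rintro ⟨k, hk⟩
      obtain ⟨t, ht⟩ := exists_of_app_eq_zero τ U k hk
      exact ⟨t, Subtype.ext ht⟩
  let g := LinearEquiv.ofBijective g0 hg0
  have hfin' : Module.Finite Γ(X, U) (LinearMap.ker (appL τ U)) := hfin
  have hproj' : Module.Projective Γ(X, U) (LinearMap.ker (appL τ U)) := hproj
  exact ⟨Module.Finite.equiv g.symm, Module.Projective.of_equiv g.symm, by
    rw [Module.rankAtStalk_eq_of_equiv g]; exact hrank _⟩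

end Groth.Agent.S19696
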