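import Groth.Statements.S19692
import Groth.Agent.Lib.Helper2.FinrankAff
import Groth.Agent.Lib.Helper2.QCAlgMod
import Groth.Agent.Lib.Helper2.KerSec
import Groth.Agent.Lib.Helper2.LocFreeAff
import Groth.Agent.S19696

set_option autoImplicit false
universe u
open CategoryTheory CategoryTheory.Limits AlgebraicGeometry Opposite
open FinCov

namespace Groth.Agent.S19692

open Groth.Agent.Lib.Helper2.QCAlgMod Groth.Agent.Lib.Helper2.FinrankAff
  Groth.Agent.Lib.Helper2.KerSec Groth.Agent.Lib.Helper2.LocFreeAff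

/-- sections of `f_* O_X` over `U`, as a `Γ(Y, U)`-module, are `Γ(X, f⁻¹U)` -/
noncomputable def pushEquiv {X Y : Scheme.{u}} (f : X ⟶ Y) (U : Y.Opens) :
    letI : Algebra Γ(Y, U) Γ(X, f ⁻¹ᵁ U) := (f.app U).hom.toAlgebra
    Γ((Scheme.Modules.pushforward f).obj (Coh.structureModule X), U) ≃ₗ[Γ(Y, U)] Γ(X, f ⁻¹ᵁ U) :=
  letI : Algebra Γ(Y, U) Γ(X, f ⁻¹ᵁ U) := (f.app U).hom.toAlgebra
  { toFun := fun t => t
    invFun := fun t => t
    map_add' := fun _ _ => rfl
    map_smul' := fun _ _ => rfl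
    left_inv := fun _ => rfl
    right_inv := fun _ => rfl }

theorem isCover_of_local_free {X Y : Scheme.{u}} (f : X ⟶ Y) [IsAffineHom f] (d : ℕ)
    (key : ∀ y : Y, ∃ (U : Y.Opens) (hU : IsAffineOpen U) (_ : y ∈ U),
      letI : Algebra Γ(Y, U) Γ(X, f ⁻¹ᵁ U) := (f.app U).hom.toAlgebra
      Nonempty (Γ(X, f ⁻¹ᵁ U) ≃ₗ[Γ(Y, U)] (Fin d → Γ(Y, U)))) : FinCov.IsCover f d := by
  have hfin : IsFinite f := by
    refine of_forall_isPullback_fromSpec @IsFinite f fun x => ?_
    obtain ⟨U, hU, hxU, ⟨e⟩⟩ := key x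
    refine ⟨U, hU, hxU, _, f.app U, _, isPullback_fromSpec_of_isAffineHom f hU, ?_⟩
    rw [IsFinite.SpecMap_iff]
    letI : Algebra Γ(Y, U) Γ(X, f ⁻¹ᵁ U) := (f.app U).hom.toAlgebra
    exact Module.Finite.equiv e.symm
  have hflat : Flat f := by
    refine of_forall_isPullback_fromSpec @Flat f fun x => ?_
    obtain ⟨U, hU, hxU, ⟨e⟩⟩ := key x
    refine ⟨U, hU, hxU, _, f.app U, _, isPullback_fromSpec_of_isAffineHom f hU, ?_⟩
    rw [Flat.SpecMap_iff]
    letI : Algebra Γ(Y, U) Γ(X, f ⁻¹ᵁ U) := (f.app U).hom.toAlgebra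
    exact Module.Flat.of_linearEquiv e
  have hfp : LocallyOfFinitePresentation f := by
    refine of_forall_isPullback_fromSpec @LocallyOfFinitePresentation f fun x => ?_
    obtain ⟨U, hU, hxU, ⟨e⟩⟩ := key x
    refine ⟨U, hU, hxU, _, f.app U, _, isPullback_fromSpec_of_isAffineHom f hU, ?_⟩
    rw [LocallyOfFinitePresentation.SpecMap_iff]
    letI : Algebra Γ(Y, U) Γ(X, f ⁻¹ᵁ U) := (f.app U).hom.toAlgebra
    haveI : Module.FinitePresentation Γ(Y, U) Γ(X, f ⁻¹ᵁ U) :=
      Module.FinitePresentation.of_equiv e.symm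
    exact (inferInstance : Algebra.FinitePresentation Γ(Y, U) Γ(X, f ⁻¹ᵁ U))
  refine ⟨⟨hfin, hflat, hfp⟩, fun x => ?_⟩
  obtain ⟨U, hU, hxU, ⟨e⟩⟩ := key x
  rw [finrank_eq_finrank_app f hU x hxU]
  letI : Algebra Γ(Y, U) Γ(X, f ⁻¹ᵁ U) := (f.app U).hom.toAlgebra
  haveI : Nontrivial Γ(Y, U) := (hU.primeIdealOf ⟨x, hxU⟩).nontrivial
  haveI : Module.Free Γ(Y, U) Γ(X, f ⁻¹ᵁ U) := Module.Free.of_equiv e.symm
  change Module.rankAtStalk (R := Γ(Y, U)) Γ(X, f ⁻¹ᵁ U) _ = d
  rw [Module.rankAtStalk_eq_finrank_of_free, Pi.natCast_def, e.finrank_eq, Module.finrank_fin_fun]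
  rfl


/-- A morphism of schemes f : X → Y is a cover of degree d — finite, flat, locally of finite
presentation and of rank d at every point of Y — if and only if f is affine and the direct image
f_*O_X is locally free of rank d as an O_Y-module, i.e. every point of Y has an open neighbourhood
over which f_*O_X is isomorphic to the direct sum of d copies of the structure sheaf. This is the
object-level content of the equivalence between degree-d covers of Y and O_Y-algebras locally free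
of rank d. -/
theorem result {X Y : Scheme.{u}} (f : X ⟶ Y) (d : ℕ) :
    FinCov.IsCover f d ↔
      IsAffineHom f ∧ FlatMod.IsFinLocFreeOfRank d ((Scheme.Modules.pushforward f).obj (Coh.structureModule X)) := by
  haveI := Groth.Agent.S19696.structureModule_isQuasicoherent X
  constructor
  · rintro ⟨⟨hfin, hflat, hfp⟩, hrank⟩
    refine ⟨inferInstance, ?_⟩
    haveI := isQuasicoherent_pushforward_of_qcqs f (Coh.structureModule X)
    apply isFinLocFreeOfRank_of_projective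
    intro y
    obtain ⟨_, ⟨U, hU : IsAffineOpen U, rfl⟩, hyU, -⟩ :=
      (Y.isBasis_affineOpens).exists_subset_of_mem_open (Set.mem_univ y) isOpen_univ
    refine ⟨U, hU, hyU, ?_⟩
    letI : Algebra Γ(Y, U) Γ(X, f ⁻¹ᵁ U) := (f.app U).hom.toAlgebra
    have h1 : Module.Finite Γ(Y, U) Γ(X, f ⁻¹ᵁ U) := IsFinite.finite_app f U hU
    have h2 : Module.Flat Γ(Y, U) Γ(X, f ⁻¹ᵁ U) := by
      have := HasRingHomProperty.appLE @Flat f hflat ⟨U, hU⟩ ⟨f ⁻¹ᵁ U, hU.preimage f⟩ le_rfl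
      rwa [Scheme.Hom.appLE_eq_app] at this
    have h3 : Algebra.FinitePresentation Γ(Y, U) Γ(X, f ⁻¹ᵁ U) := by
      have := HasRingHomProperty.appLE @LocallyOfFinitePresentation f hfp ⟨U, hU⟩
        ⟨f ⁻¹ᵁ U, hU.preimage f⟩ le_rfl
      rwa [Scheme.Hom.appLE_eq_app] at this
    have h4 : Module.FinitePresentation Γ(Y, U) Γ(X, f ⁻¹ᵁ U) :=
      Module.FinitePresentation.of_finite_of_finitePresentation _ _
    have h5 : Module.Projective Γ(Y, U) Γ(X, f ⁻¹ᵁ U) :=
      Module.Flat.projective_of_finitePresentation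
    refine ⟨Module.Finite.equiv (pushEquiv f U).symm,
      Module.Projective.of_equiv (pushEquiv f U).symm, ?_⟩
    rw [Module.rankAtStalk_eq_of_equiv (pushEquiv f U), ← hrank y, finrank_eq_finrank_app f hU y hyU]
    rfl
  · rintro ⟨haff, hfree⟩
    haveI := isQuasicoherent_pushforward_of_qcqs f (Coh.structureModule X)
    apply isCover_of_local_free
    intro y
    obtain ⟨V, hyV, hV⟩ := exists_equiv_of_isFinLocFreeOfRank _ d hfree y
    obtain ⟨_, ⟨U, hU : IsAffineOpen U, rfl⟩, hyU, hUV⟩ :=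
      (Y.isBasis_affineOpens).exists_subset_of_mem_open hyV V.2
    obtain ⟨e⟩ := hV U hUV hU
    exact ⟨U, hU, hyU, ⟨(pushEquiv f U).symm.trans e⟩⟩

end Groth.Agent.S19692
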