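import Groth.Statements.S19694
import Mathlib.RingTheory.Localization.NormTrace
import Groth.Agent.Lib.Helper2.HomGlue
import Groth.Agent.Lib.Helper2.QCAlgMod

set_option autoImplicit false
universe u
open CategoryTheory CategoryTheory.Limits AlgebraicGeometry Opposite
open FinCov

namespace Groth.Agent.S19694

open Groth.Agent.Lib.Helper2.QCAlgMod Groth.Agent.Lib.Helper2.HomGlue
  Groth.Agent.Lib.Lead.SheafGlue

theorem trace_loc {R S R' S' : Type u} [CommRing R] [CommRing S] [CommRing R'] [CommRing S']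
    (φ : R →+* S) (φ' : R' →+* S') (ρ : R →+* R') (σ : S →+* S')
    (hcomm : σ.comp φ = φ'.comp ρ) (f : R)
    (hR : @IsLocalization.Away _ _ f R' _ ρ.toAlgebra)
    (hS : @IsLocalization.Away _ _ (φ f) S' _ σ.toAlgebra)
    (hfree : @Module.Free R S _ _ φ.toAlgebra.toModule)
    (hfin : @Module.Finite R S _ _ φ.toAlgebra.toModule) (a : S) :
    (@Module.Free R' S' _ _ φ'.toAlgebra.toModule ∧ @Module.Finite R' S' _ _ φ'.toAlgebra.toModule) ∧
      @Algebra.trace R' S' _ _ φ'.toAlgebra (σ a) = ρ (@Algebra.trace R S _ _ φ.toAlgebra a) := by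
  letI : Algebra R S := φ.toAlgebra
  letI : Algebra R' S' := φ'.toAlgebra
  letI : Algebra R R' := ρ.toAlgebra
  letI : Algebra S S' := σ.toAlgebra
  letI : Algebra R S' := (φ'.comp ρ).toAlgebra
  haveI : IsScalarTower R R' S' := IsScalarTower.of_algebraMap_eq (fun x => rfl)
  haveI : IsScalarTower R S S' := IsScalarTower.of_algebraMap_eq (fun x => by
    exact (RingHom.congr_fun hcomm x).symm)
  haveI : IsLocalization (Submonoid.powers f) R' := hR
  haveI : IsLocalization (Algebra.algebraMapSubmonoid S (Submonoid.powers f)) S' := by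
    rw [Algebra.algebraMapSubmonoid_powers]
    exact hS
  classical
  let b := Module.Free.chooseBasis R S
  let b' := b.localizationLocalization R' (Submonoid.powers f) S'
  refine ⟨⟨Module.Free.of_basis b', Module.Finite.of_basis b'⟩, ?_⟩
  exact Algebra.trace_localization R (Submonoid.powers f) a

section

variable {X : Scheme.{u}} (A : RelSpec.QCAlg X)

/-- `A(W)` is finite free over the affine open `W`. -/
def Good (W : X.Opens) : Prop :=
  IsAffineOpen W ∧
    @Module.Free Γ(X, W) (A.presheaf.obj (op W)) _ _ (A.str.app (op W)).hom.toAlgebra.toModule ∧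
    @Module.Finite Γ(X, W) (A.presheaf.obj (op W)) _ _ (A.str.app (op W)).hom.toAlgebra.toModule

/-- the local trace -/
noncomputable def tr (W : X.Opens) (a : A.presheaf.obj (op W)) : Γ(X, W) :=
  @Algebra.trace Γ(X, W) (A.presheaf.obj (op W)) _ _ (A.str.app (op W)).hom.toAlgebra a

/-- traces are compatible with restriction to a basic open -/
theorem tr_res_basicOpen {W : X.Opens} (hW : Good A W) (f : Γ(X, W)) (D : X.Opens)
    (hD : D = X.basicOpen f) (hDW : D ≤ W) (a : A.presheaf.obj (op W)) :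
    Good A D ∧ tr A D ((A.presheaf.map (homOfLE hDW).op).hom a) =
      (X.presheaf.map (homOfLE hDW).op).hom (tr A W a) := by
  subst hD
  have h := trace_loc (A.str.app (op W)).hom (A.str.app (op (X.basicOpen f))).hom
    (X.presheaf.map (homOfLE hDW).op).hom (A.presheaf.map (homOfLE hDW).op).hom
    (by
      ext r
      exact (str_res A (homOfLE hDW) r).symm) f
    (hW.1.isLocalization_basicOpen f) (A.isQC W hW.1 f) hW.2.1 hW.2.2 a
  exact ⟨⟨hW.1.basicOpen f, h.1.1, h.1.2⟩, h.2⟩

/-- traces are compatible with restriction between good opens -/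
theorem tr_res {W W' : X.Opens} (hW : Good A W) (hW' : Good A W') (h : W' ≤ W)
    (a : A.presheaf.obj (op W)) :
    tr A W' ((A.presheaf.map (homOfLE h).op).hom a) =
      (X.presheaf.map (homOfLE h).op).hom (tr A W a) := by
  apply eq_of_locally_eq_ptsX
  intro z hz
  obtain ⟨f, g, hfg, hzf⟩ := exists_basicOpen_le_affine_inter hW.1 hW'.1 z ⟨h hz, hz⟩
  have hDW' : X.basicOpen g ≤ W' := X.basicOpen_le g
  refine ⟨X.basicOpen g, hDW', hfg ▸ hzf, ?_⟩
  have h1 := (tr_res_basicOpen A hW f (X.basicOpen g) hfg.symm (hDW'.trans h) a).2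
  have h2 := (tr_res_basicOpen A hW' g (X.basicOpen g) rfl hDW'
    ((A.presheaf.map (homOfLE h).op).hom a)).2
  have h3 : (A.presheaf.map (homOfLE hDW').op).hom ((A.presheaf.map (homOfLE h).op).hom a) =
      (A.presheaf.map (homOfLE (hDW'.trans h)).op).hom a := by
    rw [← CommRingCat.comp_apply, ← Functor.map_comp]
    rfl
  have h4 : (X.presheaf.map (homOfLE hDW').op).hom ((X.presheaf.map (homOfLE h).op).hom (tr A W a)) =
      (X.presheaf.map (homOfLE (hDW'.trans h)).op).hom (tr A W a) := by
    rw [← CommRingCat.comp_apply, ← Functor.map_comp]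
    rfl
  rw [h3] at h2
  exact (h2.symm.trans h1).trans h4.symm

theorem good_basis (hA : FlatMod.IsFinLocFree A.toModule) (U : X.Opens) (x : X) (hx : x ∈ U) :
    ∃ W, Good A W ∧ x ∈ W ∧ W ≤ U := by
  haveI := toModule_isQuasicoherent A
  obtain ⟨V, d, hxV, hV⟩ := exists_equiv_of_isFinLocFree A.toModule hA x
  obtain ⟨_, ⟨W, hW : IsAffineOpen W, rfl⟩, hxW, hWle⟩ :=
    (X.isBasis_affineOpens).exists_subset_of_mem_open (show x ∈ ((U ⊓ V : X.Opens) : Set X) from
      ⟨hx, hxV⟩) (U ⊓ V).2
  have hWU : W ≤ U := fun y hy => (hWle hy).1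
  have hWV : W ≤ V := fun y hy => (hWle hy).2
  obtain ⟨e⟩ := hV W hWV hW
  letI : Algebra Γ(X, W) (A.presheaf.obj (op W)) := (A.str.app (op W)).hom.toAlgebra
  let e' : (A.presheaf.obj (op W)) ≃ₗ[Γ(X, W)] (Fin d → Γ(X, W)) := e
  exact ⟨W, ⟨hW, Module.Free.of_equiv e'.symm, Module.Finite.equiv e'.symm⟩, hxW, hWU⟩

theorem exists_trace (hA : FlatMod.IsFinLocFree A.toModule) :
    ∃ τ : A.toModule ⟶ Coh.structureModule X, FinCov.IsTrace A τ := by
  obtain ⟨τ, hτ⟩ := exists_hom (M := A.toModule) (N := Coh.structureModule X) (good := Good A)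
    (t := fun W _ a => tr A W a) (good_basis A hA)
    (fun W hW a b => by
      letI : Algebra Γ(X, W) (A.presheaf.obj (op W)) := (A.str.app (op W)).hom.toAlgebra
      exact (Algebra.trace Γ(X, W) (A.presheaf.obj (op W))).map_add a b)
    (fun W hW r a => by
      letI : Algebra Γ(X, W) (A.presheaf.obj (op W)) := (A.str.app (op W)).hom.toAlgebra
      exact (Algebra.trace Γ(X, W) (A.presheaf.obj (op W))).map_smul r a)
    (fun W W' hW hW' h a => (tr_res A hW hW' h a).symm)
  refine ⟨τ, fun U hU hfree hfin a => ?_⟩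
  exact hτ U ⟨hU, hfree, hfin⟩ a

end


/-- Let X be a scheme and A a quasi-coherent O_X-algebra which is finite locally free as an O_X-module
(the rank may vary). Then exactly one O_X-linear map τ : A → O_X has the following property: over
each affine open U of X with A(U) finite free over O_X(U), the component τ_U is the trace map of the
algebra A(U) over O_X(U) (the trace of multiplication, computed in any basis). -/
theorem result {X : Scheme.{u}} (A : RelSpec.QCAlg X)
    (hA : FlatMod.IsFinLocFree A.toModule) :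
    ∃! τ : A.toModule ⟶ Coh.structureModule X, FinCov.IsTrace A τ := by
  obtain ⟨τ, hτ⟩ := exists_trace A hA
  refine ⟨τ, hτ, fun τ' hτ' => ?_⟩
  apply hom_ext_of_local
  intro x
  obtain ⟨W, hW, hxW, -⟩ := good_basis A hA ⊤ x trivial
  haveI := toModule_isQuasicoherent A
  obtain ⟨V, d, hxV, hV⟩ := exists_equiv_of_isFinLocFree A.toModule hA x
  refine ⟨V, hxV, fun U hUV hU => ?_⟩
  obtain ⟨e⟩ := hV U hUV hU
  letI : Algebra Γ(X, U) (A.presheaf.obj (op U)) := (A.str.app (op U)).hom.toAlgebra
  let e' : (A.presheaf.obj (op U)) ≃ₗ[Γ(X, U)] (Fin d → Γ(X, U)) := e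
  ext a
  exact (hτ' U hU (Module.Free.of_equiv e'.symm) (Module.Finite.equiv e'.symm) a).trans
    (hτ U hU (Module.Free.of_equiv e'.symm) (Module.Finite.equiv e'.symm) a).symm

end Groth.Agent.S19694
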