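import Groth.Statements.S8878
import Mathlib.RingTheory.Localization.NormTrace
import Groth.Agent.S19694
import Groth.Agent.S19692

set_option autoImplicit false
universe u
open CategoryTheory CategoryTheory.Limits AlgebraicGeometry TopologicalSpace
open SDiv

namespace Groth.Agent.S8878

open Opposite
open Groth.Agent.Lib.Helper2.QCAlgMod Groth.Agent.Lib.Helper2.HomGlue
  Groth.Agent.Lib.Lead.SheafGlue Groth.Agent.S19694

theorem norm_loc {R S R' S' : Type u} [CommRing R] [CommRing S] [CommRing R'] [CommRing S']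
    (φ : R →+* S) (φ' : R' →+* S') (ρ : R →+* R') (σ : S →+* S')
    (hcomm : σ.comp φ = φ'.comp ρ) (f : R)
    (hR : @IsLocalization.Away _ _ f R' _ ρ.toAlgebra)
    (hS : @IsLocalization.Away _ _ (φ f) S' _ σ.toAlgebra)
    (hfree : @Module.Free R S _ _ φ.toAlgebra.toModule)
    (hfin : @Module.Finite R S _ _ φ.toAlgebra.toModule) (a : S) :
    @Algebra.norm R' S' _ _ φ'.toAlgebra (σ a) = ρ (@Algebra.norm R S _ _ φ.toAlgebra a) := by
  letI : Algebra R S := φ.toAlgebra
  letI : Algebra R' S' := φ'.toAlgebra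
  letI : Algebra R R' := ρ.toAlgebra
  letI : Algebra S S' := σ.toAlgebra
  letI : Algebra R S' := (φ'.comp ρ).toAlgebra
  haveI : IsScalarTower R R' S' := IsScalarTower.of_algebraMap_eq (fun x => rfl)
  haveI : IsScalarTower R S S' := IsScalarTower.of_algebraMap_eq (fun x => by
    exact (RingHom.congr_fun hcomm x).symm)
  haveI : IsLocalization (Submonoid.powers f) R' := hR
  haveI : IsLocalization (Algebra.algebraMapSubmonoid S (Submonoid.powers f)) S' := by
    rw [Algebra.algebraMapSubmonoid_powers]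
    exact hS
  exact Algebra.norm_localization R (Submonoid.powers f) a

section

variable {X : Scheme.{u}} (A : RelSpec.QCAlg X)

/-- the local norm -/
noncomputable def nm (W : X.Opens) (a : A.presheaf.obj (op W)) : Γ(X, W) :=
  @Algebra.norm Γ(X, W) (A.presheaf.obj (op W)) _ _ (A.str.app (op W)).hom.toAlgebra a

theorem nm_one (W : X.Opens) : nm A W 1 = 1 :=
  (@Algebra.norm Γ(X, W) (A.presheaf.obj (op W)) _ _ (A.str.app (op W)).hom.toAlgebra).map_one

theorem nm_mul (W : X.Opens) (a b : A.presheaf.obj (op W)) : nm A W (a * b) = nm A W a * nm A W b :=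
  (@Algebra.norm Γ(X, W) (A.presheaf.obj (op W)) _ _ (A.str.app (op W)).hom.toAlgebra).map_mul a b

/-- norms are compatible with restriction to a basic open -/
theorem nm_res_basicOpen {W : X.Opens} (hW : Good A W) (f : Γ(X, W)) (D : X.Opens)
    (hD : D = X.basicOpen f) (hDW : D ≤ W) (a : A.presheaf.obj (op W)) :
    nm A D ((A.presheaf.map (homOfLE hDW).op).hom a) =
      (X.presheaf.map (homOfLE hDW).op).hom (nm A W a) := by
  subst hD
  exact norm_loc (A.str.app (op W)).hom (A.str.app (op (X.basicOpen f))).hom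
    (X.presheaf.map (homOfLE hDW).op).hom (A.presheaf.map (homOfLE hDW).op).hom
    (by
      ext r
      exact (str_res A (homOfLE hDW) r).symm) f
    (hW.1.isLocalization_basicOpen f) (A.isQC W hW.1 f) hW.2.1 hW.2.2 a

/-- norms are compatible with restriction between good opens -/
theorem nm_res {W W' : X.Opens} (hW : Good A W) (hW' : Good A W') (h : W' ≤ W)
    (a : A.presheaf.obj (op W)) :
    nm A W' ((A.presheaf.map (homOfLE h).op).hom a) =
      (X.presheaf.map (homOfLE h).op).hom (nm A W a) := by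
  apply eq_of_locally_eq_ptsX
  intro z hz
  obtain ⟨f, g, hfg, hzf⟩ := exists_basicOpen_le_affine_inter hW.1 hW'.1 z ⟨h hz, hz⟩
  have hDW' : X.basicOpen g ≤ W' := X.basicOpen_le g
  refine ⟨X.basicOpen g, hDW', hfg ▸ hzf, ?_⟩
  have h1 := nm_res_basicOpen A hW f (X.basicOpen g) hfg.symm (hDW'.trans h) a
  have h2 := nm_res_basicOpen A hW' g (X.basicOpen g) rfl hDW'
    ((A.presheaf.map (homOfLE h).op).hom a)
  have h3 : (A.presheaf.map (homOfLE hDW').op).hom ((A.presheaf.map (homOfLE h).op).hom a) =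
      (A.presheaf.map (homOfLE (hDW'.trans h)).op).hom a := by
    rw [← CommRingCat.comp_apply, ← Functor.map_comp]
    rfl
  have h4 : (X.presheaf.map (homOfLE hDW').op).hom ((X.presheaf.map (homOfLE h).op).hom (nm A W a)) =
      (X.presheaf.map (homOfLE (hDW'.trans h)).op).hom (nm A W a) := by
    rw [← CommRingCat.comp_apply, ← Functor.map_comp]
    rfl
  rw [h3] at h2
  exact (h2.symm.trans h1).trans h4.symm

/-- The glued norm: a multiplicative map on all opens, compatible with restriction, equal to the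
algebra norm on good affine opens. -/
theorem exists_norm (hbasis : ∀ (U : X.Opens) (x : X), x ∈ U → ∃ W, Good A W ∧ x ∈ W ∧ W ≤ U) :
    ∃ N : ∀ U : X.Opens, A.presheaf.obj (op U) →* Γ(X, U),
      (∀ (U V : X.Opens) (h : V ≤ U) (a : A.presheaf.obj (op U)),
        (X.presheaf.map (homOfLE h).op).hom (N U a) = N V ((A.presheaf.map (homOfLE h).op).hom a)) ∧
      ∀ (W : X.Opens) (_ : Good A W) (a : A.presheaf.obj (op W)), N W a = nm A W a := by
  classical
  have compat : ∀ (W W' : X.Opens) (hW : Good A W) (hW' : Good A W') (h : W' ≤ W)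
      (a : Γ(A.toModule, W)),
      (Coh.structureModule X).presheaf.map (homOfLE h).op (nm A W a) =
        nm A W' (A.toModule.presheaf.map (homOfLE h).op a) :=
    fun W W' hW hW' h a => (nm_res A hW hW' h a).symm
  let g : ∀ (U : X.Opens), A.presheaf.obj (op U) → Γ(X, U) := fun U a =>
    (exists_isGlued (M := A.toModule) (N := Coh.structureModule X) (good := Good A)
      (t := fun W _ a => nm A W a) hbasis compat U a).choose
  have hg : ∀ U a, IsGlued A.toModule (Coh.structureModule X) (Good A) (fun W _ a => nm A W a)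
      U a (g U a) := fun U a =>
    (exists_isGlued (M := A.toModule) (N := Coh.structureModule X) (good := Good A)
      (t := fun W _ a => nm A W a) hbasis compat U a).choose_spec
  have hguniq : ∀ U a (s : Γ(X, U)),
      IsGlued A.toModule (Coh.structureModule X) (Good A) (fun W _ a => nm A W a) U a s →
      s = g U a := fun U a s hs => IsGlued.unique hbasis hs (hg U a)
  have hgres : ∀ (U V : X.Opens) (h : V ≤ U) (a : A.presheaf.obj (op U)),
      (X.presheaf.map (homOfLE h).op).hom (g U a) = g V ((A.presheaf.map (homOfLE h).op).hom a) := by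
    intro U V h a
    refine hguniq V _ _ fun W hW hWV => ?_
    have h1 := hg U a W hW (hWV.trans h)
    have h2 : (X.presheaf.map (homOfLE hWV).op).hom ((X.presheaf.map (homOfLE h).op).hom (g U a)) =
        (X.presheaf.map (homOfLE (hWV.trans h)).op).hom (g U a) := by
      rw [← CommRingCat.comp_apply, ← Functor.map_comp]
      rfl
    have h3 : (A.presheaf.map (homOfLE hWV).op).hom ((A.presheaf.map (homOfLE h).op).hom a) =
        (A.presheaf.map (homOfLE (hWV.trans h)).op).hom a := by
      rw [← CommRingCat.comp_apply, ← Functor.map_comp]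
      rfl
    refine h2.trans (h1.trans ?_)
    exact congrArg (nm A W) h3.symm
  have hggood : ∀ W (hW : Good A W) (a : A.presheaf.obj (op W)), g W a = nm A W a := by
    intro W hW a
    refine (hguniq W _ _ fun W' hW' h => ?_).symm
    exact compat W W' hW hW' h a
  have hgone : ∀ U, g U 1 = 1 := by
    intro U
    refine (hguniq U _ _ fun W hW h => ?_).symm
    have h1 : (X.presheaf.map (homOfLE h).op).hom (1 : Γ(X, U)) = 1 := map_one _
    have h2 : (A.presheaf.map (homOfLE h).op).hom (1 : A.presheaf.obj (op U)) = 1 := map_one _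
    refine h1.trans ?_
    refine Eq.trans ?_ (congrArg (nm A W) h2.symm)
    exact (nm_one A W).symm
  have hgmul : ∀ U (a b : A.presheaf.obj (op U)), g U (a * b) = g U a * g U b := by
    intro U a b
    refine (hguniq U _ _ fun W hW h => ?_).symm
    have h1 : (X.presheaf.map (homOfLE h).op).hom (g U a * g U b) =
        (X.presheaf.map (homOfLE h).op).hom (g U a) * (X.presheaf.map (homOfLE h).op).hom (g U b) :=
      map_mul _ _ _
    have h2 : (A.presheaf.map (homOfLE h).op).hom (a * b) =
        (A.presheaf.map (homOfLE h).op).hom a * (A.presheaf.map (homOfLE h).op).hom b :=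
      map_mul _ _ _
    refine h1.trans ?_
    refine Eq.trans ?_ (congrArg (nm A W) h2.symm)
    have h3 := hg U a W hW h
    have h4 := hg U b W hW h
    refine Eq.trans (congrArg₂ (· * ·) h3 h4) ?_
    exact (nm_mul A W _ _).symm
  exact ⟨fun U => ⟨⟨g U, hgone U⟩, hgmul U⟩, hgres, hggood⟩

end

/-- an element of a finite free algebra whose norm is a unit is a unit -/
theorem isUnit_of_isUnit_norm {R S : Type u} [CommRing R] [CommRing S] [Algebra R S]
    [Module.Free R S] [Module.Finite R S] (a : S) (h : IsUnit (Algebra.norm R a)) : IsUnit a := by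
  rw [Algebra.norm_apply, ← LinearMap.isUnit_iff_isUnit_det] at h
  obtain ⟨u, hu⟩ := h
  have h1 : (Algebra.lmul R S a) ((↑u⁻¹ : S →ₗ[R] S) 1) = 1 := by
    rw [← hu]
    exact LinearMap.congr_fun u.mul_inv 1
  exact IsUnit.of_mul_eq_one _ h1

theorem norm_algebraMap_eq_pow {R S : Type u} [CommRing R] [Nontrivial R] [CommRing S]
    [Algebra R S] [Module.Free R S] [Module.Finite R S] (x : R) :
    Algebra.norm R (algebraMap R S x) = x ^ Module.finrank R S := by
  rw [Algebra.norm_algebraMap_of_basis (Module.Free.chooseBasis R S),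
    Module.finrank_eq_card_chooseBasisIndex]


/-- If π : X ⟶ Y is finite locally free and of rank d ≥ 1 at every point of Y, then π carries a norm of
degree d. The published statement also says the norm is canonical and compatible with every base
change; this row asserts only that a norm of degree d exists. -/
theorem result {X Y : Scheme.{u}} (π : X ⟶ Y) (d : ℕ) (hd : 1 ≤ d) (hπ : Mor2.IsFinLocFreeOfDeg d π) :
    Nrm.HasNorm π d := by
  obtain ⟨⟨hfin, hflat, hfp⟩, hrank⟩ := hπ
  haveI := hfin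
  haveI := hflat
  let A := RelSpec.QCAlg.directImage π
  have hS := (Groth.Agent.S19692.result π d).1 ⟨⟨hfin, hflat, hfp⟩, hrank⟩
  haveI := Groth.Agent.S19696.structureModule_isQuasicoherent X
  haveI := Groth.Agent.Lib.Helper2.KerSec.isQuasicoherent_pushforward_of_qcqs π
    (Coh.structureModule X)
  have hgood : ∀ y : Y, ∃ V : Y.Opens, y ∈ V ∧ ∀ W : Y.Opens, W ≤ V → IsAffineOpen W →
      Good A W := by
    intro y
    obtain ⟨V, hyV, hV⟩ := exists_equiv_of_isFinLocFreeOfRank _ d hS.2 y
    refine ⟨V, hyV, fun W hWV hW => ?_⟩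
    obtain ⟨e⟩ := hV W hWV hW
    letI : Algebra Γ(Y, W) (A.presheaf.obj (op W)) := (A.str.app (op W)).hom.toAlgebra
    let e' : (A.presheaf.obj (op W)) ≃ₗ[Γ(Y, W)] (Fin d → Γ(Y, W)) :=
      (Groth.Agent.S19692.pushEquiv π W).symm.trans e
    exact ⟨hW, Module.Free.of_equiv e'.symm, Module.Finite.equiv e'.symm⟩
  have hbasis : ∀ (U : Y.Opens) (y : Y), y ∈ U → ∃ W, Good A W ∧ y ∈ W ∧ W ≤ U := by
    intro U y hy
    obtain ⟨V, hyV, hV⟩ := hgood y
    obtain ⟨_, ⟨W, hW : IsAffineOpen W, rfl⟩, hyW, hWle⟩ :=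
      (Y.isBasis_affineOpens).exists_subset_of_mem_open (show y ∈ ((U ⊓ V : Y.Opens) : Set Y) from
        ⟨hy, hyV⟩) (U ⊓ V).2
    exact ⟨W, hV W (fun z hz => (hWle hz).2) hW, hyW, fun z hz => (hWle hz).1⟩
  obtain ⟨N, hNres, hNgood⟩ := exists_norm A hbasis
  refine ⟨{ one_le := hd, norm := N, norm_res := ?_, norm_app := ?_, norm_mem := ?_ }⟩
  · intro U V i s
    have hi : i = homOfLE i.le := Subsingleton.elim _ _
    rw [hi]
    exact hNres U V i.le s
  · intro U g
    apply eq_of_locally_eq_ptsX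
    intro y hy
    obtain ⟨W, hW, hyW, hWU⟩ := hbasis U y hy
    refine ⟨W, hWU, hyW, ?_⟩
    have h1 := hNres U W hWU (π.app U g)
    rw [map_pow]
    refine h1.trans ?_
    have h2 : (A.presheaf.map (homOfLE hWU).op).hom (π.app U g) =
        π.app W ((Y.presheaf.map (homOfLE hWU).op).hom g) :=
      (str_res A (homOfLE hWU) g).symm
    rw [h2, hNgood W hW]
    letI : Algebra Γ(Y, W) Γ(X, π ⁻¹ᵁ W) := (π.app W).hom.toAlgebra
    haveI : Module.Free Γ(Y, W) Γ(X, π ⁻¹ᵁ W) := hW.2.1
    haveI : Module.Finite Γ(Y, W) Γ(X, π ⁻¹ᵁ W) := hW.2.2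
    haveI : Nontrivial Γ(Y, W) := (hW.1.primeIdealOf ⟨y, hyW⟩).nontrivial
    have h3 : Module.finrank Γ(Y, W) Γ(X, π ⁻¹ᵁ W) = d := by
      have h4 := Groth.Agent.Lib.Helper2.FinrankAff.finrank_eq_finrank_app π hW.1 y hyW
      rw [hrank y] at h4
      have h5 : (π.app W).hom.finrank (hW.1.primeIdealOf ⟨y, hyW⟩) =
          Module.rankAtStalk (R := Γ(Y, W)) Γ(X, π ⁻¹ᵁ W) (hW.1.primeIdealOf ⟨y, hyW⟩) := rfl
      rw [h5, Module.rankAtStalk_eq_finrank_of_free] at h4
      exact h4.symm
    have h6 := norm_algebraMap_eq_pow (R := Γ(Y, W)) (S := Γ(X, π ⁻¹ᵁ W))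
      ((Y.presheaf.map (homOfLE hWU).op).hom g)
    rw [h3] at h6
    exact h6
  · intro U s x hx hs
    by_contra hcon
    have hunit : IsUnit (Y.presheaf.germ U (π.base x) hx (N U s)) := by
      by_contra h'
      exact hcon ((IsLocalRing.mem_maximalIdeal _).2 h')
    have hmem : π.base x ∈ Y.basicOpen (N U s) := (Y.mem_basicOpen (N U s) _ hx).2 hunit
    obtain ⟨W, hW, hyW, hWle⟩ := hbasis (Y.basicOpen (N U s)) (π.base x) hmem
    have hWU : W ≤ U := hWle.trans (Y.basicOpen_le _)
    have h1 : IsUnit ((Y.presheaf.map (homOfLE hWU).op).hom (N U s)) := by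
      have h0 := RingedSpace.isUnit_res_basicOpen Y.toRingedSpace (N U s)
      have h0' := h0.map (Y.presheaf.map (homOfLE hWle).op).hom
      have : (Y.presheaf.map (homOfLE hWle).op).hom
          ((Y.presheaf.map (homOfLE (Y.basicOpen_le (N U s))).op).hom (N U s)) =
          (Y.presheaf.map (homOfLE hWU).op).hom (N U s) := by
        rw [← CommRingCat.comp_apply, ← Functor.map_comp]
        rfl
      rw [← this]
      exact h0'
    rw [hNres U W hWU s, hNgood W hW] at h1
    letI : Algebra Γ(Y, W) Γ(X, π ⁻¹ᵁ W) := (π.app W).hom.toAlgebra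
    haveI : Module.Free Γ(Y, W) Γ(X, π ⁻¹ᵁ W) := hW.2.1
    haveI : Module.Finite Γ(Y, W) Γ(X, π ⁻¹ᵁ W) := hW.2.2
    have h2 : IsUnit ((A.presheaf.map (homOfLE hWU).op).hom s) :=
      isUnit_of_isUnit_norm (R := Γ(Y, W)) (S := Γ(X, π ⁻¹ᵁ W)) _ h1
    have hxW : x ∈ π ⁻¹ᵁ W := hyW
    have h3 := h2.map (X.presheaf.germ (π ⁻¹ᵁ W) x hxW).hom
    have h4 : (X.presheaf.germ (π ⁻¹ᵁ W) x hxW).hom ((A.presheaf.map (homOfLE hWU).op).hom s) =
        X.presheaf.germ (π ⁻¹ᵁ U) x hx s :=
      X.presheaf.germ_res_apply (homOfLE (π.preimage_mono hWU)) x hxW s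
    have h3' : IsUnit (X.presheaf.germ (π ⁻¹ᵁ U) x hx s) := h4 ▸ h3
    exact (IsLocalRing.mem_maximalIdeal _).1 hs h3'

end Groth.Agent.S8878
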