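import Groth.Statements.S0022
import Groth.Agent.Lib.Helper26.AffineVanishing
import Groth.Agent.Lib.Helper26.MVCover
import Mathlib.RingTheory.MvPolynomial.Ideal

set_option autoImplicit false
universe u
open Coherent

namespace Groth.Agent.S0022

open AlgebraicGeometry CategoryTheory TopologicalSpace Limits

open Groth.Agent.Lib.Helper26.MVTop Groth.Agent.Lib.Helper26.AffineVanishing

/-- Cohomology of `Proj` vanishes above the number of homogeneous generators of the irrelevant
ideal. -/
theorem proj_vanish {A σ : Type u} [CommRing A] [SetLike σ A] [AddSubgroupClass σ A]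
    (𝒜 : ℕ → σ) [GradedRing 𝒜] (t : ℕ) (f : Fin t → A) (m : Fin t → ℕ) (hm : ∀ i, 0 < m i)
    (hf : ∀ i, f i ∈ 𝒜 (m i))
    (hspan : (HomogeneousIdeal.irrelevant 𝒜).toIdeal ≤ Ideal.span (Set.range f))
    (M : (Proj 𝒜).Modules) [Coh.IsQCoh M] (i : ℕ) (hi : t ≤ i) :
    Subsingleton (Coh.HH (Proj 𝒜) M i) := by
  classical
  have hcov := Proj.iSup_basicOpen_eq_top 𝒜 f hspan
  have h1 := subsingleton_HU_biSup (Coh.toAb M)
    (fun W : (Proj 𝒜).Opens => ∃ (g : A) (k : ℕ), 0 < k ∧ g ∈ 𝒜 k ∧ W = Proj.basicOpen 𝒜 g)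
    (by
      rintro _ _ ⟨g, k, hk, hg, rfl⟩ ⟨g', k', hk', hg', rfl⟩
      exact ⟨g * g', k + k', by omega, SetLike.mul_mem_graded hg hg',
        (Proj.basicOpen_mul 𝒜 g g').symm⟩)
    (by
      rintro _ ⟨g, k, hk, hg, rfl⟩ j
      exact subsingleton_HU_succ M j (Proj.isAffineOpen_basicOpen 𝒜 g hg hk))
    (Finset.univ : Finset (Fin t)) (fun j => Proj.basicOpen 𝒜 (f j))
    (fun j _ => ⟨f j, m j, hm j, hf j, rfl⟩) i (by simpa using hi)
  have h2 : (⨆ j ∈ (Finset.univ : Finset (Fin t)), Proj.basicOpen 𝒜 (f j)) = ⊤ := by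
    rw [← hcov]
    simp
  rw [h2] at h1
  exact subsingleton_H_of_subsingleton_HU_top (Coh.toAb M) i

theorem irrelevant_le (n : ℕ) (R : Type u) [CommRing R] :
    (HomogeneousIdeal.irrelevant (CohB1.polyGrading n R)).toIdeal ≤
      Ideal.span (Set.range (fun j : Fin (n + 1) => (MvPolynomial.X j : MvPolynomial (Fin (n + 1)) R))) := by
  intro p hp
  have hp' : GradedRing.proj (CohB1.polyGrading n R) 0 p = 0 :=
    (HomogeneousIdeal.mem_irrelevant_iff _ _).mp hp
  have h0 : MvPolynomial.coeff 0 p = 0 := by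
    have h1 : MvPolynomial.homogeneousComponent 0 p = 0 := by
      rw [← hp', GradedRing.proj_apply]
      exact (MvPolynomial.decomposition.decompose'_apply p 0).symm
    rw [MvPolynomial.homogeneousComponent_zero] at h1
    simpa using h1
  have : (Set.range (fun j : Fin (n + 1) => (MvPolynomial.X j : MvPolynomial (Fin (n + 1)) R))) =
      MvPolynomial.X '' (Set.univ : Set (Fin (n + 1))) := by
    rw [Set.image_univ]
  rw [this, MvPolynomial.mem_ideal_span_X_image]
  intro d hd
  by_contra hcon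
  push Not at hcon
  have hd0 : d = 0 := by
    ext j
    exact hcon j (Set.mem_univ j)
  rw [hd0, MvPolynomial.mem_support_iff] at hd
  exact hd h0



open AlgebraicGeometry in
/-- For any ring R, any quasi-coherent module F on projective space ℙ^n_R and any i > n, H^i(ℙ^n_R, F) =
0. (The published statement is for coherent modules over a Noetherian ring; it is stated here for
quasi-coherent modules over any ring.) -/
theorem result (n : ℕ) (R : Type u) [CommRing R]
    (M : (CohB1.ProjSpace n R).Modules) [Coh.IsQCoh M] (i : ℕ) (hi : n < i) :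
    Subsingleton (Coh.HH (CohB1.ProjSpace n R) M i) := by
  have hq : @Coh.IsQCoh (Proj (CohB1.polyGrading n R)) M := ‹Coh.IsQCoh M›
  exact @proj_vanish _ _ _ _ _ (CohB1.polyGrading n R) _ (n + 1) (fun j => MvPolynomial.X j) (fun _ => 1)
    (fun _ => Nat.one_pos) (fun j => MvPolynomial.isHomogeneous_X R j) (irrelevant_le n R) M hq i hi

end Groth.Agent.S0022
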