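import Groth.Statements.S1545
import Mathlib
import Groth.Agent.Lib.Helper51.CommonPoint

set_option autoImplicit false
universe u
open CategoryTheory CategoryTheory.Limits AlgebraicGeometry
open Variety

namespace Groth.Agent.S1545

/-- For a field extension k' of k, a point x of X and a point x' of X_{k'} over x, X is geometrically
reduced at x if and only if X_{k'} is geometrically reduced at x' (over k'). -/
theorem result (k : Type u) [Field k] (X : Scheme.{u}) [X.Over (Spec (CommRingCat.of k))] (k' : Type u) [Field k'] [Algebra k k']
    (x : X) (x' : Curv2.bc k X k') (hx : Curv2.bcFst k X k' x' = x) :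
    Curv2.IsGeomReducedAt k X x ↔
      @Curv2.IsGeomReducedAt k' _ (Curv2.bc k X k') ⟨Curv2.bcSnd k X k'⟩ x' := by
  subst hx
  constructor
  · intro h E _ _ t ht
    letI algkE : Algebra k E := ((algebraMap k' E).comp (algebraMap k k')).toAlgebra
    haveI : IsScalarTower k k' E := IsScalarTower.of_algebraMap_eq (fun _ => rfl)
    obtain ⟨t', ht', ⟨e⟩⟩ := Groth.Agent.Lib.Helper51.stalk_tower_transfer
      (X ↘ Spec (CommRingCat.of k)) (k' := k') (E := E) t
    haveI hred := h E t' (by
      show (Curv2.bcFst k X E) t' = _
      rw [show (Curv2.bcFst k X E) t' = _ from ht']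
      congr 1)
    exact isReduced_of_injective e.symm e.symm.injective
  · intro h K _ _ z hz
    obtain ⟨E, _, _, a, t, hfa, rfl, ht⟩ := Groth.Agent.Lib.Helper51.exists_common_point_aux
      (X ↘ Spec (CommRingCat.of k)) (Spec.map (CommRingCat.ofHom (algebraMap k K)))
      (Spec.map (CommRingCat.ofHom (algebraMap k k'))) z x' hz
    haveI hr : _root_.IsReduced ↑((pullback (pullback.snd (X ↘ Spec (CommRingCat.of k))
        (Spec.map (CommRingCat.ofHom (algebraMap k k'))))
        (Spec.map (CommRingCat.ofHom (algebraMap k' E)))).presheaf.stalk t) := h E t ht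
    exact isReduced_of_injective (a.stalkMap t).hom
      (Groth.Agent.Lib.Helper51.injective_stalkMap_of_flat a t)

end Groth.Agent.S1545
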