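import Groth.Statements.S10311
-- import your own Groth.Agent.* helpers here
import Groth.Agent.Lib.Helper36.BaseChangeChart

set_option autoImplicit false
universe u
open CategoryTheory CategoryTheory.Limits AlgebraicGeometry
open AlgSp

namespace Groth.Agent.S10311

open Groth.Agent.Lib.Helper36.AlgSpCharts Groth.Agent.Lib.Helper37.AlgSpPoints
  Groth.Agent.Lib.Helper36.AlgSpChartDiag Groth.Agent.Lib.Helper36.AlgSpHasAtMor
  Groth.Agent.Lib.Helper36.BaseChangeChart

/-- The relative dimension at a point of a morphism locally of finite type is preserved by base change. -/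
theorem result {S : Scheme.{u}} {X Y Y' X' : AlgSp.Space S} (f : X ⟶ Y) (g : Y' ⟶ Y)
    (g' : X' ⟶ X) (f' : X' ⟶ Y') (sq : IsPullback g'.hom f'.hom f.hom g.hom)
    (hf : AlgSp.LocP @LocallyOfFiniteType f.hom) (x' : AlgSp.Points X'.obj) (d : WithBot ℕ∞)
    (hd : AlgSp.HasAtMor (fun _ _ h u => FlatMor.fibreDimAt h u = d) f.hom (AlgSp.Points.map g'.hom x')) :
    AlgSp.HasAtMor (fun _ _ h u => FlatMor.fibreDimAt h u = d) f'.hom x' := by
  obtain ⟨U, V, U', V', a, b, a', b', h, h', pU, q, hae, hbe, ha'e, ha's, hb'e, hb's, w, w', wg',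
    wg, sqs⟩ := exists_baseChange_charts f g g'.hom f'.hom sq
  obtain ⟨u', hu'⟩ := ofPt_surjective a' ha's x'
  refine ⟨U', V', a', b', h', u', ha'e, hb'e, w', hu', ?_⟩
  have hlft : LocallyOfFiniteType h.left := hf a b h hae hbe w
  show FlatMor.fibreDimAt h'.left u' = d
  rw [Groth.Agent.Lib.Helper73.fibreDimAt_eq_of_isPullback h.left q.left pU.left h'.left sqs u']
  have hpt : Points.ofPt a (pU.left u') = Points.map g'.hom x' := by
    rw [← hu', Points.map_ofPt, wg', ofPt_map_comp]
  exact (hasAtMor_iff_forall_chart (isEtaleLocalGermMor_fibreDimAt (· = d)) f _).1 hd U V a b h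
    (pU.left u') hae hbe w hpt

end Groth.Agent.S10311
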