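import Groth.Statements.S15542
import Groth.Agent.Lib.Helper8.LocConstr

set_option autoImplicit false
open CategoryTheory AlgebraicGeometry
universe u
open ProCons

namespace Groth.Agent.S15542

/-- The pro-constructible case. Let f : X ⟶ Y be any morphism of schemes and T a pro-constructible
subset of Y (locally on Y an intersection of locally constructible subsets). Then the preimage of T
under f is pro-constructible in X. -/
theorem result {X Y : Scheme.{u}} (f : X ⟶ Y) (T : Set Y)
    (hT : ProCons.IsProConstructible T) :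
    ProCons.IsProConstructible (f.base ⁻¹' T) := by
  intro x
  obtain ⟨U, hU, hxU, S, hS, hE⟩ := hT (f.base x)
  let U' : Y.Opens := ⟨U, hU⟩
  refine ⟨(f ⁻¹ᵁ U' : Set X), (f ⁻¹ᵁ U').2, hxU, ?_⟩
  refine ⟨(fun T' => (f ∣_ U').base ⁻¹' T') '' S, ?_, ?_⟩
  · rintro _ ⟨T', hT', rfl⟩
    exact Groth.Agent.Lib.Helper8.isLocallyConstructible_preimage (f ∣_ U') (hS T' hT')
  · ext y
    have h2 : ((f ∣_ U').base y).1 = f.base y.1 := morphismRestrict_base_coe f U' y
    have h3 : ∀ z : ↥U, z.1 ∈ T ↔ z ∈ ⋂₀ S := fun z => by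
      rw [← hE]; exact Iff.rfl
    constructor
    · intro hy
      have h4 : (f ∣_ U').base y ∈ ⋂₀ S := (h3 _).1 (by rw [h2]; exact hy)
      rintro _ ⟨T', hT', rfl⟩
      exact h4 T' hT'
    · intro hy
      have h4 : (f ∣_ U').base y ∈ ⋂₀ S := fun T' hT' => hy _ ⟨T', hT', rfl⟩
      have := (h3 _).2 h4
      rw [h2] at this
      exact this

end Groth.Agent.S15542
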