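import Groth.Statements.S9940
import Groth.Agent.S9874
import Groth.Agent.Lib.Helper37.AlgSpPoints

set_option autoImplicit false
universe u
open CategoryTheory CategoryTheory.Limits AlgebraicGeometry
open AlgSp

namespace Groth.Agent.S9940

/-- (4) ⇒ (1): universal injectivity of a morphism of algebraic spaces descends along a surjective base
change from a scheme. -/
theorem result {S : Scheme.{u}} {X Y : AlgSp.Space S} (f : X ⟶ Y)
    (Z : Over S) (g : (AlgSp.yon S).obj Z ⟶ Y.obj) (hg : AlgSp.IsSurjectiveMor g) {P : AlgSp.Sp S}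
    (fst : P ⟶ X.obj) (snd : P ⟶ (AlgSp.yon S).obj Z) (sq : IsPullback fst snd f.hom g)
    (h : AlgSp.IsUnivInjectiveMor snd) : AlgSp.IsUnivInjectiveMor f.hom := by
  intro T T' hT t p1 p2 hsq
  have hWsq : IsPullback (pullback.fst t g) (pullback.snd t g) t g := IsPullback.of_hasPullback t g
  have hW : AlgSp.IsAlgSpace (pullback t g) :=
    Groth.Agent.S9874.result S Y.obj Y.property.diag ⟨T, hT⟩
      ⟨(AlgSp.yon S).obj Z, AlgSp.IsAlgSpace.yon_obj Z⟩ t g _ _ _ hWsq
  have hW'sq : IsPullback (pullback.fst p2 (pullback.fst t g)) (pullback.snd p2 (pullback.fst t g))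
      p2 (pullback.fst t g) := IsPullback.of_hasPullback _ _
  have big := hW'sq.paste_horiz hsq
  rw [hWsq.w] at big
  have hcomm : (pullback.fst p2 (pullback.fst t g) ≫ p1) ≫ f.hom =
      (pullback.snd p2 (pullback.fst t g) ≫ pullback.snd t g) ≫ g := by
    rw [big.w, Category.assoc]
  have hk1 : sq.lift _ _ hcomm ≫ fst = pullback.fst p2 (pullback.fst t g) ≫ p1 := sq.lift_fst _ _ _
  have hk2 : sq.lift _ _ hcomm ≫ snd = pullback.snd p2 (pullback.fst t g) ≫ pullback.snd t g :=
    sq.lift_snd _ _ _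
  rw [← hk1] at big
  have left := IsPullback.of_right big hk2 sq
  have hinj : Function.Injective (AlgSp.Points.map (pullback.snd p2 (pullback.fst t g))) :=
    h hW (pullback.snd t g) _ _ left
  intro x1 x2 hx
  obtain ⟨z, hz⟩ := hg (AlgSp.Points.map t (AlgSp.Points.map p2 x1))
  obtain ⟨ω, hω1, hω2⟩ := Groth.Agent.Lib.Helper37.AlgSpPoints.points_exists_of_isPullback hWsq
    (AlgSp.Points.map p2 x1) z hz.symm
  obtain ⟨ξ1, h11, h12⟩ := Groth.Agent.Lib.Helper37.AlgSpPoints.points_exists_of_isPullback hW'sq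
    x1 ω hω1.symm
  obtain ⟨ξ2, h21, h22⟩ := Groth.Agent.Lib.Helper37.AlgSpPoints.points_exists_of_isPullback hW'sq
    x2 ω (by rw [← hx]; exact hω1.symm)
  have : ξ1 = ξ2 := hinj (h12.trans h22.symm)
  rw [← h11, ← h21, this]

end Groth.Agent.S9940
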