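import Groth.Statements.S9392
import Mathlib
import Groth.Agent.S9391

set_option autoImplicit false
universe u
open CAlg

namespace Groth.Agent.S9392

/-- A localization of an N-2 (Japanese) domain which is again a domain is N-2. -/
theorem result (R : Type u) [CommRing R] [IsDomain R] (M : Submonoid R)
    (S : Type u) [CommRing S] [IsDomain S] [Algebra R S] [IsLocalization M S]
    (h : CAlg.IsN2 R) : CAlg.IsN2 S := by
  intro L _ _ _ _ hfd
  have hM : M ≤ nonZeroDivisors R := by
    intro m hm
    rw [mem_nonZeroDivisors_iff_ne_zero]
    rintro rfl
    have hu := IsLocalization.map_units S (⟨0, hm⟩ : M)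
    rw [map_zero] at hu
    exact not_isUnit_zero hu
  have hRS : Function.Injective (algebraMap R S) := IsLocalization.injective S hM
  let _ : Algebra R L := ((algebraMap S L).comp (algebraMap R S)).toAlgebra
  have htRSL : IsScalarTower R S L := IsScalarTower.of_algebraMap_eq fun x => rfl
  have hSL : Function.Injective (algebraMap S L) := by
    rw [IsScalarTower.algebraMap_eq S (FractionRing S) L]
    exact (algebraMap (FractionRing S) L).injective.comp (IsFractionRing.injective S (FractionRing S))
  have hRL : Function.Injective (algebraMap R L) := hSL.comp hRS
  have htRSF : IsScalarTower R S (FractionRing S) := inferInstance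
  have hRF : Function.Injective (algebraMap R (FractionRing S)) := by
    rw [IsScalarTower.algebraMap_eq R S (FractionRing S)]
    exact (IsFractionRing.injective S (FractionRing S)).comp hRS
  let φ : FractionRing R →+* FractionRing S := IsFractionRing.lift hRF
  let _ : Algebra (FractionRing R) (FractionRing S) := φ.toAlgebra
  have htRKF : IsScalarTower R (FractionRing R) (FractionRing S) :=
    IsScalarTower.of_algebraMap_eq fun x => (IsFractionRing.lift_algebraMap hRF x).symm
  let _ : Algebra (FractionRing R) L :=
    ((algebraMap (FractionRing S) L).comp (algebraMap (FractionRing R) (FractionRing S))).toAlgebra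
  have htKFL : IsScalarTower (FractionRing R) (FractionRing S) L :=
    IsScalarTower.of_algebraMap_eq fun x => rfl
  have htRKL : IsScalarTower R (FractionRing R) L := by
    refine IsScalarTower.of_algebraMap_eq fun x => ?_
    change algebraMap S L (algebraMap R S x) =
      algebraMap (FractionRing S) L (φ (algebraMap R (FractionRing R) x))
    rw [IsFractionRing.lift_algebraMap hRF x]
    rw [IsScalarTower.algebraMap_apply R S (FractionRing S),
      ← IsScalarTower.algebraMap_apply S (FractionRing S) L]
  have hsurj : Function.Surjective (algebraMap (FractionRing R) (FractionRing S)) := by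
    have hR : ∀ r : R, algebraMap R (FractionRing S) r ∈ φ.fieldRange := fun r =>
      ⟨algebraMap R (FractionRing R) r, IsFractionRing.lift_algebraMap hRF r⟩
    have hS : ∀ x : S, algebraMap S (FractionRing S) x ∈ φ.fieldRange := by
      intro x
      obtain ⟨r, m, rfl⟩ := IsLocalization.exists_mk'_eq M x
      have hspec := IsLocalization.mk'_spec S r m
      have h2 := congrArg (algebraMap S (FractionRing S)) hspec
      rw [map_mul, ← IsScalarTower.algebraMap_apply R S (FractionRing S),
        ← IsScalarTower.algebraMap_apply R S (FractionRing S)] at h2
      have hm0 : algebraMap R (FractionRing S) (m : R) ≠ 0 := by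
        intro h0
        have := hRF (h0.trans (map_zero _).symm)
        have hmem := hM m.2
        rw [this] at hmem
        exact zero_notMem_nonZeroDivisors hmem
      have h3 : algebraMap S (FractionRing S) (IsLocalization.mk' S r m) =
          algebraMap R (FractionRing S) r / algebraMap R (FractionRing S) (m : R) := by
        rw [eq_div_iff hm0]
        exact h2
      rw [h3]
      exact div_mem (hR r) (hR _)
    intro z
    obtain ⟨x, y, hy, rfl⟩ := IsFractionRing.div_surjective (A := S) z
    have : algebraMap S (FractionRing S) x / algebraMap S (FractionRing S) y ∈ φ.fieldRange :=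
      div_mem (hS x) (hS y)
    obtain ⟨w, hw⟩ := this
    exact ⟨w, hw⟩
  have hfin1 : Module.Finite (FractionRing R) (FractionRing S) :=
    Module.Finite.of_surjective (Algebra.linearMap (FractionRing R) (FractionRing S)) hsurj
  have hfd' : FiniteDimensional (FractionRing R) L := Module.Finite.trans (FractionRing S) L
  have hfinR := h L hfd'
  exact Groth.Agent.S9391.finite_integralClosure_of_isLocalization M hfinR

end Groth.Agent.S9392
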