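import Groth.Statements.S9394
import Mathlib
import Groth.Agent.S9393

set_option autoImplicit false
universe u
open CAlg

namespace Groth.Agent.S9394

theorem exists_algebra_finite_of_isN2 (R : Type u) [CommRing R] [IsDomain R] (M : Submonoid R)
    (S : Type u) [CommRing S] [IsDomain S] [Algebra R S] [IsLocalization M S]
    (h : CAlg.IsN2 S) (L : Type u) [Field L] [Algebra R L] [Algebra (FractionRing R) L]
    [IsScalarTower R (FractionRing R) L] [FiniteDimensional (FractionRing R) L] :
    ∃ (a : Algebra S L) (_ : IsScalarTower R S L),
      Module.Finite S (integralClosure S L) := by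
  have hM : M ≤ nonZeroDivisors R := Groth.Agent.S9393.powers_le_nonZeroDivisors M S
  have hunits : ∀ y : M, IsUnit (algebraMap R (FractionRing R) y) := fun y =>
    IsLocalization.map_units (FractionRing R) (⟨y, hM y.2⟩ : nonZeroDivisors R)
  let a0 : Algebra S (FractionRing R) := (IsLocalization.lift hunits).toAlgebra
  have htower : IsScalarTower R S (FractionRing R) :=
    IsScalarTower.of_algebraMap_eq fun x => (IsLocalization.lift_eq hunits x).symm
  have hfrac : IsFractionRing S (FractionRing R) :=
    IsFractionRing.isFractionRing_of_isDomain_of_isLocalization M S (FractionRing R)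
  let e : FractionRing S ≃ₐ[S] FractionRing R := FractionRing.algEquiv S (FractionRing R)
  let a : Algebra S L :=
    ((algebraMap (FractionRing R) L).comp (algebraMap S (FractionRing R))).toAlgebra
  have htSKL : IsScalarTower S (FractionRing R) L := IsScalarTower.of_algebraMap_eq fun x => rfl
  have htRSL : IsScalarTower R S L := by
    refine IsScalarTower.of_algebraMap_eq fun x => ?_
    change algebraMap R L x = algebraMap (FractionRing R) L (algebraMap S (FractionRing R)
      (algebraMap R S x))
    rw [← IsScalarTower.algebraMap_apply R S (FractionRing R),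
      ← IsScalarTower.algebraMap_apply R (FractionRing R) L]
  let b : Algebra (FractionRing S) L :=
    ((algebraMap (FractionRing R) L).comp (e : FractionRing S →+* FractionRing R)).toAlgebra
  have htSFL : IsScalarTower S (FractionRing S) L := by
    refine IsScalarTower.of_algebraMap_eq fun x => ?_
    change algebraMap (FractionRing R) L (algebraMap S (FractionRing R) x) =
      algebraMap (FractionRing R) L (e (algebraMap S (FractionRing S) x))
    rw [e.commutes]
  have hfd : FiniteDimensional (FractionRing S) L := by
    refine Module.Finite.of_equiv_equiv (A₁ := FractionRing R) (B₁ := L)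
      (e.symm : FractionRing R ≃+* FractionRing S) (RingEquiv.refl L) ?_
    ext x
    change algebraMap (FractionRing R) L (e (e.symm x)) = algebraMap (FractionRing R) L x
    rw [e.apply_symm_apply]
  exact ⟨a, htRSL, h L hfd⟩

/-- Being N-2 (Japanese) can be checked on a finite cover of Spec R by principal opens whose rings are
N-2 domains. -/
theorem result (R : Type u) [CommRing R] [IsDomain R]
    {ι : Type u} [Finite ι] (f : ι → R) (hf : Ideal.span (Set.range f) = ⊤)
    (Rf : ι → Type u) [∀ i, CommRing (Rf i)] [∀ i, IsDomain (Rf i)] [∀ i, Algebra R (Rf i)]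
    [∀ i, IsLocalization.Away (f i) (Rf i)] (h : ∀ i, CAlg.IsN2 (Rf i)) : CAlg.IsN2 R := by
  intro L _ _ _ _ hfd
  choose a h1 h2 using fun i =>
    exists_algebra_finite_of_isN2 R (Submonoid.powers (f i)) (Rf i) (h i) L
  exact @Groth.Agent.S9393.finite_integralClosure_of_cover R _ ι _ f hf Rf _ _ _ L _ _ a h1 h2

end Groth.Agent.S9394
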