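import Groth.Statements.S2072
import Groth.Agent.Lib.Helper38.AnUnram
import Groth.Agent.S0568
import Groth.Agent.S0543

set_option autoImplicit false
universe u
open CAlg

namespace Groth.Agent.S2072

/-- A Noetherian local domain whose completion with respect to the maximal ideal is reduced (an
analytically unramified local domain) is N-1: its integral closure in its fraction field is a finite
module. -/
theorem result {R : Type u} [CommRing R] [IsDomain R] [IsLocalRing R]
    [IsNoetherianRing R] [IsReduced (AdicCompletion (IsLocalRing.maximalIdeal R) R)] : CAlg.IsN1 R := by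
  have hNoeth : IsNoetherianRing (AdicCompletion (IsLocalRing.maximalIdeal R) R) :=
    Groth.Agent.S0543.result R _
  have hff : Module.FaithfullyFlat R (AdicCompletion (IsLocalRing.maximalIdeal R) R) :=
    Module.FaithfullyFlat.of_flat_of_isLocalHom
  have hNag := Groth.Agent.S0568.result (AdicCompletion (IsLocalRing.maximalIdeal R) R)
  have hred := Groth.Agent.Lib.Helper38.AnUnram.isReduced_tensor_fractionRing R
    (AdicCompletion (IsLocalRing.maximalIdeal R) R)
    (FractionRing (AdicCompletion (IsLocalRing.maximalIdeal R) R))
  exact Groth.Agent.Lib.Helper38.AnUnram.finite_integralClosure_of_tensor_reduced R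
    (AdicCompletion (IsLocalRing.maximalIdeal R) R) (FractionRing R)
    (FractionRing (AdicCompletion (IsLocalRing.maximalIdeal R) R)) (fun q _ => hNag.2 q) hred

end Groth.Agent.S2072
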