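import Groth.Statements.S0571
import Mathlib
import Groth.Agent.Lib.Helper38.NormalLocus
import Groth.Agent.S9391
import Groth.Agent.S9393

set_option autoImplicit false
universe u
open CAlg

namespace Groth.Agent.S0571

/-- A Noetherian domain `R` is N-1 exactly when (a) `R_f` is integrally closed for some nonzero `f`, and
(b) the localization of `R` at every maximal ideal is N-1. -/
theorem result (R : Type u) [CommRing R] [IsDomain R]
    [IsNoetherianRing R] :
    CAlg.IsN1 R ↔ ((∃ f : R, f ≠ 0 ∧ IsIntegrallyClosed (Localization.Away f)) ∧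
      ∀ (m : Ideal R) [m.IsMaximal], CAlg.IsN1 (Localization.AtPrime m)) := by
  classical
  open Groth.Agent.Lib.Helper38.NormalLocus in
  constructor
  · intro h
    refine ⟨?_, fun m _ => Groth.Agent.S9391.result R m.primeCompl (Localization.AtPrime m) h⟩
    have hfg : (integralClosure R (FractionRing R)).toSubmodule.FG := by
      rw [← Module.Finite.iff_fg]
      exact h
    obtain ⟨t, ht⟩ := hfg
    obtain ⟨b, hb⟩ := IsLocalization.exist_integer_multiples_of_finset (nonZeroDivisors R) t
    have hb0 : (b : R) ≠ 0 := nonZeroDivisors.ne_zero b.2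
    refine ⟨b, hb0, ?_⟩
    have hfM : Submonoid.powers (b : R) ≤ nonZeroDivisors R := by
      rw [Submonoid.powers_le]
      exact b.2
    rw [isIntegrallyClosed_iff_of_isLocalization (Submonoid.powers (b : R)) hfM
      (Localization.Away (b : R)) (FractionRing R)]
    intro x hx
    refine ⟨b, Submonoid.mem_powers _, ?_⟩
    have hx' : x ∈ Submodule.span R (t : Set (FractionRing R)) := by
      rw [ht]
      exact hx
    have hle : Submodule.span R (t : Set (FractionRing R)) ≤
        Submodule.comap (LinearMap.lsmul R (FractionRing R) (b : R)) 1 := by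
      rw [Submodule.span_le]
      intro a ha
      obtain ⟨r, hr⟩ := hb a ha
      exact Submodule.mem_one.mpr ⟨r, hr⟩
    exact hle hx'
  · rintro ⟨⟨f, hf, hn⟩, hloc⟩
    have hfM : Submonoid.powers f ≤ nonZeroDivisors R := by
      rw [Submonoid.powers_le, mem_nonZeroDivisors_iff_ne_zero]
      exact hf
    have hn' := (isIntegrallyClosed_iff_of_isLocalization (Submonoid.powers f) hfM
      (Localization.Away f) (FractionRing R)).mp hn
    refine finite_integralClosure_of_ass (FractionRing R) f hf hn' ?_
    intro q hq
    have hqprime : q.IsPrime := IsAssociatedPrime.isPrime hq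
    obtain ⟨m, hmmax, hqm⟩ := Ideal.exists_le_maximal q hqprime.ne_top
    obtain ⟨a, htower, hfin⟩ := Groth.Agent.S9393.exists_algebra_finite_of_isN1 R m.primeCompl
      (Localization.AtPrime m) (hloc m)
    let _ := a
    obtain ⟨T, hTint, hT⟩ := exists_finset_of_finite_integralClosure m.primeCompl hfin
    refine ⟨T, hTint, fun y hy => ?_⟩
    obtain ⟨s, hs, hsy⟩ := hT y hy
    exact ⟨s, fun hsq => hs (hqm hsq), hsy⟩

end Groth.Agent.S0571
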