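import Groth.Statements.S4710
import Mathlib

set_option autoImplicit false
universe u
open EGA4

namespace Groth.Agent.S4710

set_option linter.style.haveILetI false

theorem isN2_of_isLocalization (D D' : Type u) [CommRing D] [IsDomain D] [CommRing D'] [IsDomain D']
    [Algebra D D'] (T : Submonoid D) [IsLocalization T D'] (h : CAlg.IsN2 D) : CAlg.IsN2 D' := by
  intro L _ _ _ _ hfin
  have hT : T ≤ nonZeroDivisors D := by
    intro t ht
    apply mem_nonZeroDivisors_of_ne_zero
    rintro rfl
    have := IsLocalization.subsingleton (S := D') ht
    exact not_subsingleton D' this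
  have hinj : Function.Injective (algebraMap D D') := IsLocalization.injective D' hT
  let K := FractionRing D
  let K' := FractionRing D'
  let _ : Algebra D L := ((algebraMap D' L).comp (algebraMap D D')).toAlgebra
  have : IsScalarTower D D' L := IsScalarTower.of_algebraMap_eq (fun x => rfl)
  have hinj' : Function.Injective (algebraMap D' L) := by
    rw [IsScalarTower.algebraMap_eq D' K' L]
    exact (algebraMap K' L).injective.comp (IsFractionRing.injective D' K')
  have : FaithfulSMul D L := (faithfulSMul_iff_algebraMap_injective D L).mpr (hinj'.comp hinj)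
  let _ : Algebra K L := FractionRing.liftAlgebra D L
  have : IsScalarTower D K L := FractionRing.isScalarTower_liftAlgebra D L
  have hunits : ∀ t : T, IsUnit (algebraMap D K t) := fun t => IsLocalization.map_units K ⟨t.1, hT t.2⟩
  let _ : Algebra D' K := (IsLocalization.lift (M := T) hunits).toAlgebra
  have : IsScalarTower D D' K := IsScalarTower.of_algebraMap_eq (fun x => (IsLocalization.lift_eq hunits x).symm)
  have : IsFractionRing D' K := IsFractionRing.isFractionRing_of_isDomain_of_isLocalization T D' K
  let e : K' ≃ₐ[D'] K := FractionRing.algEquiv D' K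
  let _ : Algebra K' K := (e : K' →+* K).toAlgebra
  have : IsScalarTower D' K L := by
    apply IsScalarTower.of_algebraMap_eq'
    apply IsLocalization.ringHom_ext T
    ext d
    simp [← IsScalarTower.algebraMap_apply]
  have : IsScalarTower K' K L := by
    apply IsScalarTower.of_algebraMap_eq'
    apply IsLocalization.ringHom_ext (nonZeroDivisors D')
    ext d'
    show algebraMap K' L (algebraMap D' K' d') = algebraMap K L ((e : K' →+* K) (algebraMap D' K' d'))
    rw [← IsScalarTower.algebraMap_apply D' K' L]
    have hc : (e : K' →+* K) (algebraMap D' K' d') = algebraMap D' K d' := e.commutes d'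
    rw [hc, ← IsScalarTower.algebraMap_apply D' K L]
  have : Module.Finite K L := Module.Finite.of_restrictScalars_finite K' K L
  have hfinD : Module.Finite D (integralClosure D L) := h L ‹_›
  have hfg : (Subalgebra.toSubmodule (integralClosure D L)).FG := Module.Finite.iff_fg.mp hfinD
  obtain ⟨s, hs⟩ := hfg
  suffices hsuff : (Subalgebra.toSubmodule (integralClosure D' L)).FG from Module.Finite.iff_fg.mpr hsuff
  refine ⟨s, ?_⟩
  apply le_antisymm
  · rw [Submodule.span_le]
    intro y hy
    have hy' : y ∈ Subalgebra.toSubmodule (integralClosure D L) := hs ▸ Submodule.subset_span hy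
    have hy'' : IsIntegral D y := hy'
    exact hy''.tower_top
  · intro x hx
    have hx' : IsIntegral D' x := hx
    obtain ⟨t, ht⟩ := IsIntegral.exists_multiple_integral_of_isLocalization T x hx'
    have h1 : t • x ∈ Submodule.span D (s : Set L) := hs ▸ (show t • x ∈ Subalgebra.toSubmodule (integralClosure D L) from ht)
    have h2 : t • x ∈ Submodule.span D' (s : Set L) := Submodule.span_le_restrictScalars D D' _ h1
    have h3 : x = (IsLocalization.mk' D' 1 t) • (t • x) := by
      rw [Submonoid.smul_def, Algebra.smul_def, Algebra.smul_def, IsScalarTower.algebraMap_apply D D' L,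
        ← mul_assoc, ← map_mul, IsLocalization.mk'_spec, map_one, map_one, one_mul]
    rw [h3]
    exact Submodule.smul_mem _ _ h2

theorem isN2_congr {R : Type u} [CommRing R] (q q' : Ideal R) (h : q = q') [hq : q.IsPrime]
    [hq' : q'.IsPrime] (hN : CAlg.IsN2 (R ⧸ q')) : CAlg.IsN2 (R ⧸ q) := by
  subst h; exact hN

theorem main (A : Type u) [CommRing A] (hA : CAlg.IsNagata A) (S : Submonoid A) :
    CAlg.IsNagata (Localization S) := by
  obtain ⟨hNoeth, hN2⟩ := hA
  refine ⟨IsLocalization.isNoetherianRing S (Localization S) hNoeth, ?_⟩
  intro q hq
  let p : Ideal A := q.comap (algebraMap A (Localization S))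
  have hp : p.IsPrime := Ideal.comap_isPrime _ _
  have hqp : q = p.map (algebraMap A (Localization S)) :=
    (IsLocalization.map_comap S (Localization S) q).symm
  have hq' : (p.map (algebraMap A (Localization S))).IsPrime := hqp ▸ hq
  refine isN2_congr q _ hqp ?_
  exact isN2_of_isLocalization (A ⧸ p) (Localization S ⧸ p.map (algebraMap A (Localization S)))
    (Algebra.algebraMapSubmonoid (A ⧸ p) S) (hN2 p)

/-- Last assertion, case of rings of fractions: if A is a Noetherian ring all of whose quotient domains
are Japanese (a Nagata ring), then so is every ring of fractions S⁻¹A. -/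
theorem result (A : Type u) [CommRing A] (hA : CAlg.IsNagata A) (S : Submonoid A) :
    CAlg.IsNagata (Localization S) := by
  exact main A hA S

end Groth.Agent.S4710
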