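import Groth.Statements.S9686
import Groth.Agent.Lib.Helper73.DimFormula.SchemeLocal

set_option autoImplicit false
universe u
open CategoryTheory CategoryTheory.Limits AlgebraicGeometry
open Mor

namespace Groth.Agent.S9686

/-- Let Y be locally Noetherian and f : X ⟶ Y locally of finite type. If E bounds the transcendence
degree of κ(ξ) over κ(f ξ) for every generic point ξ of an irreducible component of X, then dim X ≤
dim Y + E. (The published bound is the supremum of these transcendence degrees; the statement with
any upper bound E is equivalent.) -/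
theorem result {X Y : Scheme.{u}} [IsLocallyNoetherian Y]
    (f : X ⟶ Y) [LocallyOfFiniteType f] (E : ℕ)
    (hE : ∀ ξ : X, closure {ξ} ∈ irreducibleComponents ↥X →
      letI := (f.residueFieldMap ξ).hom.toAlgebra
      Algebra.trdeg (Y.residueField (f.base ξ)) (X.residueField ξ) ≤ E) :
    topologicalKrullDim ↥X ≤ topologicalKrullDim ↥Y + E := by
  rw [Groth.Agent.Lib.Helper73.topologicalKrullDim_eq_iSup_stalk X]
  refine iSup_le fun x => ?_
  obtain ⟨ξ, hξ1, hξ2, a, b, ha, hb, hle⟩ :=
    Groth.Agent.Lib.Helper73.exists_generic_stalk_dim_add_trdeg_le f x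
  have h1 := hE ξ hξ1
  have h2 : (a : Cardinal.{u}) ≤ (b : Cardinal.{u}) + (E : Cardinal.{u}) :=
    (le_add_right le_rfl).trans (hle.trans (by gcongr))
  have h3 : a ≤ b + E := by exact_mod_cast h2
  rw [ha]
  calc ((a : ℕ) : WithBot ℕ∞) ≤ ((b + E : ℕ) : WithBot ℕ∞) := by exact_mod_cast h3
    _ = ringKrullDim (Y.presheaf.stalk (f x)) + E := by rw [hb]; push_cast; rfl
    _ ≤ topologicalKrullDim Y + E := by
      gcongr
      exact Groth.Agent.Lib.Helper73.ringKrullDim_stalk_le_topologicalKrullDim Y (f x)

end Groth.Agent.S9686
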