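import Groth.Statements.S10459
-- import your own Groth.Agent.* helpers here
import Groth.Agent.S9686
import Groth.Agent.S10343
import Groth.Agent.Lib.Helper36.ResTrdeg
import Groth.Agent.Lib.Helper36.EtaleLocalDim
import Groth.Agent.Lib.Helper23.AlgSpNoeth

set_option autoImplicit false
universe u
open CategoryTheory CategoryTheory.Limits AlgebraicGeometry Topology TopologicalSpace
open AlgSp

namespace Groth.Agent.S10459

open Groth.Agent.Lib.Helper36.AlgSpChartDiag Groth.Agent.Lib.Helper36.AlgSpHasAtMor
  Groth.Agent.Lib.Helper36.ResTrdeg Groth.Agent.Lib.Helper36 Groth.Agent.Lib.Helper37.AlgSpPoints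

/-- The dimension of the target of a surjective étale morphism is at most that of the source. -/
theorem topologicalKrullDim_le_of_etale_surjective {W U : Scheme.{u}} (g : W ⟶ U) [Etale g]
    [Surjective g] : topologicalKrullDim ↥U ≤ topologicalKrullDim ↥W := by
  rw [Groth.Agent.Lib.Helper73.topologicalKrullDim_eq_iSup_stalk U]
  refine iSup_le fun u => ?_
  obtain ⟨w, rfl⟩ := g.surjective u
  rw [← Groth.Agent.Lib.Helper36.EtaleLocalDim.ringKrullDim_stalk_eq_of_etale g w]
  exact Groth.Agent.Lib.Helper73.ringKrullDim_stalk_le_topologicalKrullDim W w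

/-- The generic point of an irreducible component has no proper generization. -/
theorem eq_of_specializes_of_mem_irreducibleComponents {T : Type*} [TopologicalSpace T] [T0Space T]
    (ξ ξ' : T) (hξ : closure {ξ} ∈ irreducibleComponents T) (h : ξ' ⤳ ξ) : ξ' = ξ := by
  have h1 : closure {ξ} ⊆ closure {ξ'} := specializes_iff_closure_subset.1 h
  have h2 : IsIrreducible (closure ({ξ'} : Set T)) := isIrreducible_singleton.closure
  have h3 : closure {ξ'} ⊆ closure {ξ} := hξ.2 h2 h1
  have h4 : closure ({ξ'} : Set T) = closure {ξ} := subset_antisymm h3 h1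
  exact ((inseparable_iff_closure_eq.2 h4).eq)

/-- Let f : X ⟶ Y be a dominant morphism locally of finite type between integral algebraic spaces over a
scheme S, with Y locally Noetherian, and let r be the transcendence degree of the generic point of X
over its image (the generic point of Y). Then dim X ≤ dim Y + r. -/
theorem result {S : Scheme.{u}} {X Y : AlgSp.Space S} (f : X ⟶ Y)
    (hY : AlgSp.IsLocNoethSp Y.obj) (hXi : AlgSp.IsIntegralSp X.obj) (hYi : AlgSp.IsIntegralSp Y.obj)
    (hd : AlgSp.IsDominantMor f.hom) (hft : AlgSp.LocP @LocallyOfFiniteType f.hom)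
    (x : AlgSp.Points X.obj) (hx : IsGenericPoint x (Set.univ : Set (AlgSp.Points X.obj))) (r : ℕ)
    (hr : AlgSp.HasAtMor (fun _ _ h u => Dual3.resTrdeg h u = (r : Cardinal.{u})) f.hom x) :
    AlgSp.dim X.obj ≤ AlgSp.dim Y.obj + ((r : ℕ∞) : WithBot ℕ∞) := by
  have hXd : AlgSp.IsDecent X.obj := hXi.2.1
  have H := (hasAtMor_iff_forall_chart (isEtaleLocalGermMor_resTrdeg (· = (r : Cardinal.{u}))) f x).1 hr
  obtain ⟨V, b, hbe, hbs⟩ := Y.property.atlas
  have hVN : IsLocallyNoetherian V.left :=
    Groth.Agent.Lib.Helper23.AlgSpMor.isLocallyNoetherian_of_etale_chart hY b hbe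
  have hVY : topologicalKrullDim ↥V.left ≤ AlgSp.dim Y.obj := by
    unfold AlgSp.dim
    exact le_iSup_of_le V (le_iSup_of_le b (le_iSup_of_le hbe le_rfl))
  unfold AlgSp.dim
  refine iSup_le fun U => iSup_le fun a => iSup_le fun hae => ?_
  obtain ⟨W, p1, h, h1, h2, sq⟩ := exists_chart_diagram_of_charts f.hom a b hbe
  have : Etale p1.left := h1
  have : Surjective p1.left := h2 hbs
  have ha'e : RepWith @Etale ((yon S).map p1 ≫ a) := repWith_yon_map_comp p1 h1 a hae
  have weq : ((yon S).map p1 ≫ a) ≫ f.hom = (yon S).map h ≫ b := by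
    rw [Category.assoc]; exact sq.w
  have : LocallyOfFiniteType h.left := hft _ b h ha'e hbe weq
  have key : topologicalKrullDim ↥W.left ≤ topologicalKrullDim ↥V.left + (r : ℕ) := by
    refine Groth.Agent.S9686.result h.left r ?_
    intro ξ hξ
    have hsp : x ⤳ AlgSp.Points.ofPt ((yon S).map p1 ≫ a) ξ := by
      rw [specializes_iff_mem_closure, hx.def]; trivial
    obtain ⟨ξ', hξ's, hξ'⟩ := Groth.Agent.S10343.result X _ x hsp (hXd x) _ ha'e ξ rfl
    have e : ξ' = ξ := eq_of_specializes_of_mem_irreducibleComponents ξ ξ' hξ hξ's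
    rw [e] at hξ'
    exact le_of_eq (H W V _ b h ξ ha'e hbe weq hξ')
  calc topologicalKrullDim ↥U.left ≤ topologicalKrullDim ↥W.left :=
        topologicalKrullDim_le_of_etale_surjective p1.left
    _ ≤ topologicalKrullDim ↥V.left + (r : ℕ) := key
    _ ≤ AlgSp.dim Y.obj + ((r : ℕ∞) : WithBot ℕ∞) := by
        exact add_le_add hVY le_rfl

end Groth.Agent.S10459
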