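import Groth.Statements.S10486
-- import your own Groth.Agent.* helpers here
import Groth.Agent.S10340
import Groth.Agent.S10343
import Groth.Agent.Lib.Helper36.ResTrdeg
import Groth.Agent.Lib.Helper73.DimFormula.Hypersurface

set_option autoImplicit false
universe u
open CategoryTheory CategoryTheory.Limits AlgebraicGeometry Topology TopologicalSpace
open AlgSp

namespace Groth.Agent.S10486

open Groth.Agent.Lib.Helper36.AlgSpChartDiag Groth.Agent.Lib.Helper36.AlgSpHasAtMor
  Groth.Agent.Lib.Helper36.ResTrdeg Groth.Agent.Lib.Helper36 Groth.Agent.Lib.Helper37.AlgSpPoints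

/-- In a fibre of a morphism locally of finite type, a point whose residue field has positive
transcendence degree over the base point has a proper specialization inside the fibre. -/
theorem exists_specializes_fiber_of_resTrdeg_ne_zero {U V : Scheme.{u}} (h : U ⟶ V)
    [LocallyOfFiniteType h] (w : ↥U) (h0 : Dual3.resTrdeg h w ≠ 0) :
    ∃ w' : ↥U, w ⤳ w' ∧ h w' = h w ∧ w' ≠ w := by
  have h3 : Dual3.resTrdeg h w = Groth.Agent.Lib.Helper73.resTrdeg h w := rfl
  rw [h3, Groth.Agent.Lib.Helper73.resTrdeg_eq_natCast h w] at h0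
  have hne : Groth.Agent.Lib.Helper73.trdegNat (k := V.residueField (h w))
      (h.fiberToSpecResidueField (h w)) (h.asFiber w) ≠ 0 := by
    intro e; rw [e] at h0; exact h0 Nat.cast_zero
  obtain ⟨y, -, hxy, hny⟩ := (Groth.Agent.Lib.Helper73.isDimFun_trdegNat (k := V.residueField (h w))
    (h.fiberToSpecResidueField (h w))).exists_specializes_of_ne_zero (h.asFiber w) Set.univ
    isOpen_univ trivial hne
  refine ⟨h.fiberι (h w) y, ?_, ?_, ?_⟩
  · have := hxy.map (h.fiberι (h w)).continuous
    rwa [h.fiberι_asFiber w] at this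
  · exact (h.fiberHomeo (h w) y).2
  · intro e
    apply hny
    apply (h.fiberι (h w)).isEmbedding.injective
    rw [e, h.fiberι_asFiber w]

/-- In a fibre of a morphism locally of finite type, the residue transcendence degree is positive
at a proper generization. -/
theorem resTrdeg_ne_zero_of_specializes_fiber {U V : Scheme.{u}} (h : U ⟶ V)
    [LocallyOfFiniteType h] (w w' : ↥U) (hs : w ⤳ w') (he : h w = h w') (hne : w ≠ w') :
    Dual3.resTrdeg h w ≠ 0 := by
  have h3 : Dual3.resTrdeg h w = Groth.Agent.Lib.Helper73.resTrdeg h w := rfl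
  have := Groth.Agent.Lib.Helper73.resTrdegNat_lt_of_specializes_fiber h w' w hs he hne
  rw [h3, Groth.Agent.Lib.Helper73.resTrdeg_eq_resTrdegNat h w]
  intro e
  have e' : Groth.Agent.Lib.Helper73.resTrdegNat h w = 0 := by exact_mod_cast e
  omega

/-- The space of points of a decent algebraic space is Kolmogorov. -/
theorem eq_of_specializes_of_specializes {S : Scheme.{u}} (Y : AlgSp.Space S)
    (hY : AlgSp.IsDecent Y.obj) (y y' : AlgSp.Points Y.obj) (h1 : y ⤳ y') (h2 : y' ⤳ y) :
    y = y' := by
  obtain ⟨V, b, hbe, hbs⟩ := Y.property.atlas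
  obtain ⟨v, hv⟩ := ofPt_surjective b hbs y'
  obtain ⟨v1, hv1s, hv1⟩ := Groth.Agent.S10343.result Y y' y h1 (hY y) b hbe v hv
  obtain ⟨v2, hv2s, hv2⟩ := Groth.Agent.S10343.result Y y y' h2 (hY y') b hbe v1 hv1
  have e : v = v2 := Groth.Agent.S10340.result Y hY b hbe v v2 (hv.trans hv2.symm)
    (hv2s.trans hv1s)
  have e1 : v = v1 := (e ▸ hv2s : v ⤳ v1).antisymm hv1s |>.eq
  rw [← hv1, ← hv, e1]

/-- A dominant morphism to a decent space maps a generic point to the generic point. -/
theorem map_generic_eq {S : Scheme.{u}} {X Y : AlgSp.Space S} (hYd : AlgSp.IsDecent Y.obj)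
    (f : X ⟶ Y) (hd : AlgSp.IsDominantMor f.hom)
    (x : AlgSp.Points X.obj) (hx : IsGenericPoint x (Set.univ : Set (AlgSp.Points X.obj)))
    (y : AlgSp.Points Y.obj) (hy : IsGenericPoint y (Set.univ : Set (AlgSp.Points Y.obj))) :
    AlgSp.Points.map f.hom x = y := by
  apply eq_of_specializes_of_specializes Y hYd
  · rw [specializes_iff_mem_closure]
    have hcl : closure (Set.range (AlgSp.Points.map f.hom)) = Set.univ := hd.closure_range
    have h1 : Set.range (AlgSp.Points.map f.hom) ⊆ closure {AlgSp.Points.map f.hom x} := by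
      rintro _ ⟨x', rfl⟩
      have : x ⤳ x' := by
        rw [specializes_iff_mem_closure, hx.def]; trivial
      exact specializes_iff_mem_closure.1 (this.map (AlgSp.Points.continuous_map f.hom))
    have h2 := closure_minimal h1 isClosed_closure
    rw [hcl] at h2
    exact h2 (Set.mem_univ y)
  · rw [specializes_iff_mem_closure, hy.def]; trivial

/-- (1) ⇔ (5): let f : X ⟶ Y be a dominant morphism locally of finite type between integral algebraic
spaces over a scheme S, with generic points x and y. Then the transcendence degree of x over y is 0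
if and only if x is the only point of X mapping to y. -/
theorem result {S : Scheme.{u}} {X Y : AlgSp.Space S} (hXi : AlgSp.IsIntegralSp X.obj) (hYi : AlgSp.IsIntegralSp Y.obj)
    (f : X ⟶ Y) (hft : AlgSp.LocP @LocallyOfFiniteType f.hom) (hd : AlgSp.IsDominantMor f.hom)
    (x : AlgSp.Points X.obj) (hx : IsGenericPoint x (Set.univ : Set (AlgSp.Points X.obj)))
    (y : AlgSp.Points Y.obj) (hy : IsGenericPoint y (Set.univ : Set (AlgSp.Points Y.obj))) :
    AlgSp.HasAtMor (fun _ _ h u => Dual3.resTrdeg h u = 0) f.hom x ↔ (∀ x' : AlgSp.Points X.obj, AlgSp.Points.map f.hom x' = y → x' = x) := by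
  have hXd : AlgSp.IsDecent X.obj := hXi.2.1
  have hYd : AlgSp.IsDecent Y.obj := hYi.2.1
  have hfx : AlgSp.Points.map f.hom x = y := map_generic_eq hYd f hd x hx y hy
  obtain ⟨W, V, a, b, h, hae, has, hbe, hbs, weq⟩ := exists_chart_diagram f
  have : LocallyOfFiniteType h.left := hft a b h hae hbe weq
  have hfa : ∀ w : ↥W.left, AlgSp.Points.map f.hom (AlgSp.Points.ofPt a w) =
      AlgSp.Points.ofPt b (h.left w) := by
    intro w
    rw [AlgSp.Points.map_ofPt, weq, ofPt_map_comp]
  constructor
  · intro hr x' hx'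
    have H := (hasAtMor_iff_forall_chart (isEtaleLocalGermMor_resTrdeg (· = 0)) f x).1 hr
    obtain ⟨w', hw'⟩ := ofPt_surjective a has x'
    have hsp : x ⤳ x' := by
      rw [specializes_iff_mem_closure, hx.def]; trivial
    obtain ⟨w0, hw0s, hw0⟩ := Groth.Agent.S10343.result X x' x hsp (hXd x) a hae w' hw'
    have hv : h.left w' = h.left w0 := by
      apply Groth.Agent.S10340.result Y hYd b hbe (h.left w') (h.left w0)
      · rw [← hfa, ← hfa, hw', hw0, hx', hfx]
      · exact hw0s.map h.left.continuous
    by_contra hne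
    have h0 := H W V a b h w0 hae hbe weq hw0
    refine resTrdeg_ne_zero_of_specializes_fiber h.left w0 w' hw0s hv.symm ?_ h0
    rintro rfl
    exact hne (hw'.symm.trans hw0)
  · intro hu
    obtain ⟨w, hw⟩ := ofPt_surjective a has x
    refine ⟨W, V, a, b, h, w, hae, hbe, weq, hw, ?_⟩
    by_contra h0
    obtain ⟨w', hs, he, hne⟩ := exists_specializes_fiber_of_resTrdeg_ne_zero h.left w h0
    have hx' : AlgSp.Points.ofPt a w' = x := by
      apply hu
      rw [hfa, he, ← hfa, hw, hfx]
    exact hne (Groth.Agent.S10340.result X hXd a hae w' w (hx'.trans hw.symm) hs)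

end Groth.Agent.S10486
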