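import Groth.Statements.S10434
-- import your own Groth.Agent.* helpers here
import Groth.Agent.Lib.Helper36.BiratPts
import Groth.Agent.Lib.Helper36.OpenImmIso
import Groth.Agent.Lib.Helper36.AlgSpCharts
import Groth.Agent.Lib.Helper36.AlgSpChartDiag
import Groth.Agent.Lib.Helper37.AlgSpFibres
import Groth.Agent.Lib.Helper37.QsSober
import Groth.Agent.Lib.Helper30.DecentSober
import Groth.Agent.Lib.Helper30.LocPNbhd
import Groth.Agent.Lib.Helper54.SchemeIsoLocus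
import Groth.Agent.Lib.Helper46.OpenImmFpqc

set_option autoImplicit false
universe u
open CategoryTheory CategoryTheory.Limits AlgebraicGeometry Topology TopologicalSpace
open AlgSp

namespace Groth.Agent.S10434

open Groth.Agent.Lib.Helper37.AlgSpPoints Groth.Agent.Lib.Helper37.AlgSpFibres
  Groth.Agent.Lib.Helper37.QsSober Groth.Agent.Lib.Helper30.DecentSober
  Groth.Agent.Lib.Helper30.LocPNbhd Groth.Agent.Lib.Helper36.AlgSpCharts
  Groth.Agent.Lib.Helper36.BiratPts Groth.Agent.Lib.Helper93.Birat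

variable {S : Scheme.{u}}

theorem ofPt_injective_of_mono {F : Sp S} {U : Over S} (a : (yon S).obj U ⟶ F) [Mono a] :
    Function.Injective (Points.ofPt a) := by
  intro u u' h
  rw [Points.ofPt_eq_map_ofScheme, Points.ofPt_eq_map_ofScheme a] at h
  exact (Points.schemeEquiv U).injective (points_map_injective_of_mono a h)

/-- Claim 2: the fibre of `f` over the generic point `y` is the generic point `x`. -/
theorem fibre_eq {X Y : AlgSp.Space S} (f : X ⟶ Y)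
    (hX : AlgSp.IsDecent X.obj) (hY : AlgSp.IsDecent Y.obj)
    (hf : W4stk3decentspacesp2.IsBirational f.hom)
    {U₁ V₁ : Over S} (a₁ : (yon S).obj U₁ ⟶ X.obj) (b₁ : (yon S).obj V₁ ⟶ Y.obj) (g₁ : U₁ ⟶ V₁)
    (u₁ : ↥U₁.left)
    (ha₁ : RepWith @IsOpenImmersion a₁) (hb₁ : RepWith @IsOpenImmersion b₁)
    (hcomm : a₁ ≫ f.hom = (yon S).map g₁ ≫ b₁)
    (hx : Points.ofPt a₁ u₁ ∈ genericPoints (Points X.obj))
    (hiso : IsIso (g₁.left.stalkMap u₁))
    (x' : Points X.obj) (hx' : Points.map f.hom x' = Points.ofPt b₁ (g₁.left u₁)) :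
    x' = Points.ofPt a₁ u₁ := by
  have hT0X := t0Space_points_of_isDecent X hX
  have hT0Y := t0Space_points_of_isDecent Y hY
  have hQS := quasiSober_of_isDecent X hX
  have hmb : Mono b₁ := mono_of_isOpenImmersion hb₁
  have hfx : Points.map f.hom (Points.ofPt a₁ u₁) = Points.ofPt b₁ (g₁.left u₁) := by
    rw [Points.map_ofPt, hcomm, ofPt_map_comp]
  have hy : Points.ofPt b₁ (g₁.left u₁) ∈ genericPoints (Points Y.obj) :=
    hfx ▸ hf.bijOn.mapsTo hx
  obtain ⟨ξ, hξ, hξx'⟩ := exists_generic_specializes x'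
  have h1 : Points.map f.hom ξ ⤳ Points.ofPt b₁ (g₁.left u₁) :=
    hx' ▸ hξx'.map (Points.continuous_map f.hom)
  have h2 : Points.map f.hom ξ = Points.ofPt b₁ (g₁.left u₁) := eq_of_specializes_of_generic hy h1
  have h3 : ξ = Points.ofPt a₁ u₁ := hf.bijOn.injOn hξ hx (h2.trans hfx.symm)
  subst h3
  obtain ⟨W, c, w', hWaff, hc, rfl⟩ := exists_affine_chart X x'
  obtain ⟨q, hq, -, hqc⟩ := hX (Points.ofPt a₁ u₁)
  obtain ⟨w, hws, hw⟩ := exists_specializes_lift_of_qc_point (Points.ofPt c w')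
    (Points.ofPt a₁ u₁) hξx' q hq hqc c hc w' rfl
  obtain ⟨W', j, k, sq1⟩ := exists_isPullback_yon (c ≫ f.hom) b₁ hb₁.rep
  have hj : IsOpenImmersion j.left := prop_fst_of_isPullback sq1 hb₁
  have e' : Points.ofPt (c ≫ f.hom) w' = Points.ofPt b₁ (g₁.left u₁) := by
    rw [← Points.map_ofPt]; exact hx'
  obtain ⟨w₀', hw₀'1, hw₀'2⟩ := (ofPt_eq_ofPt_iff sq1 w' (g₁.left u₁)).1 e'
  have e : Points.ofPt (c ≫ f.hom) w = Points.ofPt b₁ (g₁.left u₁) := by
    rw [← Points.map_ofPt, hw, hfx]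
  obtain ⟨w₀, hw₀1, hw₀2⟩ := (ofPt_eq_ofPt_iff sq1 w (g₁.left u₁)).1 e
  have hs₀ : w₀ ⤳ w₀' := by
    rw [← j.left.isOpenEmbedding.isInducing.specializes_iff, hw₀1, hw₀'1]
    exact hws
  obtain ⟨W'', j', l, sq2⟩ := exists_isPullback_yon ((yon S).map j ≫ c) a₁ ha₁.rep
  have hj' : IsOpenImmersion j'.left := prop_fst_of_isPullback sq2 ha₁
  have hc' : RepWith @Etale ((yon S).map j ≫ c) :=
    Groth.Agent.Lib.Helper36.AlgSpChartDiag.repWith_yon_map_comp (P := @Etale) j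
      (by show Etale j.left; infer_instance) c hc
  have hl : Etale l.left := prop_snd_of_isPullback sq2 hc'
  have e₁ : Points.ofPt ((yon S).map j ≫ c) w₀ = Points.ofPt a₁ u₁ := by
    rw [ofPt_map_comp, hw₀1, hw]
  obtain ⟨w₁, hw₁1, hw₁2⟩ := (ofPt_eq_ofPt_iff sq2 w₀ u₁).1 e₁
  have hsq : j' ≫ k = l ≫ g₁ := by
    apply (yon S).map_injective
    rw [← cancel_mono b₁, Functor.map_comp, Functor.map_comp, Category.assoc, Category.assoc,
      ← sq1.w, ← hcomm, ← Category.assoc, ← Category.assoc, ← Category.assoc, ← sq2.w,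
      Category.assoc ((yon S).map j')]
  have hsq' : j'.left ≫ k.left = l.left ≫ g₁.left := by
    rw [← Over.comp_left, hsq, Over.comp_left]
  subst hw₁2
  have hint := isIntegral_residueFieldMap_of_sq j'.left k.left l.left g₁.left hsq' w₁
  have hfin : j'.left w₁ = w₀' := by
    refine eq_of_specializes_of_isIntegral k.left (hw₁1 ▸ hs₀) ?_ hint
    rw [hw₀'2, hw₁1, hw₀2]
  have : w = w' := by rw [← hw₀1, ← hw₁1, hfin, hw₀'1]
  rw [← hw, this]

/-- the local scheme `Spec O_{V₁, v₁}` over `S` -/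
noncomputable abbrev T₁ {V₁ : Over S} (v₁ : ↥V₁.left) : Over S :=
  Over.mk (V₁.left.fromSpecStalk v₁ ≫ V₁.hom)

noncomputable def ι₁ {V₁ : Over S} (v₁ : ↥V₁.left) : T₁ v₁ ⟶ V₁ :=
  Over.homMk (V₁.left.fromSpecStalk v₁) rfl

noncomputable abbrev QS {U₁ V₁ : Over S} (g₁ : U₁ ⟶ V₁) (u₁ : ↥U₁.left) : Over S :=
  Over.mk (pullback.snd g₁.left (V₁.left.fromSpecStalk (g₁.left u₁)) ≫
    (V₁.left.fromSpecStalk (g₁.left u₁) ≫ V₁.hom))

noncomputable def pr₁ {U₁ V₁ : Over S} (g₁ : U₁ ⟶ V₁) (u₁ : ↥U₁.left) : QS g₁ u₁ ⟶ U₁ :=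
  Over.homMk (pullback.fst g₁.left (V₁.left.fromSpecStalk (g₁.left u₁))) (by
    show pullback.fst _ _ ≫ U₁.hom = pullback.snd _ _ ≫ _ ≫ V₁.hom
    rw [← Over.w g₁, ← Category.assoc, pullback.condition, Category.assoc])

noncomputable def pr₂ {U₁ V₁ : Over S} (g₁ : U₁ ⟶ V₁) (u₁ : ↥U₁.left) :
    QS g₁ u₁ ⟶ T₁ (g₁.left u₁) :=
  Over.homMk (pullback.snd g₁.left (V₁.left.fromSpecStalk (g₁.left u₁))) rfl

theorem main {X Y : AlgSp.Space S} (f : X ⟶ Y)
    (hX : AlgSp.IsDecent X.obj) (hY : AlgSp.IsDecent Y.obj)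
    (hf : W4stk3decentspacesp2.IsBirational f.hom)
    {U₁ V₁ : Over S} (a₁ : (yon S).obj U₁ ⟶ X.obj) (b₁ : (yon S).obj V₁ ⟶ Y.obj) (g₁ : U₁ ⟶ V₁)
    (u₁ : ↥U₁.left)
    (ha₁ : RepWith @IsOpenImmersion a₁) (hb₁ : RepWith @IsOpenImmersion b₁)
    (hcomm : a₁ ≫ f.hom = (yon S).map g₁ ≫ b₁)
    (hx : Points.ofPt a₁ u₁ ∈ genericPoints (Points X.obj))
    (hiso : IsIso (g₁.left.stalkMap u₁))
    {P : AlgSp.Sp S} (fst : P ⟶ X.obj) (snd : P ⟶ (yon S).obj (T₁ (g₁.left u₁)))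
    (hP : IsPullback fst snd f.hom ((yon S).map (ι₁ (g₁.left u₁)) ≫ b₁)) : IsIso snd := by
  have hT0Y := t0Space_points_of_isDecent Y hY
  have hmb : Mono b₁ := mono_of_isOpenImmersion hb₁
  have hma : Mono a₁ := mono_of_isOpenImmersion ha₁
  have hfx : Points.map f.hom (Points.ofPt a₁ u₁) = Points.ofPt b₁ (g₁.left u₁) := by
    rw [Points.map_ofPt, hcomm, ofPt_map_comp]
  have hy : Points.ofPt b₁ (g₁.left u₁) ∈ genericPoints (Points Y.obj) :=
    hfx ▸ hf.bijOn.mapsTo hx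
  have hfib := fibre_eq f hX hY hf a₁ b₁ g₁ u₁ ha₁ hb₁ hcomm hx hiso
  have hfibS : ∀ u' : ↥U₁.left, g₁.left u' ⤳ g₁.left u₁ → u' = u₁ := by
    intro u' hu'
    have h1 : Points.ofPt b₁ (g₁.left u') ⤳ Points.ofPt b₁ (g₁.left u₁) :=
      hu'.map (Points.continuous_ofPt b₁)
    have h2 := eq_of_specializes_of_generic hy h1
    have h3 : Points.map f.hom (Points.ofPt a₁ u') = Points.ofPt b₁ (g₁.left u₁) := by
      rw [Points.map_ofPt, hcomm, ofPt_map_comp, h2]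
    exact ofPt_injective_of_mono a₁ (hfib _ h3)
  have sqQ : IsPullback ((yon S).map (pr₁ g₁ u₁)) ((yon S).map (pr₂ g₁ u₁)) ((yon S).map g₁)
      ((yon S).map (ι₁ (g₁.left u₁))) :=
    Groth.Agent.Lib.Helper54.SchemeIsoLocus.isPullback_yon_map
      (IsPullback.of_hasPullback g₁.left (V₁.left.fromSpecStalk (g₁.left u₁)))
  have hθw : ((yon S).map (pr₁ g₁ u₁) ≫ a₁) ≫ f.hom =
      (yon S).map (pr₂ g₁ u₁) ≫ ((yon S).map (ι₁ (g₁.left u₁)) ≫ b₁) := by
    rw [Category.assoc, hcomm, ← Category.assoc, ← Category.assoc, sqQ.w]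
  obtain ⟨θ, hθ1, hθ2⟩ : ∃ θ : (yon S).obj (QS g₁ u₁) ⟶ P,
      θ ≫ fst = (yon S).map (pr₁ g₁ u₁) ≫ a₁ ∧ θ ≫ snd = (yon S).map (pr₂ g₁ u₁) :=
    ⟨hP.lift _ _ hθw, hP.lift_fst _ _ _, hP.lift_snd _ _ _⟩
  have sqB : IsPullback ((yon S).map g₁) (𝟙 _) b₁ ((yon S).map g₁ ≫ b₁) :=
    (IsPullback.of_horiz_isIso_mono ⟨by rw [Category.id_comp]⟩).flip
  have sqO := sqQ.flip.paste_vert sqB
  rw [Category.comp_id] at sqO
  have sqθ : IsPullback θ ((yon S).map (pr₁ g₁ u₁)) fst a₁ := by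
    refine IsPullback.of_right ?_ hθ1 hP.flip
    rw [hθ2, hcomm]
    exact sqO
  have hθo : RepWith @IsOpenImmersion θ := (RepWith @IsOpenImmersion).of_isPullback sqθ.flip ha₁
  have hθs : IsSurjectiveMor θ := by
    intro p
    have h1 : Points.map f.hom (Points.map fst p) = Points.ofPt b₁ (g₁.left u₁) := by
      rw [← Points.map_comp, hP.w, Points.map_comp]
      obtain ⟨t, ht⟩ := (Points.schemeEquiv (T₁ (g₁.left u₁))).surjective (Points.map snd p)
      rw [← ht]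
      change Points.map _ (Points.ofPt (𝟙 _) t) = _
      rw [Points.map_ofPt, Category.id_comp, ofPt_map_comp]
      apply eq_of_specializes_of_generic hy
      apply Specializes.map _ (Points.continuous_ofPt b₁)
      have : (ι₁ (g₁.left u₁)).left t ∈ Set.range (V₁.left.fromSpecStalk (g₁.left u₁)) := ⟨t, rfl⟩
      rwa [Scheme.range_fromSpecStalk] at this
    have h2 := hfib _ h1
    obtain ⟨q, hq1, -⟩ := points_exists_of_isPullback sqθ p (Points.ofScheme U₁ u₁)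
      (h2.trans (Points.ofPt_eq_map_ofScheme a₁ u₁))
    exact ⟨q, hq1⟩
  have hθiso : IsIso θ :=
    Groth.Agent.Lib.Helper46.OpenImmFpqc.isIso_of_isOpenImmersion_of_surjective θ hθo hθs
  have hpr₂l : IsIso (pr₂ g₁ u₁).left := isIso_snd_fromSpecStalk g₁.left u₁ hfibS
  have hpr₂ : IsIso (pr₂ g₁ u₁) := by
    have : IsIso ((Over.forget S).map (pr₂ g₁ u₁)) := hpr₂l
    exact isIso_of_reflects_iso (pr₂ g₁ u₁) (Over.forget S)
  have hsnd : snd = inv θ ≫ (yon S).map (pr₂ g₁ u₁) := by rw [IsIso.eq_inv_comp, hθ2]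
  rw [hsnd]
  infer_instance

/-- Take decent algebraic spaces X and Y over a scheme S, each with only finitely many irreducible
components in its space of points, and a birational f : X ⟶ Y. For a generic point y of an
irreducible component of |Y|, seen as a point v of an open subscheme V of Y, the base change of f
along Spec(O_{V,v}) ⟶ V ⟶ Y has invertible projection onto Spec(O_{V,v}). -/
theorem result {S : Scheme.{u}} {X Y : AlgSp.Space S} (f : X ⟶ Y)
    (hX : AlgSp.IsDecent X.obj) (hY : AlgSp.IsDecent Y.obj)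
    (hXf : (irreducibleComponents (AlgSp.Points X.obj)).Finite)
    (hYf : (irreducibleComponents (AlgSp.Points Y.obj)).Finite)
    (hf : W4stk3decentspacesp2.IsBirational f.hom) {V : Over S} (b : (AlgSp.yon S).obj V ⟶ Y.obj)
    (hb : AlgSp.RepWith @IsOpenImmersion b) (v : ↥V.left)
    (hv : AlgSp.Points.ofPt b v ∈ genericPoints (AlgSp.Points Y.obj)) {P : AlgSp.Sp S} (fst : P ⟶ X.obj)
    (snd : P ⟶ (AlgSp.yon S).obj (Over.mk (V.left.fromSpecStalk v ≫ V.hom)))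
    (hP : IsPullback fst snd f.hom ((AlgSp.yon S).map (Over.homMk (V.left.fromSpecStalk v) rfl) ≫ b)) :
    IsIso snd := by
  obtain ⟨x, hx, hxy⟩ := hf.bijOn.surjOn hv
  obtain ⟨U₁, V₁, a₁, b₁, g₁, u₁, ha₁, hb₁, hcomm, hu₁, hiso⟩ := hf.stalkIso x hx
  subst hu₁
  have hfx : Points.ofPt b₁ (g₁.left u₁) = Points.ofPt b v := by
    rw [← hxy, Points.map_ofPt, hcomm, ofPt_map_comp]
  obtain ⟨V', p, p₁, sqV⟩ := exists_isPullback_yon b b₁ hb₁.rep
  have hp : IsOpenImmersion p.left := prop_fst_of_isPullback sqV hb₁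
  have hp₁ : IsOpenImmersion p₁.left := prop_snd_of_isPullback sqV hb
  obtain ⟨v', hv'1, hv'2⟩ := (ofPt_eq_ofPt_iff sqV v (g₁.left u₁)).1 hfx.symm
  obtain ⟨e₁, he₁⟩ := exists_iso_specStalk p.left v' v hv'1
  obtain ⟨e₂, he₂⟩ := exists_iso_specStalk p₁.left v' (g₁.left u₁) hv'2
  have he₂' : e₂.inv ≫ V₁.left.fromSpecStalk (g₁.left u₁) = V'.left.fromSpecStalk v' ≫ p₁.left := by
    rw [← he₂, Iso.inv_hom_id_assoc]
  have hκw : (e₁.hom ≫ V'.left.fromSpecStalk v') ≫ V'.hom = V.left.fromSpecStalk v ≫ V.hom := by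
    rw [← he₁, ← Over.w p]
    simp only [Category.assoc]
  let κ : Over.mk (V.left.fromSpecStalk v ≫ V.hom) ⟶ V' :=
    Over.homMk (e₁.hom ≫ V'.left.fromSpecStalk v') hκw
  have hEw : (e₁.hom ≫ e₂.inv) ≫ (V₁.left.fromSpecStalk (g₁.left u₁) ≫ V₁.hom) =
      V.left.fromSpecStalk v ≫ V.hom := by
    rw [Category.assoc, ← Category.assoc e₂.inv, he₂', Category.assoc, Over.w p₁, ← Category.assoc,
      hκw]
  let E : Over.mk (V.left.fromSpecStalk v ≫ V.hom) ⟶ T₁ (g₁.left u₁) :=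
    Over.homMk (e₁.hom ≫ e₂.inv) hEw
  have hE : IsIso E := by
    have : IsIso ((Over.forget S).map E) := by
      show IsIso (e₁.hom ≫ e₂.inv)
      infer_instance
    exact isIso_of_reflects_iso E (Over.forget S)
  have hE1 : E ≫ ι₁ (g₁.left u₁) = κ ≫ p₁ := by
    apply Over.OverMorphism.ext
    show (e₁.hom ≫ e₂.inv) ≫ V₁.left.fromSpecStalk (g₁.left u₁) =
      (e₁.hom ≫ V'.left.fromSpecStalk v') ≫ p₁.left
    rw [Category.assoc, he₂', Category.assoc]
  have hE2 : κ ≫ p = Over.homMk (V.left.fromSpecStalk v) rfl := by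
    apply Over.OverMorphism.ext
    show (e₁.hom ≫ V'.left.fromSpecStalk v') ≫ p.left = V.left.fromSpecStalk v
    rw [Category.assoc, he₁]
  have hEτ : (yon S).map E ≫ ((yon S).map (ι₁ (g₁.left u₁)) ≫ b₁) =
      (yon S).map (Over.homMk (V.left.fromSpecStalk v) rfl) ≫ b := by
    rw [← Category.assoc, ← Functor.map_comp, hE1, Functor.map_comp, Category.assoc, ← sqV.w,
      ← Category.assoc, ← Functor.map_comp, hE2]
  have hP' : IsPullback fst (snd ≫ (yon S).map E) f.hom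
      ((yon S).map (ι₁ (g₁.left u₁)) ≫ b₁) :=
    IsPullback.of_iso hP (Iso.refl _) (Iso.refl _) (asIso ((yon S).map E)) (Iso.refl _)
      (by simp) (by simp) (by simp) (by simp [hEτ])
  have := main f hX hY hf a₁ b₁ g₁ u₁ ha₁ hb₁ hcomm hx hiso fst (snd ≫ (yon S).map E) hP'
  exact IsIso.of_isIso_comp_right snd ((yon S).map E)

end Groth.Agent.S10434
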