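import Groth.Statements.S10435
-- import your own Groth.Agent.* helpers here
import Groth.Agent.S10434
import Groth.Agent.Lib.Helper36.DisjOpenGlue
import Groth.Agent.Lib.Helper36.FieldBCRed

set_option autoImplicit false
universe u
open CategoryTheory CategoryTheory.Limits AlgebraicGeometry Topology TopologicalSpace
open AlgSp

namespace Groth.Agent.S10435

open Groth.Agent.Lib.Helper37.AlgSpPoints Groth.Agent.Lib.Helper37.AlgSpFibres
  Groth.Agent.Lib.Helper37.QsSober Groth.Agent.Lib.Helper30.DecentSober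
  Groth.Agent.Lib.Helper30.LocPNbhd Groth.Agent.Lib.Helper36.AlgSpCharts
  Groth.Agent.Lib.Helper36.BiratPts Groth.Agent.Lib.Helper93.Birat
  Groth.Agent.Lib.Helper36.DisjOpenGlue Groth.Agent.Lib.Helper5
  Groth.Agent.Lib.Helper23.AlgSpMor Groth.Agent.Lib.Helper37.DisjCover

variable {S : Scheme.{u}}

theorem isOpenEmbedding_ofPt {F : Sp S} {U : Over S} (a : (yon S).obj U ⟶ F)
    (ha : RepWith @IsOpenImmersion a) : IsOpenEmbedding (Points.ofPt a) := by
  have := mono_of_isOpenImmersion ha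
  exact IsOpenEmbedding.of_continuous_injective_isOpenMap (Points.continuous_ofPt a)
    (Groth.Agent.S10434.ofPt_injective_of_mono a)
    (isOpenMap_ofPt a (repWith_etale_of_isOpenImmersion ha))

theorem assemble {X Y : Sp S} (f : X ⟶ Y) {n : ℕ} (U V : Fin n → Over S)
    (a : ∀ i, (yon S).obj (U i) ⟶ X) (b : ∀ i, (yon S).obj (V i) ⟶ Y) (g : ∀ i, U i ⟶ V i)
    (ha : ∀ i, RepWith @IsOpenImmersion (a i)) (hb : ∀ i, RepWith @IsOpenImmersion (b i))
    (hcomm : ∀ i, a i ≫ f = (yon S).map (g i) ≫ b i) (hg : ∀ i, IsIso (g i).left)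
    (hda : ∀ i j, i ≠ j →
      Disjoint (Set.range (Points.ofPt (a i))) (Set.range (Points.ofPt (a j))))
    (hdb : ∀ i j, i ≠ j →
      Disjoint (Set.range (Points.ofPt (b i))) (Set.range (Points.ofPt (b j)))) :
    ∃ (A : (yon S).obj (sigmaOver U) ⟶ X) (B : (yon S).obj (sigmaOver V) ⟶ Y)
      (G : sigmaOver U ⟶ sigmaOver V),
      RepWith @IsOpenImmersion A ∧ RepWith @IsOpenImmersion B ∧
      Set.range (Points.ofPt A) = ⋃ i, Set.range (Points.ofPt (a i)) ∧
      Set.range (Points.ofPt B) = ⋃ i, Set.range (Points.ofPt (b i)) ∧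
      A ≫ f = (yon S).map G ≫ B ∧ IsIso G.left := by
  obtain ⟨A, hA, hAι, hAr⟩ := exists_glue U a ha hda
  obtain ⟨B, hB, hBι, hBr⟩ := exists_glue V b hb hdb
  have hGw : Limits.Sigma.map (fun i => (g i).left) ≫ (sigmaOver V).hom = (sigmaOver U).hom := by
    apply Sigma.hom_ext
    intro i
    rw [Sigma.ι_map_assoc]
    simp [sigmaOver]
  obtain ⟨G, hGl⟩ : ∃ G : sigmaOver U ⟶ sigmaOver V, G.left = Limits.Sigma.map (fun i => (g i).left) :=
    ⟨Over.homMk (Limits.Sigma.map fun i => (g i).left) hGw, rfl⟩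
  have hGι : ∀ i, sigmaOverι U i ≫ G = g i ≫ sigmaOverι V i := by
    intro i
    apply Over.OverMorphism.ext
    show Sigma.ι (fun i => (U i).left) i ≫ G.left = (g i).left ≫ Sigma.ι (fun i => (V i).left) i
    rw [hGl]
    exact Sigma.ι_map _ _
  refine ⟨A, B, G, hA, hB, hAr, hBr, ?_, ?_⟩
  · apply Cofan.IsColimit.hom_ext (isColimitYonSigmaOver U)
    intro i
    show (yon S).map (sigmaOverι U i) ≫ A ≫ f = (yon S).map (sigmaOverι U i) ≫ (yon S).map G ≫ B
    rw [← Category.assoc, hAι, hcomm, ← Category.assoc ((yon S).map (sigmaOverι U i)),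
      ← Functor.map_comp, hGι, Functor.map_comp, Category.assoc, hBι]
  · rw [hGl]
    have : HasCoproductsOfShape (Fin n) Scheme.{u} := inferInstance
    exact Sigma.map_isIso _

/-- Take decent algebraic spaces X and Y over a scheme S, each with only finitely many irreducible
components in its space of points, and a birational f : X ⟶ Y. Suppose f is locally of finite type
with Y reduced, or else locally of finite presentation. Then X and Y contain dense open subspaces U
and V, which may be taken to be schemes, such that f carries U into V and induces an isomorphism U ⟶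
V. -/
theorem result {S : Scheme.{u}} {X Y : AlgSp.Space S} (f : X ⟶ Y)
    (hX : AlgSp.IsDecent X.obj) (hY : AlgSp.IsDecent Y.obj)
    (hXf : (irreducibleComponents (AlgSp.Points X.obj)).Finite)
    (hYf : (irreducibleComponents (AlgSp.Points Y.obj)).Finite)
    (hf : W4stk3decentspacesp2.IsBirational f.hom)
    (h : (AlgSp.LocP @LocallyOfFiniteType f.hom ∧ AlgSp.EtaleLocally (fun T => IsReduced T) Y.obj) ∨
      AlgSp.LocP @LocallyOfFinitePresentation f.hom) :
    ∃ (U V : Over S) (a : (AlgSp.yon S).obj U ⟶ X.obj) (b : (AlgSp.yon S).obj V ⟶ Y.obj) (g : U ⟶ V),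
      AlgSp.RepWith @IsOpenImmersion a ∧ AlgSp.RepWith @IsOpenImmersion b ∧
        Dense (Set.range (AlgSp.Points.ofPt a)) ∧ Dense (Set.range (AlgSp.Points.ofPt b)) ∧
          a ≫ f.hom = (AlgSp.yon S).map g ≫ b ∧ IsIso g.left := by
  have hT0X := t0Space_points_of_isDecent X hX
  have hT0Y := t0Space_points_of_isDecent Y hY
  have hQSX := quasiSober_of_isDecent X hX
  have hQSY := quasiSober_of_isDecent Y hY
  have hGfin : (genericPoints (Points X.obj)).Finite := by
    refine Set.Finite.of_injOn (f := fun x => closure {x}) (fun x hx => hx) ?_ hXf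
    intro x hx x' hx' hxx'
    exact (inseparable_iff_closure_eq.2 hxx').eq
  have hfinι : Finite {x : Points X.obj // x ∈ genericPoints (Points X.obj)} := hGfin.to_subtype
  obtain ⟨n, ⟨eι⟩⟩ := Finite.exists_equiv_fin {x : Points X.obj // x ∈ genericPoints (Points X.obj)}
  have hdata : ∀ i : Fin n, ∃ (U V : Over S) (a : (yon S).obj U ⟶ X.obj)
      (b : (yon S).obj V ⟶ Y.obj) (g : U ⟶ V) (u : ↥U.left), RepWith @IsOpenImmersion a ∧
      RepWith @IsOpenImmersion b ∧ a ≫ f.hom = (yon S).map g ≫ b ∧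
      Points.ofPt a u = (eι.symm i).1 ∧ IsIso (g.left.stalkMap u) :=
    fun i => hf.stalkIso _ (eι.symm i).2
  choose U₁ V₁ a₁ b₁ g₁ u₁ ha₁ hb₁ hcomm hu₁ hiso using hdata
  have hxgen : ∀ i, Points.ofPt (a₁ i) (u₁ i) ∈ genericPoints (Points X.obj) :=
    fun i => (hu₁ i) ▸ (eι.symm i).2
  have hfx : ∀ i, Points.map f.hom (Points.ofPt (a₁ i) (u₁ i)) =
      Points.ofPt (b₁ i) ((g₁ i).left (u₁ i)) := fun i => by
    rw [Points.map_ofPt, hcomm, ofPt_map_comp]
  have hygen : ∀ i, Points.ofPt (b₁ i) ((g₁ i).left (u₁ i)) ∈ genericPoints (Points Y.obj) :=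
    fun i => hfx i ▸ hf.bijOn.mapsTo (hxgen i)
  have hyinj : ∀ i j, i ≠ j → Points.ofPt (b₁ i) ((g₁ i).left (u₁ i)) ≠
      Points.ofPt (b₁ j) ((g₁ j).left (u₁ j)) := by
    intro i j hij he
    apply hij
    have := hf.bijOn.injOn (hxgen i) (hxgen j) ((hfx i).trans (he.trans (hfx j).symm))
    rw [hu₁, hu₁] at this
    exact eι.symm.injective (Subtype.ext this)
  choose O hOmem hOsub hOdisj using fun i : Fin n => exists_open_nhds_generic hYf _ (hygen i)
  have hOO : ∀ i j, i ≠ j → Disjoint (O i : Set (Points Y.obj)) (O j) := by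
    intro i j hij
    rw [Set.disjoint_left]
    intro z hzi hzj
    exact hOdisj i _ (hygen j) (hyinj j i hij.symm) z hzi (hOsub j hzj)
  have hae : ∀ i, RepWith @Etale (a₁ i) := fun i => repWith_etale_of_isOpenImmersion (ha₁ i)
  have hbe : ∀ i, RepWith @Etale (b₁ i) := fun i => repWith_etale_of_isOpenImmersion (hb₁ i)
  have hloc : ∀ i : Fin n, ∃ (V' : (V₁ i).left.Opens) (U' : (U₁ i).left.Opens)
      (hUV : U' ≤ (g₁ i).left ⁻¹ᵁ V'), (∀ z ∈ V', Points.ofPt (b₁ i) z ∈ O i) ∧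
      (g₁ i).left (u₁ i) ∈ V' ∧ u₁ i ∈ U' ∧ IsIso ((g₁ i).left.resLE V' U' hUV) := by
    intro i
    let OV : (V₁ i).left.Opens := ⟨Points.ofPt (b₁ i) ⁻¹' (O i : Set _),
      (O i).2.preimage (Points.continuous_ofPt _)⟩
    have hvOV : (g₁ i).left (u₁ i) ∈ OV := hOmem i
    obtain ⟨_, ⟨V₀, hV₀, rfl⟩, hyV₀, hV₀O⟩ :=
      (V₁ i).left.isBasis_affineOpens.exists_subset_of_mem_open hvOV OV.2
    have := hiso i
    have hft : LocallyOfFiniteType (g₁ i).left := by
      rcases h with h | h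
      · exact h.1 (a₁ i) (b₁ i) (g₁ i) (hae i) (hbe i) (hcomm i)
      · have : LocallyOfFinitePresentation (g₁ i).left :=
          h (a₁ i) (b₁ i) (g₁ i) (hae i) (hbe i) (hcomm i)
        infer_instance
    have hma : Mono (a₁ i) := mono_of_isOpenImmersion (ha₁ i)
    have hfib := Groth.Agent.S10434.fibre_eq f hX hY hf (a₁ i) (b₁ i) (g₁ i) (u₁ i) (ha₁ i) (hb₁ i)
      (hcomm i) (hxgen i) (hiso i)
    have hfibS : ∀ u' : ↥(U₁ i).left, (g₁ i).left u' ⤳ (g₁ i).left (u₁ i) → u' = u₁ i := by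
      intro u' hu'
      have h1 : Points.ofPt (b₁ i) ((g₁ i).left u') ⤳ Points.ofPt (b₁ i) ((g₁ i).left (u₁ i)) :=
        hu'.map (Points.continuous_ofPt (b₁ i))
      have h2 := eq_of_specializes_of_generic (hygen i) h1
      have h3 : Points.map f.hom (Points.ofPt (a₁ i) u') =
          Points.ofPt (b₁ i) ((g₁ i).left (u₁ i)) := by
        rw [Points.map_ofPt, hcomm, ofPt_map_comp, h2]
      exact Groth.Agent.S10434.ofPt_injective_of_mono (a₁ i) (hfib _ h3)
    have hcase : LocallyOfFinitePresentation (g₁ i).left ∨ Function.Injective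
        ((V₁ i).left.presheaf.germ V₀ ((g₁ i).left (u₁ i)) hyV₀).hom := by
      rcases h with h | h
      · right
        have hred : IsReduced (V₁ i).left := by
          have : ∀ v, _root_.IsReduced ((V₁ i).left.presheaf.stalk v) := fun v =>
            Groth.Agent.Lib.Helper36.FieldBCRed.isReduced_stalk_of_etaleLocally h.2 (b₁ i) (hbe i) v
          exact isReduced_of_isReduced_stalk _
        refine germ_injective_of_reduced V₀ _ hyV₀ ?_
        intro z hz
        have h1 : Points.ofPt (b₁ i) z ∈ closure {Points.ofPt (b₁ i) ((g₁ i).left (u₁ i))} :=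
          hOsub i (hV₀O hz)
        rw [← specializes_iff_mem_closure] at h1 ⊢
        exact (isOpenEmbedding_ofPt (b₁ i) (hb₁ i)).isInducing.specializes_iff.1 h1
      · left
        exact h (a₁ i) (b₁ i) (g₁ i) (hae i) (hbe i) (hcomm i)
    obtain ⟨V', U', hUV, hVV₀, hyV, hxU, hisoVU⟩ :=
      exists_isIso_resLE (g₁ i).left (u₁ i) hfibS V₀ hV₀ hyV₀ hcase
    exact ⟨V', U', hUV, fun z hz => hV₀O (hVV₀ hz), hyV, hxU, hisoVU⟩
  choose V' U' hUV hV'O hyV' hxU' hisoVU using hloc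
  have hgw : ∀ i, (g₁ i).left.resLE (V' i) (U' i) (hUV i) ≫ ((V' i).ι ≫ (V₁ i).hom) =
      (U' i).ι ≫ (U₁ i).hom := by
    intro i
    rw [← Category.assoc, Scheme.Hom.resLE_comp_ι, Category.assoc, Over.w]
  have hg₂ : ∀ i, ∃ g₂ : overOpens (U₁ i) (U' i) ⟶ overOpens (V₁ i) (V' i),
      g₂.left = (g₁ i).left.resLE (V' i) (U' i) (hUV i) ∧
      g₂ ≫ overOpensι (V₁ i) (V' i) = overOpensι (U₁ i) (U' i) ≫ g₁ i := by
    intro i
    refine ⟨Over.homMk ((g₁ i).left.resLE (V' i) (U' i) (hUV i)) (hgw i), rfl, ?_⟩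
    apply Over.OverMorphism.ext
    show (g₁ i).left.resLE (V' i) (U' i) (hUV i) ≫ (V' i).ι = (U' i).ι ≫ (g₁ i).left
    exact Scheme.Hom.resLE_comp_ι _ _
  choose g₂ hg₂l hg₂c using hg₂
  have hrb : ∀ i, Set.range (Points.ofPt ((yon S).map (overOpensι (V₁ i) (V' i)) ≫ b₁ i)) ⊆
      (O i : Set (Points Y.obj)) := by
    rintro i _ ⟨z, rfl⟩
    rw [ofPt_map_comp]
    exact hV'O i _ z.2
  have hcomm₂ : ∀ i, ((yon S).map (overOpensι (U₁ i) (U' i)) ≫ a₁ i) ≫ f.hom =
      (yon S).map (g₂ i) ≫ ((yon S).map (overOpensι (V₁ i) (V' i)) ≫ b₁ i) := by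
    intro i
    rw [Category.assoc, hcomm, ← Category.assoc, ← Functor.map_comp, ← hg₂c, Functor.map_comp,
      Category.assoc]
  have hra : ∀ i, Set.range (Points.ofPt ((yon S).map (overOpensι (U₁ i) (U' i)) ≫ a₁ i)) ⊆
      Points.map f.hom ⁻¹' (O i : Set (Points Y.obj)) := by
    rintro i _ ⟨z, rfl⟩
    show Points.map f.hom (Points.ofPt _ z) ∈ (O i : Set (Points Y.obj))
    rw [Points.map_ofPt, hcomm₂, ofPt_map_comp]
    exact hrb i ⟨_, rfl⟩
  obtain ⟨A, B, G, hA, hB, hAr, hBr, hAB, hG⟩ := assemble f.hom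
    (fun i => overOpens (U₁ i) (U' i)) (fun i => overOpens (V₁ i) (V' i))
    (fun i => (yon S).map (overOpensι (U₁ i) (U' i)) ≫ a₁ i)
    (fun i => (yon S).map (overOpensι (V₁ i) (V' i)) ≫ b₁ i) g₂
    (fun i => Groth.Agent.Lib.Helper36.AlgSpChartDiag.repWith_yon_map_comp (P := @IsOpenImmersion)
      _ (by show IsOpenImmersion (U' i).ι; infer_instance) _ (ha₁ i))
    (fun i => Groth.Agent.Lib.Helper36.AlgSpChartDiag.repWith_yon_map_comp (P := @IsOpenImmersion)
      _ (by show IsOpenImmersion (V' i).ι; infer_instance) _ (hb₁ i))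
    hcomm₂ (fun i => by rw [hg₂l]; exact hisoVU i)
    (fun i j hij => (((hOO i j hij).preimage (Points.map f.hom)).mono (hra i) (hra j)))
    (fun i j hij => (hOO i j hij).mono (hrb i) (hrb j))
  refine ⟨_, _, A, B, G, hA, hB, ?_, ?_, hAB, hG⟩
  · intro z
    obtain ⟨ξ, hξ, hξz⟩ := exists_generic_specializes z
    have h1 : ξ ∈ Set.range (Points.ofPt A) := by
      rw [hAr]
      refine Set.mem_iUnion.2 ⟨eι ⟨ξ, hξ⟩, ⟨⟨u₁ _, hxU' _⟩, ?_⟩⟩
      rw [ofPt_map_comp]
      show Points.ofPt (a₁ _) (u₁ _) = ξ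
      rw [hu₁, eι.symm_apply_apply]
    rw [specializes_iff_mem_closure] at hξz
    exact closure_mono (Set.singleton_subset_iff.mpr h1) hξz
  · intro z
    obtain ⟨η, hη, hηz⟩ := exists_generic_specializes z
    obtain ⟨ξ, hξ, rfl⟩ := hf.bijOn.surjOn hη
    have h1 : Points.map f.hom ξ ∈ Set.range (Points.ofPt B) := by
      rw [hBr]
      refine Set.mem_iUnion.2 ⟨eι ⟨ξ, hξ⟩, ⟨⟨(g₁ _).left (u₁ _), hyV' _⟩, ?_⟩⟩
      rw [ofPt_map_comp]
      show Points.ofPt (b₁ _) ((g₁ _).left (u₁ _)) = _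
      rw [← hfx, hu₁, eι.symm_apply_apply]
    rw [specializes_iff_mem_closure] at hηz
    exact closure_mono (Set.singleton_subset_iff.mpr h1) hηz

end Groth.Agent.S10435
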