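import Groth.Statements.S9702
import Mathlib
import Groth.Agent.Lib.Helper93.GenFinite4

set_option autoImplicit false
universe u
open CategoryTheory CategoryTheory.Limits AlgebraicGeometry
open Mor

namespace Groth.Agent.S9702

/-- Let X, Y be integral and f : X ⟶ Y dominant and locally of finite type, with ξ the generic point of
X (so f ξ is the generic point of Y). Then the following are equivalent: the residue field of ξ is
finite over that of f ξ; some nonempty affine opens U ⊆ X and V ⊆ Y with f(U) ⊆ V have U ⟶ V finite;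
every point of X that f sends to the generic point of Y equals ξ. Under the extra assumption that f
is quasi-compact or separated, these are also equivalent to: f⁻¹(V) ⟶ V is finite for some nonempty
affine open V ⊆ Y. (The published statement also lists transcendence degree 0 of the function field
extension, which for this finitely generated extension is equivalent to finiteness; this row omits
it.) -/
theorem result {X Y : Scheme.{u}} [IsIntegral X] [IsIntegral Y] (f : X ⟶ Y)
    [IsDominant f] [LocallyOfFiniteType f] :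
    let ξ := genericPoint ↥X
    let A := letI := (f.residueFieldMap ξ).hom.toAlgebra
      Module.Finite (Y.residueField (f.base ξ)) (X.residueField ξ)
    let B := ∃ (U : X.Opens) (V : Y.Opens) (hUV : U ≤ f ⁻¹ᵁ V), IsAffineOpen U ∧ IsAffineOpen V ∧
      Nonempty ↥U ∧ IsFinite (f.resLE V U hUV)
    let C := ∀ x : X, f.base x = genericPoint ↥Y → x = ξ
    let D := ∃ V : Y.Opens, IsAffineOpen V ∧ Nonempty ↥V ∧ IsFinite (f ∣_ V)
    (A ↔ B) ∧ (A ↔ C) ∧ (IsSeparated f ∨ QuasiCompact f → (A ↔ D)) := by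
  intro ξ A B C D
  have hfξ : f.base ξ = genericPoint ↥Y :=
    Groth.Agent.Lib.Helper93.GenFinite.map_genericPoint_of_isDominant f
  have hη : closure {f.base ξ} ∈ irreducibleComponents ↥Y := by
    rw [hfξ, genericPoint_closure, irreducibleComponents_eq_singleton]
    rfl
  have hgenX : ∀ x : X, closure {x} ∈ irreducibleComponents ↥X → x = ξ := by
    intro x hx
    rw [irreducibleComponents_eq_singleton] at hx
    have hx' : closure {x} = Set.univ := hx
    have h1 : IsGenericPoint x Set.univ := hx'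
    exact h1.eq (genericPoint_spec ↥X)
  have hAA' : A ↔ f.QuasiFiniteAt ξ :=
    Groth.Agent.Lib.Helper93.GenFinite.finite_residueFieldMap_iff_quasiFiniteAt f
  have hA'B : f.QuasiFiniteAt ξ → ∃ (U : X.Opens) (V : Y.Opens) (hUV : U ≤ f ⁻¹ᵁ V),
      IsAffineOpen U ∧ IsAffineOpen V ∧ ξ ∈ U ∧ IsFinite (f.resLE V U hUV) := by
    intro hq
    obtain ⟨V₀, hV₀, hηV₀, -⟩ := exists_isAffineOpen_mem_and_subset (U := ⊤) (x := f.base ξ)
      (by simp)
    obtain ⟨_, ⟨U₀, hU₀, rfl⟩, hξU₀, hU₀le⟩ := X.isBasis_affineOpens.exists_subset_of_mem_open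
      (show ξ ∈ ((f.quasiFiniteLocus ⊓ f ⁻¹ᵁ V₀ : X.Opens) : Set X) from ⟨hq, hηV₀⟩)
      (f.quasiFiniteLocus ⊓ f ⁻¹ᵁ V₀).2
    have hUV₀ : U₀ ≤ f ⁻¹ᵁ V₀ := fun t ht => (hU₀le ht).2
    obtain ⟨g, h, hηg, hfin⟩ :=
      Groth.Agent.Lib.Helper93.GenFinite.exists_basicOpen_isFinite_resLE f hU₀ hV₀ hUV₀
        (f.base ξ) hηV₀ hη (fun x hx _ => (hU₀le hx).1)
    exact ⟨_, _, h, hU₀.basicOpen _, hV₀.basicOpen g,
      Groth.Agent.Lib.Helper93.GenFinite.mem_basicOpen_appLE f hUV₀ g ξ hξU₀ hηg, hfin⟩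
  have hA'C : f.QuasiFiniteAt ξ → C := by
    intro hq x hx
    exact Groth.Agent.Lib.Helper93.GenFinite.eq_of_specializes_of_quasiFiniteAt f hq
      (genericPoint_specializes x) (hx.trans hfξ.symm)
  have hCA' : C → f.QuasiFiniteAt ξ := by
    intro hC
    apply Groth.Agent.Lib.Helper93.GenFinite.quasiFiniteAt_of_finite_fiber
    refine (Set.finite_singleton ξ).subset ?_
    intro x hx
    have hx' : f.base x = f.base ξ := hx
    exact hC x (hx'.trans hfξ)
  refine ⟨?_, ?_, ?_⟩
  · rw [hAA']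
    constructor
    · intro hq
      obtain ⟨U, V, hUV, hU, hV, hξU, hfin⟩ := hA'B hq
      exact ⟨U, V, hUV, hU, hV, ⟨⟨ξ, hξU⟩⟩, hfin⟩
    · rintro ⟨U, V, hUV, hU, hV, ⟨u⟩, hfin⟩
      have hξU : ξ ∈ U := (genericPoint_specializes u.1).mem_open U.2 u.2
      exact Groth.Agent.Lib.Helper93.GenFinite.quasiFiniteAt_of_isFinite_resLE f U V hUV ξ hξU
  · rw [hAA']
    exact ⟨hA'C, hCA'⟩
  · intro hsq
    rw [hAA']
    constructor
    · intro hq
      rcases hsq with hsep | hqc
      · obtain ⟨U, V, hUV, hU, hV, hξU, hfin⟩ := hA'B hq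
        have hle : f ⁻¹ᵁ V ≤ U :=
          Groth.Agent.Lib.Helper93.GenFinite.preimage_le_of_isSeparated_of_universallyClosed f U V
            hUV (fun x hx => (hgenX x hx) ▸ hξU)
        exact ⟨V, hV, ⟨⟨f.base ξ, hUV hξU⟩⟩,
          Groth.Agent.Lib.Helper93.GenFinite.morphismRestrict_of_resLE @IsFinite f U V V hUV le_rfl
            hle hfin⟩
      · have hC := hA'C hq
        obtain ⟨V₀, hV₀, hηV₀, -⟩ := exists_isAffineOpen_mem_and_subset (U := ⊤) (x := f.base ξ)
          (by simp)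
        obtain ⟨_, ⟨U₀, hU₀, rfl⟩, hξU₀, hU₀le⟩ := X.isBasis_affineOpens.exists_subset_of_mem_open
          (show ξ ∈ ((f ⁻¹ᵁ V₀ : X.Opens) : Set X) from hηV₀) (f ⁻¹ᵁ V₀).2
        have hUV₀ : U₀ ≤ f ⁻¹ᵁ V₀ := hU₀le
        obtain ⟨V', hV', hηV', -, hfinite⟩ :=
          Groth.Agent.Lib.Helper93.GenFinite.exists_affine_isFinite_morphismRestrict f hU₀ hV₀ hUV₀
            (f.base ξ) hηV₀ hη (fun x hx => (hC x (hx.trans hfξ)) ▸ hξU₀)
            (fun x hx => (hC x (hx.trans hfξ)) ▸ hq)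
        exact ⟨V', hV', ⟨⟨f.base ξ, hηV'⟩⟩, hfinite⟩
    · rintro ⟨V, hV, ⟨v⟩, hfin⟩
      have hηV : genericPoint ↥Y ∈ V := (genericPoint_specializes v.1).mem_open V.2 v.2
      exact Groth.Agent.Lib.Helper93.GenFinite.quasiFiniteAt_of_isFinite_morphismRestrict f V ξ
        (hfξ ▸ hηV)

end Groth.Agent.S9702
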