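import Groth.Statements.S10116
import Groth.Agent.Lib.Helper5.GroupoidSep
import Groth.Agent.Lib.Helper23.AlgSpMor7
import Groth.Agent.Lib.Helper23.AlgSpProper2

set_option autoImplicit false
universe u
open CategoryTheory CategoryTheory.Limits AlgebraicGeometry MonoidalCategory MonObj
open AlgSp

namespace Groth.Agent.S10116

/-- Let `G` be a group algebraic space over an algebraic space `B` with unit `e : B ⟶ G`. Then `G ⟶ B`
is separated if and only if `e` is a closed immersion, quasi-separated if and only if `e` is
quasi-compact, and if `G ⟶ B` is locally separated then `e` is an immersion. (The published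
statement makes the last part an equivalence as well; this row states only that a locally separated
`G ⟶ B` has `e` an immersion.) -/
theorem result (S : Scheme.{u}) (B : AlgSp.Sp S) (hB : AlgSp.IsAlgSpace B)
    (G : Over B) [GrpObj G] (hG : AlgSp.IsAlgSpace G.left) :
    (AlgSp.IsSeparatedMor G.hom ↔ AlgSp.RepWith @IsClosedImmersion (η[G]).left) ∧
      (AlgSp.IsQuasiSeparatedMor G.hom ↔ AlgSp.IsQuasiCompactMor (η[G]).left) ∧
      (AlgSp.IsLocallySeparatedMor G.hom → AlgSp.RepWith @IsImmersion (η[G]).left) := by
  have hsec : (η[G]).left ≫ G.hom = 𝟙 B := by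
    have := Over.w (η[G])
    simpa using this
  have sq := Groth.Agent.Lib.Helper5.GroupoidSep.isPullback_unit_diagonal G
  have Bm : ∀ (P : MorphismProperty Scheme.{u}), (RepWith (S := S) P).diagonal G.hom →
      RepWith P (η[G]).left :=
    fun P h => Groth.Agent.Lib.Helper5.GroupoidSep.of_section (RepWith (S := S) P) G.hom _ hsec h
  have Cm : ∀ (P : MorphismProperty Scheme.{u}), RepWith P (η[G]).left →
      (RepWith (S := S) P).diagonal G.hom :=
    fun P h => MorphismProperty.of_isPullback (P := RepWith (S := S) P) sq h
  refine ⟨⟨Bm _, Cm _⟩, ⟨fun h => ?_, fun h => ?_⟩, Bm _⟩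
  · exact Groth.Agent.Lib.Helper23.AlgSpMor.isQuasiCompactMor_of_repWith _ (Bm _ h)
  · have h1 : IsQuasiCompactMor (pullback.diagonal G.hom) :=
      Groth.Agent.Lib.Helper23.AlgSpMor.isQuasiCompactMor_of_isPullback sq h
    exact Groth.Agent.Lib.Helper23.AlgSpMor.repWith_quasiCompact_of_isQuasiCompactMor _
      (Groth.Agent.Lib.Helper5.GroupoidSep.representable_diagonal hG G.hom) h1

end Groth.Agent.S10116
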