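import Groth.Statements.S9209
import Groth.Agent.Lib.Helper41.ValCenterExt
import Groth.Agent.Lib.Helper50.DvrSep

set_option autoImplicit false
universe u
open CategoryTheory CategoryTheory.Limits AlgebraicGeometry
open Lim

namespace Groth.Agent.S9209

/-- Let S be a locally Noetherian scheme, f : X → S a separated morphism of finite type and h : U → X a
morphism of finite type whose image is dense in X. Suppose that for every discrete valuation ring A
with fraction field K and every commutative square formed by a morphism Spec K → U → X and a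
morphism Spec A → S, there is a morphism Spec A → X making the resulting diagram commute. Then f is
proper. -/
theorem result {X S U : Scheme.{u}} [IsLocallyNoetherian S] (f : X ⟶ S)
    [IsSeparated f] [LocallyOfFiniteType f] [QuasiCompact f] (h : U ⟶ X) [LocallyOfFiniteType h] [QuasiCompact h]
    (hd : DenseRange h.base)
    (H : ∀ (A : Type u) [CommRing A] [IsDomain A] [IsDiscreteValuationRing A]
      (u : Spec (CommRingCat.of (FractionRing A)) ⟶ U) (y : Spec (CommRingCat.of A) ⟶ S),
      u ≫ h ≫ f = Spec.map (CommRingCat.ofHom (algebraMap A (FractionRing A))) ≫ y →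
        ∃ l : Spec (CommRingCat.of A) ⟶ X, l ≫ f = y ∧ Spec.map (CommRingCat.ofHom (algebraMap A (FractionRing A))) ≫ l = u ≫ h) :
    IsProper f := by
  haveI : IsLocallyNoetherian X := LocallyOfFiniteType.isLocallyNoetherian f
  haveI : IsLocallyNoetherian U := LocallyOfFiniteType.isLocallyNoetherian h
  refine Groth.Agent.Lib.Helper41.ValCenter.isProper_of_dvrLiftAt f (fun x₁ => ?_)
  have hirr : IsIrreducible (irreducibleComponent x₁) := isIrreducible_irreducibleComponent
  have hcl : IsClosed (irreducibleComponent x₁) := isClosed_irreducibleComponent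
  obtain ⟨η, hη⟩ := QuasiSober.sober hirr hcl
  have hηc : closure {η} ∈ irreducibleComponents (X : Type u) := by
    rw [hη.def]
    exact irreducibleComponent_mem_irreducibleComponents x₁
  have hηx : η ⤳ x₁ := by
    rw [specializes_iff_mem_closure, hη.def]
    exact mem_irreducibleComponent
  obtain ⟨u₀, rfl⟩ := Groth.Agent.Lib.Helper50.mem_range_of_denseRange_of_generic h hd η hηc
  refine ⟨h.base u₀, hηx, fun A hA y hy => ?_⟩
  have := hA
  let L : Type u := U.residueField u₀
  let ψ : X.residueField (h.base u₀) ⟶ U.residueField u₀ := h.residueFieldMap u₀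
  let φ : A →+* L := ψ.hom.comp A.subtype
  have hker : RingHom.ker φ ≠ IsLocalRing.maximalIdeal A := by
    have hinj : Function.Injective φ := ψ.hom.injective.comp Subtype.val_injective
    rw [(RingHom.injective_iff_ker_eq_bot φ).mp hinj]
    exact (IsDiscreteValuationRing.not_a_field A).symm
  have hfg : ∃ F : Finset L, Subfield.closure (Set.range φ ∪ ↑F) = ⊤ := by
    obtain ⟨X₀, hX₀, hu₀, -⟩ := exists_isAffineOpen_mem_and_subset
      (show h.base u₀ ∈ (⊤ : X.Opens) from trivial)
    obtain ⟨F, hF⟩ := Groth.Agent.Lib.Helper41.ValCenter.exists_finset_closure_eq_top h hX₀ u₀ hu₀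
    refine ⟨F, top_unique ?_⟩
    rw [← hF, Subfield.closure_le]
    rintro z (⟨c, rfl⟩ | hz)
    · have h1 : (Groth.Agent.Lib.Helper41.ValCenter.baseEval h X₀ u₀ hu₀).hom c =
          ψ.hom (X.evaluation X₀ (h.base u₀) hu₀ c) :=
        (Scheme.evaluation_naturality_apply h u₀ hu₀ c).symm
      rw [h1]
      obtain ⟨a, b, -, hab⟩ := IsFractionRing.div_surjective (A := A)
        (X.evaluation X₀ (h.base u₀) hu₀ c)
      rw [← hab, map_div₀]
      exact div_mem (Subfield.subset_closure (Or.inl ⟨a, rfl⟩))
        (Subfield.subset_closure (Or.inl ⟨b, rfl⟩))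
    · exact Subfield.subset_closure (Or.inr hz)
  obtain ⟨R', hR', ψA, hψA, hcomp⟩ := Groth.Agent.Lib.Helper50.exists_dvr_factor φ hker hfg
  have := hR'
  have hφc : CommRingCat.ofHom ψA ≫ CommRingCat.ofHom R'.subtype =
      CommRingCat.ofHom A.subtype ≫ ψ := by
    ext a
    exact congr($hcomp a)
  have hres : U.fromSpecResidueField u₀ ≫ h =
      Spec.map ψ ≫ X.fromSpecResidueField (h.base u₀) :=
    (Scheme.Hom.SpecMap_residueFieldMap_fromSpecResidueField h u₀).symm
  let ε : L →+* FractionRing R' := ((Groth.Agent.Lib.Helper50.fracEquiv R').symm : L →+* FractionRing R')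
  let u : Spec (CommRingCat.of (FractionRing R')) ⟶ U :=
    Spec.map (CommRingCat.ofHom ε) ≫ U.fromSpecResidueField u₀
  let y' : Spec (CommRingCat.of R') ⟶ S := Spec.map (CommRingCat.ofHom ψA) ≫ y
  have hsq : u ≫ h ≫ f = Spec.map (CommRingCat.ofHom (algebraMap R' (FractionRing R'))) ≫ y' := by
    change (Spec.map (CommRingCat.ofHom ε) ≫ U.fromSpecResidueField u₀) ≫ h ≫ f =
      _ ≫ Spec.map (CommRingCat.ofHom ψA) ≫ y
    rw [Groth.Agent.Lib.Helper50.SpecMap_algebraMap_fractionRing, Category.assoc, Category.assoc,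
      ← Category.assoc (Spec.map (CommRingCat.ofHom R'.subtype)), ← Spec.map_comp, hφc,
      Spec.map_comp, Category.assoc, hy, ← Category.assoc (U.fromSpecResidueField u₀), hres,
      Category.assoc]
  obtain ⟨l', hl'₁, hl'₂⟩ := H R' u y' hsq
  have hl' : Spec.map (CommRingCat.ofHom R'.subtype) ≫ l' =
      Spec.map ψ ≫ X.fromSpecResidueField (h.base u₀) := by
    rw [Groth.Agent.Lib.Helper50.SpecMap_subtype_eq, Category.assoc, hl'₂]
    change _ ≫ (Spec.map (CommRingCat.ofHom ε) ≫ U.fromSpecResidueField u₀) ≫ h = _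
    rw [Category.assoc, ← Category.assoc, Groth.Agent.Lib.Helper50.SpecMap_fracEquiv_symm_comp,
      Category.id_comp, hres]
  obtain ⟨S₀, hS₀, hs₀, -⟩ := exists_isAffineOpen_mem_and_subset
    (show y.base (IsLocalRing.closedPoint A) ∈ (⊤ : S.Opens) from trivial)
  have hX₀ : l'.base (IsLocalRing.closedPoint R') ∈ f ⁻¹ᵁ S₀ := by
    change (l' ≫ f).base (IsLocalRing.closedPoint R') ∈ S₀
    rw [hl'₁]
    change (Spec.map (CommRingCat.ofHom ψA) ≫ y).base (IsLocalRing.closedPoint R') ∈ S₀
    rw [Scheme.Hom.comp_apply]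
    have h1 : Spec.map (CommRingCat.ofHom ψA) (IsLocalRing.closedPoint R') =
        IsLocalRing.closedPoint A := IsLocalRing.comap_closedPoint ψA
    rw [h1]
    exact hs₀
  have hmem : ∀ w : A, (ψ.hom.comp A.subtype) w ∈ R'.toSubring := fun w => by
    have : (ψ.hom.comp A.subtype) w = ((ψA w : R') : L) := (congr($hcomp w)).symm
    rw [this]
    exact (ψA w).2
  have heq : (ψ.hom.comp A.subtype).codRestrict R'.toSubring hmem = ψA := by
    ext w
    exact (congr($hcomp w)).symm
  have hloc : IsLocalHom ((ψ.hom.comp A.subtype).codRestrict R'.toSubring hmem) := heq ▸ hψA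
  obtain ⟨l, hl, hlcl⟩ := Groth.Agent.Lib.Helper41.ValCenter.hasCenterIn_of_extension ψ A R' hmem hloc l' hl'
    (f ⁻¹ᵁ S₀) hX₀
  exact ⟨l, Groth.Agent.Lib.Helper41.ValCenter.comp_eq_of_hasCenter f hS₀ l hl hlcl y hy hs₀, hl⟩

end Groth.Agent.S9209
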