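import Groth.Statements.S9623
import Mathlib
import Groth.Agent.Lib.Helper51.GeomIrr

set_option autoImplicit false
universe u
open CAlg

namespace Groth.Agent.S9623

open TensorProduct in
/-- Let k be a separably closed field and R, S two k-algebras with connected (nonempty) spectra. Then
Spec(R ⊗_k S) is connected. -/
theorem result {k R S : Type u} [Field k] [IsSepClosed k] [CommRing R] [CommRing S] [Algebra k R] [Algebra k S]
    [ConnectedSpace (PrimeSpectrum R)] [ConnectedSpace (PrimeSpectrum S)] :
    ConnectedSpace (PrimeSpectrum (R ⊗[k] S)) := by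
  open CategoryTheory CategoryTheory.Limits AlgebraicGeometry in
  haveI : ConnectedSpace ↥(Spec (CommRingCat.of R)) := ‹ConnectedSpace (PrimeSpectrum R)›
  haveI : ConnectedSpace ↥(Spec (CommRingCat.of S)) := ‹ConnectedSpace (PrimeSpectrum S)›
  haveI : GeometricallyConnected (Spec.map (CommRingCat.ofHom (algebraMap k S))) :=
    Groth.Agent.Lib.Helper51.geometricallyConnected_of_isSepClosed _
  haveI : UniversallyOpen (Spec.map (CommRingCat.ofHom (algebraMap k S))) := inferInstance
  haveI : ConnectedSpace ↥(pullback (Spec.map (CommRingCat.ofHom (algebraMap k R)))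
      (Spec.map (CommRingCat.ofHom (algebraMap k S)))) := inferInstance
  have h : ConnectedSpace ↥(Spec (CommRingCat.of (R ⊗[k] S))) :=
    (pullbackSpecIso k R S).hom.homeomorph.surjective.connectedSpace
      (pullbackSpecIso k R S).hom.homeomorph.continuous
  exact h

end Groth.Agent.S9623
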