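import Groth.Statements.S9397
import Mathlib

set_option autoImplicit false
universe u
open CAlg

namespace Groth.Agent.S9397

theorem exists_finite_subalgebra_isFractionRing {S : Type*} [CommRing S] [IsDomain S]
    (K : Type*) [Field K] [Algebra S K] [IsFractionRing S K] (L : Type*) [Field L] [Algebra S L]
    [Algebra K L] [IsScalarTower S K L] [FiniteDimensional K L] :
    ∃ S' : Subalgebra S L, Module.Finite S S' ∧ IsFractionRing S' L := by
  classical
  obtain ⟨s, b, hb⟩ := FiniteDimensional.exists_is_basis_integral S K L
  let S' : Subalgebra S L := Algebra.adjoin S (Set.range b)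
  have hfin : Module.Finite S S' := by
    have : S'.toSubmodule.FG := fg_adjoin_of_finite (Set.finite_range b) (by
      rintro _ ⟨i, rfl⟩
      exact hb i)
    exact Module.Finite.iff_fg.mpr this
  refine ⟨S', hfin, ?_⟩
  have hSL : Function.Injective (algebraMap S L) := by
    rw [IsScalarTower.algebraMap_eq S K L]
    exact (algebraMap K L).injective.comp (IsFractionRing.injective S K)
  have key : ∀ z : L, ∃ (x : S') (d : S), d ≠ 0 ∧ d • z = (x : L) := by
    intro z
    have hz : z ∈ Submodule.span K (Set.range b) := by
      rw [b.span_eq]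
      trivial
    induction hz using Submodule.span_induction with
    | mem z hz => exact ⟨⟨z, Algebra.subset_adjoin hz⟩, 1, one_ne_zero, one_smul _ _⟩
    | zero => exact ⟨0, 1, one_ne_zero, by simp⟩
    | add z1 z2 _ _ h1 h2 =>
      obtain ⟨x1, d1, hd1, e1⟩ := h1
      obtain ⟨x2, d2, hd2, e2⟩ := h2
      refine ⟨d2 • x1 + d1 • x2, d1 * d2, mul_ne_zero hd1 hd2, ?_⟩
      push_cast
      rw [← e1, ← e2, smul_add, mul_smul, mul_smul, smul_comm d1 d2 z1]
    | smul c z _ h1 =>
      obtain ⟨x1, d1, hd1, e1⟩ := h1
      obtain ⟨a, d, hd, rfl⟩ := IsFractionRing.div_surjective (A := S) c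
      have hd0 : d ≠ 0 := nonZeroDivisors.ne_zero hd
      refine ⟨a • x1, d * d1, mul_ne_zero hd0 hd1, ?_⟩
      push_cast
      rw [← e1]
      have hdK : algebraMap S K d ≠ 0 := by
        intro h0
        exact hd0 (IsFractionRing.injective S K (h0.trans (map_zero _).symm))
      rw [mul_smul, smul_comm d1, ← smul_assoc d, Algebra.smul_def d, mul_div_cancel₀ _ hdK,
        algebraMap_smul, smul_comm]
  refine IsFractionRing.of_field S' L fun z => ?_
  obtain ⟨x, d, hd, e⟩ := key z
  refine ⟨x, algebraMap S S' d, ?_⟩
  have hdL : algebraMap S L d ≠ 0 := fun h0 => hd (hSL (h0.trans (map_zero _).symm))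
  rw [eq_div_iff]
  · change z * algebraMap S L d = x
    rw [← e, Algebra.smul_def, mul_comm]
  · exact hdL

theorem finite_integralClosure_of_subalgebra {S : Type*} [CommRing S] {L : Type*} [CommRing L]
    [Algebra S L] (S' : Subalgebra S L) [Module.Finite S S']
    (h : Module.Finite S' (integralClosure S' L)) : Module.Finite S (integralClosure S L) := by
  have h2 : Module.Finite S (integralClosure S' L) := Module.Finite.trans S' _
  have hint : Algebra.IsIntegral S S' := inferInstance
  have hEq : ((integralClosure S' L).toSubmodule.restrictScalars S) =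
      (integralClosure S L).toSubmodule := by
    ext x
    constructor
    · intro hx
      exact isIntegral_trans (A := S') x hx
    · intro hx
      exact IsIntegral.tower_top hx
  have h3 : Module.Finite S ↥((integralClosure S' L).toSubmodule.restrictScalars S) := h2
  exact Module.Finite.equiv (LinearEquiv.ofEq _ _ hEq)

/-- A ring R is universally Japanese provided that each R-algebra of finite type which is a domain is
N-1. -/
theorem result (R : Type u) [CommRing R]
    (h : ∀ (S : Type u) [CommRing S] [IsDomain S] [Algebra R S], Algebra.FiniteType R S → CAlg.IsN1 S) :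
    CAlg.IsUniversallyJapanese R := by
  intro S _ _ _ hft L _ _ _ _ hfd
  obtain ⟨S', hfin, hfrac⟩ := exists_finite_subalgebra_isFractionRing (S := S) (FractionRing S) L
  let _ : Algebra R S' := ((algebraMap S S').comp (algebraMap R S)).toAlgebra
  have : IsScalarTower R S S' := .of_algebraMap_eq fun _ => rfl
  have hft' : Algebra.FiniteType R S' :=
    Algebra.FiniteType.trans hft (inferInstance : Algebra.FiniteType S S')
  have hN1 : Module.Finite S' (integralClosure S' (FractionRing S')) := h S' hft'
  let e : FractionRing S' ≃ₐ[S'] L := FractionRing.algEquiv S' L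
  have h1 : Module.Finite S' (integralClosure S' L) :=
    Module.Finite.equiv (e.mapIntegralClosure).toLinearEquiv
  exact finite_integralClosure_of_subalgebra S' h1

end Groth.Agent.S9397
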