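import Groth.Statements.S5157
import Groth.Agent.Lib.Helper85.Matlis

set_option autoImplicit false
universe u
open Matlis

namespace Groth.Agent.S5157

open IsLocalRing InjHull Groth.Agent.Lib.Helper85.Matlis

theorem baer_torsion (A : Type u) [CommRing A] (a : Ideal A) (E : Type u) [AddCommGroup E]
    [Module A E] [Module.Injective A E] : Module.Baer (A ⧸ a) (LocCoh.torsionBy a E) := by
  intro J g
  let I : Ideal A := J.comap (Ideal.Quotient.mk a)
  let gI : I →ₗ[A] E :=
    { toFun := fun x => (g ⟨Ideal.Quotient.mk a x.1, x.2⟩ : LocCoh.torsionBy a E).1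
      map_add' := by
        intro x y
        rw [← Submodule.coe_add, ← map_add]
        rfl
      map_smul' := by
        intro r x
        simp only [RingHom.id_apply]
        rw [← Submodule.coe_smul, ← Submodule.torsionBySet.mk_smul, ← map_smul]
        rfl }
  obtain ⟨g', hg'⟩ := Module.Baer.of_injective (inferInstance : Module.Injective A E) I gI
  have haI : a ≤ I := by
    intro x hx
    change Ideal.Quotient.mk a x ∈ J
    rw [Ideal.Quotient.eq_zero_iff_mem.mpr hx]
    exact zero_mem _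
  have he : g' 1 ∈ LocCoh.torsionBy a E := by
    rw [Submodule.mem_torsionBySet_iff]
    rintro ⟨x, hx⟩
    change x • g' 1 = 0
    rw [← map_smul, smul_eq_mul, mul_one, hg' x (haI hx)]
    change ((g ⟨Ideal.Quotient.mk a x, _⟩ : LocCoh.torsionBy a E) : E) = 0
    have : (⟨Ideal.Quotient.mk a x, haI hx⟩ : J) = 0 := by
      apply Subtype.ext
      exact Ideal.Quotient.eq_zero_iff_mem.mpr hx
    rw [this, map_zero]
    rfl
  refine ⟨LinearMap.toSpanSingleton (A ⧸ a) _ ⟨g' 1, he⟩, ?_⟩
  intro x hx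
  obtain ⟨r, rfl⟩ := Ideal.Quotient.mk_surjective x
  rw [LinearMap.toSpanSingleton_apply, Submodule.torsionBySet.mk_smul]
  apply Subtype.ext
  change r • g' 1 = _
  rw [← map_smul, smul_eq_mul, mul_one, hg' r hx]
  rfl

theorem result (A : Type u) [CommRing A] [IsLocalRing A] [IsNoetherianRing A] (a : Ideal A) [IsLocalRing (A ⧸ a)] (E : Type u) [AddCommGroup E] [Module A E] (f : IsLocalRing.ResidueField A →ₗ[A] E) (hf : InjHull.IsInjectiveHull f) : ∃ g : IsLocalRing.ResidueField (A ⧸ a) →ₗ[A ⧸ a] (LocCoh.torsionBy a E), InjHull.IsInjectiveHull g := by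
  have hinjE := hf.isInjective
  have hane : a ≠ ⊤ := Ideal.Quotient.nontrivial_iff.mp inferInstance
  have ham : a ≤ maximalIdeal A := IsLocalRing.le_maximalIdeal hane
  have he₀ : f 1 ∈ LocCoh.torsionBy a E := by
    rw [Submodule.mem_torsionBySet_iff]
    rintro ⟨x, hx⟩
    change x • f 1 = 0
    rw [← map_smul, mem_maximalIdeal_smul_residue x (ham hx), map_zero]
  let e₀ : LocCoh.torsionBy a E := ⟨f 1, he₀⟩
  have he₀ne : e₀ ≠ 0 := by
    intro h
    exact f_one_ne_zero hf.toIsEssentialInj (congrArg Subtype.val h)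
  let g₀ : (A ⧸ a) →ₗ[A ⧸ a] LocCoh.torsionBy a E := LinearMap.toSpanSingleton (A ⧸ a) _ e₀
  have hker : maximalIdeal (A ⧸ a) ≤ LinearMap.ker g₀ := by
    intro x hx
    obtain ⟨r, rfl⟩ := Ideal.Quotient.mk_surjective x
    have hr : r ∈ maximalIdeal A := by
      rw [IsLocalRing.mem_maximalIdeal, mem_nonunits_iff]
      intro hu
      exact (IsLocalRing.mem_maximalIdeal _).mp hx (hu.map _)
    rw [LinearMap.mem_ker, LinearMap.toSpanSingleton_apply, Submodule.torsionBySet.mk_smul]
    apply Subtype.ext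
    change r • f 1 = 0
    rw [← map_smul, mem_maximalIdeal_smul_residue r hr, map_zero]
  let g : IsLocalRing.ResidueField (A ⧸ a) →ₗ[A ⧸ a] LocCoh.torsionBy a E :=
    Submodule.liftQ (maximalIdeal (A ⧸ a)) g₀ hker
  have hg1 : g 1 = e₀ := by
    change g₀ 1 = e₀
    rw [LinearMap.toSpanSingleton_apply, one_smul]
  refine ⟨g, ⟨⟨?_, ?_⟩, ?_⟩⟩
  · rcases LinearMap.injective_or_eq_zero g with h | h
    · exact h
    · exfalso
      apply he₀ne
      rw [← hg1, h, LinearMap.zero_apply]
  · intro N hN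
    obtain ⟨x, hxN, hx0⟩ := Submodule.exists_mem_ne_zero_of_ne_bot hN
    have hx0' : (x : E) ≠ 0 := fun h => hx0 (Subtype.ext h)
    have hspan : Submodule.span A {(x : E)} ≠ ⊥ := by
      rw [Ne, Submodule.span_singleton_eq_bot]; exact hx0'
    have h1 := range_le_of_ne_bot hf.toIsEssentialInj _ hspan (LinearMap.mem_range_self f 1)
    obtain ⟨r, hr⟩ := Submodule.mem_span_singleton.mp h1
    have he₀N : e₀ ∈ N := by
      have : e₀ = Ideal.Quotient.mk a r • x := by
        rw [Submodule.torsionBySet.mk_smul]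
        apply Subtype.ext
        exact hr.symm
      rw [this]
      exact N.smul_mem _ hxN
    intro hbot
    have : e₀ ∈ N ⊓ LinearMap.range g := ⟨he₀N, ⟨1, hg1⟩⟩
    rw [hbot, Submodule.mem_bot] at this
    exact he₀ne this
  · exact (baer_torsion A a E).injective

end Groth.Agent.S5157
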