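import Groth.Statements.S1748
import Groth.Agent.Lib.Helper84.BassPapp
import Groth.Agent.Lib.Helper84.CoindPoly
import Groth.Agent.Lib.Helper84.InjAmpSES

set_option autoImplicit false
universe u
open CategoryTheory
open scoped TensorProduct Polynomial
attribute [local instance] HasDerivedCategory.standard
open InjHull

namespace Groth.Agent.S1748

/-- Let A be a Noetherian ring and E an injective A-module. Then A[x] ⊗_A E, as an object of D(A[x]) in
degree 0, has injective amplitude in [0, 1]: it is quasi-isomorphic to a complex of injective
A[x]-modules concentrated in degrees 0 and 1. In particular it has finite injective dimension. -/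
theorem result (A : Type u) [CommRing A] [IsNoetherianRing A] (E : Type u) [AddCommGroup E] [Module A E] [Module.Injective A E] : DRing.HasInjAmplitudeIn A[X] 0 1 (Dual.inD A[X] (A[X] ⊗[A] E)) := by
  open Groth.Agent.Lib.Helper84 in
  let M : ModuleCat.{u} A[X] := ModuleCat.of A[X] (A[X] ⊗[A] E)
  -- `A[X] ⊗ E` is an injective `A`-module (Bass–Papp)
  let e₁ : (A[X] ⊗[A] E) ≃ₗ[A] (ℕ →₀ E) :=
    (TensorProduct.congr (Polynomial.basisMonomials A).repr (LinearEquiv.refl A E)).trans
      (TensorProduct.finsuppScalarLeft A E ℕ)
  let e₂ : (A[X] ⊗[A] E) ≃ₗ[A] (CoindPoly.MA M) :=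
    { toFun := fun x => x
      invFun := fun x => x
      left_inv := fun _ => rfl
      right_inv := fun _ => rfl
      map_add' := fun _ _ => rfl
      map_smul' := fun a x => by
        rw [RingHom.id_apply]
        change a • x = (Polynomial.C a : A[X]) • x
        induction x using TensorProduct.induction_on with
        | zero => simp
        | tmul p e => rw [TensorProduct.smul_tmul', TensorProduct.smul_tmul', Polynomial.smul_eq_C_mul, smul_eq_mul]
        | add x y hx hy => rw [smul_add, smul_add, hx, hy] }
  have hB : Module.Baer A (CoindPoly.MA M) :=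
    Module.Baer.of_equiv (e₁.symm.trans e₂) (BassPapp.baer_finsupp ℕ E)
  haveI : Injective (CoindPoly.MA M) :=
    (DRingInj.injective_obj_iff _).1 (Module.Baer.injective hB)
  haveI hCo : Injective (CoindPoly.Co M) :=
    Injective.injective_of_adjoint
      (ModuleCat.restrictCoextendScalarsAdj (Polynomial.C : A →+* A[X])) (CoindPoly.MA M)
  haveI : Injective (CoindPoly.coindSC M).X₂ := hCo
  haveI : Injective (CoindPoly.coindSC M).X₃ := hCo
  exact InjAmpSES.hasInjAmplitudeIn_of_shortExact (CoindPoly.coindSC M)
    (CoindPoly.coindSC_shortExact M)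

end Groth.Agent.S1748
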