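import Groth.Statements.S6942
import Mathlib.Tactic
import Groth.Agent.Lib.Helper43.PCTower
import Groth.Agent.Lib.Helper15.PseudoCoh
import Groth.Agent.S2066
import Groth.Agent.S6935
-- import your own Groth.Agent.* helpers here

set_option autoImplicit false
universe u
open CategoryTheory CategoryTheory.Limits
attribute [local instance] HasDerivedCategory.standard
open DRing

namespace Groth.Agent.S6942

open CategoryTheory.Pretriangulated DerivedCategory CochainComplex
  Groth.Agent.Lib.Helper43 Groth.Agent.Lib.Helper43.PCTower Groth.Agent.Lib.Helper15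
  Groth.Agent.Lib.Helper15.MQI Groth.Agent.Lib.Helper84

/-- over a Noetherian ring, the cohomology of a complex of finite modules is finite -/
lemma finite_homology_of_noetherian {R : Type u} [CommRing R] [IsNoetherianRing R] (E : Cx R)
    (hE : ∀ i : ℤ, Module.Finite R (E.X i)) (i : ℤ) : Module.Finite R (E.homology i) := by
  let S := E.sc i
  have e : E.homology i ≅ S.moduleCatLeftHomologyData.H := S.moduleCatHomologyIso
  haveI : Module.Finite R S.X₂ := hE i
  haveI : IsNoetherian R S.X₂ := isNoetherian_of_isNoetherianRing_of_finite R _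
  have h : Module.Finite R (LinearMap.ker S.g.hom ⧸ LinearMap.range S.moduleCatToCycles) :=
    inferInstance
  have h' : Module.Finite R S.moduleCatLeftHomologyData.H := h
  exact Module.Finite.equiv e.toLinearEquiv.symm

lemma finite_HD_toD {R : Type u} [CommRing R] [IsNoetherianRing R] (E : Cx R)
    (hE : TermwiseFiniteFree E) (i : ℤ) :
    Module.Finite R ((homologyFunctor (ModuleCat.{u} R) i).obj (toD E)) := by
  haveI := finite_homology_of_noetherian E (fun i => (hE i).1) i
  exact Module.Finite.equiv (PCHomology.homologyIso E i).toLinearEquiv.symm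

/-- first part -/
theorem part1 (R : Type u) [CommRing R] [IsNoetherianRing R] (m : ℤ) (K : Dual.D R) :
    DRing.IsPseudoCoherent R m K ↔
      (∃ b : ℤ, ∀ i : ℤ, b < i → Subsingleton (Dual.HD R K i)) ∧
        ∀ i : ℤ, m ≤ i → Module.Finite R (Dual.HD R K i) := by
  constructor
  · intro h
    refine ⟨?_, ?_⟩
    · obtain ⟨n, hn⟩ := PseudoCoh.isLE_of_isPseudoCoherent h
      exact ⟨n, fun i hi => ModuleCat.subsingleton_of_isZero (isZero_of_isLE K n i hi)⟩
    · obtain ⟨E, a, b, α, hE, hff, hiso, hepi⟩ := h
      intro i hi
      haveI := finite_HD_toD E hff i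
      have hepi' : Epi ((homologyFunctor (ModuleCat.{u} R) i).map α) := by
        rcases hi.lt_or_eq with h | rfl
        · haveI := hiso i h
          infer_instance
        · exact hepi
      exact Module.Finite.of_surjective _ ((ModuleCat.epi_iff_surjective _).1 hepi')
  · rintro ⟨⟨n, hn⟩, hfinK⟩
    let L : Cx R := Q.objPreimage K
    let e : Q.obj L ≅ K := Q.objObjPreimageIso K
    refine isPseudoCoherent_of_finCond L e n m
      (fun i hi => by haveI := hn i hi; exact ModuleCat.isZero_of_subsingleton _) ?_
    intro j hj _ F α hF hff hacyc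
    have hT := mappingCone_triangle_distinguished α
    refine PCApprox.finite_homology_obj₃ _ hT j ?_ ?_
    · haveI : Module.Finite R ((homologyFunctor (ModuleCat.{u} R) j).obj K) := hfinK j hj
      exact Module.Finite.equiv
        ((homologyFunctor (ModuleCat.{u} R) j).mapIso e).toLinearEquiv.symm
    · haveI := finite_HD_toD F hff (j + 1)
      haveI : IsNoetherian R ((homologyFunctor (ModuleCat.{u} R) (j + 1)).obj (toD F)) :=
        isNoetherian_of_isNoetherianRing_of_finite R _
      change (LinearMap.ker ((homologyFunctor (ModuleCat.{u} R) (j + 1)).map (Q.map α)).hom).FG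
      exact IsNoetherian.noetherian _

/-- Let R be a Noetherian commutative ring and m an integer. An object K of D(R) is m-pseudo-coherent
exactly when H^i(K) = 0 for all large i and H^i(K) is a finitely generated R-module for each i ≥ m.
Every finitely generated R-module M is pseudo-coherent, and conversely. -/
theorem result (R : Type u) [CommRing R]
    [IsNoetherianRing R] (m : ℤ) (K : Dual.D R) (M : Type u) [AddCommGroup M] [Module R M] :
    (DRing.IsPseudoCoherent R m K ↔
      (∃ b : ℤ, ∀ i : ℤ, b < i → Subsingleton (Dual.HD R K i)) ∧ ∀ i : ℤ, m ≤ i → Module.Finite R (Dual.HD R K i)) ∧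
      (DRing.IsPseudoCoherentModule' R M ↔ Module.Finite R M) := by
  refine ⟨part1 R m K, ⟨fun h => ?_, fun h => ?_⟩⟩
  · have h0 := ((Groth.Agent.S2066.result (Dual.inD R M)).1.2 h) 0
    exact ((Groth.Agent.S6935.result R M).1.1 h0)
  · refine (Groth.Agent.S2066.result (Dual.inD R M)).1.1 (fun m' => ?_)
    refine (part1 R m' (Dual.inD R M)).2 ⟨⟨0, fun i hi => ?_⟩, fun i _ => ?_⟩
    · exact ModuleCat.subsingleton_of_isZero (Groth.Agent.S6935.isZero_hi R M i (by lia))
    · by_cases hi : i = 0
      · subst hi
        exact Module.Finite.equiv (Groth.Agent.S6935.h0Iso R M).toLinearEquiv.symm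
      · haveI : Subsingleton (Dual.HD R (Dual.inD R M) i) :=
          ModuleCat.subsingleton_of_isZero (Groth.Agent.S6935.isZero_hi R M i hi)
        infer_instance

end Groth.Agent.S6942
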