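import Groth.Statements.S6954
import Groth.Agent.Lib.Helper84.FlatAmpPerf
import Groth.Agent.S2066

set_option autoImplicit false
universe u
open CategoryTheory CategoryTheory.Limits
attribute [local instance] HasDerivedCategory.standard
open DRing

namespace Groth.Agent.S6954

/-- Let R be a commutative ring and K an object of D(R). Then K is perfect (isomorphic in D(R) to a
bounded complex of finite projective modules) if and only if K is pseudo-coherent (isomorphic to a
bounded above complex of finite free modules) and has finite tor dimension (isomorphic to a bounded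
complex of flat modules). -/
theorem result (R : Type u) [CommRing R] (K : Dual.D R) :
    DRing.IsPerfect R K ↔ DRing.IsPseudoCoherent' R K ∧ DRing.HasFiniteTorDimCx R K := by
  constructor
  · rintro ⟨E, a, b, h1, h2, ⟨e⟩⟩
    refine ⟨?_, a, b, E, h1, Groth.Agent.Lib.Helper84.FlatAmp.termwiseFlat_of_finiteProjective h2,
      ⟨e⟩⟩
    exact (Groth.Agent.S2066.result K).1.1
      ((Groth.Agent.S2066.result K).2.2 ⟨E, b, fun i hi => h1 i (Or.inr hi), h2, ⟨e⟩⟩)
  · rintro ⟨hpc, a, b, h⟩
    obtain ⟨E, n, h1, h2, he⟩ :=
      Groth.Agent.Lib.Helper84.FlatAmp.exists_finiteProjective_of_pc_of_torAmp K hpc a b h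
    exact ⟨E, a, n, h1, h2, he⟩

end Groth.Agent.S6954
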