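import Groth.Statements.S1718
import Groth.Agent.Lib.Helper39.Dual.HDIOmega
-- import your own Groth.Agent.* helpers here

set_option autoImplicit false
universe u
open CategoryTheory
attribute [local instance] HasDerivedCategory.standard
open Dual

namespace Groth.Agent.S1718

/-- Let A be a Noetherian local ring with maximal ideal m, residue field κ and a normalized dualizing
complex ω, and let κ → E be an injective hull. Then the degree-0 local cohomology of ω with support
in m (the direct limit of Hom(A/m^n, ω)) is isomorphic to E, and the local cohomology of ω in every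
other degree is zero. -/
theorem result (A : Type u) [CommRing A] [IsLocalRing A] [IsNoetherianRing A] (ω : Dual.D A) (hω : Dual.IsDualizing A ω) (hn : Dual.IsNormalized A ω) (E : Type u) [AddCommGroup E] [Module A E] (f : IsLocalRing.ResidueField A →ₗ[A] E) (hf : InjHull.IsInjectiveHull f) : Nonempty (Dual2.HDI A (IsLocalRing.maximalIdeal A) ω 0 ≃ₗ[A] E) ∧ ∀ i : ℤ, i ≠ 0 → Subsingleton (Dual2.HDI A (IsLocalRing.maximalIdeal A) ω i) := by
  refine ⟨Lib.Helper39.Dual.hdi_omega_zero ω hω hn hf, fun i hi =>
    Lib.Helper39.Dual.subsingleton_hdi _ ω i (fun n =>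
      Lib.Helper25.LocDual.subsingleton_hom_of_isFiniteLength (ω⟦i⟧)
        (Lib.Helper39.Dual.subsingleton_hom_residue ω hn i hi) (A ⧸ IsLocalRing.maximalIdeal A ^ n)
        (Lib.Helper85.Matlis.isFiniteLength_quot_pow n))⟩

end Groth.Agent.S1718
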