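import Groth.Statements.S9436
import Mathlib.RingTheory.Smooth.StandardSmoothOfFree
import Mathlib.RingTheory.Smooth.StandardSmoothCotangent
import Mathlib.RingTheory.Localization.BaseChange

set_option autoImplicit false
universe u
open CAlg

namespace Groth.Agent.S9436

open TensorProduct MvPolynomial Algebra

section

variable {R : Type*} {A₁ A₂ : Type*} {ι σ : Type*} [CommRing R] [CommRing A₁] [CommRing A₂]
  [Algebra R A₁] [Algebra R A₂]

noncomputable def equivOfRelationEq (P₁ : Presentation R A₁ ι σ) (P₂ : Presentation R A₂ ι σ)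
    (h : P₁.relation = P₂.relation) : A₁ ≃ₐ[R] A₂ :=
  ((P₁.quotientEquiv.restrictScalars R).symm.trans
    (Ideal.quotientEquivAlgOfEq R (show P₁.ker = P₂.ker by
      rw [← P₁.span_range_relation_eq_ker, ← P₂.span_range_relation_eq_ker, h]))).trans
    (P₂.quotientEquiv.restrictScalars R)

lemma equivOfRelationEq_aeval (P₁ : Presentation R A₁ ι σ) (P₂ : Presentation R A₂ ι σ)
    (h : P₁.relation = P₂.relation) (p : MvPolynomial ι R) :
    equivOfRelationEq P₁ P₂ h (aeval P₁.val p) = aeval P₂.val p := by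
  have h1 : (P₁.quotientEquiv.restrictScalars R).symm (aeval P₁.val p) =
      Ideal.Quotient.mk P₁.ker p := by
    rw [AlgEquiv.symm_apply_eq, AlgEquiv.restrictScalars_apply, Presentation.quotientEquiv_mk,
      Generators.algebraMap_apply]
  simp only [equivOfRelationEq, AlgEquiv.trans_apply, h1, Ideal.quotientEquivAlgOfEq_mk,
    AlgEquiv.restrictScalars_apply, Presentation.quotientEquiv_mk, Generators.algebraMap_apply]

lemma jacobian_eq_of_relation_eq [Finite σ] (P₁ : PreSubmersivePresentation R A₁ ι σ)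
    (P₂ : PreSubmersivePresentation R A₂ ι σ)
    (h : P₁.relation = P₂.relation) (hm : P₁.map = P₂.map) :
    equivOfRelationEq P₁.toPresentation P₂.toPresentation h P₁.jacobian = P₂.jacobian := by
  have hd : P₁.differential = P₂.differential := by
    unfold PreSubmersivePresentation.differential
    rw [h, hm]
  unfold PreSubmersivePresentation.jacobian
  rw [Generators.algebraMap_apply, Generators.algebraMap_apply, equivOfRelationEq_aeval, hd]

end

theorem result (R : Type u) [CommRing R] (I : Ideal R) (Sb : Type u)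
    [CommRing Sb] [Algebra (R ⧸ I) Sb] [Algebra.Etale (R ⧸ I) Sb] :
    ∃ (S : Type u) (_ : CommRing S) (_ : Algebra R S), Algebra.Etale R S ∧
      Nonempty (((R ⧸ I) ⊗[R] S) ≃ₐ[R ⧸ I] Sb) := by
  classical
  have h0 : Algebra.IsStandardSmoothOfRelativeDimension 0 (R ⧸ I) Sb :=
    Algebra.Etale.iff_isStandardSmoothOfRelativeDimension_zero.mp inferInstance
  obtain ⟨ι, σ, _, _, P, hP⟩ := h0.out
  have hsurj : Function.Surjective (MvPolynomial.map (σ := ι) (Ideal.Quotient.mk I)) :=
    MvPolynomial.map_surjective _ Ideal.Quotient.mk_surjective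
  choose v hv using fun j : σ => hsurj (P.relation j)
  let S₀ := MvPolynomial ι R ⧸ Ideal.span (Set.range v)
  let Q₀ : PreSubmersivePresentation R S₀ ι σ :=
    PreSubmersivePresentation.naive (v := v) P.map P.map_inj
  let Δ : S₀ := Q₀.jacobian
  let S := Localization.Away Δ
  let Q₁ : PreSubmersivePresentation S₀ S Unit Unit :=
    PreSubmersivePresentation.localizationAway S Δ
  let Q : PreSubmersivePresentation R S (Unit ⊕ ι) (Unit ⊕ σ) := Q₁.comp Q₀
  have hQjac : IsUnit Q.jacobian := by
    rw [PreSubmersivePresentation.comp_jacobian_eq_jacobian_smul_jacobian,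
      PreSubmersivePresentation.localizationAway_jacobian, Algebra.smul_def]
    exact (IsLocalization.Away.algebraMap_isUnit Δ).mul (IsLocalization.Away.algebraMap_isUnit Δ)
  let Q' : SubmersivePresentation R S (Unit ⊕ ι) (Unit ⊕ σ) := ⟨Q, hQjac⟩
  have hdim : Q'.dimension = 0 := by
    have h1 : Q.dimension = Q₁.dimension + Q₀.dimension :=
      PreSubmersivePresentation.dimension_comp_eq_dimension_add_dimension Q₁ Q₀
    have h2 : Q₁.dimension = 0 := by simp [Presentation.dimension]
    have h3 : Q₀.dimension = 0 := hP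
    change Q.dimension = 0
    rw [h1, h2, h3]
  have hst : IsStandardSmoothOfRelativeDimension 0 R S :=
    Q'.isStandardSmoothOfRelativeDimension hdim
  have hEt : Algebra.Etale R S := inferInstance
  have hrel : ((Q₀.baseChange (R ⧸ I)).toPresentation).relation = P.toPresentation.relation := by
    funext j
    exact hv j
  let e₀ : (R ⧸ I) ⊗[R] S₀ ≃ₐ[R ⧸ I] Sb :=
    equivOfRelationEq ((Q₀.baseChange (R ⧸ I)).toPresentation) P.toPresentation hrel
  have he₀ : e₀ (1 ⊗ₜ Δ) = P.jacobian := by
    rw [← PreSubmersivePresentation.baseChange_jacobian]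
    exact jacobian_eq_of_relation_eq (Q₀.baseChange (R ⧸ I)) P.toPreSubmersivePresentation hrel rfl
  have hunit : IsUnit ((1 : R ⧸ I) ⊗ₜ[R] Δ) := by
    have := P.jacobian_isUnit
    rw [← he₀] at this
    have h2 := this.map e₀.symm
    rwa [AlgEquiv.symm_apply_apply] at h2
  let e₁ : (R ⧸ I) ⊗[R] S ≃ₐ[R ⧸ I] Localization.Away ((1 : R ⧸ I) ⊗ₜ[R] Δ) :=
    IsLocalization.Away.tensorProductEquivTMulRight R (R ⧸ I) Δ S
  let e₂ : (R ⧸ I) ⊗[R] S₀ ≃ₐ[(R ⧸ I) ⊗[R] S₀] Localization.Away ((1 : R ⧸ I) ⊗ₜ[R] Δ) :=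
    IsLocalization.atUnit _ _ _ hunit
  exact ⟨S, _, _, hEt, ⟨e₁.trans ((e₂.restrictScalars (R ⧸ I)).symm.trans e₀)⟩⟩

end Groth.Agent.S9436
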