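import Groth.Statements.S0832
import Groth.Agent.Lib.Helper40.FormalUP
import Groth.Agent.Lib.Helper55.CohFormal

set_option autoImplicit false
universe u
open Formal2

namespace Groth.Agent.S0832

open CategoryTheory CategoryTheory.Limits AlgebraicGeometry Opposite
open Groth.Agent.Lib.Helper40.FormalUP Groth.Agent.Lib.Helper55.CohFormal

variable {A : Type u} [CommRing A] {X : Scheme.{u}} [X.Over (Spec (CommRingCat.of A))]
  {I : Ideal A} {F : ℕᵒᵖ ⥤ X.Modules}

theorem map_comp_le (F : ℕᵒᵖ ⥤ X.Modules) {a b c : ℕ} (h1 : a ≤ b) (h2 : b ≤ c) :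
    F.map (homOfLE h2).op ≫ F.map (homOfLE h1).op = F.map (homOfLE (h1.trans h2)).op := by
  rw [← F.map_comp]; rfl

theorem map_refl (F : ℕᵒᵖ ⥤ X.Modules) (n : ℕ) (h : n ≤ n) : F.map (homOfLE h).op = 𝟙 _ :=
  F.map_id _

theorem isQuot_map (hF : Formal.IsCohFormal I F) (n k : ℕ) (h : n ≤ k) :
    IsQuot (I ^ (n + 1)) (F.map (homOfLE h).op) := by
  induction k, h using Nat.le_induction with
  | base =>
    rw [map_refl]
    exact isQuot_of_isIso _ (hF.2.1 n)
  | succ k hk ih =>
    rw [← map_comp_le F hk (Nat.le_succ k)]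
    obtain ⟨h0, hiso⟩ := hF.2.2 k
    exact IsQuot.comp (Ideal.pow_le_pow_right (by omega)) (isQuot_of_isIso_desc h0 hiso) ih

/-- completion from a compatible family of quotient maps -/
theorem nonempty_iso_of_isQuot (M : X.Modules) (θ : ∀ n, M ⟶ F.obj (op n))
    (hθ : ∀ n, θ (n + 1) ≫ F.map (homOfLE (Nat.le_succ n)).op = θ n)
    (hq : ∀ n, IsQuot (I ^ (n + 1)) (θ n)) : Nonempty (Formal.completion I M ≅ F) := by
  let app : ∀ n : ℕ, (Formal.completion I M).obj ⟨n⟩ ⟶ F.obj ⟨n⟩ :=
    fun n => cokernel.desc _ _ (hq n).zero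
  have happ : ∀ n, Formal.modPowπ I (n + 1) M ≫ app n = θ n := fun n => cokernel.π_desc _ _ _
  have nat : ∀ n : ℕ, (Formal.completion I M).map (homOfLE (n.le_add_right 1)).op ≫ app n =
        app (n + 1) ≫ F.map (homOfLE (n.le_add_right 1)).op := by
    intro n
    have hmap : (Formal.completion I M).map (homOfLE (n.le_add_right 1)).op =
          Formal.modPowTrans I (n + 1) M := Functor.ofOpSequence_map_homOfLE_succ _ n
    rw [hmap]
    refine (cancel_epi (Formal.modPowπ I (n + 1 + 1) M)).mp ?_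
    have e1 : Formal.modPowπ I (n + 1 + 1) M ≫ Formal.modPowTrans I (n + 1) M ≫ app n = θ n := by
      rw [← Category.assoc, Formal.modPowπ_trans]; exact happ n
    have e2 : Formal.modPowπ I (n + 1 + 1) M ≫ app (n + 1) ≫
        F.map (homOfLE (n.le_add_right 1)).op = θ n := by
      rw [← Category.assoc]
      exact (congrArg (fun k => k ≫ F.map (homOfLE (n.le_add_right 1)).op) (happ (n + 1))).trans
        (hθ n)
    exact e1.trans e2.symm
  let τ := NatTrans.ofOpSequence app nat
  haveI : ∀ j, IsIso (τ.app j) := fun j => by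
    change IsIso (app j.unop); exact (hq j.unop).isIso_desc
  haveI : IsIso τ := NatIso.isIso_of_isIso_app τ
  exact ⟨asIso τ⟩

open CategoryTheory AlgebraicGeometry Opposite in
/-- First assertion, for the ideal sheaf I·O_X of an ideal I of a base ring A. Let X be a Noetherian
scheme over Spec A and (F_n) a coherent formal module for I such that some fixed power I^c
annihilates every F_n. Then (F_n) is isomorphic to the system (M/I^nM) of a coherent O_X-module M. -/
theorem result (A : Type u) [CommRing A] (I : Ideal A) (X : Scheme.{u})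
    [X.Over (Spec (CommRingCat.of A))] [IsNoetherian X] (F : ℕᵒᵖ ⥤ X.Modules) (hF : Formal.IsCohFormal I F)
    (hc : ∃ c : ℕ, ∀ n : ℕ, Formal.KilledBy (I ^ c) (F.obj (op n))) :
    ∃ M : X.Modules, Coh.IsCoh M ∧ Nonempty (Formal.completion I M ≅ F) := by
  obtain ⟨c, hc⟩ := hc
  have hiso : ∀ n (h : c ≤ n), IsIso (F.map (homOfLE h).op) := fun n h =>
    (isQuot_map hF c n h).isIso_of_killedBy
      (killedBy_mono (Ideal.pow_le_pow_right (Nat.le_succ c)) (hc n))
  let θ : ∀ n, F.obj (op c) ⟶ F.obj (op n) := fun n =>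
    if h : n ≤ c then F.map (homOfLE h).op
    else @inv _ _ _ _ (F.map (homOfLE (le_of_not_ge h)).op) (hiso n _)
  have hθ1 : ∀ n (h : n ≤ c), θ n = F.map (homOfLE h).op := fun n h => dif_pos h
  have hθ2 : ∀ n (h : c ≤ n), θ n ≫ F.map (homOfLE h).op = 𝟙 _ := by
    intro n h
    by_cases h' : n ≤ c
    · obtain rfl : n = c := le_antisymm h' h
      rw [hθ1 n h', map_refl, Category.comp_id]
    · have : θ n = @inv _ _ _ _ (F.map (homOfLE (le_of_not_ge h')).op) (hiso n _) := dif_neg h'
      rw [this]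
      exact @IsIso.inv_hom_id _ _ _ _ _ (hiso n _)
  refine ⟨F.obj (op c), hF.1 c, nonempty_iso_of_isQuot _ θ ?_ ?_⟩
  · intro n
    by_cases h : n + 1 ≤ c
    · rw [hθ1 (n + 1) h, hθ1 n (by omega)]
      exact map_comp_le F _ _
    · have hcn : c ≤ n := by omega
      haveI := hiso n hcn
      rw [← cancel_mono (F.map (homOfLE hcn).op), Category.assoc, map_comp_le, hθ2, hθ2]
  · intro n
    by_cases h : n ≤ c
    · rw [hθ1 n h]; exact isQuot_map hF n c h
    · have hcn : c ≤ n := by omega
      haveI := hiso n hcn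
      haveI : IsIso (θ n) := by
        have : θ n = inv (F.map (homOfLE hcn).op) := by
          rw [← cancel_mono (F.map (homOfLE hcn).op), hθ2, IsIso.inv_hom_id]
        rw [this]; infer_instance
      exact isQuot_of_isIso _ (killedBy_mono (Ideal.pow_le_pow_right (by omega)) (hc c))

end Groth.Agent.S0832
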