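import Groth.Statements.S4764
import Mathlib.RingTheory.Flat.EquationalCriterion

set_option autoImplicit false
universe u
open CategoryTheory AlgebraicGeometry
open Lim8

namespace Groth.Agent.S4764

lemma ringHom_flat_of_directed {A B : Type u} [CommRing A] [CommRing B] (φ : A →+* B)
    {J : Type u} (R : J → Type u) [∀ j, CommRing (R j)] (α : ∀ j, A →+* R j)
    (β : ∀ j, R j →+* B)
    (hcomp : ∀ j, (β j).comp (α j) = φ)
    (hflat : ∀ j, (α j).Flat)
    (hsurj : ∀ (l : ℕ) (x : Fin l → B), ∃ j, ∃ (x' : Fin l → R j), ∀ i, β j (x' i) = x i)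
    (hinj : ∀ j (r : R j), β j r = 0 →
      ∃ k, ∃ (τ : R j →+* R k), τ.comp (α j) = α k ∧ (β k).comp τ = β j ∧ τ r = 0) :
    φ.Flat := by
  rw [RingHom.Flat]
  let _ := φ.toAlgebra
  apply Module.Flat.of_forall_isTrivialRelation
  intro l f x h
  obtain ⟨j, x', hx'⟩ := hsurj l x
  have hβα : ∀ j a, β j (α j a) = φ a := fun j a => by rw [← hcomp j]; rfl
  have hr : β j (∑ i, α j (f i) * x' i) = 0 := by
    rw [map_sum]
    simp only [map_mul, hx', hβα]
    simpa [Algebra.smul_def, RingHom.algebraMap_toAlgebra] using h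
  obtain ⟨k, τ, h1, h2, h3⟩ := hinj j _ hr
  let _ := (α k).toAlgebra
  have hk : Module.Flat A (R k) := hflat k
  have hτα : ∀ a, τ (α j a) = α k a := fun a => by rw [← h1]; rfl
  have hβτ : ∀ r, β k (τ r) = β j r := fun r => by rw [← h2]; rfl
  have hrel : ∑ i, f i • τ (x' i) = 0 := by
    rw [map_sum] at h3
    simp only [map_mul, hτα] at h3
    simpa [Algebra.smul_def, RingHom.algebraMap_toAlgebra] using h3
  obtain ⟨n, a, y, hy1, hy2⟩ := Module.Flat.isTrivialRelation_of_sum_smul_eq_zero hrel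
  refine ⟨n, a, fun m => β k (y m), ?_, hy2⟩
  intro i
  have hy1' : τ (x' i) = ∑ m, a i m • y m := hy1 i
  rw [← hx' i, ← hβτ, hy1', map_sum]
  refine Finset.sum_congr rfl fun m _ => ?_
  rw [Algebra.smul_def, Algebra.smul_def, map_mul, RingHom.algebraMap_toAlgebra,
    RingHom.algebraMap_toAlgebra]
  rw [← hcomp k]; rfl

lemma flat_π_of_isAffine {J : Type u} [SmallCategory J] [IsCofiltered J] (D : J ⥤ Scheme.{u})
    (c : Limits.Cone D) (hc : Limits.IsLimit c) [∀ j, IsAffine (D.obj j)] (i : J)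
    (hf : ∀ (j : J) (φ : j ⟶ i), Flat (D.map φ)) : Flat (c.π.app i) := by
  classical
  have : IsAffine c.pt := Scheme.isAffine_of_isLimit _ hc
  have : IsAffine (((Functor.const J).obj c.pt).obj i) := this
  rw [HasRingHomProperty.iff_of_isAffine (P := @Flat)]
  refine ringHom_flat_of_directed (c.π.app i).appTop.hom (J := Σ j, (j ⟶ i))
    (fun p => Γ(D.obj p.1, ⊤)) (fun p => (D.map p.2).appTop.hom)
    (fun p => (c.π.app p.1).appTop.hom) ?_ ?_ ?_ ?_
  · rintro ⟨j, φ⟩
    rw [← CommRingCat.hom_comp, ← Scheme.Hom.comp_appTop, c.w]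
  · rintro ⟨j, φ⟩
    have := hf j φ
    exact (D.map φ).flat_appTop
  · intro l x
    choose j t ht using fun m => exists_appTop_π_eq_of_isAffine_of_isLimit D c hc (x m)
    obtain ⟨S, hS⟩ := IsCofiltered.inf_objs_exists (insert i (Finset.univ.image j))
    have gi : S ⟶ i := (hS (by simp)).some
    have g : ∀ m, S ⟶ j m := fun m => (hS (by simp)).some
    refine ⟨⟨S, gi⟩, fun m => (D.map (g m)).appTop (t m), fun m => ?_⟩
    rw [← ht m, ← c.w (g m), Scheme.Hom.comp_appTop]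
    rfl
  · rintro ⟨j, φ⟩ r hr
    obtain ⟨k, f, hk⟩ := exists_appTop_map_eq_zero_of_isAffine_of_isLimit D c hc j r hr
    refine ⟨⟨k, f ≫ φ⟩, (D.map f).appTop.hom, ?_, ?_, hk⟩
    · rw [← CommRingCat.hom_comp, ← Scheme.Hom.comp_appTop, ← D.map_comp]
    · rw [← CommRingCat.hom_comp, ← Scheme.Hom.comp_appTop, c.w]

/-- Let S = lim S_i be a cofiltered limit of schemes with affine transition maps and let i be an index
such that every transition map S_j ⟶ S_i is flat. Then the canonical projection S ⟶ S_i is flat. -/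
theorem result {I : Type u} [SmallCategory I] [IsCofiltered I]
    (D : I ⥤ Scheme.{u}) (c : Limits.Cone D) (hc : Limits.IsLimit c)
    [∀ (i j : I) (f : i ⟶ j), IsAffineHom (D.map f)] (i : I)
    (hf : ∀ (j : I) (φ : j ⟶ i), Flat (D.map φ)) : Flat (c.π.app i) := by
  refine IsZariskiLocalAtSource.of_iSup_eq_top (P := @Flat)
    (fun U : (D.obj i).affineOpens => c.π.app i ⁻¹ᵁ U.1) ?_ ?_
  · rw [← Scheme.Hom.preimage_iSup, iSup_affineOpens_eq_top]
    rfl
  · intro U
    have hA : ∀ j : Over i, IsAffine ((opensDiagram D i U.1).obj j) :=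
      fun j => U.2.preimage (D.map j.hom)
    have hfl : Flat ((opensCone D c i U.1).π.app (Over.mk (𝟙 i))) :=
      flat_π_of_isAffine (opensDiagram D i U.1) (opensCone D c i U.1)
        (isLimitOpensCone D c hc i U.1) (Over.mk (𝟙 i)) (fun j φ => by
          have := hf j.left φ.left
          dsimp [opensDiagram]; infer_instance)
    have hle : c.π.app i ⁻¹ᵁ U.1 ≤ c.π.app i ⁻¹ᵁ (D.map (𝟙 i) ⁻¹ᵁ U.1) := by
      rw [D.map_id]; exact le_rfl
    have e : (c.π.app i ⁻¹ᵁ U.1).ι ≫ c.π.app i =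
        (c.π.app i).resLE (D.map (𝟙 i) ⁻¹ᵁ U.1) (c.π.app i ⁻¹ᵁ U.1) hle ≫
          (D.map (𝟙 i) ⁻¹ᵁ U.1).ι := (Scheme.Hom.resLE_comp_ι _ _).symm
    have hfl' : Flat ((c.π.app i).resLE (D.map (𝟙 i) ⁻¹ᵁ U.1) (c.π.app i ⁻¹ᵁ U.1) hle) := hfl
    rw [e]
    infer_instance

end Groth.Agent.S4764
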