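import Groth.Statements.S18939
import Mathlib.Tactic
import Groth.Agent.Lib.Helper43.KoszulH1
import Mathlib.RingTheory.Ideal.Cotangent
-- import your own Groth.Agent.* helpers here

set_option autoImplicit false
universe u
open LCI

namespace Groth.Agent.S18939

open Groth.Agent.Lib.Helper43.KoszulH1 in
/-- coordinates of trivial relations lie in the ideal generated by the sequence -/
lemma triv_coord {R : Type u} [CommRing R] {c : ℕ} (h : Fin c → R) (v : Fin c → R)
    (hv : v ∈ Triv h) (k : Fin c) : v k ∈ Ideal.span (Set.range h) := by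
  induction hv using Submodule.span_induction with
  | mem v hv =>
    obtain ⟨i, j, rfl⟩ := hv
    simp only [Pi.sub_apply, Pi.single_apply]
    refine Ideal.sub_mem _ ?_ ?_
    · split_ifs
      · exact Ideal.subset_span ⟨j, rfl⟩
      · exact Ideal.zero_mem _
    · split_ifs
      · exact Ideal.subset_span ⟨i, rfl⟩
      · exact Ideal.zero_mem _
  | zero => exact Ideal.zero_mem _
  | add x y _ _ hx hy => exact Ideal.add_mem _ hx hy
  | smul a x _ hx => exact Ideal.mul_mem_left _ a hx

/-- elements of `I²` are combinations of the generators with coefficients in `I` -/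
lemma exists_coeff_of_mem_sq {R : Type u} [CommRing R] {c : ℕ} (g : Fin c → R) (x : R)
    (hx : x ∈ Ideal.span (Set.range g) ^ 2) :
    ∃ b : Fin c → R, (∀ i, b i ∈ Ideal.span (Set.range g)) ∧ x = ∑ i, b i * g i := by
  rw [pow_two] at hx
  refine Submodule.mul_induction_on hx ?_ ?_
  · intro m hm n hn
    obtain ⟨c', hc'⟩ := (Ideal.mem_span_range_iff_exists_fun).1 hm
    refine ⟨fun i => c' i * n, fun i => Ideal.mul_mem_left _ _ hn, ?_⟩
    rw [← hc', Finset.sum_mul]
    exact Finset.sum_congr rfl (fun i _ => by ring)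
  · intro x y hx hy
    obtain ⟨b1, h1, e1⟩ := hx
    obtain ⟨b2, h2, e2⟩ := hy
    refine ⟨b1 + b2, fun i => Ideal.add_mem _ (h1 i) (h2 i), ?_⟩
    rw [e1, e2, ← Finset.sum_add_distrib]
    exact Finset.sum_congr rfl (fun i _ => by simp [add_mul])

/-- for a Koszul-regular sequence, a combination lying in `I²` has coefficients in `I` -/
lemma coeff_mem_of_koszulRegular {R : Type u} [CommRing R] {r : ℕ} (g : Fin r → R)
    (hg : LCI.IsKoszulRegularSeq R (List.ofFn g)) (a : Fin r → R)
    (ha : ∑ i, a i * g i ∈ Ideal.span (Set.range g) ^ 2) (i : Fin r) :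
    a i ∈ Ideal.span (Set.range g) := by
  obtain ⟨b, hb, hab⟩ := exists_coeff_of_mem_sq g _ ha
  have hH1 := Groth.Agent.Lib.Helper43.KoszulH1.isH1Regular_of_isKoszulRegularSeq _ hg
  have hl : (List.ofFn g).length = r := List.length_ofFn
  have hget : ∀ j : Fin (List.ofFn g).length, (List.ofFn g).get j = g (Fin.cast hl j) := by
    intro j
    rw [List.get_ofFn]
  have hrel : ∑ j : Fin (List.ofFn g).length,
      (a (Fin.cast hl j) - b (Fin.cast hl j)) * (List.ofFn g).get j = 0 := by
    have : ∑ j : Fin (List.ofFn g).length,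
        (a (Fin.cast hl j) - b (Fin.cast hl j)) * (List.ofFn g).get j =
        ∑ i : Fin r, (a i - b i) * g i := by
      rw [← Equiv.sum_comp (finCongr hl) (fun i => (a i - b i) * g i)]
      exact Finset.sum_congr rfl (fun j _ => by rw [hget]; rfl)
    rw [this]
    simp only [sub_mul, Finset.sum_sub_distrib]
    rw [hab, sub_self]
  have htriv := hH1 _ hrel
  have hk := triv_coord _ _ htriv (Fin.cast hl.symm i)
  have hrange : Set.range (List.ofFn g).get = Set.range g := by
    ext x
    constructor
    · rintro ⟨j, rfl⟩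
      exact ⟨Fin.cast hl j, (hget j).symm⟩
    · rintro ⟨i, rfl⟩
      exact ⟨Fin.cast hl.symm i, by rw [hget]; rfl⟩
  rw [hrange] at hk
  simp only [Fin.cast_cast, Fin.cast_eq_self] at hk
  have := Ideal.add_mem _ hk (hb i)
  simpa using this

/-- Let R be a commutative ring, I a proper ideal of R and f_1, …, f_r a Koszul-regular sequence of
elements of I generating I. Then I/I² is a free R/I-module of rank r, with basis the classes of f_1,
…, f_r. -/
theorem result {R : Type u} [CommRing R] {I : Ideal R} (hI : I ≠ ⊤)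
    (r : ℕ) (f : Fin r → I) (hf : LCI.IsKoszulRegularSeq R (List.ofFn (fun i => (f i : R))))
    (hfI : Ideal.span (Set.range (fun i => (f i : R))) = I) :
    ∃ b : Module.Basis (Fin r) (R ⧸ I) I.Cotangent, ∀ i, b i = I.toCotangent (f i) := by
  set g : Fin r → R := fun i => (f i : R) with hgdef
  have hli : LinearIndependent (R ⧸ I) (fun i => I.toCotangent (f i)) := by
    rw [Fintype.linearIndependent_iff]
    intro c hc i
    choose a ha using fun j => Ideal.Quotient.mk_surjective (c j)
    have h1 : ∑ j, c j • I.toCotangent (f j) = I.toCotangent (∑ j, a j • f j) := by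
      rw [map_sum]
      refine Finset.sum_congr rfl (fun j _ => ?_)
      rw [← ha j, map_smul]
      rfl
    rw [h1, Ideal.toCotangent_eq_zero] at hc
    have h2 : ((∑ j, a j • f j : I) : R) = ∑ j, a j * g j := by
      rw [Submodule.coe_sum]
      rfl
    rw [h2, ← hfI] at hc
    have := coeff_mem_of_koszulRegular g hf a hc i
    rw [hfI] at this
    rw [← ha i]
    exact Ideal.Quotient.eq_zero_iff_mem.2 this
  have hsp : ⊤ ≤ Submodule.span (R ⧸ I) (Set.range (fun i => I.toCotangent (f i))) := by
    rintro x -
    obtain ⟨y, rfl⟩ := Ideal.toCotangent_surjective I x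
    have hy : (y : R) ∈ Ideal.span (Set.range g) := by
      rw [hfI]
      exact y.2
    obtain ⟨c, hc⟩ := (Ideal.mem_span_range_iff_exists_fun).1 hy
    have hy' : y = ∑ j, c j • f j := by
      apply Subtype.ext
      rw [Submodule.coe_sum, ← hc]
      rfl
    rw [hy', map_sum]
    refine Submodule.sum_mem _ (fun j _ => ?_)
    rw [map_smul]
    have : c j • I.toCotangent (f j) = (Ideal.Quotient.mk I (c j)) • I.toCotangent (f j) := rfl
    rw [this]
    exact Submodule.smul_mem _ _ (Submodule.subset_span ⟨j, rfl⟩)
  exact ⟨Module.Basis.mk hli hsp, fun i => Module.Basis.mk_apply hli hsp i⟩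

end Groth.Agent.S18939
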