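import Groth.Statements.S18935
import Mathlib.Tactic
import Groth.Agent.Lib.Helper43.KoszulGen
import Groth.Agent.S18939
-- import your own Groth.Agent.* helpers here

set_option autoImplicit false
universe u
open LCI

namespace Groth.Agent.S18935

/-- a Koszul-regular generating sequence of a proper ideal is no longer than any generating
sequence -/
lemma length_le_of_koszulRegular {R : Type u} [CommRing R] {I : Ideal R} (hI : I ≠ ⊤)
    (f : List R) (hf : LCI.IsKoszulRegularSeq R f) (hfI : Ideal.ofList f = I)
    (h : List R) (hhI : Ideal.ofList h = I) : f.length ≤ h.length := by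
  classical
  haveI : Nontrivial (R ⧸ I) := Ideal.Quotient.nontrivial_iff.2 hI
  have hmemf : ∀ i : Fin f.length, f.get i ∈ I := fun i => by
    rw [← hfI]; exact Ideal.subset_span (List.get_mem f i)
  have hofFn : List.ofFn (fun i : Fin f.length => ((⟨f.get i, hmemf i⟩ : I) : R)) = f :=
    List.ofFn_get f
  obtain ⟨b, -⟩ := Groth.Agent.S18939.result hI f.length (fun i => ⟨f.get i, hmemf i⟩)
    (by rw [hofFn]; exact hf)
    (by
      have hset : (Set.range fun i : Fin f.length => f.get i) = {a | a ∈ f} := by
        ext x
        constructor
        · rintro ⟨i, rfl⟩; exact List.get_mem f i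
        · intro hx
          obtain ⟨i, hi⟩ := List.get_of_mem hx
          exact ⟨i, hi⟩
      change Ideal.span (Set.range fun i : Fin f.length => f.get i) = I
      rw [hset]
      exact hfI)
  have hrank : Module.finrank (R ⧸ I) I.Cotangent = f.length := by
    rw [Module.finrank_eq_card_basis b, Fintype.card_fin]
  -- spanning set from `h`
  have hmemh : ∀ x ∈ h, x ∈ I := fun x hx => by rw [← hhI]; exact Ideal.subset_span hx
  let S : Finset I.Cotangent := (h.attach.map (fun x => I.toCotangent ⟨x.1, hmemh x.1 x.2⟩)).toFinset
  have hScard : S.card ≤ h.length := by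
    refine (List.toFinset_card_le _).trans ?_
    simp
  have hspan : Submodule.span (R ⧸ I) (S : Set I.Cotangent) = ⊤ := by
    rw [eq_top_iff]
    rintro y -
    obtain ⟨⟨x, hx⟩, rfl⟩ := Ideal.toCotangent_surjective I y
    have hx' : x ∈ Ideal.span {a | a ∈ h} := by rw [← Ideal.ofList, hhI]; exact hx
    have key : ∀ (x : R) (hx' : x ∈ Submodule.span R {a | a ∈ h}) (hx : x ∈ I),
        I.toCotangent ⟨x, hx⟩ ∈ Submodule.span (R ⧸ I) (S : Set I.Cotangent) := by
      intro x hx'
      induction hx' using Submodule.span_induction with
      | mem x hxh =>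
        intro hx
        apply Submodule.subset_span
        simp only [S, List.coe_toFinset, List.mem_map, List.mem_attach, true_and, Set.mem_ofPred_eq]
        exact ⟨⟨x, hxh⟩, rfl⟩
      | zero =>
        intro hx
        have : (⟨0, hx⟩ : I) = 0 := rfl
        rw [this, map_zero]
        exact Submodule.zero_mem _
      | add x y hx1 hy1 ihx ihy =>
        intro hxy
        have hxI : x ∈ I := by rw [← hhI]; exact hx1
        have hyI : y ∈ I := by rw [← hhI]; exact hy1
        have : (⟨x + y, hxy⟩ : I) = ⟨x, hxI⟩ + ⟨y, hyI⟩ := rfl
        rw [this, map_add]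
        exact Submodule.add_mem _ (ihx hxI) (ihy hyI)
      | smul a x hx1 ihx =>
        intro hax
        have hxI : x ∈ I := by rw [← hhI]; exact hx1
        have : (⟨a • x, hax⟩ : I) = a • ⟨x, hxI⟩ := rfl
        rw [this, map_smul]
        have h2 : a • I.toCotangent ⟨x, hxI⟩ =
            (Ideal.Quotient.mk I a) • I.toCotangent ⟨x, hxI⟩ := rfl
        rw [h2]
        exact Submodule.smul_mem _ _ (ihx hxI)
    exact key x hx' hx
  have h1 : Module.finrank (R ⧸ I) I.Cotangent ≤ S.card := by
    have := finrank_span_finset_le_card (R := R ⧸ I) S
    rw [Set.finrank, hspan, finrank_top] at this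
    exact this
  omega

/-- Let R be a commutative ring and I a proper ideal of R which is generated by some Koszul-regular
sequence. A finite sequence f of generators of I is Koszul-regular if and only if f has the smallest
possible length among all finite generating sequences of I. (Properness of I is needed: the
sequences (1) and (1, 1) are both Koszul-regular and generate the unit ideal.) -/
theorem result {R : Type u} [CommRing R] {I : Ideal R} (hI : I ≠ ⊤)
    (g : List R) (hg : LCI.IsKoszulRegularSeq R g) (hgI : Ideal.ofList g = I)
    (f : List R) (hfI : Ideal.ofList f = I) :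
    LCI.IsKoszulRegularSeq R f ↔ ∀ h : List R, Ideal.ofList h = I → f.length ≤ h.length := by
  constructor
  · intro hf h hh
    exact length_le_of_koszulRegular hI f hf hfI h hh
  · intro hmin
    have h1 : f.length ≤ g.length := hmin g hgI
    have h2 : g.length ≤ f.length := length_le_of_koszulRegular hI g hg hgI f hfI
    exact Groth.Agent.Lib.Helper43.KoszulGen.koszulRegular_of_same_length g f (le_antisymm h2 h1)
      (hgI.trans hfI.symm) hg

end Groth.Agent.S18935
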