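import Groth.Statements.S9273
import Mathlib

set_option autoImplicit false
universe u
open CAlgX

namespace Groth.Agent.S9273
open TensorProduct Function

variable (A B A' : Type u) [CommRing A] [CommRing B] [CommRing A'] [Algebra A B] [Algebra A A']
  (r : ℕ) (f : Fin r → B)

/-- the trivial relations -/
def T : Submodule B (Fin r → B) :=
  Submodule.span B {v : Fin r → B | ∃ i j : Fin r, v = Pi.single i (f j) - Pi.single j (f i)}

/-- the relation map -/
noncomputable def φ : (Fin r → B) →ₗ[B] B := Fintype.linearCombination B f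

theorem φ_apply (a : Fin r → B) : φ B r f a = ∑ i, a i * f i := by
  simp [φ, Fintype.linearCombination_apply]

theorem T_le_ker : T B r f ≤ LinearMap.ker (φ B r f) := by
  classical
  rw [T, Submodule.span_le]
  rintro v ⟨i, j, rfl⟩
  rw [SetLike.mem_coe, LinearMap.mem_ker, map_sub, φ_apply, φ_apply]
  simp [Pi.single_apply, mul_comm]

theorem key_sum (z : A' ⊗[A] (Fin r → B)) :
    LinearMap.lTensor A' ((φ B r f).restrictScalars A) z =
      ∑ i, (TensorProduct.piRight A A A' (fun _ : Fin r => B) z) i * ((1 : A') ⊗ₜ[A] f i) := by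
  induction z using TensorProduct.induction_on with
  | zero => simp
  | add x y hx hy =>
    simp only [map_add, hx, hy, Pi.add_apply, add_mul, Finset.sum_add_distrib]
  | tmul a v =>
    simp only [LinearMap.lTensor_tmul, LinearMap.restrictScalars_apply, φ_apply,
      TensorProduct.piRight_apply, TensorProduct.piRightHom_tmul, TensorProduct.tmul_sum,
      Algebra.TensorProduct.tmul_mul_tmul, mul_one]

theorem piRight_mem (t : Fin r → B) (ht : t ∈ T B r f) (a : A') :
    TensorProduct.piRight A A A' (fun _ : Fin r => B) (a ⊗ₜ[A] t) ∈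
      T (A' ⊗[A] B) r (fun i => (1 : A') ⊗ₜ[A] f i) := by
  classical
  induction ht using Submodule.span_induction with
  | mem v hv =>
    obtain ⟨i, j, rfl⟩ := hv
    have : TensorProduct.piRight A A A' (fun _ : Fin r => B)
        (a ⊗ₜ[A] (Pi.single i (f j) - Pi.single j (f i))) =
        (a ⊗ₜ[A] (1 : B)) • (Pi.single i ((1 : A') ⊗ₜ[A] f j) -
          Pi.single j ((1 : A') ⊗ₜ[A] f i) : Fin r → A' ⊗[A] B) := by
      ext l
      simp only [TensorProduct.piRight_apply, TensorProduct.piRightHom_tmul, Pi.sub_apply,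
        Pi.single_apply, Pi.smul_apply, smul_eq_mul]
      split_ifs <;> simp [TensorProduct.tmul_sub, mul_sub, TensorProduct.tmul_neg]
    rw [this]
    exact Submodule.smul_mem _ _ (Submodule.subset_span ⟨i, j, rfl⟩)
  | zero => simp
  | add x y _ _ hx hy =>
    rw [TensorProduct.tmul_add, map_add]
    exact add_mem hx hy
  | smul b x _ hx =>
    have : TensorProduct.piRight A A A' (fun _ : Fin r => B) (a ⊗ₜ[A] (b • x)) =
        ((1 : A') ⊗ₜ[A] b) • TensorProduct.piRight A A A' (fun _ : Fin r => B) (a ⊗ₜ[A] x) := by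
      ext l
      simp only [TensorProduct.piRight_apply, TensorProduct.piRightHom_tmul, Pi.smul_apply,
        smul_eq_mul, Algebra.TensorProduct.tmul_mul_tmul, one_mul]
    rw [this]
    exact Submodule.smul_mem _ _ hx


theorem main (hflat : Module.Flat A (B ⧸ Ideal.span (Set.range f))) (hq : CAlgX.IsH1Regular f) :
    CAlgX.IsH1Regular (fun i => ((1 : A') ⊗ₜ[A] f i : TensorProduct A A' B)) := by
  intro a' ha'
  change a' ∈ T (A' ⊗[A] B) r (fun i => (1 : A') ⊗ₜ[A] f i)
  set J : Ideal B := Ideal.span (Set.range f) with hJ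
  set JA : Submodule A B := J.restrictScalars A with hJA
  set TA : Submodule A (Fin r → B) := (T B r f).restrictScalars A with hTA
  set Ψ := TensorProduct.piRight A A A' (fun _ : Fin r => B) with hΨ
  have hrange : ∀ a, φ B r f a ∈ J := by
    intro a
    rw [φ_apply]
    exact Ideal.sum_mem _ fun i _ => Ideal.mul_mem_left _ _ (Ideal.subset_span ⟨i, rfl⟩)
  let φ₀ : (Fin r → B) →ₗ[A] JA := ((φ B r f).restrictScalars A).codRestrict JA hrange
  have hφ₀ : JA.subtype ∘ₗ φ₀ = (φ B r f).restrictScalars A := LinearMap.subtype_comp_codRestrict _ _ _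
  have hsurj : Surjective φ₀ := by
    rintro ⟨y, hy⟩
    have hy' : y ∈ LinearMap.range (φ B r f) := by
      rw [φ, Fintype.range_linearCombination]; exact hy
    obtain ⟨a, rfl⟩ := hy'
    exact ⟨a, rfl⟩
  have hexact : Exact TA.subtype φ₀ := by
    intro a
    constructor
    · intro h0
      have h1 : φ B r f a = 0 := congrArg Subtype.val h0
      rw [φ_apply] at h1
      exact ⟨⟨a, hq a h1⟩, rfl⟩
    · rintro ⟨t, rfl⟩
      apply Subtype.ext
      exact T_le_ker B r f t.2
  have hinj : Injective (LinearMap.lTensor A' JA.subtype) :=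
    LinearMap.lTensor_injective_of_exact_of_flat (Ideal.Quotient.mkₐ A J).toLinearMap
      (Ideal.Quotient.mkₐ_surjective A J) JA.subtype Subtype.val_injective
      (by
        intro b
        constructor
        · intro hb
          exact ⟨⟨b, Ideal.Quotient.eq_zero_iff_mem.mp hb⟩, rfl⟩
        · rintro ⟨y, rfl⟩
          exact Ideal.Quotient.eq_zero_iff_mem.mpr y.2) A'
  have hall : ∀ y : A' ⊗[A] TA, Ψ (LinearMap.lTensor A' TA.subtype y) ∈
      T (A' ⊗[A] B) r (fun i => (1 : A') ⊗ₜ[A] f i) := by
    intro y
    induction y using TensorProduct.induction_on with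
    | zero => simp
    | add x y hx hy =>
      rw [map_add, map_add]
      exact add_mem hx hy
    | tmul a t =>
      rw [LinearMap.lTensor_tmul]
      exact piRight_mem A B A' r f t t.2 a
  obtain ⟨z, rfl⟩ := Ψ.surjective a'
  have h1 : LinearMap.lTensor A' ((φ B r f).restrictScalars A) z = 0 := by
    rw [key_sum]; exact ha'
  rw [← hφ₀, LinearMap.lTensor_comp, LinearMap.comp_apply] at h1
  have h2 : LinearMap.lTensor A' φ₀ z = 0 := hinj (h1.trans (map_zero _).symm)
  obtain ⟨y, rfl⟩ := (lTensor_exact A' hexact hsurj z).mp h2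
  exact hall y
end Groth.Agent.S9273

namespace Groth.Agent.S9273

/-- Let A → B and A → A' be ring maps and B' = A' ⊗_A B. If f_1, ..., f_r is an H_1-regular sequence in
B with B/(f_1, ..., f_r) flat over A, then the images of the f_i in B' form an H_1-regular sequence. -/
theorem result (A B A' : Type u) [CommRing A] [CommRing B]
    [CommRing A'] [Algebra A B] [Algebra A A'] (r : ℕ) (f : Fin r → B)
    (hflat : Module.Flat A (B ⧸ Ideal.span (Set.range f))) (hq : CAlgX.IsH1Regular f) :
    CAlgX.IsH1Regular (fun i => ((1 : A') ⊗ₜ[A] f i : TensorProduct A A' B)) := by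
  exact main A B A' r f hflat hq

end Groth.Agent.S9273
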