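import Groth.Statements.S0885
import Groth.Agent.Lib.Helper10.CosimpExtraOp
-- import your own Groth.Agent.* helpers here

set_option autoImplicit false
universe u
open CategoryTheory
open CohTop

namespace Groth.Agent.S0885

section aux
open TopologicalSpace Opposite CategoryTheory.Limits Simplicial
open Groth.Agent.Lib.Helper10

variable {X : TopCat.{u}} {ι : Type u} (U : ι → Opens X)

/-- the Čech simplicial object -/
noncomputable abbrev E : SimplicialObject (FormalCoproduct.{u} (Opens X)) :=
  (FormalCoproduct.mk _ U).cech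

/-- morphisms of formal coproducts of opens are determined by the index maps -/
lemma fc_hom_ext {K L : FormalCoproduct.{u} (Opens X)} {f g : K ⟶ L} (h : f.f = g.f) : f = g :=
  FormalCoproduct.hom_ext h (fun _ => Subsingleton.elim _ _)

lemma E_δ_f {n : ℕ} (j : Fin (n + 2)) (x : Fin (n + 2) → ι) :
    ((E U).δ j).f x = x ∘ Fin.succAbove j := rfl

variable (i₀ : ι) (hi : U i₀ = iSup U)

include hi in
lemma prod_le (n : ℕ) (x : Fin (n + 1) → ι) (k : Fin (n + 2)) :
    (∏ᶜ (U ∘ x) : Opens X) ≤ U ((Fin.cons i₀ x : Fin (n + 2) → ι) k) := by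
  refine Fin.cases ?_ (fun k' => ?_) k
  · rw [Fin.cons_zero, hi]
    exact (Pi.π (U ∘ x) 0).le.trans (le_iSup U (x 0))
  · rw [Fin.cons_succ]
    exact (Pi.π (U ∘ x) k').le

/-- the extra degeneracy data -/
noncomputable def extraD : ExtraD (E U) ((FormalCoproduct.incl (Opens X)).obj (iSup U)) where
  a := { f := fun _ => PUnit.unit
         φ := fun x => homOfLE ((Pi.π (U ∘ x) (0 : Fin 1)).le.trans (le_iSup U (x 0))) }
  s' := { f := fun _ => (fun _ => i₀)
          φ := fun _ => Pi.lift (fun _ => eqToHom hi.symm) }
  s n := { f := fun x => (Fin.cons i₀ x : Fin (n + 2) → ι)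
           φ := fun x => Pi.lift (fun k => homOfLE (prod_le U i₀ hi n x k)) }
  δ_a := fc_hom_ext rfl
  s'_a := fc_hom_ext rfl
  s_δ₀ n := fc_hom_ext (by
    funext x
    change (Fin.cons i₀ x : Fin (n + 2) → ι) ∘ Fin.succAbove 0 = x
    funext k
    simp)
  s₀_δ₁ := fc_hom_ext (by
    funext x
    change (Fin.cons i₀ x : Fin 2 → ι) ∘ Fin.succAbove 1 = fun _ => i₀
    funext k
    fin_cases k
    rfl)
  s_δ_succ n j := fc_hom_ext (by
    funext x
    change (Fin.cons i₀ x : Fin (n + 3) → ι) ∘ Fin.succAbove j.succ =
      (Fin.cons i₀ (x ∘ Fin.succAbove j) : Fin (n + 2) → ι)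
    funext k
    refine Fin.cases ?_ (fun k' => ?_) k
    · simp
    · simp)

end aux

open TopologicalSpace Opposite CategoryTheory.Limits in
/-- Let F be a presheaf of abelian groups on a topological space X and (U_i)_{i ∈ ι} a family of open
subsets with union U such that U_i = U for some index i. Then the Čech complex of F with respect to
the family (formed with all ordered tuples of indices) is homotopy equivalent to the complex
consisting of F(U) placed in degree 0. (The published statement phrases this as contractibility of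
the extended Čech complex; stated here as a homotopy equivalence with F(U) in degree zero.) -/
theorem result {X : TopCat.{u}} (F : (Opens X)ᵒᵖ ⥤ AddCommGrpCat.{u})
    {ι : Type u} (U : ι → Opens X) (i : ι) (hi : U i = iSup U) :
    Nonempty (HomotopyEquiv ((CochainComplex.single₀ AddCommGrpCat.{u}).obj (F.obj (op (iSup U))))
      ((cechComplexFunctor U).obj F)) := by
  let G := (FormalCoproduct.evalOp.{u} (Opens X) AddCommGrpCat.{u}).obj F
  let c := (extraD U i hi).coExtra G
  let e : G.obj (op ((FormalCoproduct.incl (Opens X)).obj (iSup U))) ≅ F.obj (op (iSup U)) :=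
    ((FormalCoproduct.evalOpCompInlIsoId.{u} (Opens X) AddCommGrpCat.{u}).app F).app (op (iSup U))
  exact ⟨(HomotopyEquiv.ofIso ((CochainComplex.single₀ AddCommGrpCat.{u}).mapIso e.symm)).trans
    c.homotopyEquiv⟩

end Groth.Agent.S0885
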