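import Groth.Statements.S6174
import Groth.Agent.Lib.Helper28.CechLeray
import Groth.Agent.Lib.Helper28.CechOL

set_option autoImplicit false
universe u
open CategoryTheory
open CohSite

namespace Groth.Agent.S6174

open Groth.Agent.Lib.Helper28 Opposite CategoryTheory.Limits Simplicial Abelian

section aux

variable {C : Type u} [SmallCategory C]

/-- For the trivial topology, epimorphisms of sheaves are surjective on sections. -/
lemma surjective_of_epi_bot {P Q : Sheaf (⊥ : GrothendieckTopology C) AddCommGrpCat.{u}}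
    (g : P ⟶ Q) [Epi g] (V : C) : Function.Surjective (g.hom.app (op V)) := by
  intro s
  have hls : Sheaf.IsLocallySurjective g := (Sheaf.isLocallySurjective_iff_epi' _ g).2 inferInstance
  have hcov := Presheaf.imageSieve_mem (⊥ : GrothendieckTopology C) g.hom s
  have htop : Presheaf.imageSieve g.hom s = ⊤ := by
    have : Presheaf.imageSieve g.hom s ∈ (⊥ : GrothendieckTopology C) V := hcov
    rw [GrothendieckTopology.bot_covering] at this
    exact this
  have h1 : (Presheaf.imageSieve g.hom s).arrows (𝟙 V) := by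
    rw [htop]
    trivial
  obtain ⟨t, ht⟩ := h1
  refine ⟨t, ht.trans ?_⟩
  have : Q.obj.map (𝟙 V).op = 𝟙 _ := by rw [op_id, CategoryTheory.Functor.map_id]
  rw [this]
  rfl

/-- For the trivial topology, the free sheaves on representables are projective-like. -/
lemma acyc_freeSh_bot (F : Sheaf (⊥ : GrothendieckTopology C) AddCommGrpCat.{u}) (V : C) :
    ExtAcyc.Acyc F (Cartan.freeSh (⊥ : GrothendieckTopology C) V) := by
  intro p
  refine CartanT.acyc_of_step _ (fun _ => True) ?_ p F trivial
  intro S hS _ _
  refine ⟨trivial, fun x => ?_⟩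
  have := hS.epi_g
  exact Cartan.surjective_comp (⊥ : GrothendieckTopology C) V S.g
    (surjective_of_epi_bot S.g V) x

variable [HasPullbacks C] {X : C} {ι : Type u} (Y : ι → Over X)

lemma imageSieve_le_ofArrows :
    CechL.imageSieve (Over.forget X) (CechO.cechE Y) (CechO.η (CechO.cechE Y)) ≤
      Sieve.ofArrows (fun i => (Y i).left) (fun i => (Y i).hom) := by
  rintro V f ⟨z, hz⟩
  rw [CechO.aug_eq Y ⦋0⦌ (op V) z (0 : Fin 1)] at hz
  have hf : f = CechO.base Y (CechO.key Y ⦋0⦌ (op V) z (0 : Fin 1)) :=
    (shrinkYonedaObjObjEquiv.symm.injective hz).symm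
  rw [hf]
  exact (Sieve.ofArrows _ _).downward_closed (Sieve.ofArrows_mk _ _ _) _

lemma imageSieve_eq_ofArrows :
    CechL.imageSieve (Over.forget X) (CechO.cechE Y) (CechO.η (CechO.cechE Y)) =
      Sieve.ofArrows (fun i => (Y i).left) (fun i => (Y i).hom) :=
  le_antisymm (imageSieve_le_ofArrows Y) (CechOL.ofArrows_le_imageSieve Y)

/-- The image of the augmentation is the sieve generated by the family. -/
noncomputable def rangeIso :
    (Subfunctor.range ((CechA.aug (Over.forget X) (CechO.cechE Y)
      (CechO.η (CechO.cechE Y))).hom.app (op ⦋0⦌))).toFunctor ≅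
      (Sieve.ofArrows (fun i => (Y i).left) (fun i => (Y i).hom)).functor :=
  NatIso.ofComponents (fun V => Equiv.toIso
    { toFun := fun t => ⟨shrinkYonedaObjObjEquiv t.1, by
        rw [← imageSieve_eq_ofArrows Y]
        obtain ⟨z, hz⟩ := t.2
        exact ⟨z, hz.trans (Equiv.symm_apply_apply _ _).symm⟩⟩
      invFun := fun f => ⟨shrinkYonedaObjObjEquiv.symm f.1, by
        obtain ⟨z, hz⟩ := CechOL.ofArrows_le_imageSieve Y _ f.2
        exact ⟨z, hz⟩⟩
      left_inv := fun t => Subtype.ext (Equiv.symm_apply_apply _ _)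
      right_inv := fun f => Subtype.ext (Equiv.apply_symm_apply _ _) }) (by
    intro V W k
    ext t
    apply Subtype.ext
    exact shrinkYonedaObjObjEquiv_obj_map _ _)

end aux

open CategoryTheory.Limits in

/-- C a small category with fibre products; presheaves are the sheaves for the trivial topology: for a
presheaf of abelian groups M, a family of arrows (U_i -> X) and the sieve R it generates, viewed as
a sub-presheaf of h_X, the Cech cohomology group H^q((U_i -> X), M) is isomorphic to H^q(R, M), the
q-th Ext group out of the free abelian presheaf on R. Existence of an isomorphism only (the source's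
is canonical). -/
theorem result {C : Type u} [SmallCategory C] [HasPullbacks C]
    (M : Cᵒᵖ ⥤ AddCommGrpCat.{u}) {X : C} {ι : Type u} (Y : ι → Over X) (q : ℕ) :
    Nonempty (CohCx.cechH M Y q ≅ AddCommGrpCat.of (CohCx.HK (J := (⊥ : GrothendieckTopology C))
      ⟨(Sieve.ofArrows (fun i => (Y i).left) (fun i => (Y i).hom)).functor, Presheaf.isSheaf_bot _⟩
      ⟨M, Presheaf.isSheaf_bot _⟩ q)) := by
  obtain ⟨a⟩ := CechLeray.homology_addEquiv_range (⊥ : GrothendieckTopology C)
    (CechO.sectionwiseCechLike Y) ⟨M, Presheaf.isSheaf_bot _⟩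
    (fun n i => acyc_freeSh_bot _ _) q
  obtain ⟨b⟩ := CechLeray.ext_addEquiv_of_iso
    ((presheafToSheaf (⊥ : GrothendieckTopology C) AddCommGrpCat.{u}).mapIso
      (Functor.isoWhiskerRight (rangeIso Y) AddCommGrpCat.free.{u}))
    (⟨M, Presheaf.isSheaf_bot _⟩ : Sheaf (⊥ : GrothendieckTopology C) AddCommGrpCat.{u}) q
  exact ⟨(a.trans b).toAddCommGrpIso⟩

end Groth.Agent.S6174
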