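import Groth.Statements.S6034
import Groth.Agent.S6026
import Groth.Agent.Lib.Helper42.AffDepth2
import Groth.Agent.Lib.Helper42.LocCohBasis

set_option autoImplicit false
universe u
open CategoryTheory CategoryTheory.Limits TopologicalSpace AlgebraicGeometry
open LocCohZ

namespace Groth.Agent.S6034

/-- Let X be a locally Noetherian scheme, Y a closed subset with open complement U, M a coherent
O_X-module with underlying abelian sheaf F and n a natural number. Then ℋ^i_Y(F) = 0 for all i < n
if and only if depth M_x ≥ n for every x ∈ Y. -/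
theorem result (X : Scheme.{u}) [IsLocallyNoetherian X] (U : X.Opens)
    (M : X.Modules) (hM : Coh.IsCoh M) (n : ℕ) :
    (∀ i : ℕ, i < n → IsZero ((LocCohZ.HZsh (X := X.carrier) U i).obj (Coh.toAb M))) ↔
      ∀ x : X, x ∉ (U : Set X) →
        (n : ℕ∞) ≤ LocCoh.depth (X.presheaf.stalk x) (M.presheaf.stalk x) := by
  have hB : Opens.IsBasis (X.affineOpens : Set X.Opens) := X.isBasis_affineOpens
  have hkey : ∀ V : X.Opens, IsAffineOpen V →
      ((∀ i : ℕ, i < n → Subsingleton (LocCohZ.HZ (X := X.carrier) (Coh.toAb M) i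
          (inf_le_left : V ⊓ U ≤ V))) ↔
        ∀ x : X, x ∈ V → x ∉ U →
          (n : ℕ∞) ≤ LocCoh.depth (X.presheaf.stalk x) (M.presheaf.stalk x)) := by
    intro V hV
    have h1 : (∀ i : ℕ, i < n → Subsingleton (LocCohZ.HZ (X := X.carrier) (Coh.toAb M) i
          (inf_le_left : V ⊓ U ≤ V))) ↔
        ∀ i : ℕ, i < n → Subsingleton (LocCohZ.HZM (V : Scheme.{u}) (M.restrict V.ι) i
          (V.ι ⁻¹ᵁ U)) := by
      refine forall₂_congr fun i _ => ?_
      obtain ⟨e, -⟩ := Groth.Agent.S6026.result (X := X.carrier)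
        (inf_le_left : V ⊓ U ≤ V) i
      have hW : ((Opens.map (CohCx.incl (X := X.carrier) V)).obj (V ⊓ U)) = V.ι ⁻¹ᵁ U := by
        apply Opens.ext
        ext y
        exact ⟨fun hy => hy.2, fun hy => ⟨y.2, hy⟩⟩
      have e' := e (Coh.toAb M)
      rw [hW] at e'
      exact e'.toEquiv.subsingleton_congr
    rw [h1]
    exact Groth.Agent.Lib.Helper42.AffDepth2.key M hM V hV U n
  constructor
  · intro h x hx
    obtain ⟨V, hV, hxV, -⟩ := exists_isAffineOpen_mem_and_subset (X := X) (x := x)
      (U := ⊤) trivial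
    have h2 := (Groth.Agent.Lib.Helper42.LocCohZ6.isZero_HZsh_iff (X := X.carrier) U n
      (Coh.toAb M)).1 h V
    exact (hkey V hV).1 (fun i hi => h2 i hi) x hxV hx
  · intro h
    apply Groth.Agent.Lib.Helper42.LocCohBasis.isZero_HZsh_of_basis (X := X.carrier) U
      (X.affineOpens : Set X.Opens) hB n (Coh.toAb M)
    intro V hV i hi
    exact (hkey V hV).2 (fun x _ hxU => h x hxU) i hi

end Groth.Agent.S6034
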