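import Groth.Statements.S4340
-- import your own Groth.Agent.* helpers here
import Mathlib.AlgebraicGeometry.Modules.Tilde

set_option autoImplicit false
universe u
open QCohSup

namespace Groth.Agent.S4340

open AlgebraicGeometry CategoryTheory Opposite TopologicalSpace

theorem res_res {X : Scheme.{u}} (F : X.Modules) {U V W : X.Opens} (h1 : V ≤ U) (h2 : W ≤ V)
    (s : Γ(F, U)) :
    F.presheaf.map (homOfLE h2).op (F.presheaf.map (homOfLE h1).op s) =
      F.presheaf.map (homOfLE (h2.trans h1)).op s := by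
  rw [← ConcreteCategory.comp_apply, ← Functor.map_comp]
  rfl

theorem local_kill {X : Scheme.{u}} {R : CommRingCat.{u}} (j : Spec R ⟶ X) [IsOpenImmersion j]
    (f : Γ(X, ⊤)) (F : X.Modules) [F.IsQuasicoherent] (s : Γ(F, ⊤))
    (hs : F.presheaf.map (homOfLE (le_top : X.basicOpen f ≤ ⊤)).op s = 0) :
    ∃ n : ℕ, F.presheaf.map (homOfLE (le_top : j ''ᵁ ⊤ ≤ ⊤)).op (f ^ n • s) = 0 := by
  let M := F.restrict j
  have hM : M.IsQuasicoherent := inferInstance
  have hloc := (isIso_fromTildeΓ_iff_isLocalizing M).mp inferInstance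
  let g : R := (Scheme.ΓSpecIso R).hom (j.appTop f)
  let D : (Spec R).Opens := PrimeSpectrum.basicOpen g
  have hg : IsLocalizedModule (.powers g) ((modulesSpecToSheaf.obj M).obj.map (D.leTop).op).hom :=
    hloc g
  let x : Γ(M, ⊤) := F.presheaf.map (homOfLE (le_top : j ''ᵁ ⊤ ≤ ⊤)).op s
  have hle : j ''ᵁ D ≤ X.basicOpen f := by
    have h1 : j ⁻¹ᵁ (X.basicOpen f) = D := by
      rw [Scheme.preimage_basicOpen]
      exact basicOpen_eq_of_affine' _
    rw [← h1]
    exact (Scheme.Hom.image_preimage_eq_opensRange_inf j _).le.trans inf_le_right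
  have hx : ((modulesSpecToSheaf.obj M).obj.map (D.leTop).op).hom x = 0 := by
    change F.presheaf.map (homOfLE (Scheme.Hom.image_mono j (le_top : D ≤ ⊤))).op
      (F.presheaf.map (homOfLE (le_top : j ''ᵁ ⊤ ≤ ⊤)).op s) = 0
    have h2 := res_res F (le_top : j ''ᵁ ⊤ ≤ ⊤) (Scheme.Hom.image_mono j (le_top : D ≤ ⊤)) s
    have h3 := res_res F (le_top : X.basicOpen f ≤ ⊤) hle s
    rw [h2, ← h3, hs, map_zero]
  obtain ⟨⟨_, n, rfl⟩, hn⟩ := (IsLocalizedModule.eq_zero_iff (.powers g) _).mp hx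
  refine ⟨n, ?_⟩
  rw [Scheme.Modules.map_smul, map_pow]
  have hn' : g ^ n • x = 0 := hn
  have key : X.presheaf.map (homOfLE (le_top : j ''ᵁ ⊤ ≤ ⊤)).op f =
      (j.appIso ⊤).inv ((Scheme.ΓSpecIso R).inv g) := by
    have h4 := congr($(j.app_appIso_inv ⊤) f)
    simp only [g, Iso.hom_inv_id_apply]
    exact h4.symm
  rw [key]
  have h5 : (((j.appIso ⊤).inv ((Scheme.ΓSpecIso R).inv g)) ^ n •
      (F.presheaf.map (homOfLE (le_top : j ''ᵁ ⊤ ≤ ⊤)).op s : Γ(F, j ''ᵁ ⊤)) : Γ(F, j ''ᵁ ⊤)) =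
      (g ^ n • x : Γ(M, ⊤)) := by
    rw [← map_pow, ← map_pow]
    rfl
  exact h5.trans hn'


theorem glue
    (X : Scheme.{u}) [CompactSpace X] (f : Γ(X, ⊤)) (F : X.Modules) [hF : F.IsQuasicoherent]
    (s : Γ(F, ⊤))
    (hs' : F.presheaf.map (homOfLE (le_top : X.basicOpen f ≤ ⊤)).op s = 0) :
    ∃ n : ℕ, 0 < n ∧ f ^ n • s = 0 := by
  let 𝒰 := X.affineCover.finiteSubcover
  have hoi : ∀ i, IsOpenImmersion (𝒰.f i) := fun i => 𝒰.map_prop i
  have hloc : ∀ i : 𝒰.I₀, ∃ n : ℕ,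
      F.presheaf.map (homOfLE (le_top : (𝒰.f i) ''ᵁ ⊤ ≤ ⊤)).op (f ^ n • s) = 0 :=
    fun i => @local_kill X _ (𝒰.f i) (hoi i) f F hF s hs'
  choose n hn using hloc
  let N := (∑ i, n i) + 1
  refine ⟨N, Nat.succ_pos _, ?_⟩
  refine TopCat.Sheaf.eq_of_locally_eq' ⟨F.presheaf, F.isSheaf⟩ (fun i => (𝒰.f i) ''ᵁ ⊤) ⊤
    (fun i => homOfLE le_top) ?_ _ _ (fun i => ?_)
  · rw [← 𝒰.iSup_opensRange]
    exact le_of_eq (iSup_congr fun i => (Scheme.Hom.image_top_eq_opensRange _).symm)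
  · have hN : N = (N - n i) + n i := by
      have : n i ≤ ∑ i, n i := Finset.single_le_sum (fun _ _ => Nat.zero_le _) (Finset.mem_univ i)
      omega
    change F.presheaf.map (homOfLE (le_top : (𝒰.f i) ''ᵁ ⊤ ≤ ⊤)).op (f ^ N • s) =
      F.presheaf.map (homOfLE (le_top : (𝒰.f i) ''ᵁ ⊤ ≤ ⊤)).op 0
    rw [hN, pow_add, mul_smul, Scheme.Modules.map_smul, hn i, smul_zero, map_zero]


open AlgebraicGeometry in
open CategoryTheory in
open Opposite in
/-- Case of the trivial invertible sheaf. Let X be a quasi-compact scheme, f a global section of O_X, F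
a quasi-coherent O_X-module and s a global section of F that restricts to zero on X_f. Then f^n s =
0 for some n > 0. (The published statement assumes X with Noetherian underlying space, or separated
and quasi-compact; for this part only quasi-compactness is used.) -/
theorem result
    (X : Scheme.{u}) [CompactSpace X] (f : Γ(X, ⊤)) (F : X.Modules) [Coh.IsQCoh F]
    (s : F.val.obj (op ⊤))
    (hs : (F.val.map (homOfLE (le_top : X.basicOpen f ≤ ⊤)).op).hom s = 0) :
    ∃ n : ℕ, 0 < n ∧ (show X.ringCatSheaf.obj.obj (op ⊤) from f) ^ n • s = 0 := by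
  have hF : F.IsQuasicoherent := ‹_›
  exact glue X f F s hs

end Groth.Agent.S4340
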