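import Groth.Statements.S3021
import Groth.Agent.Lib.Helper10.ComodRing
-- import your own Groth.Agent.* helpers here

set_option autoImplicit false
universe u
open CategoryTheory MonoidalCategory CartesianMonoidalCategory MonObj GrpObj AlgebraicGeometry TensorProduct
open SGA3

namespace Groth.Agent.S3021
open Groth.Agent.Lib.Helper10.ComodRing

/-- Let A be a commutative ring, C an A-coalgebra which is projective as an A-module, V a C-comodule and
M an A-submodule of V. Then there is a smallest subcomodule of V containing M, and it is finitely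
generated over A when M is. -/
theorem result (A : Type u) [CommRing A] (C : Type u) [AddCommGroup C] [Module A C]
    [Coalgebra A C] [Module.Projective A C] (V : Type u) [AddCommGroup V] [Module A V] [HopfRep.Comod A C V]
    (M : Submodule A V) :
    ∃ W : Submodule A V, HopfRep.IsSubcomod (k := A) (A := C) W ∧ M ≤ W ∧
      (∀ W' : Submodule A V, HopfRep.IsSubcomod (k := A) (A := C) W' → M ≤ W' → W ≤ W') ∧
      (M.FG → W.FG) := by
  classical
  let c : HopfRep.Comod A C V := inferInstance
  -- the generating set: all slices of coactions of elements of `M`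
  let S : Set V := {v | ∃ m ∈ M, ∃ g : C →ₗ[A] A, v = slice V g (c.coact m)}
  have hSW : ∀ m ∈ M, ∀ g : C →ₗ[A] A, slice V g (c.coact m) ∈ Submodule.span A S :=
    fun m hm g => Submodule.subset_span ⟨m, hm, g, rfl⟩
  refine ⟨Submodule.span A S, ?_, ?_, ?_, ?_⟩
  · -- subcomodule
    intro w hw
    induction hw using Submodule.span_induction with
    | mem w hw =>
      obtain ⟨m, hm, f, rfl⟩ := hw
      apply mem_range_of_slice_mem
      intro g
      rw [slice_coact_slice]
      exact hSW m hm _
    | zero => rw [map_zero]; exact Submodule.zero_mem _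
    | add x y _ _ hx hy => rw [map_add]; exact Submodule.add_mem _ hx hy
    | smul a x _ hx => rw [map_smul]; exact Submodule.smul_mem _ a hx
  · intro m hm
    have := hSW m hm (CoalgebraStruct.counit (R := A) (A := C))
    rwa [slice_counit_coact] at this
  · intro W' hW' hMW'
    rw [Submodule.span_le]
    rintro _ ⟨m, hm, g, rfl⟩
    exact slice_mem_of_mem_range W' _ (hW' m (hMW' hm)) g
  · intro hM
    obtain ⟨t, ht⟩ := hM
    -- finite set of slices for each generator
    have hex : ∀ m : V, ∃ F : Finset V, (∀ v ∈ F, ∃ g : C →ₗ[A] A, v = slice V g (c.coact m)) ∧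
        ∀ g : C →ₗ[A] A, slice V g (c.coact m) ∈ Submodule.span A (F : Set V) := by
      intro m
      obtain ⟨J, F, g, b, hy⟩ := exists_finset_slices (c.coact m)
      refine ⟨F.image (fun i => slice V (g i) (c.coact m)), ?_, ?_⟩
      · intro v hv
        obtain ⟨i, _, rfl⟩ := Finset.mem_image.1 hv
        exact ⟨g i, rfl⟩
      · intro g'
        rw [hy, map_sum]
        refine Submodule.sum_mem _ (fun i hi => ?_)
        rw [slice_tmul]
        refine Submodule.smul_mem _ _ (Submodule.subset_span ?_)
        rw [← hy]
        exact Finset.mem_coe.2 (Finset.mem_image.2 ⟨i, hi, rfl⟩)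
    choose Fm hFm1 hFm2 using hex
    refine ⟨t.biUnion Fm, le_antisymm ?_ ?_⟩
    · rw [Submodule.span_le]
      intro v hv
      obtain ⟨m, hm, hvm⟩ := Finset.mem_biUnion.1 (Finset.mem_coe.1 hv)
      obtain ⟨g, rfl⟩ := hFm1 m v hvm
      exact hSW m (ht ▸ Submodule.subset_span hm) g
    · rw [Submodule.span_le]
      rintro _ ⟨m, hm, g, rfl⟩
      rw [← ht] at hm
      induction hm using Submodule.span_induction with
      | mem x hx =>
        refine Submodule.span_mono ?_ (hFm2 x g)
        intro v hv
        exact Finset.mem_coe.2 (Finset.mem_biUnion.2 ⟨x, hx, hv⟩)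
      | zero => simp
      | add x y _ _ hx hy => rw [map_add, map_add]; exact Submodule.add_mem _ hx hy
      | smul a x _ hx => rw [map_smul, map_smul]; exact Submodule.smul_mem _ a hx

end Groth.Agent.S3021
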