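import Groth.Statements.S13602
import Mathlib.AlgebraicGeometry.ResidueField
import Mathlib.AlgebraicGeometry.Limits
import Mathlib.RingTheory.Ideal.Operations

set_option autoImplicit false
universe u
open CategoryTheory AlgebraicGeometry
open SymProd

namespace Groth.Agent.S13602

section aux

open CategoryTheory.Limits

/-- finitely many points of an affine open lying in an open set lie in a basic open inside it -/
theorem exists_basicOpen_finset {X : Scheme.{u}} {U : X.Opens} (hU : IsAffineOpen U) (O : X.Opens)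
    (T : Finset U) (hT : ∀ x ∈ T, x.1 ∈ O) :
    ∃ h : Γ(X, U), X.basicOpen h ≤ O ∧ ∀ x ∈ T, x.1 ∈ X.basicOpen h := by
  classical
  rcases T.eq_empty_or_nonempty with rfl | ⟨a, haT⟩
  · refine ⟨0, ?_, by simp⟩
    rw [Scheme.basicOpen_zero]
    exact bot_le
  let I : Ideal Γ(X, U) := ⨅ (z : U) (_ : z.1 ∉ O), RingHom.ker (X.evaluation U z.1 z.2).hom
  have hev : ∀ (z : U) (h : Γ(X, U)), (X.evaluation U z.1 z.2).hom h = 0 ↔ z.1 ∉ X.basicOpen h :=
    fun z h => Scheme.evaluation_eq_zero_iff_notMem_basicOpen X z.1 z.2 h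
  have hI : ∀ h, h ∈ I ↔ X.basicOpen h ≤ O := by
    intro h
    simp only [I, Ideal.mem_iInf, RingHom.mem_ker]
    constructor
    · intro H z hz
      by_contra hzO
      have := H ⟨z, X.basicOpen_le h hz⟩ hzO
      rw [hev] at this
      exact this hz
    · intro H z hzO
      rw [hev]
      exact fun hz => hzO (H hz)
  by_contra hcon
  push Not at hcon
  have hsub : (I : Set Γ(X, U)) ⊆
      ⋃ x ∈ (T : Set U), (RingHom.ker (X.evaluation U x.1 x.2).hom : Set Γ(X, U)) := by
    intro h hh
    obtain ⟨x, hxT, hx⟩ := hcon h ((hI h).mp hh)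
    simp only [Set.mem_iUnion]
    refine ⟨x, hxT, ?_⟩
    change h ∈ RingHom.ker (X.evaluation U x.1 x.2).hom
    rw [RingHom.mem_ker, hev]
    exact hx
  obtain ⟨x, hxT, hx⟩ := (Ideal.subset_union_prime
    (f := fun x : U => RingHom.ker (X.evaluation U x.1 x.2).hom) a a
    (fun x _ _ _ => RingHom.ker_isPrime _)).mp hsub
  obtain ⟨h, hh1, hh2⟩ := hU.exists_basicOpen_le (V := O) ⟨x.1, hT x hxT⟩ x.2
  have := hx ((hI h).mpr hh1)
  rw [RingHom.mem_ker, hev] at this
  exact this hh2

/-- the fibre power of an affine open over an affine open is an affine open of the fibre power -/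
theorem isAffineOpen_fibPow {X S : Scheme.{u}} (f : X ⟶ S) (d : ℕ) (V : S.Opens)
    (hV : IsAffineOpen V) (U' : X.Opens) (hU' : IsAffineOpen U') (hle : U' ≤ f ⁻¹ᵁ V)
    (W : (SymProd.fibPow f d).Opens)
    (hW : ∀ y, y ∈ W ↔ (WidePullback.base (fun _ : Fin d => f)).base y ∈ V ∧
      ∀ i, (WidePullback.π (fun _ : Fin d => f) i).base y ∈ U') :
    IsAffineOpen W := by
  let f' : U'.toScheme ⟶ V.toScheme := f.resLE V U' hle
  have hf' : f' ≫ V.ι = U'.ι ≫ f := Scheme.Hom.resLE_comp_ι f hle
  let P' : Scheme.{u} := widePullback V.toScheme (fun _ : Fin d => U'.toScheme) (fun _ => f')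
  have hP' : IsAffine P' := by
    have : ∀ j, IsAffine ((WidePullbackShape.wideCospan V.toScheme
        (fun _ : Fin d => U'.toScheme) (fun _ => f')).obj j) := by
      rintro (_ | i)
      · exact hV
      · exact hU'
    exact Scheme.isAffine_of_isLimit (limit.cone _) (limit.isLimit _)
  let j : P' ⟶ SymProd.fibPow f d :=
    WidePullback.lift (WidePullback.base (fun _ : Fin d => f') ≫ V.ι)
      (fun i => WidePullback.π (fun _ : Fin d => f') i ≫ U'.ι) (by
        intro i
        rw [Category.assoc, ← hf', ← Category.assoc, WidePullback.π_arrow])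
  have hjπ : ∀ i, j ≫ WidePullback.π (fun _ : Fin d => f) i =
      WidePullback.π (fun _ : Fin d => f') i ≫ U'.ι := fun i => WidePullback.lift_π _ _ _ _ i
  have hjb : j ≫ WidePullback.base (fun _ : Fin d => f) =
      WidePullback.base (fun _ : Fin d => f') ≫ V.ι := WidePullback.lift_base _ _ _ _
  have hrange : Set.range j.base ⊆ Set.range W.ι.base := by
    rintro _ ⟨y, rfl⟩
    rw [Scheme.Opens.range_ι]
    change j.base y ∈ W
    rw [hW]
    constructor
    · rw [← Scheme.Hom.comp_apply, hjb, Scheme.Hom.comp_apply]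
      have := Set.mem_range_self (f := V.ι.base) ((WidePullback.base fun _ : Fin d => f').base y)
      rwa [Scheme.Opens.range_ι] at this
    · intro i
      rw [← Scheme.Hom.comp_apply, hjπ, Scheme.Hom.comp_apply]
      have := Set.mem_range_self (f := U'.ι.base)
        ((WidePullback.π (fun _ : Fin d => f') i).base y)
      rwa [Scheme.Opens.range_ι] at this
  let j' : P' ⟶ W.toScheme := IsOpenImmersion.lift W.ι j hrange
  have hj' : j' ≫ W.ι = j := IsOpenImmersion.lift_fac _ _ _
  have hWb : Set.range (W.ι ≫ WidePullback.base (fun _ : Fin d => f)).base ⊆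
      Set.range V.ι.base := by
    rintro _ ⟨y, rfl⟩
    rw [Scheme.Opens.range_ι, Scheme.Hom.comp_apply]
    have hy : W.ι.base y ∈ W := by
      have := Set.mem_range_self (f := W.ι.base) y
      rwa [Scheme.Opens.range_ι] at this
    exact ((hW _).mp hy).1
  have hWπ : ∀ i, Set.range (W.ι ≫ WidePullback.π (fun _ : Fin d => f) i).base ⊆
      Set.range U'.ι.base := by
    intro i
    rintro _ ⟨y, rfl⟩
    rw [Scheme.Opens.range_ι, Scheme.Hom.comp_apply]
    have hy : W.ι.base y ∈ W := by
      have := Set.mem_range_self (f := W.ι.base) y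
      rwa [Scheme.Opens.range_ι] at this
    exact ((hW _).mp hy).2 i
  let lb : W.toScheme ⟶ V.toScheme := IsOpenImmersion.lift V.ι _ hWb
  have hlb : lb ≫ V.ι = W.ι ≫ WidePullback.base (fun _ : Fin d => f) :=
    IsOpenImmersion.lift_fac _ _ _
  let lπ : ∀ i : Fin d, W.toScheme ⟶ U'.toScheme := fun i => IsOpenImmersion.lift U'.ι _ (hWπ i)
  have hlπ : ∀ i, lπ i ≫ U'.ι = W.ι ≫ WidePullback.π (fun _ : Fin d => f) i :=
    fun i => IsOpenImmersion.lift_fac _ _ _
  let k : W.toScheme ⟶ P' := WidePullback.lift lb lπ (by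
    intro i
    rw [← cancel_mono V.ι, Category.assoc, hf', ← Category.assoc, hlπ, Category.assoc,
      WidePullback.π_arrow, hlb])
  have hkπ : ∀ i, k ≫ WidePullback.π (fun _ : Fin d => f') i = lπ i :=
    fun i => WidePullback.lift_π _ _ _ _ i
  have hkb : k ≫ WidePullback.base (fun _ : Fin d => f') = lb := WidePullback.lift_base _ _ _ _
  have hkj : k ≫ j = W.ι := by
    apply WidePullback.hom_ext
    · intro i
      rw [Category.assoc, hjπ, ← Category.assoc, hkπ, hlπ]
    · rw [Category.assoc, hjb, ← Category.assoc, hkb, hlb]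
  have h1 : k ≫ j' = 𝟙 _ := by
    rw [← cancel_mono W.ι, Category.assoc, hj', hkj, Category.id_comp]
  have h2 : j' ≫ k = 𝟙 _ := by
    apply WidePullback.hom_ext
    · intro i
      rw [Category.assoc, hkπ, Category.id_comp, ← cancel_mono U'.ι, Category.assoc, hlπ,
        ← Category.assoc, hj', hjπ]
    · rw [Category.assoc, hkb, Category.id_comp, ← cancel_mono V.ι, Category.assoc, hlb,
        ← Category.assoc, hj', hjb]
  have : IsIso k := ⟨j', h1, h2⟩
  exact IsAffine.of_isIso k

end aux

/-- Let f : X ⟶ S be a morphism of schemes satisfying (AF): every finite set of points of X over a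
single point of S lies in an affine open of X. Then for every d ≥ 0 and every point x of the d-fold
fibre power X ×_S ⋯ ×_S X, some affine open of the fibre power contains the whole orbit of x under
the symmetric group on d letters permuting the factors. (With the existence of a quotient by a
finite group whose orbits lie in affine opens, this is the existence of the symmetric power
Sym^d(X/S) for X/S satisfying (AF).) -/
theorem result {X S : Scheme.{u}} (f : X ⟶ S) (hAF : SymProd.IsAF f)
    (d : ℕ) (x : ↥(SymProd.fibPow f d)) :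
    ∃ U : (SymProd.fibPow f d).Opens, IsAffineOpen U ∧
      ∀ σ : Equiv.Perm (Fin d), (SymProd.permHom f d σ).base x ∈ U := by
  classical
  have hπb : ∀ i, Limits.WidePullback.π (fun _ : Fin d => f) i ≫ f =
      Limits.WidePullback.base (fun _ : Fin d => f) := fun i => Limits.WidePullback.π_arrow _ i
  let s := (Limits.WidePullback.base (fun _ : Fin d => f)).base x
  let T : Finset X := Finset.univ.image (fun i => (Limits.WidePullback.π (fun _ : Fin d => f) i).base x)
  obtain ⟨U, hU, hTU⟩ := hAF s T (by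
    intro y hy
    obtain ⟨i, -, rfl⟩ := Finset.mem_image.mp hy
    rw [← Scheme.Hom.comp_apply, hπb])
  obtain ⟨V, hV, hsV, -⟩ := exists_isAffineOpen_mem_and_subset (X := S) (x := s) (U := ⊤) trivial
  have hxU : ∀ i, (Limits.WidePullback.π (fun _ : Fin d => f) i).base x ∈ U := fun i =>
    hTU _ (Finset.mem_image.mpr ⟨i, Finset.mem_univ _, rfl⟩)
  let T' : Finset U := Finset.univ.image
    (fun i => (⟨(Limits.WidePullback.π (fun _ : Fin d => f) i).base x, hxU i⟩ : U))
  obtain ⟨h, hh1, hh2⟩ := exists_basicOpen_finset hU (f ⁻¹ᵁ V) T' (by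
    intro y hy
    obtain ⟨i, -, rfl⟩ := Finset.mem_image.mp hy
    change f.base ((Limits.WidePullback.π (fun _ : Fin d => f) i).base x) ∈ V
    rw [← Scheme.Hom.comp_apply, hπb]
    exact hsV)
  have hxU' : ∀ i, (Limits.WidePullback.π (fun _ : Fin d => f) i).base x ∈ X.basicOpen h := fun i =>
    hh2 _ (Finset.mem_image.mpr ⟨i, Finset.mem_univ _, rfl⟩)
  let W : (SymProd.fibPow f d).Opens :=
    (Limits.WidePullback.base (fun _ : Fin d => f)) ⁻¹ᵁ V ⊓
      ⨅ i : Fin d, (Limits.WidePullback.π (fun _ : Fin d => f) i) ⁻¹ᵁ (X.basicOpen h)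
  have hW : ∀ y, y ∈ W ↔ (Limits.WidePullback.base (fun _ : Fin d => f)).base y ∈ V ∧
      ∀ i, (Limits.WidePullback.π (fun _ : Fin d => f) i).base y ∈ X.basicOpen h := by
    intro y
    change y ∈ ((Limits.WidePullback.base (fun _ : Fin d => f)) ⁻¹ᵁ V : Set _) ∩
      ((⨅ i : Fin d, (Limits.WidePullback.π (fun _ : Fin d => f) i) ⁻¹ᵁ (X.basicOpen h) :
        (SymProd.fibPow f d).Opens) : Set _) ↔ _
    rw [TopologicalSpace.Opens.coe_iInf, Set.mem_inter_iff, Set.mem_iInter]
    rfl
  refine ⟨W, isAffineOpen_fibPow f d V hV (X.basicOpen h) (hU.basicOpen h) hh1 W hW, ?_⟩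
  intro σ
  rw [hW]
  constructor
  · rw [← Scheme.Hom.comp_apply, SymProd.permHom_base]
    exact hsV
  · intro i
    rw [← Scheme.Hom.comp_apply, SymProd.permHom_π]
    exact hxU' _

end Groth.Agent.S13602
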