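import Groth.Statements.S14671
import Mathlib
import Groth.Agent.Lib.Helper86.LazardElt
import Groth.Agent.Lib.Helper86.TPowColim
import Groth.Agent.Lib.Helper86.TSFree

set_option autoImplicit false
universe u
open scoped TensorProduct
open SymTen

namespace Groth.Agent.S14671

open scoped TensorProduct
open Groth.Agent.Lib.Helper86 Groth.Agent.Lib.Helper86.TPowColim Groth.Agent.Lib.Helper86.TSFree

variable {R : Type u} [CommRing R] {P Q : Type u} [AddCommGroup P] [Module R P]
  [AddCommGroup Q] [Module R Q] (n : ℕ)

/-- the map induced on symmetric tensors -/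
noncomputable def TSmap (f : P →ₗ[R] Q) : TSsub R P n →ₗ[R] TSsub R Q n :=
  (tm R n f).restrict (fun z hz => by
    rw [mem_TSsub_iff] at hz ⊢
    intro σ
    rw [← tm_reindex, hz σ])

lemma TSmap_val (f : P →ₗ[R] Q) (z : TSsub R P n) : (TSmap n f z).1 = tm R n f z.1 := rfl

theorem flat_TS (M : Type u) [AddCommGroup M] [Module R M] [Module.Flat R M] :
    Module.Flat R (TSsub R M n) := by
  classical
  obtain ⟨ι, _, _, _, Bi, _, _, hfin, hfree, tr, φ, hcomp, hsurj, hzero, hid, htrans⟩ :=
    Lazard.exists_system R M
  haveI : ∀ i, Module.Finite R (TSsub R (Bi i) n) := fun i => (free_finite_TSsub R (Bi i) n).2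
  haveI : ∀ i, Module.Free R (TSsub R (Bi i) n) := fun i => (free_finite_TSsub R (Bi i) n).1
  refine Lazard.flat_of_system (fun i => TSsub R (Bi i) n) (fun i j h => TSmap n (tr i j h))
    (fun i => TSmap n (φ i)) ?_ ?_ ?_
  · intro i j h
    ext z : 1
    apply Subtype.ext
    change tm R n (φ j) (tm R n (tr i j h) z.1) = tm R n (φ i) z.1
    rw [tm_comp_apply, hcomp]
  · intro b
    obtain ⟨i, y, hysym, hy⟩ := sym_exists_of Bi tr φ hcomp hsurj hzero hid htrans n b.1
      ((mem_TSsub_iff _).mp b.2)
    exact ⟨i, ⟨y, (mem_TSsub_iff _).mpr hysym⟩, Subtype.ext hy⟩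
  · intro i x hx
    have h0 : tm R n (φ i) x.1 = 0 := congrArg Subtype.val hx
    obtain ⟨j, h, hj⟩ := tm_zero_exact Bi tr φ hcomp hsurj hzero hid htrans n i x.1 h0
    exact ⟨j, h, Subtype.ext hj⟩

/-- Let R be a commutative ring, M a flat R-module and n ≥ 0. Then the module of symmetric tensors of
degree n — the R-submodule of the n-fold tensor power of M over R consisting of the tensors fixed by
every permutation of the factors — is a flat R-module. (The published corollary also asserts that
forming symmetric tensors of a flat module commutes with every base change; only the flatness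
assertion is stated here.) -/
theorem result (R : Type u) [CommRing R] (M : Type u) [AddCommGroup M] [Module R M]
    [Module.Flat R M] (n : ℕ) :
    Module.Flat R ↥(⨅ σ : Equiv.Perm (Fin n),
      LinearMap.eqLocus (PiTensorProduct.reindex R (fun _ : Fin n => M) σ).toLinearMap LinearMap.id) := by
  exact flat_TS n M

end Groth.Agent.S14671
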