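import Groth.Statements.S3824
import Mathlib.LinearAlgebra.Matrix.NonsingularInverse
import Mathlib.RingTheory.MvPolynomial.Homogeneous
import Mathlib.Algebra.MvPolynomial.Monad

set_option autoImplicit false
universe u
open QReg16

namespace Groth.Agent.S3824

open MvPolynomial

section lin

variable {A B : Type u} [CommRing A] [CommRing B] {n : ℕ}

/-- the linear forms attached to a matrix -/
noncomputable def lin (U : Fin n → Fin n → A) (i : Fin n) : MvPolynomial (Fin n) A :=
  ∑ j, C (U i j) * X j

lemma lin_isHomogeneous (U : Fin n → Fin n → A) (i : Fin n) : (lin U i).IsHomogeneous 1 :=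
  IsHomogeneous.sum _ _ _ (fun j _ => isHomogeneous_C_mul_X _ _)

lemma eval_lin (U : Fin n → Fin n → A) (f : Fin n → A) (i : Fin n) :
    eval f (lin U i) = ∑ j, U i j * f j := by
  simp [lin]

lemma map_lin (φ : A →+* B) (U : Fin n → Fin n → A) (i : Fin n) :
    map φ (lin U i) = lin (fun i j => φ (U i j)) i := by
  simp [lin]

lemma coeff_lin (U : Fin n → Fin n → A) (i k : Fin n) :
    coeff (Finsupp.single k 1) (lin U i) = U i k := by
  classical
  simp only [lin, coeff_sum, coeff_C_mul, coeff_X, Finsupp.single_left_inj one_ne_zero]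
  simp

lemma bind₁_lin_lin (U V : Fin n → Fin n → A) (i : Fin n) :
    bind₁ (lin V) (lin U i) = lin (fun i k => ∑ j, U i j * V j k) i := by
  simp only [lin, map_sum, map_mul, bind₁_X_right, bind₁_C_right, Finset.mul_sum]
  rw [Finset.sum_comm]
  refine Finset.sum_congr rfl fun k _ => ?_
  rw [Finset.sum_mul]
  refine Finset.sum_congr rfl fun j _ => ?_
  rw [mul_assoc]

lemma lin_one (i : Fin n) :
    lin (fun i j => if i = j then (1 : A) else 0) i = X i := by
  classical
  simp [lin]

end lin

/-- Let f_1, …, f_n be a quasi-regular sequence in a ring A and f'_1, …, f'_n another sequence of the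
same length generating the same ideal. Then (f'_i) is quasi-regular. -/
theorem result {A : Type u} [CommRing A] {n : ℕ} (f f' : Fin n → A)
    (hf : CAlgX.IsQuasiRegular f) (h : Ideal.span (Set.range f') = Ideal.span (Set.range f)) :
    CAlgX.IsQuasiRegular f' := by
  classical
  have hU : ∀ i, ∃ c : Fin n → A, ∑ j, c j * f j = f' i := fun i =>
    Ideal.mem_span_range_iff_exists_fun.1 (h ▸ Ideal.subset_span (Set.mem_range_self i))
  have hV : ∀ i, ∃ c : Fin n → A, ∑ j, c j * f' j = f i := fun i =>
    Ideal.mem_span_range_iff_exists_fun.1 (h.symm ▸ Ideal.subset_span (Set.mem_range_self i))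
  choose U hU using hU
  choose V hV using hV
  -- `V U ≡ 1` modulo `J`
  have hVU : ∀ i k, (∑ j, V i j * U j k) - (if i = k then 1 else 0) ∈
      Ideal.span (Set.range f) := by
    intro i k
    have hP : (lin (fun i k => (∑ j, V i j * U j k) - (if i = k then 1 else 0)) i).IsHomogeneous 1 :=
      lin_isHomogeneous _ _
    have hev : eval f (lin (fun i k => (∑ j, V i j * U j k) - (if i = k then 1 else 0)) i) = 0 := by
      rw [eval_lin]
      simp only [sub_mul, Finset.sum_sub_distrib, ite_mul, one_mul, zero_mul,
        Finset.sum_ite_eq, Finset.mem_univ, if_true]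
      rw [sub_eq_zero]
      conv_rhs => rw [← hV i]
      simp only [← hU, Finset.mul_sum, Finset.sum_mul]
      rw [Finset.sum_comm]
      refine Finset.sum_congr rfl fun j _ => Finset.sum_congr rfl fun k _ => ?_
      ring
    have h1 := hf 1 _ hP (by rw [hev]; exact zero_mem _) (Finsupp.single k 1)
    rwa [coeff_lin] at h1
  -- matrices over the quotient
  let π := Ideal.Quotient.mk (Ideal.span (Set.range f))
  let Ub : Matrix (Fin n) (Fin n) (A ⧸ Ideal.span (Set.range f)) := Matrix.of fun i j => π (U i j)
  let Vb : Matrix (Fin n) (Fin n) (A ⧸ Ideal.span (Set.range f)) := Matrix.of fun i j => π (V i j)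
  have hVbUb : Vb * Ub = 1 := by
    ext i k
    rw [Matrix.mul_apply, Matrix.one_apply]
    simp only [Ub, Vb, Matrix.of_apply, ← map_mul, ← map_sum]
    have := hVU i k
    rw [← Ideal.Quotient.eq_zero_iff_mem, map_sub] at this
    rw [sub_eq_zero] at this
    rw [this]
    split_ifs <;> simp
  have hUbVb : Ub * Vb = 1 := mul_eq_one_comm.1 hVbUb
  have hUV : ∀ i k, (∑ j, π (U i j) * π (V j k)) = if i = k then 1 else 0 := by
    intro i k
    have := congrFun (congrFun hUbVb i) k
    rw [Matrix.mul_apply, Matrix.one_apply] at this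
    exact this
  intro m P' hP' hev' d
  rw [h] at hev' ⊢
  -- substitute
  have hP : (bind₁ (lin U) P').IsHomogeneous m := by
    have := hP'.aeval (lin U) (lin_isHomogeneous U)
    rwa [one_mul] at this
  have hev : eval f (bind₁ (lin U) P') = eval f' P' := by
    have h1 := eval₂Hom_bind₁ (RingHom.id A) f (lin U) P'
    have h2 : (fun i => eval₂Hom (RingHom.id A) f (lin U i)) = f' := by
      funext i
      change eval f (lin U i) = f' i
      rw [eval_lin, hU]
    rw [h2] at h1
    exact h1
  have hcoeff := hf m _ hP (by rw [hev]; exact hev')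
  have hzero : map π (bind₁ (lin U) P') = 0 := by
    ext e
    rw [coeff_map, coeff_zero]
    exact Ideal.Quotient.eq_zero_iff_mem.2 (hcoeff e)
  rw [map_bind₁] at hzero
  have hQ : map π P' = 0 := by
    have h1 : bind₁ (fun i => bind₁ (lin fun i j => π (V i j)) (map π (lin U i))) (map π P') =
        map π P' := by
      have : (fun i => bind₁ (lin fun i j => π (V i j)) (map π (lin U i))) =
          (X : Fin n → MvPolynomial (Fin n) (A ⧸ Ideal.span (Set.range f))) := by
        funext i
        rw [map_lin, bind₁_lin_lin]
        simp only [hUV]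
        exact lin_one i
      rw [this, bind₁_X_left]
      rfl
    rw [← h1, ← bind₁_bind₁, hzero, map_zero]
  have := congrArg (coeff d) hQ
  rw [coeff_map, coeff_zero] at this
  exact Ideal.Quotient.eq_zero_iff_mem.1 this

end Groth.Agent.S3824
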