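import Groth.Statements.S12519
import Groth.Agent.Lib.Helper44.FunFldRatPlace
import Groth.Agent.Lib.Helper44.FunFldQuad

set_option autoImplicit false
open FunFld

namespace Groth.Agent.S12519

/-- Let `k` be perfect of characteristic `2`, `K` separable of degree `2` over `k(x)`, and `y ∈ K \
k(x)` with `y² + y = f(x)`. At a place `p` of `k(x)/k` where `f` has a pole of odd order there is a
unique place `P` of `K` above `p`, with `e(P|p) = 2` and `deg P = deg p` (residue degree `1`); at a
place where `f` has no pole, every place of `K` above it is unramified. The different is not stated. -/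
theorem result (k K : Type*) [Field k] [Field K] [PerfectField k] (h2 : ringChar k = 2)
    [Algebra k K] [Algebra (RatFunc k) K] [IsScalarTower k (RatFunc k) K]
    (hdeg : Module.finrank (RatFunc k) K = 2) [Algebra.IsSeparable (RatFunc k) K]
    (y : K) (hy : y ∉ Set.range (algebraMap (RatFunc k) K))
    (f : RatFunc k) (heq : y ^ 2 + y = algebraMap (RatFunc k) K f)
    (P₀ : FunFld.Place k (RatFunc k)) :
    ((P₀.ord f < 0 ∧ Odd (P₀.ord f)) → (∃! P : FunFld.Place k K, FunFld.IsOver P P₀) ∧
      ∀ P : FunFld.Place k K, FunFld.IsOver P P₀ → FunFld.IsOverWith P P₀ 2 ∧ P.deg = P₀.deg) ∧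
    (0 ≤ P₀.ord f → ∀ P : FunFld.Place k K, FunFld.IsOver P P₀ → FunFld.IsOverWith P P₀ 1) := by
  classical
  haveI : FiniteDimensional (RatFunc k) K :=
    Module.finite_of_finrank_pos (by rw [hdeg]; norm_num)
  have hK₀ := Groth.Agent.Lib.Helper44.FFExt.isFunctionField_ratFunc k
  have hspan := Groth.Agent.Lib.Helper44.FFExt.exists_add_mul_eq hdeg hy
  refine ⟨?_, ?_⟩
  · rintro ⟨hneg, hodd⟩
    have hf0 : f ≠ 0 := by
      rintro rfl
      rw [Groth.Agent.Lib.Helper88.FF.ord_zero] at hneg
      exact lt_irrefl _ hneg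
    have hf0' : algebraMap (RatFunc k) K f ≠ 0 := (map_ne_zero _).2 hf0
    have key : ∀ P : FunFld.Place k K, FunFld.IsOver P P₀ →
        FunFld.IsOverWith P P₀ 2 ∧ P.ord y = P₀.ord f := by
      intro P h
      have he := Groth.Agent.Lib.Helper44.FFExt.isOverWith_ramIdx h
      have hpos := Groth.Agent.Lib.Helper44.FFExt.ramIdx_pos h
      have hordf : P.ord (algebraMap (RatFunc k) K f) = (FunFld.ramIdx P P₀ : ℤ) * P₀.ord f :=
        Groth.Agent.Lib.Helper44.FFExt.isOverWith_ord_eq he f
      have hfneg : P.ord (algebraMap (RatFunc k) K f) < 0 := by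
        rw [hordf]
        have : (0 : ℤ) < (FunFld.ramIdx P P₀ : ℤ) := by exact_mod_cast hpos
        exact mul_neg_of_pos_of_neg this hneg
      have hfval : 1 < P.1 (algebraMap (RatFunc k) K f) :=
        (Groth.Agent.Lib.Helper88.FF.one_lt_val_iff P hf0').2 hfneg
      -- `y` has a pole at `P`
      have hyval : 1 < P.1 y := by
        by_contra hcon
        push Not at hcon
        have : P.1 (y ^ 2 + y) ≤ 1 := by
          refine (P.1.map_add _ _).trans (max_le ?_ hcon)
          rw [map_pow]
          exact pow_le_one' hcon 2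
        rw [heq] at this
        exact absurd this (not_le.2 hfval)
      have hy0 : y ≠ 0 := by
        rintro rfl
        rw [map_zero] at hyval
        exact absurd hyval (by simp)
      have hlt : P.1 y < P.1 (y ^ 2) := by
        rw [map_pow, pow_two]
        calc P.1 y = 1 * P.1 y := (one_mul _).symm
          _ < P.1 y * P.1 y := by
            apply mul_lt_mul_of_pos_right hyval
            exact lt_trans zero_lt_one hyval
      have hval : P.1 (algebraMap (RatFunc k) K f) = P.1 (y ^ 2) := by
        rw [← heq]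
        exact Valuation.map_add_eq_of_lt_left _ hlt
      have hord : P.ord (algebraMap (RatFunc k) K f) = 2 * P.ord y := by
        have : P.ord (algebraMap (RatFunc k) K f) = P.ord (y ^ 2) := by
          unfold FunFld.Place.ord
          rw [hval]
        rw [this, Groth.Agent.Lib.Helper88.FF.ord_pow]
        push_cast
        ring
      rw [hordf] at hord
      have hle := Groth.Agent.Lib.Helper44.FFExt.ramIdx_le_finrank h
      rw [hdeg] at hle
      have he2 : FunFld.ramIdx P P₀ = 2 := by
        have h12 : FunFld.ramIdx P P₀ = 1 ∨ FunFld.ramIdx P P₀ = 2 := by omega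
        rcases h12 with h1 | h1
        · exfalso
          rw [h1] at hord
          obtain ⟨m, hm⟩ := hodd
          push_cast at hord
          omega
        · exact h1
      refine ⟨?_, ?_⟩
      · rwa [he2] at he
      · rw [he2] at hord
        push_cast at hord
        omega
    have huniq : ∀ P P' : FunFld.Place k K, FunFld.IsOver P P₀ → FunFld.IsOver P' P₀ → P = P' := by
      intro P P' h h'
      obtain ⟨h1, h2'⟩ := key P h
      obtain ⟨h1', h2''⟩ := key P' h'
      exact Groth.Agent.Lib.Helper44.FFExt.eq_of_isOverWith_two_of_odd h1 h1'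
        (by rw [h2']; exact hodd) (by rw [h2', h2'']) hspan
    obtain ⟨P₁, hP₁⟩ := Groth.Agent.Lib.Helper44.FFExt.exists_isOver_above (K' := K) hK₀ P₀
    refine ⟨⟨P₁, hP₁, fun P' h' => huniq P' P₁ h' hP₁⟩, ?_⟩
    intro P h
    refine ⟨(key P h).1, ?_⟩
    have hsum := Groth.Agent.Lib.Helper44.FFExt.sum_ramIdx_mul_deg (K' := K) hK₀ P₀ {P}
      (by
        intro Q
        rw [Finset.mem_singleton]
        exact ⟨fun hQ => hQ ▸ h, fun hQ => huniq Q P hQ h⟩)
    rw [Finset.sum_singleton, hdeg,
      Groth.Agent.Lib.Helper44.FFExt.ramIdx_eq (key P h).1] at hsum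
    omega
  · intro hnonneg P h
    have hfval : P₀.1 f ≤ 1 := by
      rcases eq_or_ne f 0 with rfl | hf0
      · simp
      · exact (Groth.Agent.Lib.Helper88.FF.val_le_one_iff P₀ hf0).2 hnonneg
    haveI : CharP k 2 := ringChar.of_eq h2
    have h2k : (2 : k) = 0 := CharTwo.two_eq_zero
    have h4 : (4 : RatFunc k) = 0 := by
      have : (4 : RatFunc k) = algebraMap k (RatFunc k) (2 * 2) := by
        rw [map_mul, map_ofNat]; norm_num
      rw [this, h2k, mul_zero, map_zero]
    have hzeq : y ^ 2 - algebraMap (RatFunc k) K (-1) * y + algebraMap (RatFunc k) K (-f) = 0 := by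
      rw [map_neg, map_neg, map_one, ← heq]
      ring
    have hD : P₀.1 ((-1 : RatFunc k) ^ 2 - 4 * (-f)) = 1 := by
      rw [h4]
      simp
    have he := Groth.Agent.Lib.Helper44.FFExt.isOverWith_one_of_quadratic
      (Groth.Agent.Lib.Helper44.FFExt.isOverWith_ramIdx h) hzeq (by simp)
      (by rw [Valuation.map_neg]; exact hfval) hD hspan
    have := Groth.Agent.Lib.Helper44.FFExt.isOverWith_ramIdx h
    rwa [he] at this

end Groth.Agent.S12519
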