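import Groth.Statements.S12516
import Groth.Agent.Lib.Helper44.FunFldRatPlace
import Groth.Agent.Lib.Helper44.FunFldQuad

set_option autoImplicit false
open FunFld

namespace Groth.Agent.S12516

/-- Let `char k ≠ 2`, `K` of degree `2` over `k(x)`, `y ∈ K` with `y² = f(x)` for a squarefree
polynomial `f` of degree `≥ 1`, and `P∞` the place of `k(x)` at which `x` has a pole. If `deg f` is
odd there is a unique place of `K` above `P∞`; it has ramification index `2` and degree `1`. If `deg
f` is even, every place of `K` above `P∞` is unramified and the conorm of `P∞` has degree `2` (so it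
is one place of degree `2` or the sum of two places of degree `1`). -/
theorem result (k K : Type*) [Field k] [Field K] (h2 : ringChar k ≠ 2) [Algebra k K]
    [Algebra (RatFunc k) K] [IsScalarTower k (RatFunc k) K]
    (hdeg : Module.finrank (RatFunc k) K = 2) (y : K) (f : Polynomial k) (hf : Squarefree f)
    (hd : 1 ≤ f.natDegree)
    (heq : y ^ 2 = algebraMap (RatFunc k) K (algebraMap (Polynomial k) (RatFunc k) f))
    (Pinf : FunFld.Place k (RatFunc k)) (hinf : Pinf.ord (RatFunc.X : RatFunc k) < 0) :
    (Odd f.natDegree → (∃! P : FunFld.Place k K, FunFld.IsOver P Pinf) ∧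
      ∀ P : FunFld.Place k K, FunFld.IsOver P Pinf → FunFld.IsOverWith P Pinf 2 ∧ P.deg = 1) ∧
    (Even f.natDegree → (FunFld.conorm K (Finsupp.single Pinf 1)).deg = 2 ∧
      ∀ P : FunFld.Place k K, FunFld.IsOver P Pinf → FunFld.IsOverWith P Pinf 1) := by
  classical
  haveI : FiniteDimensional (RatFunc k) K :=
    Module.finite_of_finrank_pos (by rw [hdeg]; norm_num)
  have hK₀ := Groth.Agent.Lib.Helper44.FFExt.isFunctionField_ratFunc k
  have hf0 : f ≠ 0 := hf.ne_zero
  have hf0' : algebraMap (Polynomial k) (RatFunc k) f ≠ 0 :=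
    (map_ne_zero_iff _ (RatFunc.algebraMap_injective k)).2 hf0
  have hX1 : 1 < Pinf.1 (RatFunc.X : RatFunc k) :=
    (Groth.Agent.Lib.Helper88.FF.one_lt_val_iff Pinf RatFunc.X_ne_zero).2 hinf
  have hford : Pinf.ord (algebraMap (Polynomial k) (RatFunc k) f) = -(f.natDegree : ℤ) :=
    Groth.Agent.Lib.Helper44.FFExt.ord_poly_of_pole hinf hf0
  have hdeginf : Pinf.deg = 1 := Groth.Agent.Lib.Helper44.FFExt.deg_of_pole hinf
  have hk : ∀ P : FunFld.Place k K, FunFld.IsOver P Pinf →
      2 * P.ord y = -((FunFld.ramIdx P Pinf : ℤ) * (f.natDegree : ℤ)) := by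
    intro P h
    have : 2 * P.ord y = (FunFld.ramIdx P Pinf : ℤ) *
        Pinf.ord (algebraMap (Polynomial k) (RatFunc k) f) := by
      rw [← Groth.Agent.Lib.Helper44.FFExt.isOverWith_ord_eq
        (Groth.Agent.Lib.Helper44.FFExt.isOverWith_ramIdx h), ← heq,
        Groth.Agent.Lib.Helper88.FF.ord_pow]
      push_cast
      ring
    rw [this, hford]
    ring
  -- `y` is not in `k(X)`
  have hy : y ∉ Set.range (algebraMap (RatFunc k) K) := by
    rintro ⟨r, rfl⟩
    rw [← map_pow] at heq
    exact Groth.Agent.Lib.Helper44.FFExt.not_sq_of_squarefree hf hd r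
      ((algebraMap (RatFunc k) K).injective heq)
  have hspan := Groth.Agent.Lib.Helper44.FFExt.exists_add_mul_eq hdeg hy
  refine ⟨?_, ?_⟩
  · -- odd degree
    intro hodd
    have key : ∀ P : FunFld.Place k K, FunFld.IsOver P Pinf →
        FunFld.IsOverWith P Pinf 2 ∧ P.ord y = -(f.natDegree : ℤ) := by
      intro P h
      have hk' := hk P h
      have hle := Groth.Agent.Lib.Helper44.FFExt.ramIdx_le_finrank h
      rw [hdeg] at hle
      have hpos := Groth.Agent.Lib.Helper44.FFExt.ramIdx_pos h
      have he : FunFld.ramIdx P Pinf = 2 := by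
        have h12 : FunFld.ramIdx P Pinf = 1 ∨ FunFld.ramIdx P Pinf = 2 := by omega
        rcases h12 with h1 | h1
        · exfalso
          rw [h1] at hk'
          obtain ⟨m, hm⟩ := hodd
          rw [hm] at hk'
          push_cast at hk'
          omega
        · exact h1
      refine ⟨?_, ?_⟩
      · have := Groth.Agent.Lib.Helper44.FFExt.isOverWith_ramIdx h
        rwa [he] at this
      · rw [he] at hk'
        push_cast at hk'
        omega
    have hoddZ : Odd (-(f.natDegree : ℤ)) := by
      have : Odd (f.natDegree : ℤ) := by exact_mod_cast hodd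
      exact this.neg
    have huniq : ∀ P P' : FunFld.Place k K, FunFld.IsOver P Pinf → FunFld.IsOver P' Pinf →
        P = P' := by
      intro P P' h h'
      obtain ⟨h1, h2⟩ := key P h
      obtain ⟨h1', h2'⟩ := key P' h'
      exact Groth.Agent.Lib.Helper44.FFExt.eq_of_isOverWith_two_of_odd h1 h1'
        (by rw [h2]; exact hoddZ) (by rw [h2, h2']) hspan
    obtain ⟨P₁, hP₁⟩ := Groth.Agent.Lib.Helper44.FFExt.exists_isOver_above (K' := K) hK₀ Pinf
    refine ⟨⟨P₁, hP₁, fun P' h' => huniq P' P₁ h' hP₁⟩, ?_⟩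
    intro P h
    refine ⟨(key P h).1, ?_⟩
    have hsum := Groth.Agent.Lib.Helper44.FFExt.sum_ramIdx_mul_deg (K' := K) hK₀ Pinf {P}
      (by
        intro Q
        rw [Finset.mem_singleton]
        exact ⟨fun hQ => hQ ▸ h, fun hQ => huniq Q P hQ h⟩)
    rw [Finset.sum_singleton, hdeg,
      Groth.Agent.Lib.Helper44.FFExt.ramIdx_eq (key P h).1, hdeginf] at hsum
    omega
  · -- even degree
    intro heven
    refine ⟨?_, ?_⟩
    · rw [Groth.Agent.Lib.Helper44.FFExt.deg_conorm hK₀, hdeg,
        Groth.Agent.Lib.Helper88.FF.deg_single, hdeginf]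
      norm_num
    · intro P h
      obtain ⟨m, hm⟩ := heven
      have hx0 : (RatFunc.X : RatFunc k) ≠ 0 := RatFunc.X_ne_zero
      have hxm0 : (RatFunc.X : RatFunc k) ^ m ≠ 0 := pow_ne_zero _ hx0
      have hxm0' : algebraMap (RatFunc k) K ((RatFunc.X : RatFunc k) ^ m) ≠ 0 :=
        (map_ne_zero _).2 hxm0
      set z : K := y / algebraMap (RatFunc k) K ((RatFunc.X : RatFunc k) ^ m) with hz
      set u : RatFunc k := algebraMap (Polynomial k) (RatFunc k) f /
        ((RatFunc.X : RatFunc k) ^ m) ^ 2 with hu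
      have hzu : z ^ 2 = algebraMap (RatFunc k) K u := by
        rw [hz, hu, div_pow, heq, map_div₀, map_pow, map_pow, map_pow]
      have hzeq : z ^ 2 - algebraMap (RatFunc k) K 0 * z + algebraMap (RatFunc k) K (-u) = 0 := by
        rw [hzu, map_zero, map_neg]
        ring
      have huval : Pinf.1 u = 1 := by
        rw [hu, map_div₀, map_pow, map_pow,
          Groth.Agent.Lib.Helper44.FFExt.val_of_pole hX1 hf0',
          Groth.Agent.Lib.Helper44.FFExt.val_X_of_pole hX1, RatFunc.intDegree_polynomial, hm,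
          ← WithZero.exp_nsmul, ← WithZero.exp_nsmul, ← WithZero.exp_sub, ← WithZero.exp_zero]
        congr 1
        simp only [nsmul_eq_mul]
        push_cast
        ring
      have h20 : (2 : k) ≠ 0 := Ring.two_ne_zero h2
      have h40 : (4 : k) ≠ 0 := by
        have : (4 : k) = 2 * 2 := by norm_num
        rw [this]
        exact mul_ne_zero h20 h20
      have h4val : Pinf.1 (4 : RatFunc k) = 1 := by
        have : (4 : RatFunc k) = algebraMap k (RatFunc k) 4 := (map_ofNat _ 4).symm
        rw [this]
        exact Groth.Agent.Lib.Helper88.FF.val_algebraMap Pinf h40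
      have hD : Pinf.1 ((0 : RatFunc k) ^ 2 - 4 * (-u)) = 1 := by
        have : (0 : RatFunc k) ^ 2 - 4 * (-u) = 4 * u := by ring
        rw [this, map_mul, h4val, huval, one_mul]
      have hspan' : ∀ w : K, ∃ a b : RatFunc k,
          w = algebraMap (RatFunc k) K a + algebraMap (RatFunc k) K b * z := by
        intro w
        obtain ⟨a, b, hab⟩ := hspan w
        refine ⟨a, b * (RatFunc.X : RatFunc k) ^ m, ?_⟩
        rw [hab, hz, map_mul]
        field_simp
      have he := Groth.Agent.Lib.Helper44.FFExt.isOverWith_one_of_quadratic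
        (Groth.Agent.Lib.Helper44.FFExt.isOverWith_ramIdx h) hzeq (by simp)
        (by rw [Valuation.map_neg, huval]) hD hspan'
      have := Groth.Agent.Lib.Helper44.FFExt.isOverWith_ramIdx h
      rwa [he] at this

end Groth.Agent.S12516
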