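import Groth.Statements.S11044
import Groth.Agent.Lib.Helper91.FunFldAC

set_option autoImplicit false
open FunFld

namespace Groth.Agent.S11044

/-- Over an algebraically closed constant field, if the genus `g` is positive and `D` has degree at
least `2g` or is canonical, then `ℓ(D - P) < ℓ(D)` for every place `P`; that is, `D` is the divisor
of the projective map given by `L(D)`. -/
theorem result
    (k K : Type*) [Field k] [IsAlgClosed k] [Field K] [Algebra k K]
    (hK : FunFld.IsFunctionField k K) (hg : 0 < FunFld.genus k K)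
    (D : FunFld.Divisor k K)
    (hD : 2 * (FunFld.genus k K : ℤ) ≤ D.deg ∨ FunFld.IsCanonical k K D) (P : FunFld.Place k K) :
    FunFld.ell (D - Finsupp.single P 1) < FunFld.ell D := by
  have hP := Groth.Agent.Lib.Helper91.FunFldAC.deg_eq_one hK P
  have hdegsub : (D - Finsupp.single P 1).deg = D.deg - 1 := by
    rw [Groth.Agent.Lib.Helper88.FF.deg_sub, Groth.Agent.Lib.Helper88.FF.deg_single, hP]
    simp
  rcases hD with h | hC
  · have h1 := Groth.Agent.Lib.Helper91.FunFldAC.ell_eq_of_le_deg hK D (by omega)
    have h2 := Groth.Agent.Lib.Helper91.FunFldAC.ell_eq_of_le_deg hK (D - Finsupp.single P 1)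
      (by rw [hdegsub]; omega)
    rw [hdegsub] at h2
    have : (FunFld.ell (D - Finsupp.single P 1) : ℤ) < FunFld.ell D := by rw [h1, h2]; omega
    exact_mod_cast this
  · obtain ⟨hl, hd⟩ := (Groth.Agent.Lib.Helper88.FF.isCanonical_iff hK D).1 hC
    have hrr := Groth.Agent.Lib.Helper88.FF.riemann_roch hK hC (D - Finsupp.single P 1)
    rw [sub_sub_cancel, hdegsub, hd] at hrr
    have hle : FunFld.ell (Finsupp.single P (1 : ℤ)) ≤ 1 := by
      by_contra hcon
      have := Groth.Agent.Lib.Helper91.FunFldAC.genus_eq_zero_of_two_le_ell_single hK P hP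
        (by omega)
      omega
    have hle' : (FunFld.ell (Finsupp.single P (1 : ℤ)) : ℤ) ≤ 1 := by exact_mod_cast hle
    have : (FunFld.ell (D - Finsupp.single P 1) : ℤ) < FunFld.ell D := by
      rw [hl]
      linarith
    exact_mod_cast this

end Groth.Agent.S11044
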