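import Groth.Statements.S11045
-- import your own Groth.Agent.* helpers here

set_option autoImplicit false
open FunFld

namespace Groth.Agent.S11045


variable {k K : Type*} [Field k] [Field K] [Algebra k K]

/-- discreteness of the value group -/
theorem eq_exp_of_le_of_not_le {x : WithZero (Multiplicative ℤ)} {a : ℤ}
    (h1 : x ≤ WithZero.exp a) (h2 : ¬ x ≤ WithZero.exp (a - 1)) : x = WithZero.exp a := by
  have hx : x ≠ 0 := by
    rintro rfl
    exact h2 zero_le'
  rw [← WithZero.exp_log hx] at h1 h2 ⊢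
  rw [WithZero.exp_le_exp] at h1 h2
  congr 1
  omega

/-- a function witnessing that `a` is not a gap has exact pole order `a` at `P` -/
theorem exists_exact (P : FunFld.Place k K) (a : ℤ)
    (h : FunFld.L (Finsupp.single P a) ≠ FunFld.L (Finsupp.single P (a - 1))) :
    ∃ f : K, f ∈ FunFld.L (Finsupp.single P a) ∧ P.1 f = WithZero.exp a := by
  classical
  have hle : FunFld.L (Finsupp.single P (a - 1)) ≤ FunFld.L (Finsupp.single P a) := by
    intro x hx Q
    refine (hx Q).trans ?_
    rw [WithZero.exp_le_exp]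
    by_cases hQ : Q = P
    · subst hQ
      simp
    · rw [Finsupp.single_apply, Finsupp.single_apply, if_neg (Ne.symm hQ), if_neg (Ne.symm hQ)]
  have hnot : ¬ FunFld.L (Finsupp.single P a) ≤ FunFld.L (Finsupp.single P (a - 1)) :=
    fun h' => h (le_antisymm h' hle)
  obtain ⟨f, hf, hf'⟩ := SetLike.not_le_iff_exists.mp hnot
  refine ⟨f, hf, ?_⟩
  have hf'' : ¬ ∀ Q : FunFld.Place k K, Q.1 f ≤ WithZero.exp ((Finsupp.single P (a - 1)) Q) := hf'
  push Not at hf''
  obtain ⟨Q, hQ⟩ := hf''
  have hQP : Q = P := by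
    by_contra hne
    have := hf Q
    rw [Finsupp.single_apply, if_neg (Ne.symm hne)] at this hQ
    exact absurd this (not_le.mpr hQ)
  subst hQP
  have h1 := hf Q
  rw [Finsupp.single_eq_same] at h1 hQ
  exact eq_exp_of_le_of_not_le h1 (not_le.mpr hQ)

/-- non-gaps are closed under addition -/
theorem nongap_add (P : FunFld.Place k K) (a b : ℤ)
    (ha : FunFld.L (Finsupp.single P a) ≠ FunFld.L (Finsupp.single P (a - 1)))
    (hb : FunFld.L (Finsupp.single P b) ≠ FunFld.L (Finsupp.single P (b - 1))) :
    FunFld.L (Finsupp.single P (a + b)) ≠ FunFld.L (Finsupp.single P (a + b - 1)) := by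
  classical
  obtain ⟨f, hf, hfP⟩ := exists_exact P a ha
  obtain ⟨g, hg, hgP⟩ := exists_exact P b hb
  intro heq
  have hfg : f * g ∈ FunFld.L (Finsupp.single P (a + b)) := by
    intro Q
    rw [map_mul, Finsupp.single_add, Finsupp.add_apply, WithZero.exp_add]
    exact mul_le_mul' (hf Q) (hg Q)
  rw [heq] at hfg
  have h1 := hfg P
  rw [map_mul, hfP, hgP, Finsupp.single_eq_same, ← WithZero.exp_add, WithZero.exp_le_exp] at h1
  omega

/-- Over an algebraically closed constant field, if `n ≥ 1` is a gap number at the place `P` (no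
function has a pole of exact order `n` at `P` and no other pole, i.e. `L(nP) = L((n-1)P)`), then the
gap numbers at `P` make up at least half of the positive integers below `n`. -/
theorem result
    (k K : Type*) [Field k] [IsAlgClosed k] [Field K] [Algebra k K]
    (hK : FunFld.IsFunctionField k K) (P : FunFld.Place k K) (n : ℕ) (hn : 1 ≤ n)
    (hgap : FunFld.L (Finsupp.single P (n : ℤ)) = FunFld.L (Finsupp.single P ((n : ℤ) - 1))) :
    n - 1 ≤ 2 * Set.ncard {m : ℕ | 1 ≤ m ∧ m < n ∧
      FunFld.L (Finsupp.single P (m : ℤ)) = FunFld.L (Finsupp.single P ((m : ℤ) - 1))} := by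
  classical
  set S : Set ℕ := {m : ℕ | 1 ≤ m ∧ m < n ∧
      FunFld.L (Finsupp.single P (m : ℤ)) = FunFld.L (Finsupp.single P ((m : ℤ) - 1))} with hS
  set F : Finset ℕ := (Finset.Ico 1 n).filter (fun m =>
      FunFld.L (Finsupp.single P (m : ℤ)) = FunFld.L (Finsupp.single P ((m : ℤ) - 1))) with hF
  have hSF : S = (F : Set ℕ) := by
    ext m
    simp only [hS, hF, Set.mem_setOf_eq, Finset.coe_filter, Finset.mem_Ico]
    tauto
  rw [hSF, Set.ncard_coe_finset]
  have hcover : Finset.Ico 1 n ⊆ F ∪ F.image (fun m => n - m) := by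
    intro m hm
    rw [Finset.mem_Ico] at hm
    rw [Finset.mem_union]
    by_cases h1 : FunFld.L (Finsupp.single P (m : ℤ)) = FunFld.L (Finsupp.single P ((m : ℤ) - 1))
    · left
      rw [hF, Finset.mem_filter, Finset.mem_Ico]
      exact ⟨hm, h1⟩
    · right
      rw [Finset.mem_image]
      refine ⟨n - m, ?_, by omega⟩
      rw [hF, Finset.mem_filter, Finset.mem_Ico]
      refine ⟨by omega, ?_⟩
      by_contra h2
      have h3 := nongap_add P (m : ℤ) ((n - m : ℕ) : ℤ) h1 h2
      have e : (m : ℤ) + ((n - m : ℕ) : ℤ) = (n : ℤ) := by omega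
      rw [e] at h3
      exact h3 hgap
  have hcard := Finset.card_le_card hcover
  rw [Nat.card_Ico] at hcard
  have h2 : (F ∪ F.image (fun m => n - m)).card ≤ F.card + F.card :=
    (Finset.card_union_le _ _).trans (Nat.add_le_add_left Finset.card_image_le _)
  omega

end Groth.Agent.S11045
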