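import Groth.Statements.S12609
import Groth.Agent.Lib.Helper16.LocExp8
import Groth.Agent.Lib.Helper88.FunFldRR
import Groth.Agent.Lib.Helper88.FunFldApps
import Groth.Agent.Lib.Helper91.FunFldAC

set_option autoImplicit false
open FunFld

namespace Groth.Agent.S12609

/-- Over an algebraically closed constant field, let `φ` be the canonical map (a basis of `L(C)`, `C`
canonical), normalized at the place `P` after multiplication by `y ≠ 0`, and `t` a local parameter
at `P`. For `j ≥ 1`: the canonical orders at `P` include `j` exactly when `j + 1` is a gap number at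
`P`, i.e. `L((j+1)P) = L(jP)`. -/
theorem result
    (k K : Type*) [Field k] [IsAlgClosed k] [Field K] [Algebra k K]
    (hK : FunFld.IsFunctionField k K) (C : FunFld.Divisor k K) (hC : FunFld.IsCanonical k K C)
    {n : ℕ} (φ : Fin (n + 1) → K) (hφ : LinearIndependent k φ)
    (hspan : Submodule.span k (Set.range φ) = FunFld.L C)
    (P : FunFld.Place k K) (y : K) (hy : y ≠ 0)
    (heff : (1 : K) ∈ Submodule.span k (Set.range (y • φ))) (hnorm : ∀ i, P.1 (y * φ i) ≤ 1)
    (t : K) (ht : P.1 t = WithZero.exp (-1))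
    (Ht : K →ₐ[k] PowerSeries K) (hHt : LocRes.IsHasseFamily t Ht) (j : ℕ) (hj : 1 ≤ j) :
    FunFld.IsJump (IsLocalRing.ResidueField P.O) (FunFld.hcolAt P Ht (y • φ)) (j + 1) ↔
      FunFld.L (Finsupp.single P ((j : ℤ) + 1)) = FunFld.L (Finsupp.single P (j : ℤ)) := by
  classical
  have hψi : ∀ i, (y • φ) i = y * φ i := fun i => by simp
  have hnormψ : ∀ i, P.1 ((y • φ) i) ≤ 1 := fun i => by rw [hψi]; exact hnorm i
  -- the span of `y • φ` is `y · L(C)`
  have hspanψ : ∀ f, f ∈ Submodule.span k (Set.range (y • φ)) ↔ ∃ h ∈ L C, f = y * h := by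
    intro f
    constructor
    · intro hf
      obtain ⟨d, rfl⟩ := (Submodule.mem_span_range_iff_exists_fun k).mp hf
      refine ⟨∑ i, d i • φ i, ?_, ?_⟩
      · rw [← hspan]
        exact Submodule.sum_mem _ fun i _ =>
          Submodule.smul_mem _ _ (Submodule.subset_span ⟨i, rfl⟩)
      · rw [Finset.mul_sum]
        refine Finset.sum_congr rfl fun i _ => ?_
        rw [hψi, mul_smul_comm]
    · rintro ⟨h, hh, rfl⟩
      rw [← hspan] at hh
      obtain ⟨d, rfl⟩ := (Submodule.mem_span_range_iff_exists_fun k).mp hh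
      rw [Finset.mul_sum]
      refine Submodule.sum_mem _ fun i _ => ?_
      rw [mul_smul_comm, ← hψi]
      exact Submodule.smul_mem _ _ (Submodule.subset_span ⟨i, rfl⟩)
  have hintψ : ∀ f ∈ Submodule.span k (Set.range (y • φ)), P.1 f ≤ 1 := by
    intro f hf
    obtain ⟨d, rfl⟩ := (Submodule.mem_span_range_iff_exists_fun k).mp hf
    exact Groth.Agent.Lib.Helper16.LocExp.val_lincomb_le P Finset.univ d _ (fun i _ => hnormψ i)
  -- membership in `L(C - mP)`
  have hmemsub : ∀ (m : ℤ), 0 ≤ m → ∀ h ∈ L C,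
      (h ∈ L (C - Finsupp.single P m) ↔ P.1 h ≤ WithZero.exp (C P - m)) := by
    intro m hm h hh
    constructor
    · intro h1
      have : P.1 h ≤ WithZero.exp ((C - Finsupp.single P m) P) := h1 P
      rw [Finsupp.sub_apply, Finsupp.single_eq_same] at this
      exact this
    · intro h1 Q
      show Q.1 h ≤ WithZero.exp ((C - Finsupp.single P m) Q)
      rw [Finsupp.sub_apply]
      by_cases hQ : Q = P
      · subst hQ
        rw [Finsupp.single_eq_same]; exact h1
      · rw [Finsupp.single_eq_of_ne hQ, sub_zero]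
        exact hh Q
  have hsuble : ∀ (m : ℤ), 0 ≤ m → C - Finsupp.single P m ≤ C := by
    intro m hm Q
    rw [Finsupp.sub_apply]
    by_cases hQ : Q = P
    · subst hQ; rw [Finsupp.single_eq_same]; omega
    · rw [Finsupp.single_eq_of_ne hQ, sub_zero]
  have hdisc : ∀ (v : WithZero (Multiplicative ℤ)) (m : ℤ), v ≤ WithZero.exp m →
      ¬ v ≤ WithZero.exp (m - 1) → v = WithZero.exp m := by
    intro v m h1 h2
    have hv : v ≠ 0 := by
      rintro rfl
      exact h2 zero_le'
    rw [← WithZero.exp_log hv] at h1 h2 ⊢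
    rw [WithZero.exp_le_exp] at h1 h2
    congr 1
    omega
  -- genus and canonical data
  have hcan := (Groth.Agent.Lib.Helper88.FF.isCanonical_iff hK C).mp hC
  have hellC : ell C = n + 1 := by
    unfold ell
    rw [← hspan, finrank_span_eq_card hφ]
    simp
  have hg : 1 ≤ genus k K := by
    rw [← hcan.1, hellC]; omega
  have hdegP : P.deg = 1 := Groth.Agent.Lib.Helper91.FunFldAC.deg_eq_one hK P
  have hfdL : ∀ D : Divisor k K, FiniteDimensional k (L D) :=
    Groth.Agent.Lib.Helper88.FF.finiteDimensional_L hK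
  -- `ℓ(P) = 1`
  have hellP : ell (Finsupp.single P (1 : ℤ) : Divisor k K) = 1 := by
    have hle : L (0 : Divisor k K) ≤ L (Finsupp.single P (1 : ℤ) : Divisor k K) := by
      apply Groth.Agent.Lib.Helper88.FF.L_mono
      intro Q
      by_cases hQ : Q = P
      · subst hQ; simp
      · rw [Finsupp.single_eq_of_ne hQ]; simp
    have heq : L (Finsupp.single P (1 : ℤ) : Divisor k K) = L (0 : Divisor k K) := by
      refine le_antisymm ?_ hle
      intro x hx
      by_contra hx0
      have htr : Transcendental k x := by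
        intro halg
        apply hx0
        rw [Groth.Agent.Lib.Helper88.FF.L_zero_eq hK, Submodule.mem_one]
        exact hK.2 x halg
      have := Groth.Agent.Lib.Helper88.FF.genus_eq_zero_of_mem_L_place hK hdegP htr hx
      omega
    unfold ell
    rw [heq]
    exact Groth.Agent.Lib.Helper88.FF.ell_zero hK
  -- base point freeness at `P`
  have hbpf : ∃ h₁ ∈ L C, P.1 h₁ = WithZero.exp (C P) := by
    have hrr := Groth.Agent.Lib.Helper88.FF.riemann_roch hK hC (Finsupp.single P (1 : ℤ))
    rw [hellP, Groth.Agent.Lib.Helper88.FF.deg_single, hdegP] at hrr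
    have hlt : ell (C - Finsupp.single P (1 : ℤ)) < ell C := by
      have h1 : (ell (C - Finsupp.single P (1 : ℤ)) : ℤ) = genus k K - 1 := by
        push_cast at hrr; linarith
      have h2 : (ell C : ℤ) = genus k K := by exact_mod_cast hcan.1
      have : (ell (C - Finsupp.single P (1 : ℤ)) : ℤ) < ell C := by rw [h1, h2]; omega
      exact_mod_cast this
    have hne : L (C - Finsupp.single P (1 : ℤ)) ≠ L C := by
      intro h
      unfold ell at hlt
      rw [h] at hlt
      exact lt_irrefl _ hlt
    have hlt' : L (C - Finsupp.single P (1 : ℤ)) < L C :=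
      lt_of_le_of_ne (Groth.Agent.Lib.Helper88.FF.L_mono (hsuble 1 (by norm_num))) hne
    obtain ⟨h₁, hh₁, hh₁'⟩ := SetLike.exists_of_lt hlt'
    refine ⟨h₁, hh₁, hdisc _ _ (hh₁ P) ?_⟩
    intro hc
    exact hh₁' ((hmemsub 1 (by norm_num) h₁ hh₁).mpr hc)
  -- the value of `y` at `P`
  have hy0 : P.1 y ≠ 0 := (Valuation.ne_zero_iff _).mpr hy
  have hyval : P.1 y = WithZero.exp (-(C P)) := by
    obtain ⟨h₁, hh₁, hv₁⟩ := hbpf
    obtain ⟨h₀, hh₀, h10⟩ := (hspanψ 1).mp heff
    apply le_antisymm
    · have := hintψ (y * h₁) ((hspanψ _).mpr ⟨h₁, hh₁, rfl⟩)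
      rw [map_mul, hv₁] at this
      rw [WithZero.exp_neg, ← one_div, le_div_iff₀ (by simp)]
      exact this
    · have h1 : P.1 h₀ ≤ WithZero.exp (C P) := hh₀ P
      have h2 : P.1 y * P.1 h₀ = 1 := by rw [← map_mul, ← h10, map_one]
      calc WithZero.exp (-(C P)) = WithZero.exp (-(C P)) * (P.1 y * P.1 h₀) := by
            rw [h2, mul_one]
        _ ≤ WithZero.exp (-(C P)) * (P.1 y * WithZero.exp (C P)) :=
            mul_le_mul' le_rfl (mul_le_mul' le_rfl h1)
        _ = P.1 y := by
            rw [mul_comm (P.1 y), ← mul_assoc, ← WithZero.exp_add, neg_add_cancel,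
              WithZero.exp_zero, one_mul]
  -- step A and B
  have hAB : IsJump (IsLocalRing.ResidueField P.O) (hcolAt P Ht (y • φ)) (j + 1) ↔
      ∃ h ∈ L C, P.1 h = WithZero.exp (C P - j) := by
    constructor
    · intro hj'
      obtain ⟨f, hf, hfv, -⟩ :=
        Groth.Agent.Lib.Helper16.LocExp.exists_of_isJump hK P ht hHt (y • φ) hnormψ j hj'
      obtain ⟨h, hh, rfl⟩ := (hspanψ f).mp hf
      refine ⟨h, hh, ?_⟩
      rw [map_mul, hyval] at hfv
      have : P.1 h = WithZero.exp (C P) * WithZero.exp (-(j : ℤ)) := by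
        rw [← hfv, ← mul_assoc, ← WithZero.exp_add, add_neg_cancel, WithZero.exp_zero, one_mul]
      rw [this, ← WithZero.exp_add]
      rfl
    · rintro ⟨h, hh, hv⟩
      apply Groth.Agent.Lib.Helper16.LocExp.isJump_of_exists hK P ht hHt (y • φ) hnormψ j hj
        ((hspanψ (y * h)).mpr ⟨h, hh, rfl⟩)
      rw [map_mul, hyval, hv, ← WithZero.exp_add]
      congr 1
      ring
  rw [hAB]
  -- step C
  have hjnn : (0 : ℤ) ≤ j := Int.natCast_nonneg j
  have hC' : (∃ h ∈ L C, P.1 h = WithZero.exp (C P - j)) ↔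
      ell (C - Finsupp.single P ((j : ℤ) + 1)) < ell (C - Finsupp.single P (j : ℤ)) := by
    have hle : L (C - Finsupp.single P ((j : ℤ) + 1)) ≤ L (C - Finsupp.single P (j : ℤ)) := by
      apply Groth.Agent.Lib.Helper88.FF.L_mono
      intro Q
      rw [Finsupp.sub_apply, Finsupp.sub_apply]
      by_cases hQ : Q = P
      · subst hQ; rw [Finsupp.single_eq_same, Finsupp.single_eq_same]; omega
      · rw [Finsupp.single_eq_of_ne hQ, Finsupp.single_eq_of_ne hQ]
    constructor
    · rintro ⟨h, hh, hv⟩
      have h1 : h ∈ L (C - Finsupp.single P (j : ℤ)) := (hmemsub j hjnn h hh).mpr hv.le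
      have h2 : h ∉ L (C - Finsupp.single P ((j : ℤ) + 1)) := by
        intro hc
        have := (hmemsub _ (by omega) h hh).mp hc
        rw [hv, WithZero.exp_le_exp] at this
        omega
      have hlt : L (C - Finsupp.single P ((j : ℤ) + 1)) < L (C - Finsupp.single P (j : ℤ)) :=
        lt_of_le_of_ne hle (fun heq => h2 (heq ▸ h1))
      exact Submodule.finrank_lt_finrank_of_lt hlt
    · intro hlt
      have hne : L (C - Finsupp.single P ((j : ℤ) + 1)) ≠ L (C - Finsupp.single P (j : ℤ)) := by
        intro h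
        unfold ell at hlt
        rw [h] at hlt
        exact lt_irrefl _ hlt
      obtain ⟨h, hh1, hh2⟩ := SetLike.exists_of_lt (lt_of_le_of_ne hle hne)
      have hh : h ∈ L C := Groth.Agent.Lib.Helper88.FF.L_mono (hsuble j hjnn) hh1
      refine ⟨h, hh, hdisc _ _ ((hmemsub j hjnn h hh).mp hh1) ?_⟩
      intro hc
      apply hh2
      rw [hmemsub _ (by omega) h hh]
      convert hc using 2
      ring
  rw [hC']
  -- step D: Riemann-Roch
  have hrr1 := Groth.Agent.Lib.Helper88.FF.riemann_roch hK hC (Finsupp.single P (j : ℤ))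
  have hrr2 := Groth.Agent.Lib.Helper88.FF.riemann_roch hK hC (Finsupp.single P ((j : ℤ) + 1))
  rw [Groth.Agent.Lib.Helper88.FF.deg_single, hdegP] at hrr1 hrr2
  have hleL : L (Finsupp.single P (j : ℤ) : Divisor k K) ≤ L (Finsupp.single P ((j : ℤ) + 1)) := by
    apply Groth.Agent.Lib.Helper88.FF.L_mono
    intro Q
    by_cases hQ : Q = P
    · subst hQ; rw [Finsupp.single_eq_same, Finsupp.single_eq_same]; omega
    · rw [Finsupp.single_eq_of_ne hQ, Finsupp.single_eq_of_ne hQ]
  have hmono : ell (Finsupp.single P (j : ℤ) : Divisor k K) ≤ ell (Finsupp.single P ((j : ℤ) + 1) : Divisor k K) :=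
    Submodule.finrank_mono hleL
  constructor
  · intro hlt
    refine le_antisymm ?_ hleL
    have heq : ell (Finsupp.single P ((j : ℤ) + 1) : Divisor k K) = ell (Finsupp.single P (j : ℤ) : Divisor k K) := by
      have : (ell (Finsupp.single P ((j : ℤ) + 1) : Divisor k K) : ℤ) ≤ ell (Finsupp.single P (j : ℤ) : Divisor k K) := by
        have hlt' : (ell (C - Finsupp.single P ((j : ℤ) + 1)) : ℤ) < ell (C - Finsupp.single P (j : ℤ)) := by
          exact_mod_cast hlt
        push_cast at hrr1 hrr2
        linarith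
      have : ell (Finsupp.single P ((j : ℤ) + 1) : Divisor k K) ≤ ell (Finsupp.single P (j : ℤ) : Divisor k K) := by
        exact_mod_cast this
      omega
    exact (Submodule.eq_of_le_of_finrank_eq hleL heq.symm).symm.le
  · intro heq
    have h1 : ell (Finsupp.single P ((j : ℤ) + 1) : Divisor k K) = ell (Finsupp.single P (j : ℤ) : Divisor k K) := by
      unfold ell; rw [heq]
    have : (ell (C - Finsupp.single P ((j : ℤ) + 1)) : ℤ) < ell (C - Finsupp.single P (j : ℤ)) := by
      have h1' : (ell (Finsupp.single P ((j : ℤ) + 1) : Divisor k K) : ℤ) = ell (Finsupp.single P (j : ℤ) : Divisor k K) := by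
        exact_mod_cast h1
      push_cast at hrr1 hrr2
      linarith
    exact_mod_cast this

end Groth.Agent.S12609
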