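import Groth.Statements.S11047
import Groth.Agent.Lib.Helper91.FunFldAut

set_option autoImplicit false
open FunFld

namespace Groth.Agent.S11047

open Groth.Agent.Lib.Helper88.FF Groth.Agent.Lib.Helper91.FunFldAC Groth.Agent.Lib.Helper91.FunFldAut

/-- Over an algebraically closed constant field, a `k`-automorphism of a function field of one variable
of genus `g` that fixes more than `2g + 2` places is the identity. -/
theorem result
    (k K : Type*) [Field k] [IsAlgClosed k] [Field K] [Algebra k K]
    (hK : FunFld.IsFunctionField k K) (σ : K ≃ₐ[k] K)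
    (h : ((2 * FunFld.genus k K + 2 : ℕ) : ℕ∞) <
      Set.encard {P : FunFld.Place k K | ∀ x : K, P.1 x < 1 → P.1 (σ x) < 1}) :
    σ = 1 := by
  classical
  by_contra hσ
  -- some place is not fixed
  obtain ⟨P, hP⟩ : ∃ P : FunFld.Place k K, comapPlace σ P ≠ P := by
    by_contra hall
    push Not at hall
    exact hσ (eq_one_of_forall_fixed hK σ hall)
  -- the pole of `σ f`
  have hP2ne : comapPlace σ.symm P ≠ P := by
    intro heq
    apply hP
    have := congrArg (comapPlace σ) heq
    rw [comapPlace_comapPlace_symm] at this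
    exact this.symm
  have hP2nf : comapPlace σ (comapPlace σ.symm P) ≠ comapPlace σ.symm P := by
    rw [comapPlace_comapPlace_symm]
    exact hP2ne.symm
  -- a nonconstant function in `L((g+1)P)`
  have hdegP := deg_eq_one hK P
  have hdeg0 : FunFld.Divisor.deg (Finsupp.single P ((FunFld.genus k K : ℤ) + 1) : FunFld.Divisor k K) =
      (FunFld.genus k K : ℤ) + 1 := by
    rw [deg_single, hdegP]
    simp
  have hell : 2 ≤ FunFld.ell (Finsupp.single P ((FunFld.genus k K : ℤ) + 1)) := by
    have := delta_le_genus hK (Finsupp.single P ((FunFld.genus k K : ℤ) + 1))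
    unfold delta at this
    rw [hdeg0] at this
    omega
  obtain ⟨f, hfL, hfc⟩ := exists_nonconst_mem_L hK _ hell
  have hf0 : f ≠ 0 := by
    rintro rfl
    exact hfc ⟨0, map_zero _⟩
  have hf_le : ∀ Q : FunFld.Place k K, Q ≠ P → Q.1 f ≤ 1 := by
    intro Q hQ
    have := hfL Q
    rwa [Finsupp.single_apply, if_neg (Ne.symm hQ), WithZero.exp_zero] at this
  have hfP : 1 < P.1 f := by
    obtain ⟨Q, hQ⟩ := exists_pole hK hfc
    have hQ1 := (one_lt_val_iff Q hf0).2 hQ
    by_cases hQP : Q = P
    · rw [← hQP]; exact hQ1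
    · exact absurd (hf_le Q hQP) (not_le.mpr hQ1)
  have hσf_le : ∀ Q : FunFld.Place k K, Q ≠ comapPlace σ.symm P → Q.1 (σ f) ≤ 1 := by
    intro Q hQ
    have hne : comapPlace σ Q ≠ P := by
      intro heq
      apply hQ
      rw [← heq, comapPlace_symm_comapPlace]
    exact hf_le _ hne
  -- the finite set of fixed places
  obtain ⟨S0, hS0sub, hS0card⟩ := Set.exists_subset_encard_eq
    (s := {P : FunFld.Place k K | ∀ x : K, P.1 x < 1 → P.1 (σ x) < 1})
    (k := ((2 * FunFld.genus k K + 3 : ℕ) : ℕ∞)) (by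
      have h1 : ((2 * FunFld.genus k K + 3 : ℕ) : ℕ∞) = ((2 * FunFld.genus k K + 2 : ℕ) : ℕ∞) + 1 := by
        push_cast; ring
      rw [h1]
      exact Order.add_one_le_of_lt h)
  have hS0fin : S0.Finite := Set.finite_of_encard_eq_coe hS0card
  set S : Finset (FunFld.Place k K) := hS0fin.toFinset with hS
  have hScard : S.card = 2 * FunFld.genus k K + 3 := by
    have := hS0fin.encard_eq_coe_toFinset_card
    rw [this] at hS0card
    exact_mod_cast hS0card
  have hSfix : ∀ Q ∈ S, ∀ x : K, Q.1 x < 1 → Q.1 (σ x) < 1 := by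
    intro Q hQ
    exact hS0sub ((Set.Finite.mem_toFinset hS0fin).mp hQ)
  have hSneP : ∀ Q ∈ S, Q ≠ P := by
    rintro Q hQ rfl
    exact hP ((fixed_iff σ Q).1 (hSfix Q hQ))
  have hSneP2 : ∀ Q ∈ S, Q ≠ comapPlace σ.symm P := by
    rintro Q hQ rfl
    exact hP2nf ((fixed_iff σ _).1 (hSfix _ hQ))
  -- the difference `σ f - f` vanishes at the fixed places
  have hzero : ∀ Q ∈ S, Q.1 (σ f - f) < 1 := by
    intro Q hQ
    obtain ⟨c, hc⟩ := Groth.Agent.Lib.Helper68.FunFldRes.exists_const hK Q (hf_le Q (hSneP Q hQ))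
    have h1 := hSfix Q hQ _ hc
    rw [map_sub, σ.commutes] at h1
    have e : σ f - f = (σ f - algebraMap k K c) - (f - algebraMap k K c) := by ring
    rw [e]
    exact (Q.1.map_sub _ _).trans_lt (max_lt h1 hc)
  -- hence it lies in `L(E)` with `deg E < 0`
  set E : FunFld.Divisor k K := Finsupp.single P ((FunFld.genus k K : ℤ) + 1) +
    Finsupp.single (comapPlace σ.symm P) ((FunFld.genus k K : ℤ) + 1) -
    ∑ Q ∈ S, Finsupp.single Q (1 : ℤ) with hE
  have hsumapply : ∀ Q' : FunFld.Place k K,
      (∑ Q ∈ S, (Finsupp.single Q (1 : ℤ) : FunFld.Divisor k K)) Q' = if Q' ∈ S then 1 else 0 := by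
    intro Q'
    rw [Finsupp.finsetSum_apply]
    simp only [Finsupp.single_apply]
    rw [Finset.sum_ite_eq' S Q']
  have hmem : σ f - f ∈ FunFld.L E := by
    intro Q
    rw [hE, Finsupp.sub_apply, Finsupp.add_apply, hsumapply]
    by_cases hQS : Q ∈ S
    · rw [if_pos hQS, Finsupp.single_apply, Finsupp.single_apply,
        if_neg (Ne.symm (hSneP Q hQS)), if_neg (Ne.symm (hSneP2 Q hQS))]
      have := lt_one_iff_le_exp_neg_one.1 (hzero Q hQS)
      simpa using this
    · rw [if_neg hQS, sub_zero]
      refine (Q.1.map_sub _ _).trans (max_le ?_ ?_)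
      · -- `σ f`
        by_cases hQ2 : Q = comapPlace σ.symm P
        · have h1 := hfL (comapPlace σ Q)
          rw [comapPlace_apply] at h1
          have h2 : comapPlace σ Q = P := by rw [hQ2, comapPlace_comapPlace_symm]
          rw [h2, Finsupp.single_eq_same] at h1
          refine h1.trans ?_
          rw [WithZero.exp_le_exp, hQ2, Finsupp.single_eq_same, Finsupp.single_apply]
          split_ifs <;> omega
        · refine (hσf_le Q hQ2).trans ?_
          rw [← WithZero.exp_zero, WithZero.exp_le_exp, Finsupp.single_apply, Finsupp.single_apply]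
          split_ifs <;> omega
      · -- `f`
        refine (hfL Q).trans ?_
        rw [WithZero.exp_le_exp, Finsupp.single_apply, Finsupp.single_apply]
        split_ifs <;> omega
  have hdegE : E.deg < 0 := by
    rw [hE, deg_sub, deg_add, hdeg0, deg_single, deg_eq_one hK, deg_sum]
    have : ∀ Q ∈ S, FunFld.Divisor.deg (Finsupp.single Q (1 : ℤ) : FunFld.Divisor k K) = 1 := by
      intro Q _
      rw [deg_single, deg_eq_one hK]
      simp
    rw [Finset.sum_congr rfl this, Finset.sum_const, hScard]
    push_cast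
    simp only [nsmul_eq_mul]
    push_cast
    linarith
  have hL := L_eq_bot_of_deg_neg hK hdegE
  rw [hL, Submodule.mem_bot, sub_eq_zero] at hmem
  have h1 := hσf_le P hP2ne.symm
  rw [hmem] at h1
  exact absurd h1 (not_le.mpr hfP)

end Groth.Agent.S11047
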