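import Groth.Statements.S12618
import Groth.Agent.Lib.Helper44.FunFldWeier2

set_option autoImplicit false
open FunFld

namespace Groth.Agent.S12618

/-- Over an algebraically closed constant field of characteristic `0` or greater than `2g - 2`, let `K`
have genus `g > 1` and let the Weierstrass points of `K` be the support of the Weierstrass divisor
`W(φ)` of the canonical map `φ` (a basis of `L(C)`, `C` canonical; the divisor of `ds` in `W` read
through a family of Laurent expansions). Then either the number of Weierstrass points exceeds `2g +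
2` and the automorphism group of `K/k` acts faithfully on them, or that number is exactly `2g + 2`
and the automorphisms fixing all of them are exactly those fixing some `x` with `[K : k(x)] = 2`. -/
theorem result
    (k K : Type*) [Field k] [IsAlgClosed k] [Field K] [Algebra k K]
    (hK : FunFld.IsFunctionField k K) (hg : 1 < FunFld.genus k K)
    (hchar : ringChar k = 0 ∨ 2 * FunFld.genus k K - 2 < ringChar k)
    (C : FunFld.Divisor k K) (hC : FunFld.IsCanonical k K C)
    {n : ℕ} (φ : Fin (n + 1) → K) (hφ : LinearIndependent k φ)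
    (hspan : Submodule.span k (Set.range φ) = FunFld.L C)
    (s : K) (H : K →ₐ[k] PowerSeries K) (hH : LocRes.IsHasseFamily s H)
    (J : Fin n → ℕ) (hJ : FunFld.IsOrders K (FunFld.hcol (AlgHom.id k K) H φ) J)
    (Φ : FunFld.Place k K → (K →ₐ[k] LaurentSeries k))
    (hΦ : ∀ P : FunFld.Place k K, LocRes.IsExpansionAt P.1 (Φ P)) :
    (2 * FunFld.genus k K + 2 < Set.ncard {P : FunFld.Place k K | FunFld.wDiv (AlgHom.id k K) H Φ s φ J P ≠ 0} ∧
      ∀ σ : K ≃ₐ[k] K, (∀ P : FunFld.Place k K, FunFld.wDiv (AlgHom.id k K) H Φ s φ J P ≠ 0 →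
        FunFld.IsFixedPt (σ : K →ₐ[k] K) P) → σ = AlgEquiv.refl) ∨
    (Set.ncard {P : FunFld.Place k K | FunFld.wDiv (AlgHom.id k K) H Φ s φ J P ≠ 0} = 2 * FunFld.genus k K + 2 ∧
      ∃ x : K, Module.finrank (IntermediateField.adjoin k ({x} : Set K)) K = 2 ∧
        ∀ σ : K ≃ₐ[k] K, (∀ P : FunFld.Place k K, FunFld.wDiv (AlgHom.id k K) H Φ s φ J P ≠ 0 →
          FunFld.IsFixedPt (σ : K →ₐ[k] K) P) ↔ σ x = x) := by
  classical
  have hg2 : 2 ≤ FunFld.genus k K := hg
  have hg0 : 0 < FunFld.genus k K := by omega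
  have hdeg := Groth.Agent.Lib.Helper44.Weier.deg_mapDiv_canonical hK hC φ hφ hspan hg0
  have hchar' : ringChar k = 0 ∨ (FunFld.mapDiv k φ).deg < ringChar k := by
    rcases hchar with h | h
    · exact Or.inl h
    · right
      rw [hdeg]
      omega
  have hJc : J = fun l : Fin n => (l : ℕ) + 1 :=
    Groth.Agent.Lib.Helper44.Weier.isOrders_unique hJ
      (Groth.Agent.Lib.Helper44.Weier.isOrders_classical hK φ hφ hchar' hH)
  subst hJc
  obtain ⟨hN, hEq⟩ := Groth.Agent.Lib.Helper44.Weier.card_weier hK hC φ hφ hspan Φ hΦ hg2 hchar hH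
  set W := FunFld.wDiv (AlgHom.id k K) H Φ s φ (fun l : Fin n => (l : ℕ) + 1) with hWdef
  have hset : {P : FunFld.Place k K | W P ≠ 0} = (W.support : Set (FunFld.Place k K)) := by
    ext P
    simp [Finsupp.mem_support_iff]
  have hfin : {P : FunFld.Place k K | W P ≠ 0}.Finite := by
    rw [hset]
    exact W.support.finite_toSet
  rcases hN.lt_or_eq with hlt | heq
  · left
    refine ⟨hlt, fun σ hσ => ?_⟩
    apply Groth.Agent.S11047.result k K hK σ
    have hsub : {P : FunFld.Place k K | W P ≠ 0} ⊆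
        {P : FunFld.Place k K | ∀ x : K, P.1 x < 1 → P.1 (σ x) < 1} := fun P hP => hσ P hP
    refine lt_of_lt_of_le ?_ (Set.encard_le_encard hsub)
    rw [← hfin.cast_ncard_eq]
    exact_mod_cast hlt
  · right
    refine ⟨heq.symm, ?_⟩
    have hne : {P : FunFld.Place k K | W P ≠ 0}.Nonempty := by
      rw [← Set.ncard_pos hfin]
      omega
    obtain ⟨P₀, hP₀⟩ := hne
    have hL0 := hEq heq.symm P₀ hP₀
    obtain ⟨x, hx2, hxval, hxdeg⟩ := Groth.Agent.Lib.Helper44.Weier.exists_double_pole hK P₀ hL0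
    refine ⟨x, hxdeg, fun σ => ⟨fun hσ => ?_, fun hσ P hP => ?_⟩⟩
    · apply Groth.Agent.Lib.Helper44.Weier.fix_hyper_of_fixed hK σ P₀ hx2 (hσ P₀ hP₀)
        (hfin.toFinset.erase P₀) (Finset.notMem_erase _ _) ?_ ?_
      · rw [Finset.card_erase_of_mem ((Set.Finite.mem_toFinset hfin).2 hP₀),
          ← Set.ncard_eq_toFinset_card _ hfin, ← heq]
        omega
      · intro Q hQ
        exact hσ Q ((Set.Finite.mem_toFinset hfin).1 (Finset.mem_of_mem_erase hQ))
    · exact Groth.Agent.Lib.Helper44.Weier.fixed_of_fix_hyper hK hg2 σ hxdeg hσ P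
        (hEq heq.symm P hP)

end Groth.Agent.S12618
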