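import Groth.Statements.S9206
import Mathlib.AlgebraicGeometry.Morphisms.Flat
-- import your own Groth.Agent.* helpers here

set_option autoImplicit false
universe u
open CategoryTheory AlgebraicGeometry
open Lim

namespace Groth.Agent.S9206

theorem epi_specMap_of_field {K L : Type u} [Field K] [Field L]
    (φ : CommRingCat.of K ⟶ CommRingCat.of L) :
    Epi (Spec.map φ) := by
  have h1 : Flat (Spec.map φ) := by
    rw [Flat.SpecMap_iff]
    let _ := φ.hom.toAlgebra
    change Module.Flat K L
    infer_instance
  have h2 : Surjective (Spec.map φ) := by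
    refine ⟨fun x => ⟨default, Subsingleton.elim _ _⟩⟩
  exact Flat.epi_of_flat_of_surjective _

/-- Let S = lim S_i be a cofiltered limit of schemes with affine transition morphisms and let s be a
point of S with images s_i in S_i. Then the residue field κ(s) is the colimit of the residue fields
κ(s_i): every element of κ(s) is the image of an element of κ(s_i) for some i under the map of
residue fields induced by S → S_i (the maps κ(s_i) → κ(s) being injective, this says that the
canonical map from the colimit is an isomorphism). -/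
theorem result {I : Type u} [SmallCategory I] [IsCofiltered I]
    (D : I ⥤ Scheme.{u}) (c : Limits.Cone D) (hc : Limits.IsLimit c)
    [∀ (i j : I) (f : i ⟶ j), IsAffineHom (D.map f)] (s : c.pt) (a : c.pt.residueField s) :
    ∃ (i : I) (b : (D.obj i).residueField ((c.π.app i).base s)), ((c.π.app i).residueFieldMap s).hom b = a := by
  classical
  let ρ : ∀ i, (D.obj i).residueField ((c.π.app i).base s) →+* c.pt.residueField s :=
    fun i => ((c.π.app i).residueFieldMap s).hom
  have hmono : ∀ {k i : I} (f : k ⟶ i), (ρ i).fieldRange ≤ (ρ k).fieldRange := by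
    rintro k i f _ ⟨b, rfl⟩
    have h1 := Scheme.Hom.residueFieldMap_congr (c.w f).symm s
    rw [Scheme.residueFieldMap_comp] at h1
    refine ⟨((D.map f).residueFieldMap _).hom (((D.obj i).residueFieldCongr ?_).hom.hom b), ?_⟩
    · rw [← c.w f]; rfl
    · change _ = ((c.π.app i).residueFieldMap s).hom b
      rw [h1]
      rfl
  let K₀ : Subfield (c.pt.residueField s) := ⨆ i, (ρ i).fieldRange
  have hρ : ∀ i x, ρ i x ∈ K₀ := fun i x => (le_iSup (fun i => (ρ i).fieldRange) i) ⟨x, rfl⟩
  suffices hK : ∀ a : c.pt.residueField s, a ∈ K₀ by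
    have hdir : Directed (· ≤ ·) (fun i => (ρ i).fieldRange) := by
      intro i j
      obtain ⟨k, f, g, -⟩ := IsCofilteredOrEmpty.cone_objs i j
      exact ⟨k, hmono f, hmono g⟩
    have : Nonempty I := IsCofiltered.nonempty
    obtain ⟨i, b, hb⟩ := (Subfield.mem_iSup_of_directed hdir).mp (hK a)
    exact ⟨i, b, hb⟩
  let ψ : ∀ i, (D.obj i).residueField ((c.π.app i).base s) ⟶ CommRingCat.of K₀ :=
    fun i => CommRingCat.ofHom ((ρ i).codRestrict K₀ (hρ i))
  let ι₀ : CommRingCat.of K₀ ⟶ CommRingCat.of (c.pt.residueField s) :=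
    CommRingCat.ofHom K₀.subtype
  have hψ : ∀ i, ψ i ≫ ι₀ = (c.π.app i).residueFieldMap s := fun i => by
    ext x; rfl
  have hepi : Epi (Spec.map ι₀) := epi_specMap_of_field ι₀
  let t : ∀ i, Spec (CommRingCat.of K₀) ⟶ D.obj i :=
    fun i => Spec.map (ψ i) ≫ (D.obj i).fromSpecResidueField _
  have ht : ∀ i, Spec.map ι₀ ≫ t i = c.pt.fromSpecResidueField s ≫ c.π.app i := by
    intro i
    rw [← Category.assoc, ← Spec.map_comp, hψ,
      Scheme.Hom.SpecMap_residueFieldMap_fromSpecResidueField]
    rfl
  let cone : Limits.Cone D :=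
    { pt := Spec (CommRingCat.of K₀)
      π :=
        { app := t
          naturality := by
            intro i j f
            simp only [Functor.const_obj_obj, Functor.const_obj_map, Category.id_comp]
            rw [← cancel_epi (Spec.map ι₀), ht, ← Category.assoc, ht, Category.assoc, c.w] } }
  let g : Spec (CommRingCat.of K₀) ⟶ c.pt := hc.lift cone
  have hg : Spec.map ι₀ ≫ g = c.pt.fromSpecResidueField s := by
    apply hc.hom_ext
    intro i
    rw [Category.assoc, hc.fac, ← ht i]
  obtain ⟨⟨x, φ⟩, hxφ⟩ := (Scheme.SpecToEquivOfField K₀ c.pt).symm.surjective g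
  have h3 : (Scheme.SpecToEquivOfField (c.pt.residueField s) c.pt).symm ⟨x, φ ≫ ι₀⟩ =
      (Scheme.SpecToEquivOfField (c.pt.residueField s) c.pt).symm ⟨s, 𝟙 _⟩ := by
    simp only [Scheme.SpecToEquivOfField_symm_apply] at hxφ ⊢
    rw [Spec.map_comp, Category.assoc, hxφ, hg]
    rw [Spec.map_id]
    exact (Category.id_comp (c.pt.fromSpecResidueField s)).symm
  have h4 := (Scheme.SpecToEquivOfField (c.pt.residueField s) c.pt).symm.injective h3
  rw [Scheme.SpecToEquivOfField_eq_iff] at h4
  obtain ⟨e, he⟩ := h4
  dsimp only at e he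
  subst e
  intro a
  have : ι₀.hom (φ.hom a) = a := by
    rw [← CommRingCat.comp_apply, he]
    simp
  rw [← this]
  exact (φ.hom a).2

end Groth.Agent.S9206
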