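import Groth.Statements.S9207
-- import your own Groth.Agent.* helpers here

set_option autoImplicit false
universe u
open CategoryTheory CategoryTheory.Limits AlgebraicGeometry
open Lim

namespace Groth.Agent.S9207

attribute [local instance] CategoryTheory.isConnected_of_hasTerminal

set_option backward.isDefEq.respectTransparency false in
theorem aux {I : Type u} [SmallCategory I] [IsCofiltered I]
    (D : I ⥤ Scheme.{u}) (c : Limits.Cone D) (hc : Limits.IsLimit c)
    [∀ (i j : I) (f : i ⟶ j), IsAffineHom (D.map f)] (i : I) {T : Scheme.{u}} (a : T ⟶ D.obj i)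
    [CompactSpace T]
    (hne : ∀ (i' : I) (φ : i' ⟶ i), Nonempty ↥(Limits.pullback a (D.map φ))) :
    Nonempty ↥(Limits.pullback a (c.π.app i)) := by
  classical
  let F : Over i ⥤ Scheme.{u} :=
    { obj := fun j => Limits.pullback a (D.map j.hom)
      map := fun {j k} f => Limits.pullback.map _ _ _ _ (𝟙 _) (D.map f.left) (𝟙 _) (by simp)
        (by rw [Category.comp_id, ← D.map_comp, Over.w f])
      map_id := fun j => by
        apply Limits.pullback.hom_ext <;> simp
      map_comp := fun f g => by
        apply Limits.pullback.hom_ext <;> simp }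
  let α : F ⟶ Over.forget i ⋙ D :=
    { app := fun j => Limits.pullback.snd _ _
      naturality := fun j k f => by simp [F] }
  let cF : Limits.Cone F :=
    { pt := Limits.pullback a (c.π.app i)
      π :=
        { app := fun j => Limits.pullback.map _ _ _ _ (𝟙 _) (c.π.app j.left) (𝟙 _) (by simp)
            (by simp)
          naturality := fun j k f => by
            apply Limits.pullback.hom_ext <;> simp [F] } }
  have hcG := (Functor.Initial.isLimitWhiskerEquiv (Over.forget i) c).symm hc
  have hcF : Limits.IsLimit cF := by
    refine Limits.isLimitOfIsPullbackOfIsConnected α cF _ ⟨Limits.pullback.snd _ _, ?_⟩ ?_ hcG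
    · intro j
      simp [cF, α]
    · intro j
      refine IsPullback.of_right (h₁₂ := Limits.pullback.fst a (D.map j.hom)) (v₁₃ := a)
        (h₂₂ := D.map j.hom) ?_ ?_ (IsPullback.of_hasPullback a (D.map j.hom))
      · have e1 : cF.π.app j ≫ Limits.pullback.fst a (D.map j.hom) =
            Limits.pullback.fst a (c.π.app i) := by simp [cF]
        have e2 : ((c.whisker (Over.forget i)).π.app j) ≫ D.map j.hom = c.π.app i := by simp
        rw [e1, e2]
        exact IsPullback.of_hasPullback a (c.π.app i)
      · simp [cF, α]
  have hF : ∀ {j k : Over i} (f : j ⟶ k), IsAffineHom (F.map f) := by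
    intro j k f
    have h1 : IsAffineHom (Limits.pullback.fst a (D.map k.hom)) :=
      MorphismProperty.pullback_fst _ _ inferInstance
    have h2 : IsAffineHom (F.map f ≫ Limits.pullback.fst a (D.map k.hom)) := by
      have : F.map f ≫ Limits.pullback.fst a (D.map k.hom) = Limits.pullback.fst a (D.map j.hom) := by
        simp [F]
      rw [this]
      exact MorphismProperty.pullback_fst _ _ inferInstance
    exact .of_comp _ (Limits.pullback.fst a (D.map k.hom))
  have hFne : ∀ j : Over i, Nonempty (F.obj j) := fun j => hne j.left j.hom
  have hFc : ∀ j : Over i, CompactSpace (F.obj j) := by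
    intro j
    have h1 : IsAffineHom (Limits.pullback.fst a (D.map j.hom)) :=
      MorphismProperty.pullback_fst _ _ inferInstance
    exact QuasiCompact.compactSpace_of_compactSpace (Limits.pullback.fst a (D.map j.hom))
  exact Scheme.nonempty_of_isLimit F cF hcF

/-- Let S = lim S_i be a cofiltered limit of quasi-compact quasi-separated schemes with affine
transition morphisms, let i be an index and T → S_i a morphism of schemes with T quasi-compact. If
the fibre product T ×_{S_i} S is empty, then T ×_{S_i} S_{i'} is empty for some index i' over i (and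
then for every index over i'). -/
theorem result {I : Type u} [SmallCategory I] [IsCofiltered I]
    (D : I ⥤ Scheme.{u}) (c : Limits.Cone D) (hc : Limits.IsLimit c)
    [∀ (i j : I) (f : i ⟶ j), IsAffineHom (D.map f)] [∀ i, CompactSpace (D.obj i)]
    [∀ i, QuasiSeparatedSpace (D.obj i)] (i : I) {T : Scheme.{u}} (a : T ⟶ D.obj i) [CompactSpace T]
    (h : IsEmpty ↥(pullback a (c.π.app i))) :
    ∃ (i' : I) (φ : i' ⟶ i), IsEmpty ↥(pullback a (D.map φ)) := by
  by_contra! H
  exact h.elim (aux D c hc i a fun i' φ => H i' φ).some

end Groth.Agent.S9207
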