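import Groth.Statements.S0065
import Groth.Agent.S9246
import Groth.Agent.Lib.Helper77.RegularScheme
import Mathlib.AlgebraicGeometry.Morphisms.Etale

set_option autoImplicit false
open CategoryTheory CategoryTheory.Limits AlgebraicGeometry Opposite
universe u
open EtBase

namespace Groth.Agent.S0065

/-- For an étale morphism X → Y with Y locally Noetherian and a point x of X, the local ring of X at x
is regular if and only if the local ring of Y at the image of x is regular. -/
theorem result {X Y : Scheme.{u}} (f : X ⟶ Y) [AlgebraicGeometry.Etale f]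
    [IsLocallyNoetherian Y] (x : X) :
    IsRegularLocalRing (X.presheaf.stalk x) ↔ IsRegularLocalRing (Y.presheaf.stalk (f.base x)) := by
  obtain ⟨_, ⟨U, hU : IsAffineOpen U, rfl⟩, hfxU, -⟩ :=
    Y.isBasis_affineOpens.exists_subset_of_mem_open (Set.mem_univ (f.base x)) isOpen_univ
  obtain ⟨_, ⟨V, hV : IsAffineOpen V, rfl⟩, hxV, hVU⟩ :=
    X.isBasis_affineOpens.exists_subset_of_mem_open (show x ∈ (f ⁻¹ᵁ U : Set X) from hfxU)
      (f ⁻¹ᵁ U).isOpen
  have e : V ≤ f ⁻¹ᵁ U := hVU
  rw [Groth.Agent.Lib.Helper77.RegularScheme.stalk_regular_iff hV x hxV, Groth.Agent.Lib.Helper77.RegularScheme.stalk_regular_iff hU (f.base x) hfxU]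
  have het : (f.appLE U V e).hom.Etale := f.etale_appLE hU hV e
  let _ := (f.appLE U V e).hom.toAlgebra
  have het' : Algebra.Etale Γ(Y, U) Γ(X, V) := het
  have hmain := Groth.Agent.S9246.result Γ(Y, U) Γ(X, V) (hV.primeIdealOf ⟨x, hxV⟩).asIdeal
  have hcomap := IsAffineOpen.comap_primeIdealOf_appLE U hU V hV e hxV
  have key : ∀ (P : PrimeSpectrum Γ(Y, U)),
      P = (hV.primeIdealOf ⟨x, hxV⟩).comap (f.appLE U V e).hom →
      (IsRegularLocalRing (Localization.AtPrime P.asIdeal) ↔
        IsRegularLocalRing (Localization.AtPrime (hV.primeIdealOf ⟨x, hxV⟩).asIdeal)) := by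
    intro P hP
    subst hP
    exact hmain
  exact (key _ hcomap.symm).symm

end Groth.Agent.S0065
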