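import Groth.Statements.S0116
import Mathlib.AlgebraicGeometry.Morphisms.UniversallyOpen
import Mathlib.AlgebraicGeometry.Morphisms.FlatDescent
-- import your own Groth.Agent.* helpers here

set_option autoImplicit false
open CategoryTheory CategoryTheory.Limits AlgebraicGeometry Opposite
universe u
open EtBase

namespace Groth.Agent.S0116

theorem isNoetherianRing_of_faithfullyFlat {A B : Type u} [CommRing A] [CommRing B]
    (φ : A →+* B) (h : φ.FaithfullyFlat) [IsNoetherianRing B] : IsNoetherianRing A := by
  algebraize [φ]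
  have hB : IsNoetherian B (TensorProduct A B A) := by
    have e : B ≃ₗ[B] TensorProduct A B A := (TensorProduct.AlgebraTensorModule.rid A B B).symm
    exact isNoetherian_of_linearEquiv e
  exact Submodule.IsNoetherian.of_isNoetherian_tensorProduct_of_faithfullyFlat (A := B) hB

theorem affine_affine {X Y : Scheme.{u}} (f : X ⟶ Y) [IsAffine X] [IsAffine Y] [Surjective f]
    [Flat f] [IsLocallyNoetherian X] : IsLocallyNoetherian Y := by
  have h1 : f.appTop.hom.FaithfullyFlat :=
    (Flat.flat_and_surjective_iff_faithfullyFlat_of_isAffine f).mp ⟨inferInstance, inferInstance⟩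
  have h2 : IsNoetherianRing Γ(X, ⊤) :=
    IsLocallyNoetherian.component_noetherian ⟨⊤, isAffineOpen_top X⟩
  have h3 : IsNoetherianRing Γ(Y, ⊤) := isNoetherianRing_of_faithfullyFlat _ h1
  have h4 : IsLocallyNoetherian (Spec Γ(Y, ⊤)) := isLocallyNoetherian_Spec.mpr h3
  exact isLocallyNoetherian_of_isOpenImmersion Y.isoSpec.hom

theorem compact_affine {X Y : Scheme.{u}} (f : X ⟶ Y) [CompactSpace X] [IsAffine Y] [Surjective f]
    [Flat f] [IsLocallyNoetherian X] : IsLocallyNoetherian Y := by
  let 𝒰 := X.affineCover.finiteSubcover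
  let p : ∐ (fun i : 𝒰.I₀ ↦ 𝒰.X i) ⟶ X := Sigma.desc (fun i ↦ 𝒰.f i)
  have hp : Surjective p := by
    refine ⟨fun x ↦ ?_⟩
    obtain ⟨i, y, rfl⟩ := 𝒰.exists_eq x
    refine ⟨Sigma.ι (fun i : 𝒰.I₀ ↦ 𝒰.X i) i y, ?_⟩
    rw [← Scheme.Hom.comp_apply]
    simp [p]
  have hN : IsLocallyNoetherian (∐ (fun i : 𝒰.I₀ ↦ 𝒰.X i)) := by
    rw [isLocallyNoetherian_iff_openCover (sigmaOpenCover _)]
    intro i
    change IsLocallyNoetherian (𝒰.X i)
    infer_instance
  have : Surjective (p ≫ f) := inferInstance
  exact affine_affine (p ≫ f)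

theorem any_affine {X Y : Scheme.{u}} (f : X ⟶ Y) [IsAffine Y] [Surjective f]
    [Flat f] [LocallyOfFinitePresentation f] [IsLocallyNoetherian X] : IsLocallyNoetherian Y := by
  obtain ⟨V : X.Opens, hV, e⟩ := f.isOpenMap.exists_opens_image_eq_of_prespectralSpace
    f.continuous (U := Set.univ) (by simp [f.surjective.range_eq]) isOpen_univ
    isCompact_univ
  have : CompactSpace ↥(V : Scheme.{u}) := isCompact_iff_compactSpace.mp hV
  have : Surjective (V.ι ≫ f) := by
    refine ⟨fun y ↦ ?_⟩
    obtain ⟨x, hx, rfl⟩ := e.ge (Set.mem_univ y)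
    exact ⟨⟨x, hx⟩, rfl⟩
  exact compact_affine (V.ι ≫ f)

/-- If f : X → Y is surjective, flat and locally of finite presentation and X is locally Noetherian,
then Y is locally Noetherian. (This is the descent half of the statement that, for such f, X is
locally Noetherian if and only if Y is; the ascent half is the fact that a scheme locally of finite
type over a locally Noetherian scheme is locally Noetherian, and is not stated here.) -/
theorem result {X Y : Scheme.{u}} (f : X ⟶ Y) [Surjective f] [Flat f] [LocallyOfFinitePresentation f]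
    [IsLocallyNoetherian X] : IsLocallyNoetherian Y := by
  rw [isLocallyNoetherian_iff_openCover Y.affineCover]
  intro i
  have : IsLocallyNoetherian (pullback (Y.affineCover.f i) f) :=
    isLocallyNoetherian_of_isOpenImmersion (pullback.snd (Y.affineCover.f i) f)
  exact any_affine (pullback.fst (Y.affineCover.f i) f)

end Groth.Agent.S0116
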