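import Groth.Statements.S0237
import Groth.Agent.Lib.Helper80.EqLocus
import Mathlib.AlgebraicGeometry.Morphisms.UniversallyOpen
import Mathlib.AlgebraicGeometry.Morphisms.Proper
import Mathlib.AlgebraicGeometry.Morphisms.Integral
import Mathlib.AlgebraicGeometry.PullbackCarrier
import Mathlib.Tactic

set_option autoImplicit false
universe u
open Pi1

namespace Groth.Agent.S0237

open AlgebraicGeometry CategoryTheory CategoryTheory.Limits

theorem key {X Y : Scheme.{u}} (i : Y ⟶ X) (h : DenseRange i.base)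
    {Z₁ Z₂ : Scheme.{u}} (p₁ : Z₁ ⟶ X) (p₂ : Z₂ ⟶ X) [IsFinite p₁] [Etale p₁] [IsFinite p₂]
    [Etale p₂] (φ ψ : Z₁ ⟶ Z₂) (hφ : φ ≫ p₂ = p₁) (hψ : ψ ≫ p₂ = p₁)
    (heq : pullback.fst p₁ i ≫ φ = pullback.fst p₁ i ≫ ψ) : φ = ψ := by
  obtain ⟨U, hU, hUt, hUc⟩ := Groth.Agent.Lib.Helper80.exists_opens_eqLocus p₂ φ ψ
    (by rw [hφ, hψ])
  have hcl : IsClosed (U : Set Z₁) := hUc inferInstance
  have hsub : p₁.base ⁻¹' Set.range i.base ⊆ (U : Set Z₁) := by
    rw [← Scheme.Pullback.range_fst]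
    exact hUt _ heq
  have hdense : Dense (p₁.base ⁻¹' Set.range i.base) :=
    h.preimage p₁.isOpenMap
  have htop : (U : Set Z₁) = Set.univ := by
    have h1 : Dense (U : Set Z₁) := hdense.mono hsub
    rw [← hcl.closure_eq]
    exact h1.closure_eq
  have hU' : U = ⊤ := TopologicalSpace.Opens.ext htop
  subst hU'
  have h1 := congrArg (fun m => Z₁.topIso.inv ≫ m) hU
  simp only [← Category.assoc, Scheme.toIso_inv_ι, Category.id_comp] at h1
  exact h1

open AlgebraicGeometry CategoryTheory in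
/-- If a morphism of schemes has dense image, pulling back finite etale covers along it is faithful. -/
theorem result {X Y : Scheme.{u}} (f : X ⟶ Y)
    (h : DenseRange f.base) : (FEt.restrict f).Faithful := by
  refine ⟨fun {Z₁ Z₂ φ ψ} hmap => ?_⟩
  haveI : IsFinite Z₁.hom := Z₁.prop.1
  haveI : Etale Z₁.hom := Z₁.prop.2
  haveI : IsFinite Z₂.hom := Z₂.prop.1
  haveI : Etale Z₂.hom := Z₂.prop.2
  have heq : pullback.fst Z₁.hom f ≫ φ.left = pullback.fst Z₁.hom f ≫ ψ.left := by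
    have := congrArg (fun m => m.left ≫ pullback.fst Z₂.hom f) hmap
    simp only [FEt.restrict, MorphismProperty.Over.pullback] at this
    have h2 : ∀ (m : Z₁.left ⟶ Z₂.left) (w : (pullback.fst Z₁.hom f ≫ m) ≫ Z₂.hom =
        pullback.snd Z₁.hom f ≫ f),
        pullback.lift (pullback.fst Z₁.hom f ≫ m) (pullback.snd Z₁.hom f) w ≫
          pullback.fst Z₂.hom f = pullback.fst Z₁.hom f ≫ m := fun m w => pullback.lift_fst _ _ _
    exact (h2 φ.left _).symm.trans (this.trans (h2 ψ.left _))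
  have hl : φ.left = ψ.left :=
    key f h Z₁.hom Z₂.hom φ.left ψ.left (Over.w φ.hom) (Over.w ψ.hom) heq
  ext
  exact hl

end Groth.Agent.S0237
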