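import Groth.Statements.S0268
import Groth.Agent.Lib.Helper32.GeomConn.Full
import Groth.Agent.S0237

set_option autoImplicit false
universe u
open Pi1

namespace Groth.Agent.S0268

open AlgebraicGeometry CategoryTheory CategoryTheory.Limits in
/-- Functor form of the surjectivity of pi_1(X) -> pi_1(Spec k): Let X be quasi-compact and
quasi-separated over a field k with X_{kbar} connected. Then the functor pulling back finite etale
k-schemes to X is full and faithful. -/
theorem result (k : Type u) [Field k] {X : Scheme.{u}} (f : X ⟶ Spec (CommRingCat.of k)) [CompactSpace X]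
    [QuasiSeparatedSpace X]
    [ConnectedSpace ↥(pullback f (Spec.map (CommRingCat.ofHom (algebraMap k (AlgebraicClosure k)))))] :
    (FEt.restrict f).Full ∧ (FEt.restrict f).Faithful := by
  obtain ⟨z₀⟩ : Nonempty ↥(Limits.pullback f
      (Spec.map (CommRingCat.ofHom (algebraMap k (AlgebraicClosure k))))) := inferInstance
  have hsurj : Surjective f := by
    refine ⟨fun s => ⟨Limits.pullback.fst f _ z₀, ?_⟩⟩
    exact Subsingleton.elim (α := PrimeSpectrum k) _ _
  have hqc : QuasiCompact f := (quasiCompact_iff_compactSpace f).mpr inferInstance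
  have hflat : Flat f := inferInstance
  constructor
  · refine ⟨fun {Y₁ Y₂} ψ => ?_⟩
    haveI : IsFinite Y₁.hom := Y₁.prop.1
    haveI : Etale Y₁.hom := Y₁.prop.2
    haveI : IsFinite Y₂.hom := Y₂.prop.1
    haveI : Etale Y₂.hom := Y₂.prop.2
    have hw : ψ.left ≫ Limits.pullback.snd Y₂.hom f = Limits.pullback.snd Y₁.hom f := Over.w ψ.hom
    obtain ⟨φ, h1, h2⟩ :=
      Groth.Agent.Lib.Helper32.GeomConn.full_key k f Y₁.hom Y₂.hom ψ.left hw
    refine ⟨MorphismProperty.Over.homMk φ h1 trivial, ?_⟩
    ext
    simp only [FEt.restrict, MorphismProperty.Over.pullback]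
    apply Limits.pullback.hom_ext
    · exact (Limits.pullback.lift_fst _ _ _).trans h2
    · exact (Limits.pullback.lift_snd _ _ _).trans hw.symm
  · apply Groth.Agent.S0237.result
    exact hsurj.surj.denseRange

end Groth.Agent.S0268
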