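import Groth.Statements.S12627
import Mathlib
import Groth.Agent.Lib.Helper19.Cartier.AbVarPow
import Groth.Agent.Lib.Helper19.StalkCriteria
import Groth.Agent.Lib.Helper22.AbVarIsogeny2
import Groth.Agent.Lib.Helper36.DimLemmas
import Groth.Agent.Lib.Helper19.GC.Main
-- import your own Groth.Agent.* helpers here

set_option autoImplicit false
universe u
open CategoryTheory CategoryTheory.Limits MonoidalCategory CartesianMonoidalCategory MonObj GrpObj AlgebraicGeometry
open AbVar

namespace Groth.Agent.S12627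
open CategoryTheory CategoryTheory.Limits MonoidalCategory CartesianMonoidalCategory MonObj GrpObj AlgebraicGeometry
open IsLocalRing
open Groth.Agent.Lib.Helper19 Groth.Agent.Lib.Helper19.Cartier
open Groth.Agent.Lib.Helper73 Groth.Agent.Lib.Helper22 Groth.Agent.Lib.Helper22.AbVarIsogeny
open AbVar

section General

variable {k : Type u} [Field k] {G H : Over (Spec (CommRingCat.of k))} [GrpObj G] [GrpObj H]

lemma eta_eq_one : η[G] = (1 : 𝟙_ _ ⟶ G) := by rw [Hom.one_def]; simp

theorem exists_stalkHom₂ (u : G ⟶ H) (hu : η[G] ≫ u = η[H]) :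
    ∃ (φ : A H ⟶ A G) (w : sA H ≫ φ = sA G), P H φ w = can G ≫ u := by
  refine exists_P_eq H (sA G) (εA G) (sA_εA G) (can G ≫ u) ?_
  rw [← Category.assoc, Tmap_comp_can_eq_one G (𝟙 _) (εA G) (sA_εA G) (Category.comp_id _).symm,
    Hom.one_def, Category.assoc, hu]
  rfl

lemma pt_comp₂ (u : G ⟶ H) (φ : A H ⟶ A G) (w : sA H ≫ φ = sA G)
    (hφ : P H φ w = can G ≫ u) (v : TanVec G k) :
    v.pt ≫ u = P H (φ ≫ v.hom) (by rw [← Category.assoc, w, v.w]) := by
  unfold TanVec.pt
  rw [← Tmap_comp_P H v.hom v.w φ w, hφ]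
  unfold P
  rw [Category.assoc]

lemma stalkHom_aug₂ (u : G ⟶ H) (hu : η[G] ≫ u = η[H]) (φ : A H ⟶ A G) (w : sA H ≫ φ = sA G)
    (hφ : P H φ w = can G ≫ u) : φ ≫ εA G = εA H := by
  have e1 : P H (φ ≫ εA G) (by rw [← Category.assoc, w, sA_εA]) = P H (εA H) (sA_εA H) := by
    rw [← Tmap_comp_P H (εA G) (sA_εA G) φ w, hφ, ← Category.assoc,
      Tmap_comp_can_eq_one G (𝟙 _) (εA G) (sA_εA G) (Category.comp_id _).symm,
      P_eq_one H (𝟙 _) (εA H) (sA_εA H) (Category.comp_id _).symm,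
      Hom.one_def, Category.assoc, hu]
    rfl
  exact P_injective H _ _ e1

/-- push a tangent vector forward along a stalk hom -/
noncomputable def push (φ : A H ⟶ A G) (w : sA H ≫ φ = sA G) (haug : φ ≫ εA G = εA H)
    (v : TanVec G k) : TanVec H k where
  hom := φ ≫ v.hom
  w := by rw [← Category.assoc, w, v.w]
  aug := by rw [Category.assoc, v.aug, haug]

lemma push_pt (u : G ⟶ H) (φ : A H ⟶ A G) (w : sA H ≫ φ = sA G)
    (hφ : P H φ w = can G ≫ u) (haug : φ ≫ εA G = εA H) (v : TanVec G k) :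
    (push φ w haug v).pt = v.pt ≫ u := (pt_comp₂ u φ w hφ v).symm

lemma mem_maximalIdeal_iff (x : A G) : x ∈ maximalIdeal (A G) ↔ (εA G).hom x = 0 := by
  rw [← ker_eq_maximalIdeal (A := A G) (k := k) (εA G).hom (sA G).hom (εA_sA_apply G),
    RingHom.mem_ker]

lemma stalkHom_mem (φ : A H ⟶ A G) (haug : φ ≫ εA G = εA H) (x : A H)
    (hx : x ∈ maximalIdeal (A H)) : φ.hom x ∈ maximalIdeal (A G) := by
  rw [mem_maximalIdeal_iff] at hx ⊢
  have := congrArg (fun h => h.hom x) haug
  simp only [CommRingCat.hom_comp, RingHom.comp_apply] at this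
  rw [this, hx]

theorem stalkHom_mul_spec (u₁ u₂ : G ⟶ H) (hu₁ : η[G] ≫ u₁ = η[H]) (hu₂ : η[G] ≫ u₂ = η[H])
    (φ₁ : A H ⟶ A G) (w₁ : sA H ≫ φ₁ = sA G) (hφ₁ : P H φ₁ w₁ = can G ≫ u₁)
    (φ₂ : A H ⟶ A G) (w₂ : sA H ≫ φ₂ = sA G) (hφ₂ : P H φ₂ w₂ = can G ≫ u₂)
    (φ₃ : A H ⟶ A G) (w₃ : sA H ≫ φ₃ = sA G) (hφ₃ : P H φ₃ w₃ = can G ≫ (u₁ * u₂))
    (x : A H) (hx : x ∈ maximalIdeal (A H)) :
    φ₃.hom x - (φ₁.hom x + φ₂.hom x) ∈ maximalIdeal (A G) ^ 2 := by
  have hu₃ : η[G] ≫ (u₁ * u₂) = η[H] := by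
    rw [MonObj.comp_mul, hu₁, hu₂, eta_eq_one, _root_.one_mul]
  have a₁ := stalkHom_aug₂ u₁ hu₁ φ₁ w₁ hφ₁
  have a₂ := stalkHom_aug₂ u₂ hu₂ φ₂ w₂ hφ₂
  have a₃ := stalkHom_aug₂ (u₁ * u₂) hu₃ φ₃ w₃ hφ₃
  have hy : φ₃.hom x - (φ₁.hom x + φ₂.hom x) ∈ maximalIdeal (A G) :=
    sub_mem (stalkHom_mem φ₃ a₃ x hx)
      (add_mem (stalkHom_mem φ₁ a₁ x hx) (stalkHom_mem φ₂ a₂ x hx))
  rw [← Ideal.toCotangent_eq_zero _ ⟨_, hy⟩]
  rw [← Module.forall_dual_apply_eq_zero_iff (ResidueField (A G))]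
  intro v'
  set v := TanVec.ofDual (G := G) v' with hv
  have hmul : (push φ₃ w₃ a₃ v).pt = (push φ₁ w₁ a₁ v).pt * (push φ₂ w₂ a₂ v).pt := by
    rw [push_pt _ φ₃ w₃ hφ₃, push_pt _ φ₁ w₁ hφ₁, push_pt _ φ₂ w₂ hφ₂, MonObj.comp_mul]
  have e3 := TanVec.snd_mul _ _ _ hmul x
  have e3' : (v.hom.hom (φ₃.hom x)).snd = (v.hom.hom (φ₁.hom x)).snd + (v.hom.hom (φ₂.hom x)).snd :=
    e3
  have e4 : (v.hom.hom (φ₃.hom x - (φ₁.hom x + φ₂.hom x))).snd = 0 := by
    rw [map_sub, map_add, TrivSqZeroExt.snd_sub, TrivSqZeroExt.snd_add, e3', sub_self]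
  have e5 := TanVec.ofDual_snd_of_mem v' ⟨_, hy⟩
  rw [← hv, e4] at e5
  exact (map_eq_zero_iff _ (RingHom.injective _)).mp e5.symm

lemma isLocalHom_of_aug (φ : A H ⟶ A G) (haug : φ ≫ εA G = εA H) : IsLocalHom φ.hom := by
  refine ⟨fun a ha => ?_⟩
  have h1 : IsUnit ((εA G).hom (φ.hom a)) := ha.map _
  have h2 : (εA G).hom (φ.hom a) = (εA H).hom a := by
    have := congrArg (fun h => h.hom a) haug
    simpa using this
  rw [h2] at h1
  exact isUnit_of_map_unit (εA H).hom a h1

lemma residue_surjective_of_aug (φ : A H ⟶ A G) [IsLocalHom φ.hom] (w : sA H ≫ φ = sA G) :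
    Function.Surjective (ResidueField.map φ.hom) := by
  intro r
  obtain ⟨a, rfl⟩ := IsLocalRing.residue_surjective r
  refine ⟨IsLocalRing.residue _ ((sA H).hom ((εA G).hom a)), ?_⟩
  rw [ResidueField.map_residue]
  have h1 : φ.hom ((sA H).hom ((εA G).hom a)) = (sA G).hom ((εA G).hom a) := by
    have := congrArg (fun h => h.hom ((εA G).hom a)) w
    simpa using this
  rw [h1]
  symm
  rw [← sub_eq_zero, ← map_sub, IsLocalRing.residue_eq_zero_iff, mem_maximalIdeal_iff, map_sub,
    εA_sA_apply, sub_self]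

end General


section Unram

variable {k : Type u} [Field k] {G H : Over (Spec (CommRingCat.of k))} [GrpObj G] [GrpObj H]
  [LocallyOfFiniteType G.hom] [LocallyOfFiniteType H.hom]

theorem formallyUnramified_of_map_maximalIdeal (f : G ⟶ H) [IsMonHom f] (φ : A H ⟶ A G)
    (w : sA H ≫ φ = sA G) (hφ : P H φ w = can G ≫ f)
    (hmap : (maximalIdeal (A H)).map φ.hom = maximalIdeal (A G)) :
    FormallyUnramified f.left := by
  have hu : η[G] ≫ f = η[H] := IsMonHom.one_hom f
  have hlft : LocallyOfFiniteType f.left := by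
    have : LocallyOfFiniteType (f.left ≫ H.hom) := by rw [Over.w f]; infer_instance
    exact locallyOfFiniteType_of_comp f.left H.hom
  have hφspec : Spec.map φ ≫ H.left.fromSpecStalk (unitPt H) =
      G.left.fromSpecStalk (unitPt G) ≫ f.left := by
    have := congrArg (fun f => f.left) hφ
    simpa [P] using this
  have key : ∀ (y : H.left) (hy : y = unitPt H) (ψ : H.left.presheaf.stalk y ⟶ A G)
      (_ : IsLocalHom ψ.hom)
      (_ : Spec.map ψ ≫ H.left.fromSpecStalk y = G.left.fromSpecStalk (unitPt G) ≫ f.left),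
      ψ.hom.EssFiniteType → ψ.hom.FormallyUnramified := by
    intro y hy ψ _ hψ hess
    subst hy
    have hψφ : ψ = φ := hom_eq_of_SpecMap_comp_fromSpecStalk (unitPt H) (hψ.trans hφspec.symm)
    subst hψφ
    have hsurj := residue_surjective_of_aug ψ w
    algebraize [ψ.hom]
    haveI : IsLocalHom (algebraMap (A H) (A G)) := by
      rw [RingHom.algebraMap_toAlgebra]; infer_instance
    haveI : Algebra.IsSeparable (ResidueField (A H)) (ResidueField (A G)) := by
      refine ⟨fun x => ?_⟩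
      obtain ⟨y, rfl⟩ := hsurj x
      exact isSeparable_algebraMap y
    have h := Algebra.FormallyUnramified.of_map_maximalIdeal (R := A H) (S := A G) hmap
    rw [← RingHom.formallyUnramified_algebraMap, RingHom.algebraMap_toAlgebra] at h
    exact h
  have hue : f.left (unitPt G) = unitPt H := by
    unfold unitPt
    change (η[G].left ≫ f.left) (closedPoint k) = _
    rw [← Over.comp_left, hu]
  have h2 := key (f.left (unitPt G)) hue (f.left.stalkMap (unitPt G)) inferInstance
    (Scheme.SpecMap_stalkMap_fromSpecStalk f.left) (LocallyOfFiniteType.stalkMap f.left _)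
  obtain ⟨U, hU, hUf⟩ := exists_nhd_formallyUnramified_of_stalkMap f.left (unitPt G) h2
  exact formallyUnramified_of_unit k G H f (closedPoint k) ⟨U, hU, hUf⟩

end Unram


section Etale

variable {k : Type u} [Field k]

lemma lqf_of_unramified {X Y : Scheme.{u}} (f : X ⟶ Y) [FormallyUnramified f]
    [LocallyOfFiniteType f] : LocallyQuasiFinite f := by
  refine ⟨fun {U} hU {V} hV e => ?_⟩
  have h1 : (f.appLE U V e).hom.FormallyUnramified :=
    HasRingHomProperty.appLE (P := @FormallyUnramified) _ inferInstance ⟨U, hU⟩ ⟨V, hV⟩ e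
  have h2 : (f.appLE U V e).hom.FiniteType := f.finiteType_appLE hU hV e
  algebraize [(f.appLE U V e).hom]
  have : Algebra.EssFiniteType Γ(Y, U) Γ(X, V) := inferInstance
  exact (inferInstance : Algebra.QuasiFinite Γ(Y, U) Γ(X, V))

theorem flat_of_formallyUnramified {X Y : Scheme.{u}} (p : X ⟶ Spec (.of k))
    (q : Y ⟶ Spec (.of k)) [Smooth p] [Smooth q] [IrreducibleSpace X] [IrreducibleSpace Y]
    (hdim : topologicalKrullDim X = topologicalKrullDim Y)
    (f : X ⟶ Y) (hf : f ≫ q = p) [FormallyUnramified f] : Flat f := by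
  haveI : LocallyOfFiniteType (f ≫ q) := by rw [hf]; infer_instance
  haveI hlft : LocallyOfFiniteType f := locallyOfFiniteType_of_comp f q
  haveI : LocallyQuasiFinite f := lqf_of_unramified f
  have hres : resTrdegNat f (genericPoint X) = 0 := by
    have h1 := (quasiFiniteAt_iff_fibreDimAt_le_zero f (genericPoint X)).mp
      (f.quasiFiniteAt (genericPoint X))
    have h2 := (resTrdegNat_le_fibreDimAt f (genericPoint X)).trans h1
    have h3 : resTrdegNat f (genericPoint X) ≤ 0 := by exact_mod_cast h2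
    omega
  have hgen := map_genericPoint_of_resTrdegNat_eq_zero p q hdim f hf hres
  exact flat_of_locallyQuasiFinite_of_smooth p q f hf hgen

end Etale

section Nak

variable {R : Type*} [CommRing R] [IsLocalRing R] [IsNoetherianRing R]

/-- Nakayama: an ideal `I ≤ 𝔪` with `𝔪 ≤ I + 𝔪²` equals `𝔪`. -/
lemma eq_maximalIdeal_of_le_sup_sq (I : Ideal R) (hI : I ≤ maximalIdeal R)
    (h : maximalIdeal R ≤ I ⊔ maximalIdeal R ^ 2) : I = maximalIdeal R := by
  refine le_antisymm hI ?_
  apply Submodule.le_of_le_smul_of_le_jacobson_bot (I := maximalIdeal R)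
    (IsNoetherian.noetherian _) (IsLocalRing.maximalIdeal_le_jacobson _)
  rw [smul_eq_mul, ← pow_two]
  exact h

end Nak


section Cot

variable {R : Type*} [CommRing R] [IsLocalRing R] [IsNoetherianRing R]

/-- In a noetherian local ring with cotangent space of dimension `≤ 1`, an ideal strictly smaller
than the maximal ideal is contained in its square. -/
lemma le_sq_of_ne_maximalIdeal
    (hfin : Module.finrank (ResidueField R) (CotangentSpace R) ≤ 1)
    (I : Ideal R) (hI : I ≤ maximalIdeal R) (hne : I ≠ maximalIdeal R) :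
    I ≤ maximalIdeal R ^ 2 := by
  intro x hxI
  by_contra hx2
  apply hne
  apply eq_maximalIdeal_of_le_sup_sq I hI
  have hxm : x ∈ maximalIdeal R := hI hxI
  have hx0 : (maximalIdeal R).toCotangent ⟨x, hxm⟩ ≠ 0 := by
    rw [Ne, Ideal.toCotangent_eq_zero]
    exact hx2
  obtain ⟨v, hv⟩ := (finrank_le_one_iff (K := ResidueField R) (V := CotangentSpace R)).mp hfin
  obtain ⟨c₀, hc₀⟩ := hv ((maximalIdeal R).toCotangent ⟨x, hxm⟩)
  have hc₀ne : c₀ ≠ 0 := by
    rintro rfl
    rw [zero_smul] at hc₀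
    exact hx0 hc₀.symm
  intro y hy
  obtain ⟨c₁, hc₁⟩ := hv ((maximalIdeal R).toCotangent ⟨y, hy⟩)
  obtain ⟨a, ha⟩ := IsLocalRing.residue_surjective (c₁ * c₀⁻¹)
  have h1 : (maximalIdeal R).toCotangent ⟨y, hy⟩ =
      (maximalIdeal R).toCotangent (a • (⟨x, hxm⟩ : maximalIdeal R)) := by
    rw [map_smul, ← hc₁, ← hc₀, ← IsScalarTower.algebraMap_smul (ResidueField R) a (c₀ • v),
      IsLocalRing.ResidueField.algebraMap_eq, ha, smul_smul, _root_.mul_assoc, inv_mul_cancel₀ hc₀ne,
      _root_.mul_one]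
  have h2 : y - a * x ∈ maximalIdeal R ^ 2 := by
    have h3 := sub_eq_zero.mpr h1
    rw [← map_sub, Ideal.toCotangent_eq_zero] at h3
    exact h3
  have h4 : y = a * x + (y - a * x) := by ring
  rw [h4]
  exact Ideal.add_mem _ (Ideal.mem_sup_left (Ideal.mul_mem_left _ _ hxI)) (Ideal.mem_sup_right h2)

end Cot

section Transport

variable {k : Type u} [Field k] {G H : Over (Spec (CommRingCat.of k))} [GrpObj G] [GrpObj H]

/-- identify the abstract stalk hom with the stalk map of the underlying morphism of schemes -/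
theorem stalkHom_transport (f : G ⟶ H) (hu : η[G] ≫ f = η[H]) (φ : A H ⟶ A G)
    (w : sA H ≫ φ = sA G) (hφ : P H φ w = can G ≫ f)
    (Q : ∀ (y : H.left), (H.left.presheaf.stalk y ⟶ A G) → Prop) :
    Q (f.left (unitPt G)) (f.left.stalkMap (unitPt G)) ↔ Q (unitPt H) φ := by
  have hφspec : Spec.map φ ≫ H.left.fromSpecStalk (unitPt H) =
      G.left.fromSpecStalk (unitPt G) ≫ f.left := by
    have := congrArg (fun f => f.left) hφ
    simpa [P] using this
  have key : ∀ (y : H.left) (hy : y = unitPt H) (ψ : H.left.presheaf.stalk y ⟶ A G)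
      (_ : Spec.map ψ ≫ H.left.fromSpecStalk y = G.left.fromSpecStalk (unitPt G) ≫ f.left),
      Q y ψ ↔ Q (unitPt H) φ := by
    intro y hy ψ hψ
    subst hy
    have hψφ : ψ = φ := hom_eq_of_SpecMap_comp_fromSpecStalk (unitPt H) (hψ.trans hφspec.symm)
    subst hψφ
    exact Iff.rfl
  have hue : f.left (unitPt G) = unitPt H := by
    unfold unitPt
    change (η[G].left ≫ f.left) (closedPoint k) = _
    rw [← Over.comp_left, hu]
  exact key (f.left (unitPt G)) hue (f.left.stalkMap (unitPt G))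
    (Scheme.SpecMap_stalkMap_fromSpecStalk f.left)

theorem map_maximalIdeal_of_formallyUnramified [LocallyOfFiniteType H.hom] [LocallyOfFiniteType G.hom]
    (f : G ⟶ H) (hu : η[G] ≫ f = η[H])
    (φ : A H ⟶ A G) (w : sA H ≫ φ = sA G) (hφ : P H φ w = can G ≫ f)
    [FormallyUnramified f.left] :
    (maximalIdeal (A H)).map φ.hom = maximalIdeal (A G) := by
  have hlft : LocallyOfFiniteType f.left := by
    have : LocallyOfFiniteType (f.left ≫ H.hom) := by rw [Over.w f]; infer_instance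
    exact locallyOfFiniteType_of_comp f.left H.hom
  have h1 := (stalkHom_transport f hu φ w hφ
    (fun y ψ => ψ.hom.FormallyUnramified ∧ ψ.hom.EssFiniteType)).mp
    ⟨FormallyUnramified.stalkMap f.left _, LocallyOfFiniteType.stalkMap f.left _⟩
  obtain ⟨h2, h3⟩ := h1
  haveI := isLocalHom_of_aug φ (stalkHom_aug₂ f hu φ w hφ)
  algebraize [φ.hom]
  haveI : IsLocalHom (algebraMap (A H) (A G)) := by
    rw [RingHom.algebraMap_toAlgebra]; infer_instance
  haveI : Algebra.EssFiniteType (A H) (A G) := by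
    rw [← RingHom.essFiniteType_algebraMap, RingHom.algebraMap_toAlgebra]
    exact h3
  haveI : Algebra.FormallyUnramified (A H) (A G) := by
    rw [← RingHom.formallyUnramified_algebraMap, RingHom.algebraMap_toAlgebra]
    exact h2
  exact Algebra.FormallyUnramified.map_maximalIdeal (R := A H) (S := A G)

end Transport


section Main

variable {k : Type u} [Field k] {G H : Over (Spec (CommRingCat.of k))} [GrpObj G] [GrpObj H]

/-- a homomorphism of irreducible smooth group schemes of the same dimension which is unramified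
at the unit (in the sense that `𝔪_H · 𝒪_{G,e} = 𝔪_G`) is étale -/
theorem etale_of_map_maximalIdeal [Smooth G.hom] [Smooth H.hom] [IrreducibleSpace G.left]
    [IrreducibleSpace H.left] (hdim : topologicalKrullDim G.left = topologicalKrullDim H.left)
    (f : G ⟶ H) [IsMonHom f] (φ : A H ⟶ A G)
    (w : sA H ≫ φ = sA G) (hφ : P H φ w = can G ≫ f)
    (hmap : (maximalIdeal (A H)).map φ.hom = maximalIdeal (A G)) :
    Etale f.left := by
  haveI : LocallyOfFiniteType G.hom := inferInstance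
  haveI : LocallyOfFiniteType H.hom := inferInstance
  haveI := formallyUnramified_of_map_maximalIdeal f φ w hφ hmap
  haveI := flat_of_formallyUnramified G.hom H.hom hdim f.left (Over.w f)
  haveI : LocallyOfFiniteType (f.left ≫ H.hom) := by rw [Over.w f]; infer_instance
  haveI hlft : LocallyOfFiniteType f.left := locallyOfFiniteType_of_comp f.left H.hom
  haveI : IsLocallyNoetherian H.left := LocallyOfFiniteType.isLocallyNoetherian H.hom
  exact Etale.of_formallyUnramified_of_flat f.left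

theorem map_mul_eq [Smooth G.hom] [Smooth H.hom]
    (u₁ u₂ : G ⟶ H) (hu₁ : η[G] ≫ u₁ = η[H]) (hu₂ : η[G] ≫ u₂ = η[H])
    (φ₁ : A H ⟶ A G) (w₁ : sA H ≫ φ₁ = sA G) (hφ₁ : P H φ₁ w₁ = can G ≫ u₁)
    (φ₂ : A H ⟶ A G) (w₂ : sA H ≫ φ₂ = sA G) (hφ₂ : P H φ₂ w₂ = can G ≫ u₂)
    (φ₃ : A H ⟶ A G) (w₃ : sA H ≫ φ₃ = sA G) (hφ₃ : P H φ₃ w₃ = can G ≫ (u₁ * u₂))
    (h1 : (maximalIdeal (A H)).map φ₁.hom = maximalIdeal (A G))
    (h2 : (maximalIdeal (A H)).map φ₂.hom ≤ maximalIdeal (A G) ^ 2) :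
    (maximalIdeal (A H)).map φ₃.hom = maximalIdeal (A G) := by
  haveI : IsLocallyNoetherian G.left := LocallyOfFiniteType.isLocallyNoetherian G.hom
  have hu₃ : η[G] ≫ (u₁ * u₂) = η[H] := by
    rw [MonObj.comp_mul, hu₁, hu₂, eta_eq_one, _root_.one_mul]
  have a₃ := stalkHom_aug₂ (u₁ * u₂) hu₃ φ₃ w₃ hφ₃
  apply eq_maximalIdeal_of_le_sup_sq
  · rw [Ideal.map_le_iff_le_comap]
    intro x hx
    exact stalkHom_mem φ₃ a₃ x hx
  · rw [← h1, Ideal.map_le_iff_le_comap]
    intro x hx
    rw [Ideal.mem_comap]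
    have e := stalkHom_mul_spec u₁ u₂ hu₁ hu₂ φ₁ w₁ hφ₁ φ₂ w₂ hφ₂ φ₃ w₃ hφ₃ x hx
    have e2 : φ₂.hom x ∈ maximalIdeal (A G) ^ 2 := h2 (Ideal.mem_map_of_mem _ hx)
    have e3 : φ₁.hom x = φ₃.hom x + (-(φ₃.hom x - (φ₁.hom x + φ₂.hom x)) - φ₂.hom x) := by ring
    rw [h1, e3]
    exact Ideal.add_mem _ (Ideal.mem_sup_left (Ideal.mem_map_of_mem _ hx))
      (Ideal.mem_sup_right (sub_mem (neg_mem e) e2))

end Main



/-- Let `k` be an algebraically closed field and `E₁`, `E₂` elliptic curves over `k`, i.e. group schemes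
over `Spec k` whose underlying schemes are proper, smooth, integral and one-dimensional. If `φ, φ' :
E₁ → E₂` are homomorphisms with `φ` finite, surjective and étale (a separable isogeny) and `φ'` not
étale (the zero homomorphism or an inseparable isogeny), then their sum under the group law of `E₂`
— the composite of `(φ, φ')` with the multiplication of `E₂` — is finite, surjective and étale, i.e.
again a separable isogeny. (The published statement is for arbitrary morphisms `φ, φ'` and takes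
`φ'` inseparable; this row takes homomorphisms, the case its proof treats — a morphism of elliptic
curves is a homomorphism followed by a translation, which changes neither the hypotheses nor the
conclusion — and allows `φ'` to be the zero map, that case being immediate.) -/
theorem result (k : Type u) [Field k] [IsAlgClosed k]
    (E₁ E₂ : Over (Spec (CommRingCat.of k)))
    [GrpObj E₁] [IsProper E₁.hom] [Smooth E₁.hom] [IsIntegral E₁.left] (hE₁ : topologicalKrullDim E₁.left = 1)
    [GrpObj E₂] [IsProper E₂.hom] [Smooth E₂.hom] [IsIntegral E₂.left] (hE₂ : topologicalKrullDim E₂.left = 1)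
    (φ φ' : E₁ ⟶ E₂) [IsMonHom φ] [IsMonHom φ'] [IsFinite φ.left] [Surjective φ.left] [Etale φ.left]
    (hφ' : ¬ Etale φ'.left) :
    IsFinite (φ * φ').left ∧ Surjective (φ * φ').left ∧ Etale (φ * φ').left := by
  have hdim : topologicalKrullDim E₁.left = topologicalKrullDim E₂.left := hE₁.trans hE₂.symm
  haveI : LocallyOfFiniteType E₁.hom := inferInstance
  haveI : LocallyOfFiniteType E₂.hom := inferInstance
  haveI : IsLocallyNoetherian E₁.left := LocallyOfFiniteType.isLocallyNoetherian E₁.hom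
  haveI : IrreducibleSpace E₁.left := inferInstance
  haveI : IrreducibleSpace E₂.left := inferInstance
  -- commutativity of `E₂`
  haveI : GeometricallyConnected E₂.hom :=
    Groth.Agent.Lib.Helper19.geometricallyConnected_of_section E₂.hom η[E₂].left
      (Over.w η[E₂])
  haveI : GeometricallyIntegral E₂.hom := geometricallyIntegral_of_smooth E₂.hom
  haveI : IsCommMonObj E₂ := isCommMonObj_of_isProper_of_geometricallyIntegral E₂
  haveI : IsMonHom (φ * φ') := isMonHom_mul' φ φ'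
  -- stalk homs
  have hu₁ : η[E₁] ≫ φ = η[E₂] := IsMonHom.one_hom φ
  have hu₂ : η[E₁] ≫ φ' = η[E₂] := IsMonHom.one_hom φ'
  have hu₃ : η[E₁] ≫ (φ * φ') = η[E₂] := IsMonHom.one_hom (φ * φ')
  obtain ⟨φ₁, w₁, hφ₁⟩ := exists_stalkHom₂ φ hu₁
  obtain ⟨φ₂, w₂, hφ₂⟩ := exists_stalkHom₂ φ' hu₂
  obtain ⟨φ₃, w₃, hφ₃⟩ := exists_stalkHom₂ (φ * φ') hu₃
  have h1 : (maximalIdeal (A E₂)).map φ₁.hom = maximalIdeal (A E₁) :=
    map_maximalIdeal_of_formallyUnramified φ hu₁ φ₁ w₁ hφ₁
  -- the cotangent space of `E₁` at the unit has dimension `≤ 1`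
  have hfin : Module.finrank (ResidueField (A E₁)) (CotangentSpace (A E₁)) ≤ 1 := by
    haveI := Groth.Agent.Lib.Helper30.SmoothRegular.stalk_regular_of_smooth_field k E₁.hom
      (unitPt E₁)
    have e1 := (IsRegularLocalRing.iff_finrank_cotangentSpace (A E₁)).mp inferInstance
    have e2 := Groth.Agent.Lib.Helper36.DimLemmas.ringKrullDim_stalk_le_topologicalKrullDim
      E₁.left (unitPt E₁)
    rw [hE₁] at e2
    have e3 : ((Module.finrank (ResidueField (A E₁)) (CotangentSpace (A E₁)) : ℕ) :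
        WithBot ℕ∞) ≤ 1 := by
      rw [e1]; exact e2
    exact_mod_cast e3
  have a₂ := stalkHom_aug₂ φ' hu₂ φ₂ w₂ hφ₂
  have h2 : (maximalIdeal (A E₂)).map φ₂.hom ≤ maximalIdeal (A E₁) ^ 2 := by
    apply le_sq_of_ne_maximalIdeal hfin
    · rw [Ideal.map_le_iff_le_comap]
      intro x hx
      exact stalkHom_mem φ₂ a₂ x hx
    · intro hmap
      exact hφ' (etale_of_map_maximalIdeal hdim φ' φ₂ w₂ hφ₂ hmap)
  have h3 := map_mul_eq φ φ' hu₁ hu₂ φ₁ w₁ hφ₁ φ₂ w₂ hφ₂ φ₃ w₃ hφ₃ h1 h2
  haveI hEt : Etale (φ * φ').left := etale_of_map_maximalIdeal hdim (φ * φ') φ₃ w₃ hφ₃ h3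
  haveI : Flat (φ * φ').left := inferInstance
  haveI : Nonempty E₁.left := inferInstance
  haveI hSurj : Surjective (φ * φ').left :=
    surjective_of_flat_of_isProper E₁.hom E₂.hom (φ * φ').left (Over.w (φ * φ'))
  haveI : IsProper ((φ * φ').left ≫ E₂.hom) := by rw [Over.w (φ * φ')]; infer_instance
  haveI : IsProper (φ * φ').left := IsProper.of_comp (φ * φ').left E₂.hom
  haveI : LocallyQuasiFinite (φ * φ').left := lqf_of_unramified _
  exact ⟨IsFinite.of_isProper_of_locallyQuasiFinite _, hSurj, hEt⟩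


end Groth.Agent.S12627
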