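import Groth.Statements.S4805
import Groth.Agent.Lib.Helper50.LimStageLoc
import Groth.Agent.Lib.Helper50.LimStageFP
import Mathlib.AlgebraicGeometry.Morphisms.IsIso

set_option autoImplicit false
universe u
open CategoryTheory AlgebraicGeometry
open Lim8

namespace Groth.Agent.S4805

/-- Let S = lim S_i be a cofiltered limit of schemes with affine transition maps and S_{i₀} a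
quasi-compact stage; let Y₀ ⟶ S_{i₀} be of finite type and quasi-separated, X₀ ⟶ S_{i₀} of finite
presentation (locally of finite presentation, quasi-compact and quasi-separated), f₀ : X₀ ⟶ Y₀ an
S_{i₀}-morphism, and f : X ⟶ Y its base change along S ⟶ S_{i₀} (base changes are expressed by
pullback squares). If f is an isomorphism, then for some index j over i₀ the base change f_j : X_j ⟶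
Y_j of f₀ along S_j ⟶ S_{i₀} is an isomorphism. (Note the hypotheses: the stage S_{i₀} is only
assumed quasi-compact, and Y₀ only of finite type and quasi-separated over it.) -/
theorem result {I : Type u} [SmallCategory I] [IsCofiltered I]
    (D : I ⥤ Scheme.{u}) (c : Limits.Cone D) (hc : Limits.IsLimit c)
    [∀ (i j : I) (f : i ⟶ j), IsAffineHom (D.map f)] (i₀ : I) [CompactSpace (D.obj i₀)]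
    {X₀ Y₀ : Scheme.{u}} (f₀ : X₀ ⟶ Y₀) (g₀ : Y₀ ⟶ D.obj i₀)
    [LocallyOfFiniteType g₀] [QuasiCompact g₀] [QuasiSeparated g₀]
    [LocallyOfFinitePresentation (f₀ ≫ g₀)] [QuasiCompact (f₀ ≫ g₀)] [QuasiSeparated (f₀ ≫ g₀)]
    {X Y : Scheme.{u}} (f : X ⟶ Y) (g : Y ⟶ c.pt) (qY : Y ⟶ Y₀) (qX : X ⟶ X₀)
    (hY : IsPullback qY g g₀ (c.π.app i₀)) (hX : IsPullback qX f f₀ qY) [IsIso f] :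
    ∃ (j : I) (φ : j ⟶ i₀) (Xj Yj : Scheme.{u}) (fj : Xj ⟶ Yj) (gj : Yj ⟶ D.obj j) (pY : Yj ⟶ Y₀)
      (pX : Xj ⟶ X₀), IsPullback pY gj g₀ (D.map φ) ∧ IsPullback pX fj f₀ pY ∧ IsIso fj := by
  open Groth.Agent.Lib.Helper50 Groth.Agent.Lib.Helper50.StageSetup Limits in
  have : LocallyOfFinitePresentation f₀ := locallyOfFinitePresentation_of_comp f₀ g₀
  have hWtop : ⨆ a, ((D.obj i₀).affineCover.finiteSubcover.f a).opensRange = ⊤ :=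
    (D.obj i₀).affineCover.finiteSubcover.iSup_opensRange
  have hV : ⨆ a, g₀ ⁻¹ᵁ ((D.obj i₀).affineCover.finiteSubcover.f a).opensRange = ⊤ := by
    rw [← Scheme.Hom.preimage_iSup, hWtop]; rfl
  refine exists_stage D i₀ f₀ g₀ (MorphismProperty.isomorphisms Scheme.{u}) ?_
  refine exists_stage_of_openCover D i₀ f₀ g₀ (MorphismProperty.isomorphisms Scheme.{u})
    (fun a ↦ g₀ ⁻¹ᵁ ((D.obj i₀).affineCover.finiteSubcover.f a).opensRange) hV fun a ↦ ?_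
  generalize hWa : ((D.obj i₀).affineCover.finiteSubcover.f a).opensRange = W
  have hW : IsAffineOpen W := hWa ▸ isAffineOpen_opensRange _
  have : IsAffine W := hW
  have : CompactSpace ↥(g₀ ⁻¹ᵁ W).toScheme :=
    isCompact_iff_compactSpace.mp (QuasiCompact.isCompact_preimage (f := g₀) _ W.isOpen hW.isCompact)
  have : QuasiSeparatedSpace ↥(g₀ ⁻¹ᵁ W).toScheme := quasiSeparatedSpace_of_quasiSeparated (g₀ ∣_ W)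
  have : CompactSpace ↥(f₀ ⁻¹ᵁ (g₀ ⁻¹ᵁ W)).toScheme :=
    (isCompact_iff_compactSpace.mp (QuasiCompact.isCompact_preimage (f := f₀ ≫ g₀) _ W.isOpen
      hW.isCompact) : CompactSpace ↥((f₀ ≫ g₀) ⁻¹ᵁ W).toScheme)
  have hYa := isPullback_restrict_Y D c i₀ g₀ g qY hY (g₀ ⁻¹ᵁ W)
  have hXa := isPullback_morphismRestrict_of_isPullback hX (g₀ ⁻¹ᵁ W)
  have h1 := compactSpace_E D i₀ ((g₀ ⁻¹ᵁ W).ι ≫ g₀)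
  have h2 := quasiSeparatedSpace_E D i₀ ((g₀ ⁻¹ᵁ W).ι ≫ g₀)
  have h3 := compactSpace_F D i₀ (f₀ ∣_ (g₀ ⁻¹ᵁ W)) ((g₀ ⁻¹ᵁ W).ι ≫ g₀)
  have h5 := locallyOfFinitePresentation_τ D i₀ (f₀ ∣_ (g₀ ⁻¹ᵁ W)) ((g₀ ⁻¹ᵁ W).ι ≫ g₀)
  have hf0 : IsIso (f ∣_ (qY ⁻¹ᵁ (g₀ ⁻¹ᵁ W))) := inferInstance
  have hf' : IsIso
      (X := (cF D c i₀ (f₀ ∣_ (g₀ ⁻¹ᵁ W)) ((g₀ ⁻¹ᵁ W).ι ≫ g₀) (f ∣_ (qY ⁻¹ᵁ (g₀ ⁻¹ᵁ W)))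
        ((qY ⁻¹ᵁ (g₀ ⁻¹ᵁ W)).ι ≫ g) (qY ∣_ (g₀ ⁻¹ᵁ W)) _ hYa hXa).pt)
      (Y := (cE D c i₀ ((g₀ ⁻¹ᵁ W).ι ≫ g₀) ((qY ⁻¹ᵁ (g₀ ⁻¹ᵁ W)).ι ≫ g)
        (qY ∣_ (g₀ ⁻¹ᵁ W)) hYa).pt)
      (f ∣_ (qY ⁻¹ᵁ (g₀ ⁻¹ᵁ W))) := hf0
  obtain ⟨j, _, hj⟩ := exists_forall_isIso_app
    (τ D i₀ (f₀ ∣_ (g₀ ⁻¹ᵁ W)) ((g₀ ⁻¹ᵁ W).ι ≫ g₀))
    (cF D c i₀ (f₀ ∣_ (g₀ ⁻¹ᵁ W)) ((g₀ ⁻¹ᵁ W).ι ≫ g₀) (f ∣_ (qY ⁻¹ᵁ (g₀ ⁻¹ᵁ W)))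
        ((qY ⁻¹ᵁ (g₀ ⁻¹ᵁ W)).ι ≫ g) (qY ∣_ (g₀ ⁻¹ᵁ W)) _ hYa hXa)
    (hcF D c hc i₀ (f₀ ∣_ (g₀ ⁻¹ᵁ W)) ((g₀ ⁻¹ᵁ W).ι ≫ g₀) (f ∣_ (qY ⁻¹ᵁ (g₀ ⁻¹ᵁ W)))
        ((qY ⁻¹ᵁ (g₀ ⁻¹ᵁ W)).ι ≫ g) (qY ∣_ (g₀ ⁻¹ᵁ W)) _ hYa hXa)
    (cE D c i₀ ((g₀ ⁻¹ᵁ W).ι ≫ g₀) ((qY ⁻¹ᵁ (g₀ ⁻¹ᵁ W)).ι ≫ g) (qY ∣_ (g₀ ⁻¹ᵁ W)) hYa)
    (hcE D c hc i₀ ((g₀ ⁻¹ᵁ W).ι ≫ g₀) ((qY ⁻¹ᵁ (g₀ ⁻¹ᵁ W)).ι ≫ g) (qY ∣_ (g₀ ⁻¹ᵁ W)) hYa)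
    (f ∣_ (qY ⁻¹ᵁ (g₀ ⁻¹ᵁ W)))
    (hf D c i₀ (f₀ ∣_ (g₀ ⁻¹ᵁ W)) ((g₀ ⁻¹ᵁ W).ι ≫ g₀) (f ∣_ (qY ⁻¹ᵁ (g₀ ⁻¹ᵁ W)))
        ((qY ⁻¹ᵁ (g₀ ⁻¹ᵁ W)).ι ≫ g) (qY ∣_ (g₀ ⁻¹ᵁ W)) _ hYa hXa)
    (fun φ ↦ isPullback_τ D i₀ (f₀ ∣_ (g₀ ⁻¹ᵁ W)) ((g₀ ⁻¹ᵁ W).ι ≫ g₀) φ) (Over.mk (𝟙 i₀))
  exact ⟨j, fun k ψ ↦ hj k ψ⟩

end Groth.Agent.S4805
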