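import Groth.Statements.S9690
import Groth.Agent.Lib.Helper69.NormUniv

set_option autoImplicit false
universe u
open CategoryTheory CategoryTheory.Limits AlgebraicGeometry
open Mor

namespace Groth.Agent.S9690

open AlgebraicGeometry CategoryTheory CategoryTheory.Limits
open Groth.Agent.Lib.Helper69.NormUniv

lemma closure_mem_irreducibleComponents {Z : Scheme.{u}} (z₀ : Z) (h : IsMaxPt z₀) :
    closure ({z₀} : Set Z) ∈ irreducibleComponents ↥Z := by
  refine ⟨isIrreducible_singleton.closure, fun T hT hle => ?_⟩
  have hgen := hT.isGenericPoint_genericPoint_closure
  set t := hT.genericPoint with ht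
  have hz₀ : z₀ ∈ closure T := subset_closure (hle (subset_closure (Set.mem_singleton z₀)))
  have hspec : t ⤳ z₀ := by
    rw [specializes_iff_mem_closure, hgen.def]; exact hz₀
  have : t = z₀ := h t hspec
  calc T ⊆ closure T := subset_closure
    _ = closure {t} := hgen.def.symm
    _ = closure {z₀} := by rw [this]


/-- Part (4): for an integral scheme X: let g : Z ⟶ X be a morphism from a normal scheme Z such that
every irreducible component of Z dominates X, i.e. every generic point of an irreducible component
of Z maps to the generic point of X. Then g factors uniquely through the normalization X^ν ⟶ X. (The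
published statement allows X with locally finitely many irreducible components; this row takes X
integral.) (The quasi-compactness and quasi-separatedness binders on Spec K(X) ⟶ X always hold; they
are only needed to form the normalization.) -/
theorem result (X : Scheme.{u}) [IsIntegral X] [QuasiCompact (X.fromSpecStalk (genericPoint ↥X))] [QuasiSeparated (X.fromSpecStalk (genericPoint ↥X))]
    {Z : Scheme.{u}} (g : Z ⟶ X) (hZ : Pi1.IsNormalScheme Z)
    (hdom : ∀ z : Z, closure {z} ∈ irreducibleComponents ↥Z → g.base z = genericPoint ↥X) :
    ∃! h : Z ⟶ Curv2.normalization X, h ≫ Curv2.normalizationι X = g := by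
  have hmax : ∀ z₀ : Z, IsMaxPt z₀ → g z₀ = genericPoint X := fun z₀ h =>
    hdom z₀ (closure_mem_irreducibleComponents z₀ h)
  obtain ⟨h, hh⟩ := hom_exists g hZ hmax
  refine ⟨h, hh, fun h' hh' => ?_⟩
  exact hom_unique g hZ hmax h' h hh' hh


end Groth.Agent.S9690
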