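import Groth.Statements.S5048
import Groth.Agent.S9690

set_option autoImplicit false
open CategoryTheory AlgebraicGeometry
universe u
open Unram

namespace Groth.Agent.S5048

open AlgebraicGeometry CategoryTheory CategoryTheory.Limits
open Groth.Agent.Lib.Helper69.NormUniv

/-- no specialisations inside a fibre of a locally quasi-finite morphism -/
theorem eq_of_specializes_of_fibre {X Y : Scheme.{u}} (f : X ⟶ Y) [LocallyQuasiFinite f]
    {ζ ξ : X} (h : ζ ⤳ ξ) (hf : f ζ = f ξ) : ζ = ξ := by
  have hd := f.isDiscrete_preimage_singleton (f ξ)
  have hζm : ζ ∈ f ⁻¹' {f ξ} := hf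
  have hξm : ξ ∈ f ⁻¹' {f ξ} := rfl
  have h1 : (⟨ζ, hζm⟩ : f ⁻¹' {f ξ}) ⤳ ⟨ξ, hξm⟩ :=
    (Topology.IsInducing.subtypeVal.specializes_iff).mp h
  haveI : DiscreteTopology (f ⁻¹' {f ξ}) := hd.to_subtype
  have := h1.eq
  exact congrArg Subtype.val this

/-- a point over the generic point is a maximal point -/
theorem isMaxPt_of_generic {X Y : Scheme.{u}} [IrreducibleSpace ↥Y] (f : X ⟶ Y)
    [LocallyQuasiFinite f] {x : X} (hx : f x = genericPoint Y) : IsMaxPt x := by
  intro x' hx'
  apply eq_of_specializes_of_fibre f hx'
  have h2 : f x' ⤳ f x := hx'.map f.continuous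
  rw [hx] at h2 ⊢
  exact (h2.antisymm (genericPoint_specializes _)).eq

/-- the generic point of an irreducible component is a maximal point -/
theorem isMaxPt_of_mem_irreducibleComponents {X : Scheme.{u}} {x : X}
    (h : closure ({x} : Set X) ∈ irreducibleComponents ↥X) : IsMaxPt x := by
  intro x' hx'
  have hle : closure ({x} : Set X) ⊆ closure {x'} := by
    apply closure_minimal _ isClosed_closure
    rw [Set.singleton_subset_iff]
    exact hx'.mem_closure
  have h2 := h.2 (isIrreducible_singleton.closure) hle
  have : x' ∈ closure ({x} : Set X) := h2 (subset_closure rfl)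
  have h3 : x ⤳ x' := specializes_iff_mem_closure.mpr this
  exact (hx'.antisymm h3).eq


/-- Let Y be an irreducible scheme with generic point η and f : X ⟶ Y flat, locally of finite type and
locally quasi-finite. Then a point x of X maps to η if and only if its closure is an irreducible
component of X; thus the irreducible components of X are in canonical bijection with the fibre over
η. -/
theorem result {X Y : Scheme.{u}} [IrreducibleSpace ↥Y] (f : X ⟶ Y)
    [Flat f] [LocallyOfFiniteType f] [LocallyQuasiFinite f] (x : X) :
    f.base x = genericPoint Y ↔ closure ({x} : Set ↥X) ∈ irreducibleComponents ↥X := by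
  constructor
  · intro hx
    exact Groth.Agent.S9690.closure_mem_irreducibleComponents x (isMaxPt_of_generic f hx)
  · intro h
    have hmax := isMaxPt_of_mem_irreducibleComponents h
    have hg := Flat.generalizingMap f
    obtain ⟨ξ, h1, h2⟩ := hg (genericPoint_specializes (f x))
    have := hmax ξ h1
    rw [← this]; exact h2


end Groth.Agent.S5048
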