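import Groth.Statements.S5049
import Groth.Agent.S5048

set_option autoImplicit false
open CategoryTheory AlgebraicGeometry
universe u
open Unram

namespace Groth.Agent.S5049

open AlgebraicGeometry CategoryTheory CategoryTheory.Limits
open Groth.Agent.Lib.Helper69.NormUniv

/-- a flat morphism maps maximal points to maximal points -/
theorem isMaxPt_map {X Y : Scheme.{u}} (f : X ⟶ Y) [Flat f] {x : X} (hx : IsMaxPt x) :
    IsMaxPt (f x) := by
  intro y' hy'
  have hg := Flat.generalizingMap f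
  obtain ⟨ξ, h1, h2⟩ := hg hy'
  have := hx ξ h1
  rw [← this]; exact h2.symm

theorem finite_closure_mem {Y : Type*} [TopologicalSpace Y] [T0Space Y] {B : Set (Set Y)}
    (hB : B.Finite) : {y : Y | closure ({y} : Set Y) ∈ B}.Finite := by
  apply Set.Finite.preimage (f := fun y : Y => closure ({y} : Set Y)) _ hB
  intro y _ y' _ h
  exact ((inseparable_iff_closure_eq).mpr h).eq

theorem finite_inter_preimage {X Y : Scheme.{u}} (f : X ⟶ Y) [LocallyQuasiFinite f]
    {V : Y.Opens} (hV : IsAffineOpen V) {W : X.Opens} (hW : IsAffineOpen W) (e : W ≤ f ⁻¹ᵁ V)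
    {E : Set Y} (hE : E.Finite) : ((W : Set X) ∩ f ⁻¹' E).Finite := by
  haveI : IsAffine V.toScheme := hV
  haveI : IsAffine W.toScheme := hW
  haveI : LocallyQuasiFinite (f.resLE V W e) := IsZariskiLocalAtSource.resLE (P := @LocallyQuasiFinite) e inferInstance
  have h1 : ((Subtype.val : V → Y) ⁻¹' E).Finite :=
    hE.preimage (Subtype.val_injective.injOn)
  have h2 := (f.resLE V W e).finite_preimage h1
  apply (h2.image (Subtype.val : W → X)).subset
  rintro x ⟨hxW, hxE⟩
  refine ⟨⟨x, hxW⟩, ?_, rfl⟩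
  have h := Scheme.Hom.resLE_comp_ι f e
  have h3 : V.ι ((f.resLE V W e) ⟨x, hxW⟩) = f (W.ι ⟨x, hxW⟩) := by
    rw [← Scheme.Hom.comp_apply, h, Scheme.Hom.comp_apply]
  change V.ι ((f.resLE V W e) ⟨x, hxW⟩) ∈ E
  rw [h3]; exact hxE


/-- Let f : X ⟶ Y be flat, locally of finite type and locally quasi-finite. If the irreducible
components of Y form a locally finite family of subsets, then so do the irreducible components of X. -/
theorem result {X Y : Scheme.{u}} (f : X ⟶ Y)
    [Flat f] [LocallyOfFiniteType f] [LocallyQuasiFinite f]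
    (hY : LocallyFinite (fun Z : ↥(irreducibleComponents ↥Y) => (Z : Set ↥Y))) :
    LocallyFinite (fun Z : ↥(irreducibleComponents ↥X) => (Z : Set ↥X)) := by
  intro x
  obtain ⟨t, ht, hfin⟩ := hY (f x)
  obtain ⟨V₀, hV₀t, hV₀o, hxV₀⟩ := mem_nhds_iff.mp ht
  obtain ⟨V, hV, hxV, hVV₀⟩ := exists_isAffineOpen_mem_and_subset (X := Y) (x := f x)
    (U := ⟨V₀, hV₀o⟩) hxV₀
  obtain ⟨W, hW, hxW, hWV⟩ := exists_isAffineOpen_mem_and_subset (X := X) (x := x)
    (U := f ⁻¹ᵁ V) hxV
  have e : W ≤ f ⁻¹ᵁ V := hWV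
  refine ⟨(W : Set X), W.isOpen.mem_nhds hxW, ?_⟩
  set A : Set ↥(irreducibleComponents ↥Y) := {T | ((T : Set Y) ∩ t).Nonempty} with hA
  set B : Set (Set Y) := Subtype.val '' A with hB
  have hBfin : B.Finite := hfin.image _
  set E : Set Y := {y : Y | closure ({y} : Set Y) ∈ B} with hE
  have hEfin : E.Finite := finite_closure_mem hBfin
  have hFfin := finite_inter_preimage f hV hW e hEfin
  apply Set.Finite.of_finite_image (f := Subtype.val) _ Subtype.val_injective.injOn
  apply (hFfin.image (fun ξ : X => closure ({ξ} : Set X))).subset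
  rintro _ ⟨Z, hZ, rfl⟩
  have hZ' : ((Z : Set X) ∩ (W : Set X)).Nonempty := hZ
  have hZirr : IsIrreducible (Z : Set X) := Z.2.1
  have hZcl : IsClosed (Z : Set X) := isClosed_of_mem_irreducibleComponents _ Z.2
  obtain ⟨ξ, hξ⟩ := QuasiSober.sober hZirr hZcl
  have hξW : ξ ∈ (W : Set X) := (hξ.mem_open_set_iff W.isOpen).mpr hZ'
  have hξZ : closure ({ξ} : Set X) = Z := hξ.def
  have hmax : IsMaxPt ξ := by
    apply Groth.Agent.S5048.isMaxPt_of_mem_irreducibleComponents
    rw [hξZ]; exact Z.2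
  have hmax' := isMaxPt_map f hmax
  have hcomp := Groth.Agent.S9690.closure_mem_irreducibleComponents _ hmax'
  refine ⟨ξ, ⟨hξW, ?_⟩, hξZ⟩
  show closure ({f ξ} : Set Y) ∈ B
  refine ⟨⟨_, hcomp⟩, ?_, rfl⟩
  show ((closure ({f ξ} : Set Y)) ∩ t).Nonempty
  refine ⟨f ξ, subset_closure rfl, hV₀t (hVV₀ (e hξW))⟩


end Groth.Agent.S5049
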