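import Groth.Statements.S1131
-- import your own Groth.Agent.* helpers here
import Mathlib.AlgebraicGeometry.Sites.Fpqc
import Mathlib.Tactic

set_option autoImplicit false
open CategoryTheory CategoryTheory.Limits AlgebraicGeometry Opposite
universe u
open Desc

namespace Groth.Agent.S1131

/-- If p : X ⟶ S is surjective, flat and quasi-compact, then the functor sending a scheme over S to its
canonical descent datum relative to p is full. (Faithfulness, which needs no quasi-compactness, is a
companion statement.) (Descent data are taken in functor-of-points form, equivalent by the Yoneda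
lemma to the usual form of an isomorphism over X ×_S X satisfying the cocycle condition.) -/
theorem result {X S : Scheme.{u}} (p : X ⟶ S) [Surjective p] [Flat p] [QuasiCompact p] :
    (Desc.toDD p).Full := by
  refine ⟨fun {U U'} β => ?_⟩
  let φ : pullback p U.hom ⟶ pullback p U'.hom := β.hom.left
  have hβfst : φ ≫ pullback.fst p U'.hom = pullback.fst p U.hom := Over.w β.hom
  let ψ : pullback p U.hom ⟶ U'.left := φ ≫ pullback.snd p U'.hom
  have hψ : ∀ {Z : Scheme.{u}} (g₁ g₂ : Z ⟶ pullback p U.hom),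
      g₁ ≫ pullback.snd p U.hom = g₂ ≫ pullback.snd p U.hom → g₁ ≫ ψ = g₂ ≫ ψ := by
    intro Z g₁ g₂ hg
    have h : (g₁ ≫ pullback.fst p U.hom) ≫ p = (g₂ ≫ pullback.fst p U.hom) ≫ p := by
      rw [Category.assoc, Category.assoc, pullback.condition, ← Category.assoc, ← Category.assoc, hg]
    let v : Lifts ((Desc.toDD p).obj U).obj (g₁ ≫ pullback.fst p U.hom) := ⟨g₁, rfl⟩
    have hw : (g₁ ≫ φ) ≫ pullback.fst p U'.hom = g₁ ≫ pullback.fst p U.hom := by
      rw [Category.assoc, hβfst]
    let w : Lifts ((Desc.toDD p).obj U').obj (g₁ ≫ pullback.fst p U.hom) := ⟨g₁ ≫ φ, hw⟩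
    have hc : (((Desc.toDD p).obj U').φ (g₁ ≫ pullback.fst p U.hom) (g₂ ≫ pullback.fst p U.hom) h w).1
        = (((Desc.toDD p).obj U).φ (g₁ ≫ pullback.fst p U.hom) (g₂ ≫ pullback.fst p U.hom) h v).1 ≫ φ :=
      β.comm (g₁ ≫ pullback.fst p U.hom) (g₂ ≫ pullback.fst p U.hom) h v w rfl
    have h1 : (((Desc.toDD p).obj U).φ (g₁ ≫ pullback.fst p U.hom) (g₂ ≫ pullback.fst p U.hom) h v).1
        = g₂ := by
      apply pullback.hom_ext
      · exact pullback.lift_fst _ _ _
      · exact (pullback.lift_snd _ _ _).trans hg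
    have h2 : (((Desc.toDD p).obj U').φ (g₁ ≫ pullback.fst p U.hom) (g₂ ≫ pullback.fst p U.hom) h w).1
        ≫ pullback.snd p U'.hom = (g₁ ≫ φ) ≫ pullback.snd p U'.hom :=
      pullback.lift_snd _ _ _
    rw [h1] at hc
    calc g₁ ≫ ψ = (g₁ ≫ φ) ≫ pullback.snd p U'.hom := (Category.assoc _ _ _).symm
      _ = (g₂ ≫ φ) ≫ pullback.snd p U'.hom :=
        h2.symm.trans (congrArg (fun t => t ≫ pullback.snd p U'.hom) hc)
      _ = g₂ ≫ ψ := Category.assoc _ _ _
  let b : U.left ⟶ U'.left := EffectiveEpi.desc (pullback.snd p U.hom) ψ hψ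
  have hb : pullback.snd p U.hom ≫ b = ψ := EffectiveEpi.fac _ _ _
  have hover : b ≫ U'.hom = U.hom := by
    have : Epi (pullback.snd p U.hom) := Flat.epi_of_flat_of_surjective _
    rw [← cancel_epi (pullback.snd p U.hom), ← Category.assoc, hb]
    change (φ ≫ pullback.snd p U'.hom) ≫ U'.hom = _
    rw [Category.assoc, ← pullback.condition, ← Category.assoc, hβfst, pullback.condition]
  have key : ((Desc.toDD p).map (Over.homMk b hover : U ⟶ U')).hom.left = φ := by
    apply pullback.hom_ext
    · refine (pullback.lift_fst _ _ _).trans ?_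
      exact (Category.comp_id _).trans hβfst.symm
    · refine (pullback.lift_snd _ _ _).trans ?_
      exact hb
  exact ⟨Over.homMk b hover, Desc.SchDD.hom_ext (Over.OverMorphism.ext key)⟩

end Groth.Agent.S1131
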