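import Groth.Statements.S7291
import Mathlib
import Groth.Agent.Lib.Helper50.LimBC

set_option autoImplicit false
open CategoryTheory CategoryTheory.Limits AlgebraicGeometry Opposite
universe w u
open HTop

namespace Groth.Agent.S7291


/-- (⇒) If a `V`-algebra `C` maps to a local ring `W` such that `V → W` is injective and local,
then no relation `s (1 + a) = 0` with `s ≠ 0`, `a ∈ 𝔪 C` holds in `C`. -/
theorem no_relation_of_hom {V C W : Type*} [CommRing V] [IsLocalRing V] [CommRing C]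
    [CommRing W] [IsLocalRing W] (ι : V →+* C) (ρ : C →+* W)
    (hinj : Function.Injective (ρ.comp ι)) (hloc : IsLocalHom (ρ.comp ι))
    (s : V) (hs : s ≠ 0) (a : C) (ha : a ∈ (IsLocalRing.maximalIdeal V).map ι) :
    ι s * (1 + a) ≠ 0 := by
  intro h0
  have h1 : ρ (ι s) * (1 + ρ a) = 0 := by
    have := congrArg ρ h0
    simpa using this
  have h2 : ρ a ∈ IsLocalRing.maximalIdeal W := by
    have h3 : ρ a ∈ ((IsLocalRing.maximalIdeal V).map ι).map ρ := Ideal.mem_map_of_mem ρ ha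
    rw [Ideal.map_map] at h3
    have := hloc
    exact IsLocalRing.map_maximalIdeal_le (ρ.comp ι) h3
  have h4 : IsUnit (1 + ρ a) := by
    rcases IsLocalRing.isUnit_or_isUnit_of_add_one (a := 1 + ρ a) (b := -ρ a) (by ring) with h | h
    · exact h
    · exact absurd (by simpa using h) ((IsLocalRing.mem_maximalIdeal _).mp h2)
  have h5 : ρ (ι s) = 0 := (h4.mul_left_eq_zero).mp h1
  exact hs (hinj (by simpa using h5))

/-- (⇐) If no relation `s (1 + a) = 0` with `s ≠ 0`, `a ∈ 𝔪 C` holds in the `V`-algebra `C`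
(`V` a valuation ring), then `C` maps to a valuation ring `W` with `V → W` injective and local. -/
theorem exists_valuationRing_of_no_relation {V C : Type u} [CommRing V] [IsDomain V]
    [ValuationRing V] [CommRing C] (ι : V →+* C)
    (h : ∀ s : V, s ≠ 0 → ∀ a ∈ (IsLocalRing.maximalIdeal V).map ι, ι s * (1 + a) ≠ 0) :
    ∃ (W : Type u) (_ : CommRing W) (_ : IsDomain W) (_ : ValuationRing W) (ρ : C →+* W),
      Function.Injective (ρ.comp ι) ∧ IsLocalHom (ρ.comp ι) := by
  classical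
  let m := (IsLocalRing.maximalIdeal V).map ι
  let M : Submonoid C :=
    { carrier := {x | ∃ s : V, s ≠ 0 ∧ ∃ a ∈ m, x = ι s * (1 + a)}
      one_mem' := ⟨1, one_ne_zero, 0, m.zero_mem, by simp⟩
      mul_mem' := by
        rintro x y ⟨s, hs, a, ha, rfl⟩ ⟨t, ht, b, hb, rfl⟩
        refine ⟨s * t, mul_ne_zero hs ht, a + b + a * b,
          m.add_mem (m.add_mem ha hb) (m.mul_mem_left _ hb), ?_⟩
        rw [map_mul]; ring }
  have hM0 : Disjoint ((⊥ : Ideal C) : Set C) M := by
    rw [Set.disjoint_left]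
    rintro x hx ⟨s, hs, a, ha, rfl⟩
    exact h s hs a ha (by simpa using hx)
  obtain ⟨q', hq'prime, -, hq'M⟩ := Ideal.exists_le_prime_disjoint ⊥ M hM0
  rw [Set.disjoint_left] at hq'M
  have hJ : q' ⊔ m ≠ ⊤ := by
    intro htop
    have h1 : (1 : C) ∈ q' ⊔ m := by rw [htop]; trivial
    obtain ⟨x, hx, a, ha, hxa⟩ := Submodule.mem_sup.mp h1
    refine hq'M hx ⟨1, one_ne_zero, -a, m.neg_mem ha, ?_⟩
    rw [map_one, one_mul, ← hxa]; ring
  obtain ⟨q, hqmax, hJq⟩ := Ideal.exists_le_maximal _ hJ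
  have hq'q : q' ≤ q := le_sup_left.trans hJq
  have hmq : m ≤ q := le_sup_right.trans hJq
  have : q.IsPrime := hqmax.isPrime
  let K := FractionRing (C ⧸ q')
  let f0 : C →+* K := (algebraMap (C ⧸ q') K).comp (Ideal.Quotient.mk q')
  have hf0 : ∀ x : C, f0 x = 0 ↔ x ∈ q' := by
    intro x
    simp only [f0, RingHom.comp_apply]
    rw [map_eq_zero_iff _ (IsFractionRing.injective (C ⧸ q') K), Ideal.Quotient.eq_zero_iff_mem]
  have hunits : ∀ y : q.primeCompl, IsUnit (f0 y) := by
    intro y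
    rw [isUnit_iff_ne_zero, Ne, hf0]
    exact fun hy => y.2 (hq'q hy)
  let f : Localization.AtPrime q →+* K := IsLocalization.lift hunits
  obtain ⟨A, hA, hAloc⟩ := IsLocalRing.exists_factor_valuationRing f
  let ρ : C →+* A := (f.codRestrict A.toSubring hA).comp (algebraMap C (Localization.AtPrime q))
  have hρ : ∀ x : C, ((ρ x : A) : K) = f0 x := by
    intro x
    simp [ρ, f]
  refine ⟨A, inferInstance, inferInstance, inferInstance, ρ, ?_, ⟨?_⟩⟩
  · rw [injective_iff_map_eq_zero]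
    intro v hv
    by_contra hv0
    have h1 : f0 (ι v) = 0 := by
      rw [← hρ]
      have : ρ (ι v) = 0 := hv
      rw [this]; rfl
    exact hq'M ((hf0 _).mp h1) ⟨v, hv0, 0, m.zero_mem, by simp⟩
  · intro v hv
    by_contra hvu
    have hvm : v ∈ IsLocalRing.maximalIdeal V := (IsLocalRing.mem_maximalIdeal _).mpr hvu
    have h1 : ι v ∈ q := hmq (Ideal.mem_map_of_mem ι hvm)
    have h2 : IsUnit (algebraMap C (Localization.AtPrime q) (ι v)) := hAloc.map_nonunit _ hv
    have h3 : algebraMap C (Localization.AtPrime q) (ι v) ∈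
        IsLocalRing.maximalIdeal (Localization.AtPrime q) := by
      rw [← Localization.AtPrime.map_eq_maximalIdeal]
      exact Ideal.mem_map_of_mem _ h1
    exact (IsLocalRing.mem_maximalIdeal _).mp h3 h2


attribute [local instance] IsCofiltered.isConnected

open Groth.Agent.Lib.Helper50 in
/-- The key limit argument: the valuation-ring lifting property for the limit. -/
theorem hasValLift_of_forall {Y : Scheme.{u}} [IsAffine Y]
    {I : Type u} [SmallCategory I] [IsCofiltered I] (D : I ⥤ Over Y) [∀ i, IsAffine (D.obj i).left]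
    (c : Cone D) (hc : IsLimit ((Over.forget Y).mapCone c))
    (H : ∀ i, HTop.HasValLift (PreZeroHypercover.singleton.{w} (D.obj i).hom)) :
    HTop.HasValLift (PreZeroHypercover.singleton.{w} c.pt.hom) := by
  intro V _ _ g
  have haff0 : ∀ i, IsAffine ((D ⋙ Over.forget Y).obj i) :=
    fun i => inferInstanceAs (IsAffine (D.obj i).left)
  have hXaff : IsAffine c.pt.left := Scheme.isAffine_of_isLimit _ hc
  -- the diagram in `Scheme`
  let D' : I ⥤ Scheme.{u} := D ⋙ Over.forget Y
  let c' : Cone D' := (Over.forget Y).mapCone c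
  let β : ∀ j, D'.obj j ⟶ Y := fun j => (D.obj j).hom
  have hβ : ∀ {j k : I} (φ : j ⟶ k), D'.map φ ≫ β k = β j := fun φ => Over.w (D.map φ)
  have hb : ∀ j, c'.π.app j ≫ β j = c.pt.hom := fun j => Over.w (c.π.app j)
  have haffD' : ∀ j, IsAffine (D'.obj j) := fun j => inferInstanceAs (IsAffine (D.obj j).left)
  let f : c.pt.left ⟶ Y := c.pt.hom
  -- base change to `Spec V`
  let DZ : I ⥤ Scheme.{u} := bcDiagram D' β hβ g
  let cZ : Cone DZ := bcCone D' β hβ g c' f hb (pullback.fst g f) (pullback.snd g f)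
    pullback.condition
  have hcZ : IsLimit cZ := isLimitBcCone D' β hβ g c' f hb (pullback.fst g f) (pullback.snd g f)
    hc (IsPullback.of_hasPullback g f)
  have haffDZ : ∀ j, IsAffine (DZ.obj j) := fun j =>
    inferInstanceAs (IsAffine (pullback g (β j)))
  have haffZ : IsAffine cZ.pt := inferInstanceAs (IsAffine (pullback g f))
  -- the `V`-algebra structures
  let fstj : ∀ j, DZ.obj j ⟶ Spec V := fun j => pullback.fst g (β j)
  let fstZ : cZ.pt ⟶ Spec V := pullback.fst g f
  let ιj : ∀ j, V ⟶ Γ(DZ.obj j, ⊤) := fun j => (Scheme.ΓSpecIso V).inv ≫ (fstj j).appTop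
  let ιZ : V ⟶ Γ(cZ.pt, ⊤) := (Scheme.ΓSpecIso V).inv ≫ fstZ.appTop
  have hπι : ∀ j, ιj j ≫ (cZ.π.app j).appTop = ιZ := by
    intro j
    have h1 : cZ.π.app j ≫ fstj j = fstZ :=
      bcConeπ_fst D' β g c' f hb (pullback.fst g f) (pullback.snd g f) pullback.condition j
    simp only [ιj, ιZ, Category.assoc, ← Scheme.Hom.comp_appTop, h1]
  have htι : ∀ {j k : I} (φ : j ⟶ k), ιj k ≫ (DZ.map φ).appTop = ιj j := by
    intro j k φ
    have h1 : DZ.map φ ≫ fstj k = fstj j :=
      bcDiagram_map_fst D' β hβ g φ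
    simp only [ιj, Category.assoc, ← Scheme.Hom.comp_appTop, h1]
  have hπt : ∀ {j k : I} (φ : j ⟶ k), (DZ.map φ).appTop ≫ (cZ.π.app j).appTop
      = (cZ.π.app k).appTop := by
    intro j k φ
    rw [← Scheme.Hom.comp_appTop, cZ.w φ]
  let m := IsLocalRing.maximalIdeal V
  have hmap_t : ∀ {j k : I} (φ : j ⟶ k) (a : Γ(DZ.obj k, ⊤)), a ∈ m.map (ιj k).hom →
      (DZ.map φ).appTop.hom a ∈ m.map (ιj j).hom := by
    intro j k φ a ha
    have h1 := Ideal.mem_map_of_mem (DZ.map φ).appTop.hom ha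
    rw [Ideal.map_map, ← CommRingCat.hom_comp, htι φ] at h1
    exact h1
  -- Claim 1: elements of `𝔪 Γ(Z)` come from some stage
  have claim1 : ∀ a : Γ(cZ.pt, ⊤), a ∈ m.map ιZ.hom →
      ∃ (j : I) (a' : Γ(DZ.obj j, ⊤)), a' ∈ m.map (ιj j).hom ∧ (cZ.π.app j).appTop.hom a' = a := by
    intro a ha
    induction ha using Submodule.span_induction with
    | mem x hx =>
      obtain ⟨v, hv, rfl⟩ := hx
      obtain ⟨j⟩ := IsCofiltered.nonempty (C := I)
      refine ⟨j, (ιj j).hom v, Ideal.mem_map_of_mem _ hv, ?_⟩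
      rw [← hπι j]; rfl
    | zero =>
      obtain ⟨j⟩ := IsCofiltered.nonempty (C := I)
      exact ⟨j, 0, Ideal.zero_mem _, map_zero _⟩
    | add x y _ _ hx hy =>
      obtain ⟨j, x', hx', rfl⟩ := hx
      obtain ⟨k, y', hy', rfl⟩ := hy
      refine ⟨IsCofiltered.min j k, (DZ.map (IsCofiltered.minToLeft j k)).appTop.hom x' +
        (DZ.map (IsCofiltered.minToRight j k)).appTop.hom y',
        Ideal.add_mem _ (hmap_t _ _ hx') (hmap_t _ _ hy'), ?_⟩
      rw [map_add, ← CommRingCat.comp_apply, ← CommRingCat.comp_apply, hπt, hπt]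
    | smul r x _ hx =>
      obtain ⟨j, x', hx', rfl⟩ := hx
      obtain ⟨k, r', rfl⟩ := exists_appTop_π_eq_of_isAffine_of_isLimit DZ cZ hcZ r
      refine ⟨IsCofiltered.min k j, (DZ.map (IsCofiltered.minToLeft k j)).appTop.hom r' *
        (DZ.map (IsCofiltered.minToRight k j)).appTop.hom x',
        Ideal.mul_mem_left _ _ (hmap_t _ _ hx'), ?_⟩
      rw [map_mul, ← CommRingCat.comp_apply, ← CommRingCat.comp_apply, hπt, hπt]
      rfl
  -- no relation at the limit
  have hnorel : ∀ s : V, s ≠ 0 → ∀ a ∈ m.map ιZ.hom, ιZ.hom s * (1 + a) ≠ 0 := by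
    intro s hs a ha h0
    obtain ⟨j, a', ha', rfl⟩ := claim1 a ha
    have h1 : (cZ.π.app j).appTop.hom ((ιj j).hom s * (1 + a')) = 0 := by
      rw [map_mul, map_add, map_one, ← h0, ← hπι j]; rfl
    obtain ⟨k, φ, hk⟩ := exists_appTop_map_eq_zero_of_isAffine_of_isLimit DZ cZ hcZ j _ h1
    have h2 : (ιj k).hom s * (1 + (DZ.map φ).appTop.hom a') = 0 := by
      rw [← hk, map_mul, map_add, map_one, ← htι φ]; rfl
    -- use the lift at stage `k`
    obtain ⟨W, hWd, hWv, φk, ⟨hinj, hloc⟩, _, g', hg'⟩ := H k V g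
    have hg'' : Spec.map φk ≫ g = g' ≫ β k := hg'.symm
    let u : Spec W ⟶ DZ.obj k := pullback.lift (Spec.map φk) g' hg''
    let ρ : Γ(DZ.obj k, ⊤) ⟶ W := u.appTop ≫ (Scheme.ΓSpecIso W).hom
    have hρι : ιj k ≫ ρ = φk := by
      have h3 : u ≫ fstj k = Spec.map φk := pullback.lift_fst _ _ _
      simp only [ιj, ρ, Category.assoc]
      rw [← Scheme.Hom.comp_appTop_assoc, h3, Scheme.ΓSpecIso_naturality, Iso.inv_hom_id_assoc]
    have hρι' : ρ.hom.comp (ιj k).hom = φk.hom := by
      rw [← CommRingCat.hom_comp, hρι]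
    exact no_relation_of_hom (ιj k).hom ρ.hom (by rw [hρι']; exact hinj)
      (by rw [hρι']; exact hloc) s hs _ (hmap_t φ a' ha') h2
  -- build the valuation ring at the limit
  obtain ⟨W, hWr, hWd, hWv, ρ, hinj, hloc⟩ := exists_valuationRing_of_no_relation ιZ.hom hnorel
  let W' : CommRingCat.{u} := CommRingCat.of W
  let ρ' : Γ(cZ.pt, ⊤) ⟶ W' := CommRingCat.ofHom ρ
  let sndZ : cZ.pt ⟶ c.pt.left := pullback.snd g f
  refine ⟨W', hWd, hWv, ιZ ≫ ρ', ⟨hinj, hloc⟩, PUnit.unit,
    Spec.map ρ' ≫ (Scheme.isoSpec cZ.pt).inv ≫ sndZ, ?_⟩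
  change (Spec.map ρ' ≫ (Scheme.isoSpec cZ.pt).inv ≫ sndZ) ≫ f = _
  have hnat : Spec.map fstZ.appTop ≫ Spec.map (Scheme.ΓSpecIso V).inv
      = (Scheme.isoSpec cZ.pt).inv ≫ fstZ := by
    rw [← Scheme.isoSpec_Spec_inv]
    exact Scheme.isoSpec_inv_naturality fstZ
  have hcond : sndZ ≫ f = fstZ ≫ g := pullback.condition.symm
  simp only [Category.assoc]
  rw [hcond, ← reassoc_of% hnat]
  simp only [ιZ, Spec.map_comp, Category.assoc]

/-- Let Y be an affine scheme and let X be the limit (as a scheme) of a cofiltered system of affine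
schemes X_i over Y. Then the one-member family X over Y is a standard V covering exactly when, for
every i, the one-member family X_i over Y is a standard V covering. -/
theorem result {Y : Scheme.{u}} [IsAffine Y]
    {I : Type u} [SmallCategory I] [IsCofiltered I] (D : I ⥤ Over Y) [∀ i, IsAffine (D.obj i).left]
    (c : Cone D) (hc : IsLimit ((Over.forget Y).mapCone c)) :
    HTop.IsStandardV (PreZeroHypercover.singleton.{w} c.pt.hom) ↔
      ∀ i, HTop.IsStandardV (PreZeroHypercover.singleton.{w} (D.obj i).hom) := by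
  constructor
  · intro h i
    refine ⟨inferInstance, inferInstanceAs (Finite PUnit), fun _ => ?_, ?_⟩
    · exact inferInstanceAs (IsAffine (D.obj i).left)
    · intro V _ _ g
      obtain ⟨W, hWd, hWv, φ, hφ, _, g', hg'⟩ := h.lift V g
      have hw : (c.π.app i).left ≫ (D.obj i).hom = c.pt.hom := Over.w (c.π.app i)
      let g'' : Spec W ⟶ c.pt.left := g'
      have hg'' : g'' ≫ c.pt.hom = Spec.map φ ≫ g := hg'
      refine ⟨W, hWd, hWv, φ, hφ, PUnit.unit, g'' ≫ (c.π.app i).left, ?_⟩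
      change (g'' ≫ (c.π.app i).left) ≫ (D.obj i).hom = _
      rw [Category.assoc, hw, hg'']
  · intro h
    refine ⟨inferInstance, inferInstanceAs (Finite PUnit), fun _ => ?_, ?_⟩
    · have haff0 : ∀ i, IsAffine ((D ⋙ Over.forget Y).obj i) :=
        fun i => inferInstanceAs (IsAffine (D.obj i).left)
      exact Scheme.isAffine_of_isLimit _ hc
    · exact hasValLift_of_forall D c hc (fun i => (h i).lift)

end Groth.Agent.S7291
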