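import Groth.Statements.S9384
import Groth.Agent.Lib.Helper48.Conormal9

set_option autoImplicit false
universe u
open OmegaSh

namespace Groth.Agent.S9384

open AlgebraicGeometry CategoryTheory Limits in
/-- Let i : Z → X be a quasi-compact immersion of schemes over S admitting a left inverse g : X → Z over
S. Then the canonical sequence 0 → C_{Z/X} → i^*Ω_{X/S} → Ω_{Z/S} → 0 is split exact (receptacle
form; the maps are pinned by their values on sections). (The published statement also covers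
immersions with only a local left inverse, where the sequence is locally split, and arbitrary
immersions; this row assumes a global left inverse over S and i quasi-compact. The case of a section
s of a morphism p : X → S, where Ω_{S/S} = 0 and the map C_{S/X} → s^*Ω_{X/S} is an isomorphism, is
the instance Z = S, i = s, g = p.) -/
theorem result {Z X S : Scheme.{u}} (f : X ⟶ S) (i : Z ⟶ X) [IsImmersion i] [QuasiCompact i]
    (g : X ⟶ Z) (hgi : i ≫ g = 𝟙 Z) (hgS : g ≫ i ≫ f = f)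
    (ΩX : X.Modules) (dX : OmegaSh.Der f ΩX) (hX : OmegaSh.IsUniversal dX)
    (ΩZ : Z.Modules) (dZ : OmegaSh.Der (i ≫ f) ΩZ) (hZ : OmegaSh.IsUniversal dZ)
    (φ : Omega.conormal i ⟶ (Scheme.Modules.pullback i).obj ΩX) (hφ : OmegaSh.IsConormalDiff i dX φ)
    (c : (Scheme.Modules.pullback i).obj ΩX ⟶ ΩZ) (hc : OmegaSh.IsDiffCompat i dX dZ c) :
    ∃ w : φ ≫ c = 0, (ShortComplex.mk φ c w).Exact ∧ (∃ r : (Scheme.Modules.pullback i).obj ΩX ⟶ Omega.conormal i, φ ≫ r = 𝟙 _) ∧
      ∃ σ : ΩZ ⟶ (Scheme.Modules.pullback i).obj ΩX, σ ≫ c = 𝟙 _ := by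
  classical
  let Pred : X.Opens → Prop := fun V => ∃ W : S.Opens, IsAffineOpen W ∧ V ≤ f ⁻¹ᵁ W
  have hB := Groth.Agent.Lib.Helper48.Conormal.isBasis_goodFor i Pred
    (fun x => Groth.Agent.Lib.Helper48.Conormal.exists_over_affine f (i x))
  have hepi : Epi c := by
    refine Groth.Agent.Lib.Helper48.Conormal.epi_of_basis c _ hB ?_
    rintro U ⟨V, hV, ⟨W, hW, hVW⟩, rfl⟩
    exact Groth.Agent.Lib.Helper48.Conormal.c_app_surjective f i dX dZ hZ c hc hV hW hVW
  have w : φ ≫ c = 0 := by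
    refine Groth.Agent.Lib.Helper48.Conormal.hom_ext_of_basis _ _ _ hB ?_
    rintro U ⟨V, hV, ⟨W, hW, hVW⟩, rfl⟩ s
    rw [Scheme.Modules.Hom.comp_app, Scheme.Modules.Hom.zero_app]
    exact Groth.Agent.Lib.Helper48.Conormal.φ_c_app f i dX dZ φ hφ c hc hV s
  have hex : (ShortComplex.mk φ c w).Exact := by
    refine Groth.Agent.Lib.Helper48.Conormal.exact_of_basis _ _ hB ?_
    rintro U ⟨V, hV, ⟨W, hW, hVW⟩, rfl⟩ y hy
    exact Groth.Agent.Lib.Helper48.Conormal.exact_app f i dX hX dZ hZ φ hφ c hc hV hW hVW y hy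
  obtain ⟨r', hr', -⟩ := hX _ (Groth.Agent.Lib.Helper48.Conormal.retrDer f i g hgi hgS)
  let r : (Scheme.Modules.pullback i).obj ΩX ⟶ Omega.conormal i :=
    ((Scheme.Modules.pullbackPushforwardAdjunction i).homEquiv ΩX (Omega.conormal i)).symm r'
  have hr : ∀ (W : X.Opens) (ω : Γ(ΩX, W)),
      r.app (i ⁻¹ᵁ W) (OmegaSh.pullSect i ΩX W ω) = r'.app W ω := by
    intro W ω
    have h1 := Groth.Agent.Lib.Helper48.OmegaAff.pullbackAdj_homEquiv_app i ΩX (Omega.conormal i) r W ω
    rw [Equiv.apply_symm_apply] at h1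
    exact h1.symm
  have hφr : φ ≫ r = 𝟙 _ := by
    refine Groth.Agent.Lib.Helper48.Conormal.hom_ext_of_basis _ _ _ hB ?_
    rintro U ⟨V, hV, -, rfl⟩ y
    obtain ⟨s, rfl⟩ := Groth.Agent.Lib.Helper48.Conormal.conormalSect_surjective i hV y
    rw [Scheme.Modules.Hom.comp_app, Scheme.Modules.Hom.id_app]
    change r.app (i ⁻¹ᵁ V) (φ.app (i ⁻¹ᵁ V) (OmegaSh.conormalSect i V s)) = _
    rw [hφ V s, hr]
    have h2 := PresheafOfModules.Derivation.congr_d hr' (X := Opposite.op V)
      (OmegaSh.idealSect i.ker V s)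
    exact h2.trans (Groth.Agent.Lib.Helper48.Conormal.rD_idealSect i g hgi V s)
  let spl := ShortComplex.Splitting.ofExactOfRetraction (ShortComplex.mk φ c w) hex r hφr hepi
  exact ⟨w, hex, ⟨r, hφr⟩, ⟨spl.s, spl.s_g⟩⟩

end Groth.Agent.S9384
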