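import Groth.Statements.S4533
import Groth.Agent.Lib.Helper61.FSAdic
import Groth.Agent.Lib.Helper61.MvPSIdeal

set_option autoImplicit false
universe u
open EGA41

namespace Groth.Agent.S4533

/-- Let A carry the 𝔞-adic topology and let B = A[[T_1, …, T_n]] carry the product topology, i.e. the
adic topology of the ideal 𝔞B + (T_1, …, T_n) (the kernel of the constant-coefficient map added to
the extension of 𝔞). Then B is a formally smooth A-algebra for these topologies. (The published
statement allows any linearly topologized base ring and any set of indeterminates with the product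
topology; this row takes an adic base and finitely many indeterminates, where the product topology
is adic.) -/
theorem result (A : Type u) [CommRing A] (𝔞 : Ideal A) (n : ℕ) :
    EGA41.IsFormallySmoothAdic A 𝔞 (MvPowerSeries (Fin n) A)
      (𝔞.map (MvPowerSeries.C : A →+* MvPowerSeries (Fin n) A) ⊔
        RingHom.ker (MvPowerSeries.constantCoeff : MvPowerSeries (Fin n) A →+* A)) := by
  classical
  rw [Groth.Agent.Lib.Helper61.FSAdic.ega_iff]
  intro D _ J hJ φ hφ u hu hcont
  obtain ⟨k, hk⟩ := hcont
  obtain ⟨m, hm⟩ := hJ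
  rw [Ideal.zero_eq_bot] at hm
  set 𝔫 : Ideal (MvPowerSeries (Fin n) A) :=
    𝔞.map (MvPowerSeries.C : A →+* MvPowerSeries (Fin n) A) ⊔
      RingHom.ker (MvPowerSeries.constantCoeff : MvPowerSeries (Fin n) A →+* A) with h𝔫
  -- the ideal generated by the variables lies in `𝔫`
  have hXle : Ideal.span (Set.range (MvPowerSeries.X : Fin n → MvPowerSeries (Fin n) A)) ≤ 𝔫 := by
    rw [Ideal.span_le]
    rintro _ ⟨i, rfl⟩
    apply Ideal.mem_sup_right
    rw [RingHom.mem_ker]
    exact MvPowerSeries.constantCoeff_X i
  -- lifts of the images of the variables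
  choose c hc using fun i : Fin n => Ideal.Quotient.mk_surjective (u (MvPowerSeries.X i))
  let M := k * (m + 1)
  have hkM : k ≤ M := Nat.le_mul_of_pos_right k (Nat.succ_pos m)
  have hK : (Ideal.span (Set.range c)) ^ M = ⊥ := by
    have h1 : ((Ideal.span (Set.range c)) ^ k).map (Ideal.Quotient.mk J) = ⊥ := by
      rw [Ideal.map_pow, Ideal.map_span, ← Set.range_comp]
      have : (Ideal.Quotient.mk J) ∘ c = u ∘ (MvPowerSeries.X : Fin n → MvPowerSeries (Fin n) A) :=
        funext hc
      rw [this, Set.range_comp, ← Ideal.map_span, ← Ideal.map_pow, eq_bot_iff]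
      rw [Ideal.map_le_iff_le_comap]
      intro x hx
      rw [Ideal.mem_comap, Ideal.mem_bot]
      exact hk x (Ideal.pow_right_mono hXle k hx)
    have h2 : (Ideal.span (Set.range c)) ^ k ≤ J := by
      intro x hx
      have : Ideal.Quotient.mk J x ∈ ((Ideal.span (Set.range c)) ^ k).map (Ideal.Quotient.mk J) :=
        Ideal.mem_map_of_mem _ hx
      rw [h1, Ideal.mem_bot] at this
      exact Ideal.Quotient.eq_zero_iff_mem.mp this
    rw [eq_bot_iff, pow_mul]
    calc (Ideal.span (Set.range c) ^ k) ^ (m + 1) ≤ J ^ (m + 1) := Ideal.pow_right_mono h2 _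
      _ ≤ J ^ m := Ideal.pow_le_pow_right (Nat.le_succ m)
      _ = ⊥ := hm
  let _ : Algebra A D := φ.toAlgebra
  let ψ : MvPolynomial (Fin n) A →ₐ[A] D := MvPolynomial.aeval c
  have hψ : ∀ p ∈ (MvPolynomial.idealOfVars (Fin n) A) ^ M, ψ p = 0 := by
    intro p hp
    have h1 : ((MvPolynomial.idealOfVars (Fin n) A) ^ M).map ψ.toRingHom = ⊥ := by
      rw [Ideal.map_pow, MvPolynomial.idealOfVars, Ideal.map_span, ← Set.range_comp]
      have : ψ.toRingHom ∘ (MvPolynomial.X : Fin n → MvPolynomial (Fin n) A) = c := by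
        funext i
        simp [ψ]
      rw [this, hK]
    have : ψ.toRingHom p ∈ ((MvPolynomial.idealOfVars (Fin n) A) ^ M).map ψ.toRingHom :=
      Ideal.mem_map_of_mem _ hp
    rw [h1, Ideal.mem_bot] at this
    exact this
  let ψbar : (MvPolynomial (Fin n) A ⧸ (MvPolynomial.idealOfVars (Fin n) A) ^ M) →ₐ[A] D :=
    Ideal.Quotient.liftₐ _ ψ hψ
  let t : MvPowerSeries (Fin n) A →ₐ[A]
      (MvPolynomial (Fin n) A ⧸ (MvPolynomial.idealOfVars (Fin n) A) ^ M) :=
    (MvPowerSeries.truncTotalAlgHom (Fin n) A M).restrictScalars A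
  let v : MvPowerSeries (Fin n) A →ₐ[A] D := ψbar.comp t
  have hv : ∀ f, v f = ψ (MvPowerSeries.truncTotal M f) := fun f => rfl
  -- comparison on polynomials
  have hpoly : ∀ p : MvPolynomial (Fin n) A,
      Ideal.Quotient.mk J (ψ p) = u (p : MvPowerSeries (Fin n) A) := by
    intro p
    have : (Ideal.Quotient.mk J).comp ψ.toRingHom =
        u.comp (MvPolynomial.coeToMvPowerSeries.ringHom) := by
      apply MvPolynomial.ringHom_ext
      · intro a
        have h1 := DFunLike.congr_fun hu a
        simp only [RingHom.comp_apply] at h1 ⊢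
        have h2 : ψ.toRingHom (MvPolynomial.C a) = φ a := by
          simp only [AlgHom.toRingHom_eq_coe, RingHom.coe_coe]
          rw [← MvPolynomial.algebraMap_eq, AlgHom.commutes]
          rfl
        rw [h2, ← h1]
        congr 1
        rw [MvPolynomial.coeToMvPowerSeries.ringHom_apply, MvPolynomial.coe_C]
        rfl
      · intro i
        simp only [RingHom.comp_apply]
        rw [MvPolynomial.coeToMvPowerSeries.ringHom_apply, MvPolynomial.coe_X, ← hc i]
        congr 1
        simp [ψ]
    exact DFunLike.congr_fun this p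
  refine ⟨v.toRingHom, ?_, ?_⟩
  · ext a
    exact v.commutes a
  · ext f
    simp only [RingHom.comp_apply]
    change Ideal.Quotient.mk J (v f) = u f
    rw [hv, hpoly]
    have hmem : f - ((MvPowerSeries.truncTotal M f : MvPolynomial (Fin n) A) :
        MvPowerSeries (Fin n) A) ∈ 𝔫 ^ k := by
      apply Ideal.pow_right_mono hXle k
      apply Ideal.pow_le_pow_right hkM
      apply Groth.Agent.Lib.Helper61.MvPSIdeal.mem_pow_span_X_of_coeff_eq_zero
      intro e he
      rw [map_sub, MvPolynomial.coeff_coe, MvPowerSeries.coeff_truncTotal _ he, sub_self]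
    have := hk _ hmem
    rw [map_sub, sub_eq_zero] at this
    exact this.symm

end Groth.Agent.S4533
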