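import Groth.Statements.S14436
import Mathlib.RingTheory.Etale.Kaehler
import Mathlib.RingTheory.Smooth.Field
import Mathlib.RingTheory.Kaehler.Polynomial
import Mathlib.LinearAlgebra.TensorProduct.Basis

set_option autoImplicit false
universe u
open CAlg

namespace Groth.Agent.S14436

/-- Let L/K be a finitely generated field extension which is separable in the sense that it has a
transcendence basis a_1, …, a_n over which L is a (finite) separable extension of K(a_1, …, a_n).
Then dim_L Ω_{L/K} = n, the transcendence degree of L over K. -/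
theorem result (K L : Type u) [Field K] [Field L] [Algebra K L]
    (hfg : ∃ s : Finset L, IntermediateField.adjoin K (s : Set L) = ⊤)
    (n : ℕ) (a : Fin n → L) (ha : IsTranscendenceBasis K a)
    (hsep : Algebra.IsSeparable ↥(IntermediateField.adjoin K (Set.range a)) L) :
    Module.finrank L (Ω[L⁄K]) = n := by
  classical
  let P := MvPolynomial (Fin n) K
  let A₀ := Algebra.adjoin K (Set.range a)
  let F := IntermediateField.adjoin K (Set.range a)
  let e : P ≃ₐ[K] A₀ := ha.1.aevalEquiv
  letI algPL : Algebra P L := (MvPolynomial.aeval a : P →ₐ[K] L).toRingHom.toAlgebra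
  have : IsScalarTower K P L :=
    IsScalarTower.of_algebraMap_eq' (MvPolynomial.aeval a : P →ₐ[K] L).comp_algebraMap.symm
  letI algPA : Algebra P A₀ := e.toAlgHom.toRingHom.toAlgebra
  have : IsScalarTower P A₀ L := IsScalarTower.of_algebraMap_eq fun x => by
    change MvPolynomial.aeval a x = algebraMap A₀ L (ha.1.aevalEquiv x)
    rw [AlgebraicIndependent.algebraMap_aevalEquiv]
  have : Algebra.FormallyEtale P A₀ := by
    let e' : P ≃ₐ[P] A₀ := AlgEquiv.ofRingEquiv (f := e.toRingEquiv) (fun x => rfl)
    exact Algebra.FormallyEtale.of_equiv e'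
  open scoped IntermediateField.algebraAdjoinAdjoin in
  have : Algebra.FormallyEtale A₀ F := Algebra.FormallyEtale.of_isLocalization (nonZeroDivisors A₀)
  have : Algebra.IsSeparable F L := hsep
  have : Algebra.FormallyEtale F L := Algebra.FormallyEtale.of_isSeparable F L
  open scoped IntermediateField.algebraAdjoinAdjoin in
  have : Algebra.FormallyEtale A₀ L := Algebra.FormallyEtale.comp A₀ F L
  have : Algebra.FormallyEtale P L := Algebra.FormallyEtale.comp P A₀ L
  let b₀ : Module.Basis (Fin n) P (Ω[P⁄K]) := KaehlerDifferential.mvPolynomialBasis K (Fin n)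
  let b₁ : Module.Basis (Fin n) L (TensorProduct P L (Ω[P⁄K])) := b₀.baseChange L
  let b₂ : Module.Basis (Fin n) L (Ω[L⁄K]) :=
    b₁.map (KaehlerDifferential.tensorKaehlerEquivOfFormallyEtale K P L)
  rw [Module.finrank_eq_card_basis b₂, Fintype.card_fin]

end Groth.Agent.S14436
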