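import Groth.Statements.S2469
import Groth.Agent.Lib.Helper97.CartierInduct
import Groth.Agent.Lib.Helper97.PthPower

set_option autoImplicit false
universe u
open EGA41

namespace Groth.Agent.S2469


open KaehlerDifferential in
theorem pthPowerHyp_int : Groth.Agent.Lib.Helper97.Cartier.PthPowerHyp.{u} ℤ := by
  intro E _ inst p _ _ a ha
  obtain rfl : inst = Ring.toIntAlgebra E := Subsingleton.elim _ _
  apply Groth.Agent.Lib.Helper97.PthPower.exists_pow_eq_of_forall_derivation p a
  intro d
  rw [← d.liftKaehlerDifferential_comp_D, ha, map_zero]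

/-- Let L be a finitely generated extension field of K. Then Ω_{L/K} and the imperfection module Υ_{L/K}
(kernel of Ω_{K/ℤ} ⊗_K L → Ω_{L/ℤ}) are finite-dimensional L-vector spaces and rank Ω_{L/K} − rank
Υ_{L/K} equals the transcendence degree of L over K. -/
theorem result {K L : Type u} [Field K] [Field L] [Algebra K L] [Algebra.EssFiniteType K L] :
    Module.Finite L (Ω[L⁄K]) ∧ Module.Finite L (EGA41.imperfection ℤ K L) ∧
      (Module.finrank L (Ω[L⁄K]) : ℤ) - Module.finrank L (EGA41.imperfection ℤ K L) = Cardinal.toNat (Algebra.trdeg K L) := by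
  have h := Groth.Agent.Lib.Helper97.Cartier.cartierData_of_essFiniteType ℤ L K
  refine ⟨h.good.finite_kaehler, h.good.ker, ?_⟩
  have hc := Groth.Agent.Lib.Helper97.Cartier.cind_eq ℤ K L
  have heq := h.eq pthPowerHyp_int
  rw [hc] at heq
  exact heq

end Groth.Agent.S2469
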