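import Groth.Statements.S9868
import Groth.Agent.Lib.Helper5.AtlasQuot
import Groth.Agent.Lib.Helper5.QuotShKernel

set_option autoImplicit false
universe u
open CategoryTheory CategoryTheory.Limits AlgebraicGeometry
open AlgSp

namespace Groth.Agent.S9868

/-- Let `s, t : R ⟶ U` be an etale equivalence relation on a scheme `U` over `S` (for every scheme `T`
over `S` the map from `T`-points of `R` to pairs of `T`-points of `U` is injective with image an
equivalence relation, and `s`, `t` are etale). Then the quotient sheaf `U/R` (the coequalizer of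
`h_s, h_t` in fppf sheaves of sets over `S`) is an algebraic space over `S`. -/
theorem result (S : Scheme.{u}) {R U : Over S} (s t : R ⟶ U)
    (h : AlgSp.IsEtaleEqvRel s t) :
    AlgSp.IsAlgSpace (QuotSh.quot Scheme.fppfPrecoverage s t) := by
  haveI : Etale s.left := h.etale_left
  haveI : Etale t.left := h.etale_right
  haveI : Surjective s.left := by
    obtain ⟨r, -, hr⟩ := (h.equivalence U).refl (𝟙 U)
    refine ⟨fun x => ⟨r.left.base x, ?_⟩⟩
    have := congrArg (fun f => f.left.base x) hr
    exact this
  exact Groth.Agent.Lib.Helper5.AtlasQuot.isAlgSpace_of_kernelPair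
    (Groth.Agent.Lib.Helper5.quotπ' s t) s t
    (Groth.Agent.Lib.Helper5.isPullback_quotπ' s t h.toIsEqvRel)

end Groth.Agent.S9868
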