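import Groth.Statements.S1127
import Groth.Agent.Lib.Lead.QAffDescent
import Groth.Agent.Lib.Helper7.QuasiAffine

set_option autoImplicit false
open CategoryTheory CategoryTheory.Limits AlgebraicGeometry Opposite
universe u
open Desc

namespace Groth.Agent.S1127

open Groth.Agent.Lib.Lead.QAffDescent MorphismProperty Groth.Agent.Lib.Helper7.QA

set_option backward.isDefEq.respectTransparency.types false in
theorem result :
    MorphismProperty.DescendsAlong (fun _ _ f => Mor2.IsQuasiAffine f : MorphismProperty Scheme.{u})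
      (@Surjective ⊓ @Flat ⊓ @QuasiCompact : MorphismProperty Scheme.{u}) := by
  change QAffHom.{u}.DescendsAlong _
  refine IsZariskiLocalAtTarget.descendsAlong_inf_quasiCompact _ _ ?_ ?_
  · rw [inf_comm]
    exact inf_le_inf le_rfl (IsLocalIso.le_of_isZariskiLocalAtSource _)
  · intro R S Y φ g hφ hfst
    obtain ⟨h1, h2⟩ := hφ
    haveI : Surjective (Spec.map φ) := h1
    haveI : Flat (Spec.map φ) := h2
    have hfst' : Mor2.IsQuasiAffine (pullback.fst (Spec.map φ) g) := hfst
    haveI : (pullback (Spec.map φ) g).IsQuasiAffine := isQuasiAffine_of_QAffHom _ hfst'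
    haveI : Y.IsQuasiAffine :=
      isQuasiAffine_of_isPullback φ g (pullback.snd (Spec.map φ) g) (pullback.fst (Spec.map φ) g)
        (IsPullback.of_hasPullback _ _).flip
    change Mor2.IsQuasiAffine g
    haveI : QuasiCompact g := by
      rw [HasAffineProperty.iff_of_isAffine (P := @QuasiCompact)]
      infer_instance
    refine ⟨inferInstance, fun V hV => ?_⟩
    haveI : CompactSpace ↥(g ⁻¹ᵁ V : Scheme.{u}) :=
      isCompact_iff_compactSpace.mp (g.isCompact_preimage hV.isCompact)
    exact Scheme.IsQuasiAffine.of_isImmersion (g ⁻¹ᵁ V).ι
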