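import Groth.Statements.S8255
-- import your own Groth.Agent.* helpers here

set_option autoImplicit false
universe u
open CategoryTheory CategoryTheory.Limits AlgebraicGeometry Opposite TopologicalSpace
open EGA2

namespace Groth.Agent.S8255

/-- Let S be a scheme and A a quasi-coherent O_S-algebra, and let π : Spec(A) → S be its relative
spectrum (glued from the affine schemes Spec A(U), U an affine open of S). Then the canonical
comparison map π_* O_{Spec(A)} → A (which over an affine open U is restriction to the chart Spec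
A(U) followed by Γ(Spec R) = R) is an isomorphism; in other words the direct-image algebra of
Spec(A) is A. -/
theorem isIso_gammaAff {S : Scheme.{u}} (A : RelSpec.QCAlg S) (U : S.Opens) (hU : IsAffineOpen U) :
    IsIso (A.gammaAff U hU) := by
  have hW : (A.ι U hU) ''ᵁ ⊤ = A.π ⁻¹ᵁ U := by
    rw [A.π_preimage U hU]
    exact (Scheme.Hom.image_top_eq_opensRange _)
  have e : ⊤ ≤ A.ι U hU ⁻¹ᵁ ((A.ι U hU) ''ᵁ ⊤) := by
    rw [Scheme.Hom.preimage_image_eq]
  rw [← A.gammaAff_eq hU hW e]
  have h1 : IsIso ((A.ι U hU).appLE ((A.ι U hU) ''ᵁ ⊤) ⊤ e) := by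
    rw [← Scheme.Hom.appIso_hom']
    infer_instance
  infer_instance

theorem result {S : Scheme.{u}} (A : RelSpec.QCAlg S) : IsIso A.gammaMap := by
  let F : TopCat.Sheaf CommRingCat.{u} S.carrier :=
    ⟨A.π.base _* A.spec.presheaf, TopCat.Sheaf.pushforward_sheaf_of_sheaf _ A.spec.sheaf.property⟩
  let G : TopCat.Sheaf CommRingCat.{u} S.carrier := ⟨A.presheaf, A.isSheaf⟩
  let α : F ⟶ G := ⟨A.gammaMap⟩
  have hα : IsIso α := by
    refine Functor.IsCoverDense.iso_of_restrict_iso
      (G := Scheme.AffineZariskiSite.toOpensFunctor S) (K := Opens.grothendieckTopology S) α ?_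
    have : Functor.whiskerLeft (Scheme.AffineZariskiSite.toOpensFunctor S).op α.hom = A.gammaRestrict :=
      A.gammaMap_restrict
    rw [this]
    have : ∀ V, IsIso (A.gammaRestrict.app V) := fun V => isIso_gammaAff A V.unop.1 V.unop.2
    exact NatIso.isIso_of_isIso_app _
  exact @Functor.map_isIso _ _ _ _ _ _ (sheafToPresheaf (Opens.grothendieckTopology S) CommRingCat.{u}) α hα

end Groth.Agent.S8255
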