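import Groth.Statements.S4795
import Mathlib
import Groth.Agent.S9218
import Groth.Agent.S4805

set_option autoImplicit false
universe u
open CategoryTheory AlgebraicGeometry
open Lim8

namespace Groth.Agent.S4795

/-- Let S = lim S_i be a cofiltered limit of schemes with affine transition maps and S_{i₀} a
quasi-compact quasi-separated stage; let X₀ and Y₀ be schemes of finite presentation over S_{i₀},
and let X, Y be their base changes along S ⟶ S_{i₀} (base changes are expressed by pullback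
squares). Then X and Y are isomorphic over S if and only if, for some index j over i₀, the base
changes X_j and Y_j of X₀ and Y₀ along S_j ⟶ S_{i₀} are isomorphic over S_j. -/
theorem result {I : Type u} [SmallCategory I] [IsCofiltered I]
    (D : I ⥤ Scheme.{u}) (c : Limits.Cone D) (hc : Limits.IsLimit c)
    [∀ (i j : I) (f : i ⟶ j), IsAffineHom (D.map f)] (i₀ : I)
    [CompactSpace (D.obj i₀)] [QuasiSeparatedSpace (D.obj i₀)]
    {X₀ Y₀ : Scheme.{u}} (a₀ : X₀ ⟶ D.obj i₀) (b₀ : Y₀ ⟶ D.obj i₀)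
    [LocallyOfFinitePresentation a₀] [QuasiCompact a₀] [QuasiSeparated a₀]
    [LocallyOfFinitePresentation b₀] [QuasiCompact b₀] [QuasiSeparated b₀]
    {X Y : Scheme.{u}} (a : X ⟶ c.pt) (b : Y ⟶ c.pt) (qX : X ⟶ X₀) (qY : Y ⟶ Y₀)
    (hX : IsPullback qX a a₀ (c.π.app i₀)) (hY : IsPullback qY b b₀ (c.π.app i₀)) :
    (∃ e : X ≅ Y, e.hom ≫ b = a) ↔
      ∃ (j : I) (φ : j ⟶ i₀) (Xj Yj : Scheme.{u}) (aj : Xj ⟶ D.obj j) (bj : Yj ⟶ D.obj j)
        (pX : Xj ⟶ X₀) (pY : Yj ⟶ Y₀), IsPullback pX aj a₀ (D.map φ) ∧ IsPullback pY bj b₀ (D.map φ) ∧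
        ∃ e : Xj ≅ Yj, e.hom ≫ bj = aj := by
  open CategoryTheory.Limits in
  haveI : CompactSpace X₀ := QuasiCompact.compactSpace_of_compactSpace a₀
  haveI : QuasiSeparatedSpace X₀ := quasiSeparatedSpace_of_quasiSeparated a₀
  haveI : CompactSpace Y₀ := QuasiCompact.compactSpace_of_compactSpace b₀
  haveI : QuasiSeparatedSpace Y₀ := quasiSeparatedSpace_of_quasiSeparated b₀
  constructor
  · rintro ⟨e, he⟩
    obtain ⟨j, φ, fj, sX, sY, h1, h2, h3, h4, h5, h6⟩ :=
      Groth.Agent.S9218.result D c hc i₀ a₀ b₀ qX a hX qY b hY e.hom he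
    have hXj : IsPullback sX a (pullback.snd a₀ (D.map φ)) (c.π.app j) := by
      refine IsPullback.of_right ?_ h3 (IsPullback.of_hasPullback a₀ (D.map φ))
      rw [h2, c.w φ]
      exact hX
    have hYj : IsPullback sY b (pullback.snd b₀ (D.map φ)) (c.π.app j) := by
      refine IsPullback.of_right ?_ h5 (IsPullback.of_hasPullback b₀ (D.map φ))
      rw [h4, c.w φ]
      exact hY
    haveI : LocallyOfFinitePresentation (fj ≫ pullback.snd b₀ (D.map φ)) := by
      rw [h1]; infer_instance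
    haveI : QuasiCompact (fj ≫ pullback.snd b₀ (D.map φ)) := by
      rw [h1]; infer_instance
    haveI : QuasiSeparated (fj ≫ pullback.snd b₀ (D.map φ)) := by
      rw [h1]; infer_instance
    haveI : CompactSpace (D.obj j) := QuasiCompact.compactSpace_of_compactSpace (D.map φ)
    have hT : IsPullback sX e.hom fj sY := by
      refine IsPullback.of_bot ?_ h6 hYj
      rw [h1, he]
      exact hXj
    obtain ⟨j', φ', Xj, Yj, fj', gj, pY, pX', hp1, hp2, hiso⟩ :=
      Groth.Agent.S4805.result D c hc j fj (pullback.snd b₀ (D.map φ)) e.hom b sY sX hYj hT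
    refine ⟨j', φ' ≫ φ, Xj, Yj, fj' ≫ gj, gj, pX' ≫ pullback.fst a₀ (D.map φ),
      pY ≫ pullback.fst b₀ (D.map φ), ?_, ?_, asIso fj', rfl⟩
    · have hV : IsPullback pX' (fj' ≫ gj) (pullback.snd a₀ (D.map φ)) (D.map φ') := by
        have := hp2.paste_vert hp1
        rwa [h1] at this
      have := hV.paste_horiz (IsPullback.of_hasPullback a₀ (D.map φ))
      rwa [← D.map_comp] at this
    · have := hp1.paste_horiz (IsPullback.of_hasPullback b₀ (D.map φ))
      rwa [← D.map_comp] at this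
  · rintro ⟨j, φ, Xj, Yj, aj, bj, pX, pY, hpX, hpY, e, he⟩
    have wX : qX ≫ a₀ = (a ≫ c.π.app j) ≫ D.map φ := by
      rw [Category.assoc, c.w φ]; exact hX.w
    have wY : qY ≫ b₀ = (b ≫ c.π.app j) ≫ D.map φ := by
      rw [Category.assoc, c.w φ]; exact hY.w
    have hXj : IsPullback (hpX.lift qX (a ≫ c.π.app j) wX) a aj (c.π.app j) := by
      refine IsPullback.of_right ?_ (hpX.lift_snd _ _ wX) hpX
      rw [hpX.lift_fst, c.w φ]
      exact hX
    have hYj : IsPullback (hpY.lift qY (b ≫ c.π.app j) wY) b bj (c.π.app j) := by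
      refine IsPullback.of_right ?_ (hpY.lift_snd _ _ wY) hpY
      rw [hpY.lift_fst, c.w φ]
      exact hY
    have h8 : IsPullback e.hom aj bj (𝟙 _) := IsPullback.of_horiz_isIso ⟨by simp [he]⟩
    have hXj' : IsPullback (hpX.lift qX (a ≫ c.π.app j) wX ≫ e.hom) a bj (c.π.app j) := by
      have := hXj.paste_horiz h8
      rwa [Category.comp_id] at this
    exact ⟨hXj'.isoIsPullback _ _ hYj, hXj'.isoIsPullback_hom_snd _ _ hYj⟩

end Groth.Agent.S4795
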