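import Groth.Statements.S4758
import Groth.Agent.Lib.Helper73.LimBaseChange

set_option autoImplicit false
universe u
open CategoryTheory AlgebraicGeometry
open Lim8

namespace Groth.Agent.S4758

/-- Let S = lim S_i be a cofiltered limit of schemes with affine transition maps and let i be an index.
The canonical projection S ⟶ S_i is surjective if and only if every transition map S_j ⟶ S_i is
surjective. -/
theorem result {I : Type u} [SmallCategory I] [IsCofiltered I]
    (D : I ⥤ Scheme.{u}) (c : Limits.Cone D) (hc : Limits.IsLimit c)
    [∀ (i j : I) (f : i ⟶ j), IsAffineHom (D.map f)] (i : I) :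
    Surjective (c.π.app i) ↔ ∀ (j : I) (φ : j ⟶ i), Surjective (D.map φ) := by
  constructor
  · intro h j φ
    have : Surjective (c.π.app j ≫ D.map φ) := by rwa [c.w φ]
    exact Surjective.of_comp (c.π.app j) (D.map φ)
  · intro h
    refine ⟨fun y => ?_⟩
    let g := (D.obj i).fromSpecResidueField y
    let F := Groth.Agent.Lib.Helper73.bcDiagram D i g
    have hne : ∀ j : Over i, Nonempty (F.obj j) := by
      intro j
      obtain ⟨x, hx⟩ := (h j.left j.hom).surj y
      have t : Spec ((D.obj i).residueField y) := Nonempty.some inferInstance
      have ht : g t = y := Scheme.fromSpecResidueField_apply _ _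
      obtain ⟨z, -⟩ := Scheme.Pullback.exists_preimage_pullback (f := D.map j.hom) (g := g) x t
        (by rw [hx, ht])
      exact ⟨z⟩
    have hcpt : ∀ j : Over i, CompactSpace (F.obj j) := by
      intro j
      have h1 : IsAffineHom (Limits.pullback.snd (D.map j.hom) g) :=
        MorphismProperty.pullback_snd _ _ inferInstance
      have h2 : QuasiCompact (Limits.pullback.snd (D.map j.hom) g) := inferInstance
      have h3 := QuasiCompact.compactSpace_of_compactSpace (Limits.pullback.snd (D.map j.hom) g)
      exact h3
    have := Scheme.nonempty_of_isLimit F (Groth.Agent.Lib.Helper73.bcCone D c i g)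
      (Groth.Agent.Lib.Helper73.isLimitBcCone D c i g hc)
    obtain ⟨z⟩ := this
    refine ⟨Limits.pullback.fst (c.π.app i) g z, ?_⟩
    rw [← Scheme.Hom.comp_apply, Limits.pullback.condition, Scheme.Hom.comp_apply]
    exact Scheme.fromSpecResidueField_apply _ _

end Groth.Agent.S4758
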