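import Groth.Statements.S7605
import Mathlib
import Groth.Agent.Lib.Helper56.FibreDescent

set_option autoImplicit false
universe u
open CategoryTheory CategoryTheory.Limits AlgebraicGeometry
open Variety

namespace Groth.Agent.S7605

open TensorProduct in
theorem isNoetherianRing_tensor_iff (k R k' : Type u) [Field k] [CommRing R] [Algebra k R] [Field k']
    [Algebra k k'] [Algebra.EssFiniteType k k'] :
    IsNoetherianRing (R ⊗[k] k') ↔ IsNoetherianRing R := by
  constructor
  · intro h
    haveI : Module.FaithfullyFlat R (R ⊗[k] k') := inferInstance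
    exact Groth.Agent.Lib.Helper56.isNoetherianRing_of_faithfullyFlat R (R ⊗[k] k')
  · intro h
    exact Algebra.EssFiniteType.isNoetherianRing R (R ⊗[k] k')

theorem isLocallyNoetherian_pullback_Spec_iff (k k' : Type u) [Field k] [Field k'] [Algebra k k']
    [Algebra.EssFiniteType k k'] (R : CommRingCat.{u}) (φ : Spec R ⟶ Spec (CommRingCat.of k)) :
    IsLocallyNoetherian (pullback φ (Spec.map (CommRingCat.ofHom (algebraMap k k')))) ↔
      IsNoetherianRing R := by
  obtain ⟨ψ, rfl⟩ := Spec.map_surjective φ
  algebraize [ψ.hom]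
  have hψ : ψ = CommRingCat.ofHom (algebraMap k R) := rfl
  rw [hψ, ← isNoetherianRing_tensor_iff k R k']
  have e := pullbackSpecIso k R k'
  constructor
  · intro h
    haveI : IsLocallyNoetherian (Spec (CommRingCat.of (TensorProduct k R k'))) :=
      isLocallyNoetherian_of_isOpenImmersion e.inv
    exact (isLocallyNoetherian_Spec (R := CommRingCat.of (TensorProduct k R k'))).mp inferInstance
  · intro h
    haveI : IsNoetherianRing (CommRingCat.of (TensorProduct k R k')) := h
    exact isLocallyNoetherian_of_isOpenImmersion e.hom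


theorem isLocallyNoetherian_pullback_iff_of_isAffine (k k' : Type u) [Field k] [Field k'] [Algebra k k']
    [Algebra.EssFiniteType k k'] (U : Scheme.{u}) [IsAffine U] (φ : U ⟶ Spec (CommRingCat.of k)) :
    IsLocallyNoetherian (pullback φ (Spec.map (CommRingCat.ofHom (algebraMap k k')))) ↔
      IsLocallyNoetherian U := by
  let j : pullback φ (Spec.map (CommRingCat.ofHom (algebraMap k k'))) ⟶
      pullback (U.isoSpec.inv ≫ φ) (Spec.map (CommRingCat.ofHom (algebraMap k k'))) :=
    pullback.map _ _ _ _ U.isoSpec.hom (𝟙 _) (𝟙 _) (by simp) (by simp)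
  haveI : IsIso j := by dsimp only [j]; infer_instance
  have h1 : IsLocallyNoetherian (pullback φ (Spec.map (CommRingCat.ofHom (algebraMap k k')))) ↔
      IsLocallyNoetherian (pullback (U.isoSpec.inv ≫ φ)
        (Spec.map (CommRingCat.ofHom (algebraMap k k')))) :=
    ⟨fun h => isLocallyNoetherian_of_isOpenImmersion (inv j),
      fun h => isLocallyNoetherian_of_isOpenImmersion j⟩
  have h2 : IsLocallyNoetherian U ↔ IsLocallyNoetherian (Spec Γ(U, ⊤)) :=
    ⟨fun h => isLocallyNoetherian_of_isOpenImmersion U.isoSpec.inv,
      fun h => isLocallyNoetherian_of_isOpenImmersion U.isoSpec.hom⟩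
  rw [h1, h2, isLocallyNoetherian_pullback_Spec_iff k k', isLocallyNoetherian_Spec]

/-- For a scheme X over a field k and a finitely generated field extension k' of k, local Noetherianity
of X is equivalent to local Noetherianity of its base change X_{k'}. -/
theorem result (k : Type u) [Field k] (X : Scheme.{u}) [X.Over (Spec (CommRingCat.of k))] (k' : Type u) [Field k'] [Algebra k k']
    (hfg : (⊤ : IntermediateField k k').FG) :
    IsLocallyNoetherian X ↔ IsLocallyNoetherian (Curv2.bc k X k') := by
  haveI : Algebra.EssFiniteType k k' := IntermediateField.fg_top_iff.mp hfg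
  rw [isLocallyNoetherian_iff_openCover X.affineCover]
  unfold Curv2.bc
  rw [isLocallyNoetherian_iff_openCover (Scheme.Pullback.openCoverOfLeft X.affineCover
    (X ↘ (Spec (CommRingCat.of k))) (Spec.map (CommRingCat.ofHom (algebraMap k k'))))]
  refine forall_congr' fun i => ?_
  rw [show ((Scheme.Pullback.openCoverOfLeft X.affineCover
    (X ↘ (Spec (CommRingCat.of k))) (Spec.map (CommRingCat.ofHom (algebraMap k k')))).X i) =
    pullback (X.affineCover.f i ≫ (X ↘ (Spec (CommRingCat.of k))))
      (Spec.map (CommRingCat.ofHom (algebraMap k k'))) from rfl]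
  exact (isLocallyNoetherian_pullback_iff_of_isAffine k k' _ _).symm

end Groth.Agent.S7605
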