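import Groth.Statements.S7109
import Mathlib.LinearAlgebra.Finsupp.LinearCombination
import Mathlib.RingTheory.Finiteness.Basic
import Mathlib.LinearAlgebra.StdBasis
import Mathlib.LinearAlgebra.FreeModule.Finite.Basic
-- import your own Groth.Agent.* helpers here

set_option autoImplicit false
universe u
open CAlg

namespace Groth.Agent.S7109

/-- Let P be a projective module over a ring R and s an element of P. Then there are a finite free
module R^n and a direct summand K of R^n ⊕ P which is finite free and contains (0, s). -/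
theorem result (R : Type u) [CommRing R] (P : Type u) [AddCommGroup P]
    [Module R P] [Module.Projective R P] (s : P) :
    ∃ (n : ℕ) (K K' : Submodule R ((Fin n → R) × P)), IsCompl K K' ∧ Module.Free R K ∧ Module.Finite R K ∧
      ((0, s) : (Fin n → R) × P) ∈ K := by
  classical
  obtain ⟨σ, hσ⟩ := Module.projective_def'.1 (inferInstance : Module.Projective R P)
  let T : Finset P := (σ s).support
  let n := T.card
  let t : Fin n → P := fun i => (T.equivFin.symm i : P)
  let a : P →ₗ[R] (Fin n → R) := LinearMap.pi fun i => (Finsupp.lapply (t i)) ∘ₗ σ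
  let b : (Fin n → R) →ₗ[R] P := Fintype.linearCombination R t
  have hba : b (a s) = s := by
    have h1 := LinearMap.congr_fun hσ s
    simp only [LinearMap.comp_apply, LinearMap.id_apply] at h1
    have h2 : b (a s) = ∑ i : Fin n, (σ s) (t i) • t i := by
      simp [a, b, Fintype.linearCombination_apply]
    rw [h2]
    conv_rhs => rw [← h1, Finsupp.linearCombination_apply, Finsupp.sum]
    have h3 : ∑ q ∈ T, (σ s) q • id q = ∑ q : T, (σ s) (q : P) • (q : P) := by
      rw [← Finset.sum_coe_sort]; rfl
    rw [show (σ s).support = T from rfl, h3]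
    exact (Equiv.sum_comp T.equivFin.symm (fun q : T => (σ s) (q : P) • (q : P)))
  let Ψ : ((Fin n → R) × P) ≃ₗ[R] ((Fin n → R) × P) :=
    (LinearEquiv.refl R (Fin n → R)).skewProd (LinearEquiv.refl R P) b
  let Φ : ((Fin n → R) × P) ≃ₗ[R] ((Fin n → R) × P) :=
    (LinearEquiv.prodComm R (Fin n → R) P) ≪≫ₗ
      ((LinearEquiv.refl R P).skewProd (LinearEquiv.refl R (Fin n → R)) (-a)) ≪≫ₗ
      (LinearEquiv.prodComm R P (Fin n → R))
  let Θ := Ψ ≪≫ₗ Φ
  let K := (LinearMap.range (LinearMap.inl R (Fin n → R) P)).map Θ.toLinearMap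
  let K' := (LinearMap.range (LinearMap.inr R (Fin n → R) P)).map Θ.toLinearMap
  have hcompl : IsCompl K K' :=
    (LinearMap.isCompl_range_inl_inr).map (Submodule.orderIsoMapComap Θ)
  let eK : (Fin n → R) ≃ₗ[R] K :=
    (LinearEquiv.ofInjective (LinearMap.inl R (Fin n → R) P) LinearMap.inl_injective) ≪≫ₗ
      (Θ.submoduleMap _)
  refine ⟨n, K, K', hcompl, Module.Free.of_equiv eK, Module.Finite.equiv eK, ?_⟩
  refine ⟨(a s, 0), ⟨a s, rfl⟩, ?_⟩
  simp [Θ, Ψ, Φ, hba]

end Groth.Agent.S7109
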