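import Groth.Statements.S12080
import Mathlib
-- import your own Groth.Agent.* helpers here

set_option autoImplicit false
universe u
open TensorProduct
open CAlg

namespace Groth.Agent.S12080

/-- (1) ⇒ (2): let `M` be a finite locally free `R`-module of rank `1`, i.e. there is a set `s ⊆ R`
generating the unit ideal with `M_f ≅ R_f` as `R_f`-modules for every `f ∈ s`. Then the evaluation
map `Hom_R(M, R) ⊗_R M → R` is bijective, so `M` is invertible with inverse its dual. -/
theorem result (R : Type u) [CommRing R] (M : Type u) [AddCommGroup M]
    [Module R M] (s : Set R) (hs : Ideal.span s = ⊤)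
    (hfree : ∀ f ∈ s, Nonempty (LocalizedModule.Away f M ≃ₗ[Localization.Away f] Localization.Away f)) :
    Module.Invertible R M := by
  have : Module.FinitePresentation R M := by
    apply Module.FinitePresentation.of_localizationSpan s hs
    intro r
    obtain ⟨e⟩ := hfree r.1 r.2
    exact Module.FinitePresentation.of_equiv e.symm
  constructor
  apply bijective_of_isLocalized_span s hs
    (fun r => Module.Dual (Localization.Away r.1) (LocalizedModule.Away r.1 M) ⊗[R]
      LocalizedModule.Away r.1 M)
    (fun r => TensorProduct.map
      (IsLocalizedModule.mapExtendScalars (.powers r.1) (LocalizedModule.mkLinearMap _ M)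
        (Algebra.linearMap R (Localization.Away r.1)) (Localization.Away r.1))
      (LocalizedModule.mkLinearMap (.powers r.1) M))
    (fun r => Localization.Away r.1)
    (fun r => Algebra.linearMap R (Localization.Away r.1))
  intro r
  obtain ⟨e⟩ := hfree r.1 r.2
  have : Module.Invertible (Localization.Away r.1) (LocalizedModule.Away r.1 M) :=
    Module.Invertible.congr e.symm
  set S := Submonoid.powers r.1 with hS
  set T := TensorProduct.map
      (IsLocalizedModule.mapExtendScalars S (LocalizedModule.mkLinearMap S M)
        (Algebra.linearMap R (Localization.Away r.1)) (Localization.Away r.1))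
      (LocalizedModule.mkLinearMap S M) with hT
  let ψ : Module.Dual (Localization.Away r.1) (LocalizedModule.Away r.1 M) ⊗[R]
      LocalizedModule.Away r.1 M →ₗ[R] Localization.Away r.1 :=
    (contractLeft (Localization.Away r.1) (LocalizedModule.Away r.1 M)).restrictScalars R ∘ₗ
      ((IsLocalization.moduleTensorEquiv S (Localization.Away r.1)
        (Module.Dual (Localization.Away r.1) (LocalizedModule.Away r.1 M))
        (LocalizedModule.Away r.1 M)).symm.restrictScalars R).toLinearMap
  have hψ : Function.Bijective ψ := by
    have h1 := Module.Invertible.bijective (R := Localization.Away r.1)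
      (M := LocalizedModule.Away r.1 M)
    exact h1.comp (LinearEquiv.bijective _)
  have heq : IsLocalizedModule.map S T (Algebra.linearMap R (Localization.Away r.1))
      (contractLeft R M) = ψ := by
    apply IsLocalizedModule.linearMap_ext S T (Algebra.linearMap R (Localization.Away r.1))
    rw [IsLocalizedModule.map_comp]
    apply TensorProduct.ext'
    intro φ m
    simp only [LinearMap.coe_comp, Function.comp_apply, Algebra.linearMap_apply,
      contractLeft_apply, ψ, T, TensorProduct.map_tmul, LinearMap.coe_restrictScalars,
      LinearEquiv.coe_coe, LinearEquiv.restrictScalars_apply, IsLocalization.moduleTensorEquiv]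
    erw [show (equivOfCompatibleSMul R (Localization.Away r.1) (Localization.Away r.1)
            (Module.Dual (Localization.Away r.1) (LocalizedModule.Away r.1 M))
            (LocalizedModule.Away r.1 M)).symm
        ((IsLocalizedModule.mapExtendScalars S (LocalizedModule.mkLinearMap S M)
              (Algebra.linearMap R (Localization.Away r.1)) (Localization.Away r.1)) φ ⊗ₜ[R]
          (LocalizedModule.mkLinearMap S M) m) =
        ((IsLocalizedModule.mapExtendScalars S (LocalizedModule.mkLinearMap S M)
              (Algebra.linearMap R (Localization.Away r.1)) (Localization.Away r.1)) φ)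
          ⊗ₜ[Localization.Away r.1] ((LocalizedModule.mkLinearMap S M) m) from rfl]
    rw [contractLeft_apply, IsLocalizedModule.mapExtendScalars_apply_apply,
      IsLocalizedModule.map_apply]
    rfl
  rw [heq]
  exact hψ

end Groth.Agent.S12080
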