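import Groth.Statements.S6284
import Mathlib

set_option autoImplicit false
universe u
open scoped TensorProduct
open CAlg

namespace Groth.Agent.S6284

/-- Let R → R' be a ring map and M a finite R-module. Then the support of R' ⊗_R M is the inverse image
of the support of M under Spec(R') → Spec(R). -/
theorem result {R R' : Type u} [CommRing R] [CommRing R'] [Algebra R R'] (M : Type u) [AddCommGroup M] [Module R M] [Module.Finite R M] : Module.support R' (R' ⊗[R] M) = PrimeSpectrum.comap (algebraMap R R') ⁻¹' Module.support R M := by
  ext q
  simp only [Set.mem_preimage]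
  rw [Module.mem_support_iff_nontrivial_residueField_tensorProduct,
    Module.mem_support_iff_nontrivial_residueField_tensorProduct]
  change _ ↔ Nontrivial ((q.asIdeal.comap (algebraMap R R')).ResidueField ⊗[R] M)
  let K := q.asIdeal.ResidueField
  let k := (q.asIdeal.comap (algebraMap R R')).ResidueField
  let _ : Algebra k K := (Ideal.ResidueField.map (q.asIdeal.comap (algebraMap R R')) q.asIdeal (algebraMap R R') rfl).toAlgebra
  have : IsScalarTower R k K := IsScalarTower.of_algebraMap_eq fun r => by
    rw [RingHom.algebraMap_toAlgebra, Ideal.ResidueField.map_algebraMap]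
    rw [IsScalarTower.algebraMap_apply R R' K]
  let e1 := (TensorProduct.AlgebraTensorModule.cancelBaseChange R R' K K M)
  let e2 := (TensorProduct.AlgebraTensorModule.cancelBaseChange R k K K M)
  rw [e1.nontrivial_congr, ← e2.nontrivial_congr]
  exact Module.FaithfullyFlat.nontrivial_tensorProduct_iff_right k K

end Groth.Agent.S6284
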