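import Groth.Statements.S0586
import Mathlib.LinearAlgebra.TensorProduct.Vanishing
import Mathlib.LinearAlgebra.TensorProduct.Pi
import Mathlib.Algebra.Colimit.TensorProduct
import Mathlib.RingTheory.TensorProduct.Finite
import Mathlib.RingTheory.Flat.FaithfullyFlat.Algebra
import Mathlib.RingTheory.Finiteness.Defs
import Mathlib.LinearAlgebra.TensorProduct.Tower

set_option autoImplicit false
universe u
open CAlg

namespace Groth.Agent.S0586

open TensorProduct

section purity

variable {R : Type u} [CommRing R]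

/-- equational purity: finite linear systems with constants in the source that are solvable
in the target are solvable in the source -/
def EqPure {N N' : Type*} [AddCommGroup N] [Module R N] [AddCommGroup N'] [Module R N']
    (f : N →ₗ[R] N') : Prop :=
  ∀ (r k : ℕ) (a : Fin r → Fin k → R) (p : Fin r → N) (y : Fin k → N'),
    (∀ l, f (p l) = ∑ j, a l j • y j) → ∃ z : Fin k → N, ∀ l, p l = ∑ j, a l j • z j

/-- every element of `M ⊗ N` is a combination of a spanning family of `M` -/
lemma exists_sum_tmul_of_span {M N : Type*} [AddCommGroup M] [Module R M] [AddCommGroup N]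
    [Module R N] {r : ℕ} (g : Fin r → M) (hg : Submodule.span R (Set.range g) = ⊤)
    (x : M ⊗[R] N) : ∃ p : Fin r → N, x = ∑ l, g l ⊗ₜ p l := by
  induction x with
  | zero => exact ⟨0, by simp⟩
  | tmul m n =>
    have hm : m ∈ Submodule.span R (Set.range g) := by rw [hg]; trivial
    obtain ⟨c, rfl⟩ := (Submodule.mem_span_range_iff_exists_fun R).1 hm
    refine ⟨fun l => c l • n, ?_⟩
    rw [sum_tmul]
    exact Finset.sum_congr rfl (fun l _ => by rw [smul_tmul])
  | add x y hx hy =>
    obtain ⟨p, rfl⟩ := hx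
    obtain ⟨q, rfl⟩ := hy
    exact ⟨p + q, by simp [tmul_add, Finset.sum_add_distrib]⟩

/-- an equationally pure map is universally injective -/
lemma EqPure.lTensor_injective {N N' : Type*} [AddCommGroup N] [Module R N] [AddCommGroup N']
    [Module R N'] {f : N →ₗ[R] N'} (hf : EqPure f) (M : Type*) [AddCommGroup M] [Module R M] :
    Function.Injective (LinearMap.lTensor M f) := by
  rw [injective_iff_map_eq_zero]
  intro x hx
  obtain ⟨M₀, hfg, x₀, rfl⟩ := Submodule.exists_fg_le_eq_rTensor_subtype x
  have h1 : LinearMap.rTensor N' M₀.subtype (LinearMap.lTensor M₀ f x₀) =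
      LinearMap.rTensor N' M₀.subtype 0 := by
    rw [map_zero, ← hx, ← LinearMap.comp_apply, ← LinearMap.comp_apply,
      LinearMap.rTensor_comp_lTensor, LinearMap.lTensor_comp_rTensor]
  obtain ⟨M₁, hfg₁, hle, h2⟩ := hfg.exists_rTensor_fg_inclusion_eq h1
  rw [map_zero] at h2
  set x₁ := LinearMap.rTensor N (Submodule.inclusion hle) x₀ with hx₁
  have h3 : LinearMap.lTensor M₁ f x₁ = 0 := by
    rw [← h2, hx₁, ← LinearMap.comp_apply, ← LinearMap.comp_apply,
      LinearMap.rTensor_comp_lTensor, LinearMap.lTensor_comp_rTensor]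
  have h4 : LinearMap.rTensor N M₀.subtype x₀ = LinearMap.rTensor N M₁.subtype x₁ := by
    rw [hx₁, ← LinearMap.comp_apply, ← LinearMap.rTensor_comp]
    rfl
  rw [h4]
  suffices x₁ = 0 by rw [this, map_zero]
  have : Module.Finite R M₁ := Module.Finite.iff_fg.2 hfg₁
  obtain ⟨r, g, hg⟩ := Module.Finite.exists_fin (R := R) (M := M₁)
  obtain ⟨p, hp⟩ := exists_sum_tmul_of_span g hg x₁
  rw [hp] at h3 ⊢
  simp only [map_sum, LinearMap.lTensor_tmul] at h3
  obtain ⟨k, a, y, hy, ha⟩ := vanishesTrivially_of_sum_tmul_eq_zero R hg h3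
  obtain ⟨z, hz⟩ := hf r k a p y hy
  exact sum_tmul_eq_zero_of_vanishesTrivially R ⟨k, a, z, hz, ha⟩

/-- a universally injective map is equationally pure -/
lemma eqPure_of_lTensor_injective {N N' : Type*} [AddCommGroup N] [Module R N] [AddCommGroup N']
    [Module R N'] (f : N →ₗ[R] N')
    (hf : ∀ (M : Type u) [AddCommGroup M] [Module R M],
      Function.Injective (LinearMap.lTensor M f)) : EqPure f := by
  intro r k a p y hy
  -- the module of relations
  let c : Fin k → (Fin r → R) := fun j l => a l j
  let L : Submodule R (Fin r → R) := Submodule.span R (Set.range c)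
  let e : Fin r → (Fin r → R) ⧸ L := fun l => L.mkQ (Pi.single l 1)
  have he : Submodule.span R (Set.range e) = ⊤ := by
    have h1 : Submodule.span R (Set.range fun l : Fin r => (Pi.single l 1 : Fin r → R)) = ⊤ := by
      have := (Pi.basisFun R (Fin r)).span_eq
      convert this using 3
      ext l : 1
      simp
    have : Set.range e = L.mkQ '' (Set.range fun l : Fin r => (Pi.single l 1 : Fin r → R)) := by
      rw [← Set.range_comp]; rfl
    rw [this, ← Submodule.map_span, h1, Submodule.map_top, Submodule.range_mkQ]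
  have hc : ∀ j, ∑ l, a l j • e l = 0 := by
    intro j
    have : ∑ l, a l j • e l = L.mkQ (c j) := by
      simp only [e, ← map_smul, ← map_sum]
      congr 1
      ext l
      simp [c, Finset.sum_apply, Pi.single_apply]
    rw [this, Submodule.mkQ_apply, Submodule.Quotient.mk_eq_zero]
    exact Submodule.subset_span ⟨j, rfl⟩
  have hzero : (∑ l, e l ⊗ₜ[R] p l : ((Fin r → R) ⧸ L) ⊗[R] N) = 0 := by
    apply hf ((Fin r → R) ⧸ L)
    rw [map_zero, map_sum]
    simp only [LinearMap.lTensor_tmul]
    exact sum_tmul_eq_zero_of_vanishesTrivially R ⟨k, a, y, hy, hc⟩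
  obtain ⟨k', a', z', hz', ha'⟩ := vanishesTrivially_of_sum_tmul_eq_zero R he hzero
  -- columns of a' lie in L
  have hb : ∀ j', ∃ b : Fin k → R, ∀ l, a' l j' = ∑ j, b j * a l j := by
    intro j'
    have h1 : (fun l => a' l j') ∈ L := by
      have : ∑ l, a' l j' • e l = L.mkQ (fun l => a' l j') := by
        simp only [e, ← map_smul, ← map_sum]
        congr 1
        ext l
        simp [Finset.sum_apply, Pi.single_apply]
      have h2 := ha' j'
      rw [this, Submodule.mkQ_apply, Submodule.Quotient.mk_eq_zero] at h2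
      exact h2
    obtain ⟨b, hb⟩ := (Submodule.mem_span_range_iff_exists_fun R).1 h1
    refine ⟨b, fun l => ?_⟩
    have := congrFun hb l
    simp only [Finset.sum_apply, Pi.smul_apply, smul_eq_mul, c] at this
    exact this.symm
  choose b hb using hb
  refine ⟨fun j => ∑ j', b j' j • z' j', fun l => ?_⟩
  rw [hz' l]
  simp only [Finset.smul_sum, smul_smul]
  rw [Finset.sum_comm]
  refine Finset.sum_congr rfl (fun j' _ => ?_)
  rw [hb j' l, Finset.sum_smul]
  refine Finset.sum_congr rfl (fun j _ => ?_)
  rw [mul_comm]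

/-- products of equationally pure maps are equationally pure -/
lemma eqPure_pi {ι : Type*} {Q Q' : ι → Type*} [∀ i, AddCommGroup (Q i)] [∀ i, Module R (Q i)]
    [∀ i, AddCommGroup (Q' i)] [∀ i, Module R (Q' i)] (f : ∀ i, Q i →ₗ[R] Q' i)
    (hf : ∀ i, EqPure (f i)) :
    EqPure (LinearMap.pi (fun i => (f i).comp (LinearMap.proj i)) :
      (∀ i, Q i) →ₗ[R] (∀ i, Q' i)) := by
  intro r k a p y hy
  have : ∀ i, ∃ z : Fin k → Q i, ∀ l, p l i = ∑ j, a l j • z j := by
    intro i
    apply hf i r k a (fun l => p l i) (fun j => y j i)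
    intro l
    have := congrFun (hy l) i
    simpa [Finset.sum_apply] using this
  choose z hz using this
  refine ⟨fun j i => z i j, fun l => ?_⟩
  ext i
  rw [hz i l]
  simp [Finset.sum_apply]

/-- for faithfully flat `S`, the map `Q → S ⊗ Q` is universally injective -/
lemma lTensor_mk_injective (S : Type u) [CommRing S] [Algebra R S] [Module.FaithfullyFlat R S]
    (Q : Type u) [AddCommGroup Q] [Module R Q] (M : Type u) [AddCommGroup M] [Module R M] :
    Function.Injective (LinearMap.lTensor M (TensorProduct.mk R S Q 1)) := by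
  have h : (TensorProduct.leftComm R M S Q).toLinearMap.comp
      (LinearMap.lTensor M (TensorProduct.mk R S Q 1)) = TensorProduct.mk R S (M ⊗[R] Q) 1 := by
    apply TensorProduct.ext'
    intro m q
    simp
  have h2 := Module.FaithfullyFlat.tensorProduct_mk_injective (A := R) (B := S) (M ⊗[R] Q)
  rw [← h] at h2
  rw [LinearMap.coe_comp] at h2
  exact Function.Injective.of_comp h2

end purity

section main

variable (R : Type u) [CommRing R] (S : Type u) [CommRing S] [Algebra R S]
  (M : Type u) [AddCommGroup M] [Module R M]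

/-- `M ⊗[R] N → (S ⊗[R] M) ⊗[S] N'` induced by an `R`-linear map `N → N'` to an `S`-module -/
noncomputable def Psi {N N' : Type*} [AddCommGroup N] [Module R N] [AddCommGroup N'] [Module R N']
    [Module S N'] [IsScalarTower R S N'] (g : N →ₗ[R] N') :
    M ⊗[R] N →ₗ[R] (S ⊗[R] M) ⊗[S] N' :=
  (TensorProduct.mapOfCompatibleSMul S R R (S ⊗[R] M) N').comp
    (TensorProduct.map (TensorProduct.mk R S M 1) g)

@[simp]
lemma Psi_tmul {N N' : Type*} [AddCommGroup N] [Module R N] [AddCommGroup N'] [Module R N']
    [Module S N'] [IsScalarTower R S N'] (g : N →ₗ[R] N') (m : M) (n : N) :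
    Psi R S M g (m ⊗ₜ n) = ((1 : S) ⊗ₜ[R] m) ⊗ₜ[S] g n := by
  simp [Psi]

/-- `(S ⊗[R] M) ⊗[S] N' → M ⊗[R] N'` -/
noncomputable def Theta (N' : Type*) [AddCommGroup N'] [Module R N']
    [Module S N'] [IsScalarTower R S N'] :
    (S ⊗[R] M) ⊗[S] N' →ₗ[R] M ⊗[R] N' :=
  (TensorProduct.comm R N' M).toLinearMap.comp
    (((TensorProduct.AlgebraTensorModule.cancelBaseChange R S S N' M).restrictScalars R).toLinearMap.comp
      ((TensorProduct.comm S (S ⊗[R] M) N').restrictScalars R).toLinearMap)

lemma Theta_Psi {N N' : Type*} [AddCommGroup N] [Module R N] [AddCommGroup N'] [Module R N']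
    [Module S N'] [IsScalarTower R S N'] (g : N →ₗ[R] N') (x : M ⊗[R] N) :
    Theta R S M N' (Psi R S M g x) = LinearMap.lTensor M g x := by
  induction x with
  | zero => simp
  | tmul m n => simp [Theta]
  | add x y hx hy => simp [map_add, hx, hy]

end main

theorem aux (R : Type u) [CommRing R] (S : Type u)
    [CommRing S] [Algebra R S] [Module.FaithfullyFlat R S] (M : Type u) [AddCommGroup M] [Module R M]
    (h : CAlg.IsMittagLeffler S (TensorProduct R S M)) : CAlg.IsMittagLeffler R M := by
  intro ι Q _ _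
  let f : ∀ i, Q i →ₗ[R] S ⊗[R] Q i := fun i => TensorProduct.mk R S (Q i) 1
  let U : (∀ i, Q i) →ₗ[R] (∀ i, S ⊗[R] Q i) :=
    LinearMap.pi (fun i => (f i).comp (LinearMap.proj i))
  have hU : EqPure U := eqPure_pi f (fun i => eqPure_of_lTensor_injective (f i)
    (fun M' _ _ => lTensor_mk_injective S (Q i) M'))
  have hUinj := hU.lTensor_injective M
  rw [injective_iff_map_eq_zero]
  intro x hx
  apply hUinj
  rw [map_zero, ← Theta_Psi R S M U x]
  suffices Psi R S M U x = 0 by rw [this, map_zero]
  apply h ι (fun i => S ⊗[R] Q i)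
  rw [map_zero]
  have key : ∀ (x : M ⊗[R] (∀ i, Q i)) (i : ι),
      (TensorProduct.piRightHom S S (S ⊗[R] M) (fun i => S ⊗[R] Q i) (Psi R S M U x)) i =
        Psi R S M (f i) ((TensorProduct.piRightHom R R M Q x) i) := by
    intro x i
    induction x with
    | zero => simp
    | tmul m p => simp [U, f]
    | add x y hx hy => simp [map_add, hx, hy]
  ext i : 1
  rw [key x i, hx]
  simp

/-- Let `R → S` be faithfully flat and `M` an `R`-module. If `S ⊗ M` is a Mittag-Leffler `S`-module then
`M` is a Mittag-Leffler `R`-module. -/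
theorem result (R : Type u) [CommRing R] (S : Type u)
    [CommRing S] [Algebra R S] [Module.FaithfullyFlat R S] (M : Type u) [AddCommGroup M] [Module R M]
    (h : CAlg.IsMittagLeffler S (TensorProduct R S M)) : CAlg.IsMittagLeffler R M := by
  exact aux R S M h

end Groth.Agent.S0586
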