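import Groth.Statements.S6359
import Mathlib.LinearAlgebra.TensorProduct.Vanishing
import Mathlib.Tactic

set_option autoImplicit false
universe u
open CAlg

namespace Groth.Agent.S6359

open TensorProduct in
/-- Equational form of domination: if `g` dominates `f` and a finite linear system with constants
`x i` becomes solvable after applying `f`, it is solvable after applying `g`. -/
theorem dominates_equational {R : Type u} [CommRing R] {M N M' : Type u}
    [AddCommGroup M] [Module R M] [AddCommGroup N] [Module R N] [AddCommGroup M'] [Module R M']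
    (f : M →ₗ[R] N) (g : M →ₗ[R] M')
    (hdom : ∀ (Q : Type u) [AddCommGroup Q] [Module R Q],
      LinearMap.ker (f.rTensor Q) ≤ LinearMap.ker (g.rTensor Q))
    (n m : ℕ) (x : Fin n → M) (y : Fin m → N) (a : Fin n → Fin m → R)
    (h : ∀ i, f (x i) = ∑ j, a i j • y j) :
    ∃ z : Fin m → M', ∀ i, g (x i) = ∑ j, a i j • z j := by
  classical
  let col : Fin m → (Fin n → R) := fun j i => a i j
  let C : Submodule R (Fin n → R) := Submodule.span R (Set.range col)
  let q : Fin n → (Fin n → R) ⧸ C := fun i => C.mkQ (Pi.single i 1)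
  have hq : Submodule.span R (Set.range q) = ⊤ := by
    rw [eq_top_iff]
    rintro w -
    obtain ⟨w, rfl⟩ := C.mkQ_surjective w
    have : w = ∑ i, w i • (Pi.single i 1 : Fin n → R) := by
      ext k
      simp [Finset.sum_apply, Pi.single_apply]
    rw [this, map_sum]
    refine Submodule.sum_mem _ fun i _ => ?_
    rw [map_smul]
    exact Submodule.smul_mem _ _ (Submodule.subset_span ⟨i, rfl⟩)
  have hcol : ∀ j, ∑ i, a i j • q i = 0 := by
    intro j
    have : ∑ i, a i j • q i = C.mkQ (col j) := by
      simp only [q, ← map_smul, ← map_sum]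
      congr 1
      ext k
      simp [Finset.sum_apply, Pi.single_apply, col]
    rw [this, Submodule.mkQ_apply, Submodule.Quotient.mk_eq_zero]
    exact Submodule.subset_span ⟨j, rfl⟩
  have hξ0 : ∑ i, x i ⊗ₜ[R] q i ∈ LinearMap.ker (f.rTensor ((Fin n → R) ⧸ C)) := by
    rw [LinearMap.mem_ker, map_sum]
    simp only [LinearMap.rTensor_tmul, h, TensorProduct.sum_tmul, TensorProduct.smul_tmul]
    rw [Finset.sum_comm]
    simp only [← TensorProduct.tmul_sum, hcol, TensorProduct.tmul_zero, Finset.sum_const_zero]
  have hξ : ∑ i, g (x i) ⊗ₜ[R] q i = 0 := by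
    have := hdom ((Fin n → R) ⧸ C) hξ0
    rw [LinearMap.mem_ker, map_sum] at this
    simpa only [LinearMap.rTensor_tmul] using this
  have hξ' : ∑ i, q i ⊗ₜ[R] g (x i) = 0 := by
    have := congrArg (TensorProduct.comm R M' ((Fin n → R) ⧸ C)) hξ
    simpa using this
  obtain ⟨k, a', y', h1, h2⟩ := TensorProduct.vanishesTrivially_of_sum_tmul_eq_zero R hq hξ'
  have h3 : ∀ l : Fin k, ∃ c : Fin m → R, ∑ j, c j • col j = fun i => a' i l := by
    intro l
    have hmem : (fun i => a' i l) ∈ C := by
      rw [← Submodule.Quotient.mk_eq_zero, ← Submodule.mkQ_apply, ← h2 l]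
      have : (fun i => a' i l) = ∑ i, a' i l • (Pi.single i 1 : Fin n → R) := by
        ext k
        simp [Finset.sum_apply, Pi.single_apply]
      rw [this, map_sum]
      simp only [map_smul, q]
    exact (Submodule.mem_span_range_iff_exists_fun R).1 hmem
  choose c hc using h3
  refine ⟨fun j => ∑ l, c l j • y' l, fun i => ?_⟩
  have h1i : g (x i) = ∑ l, a' i l • y' l := h1 i
  rw [h1i]
  simp only [Finset.smul_sum, smul_smul]
  rw [Finset.sum_comm]
  refine Finset.sum_congr rfl fun l _ => ?_
  rw [← Finset.sum_smul]
  congr 1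
  have := congrFun (hc l) i
  simp only [Finset.sum_apply, Pi.smul_apply, smul_eq_mul, col] at this
  rw [← this]
  exact Finset.sum_congr rfl fun j _ => mul_comm _ _

/-- Domination implies containment of kernels (take `Q = R`). -/
theorem ker_le_ker_of_dominates {R : Type u} [CommRing R] {M N M' : Type u}
    [AddCommGroup M] [Module R M] [AddCommGroup N] [Module R N] [AddCommGroup M'] [Module R M']
    (f : M →ₗ[R] N) (g : M →ₗ[R] M')
    (hdom : ∀ (Q : Type u) [AddCommGroup Q] [Module R Q],
      LinearMap.ker (f.rTensor Q) ≤ LinearMap.ker (g.rTensor Q)) :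
    LinearMap.ker f ≤ LinearMap.ker g := by
  intro x hx
  have h1 : x ⊗ₜ[R] (1 : R) ∈ LinearMap.ker (f.rTensor R) := by
    rw [LinearMap.mem_ker, LinearMap.rTensor_tmul, LinearMap.mem_ker.1 hx, TensorProduct.zero_tmul]
  have h2 := hdom R h1
  rw [LinearMap.mem_ker, LinearMap.rTensor_tmul] at h2
  have h3 := congrArg (TensorProduct.rid R M') h2
  simpa using h3

/-- Let f : M → N and g : M → M' be maps of R-modules such that the cokernel of f is finitely presented.
Then g dominates f (for every module Q the kernel of f ⊗ id_Q is contained in the kernel of g ⊗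
id_Q) if and only if g factors through f. -/
theorem result (R : Type u) [CommRing R] {M N M' : Type u}
    [AddCommGroup M] [Module R M] [AddCommGroup N] [Module R N] [AddCommGroup M'] [Module R M']
    (f : M →ₗ[R] N) (g : M →ₗ[R] M') [Module.FinitePresentation R (N ⧸ LinearMap.range f)] :
    (∀ (Q : Type u) [AddCommGroup Q] [Module R Q], LinearMap.ker (f.rTensor Q) ≤ LinearMap.ker (g.rTensor Q)) ↔
      ∃ h : N →ₗ[R] M', g = h ∘ₗ f := by
  classical
  constructor
  · intro hdom
    obtain ⟨n, m, π, A, hπ, hAπ⟩ :=
      Module.FinitePresentation.exists_fin' R (N ⧸ LinearMap.range f)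
    let a : Fin m → Fin n → R := fun i j => A (Pi.single i 1) j
    choose y hy using fun j : Fin n => (LinearMap.range f).mkQ_surjective (π (Pi.single j 1))
    have hpi : ∀ v : Fin n → R, π v = ∑ j, v j • π (Pi.single j 1) := by
      intro v
      have : v = ∑ j, v j • (Pi.single j 1 : Fin n → R) := by
        ext k
        simp [Finset.sum_apply, Pi.single_apply]
      conv_lhs => rw [this]
      simp only [map_sum, map_smul]
    have hA : ∀ w : Fin m → R, A w = ∑ i, w i • A (Pi.single i 1) := by
      intro w
      have : w = ∑ i, w i • (Pi.single i 1 : Fin m → R) := by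
        ext k
        simp [Finset.sum_apply, Pi.single_apply]
      conv_lhs => rw [this]
      simp only [map_sum, map_smul]
    have hmk : ∀ v : Fin n → R, (LinearMap.range f).mkQ (∑ j, v j • y j) = π v := by
      intro v
      rw [hpi v, map_sum]
      simp only [map_smul, hy]
    have hrel : ∀ i, ∑ j, a i j • y j ∈ LinearMap.range f := by
      intro i
      rw [← Submodule.Quotient.mk_eq_zero, ← Submodule.mkQ_apply, hmk]
      exact hAπ.apply_apply_eq_zero _
    choose x hx using hrel
    obtain ⟨t, ht⟩ := dominates_equational f g hdom m n x y a hx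
    have hker := ker_le_ker_of_dominates f g hdom
    let ψ : (M × (Fin n → R)) →ₗ[R] N := f.coprod (Fintype.linearCombination R y)
    let χ : (M × (Fin n → R)) →ₗ[R] M' := g.coprod (Fintype.linearCombination R t)
    have hψ : Function.Surjective ψ := by
      intro w
      obtain ⟨v, hv⟩ := hπ ((LinearMap.range f).mkQ w)
      have : w - ∑ j, v j • y j ∈ LinearMap.range f := by
        rw [← Submodule.Quotient.mk_eq_zero, ← Submodule.mkQ_apply, map_sub, hmk, hv, sub_self]
      obtain ⟨m0, hm0⟩ := this
      refine ⟨(m0, v), ?_⟩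
      simp only [ψ, LinearMap.coprod_apply, Fintype.linearCombination_apply, hm0]
      abel
    have hkk : LinearMap.ker ψ ≤ LinearMap.ker χ := by
      rintro ⟨m0, v⟩ hmv
      rw [LinearMap.mem_ker] at hmv ⊢
      simp only [ψ, χ, LinearMap.coprod_apply, Fintype.linearCombination_apply] at hmv ⊢
      have hv0 : π v = 0 := by
        rw [← hmk v]
        have : ∑ j, v j • y j = - f m0 := by
          rw [eq_neg_iff_add_eq_zero, add_comm]; exact hmv
        have hm0 : (LinearMap.range f).mkQ (f m0) = 0 := by
          rw [Submodule.mkQ_apply, Submodule.Quotient.mk_eq_zero]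
          exact ⟨m0, rfl⟩
        rw [this, map_neg, hm0, neg_zero]
      obtain ⟨w, rfl⟩ := (hAπ v).1 hv0
      have hAw : ∀ j, A w j = ∑ i, w i * a i j := by
        intro j
        rw [hA w]
        simp [Finset.sum_apply, a]
      have e1 : ∑ j, A w j • y j = f (∑ i, w i • x i) := by
        simp only [hAw, Finset.sum_smul, map_sum, map_smul, hx, Finset.smul_sum, smul_smul]
        exact Finset.sum_comm
      have e2 : ∑ j, A w j • t j = g (∑ i, w i • x i) := by
        simp only [hAw, Finset.sum_smul, map_sum, map_smul, ht, Finset.smul_sum, smul_smul]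
        exact Finset.sum_comm
      rw [e1, ← map_add] at hmv
      rw [e2, ← map_add]
      exact hker hmv
    let h : N →ₗ[R] M' := ((LinearMap.ker ψ).liftQ χ hkk) ∘ₗ
      (LinearMap.quotKerEquivOfSurjective ψ hψ).symm.toLinearMap
    have hhψ : ∀ v, h (ψ v) = χ v := by
      intro v
      have : (LinearMap.quotKerEquivOfSurjective ψ hψ).symm (ψ v) = (LinearMap.ker ψ).mkQ v := by
        rw [LinearEquiv.symm_apply_eq]
        rfl
      simp only [h, LinearMap.coe_comp, LinearEquiv.coe_coe, Function.comp_apply, this]
      rfl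
    refine ⟨h, ?_⟩
    ext m0
    have := hhψ (m0, 0)
    simp only [ψ, χ, LinearMap.coprod_apply, map_zero, add_zero] at this
    rw [LinearMap.comp_apply, this]
  · rintro ⟨h, rfl⟩ Q _ _ z hz
    rw [LinearMap.mem_ker] at hz ⊢
    rw [LinearMap.rTensor_comp, LinearMap.comp_apply, hz, map_zero]

end Groth.Agent.S6359
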