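import Groth.Statements.S6361
import Groth.Agent.Lib.Helper52.MittagLeffler2
import Groth.Agent.S6359

set_option autoImplicit false
universe u
open CAlg

namespace Groth.Agent.S6361

open Groth.Agent.Lib.Helper52.ML TensorProduct

/-- A compatible family of linear maps on an exhaustive increasing chain of submodules glues to a
linear map. -/
theorem exists_linearMap_of_chain {R : Type u} [CommRing R] {M Q : Type u} [AddCommGroup M]
    [Module R M] [AddCommGroup Q] [Module R Q] (Mn : ℕ → Submodule R M) (hmono : Monotone Mn)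
    (hex : ∀ x, ∃ n, x ∈ Mn n) (β : ∀ n, Mn n →ₗ[R] Q)
    (hβ : ∀ n (x : Mn n), β (n + 1) (Submodule.inclusion (hmono n.le_succ) x) = β n x) :
    ∃ b : M →ₗ[R] Q, ∀ n (x : Mn n), b x = β n x := by
  classical
  have hcompat : ∀ n m (hnm : n ≤ m) (x : M) (hx : x ∈ Mn n),
      β m ⟨x, hmono hnm hx⟩ = β n ⟨x, hx⟩ := by
    intro n m hnm
    induction m, hnm using Nat.le_induction with
    | base => intro x hx; rfl
    | succ m hnm ih =>
      intro x hx
      rw [← ih x hx, ← hβ m ⟨x, hmono hnm hx⟩]
      rfl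
  have hcompat' : ∀ n m (x : M) (hn : x ∈ Mn n) (hm : x ∈ Mn m), β n ⟨x, hn⟩ = β m ⟨x, hm⟩ := by
    intro n m x hn hm
    rcases le_total n m with h | h
    · exact (hcompat n m h x hn).symm
    · exact hcompat m n h x hm
  let b0 : M → Q := fun x => β (Nat.find (hex x)) ⟨x, Nat.find_spec (hex x)⟩
  have hb0 : ∀ n (x : M) (hx : x ∈ Mn n), b0 x = β n ⟨x, hx⟩ := by
    intro n x hx
    exact hcompat' _ _ x _ hx
  have hadd : ∀ x y, b0 (x + y) = b0 x + b0 y := by
    intro x y
    obtain ⟨n, hn⟩ := hex x
    obtain ⟨m, hm⟩ := hex y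
    have hx : x ∈ Mn (max n m) := hmono (le_max_left n m) hn
    have hy : y ∈ Mn (max n m) := hmono (le_max_right n m) hm
    rw [hb0 _ x hx, hb0 _ y hy, hb0 _ (x + y) (add_mem hx hy), ← map_add]
    rfl
  have hsmul : ∀ (r : R) x, b0 (r • x) = r • b0 x := by
    intro r x
    obtain ⟨n, hn⟩ := hex x
    rw [hb0 _ x hn, hb0 _ (r • x) (Submodule.smul_mem _ r hn), ← map_smul]
    rfl
  refine ⟨⟨⟨b0, hadd⟩, hsmul⟩, fun n x => ?_⟩
  exact hb0 n x.1 x.2

/-- The cokernel of a map from a finite module to a finitely presented module is finitely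
presented. -/
theorem finitePresentation_coker {R : Type u} [CommRing R] {A B : Type u} [AddCommGroup A]
    [Module R A] [AddCommGroup B] [Module R B] [Module.Finite R A] [Module.FinitePresentation R B]
    (f : A →ₗ[R] B) : Module.FinitePresentation R (B ⧸ LinearMap.range f) := by
  refine Module.finitePresentation_of_surjective (LinearMap.range f).mkQ
    (LinearMap.range f).mkQ_surjective ?_
  rw [Submodule.ker_mkQ]
  exact Submodule.fg_range f

/-- Let M be a Mittag-Leffler, countably generated module over a commutative ring R, and f : P → M a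
linear map with P finitely generated. Then there is an endomorphism a of M which factors through
some finitely presented module and satisfies a ∘ f = f. -/
theorem result (R : Type u)
    [CommRing R] (M : Type u) [AddCommGroup M] [Module R M] (hML : CAlg.IsMittagLeffler R M)
    (hc : CAlg.IsCountablyGenerated R M) {P : Type u} [AddCommGroup P] [Module R P] [Module.Finite R P]
    (f : P →ₗ[R] M) :
    ∃ (Q : Type u) (_ : AddCommGroup Q) (_ : Module R Q) (_ : Module.FinitePresentation R Q)
      (b : M →ₗ[R] Q) (c : Q →ₗ[R] M), (c ∘ₗ b) ∘ₗ f = f := by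
  classical
  obtain ⟨s, hs, hspan⟩ := hc
  -- enumerate a generating set
  have hs' : (insert (0 : M) s).Countable := hs.insert 0
  obtain ⟨e, he⟩ := hs'.exists_eq_range (Set.insert_nonempty 0 s)
  have hspan' : Submodule.span R (Set.range e) = ⊤ := by
    rw [← he, eq_top_iff, ← hspan]
    exact Submodule.span_mono (Set.subset_insert 0 s)
  -- the chain of finitely generated submodules
  let Mn : ℕ → Submodule R M := fun n =>
    LinearMap.range f ⊔ Submodule.span R (e '' (Set.Iio n))
  have hmono : Monotone Mn := by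
    intro n m hnm
    exact sup_le_sup_left (Submodule.span_mono (Set.image_mono (Set.Iio_subset_Iio hnm))) _
  have hfin : ∀ n, Module.Finite R (Mn n) := by
    intro n
    rw [Module.Finite.iff_fg]
    exact Submodule.FG.sup (Submodule.fg_range f)
      (Submodule.fg_span ((Set.finite_Iio n).image e))
  have hex : ∀ x : M, ∃ n, x ∈ Mn n := by
    intro x
    have hx : x ∈ ⨆ n, Mn n := by
      have : Submodule.span R (Set.range e) ≤ ⨆ n, Mn n := by
        rw [Submodule.span_le]
        rintro _ ⟨k, rfl⟩
        refine Submodule.mem_iSup_of_mem (k + 1) ?_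
        exact Submodule.mem_sup_right (Submodule.subset_span ⟨k, Nat.lt_succ_self k, rfl⟩)
      exact this (hspan' ▸ Submodule.mem_top)
    exact (Submodule.mem_iSup_of_directed _ hmono.directed_le).1 hx
  -- domination data for each step
  choose m K hK g h hgh hker using fun n =>
    forall_finite_dominate M hML (Mn n) (Mn n).subtype
  have hfp : ∀ n, Module.FinitePresentation R ((Fin (m n) → R) ⧸ K n) := fun n =>
    finitePresentation_quotient_of_fg (K n) (hK n)
  -- transition maps
  have hδ : ∀ n, ∃ δ : ((Fin (m (n + 1)) → R) ⧸ K (n + 1)) →ₗ[R] ((Fin (m n) → R) ⧸ K n),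
      g n = δ ∘ₗ (g (n + 1) ∘ₗ Submodule.inclusion (hmono n.le_succ)) := by
    intro n
    have := finitePresentation_coker (g (n + 1) ∘ₗ Submodule.inclusion (hmono n.le_succ))
    apply (Groth.Agent.S6359.result R
      (g (n + 1) ∘ₗ Submodule.inclusion (hmono n.le_succ)) (g n)).1
    intro N _ _ x hx
    rw [LinearMap.mem_ker, LinearMap.rTensor_comp, LinearMap.comp_apply, ← LinearMap.mem_ker,
      ← hker (n + 1) N, LinearMap.mem_ker, ← LinearMap.comp_apply, ← LinearMap.rTensor_comp] at hx
    rw [← hker n N, LinearMap.mem_ker]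
    exact hx
  choose δ hδ' using hδ
  let γ : ∀ n, ((Fin (m n) → R) ⧸ K n) →ₗ[R] ((Fin (m 0) → R) ⧸ K 0) := fun n =>
    Nat.rec LinearMap.id (fun n γn => γn ∘ₗ δ n) n
  have hγ0 : γ 0 = LinearMap.id := rfl
  have hγs : ∀ n, γ (n + 1) = γ n ∘ₗ δ n := fun n => rfl
  let β : ∀ n, Mn n →ₗ[R] ((Fin (m 0) → R) ⧸ K 0) := fun n => γ n ∘ₗ g n
  have hβ : ∀ n (x : Mn n), β (n + 1) (Submodule.inclusion (hmono n.le_succ) x) = β n x := by
    intro n x
    simp only [β, hγs, LinearMap.comp_apply]
    have := LinearMap.congr_fun (hδ' n) x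
    simp only [LinearMap.comp_apply] at this
    rw [this]
  obtain ⟨b, hb⟩ := exists_linearMap_of_chain Mn hmono hex β hβ
  refine ⟨(Fin (m 0) → R) ⧸ K 0, inferInstance, inferInstance, hfp 0, b, h 0, ?_⟩
  ext p
  have hp : f p ∈ Mn 0 := Submodule.mem_sup_left ⟨p, rfl⟩
  have h1 := hb 0 ⟨f p, hp⟩
  simp only [β, hγ0, LinearMap.comp_apply, LinearMap.id_apply] at h1
  have h2 := LinearMap.congr_fun (hgh 0) ⟨f p, hp⟩
  simp only [LinearMap.comp_apply, Submodule.subtype_apply] at h2
  simp only [LinearMap.comp_apply]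
  rw [h1, h2]

end Groth.Agent.S6361
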