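import Groth.Statements.S13749
import Mathlib
import Groth.Agent.Lib.Helper72.SchDense
import Groth.Agent.Lib.Helper45.NeronDescT
import Groth.Agent.Lib.Helper51.NeronDescD
import Groth.Agent.Lib.Helper71.NeronDescG
-- import your own Groth.Agent.* helpers here

set_option autoImplicit false
universe u
open CategoryTheory AlgebraicGeometry
open Neron

namespace Groth.Agent.S13749
open CategoryTheory CategoryTheory.Limits AlgebraicGeometry

section Sep

/-- two morphisms into a separated `S`-scheme agreeing on a scheme-theoretically dominant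
subscheme are equal -/
lemma ext_of_schDominant_of_isSeparated {W X Y Z : Scheme.{u}} {f g : X ⟶ Y}
    (s : Y ⟶ Z) [IsSeparated s] (h : f ≫ s = g ≫ s)
    (ι : W ⟶ X) [IsSchemeTheoreticallyDominant ι] (hU : ι ≫ f = ι ≫ g) : f = g := by
  let X' : Over Z := Over.mk (f ≫ s)
  let Y' : Over Z := Over.mk s
  let U' : Over Z := Over.mk (ι ≫ f ≫ s)
  let f' : X' ⟶ Y' := Over.homMk f
  let g' : X' ⟶ Y' := Over.homMk g
  let ι' : U' ⟶ X' := Over.homMk ι
  have : IsSeparated Y'.hom := ‹_›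
  have hlift : (equalizer.lift ι' (show ι' ≫ f' = ι' ≫ g' by ext1; exact hU)).left ≫
      (equalizer.ι f' g').left = ι := by
    rw [← Over.comp_left, equalizer.lift_ι]; rfl
  have hker : (equalizer.ι f' g').left.ker = ⊥ := by
    have h1 := Scheme.Hom.le_ker_comp
      (equalizer.lift ι' (show ι' ≫ f' = ι' ≫ g' by ext1; exact hU)).left
      (equalizer.ι f' g').left
    rw [hlift, ι.ker_eq_bot] at h1
    exact le_bot_iff.mp h1
  have : IsIso (equalizer.ι f' g').left := IsClosedImmersion.isIso_iff_ker_eq_bot.mpr hker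
  rw [← cancel_epi (equalizer.ι f' g').left]
  exact congr($(equalizer.condition f' g').left)

end Sep

section Adj

variable {C D : Type*} [Category C] [Category D] {F : C ⥤ D} {G : D ⥤ C} (adj : F ⊣ G)

lemma map_eq_homEquiv (Y N : D) (f : Y ⟶ N) :
    G.map f = adj.homEquiv (G.obj Y) N (adj.counit.app Y ≫ f) := by
  rw [Adjunction.homEquiv_unit, Functor.map_comp, ← Category.assoc]
  simp

lemma bijective_map_iff (Y N : D) :
    Function.Bijective (fun f : Y ⟶ N => G.map f) ↔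
      Function.Bijective (fun f : Y ⟶ N => adj.counit.app Y ≫ f) := by
  have : (fun f : Y ⟶ N => G.map f) =
      (adj.homEquiv (G.obj Y) N) ∘ (fun f : Y ⟶ N => adj.counit.app Y ≫ f) := by
    funext f; exact map_eq_homEquiv adj Y N f
  rw [this]
  exact (Equiv.comp_bijective _ _)

end Adj

section Plain

/-- the plain form of the Néron mapping property for the open immersion `j : V ⟶ Y` -/
def NMP {N S Y V : Scheme.{u}} (πN : N ⟶ S) (q : Y ⟶ S) (j : V ⟶ Y) : Prop :=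
  ∀ a : V ⟶ N, a ≫ πN = j ≫ q → ∃! b : Y ⟶ N, b ≫ πN = q ∧ j ≫ b = a

lemma NMP_of_iso {N S Y V₁ V₂ : Scheme.{u}} (πN : N ⟶ S) (q : Y ⟶ S) (e : V₁ ≅ V₂)
    (j₁ : V₁ ⟶ Y) (j₂ : V₂ ⟶ Y) (he : e.hom ≫ j₂ = j₁) (h : NMP πN q j₂) : NMP πN q j₁ := by
  intro a₁ ha₁
  have he' : e.inv ≫ j₁ = j₂ := by rw [← he, Iso.inv_hom_id_assoc]
  obtain ⟨b, ⟨hb1, hb2⟩, hb3⟩ := h (e.inv ≫ a₁) (by rw [Category.assoc, ha₁, ← Category.assoc, he'])
  refine ⟨b, ⟨hb1, ?_⟩, ?_⟩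
  · rw [← he, Category.assoc, hb2, Iso.hom_inv_id_assoc]
  · rintro b₂ ⟨h1, h2⟩
    exact hb3 b₂ ⟨h1, by rw [← he', Category.assoc, h2]⟩

variable {S S' : Scheme.{u}}

lemma goal_of_NMP (U : S.Opens) (N Y : Over S)
    (h : NMP N.hom Y.hom (pullback.fst Y.hom U.ι)) :
    Function.Bijective (fun f : Y ⟶ N => (Over.pullback U.ι).map f) := by
  rw [bijective_map_iff (Over.mapPullbackAdj U.ι)]
  rw [Function.bijective_iff_existsUnique]
  intro a'
  have ha : a'.left ≫ N.hom = pullback.fst Y.hom U.ι ≫ Y.hom := by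
    have := Over.w a'
    rw [this]
    simp [pullback.condition]
  obtain ⟨b, ⟨hb1, hb2⟩, hb3⟩ := h a'.left ha
  refine ⟨Over.homMk b hb1, ?_, ?_⟩
  · ext
    simpa using hb2
  · intro f hf
    ext
    refine hb3 f.left ⟨Over.w f, ?_⟩
    have := congrArg (fun φ => φ.left) hf
    simpa using this

lemma NMP_of_hyp (g : S' ⟶ S) (U' : S'.Opens) (N : Over S)
    (hN' : ∀ Y' : Over S', Smooth Y'.hom →
      Function.Bijective (fun f : Y' ⟶ (Over.pullback g).obj N => (Over.pullback U'.ι).map f))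
    {Y' : Scheme.{u}} (q' : Y' ⟶ S') [Smooth q'] :
    NMP N.hom (q' ≫ g) (pullback.fst q' U'.ι) := by
  have hbij := hN' (Over.mk q') ‹_›
  rw [bijective_map_iff (Over.mapPullbackAdj U'.ι), Function.bijective_iff_existsUnique] at hbij
  intro a ha
  let ã : (Over.map U'.ι).obj ((Over.pullback U'.ι).obj (Over.mk q')) ⟶ (Over.pullback g).obj N :=
    Over.homMk (pullback.lift a (pullback.fst q' U'.ι ≫ q') (by rw [ha, Category.assoc])) (by
      change pullback.lift _ _ _ ≫ pullback.snd N.hom g = pullback.snd q' U'.ι ≫ U'.ι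
      rw [pullback.lift_snd]; exact pullback.condition)
  obtain ⟨f, hf1, hf2⟩ := hbij ã
  have hf1' : pullback.fst q' U'.ι ≫ f.left = ã.left := by
    have := congrArg (fun φ => φ.left) hf1
    simpa using this
  refine ⟨f.left ≫ pullback.fst N.hom g, ⟨?_, ?_⟩, ?_⟩
  · rw [Category.assoc, pullback.condition, ← Category.assoc]
    congr 1
    exact Over.w f
  · rw [← Category.assoc, hf1']
    exact pullback.lift_fst _ _ _
  · rintro b₂ ⟨h1, h2⟩
    let f₂ : Over.mk q' ⟶ (Over.pullback g).obj N :=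
      Over.homMk (pullback.lift b₂ q' h1) (by
        change pullback.lift _ _ _ ≫ pullback.snd N.hom g = q'
        exact pullback.lift_snd _ _ _)
    have : f₂ = f := by
      apply hf2
      ext
      change pullback.fst q' U'.ι ≫ pullback.lift b₂ q' h1 =
        pullback.lift a (pullback.fst q' U'.ι ≫ q') _
      apply pullback.hom_ext
      · rw [Category.assoc, pullback.lift_fst, pullback.lift_fst, h2]
      · rw [Category.assoc, pullback.lift_snd, pullback.lift_snd]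
    rw [← this]
    exact (pullback.lift_fst _ _ _).symm

end Plain

section Core

/-- the stalk map of a flat morphism induces a flat surjective morphism of local schemes -/
lemma flat_surjective_SpecMap_stalkMap {Y' Y : Scheme.{u}} (p : Y' ⟶ Y) [Flat p] (y' : Y') :
    Flat (Spec.map (p.stalkMap y')) ∧ Surjective (Spec.map (p.stalkMap y')) := by
  rw [flat_and_surjective_SpecMap_iff]
  algebraize [(p.stalkMap y').hom]
  have : Module.FaithfullyFlat (Y.presheaf.stalk (p y')) (Y'.presheaf.stalk y') :=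
    @Module.FaithfullyFlat.of_flat_of_isLocalHom _ _ _ _ _ _ _
      (Flat.stalkMap p y') (p.toLRSHom.prop y')
  exact ‹RingHom.FaithfullyFlat _›

/-- descent of morphisms along a flat surjective morphism of affine schemes -/
lemma exists_desc_of_flat_surjective {A B N : Scheme.{u}} [IsAffine A] [IsAffine B] (π : A ⟶ B)
    [Flat π] [Surjective π] (ψ : A ⟶ N)
    (h : pullback.fst π π ≫ ψ = pullback.snd π π ≫ ψ) : ∃ φ : B ⟶ N, π ≫ φ = ψ := by
  haveI : EffectiveEpi π := inferInstance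
  have hdesc : ∀ {Z : Scheme.{u}} (g₁ g₂ : Z ⟶ A), g₁ ≫ π = g₂ ≫ π → g₁ ≫ ψ = g₂ ≫ ψ := by
    intro Z g₁ g₂ hg
    have h1 : pullback.lift g₁ g₂ hg ≫ pullback.fst π π = g₁ := pullback.lift_fst _ _ _
    have h2 : pullback.lift g₁ g₂ hg ≫ pullback.snd π π = g₂ := pullback.lift_snd _ _ _
    calc g₁ ≫ ψ = (pullback.lift g₁ g₂ hg ≫ pullback.fst π π) ≫ ψ := by rw [h1]
      _ = (pullback.lift g₁ g₂ hg ≫ pullback.snd π π) ≫ ψ := by
          rw [Category.assoc, Category.assoc, h]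
      _ = g₂ ≫ ψ := by rw [h2]
  exact ⟨EffectiveEpi.desc π ψ hdesc, EffectiveEpi.fac π ψ hdesc⟩

/-- two morphisms agreeing locally are equal -/
lemma eq_of_locally_eq {X N : Scheme.{u}} (α β : X ⟶ N)
    (h : ∀ x : X, ∃ U : X.Opens, x ∈ U ∧ U.ι ≫ α = U.ι ≫ β) : α = β := by
  choose U hxU hU using h
  have hcov : TopologicalSpace.IsOpenCover U := by
    rw [TopologicalSpace.IsOpenCover, eq_top_iff]
    intro x _
    exact TopologicalSpace.Opens.mem_iSup.mpr ⟨x, hxU x⟩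
  exact (X.openCoverOfIsOpenCover U hcov).hom_ext _ _ (fun x => hU x)

theorem flat_fromSpecStalk (Y : Scheme.{u}) (y : Y) : Flat (Y.fromSpecStalk y) := by
  obtain ⟨_, ⟨U, hU, rfl⟩, hyU, -⟩ :=
    Y.isBasis_affineOpens.exists_subset_of_mem_open (Set.mem_univ y) isOpen_univ
  rw [← hU.fromSpecStalk_eq_fromSpecStalk hyU, IsAffineOpen.fromSpecStalk]
  have : Flat (Spec.map (Y.presheaf.germ U y hyU)) := by
    rw [Flat.SpecMap_iff]
    letI : Algebra Γ(Y, U) (Y.presheaf.stalk y) := (Y.presheaf.germ U y hyU).hom.toAlgebra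
    haveI := hU.isLocalization_stalk ⟨y, hyU⟩
    exact IsLocalization.flat _ (hU.primeIdealOf ⟨y, hyU⟩).asIdeal.primeCompl
  infer_instance

/-- if `t : T ⟶ Y'` lands in `p⁻¹ V` then `t ≫ b'` is computed by `a` -/
lemma comp_eq_of_lift {T Y' Y N : Scheme.{u}} (p : Y' ⟶ Y) (V : Y.Opens) (a : V.toScheme ⟶ N)
    (b' : Y' ⟶ N) (hb'a : (p ⁻¹ᵁ V).ι ≫ b' = (p ∣_ V) ≫ a) (t : T ⟶ Y')
    (v : T ⟶ V.toScheme) (hv : v ≫ V.ι = t ≫ p) : t ≫ b' = v ≫ a := by
  have hrange : Set.range t ⊆ Set.range (p ⁻¹ᵁ V).ι := by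
    rintro _ ⟨z, rfl⟩
    rw [Scheme.Opens.range_ι]
    change p (t z) ∈ V
    have : p (t z) = V.ι (v z) := by
      rw [← Scheme.Hom.comp_apply, ← Scheme.Hom.comp_apply, hv]
    rw [this]
    exact (v z).2
  have hl : IsOpenImmersion.lift (p ⁻¹ᵁ V).ι t hrange ≫ (p ⁻¹ᵁ V).ι = t :=
    IsOpenImmersion.lift_fac _ _ _
  have hlv : IsOpenImmersion.lift (p ⁻¹ᵁ V).ι t hrange ≫ (p ∣_ V) = v := by
    rw [← cancel_mono V.ι, Category.assoc, morphismRestrict_ι, ← Category.assoc, hl, hv]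
  calc t ≫ b' = IsOpenImmersion.lift (p ⁻¹ᵁ V).ι t hrange ≫ (p ⁻¹ᵁ V).ι ≫ b' := by
        rw [← Category.assoc, hl]
    _ = v ≫ a := by rw [hb'a, ← Category.assoc, hlv]

section Dense

variable {S : Scheme.{u}} [IsLocallyNoetherian S] (U : S.Opens)
  (hU : CInt.IsSchematicallyDense U)

include hU in
lemma dominant_preimage {X : Scheme.{u}} (r : X ⟶ S) [Flat r] :
    IsSchemeTheoreticallyDominant (r ⁻¹ᵁ U).ι := by
  have h := Groth.Agent.Lib.Helper72.SchDense.preimage_of_flat r U hU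
  haveI : QuasiCompact (r ⁻¹ᵁ U).ι :=
    MorphismProperty.of_isPullback (P := @QuasiCompact) (isPullback_morphismRestrict r U)
      inferInstance
  exact Groth.Agent.Lib.Helper72.SchDense.dominant_of_isSchematicallyDense _ h

include hU in
lemma ext_of_flat {X N : Scheme.{u}} (πN : N ⟶ S) [IsSeparated πN] (r : X ⟶ S) [Flat r]
    (f₁ f₂ : X ⟶ N) (h₁ : f₁ ≫ πN = r) (h₂ : f₂ ≫ πN = r)
    (h : (r ⁻¹ᵁ U).ι ≫ f₁ = (r ⁻¹ᵁ U).ι ≫ f₂) : f₁ = f₂ := by
  haveI := dominant_preimage U hU r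
  exact ext_of_schDominant_of_isSeparated πN (h₁.trans h₂.symm) (r ⁻¹ᵁ U).ι h

include hU in
lemma ext_of_flat' {X N : Scheme.{u}} (πN : N ⟶ S) [IsSeparated πN] (r : X ⟶ S) [Flat r]
    (O : X.Opens) (hO : O = r ⁻¹ᵁ U)
    (f₁ f₂ : X ⟶ N) (h₁ : f₁ ≫ πN = r) (h₂ : f₂ ≫ πN = r)
    (h : O.ι ≫ f₁ = O.ι ≫ f₂) : f₁ = f₂ := by
  subst hO
  exact ext_of_flat U hU πN r f₁ f₂ h₁ h₂ h

include hU in
/-- local descent: the germ of the sought-for extension at `p y'` -/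
lemma exists_germ_map {Y Y' N : Scheme.{u}} (q : Y ⟶ S) [Flat q] (πN : N ⟶ S) [IsSeparated πN]
    (p : Y' ⟶ Y) [Flat p] (a : (q ⁻¹ᵁ U).toScheme ⟶ N)
    (b' : Y' ⟶ N) (hb' : b' ≫ πN = p ≫ q)
    (hb'a : (p ⁻¹ᵁ (q ⁻¹ᵁ U)).ι ≫ b' = (p ∣_ (q ⁻¹ᵁ U)) ≫ a) (y' : Y') :
    ∃ φ : Spec (Y.presheaf.stalk (p y')) ⟶ N,
      Spec.map (p.stalkMap y') ≫ φ = Y'.fromSpecStalk y' ≫ b' ∧
      φ ≫ πN = Y.fromSpecStalk (p y') ≫ q := by
  obtain ⟨hfl, hsu⟩ := flat_surjective_SpecMap_stalkMap p y'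
  have key : Spec.map (p.stalkMap y') ≫ Y.fromSpecStalk (p y') = Y'.fromSpecStalk y' ≫ p :=
    Scheme.SpecMap_stalkMap_fromSpecStalk p
  haveI := flat_fromSpecStalk Y' y'
  set σ := Spec.map (p.stalkMap y') with hσ
  let t₀ : pullback σ σ ⟶ Y := pullback.fst σ σ ≫ Y'.fromSpecStalk y' ≫ p
  have ht₀ : pullback.snd σ σ ≫ Y'.fromSpecStalk y' ≫ p = t₀ := by
    change _ = pullback.fst σ σ ≫ Y'.fromSpecStalk y' ≫ p
    rw [← key, ← Category.assoc, ← pullback.condition, Category.assoc]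
  haveI : Flat (t₀ ≫ q) := by
    change Flat ((pullback.fst σ σ ≫ Y'.fromSpecStalk y' ≫ p) ≫ q)
    infer_instance
  have hdesc : pullback.fst σ σ ≫ (Y'.fromSpecStalk y' ≫ b') =
      pullback.snd σ σ ≫ (Y'.fromSpecStalk y' ≫ b') := by
    refine ext_of_flat' U hU πN (t₀ ≫ q) (t₀ ⁻¹ᵁ (q ⁻¹ᵁ U)) rfl _ _ ?_ ?_ ?_
    · simp only [Category.assoc, hb']; rfl
    · simp only [Category.assoc, hb']
      rw [← Category.assoc (Y'.fromSpecStalk y'), ← Category.assoc (pullback.snd σ σ),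
        ← Category.assoc (pullback.snd σ σ), Category.assoc (pullback.snd σ σ), ht₀]
    · have e1 := comp_eq_of_lift p (q ⁻¹ᵁ U) a b' hb'a
        ((t₀ ⁻¹ᵁ (q ⁻¹ᵁ U)).ι ≫ pullback.fst σ σ ≫ Y'.fromSpecStalk y') (t₀ ∣_ (q ⁻¹ᵁ U)) (by
          rw [morphismRestrict_ι]; simp only [Category.assoc]; rfl)
      have e2 := comp_eq_of_lift p (q ⁻¹ᵁ U) a b' hb'a
        ((t₀ ⁻¹ᵁ (q ⁻¹ᵁ U)).ι ≫ pullback.snd σ σ ≫ Y'.fromSpecStalk y') (t₀ ∣_ (q ⁻¹ᵁ U)) (by
          rw [morphismRestrict_ι]; simp only [Category.assoc]; rw [ht₀])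
      simp only [Category.assoc] at e1 e2
      rw [e1, e2]
  obtain ⟨φ, hφ⟩ := exists_desc_of_flat_surjective σ (Y'.fromSpecStalk y' ≫ b') hdesc
  refine ⟨φ, hφ, ?_⟩
  haveI : Epi σ := Flat.epi_of_flat_of_surjective σ
  rw [← cancel_epi σ, ← Category.assoc, hφ, Category.assoc, hb', ← Category.assoc σ, key,
    Category.assoc]

/-- (T) pure topology (proved by helper45) -/
theorem exists_open_nhd_inter_subset {W : Type*} [TopologicalSpace W]
    [TopologicalSpace.NoetherianSpace W]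
    [QuasiSober W] (O O₀ : Set W) (hO : IsOpen O) (hO₀ : IsOpen O₀) (h₀ : O₀ ⊆ O) (y : W)
    (hy : ∀ ξ ∈ O, ξ ⤳ y → ξ ∈ O₀) : ∃ W' : Set W, IsOpen W' ∧ y ∈ W' ∧ W' ∩ O ⊆ O₀ :=
  Groth.Agent.Lib.Helper45.NeronDescT.exists_open_nhd_inter_subset O O₀ hO hO₀ h₀ y hy

include hU in
theorem local_ext {Y Y' N : Scheme.{u}} (q : Y ⟶ S) [Flat q] [LocallyOfFiniteType q]
    (πN : N ⟶ S) [IsSeparated πN] [LocallyOfFiniteType πN]
    (p : Y' ⟶ Y) [Flat p] (a : (q ⁻¹ᵁ U).toScheme ⟶ N)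
    (b' : Y' ⟶ N) (hb' : b' ≫ πN = p ≫ q)
    (hb'a : (p ⁻¹ᵁ (q ⁻¹ᵁ U)).ι ≫ b' = (p ∣_ (q ⁻¹ᵁ U)) ≫ a) (y' : Y') :
    ∃ (X : Scheme.{u}) (j : X ⟶ Y), IsOpenImmersion j ∧ p y' ∈ Set.range j ∧
      ∃ f : X ⟶ N, f ≫ πN = j ≫ q ∧
        (j ⁻¹ᵁ (q ⁻¹ᵁ U)).ι ≫ f = (j ∣_ (q ⁻¹ᵁ U)) ≫ a := by
  haveI : IsLocallyNoetherian Y := LocallyOfFiniteType.isLocallyNoetherian q
  obtain ⟨φ, hφ1, hφ2⟩ := exists_germ_map U hU q πN p a b' hb' hb'a y'
  obtain ⟨hfl, hsu⟩ := flat_surjective_SpecMap_stalkMap p y'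
  have key : Spec.map (p.stalkMap y') ≫ Y.fromSpecStalk (p y') = Y'.fromSpecStalk y' ≫ p :=
    Scheme.SpecMap_stalkMap_fromSpecStalk p
  set σ := Spec.map (p.stalkMap y') with hσ
  obtain ⟨W₀, hyW₀, f₀, hf₀φ, hf₀⟩ := spread_out_of_isGermInjective' q πN φ hφ2
  obtain ⟨_, ⟨W : Y.Opens, hW, rfl⟩, hyW, hWW₀⟩ :=
    Y.isBasis_affineOpens.exists_subset_of_mem_open hyW₀ W₀.2
  have hWW₀' : W ≤ W₀ := hWW₀
  let f : W.toScheme ⟶ N := Y.homOfLE hWW₀' ≫ f₀
  have hf : f ≫ πN = W.ι ≫ q := by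
    change (Y.homOfLE hWW₀' ≫ f₀) ≫ πN = _
    rw [Category.assoc, hf₀, ← Category.assoc, Scheme.homOfLE_ι]
  have hfφ : φ = W.fromSpecStalkOfMem (p y') hyW ≫ f := by
    rw [hf₀φ]
    change _ = W.fromSpecStalkOfMem (p y') hyW ≫ Y.homOfLE hWW₀' ≫ f₀
    rw [← Category.assoc]
    congr 1
    rw [← cancel_mono W₀.ι, Category.assoc, Scheme.homOfLE_ι, Scheme.Opens.fromSpecStalkOfMem_ι,
      Scheme.Opens.fromSpecStalkOfMem_ι]
  let V : Y.Opens := q ⁻¹ᵁ U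
  let O : W.toScheme.Opens := W.ι ⁻¹ᵁ V
  let α : O.toScheme ⟶ N := O.ι ≫ f
  let β : O.toScheme ⟶ N := (W.ι ∣_ V) ≫ a
  have hgerm : ∀ ξ' : O.toScheme, (W.ι (O.ι ξ')) ⤳ p y' →
      ∃ U'' : O.toScheme.Opens, ξ' ∈ U'' ∧ U''.ι ≫ α = U''.ι ≫ β := by
    intro ξ' hξ
    apply spread_out_unique_of_isGermInjective'
    let ι₂ : O.toScheme ⟶ Y := O.ι ≫ W.ι
    have e1 : Spec.map (ι₂.stalkMap ξ') ≫ Y.fromSpecStalk (ι₂ ξ') =
        O.toScheme.fromSpecStalk ξ' ≫ ι₂ := Scheme.SpecMap_stalkMap_fromSpecStalk ι₂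
    have hξ' : ι₂ ξ' ⤳ p y' := hξ
    have e2 : Spec.map (Y.presheaf.stalkSpecializes hξ') ≫ Y.fromSpecStalk (p y') =
        Y.fromSpecStalk (ι₂ ξ') := Scheme.SpecMap_stalkSpecializes_fromSpecStalk hξ'
    have e3 : W.fromSpecStalkOfMem (p y') hyW ≫ W.ι = Y.fromSpecStalk (p y') :=
      Scheme.Opens.fromSpecStalkOfMem_ι W (p y') hyW
    let θ : Spec (O.toScheme.presheaf.stalk ξ') ⟶ Spec (Y.presheaf.stalk (p y')) :=
      Spec.map (ι₂.stalkMap ξ') ≫ Spec.map (Y.presheaf.stalkSpecializes hξ')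
    have hθ : O.toScheme.fromSpecStalk ξ' ≫ O.ι = θ ≫ W.fromSpecStalkOfMem (p y') hyW := by
      rw [← cancel_mono W.ι, Category.assoc, Category.assoc, e3]
      change O.toScheme.fromSpecStalk ξ' ≫ ι₂ = (_ ≫ _) ≫ _
      rw [← e1, Category.assoc, e2]
    have hL : O.toScheme.fromSpecStalk ξ' ≫ α = θ ≫ φ := by
      change O.toScheme.fromSpecStalk ξ' ≫ O.ι ≫ f = _
      rw [← Category.assoc, hθ, Category.assoc, ← hfφ]
    rw [hL]
    haveI : Epi (pullback.fst θ σ) := Flat.epi_of_flat_of_surjective _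
    rw [← cancel_epi (pullback.fst θ σ)]
    have hv : (pullback.fst θ σ ≫ O.toScheme.fromSpecStalk ξ' ≫ (W.ι ∣_ V)) ≫ V.ι =
        (pullback.snd θ σ ≫ Y'.fromSpecStalk y') ≫ p := by
      simp only [Category.assoc]
      rw [morphismRestrict_ι]
      change pullback.fst θ σ ≫ O.toScheme.fromSpecStalk ξ' ≫ O.ι ≫ W.ι = _
      rw [← Category.assoc (O.toScheme.fromSpecStalk ξ'), hθ, Category.assoc, e3, ← key,
        ← Category.assoc, pullback.condition, Category.assoc]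
    have e4 := comp_eq_of_lift p V a b' hb'a (pullback.snd θ σ ≫ Y'.fromSpecStalk y')
      (pullback.fst θ σ ≫ O.toScheme.fromSpecStalk ξ' ≫ (W.ι ∣_ V)) hv
    calc pullback.fst θ σ ≫ θ ≫ φ = pullback.snd θ σ ≫ σ ≫ φ := by
          rw [← Category.assoc, pullback.condition, Category.assoc]
      _ = (pullback.snd θ σ ≫ Y'.fromSpecStalk y') ≫ b' := by rw [hφ1, Category.assoc]
      _ = (pullback.fst θ σ ≫ O.toScheme.fromSpecStalk ξ' ≫ (W.ι ∣_ V)) ≫ a := e4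
      _ = pullback.fst θ σ ≫ O.toScheme.fromSpecStalk ξ' ≫ β := by
          simp only [Category.assoc]; rfl
  -- the agreement locus
  let A : W.toScheme.Opens :=
    ⨆ (U'' : {U'' : O.toScheme.Opens // U''.ι ≫ α = U''.ι ≫ β}), O.ι ''ᵁ U''.1
  have hAO : (A : Set W.toScheme) ⊆ (O : Set W.toScheme) := by
    intro x hx
    obtain ⟨U'', hxU⟩ := TopologicalSpace.Opens.mem_iSup.mp hx
    have := Scheme.Hom.image_le_opensRange O.ι U''.1 hxU
    rwa [Scheme.Opens.opensRange_ι] at this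
  haveI : IsNoetherianRing Γ(Y, W) := IsLocallyNoetherian.component_noetherian ⟨W, hW⟩
  haveI : TopologicalSpace.NoetherianSpace W.toScheme := noetherianSpace_of_isAffineOpen W hW
  obtain ⟨W', hW'o, hyW', hW'⟩ := exists_open_nhd_inter_subset (W := W.toScheme)
    (O : Set W.toScheme) (A : Set W.toScheme) O.2 A.2 hAO ⟨p y', hyW⟩ (by
      intro ξ hξO hξy
      obtain ⟨U'', hξU, hU''⟩ := hgerm ⟨ξ, hξO⟩ (hξy.map W.ι.continuous)
      exact TopologicalSpace.Opens.mem_iSup.mpr ⟨⟨U'', hU''⟩, ⟨⟨ξ, hξO⟩, hξU, rfl⟩⟩)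
  let W'o : W.toScheme.Opens := ⟨W', hW'o⟩
  refine ⟨W'o.toScheme, W'o.ι ≫ W.ι, inferInstance, ⟨⟨⟨p y', hyW⟩, hyW'⟩, rfl⟩, W'o.ι ≫ f, ?_, ?_⟩
  · rw [Category.assoc, hf, Category.assoc]
  · let m : (W'o.ι ⁻¹ᵁ O).toScheme ⟶ O.toScheme := W'o.ι ∣_ O
    have hm1 : ((W'o.ι ≫ W.ι) ∣_ V) = m ≫ (W.ι ∣_ V) := morphismRestrict_comp W'o.ι W.ι V
    have hm2 : m ≫ O.ι = (W'o.ι ⁻¹ᵁ O).ι ≫ W'o.ι := morphismRestrict_ι W'o.ι O
    have hmain : m ≫ α = m ≫ β := by
      apply eq_of_locally_eq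
      intro x
      have hx1 : O.ι (m x) ∈ (A : Set W.toScheme) := by
        apply hW'
        have : O.ι (m x) = W'o.ι ((W'o.ι ⁻¹ᵁ O).ι x) := by
          rw [← Scheme.Hom.comp_apply, ← Scheme.Hom.comp_apply, hm2]
        refine ⟨?_, (m x).2⟩
        rw [this]
        exact ((W'o.ι ⁻¹ᵁ O).ι x).2
      obtain ⟨U'', hxU⟩ := TopologicalSpace.Opens.mem_iSup.mp hx1
      obtain ⟨z, hzU, hz⟩ := hxU
      have hzx : z = m x := O.ι.injective hz
      have hmx : m x ∈ U''.1 := by rw [← hzx]; exact hzU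
      refine ⟨m ⁻¹ᵁ U''.1, hmx, ?_⟩
      calc (m ⁻¹ᵁ U''.1).ι ≫ m ≫ α = (m ∣_ U''.1) ≫ U''.1.ι ≫ α := by
            rw [← Category.assoc, ← morphismRestrict_ι, Category.assoc]
        _ = (m ∣_ U''.1) ≫ U''.1.ι ≫ β := by rw [U''.2]
        _ = (m ⁻¹ᵁ U''.1).ι ≫ m ≫ β := by
            rw [← Category.assoc (m ∣_ U''.1), morphismRestrict_ι, Category.assoc]
    change (W'o.ι ⁻¹ᵁ O).ι ≫ W'o.ι ≫ f = ((W'o.ι ≫ W.ι) ∣_ V) ≫ a
    rw [hm1]
    have h3 : (W'o.ι ⁻¹ᵁ O).ι ≫ W'o.ι ≫ f = m ≫ α := by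
      change _ = m ≫ (O.ι ≫ f)
      rw [← Category.assoc m, hm2, Category.assoc]
    have h4 : (m ≫ (W.ι ∣_ V)) ≫ a = m ≫ β := Category.assoc _ _ _
    exact h3.trans (hmain.trans h4.symm)

include hU in
/-- the plain form of the theorem -/
theorem plain {S' : Scheme.{u}} (g : S' ⟶ S) [Flat g] [Surjective g] {N : Scheme.{u}}
    (πN : N ⟶ S) [Smooth πN] [IsSeparated πN]
    (H' : ∀ {Y' : Scheme.{u}} (q' : Y' ⟶ S') [Smooth q'],
      NMP πN (q' ≫ g) (pullback.fst q' (g ⁻¹ᵁ U).ι))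
    {Y : Scheme.{u}} (q : Y ⟶ S) [Smooth q] : NMP πN q (pullback.fst q U.ι) := by
  -- pass to the opens form
  refine NMP_of_iso πN q (pullbackRestrictIsoRestrict q U) _ (q ⁻¹ᵁ U).ι
    (pullbackRestrictIsoRestrict_hom_ι q U) ?_
  intro a ha
  -- the base change
  let p : pullback q g ⟶ Y := pullback.fst q g
  let q' : pullback q g ⟶ S' := pullback.snd q g
  have hpq : p ≫ q = q' ≫ g := pullback.condition
  haveI : Flat q := inferInstance
  haveI : Flat (p ≫ q) := inferInstance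
  -- H' in opens form
  have H'o : NMP πN (p ≫ q) ((p ≫ q) ⁻¹ᵁ U).ι := by
    have h1 : NMP πN (p ≫ q) (pullback.fst q' (g ⁻¹ᵁ U).ι) := by
      rw [hpq]; exact H' q'
    have hop : q' ⁻¹ᵁ (g ⁻¹ᵁ U) = (p ≫ q) ⁻¹ᵁ U := by
      rw [hpq]; rfl
    refine NMP_of_iso πN (p ≫ q)
      ((Scheme.isoOfEq _ hop).symm ≪≫ (pullbackRestrictIsoRestrict q' (g ⁻¹ᵁ U)).symm)
      _ _ ?_ h1
    rw [Iso.trans_hom, Iso.symm_hom, Iso.symm_hom, Category.assoc,
      pullbackRestrictIsoRestrict_inv_fst]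
    rw [Iso.inv_comp_eq, Scheme.isoOfEq_hom_ι]
  -- the extension upstairs
  have ha' : ((p ∣_ (q ⁻¹ᵁ U)) ≫ a) ≫ πN = (p ⁻¹ᵁ (q ⁻¹ᵁ U)).ι ≫ p ≫ q := by
    rw [Category.assoc, ha, ← Category.assoc, morphismRestrict_ι, Category.assoc]
  obtain ⟨b', ⟨hb'1, hb'2⟩, -⟩ := H'o ((p ∣_ (q ⁻¹ᵁ U)) ≫ a) ha'
  have hb'a : (p ⁻¹ᵁ (q ⁻¹ᵁ U)).ι ≫ b' = (p ∣_ (q ⁻¹ᵁ U)) ≫ a := hb'2
  -- local extensions
  have hloc : ∀ y : Y, ∃ (W : Y.Opens) (_ : y ∈ W) (f : W.toScheme ⟶ N), f ≫ πN = W.ι ≫ q ∧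
      Y.homOfLE (inf_le_left : W ⊓ q ⁻¹ᵁ U ≤ W) ≫ f =
        Y.homOfLE (inf_le_right : W ⊓ q ⁻¹ᵁ U ≤ q ⁻¹ᵁ U) ≫ a := by
    intro y
    obtain ⟨y', rfl⟩ := (inferInstance : Surjective p).surj y
    obtain ⟨X, j, hj, hyj, f, hf1, hf2⟩ := local_ext U hU q πN p a b' hb'1 hb'a y'
    refine ⟨j.opensRange, hyj, j.isoOpensRange.inv ≫ f, ?_, ?_⟩
    · rw [Category.assoc, hf1, ← Category.assoc]
      congr 1
      rw [Iso.inv_comp_eq, Scheme.Hom.isoOpensRange_hom_ι]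
    · rw [← Category.assoc]
      refine comp_eq_of_lift j (q ⁻¹ᵁ U) a f hf2 _ _ ?_
      rw [Scheme.homOfLE_ι, Category.assoc]
      have : j.isoOpensRange.inv ≫ j = j.opensRange.ι := by
        rw [Iso.inv_comp_eq, Scheme.Hom.isoOpensRange_hom_ι]
      rw [this, Scheme.homOfLE_ι]
  -- glue
  obtain ⟨b, hb1, hb2⟩ := Groth.Agent.Lib.Helper71.NeronDescG.glue_of_local q πN (q ⁻¹ᵁ U)
    (fun W => Groth.Agent.Lib.Helper51.NeronDescD.dominant_homOfLE_of_flat q U hU W) a ha hloc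
  refine ⟨b, ⟨hb1, hb2⟩, ?_⟩
  rintro b₂ ⟨h1, h2⟩
  exact ext_of_flat U hU πN q b₂ b h1 hb1 (h2.trans hb2.symm)

end Dense

end Core


/-- Let S be a locally Noetherian scheme, U ⊆ S a schematically dense open subscheme, N → S a smooth
separated morphism of finite type and g : S' → S a flat surjective morphism, and put U' = g⁻¹(U).
Suppose the base change N ×_S S' → S' has the Néron mapping property with respect to U': for every
smooth S'-scheme Y', sending an S'-morphism Y' → N ×_S S' to its restriction over U' is a bijection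
onto the U'-morphisms Y' ×_{S'} U' → (N ×_S S') ×_{S'} U'. Then N → S has the Néron mapping property
with respect to U: for every smooth S-scheme Y, restriction to U is a bijection from S-morphisms Y →
N onto U-morphisms Y ×_S U → N ×_S U. (The published statement is for an arbitrary base S and open
U, with N an algebraic space which is a model of an abelian scheme over U, tested against smooth
schemes; this row takes N a scheme, drops the abelian-scheme hypothesis, and assumes S locally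
Noetherian with U schematically dense, the setting in which schematic closures of U-sections commute
with flat base change and fill S'.) -/
theorem result
    {S S' : Scheme.{u}} [IsLocallyNoetherian S] (g : S' ⟶ S) [Flat g] [Surjective g]
    (U : S.Opens) (hU : CInt.IsSchematicallyDense U)
    (N : Over S) [Smooth N.hom] [IsSeparated N.hom] [QuasiCompact N.hom]
    (hN' : ∀ Y' : Over S', Smooth Y'.hom →
      Function.Bijective (fun f : Y' ⟶ (Over.pullback g).obj N => (Over.pullback (g ⁻¹ᵁ U).ι).map f))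
    (Y : Over S) [Smooth Y.hom] :
    Function.Bijective (fun f : Y ⟶ N => (Over.pullback U.ι).map f) := by
  apply goal_of_NMP
  exact plain U hU g N.hom (fun q' _ => NMP_of_hyp g (g ⁻¹ᵁ U) N hN' q') Y.hom


end Groth.Agent.S13749
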