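import Groth.Statements.S5806
import Mathlib.RingTheory.Flat.Equalizer

set_option autoImplicit false
universe u
open EGA41

namespace Groth.Agent.S5806

open TensorProduct Pointwise in
theorem aux (A B : Type u) [CommRing A]
    [CommRing B] [Algebra A B] (M : Type u) [AddCommGroup M] [Module B M] [Module A M] [IsScalarTower A B M]
    (fs : List B) (hreg : RingTheory.Sequence.IsWeaklyRegular M fs)
    (hflat : ∀ i : ℕ, i ≤ fs.length → Module.Flat A (M ⧸ (Ideal.ofList (fs.take i) • (⊤ : Submodule B M))))
    (A' : Type u) [CommRing A'] [Algebra A A'] (i : Fin fs.length) :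
    Function.Injective (LinearMap.lTensor A'
        (((LinearMap.lsmul B (M ⧸ (Ideal.ofList (fs.take i) • (⊤ : Submodule B M)))) (fs.get i)).restrictScalars A)) ∧
      Module.Flat A' (A' ⊗[A] (M ⧸ (Ideal.ofList (fs.take i) • (⊤ : Submodule B M)))) := by
  have hi : (i : ℕ) < fs.length := i.2
  have hr : IsSMulRegular (M ⧸ (Ideal.ofList (fs.take i) • (⊤ : Submodule B M))) (fs.get i) := by
    have := hreg.regular_mod_prev i hi
    simpa using this
  have hfl1 : Module.Flat A (M ⧸ (Ideal.ofList (fs.take (i + 1)) • (⊤ : Submodule B M))) :=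
    hflat (i + 1) hi
  have hfl0 : Module.Flat A (M ⧸ (Ideal.ofList (fs.take i) • (⊤ : Submodule B M))) :=
    hflat i hi.le
  have heq : Ideal.ofList (fs.take (i + 1)) • (⊤ : Submodule B M) =
      Ideal.ofList (fs.take i) • (⊤ : Submodule B M) ⊔ (fs.get i) • (⊤ : Submodule B M) := by
    rw [List.take_succ_eq_append_getElem hi, Ideal.ofList_append, Ideal.ofList_singleton,
      Submodule.sup_smul, Submodule.ideal_span_singleton_smul]
    rfl
  have hle : Ideal.ofList (fs.take i) • (⊤ : Submodule B M) ≤
      Ideal.ofList (fs.take (i + 1)) • (⊤ : Submodule B M) := by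
    rw [heq]; exact le_sup_left
  refine ⟨?_, inferInstance⟩
  let f : (M ⧸ (Ideal.ofList (fs.take i) • (⊤ : Submodule B M))) →ₗ[A]
      (M ⧸ (Ideal.ofList (fs.take (i + 1)) • (⊤ : Submodule B M))) :=
    (Submodule.factor hle).restrictScalars A
  have hf : Function.Surjective f := Submodule.factor_surjective hle
  refine LinearMap.lTensor_injective_of_exact_of_flat f hf _ ?_ ?_ A'
  · intro x y hxy
    exact hr hxy
  · intro y
    obtain ⟨x, rfl⟩ := Submodule.Quotient.mk_surjective _ y
    constructor
    · intro h
      have hx : x ∈ Ideal.ofList (fs.take (i + 1)) • (⊤ : Submodule B M) := by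
        have : Submodule.Quotient.mk (p := Ideal.ofList (fs.take (i + 1)) • (⊤ : Submodule B M)) x = 0 := h
        rwa [Submodule.Quotient.mk_eq_zero] at this
      rw [heq, Submodule.mem_sup] at hx
      obtain ⟨a, ha, b, hb, hab⟩ := hx
      rw [Submodule.mem_smul_pointwise_iff_exists] at hb
      obtain ⟨c, -, hc⟩ := hb
      refine ⟨Submodule.Quotient.mk c, ?_⟩
      show (fs.get i) • (Submodule.Quotient.mk (p := Ideal.ofList (fs.take i) • (⊤ : Submodule B M)) c) =
        Submodule.Quotient.mk (p := Ideal.ofList (fs.take i) • (⊤ : Submodule B M)) x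
      rw [← Submodule.Quotient.mk_smul, hc, ← hab, Submodule.Quotient.mk_add,
        (Submodule.Quotient.mk_eq_zero _).mpr ha, zero_add]
    · rintro ⟨z, hz⟩
      obtain ⟨c, rfl⟩ := Submodule.Quotient.mk_surjective _ z
      rw [← hz]
      show Submodule.Quotient.mk (p := Ideal.ofList (fs.take (i + 1)) • (⊤ : Submodule B M)) ((fs.get i) • c) = 0
      rw [Submodule.Quotient.mk_eq_zero, heq]
      exact Submodule.mem_sup_right (Submodule.smul_mem_pointwise_smul _ _ _ Submodule.mem_top)

open TensorProduct in
/-- Let A be a ring, B a commutative A-algebra, (f_i)_{1 ≤ i ≤ n} elements of B and M a B-module.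
Suppose (f_i) is M-regular and each of the A-modules M/(f_1 M + ... + f_i M), 0 ≤ i ≤ n, is flat.
Then for every ring homomorphism A → A', writing M' = M ⊗_A A' and f'_i = f_i ⊗ 1, the sequence
(f'_i) is M'-regular and the A'-modules M'/(f'_1 M' + ... + f'_{i-1} M') are flat: concretely,
identifying M'/(f'_1 M' + ... + f'_{i-1} M') with A' ⊗_A (M/(f_1 M + ... + f_{i-1} M)),
multiplication by f_i on the latter is injective and the latter is A'-flat, for 1 ≤ i ≤ n. (The
published hypothesis lists only the flatness of M/(f_1 M + ... + f_{i-1} M) for 1 ≤ i ≤ n, omitting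
M/(f_1 M + ... + f_n M); with that omission the case n = 1, A = B = k[t], M = k[t], f_1 = t, A' =
k[t]/(t) fails, since t acts as zero on k ⊗_A M = k, and the published proof uses the flatness of
M/(f_1 M + ... + f_i M) for every i ≤ n; so flatness of all these quotients is assumed here.) -/
theorem result (A B : Type u) [CommRing A]
    [CommRing B] [Algebra A B] (M : Type u) [AddCommGroup M] [Module B M] [Module A M] [IsScalarTower A B M]
    (fs : List B) (hreg : RingTheory.Sequence.IsWeaklyRegular M fs)
    (hflat : ∀ i : ℕ, i ≤ fs.length → Module.Flat A (M ⧸ (Ideal.ofList (fs.take i) • (⊤ : Submodule B M))))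
    (A' : Type u) [CommRing A'] [Algebra A A'] (i : Fin fs.length) :
    Function.Injective (LinearMap.lTensor A'
        (((LinearMap.lsmul B (M ⧸ (Ideal.ofList (fs.take i) • (⊤ : Submodule B M)))) (fs.get i)).restrictScalars A)) ∧
      Module.Flat A' (A' ⊗[A] (M ⧸ (Ideal.ofList (fs.take i) • (⊤ : Submodule B M)))) := by
  exact aux A B M fs hreg hflat A' i

end Groth.Agent.S5806
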