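import Groth.Statements.S0478
import Groth.Agent.Lib.Helper13.KInjMain
import Groth.Agent.Lib.Helper13.CochainLimit

set_option autoImplicit false
universe v u
open CategoryTheory
open CohDer

namespace Groth.Agent.S0478

open CategoryTheory.Limits in
/-- For a Grothendieck abelian category A the derived category D(A) has all products indexed by small
types. The published statement also computes them as termwise products of K-injective
representatives, which is not asserted here. -/
theorem result {A : Type u} [Category.{v} A] [Abelian A] [IsGrothendieckAbelian.{v} A]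
    [HasDerivedCategory.{v} A] : HasProducts.{v} (DerivedCategory A) := by
  intro J
  constructor
  intro F
  have hres : ∀ j : J, ∃ (I : CochainComplex A ℤ), I.IsKInjective ∧
      Nonempty (DerivedCategory.Q.obj I ≅ F.obj ⟨j⟩) := by
    intro j
    obtain ⟨I, f, h1, h2, -, -⟩ :=
      Groth.Agent.Lib.Helper13.KInjMain.exists_kInjective_resolution
        (DerivedCategory.Q.objPreimage (F.obj ⟨j⟩))
    haveI := h2
    haveI : IsIso (DerivedCategory.Q.map f) := by
      rw [DerivedCategory.isIso_Q_map_iff_quasiIso]; exact h2
    exact ⟨I, h1, ⟨(asIso (DerivedCategory.Q.map f)).symm ≪≫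
      DerivedCategory.Q.objObjPreimageIso (F.obj ⟨j⟩)⟩⟩
  choose I hI e using hres
  have e' := fun j => (e j).some
  haveI : Limits.HasLimitsOfShape (Discrete J) A := inferInstance
  haveI : Limits.HasLimitsOfShape (Discrete J) (CochainComplex A ℤ) := inferInstance
  obtain ⟨hl⟩ := Groth.Agent.Lib.Helper13.CochainLimit.nonempty_isLimit_Q_fan
    (Limits.Fan.mk (∏ᶜ I) (Limits.Pi.π I)) (Limits.productIsProduct I) hI
  haveI : Limits.HasLimit (Discrete.functor (fun j => DerivedCategory.Q.obj (I j))) :=
    ⟨⟨⟨_, hl⟩⟩⟩
  exact Limits.hasLimit_of_iso (Discrete.natIso (fun ⟨j⟩ => e' j) :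
    Discrete.functor (fun j => DerivedCategory.Q.obj (I j)) ≅ F)

end Groth.Agent.S0478
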