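import Groth.Statements.S6786
import Groth.Agent.Lib.Helper13.MLLim

set_option autoImplicit false
open CategoryTheory CategoryTheory.Limits
universe u
open HomAlg3

namespace Groth.Agent.S6786

/-- For a sequence `(A_i) ⟶ (B_i) ⟶ (C_i) ⟶ (D_i)` of inverse systems of abelian groups over `ℕ` that is
exact levelwise at the two middle places, if `(A_i)` is Mittag-Leffler then `lim B_i ⟶ lim C_i ⟶ lim
D_i` is exact. -/
theorem result {A B C D : ℕᵒᵖ ⥤ AddCommGrpCat.{u}} (a : A ⟶ B) (b : B ⟶ C) (c : C ⟶ D) (hB : ∀ i, (b.app i).hom.ker = (a.app i).hom.range) (hC : ∀ i, (c.app i).hom.ker = (b.app i).hom.range) (hA : (A ⋙ forget AddCommGrpCat).IsMittagLeffler) : (limMap c).hom.ker = (limMap b).hom.range := by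
  classical
  have hcof : ∃ s : Set ℕ, s.Countable ∧ ∀ i, ∃ j ∈ s, i ≤ j :=
    ⟨Set.univ, Set.countable_univ, fun i => ⟨i, trivial, le_rfl⟩⟩
  have hπ : ∀ {X Y : ℕᵒᵖ ⥤ AddCommGrpCat.{u}} (f : X ⟶ Y) (i : ℕᵒᵖ) (y : ↑(limit X)),
      (limit.π Y i).hom ((limMap f).hom y) = (f.app i).hom ((limit.π X i).hom y) := by
    intro X Y f i y
    have := ConcreteCategory.congr_hom (limMap_π f i) y
    exact this
  ext z
  constructor
  · intro hz
    rw [AddMonoidHom.mem_ker] at hz
    have hz' : ∀ i, (c.app i).hom ((limit.π C i).hom z) = 0 := by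
      intro i
      rw [← hπ, hz, map_zero]
    obtain ⟨x, hx, hxc⟩ := Groth.Agent.Lib.Helper13.MLLim.exists_section_lift hcof a b hB hA
      (fun i => (limit.π C i).hom z)
      (fun i j f => Groth.Agent.Lib.Helper13.MLLim.cone_π_compat (limit.cone C) z f)
      (fun i => by
        have : (limit.π C i).hom z ∈ (c.app i).hom.ker := hz' i
        rw [hC] at this
        exact this)
    obtain ⟨y, hy⟩ := Groth.Agent.Lib.Helper13.MLLim.cone_exists_of_section (limit.isLimit B) x hx
    refine ⟨y, ?_⟩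
    apply Groth.Agent.Lib.Helper13.MLLim.cone_ext (limit.isLimit C)
    intro i
    change (limit.π C i).hom ((limMap b).hom y) = (limit.π C i).hom z
    rw [hπ]
    have h2 : (limit.π B i).hom y = x i := hy i
    rw [h2, hxc]
  · rintro ⟨y, rfl⟩
    rw [AddMonoidHom.mem_ker]
    apply Groth.Agent.Lib.Helper13.MLLim.cone_ext (limit.isLimit D)
    intro i
    change (limit.π D i).hom ((limMap c).hom ((limMap b).hom y)) = (limit.π D i).hom 0
    rw [hπ, hπ, map_zero]
    have : (b.app i).hom ((limit.π B i).hom y) ∈ (c.app i).hom.ker := by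
      rw [hC]; exact ⟨_, rfl⟩
    exact this

end Groth.Agent.S6786
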