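import Groth.Statements.S3856
import Groth.Agent.Lib.Helper15.CompleteNoeth
import Mathlib.RingTheory.Finiteness.Ideal

set_option autoImplicit false
universe u
open AdicRing

namespace Groth.Agent.S3856

open Groth.Agent.Lib.Helper15.CompleteNoeth

theorem fg_of_sq {A : Type*} [CommRing A] (J : Ideal A) [IsHausdorff J A] [IsPrecomplete J A]
    {ι : Type*} [Fintype ι] (f : ι → A) (hf : ∀ i, f i ∈ J)
    (h : J ≤ Ideal.span (Set.range f) ⊔ J ^ 2) : J = Ideal.span (Set.range f) := by
  classical
  have h0 : ∀ x ∈ J, ∃ c : ι → A, x - ∑ i, c i * f i ∈ J ^ 2 := by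
    intro x hx
    obtain ⟨y, hy, z, hz, rfl⟩ := Submodule.mem_sup.mp (h hx)
    obtain ⟨c, rfl⟩ := (Ideal.mem_span_range_iff_exists_fun).mp hy
    exact ⟨c, by simpa using hz⟩
  refine span_eq_of_approx J J f hf 1 ?_
  intro n x hxJ hxn
  rcases n with _ | n
  · obtain ⟨c, hc⟩ := h0 x hxJ
    refine ⟨c, fun i => by simp, ?_⟩
    exact Ideal.pow_le_pow_right (by lia) hc
  · rw [pow_succ] at hxn
    simp only [Nat.add_sub_cancel]
    refine Submodule.mul_induction_on hxn ?_ ?_
    · intro u hu v hv
      obtain ⟨c, hc⟩ := h0 v hv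
      refine ⟨fun i => u * c i, fun i => Ideal.mul_mem_right _ _ hu, ?_⟩
      have e : u * v - ∑ i, u * c i * f i = u * (v - ∑ i, c i * f i) := by
        rw [mul_sub, Finset.mul_sum]
        simp only [mul_assoc]
      rw [e]
      have : J ^ (n + 1 + 1) = J ^ n * J ^ 2 := by rw [← pow_add]
      rw [this]
      exact Ideal.mul_mem_mul hu hc
    · intro y z ⟨c, hc1, hc2⟩ ⟨c', hc1', hc2'⟩
      refine ⟨fun i => c i + c' i, fun i => (J ^ n).add_mem (hc1 i) (hc1' i), ?_⟩
      have e : y + z - ∑ i, (c i + c' i) * f i =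
          (y - ∑ i, c i * f i) + (z - ∑ i, c' i * f i) := by
        simp only [add_mul, Finset.sum_add_distrib]
        ring
      rw [e]
      exact (J ^ (n + 1 + 1)).add_mem hc2 hc2'

end Groth.Agent.S3856

namespace Groth.Agent.S3856

/-- Let A be a ring that is complete and separated for the J-adic topology of an ideal J. If A/J² is
Noetherian (equivalently, A/J is Noetherian and J/J² is a finitely generated A/J-module), then A is
Noetherian. The published statement is phrased for a formal spectrum Spf(A) all of whose levels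
Spec(A/J^(n+1)) are Noetherian; it is stated here with the weaker hypothesis that A/J² is
Noetherian. -/
theorem result (A : Type u) [CommRing A]
    (J : Ideal A) [IsAdicComplete J A] [IsNoetherianRing (A ⧸ J ^ 2)] : IsNoetherianRing A := by
  classical
  have hfgq : (J.map (Ideal.Quotient.mk (J ^ 2))).FG := IsNoetherian.noetherian _
  obtain ⟨S, hS⟩ := hfgq
  have hlift : ∀ s : A ⧸ J ^ 2, ∃ a : A, s ∈ S → (a ∈ J ∧ Ideal.Quotient.mk (J ^ 2) a = s) := by
    intro s
    by_cases hs : s ∈ S
    · have : s ∈ J.map (Ideal.Quotient.mk (J ^ 2)) := by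
        rw [← hS]
        exact Submodule.subset_span hs
      obtain ⟨a, ha, rfl⟩ :=
        (Ideal.mem_map_iff_of_surjective _ Ideal.Quotient.mk_surjective).mp this
      exact ⟨a, fun _ => ⟨ha, rfl⟩⟩
    · exact ⟨0, fun h => absurd h hs⟩
  choose lift hlift' using hlift
  let f : {s // s ∈ S} → A := fun s => lift s.1
  have hf : ∀ i, f i ∈ J := fun i => (hlift' i.1 i.2).1
  have hle : J ≤ Ideal.span (Set.range f) ⊔ J ^ 2 := by
    intro x hx
    have h1 : Ideal.Quotient.mk (J ^ 2) x ∈ (Ideal.span (Set.range f)).map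
        (Ideal.Quotient.mk (J ^ 2)) := by
      rw [Ideal.map_span]
      have h2 : Ideal.Quotient.mk (J ^ 2) x ∈ Ideal.span (S : Set (A ⧸ J ^ 2)) := by
        rw [hS]
        exact Ideal.mem_map_of_mem _ hx
      refine Ideal.span_mono ?_ h2
      intro s hs
      exact ⟨f ⟨s, hs⟩, ⟨⟨s, hs⟩, rfl⟩, (hlift' s hs).2⟩
    obtain ⟨y, hy, e⟩ := (Ideal.mem_map_iff_of_surjective _ Ideal.Quotient.mk_surjective).mp h1
    have : x - y ∈ J ^ 2 := by
      rw [← Ideal.Quotient.eq]
      exact e.symm
    have e2 : x = y + (x - y) := by ring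
    rw [e2]
    exact Submodule.add_mem_sup hy this
  have hJfg : J.FG := by
    rw [Groth.Agent.S3856.fg_of_sq J f hf hle]
    exact ⟨Finset.univ.image f, by simp⟩
  haveI : IsNoetherianRing (A ⧸ J) :=
    isNoetherianRing_of_surjective (A ⧸ J ^ 2) (A ⧸ J)
      (Ideal.Quotient.factor (Ideal.pow_le_self (by norm_num)))
      (Ideal.Quotient.factor_surjective _)
  exact Groth.Agent.Lib.Helper15.CompleteNoeth.isNoetherianRing_of_isAdicComplete J hJfg

end Groth.Agent.S3856
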