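import Groth.Statements.S1381
import Groth.Agent.Lib.Helper54.CPFScheme

set_option autoImplicit false
universe u
open FlatMor

namespace Groth.Agent.S1381
open AlgebraicGeometry CategoryTheory Limits Groth.Agent.Lib.Helper54.CPF

/-- residue field maps of a closed immersion are isomorphisms -/
theorem isIso_residueFieldMap {S S' : Scheme.{u}} (iS : S ⟶ S') [IsClosedImmersion iS] (s : S) :
    IsIso (iS.residueFieldMap s) := by
  have hsurj : Function.Surjective (iS.residueFieldMap s).hom := by
    intro b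
    obtain ⟨b', rfl⟩ := IsLocalRing.residue_surjective b
    obtain ⟨c, rfl⟩ := iS.stalkMap_surjective s b'
    refine ⟨S'.residue (iS s) c, ?_⟩
    have h := congrArg (fun φ => φ.hom c) (Scheme.residue_residueFieldMap iS s)
    exact h
  have hbij : Function.Bijective (iS.residueFieldMap s).hom :=
    ⟨(iS.residueFieldMap s).hom.injective, hsurj⟩
  exact (ConcreteCategory.isIso_iff_bijective _).mpr hbij

/-- the big fibre square -/
theorem isPullback_fiberMap {X Y S : Scheme.{u}} (f : X ⟶ Y) (g : Y ⟶ S) (s : S) :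
    IsPullback ((f ≫ g).fiberι s) (MoreMor.fiberMap f g s) f (g.fiberι s) := by
  have h1 : IsPullback ((f ≫ g).fiberι s) ((f ≫ g).fiberToSpecResidueField s) (f ≫ g)
      (S.fromSpecResidueField s) := IsPullback.of_hasPullback _ _
  have h2 : IsPullback (g.fiberι s) (g.fiberToSpecResidueField s) g
      (S.fromSpecResidueField s) := IsPullback.of_hasPullback _ _
  have e1 : MoreMor.fiberMap f g s ≫ g.fiberToSpecResidueField s =
      (f ≫ g).fiberToSpecResidueField s := pullback.lift_snd _ _ _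
  have e2 := fiberMap_fiberι f g s
  -- paste: left square (fiberι, Φ, f, fiberι_g), right square (fiberι_g, toSpec, g, fromSpec)
  refine IsPullback.of_bot ?_ e2.symm h2
  rw [e1]
  exact h1

theorem flat_fiberMap {X X' Y Y' S S' : Scheme.{u}} (iX : X ⟶ X') (iY : Y ⟶ Y') (iS : S ⟶ S')
    (f : X ⟶ Y) (f' : X' ⟶ Y') (g : Y ⟶ S) (g' : Y' ⟶ S')
    [IsClosedImmersion iS] (hcX : IsPullback iX (f ≫ g) (f' ≫ g') iS)
    (hcY : IsPullback iY g g' iS) (w : iX ≫ f' = f ≫ iY) [Flat f] (s : S) :
    Flat (MoreMor.fiberMap f' g' (iS s)) := by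
  have hXY : IsPullback iX f f' iY := IsPullback.of_bot hcX w hcY
  have := isIso_residueFieldMap iS s
  obtain ⟨t, ht⟩ : ∃ t : Spec (S'.residueField (iS s)) ⟶ S,
      t ≫ iS = S'.fromSpecResidueField (iS s) := by
    refine ⟨Spec.map (inv (iS.residueFieldMap s)) ≫ S.fromSpecResidueField s, ?_⟩
    rw [Category.assoc, ← Scheme.Hom.SpecMap_residueFieldMap_fromSpecResidueField,
      ← Category.assoc, ← Spec.map_comp, IsIso.hom_inv_id, Spec.map_id, Category.id_comp]
  let u : g'.fiber (iS s) ⟶ Y :=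
    hcY.lift (g'.fiberι (iS s)) (g'.fiberToSpecResidueField (iS s) ≫ t)
      (by rw [Category.assoc, ht]; exact g'.fiber_fac (iS s))
  let v : (f' ≫ g').fiber (iS s) ⟶ X :=
    hcX.lift ((f' ≫ g').fiberι (iS s)) ((f' ≫ g').fiberToSpecResidueField (iS s) ≫ t)
      (by rw [Category.assoc, ht]; exact (f' ≫ g').fiber_fac (iS s))
  have hu : u ≫ iY = g'.fiberι (iS s) := hcY.lift_fst _ _ _
  have hu2 : u ≫ g = g'.fiberToSpecResidueField (iS s) ≫ t := hcY.lift_snd _ _ _
  have hv : v ≫ iX = (f' ≫ g').fiberι (iS s) := hcX.lift_fst _ _ _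
  have hv2 : v ≫ (f ≫ g) = (f' ≫ g').fiberToSpecResidueField (iS s) ≫ t := hcX.lift_snd _ _ _
  have hbig := isPullback_fiberMap f' g' (iS s)
  rw [← hv, ← hu] at hbig
  have hcomm : v ≫ f = MoreMor.fiberMap f' g' (iS s) ≫ u := by
    apply hcY.hom_ext
    · rw [Category.assoc, ← w, ← Category.assoc, hv, Category.assoc, hu, fiberMap_fiberι]
    · have e1 : MoreMor.fiberMap f' g' (iS s) ≫ g'.fiberToSpecResidueField (iS s) =
          (f' ≫ g').fiberToSpecResidueField (iS s) := pullback.lift_snd _ _ _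
      rw [Category.assoc, hv2, Category.assoc, hu2, ← Category.assoc, e1]
  have hsq : IsPullback v (MoreMor.fiberMap f' g' (iS s)) f u :=
    IsPullback.of_right hbig hcomm hXY
  exact MorphismProperty.of_isPullback (P := @Flat) hsq inferInstance


open AlgebraicGeometry CategoryTheory Limits in
/-- Let S ⟶ S' be an arbitrary thickening, let X' ⟶ Y' be a morphism of schemes over S' with X' flat and
locally of finite presentation over S' and Y' locally of finite type over S', and let X ⟶ Y be its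
base change to S. Then X ⟶ Y is flat if and only if X' ⟶ Y' is. -/
theorem result {X X' Y Y' S S' : Scheme.{u}} (iX : X ⟶ X') (iY : Y ⟶ Y') (iS : S ⟶ S')
    (f : X ⟶ Y) (f' : X' ⟶ Y') (g : Y ⟶ S) (g' : Y' ⟶ S')
    (hS : MoreMor.IsThickening iS) (hcX : IsPullback iX (f ≫ g) (f' ≫ g') iS) (hcY : IsPullback iY g g' iS)
    (w : iX ≫ f' = f ≫ iY) [Flat (f' ≫ g')] [LocallyOfFinitePresentation (f' ≫ g')] [LocallyOfFiniteType g'] :
    Flat f ↔ Flat f' := by
  have hXY : IsPullback iX f f' iY := IsPullback.of_bot hcX w hcY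
  constructor
  · intro hf
    have := hS.1
    have key : ∀ s' : S', Flat (MoreMor.fiberMap f' g' s') := by
      intro s'
      obtain ⟨s, rfl⟩ := hS.2.surj s'
      exact flat_fiberMap iX iY iS f f' g g' hcX hcY w s
    rw [Flat.iff_flat_stalkMap]
    intro x'
    have h1 : ((f' ≫ g').stalkMap x').hom.Flat := Flat.stalkMap (f' ≫ g') x'
    have := key (g' (f' x'))
    have h2 : ((MoreMor.fiberMap f' g' (g' (f' x'))).stalkMap ((f' ≫ g').asFiber x')).hom.Flat :=
      Flat.stalkMap _ _
    exact ((cpf_pointwise f' g' x').1 ⟨h1, h2⟩).2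
  · intro hf'
    exact MorphismProperty.of_isPullback (P := @Flat) hXY hf'

end Groth.Agent.S1381
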