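import Groth.Statements.S1312
import Groth.Agent.Lib.Helper6.ThickAffine2

set_option autoImplicit false
universe u
open FlatMor

namespace Groth.Agent.S1312

open AlgebraicGeometry CategoryTheory Limits in
/-- Let Y ⟶ Y' be a thickening, let X be the base change to Y of a scheme X' over Y', and assume both X
⟶ Y and X' ⟶ Y' are locally of finite type. Then X ⟶ Y is locally quasi-finite if and only if X' ⟶
Y' is. -/
theorem result {X X' Y Y' : Scheme.{u}} (iX : X ⟶ X') (iY : Y ⟶ Y') (f : X ⟶ Y) (f' : X' ⟶ Y')
    (hY : MoreMor.IsThickening iY) (hc : IsPullback iX f f' iY) [LocallyOfFiniteType f] [LocallyOfFiniteType f'] :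
    LocallyQuasiFinite f ↔ LocallyQuasiFinite f' := by
  open Groth.Agent.Lib.Helper6 in
  have : IsClosedImmersion iY := hY.1
  have : Surjective iY := hY.2
  exact ⟨ThickAffine.transfer₁ (P := @LocallyQuasiFinite)
    (RingHom.QuasiFinite.stableUnderComposition.stableUnderCompositionWithLocalizationAway
      RingHom.QuasiFinite.holdsForLocalizationAway).left (fun J => J ≤ nilradical _)
    (fun ψ πB πC ψ₀ => Deform.wrapper₁_quasiFinite ψ πB πC ψ₀)
    iX iY f f' (fun hW' => ThickAffine.ker_app_le_nilradical iY hW') hc,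
    ThickAffine.descend₁ hc⟩

end Groth.Agent.S1312
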