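import Groth.Statements.S1314
import Groth.Agent.Lib.Helper6.ThickAffine2

set_option autoImplicit false
universe u
open FlatMor

namespace Groth.Agent.S1314

open AlgebraicGeometry CategoryTheory Limits in
/-- Let Y ⟶ Y' be a thickening, let X be the base change to Y of a scheme X' over Y', and assume both X
⟶ Y and X' ⟶ Y' are locally of finite type. Then X ⟶ Y is formally unramified if and only if X' ⟶ Y'
is. (The source states this as the vanishing of the sheaf of relative differentials; formal
unramifiedness is the equivalent phrasing available here.) -/
theorem result {X X' Y Y' : Scheme.{u}} (iX : X ⟶ X') (iY : Y ⟶ Y') (f : X ⟶ Y) (f' : X' ⟶ Y')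
    (hY : MoreMor.IsThickening iY) (hc : IsPullback iX f f' iY) [LocallyOfFiniteType f] [LocallyOfFiniteType f'] :
    FormallyUnramified f ↔ FormallyUnramified f' := by
  open Groth.Agent.Lib.Helper6 in
  have : IsClosedImmersion iY := hY.1
  have : Surjective iY := hY.2
  exact ⟨ThickAffine.transfer₁' (P := @FormallyUnramified)
    (RingHom.FormallyUnramified.stableUnderComposition.stableUnderCompositionWithLocalizationAway
      RingHom.FormallyUnramified.holdsForLocalizationAway).left
    (P₂ := @LocallyOfFiniteType) (fun J => J ≤ nilradical _)
    (fun ψ πB πC ψ₀ => Deform.wrapper₁_formallyUnramified_of_nil ψ πB πC ψ₀)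
    iX iY f f' (fun hW' => ThickAffine.ker_app_le_nilradical iY hW') hc inferInstance,
    ThickAffine.descend₁ hc⟩

end Groth.Agent.S1314
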