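import Groth.Statements.S9239
import Groth.Agent.S9237
import Groth.Agent.S9238
import Groth.Agent.Lib.Helper69.HensCompl
import Groth.Agent.Lib.Helper69.HensQFinite
import Groth.Agent.Lib.Helper87.BranchEtaleRing
import Groth.Agent.Lib.Helper87.SmoothMinPrimes
import Groth.Agent.Lib.Helper87.FlatModule
import Groth.Agent.Lib.Helper87.HensStrictProps

set_option autoImplicit false
universe u
open Brnch

namespace Groth.Agent.S9239

/-- For a Noetherian local ring A with completion A^ at its maximal ideal, A^ has at least as many
branches as A, and at least as many geometric branches as A. -/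
theorem result (A : Type u) [CommRing A] [IsLocalRing A] [IsNoetherianRing A] :
    Brnch.numBranches A ≤ Brnch.numBranches (AdicCompletion (IsLocalRing.maximalIdeal A) A) ∧
      Brnch.numGeomBranches A ≤
        Brnch.numGeomBranches (AdicCompletion (IsLocalRing.maximalIdeal A) A) := by
  open Groth.Agent.Lib.Helper87 Groth.Agent.Lib.Helper87.Hens IsLocalRing in
  constructor
  · haveI := isHenselization_Hh A
    haveI hH : HenselianLocalRing (AdicCompletion (maximalIdeal A) A) := inferInstance
    haveI := Groth.Agent.Lib.Helper69.HensQFinite.isHenselization_self (AdicCompletion (maximalIdeal A) A)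
    obtain ⟨ψ, hψ, -⟩ := (isHenselization_Hh A).universal (AdicCompletion (maximalIdeal A) A)
      (algebraMap A (AdicCompletion (maximalIdeal A) A)) inferInstance
    letI := ψ.toAlgebra
    haveI hff : Module.FaithfullyFlat (Hh A) (AdicCompletion (maximalIdeal A) A) :=
      Groth.Agent.Lib.Helper69.HensCompl.faithfullyFlat_toCompletion A (Hh A) ψ hψ
    rw [← Groth.Agent.S9237.result A (Hh A),
      ← Groth.Agent.S9237.result (AdicCompletion (maximalIdeal A) A)
        (AdicCompletion (maximalIdeal A) A)]
    exact BranchEtaleRing.encard_minimalPrimes_le_of_faithfullyFlat _ _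
  · haveI := isStrictHenselization_Hsh A
    haveI := isStrictHenselization_Hsh (AdicCompletion (maximalIdeal A) A)
    obtain ⟨φ, hφloc, hφ⟩ := SmoothMinPrimes.exists_strict_map A
      (AdicCompletion (maximalIdeal A) A) (Hsh A) (Hsh (AdicCompletion (maximalIdeal A) A))
      (algebraMap A (AdicCompletion (maximalIdeal A) A))
    letI : Algebra A (Hsh (AdicCompletion (maximalIdeal A) A)) :=
      ((algebraMap (AdicCompletion (maximalIdeal A) A)
        (Hsh (AdicCompletion (maximalIdeal A) A))).comp
        (algebraMap A (AdicCompletion (maximalIdeal A) A))).toAlgebra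
    haveI : IsScalarTower A (AdicCompletion (maximalIdeal A) A)
        (Hsh (AdicCompletion (maximalIdeal A) A)) := IsScalarTower.of_algebraMap_eq' rfl
    letI : Algebra (Hsh A) (Hsh (AdicCompletion (maximalIdeal A) A)) := φ.toAlgebra
    haveI : IsScalarTower A (Hsh A) (Hsh (AdicCompletion (maximalIdeal A) A)) :=
      IsScalarTower.of_algebraMap_eq' hφ.symm
    haveI : Module.Flat (AdicCompletion (maximalIdeal A) A)
        (Hsh (AdicCompletion (maximalIdeal A) A)) := flat_of_isStrictHenselization _ _
    haveI : Module.Flat A (Hsh (AdicCompletion (maximalIdeal A) A)) :=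
      Module.Flat.trans A (AdicCompletion (maximalIdeal A) A) _
    haveI : Module.Flat (Hsh A) (Hsh (AdicCompletion (maximalIdeal A) A)) :=
      (FlatModule.locUnram_of_isStrictHenselization A (Hsh A)).flat _
    haveI : IsLocalHom (algebraMap (Hsh A) (Hsh (AdicCompletion (maximalIdeal A) A))) := hφloc
    haveI : Module.FaithfullyFlat (Hsh A) (Hsh (AdicCompletion (maximalIdeal A) A)) :=
      Module.FaithfullyFlat.of_flat_of_isLocalHom
    rw [← Groth.Agent.S9238.result A (Hsh A),
      ← Groth.Agent.S9238.result (AdicCompletion (maximalIdeal A) A)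
        (Hsh (AdicCompletion (maximalIdeal A) A))]
    exact BranchEtaleRing.encard_minimalPrimes_le_of_faithfullyFlat _ _

end Groth.Agent.S9239
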