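import Groth.Statements.S12218
import Groth.Agent.Lib.Helper56.Multi6

set_option autoImplicit false
universe u
open Curves

namespace Groth.Agent.S12218

/-- Let k be a separably closed field and A a one-dimensional reduced Nagata local k-algebra with
residue field k, having n branches (n a natural number). If the δ-invariant of A equals n − 1, then
the completion of A with respect to its maximal ideal is the multicross ring with n branches: there
is an injective ring map from the completion to (k[[t]])^n, compatible with the structure maps from
k, whose range is the subring of n-tuples of power series with a common constant term. (The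
inequality δ ≥ n − 1 itself is the companion statement on geometric branches.) -/
theorem result (k : Type u) [Field k] [IsSepClosed k]
    (A : Type u) [CommRing A] [IsLocalRing A] [Algebra k A] [IsReduced A]
    (hdim : ringKrullDim A = 1) (hN : CAlg.IsNagata A)
    (hres : Function.Bijective (algebraMap k (IsLocalRing.ResidueField A)))
    (n : ℕ) (hn : Brnch.numBranches A = n) (hδ : Curv2.deltaInv A + 1 = n) :
    ∃ φ : AdicCompletion (IsLocalRing.maximalIdeal A) A →+* (Fin n → PowerSeries k),
      Function.Injective φ ∧
      (∀ c : k, φ (algebraMap A (AdicCompletion (IsLocalRing.maximalIdeal A) A) (algebraMap k A c)) =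
        fun _ => algebraMap k (PowerSeries k) c) ∧
      Set.range φ = {f : Fin n → PowerSeries k | ∀ i j : Fin n, PowerSeries.constantCoeff (f i) = PowerSeries.constantCoeff (f j)} := by
  haveI : IsNoetherianRing A := hN.1
  haveI : IsSepClosed (IsLocalRing.ResidueField A) :=
    Groth.Agent.Lib.Helper56.Multi.isSepClosed_of_bijective _ hres
  haveI hfin : Module.Finite A (integralClosure A (FractionRing A)) :=
    Groth.Agent.Lib.Helper56.DeltaMain.finite_integralClosure A hN
  obtain ⟨j, hj1, hj2⟩ := Groth.Agent.Lib.Helper56.Wedge.exists_hom_normRed A hN hdim
  have c1 := Groth.Agent.Lib.Helper56.Multi.card_maximalSpectrum_le_of_surjective j hj2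
  have c2 := Groth.Agent.Lib.Helper56.Multi.card_maximalSpectrum_le A
    (integralClosure A (FractionRing A))
  have c3 := Groth.Agent.Lib.Helper56.DeltaCount.card_le_length_add_one A
    (integralClosure A (FractionRing A))
  have hnb : Brnch.numBranches A = ENat.card (MaximalSpectrum (CAlg2.normRed A)) := by
    unfold Brnch.numBranches
    rw [if_pos (minimalPrimes.finite_of_isNoetherianRing A)]
  have hδ' : Module.length A ((integralClosure A (FractionRing A)) ⧸
      LinearMap.range (Algebra.linearMap A (integralClosure A (FractionRing A)))) + 1 = n := hδ
  have hcardB : ENat.card (MaximalSpectrum (integralClosure A (FractionRing A))) = n :=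
    le_antisymm (c2.trans (c3.trans hδ'.le)) (by rw [← hn, hnb]; exact c1)
  have h : Module.length A ((integralClosure A (FractionRing A)) ⧸
      LinearMap.range (Algebra.linearMap A (integralClosure A (FractionRing A)))) + 1 ≤
      ENat.card (Groth.Agent.Lib.Helper56.Multi.TBr A) := by
    rw [hδ', ← hcardB]
    exact c2
  haveI : Finite (MaximalSpectrum (integralClosure A (FractionRing A))) :=
    Groth.Agent.Lib.Helper56.BranchCpl.finite_maximalSpectrum_of_finite A _
  have hcard : Nat.card (MaximalSpectrum (integralClosure A (FractionRing A))) = n := by
    rw [ENat.card_eq_coe_natCard] at hcardB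
    exact_mod_cast hcardB
  let e : Fin n ≃ MaximalSpectrum (integralClosure A (FractionRing A)) :=
    (Finite.equivFinOfCardEq hcard).symm
  obtain ⟨φ, h1, h2, h3⟩ := Groth.Agent.Lib.Helper56.Multi.multicross k A hdim hres h n e
  refine ⟨φ, h1, ?_, h3⟩
  intro c
  rw [h2 c]
  rfl

end Groth.Agent.S12218
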