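import Groth.Statements.S16230
import Groth.Agent.Lib.Helper99.Morse

set_option autoImplicit false
universe u
open VanCyc

namespace Groth.Agent.S16230

open MvPowerSeries Groth.Agent.Lib.Helper99.PSInv Groth.Agent.Lib.Helper99.Morse

/-- Let A be a local ring, n and m natural numbers with 2 ≤ m, q an n × n coefficient table over A whose
quadratic form Q(x) = Σ_{i≤j} q_ij x_i x_j is non-degenerate (the polar bilinear form has unit Gram
determinant, i.e. is a perfect pairing — the reading of non-degeneracy over the local ring A used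
here), a an element of A, and F a formal power series in x_1, …, x_n over A all of whose
coefficients in total degree at most m agree with those of Q + a. Then there are power series h_1,
…, h_n with no terms of total degree less than m such that substituting x_i + h_i for x_i in F gives
exactly Q + a; consequently A[[x]]/(F) and A[[x]]/(Q + a) are isomorphic as A-algebras. -/
theorem result
    (A : Type u) [CommRing A] [IsLocalRing A] (n m : ℕ) (hm : 2 ≤ m)
    (q : Fin n → Fin n → A) (hq : VanCyc.QuadNondeg q) (a : A)
    (F : MvPowerSeries (Fin n) A)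
    (hF : ∀ e : Fin n →₀ ℕ, e.degree ≤ m →
      MvPowerSeries.coeff e F = MvPowerSeries.coeff e ((VanCyc.quadPoly q + MvPolynomial.C a : MvPolynomial (Fin n) A) : MvPowerSeries (Fin n) A)) :
    ∃ h : Fin n → MvPowerSeries (Fin n) A,
      (∀ (i : Fin n) (e : Fin n →₀ ℕ), e.degree < m → MvPowerSeries.coeff e (h i) = 0) ∧
      MvPowerSeries.HasSubst (fun i => MvPowerSeries.X i + h i) ∧
      MvPowerSeries.subst (fun i => MvPowerSeries.X i + h i) F = ((VanCyc.quadPoly q + MvPolynomial.C a : MvPolynomial (Fin n) A) : MvPowerSeries (Fin n) A) ∧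
      Nonempty ((MvPowerSeries (Fin n) A ⧸ Ideal.span {F}) ≃ₐ[A]
        (MvPowerSeries (Fin n) A ⧸ Ideal.span {((VanCyc.quadPoly q + MvPolynomial.C a : MvPolynomial (Fin n) A) : MvPowerSeries (Fin n) A)})) := by
  classical
  set QA : MvPowerSeries (Fin n) A :=
    ((VanCyc.quadPoly q + MvPolynomial.C a : MvPolynomial (Fin n) A) : MvPowerSeries (Fin n) A)
    with hQA
  set G : MvPowerSeries (Fin n) A := F - QA with hGdef
  have hG : ((m + 1 : ℕ) : ℕ∞) ≤ G.order := by
    apply nat_le_order
    intro e he
    rw [hGdef, map_sub, sub_eq_zero]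
    exact hF e (by omega)
  have hFG : F = QA + G := by rw [hGdef]; ring
  obtain ⟨h, hh, htan, hsub⟩ := morse_quadPoly q hq m hm a G hG
  have hs := htan.hasSubst
  have hsubF : subst (fun i => X i + h i) F = QA := by
    rw [hFG]; exact hsub
  refine ⟨h, ?_, hs, hsubF, ?_⟩
  · intro i e he
    exact coeff_of_lt_order (lt_of_lt_of_le (by exact_mod_cast he) (hh i))
  · refine ⟨Ideal.quotientEquivAlg _ _ htan.algEquiv ?_⟩
    rw [Ideal.map_span, Set.image_singleton]
    congr 2
    change QA = htan.algEquiv F
    rw [IsTangentId.algEquiv_apply, hsubF]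

end Groth.Agent.S16230
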