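import Groth.Statements.S16231
import Groth.Agent.Lib.Helper76.MorseLin3
import Groth.Agent.S16230

set_option autoImplicit false
universe u
open VanCyc

namespace Groth.Agent.S16231

/-- Let A be a local ring with maximal ideal m that is separated and complete for the m-adic topology (A
is not assumed Noetherian), n a natural number, q an n × n coefficient table over A whose quadratic
form Q(x) = Σ_{i≤j} q_ij x_i x_j is non-degenerate (unit Gram determinant of the polar bilinear
form), a and ℓ_1, …, ℓ_n elements of m, and F a formal power series in x_1, …, x_n over A whose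
coefficients in total degree at most 2 agree with those of a + Σ ℓ_i x_i + Q(x). Then there are an
element a' of m and a non-degenerate coefficient table q' such that A[[x]]/(F) and A[[x]]/(Q'(x) +
a') are isomorphic as A-algebras, Q' the quadratic form of q'. -/
theorem result
    (A : Type u) [CommRing A] [IsLocalRing A]
    [IsAdicComplete (IsLocalRing.maximalIdeal A) A] (n : ℕ)
    (q : Fin n → Fin n → A) (hq : VanCyc.QuadNondeg q)
    (a : A) (ha : a ∈ IsLocalRing.maximalIdeal A)
    (ℓ : Fin n → A) (hℓ : ∀ i, ℓ i ∈ IsLocalRing.maximalIdeal A)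
    (F : MvPowerSeries (Fin n) A)
    (hF : ∀ e : Fin n →₀ ℕ, e.degree ≤ 2 →
      MvPowerSeries.coeff e F = MvPowerSeries.coeff e ((VanCyc.quadPoly q + ∑ i, MvPolynomial.C (ℓ i) * MvPolynomial.X i + MvPolynomial.C a : MvPolynomial (Fin n) A) : MvPowerSeries (Fin n) A)) :
    ∃ (a' : A) (q' : Fin n → Fin n → A), a' ∈ IsLocalRing.maximalIdeal A ∧ VanCyc.QuadNondeg q' ∧
      Nonempty ((MvPowerSeries (Fin n) A ⧸ Ideal.span {F}) ≃ₐ[A]
        (MvPowerSeries (Fin n) A ⧸ Ideal.span {((VanCyc.quadPoly q' + MvPolynomial.C a' : MvPolynomial (Fin n) A) : MvPowerSeries (Fin n) A)})) := by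
  classical
  have hlowF : ∀ α : Fin n →₀ ℕ, α.degree < 3 → MvPowerSeries.coeff α F =
      MvPolynomial.coeff α (Groth.Agent.Lib.Helper76.MorseLin.lowPoly a ℓ q) := by
    intro α hα
    rw [hF α (by omega), MvPolynomial.coeff_coe]
    congr 1
    unfold Groth.Agent.Lib.Helper76.MorseLin.lowPoly
    ring
  obtain ⟨c, hc, hcrit⟩ := Groth.Agent.Lib.Helper76.MorseLin.exists_critical F a ℓ q hlowF hq hℓ
  set G := Groth.Agent.Lib.Helper76.MorseLin.trans (IsLocalRing.maximalIdeal A) c F with hGdef
  have hq' : VanCyc.QuadNondeg (VanCyc.quadPart G) :=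
    Groth.Agent.Lib.Helper76.MorseLin.nondeg_trans F a ℓ q hlowF hq hc
  have ha' : MvPowerSeries.coeff 0 G ∈ IsLocalRing.maximalIdeal A := by
    have h := Groth.Agent.Lib.Helper76.MorseLin.taylor_coeff_zero (IsLocalRing.maximalIdeal A)
      (IsLocalRing.maximalIdeal A) le_rfl hc F a ℓ q hlowF
    have h1 : a + ∑ i, ℓ i * c i + Groth.Agent.Lib.Helper99.Morse.quad q c ∈
        IsLocalRing.maximalIdeal A := by
      refine Ideal.add_mem _ (Ideal.add_mem _ ha
        (Ideal.sum_mem _ fun i _ => Ideal.mul_mem_left _ _ (hc i))) ?_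
      unfold Groth.Agent.Lib.Helper99.Morse.quad
      refine Ideal.sum_mem _ fun i _ => Ideal.sum_mem _ fun j _ => ?_
      split_ifs
      · exact Ideal.mul_mem_left _ _ (hc j)
      · exact Ideal.zero_mem _
    have h2 : MvPowerSeries.coeff 0 G = (MvPowerSeries.coeff 0 G -
        (a + ∑ i, ℓ i * c i + Groth.Agent.Lib.Helper99.Morse.quad q c)) +
        (a + ∑ i, ℓ i * c i + Groth.Agent.Lib.Helper99.Morse.quad q c) := by ring
    rw [h2]
    exact Ideal.add_mem _ (Ideal.pow_le_self (by norm_num) h) h1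
  have hG : ∀ e : Fin n →₀ ℕ, e.degree ≤ 2 → MvPowerSeries.coeff e G =
      MvPowerSeries.coeff e ((VanCyc.quadPoly (VanCyc.quadPart G) +
        MvPolynomial.C (MvPowerSeries.coeff 0 G) : MvPolynomial (Fin n) A) :
          MvPowerSeries (Fin n) A) := by
    intro e he
    rw [Groth.Agent.Lib.Helper76.MorseLin.coeff_eq_coeff_lowPoly G e (by omega),
      MvPolynomial.coeff_coe]
    congr 1
    have h0 : (fun i => MvPowerSeries.coeff (Finsupp.single i 1) G) = fun _ => (0 : A) :=
      funext hcrit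
    rw [h0]
    unfold Groth.Agent.Lib.Helper76.MorseLin.lowPoly
    simp only [map_zero, zero_mul, Finset.sum_const_zero, add_zero]
    ring
  obtain ⟨h, -, -, -, ⟨e2⟩⟩ := Groth.Agent.S16230.result A n 2 le_rfl (VanCyc.quadPart G) hq'
    (MvPowerSeries.coeff 0 G) G hG
  refine ⟨MvPowerSeries.coeff 0 G, VanCyc.quadPart G, ha', hq', ⟨?_⟩⟩
  refine AlgEquiv.trans (Ideal.quotientEquivAlg _ _
    (Groth.Agent.Lib.Helper76.MorseLin.transEquiv (IsLocalRing.maximalIdeal A) hc) ?_) e2
  rw [Ideal.map_span, Set.image_singleton]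
  rfl

end Groth.Agent.S16231
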