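import Groth.Statements.S0013
import Groth.Agent.Lib.Helper26.CechLES
import Groth.Agent.Lib.Helper26.AffineVanishing

set_option autoImplicit false
universe u
open Coherent

namespace Groth.Agent.S0013

open AlgebraicGeometry CategoryTheory TopologicalSpace Opposite Limits
open Groth.Agent.Lib.Helper26 Groth.Agent.Lib.Helper53 Abelian

/-- `H^n(⊤, F) ≃ H^n(X, F)` -/
noncomputable def HUtopEquiv {X : TopCat.{u}} (F : CohTop.Ab X) (n : ℕ) :
    CohTop.HU F n (⊤ : Opens X) ≃+ CohTop.H F n where
  toFun x := (Ext.mk₀ (MVTop.freeSheafTopIso (X := X)).inv).comp x (zero_add n)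
  invFun y := (Ext.mk₀ (MVTop.freeSheafTopIso (X := X)).hom).comp y (zero_add n)
  left_inv x := by
    change (Ext.mk₀ _).comp ((Ext.mk₀ _).comp x (zero_add n)) (zero_add n) = x
    rw [Ext.mk₀_comp_mk₀_assoc, Iso.hom_inv_id, Ext.mk₀_id_comp]
  right_inv y := by
    change (Ext.mk₀ _).comp ((Ext.mk₀ _).comp y (zero_add n)) (zero_add n) = y
    rw [Ext.mk₀_comp_mk₀_assoc, Iso.inv_hom_id, Ext.mk₀_id_comp]
  map_add' x y := Ext.comp_add _ _ _ _

lemma iInf_eq {X : Scheme.{u}} {ι : Type u} [DecidableEq ι] (U : ι → X.Opens) (n : ℕ) (a : Fin (n + 1) → ι) :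
    (iInf fun k => U (a k)) = ⨅ i ∈ Finset.image a Finset.univ, U i := by
  apply le_antisymm
  · apply le_iInf
    intro i
    apply le_iInf
    intro hi
    obtain ⟨k, -, rfl⟩ := Finset.mem_image.1 hi
    exact iInf_le _ k
  · apply le_iInf
    intro k
    exact (iInf_le _ (a k)).trans (iInf_le _ (Finset.mem_image.2 ⟨k, Finset.mem_univ _, rfl⟩))



open AlgebraicGeometry in
/-- Let X be a scheme with an open covering all of whose nonempty finite intersections are affine. For a
quasi-coherent module M and every degree p, Čech cohomology with respect to this covering is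
isomorphic to sheaf cohomology; only the existence of an isomorphism of additive groups is asserted
(the published statement gives an isomorphism of modules over the global sections). -/
theorem result (X : Scheme.{u}) {ι : Type u}
    (U : ι → X.Opens) (hcov : ⨆ i, U i = ⊤)
    (hU : ∀ s : Finset ι, s.Nonempty → IsAffineOpen (⨅ i ∈ s, U i))
    (M : X.Modules) [Coh.IsQCoh M] (p : ℕ) :
    Nonempty (↑(CohB1.cechH U M p) ≃+ Coh.HH X M p) := by
  classical
  have h : ∀ (n : ℕ) (a : Fin (n + 1) → ι) (q : ℕ),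
      Subsingleton (CohTop.HU (Coh.toAb M) (q + 1) (iInf fun k => U (a k))) := by
    intro n a q
    apply AffineVanishing.subsingleton_HU_succ M q
    rw [iInf_eq U n a]
    exact hU _ ⟨a 0, Finset.mem_image.2 ⟨0, Finset.mem_univ _, rfl⟩⟩
  obtain ⟨e⟩ := CechLES.leray U (Coh.toAb M) h p
  have hc : iSup U = ⊤ := hcov
  rw [hc] at e
  exact ⟨e.trans (HUtopEquiv (Coh.toAb M) p)⟩

end Groth.Agent.S0013
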