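import Groth.Statements.S5071
import Mathlib
import Groth.Agent.S9272

set_option autoImplicit false
universe u
open CInt

namespace Groth.Agent.S5071
open TensorProduct

section
variable {A B : Type u} [CommRing A] [CommRing B] [Algebra A B]

theorem flat_restrictScalars (X : Type u) [AddCommGroup X] [Module B X] [Module A X]
    [IsScalarTower A B X] [Module.Flat A X] : Module.Flat A (RestrictScalars A B X) := by
  let e : RestrictScalars A B X ≃ₗ[A] X :=
    { RestrictScalars.addEquiv A B X with
      map_smul' := fun a x => by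
        show RestrictScalars.addEquiv A B X (a • x) = a • RestrictScalars.addEquiv A B X x
        rw [RestrictScalars.addEquiv_map_smul, algebraMap_smul] }
  exact Module.Flat.of_linearEquiv e

theorem flat_localizedModule (M : Type u) [AddCommGroup M] [Module A M] [Module B M]
    [IsScalarTower A B M] [Module.Flat A M] (S : Submonoid B) :
    Module.Flat A (LocalizedModule S M) := by
  rw [Module.Flat.iff_lTensor_preserves_injective_linearMap]
  intro N P _ _ _ _ f hf
  have h1 : Function.Injective (AlgebraTensorModule.lTensor B M f) := by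
    rw [AlgebraTensorModule.coe_lTensor]
    exact Module.Flat.lTensor_preserves_injective_linearMap f hf
  have h2 := IsLocalizedModule.map_injective S
    (AlgebraTensorModule.rTensor A N (LocalizedModule.mkLinearMap S M))
    (AlgebraTensorModule.rTensor A P (LocalizedModule.mkLinearMap S M))
    (AlgebraTensorModule.lTensor B M f) h1
  rw [IsLocalizedModule.map_lTensor] at h2
  rw [← AlgebraTensorModule.coe_lTensor (A := B)]
  exact h2

end


section
variable {A B : Type u} [CommRing A] [CommRing B] [Algebra A B]

/-- an ideal with flat quotient in a flat algebra is flat -/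
theorem flat_ideal (I : Ideal B) [Module.Flat A B] [Module.Flat A (B ⧸ I)] : Module.Flat A I := by
  refine (Groth.Agent.S6304.result ((Submodule.subtype I).restrictScalars A)
    ((Ideal.Quotient.mkₐ A I).toLinearMap) (Submodule.subtype_injective I) ?_
    Ideal.Quotient.mk_surjective).2 inferInstance
  intro b
  constructor
  · intro hb
    have : b ∈ I := Ideal.Quotient.eq_zero_iff_mem.mp hb
    exact ⟨⟨b, this⟩, rfl⟩
  · rintro ⟨x, rfl⟩
    exact Ideal.Quotient.eq_zero_iff_mem.mpr x.2

/-- `J^n / J^m` is flat when `B/J^n` and `B/J^m` are -/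
theorem flat_pow_quot (J : Ideal B) (n m : ℕ) (hnm : n ≤ m) [Module.Flat A (B ⧸ J ^ n)]
    [Module.Flat A (B ⧸ J ^ m)] :
    Module.Flat A (↥(J ^ n) ⧸ (Submodule.comap (J ^ n).subtype (J ^ m))) := by
  have hle : J ^ m ≤ J ^ n := Ideal.pow_le_pow_right hnm
  let f₁ : (↥(J ^ n) ⧸ (Submodule.comap (J ^ n).subtype (J ^ m))) →ₗ[A] B ⧸ J ^ m :=
    (Submodule.mapQ (Submodule.comap (J ^ n).subtype (J ^ m)) (J ^ m) (J ^ n).subtype le_rfl).restrictScalars A
  let g₁ : (B ⧸ J ^ m) →ₗ[A] B ⧸ J ^ n := (Ideal.Quotient.factorₐ A hle).toLinearMap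
  refine (Groth.Agent.S6304.result f₁ g₁ ?_ ?_ ?_).2 inferInstance
  · rw [injective_iff_map_eq_zero]
    intro x hx
    obtain ⟨y, rfl⟩ := Submodule.Quotient.mk_surjective _ x
    have h1 : (Submodule.Quotient.mk (y : B) : B ⧸ J ^ m) = 0 := hx
    rw [Submodule.Quotient.mk_eq_zero] at h1 ⊢
    exact h1
  · intro y
    obtain ⟨b, rfl⟩ := Ideal.Quotient.mk_surjective y
    constructor
    · intro hb
      have hb' : b ∈ J ^ n := Ideal.Quotient.eq_zero_iff_mem.mp hb
      exact ⟨Submodule.Quotient.mk ⟨b, hb'⟩, rfl⟩
    · rintro ⟨x, hx⟩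
      obtain ⟨y, rfl⟩ := Submodule.Quotient.mk_surjective _ x
      have h1 : (Ideal.Quotient.mk (J ^ m) (y : B)) = Ideal.Quotient.mk (J ^ m) b := hx
      show (Ideal.Quotient.factor hle) (Ideal.Quotient.mk (J ^ m) b) = 0
      rw [← h1, Ideal.Quotient.factor_mk]
      exact Ideal.Quotient.eq_zero_iff_mem.mpr y.2
  · exact Ideal.Quotient.factor_surjective hle

end

theorem main (A B : Type u) [CommRing A] [CommRing B] [Algebra A B]
    (rs : List B) (hrs : RegImm.IsTransRegularSeq A B rs) (n m : ℕ) (hnm : n < m) :
    Module.Flat A (RestrictScalars A B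
      (↥(Ideal.ofList rs ^ n) ⧸ (Submodule.comap (Ideal.ofList rs ^ n).subtype (Ideal.ofList rs ^ m)))) ∧
      ∀ (q : Ideal B) [q.IsPrime], Ideal.ofList rs ≤ q →
        Module.Flat A (RestrictScalars A B (LocalizedModule q.primeCompl ↥(Ideal.ofList rs ^ n))) := by
  obtain ⟨hreg, hflat⟩ := hrs
  have hJ : Ideal.ofList rs = Ideal.span (Set.range rs.get) := by
    rw [Set.range_list_get]
  have hq : CAlgX.IsQuasiRegular rs.get := by
    apply Groth.Agent.Lib.Helper3.QReg.isQuasiRegular_of_isWeaklyRegular
    rw [List.ofFn_get]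
    exact hreg
  have hflatJ : Module.Flat A (B ⧸ Ideal.span (Set.range rs.get)) := by
    have := hflat rs.length le_rfl
    rwa [List.take_length, hJ] at this
  have hpow := Groth.Agent.S9272.flat_pow A rs.get hq
  have hflatB : Module.Flat A B := by
    have h0 := hflat 0 (Nat.zero_le _)
    rw [List.take_zero, Ideal.ofList_nil] at h0
    exact Module.Flat.of_linearEquiv
      ((Submodule.quotEquivOfEqBot (⊥ : Submodule B B) rfl).symm.restrictScalars A)
  rw [hJ]
  constructor
  · have := hpow n
    have := hpow m
    have := flat_pow_quot (A := A) (Ideal.span (Set.range rs.get)) n m hnm.le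
    exact flat_restrictScalars _
  · intro q _ _
    have := hpow n
    have := flat_ideal (A := A) (Ideal.span (Set.range rs.get) ^ n)
    have := flat_localizedModule (A := A) (↥(Ideal.span (Set.range rs.get) ^ n)) q.primeCompl
    exact flat_restrictScalars _

end Groth.Agent.S5071

namespace Groth.Agent.S5071

/-- Let B be an A-algebra and J an ideal of B generated by a sequence which is transversally regular
relative to A. Then for n < m the module J^n/J^m is flat over A, and for every prime q of B
containing J the localisation (J^n)_q is flat over A (modules regarded as A-modules by restriction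
of scalars). -/
theorem result (A B : Type u) [CommRing A] [CommRing B] [Algebra A B]
    (rs : List B) (hrs : RegImm.IsTransRegularSeq A B rs) (n m : ℕ) (hnm : n < m) :
    Module.Flat A (RestrictScalars A B
      (↥(Ideal.ofList rs ^ n) ⧸ (Submodule.comap (Ideal.ofList rs ^ n).subtype (Ideal.ofList rs ^ m)))) ∧
      ∀ (q : Ideal B) [q.IsPrime], Ideal.ofList rs ≤ q →
        Module.Flat A (RestrictScalars A B (LocalizedModule q.primeCompl ↥(Ideal.ofList rs ^ n))) := by
  exact main A B rs hrs n m hnm

end Groth.Agent.S5071
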