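import Groth.Statements.S14742
import Groth.Agent.Lib.Helper63.PruferFP

set_option autoImplicit false
universe u
open ValPrufer

namespace Groth.Agent.S14742

/-- Let R be a Prüfer domain (an integral domain whose localisations at primes are valuation rings) and
A a finitely presented R-algebra. Then A is a coherent ring: every finitely generated ideal I of A
is finitely presented as an A-module. -/
theorem result
    (R : Type u) [CommRing R] [IsDomain R]
    (hR : ∀ (p : Ideal R) [p.IsPrime], ValuationRing (Localization.AtPrime p))
    (A : Type u) [CommRing A] [Algebra R A] [Algebra.FinitePresentation R A]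
    (I : Ideal A) (hI : I.FG) : Module.FinitePresentation A I := by
  classical
  obtain ⟨n, f, hf, hker⟩ := (inferInstance : Algebra.FinitePresentation R A).out
  let _ : Algebra (MvPolynomial (Fin n) R) A := f.toRingHom.toAlgebra
  have hsc : IsScalarTower R (MvPolynomial (Fin n) R) A :=
    IsScalarTower.of_algebraMap_eq (fun r => (f.commutes r).symm)
  have hf' : Function.Surjective (algebraMap (MvPolynomial (Fin n) R) A) := hf
  have hker' : (RingHom.ker (algebraMap (MvPolynomial (Fin n) R) A)).FG := hker
  obtain ⟨s, hs⟩ := hI
  have hI' : (I.comap (algebraMap (MvPolynomial (Fin n) R) A)).FG := by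
    have hmap : I = Ideal.map (algebraMap (MvPolynomial (Fin n) R) A)
        (Ideal.span ((s.image (Function.surjInv hf') : Finset _) : Set _)) := by
      rw [Ideal.map_span, ← hs]
      congr 1
      ext a
      simp only [Finset.coe_image, Set.mem_image, Finset.mem_coe, exists_exists_and_eq_and,
        Function.surjInv_eq hf']
      simp
    rw [hmap, Ideal.comap_map_of_surjective _ hf']
    refine Submodule.FG.sup ⟨_, rfl⟩ ?_
    exact hker'
  have hfin : Module.Finite (MvPolynomial (Fin n) R)
      (I.comap (algebraMap (MvPolynomial (Fin n) R) A)) := Module.Finite.iff_fg.mpr hI'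
  have hfp' : Module.FinitePresentation (MvPolynomial (Fin n) R)
      (I.comap (algebraMap (MvPolynomial (Fin n) R) A)) := by
    refine Groth.Agent.Lib.Helper63.PruferFP.finitePresentation_of_torsionFree R hR
      (MvPolynomial (Fin n) R) (I.comap (algebraMap (MvPolynomial (Fin n) R) A)) ?_
    intro a ha m hm
    have h1 : a • (m : MvPolynomial (Fin n) R) = 0 := by
      rw [← Submodule.coe_smul_of_tower, hm]; rfl
    rcases smul_eq_zero.mp h1 with h | h
    · exact absurd h ha
    · exact Subtype.ext h
  let g : (I.comap (algebraMap (MvPolynomial (Fin n) R) A)) →ₗ[MvPolynomial (Fin n) R] I :=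
    { toFun := fun x => ⟨algebraMap (MvPolynomial (Fin n) R) A x.1, x.2⟩
      map_add' := fun x y => Subtype.ext (by simp)
      map_smul' := fun c x => Subtype.ext (by simp [Algebra.smul_def]) }
  have hg : Function.Surjective g := by
    rintro ⟨a, ha⟩
    obtain ⟨x, rfl⟩ := hf' a
    exact ⟨⟨x, ha⟩, rfl⟩
  have hkg : (LinearMap.ker g).FG := by
    have hle : RingHom.ker (algebraMap (MvPolynomial (Fin n) R) A) ≤
        I.comap (algebraMap (MvPolynomial (Fin n) R) A) := by
      intro x hx
      rw [Ideal.mem_comap, (RingHom.mem_ker).mp hx]
      exact I.zero_mem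
    have heq : LinearMap.ker g = Submodule.comap
        (I.comap (algebraMap (MvPolynomial (Fin n) R) A)).subtype
        (RingHom.ker (algebraMap (MvPolynomial (Fin n) R) A)) := by
      ext x
      simp only [LinearMap.mem_ker, Submodule.mem_comap, Submodule.subtype_apply,
        RingHom.mem_ker]
      constructor
      · intro h
        exact congrArg Subtype.val h
      · intro h
        exact Subtype.ext h
    rw [heq, ← Module.Finite.iff_fg]
    have : Module.Finite (MvPolynomial (Fin n) R)
        (RingHom.ker (algebraMap (MvPolynomial (Fin n) R) A)) := Module.Finite.iff_fg.mpr hker'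
    exact Module.Finite.equiv (Submodule.comapSubtypeEquivOfLe hle).symm
  have hfpI : Module.FinitePresentation (MvPolynomial (Fin n) R) I :=
    Module.finitePresentation_of_surjective g hg hkg
  have hfinA : Module.Finite (MvPolynomial (Fin n) R) A :=
    Module.Finite.of_surjective (Algebra.linearMap (MvPolynomial (Fin n) R) A) hf'
  have hIfin : Module.Finite A I := Module.Finite.iff_fg.mpr ⟨s, hs⟩
  obtain ⟨m, π, hπ⟩ := Module.Finite.exists_fin' A I
  have hkπ : (LinearMap.ker (π.restrictScalars (MvPolynomial (Fin n) R))).FG :=
    Module.FinitePresentation.fg_ker (π.restrictScalars (MvPolynomial (Fin n) R)) hπ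
  refine Module.finitePresentation_of_surjective π hπ ?_
  apply Submodule.FG.of_restrictScalars (MvPolynomial (Fin n) R)
  rwa [LinearMap.ker_restrictScalars] at hkπ

end Groth.Agent.S14742
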