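import Groth.Statements.S3843
-- import your own Groth.Agent.* helpers here
import Groth.Agent.S2591
import Groth.Agent.Lib.Helper4.SDG0
import Groth.Agent.Lib.Helper4.SDG1
import Groth.Agent.Lib.Helper4.SDG2
import Groth.Agent.Lib.Helper68.SDL2
import Groth.Agent.Lib.Helper76.SDKILL

set_option autoImplicit false
universe u
open CategoryTheory CategoryTheory.Limits AlgebraicGeometry TopologicalSpace
open Rat20

namespace Groth.Agent.S3843
open TensorProduct

section alg
variable {A : Type u} [CommRing A]

theorem tf_aux (M : Type u) [AddCommGroup M] [Module A M] [Module.Flat A M]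
    (l : List A) (hl : Ideal.span {a | a ∈ l} = ⊤)
    (hfree : ∀ (i : ℕ) (hi : i < l.length),
      Module.Free (Localization.Away l[i] ⧸ (Ideal.span {a | a ∈ l.take i}).map
          (algebraMap A (Localization.Away l[i])))
        ((Localization.Away l[i] ⧸ (Ideal.span {a | a ∈ l.take i}).map
          (algebraMap A (Localization.Away l[i]))) ⊗[A] M))
    (I : Set A) :
    ∀ (k i : ℕ), i + k = l.length → ∀ (P : Type u) [AddCommGroup P] [Module A P],
      (∀ a ∈ Ideal.span {a | a ∈ l.take i}, ∀ p : P, a • p = 0) →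
      (∀ (g : A) (x : P), (∀ a ∈ I, ∃ n : ℕ, (g * a) ^ n • x = 0) → ∃ m : ℕ, g ^ m • x = 0) →
      ∀ t : P ⊗[A] M, (∀ a ∈ I, ∃ n : ℕ, a ^ n • t = 0) → t = 0 := by
  intro k
  induction k with
  | zero =>
    intro i hi P _ _ hJP _ t _
    have hi' : i = l.length := by omega
    have h1 : (1 : A) ∈ Ideal.span {a | a ∈ l.take i} := by
      rw [hi', List.take_length, hl]; trivial
    have h0 : ∀ p : P, p = 0 := fun p => by simpa using hJP 1 h1 p
    have : Subsingleton P := ⟨fun a b => by rw [h0 a, h0 b]⟩
    exact Subsingleton.elim t 0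
  | succ k ih =>
    intro i hi P _ _ hJP hP t ht
    have hil : i < l.length := by omega
    obtain ⟨m, hm⟩ := Groth.Agent.Lib.Helper76.SDKILL.KILL M l[i] (Ideal.span {a | a ∈ l.take i}) (hfree i hil) P hJP I
      (hP l[i]) t ht
    -- the kernel of `g` on `P`
    have hK : ∀ t₁ : P ⊗[A] M, (∀ a ∈ I, ∃ n : ℕ, a ^ n • t₁ = 0) → l[i] • t₁ = 0 → t₁ = 0 := by
      intro t₁ ht₁ hg
      obtain ⟨hinj, hsurj⟩ := Groth.Agent.Lib.Helper68.SDL2.L2 M P l[i]
      obtain ⟨t', ht'⟩ := hsurj t₁ hg
      have ht'0 : t' = 0 := by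
        refine ih (i + 1) (by omega) _ ?_ ?_ t' ?_
        · intro a ha
          refine Submodule.span_induction (p := fun a _ => ∀ p : LinearMap.ker (LinearMap.lsmul A P l[i]), a • p = 0) ?_ ?_ ?_ ?_ ha
          · intro a ha p
            have ha' : a ∈ l.take (i + 1) := ha
            rw [List.take_succ_eq_append_getElem hil, List.mem_append, List.mem_singleton] at ha'
            rcases ha' with ha' | rfl
            · apply Subtype.ext
              simpa using hJP a (Ideal.subset_span ha') p.1
            · apply Subtype.ext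
              show l[i] • p.1 = 0
              exact LinearMap.mem_ker.1 p.2
          · intro p; simp
          · intro a b _ _ ha hb p; rw [add_smul, ha, hb, add_zero]
          · intro c a _ ha p
            have h2 : (c • a) • p = c • (a • p) := by rw [smul_eq_mul, mul_smul]
            rw [h2, ha, smul_zero]
        · intro g x hx
          obtain ⟨m, hm⟩ := hP g x.1 (fun a ha => by
            obtain ⟨n, hn⟩ := hx a ha
            exact ⟨n, by simpa using congrArg Subtype.val hn⟩)
          exact ⟨m, Subtype.ext (by simpa using hm)⟩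
        · intro a ha
          obtain ⟨n, hn⟩ := ht₁ a ha
          refine ⟨n, hinj ?_⟩
          rw [map_smul, ht', hn, map_zero]
      rw [← ht', ht'0, map_zero]
    have hpow : ∀ j : ℕ, l[i] ^ j • t = 0 → t = 0 := by
      intro j
      induction j with
      | zero => intro h; simpa using h
      | succ j ihj =>
        intro h
        apply ihj
        apply hK
        · intro a ha
          obtain ⟨n, hn⟩ := ht a ha
          exact ⟨n, by rw [smul_comm, hn, smul_zero]⟩
        · rw [← mul_smul, ← pow_succ']; exact h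
    exact hpow m hm

theorem tf_of_strat (M : Type u) [AddCommGroup M] [Module A M] [Module.Flat A M]
    (l : List A) (hl : Ideal.span {a | a ∈ l} = ⊤)
    (hfree : ∀ (i : ℕ) (hi : i < l.length),
      Module.Free (Localization.Away l[i] ⧸ (Ideal.span {a | a ∈ l.take i}).map
          (algebraMap A (Localization.Away l[i])))
        ((Localization.Away l[i] ⧸ (Ideal.span {a | a ∈ l.take i}).map
          (algebraMap A (Localization.Away l[i]))) ⊗[A] M))
    (I : Set A)
    (hI : ∀ (g x : A), (∀ a ∈ I, ∃ n : ℕ, (g * a) ^ n * x = 0) → ∃ m : ℕ, g ^ m * x = 0)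
    (t : M) (ht : ∀ a ∈ I, ∃ n : ℕ, a ^ n • t = 0) : t = 0 := by
  have h := tf_aux M l hl hfree I l.length 0 (by simp) A
    (by
      intro a ha p
      have : a = 0 := by simpa using ha
      rw [this, zero_smul])
    (fun g x hx => by simpa [smul_eq_mul] using hI g x (by simpa [smul_eq_mul] using hx))
    ((1 : A) ⊗ₜ[A] t)
    (fun a ha => by
      obtain ⟨n, hn⟩ := ht a ha
      exact ⟨n, by rw [← TensorProduct.tmul_smul, hn, TensorProduct.tmul_zero]⟩)
  have := congrArg (TensorProduct.lid A M) h
  simpa using this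

end alg


/-- For the open subset U = X; the general case is the same statement over the open subscheme U: let f :
X' → X be flat and locally of finite presentation. Then for every schematically dense open subset V
of X, the preimage f⁻¹(V) is schematically dense in X'. -/
theorem result {X X' : Scheme.{u}} (f : X' ⟶ X) [Flat f]
    [LocallyOfFinitePresentation f] (V : X.Opens) (hV : CInt.IsSchematicallyDense V) :
    CInt.IsSchematicallyDense (f ⁻¹ᵁ V) := by
  refine Groth.Agent.Lib.Helper4.SDG0.G0 f V ?_
  intro U U' hU hU' hUU' s hs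
  have hflat : (f.appLE U U' hUU').hom.Flat :=
    HasRingHomProperty.appLE (P := @Flat) f inferInstance ⟨U, hU⟩ ⟨U', hU'⟩ hUU'
  have hfp : (f.appLE U U' hUU').hom.FinitePresentation :=
    HasRingHomProperty.appLE (P := @LocallyOfFinitePresentation) f inferInstance
      ⟨U, hU⟩ ⟨U', hU'⟩ hUU'
  let _ : Algebra Γ(X, U) Γ(X', U') := (f.appLE U U' hUU').hom.toAlgebra
  have : Module.Flat Γ(X, U) Γ(X', U') := hflat
  have : Algebra.FinitePresentation Γ(X, U) Γ(X', U') := hfp
  obtain ⟨l, hl, hfree⟩ := Groth.Agent.S2591.result (A := Γ(X, U)) (B := Γ(X', U')) Γ(X', U')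
  refine tf_of_strat Γ(X', U') l hl hfree {a | X.basicOpen a ≤ V}
    (fun g x h => Groth.Agent.Lib.Helper4.SDG2.G2 V hV U hU g x h) s (fun a ha => ?_)
  obtain ⟨n, hn⟩ := Groth.Agent.Lib.Helper4.SDG1.G1 f V U U' hU' hUU' s hs a ha
  refine ⟨n, ?_⟩
  rw [Algebra.smul_def, map_pow]
  exact hn

end Groth.Agent.S3843
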