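import Groth.Statements.S13598
import Mathlib

set_option autoImplicit false
universe u
open Hensel

namespace Groth.Agent.S13598

open Polynomial in
/-- a quotient of a henselian local ring which is local is henselian -/
lemma henselian_quotient {S : Type u} [CommRing S] [hS : HenselianLocalRing S] (J : Ideal S)
    [IsLocalRing (S ⧸ J)] : HenselianLocalRing (S ⧸ J) := by
  have hq : Function.Surjective (Ideal.Quotient.mk J) := Ideal.Quotient.mk_surjective
  have hloc : IsLocalHom (Ideal.Quotient.mk J) := IsLocalHom.of_surjective _ hq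
  refine { is_henselian := ?_ }
  intro f hf a₀ h₁ h₂
  obtain ⟨f', hf', -, hf'm⟩ := Polynomial.lifts_and_degree_eq_and_monic
    ((Polynomial.mem_lifts f).2 (Polynomial.map_surjective _ hq f)) hf
  obtain ⟨b₀, rfl⟩ := hq a₀
  have e1 : Ideal.Quotient.mk J (f'.eval b₀) = f.eval (Ideal.Quotient.mk J b₀) := by
    rw [← hf', Polynomial.eval_map, Polynomial.eval₂_at_apply]
  have e2 : Ideal.Quotient.mk J (f'.derivative.eval b₀) =
      f.derivative.eval (Ideal.Quotient.mk J b₀) := by
    rw [← hf', Polynomial.derivative_map, Polynomial.eval_map, Polynomial.eval₂_at_apply]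
  have h1' : f'.eval b₀ ∈ IsLocalRing.maximalIdeal S := by
    rw [IsLocalRing.mem_maximalIdeal, mem_nonunits_iff]
    intro hu
    have : IsUnit (f.eval (Ideal.Quotient.mk J b₀)) := e1 ▸ hu.map _
    exact (IsLocalRing.mem_maximalIdeal _).1 h₁ this
  have h2' : IsUnit (f'.derivative.eval b₀) := by
    apply (isUnit_map_iff (Ideal.Quotient.mk J) _).1
    rw [e2]; exact h₂
  obtain ⟨b, hb, hbb₀⟩ := HenselianLocalRing.is_henselian f' hf'm b₀ h1' h2'
  refine ⟨Ideal.Quotient.mk J b, ?_, ?_⟩
  · rw [Polynomial.IsRoot.def, ← hf', Polynomial.eval_map, Polynomial.eval₂_at_apply, hb.eq_zero,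
      map_zero]
  · rw [← map_sub, IsLocalRing.mem_maximalIdeal, mem_nonunits_iff]
    intro hu
    exact (IsLocalRing.mem_maximalIdeal _).1 hbb₀ ((isUnit_map_iff (Ideal.Quotient.mk J) _).1 hu)

/-- For a local ring A, a henselization A ⟶ S of A (S a henselian local ring, the structure map local,
and initial among local homomorphisms from A to henselian local rings) and an ideal I of A inside
the maximal ideal, the quotient S/IS with its induced algebra structure over A/I is a henselization
of A/I. (The local-ring and local-homomorphism instances on the quotients hold automatically; they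
are taken as hypotheses only so that the conclusion can be stated.) -/
theorem result {A S : Type u} [CommRing A] [IsLocalRing A] [CommRing S]
    [IsLocalRing S] [Algebra A S] [IsLocalHom (algebraMap A S)] [Hensel.IsHenselization A S]
    (I : Ideal A) (hI : I ≤ IsLocalRing.maximalIdeal A)
    [IsLocalRing (A ⧸ I)] [IsLocalRing (S ⧸ I.map (algebraMap A S))]
    [IsLocalHom (algebraMap (A ⧸ I) (S ⧸ I.map (algebraMap A S)))] :
    Hensel.IsHenselization (A ⧸ I) (S ⧸ I.map (algebraMap A S)) := by
  have hS : HenselianLocalRing S := Hensel.IsHenselization.henselian (R := A)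
  refine ⟨henselian_quotient _, ?_⟩
  intro T _ _ f hf
  have hmk : IsLocalHom (Ideal.Quotient.mk I) :=
    IsLocalHom.of_surjective _ Ideal.Quotient.mk_surjective
  let f₀ : A →+* T := f.comp (Ideal.Quotient.mk I)
  have hf₀ : IsLocalHom f₀ := RingHom.isLocalHom_comp f (Ideal.Quotient.mk I)
  obtain ⟨g₀, hg₀, hg₀u⟩ := Hensel.IsHenselization.universal (S := S) T f₀ hf₀
  have hker : ∀ s ∈ I.map (algebraMap A S), g₀ s = 0 := by
    intro s hs
    have hle : I.map (algebraMap A S) ≤ RingHom.ker g₀ := by
      rw [Ideal.map_le_iff_le_comap]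
      intro a ha
      rw [Ideal.mem_comap, RingHom.mem_ker]
      have : g₀ (algebraMap A S a) = f₀ a := by rw [← hg₀]; rfl
      rw [this]
      show f (Ideal.Quotient.mk I a) = 0
      rw [Ideal.Quotient.eq_zero_iff_mem.2 ha, map_zero]
    exact hle hs
  refine ⟨Ideal.Quotient.lift _ g₀ hker, ?_, ?_⟩
  · apply Ideal.Quotient.ringHom_ext
    ext a
    simp only [RingHom.comp_apply, Ideal.Quotient.algebraMap_quotient_map_quotient,
      Ideal.Quotient.lift_mk]
    have : g₀ (algebraMap A S a) = f₀ a := by rw [← hg₀]; rfl
    rw [this]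
    rfl
  · intro g' hg'
    apply Ideal.Quotient.ringHom_ext
    have h1 : (g'.comp (Ideal.Quotient.mk (I.map (algebraMap A S)))) = g₀ := by
      apply hg₀u
      ext a
      simp only [RingHom.comp_apply, f₀]
      rw [← hg', RingHom.comp_apply, Ideal.Quotient.algebraMap_quotient_map_quotient]
    rw [h1]
    ext s
    simp

end Groth.Agent.S13598
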