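import Groth.Statements.S6285
import Mathlib

set_option autoImplicit false
universe u
open CAlg

namespace Groth.Agent.S6285

universe v w
open scoped TensorProduct

theorem support_baseChange_gen {R : Type u} {R' : Type v} [CommRing R] [CommRing R'] [Algebra R R'] (M : Type w) [AddCommGroup M] [Module R M] [Module.Finite R M] : Module.support R' (R' ⊗[R] M) = PrimeSpectrum.comap (algebraMap R R') ⁻¹' Module.support R M := by
  ext q
  simp only [Set.mem_preimage]
  rw [Module.mem_support_iff_nontrivial_residueField_tensorProduct,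
    Module.mem_support_iff_nontrivial_residueField_tensorProduct]
  change _ ↔ Nontrivial ((q.asIdeal.comap (algebraMap R R')).ResidueField ⊗[R] M)
  let K := q.asIdeal.ResidueField
  let k := (q.asIdeal.comap (algebraMap R R')).ResidueField
  let _ : Algebra k K := (Ideal.ResidueField.map (q.asIdeal.comap (algebraMap R R')) q.asIdeal (algebraMap R R') rfl).toAlgebra
  have : IsScalarTower R k K := IsScalarTower.of_algebraMap_eq fun r => by
    rw [RingHom.algebraMap_toAlgebra, Ideal.ResidueField.map_algebraMap]
    rw [IsScalarTower.algebraMap_apply R R' K]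
  let e1 := (TensorProduct.AlgebraTensorModule.cancelBaseChange R R' K K M)
  let e2 := (TensorProduct.AlgebraTensorModule.cancelBaseChange R k K K M)
  rw [e1.nontrivial_congr, ← e2.nontrivial_congr]
  exact Module.FaithfullyFlat.nontrivial_tensorProduct_iff_right k K

theorem support_of_isBaseChange {R : Type u} {R' : Type v} [CommRing R] [CommRing R'] [Algebra R R'] {M : Type w} [AddCommGroup M] [Module R M] [Module.Finite R M] {N : Type*} [AddCommGroup N] [Module R N] [Module R' N] [IsScalarTower R R' N] (f : M →ₗ[R] N) (hf : IsBaseChange R' f) : Module.support R' N = PrimeSpectrum.comap (algebraMap R R') ⁻¹' Module.support R M := by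
  rw [← hf.equiv.support_eq, support_baseChange_gen]

theorem isCompact_preimage_comap {A : Type u} {B : Type v} [CommRing A] [CommRing B] (φ : A →+* B) (s : Set (PrimeSpectrum A)) (hs : IsCompact s) (ho : IsOpen s) : IsCompact (PrimeSpectrum.comap φ ⁻¹' s) := by
  classical
  obtain ⟨t, rfl⟩ := PrimeSpectrum.isCompact_isOpen_iff.mp ⟨hs, ho⟩
  rw [Set.preimage_compl, PrimeSpectrum.preimage_comap_zeroLocus]
  refine (PrimeSpectrum.isCompact_isOpen_iff.mpr ⟨t.image φ, ?_⟩).1
  rw [Finset.coe_image]

/-- For a ring R and an R-module M of finite presentation, the support Supp(M) is closed in Spec(R), and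
its complement in Spec(R) is quasi-compact. -/
theorem result (R : Type u) [CommRing R] (M : Type u) [AddCommGroup M] [Module R M] [Module.FinitePresentation R M] : IsClosed (Module.support R M) ∧ IsCompact (Module.support R M)ᶜ := by
  classical
  refine ⟨Module.isClosed_support, ?_⟩
  obtain ⟨n, m, f, g, hf, hfg⟩ := Module.FinitePresentation.exists_fin' R M
  let A : Fin m × Fin n → R := fun p => g (Pi.single p.1 1) p.2
  let R₀ := MvPolynomial (Fin m × Fin n) ℤ
  let φ : R₀ →+* R := (MvPolynomial.aeval A : R₀ →ₐ[ℤ] R).toRingHom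
  let _ : Algebra R₀ R := φ.toAlgebra
  let _ : Module R₀ M := Module.compHom M φ
  have : IsScalarTower R₀ R M := IsScalarTower.of_algebraMap_smul fun r x => rfl
  let v₀ : Fin m → (Fin n → R₀) := fun j i => MvPolynomial.X (j, i)
  let g₀ : (Fin m → R₀) →ₗ[R₀] (Fin n → R₀) := Fintype.linearCombination R₀ v₀
  let i₁ : (Fin m → R₀) →ₗ[R₀] (Fin m → R) := (Algebra.linearMap R₀ R).compLeft (Fin m)
  let i₂ : (Fin n → R₀) →ₗ[R₀] (Fin n → R) := (Algebra.linearMap R₀ R).compLeft (Fin n)
  have comm₁ : i₂.comp g₀ = (g.restrictScalars R₀).comp i₁ := by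
    apply LinearMap.pi_ext'
    intro j
    apply LinearMap.ext_ring
    ext i
    simp only [LinearMap.coe_comp, Function.comp_apply, LinearMap.coe_single, LinearMap.coe_restrictScalars]
    have h1 : g₀ (Pi.single j 1) = v₀ j := by
      simp [g₀, Fintype.linearCombination_apply, Pi.single_apply]
    have h2 : i₁ (Pi.single j 1) = Pi.single j 1 := by
      ext j'
      simp [i₁, Pi.single_apply]
    rw [h1, h2]
    simp [i₂, v₀, A, φ, RingHom.algebraMap_toAlgebra]
    rw [MvPolynomial.aeval_X]
  let f₀ : (Fin n → R₀) →ₗ[R₀] ((Fin n → R₀) ⧸ LinearMap.range g₀) := (LinearMap.range g₀).mkQ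
  have hle : LinearMap.range g₀ ≤ LinearMap.ker ((f.restrictScalars R₀).comp i₂) := by
    rintro _ ⟨c, rfl⟩
    rw [LinearMap.mem_ker]
    have := congrArg (fun l => l c) comm₁
    simp only [LinearMap.coe_comp, Function.comp_apply, LinearMap.coe_restrictScalars] at this ⊢
    rw [this]
    exact hfg.apply_apply_eq_zero _
  let i₃ : ((Fin n → R₀) ⧸ LinearMap.range g₀) →ₗ[R₀] M := (LinearMap.range g₀).liftQ _ hle
  have comm₂ : i₃.comp f₀ = (f.restrictScalars R₀).comp i₂ := by
    ext x
    simp [i₃, f₀]
  have hbc : IsBaseChange R i₃ :=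
    IsBaseChange.of_right_exact R i₁ i₂ i₃ comm₁ comm₂
      ((IsBaseChange.linearMap R₀ R).finitePow (Fin m)) ((IsBaseChange.linearMap R₀ R).finitePow (Fin n))
      (LinearMap.exact_map_mkQ_range g₀) (Submodule.mkQ_surjective _) hfg hf
  have hsupp := support_of_isBaseChange i₃ hbc
  rw [hsupp, ← Set.preimage_compl]
  exact isCompact_preimage_comap _ _ (TopologicalSpace.NoetherianSpace.isCompact _)
    Module.isClosed_support.isOpen_compl

end Groth.Agent.S6285
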