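import Groth.Statements.S0128
import Groth.Agent.Lib.Helper4.StrataPull

set_option autoImplicit false
universe u
open CategoryTheory CategoryTheory.Limits AlgebraicGeometry Opposite
open EtPBC

namespace Groth.Agent.S0128
open Groth.Agent.Lib.Helper4 Groth.Agent.Lib.Helper4.Strata

theorem strata_restrict_univ {X : Scheme.{u}} [QuasiSeparatedSpace X] (F : EtCoh.Ab X)
    (hF : Strata F (Set.univ : Set X)) (hX : IsCompact (Set.univ : Set X)) (U : X.Opens) (hU : IsAffineOpen U) :
    Strata F (U : Set X) := by
  have : IsAffine U.toScheme := hU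
  have hpre : U.ι ⁻¹' (Set.univ : Set X) = Set.univ := Set.preimage_univ
  have h1 : Strata ((EtCoh.pull U.ι).obj F) (U.ι ⁻¹' (Set.univ : Set X)) :=
    strata_preimage U.ι F (fun A hA => cin_preimage_scheme U.ι isOpen_univ hX hpre
      (fun K _ hK2 hK3 => QuasiCompact.isCompact_preimage (f := U.ι) K hK2 hK3) hA) hF
  rw [hpre] at h1
  have h3 := strata_image _ U.ι h1
  rwa [Set.image_univ, Scheme.Opens.range_ι] at h3


/-- (1) iff (3), abelian case: for X quasi-compact and quasi-separated, F is constructible iff X itself
admits a finite partition into constructible locally closed strata along which F becomes finite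
locally constant. -/
theorem result (X : Scheme.{u}) [CompactSpace X] [QuasiSeparatedSpace X]
    (F : EtCoh.Ab X) :
    EtPBC.IsConstructible F ↔ EtPBC.AdaptedStrata F (Set.univ : Set X) := by
  rw [← strata_iff]
  constructor
  · intro hF
    have hcov : ∀ x : X, ∃ W : X.Opens, IsAffineOpen W ∧ x ∈ W := by
      intro x
      obtain ⟨W, hW, hxW, -⟩ := TopologicalSpace.Opens.isBasis_iff_nbhd.1 X.isBasis_affineOpens
        (show x ∈ (⊤ : X.Opens) from trivial)
      exact ⟨W, hW, hxW⟩
    choose W hW hxW using hcov
    obtain ⟨t, ht⟩ := (isCompact_univ (X := X)).elim_finite_subcover (fun x : X => (W x : Set X))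
      (fun x => (W x).isOpen) (fun x _ => Set.mem_iUnion.2 ⟨x, hxW x⟩)
    have key := strata_biUnion F t (fun x : X => (W x : Set X)) Set.univ isQuasiSeparated_univ
      (fun x _ => ⟨(W x).isOpen, (hW x).isCompact, Set.subset_univ _,
        (strata_iff _ _).2 (hF (W x) (hW x))⟩)
    have heq : (⋃ x ∈ t, (W x : Set X)) = Set.univ := Set.univ_subset_iff.1 ht
    rwa [heq] at key
  · intro hF U hU
    rw [← strata_iff]
    exact strata_restrict_univ F hF isCompact_univ U hU

end Groth.Agent.S0128
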