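import Groth.Statements.S0288
import Groth.Agent.Lib.Helper69.NormField
import Groth.Agent.Lib.Helper87.UnramGlobal

set_option autoImplicit false
universe u
open Pi1

namespace Groth.Agent.S0288

open AlgebraicGeometry CategoryTheory CategoryTheory.Limits
open Groth.Agent.Lib.Helper69.NormField

theorem isGeomUnibranch_of_normal (A : Type u) [CommRing A] [IsLocalRing A] [IsDomain A]
    [IsIntegrallyClosed A] : CAlg2.IsGeomUnibranch A := by
  have hnil : nilradical A = ⊥ := nilradical_eq_zero A
  have hinj : Function.Injective (Ideal.Quotient.mk (nilradical A)) := by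
    rw [injective_iff_map_eq_zero]
    intro a ha
    rw [Ideal.Quotient.eq_zero_iff_mem, hnil] at ha
    exact ha
  let e : A ≃+* CAlg2.red A :=
    RingEquiv.ofBijective (Ideal.Quotient.mk (nilradical A)) ⟨hinj, Ideal.Quotient.mk_surjective⟩
  have hdom : IsDomain (CAlg2.red A) := e.isDomain_iff.mp inferInstance
  have hic : IsIntegrallyClosed (CAlg2.red A) := IsIntegrallyClosed.of_equiv e
  have hsurj : Function.Surjective (algebraMap (CAlg2.red A) (CAlg2.normRed A)) := by
    intro x
    obtain ⟨y, hy⟩ := IsIntegrallyClosed.isIntegral_iff.mp x.2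
    exact ⟨y, Subtype.ext hy⟩
  have : IsLocalRing (CAlg2.red A) := e.isLocalRing
  refine ⟨⟨hdom, ?_⟩, ?_⟩
  · exact IsLocalRing.of_surjective' _ hsurj
  · intro m' _ x
    refine ⟨0, ?_⟩
    rw [pow_zero, pow_one]
    obtain ⟨y, rfl⟩ := Ideal.Quotient.mk_surjective x
    obtain ⟨z, rfl⟩ := hsurj y
    obtain ⟨a, rfl⟩ := Ideal.Quotient.mk_surjective z
    exact ⟨a, rfl⟩


open AlgebraicGeometry CategoryTheory CategoryTheory.Limits in
/-- Let X be a normal integral scheme with function field K, L a finite field extension of K and Y -> X
the normalization of X in Spec L. If Y -> X is unramified (formally unramified and locally of finite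
type), then it is etale, and finite. -/
theorem result {X : Scheme.{u}} [IsIntegral X] (hX : Pi1.IsNormalScheme X) (L : Type u) [Field L]
    [Algebra X.functionField L] [FiniteDimensional X.functionField L]
    [QuasiCompact (Spec.map (CommRingCat.ofHom (algebraMap X.functionField L)) ≫ X.fromSpecStalk (genericPoint X))]
    [QuasiSeparated (Spec.map (CommRingCat.ofHom (algebraMap X.functionField L)) ≫ X.fromSpecStalk (genericPoint X))]
    [FormallyUnramified (Spec.map (CommRingCat.ofHom (algebraMap X.functionField L)) ≫ X.fromSpecStalk (genericPoint X)).fromNormalization]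
    [LocallyOfFiniteType (Spec.map (CommRingCat.ofHom (algebraMap X.functionField L)) ≫ X.fromSpecStalk (genericPoint X)).fromNormalization] :
    Etale (Spec.map (CommRingCat.ofHom (algebraMap X.functionField L)) ≫ X.fromSpecStalk (genericPoint X)).fromNormalization ∧
    IsFinite (Spec.map (CommRingCat.ofHom (algebraMap X.functionField L)) ≫ X.fromSpecStalk (genericPoint X)).fromNormalization := by
  set g := Spec.map (CommRingCat.ofHom (algebraMap X.functionField L)) ≫
    X.fromSpecStalk (genericPoint X) with hg
  have hfin : IsFinite g.fromNormalization :=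
    (IsFinite.iff_isIntegralHom_and_locallyOfFiniteType _).mpr ⟨inferInstance, inferInstance⟩
  refine ⟨?_, hfin⟩
  haveI : IsIntegral g.normalization := inferInstance
  apply Groth.Agent.Lib.Helper87.UnramGlobal.etale_of_connected g.fromNormalization
  · intro y
    haveI := (hX y).1
    haveI := (hX y).2
    exact isGeomUnibranch_of_normal _
  · refine ⟨g.toNormalization (IsLocalRing.closedPoint L), ?_⟩
    have : g.fromNormalization (g.toNormalization (IsLocalRing.closedPoint L)) =
        (g.toNormalization ≫ g.fromNormalization) (IsLocalRing.closedPoint L) := rfl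
    rw [this, Scheme.Hom.toNormalization_fromNormalization]
    exact gen_closedPoint (algebraMap X.functionField L)


end Groth.Agent.S0288
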