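import Groth.Statements.S4997
import Groth.Agent.Lib.Helper69.SmoothQF

set_option autoImplicit false
universe u
open CategoryTheory CategoryTheory.Limits AlgebraicGeometry TopologicalSpace
open Unram17

namespace Groth.Agent.S4997

open AlgebraicGeometry CategoryTheory CategoryTheory.Limits

theorem locallyQuasiFinite_of_etale {X Y : Scheme.{u}} (f : X ⟶ Y) [Etale f] :
    LocallyQuasiFinite f := by
  rw [HasRingHomProperty.iff_appLE (P := @LocallyQuasiFinite)]
  intro U V e
  have h1 : (f.appLE U V e).hom.Etale :=
    HasRingHomProperty.appLE (P := @Etale) f inferInstance U V e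
  algebraize [(f.appLE U V e).hom]
  haveI : Algebra.Etale Γ(Y, U) Γ(X, V) := h1
  show Algebra.QuasiFinite Γ(Y, U) Γ(X, V)
  infer_instance


/-- A morphism of schemes is etale if and only if it is smooth and locally quasi-finite. -/
theorem result {X Y : Scheme.{u}} (f : X ⟶ Y) :
    Etale f ↔ Smooth f ∧ LocallyQuasiFinite f := by
  constructor
  · intro h
    exact ⟨inferInstance, locallyQuasiFinite_of_etale f⟩
  · rintro ⟨h1, h2⟩
    exact Groth.Agent.Lib.Helper69.SmoothQF.etale_of_smooth_of_locallyQuasiFinite f


end Groth.Agent.S4997
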