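import Groth.Statements.S17972
import Mathlib
import Groth.Agent.Lib.Helper9.HenselLocal

set_option autoImplicit false
universe u
open Hensel

namespace Groth.Agent.S17972

open IsLocalRing MvPolynomial in
/-- the quotient by a square system localized at its jacobian is étale. -/
theorem etale_away_jacobian {A : Type u} [CommRing A] (n : ℕ) (P : Fin n → MvPolynomial (Fin n) A) :
    let Pres : Algebra.PreSubmersivePresentation A
        (MvPolynomial (Fin n) A ⧸ Ideal.span (Set.range P)) (Fin n) (Fin n) :=
      Algebra.PreSubmersivePresentation.naive (v := P) id Function.injective_id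
    Algebra.Etale A (Localization.Away Pres.jacobian) := by
  intro Pres
  let Δ := Pres.jacobian
  have hΔ : IsUnit (algebraMap _ (Localization.Away Δ) Δ) :=
    IsLocalization.Away.algebraMap_isUnit _
  let Q : Algebra.SubmersivePresentation A (Localization.Away Δ) _ _ :=
    { toPreSubmersivePresentation :=
        .comp (.localizationAway (Localization.Away Δ) Δ) Pres,
      jacobian_isUnit := by simpa [Algebra.smul_def, -isUnit_map_iff] using ⟨hΔ, hΔ⟩ }
  have : Algebra.IsStandardSmoothOfRelativeDimension 0 A (Localization.Away Δ) :=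
    ⟨_, _, _, inferInstance, Q, by
      simp only [Algebra.PreSubmersivePresentation.dimension_comp_eq_dimension_add_dimension, Q]
      simp [Algebra.Presentation.dimension]⟩
  infer_instance

/-- Let A be a henselian local ring with maximal ideal m, let P_1, …, P_n be polynomials over A in n
variables and a₀ ∈ A^n a point with P_i(a₀) ∈ m for all i whose Jacobian determinant
det(∂P_i/∂T_j)(a₀) is a unit of A, i.e. nonzero in the residue field. Then there is a ∈ A^n
congruent to a₀ modulo m in each coordinate with P_i(a) = 0 for all i. -/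
theorem result
    (A : Type u) [CommRing A] [HenselianLocalRing A] (n : ℕ)
    (P : Fin n → MvPolynomial (Fin n) A) (a₀ : Fin n → A)
    (h₀ : ∀ i, MvPolynomial.eval a₀ (P i) ∈ IsLocalRing.maximalIdeal A)
    (hJ : IsUnit (Matrix.of (fun i j => MvPolynomial.eval a₀ (MvPolynomial.pderiv j (P i)))).det) :
    ∃ a : Fin n → A, (∀ i, MvPolynomial.eval a (P i) = 0) ∧
      ∀ j, a j - a₀ j ∈ IsLocalRing.maximalIdeal A := by
  classical
  let B := MvPolynomial (Fin n) A ⧸ Ideal.span (Set.range P)
  let Pres : Algebra.PreSubmersivePresentation A B (Fin n) (Fin n) :=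
    Algebra.PreSubmersivePresentation.naive (v := P) id Function.injective_id
  have hEt : Algebra.Etale A (Localization.Away Pres.jacobian) := etale_away_jacobian n P
  -- the residual point
  let ev : MvPolynomial (Fin n) A →ₐ[A] IsLocalRing.ResidueField A :=
    (IsScalarTower.toAlgHom A A (IsLocalRing.ResidueField A)).comp (MvPolynomial.aeval a₀)
  have hev : ∀ x, ev x = IsLocalRing.residue A (MvPolynomial.eval a₀ x) := by
    intro x
    show algebraMap A _ (MvPolynomial.aeval a₀ x) = _
    rw [MvPolynomial.aeval_eq_eval]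
    rfl
  have hker : ∀ x ∈ Ideal.span (Set.range P), ev x = 0 := by
    intro x hx
    have : Ideal.span (Set.range P) ≤ RingHom.ker ev.toRingHom := by
      rw [Ideal.span_le]
      rintro _ ⟨i, rfl⟩
      show ev (P i) = 0
      rw [hev, IsLocalRing.residue_eq_zero_iff]
      exact h₀ i
    exact this hx
  let φ₀ : B →ₐ[A] IsLocalRing.ResidueField A := Ideal.Quotient.liftₐ _ ev hker
  have hφ₀ : ∀ x, φ₀ (Ideal.Quotient.mk _ x) = ev x := fun x => rfl
  have hjac : φ₀ Pres.jacobian =
      IsLocalRing.residue A
        (Matrix.of (fun i j => MvPolynomial.eval a₀ (MvPolynomial.pderiv j (P i)))).det := by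
    rw [Algebra.PreSubmersivePresentation.jacobian_eq_jacobiMatrix_det]
    have h1 : algebraMap Pres.Ring B Pres.jacobiMatrix.det =
        Ideal.Quotient.mk _ Pres.jacobiMatrix.det := rfl
    rw [h1, hφ₀, hev]
    congr 1
    rw [RingHom.map_det, ← Matrix.det_transpose]
    congr 1
    ext i j
    simp only [RingHom.mapMatrix_apply, Matrix.map_apply, Matrix.transpose_apply, Matrix.of_apply]
    rw [Algebra.PreSubmersivePresentation.jacobiMatrix_apply]
    rfl
  have hunit : IsUnit (φ₀ Pres.jacobian) := by
    rw [hjac]
    exact hJ.map _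
  let Ψ : Localization.Away Pres.jacobian →ₐ[A] IsLocalRing.ResidueField A :=
    IsLocalization.Away.liftAlgHom (A := A) (f := φ₀) Pres.jacobian hunit
  have hΨ : ∀ b : B, Ψ (algebraMap B _ b) = φ₀ b := fun b => by
    simp [Ψ]
  obtain ⟨t, ht⟩ := Groth.Agent.Lib.Helper9.exists_lift_of_etale (R := A) Ψ
  let τ : MvPolynomial (Fin n) A →ₐ[A] A :=
    (t.comp (IsScalarTower.toAlgHom A B (Localization.Away Pres.jacobian))).comp
      (Ideal.Quotient.mkₐ A (Ideal.span (Set.range P)))
  let a : Fin n → A := fun j => τ (MvPolynomial.X j)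
  have hτ : τ = MvPolynomial.aeval a := by
    apply MvPolynomial.algHom_ext
    intro j
    simp [a]
  refine ⟨a, ?_, ?_⟩
  · intro i
    have h1 : MvPolynomial.eval a (P i) = τ (P i) := by
      rw [hτ, MvPolynomial.aeval_eq_eval]
    rw [h1]
    show t (algebraMap B _ (Ideal.Quotient.mk _ (P i))) = 0
    have : (Ideal.Quotient.mk (Ideal.span (Set.range P))) (P i) = 0 :=
      Ideal.Quotient.eq_zero_iff_mem.mpr (Ideal.subset_span ⟨i, rfl⟩)
    rw [this, map_zero, map_zero]
  · intro j
    rw [← IsLocalRing.residue_eq_zero_iff, map_sub, sub_eq_zero]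
    show IsLocalRing.residue A (t (algebraMap B _ (Ideal.Quotient.mk _ (MvPolynomial.X j)))) = _
    rw [ht, hΨ, hφ₀, hev, MvPolynomial.eval_X]

end Groth.Agent.S17972
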