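import Groth.Statements.S17613
-- import your own Groth.Agent.* helpers here
import Groth.Agent.Lib.Helper58.PairHensQuot
import Groth.Agent.Lib.Helper58.HenselPairColim
import Groth.Agent.Lib.Helper58.DirLimFP

set_option autoImplicit false
universe u
open Hensel

namespace Groth.Agent.S17613

/-- Let (A, I) be a Henselian pair and let B be a Henselization of the pair (R₀, IR₀) for a finitely
presented A-algebra R₀ (so A → B is Henselian finitely presented). Let (R_a) be a directed system of
A-algebras with A-compatible transition maps such that each (R_a, IR_a) is a Henselian pair, and let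
L be its direct limit with the induced A-algebra structure. Then the canonical map from the colimit
of the Hom_A(B, R_a) to Hom_A(B, L) is bijective: every A-algebra map B → L factors through some
R_a, and two A-algebra maps B → R_a whose composites with R_a → L agree become equal after passing
to some R_b. (Index set in the universe of the rings.) -/
theorem result (A : Type u) [CommRing A] (I : Ideal A)
    [HenselianRing A I] (R₀ : Type u) [CommRing R₀] [Algebra A R₀] [Algebra.FinitePresentation A R₀]
    (B : Type u) [CommRing B] [Algebra R₀ B] [Algebra A B] [IsScalarTower A R₀ B]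
    (hB : Hens2.IsPairHenselization R₀ (I.map (algebraMap A R₀)) B)
    {κ : Type u} [Preorder κ] [IsDirectedOrder κ] [Nonempty κ]
    (Ra : κ → Type u) [∀ a, CommRing (Ra a)] [∀ a, Algebra A (Ra a)]
    [∀ a, HenselianRing (Ra a) (I.map (algebraMap A (Ra a)))]
    (t : ∀ a b : κ, a ≤ b → (Ra a →+* Ra b)) [DirectedSystem Ra (fun a b h => t a b h)]
    (ht : ∀ (a b : κ) (h : a ≤ b), (t a b h).comp (algebraMap A (Ra a)) = algebraMap A (Ra b))
    [Algebra A (DirectLimit Ra t)]
    (halg : ∀ (a : κ) (x : A), algebraMap A (DirectLimit Ra t) x =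
      DirectLimit.Ring.of Ra t a (algebraMap A (Ra a) x)) :
    (∀ χ : B →ₐ[A] DirectLimit Ra t, ∃ (a : κ) (φ : B →ₐ[A] Ra a),
        ∀ x : B, DirectLimit.Ring.of Ra t a (φ x) = χ x) ∧
    ∀ (a : κ) (φ ψ : B →ₐ[A] Ra a),
      (∀ x : B, DirectLimit.Ring.of Ra t a (φ x) = DirectLimit.Ring.of Ra t a (ψ x)) →
      ∃ (b : κ) (h : a ≤ b), ∀ x : B, t a b h (φ x) = t a b h (ψ x) := by
  classical
  -- the limit is henselian along `I L`
  have hK : ∀ (a b : κ) (h : a ≤ b),
      (I.map (algebraMap A (Ra a))).map (t a b h) ≤ I.map (algebraMap A (Ra b)) := by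
    intro a b h
    rw [Ideal.map_map, ht]
  have hL0 := Groth.Agent.Lib.Helper58.HenselPair.henselian_directLimit Ra t
    (fun a => I.map (algebraMap A (Ra a))) hK
  have hIL : (⨆ a, (I.map (algebraMap A (Ra a))).map (DirectLimit.Ring.of Ra t a)) =
      I.map (algebraMap A (DirectLimit Ra t)) := by
    apply le_antisymm
    · refine iSup_le fun a => ?_
      rw [Ideal.map_map]
      have : (DirectLimit.Ring.of Ra t a).comp (algebraMap A (Ra a)) =
          algebraMap A (DirectLimit Ra t) := RingHom.ext fun x => (halg a x).symm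
      rw [this]
    · obtain ⟨a⟩ := (inferInstance : Nonempty κ)
      have : algebraMap A (DirectLimit Ra t) =
          (DirectLimit.Ring.of Ra t a).comp (algebraMap A (Ra a)) := RingHom.ext fun x => halg a x
      rw [this, ← Ideal.map_map]
      exact le_iSup (fun a => (I.map (algebraMap A (Ra a))).map (DirectLimit.Ring.of Ra t a)) a
  have hL : HenselianRing (DirectLimit Ra t) (I.map (algebraMap A (DirectLimit Ra t))) := by
    rw [← hIL]; exact hL0
  -- maps out of `B` into henselian pairs over `(A, I)` are determined by their restriction to `R₀`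
  have hext : ∀ (C : Type u) [CommRing C] [Algebra A C],
      HenselianRing C (I.map (algebraMap A C)) → ∀ g₁ g₂ : B →ₐ[A] C,
      (∀ r : R₀, g₁ (algebraMap R₀ B r) = g₂ (algebraMap R₀ B r)) → g₁ = g₂ := by
    intro C _ _ hC g₁ g₂ h12
    have hle : (I.map (algebraMap A R₀)).map (g₁.toRingHom.comp (algebraMap R₀ B)) ≤
        I.map (algebraMap A C) := by
      rw [Ideal.map_map]
      have : (g₁.toRingHom.comp (algebraMap R₀ B)).comp (algebraMap A R₀) = algebraMap A C := by
        ext x
        simp [← IsScalarTower.algebraMap_apply]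
      rw [this]
    obtain ⟨g, -, hu⟩ := hB.2 C _ (g₁.toRingHom.comp (algebraMap R₀ B)) hC hle
    have e1 : g₁.toRingHom = g := hu _ rfl
    have e2 : g₂.toRingHom = g := hu _ (RingHom.ext fun r => (h12 r).symm)
    ext b
    exact congrArg (fun ρ : B →+* C => ρ b) (e1.trans e2.symm)
  have hexist : ∀ (C : Type u) [CommRing C] [Algebra A C],
      HenselianRing C (I.map (algebraMap A C)) → ∀ g₀ : R₀ →ₐ[A] C,
      ∃ g : B →ₐ[A] C, ∀ r : R₀, g (algebraMap R₀ B r) = g₀ r := by
    intro C _ _ hC g₀
    have hle : (I.map (algebraMap A R₀)).map g₀.toRingHom ≤ I.map (algebraMap A C) := by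
      rw [Ideal.map_map]
      have : g₀.toRingHom.comp (algebraMap A R₀) = algebraMap A C := by
        ext x
        simp
      rw [this]
    obtain ⟨g, hg, -⟩ := hB.2 C _ g₀.toRingHom hC hle
    have hg' : ∀ r, g (algebraMap R₀ B r) = g₀ r := fun r =>
      congrArg (fun ρ : R₀ →+* C => ρ r) hg
    refine ⟨{ g with
      commutes' := fun x => by
        change g (algebraMap A B x) = _
        rw [IsScalarTower.algebraMap_apply A R₀ B, hg', g₀.commutes] }, hg'⟩
  refine ⟨?_, ?_⟩
  · intro χ
    obtain ⟨a, φ₀, hφ₀⟩ := Groth.Agent.Lib.Helper58.DirLimFP.exists_factor_of_finitePresentation Ra t ht halg R₀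
      (χ.comp (IsScalarTower.toAlgHom A R₀ B))
    obtain ⟨φ, hφ⟩ := hexist (Ra a) inferInstance φ₀
    refine ⟨a, φ, ?_⟩
    have := hext (DirectLimit Ra t) hL ((Groth.Agent.Lib.Helper58.DirLimFP.ofAlg Ra t halg a).comp φ) χ (by
      intro r
      change DirectLimit.Ring.of Ra t a (φ (algebraMap R₀ B r)) = _
      rw [hφ, hφ₀]
      rfl)
    intro x
    exact DFunLike.congr_fun this x
  · intro a φ ψ h
    obtain ⟨b, hab, hb⟩ := Groth.Agent.Lib.Helper58.DirLimFP.exists_eq_of_finiteType Ra t ht R₀ a
      (φ.comp (IsScalarTower.toAlgHom A R₀ B)) (ψ.comp (IsScalarTower.toAlgHom A R₀ B))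
      (fun x => h _)
    refine ⟨b, hab, ?_⟩
    have := hext (Ra b) inferInstance ((Groth.Agent.Lib.Helper58.DirLimFP.tAlg Ra t ht a b hab).comp φ)
      ((Groth.Agent.Lib.Helper58.DirLimFP.tAlg Ra t ht a b hab).comp ψ) (by
        intro r
        exact DFunLike.congr_fun hb r)
    intro x
    exact DFunLike.congr_fun this x

end Groth.Agent.S17613
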