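import Groth.Statements.S1315
import Groth.Agent.Lib.Helper6.ThickAffine2
import Groth.Agent.Lib.Helper6.Thickening
import Groth.Agent.S1314

set_option autoImplicit false
universe u
open FlatMor

namespace Groth.Agent.S1315

open AlgebraicGeometry CategoryTheory Limits in
/-- Let Y ⟶ Y' be a thickening, let X be the base change to Y of a scheme X' over Y', and assume both X
⟶ Y and X' ⟶ Y' are locally of finite type. Then X ⟶ Y is a monomorphism if and only if X' ⟶ Y' is. -/
theorem result {X X' Y Y' : Scheme.{u}} (iX : X ⟶ X') (iY : Y ⟶ Y') (f : X ⟶ Y) (f' : X' ⟶ Y')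
    (hY : MoreMor.IsThickening iY) (hc : IsPullback iX f f' iY) [LocallyOfFiniteType f] [LocallyOfFiniteType f'] :
    Mono f ↔ Mono f' := by
  open Groth.Agent.Lib.Helper6 in
  constructor
  · intro hf
    have hX : MoreMor.IsThickening iX := Thick.baseChange hY hc.flip
    have h1 : FormallyUnramified f := inferInstance
    have h2 : FormallyUnramified f' := (Groth.Agent.S1314.result iX iY f f' hY hc).mp h1
    have h3 : UniversallyInjective f' :=
      (Thick.universallyInjective_iff iX iY f f' hX hY hc.w).mp inferInstance
    have h4 : Surjective (pullback.diagonal f') := (UniversallyInjective.iff_diagonal f').mp h3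
    have h5 : IsOpenImmersion (pullback.diagonal f') := inferInstance
    have : IsIso (pullback.diagonal f') :=
      (isIso_iff_isOpenImmersion_and_surjective _).mpr ⟨h5, h4⟩
    exact (pullback.isIso_diagonal_iff f').mp this
  · intro hf'
    exact (MorphismProperty.monomorphisms Scheme.{u}).of_isPullback hc
      (MorphismProperty.monomorphisms.infer_property f')

end Groth.Agent.S1315
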