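import Groth.Statements.S1322
import Groth.Agent.Lib.Helper6.ThickAffine

set_option autoImplicit false
universe u
open FlatMor

namespace Groth.Agent.S1322

open AlgebraicGeometry CategoryTheory Limits in
/-- Let S ⟶ S' be a finite order thickening, let X' ⟶ Y' be a morphism of schemes over S' with X' flat
over S', and let X ⟶ Y be its base change to S. Then X ⟶ Y is étale if and only if X' ⟶ Y' is. -/
theorem result {X X' Y Y' S S' : Scheme.{u}} (iX : X ⟶ X') (iY : Y ⟶ Y') (iS : S ⟶ S')
    (f : X ⟶ Y) (f' : X' ⟶ Y') (g : Y ⟶ S) (g' : Y' ⟶ S')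
    (hS : MoreMor.IsFiniteOrderThickening iS) (hcX : IsPullback iX (f ≫ g) (f' ≫ g') iS) (hcY : IsPullback iY g g' iS)
    (w : iX ≫ f' = f ≫ iY) [Flat (f' ≫ g')] :
    Etale f ↔ Etale f' := by
  open Groth.Agent.Lib.Helper6 in
  have hloc : RingHom.HoldsForLocalizationAway RingHom.Etale := by
    intro R S _ _ _ r _
    rw [RingHom.etale_iff_formallyUnramified_and_smooth]
    exact ⟨RingHom.FormallyUnramified.holdsForLocalizationAway S r,
      RingHom.Smooth.holdsForLocalizationAway S r⟩
  exact ⟨ThickAffine.transfer (P := @Etale)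
    (RingHom.Etale.stableUnderComposition.stableUnderCompositionWithLocalizationAway hloc).left
    (fun φ ψ πR πB πC ψ₀ => Deform.wrapper_etale φ ψ πR πB πC ψ₀)
    iX iY iS f f' g g' hS hcX hcY w, ThickAffine.descend hcX hcY w⟩

end Groth.Agent.S1322
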