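import Groth.Statements.S1318
import Groth.Agent.S1319

set_option autoImplicit false
universe u
open FlatMor

namespace Groth.Agent.S1318

open AlgebraicGeometry CategoryTheory Limits in
/-- Let S ⟶ S' be a finite order thickening, let X' ⟶ Y' be a morphism of schemes over S' with X' flat
over S', and let X ⟶ Y be its base change to S. Then X ⟶ Y is an isomorphism if and only if X' ⟶ Y'
is. -/
theorem result {X X' Y Y' S S' : Scheme.{u}} (iX : X ⟶ X') (iY : Y ⟶ Y') (iS : S ⟶ S')
    (f : X ⟶ Y) (f' : X' ⟶ Y') (g : Y ⟶ S) (g' : Y' ⟶ S')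
    (hS : MoreMor.IsFiniteOrderThickening iS) (hcX : IsPullback iX (f ≫ g) (f' ≫ g') iS) (hcY : IsPullback iY g g' iS)
    (w : iX ≫ f' = f ≫ iY) [Flat (f' ≫ g')] :
    IsIso f ↔ IsIso f' := by
  open Groth.Agent.Lib.Helper6 in
  constructor
  · intro hf
    have hY : MoreMor.IsThickening iY := Thick.baseChange hS.1 hcY.flip
    have hoi : IsOpenImmersion f' :=
      (Groth.Agent.S1319.result iX iY iS f f' g g' hS hcX hcY w).mp inferInstance
    have hsurj : Surjective f' := by
      constructor
      intro y'
      obtain ⟨y, rfl⟩ := hY.2.surj y'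
      obtain ⟨x, rfl⟩ := (inferInstance : Surjective f).surj y
      refine ⟨iX x, ?_⟩
      rw [← Scheme.Hom.comp_apply, ← Scheme.Hom.comp_apply, w]
    exact (isIso_iff_isOpenImmersion_and_surjective _).mpr ⟨hoi, hsurj⟩
  · intro hf'
    exact (MorphismProperty.isomorphisms Scheme.{u}).of_isPullback
      (ThickAffine.isPullback_left hcX hcY w) (MorphismProperty.isomorphisms.infer_property f')

end Groth.Agent.S1318
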