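import Groth.Statements.S15608
import Groth.Agent.Lib.Helper19.Grp.RationalClosure

set_option autoImplicit false
universe u
open CategoryTheory MonoidalCategory CartesianMonoidalCategory MonObj GrpObj AlgebraicGeometry
open AlgGrp

namespace Groth.Agent.S15608

/-- Let k be a field, G a smooth k-group scheme of finite type and Σ a subgroup of the abstract group
G(k) of k-rational points. Then the Zariski closure of Σ in G, with its reduced structure, is a
smooth closed k-subgroup: there are a smooth k-group scheme H and a homomorphism H ⟶ G which is a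
closed immersion whose image is the closure of the set of points of G underlying the elements of Σ.
(The published statement also asserts that forming this closure commutes with extension of the
ground field; that clause is not stated here, its affine form being stated separately.) -/
theorem result (k : Type u) [Field k]
    (G : Over (Spec (CommRingCat.of k))) [GrpObj G] [Smooth G.hom] [QuasiCompact G.hom]
    (S : Subgroup (𝟙_ (Over (Spec (CommRingCat.of k))) ⟶ G)) :
    ∃ (H : Over (Spec (CommRingCat.of k))) (_ : GrpObj H) (i : H ⟶ G), IsMonHom i ∧ IsClosedImmersion i.left ∧ Smooth H.hom ∧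
      Set.range i.left.base =
        closure ((fun s : (𝟙_ (Over (Spec (CommRingCat.of k))) ⟶ G) => s.left.base (IsLocalRing.closedPoint k)) '' (S : Set _)) := by
  classical
  haveI : LocallyOfFiniteType G.hom := inferInstance
  let U := 𝟙_ (Over (Spec (CommRingCat.of k)))
  let pt : ↥U.left := (IsLocalRing.closedPoint k : PrimeSpectrum k)
  have hpt : ∀ p : ↥U.left, p = pt := fun p => Subsingleton.elim (α := PrimeSpectrum k) _ _
  let Y : Set G.left := (fun s : (U ⟶ G) => s.left.base pt) '' (S : Set _)
  have hY : Groth.Agent.Lib.Helper19.IsSubgroupSet G Y := by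
    refine ⟨?_, ?_, ?_⟩
    · intro p
      refine ⟨1, S.one_mem, ?_⟩
      rw [hpt p]
      show (1 : U ⟶ G).left pt = η[G].left pt
      rw [Hom.one_def]
      have : toUnit U = 𝟙 U := toUnit_unique _ _
      rw [this, Category.id_comp]
    · rintro _ ⟨s, hs, rfl⟩
      refine ⟨s⁻¹, S.inv_mem hs, ?_⟩
      show (s⁻¹).left pt = ι[G].left (s.left pt)
      rw [Hom.inv_def, Over.comp_left, Scheme.Hom.comp_apply]
    · rintro z ⟨s₁, hs₁, h1⟩ ⟨s₂, hs₂, h2⟩
      replace h1 : s₁.left pt = (fst G G).left z := h1
      replace h2 : s₂.left pt = (snd G G).left z := h2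
      refine ⟨s₁ * s₂, S.mul_mem hs₁ hs₂, ?_⟩
      show (s₁ * s₂).left pt = μ[G].left z
      have sq1 := (Groth.Agent.Lib.Helper19.isPullback_whiskerLeft_snd G s₂).map (Over.forget _)
      simp only [Over.forget_obj, Over.forget_map] at sq1
      obtain ⟨z', hz'1, -⟩ := Groth.Agent.Lib.Helper19.exists_preimage_of_isPullback sq1 z pt h2.symm
      have sq2 := (Groth.Agent.Lib.Helper19.isPullback_whiskerRight_fst U s₁).map (Over.forget _)
      simp only [Over.forget_obj, Over.forget_map] at sq2
      have hfz' : (fst G U).left z' = s₁.left pt := by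
        have e := congrArg (fun φ => φ.left z') (whiskerLeft_fst G s₂)
        simp only [Over.comp_left, Scheme.Hom.comp_apply] at e
        rw [← e, hz'1, h1]
      obtain ⟨z'', hz''1, -⟩ := Groth.Agent.Lib.Helper19.exists_preimage_of_isPullback sq2 z' pt hfz'
      have e0 : (s₁ ▷ U) ≫ (G ◁ s₂) ≫ μ[G] = toUnit (U ⊗ U) ≫ (s₁ * s₂) := by
        rw [Hom.mul_def, ← Category.assoc, ← Category.assoc, ← MonoidalCategory.tensorHom_def]
        congr 1
        apply CartesianMonoidalCategory.hom_ext
        · rw [tensorHom_fst, Category.assoc, lift_fst,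
            show fst U U = toUnit (U ⊗ U) from toUnit_unique _ _]
        · rw [tensorHom_snd, Category.assoc, lift_snd,
            show snd U U = toUnit (U ⊗ U) from toUnit_unique _ _]
      have e := congrArg (fun φ => φ.left z'') e0
      simp only [Over.comp_left, Scheme.Hom.comp_apply] at e
      rw [hz''1, hz'1] at e
      rw [e, hpt ((toUnit (U ⊗ U)).left z'')]
  have hrat : ∀ y ∈ Y, ∃ s : U ⟶ G, y ∈ Set.range s.left := by
    rintro _ ⟨s, -, rfl⟩
    exact ⟨s, pt, rfl⟩
  exact Groth.Agent.Lib.Helper19.exists_smooth_closed_subgroup_of_rational_subgroupSet G Y hY hrat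

end Groth.Agent.S15608
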