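import Groth.Statements.S5357
import Groth.Agent.Lib.Helper78.ClosedCond
import Groth.Agent.S5331

set_option autoImplicit false
universe u
open CategoryTheory CategoryTheory.Limits MonoidalCategory CartesianMonoidalCategory MonObj GrpObj AlgebraicGeometry
open SGA3

namespace Groth.Agent.S5357

set_option backward.isDefEq.respectTransparency.types false in

/-- Let G be a group scheme over a field k, X a k-scheme and u, v : X → G two morphisms of k-schemes.
Then the transporter of u into v, the subfunctor of G whose points with values in S' are the g such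
that g u(x) g⁻¹ = v(x) for every S'' → S' and every point x of X with values in S'', is represented
by a closed subscheme of G. (For u = v this says that the centralizer of u is represented by a
closed subscheme of G; that it is a subgroup scheme is not stated here.) -/
theorem result (k : Type u) [Field k] (G X : Over (Spec (CommRingCat.of k))) [GrpObj G]
    (u v : X ⟶ G) :
    ∃ (T : Over (Spec (CommRingCat.of k))) (t : T ⟶ G), IsClosedImmersion t.left ∧
      ∀ (S' : Over (Spec (CommRingCat.of k))) (g : S' ⟶ G), (∃ z : S' ⟶ T, z ≫ t = g) ↔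
        ∀ (S'' : Over (Spec (CommRingCat.of k))) (s : S'' ⟶ S') (x : S'' ⟶ X), (s ≫ g) * (x ≫ u) * (s ≫ g)⁻¹ = x ≫ v := by
  haveI : IsSeparated G.hom := Groth.Agent.S5331.result _ G
  let a₁ : X ⊗ G ⟶ G := snd X G * (fst X G ≫ u) * (snd X G)⁻¹
  let a₂ : X ⊗ G ⟶ G := fst X G ≫ v
  obtain ⟨Z, j, hj, huniv⟩ := Groth.Agent.Lib.Helper78.ClosedCond.exists_closed_representing k G X
    (equalizer a₁ a₂) (equalizer.ι a₁ a₂)
  refine ⟨Z, j, hj, fun S' g => ?_⟩
  rw [huniv S' g]
  have e1 : (X ◁ g) ≫ a₁ = (snd X S' ≫ g) * (fst X S' ≫ u) * (snd X S' ≫ g)⁻¹ := by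
    show (X ◁ g) ≫ (snd X G * (fst X G ≫ u) * (snd X G)⁻¹) = _
    rw [MonObj.comp_mul, MonObj.comp_mul, GrpObj.comp_inv, whiskerLeft_snd, whiskerLeft_fst_assoc]
  have e2 : (X ◁ g) ≫ a₂ = fst X S' ≫ v := by
    show (X ◁ g) ≫ fst X G ≫ v = _
    rw [whiskerLeft_fst_assoc]
  constructor
  · rintro ⟨e, he⟩ S'' s x
    have hc : (snd X S' ≫ g) * (fst X S' ≫ u) * (snd X S' ≫ g)⁻¹ = fst X S' ≫ v := by
      rw [← e1, ← e2, ← he, Category.assoc, equalizer.condition, Category.assoc]
    have := congr_arg (fun m => lift x s ≫ m) hc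
    simp only [MonObj.comp_mul, GrpObj.comp_inv, lift_fst_assoc, lift_snd_assoc] at this
    exact this
  · intro hc
    refine ⟨equalizer.lift (X ◁ g) ?_, equalizer.lift_ι _ _⟩
    rw [e1, e2]
    exact hc (X ⊗ S') (snd X S') (fst X S')

end Groth.Agent.S5357
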