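import Groth.Statements.S5038
-- import your own Groth.Agent.* helpers here
import Groth.Agent.Lib.Helper58.SmoothLift
import Groth.Agent.Lib.Helper58.FEtHens

set_option autoImplicit false
open CategoryTheory AlgebraicGeometry
universe u
open Hensel

namespace Groth.Agent.S5038

open Groth.Agent.Lib.Helper58.SmoothLift Groth.Agent.Lib.Helper58.FEtHens

/-- Affine version: `X ≅ Spec R` with `R` smooth. -/
theorem affine_case (A : Type u) [CommRing A] [HenselianLocalRing A]
    (R : Type u) [CommRing R] [Algebra A R] [Algebra.Smooth A R]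
    (v₀ : Spec (CommRingCat.of (IsLocalRing.ResidueField A)) ⟶ Spec (CommRingCat.of R))
    (h₀ : v₀ ≫ Spec.map (CommRingCat.ofHom (algebraMap A R)) =
      Spec.map (CommRingCat.ofHom (IsLocalRing.residue A))) :
    ∃ v : Spec (CommRingCat.of A) ⟶ Spec (CommRingCat.of R),
      v ≫ Spec.map (CommRingCat.ofHom (algebraMap A R)) = 𝟙 _ ∧
      Spec.map (CommRingCat.ofHom (IsLocalRing.residue A)) ≫ v = v₀ := by
  obtain ⟨σ, hσ⟩ := exists_algHom_of_over (A := A) (B := IsLocalRing.ResidueField A) (C := R) v₀ h₀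
  obtain ⟨τ, hτ⟩ := exists_lift_of_smooth σ
  refine ⟨Spec.map (CommRingCat.ofHom τ.toRingHom), ?_, ?_⟩
  · rw [← Spec.map_comp, ← Spec.map_id]
    congr 1
    ext a
    exact τ.commutes a
  · rw [hσ, ← Spec.map_comp]
    congr 1
    ext r
    exact hτ r

/-- Let A be a henselian local ring with residue field k, S = Spec A, and f : X ⟶ S a smooth morphism.
Then the map from sections of f to k-points of the closed fibre is surjective: every u₀ : Spec k ⟶ X
lying over the closed point extends to a section u of f. -/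
theorem result (A : Type u) [CommRing A] [HenselianLocalRing A]
    {X : Scheme.{u}} (f : X ⟶ Spec (CommRingCat.of A)) [Smooth f]
    (u₀ : Spec (CommRingCat.of (IsLocalRing.ResidueField A)) ⟶ X)
    (h₀ : u₀ ≫ f = Spec.map (CommRingCat.ofHom (IsLocalRing.residue A))) :
    ∃ u : Spec (CommRingCat.of A) ⟶ X, u ≫ f = 𝟙 _ ∧
      Spec.map (CommRingCat.ofHom (IsLocalRing.residue A)) ≫ u = u₀ := by
  -- the image point and an affine neighbourhood
  let pt : Spec (CommRingCat.of (IsLocalRing.ResidueField A)) :=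
    IsLocalRing.closedPoint (IsLocalRing.ResidueField A)
  obtain ⟨V, hV', hxV⟩ : ∃ V : X.Opens, IsAffineOpen V ∧ u₀ pt ∈ V := by
    obtain ⟨_, ⟨V, hV', rfl⟩, hxV, -⟩ := X.isBasis_affineOpens.exists_subset_of_mem_open
      (Set.mem_univ (u₀ pt)) isOpen_univ
    exact ⟨V, hV', hxV⟩
  have hrange : Set.range u₀ ⊆ (V.ι).opensRange := by
    rintro _ ⟨y, rfl⟩
    have : y = pt := Subsingleton.elim (α := PrimeSpectrum (IsLocalRing.ResidueField A)) _ _
    rw [this, Scheme.Opens.opensRange_ι]
    exact hxV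
  let w₀ : Spec (CommRingCat.of (IsLocalRing.ResidueField A)) ⟶ V.toScheme :=
    IsOpenImmersion.lift V.ι u₀ hrange
  have hw₀ : w₀ ≫ V.ι = u₀ := IsOpenImmersion.lift_fac _ _ _
  have : IsAffine V.toScheme := hV'
  obtain ⟨R, _, _, e, he⟩ := exists_iso_Spec_of_isAffine (V.ι ≫ f)
  have he' : Spec.map (CommRingCat.ofHom (algebraMap A R)) = e.inv ≫ V.ι ≫ f := by
    rw [he, Iso.inv_hom_id_assoc]
  have h1 : Smooth (Spec.map (CommRingCat.ofHom (algebraMap A R))) := by
    rw [he']; infer_instance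
  have h1' : (algebraMap A R).Smooth := (HasRingHomProperty.Spec_iff (P := @Smooth)).mp h1
  have hsm : Algebra.Smooth A R := by
    rwa [RingHom.smooth_algebraMap] at h1'
  obtain ⟨v, hv1, hv2⟩ := affine_case A R (w₀ ≫ e.hom) (by
    rw [Category.assoc, ← he, ← Category.assoc, hw₀, h₀])
  refine ⟨v ≫ e.inv ≫ V.ι, ?_, ?_⟩
  · rw [Category.assoc, Category.assoc, ← he', hv1]
  · rw [← Category.assoc, hv2, Category.assoc, Iso.hom_inv_id_assoc, hw₀]

end Groth.Agent.S5038
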