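import Groth.Statements.S7194
import Groth.Agent.Lib.Helper6.MorSGlue
import Groth.Agent.Lib.Helper6.FreeOpens
import Groth.Agent.Lib.Helper6.WeilRep
import Groth.Agent.Lib.Helper81.MorBase

set_option autoImplicit false
universe u
open CategoryTheory AlgebraicGeometry
open FlatMor

namespace Groth.Agent.S7194

/-- For a finite locally free morphism Z → S and an affine morphism X → S, the functor on S-schemes
sending T to the set of S-morphisms T ×_S Z → X is represented by an S-scheme W whose structure
morphism W → S is affine. -/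
theorem result {Z X S : Scheme.{u}} (g : Z ⟶ S) (f : X ⟶ S) (hg : Mor2.IsFinLocFree g) [IsAffineHom f] :
    ∃ W : Over S, IsAffineHom W.hom ∧ Nonempty ((Flatn.morS g f).RepresentableBy W) := by
  open Groth.Agent.Lib.Helper6.MorSGlue Groth.Agent.Lib.Helper6.WeilRep
    Groth.Agent.Lib.Helper81.MorBase CategoryTheory.Limits in
  obtain ⟨h1, h2, h3⟩ := hg
  apply exists_rep_of_basis_of_rep (Flatn.morS g f) (morS_isSheaf g f) @IsAffineHom
    (freeOpens g) (isBasis_freeOpens g)
  rintro W ⟨hW, n, ⟨b⟩⟩
  haveI : IsAffine (W : Scheme.{u}) := hW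
  haveI : IsAffine (pullback g W.ι) := isAffine_of_isAffineHom (pullback.snd g W.ι)
  haveI : IsAffine (pullback f W.ι) := isAffine_of_isAffineHom (pullback.snd f W.ι)
  refine ⟨Over.mk (wS (pullback.snd g W.ι) (pullback.snd f W.ι) b), ?_,
    ⟨(representableBy _ _ b).ofIso (natIso g f W.ι)⟩⟩
  change IsAffineHom (wS (pullback.snd g W.ι) (pullback.snd f W.ι) b)
  haveI : IsAffine (Spec (WB (pullback.snd g W.ι) (pullback.snd f W.ι) b)) := inferInstance
  infer_instance

end Groth.Agent.S7194
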