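import Groth.Statements.S5356
import Mathlib
import Groth.Agent.Lib.Helper54.ArtinFlat
import Groth.Agent.Lib.Helper51.PointFlatBC

set_option autoImplicit false
universe u
open CategoryTheory CategoryTheory.Limits MonoidalCategory CartesianMonoidalCategory MonObj GrpObj AlgebraicGeometry
open SGA3

namespace Groth.Agent.S5356

open Groth.Agent.Lib.Helper54.ArtinFlat

/-- Part (2): over an Artinian scheme, flat morphisms are essentially free. -/
theorem essFree_of_flat_of_artinian {X S : Scheme.{u}} [IsLocallyArtinian S] (f : X ⟶ S) [Flat f] :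
    SGA3x.IsEssentiallyFree f := by
  intro s
  let U : S.Opens := ⟨{s}, isOpen_discrete _⟩
  have hsU : s ∈ U := Set.mem_singleton s
  have hU : IsAffineOpen U := by
    obtain ⟨W, hW, hsW, hWU⟩ := exists_isAffineOpen_mem_and_subset (x := s) (U := U) hsU
    have : W = U := by
      refine le_antisymm (α := S.Opens) hWU ?_
      intro t ht
      have : t = s := ht
      rw [this]; exact hsW
    rwa [← this]
  refine ⟨U, hsU, hU, (U : Scheme.{u}), hU, 𝟙 _, inferInstance, inferInstance, ?_⟩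
  intro x
  obtain ⟨V, hV, hxV, -⟩ := exists_isAffineOpen_mem_and_subset (x := x)
    (U := (⊤ : (pullback f (𝟙 (U : Scheme.{u}) ≫ U.ι)).Opens)) trivial
  refine ⟨V, hxV, hV, ?_⟩
  haveI : IsAffine (U : Scheme.{u}) := hU
  haveI : IsAffine (V : Scheme.{u}) := hV
  letI := (V.ι ≫ pullback.snd f (𝟙 (U : Scheme.{u}) ≫ U.ι)).appTop.hom.toAlgebra
  have hflat : Module.Flat Γ((U : Scheme.{u}), ⊤) Γ((V : Scheme.{u}), ⊤) :=
    Scheme.Hom.flat_appTop (V.ι ≫ pullback.snd f (𝟙 (U : Scheme.{u}) ≫ U.ι))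
  haveI : IsArtinianRing Γ((U : Scheme.{u}), ⊤) := inferInstance
  haveI : Subsingleton (U : Scheme.{u}) := inferInstanceAs (Subsingleton ({s} : Set S))
  haveI : Nonempty (U : Scheme.{u}) := ⟨⟨s, hsU⟩⟩
  haveI : Subsingleton (PrimeSpectrum Γ((U : Scheme.{u}), ⊤)) :=
    (Scheme.isoSpec (U : Scheme.{u})).inv.homeomorph.injective.subsingleton
  haveI : Nontrivial Γ((U : Scheme.{u}), ⊤) :=
    @Scheme.component_nontrivial (U : Scheme.{u}) ⊤ ⟨⟨⟨s, hsU⟩, trivial⟩⟩
  haveI := free_of_flat_of_isArtinianRing_of_subsingleton Γ((U : Scheme.{u}), ⊤)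
    Γ((V : Scheme.{u}), ⊤)
  exact Module.Projective.of_free


/-- A morphism to an affine scheme whose source is covered by affine opens with flat
(e.g. projective) section rings is flat. -/
theorem flat_of_cover {P S' : Scheme.{u}} [IsAffine S'] (q : P ⟶ S')
    (H : ∀ x : P, ∃ V : P.Opens, x ∈ V ∧ IsAffineOpen V ∧
      (letI := (V.ι ≫ q).appTop.hom.toAlgebra
       Module.Projective Γ(S', ⊤) Γ(↑V, ⊤))) : Flat q := by
  choose V hxV hV hproj using H
  refine IsZariskiLocalAtSource.of_iSup_eq_top (P := @Flat) V ?_ fun x => ?_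
  · exact top_le_iff.mp fun x _ => TopologicalSpace.Opens.mem_iSup.mpr ⟨x, hxV x⟩
  · haveI : IsAffine ((V x : P.Opens) : Scheme.{u}) := hV x
    rw [HasRingHomProperty.iff_of_isAffine (P := @Flat)]
    letI := ((V x).ι ≫ q).appTop.hom.toAlgebra
    haveI := hproj x
    exact (inferInstance : Module.Flat Γ(S', ⊤) Γ(((V x : P.Opens) : Scheme.{u}), ⊤))

/-- Part (1). -/
theorem flat_of_essFree {X S : Scheme.{u}} (f : X ⟶ S) (hf : SGA3x.IsEssentiallyFree f) :
    Flat f := by
  rw [Flat.iff_flat_stalkMap]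
  intro x
  obtain ⟨U, hsU, hU, S', hS', g, hg, hgs, H⟩ := hf (f x)
  haveI := hS'
  haveI := hg
  haveI : Flat (pullback.snd f (g ≫ U.ι)) := flat_of_cover _ H
  obtain ⟨s', hs'⟩ := hgs.surj ⟨f x, hsU⟩
  have hfx : f x = (g ≫ U.ι) s' := by
    rw [Scheme.Hom.comp_apply, hs']; rfl
  obtain ⟨x', hx'1, hx'2⟩ := Scheme.Pullback.exists_preimage_pullback x s' hfx
  have := Groth.Agent.Lib.Helper51.flat_stalkMap_of_isPullback_descent
    (IsPullback.of_hasPullback f (g ≫ U.ι)) x'
    (Flat.stalkMap (g ≫ U.ι) _) (Flat.stalkMap (pullback.snd f (g ≫ U.ι)) x')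
  rw [hx'1] at this
  exact this


open TensorProduct in
/-- Projectivity is stable under cobase change of commutative rings (categorical form). -/
theorem proj_of_isPushout {R R' S S' : CommRingCat.{u}} (f : R ⟶ R') (g : R ⟶ S)
    (f' : R' ⟶ S') (g' : S ⟶ S') (h : IsPushout f g f' g')
    (hp : letI := g.hom.toAlgebra; Module.Projective R S) :
    letI := f'.hom.toAlgebra; Module.Projective R' S' := by
  letI a1 : Algebra R S := g.hom.toAlgebra
  letI a2 : Algebra R R' := f.hom.toAlgebra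
  letI a3 : Algebra R' S' := f'.hom.toAlgebra
  letI a4 : Algebra S S' := g'.hom.toAlgebra
  letI a5 : Algebra R S' := (f ≫ f').hom.toAlgebra
  haveI t1 : IsScalarTower R R' S' := IsScalarTower.of_algebraMap_eq' rfl
  haveI t2 : IsScalarTower R S S' := IsScalarTower.of_algebraMap_eq' (by
    change (f ≫ f').hom = (g ≫ g').hom
    rw [h.w])
  haveI hp' : Module.Projective R S := hp
  have hpo : Algebra.IsPushout R R' S S' := CommRingCat.isPushout_iff_isPushout.mp (by exact h)
  exact Module.Projective.of_equiv (hpo.equiv (R := R) (S := R') (R' := S) (S' := S')).toLinearEquiv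



theorem appLE_top_top {X Y : Scheme.{u}} (f : X ⟶ Y) (h : (⊤ : X.Opens) ≤ f ⁻¹ᵁ ⊤) :
    f.appLE ⊤ ⊤ h = f.appTop := by
  rw [Scheme.Hom.appTop, Scheme.Hom.app_eq_appLE]
  rfl

/-- Key step: in a cartesian square of schemes with affine bases, the preimage of an affine open with
projective section ring is an affine open with projective section ring. -/
theorem proj_preimage {P P₁ S' T' : Scheme.{u}} [IsAffine S'] [IsAffine T']
    {φ : P₁ ⟶ P} {q₁ : P₁ ⟶ T'} {q : P ⟶ S'} {a : T' ⟶ S'} (sq : IsPullback φ q₁ q a)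
    (V : P.Opens) (hV : IsAffineOpen V)
    (hproj : letI := (V.ι ≫ q).appTop.hom.toAlgebra
       Module.Projective Γ(S', ⊤) Γ(↑V, ⊤)) :
    IsAffineOpen (φ ⁻¹ᵁ V) ∧
      (letI := ((φ ⁻¹ᵁ V).ι ≫ q₁).appTop.hom.toAlgebra
       Module.Projective Γ(T', ⊤) Γ(↑(φ ⁻¹ᵁ V), ⊤)) := by
  haveI : IsAffine (V : Scheme.{u}) := hV
  have HH : IsPullback (φ ∣_ V) ((φ ⁻¹ᵁ V).ι ≫ q₁) (V.ι ≫ q) a :=
    (isPullback_morphismRestrict φ V).paste_vert sq
  haveI hV₁ : IsAffine ((φ ⁻¹ᵁ V : P₁.Opens) : Scheme.{u}) := .of_isIso HH.isoPullback.hom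
  refine ⟨hV₁, ?_⟩
  have hiso := isIso_pushoutSection_of_isAffineOpen HH (US := ⊤) (UT := ⊤) (UX := ⊤) (UY := ⊤)
    le_top le_top (by simp) (isAffineOpen_top _) (isAffineOpen_top _) (isAffineOpen_top _)
  have hpo := (isIso_pushoutSection_iff HH (US := ⊤) (UT := ⊤) (UX := ⊤) (UY := ⊤)
    le_top le_top (by simp)).mp hiso
  simp only [appLE_top_top] at hpo
  exact proj_of_isPushout _ _ _ _ hpo.flip hproj



/-- Part (4). -/
theorem essFree_baseChange {X S T : Scheme.{u}} (f : X ⟶ S) (g : T ⟶ S)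
    (hf : SGA3x.IsEssentiallyFree f) : SGA3x.IsEssentiallyFree (pullback.snd f g) := by
  intro t
  obtain ⟨U, hsU, hU, S', hS', h, hh, hhs, H⟩ := hf (g t)
  obtain ⟨U₁, hU₁, htU₁, hle⟩ :=
    exists_isAffineOpen_mem_and_subset (x := t) (U := g ⁻¹ᵁ U) hsU
  haveI : IsAffine (U : Scheme.{u}) := hU
  haveI : IsAffine (U₁ : Scheme.{u}) := hU₁
  haveI := hS'
  haveI := hh
  haveI := hhs
  have hl : g.resLE U U₁ hle ≫ U.ι = U₁.ι ≫ g := Scheme.Hom.resLE_comp_ι ..
  refine ⟨U₁, htU₁, hU₁, pullback h (g.resLE U U₁ hle), inferInstance,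
    pullback.snd h (g.resLE U U₁ hle), inferInstance, inferInstance, ?_⟩
  intro y
  have e : (pullback.snd h (g.resLE U U₁ hle) ≫ U₁.ι) ≫ g
      = pullback.fst h (g.resLE U U₁ hle) ≫ (h ≫ U.ι) := by
    rw [Category.assoc, ← hl, ← Category.assoc, ← pullback.condition, Category.assoc]
  have compat : (pullback.fst (pullback.snd f g) (pullback.snd h (g.resLE U U₁ hle) ≫ U₁.ι)
        ≫ pullback.fst f g) ≫ f
      = (pullback.snd (pullback.snd f g) (pullback.snd h (g.resLE U U₁ hle) ≫ U₁.ι)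
        ≫ pullback.fst h (g.resLE U U₁ hle)) ≫ (h ≫ U.ι) := by
    rw [Category.assoc, pullback.condition, ← Category.assoc, pullback.condition, Category.assoc,
      e, Category.assoc]
  have sq : IsPullback (pullback.lift _ _ compat)
      (pullback.snd (pullback.snd f g) (pullback.snd h (g.resLE U U₁ hle) ≫ U₁.ι))
      (pullback.snd f (h ≫ U.ι)) (pullback.fst h (g.resLE U U₁ hle)) := by
    have big := (IsPullback.of_hasPullback (pullback.snd f g)
      (pullback.snd h (g.resLE U U₁ hle) ≫ U₁.ι)).paste_horiz (IsPullback.of_hasPullback f g)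
    rw [e, ← pullback.lift_fst _ _ compat] at big
    exact IsPullback.of_right big (pullback.lift_snd _ _ compat)
      (IsPullback.of_hasPullback f (h ≫ U.ι))
  obtain ⟨V, hxV, hV, hproj⟩ := H (pullback.lift _ _ compat y)
  obtain ⟨h1, h2⟩ := proj_preimage sq V hV hproj
  exact ⟨_, hxV, h1, h2⟩


/-- b), c) (first assertion of c)): (a) an essentially free morphism f : X → S is flat, and conversely
if S is the spectrum of an artinian ring every flat S-scheme is essentially free over S; (b) every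
scheme over a field is essentially free over it; (c) if X is essentially free over S then X ×_S S'
is essentially free over S' for every S' → S. -/
theorem result :
    (∀ (X S : Scheme.{u}) (f : X ⟶ S), SGA3x.IsEssentiallyFree f → Flat f) ∧
    (∀ (A : Type u) [CommRing A] [IsArtinianRing A] (X : Scheme.{u}) (f : X ⟶ Spec (CommRingCat.of A)),
      Flat f → SGA3x.IsEssentiallyFree f) ∧
    (∀ (k : Type u) [Field k] (X : Scheme.{u}) (f : X ⟶ Spec (CommRingCat.of k)), SGA3x.IsEssentiallyFree f) ∧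
    (∀ (X S S' : Scheme.{u}) (f : X ⟶ S) (g : S' ⟶ S), SGA3x.IsEssentiallyFree f →
      SGA3x.IsEssentiallyFree (pullback.snd f g)) := by
  refine ⟨fun X S f hf => flat_of_essFree f hf, ?_, ?_,
    fun X S S' f g hf => essFree_baseChange f g hf⟩
  · intro A _ _ X f hf
    haveI := hf
    exact essFree_of_flat_of_artinian f
  · intro k _ X f
    exact essFree_of_flat_of_artinian f

end Groth.Agent.S5356
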