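import Groth.Statements.S2352
import Mathlib
import Groth.Agent.Lib.Helper60.Twist
-- import your own Groth.Agent.* helpers here

set_option autoImplicit false
universe u
open CategoryTheory CategoryTheory.Limits AlgebraicGeometry
open EGA2

namespace Groth.Agent.S2352

/-- Let A be a graded ring whose irrelevant ideal is generated by the elements of degree one. Then on
Proj A every twisting sheaf O(n), n ∈ ℤ, is invertible; O(m) ⊗ O(n) ≅ O(m + n) for all integers m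
and n; and O(n) ≅ O(1)^{⊗ n} for every natural number n. -/
theorem result {R A : Type u} [CommRing R] [CommRing A] [Algebra R A] (𝒜 : ℕ → Submodule R A) [GradedAlgebra 𝒜] (hgen : (HomogeneousIdeal.irrelevant 𝒜).toIdeal = Ideal.span (𝒜 1 : Set A)) :
    (∀ n : ℤ, PicF.IsInvertible (Twist.twist 𝒜 n)) ∧
      (∀ m n : ℤ, Nonempty (CohB1.tensorMod (Twist.twist 𝒜 m) (Twist.twist 𝒜 n) ≅ Twist.twist 𝒜 (m + n))) ∧
      ∀ n : ℕ, Nonempty (Twist.twist 𝒜 (n : ℤ) ≅ CohB1.tensorPow (Twist.twist 𝒜 1) n) := by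
  have hgens : ∀ (x : Proj 𝒜) (k : ℤ), ∃ U : (Proj 𝒜).Opens, x ∈ U ∧
      ∃ (i j : ℕ) (g : 𝒜 i) (h : 𝒜 j), (i : ℤ) = j + k ∧
        ∀ y ∈ U, g.1 ∉ y.asHomogeneousIdeal ∧ h.1 ∉ y.asHomogeneousIdeal := by
    intro x k
    obtain ⟨f, hf⟩ := Groth.Agent.Lib.Helper60.TwistLib.exists_notMem_of_gen 𝒜 hgen x
    obtain ⟨i, j, g, h, hij, hgh⟩ := Groth.Agent.Lib.Helper60.TwistLib.exists_gens_pow 𝒜 f k
    exact ⟨Proj.basicOpen 𝒜 f.1, hf, i, j, g, h, by simpa using hij,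
      fun y hy => hgh y ((Proj.mem_basicOpen 𝒜 f.1 y).mp hy)⟩
  have h2 : ∀ m n : ℤ, Nonempty (CohB1.tensorMod (Twist.twist 𝒜 m) (Twist.twist 𝒜 n) ≅
      Twist.twist 𝒜 (m + n)) := by
    intro m n
    refine Groth.Agent.Lib.Helper60.TwistLib.twist_tensor_iso 𝒜 m n ?_
    intro x
    obtain ⟨f, hf⟩ := Groth.Agent.Lib.Helper60.TwistLib.exists_notMem_of_gen 𝒜 hgen x
    obtain ⟨i₁, j₁, g₁, h₁, e₁, hgh₁⟩ := Groth.Agent.Lib.Helper60.TwistLib.exists_gens_pow 𝒜 f m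
    obtain ⟨i₂, j₂, g₂, h₂, e₂, hgh₂⟩ := Groth.Agent.Lib.Helper60.TwistLib.exists_gens_pow 𝒜 f n
    refine ⟨Proj.basicOpen 𝒜 f.1, hf, i₁, j₁, i₂, j₂, g₁, h₁, g₂, h₂, by simpa using e₁,
      by simpa using e₂, fun y hy => ?_⟩
    have hy' := (Proj.mem_basicOpen 𝒜 f.1 y).mp hy
    exact ⟨(hgh₁ y hy').1, (hgh₁ y hy').2, (hgh₂ y hy').1, (hgh₂ y hy').2⟩
  refine ⟨?_, h2, ?_⟩
  · intro n y
    obtain ⟨U, hyU, i, j, g, h, hij, hU⟩ := hgens y n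
    refine ⟨U, hyU, ?_⟩
    exact Groth.Agent.Lib.Helper60.TwistLib.twist_restrict_iso 𝒜 U.ι n g h hij
      (fun z => (hU z.1 z.2).1) (fun z => (hU z.1 z.2).2)
  · intro n
    induction n with
    | zero =>
      have h0 := Groth.Agent.Lib.Helper60.TwistLib.twist_restrict_iso 𝒜 (𝟙 (Proj 𝒜)) 0
        (⟨1, SetLike.GradedOne.one_mem⟩ : 𝒜 0) (⟨1, SetLike.GradedOne.one_mem⟩ : 𝒜 0) (by simp)
        (fun z => Groth.Agent.Lib.Helper60.TwistLib.one_notMem 𝒜 _)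
        (fun z => Groth.Agent.Lib.Helper60.TwistLib.one_notMem 𝒜 _)
      obtain ⟨e⟩ := h0
      exact ⟨(Scheme.Modules.restrictFunctorId.app (Twist.twist 𝒜 0)).symm ≪≫ e⟩
    | succ n ih =>
      obtain ⟨e⟩ := ih
      obtain ⟨e2⟩ := h2 (n : ℤ) 1
      rw [Nat.cast_succ]
      exact ⟨e2.symm ≪≫ Groth.Agent.Lib.Helper60.TensorLib.tensorModCongrLeft e (Twist.twist 𝒜 1)⟩

end Groth.Agent.S2352
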