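import Groth.Statements.S3581
import Mathlib.AlgebraicGeometry.ProjectiveSpectrum.Basic
import Mathlib.RingTheory.MvPolynomial.Ideal
import Mathlib.RingTheory.MvPolynomial.Homogeneous

set_option autoImplicit false
universe u
open CategoryTheory CategoryTheory.Limits AlgebraicGeometry
open EGA2

namespace Groth.Agent.S3581

lemma eq_C_mul_X_pow {R : Type u} [CommRing R] (a : MvPolynomial (Fin 1) R) (n : ℕ)
    (ha : a.IsHomogeneous n) :
    a = MvPolynomial.C (a.coeff (Finsupp.single 0 n)) * MvPolynomial.X 0 ^ n := by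
  ext d
  rw [MvPolynomial.C_mul_X_pow_eq_monomial, MvPolynomial.coeff_monomial]
  split_ifs with h
  · rw [h]
  · apply ha.coeff_eq_zero
    intro hd
    apply h
    refine Finsupp.ext fun i => ?_
    have hi : i = 0 := Subsingleton.elim _ _
    subst hi
    rw [Finsupp.single_eq_same, ← hd]
    simp only [Finsupp.degree_apply]
    rw [Finset.sum_subset (Finset.subset_univ d.support)
      (fun i _ hi => Finsupp.notMem_support_iff.1 hi)]
    exact (Fin.sum_univ_one _).symm

lemma irrelevant_le (R : Type u) [CommRing R] :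
    (HomogeneousIdeal.irrelevant (CohB1.polyGrading 0 R)).toIdeal ≤
      Ideal.span (Set.range fun _ : Unit => (MvPolynomial.X 0 : MvPolynomial (Fin 1) R)) := by
  intro z hz
  have hz' : z ∈ HomogeneousIdeal.irrelevant (CohB1.polyGrading 0 R) := hz
  rw [HomogeneousIdeal.mem_irrelevant_iff, GradedRing.proj_apply] at hz'
  have h0 : MvPolynomial.homogeneousComponent 0 z = 0 := by
    rw [← MvPolynomial.decomposition.decompose'_apply]
    exact hz'
  rw [MvPolynomial.homogeneousComponent_zero] at h0
  have hc : MvPolynomial.coeff 0 z = 0 := by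
    have := congrArg (MvPolynomial.coeff 0) h0
    simpa using this
  have hrange : (Set.range fun _ : Unit => (MvPolynomial.X 0 : MvPolynomial (Fin 1) R)) =
      MvPolynomial.X '' (Set.univ : Set (Fin 1)) := by
    ext y
    constructor
    · rintro ⟨_, rfl⟩
      exact ⟨0, trivial, rfl⟩
    · rintro ⟨i, _, rfl⟩
      exact ⟨(), by rw [Subsingleton.elim i 0]⟩
  rw [hrange, MvPolynomial.mem_ideal_span_X_image]
  intro m hm
  by_contra hcon
  push_neg at hcon
  have hm0 : m = 0 := by
    refine Finsupp.ext fun i => ?_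
    exact hcon i trivial
  rw [hm0, MvPolynomial.mem_support_iff] at hm
  exact hm hc

open HomogeneousLocalization in
set_option backward.isDefEq.respectTransparency.types false in
theorem isIso_toSpec_zero (R : Type u) [CommRing R] :
    IsIso (Proj.toSpecZero (CohB1.polyGrading 0 R) ≫
      Spec.map (CommRingCat.ofHom (algebraMap R (CohB1.polyGrading 0 R 0)))) := by
  have hdeg : (MvPolynomial.X 0 : MvPolynomial (Fin (0 + 1)) R) ∈ CohB1.polyGrading 0 R 1 :=
    MvPolynomial.isHomogeneous_X R 0
  let ev : MvPolynomial (Fin (0 + 1)) R →+* R := MvPolynomial.eval (fun _ => (1 : R))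
  have hev : IsUnit (ev (MvPolynomial.X 0)) := by simp [ev]
  let ρ : Away (CohB1.polyGrading 0 R) (MvPolynomial.X 0) →+* R :=
    (IsLocalization.Away.lift (S := Localization.Away (MvPolynomial.X 0 : MvPolynomial (Fin (0 + 1)) R))
      (MvPolynomial.X 0) hev).comp
      (algebraMap (Away (CohB1.polyGrading 0 R) (MvPolynomial.X 0))
        (Localization.Away (MvPolynomial.X 0 : MvPolynomial (Fin (0 + 1)) R)))
  let θ : R →+* Away (CohB1.polyGrading 0 R) (MvPolynomial.X 0) :=
    (fromZeroRingHom (CohB1.polyGrading 0 R) _).comp (algebraMap R (CohB1.polyGrading 0 R 0))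
  have hval : ∀ a : R, (θ a).val =
      algebraMap (MvPolynomial (Fin (0 + 1)) R) _ (MvPolynomial.C a) := by
    intro a
    show (fromZeroRingHom (CohB1.polyGrading 0 R)
        (Submonoid.powers (MvPolynomial.X 0 : MvPolynomial (Fin (0 + 1)) R))
        (algebraMap R (CohB1.polyGrading 0 R 0) a)).val = _
    simp [fromZeroRingHom]
    rfl
  have hρθ : ∀ a, ρ (θ a) = a := by
    intro a
    show IsLocalization.Away.lift (MvPolynomial.X 0) hev ((θ a).val) = a
    rw [hval, IsLocalization.Away.lift_eq]
    simp [ev]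
  have hθsurj : Function.Surjective θ := by
    intro z
    obtain ⟨n, a, ha, rfl⟩ := Away.mk_surjective (CohB1.polyGrading 0 R) hdeg z
    have ha' : a.IsHomogeneous n := by
      have : a ∈ MvPolynomial.homogeneousSubmodule (Fin (0 + 1)) R (n • 1) := ha
      simpa using this
    refine ⟨a.coeff (Finsupp.single 0 n), ?_⟩
    apply val_injective
    rw [hval, Away.val_mk, ← Localization.mk_one_eq_algebraMap, Localization.mk_eq_mk_iff,
      Localization.r_iff_exists]
    refine ⟨1, ?_⟩
    simp only [OneMemClass.coe_one, one_mul]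
    conv_rhs => rw [eq_C_mul_X_pow a n ha']
    ring
  have hθbij : Function.Bijective θ :=
    ⟨Function.LeftInverse.injective hρθ, hθsurj⟩
  have hθiso : IsIso (CommRingCat.ofHom θ) :=
    (ConcreteCategory.isIso_iff_bijective _).2 hθbij
  have hcomp : Proj.awayι (CohB1.polyGrading 0 R) (MvPolynomial.X 0) hdeg Nat.one_pos ≫
      (Proj.toSpecZero (CohB1.polyGrading 0 R) ≫
        Spec.map (CommRingCat.ofHom (algebraMap R (CohB1.polyGrading 0 R 0)))) =
      Spec.map (CommRingCat.ofHom θ) := by
    rw [Proj.awayι_toSpecZero_assoc, ← Spec.map_comp]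
    rfl
  have htop : Proj.basicOpen (CohB1.polyGrading 0 R) (MvPolynomial.X 0) = ⊤ := by
    have := Proj.iSup_basicOpen_eq_top (CohB1.polyGrading 0 R)
      (fun _ : Unit => (MvPolynomial.X 0 : MvPolynomial (Fin (0 + 1)) R)) (irrelevant_le R)
    rwa [iSup_const] at this
  have hι : IsIso (Proj.awayι (CohB1.polyGrading 0 R) (MvPolynomial.X 0) hdeg Nat.one_pos) := by
    apply isIso_of_isOpenImmersion_of_opensRange_eq_top
    rw [Proj.opensRange_awayι, htop]
  have h3 : IsIso (Proj.awayι (CohB1.polyGrading 0 R) (MvPolynomial.X 0) hdeg Nat.one_pos ≫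
      (Proj.toSpecZero (CohB1.polyGrading 0 R) ≫
        Spec.map (CommRingCat.ofHom (algebraMap R (CohB1.polyGrading 0 R 0))))) := by
    rw [hcomp]
    infer_instance
  exact IsIso.of_isIso_comp_left
    (Proj.awayι (CohB1.polyGrading 0 R) (MvPolynomial.X 0) hdeg Nat.one_pos) _

/-- Over an affine base Spec A, Proj of the graded polynomial algebra A[T] (T of degree one) is
identified with Spec A by its structure morphism: the structure morphism from projective 0-space
over A to Spec A is an isomorphism. -/
theorem result (A : Type u) [CommRing A] :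
    IsIso (CohB1.ProjSpace.toSpec 0 A) := by
  exact isIso_toSpec_zero A

end Groth.Agent.S3581
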