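import Groth.Statements.S10908
import Groth.Agent.Lib.Helper60.ProjNormalAlg
import Groth.Agent.Lib.Helper60.TildeQCoh
-- import your own Groth.Agent.* helpers here

set_option autoImplicit false
universe u
open ProjDeg

namespace Groth.Agent.S10908

open CategoryTheory AlgebraicGeometry TopologicalSpace Opposite
open Groth.Agent.Lib.Helper60.TildeSec Groth.Agent.Lib.Helper60.ProjNormal


variable {R A : Type u} [CommRing R] [CommRing A] [Algebra R A] (𝒜 : ℕ → Submodule R A) [GradedAlgebra 𝒜]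

/-- restrict a global section of `O(d)` to `D₊(f)` -/
noncomputable def resTo (d : ℤ) (t : Twist.sectN (𝒜 := 𝒜) d (op ⊤)) (U : Opens (ProjectiveSpectrum.top 𝒜)) :
    GrMod.sect 𝒜 𝒜 d (op U) :=
  (GrMod.tilde 𝒜 𝒜 d).presheaf.map (homOfLE (le_top : U ≤ ⊤)).op
    (show Γ(GrMod.tilde 𝒜 𝒜 d, (⊤ : (Proj 𝒜).Opens)) from t)

theorem resTo_val (d : ℤ) (t : Twist.sectN (𝒜 := 𝒜) d (op ⊤)) (U : Opens (ProjectiveSpectrum.top 𝒜))
    (y : U) :
    (((resTo 𝒜 d t U).1 y : GrMod.tildeAt 𝒜 𝒜 d y.1) : GrMod.LocMod 𝒜 (M := A) y.1) =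
      ((t.1 ⟨y.1, trivial⟩ : Twist.twistAt 𝒜 d y.1) : Twist.Loc 𝒜 y.1) := rfl

/-- a global section is, on `D₊(f)`, a fraction `m / f ^ K` -/
theorem exists_frac (d : ℕ) (t : Twist.sectN (𝒜 := 𝒜) (d : ℤ) (op ⊤)) (f : A) (hf : f ∈ 𝒜 1) :
    ∃ (K : ℕ) (m : A), m ∈ 𝒜 (K + d) ∧
      ∀ (y : ProjectiveSpectrum 𝒜) (hy : f ∉ y.asHomogeneousIdeal),
        ((t.1 ⟨y, trivial⟩ : Twist.twistAt 𝒜 d y) : Twist.Loc 𝒜 y) =
          Localization.mk m (⟨f ^ K, fun h => hy (y.isPrime.mem_of_pow_mem K h)⟩ :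
            y.asHomogeneousIdeal.toIdeal.primeCompl) := by
  obtain ⟨K, e, m, hm, he, hval⟩ := exists_eq_frac 𝒜 𝒜 (n := (d : ℤ)) one_pos hf
    (ProjectiveSpectrum.basicOpen 𝒜 f) (fun y => ProjectiveSpectrum.mem_basicOpen 𝒜 f y)
    (resTo 𝒜 d t _)
  have he' : e = K + d := by
    have : (e : ℤ) = K + d := by simpa using he
    exact_mod_cast this
  subst he'
  refine ⟨K, m, hm, fun y hy => ?_⟩
  have := hval ⟨y, (ProjectiveSpectrum.mem_basicOpen 𝒜 f y).2 hy⟩
  rw [resTo_val] at this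
  exact this

theorem exists_point [IsDomain A] {k : ℕ} (hk : 0 < k) {g : A} (hg : g ∈ 𝒜 k) (hg0 : g ≠ 0) :
    ∃ x : ProjectiveSpectrum 𝒜, g ∉ x.asHomogeneousIdeal := by
  by_contra hcon
  push Not at hcon
  have hrad := mem_radical_of_forall_proj 𝒜 (I := ⊥) (Ideal.IsHomogeneous.bot 𝒜) hk hg
    (fun x _ => hcon x)
  obtain ⟨N, hN⟩ := hrad
  exact hg0 (eq_zero_of_pow_eq_zero (Ideal.mem_bot.1 hN))

theorem result' [IsDomain A]
    [IsNoetherianRing A]
    (hgen : ∀ i : ℕ, 𝒜 1 * 𝒜 i = 𝒜 (i + 1)) (h1 : 𝒜 1 ≠ ⊥) (hint : IsIntegrallyClosed A) (d : ℕ) :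
    Function.Bijective (fun a : ↥(𝒜 d) => Twist.globalOf 𝒜 a) := by
  classical
  obtain ⟨f₀, hf₀, hf₀0⟩ : ∃ f ∈ 𝒜 1, f ≠ 0 := by
    by_contra hcon
    push Not at hcon
    exact h1 ((Submodule.eq_bot_iff _).2 hcon)
  constructor
  · intro a a' haa
    obtain ⟨x, hx⟩ := exists_point 𝒜 one_pos hf₀ hf₀0
    have h2 := congrArg (fun s : Twist.sectN (𝒜 := 𝒜) (d : ℤ) (op ⊤) =>
      ((s.1 ⟨x, trivial⟩).1 : Twist.Loc 𝒜 x)) haa
    simp only [Twist.globalOf] at h2
    rw [Localization.mk_eq_mk_iff, Localization.r_iff_exists] at h2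
    obtain ⟨c, hc⟩ := h2
    apply Subtype.ext
    have hc0 : (c : A) ≠ 0 := fun h0 => c.2 (h0 ▸ zero_mem _)
    simpa using mul_left_cancel₀ hc0 hc
  · intro t
    choose K m hm hval using fun f : 𝒜 1 => exists_frac 𝒜 d t f.1 f.2
    -- cross relation
    have hcross : ∀ f g : 𝒜 1, f.1 ≠ 0 → g.1 ≠ 0 → g.1 ^ K g * m f = f.1 ^ K f * m g := by
      intro f g hf0 hg0
      obtain ⟨y, hy⟩ := exists_point 𝒜 (k := 2) (by norm_num) (g := f.1 * g.1)
        (SetLike.GradedMul.mul_mem f.2 g.2) (mul_ne_zero hf0 hg0)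
      have hyf : f.1 ∉ y.asHomogeneousIdeal := fun h => hy (Ideal.mul_mem_right _ _ h)
      have hyg : g.1 ∉ y.asHomogeneousIdeal := fun h => hy (Ideal.mul_mem_left _ _ h)
      have e := (hval f y hyf).symm.trans (hval g y hyg)
      rw [Localization.mk_eq_mk_iff, Localization.r_iff_exists] at e
      obtain ⟨c, hc⟩ := e
      have hc0 : (c : A) ≠ 0 := fun h0 => c.2 (h0 ▸ zero_mem _)
      exact mul_left_cancel₀ hc0 hc
    let F := FractionRing A
    have hinj : Function.Injective (algebraMap A F) := IsFractionRing.injective A F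
    let F₀ : 𝒜 1 := ⟨f₀, hf₀⟩
    let τ : F := algebraMap A F (m F₀) / algebraMap A F (f₀ ^ K F₀)
    have hne : algebraMap A F (f₀ ^ K F₀) ≠ 0 := by
      rw [Ne, map_eq_zero_iff _ hinj]
      exact pow_ne_zero _ hf₀0
    have hτ : ∀ f : 𝒜 1, f.1 ≠ 0 → algebraMap A F (f.1 ^ K f) * τ = algebraMap A F (m f) := by
      intro f hf0
      have := hcross F₀ f hf₀0 hf0
      change f.1 ^ K f * m F₀ = f₀ ^ K F₀ * m f at this
      change _ * (_ / _) = _
      rw [mul_div_assoc', div_eq_iff hne, ← map_mul, ← map_mul, this, mul_comm]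
    obtain ⟨a, ha, haτ⟩ := exists_mem_eq 𝒜 hgen (K := F) d τ ⟨f₀, hf₀, hf₀0⟩
      (SetLike.pow_mem_graded (K F₀) hf₀) (pow_ne_zero _ hf₀0)
      (by simpa using hm F₀) (hτ F₀ hf₀0)
      (by
        intro f hf
        by_cases hf0 : f = 0
        · exact ⟨1, 0, by simp [hf0]⟩
        · exact ⟨K ⟨f, hf⟩, m ⟨f, hf⟩, hτ ⟨f, hf⟩ hf0⟩)
    refine ⟨⟨a, ha⟩, ?_⟩
    apply Subtype.ext
    funext y
    apply Subtype.ext
    -- find `f ∈ 𝒜 1` not vanishing at `y`
    obtain ⟨f, hf, hfy⟩ : ∃ f ∈ 𝒜 1, f ∉ y.1.asHomogeneousIdeal := by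
      by_contra hcon
      push Not at hcon
      obtain ⟨n, hn, g, hg, hgy⟩ := Groth.Agent.Lib.Helper33.GrModLib.exists_pos_not_mem 𝒜 y.1
      apply hgy
      have h3 : Ideal.span (𝒜 1 : Set A) ≤ y.1.asHomogeneousIdeal.toIdeal :=
        Ideal.span_le.2 (fun f hf => hcon f hf)
      exact h3 (Ideal.pow_le_self (Nat.pos_iff_ne_zero.1 hn) (le_span_pow 𝒜 hgen n g hg))
    have hf0 : f ≠ 0 := fun h0 => hfy (h0 ▸ zero_mem _)
    have e1 := hval ⟨f, hf⟩ y.1 hfy
    refine Eq.trans ?_ e1.symm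
    simp only [Twist.globalOf]
    rw [Localization.mk_eq_mk_iff, Localization.r_iff_exists]
    refine ⟨1, ?_⟩
    have h4 := hτ ⟨f, hf⟩ hf0
    rw [← haτ, ← map_mul] at h4
    have h5 := hinj h4
    simp only [OneMemClass.coe_one, one_mul]
    change f ^ K ⟨f, hf⟩ * a = m ⟨f, hf⟩
    exact h5


/-- Let S be a Noetherian graded integral domain, graded by the natural numbers as an algebra over a
ring R, generated by its degree-one part over S_0 (S_1 S_i = S_{i+1}) with S_1 ≠ 0, and integrally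
closed in its field of fractions (so that X = Proj S is projectively normal). Then for every d ≥ 0
the canonical map from S_d to the global sections of the twisting sheaf O_X(d), sending a to the
section a/1, is bijective. (The underlying lemma: every global section of O_X(d) is an element of
the homogeneous fraction ring integral over S.) (The published corollary takes the degree-zero part
to be a finitely generated algebra over a field; this row assumes only that the ring is Noetherian,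
which is all the argument uses.) -/
theorem result {R A : Type u} [CommRing R] [CommRing A] [IsDomain A]
    [IsNoetherianRing A] [Algebra R A] (𝒜 : ℕ → Submodule R A) [GradedAlgebra 𝒜]
    (hgen : ∀ i : ℕ, 𝒜 1 * 𝒜 i = 𝒜 (i + 1)) (h1 : 𝒜 1 ≠ ⊥) (hint : IsIntegrallyClosed A) (d : ℕ) :
    Function.Bijective (fun a : ↥(𝒜 d) => Twist.globalOf 𝒜 a) := by
  exact result' 𝒜 hgen h1 hint d

end Groth.Agent.S10908
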