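import Groth.Statements.S0843
import Mathlib
import Groth.Agent.Lib.Helper93.PnCoh4

set_option autoImplicit false
universe u
open Coherent

namespace Groth.Agent.S0843

open CategoryTheory AlgebraicGeometry TopologicalSpace Opposite MvPolynomial Limits
open Groth.Agent.Lib.Helper93.PnCoh

section
variable (n : ℕ) (R : Type u) [CommRing R] (d : ℕ)

/-- the sheaf in the statement -/
noncomputable abbrev M : (CohB1.ProjSpace n R).Modules := Twist.twistProjSpace n R (d : ℤ)

noncomputable def hT : IsTerminal (⊤ : Opens (CohB1.ProjSpace n R)) := isTerminalTop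

noncomputable def E : Coh.HH (CohB1.ProjSpace n R) (M n R d) 0 ≃+ (Coh.toAb (M n R d)).obj.obj (op ⊤) :=
  Sheaf.H.equiv₀ (Coh.toAb (M n R d)) (hT n R)

noncomputable def Φ' (a : ↥(MvPolynomial.homogeneousSubmodule (Fin (n + 1)) R d)) :
    (Coh.toAb (M n R d)).obj.obj (op ⊤) := Φ n R d a

lemma Φ'_add (a b : ↥(MvPolynomial.homogeneousSubmodule (Fin (n + 1)) R d)) :
    Φ' n R d (a + b) = Φ' n R d a + Φ' n R d b := Φ_add n R d a b

lemma Φ'_smul (r : R) (a : ↥(MvPolynomial.homogeneousSubmodule (Fin (n + 1)) R d)) :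
    Φ' n R d (r • a) =
      (Coh.smulAb (M n R d) (Coh.toGlobal (CohB1.ProjSpace n R ↘ Spec (CommRingCat.of R)) r)).hom.app
        (op ⊤) (Φ' n R d a) := by
  rw [Coh.smulAb_app]
  exact Φ_smul n R d r a

lemma Φ'_bij : Function.Bijective (Φ' n R d) := ⟨Φ_injective n R d, Φ_surjective n R d⟩

noncomputable def Ψ : ↥(MvPolynomial.homogeneousSubmodule (Fin (n + 1)) R d) →ₗ[R]
    Coh.HH (CohB1.ProjSpace n R) (M n R d) 0 where
  toFun a := (E n R d).symm (Φ' n R d a)
  map_add' a b := by
    rw [Φ'_add]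
    exact map_add (E n R d).symm _ _
  map_smul' r a := by
    rw [Φ'_smul]
    exact (Sheaf.H.equiv₀_symm_naturality (hT n R) (Coh.smulAb (M n R d)
      (Coh.toGlobal (CohB1.ProjSpace n R ↘ Spec (CommRingCat.of R)) r)) (Φ' n R d a)).symm

end

open CategoryTheory AlgebraicGeometry in
/-- The case q = 0 and d ≥ 0: for a ring R and n, d ≥ 0, the R-module H^0(P^n_R, O(d)) is isomorphic to
the module of homogeneous polynomials of degree d in T_0, …, T_n over R. (The existing degree-zero
row is the case d = 0.) -/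
theorem result (R : Type u) [CommRing R] (n d : ℕ) :
    Nonempty (Coh.HH (CohB1.ProjSpace n R) (Twist.twistProjSpace n R (d : ℤ)) 0 ≃ₗ[R]
      ↥(MvPolynomial.homogeneousSubmodule (Fin (n + 1)) R d)) := by
  have hbij : Function.Bijective (Ψ n R d) :=
    ⟨(E n R d).symm.injective.comp (Φ'_bij n R d).1, (E n R d).symm.surjective.comp (Φ'_bij n R d).2⟩
  exact ⟨(LinearEquiv.ofBijective (Ψ n R d) hbij).symm⟩

end Groth.Agent.S0843
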