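import Groth.Statements.S0845
import Mathlib
import Groth.Agent.Lib.Helper93.PnCoh7
import Groth.Agent.Lib.Helper93.LerayNat2

set_option autoImplicit false
universe u
open Coherent

namespace Groth.Agent.S0845

open CategoryTheory AlgebraicGeometry TopologicalSpace Opposite MvPolynomial Limits
open Groth.Agent.Lib.Helper93.PnCoh Groth.Agent.Lib.Helper93.LerayNat

section
variable (n : ℕ) (R : Type u) [CommRing R] (k : ℕ)

/-- the twist -/
abbrev dd' : ℤ := -((n : ℤ) + 1 + k)

/-- the sheaf in the statement -/
noncomputable abbrev M : (CohB1.ProjSpace n R).Modules := Twist.twistProjSpace n R (dd' n k)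

theorem exists_equiv :
    ∃ e : Coh.HH (CohB1.ProjSpace n R) (M n R k) n ≃+
      ↥(MvPolynomial.homogeneousSubmodule (Fin (n + 1)) R k),
      ∀ (r : R) (y : Coh.HH (CohB1.ProjSpace n R) (M n R k) n), e (r • y) = r • e y := by
  obtain ⟨e₁, he₁⟩ := exists_cech_equiv_smul (Proj (CohB1.polyGrading n R)) (U n R) (iSup_U n R)
    (isAffineOpen_biInf_U n R) (GrMod.tilde (CohB1.polyGrading n R) (CohB1.polyGrading n R) (dd' n k)) n
  obtain ⟨e₂, he₂⟩ := exists_cechH_top_equiv (n := n) (R := R) (d := dd' n k) k rfl
  refine ⟨e₁.symm.trans e₂, fun r y => ?_⟩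
  show e₂ (e₁.symm (r • y)) = r • e₂ (e₁.symm y)
  have h1 : e₁.symm (r • y) = (HomologicalComplex.homologyMap
      ((cechComplexFunctor (U n R)).map (smulP n R (dd' n k) r)) n).hom (e₁.symm y) := by
    apply e₁.injective
    rw [e₁.apply_symm_apply]
    have := he₁ (gl n R r) (e₁.symm y)
    rw [e₁.apply_symm_apply] at this
    exact this.symm
  rw [h1, he₂]

end


open CategoryTheory AlgebraicGeometry in
/-- Top cohomology of negative twists on projective space: for a ring R and natural numbers n, k, the
R-module H^n(P^n_R, O(-(n+1+k))) is R-linearly isomorphic to the module of homogeneous polynomials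
of degree k in n+1 variables over R. The published statement is a canonical identification of
H^n(P^n_R, O(d)), d < 0, with the degree-d part of (T_0⋯T_n)^(-1) R[1/T_0, …, 1/T_n], a free
R-module on the Laurent monomials with all exponents ≤ -1 and total degree d; only the existence of
an abstract R-linear isomorphism is asserted here. -/
theorem result (R : Type u) [CommRing R] (n k : ℕ) :
    Nonempty (Coh.HH (CohB1.ProjSpace n R) (Twist.twistProjSpace n R (-((n : ℤ) + 1 + k))) n ≃ₗ[R]
      ↥(MvPolynomial.homogeneousSubmodule (Fin (n + 1)) R k)) := by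
  obtain ⟨e, he⟩ := exists_equiv n R k
  exact ⟨{ e with map_smul' := he }⟩

end Groth.Agent.S0845
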