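import Groth.Statements.S4466
import Mathlib
import Groth.Agent.S0843
import Groth.Agent.S0845
import Groth.Agent.S0844

set_option autoImplicit false
universe u
open Coherent

namespace Groth.Agent.S4466

open MvPolynomial in
lemma finrank_homogeneousSubmodule (k : Type u) [Field k] (r d : ℕ) :
    Module.finrank k ↥(homogeneousSubmodule (Fin (r + 1)) k d) = (d + r).choose r := by
  classical
  have h1 : homogeneousSubmodule (Fin (r + 1)) k d =
      restrictSupport k {m : Fin (r + 1) →₀ ℕ | m.degree = d} :=
    homogeneousSubmodule_eq_finsupp_supported (Fin (r + 1)) k d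
  rw [(LinearEquiv.ofEq _ _ h1).finrank_eq,
    Module.finrank_eq_nat_card_basis (basisRestrictSupport k {m : Fin (r + 1) →₀ ℕ | m.degree = d})]
  have h2 : {m : Fin (r + 1) →₀ ℕ | m.degree = d} =
      ↑((Finset.univ : Finset (Fin (r + 1))).finsuppAntidiag d) := by
    ext m
    simp [Finsupp.degree_eq_sum]
  rw [h2, Nat.card_coe_set_eq, Set.ncard_coe_finset, Finset.card_finsuppAntidiag_nat_eq_choose,
    Finset.card_univ, Fintype.card_fin]
  have : r + 1 + d - 1 = d + r := by omega
  rw [this, Nat.choose_symm_add]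


open AlgebraicGeometry CategoryTheory in
/-- Let k be a field, r > 0 and n any integer. Then the Euler characteristic of the twisting sheaf O(n)
on projective r-space over k, namely the alternating sum of the dimensions of H^j(P^r_k, O(n)) for 0
≤ j ≤ r, equals the binomial coefficient C(n+r, r), understood as the binomial polynomial evaluated
at the integer n+r (so that it makes sense and is correct for negative n too). -/
theorem result (k : Type u) [Field k] (r : ℕ) (hr : 0 < r)
    (n : ℤ) :
    ((Finset.range (r + 1)).sum fun j => (-1 : ℤ) ^ j *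
        (Module.finrank k (Coh.HH (CohB1.ProjSpace r k) (Twist.twistProjSpace r k n) j) : ℤ)) =
      Ring.choose (n + r) r := by
  have hvan : ∀ j : ℕ, ¬ (j = 0 ∧ 0 ≤ n) → ¬ (j = r ∧ n ≤ -((r : ℤ) + 1)) →
      (-1 : ℤ) ^ j *
        (Module.finrank k (Coh.HH (CohB1.ProjSpace r k) (Twist.twistProjSpace r k n) j) : ℤ) = 0 := by
    intro j h₀ hn
    haveI := Groth.Agent.S0844.result k r n j h₀ hn
    rw [Module.finrank_zero_of_subsingleton, Nat.cast_zero, mul_zero]
  by_cases h1 : 0 ≤ n
  · obtain ⟨d, rfl⟩ := Int.eq_ofNat_of_zero_le h1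
    rw [Finset.sum_eq_single 0]
    · obtain ⟨e⟩ := Groth.Agent.S0843.result k r d
      rw [e.finrank_eq, finrank_homogeneousSubmodule, pow_zero, one_mul, ← Nat.cast_add,
        Ring.choose_natCast]
    · intro j _ hj0
      apply hvan j (fun h => hj0 h.1)
      rintro ⟨-, h⟩
      have : (0 : ℤ) ≤ (r : ℤ) := Int.natCast_nonneg r
      omega
    · intro h
      exact (h (Finset.mem_range.2 (Nat.succ_pos r))).elim
  · push Not at h1
    by_cases h2 : -((r : ℤ) + 1) < n
    · rw [Finset.sum_eq_zero]
      · obtain ⟨m, hm⟩ : ∃ m : ℕ, n + r = m := ⟨(n + r).toNat, by omega⟩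
        rw [hm, Ring.choose_natCast, Nat.choose_eq_zero_of_lt (by omega), Nat.cast_zero]
      · intro j _
        apply hvan j
        · rintro ⟨-, h⟩; omega
        · rintro ⟨-, h⟩; omega
    · push Not at h2
      obtain ⟨k', hk'⟩ : ∃ k' : ℕ, n = -((r : ℤ) + 1 + k') :=
        ⟨(-n - r - 1).toNat, by omega⟩
      rw [Finset.sum_eq_single r]
      · subst hk'
        obtain ⟨e⟩ := Groth.Agent.S0845.result k r k'
        rw [e.finrank_eq, finrank_homogeneousSubmodule]
        have h3 : -((r : ℤ) + 1 + k') + r = -((k' + 1 : ℕ) : ℤ) := by push_cast; ring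
        rw [h3, Ring.choose_neg]
        have h4 : (((k' + 1 : ℕ) : ℤ) + (r : ℤ) - 1) = ((k' + r : ℕ) : ℤ) := by push_cast; ring
        rw [h4, Ring.choose_natCast, Units.smul_def, smul_eq_mul, Int.negOnePow_def]
        simp
      · intro j _ hjr
        apply hvan j
        · rintro ⟨-, h⟩; omega
        · rintro ⟨h, -⟩; exact hjr h
      · intro h
        exact (h (Finset.mem_range.2 (Nat.lt_succ_self r))).elim

end Groth.Agent.S4466
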