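import Groth.Statements.S1881
import Mathlib
import Groth.Agent.Lib.Helper61.DNorm

set_option autoImplicit false
universe u
open CategoryTheory CategoryTheory.Limits AlgebraicGeometry
open Grpd

namespace Groth.Agent.S1881
open CategoryTheory CategoryTheory.Limits AlgebraicGeometry
open Grpd
set_option backward.isDefEq.respectTransparency.types false
set_option maxHeartbeats 400000
open Groth.Agent.Lib.Helper15.ProjCharpoly Groth.Agent.Lib.Helper61.GrpdOrbit
  Groth.Agent.Lib.Helper61.DNorm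

variable {S : Scheme.{u}} (G : Grpd.GroupoidScheme S)

theorem c_s : G.c ≫ G.s = pullback.snd G.s G.t ≫ G.s := by
  have h := G.comp_s (pullback.fst G.s G.t) (pullback.snd G.s G.t) pullback.condition
  have e : pullback.lift (pullback.fst G.s G.t) (pullback.snd G.s G.t) pullback.condition
      = 𝟙 _ := by
    apply pullback.hom_ext <;> simp
  rwa [e, Category.id_comp] at h

theorem c_t : G.c ≫ G.t = pullback.fst G.s G.t ≫ G.t := by
  have h := G.comp_t (pullback.fst G.s G.t) (pullback.snd G.s G.t) pullback.condition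
  have e : pullback.lift (pullback.fst G.s G.t) (pullback.snd G.s G.t) pullback.condition
      = 𝟙 _ := by
    apply pullback.hom_ext <;> simp
  rwa [e, Category.id_comp] at h

theorem pt_comp (r₁ r₂ : G.R) (h : G.s r₁ = G.t r₂) :
    ∃ r : G.R, G.s r = G.s r₂ ∧ G.t r = G.t r₁ := by
  obtain ⟨z, hz1, hz2⟩ := Scheme.Pullback.exists_preimage_pullback r₁ r₂ h
  refine ⟨G.c z, ?_, ?_⟩
  · rw [← Scheme.Hom.comp_apply, c_s, Scheme.Hom.comp_apply, hz2]
  · rw [← Scheme.Hom.comp_apply, c_t, Scheme.Hom.comp_apply, hz1]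

theorem pt_e (w : G.U) : G.s (G.e w) = w ∧ G.t (G.e w) = w := by
  constructor
  · rw [← Scheme.Hom.comp_apply, G.e_s]; rfl
  · rw [← Scheme.Hom.comp_apply, G.e_t]; rfl

theorem pt_i (r : G.R) : G.s (G.i r) = G.t r ∧ G.t (G.i r) = G.s r := by
  constructor
  · rw [← Scheme.Hom.comp_apply, G.i_s]
  · rw [← Scheme.Hom.comp_apply, G.i_t]

theorem invariant_of_char (X W : Set G.U)
    (hW : ∀ w, w ∈ W ↔ w ∈ X ∧ ∀ r : G.R, G.s r = w → G.t r ∈ X) (r₀ : G.R) :
    G.s r₀ ∈ W ↔ G.t r₀ ∈ W := by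
  have key : ∀ r₀ : G.R, G.s r₀ ∈ W → G.t r₀ ∈ W := by
    intro r₀ h
    rw [hW] at h ⊢
    refine ⟨h.2 r₀ rfl, fun r hr => ?_⟩
    obtain ⟨r', h1, h2⟩ := pt_comp G r r₀ hr
    rw [← h2]
    exact h.2 r' h1
  refine ⟨key r₀, fun h => ?_⟩
  have := key (G.i r₀) (by rw [(pt_i G r₀).1]; exact h)
  rwa [(pt_i G r₀).2] at this

theorem fromSpec_mem_basicOpen {X : Scheme.{u}} {U : X.Opens} (hU : IsAffineOpen U)
    (f : Γ(X, U)) (P : Spec Γ(X, U)) :
    hU.fromSpec P ∈ X.basicOpen f ↔ f ∉ P.asIdeal := by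
  have : hU.fromSpec P ∈ X.basicOpen f ↔ P ∈ hU.fromSpec ⁻¹ᵁ X.basicOpen f := Iff.rfl
  rw [this, hU.fromSpec_preimage_basicOpen]
  exact PrimeSpectrum.mem_basicOpen _ _

theorem exists_fromSpec {X : Scheme.{u}} {U : X.Opens} (hU : IsAffineOpen U) (x : X)
    (hx : x ∈ U) : ∃ P : Spec Γ(X, U), hU.fromSpec P = x := by
  have : x ∈ Set.range hU.fromSpec := by rw [hU.range_fromSpec]; exact hx
  exact this

theorem fromSpec_mem {X : Scheme.{u}} {U : X.Opens} (hU : IsAffineOpen U)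
    (P : Spec Γ(X, U)) : hU.fromSpec P ∈ U := by
  have : hU.fromSpec P ∈ Set.range hU.fromSpec := ⟨P, rfl⟩
  rwa [hU.range_fromSpec] at this


theorem exists_basicOpen_of_finite {X : Scheme.{u}} {V : X.Opens} (hV : IsAffineOpen V)
    (W : X.Opens) (O : Set X) (hO : O.Finite) (hOV : O ⊆ V) (hOW : O ⊆ W) :
    ∃ f : Γ(X, V), X.basicOpen f ≤ W ∧ O ⊆ X.basicOpen f := by
  classical
  have hinj : Function.Injective hV.fromSpec := hV.fromSpec.isOpenEmbedding.injective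
  set T : Set (PrimeSpectrum Γ(X, V)) := hV.fromSpec ⁻¹' O with hT
  have hTfin : T.Finite := hO.preimage hinj.injOn
  set Z : Set (PrimeSpectrum Γ(X, V)) := (hV.fromSpec ⁻¹' (W : Set X))ᶜ with hZ
  have hZcl : IsClosed Z := (W.isOpen.preimage hV.fromSpec.continuous).isClosed_compl
  set I : Ideal Γ(X, V) := PrimeSpectrum.vanishingIdeal Z with hI
  have hZI : PrimeSpectrum.zeroLocus (I : Set Γ(X, V)) = Z := by
    rw [hI, PrimeSpectrum.zeroLocus_vanishingIdeal_eq_closure, hZcl.closure_eq]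
  have hTid : (PrimeSpectrum.asIdeal '' T).Finite := hTfin.image _
  have hav : ¬ ((I : Set Γ(X, V)) ⊆
      ⋃ q ∈ (hTid.toFinset : Set (Ideal Γ(X, V))), (q : Set Γ(X, V))) := by
    rw [Ideal.subset_union_prime (R := Γ(X, V)) (f := fun q : Ideal Γ(X, V) => q) ⊥ ⊥
      (fun q hq _ _ => by
        obtain ⟨P, -, rfl⟩ := hTid.mem_toFinset.mp hq
        exact P.2)]
    rintro ⟨q, hq, hle⟩
    obtain ⟨P, hP, rfl⟩ := hTid.mem_toFinset.mp hq
    have hPZ : P ∈ Z := by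
      rw [← hZI, PrimeSpectrum.mem_zeroLocus]
      exact hle
    exact hPZ (hOW hP)
  obtain ⟨f, hfI, hf⟩ := Set.not_subset.mp hav
  refine ⟨f, ?_, ?_⟩
  · intro x hx
    obtain ⟨P, rfl⟩ := exists_fromSpec hV x (X.basicOpen_le f hx)
    by_contra hxW
    have hPZ : P ∈ Z := hxW
    have hfP : f ∈ P.asIdeal := by
      have := (PrimeSpectrum.mem_vanishingIdeal Z f).mp hfI P hPZ
      exact this
    exact (fromSpec_mem_basicOpen hV f P).mp hx hfP
  · intro x hx
    obtain ⟨P, rfl⟩ := exists_fromSpec hV x (hOV hx)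
    apply (fromSpec_mem_basicOpen hV f P).mpr
    intro hfP
    apply hf
    refine Set.mem_biUnion (x := P.asIdeal) ?_ hfP
    exact hTid.mem_toFinset.mpr ⟨P, hx, rfl⟩


theorem exists_affine [IsFinite G.s] [Flat G.s] [LocallyOfFinitePresentation G.s]
    (V : G.U.Opens) (hV : IsAffineOpen V) (f : Γ(G.U, V))
    (hXW : G.s ⁻¹ᵁ (G.U.basicOpen f) ≤ G.t ⁻¹ᵁ V) :
    ∃ W : G.U.Opens, IsAffineOpen W ∧ ∀ w : G.U, w ∈ W ↔
      w ∈ G.U.basicOpen f ∧ ∀ r : G.R, G.s r = w → G.t r ∈ G.U.basicOpen f := by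
  set X := G.U.basicOpen f with hXdef
  have hX : IsAffineOpen X := hV.basicOpen f
  set RX := G.s ⁻¹ᵁ X with hRXdef
  have hRX : IsAffineOpen RX := hX.preimage G.s
  let φ : Γ(G.U, X) →+* Γ(G.R, RX) := (G.s.appLE X RX le_rfl).hom
  letI alg : Algebra Γ(G.U, X) Γ(G.R, RX) := φ.toAlgebra
  have hfin : φ.Finite := by
    have := G.s.finite_app X hX
    rwa [Scheme.Hom.app_eq_appLE] at this
  have hflat : φ.Flat := G.s.flat_appLE hX hRX le_rfl
  have hfp : φ.FinitePresentation := G.s.finitePresentation_appLE hX hRX le_rfl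
  haveI : Module.Finite Γ(G.U, X) Γ(G.R, RX) := hfin
  haveI : Module.Flat Γ(G.U, X) Γ(G.R, RX) := hflat
  haveI : Algebra.FinitePresentation Γ(G.U, X) Γ(G.R, RX) := hfp
  haveI : Module.FinitePresentation Γ(G.U, X) Γ(G.R, RX) :=
    Module.FinitePresentation.of_finite_of_finitePresentation _ _
  haveI : Module.Projective Γ(G.U, X) Γ(G.R, RX) := Module.Flat.projective_of_finitePresentation
  obtain ⟨π⟩ := exists_pres (R := Γ(G.U, X)) (P := Γ(G.R, RX))
  set y : Γ(G.R, RX) := (G.t.appLE V RX hXW).hom f with hydef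
  have hy : G.R.basicOpen y = RX ⊓ G.t ⁻¹ᵁ X := Scheme.basicOpen_appLE G.t RX V hXW f
  set g : Γ(G.U, X) := dn π y with hg
  have hs : ∀ Q : Spec Γ(G.R, RX), G.s (hRX.fromSpec Q) =
      hX.fromSpec (Spec.map (G.s.appLE X RX le_rfl) Q) := by
    intro Q
    have := IsAffineOpen.SpecMap_appLE_fromSpec G.s hX hRX le_rfl
    rw [← Scheme.Hom.comp_apply, ← this, Scheme.Hom.comp_apply]
  have hinj : Function.Injective hX.fromSpec := hX.fromSpec.isOpenEmbedding.injective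
  refine ⟨G.U.basicOpen g, hX.basicOpen g, fun w => ⟨fun hw => ?_, ?_⟩⟩
  · have hwX : w ∈ X := G.U.basicOpen_le g hw
    refine ⟨hwX, fun r hr => ?_⟩
    obtain ⟨P, rfl⟩ := exists_fromSpec hX w hwX
    have hgP : g ∉ P.asIdeal := (fromSpec_mem_basicOpen hX g P).mp hw
    have hrRX : r ∈ RX := by
      show G.s r ∈ X
      rw [hr]; exact hwX
    obtain ⟨Q, rfl⟩ := exists_fromSpec hRX r hrRX
    have hQP : Spec.map (G.s.appLE X RX le_rfl) Q = P := hinj (by rw [← hs, hr])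
    have hyQ : y ∉ Q.asIdeal :=
      (dn_notMem_iff π P.asIdeal y).mp hgP Q.asIdeal Q.2 (by rw [← hQP]; rfl)
    have h3 : hRX.fromSpec Q ∈ G.R.basicOpen y := (fromSpec_mem_basicOpen hRX y Q).mpr hyQ
    rw [hy] at h3
    exact h3.2
  · rintro ⟨hwX, hall⟩
    obtain ⟨P, rfl⟩ := exists_fromSpec hX w hwX
    apply (fromSpec_mem_basicOpen hX g P).mpr
    apply (dn_notMem_iff π P.asIdeal y).mpr
    intro q hq hqP
    let Q : Spec Γ(G.R, RX) := ⟨q, hq⟩
    have h1 : G.s (hRX.fromSpec Q) = hX.fromSpec P := by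
      rw [hs]
      congr 1
      exact PrimeSpectrum.ext hqP
    have h2 := hall _ h1
    have h3 : hRX.fromSpec Q ∈ G.R.basicOpen y := by
      rw [hy]
      exact ⟨fromSpec_mem hRX Q, h2⟩
    exact (fromSpec_mem_basicOpen hRX y Q).mp h3

theorem main (S : Scheme.{u}) (G : Grpd.GroupoidScheme S) [IsFinite G.s] [Flat G.s] [LocallyOfFinitePresentation G.s] [IsFinite G.t] [Flat G.t] [LocallyOfFinitePresentation G.t] (u : G.U) (V : G.U.Opens) (hV : IsAffineOpen V) (huV : ∀ r : G.R, G.s r = u → G.t r ∈ V) : ∃ W : G.U.Opens, IsAffineOpen W ∧ u ∈ W ∧ G.s ⁻¹ᵁ W = G.t ⁻¹ᵁ W := by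
  set O : Set G.U := G.t '' (G.s ⁻¹' {u}) with hO
  have hOfin : O.Finite := (G.s.finite_preimage_singleton u).image _
  have hOV : O ⊆ V := by
    rintro _ ⟨r, hr, rfl⟩
    exact huV r hr
  have hcl : IsClosed (G.s '' (G.t ⁻¹' ((V : Set G.U)ᶜ))) :=
    G.s.isClosedMap _ (V.isOpen.isClosed_compl.preimage G.t.continuous)
  let W₁ : G.U.Opens := ⟨(G.s '' (G.t ⁻¹' ((V : Set G.U)ᶜ)))ᶜ, hcl.isOpen_compl⟩
  have hW₁ : ∀ w, w ∈ W₁ ↔ ∀ r : G.R, G.s r = w → G.t r ∈ V := by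
    intro w
    show w ∈ (G.s '' (G.t ⁻¹' ((V : Set G.U)ᶜ)))ᶜ ↔ _
    constructor
    · intro h r hr
      by_contra hn
      exact h ⟨r, hn, hr⟩
    · rintro h ⟨r, hn, hr⟩
      exact hn (h r hr)
  have hOW₁ : O ⊆ W₁ := by
    rintro _ ⟨r, hr, rfl⟩
    show G.t r ∈ W₁
    rw [hW₁]
    intro r' hr'
    obtain ⟨r'', h1, h2⟩ := pt_comp G r' r hr'
    rw [← h2]
    exact huV r'' (h1.trans hr)
  obtain ⟨f, hfW, hOf⟩ := exists_basicOpen_of_finite hV W₁ O hOfin hOV hOW₁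
  have hXW : G.s ⁻¹ᵁ (G.U.basicOpen f) ≤ G.t ⁻¹ᵁ V := by
    intro r hr
    exact (hW₁ _).mp (hfW hr) r rfl
  obtain ⟨W, hWaff, hW⟩ := exists_affine G V hV f hXW
  refine ⟨W, hWaff, ?_, ?_⟩
  · rw [hW]
    exact ⟨hOf ⟨G.e u, (pt_e G u).1, (pt_e G u).2⟩, fun r hr => hOf ⟨r, hr, rfl⟩⟩
  · ext r
    exact invariant_of_char G _ _ hW r

end Groth.Agent.S1881

namespace Groth.Agent.S1881

/-- Let (U, R, s, t, c) be a groupoid scheme over S with s, t finite locally free, and u a point of U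
for which some affine open of U contains t(s⁻¹{u}). Then u has an R-invariant affine open
neighbourhood W (that is, s⁻¹W = t⁻¹W). (A groupoid scheme carries U, R, s, t, c, e, i over S with
the groupoid axioms on T-points; 'finite locally free' is finite, flat and locally of finite
presentation; C ⊂ Γ(U) is the ring of functions a with s♯(a) = t♯(a) and M = Spec C.) -/
theorem result (S : Scheme.{u}) (G : Grpd.GroupoidScheme S) [IsFinite G.s] [Flat G.s] [LocallyOfFinitePresentation G.s] [IsFinite G.t] [Flat G.t] [LocallyOfFinitePresentation G.t] (u : G.U) (V : G.U.Opens) (hV : IsAffineOpen V) (huV : ∀ r : G.R, G.s r = u → G.t r ∈ V) : ∃ W : G.U.Opens, IsAffineOpen W ∧ u ∈ W ∧ G.s ⁻¹ᵁ W = G.t ⁻¹ᵁ W := by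
  exact main S G u V hV huV

end Groth.Agent.S1881
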