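import Groth.Statements.S12807
import Groth.Agent.Lib.Helper17.HomLift

set_option autoImplicit false
open CategoryTheory CategoryTheory.Limits
universe v₃ u₃ v₂ u₂ v u
open FibCat

namespace Groth.Agent.S12807

open CategoryTheory.Functor Groth.Agent.Lib.Helper17

theorem sc_lift {C : Type u} [Category.{v} C] {D : Type u₂} [Category.{v₂} D] (u : C ⥤ D)
    {𝒮 : Type u₃} [Category.{v₃} 𝒮] (p : 𝒮 ⥤ D)
    (X : CategoricalPullback u p) (V : C) (f : V ⟶ X.fst) (y' : 𝒮) (θ' : u.obj V ≅ p.obj y')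
    (φ : y' ⟶ X.snd) (hw : u.map f ≫ X.iso.hom = θ'.hom ≫ p.map φ)
    (hsc : p.IsStronglyCartesian (p.map φ) φ) :
    (CategoricalPullback.π₁ u p).IsStronglyCartesian f
      (⟨f, φ, hw⟩ : (⟨V, y', θ'⟩ : CategoricalPullback u p) ⟶ X) := by
  haveI hl : (CategoricalPullback.π₁ u p).IsHomLift f
      (⟨f, φ, hw⟩ : (⟨V, y', θ'⟩ : CategoricalPullback u p) ⟶ X) :=
    hl_of_eq (p := CategoricalPullback.π₁ u p) (a := (⟨V, y', θ'⟩ : CategoricalPullback u p))
      (b := X) rfl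
  refine { toIsHomLift := hl, universal_property' := ?_ }
  intro X'' g φ' hφ'
  change X''.fst ⟶ V at g
  have h1 : g ≫ f = φ'.fst :=
    hl_eq (p := CategoricalPullback.π₁ u p) (a := X'') (b := X) hφ'
  have h2 : p.map φ'.snd = (X''.iso.inv ≫ u.map g ≫ θ'.hom) ≫ p.map φ := by
    have hw' := φ'.w
    rw [Category.assoc, Category.assoc, ← hw, ← Category.assoc (u.map g), ← u.map_comp, h1, hw',
      Iso.inv_hom_id_assoc]
  let χ₂ : X''.snd ⟶ y' := IsStronglyCartesian.map p (p.map φ) φ h2 φ'.snd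
  have hχ₂ : p.IsHomLift (X''.iso.inv ≫ u.map g ≫ θ'.hom) χ₂ :=
    IsStronglyCartesian.map_isHomLift p (p.map φ) φ h2 φ'.snd
  have h3 : X''.iso.inv ≫ u.map g ≫ θ'.hom = p.map χ₂ := hl_eq hχ₂
  have hfac : χ₂ ≫ φ = φ'.snd := IsStronglyCartesian.fac p (p.map φ) φ h2 φ'.snd
  let χ : X'' ⟶ (⟨V, y', θ'⟩ : CategoricalPullback u p) :=
    ⟨g, χ₂, by
      change u.map g ≫ θ'.hom = X''.iso.hom ≫ p.map χ₂
      rw [← h3, Iso.hom_inv_id_assoc]⟩
  refine ⟨χ, ⟨?_, ?_⟩, ?_⟩
  · exact hl_of_eq (p := CategoricalPullback.π₁ u p) (a := X'')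
      (b := (⟨V, y', θ'⟩ : CategoricalPullback u p)) rfl
  · apply CategoricalPullback.Hom.ext
    · exact h1
    · exact hfac
  · rintro χ' ⟨hχ'1, hχ'2⟩
    have h4 : g = χ'.fst :=
      hl_eq (p := CategoricalPullback.π₁ u p) (a := X'')
        (b := (⟨V, y', θ'⟩ : CategoricalPullback u p)) hχ'1
    have h5 : χ'.snd ≫ φ = φ'.snd := congrArg CategoricalPullback.Hom.snd hχ'2
    have h6 : p.IsHomLift (X''.iso.inv ≫ u.map g ≫ θ'.hom) χ'.snd := by
      apply hl_of_eq
      have hw' := χ'.w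
      change u.map χ'.fst ≫ θ'.hom = X''.iso.hom ≫ p.map χ'.snd at hw'
      rw [h4, hw', Iso.inv_hom_id_assoc]
    have h7 : χ'.snd = χ₂ := IsStronglyCartesian.map_uniq p (p.map φ) φ h2 φ'.snd χ'.snd h5
    apply CategoricalPullback.Hom.ext
    · exact h4.symm
    · exact h7

/-- Let `u : C ⥤ D` be a functor and `𝒮` a category over `D` whose structure functor is a fibred
category. Then the 2-fibre product `C ×_D 𝒮` of `u` and the structure functor (triples `(U, y, u U ≅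
p y)`), with its first projection, is a fibred category over `C`. (The published statement uses the
strict fibre product, pairs with `u U = p y`; for `𝒮` fibred over `D` it is equivalent over `C` to
the 2-fibre product used here.) -/
theorem result {C : Type u} [Category.{v} C] {D : Type u₂} [Category.{v₂} D] (u : C ⥤ D)
    (𝒮 : BasedCategory.{v₃, u₃} D) [𝒮.p.IsFibered] :
    (CategoricalPullback.π₁ u 𝒮.p).IsFibered := by
  apply IsFibered.of_exists_isStronglyCartesian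
  intro X V f
  obtain ⟨y', φ, hφ⟩ := IsPreFibered.exists_isCartesian' (p := 𝒮.p) (a := X.snd) (u.map f ≫ X.iso.hom)
  haveI hsc : 𝒮.p.IsStronglyCartesian (u.map f ≫ X.iso.hom) φ := inferInstance
  have hy' : 𝒮.p.obj y' = u.obj V := hl_dom hsc.toIsHomLift
  have hfac := hl_fac' hsc.toIsHomLift
  refine ⟨⟨V, y', eqToIso hy'.symm⟩, ⟨f, φ, ?_⟩, ?_⟩
  · rw [hfac]
    simp
    rfl
  · exact sc_lift u 𝒮.p X V f y' (eqToIso hy'.symm) φ _ (sc_map_of_sc hsc)

end Groth.Agent.S12807
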