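import Groth.Statements.S5603
import Groth.Agent.Lib.Helper62.PCohFinite

set_option autoImplicit false
universe w v u
open CategoryTheory CategoryTheory.Limits
open PCoh

namespace Groth.Agent.S5603

/-- Punctual site: let C be an abelian category and C₀ a strictly full additive subcategory,
quasi-stable under kernels of epimorphisms and quasi-liftable. If F ∈ D(C) is acyclic in degrees >
n, then F is n-pseudo-coherent (isomorphic to a strictly n-pseudo-coherent complex) if and only if
H^n(F) is of C₀-finite type. -/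
theorem result {C : Type u} [Category.{v} C] [Abelian C] [HasDerivedCategory.{w} C]
    (P : ObjectProperty C) [P.IsClosedUnderIsomorphisms] [P.ContainsZero] (hsum : ∀ X Y : C, P X → P Y → P (X ⨯ Y))
    (hqs : PCoh.IsQuasiStableUnderKernels P) (hql : PCoh.IsQuasiLiftable P)
    (n : ℤ) (F : DerivedCategory C) (hac : ∀ i : ℤ, n < i → IsZero ((DerivedCategory.homologyFunctor C i).obj F)) :
    (∃ E : CochainComplex C ℤ, PCoh.IsStrictPC P n E ∧ Nonempty (DerivedCategory.Q.obj E ≅ F)) ↔ PCoh.IsOfFiniteType P ((DerivedCategory.homologyFunctor C n).obj F) := by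
  constructor
  · rintro ⟨E, hE, ⟨e⟩⟩
    have he : ∀ i : ℤ, E.homology i ≅ (DerivedCategory.homologyFunctor C i).obj F := fun i =>
      ((DerivedCategory.homologyFunctorFactors C i).app E).symm ≪≫
        (DerivedCategory.homologyFunctor C i).mapIso e
    have hacE : ∀ i : ℤ, n < i → IsZero (E.homology i) := fun i hi => (hac i hi).of_iso (he i)
    obtain ⟨P₀, π, hP₀, hπ⟩ := Groth.Agent.S5602.result P hqs n E hE hacE
    exact ⟨P₀, π ≫ (he n).hom, hP₀, inferInstance⟩
  · rintro ⟨P₀, π, hP₀, hπ⟩
    obtain ⟨F₀, ⟨eF⟩⟩ : ∃ F₀ : CochainComplex C ℤ, Nonempty (DerivedCategory.Q.obj F₀ ≅ F) :=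
      ⟨_, ⟨DerivedCategory.Q.objObjPreimageIso F⟩⟩
    have he : ∀ i : ℤ, F₀.homology i ≅ (DerivedCategory.homologyFunctor C i).obj F := fun i =>
      ((DerivedCategory.homologyFunctorFactors C i).app F₀).symm ≪≫
        (DerivedCategory.homologyFunctor C i).mapIso eF
    have hacF : ∀ i : ℤ, n < i → IsZero (F₀.homology i) := fun i hi => (hac i hi).of_iso (he i)
    have hft : PCoh.IsOfFiniteType P (F₀.homology n) := ⟨P₀, π ≫ (he n).inv, hP₀, inferInstance⟩
    obtain ⟨E', u', hE', hu'⟩ :=
      Groth.Agent.Lib.Helper62.exists_strictPC_of_finiteType hql n F₀ hacF hft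
    have hu'i : IsIso (DerivedCategory.Q.map u') :=
      (DerivedCategory.isIso_Q_map_iff_quasiIso C u').2 hu'
    exact ⟨E', hE', ⟨asIso (DerivedCategory.Q.map u') ≪≫ eF⟩⟩

end Groth.Agent.S5603
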