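import Groth.Statements.S5602
-- import your own Groth.Agent.* helpers here

set_option autoImplicit false
universe w v u
open CategoryTheory CategoryTheory.Limits
open PCoh

namespace Groth.Agent.S5602

section
variable {C : Type u} [Category.{v} C] [Abelian C] (E : CochainComplex C ℤ) (n : ℤ)

noncomputable def KX : ℕ → C
  | 0 => E.cycles n
  | (k + 1) => E.X (n + k)

noncomputable def Kd : ∀ k : ℕ, KX E n k ⟶ KX E n (k + 1)
  | 0 => E.iCycles n ≫ (E.XIsoOfEq (by simp : n = n + ((0 : ℕ) : ℤ))).hom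
  | (k + 1) => E.d (n + k) (n + ((k + 1 : ℕ) : ℤ))

lemma Kd_sq : ∀ k : ℕ, Kd E n k ≫ Kd E n (k + 1) = 0
  | 0 => by
    change (E.iCycles n ≫ (E.XIsoOfEq _).hom) ≫ E.d (n + ((0 : ℕ) : ℤ)) (n + ((0 + 1 : ℕ) : ℤ)) = 0
    rw [Category.assoc, HomologicalComplex.XIsoOfEq_hom_comp_d, HomologicalComplex.iCycles_d]
  | (k + 1) => by
    change E.d _ _ ≫ E.d _ _ = 0
    exact E.d_comp_d _ _ _

noncomputable def K : CochainComplex C ℕ := CochainComplex.of (KX E n) (Kd E n) (Kd_sq E n)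

lemma K_d (k : ℕ) : (K E n).d k (k + 1) = Kd E n k := CochainComplex.of_d _ _ _

lemma exact_cycles (m m' : ℤ) (h : n = m) (hm : m + 1 = m')
    (w : (E.iCycles n ≫ (E.XIsoOfEq h).hom) ≫ E.d m m' = 0) :
    (ShortComplex.mk (E.iCycles n ≫ (E.XIsoOfEq h).hom) (E.d m m') w).Exact := by
  subst h hm
  apply ShortComplex.exact_of_f_is_kernel
  have := E.cyclesIsKernel n (n + 1) (by simp)
  refine IsLimit.ofIsoLimit this ?_
  refine Fork.ext (Iso.refl _) ?_
  simp [HomologicalComplex.XIsoOfEq_rfl]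

lemma K_exact0 : (K E n).ExactAt 0 := by
  rw [HomologicalComplex.exactAt_iff' _ 0 0 1 (by simp) (by simp)]
  rw [ShortComplex.exact_iff_mono _ ((K E n).shape 0 0 (by simp))]
  change Mono ((K E n).d 0 1)
  rw [K_d]
  change Mono (E.iCycles n ≫ (E.XIsoOfEq _).hom)
  infer_instance

lemma K_exact1 : (K E n).ExactAt 1 := by
  rw [HomologicalComplex.exactAt_iff' _ 0 1 2 (by simp) (by simp)]
  have h1 : (K E n).d 0 1 = E.iCycles n ≫ (E.XIsoOfEq (by simp : n = n + ((0 : ℕ) : ℤ))).hom :=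
    K_d E n 0
  have h2 : (K E n).d 1 2 = E.d (n + ((0 : ℕ) : ℤ)) (n + ((0 + 1 : ℕ) : ℤ)) := K_d E n 1
  have := exact_cycles E n (n + ((0 : ℕ) : ℤ)) (n + ((0 + 1 : ℕ) : ℤ)) (by simp) (by simp)
    (by rw [Category.assoc, HomologicalComplex.XIsoOfEq_hom_comp_d, HomologicalComplex.iCycles_d])
  refine (ShortComplex.exact_iff_of_iso ?_).mpr this
  refine ShortComplex.isoMk (Iso.refl _) (Iso.refl _) (Iso.refl _) ?_ ?_
  · exact (Category.id_comp _).trans (h1.symm.trans (Category.comp_id _).symm)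
  · exact (Category.id_comp _).trans (h2.symm.trans (Category.comp_id _).symm)

lemma K_exact_succ (k : ℕ) (h : E.ExactAt (n + ((k + 1 : ℕ) : ℤ))) : (K E n).ExactAt (k + 2) := by
  rw [HomologicalComplex.exactAt_iff' _ (k + 1) (k + 2) (k + 3) (by simp) (by simp)]
  rw [HomologicalComplex.exactAt_iff' _ (n + (k : ℤ)) (n + ((k + 1 : ℕ) : ℤ)) (n + ((k + 2 : ℕ) : ℤ))
    (by simp; omega) (by simp; omega)] at h
  have h1 : (K E n).d (k + 1) (k + 2) = E.d (n + (k : ℤ)) (n + ((k + 1 : ℕ) : ℤ)) := K_d E n (k + 1)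
  have h2 : (K E n).d (k + 2) (k + 3) = E.d (n + ((k + 1 : ℕ) : ℤ)) (n + ((k + 2 : ℕ) : ℤ)) :=
    K_d E n (k + 2)
  refine (ShortComplex.exact_iff_of_iso ?_).mpr h
  refine ShortComplex.isoMk (Iso.refl _) (Iso.refl _) (Iso.refl _) ?_ ?_
  · exact (Category.id_comp _).trans (h1.symm.trans (Category.comp_id _).symm)
  · exact (Category.id_comp _).trans (h2.symm.trans (Category.comp_id _).symm)

end

/-- Let C be an abelian category and C₀ a class of objects, closed under isomorphisms and quasi-stable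
under kernels of epimorphisms. If E is strictly n-pseudo-coherent (bounded above, terms in C₀ from
degree n on) and H^i(E) = 0 for i > n, then H^n(E) is of C₀-finite type. -/
theorem result {C : Type u} [Category.{v} C] [Abelian C]
    (P : ObjectProperty C) [P.IsClosedUnderIsomorphisms] (hqs : PCoh.IsQuasiStableUnderKernels P)
    (n : ℤ) (E : CochainComplex C ℤ) (hE : PCoh.IsStrictPC P n E)
    (hac : ∀ i : ℤ, n < i → IsZero (E.homology i)) :
    PCoh.IsOfFiniteType P (E.homology n) := by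
  obtain ⟨⟨b, hb⟩, hP⟩ := hE
  have hexact : ∀ i : ℕ, (K E n).ExactAt i := by
    intro i
    match i with
    | 0 => exact K_exact0 E n
    | 1 => exact K_exact1 E n
    | (k + 2) =>
      apply K_exact_succ E n k
      rw [HomologicalComplex.exactAt_iff_isZero_homology]
      apply hac
      push_cast
      omega
  have hbound : ∃ N : ℕ, ∀ i : ℕ, N < i → IsZero ((K E n).X i) := by
    refine ⟨(b - n).toNat + 1, fun i hi ↦ ?_⟩
    obtain ⟨k, rfl⟩ : ∃ k, i = k + 1 := ⟨i - 1, by omega⟩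
    change IsZero (E.X (n + k))
    apply hb
    omega
  have hPK : ∀ i : ℕ, 1 ≤ i → P ((K E n).X i) := by
    intro i hi
    obtain ⟨k, rfl⟩ : ∃ k, i = k + 1 := ⟨i - 1, by omega⟩
    change P (E.X (n + k))
    apply hP
    omega
  obtain ⟨E₀, π, hE₀, hπ⟩ := hqs (K E n) hexact hbound hPK
  change E₀ ⟶ E.cycles n at π
  haveI : Epi π := hπ
  exact ⟨E₀, π ≫ E.homologyπ n, hE₀, epi_comp _ _⟩

end Groth.Agent.S5602
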