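import Groth.Statements.S6416
import Mathlib.Tactic

set_option autoImplicit false
open CategoryTheory
universe v₁ u₁ v₂ u₂ v₃ u₃
open FibCat

namespace Groth.Agent.S6416

open CategoryTheory.Functor in
theorem comp_isHomLift {𝒜 : Type u₁} [Category.{v₁} 𝒜] {ℬ : Type u₂} [Category.{v₂} ℬ]
    {𝒞 : Type u₃} [Category.{v₃} 𝒞] (F : 𝒜 ⥤ ℬ) (G : ℬ ⥤ 𝒞) {a b : 𝒜} (φ : a ⟶ b) {R S : ℬ}
    (ψ : R ⟶ S) [F.IsHomLift ψ φ] {U V : 𝒞} (f : U ⟶ V) [G.IsHomLift f ψ] :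
    (F ⋙ G).IsHomLift f φ := by
  subst_hom_lift F ψ φ
  subst_hom_lift G f (F.map φ)
  exact IsHomLift.map (F ⋙ G) φ

open CategoryTheory.Functor in
/-- The composite of two functors fibred in groupoids is fibred in groupoids. -/
theorem result {𝒜 : Type u₁} [Category.{v₁} 𝒜] {ℬ : Type u₂} [Category.{v₂} ℬ] {𝒞 : Type u₃} [Category.{v₃} 𝒞] (F : 𝒜 ⥤ ℬ) (G : ℬ ⥤ 𝒞) (hF : FibCat.IsFibGrpd F) (hG : FibCat.IsFibGrpd G) : FibCat.IsFibGrpd (F ⋙ G) := by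
  constructor
  · intro x V f
    obtain ⟨y', φ', h1⟩ := hG.exists_lift (x := F.obj x) f
    obtain ⟨y, φ, h2⟩ := hF.exists_lift (x := x) φ'
    exact ⟨y, φ, comp_isHomLift F G φ φ' f⟩
  · intro y x φ
    have hφF : F.IsStronglyCartesian (F.map φ) φ := hF.isStronglyCartesian φ
    have hφG : G.IsStronglyCartesian (G.map (F.map φ)) (F.map φ) := hG.isStronglyCartesian (F.map φ)
    refine { toIsHomLift := IsHomLift.map (F ⋙ G) φ, universal_property' := ?_ }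
    intro a' g φ' hφ'
    have hg : g ≫ (F ⋙ G).map φ = (F ⋙ G).map φ' := IsHomLift.eq_of_isHomLift (F ⋙ G) _ φ'
    have i1 : G.IsHomLift (g ≫ G.map (F.map φ)) (F.map φ') := by
      have : g ≫ G.map (F.map φ) = G.map (F.map φ') := hg
      rw [this]; infer_instance
    obtain ⟨χ', ⟨hχ'1, hχ'2⟩, hχ'u⟩ :=
      hφG.universal_property' (a' := F.obj a') g (F.map φ')
    have i2 : F.IsHomLift (χ' ≫ F.map φ) φ' := by
      rw [hχ'2]; infer_instance
    obtain ⟨χ, ⟨hχ1, hχ2⟩, hχu⟩ := hφF.universal_property' (a' := a') χ' φ'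
    refine ⟨χ, ⟨?_, hχ2⟩, ?_⟩
    · have e1 : χ' = F.map χ := IsHomLift.eq_of_isHomLift F χ' χ
      have e2 : g = G.map χ' := IsHomLift.eq_of_isHomLift G g χ'
      rw [e2, e1]
      exact IsHomLift.map (F ⋙ G) χ
    · rintro χ₂ ⟨h1, h2⟩
      have e3 : g = (F ⋙ G).map χ₂ := IsHomLift.eq_of_isHomLift (F ⋙ G) g χ₂
      have e4 : F.map χ₂ = χ' := by
        apply hχ'u
        refine ⟨?_, ?_⟩
        · rw [e3]; exact IsHomLift.map G (F.map χ₂)
        · rw [← F.map_comp, h2]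
      apply hχu
      refine ⟨?_, h2⟩
      rw [← e4]; infer_instance

end Groth.Agent.S6416
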