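import Groth.Statements.S12801
import Mathlib.CategoryTheory.Sites.InducedTopology

set_option autoImplicit false
open CategoryTheory
universe v₂ u₂ v u
open Stk

namespace Groth.Agent.S12801


/-- the topology on `𝒳` of sieves whose image covers -/
def inherited {C : Type u} [Category.{v} C] {𝒳 : Type u₂} [Category.{v₂} 𝒳] (p : 𝒳 ⥤ C)
    (hp : FibCat.IsFibGrpd p) (J : GrothendieckTopology C) : GrothendieckTopology 𝒳 where
  sieves x := {S | S.functorPushforward p ∈ J (p.obj x)}
  top_mem' x := by
    change (⊤ : Sieve x).functorPushforward p ∈ J (p.obj x)
    rw [Sieve.functorPushforward_top]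
    exact J.top_mem _
  pullback_stable' := by
    intro x y S f hS
    change (S.pullback f).functorPushforward p ∈ J (p.obj y)
    have h1 := J.pullback_stable (p.map f) hS
    refine J.superset_covering ?_ h1
    intro V g hg
    obtain ⟨z, α, β, hα, hfac⟩ := hg
    obtain ⟨w, γ, hγ⟩ := hp.exists_lift g
    have hdom : p.obj w = V := IsHomLift.domain_eq p g γ
    have hfacγ : p.map γ = eqToHom hdom ≫ g := by
      have := IsHomLift.fac' p g γ
      simpa using this
    have hl : p.IsHomLift ((eqToHom hdom ≫ β) ≫ p.map α) (γ ≫ f) := by
      rw [Category.assoc, ← hfac, ← Category.assoc, ← hfacγ, ← p.map_comp]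
      infer_instance
    obtain ⟨χ, ⟨-, hχ⟩, -⟩ :=
      (hp.isStronglyCartesian α).universal_property' (eqToHom hdom ≫ β) (γ ≫ f)
    refine ⟨w, γ, eqToHom hdom.symm, ?_, ?_⟩
    · change S (γ ≫ f)
      rw [← hχ]
      exact S.downward_closed hα χ
    · rw [hfacγ]
      simp
  transitive' := by
    intro x S hS R hR
    change R.functorPushforward p ∈ J (p.obj x)
    refine J.transitive hS _ ?_
    intro V g hg
    obtain ⟨z, α, β, hα, hfac⟩ := hg
    have h1 : (R.pullback α).functorPushforward p ∈ J (p.obj z) := hR hα
    have h2 := J.pullback_stable β h1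
    refine J.superset_covering ?_ h2
    intro V' h hh
    obtain ⟨w, γ, δ, hγ, hfac2⟩ := hh
    refine ⟨w, γ ≫ α, δ, hγ, ?_⟩
    rw [hfac, ← Category.assoc, hfac2, p.map_comp, Category.assoc]

/-- Let `p : 𝒳 ⥤ C` make `𝒳` fibred in groupoids over `C` and let `J` be a Grothendieck topology on `C`.
A sieve `S` on an object `x` of `𝒳` belongs to the topology on `𝒳` generated by the sieves whose
image under `p` generates a covering sieve if and only if the image of `S` under `p` generates a
covering sieve of `p x`: the sieves whose image covers already satisfy the axioms of a topology (the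
topology on `𝒳` inherited from `C`). (The published statement is for a fibred category, with
coverings the families of strongly cartesian morphisms `{x_i ⟶ x}` such that `{p x_i ⟶ p x}` is a
covering; this row is the case of a category fibred in groupoids, where every morphism is strongly
cartesian, in sieve form.) -/
theorem result {C : Type u} [Category.{v} C] {𝒳 : Type u₂} [Category.{v₂} 𝒳] (p : 𝒳 ⥤ C)
    (hp : FibCat.IsFibGrpd p) (J : GrothendieckTopology C) {x : 𝒳} (S : Sieve x) :
    S ∈ p.restrictedTopology J x ↔ S.functorPushforward p ∈ J (p.obj x) := by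
  constructor
  · intro hS
    have hle : p.restrictedTopology J ≤ inherited p hp J := by
      rw [Functor.restrictedTopology, Precoverage.toGrothendieck_le_iff_le_toPrecoverage]
      intro y R hR
      rw [GrothendieckTopology.mem_toPrecoverage_iff]
      change (Sieve.generate R).functorPushforward p ∈ J (p.obj y)
      rw [← Sieve.generate_map_eq_functorPushforward]
      exact hR
    exact hle _ hS
  · exact Functor.mem_restrictedTopology_of_functorPushforward_mem

end Groth.Agent.S12801
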