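import Groth.Statements.S6918
import Mathlib.RingTheory.Flat.Localization
import Mathlib.RingTheory.Localization.BaseChange
import Mathlib.RingTheory.IsTensorProduct
import Mathlib.RingTheory.Flat.Stability

set_option autoImplicit false
universe u
open FlatMor

namespace Groth.Agent.S6918

open TensorProduct

theorem flat_of_isLocalizedModule {R S : Type u} [CommRing R] [CommRing S] [Algebra R S]
    (T : Submonoid S) {N N' : Type u} [AddCommGroup N] [Module S N] [Module R N] [IsScalarTower R S N]
    [AddCommGroup N'] [Module S N'] [Module R N'] [IsScalarTower R S N']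
    (g : N →ₗ[S] N') [IsLocalizedModule T g] [Module.Flat R N] : Module.Flat R N' := by
  have h : Module.Flat R N := inferInstance
  rw [Module.Flat.iff_lTensor_injectiveₛ] at h ⊢
  intro P _ _ N₀
  rw [← AlgebraTensorModule.coe_lTensor (A := S)]
  rw [← IsLocalizedModule.map_lTensor (S := T) (f := N₀.subtype) (g := g)]
  exact IsLocalizedModule.map_injective _ _ _ _ (by simpa using h N₀)

theorem isLocalizedModule_baseChange {S S' : Type u} [CommRing S] [CommRing S'] [Algebra S S']
    (T : Submonoid S) {M Mq : Type u} [AddCommGroup M] [Module S M] [AddCommGroup Mq] [Module S Mq]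
    (g : M →ₗ[S] Mq) [IsLocalizedModule T g] :
    IsLocalizedModule (Algebra.algebraMapSubmonoid S' T) (g.baseChange S') := by
  have : IsLocalizedModule T ((g.baseChange S').restrictScalars S) := by
    have e : (g.baseChange S').restrictScalars S =
      (TensorProduct.comm S Mq S').toLinearMap ∘ₗ
        ((AlgebraTensorModule.rTensor S S' g) ∘ₗ (TensorProduct.comm S S' M).toLinearMap) := by
      ext; simp
    rw [e]
    infer_instance
  exact IsLocalizedModule.of_restrictScalars T _

/-- Let `R → S` be a ring map, `J ⊆ S` an ideal, `M` an `S`-module, `I ⊆ R` an ideal, `R → R'` a ring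
map and `I' ⊇ IR'`; put `S' = S ⊗_R R'`, `M' = M ⊗_R R'`. If `M_𝔮` is flat over `R` for all primes
`𝔮 ⊇ IS + J` of `S`, then `M'_{𝔮'}` is flat over `R'` for all primes `𝔮' ⊇ I'S' + JS'` of `S'`. (The
published statement passes from an arbitrary pair `(R', I')` over `R` to a further pair `(R'',
I'')`; this row takes the first pair to be `(R, I)`.) -/
theorem result {R S R' S' : Type u} [CommRing R] [CommRing S] [CommRing R'] [CommRing S']
    [Algebra R S] [Algebra R R'] [Algebra S S'] [Algebra R' S'] [Algebra R S'] [IsScalarTower R S S']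
    [IsScalarTower R R' S'] [Algebra.IsPushout R S R' S']
    (I : Ideal R) (I' : Ideal R') (hII' : I.map (algebraMap R R') ≤ I')
    {M M' : Type u} [AddCommGroup M] [Module S M] [Module R M] [IsScalarTower R S M]
    [AddCommGroup M'] [Module S' M'] [Module R' M'] [IsScalarTower R' S' M'] [Module S M'] [IsScalarTower S S' M']
    (f : M →ₗ[S] M') (hf : IsBaseChange S' f) (J : Ideal S)
    (h : (∀ (q : Ideal S) [q.IsPrime], I.map (algebraMap R S) ⊔ J ≤ q → FlatCA.FlatAt R q M)) :
    (∀ (q : Ideal S') [q.IsPrime], I'.map (algebraMap R' S') ⊔ J.map (algebraMap S S') ≤ q → FlatCA.FlatAt R' q M') := by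
  intro q' hq'prime hq'
  unfold FlatCA.FlatAt
  set q : Ideal S := q'.comap (algebraMap S S') with hq
  have hqprime : q.IsPrime := Ideal.comap_isPrime _ _
  have hle : I.map (algebraMap R S) ⊔ J ≤ q := by
    refine sup_le ?_ ?_
    · rw [Ideal.map_le_iff_le_comap]
      intro r hr
      rw [Ideal.mem_comap, hq, Ideal.mem_comap, ← IsScalarTower.algebraMap_apply,
        IsScalarTower.algebraMap_apply R R' S']
      exact hq' (Ideal.mem_sup_left (Ideal.mem_map_of_mem _ (hII' (Ideal.mem_map_of_mem _ hr))))
    · intro s hs
      rw [hq, Ideal.mem_comap]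
      exact hq' (Ideal.mem_sup_right (Ideal.mem_map_of_mem _ hs))
  have hflat : Module.Flat R (LocalizedModule q.primeCompl M) := h q hle
  let T : Submonoid S := q.primeCompl
  let T' : Submonoid S' := Algebra.algebraMapSubmonoid S' T
  have hT' : T' ≤ q'.primeCompl := by
    rintro _ ⟨t, ht, rfl⟩
    exact ht
  let g : M →ₗ[S] LocalizedModule T M := LocalizedModule.mkLinearMap T M
  let f₁ : M' →ₗ[S'] S' ⊗[S] LocalizedModule T M := (g.baseChange S') ∘ₗ hf.equiv.symm.toLinearMap
  have i1 : IsLocalizedModule T' (g.baseChange S') := isLocalizedModule_baseChange T g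
  have i2 : IsLocalizedModule T' f₁ := inferInstance
  let ψ := IsLocalizedModule.liftOfLE T' q'.primeCompl hT' f₁
    (LocalizedModule.mkLinearMap q'.primeCompl M')
  have i3 : IsLocalizedModule q'.primeCompl ψ := inferInstance
  have i4 : Algebra.IsPushout R R' S S' := Algebra.IsPushout.symm inferInstance
  have hX : Module.Flat R' (S' ⊗[S] LocalizedModule T M) :=
    Module.Flat.of_linearEquiv (Algebra.IsPushout.cancelBaseChange R R' S S' (LocalizedModule T M))
  exact flat_of_isLocalizedModule q'.primeCompl ψ

end Groth.Agent.S6918
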