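import Groth.Statements.S4853
import Mathlib
import Groth.Agent.Lib.Helper63.FlatNilp

set_option autoImplicit false
universe u
open TensorProduct
open EGA43

namespace Groth.Agent.S4853

open Groth.Agent.Lib.Helper63.FlatNilp
section
variable {A : Type u} [CommRing A] {M : Type u} [AddCommGroup M] [Module A M] (J : Ideal A)

theorem exists_tmul_eq (z : (A ⧸ J) ⊗[A] M) : ∃ m : M, (1 : A ⧸ J) ⊗ₜ[A] m = z := by
  induction z using TensorProduct.induction_on with
  | zero => exact ⟨0, by simp⟩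
  | tmul a m =>
    obtain ⟨a, rfl⟩ := Ideal.Quotient.mk_surjective a
    refine ⟨a • m, ?_⟩
    rw [TensorProduct.tmul_smul, TensorProduct.smul_tmul']
    congr 1
    rw [← Ideal.Quotient.algebraMap_eq, Algebra.algebraMap_eq_smul_one]
  | add x y hx hy =>
    obtain ⟨m1, rfl⟩ := hx
    obtain ⟨m2, rfl⟩ := hy
    exact ⟨m1 + m2, TensorProduct.tmul_add _ _ _⟩

variable {J} {ι : Type u} (b : Module.Basis ι (A ⧸ J) ((A ⧸ J) ⊗[A] M)) (e : ι → M)
  (he : ∀ i, (1 : A ⧸ J) ⊗ₜ[A] e i = b i)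

include he in
theorem linearCombination_surjective (hJ : IsNilpotent J) :
    Function.Surjective (Finsupp.linearCombination A e) := by
  rw [← LinearMap.range_eq_top]
  refine eq_top_of_sup_smul_top J hJ _ ?_
  rw [eq_top_iff]
  intro m _
  let c := b.repr ((1 : A ⧸ J) ⊗ₜ[A] m)
  obtain ⟨a, ha⟩ := Finsupp.mapRange_surjective (Ideal.Quotient.mk J) (map_zero _)
    Ideal.Quotient.mk_surjective c
  let x := Finsupp.linearCombination A e a
  have h1 : (1 : A ⧸ J) ⊗ₜ[A] x = (1 : A ⧸ J) ⊗ₜ[A] m := by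
    have h2 : (1 : A ⧸ J) ⊗ₜ[A] x = (TensorProduct.mk A (A ⧸ J) M 1) x := rfl
    rw [h2, Finsupp.apply_linearCombination]
    rw [← b.linearCombination_repr ((1 : A ⧸ J) ⊗ₜ[A] m)]
    show _ = Finsupp.linearCombination (A ⧸ J) b c
    rw [← ha, Finsupp.linearCombination_apply, Finsupp.linearCombination_apply,
      Finsupp.sum_mapRange_index (by intro i; exact zero_smul _ _)]
    refine Finsupp.sum_congr ?_
    intro i _
    simp only [Function.comp_apply, TensorProduct.mk_apply, he]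
    rw [← Ideal.Quotient.algebraMap_eq, algebraMap_smul]
  have h3 : m - x ∈ J • (⊤ : Submodule A M) := by
    have h4 : (1 : A ⧸ J) ⊗ₜ[A] (m - x) = 0 := by rw [TensorProduct.tmul_sub, h1, sub_self]
    have h5 := congrArg (TensorProduct.quotTensorEquivQuotSMul M J) h4
    rw [TensorProduct.quotTensorEquivQuotSMul_mk_one_tmul, map_zero,
      Submodule.Quotient.mk_eq_zero] at h5
    exact h5
  have : m = x + (m - x) := by abel
  rw [this]
  exact Submodule.add_mem_sup (LinearMap.mem_range_self _ a) h3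

theorem lTensor_ker_exact {N : Type u} [AddCommGroup N] [Module A N] (A' : Type u)
    [CommRing A'] [Algebra A A'] (g : N →ₗ[A] M) (hg : Function.Surjective g) :
    Function.Exact (LinearMap.lTensor A' (LinearMap.ker g).subtype) (LinearMap.lTensor A' g) :=
  lTensor_exact A' (LinearMap.exact_subtype_ker_map g) hg

theorem free_of_coeff_eq_zero
    (hsurj : Function.Surjective (Finsupp.linearCombination A e))
    (A' : Type u) [CommRing A'] [Algebra A A']
    (h : ∀ x ∈ LinearMap.ker (Finsupp.linearCombination A e), ∀ i, algebraMap A A' (x i) = 0) :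
    Module.Free A' (A' ⊗[A] M) := by
  classical
  let π := Finsupp.linearCombination A e
  let π' : A' ⊗[A] (ι →₀ A) →ₗ[A'] A' ⊗[A] M := LinearMap.baseChange A' π
  have hs : Function.Surjective π' := LinearMap.lTensor_surjective A' hsurj
  have hex : Function.Exact (LinearMap.lTensor A' (LinearMap.ker π).subtype)
      (LinearMap.lTensor A' π) :=
    lTensor_ker_exact A' π hsurj
  have hzero : LinearMap.lTensor A' (LinearMap.ker π).subtype = 0 := by
    apply TensorProduct.ext'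
    intro a' k
    simp only [LinearMap.lTensor_tmul, LinearMap.zero_apply, Submodule.subtype_apply]
    rw [← Finsupp.sum_single (k : ι →₀ A), Finsupp.sum, TensorProduct.tmul_sum]
    refine Finset.sum_eq_zero ?_
    intro i _
    rw [← Finsupp.smul_single_one, TensorProduct.tmul_smul, TensorProduct.smul_tmul',
      Algebra.smul_def, h k k.2 i, zero_mul, TensorProduct.zero_tmul]
  have hi : Function.Injective π' := by
    rw [← LinearMap.ker_eq_bot, eq_bot_iff]
    intro z hz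
    have hz' : (LinearMap.lTensor A' π) z = 0 := hz
    obtain ⟨w, hw⟩ := (hex z).mp hz'
    rw [hzero] at hw
    rw [Submodule.mem_bot, ← hw]
    rfl
  exact Module.Free.of_equiv (LinearEquiv.ofBijective π' ⟨hi, hs⟩)

include he in
theorem coeff_eq_zero_of_flat (hJ : IsNilpotent J)
    (hsurj : Function.Surjective (Finsupp.linearCombination A e))
    (A' : Type u) [CommRing A'] [Algebra A A'] [Module.Flat A' (A' ⊗[A] M)] :
    ∀ x ∈ LinearMap.ker (Finsupp.linearCombination A e), ∀ i, algebraMap A A' (x i) = 0 := by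
  classical
  let π := Finsupp.linearCombination A e
  let π' : A' ⊗[A] (ι →₀ A) →ₗ[A'] A' ⊗[A] M := LinearMap.baseChange A' π
  have hs : Function.Surjective π' := LinearMap.lTensor_surjective A' hsurj
  let J' : Ideal A' := J.map (algebraMap A A')
  have hJ' : IsNilpotent J' := by
    obtain ⟨n, hn⟩ := hJ
    refine ⟨n, ?_⟩
    rw [← Ideal.map_pow, hn, Ideal.zero_eq_bot, Ideal.map_bot]
    rfl
  let _ : Algebra (A ⧸ J) (A' ⧸ J') :=
    (Ideal.quotientMap J' (algebraMap A A') Ideal.le_comap_map).toAlgebra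
  have : IsScalarTower A (A ⧸ J) (A' ⧸ J') := IsScalarTower.of_algebraMap_eq (fun a => rfl)
  let b' : Module.Basis ι (A' ⧸ J') ((A' ⧸ J') ⊗[A ⧸ J] ((A ⧸ J) ⊗[A] M)) :=
    Algebra.TensorProduct.basis (A' ⧸ J') b
  let E₁ : (A' ⧸ J') ⊗[A ⧸ J] ((A ⧸ J) ⊗[A] M) ≃ₗ[A' ⧸ J'] (A' ⧸ J') ⊗[A] M :=
    AlgebraTensorModule.cancelBaseChange A (A ⧸ J) (A' ⧸ J') (A' ⧸ J') M
  let E₂ : (A' ⧸ J') ⊗[A'] (A' ⊗[A] M) ≃ₗ[A' ⧸ J'] (A' ⧸ J') ⊗[A] M :=
    AlgebraTensorModule.cancelBaseChange A A' (A' ⧸ J') (A' ⧸ J') M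
  let B₂ : Module.Basis ι (A' ⧸ J') ((A' ⧸ J') ⊗[A'] (A' ⊗[A] M)) := b'.map (E₁ ≪≫ₗ E₂.symm)
  have hB₂ : ∀ i, B₂ i = (1 : A' ⧸ J') ⊗ₜ[A'] ((1 : A') ⊗ₜ[A] e i) := by
    intro i
    simp only [B₂, b', Module.Basis.map_apply, Algebra.TensorProduct.basis_apply, ← he,
      LinearEquiv.trans_apply, E₁, E₂, AlgebraTensorModule.cancelBaseChange_tmul, one_smul,
      AlgebraTensorModule.cancelBaseChange_symm_tmul]
  let B₁ : Module.Basis ι (A' ⧸ J') ((A' ⧸ J') ⊗[A'] (A' ⊗[A] (ι →₀ A))) :=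
    Algebra.TensorProduct.basis (A' ⧸ J')
      (Algebra.TensorProduct.basis A' (Finsupp.basisSingleOne (R := A) (ι := ι)))
  let π'' : (A' ⧸ J') ⊗[A'] (A' ⊗[A] (ι →₀ A)) →ₗ[A' ⧸ J'] (A' ⧸ J') ⊗[A'] (A' ⊗[A] M) :=
    LinearMap.baseChange (A' ⧸ J') π'
  have hπ'' : π'' = (B₁.equiv B₂ (Equiv.refl ι)).toLinearMap := by
    refine B₁.ext ?_
    intro i
    rw [LinearEquiv.coe_coe, Module.Basis.equiv_apply, Equiv.refl_apply, hB₂]
    simp only [B₁, π'', π', π, Algebra.TensorProduct.basis_apply, LinearMap.baseChange_tmul,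
      Finsupp.coe_basisSingleOne, Finsupp.linearCombination_single, one_smul]
  have hinj'' : Function.Injective (π'.lTensor (A' ⧸ J')) := by
    have h1 : Function.Injective π'' := by
      rw [hπ'']
      exact (B₁.equiv B₂ (Equiv.refl ι)).injective
    exact h1
  have hinj' : Function.Injective π' :=
    injective_of_flat_of_lTensor_injective J' hJ' π' hs hinj''
  intro x hx i
  have h1 : π' ((1 : A') ⊗ₜ[A] x) = 0 := by
    simp only [π', LinearMap.baseChange_tmul]
    have : π x = 0 := hx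
    rw [this, TensorProduct.tmul_zero]
  have h2 : (1 : A') ⊗ₜ[A] x = 0 := hinj' (by rw [h1, map_zero])
  have h3 := congrArg (fun z => (Algebra.TensorProduct.basis A'
    (Finsupp.basisSingleOne (R := A) (ι := ι))).repr z i) h2
  simp only [Algebra.TensorProduct.basis_repr_tmul, Finsupp.basisSingleOne_repr,
    LinearEquiv.refl_apply, one_smul, Finsupp.mapRange_apply, map_zero,
    Finsupp.coe_zero, Pi.zero_apply] at h3
  exact h3

end

/-- Let A be a commutative ring and M an A-module such that (A/J) ⊗_A M is free over A/J for some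
nilpotent ideal J of A. Then among the ideals R of A such that (A/R) ⊗_A M is free over A/R there is
a least one, R₀, which is also the least ideal R such that (A/R) ⊗_A M is flat over A/R; and for
every commutative A-algebra A', the module A' ⊗_A M is free over A' if and only if it is flat over
A', if and only if R₀ generates the zero ideal of A'. -/
theorem result {A : Type u} [CommRing A]
    (M : Type u) [AddCommGroup M] [Module A M]
    (J : Ideal A) (hJ : IsNilpotent J) (hfree : Module.Free (A ⧸ J) ((A ⧸ J) ⊗[A] M)) :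
    ∃ R₀ : Ideal A,
      IsLeast {R : Ideal A | Module.Free (A ⧸ R) ((A ⧸ R) ⊗[A] M)} R₀ ∧
      IsLeast {R : Ideal A | Module.Flat (A ⧸ R) ((A ⧸ R) ⊗[A] M)} R₀ ∧
      ∀ (A' : Type u) [CommRing A'] [Algebra A A'],
        (Module.Free A' (A' ⊗[A] M) ↔ Ideal.map (algebraMap A A') R₀ = ⊥) ∧
        (Module.Flat A' (A' ⊗[A] M) ↔ Ideal.map (algebraMap A A') R₀ = ⊥) := by
  classical
  let ι := Module.Free.ChooseBasisIndex (A ⧸ J) ((A ⧸ J) ⊗[A] M)
  let b : Module.Basis ι (A ⧸ J) ((A ⧸ J) ⊗[A] M) := Module.Free.chooseBasis _ _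
  choose e he using fun i => exists_tmul_eq J (b i)
  have hsurj := linearCombination_surjective b e he hJ
  let K := LinearMap.ker (Finsupp.linearCombination A e)
  let R₀ : Ideal A := Ideal.span {a | ∃ x ∈ K, ∃ i, x i = a}
  have hmap : ∀ (A' : Type u) [CommRing A'] [Algebra A A'],
      Ideal.map (algebraMap A A') R₀ = ⊥ ↔ ∀ x ∈ K, ∀ i, algebraMap A A' (x i) = 0 := by
    intro A' _ _
    rw [Ideal.map_span, Ideal.span_eq_bot]
    constructor
    · intro h x hx i
      exact h _ ⟨x i, ⟨x, hx, i, rfl⟩, rfl⟩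
    · rintro h _ ⟨a, ⟨x, hx, i, rfl⟩, rfl⟩
      exact h x hx i
  have key : ∀ (A' : Type u) [CommRing A'] [Algebra A A'],
      (Module.Free A' (A' ⊗[A] M) ↔ Ideal.map (algebraMap A A') R₀ = ⊥) ∧
      (Module.Flat A' (A' ⊗[A] M) ↔ Ideal.map (algebraMap A A') R₀ = ⊥) := by
    intro A' _ _
    have h1 : Ideal.map (algebraMap A A') R₀ = ⊥ → Module.Free A' (A' ⊗[A] M) := fun h =>
      free_of_coeff_eq_zero e hsurj A' ((hmap A').mp h)
    have h2 : Module.Flat A' (A' ⊗[A] M) → Ideal.map (algebraMap A A') R₀ = ⊥ := fun hfl =>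
      (hmap A').mpr (coeff_eq_zero_of_flat b e he hJ hsurj A')
    refine ⟨⟨fun hfr => h2 inferInstance, h1⟩, ⟨h2, fun h => ?_⟩⟩
    have := h1 h
    infer_instance
  have hquot : ∀ R : Ideal A, Ideal.map (algebraMap A (A ⧸ R)) R₀ = ⊥ ↔ R₀ ≤ R := by
    intro R
    rw [Ideal.map_eq_bot_iff_le_ker, Ideal.Quotient.algebraMap_eq, Ideal.mk_ker]
  refine ⟨R₀, ⟨?_, ?_⟩, ⟨?_, ?_⟩, key⟩
  · exact ((key (A ⧸ R₀)).1).mpr ((hquot R₀).mpr le_rfl)
  · intro R hR
    exact (hquot R).mp (((key (A ⧸ R)).1).mp hR)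
  · exact ((key (A ⧸ R₀)).2).mpr ((hquot R₀).mpr le_rfl)
  · intro R hR
    exact (hquot R).mp (((key (A ⧸ R)).2).mp hR)

end Groth.Agent.S4853
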