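import Groth.Statements.S6926
import Mathlib
import Groth.Agent.S6918
import Groth.Agent.S4853
import Groth.Agent.Lib.Helper63.FlatRel

set_option autoImplicit false
universe u
open TensorProduct
open FlatMor

namespace Groth.Agent.S6926

theorem flat_quot_of_forall_flat {R' S' : Type u} [CommRing R'] [CommRing S'] [Algebra R' S']
    {M' N' : Type u} [AddCommGroup M'] [Module S' M'] [Module R' M'] [IsScalarTower R' S' M']
    [AddCommGroup N'] [Module S' N'] [Module R' N'] [IsScalarTower R' S' N']
    (J' : Ideal R')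
    (h : ∀ (𝔫 : Ideal S') [𝔫.IsMaximal], J'.map (algebraMap R' S') ≤ 𝔫 →
      Module.Flat R' (LocalizedModule 𝔫.primeCompl M'))
    (T' : Submonoid S') (g : M' →ₗ[S'] N') [IsLocalizedModule T' g] :
    Module.Flat (R' ⧸ J') ((R' ⧸ J') ⊗[R'] N') := by
  refine Groth.Agent.Lib.Helper63.FlatRel.flat_of_sub_inj N' J' (fun A => ?_)
  have h1 : Function.Injective (AlgebraTensorModule.lTensor S' M' A.subtype) := by
    refine injective_of_isLocalized_maximal
      (fun P _ => LocalizedModule P.primeCompl M' ⊗[R'] A)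
      (fun P _ => AlgebraTensorModule.rTensor R' A (LocalizedModule.mkLinearMap P.primeCompl M'))
      (fun P _ => LocalizedModule P.primeCompl M' ⊗[R'] (R' ⧸ J'))
      (fun P _ => AlgebraTensorModule.rTensor R' (R' ⧸ J')
        (LocalizedModule.mkLinearMap P.primeCompl M'))
      _ ?_
    intro P hP
    rw [IsLocalizedModule.map_lTensor]
    by_cases hJ : J'.map (algebraMap R' S') ≤ P
    · have := h P hJ
      exact Module.Flat.lTensor_preserves_injective_linearMap _ A.injective_subtype
    · have hsub : Subsingleton (LocalizedModule P.primeCompl M' ⊗[R'] A) := by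
        rw [Ideal.map_le_iff_le_comap] at hJ
        obtain ⟨j, hj, hjP⟩ := Set.not_subset.mp hJ
        have hs : algebraMap R' S' j ∈ P.primeCompl := hjP
        have hu := IsLocalizedModule.map_units (LocalizedModule.mkLinearMap P.primeCompl M')
          ⟨algebraMap R' S' j, hs⟩
        have hsurj := ((Module.End.isUnit_iff _).mp hu).surjective
        refine ⟨fun a b => ?_⟩
        have key : ∀ z : LocalizedModule P.primeCompl M' ⊗[R'] A, z = 0 := by
          intro z
          induction z using TensorProduct.induction_on with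
          | zero => rfl
          | tmul x a =>
            obtain ⟨y, rfl⟩ := hsurj x
            rw [Module.algebraMap_end_apply]
            change ((algebraMap R' S' j) • y) ⊗ₜ[R'] a = 0
            rw [algebraMap_smul, TensorProduct.smul_tmul]
            have : j • a = 0 := by
              apply Subtype.ext
              rw [Submodule.coe_smul, Submodule.coe_zero]
              exact @Groth.Agent.Lib.Helper63.FlatRel.isTorsionBySet_quotient R' _ J' a.1 ⟨j, hj⟩
            rw [this, TensorProduct.tmul_zero]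
          | add x y hx hy => rw [hx, hy, add_zero]
        rw [key a, key b]
      exact Function.injective_of_subsingleton _
  have h2 : Function.Injective (AlgebraTensorModule.lTensor S' N' A.subtype) := by
    rw [← IsLocalizedModule.map_lTensor (S := T') (f := A.subtype) (g := g)]
    exact IsLocalizedModule.map_injective _ _ _ _ h1
  exact h2

theorem flat_quot_tensor_localized {R S R' S' : Type u} [CommRing R] [CommRing S] [CommRing R']
    [CommRing S']
    [Algebra R S] [Algebra R R'] [Algebra S S'] [Algebra R' S'] [Algebra R S'] [IsScalarTower R S S']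
    [IsScalarTower R R' S'] [Algebra.IsPushout R S R' S']
    {M M' : Type u} [AddCommGroup M] [Module S M] [Module R M] [IsScalarTower R S M]
    [AddCommGroup M'] [Module S' M'] [Module R' M'] [IsScalarTower R' S' M'] [Module S M']
    [IsScalarTower S S' M']
    (f : M →ₗ[S] M') (hf : IsBaseChange S' f) (J' : Ideal R')
    (h : ∀ (𝔫 : Ideal S') [𝔫.IsMaximal], J'.map (algebraMap R' S') ≤ 𝔫 →
      Module.Flat R' (LocalizedModule 𝔫.primeCompl M'))
    (T : Submonoid S) :
    Module.Flat (R' ⧸ J') ((R' ⧸ J') ⊗[R] LocalizedModule T M) := by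
  let T' : Submonoid S' := Algebra.algebraMapSubmonoid S' T
  let g : M →ₗ[S] LocalizedModule T M := LocalizedModule.mkLinearMap T M
  let f₁ : M' →ₗ[S'] S' ⊗[S] LocalizedModule T M :=
    (g.baseChange S') ∘ₗ hf.equiv.symm.toLinearMap
  have i1 : IsLocalizedModule T' (g.baseChange S') :=
    Groth.Agent.S6918.isLocalizedModule_baseChange T g
  have i2 : IsLocalizedModule T' f₁ := inferInstance
  have h1 : Module.Flat (R' ⧸ J') ((R' ⧸ J') ⊗[R'] (S' ⊗[S] LocalizedModule T M)) :=
    flat_quot_of_forall_flat J' h T' f₁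
  have i4 : Algebra.IsPushout R R' S S' := Algebra.IsPushout.symm inferInstance
  let e1 : S' ⊗[S] LocalizedModule T M ≃ₗ[R'] R' ⊗[R] LocalizedModule T M :=
    Algebra.IsPushout.cancelBaseChange R R' S S' (LocalizedModule T M)
  let e2 : (R' ⧸ J') ⊗[R'] (S' ⊗[S] LocalizedModule T M) ≃ₗ[R' ⧸ J']
      (R' ⧸ J') ⊗[R'] (R' ⊗[R] LocalizedModule T M) :=
    AlgebraTensorModule.congr (LinearEquiv.refl _ _) e1
  let e3 := AlgebraTensorModule.cancelBaseChange R R' (R' ⧸ J') (R' ⧸ J') (LocalizedModule T M)
  exact Module.Flat.of_linearEquiv (e3.symm.trans e2.symm)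

theorem flat_quot_of_flat_of_ker {R : Type u} [CommRing R] [IsLocalRing R] (N : Type u)
    [AddCommGroup N] [Module R N] (n : ℕ) (hn : 1 ≤ n) (A' : Type u) [CommRing A'] [Algebra R A']
    (J : Ideal R) (hJ : J = RingHom.ker (algebraMap R A'))
    (hker : (IsLocalRing.maximalIdeal R) ^ n ≤ J)
    [Module.Flat A' (A' ⊗[R] N)] :
    Module.Flat (R ⧸ J) ((R ⧸ J) ⊗[R] N) := by
  subst hJ
  set m := IsLocalRing.maximalIdeal R with hm
  let A := R ⧸ m ^ n
  let X := A ⊗[R] N
  let JA : Ideal A := m.map (Ideal.Quotient.mk (m ^ n))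
  have hnil : IsNilpotent JA := by
    refine ⟨n, ?_⟩
    change JA ^ n = ⊥
    rw [← Ideal.map_pow, Ideal.map_quotient_self]
  have hmax : JA.IsMaximal := by
    rcases Ideal.map_eq_top_or_isMaximal_of_surjective (Ideal.Quotient.mk (m ^ n))
      Ideal.Quotient.mk_surjective (IsLocalRing.maximalIdeal.isMaximal R) with h | h
    · exfalso
      have h1 : (m.map (Ideal.Quotient.mk (m ^ n))).comap (Ideal.Quotient.mk (m ^ n)) = ⊤ := by
        rw [h, Ideal.comap_top]
      rw [Ideal.comap_map_of_surjective _ Ideal.Quotient.mk_surjective, ← RingHom.ker_eq_comap_bot,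
        Ideal.mk_ker, sup_eq_left.mpr (Ideal.pow_le_self (by lia))] at h1
      exact (IsLocalRing.maximalIdeal.isMaximal R).ne_top h1
    · exact h
  let fld : Field (A ⧸ JA) := Ideal.Quotient.field JA
  have hfree : Module.Free (A ⧸ JA) ((A ⧸ JA) ⊗[A] X) := inferInstance
  obtain ⟨R₀, -, -, hA'⟩ := Groth.Agent.S4853.result X JA hnil hfree
  set J := RingHom.ker (algebraMap R A') with hJdef
  let alg1 : Algebra A (R ⧸ J) := (Ideal.Quotient.factor hker).toAlgebra
  have tower1 : IsScalarTower R A (R ⧸ J) := IsScalarTower.of_algebraMap_eq (fun r => rfl)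
  let alg2 : Algebra A A' := (Ideal.Quotient.lift (m ^ n) (algebraMap R A')
    (fun a ha => hker ha)).toAlgebra
  have tower2 : IsScalarTower R A A' := IsScalarTower.of_algebraMap_eq (fun r => rfl)
  have hflat' : Module.Flat A' (A' ⊗[A] X) :=
    Module.Flat.of_linearEquiv (AlgebraTensorModule.cancelBaseChange R A A' A' N)
  have h0 : R₀.map (algebraMap A A') = ⊥ := (hA' A').2.mp hflat'
  have h1 : R₀.map (algebraMap A (R ⧸ J)) = ⊥ := by
    rw [Ideal.map_eq_bot_iff_le_ker] at h0 ⊢
    intro x hx
    have hx0 := h0 hx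
    rw [RingHom.mem_ker] at hx0 ⊢
    apply RingHom.kerLift_injective (algebraMap R A')
    rw [map_zero, ← hx0]
    obtain ⟨r, rfl⟩ := Ideal.Quotient.mk_surjective x
    rfl
  have h2 : Module.Flat (R ⧸ J) ((R ⧸ J) ⊗[A] X) := (hA' (R ⧸ J)).2.mpr h1
  exact Module.Flat.of_linearEquiv (AlgebraTensorModule.cancelBaseChange R A (R ⧸ J) (R ⧸ J) N).symm

theorem flatAt_of_flat_tensor {R S R' S' : Type u} [CommRing R] [CommRing S] [CommRing R']
    [CommRing S']
    [Algebra R S] [Algebra R R'] [Algebra S S'] [Algebra R' S'] [Algebra R S'] [IsScalarTower R S S']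
    [IsScalarTower R R' S'] [Algebra.IsPushout R S R' S']
    {M M' : Type u} [AddCommGroup M] [Module S M] [Module R M] [IsScalarTower R S M]
    [AddCommGroup M'] [Module S' M'] [Module R' M'] [IsScalarTower R' S' M'] [Module S M']
    [IsScalarTower S S' M']
    (f : M →ₗ[S] M') (hf : IsBaseChange S' f) (q' : Ideal S') [q'.IsPrime]
    (hflat : Module.Flat R' (R' ⊗[R] LocalizedModule (q'.comap (algebraMap S S')).primeCompl M)) :
    Module.Flat R' (LocalizedModule q'.primeCompl M') := by
  set q : Ideal S := q'.comap (algebraMap S S') with hq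
  let T : Submonoid S := q.primeCompl
  let T' : Submonoid S' := Algebra.algebraMapSubmonoid S' T
  have hT' : T' ≤ q'.primeCompl := by
    rintro _ ⟨t, ht, rfl⟩
    exact ht
  let g : M →ₗ[S] LocalizedModule T M := LocalizedModule.mkLinearMap T M
  let f₁ : M' →ₗ[S'] S' ⊗[S] LocalizedModule T M := (g.baseChange S') ∘ₗ hf.equiv.symm.toLinearMap
  have i1 : IsLocalizedModule T' (g.baseChange S') :=
    Groth.Agent.S6918.isLocalizedModule_baseChange T g
  have i2 : IsLocalizedModule T' f₁ := inferInstance
  let ψ := IsLocalizedModule.liftOfLE T' q'.primeCompl hT' f₁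
    (LocalizedModule.mkLinearMap q'.primeCompl M')
  have i3 : IsLocalizedModule q'.primeCompl ψ := inferInstance
  have i4 : Algebra.IsPushout R R' S S' := Algebra.IsPushout.symm inferInstance
  have hX : Module.Flat R' (S' ⊗[S] LocalizedModule T M) :=
    Module.Flat.of_linearEquiv (Algebra.IsPushout.cancelBaseChange R R' S S' (LocalizedModule T M))
  exact Groth.Agent.S6918.flat_of_isLocalizedModule q'.primeCompl ψ

theorem comap_eq_maximalIdeal {R S R' S' : Type u} [CommRing R] [IsLocalRing R] [CommRing S]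
    [CommRing R'] [IsLocalRing R'] [CommRing S']
    [Algebra R S] [Algebra R R'] [IsLocalHom (algebraMap R R')] [Algebra S S'] [Algebra R' S']
    [Algebra R S'] [IsScalarTower R S S'] [IsScalarTower R R' S']
    (q' : Ideal S') (hq' : q'.comap (algebraMap R' S') = IsLocalRing.maximalIdeal R') :
    (q'.comap (algebraMap S S')).comap (algebraMap R S) = IsLocalRing.maximalIdeal R := by
  rw [Ideal.comap_comap, ← IsScalarTower.algebraMap_eq, IsScalarTower.algebraMap_eq R R' S',
    ← Ideal.comap_comap, hq']
  have hloc : IsLocalHom (algebraMap R R') := inferInstance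
  exact ((IsLocalRing.local_hom_TFAE (algebraMap R R')).out 0 4).mp hloc

/-- Let `(R, 𝔪)` be a complete Noetherian local ring, `R → S` with `S` Noetherian, `M` a finite
`S`-module, and `I ⊆ 𝔪` the least ideal with the property that, at each prime `𝔮` of `S` lying above
`𝔪`, the localization `(M/IM)_𝔮` is an `R/I`-flat module. Let `φ : R → R'` be a local homomorphism
to a Noetherian local ring `(R', 𝔪')`, `S' = S ⊗_R R'`, `M' = M ⊗_R R'`. Then `M'_{𝔮'}` is flat over
`R'` for every prime `𝔮'` of `S'` lying over `𝔪'` if and only if `φ(I) = 0`. -/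
theorem result {R S R' S' : Type u} [CommRing R] [IsLocalRing R]
    [IsNoetherianRing R] [IsAdicComplete (IsLocalRing.maximalIdeal R) R] [CommRing S] [IsNoetherianRing S]
    [CommRing R'] [IsLocalRing R'] [IsNoetherianRing R'] [CommRing S']
    [Algebra R S] [Algebra R R'] [IsLocalHom (algebraMap R R')] [Algebra S S'] [Algebra R' S'] [Algebra R S']
    [IsScalarTower R S S'] [IsScalarTower R R' S'] [Algebra.IsPushout R S R' S']
    {M M' : Type u} [AddCommGroup M] [Module S M] [Module R M] [IsScalarTower R S M] [Module.Finite S M]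
    [AddCommGroup M'] [Module S' M'] [Module R' M'] [IsScalarTower R' S' M'] [Module S M'] [IsScalarTower S S' M']
    (f : M →ₗ[S] M') (hf : IsBaseChange S' f) (I : Ideal R) (hIm : I ≤ IsLocalRing.maximalIdeal R)
    (hI : (∀ (q : Ideal S) [q.IsPrime], q.comap (algebraMap R S) = IsLocalRing.maximalIdeal R →
        Module.Flat (R ⧸ I) ((R ⧸ I) ⊗[R] LocalizedModule q.primeCompl M)))
    (hmin : ∀ J : Ideal R, (∀ (q : Ideal S) [q.IsPrime], q.comap (algebraMap R S) = IsLocalRing.maximalIdeal R →
        Module.Flat (R ⧸ J) ((R ⧸ J) ⊗[R] LocalizedModule q.primeCompl M)) → I ≤ J) :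
    (∀ (q' : Ideal S') [q'.IsPrime], q'.comap (algebraMap R' S') = IsLocalRing.maximalIdeal R' → FlatCA.FlatAt R' q' M') ↔
      I ≤ RingHom.ker (algebraMap R R') := by
  constructor
  · intro H x hx
    rw [RingHom.mem_ker]
    have hkrull : (⨅ i : ℕ, (IsLocalRing.maximalIdeal R') ^ i) = ⊥ :=
      Ideal.iInf_pow_eq_bot_of_isLocalRing _ (IsLocalRing.maximalIdeal.isMaximal R').ne_top
    rw [← Ideal.mem_bot, ← hkrull, Ideal.mem_iInf]
    intro n
    rcases Nat.eq_zero_or_pos n with h0 | hn
    · subst h0
      rw [pow_zero, Ideal.one_eq_top]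
      trivial
    set m' := IsLocalRing.maximalIdeal R' with hm'
    let Jn : Ideal R := (m' ^ n).comap (algebraMap R R')
    have hmJ : (IsLocalRing.maximalIdeal R) ^ n ≤ Jn := by
      rw [← Ideal.map_le_iff_le_comap, Ideal.map_pow]
      refine Ideal.pow_right_mono ?_ n
      rw [Ideal.map_le_iff_le_comap]
      have hloc : IsLocalHom (algebraMap R R') := inferInstance
      exact ((IsLocalRing.local_hom_TFAE (algebraMap R R')).out 0 3).mp hloc
    have hmax : ∀ (𝔫 : Ideal S') [𝔫.IsMaximal], (m' ^ n).map (algebraMap R' S') ≤ 𝔫 →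
        Module.Flat R' (LocalizedModule 𝔫.primeCompl M') := by
      intro 𝔫 h𝔫 hle
      refine H 𝔫 ?_
      have hp : (𝔫.comap (algebraMap R' S')).IsPrime := Ideal.comap_isPrime _ _
      have h1 : m' ≤ 𝔫.comap (algebraMap R' S') :=
        hp.le_of_pow_le (Ideal.map_le_iff_le_comap.mp hle)
      exact ((IsLocalRing.maximalIdeal.isMaximal R').eq_of_le hp.ne_top h1).symm
    have hPP : ∀ (q : Ideal S) [q.IsPrime], q.comap (algebraMap R S) = IsLocalRing.maximalIdeal R →
        Module.Flat (R ⧸ Jn) ((R ⧸ Jn) ⊗[R] LocalizedModule q.primeCompl M) := by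
      intro q _ hq
      have hfl : Module.Flat (R' ⧸ m' ^ n) ((R' ⧸ m' ^ n) ⊗[R] LocalizedModule q.primeCompl M) :=
        flat_quot_tensor_localized (R := R) f hf (m' ^ n) hmax q.primeCompl
      refine flat_quot_of_flat_of_ker (LocalizedModule q.primeCompl M) n hn (R' ⧸ m' ^ n) Jn ?_ hmJ
      ext r
      rw [Ideal.mem_comap, RingHom.mem_ker, IsScalarTower.algebraMap_apply R R' (R' ⧸ m' ^ n),
        Ideal.Quotient.algebraMap_eq, Ideal.Quotient.eq_zero_iff_mem]
    exact hmin Jn hPP hx
  · intro hle q' _ hq'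
    unfold FlatCA.FlatAt
    refine flatAt_of_flat_tensor (R := R) f hf q' ?_
    set q : Ideal S := q'.comap (algebraMap S S') with hq
    have hqm : q.comap (algebraMap R S) = IsLocalRing.maximalIdeal R :=
      comap_eq_maximalIdeal q' hq'
    have hflat := hI q hqm
    let alg : Algebra (R ⧸ I) R' :=
      (Ideal.Quotient.lift I (algebraMap R R') (fun a ha => hle ha)).toAlgebra
    have tower : IsScalarTower R (R ⧸ I) R' := IsScalarTower.of_algebraMap_eq (fun r => rfl)
    have h1 : Module.Flat R' (R' ⊗[R ⧸ I] ((R ⧸ I) ⊗[R] LocalizedModule q.primeCompl M)) :=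
      inferInstance
    exact Module.Flat.of_linearEquiv
      (AlgebraTensorModule.cancelBaseChange R (R ⧸ I) R' R' (LocalizedModule q.primeCompl M)).symm

end Groth.Agent.S6926
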