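import Groth.Statements.S1963
-- import your own Groth.Agent.* helpers here
import Groth.Agent.Lib.Helper58.ValHens
import Groth.Agent.Lib.Helper87.IndEtaleHens

set_option autoImplicit false
universe u
open EtAlg

namespace Groth.Agent.S1963

open IsLocalRing in
/-- descent of the unit-multiple decomposition along a local injective map. -/
lemma descend_unit_mul {A V T : Type*} [CommRing A] [CommRing V] [CommRing T] [IsDomain T]
    [Algebra A V] [Algebra A T] [Algebra V T] [IsScalarTower A V T]
    [IsLocalHom (algebraMap V T)] (hdvd : ∀ s t : V, s ∣ t ∨ t ∣ s) (b : V) (a : A) (u' : Tˣ)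
    (h : algebraMap V T b = u' * algebraMap A T a) (hb : algebraMap V T b ≠ 0) :
    ∃ u : Vˣ, b = u * algebraMap A V a := by
  have haT : algebraMap V T (algebraMap A V a) ≠ 0 := by
    rw [← IsScalarTower.algebraMap_apply A V T]
    intro h0
    rw [h0, mul_zero] at h
    exact hb h
  rw [IsScalarTower.algebraMap_apply A V T] at h
  rcases hdvd b (algebraMap A V a) with ⟨c, hc⟩ | ⟨c, hc⟩
  · -- alg a = b * c
    have h1 := congrArg (algebraMap V T) hc
    rw [map_mul, h] at h1
    have h2 : (u' : T) * algebraMap V T c = 1 := by
      have : algebraMap V T (algebraMap A V a) * ((u' : T) * algebraMap V T c) =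
          algebraMap V T (algebraMap A V a) * 1 := by
        calc algebraMap V T (algebraMap A V a) * ((u' : T) * algebraMap V T c)
            = (u' : T) * algebraMap V T (algebraMap A V a) * algebraMap V T c := by ring
          _ = algebraMap V T (algebraMap A V a) := h1.symm
          _ = algebraMap V T (algebraMap A V a) * 1 := (mul_one _).symm
      exact mul_left_cancel₀ haT this
    have hcu : IsUnit c := by
      apply isUnit_of_map_unit (algebraMap V T)
      exact IsUnit.of_mul_eq_one _ (by rw [mul_comm]; exact h2)
    refine ⟨hcu.unit⁻¹, ?_⟩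
    rw [hc, mul_comm b c, ← mul_assoc, IsUnit.val_inv_mul hcu, one_mul]
  · -- b = alg a * c
    have h1 := congrArg (algebraMap V T) hc
    rw [map_mul, h] at h1
    have h2 : algebraMap V T c = u' := by
      have : algebraMap V T (algebraMap A V a) * algebraMap V T c =
          algebraMap V T (algebraMap A V a) * u' := by
        rw [← h1]; ring
      exact mul_left_cancel₀ haT this
    have hcu : IsUnit c := by
      apply isUnit_of_map_unit (algebraMap V T)
      rw [h2]; exact u'.isUnit
    refine ⟨hcu.unit, ?_⟩
    rw [hc, mul_comm]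
    rfl

open IsLocalRing Groth.Agent.Lib.Helper87.Hens in

/-- Let A be a valuation ring, B an etale A-algebra and m a prime of B lying over the maximal ideal of
A. Then the localization B_m is a valuation ring, the map A -> B_m is injective and local, and the
extension is weakly unramified: every nonzero element of B_m is a unit multiple of the image of an
element of A. -/
theorem result (A B : Type u) [CommRing A] [IsDomain A] [ValuationRing A]
    [CommRing B] [Algebra A B] [Algebra.Etale A B] (m : Ideal B) [m.IsPrime]
    (hm : m.comap (algebraMap A B) = IsLocalRing.maximalIdeal A) :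
    IsDomain (Localization.AtPrime m) ∧ (∀ _ : IsDomain (Localization.AtPrime m), ValuationRing (Localization.AtPrime m)) ∧
    Function.Injective (algebraMap A (Localization.AtPrime m)) ∧ IsLocalHom (algebraMap A (Localization.AtPrime m)) ∧
    ∀ b : Localization.AtPrime m, b ≠ 0 → ∃ (a : A) (u : (Localization.AtPrime m)ˣ),
      b = u * algebraMap A (Localization.AtPrime m) a := by
  set V := Localization.AtPrime m with hV
  haveI hdom : IsDomain V := Groth.Agent.Lib.Helper87.EtNormal.isDomain_localization A m
  haveI hloc : IsLocalHom (algebraMap A V) := by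
    constructor
    intro a ha
    by_contra hnu
    have h1 : a ∈ maximalIdeal A := hnu
    rw [← hm, Ideal.mem_comap] at h1
    have h2 : algebraMap B V (algebraMap A B a) ∈ maximalIdeal V :=
      (IsLocalization.AtPrime.to_map_mem_maximal_iff V m _).mpr h1
    rw [← IsScalarTower.algebraMap_apply A B V] at h2
    exact h2 ha
  haveI : Module.FaithfullyFlat A V := Module.FaithfullyFlat.of_flat_of_isLocalHom
  have hinj : Function.Injective (algebraMap A V) := FaithfulSMul.algebraMap_injective A V
  have hdvd : ∀ s t : V, s ∣ t ∨ t ∣ s := Groth.Agent.Lib.Helper58.ValEtale.dvd_total A V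
  -- the point
  let τ : ResidueField V →ₐ[ResidueField A] Ωs A := IsSepClosed.lift
  let ψ : B →ₐ[A] Ωs A :=
    (τ.restrictScalars A).comp
      ((IsScalarTower.toAlgHom A V (ResidueField V)).comp (IsScalarTower.toAlgHom A B V))
  have hψ : ∀ b, ψ b = τ (residue V (algebraMap B V b)) := fun b => rfl
  have hψ0 : ∀ b, ψ b = 0 ↔ b ∈ m := by
    intro b
    rw [hψ, map_eq_zero_iff τ τ.toRingHom.injective, residue_eq_zero_iff]
    exact IsLocalization.AtPrime.to_map_mem_maximal_iff V m b
  -- the lift to the strict henselization
  let T := Hsh A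
  haveI : IsSepClosure (ResidueField A) (Ωs A) := inferInstance
  obtain ⟨g, hg⟩ := Groth.Agent.Lib.Helper87.IndEt.exists_lift_etale (R := A) (T := T)
    (K := Ωs A) (H.ε : T →ₐ[A] Ωs A) H.ε_surjective H.ker_ε ψ
  have hgu : ∀ y : m.primeCompl, IsUnit (g (y : B)) := by
    intro y
    rw [H.isUnit_iff]
    have : H.ε (g (y : B)) = ψ (y : B) := DFunLike.congr_fun hg (y : B)
    rw [this, Ne, hψ0]
    exact y.2
  let ĝ : V →ₐ[A] T := IsLocalization.liftAlgHom (M := m.primeCompl) (f := g) hgu
  have hĝ : ∀ b, ĝ (algebraMap B V b) = g b := fun b => by simp [ĝ]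
  letI : Algebra V T := ĝ.toRingHom.toAlgebra
  haveI : IsScalarTower A V T := IsScalarTower.of_algebraMap_eq (fun a => (ĝ.commutes a).symm)
  have halg : ∀ x, algebraMap V T x = ĝ x := fun x => rfl
  haveI : IsLocalHom (algebraMap V T) := by
    constructor
    intro x hx
    by_contra hnu
    have hxm : x ∈ maximalIdeal V := hnu
    obtain ⟨b, t, rfl⟩ := IsLocalization.exists_mk'_eq m.primeCompl x
    rw [IsLocalization.AtPrime.mk'_mem_maximal_iff V m] at hxm
    have h1 : algebraMap V T (IsLocalization.mk' V b t) * algebraMap V T (algebraMap B V t) =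
        algebraMap V T (algebraMap B V b) := by
      rw [← map_mul, IsLocalization.mk'_spec]
    have h2 : IsUnit (algebraMap V T (algebraMap B V b)) := by
      rw [← h1]
      refine hx.mul ?_
      rw [halg, hĝ]
      exact hgu t
    rw [halg, hĝ, H.isUnit_iff] at h2
    have : H.ε (g b) = ψ b := DFunLike.congr_fun hg b
    rw [this, Ne, hψ0] at h2
    exact h2 hxm
  haveI : Module.Flat V T :=
    Groth.Agent.Lib.Helper58.ValEtale.flat_of_flat_of_unramified (A := A) (V := V) T
  haveI : Module.FaithfullyFlat V T := Module.FaithfullyFlat.of_flat_of_isLocalHom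
  have hinjT : Function.Injective (algebraMap V T) := FaithfulSMul.algebraMap_injective V T
  haveI : IsDomain T := H.isDomain
  haveI : Hensel.IsStrictHenselization A T := isStrictHenselization_Hsh A
  have hval : ∀ b : V, b ≠ 0 → ∃ (a : A) (u : Vˣ), b = u * algebraMap A V a := by
    intro b hb
    have hbT : algebraMap V T b ≠ 0 := fun h0 => hb (hinjT (by rw [h0, map_zero]))
    obtain ⟨a, u', hu'⟩ := Groth.Agent.Lib.Helper58.ValHens.strict_exists_unit_mul A T _ hbT
    obtain ⟨u, hu⟩ := descend_unit_mul (A := A) hdvd b a u' hu' hbT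
    exact ⟨a, u, hu⟩
  exact ⟨hdom, fun _ => Groth.Agent.Lib.Helper58.ValHens.valuationRing_of_exists_unit_mul A V hval,
    hinj, hloc, hval⟩

end Groth.Agent.S1963
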