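import Groth.Statements.S1850
import Groth.Agent.Lib.Helper29.BcM

set_option autoImplicit false
universe u
open CycAlg

namespace Groth.Agent.S1850

open CycAlg IsLocalRing Groth.Agent.Lib.Helper29 Groth.Agent.Lib.Helper29.Tame


/-- Let A → A' be a flat local homomorphism of Noetherian local rings of dimension 1 and m =
length_{A'}(A'/𝔪_A A'). For nonzerodivisors a₁, a₂ of A the image of ∂_A(a₁, a₂)^m in the residue
field of A' equals ∂_{A'}(a₁, a₂). -/
theorem result (A A' : Type u) [CommRing A] [CommRing A'] [IsNoetherianRing A] [IsNoetherianRing A'] [IsLocalRing A] [IsLocalRing A'] [Algebra A A'] [IsLocalHom (algebraMap A A')] [Module.Flat A A'] (hA : ringKrullDim A = 1) (hA' : ringKrullDim A' = 1) (a₁ a₂ : A) (h₁ : a₁ ∈ nonZeroDivisors A) (h₂ : a₂ ∈ nonZeroDivisors A) : IsLocalRing.ResidueField.map (algebraMap A A') (CycAlg.tameSymbol A a₁ a₂) ^ (Module.length A' (A' ⧸ Ideal.map (algebraMap A A') (IsLocalRing.maximalIdeal A))).toNat = CycAlg.tameSymbol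 A' (algebraMap A A' a₁) (algebraMap A A' a₂) := by
  by_cases hu : IsUnit a₁ ∧ IsUnit a₂
  · rw [Tame.tameSymbol_eq_one_of_isUnit hu.1 hu.2,
      Tame.tameSymbol_eq_one_of_isUnit (hu.1.map (algebraMap A A')) (hu.2.map (algebraMap A A')),
      map_one, one_pow]
  · haveI : Ring.KrullDimLE 1 A' := Groth.Agent.S6480.krullDimLE_one_of_eq hA'
    have hpow : ∃ N : ℕ, maximalIdeal A' ^ N ≤ (maximalIdeal A).map (algebraMap A A') := by
      by_cases hu1 : IsUnit a₁
      · exact Bc.exists_pow_le_map A' a₂ h₂ (fun h => hu ⟨hu1, h⟩)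
      · exact Bc.exists_pow_le_map A' a₁ h₁ hu1
    obtain ⟨B, iCR, iAlg, hB, π, hπ, hM⟩ := Tame.exists_common hA a₁ a₂ 1 h₁ h₂
      (one_mem _) (fun h => hu ⟨h.1, h.2.1⟩)
    exact Bc.main_of_data A' hA hA' h₁ h₂ hpow B hB
      (fun q => Mono.toLocFac (hπ q) (hM q).1.some (hM q).2.1.some)

end Groth.Agent.S1850
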