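import Groth.Statements.S1851
import Groth.Agent.Lib.Helper29.KeyR

set_option autoImplicit false
universe u
open CycAlg

namespace Groth.Agent.S1851

open IsLocalRing Groth.Agent.Lib.Helper29.Key


/-- The key lemma for nonzerodivisors; a low-degree case of the Gersten complex for Milnor K-theory: let
A be a Noetherian local ring of dimension 2 and a, b nonzerodivisors. Then the sum over the
height-one primes 𝔮 of A of ord_{A/𝔮}(∂_{A_𝔮}(a, b)) is zero, where ∂_{A_𝔮} is the tame symbol of
the one-dimensional local ring A_𝔮 with values in κ(𝔮) = Frac(A/𝔮) (only finitely many terms are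
nonzero). -/
theorem result (A : Type u) [CommRing A] [IsNoetherianRing A] [IsLocalRing A] (hA : ringKrullDim A = 2) (a b : A) (ha : a ∈ nonZeroDivisors A) (hb : b ∈ nonZeroDivisors A) : ∑ᶠ (q : PrimeSpectrum A) (_ : q.asIdeal.height = 1), CycAlg.ordFrac (A ⧸ q.asIdeal) q.asIdeal.ResidueField (CycAlg.tameSymbol (Localization.AtPrime q.asIdeal) (algebraMap A (Localization.AtPrime q.asIdeal) a) (algebraMap A (Localization.AtPrime q.asIdeal) b)) = 0 := by
  classical
  have ht : a * b ∈ nonZeroDivisors A := mul_mem ha hb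
  haveI : Finite (PP A (a * b)) := PP_finite hA.le ht
  haveI : Fintype (PP A (a * b)) := Fintype.ofFinite _
  -- local data at the height one primes containing `ab`
  have hL : ∀ q : PP A (a * b), Nonempty (LocData q.1 a b) :=
    fun q => exists_locData hA ha hb q.1 q.2.2.1 q.2.2.2
  let L : ∀ q : PP A (a * b), LocData q.1 a b := fun q => (hL q).some
  set E : ∀ q : PP A (a * b), Subalgebra (Localization.AtPrime q.1)
    (FractionRing (Localization.AtPrime q.1)) := fun q => (L q).E with hE
  set N₀ : ℕ := 1 + ∑ q : PP A (a * b), (L q).n with hN₀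
  have hcond : ∀ (q : PP A (a * b)) (y : E q), ∃ w : Localization.AtPrime q.1,
      algebraMap (Localization.AtPrime q.1) (FractionRing (Localization.AtPrime q.1)) w =
        iq q.1 (a * b) ^ N₀ * (y : FractionRing (Localization.AtPrime q.1)) := by
    intro q y
    obtain ⟨z, hz⟩ := (L q).hn y
    have hle : (L q).n ≤ N₀ := by
      rw [hN₀]
      exact (Finset.single_le_sum (f := fun q => (L q).n) (fun _ _ => Nat.zero_le _)
        (Finset.mem_univ q)).trans (Nat.le_add_left _ _)
    refine ⟨algebraMap A (Localization.AtPrime q.1) (a * b) ^ (N₀ - (L q).n) * z, ?_⟩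
    rw [map_mul, hz, map_pow, ← mul_assoc, ← pow_add, Nat.sub_add_cancel hle]
    rfl
  obtain ⟨c, hc⟩ := exists_pow_smul_mem ht E N₀ hcond (N₀ + N₀) (Nat.le_add_right _ _)
  haveI := isLocalRing_Bsub ht E N₀ c hc
  haveI := finite_Bsub ht E N₀ c hc
  have D : ∀ Q : PP (Bsub E N₀ c hc) (algebraMap A (Bsub E N₀ c hc) a *
      algebraMap A (Bsub E N₀ c hc) b),
      GMono (Bsub E N₀ c hc) (algebraMap A (Bsub E N₀ c hc) a)
        (algebraMap A (Bsub E N₀ c hc) b) Q.1 := fun Q =>
    (exists_gmono hA.le ht E N₀ (by omega) hcond c hc (fun q => (L q).ϖ) (fun q => (L q).hϖ)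
      (fun q => (L q).fa) (fun q => (L q).fb) Q.1 Q.2.2.1
      (by rw [map_mul]; exact Q.2.2.2)).some
  refine key_of_extension hA ha hb (Bsub E N₀ c hc) ?_ (hres_Bsub ht E N₀ c hc) N₀ ?_ ?_ ?_ D
  · intro x y h
    exact IsFractionRing.injective A (FractionRing A) (congrArg Subtype.val h)
  · intro β
    obtain ⟨⟨r, hr⟩, -⟩ := Bsub_le_Mk E N₀ c hc β.2
    refine ⟨r, Subtype.ext ?_⟩
    rw [Subalgebra.coe_algebraMap, hr, Subalgebra.coe_smul, Algebra.smul_def, map_pow]
  · exact Groth.Agent.S1836.mem_nonZeroDivisors_of_isUnit_coe (Bsub E N₀ c hc) _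
      (by rw [Subalgebra.coe_algebraMap]; exact isUnit_algebraMap_of_nzd ha)
  · exact Groth.Agent.S1836.mem_nonZeroDivisors_of_isUnit_coe (Bsub E N₀ c hc) _
      (by rw [Subalgebra.coe_algebraMap]; exact isUnit_algebraMap_of_nzd hb)

end Groth.Agent.S1851
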