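import Groth.Statements.S5103
import Mathlib
import Groth.Agent.Lib.Helper64.SecOrd6
import Groth.Agent.Lib.Helper35.InvPush

set_option autoImplicit false
universe u
open CategoryTheory CategoryTheory.Limits AlgebraicGeometry TopologicalSpace
open Div21

namespace Groth.Agent.S5103


/-- For an integral scheme (the canonical homomorphism Pic(X) → Cl(X) to the group of codimension-1
cycle classes is injective): let X be a normal locally Noetherian integral scheme, L an invertible
O_X-module and s a nonzero rational section of L (a nonzero element of the fibre of L at the generic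
point). If the Weil divisor of s is principal — there is a nonzero rational function f whose order
of vanishing at every point of codimension 1 (coheight 1 in the specialization order) equals the
order of s there — then L is isomorphic to O_X. -/
theorem result (X : Scheme.{u}) [IsIntegral X] [IsLocallyNoetherian X]
    (hX : Pi1.IsNormalScheme X) (L : X.Modules) (hL : PicF.IsInvertible L)
    (s : Cyc.secFibre L (genericPoint ↥X)) (hs : s ≠ 0) (f : ↑X.functionField) (hf : f ≠ 0)
    (h : ∀ x : ↥X, Order.coheight x = 1 →
      Cyc.secOrdAt L (genericPoint ↥X) x (genericPoint_specializes x) s = Scheme.ord f x) :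
    Nonempty (L ≅ Coh.structureModule X) := by
    obtain ⟨v, rfl⟩ := Submodule.Quotient.mk_surjective _ s
    have hv : v ≠ 0 := by
      rintro rfl
      exact hs (Submodule.Quotient.mk_zero _)
    have hO : PicF.IsInvertible (Coh.structureModule X) :=
      Groth.Agent.Lib.Helper35.InvPush.isInvertible_structureModule X
    have hgen : Groth.Agent.Lib.Lead.Inv.IsGen (Coh.structureModule X) ⊤
        ((1 : Γ(X, ⊤)) : Γ(Coh.structureModule X, ⊤)) :=
      Groth.Agent.Lib.Helper35.Gen.isGen_one ⊤
    have hv' := Groth.Agent.Lib.Helper64.SecOrd.germ_ne_zero_of_isGen _ hgen (genericPoint X) trivial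
    refine Groth.Agent.Lib.Helper64.SecOrd.nonempty_iso_of_ord hX
      (Groth.Agent.Lib.Helper64.SecOrd.isRef1_of_isInvertible hL)
      (Groth.Agent.Lib.Helper64.SecOrd.isRef1_of_isInvertible hO) hv hv' f hf ?_
    intro x hx
    have h0 := Groth.Agent.Lib.Helper64.SecOrd.secOrdAt_of_isGen (Coh.structureModule X) hgen x trivial
      hx (Groth.Agent.Lib.Helper64.RefExt.spη x) 1
    rw [one_smul, Groth.Agent.Lib.Helper64.SecOrd.ord_one] at h0
    rw [h0, zero_add]
    exact h x hx

end Groth.Agent.S5103
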