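import Groth.Statements.S18472
import Mathlib
import Groth.Agent.Lib.Helper66.Translate
open Groth.Agent.Lib.Helper66.Translate TensorProduct

set_option autoImplicit false
universe u v
open Hopf

namespace Groth.Agent.S18472

section
variable (R : Type u) [CommRing R] (A : Type v) [CommRing A] [HopfAlgebra R A]

/-- `a ⊗ b ↦ ε(b) a` -/
noncomputable def piR : A ⊗[R] A →ₐ[A] A :=
  (Algebra.TensorProduct.rid R A A).toAlgHom.comp
    (Algebra.TensorProduct.map (AlgHom.id A A) (Bialgebra.counitAlgHom R A))

/-- `a ⊗ b ↦ ε(a) b` -/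
noncomputable def rhoL : A ⊗[R] A →ₐ[R] A :=
  (Algebra.TensorProduct.lid R A).toAlgHom.comp
    (Algebra.TensorProduct.map (Bialgebra.counitAlgHom R A) (AlgHom.id R A))

theorem piR_tmul (a b : A) : piR R A (a ⊗ₜ[R] b) = Coalgebra.counit (R := R) b • a := by
  simp [piR]

theorem rhoL_tmul (a b : A) : rhoL R A (a ⊗ₜ[R] b) = Coalgebra.counit (R := R) a • b := by
  simp [rhoL]

theorem piR_theta : ((piR R A).comp (theta (AlgHom.id R A))).restrictScalars R =
    (Algebra.TensorProduct.lmul' R : A ⊗[R] A →ₐ[R] A) := by
  apply Algebra.TensorProduct.ext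
  · ext a
    simp [theta, piR]
  · ext b
    have h1 : theta (AlgHom.id R A) ((1 : A) ⊗ₜ[R] b) = Coalgebra.comul (R := R) b := by
      simp [theta, gL, ← Algebra.TensorProduct.one_def]
    simp only [AlgHom.coe_comp, AlgHom.coe_restrictScalars', Function.comp_apply,
      Algebra.TensorProduct.includeRight_apply, Algebra.TensorProduct.lmul'_apply_tmul, one_mul]
    rw [h1]
    have h2 := Coalgebra.lTensor_counit_comul (R := R) b
    have h3 : (Algebra.TensorProduct.map (AlgHom.id A A) (Bialgebra.counitAlgHom R A))
        (Coalgebra.comul (R := R) b) = b ⊗ₜ[R] (1 : R) := h2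
    simp only [piR, AlgHom.comp_apply]
    rw [h3]
    simp

theorem ker_piR : RingHom.ker (piR R A) =
    Ideal.map (Algebra.TensorProduct.includeRight : A →ₐ[R] A ⊗[R] A)
      (RingHom.ker (Bialgebra.counitAlgHom R A)) := by
  apply le_antisymm
  · intro x hx
    rw [RingHom.mem_ker] at hx
    have key : ∀ y : A ⊗[R] A, y - (piR R A y) ⊗ₜ[R] (1 : A) ∈
        Ideal.map (Algebra.TensorProduct.includeRight : A →ₐ[R] A ⊗[R] A)
          (RingHom.ker (Bialgebra.counitAlgHom R A)) := by
      intro y
      induction y using TensorProduct.induction_on with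
      | zero => simp
      | tmul a b =>
        rw [piR_tmul]
        have h1 : a ⊗ₜ[R] b - (Coalgebra.counit (R := R) b • a) ⊗ₜ[R] (1 : A) =
            (a ⊗ₜ[R] (1 : A)) * ((1 : A) ⊗ₜ[R] (b - algebraMap R A (Coalgebra.counit (R := R) b))) := by
          rw [Algebra.TensorProduct.tmul_mul_tmul, mul_one, one_mul, TensorProduct.tmul_sub,
            TensorProduct.smul_tmul, Algebra.algebraMap_eq_smul_one]
        rw [h1]
        refine Ideal.mul_mem_left _ _ (Ideal.mem_map_of_mem _ ?_)
        rw [RingHom.mem_ker]
        show Coalgebra.counit (R := R) (b - algebraMap R A (Coalgebra.counit (R := R) b)) = 0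
        rw [map_sub, Bialgebra.counit_algebraMap, sub_self]
      | add y z hy hz =>
        have : y + z - (piR R A (y + z)) ⊗ₜ[R] (1 : A) =
            (y - (piR R A y) ⊗ₜ[R] (1 : A)) + (z - (piR R A z) ⊗ₜ[R] (1 : A)) := by
          rw [map_add, TensorProduct.add_tmul]; ring
        rw [this]; exact add_mem hy hz
    have := key x
    rwa [hx, TensorProduct.zero_tmul, sub_zero] at this
  · rw [Ideal.map_le_iff_le_comap]
    intro b hb
    rw [RingHom.mem_ker] at hb
    rw [Ideal.mem_comap, RingHom.mem_ker]
    show piR R A ((1 : A) ⊗ₜ[R] b) = 0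
    rw [piR_tmul]
    have : Coalgebra.counit (R := R) b = 0 := hb
    rw [this, zero_smul]

theorem idem_comap_iff {S T : Type*} [CommRing S] [CommRing T] (e : S ≃+* T) (J : Ideal T) :
    IsIdempotentElem (J.comap (e : S →+* T)) ↔ IsIdempotentElem J := by
  constructor
  · intro h
    have h1 : J = (J.comap (e : S →+* T)).map (e : S →+* T) :=
      (Ideal.map_comap_of_surjective _ e.surjective J).symm
    unfold IsIdempotentElem at h ⊢
    rw [h1, ← Ideal.map_mul, h]
  · intro h
    have h1 : J.comap (e : S →+* T) = J.map (e.symm : T →+* S) := (Ideal.map_symm e).symm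
    unfold IsIdempotentElem at h ⊢
    rw [h1, ← Ideal.map_mul, h]

theorem rhoL_comp_includeRight :
    (rhoL R A).comp (Algebra.TensorProduct.includeRight : A →ₐ[R] A ⊗[R] A) = AlgHom.id R A := by
  ext b
  simp [rhoL]

theorem idem_ker_piR_iff : IsIdempotentElem (RingHom.ker (piR R A)) ↔
    RingHom.ker (Bialgebra.counitAlgHom R A) ^ 2 = RingHom.ker (Bialgebra.counitAlgHom R A) := by
  rw [ker_piR, pow_two]
  constructor
  · intro h
    unfold IsIdempotentElem at h
    have h1 := congrArg (Ideal.map (rhoL R A)) h
    rw [Ideal.map_mul] at h1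
    have h2 : ((rhoL R A : A ⊗[R] A →+* A).comp
        ((Algebra.TensorProduct.includeRight : A →ₐ[R] A ⊗[R] A) : A →+* A ⊗[R] A)) = RingHom.id A := by
      have := rhoL_comp_includeRight R A
      ext b
      exact DFunLike.congr_fun this b
    have h3 : Ideal.map (rhoL R A) (Ideal.map (Algebra.TensorProduct.includeRight : A →ₐ[R] A ⊗[R] A)
        (RingHom.ker (Bialgebra.counitAlgHom R A))) = RingHom.ker (Bialgebra.counitAlgHom R A) := by
      show Ideal.map (rhoL R A : A ⊗[R] A →+* A)
        (Ideal.map ((Algebra.TensorProduct.includeRight : A →ₐ[R] A ⊗[R] A) : A →+* A ⊗[R] A)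
        (RingHom.ker (Bialgebra.counitAlgHom R A))) = _
      rw [Ideal.map_map, h2, Ideal.map_id]
    rw [h3] at h1
    exact h1
  · intro h
    unfold IsIdempotentElem
    rw [← Ideal.map_mul, h]

end

/-- Let R be a commutative ring and A a commutative Hopf algebra over R which is finitely generated and
projective as an R-module (a finite locally free group scheme G = Spec A over Spec R), and let I =
ker ε be its augmentation ideal. Then A is étale over R if and only if I² = I. (The published text
calls G finite flat, meaning that A is finitely generated and projective.) -/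
theorem result
    (R : Type u) [CommRing R] (A : Type v) [CommRing A] [HopfAlgebra R A]
    [Module.Finite R A] [Module.Projective R A] :
    Algebra.Etale R A ↔
      RingHom.ker (Bialgebra.counitAlgHom R A) ^ 2 = RingHom.ker (Bialgebra.counitAlgHom R A) := by
  rw [← idem_ker_piR_iff R A]
  have hθ : Function.Bijective (theta (AlgHom.id R A)) := theta_bijective _
  let e : (A ⊗[R] A) ≃ₐ[A] (A ⊗[R] A) := AlgEquiv.ofBijective (theta (AlgHom.id R A)) hθ
  have hK : KaehlerDifferential.ideal R A =
      (RingHom.ker (piR R A)).comap ((e : (A ⊗[R] A) ≃+* (A ⊗[R] A)) : (A ⊗[R] A) →+* (A ⊗[R] A)) := by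
    ext x
    rw [Ideal.mem_comap, RingHom.mem_ker, RingHom.mem_ker]
    have := DFunLike.congr_fun (piR_theta R A) x
    simp only [AlgHom.coe_comp, AlgHom.coe_restrictScalars', Function.comp_apply] at this
    show (Algebra.TensorProduct.lmul' R : A ⊗[R] A →ₐ[R] A) x = 0 ↔ piR R A (theta (AlgHom.id R A) x) = 0
    rw [← this]
  have hK2 : IsIdempotentElem (KaehlerDifferential.ideal R A) ↔
      IsIdempotentElem (RingHom.ker (piR R A)) := by
    rw [hK]; exact idem_comap_iff _ _
  rw [← hK2, ← Ideal.cotangent_subsingleton_iff]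
  constructor
  · intro h
    haveI : Algebra.FormallyUnramified R A := inferInstance
    exact (inferInstance : Subsingleton (Ω[A⁄R]))
  · intro h
    haveI : Algebra.FormallyUnramified R A := ⟨h⟩
    haveI : Module.FinitePresentation R A := Module.finitePresentation_of_projective R A
    haveI : Algebra.FinitePresentation R A := Algebra.FinitePresentation.of_finitePresentation R A
    exact Algebra.Etale.of_formallyUnramified_of_flat

end Groth.Agent.S18472
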