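import Groth.Statements.S16071
import Mathlib.Data.Nat.Factorial.NatCast

set_option autoImplicit false
universe u
open CartDual

set_option linter.unusedSectionVars false
open TensorProduct

namespace Groth.Agent.S16071Aux

theorem nontrivialR (p : ℕ) [Fact p.Prime] (R : Type u) [CommRing R] [CharP R p] : Nontrivial R :=
  CharP.nontrivial_of_char_ne_one (R := R) (v := p) (Fact.out : p.Prime).ne_one

variable (p : ℕ) [Fact p.Prime] (R : Type u) [CommRing R] [CharP R p]

theorem comul_x_pow (i : ℕ) : Coalgebra.comul (R := R) (AlphaP.x p R ^ i) =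
    ∑ k ∈ Finset.range (i+1),
      (i.choose k : R) • ((AlphaP.x p R ^ k) ⊗ₜ[R] (AlphaP.x p R ^ (i - k))) := by
  rw [Bialgebra.comul_pow, AlphaP.comul_x, (Commute.all _ _).add_pow]
  refine Finset.sum_congr rfl fun k _ => ?_
  rw [Algebra.TensorProduct.tmul_pow, Algebra.TensorProduct.tmul_pow, one_pow, one_pow,
    Algebra.TensorProduct.tmul_mul_tmul, mul_one, one_mul, mul_comm, ← nsmul_eq_mul,
    Nat.cast_smul_eq_nsmul]

/-- the index `1 : Fin p` -/
def i1 : Fin p := ⟨1, (Fact.out : p.Prime).one_lt⟩

/-- the linear form dual to `x` -/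
noncomputable def xi : CartDual.D R (AlphaP.A p R) :=
  haveI := nontrivialR p R
  WithConv.toConv ((AlphaP.basis p R).coord (i1 p))

theorem xi_x_pow (i : ℕ) : xi p R (AlphaP.x p R ^ i) = if i = 1 then 1 else 0 := by
  have := nontrivialR p R
  by_cases hi : i < p
  · have h1 : AlphaP.x p R ^ i = AlphaP.basis p R ⟨i, hi⟩ := by rw [AlphaP.basis_apply]
    rw [h1]
    show (AlphaP.basis p R).coord (i1 p) (AlphaP.basis p R ⟨i, hi⟩) = _
    rw [Module.Basis.coord_apply, Module.Basis.repr_self, Finsupp.single_apply]
    simp only [i1, Fin.mk.injEq]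
  · rw [AlphaP.x_pow_of_le p R (not_lt.mp hi), map_zero, if_neg]
    have := (Fact.out : p.Prime).one_lt
    omega


theorem conv_mul_x_pow (a b : CartDual.D R (AlphaP.A p R)) (i : ℕ) :
    (a * b) (AlphaP.x p R ^ i) =
      ∑ k ∈ Finset.range (i+1), (i.choose k : R) * (a (AlphaP.x p R ^ k) * b (AlphaP.x p R ^ (i - k))) := by
  rw [LinearMap.convMul_apply, comul_x_pow, map_sum, map_sum]
  refine Finset.sum_congr rfl fun k _ => ?_
  rw [map_smul, map_smul, TensorProduct.map_tmul, LinearMap.mul'_apply, smul_eq_mul]

theorem xi_pow_apply (n i : ℕ) :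
    (xi p R ^ n) (AlphaP.x p R ^ i) = if i = n then (n.factorial : R) else 0 := by
  induction n generalizing i with
  | zero =>
    rw [pow_zero, LinearMap.convOne_apply, Bialgebra.counit_pow, AlphaP.counit_x, Nat.factorial_zero, Nat.cast_one]
    rcases i with _ | i
    · simp
    · simp
  | succ n ih =>
    rw [pow_succ, conv_mul_x_pow]
    simp only [ih, xi_x_pow]
    by_cases hi : i = n + 1
    · subst hi
      rw [if_pos rfl, Finset.sum_eq_single n]
      · rw [if_pos rfl, if_pos (by omega), Nat.choose_succ_self_right, mul_one, Nat.factorial_succ,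
          Nat.cast_mul]
      · intro k _ hk
        rw [if_neg hk, zero_mul, mul_zero]
      · intro h; exact absurd (Finset.mem_range.mpr (by omega)) h
    · rw [if_neg hi]
      refine Finset.sum_eq_zero fun k hk => ?_
      have hk' := Finset.mem_range.mp hk
      by_cases h1 : k = n
      · rw [if_neg (by omega : ¬ (i - k = 1)), mul_zero, mul_zero]
      · rw [if_neg h1, zero_mul, mul_zero]


theorem D_ext {a b : CartDual.D R (AlphaP.A p R)}
    (h : ∀ i : ℕ, a (AlphaP.x p R ^ i) = b (AlphaP.x p R ^ i)) : a = b := by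
  have := nontrivialR p R
  apply WithConv.ext
  apply (AlphaP.basis p R).ext
  intro i
  rw [AlphaP.basis_apply]
  exact h i

theorem xi_pow_p : xi p R ^ p = 0 := by
  apply D_ext
  intro i
  rw [xi_pow_apply]
  split_ifs with h
  · have h0 : ((p.factorial : ℕ) : R) = 0 := by
      rw [CharP.cast_eq_zero_iff R p]
      exact Nat.dvd_factorial (Fact.out : p.Prime).pos le_rfl
    rw [h0]; rfl
  · rfl

noncomputable def thetaAlg : AlphaP.A p R →ₐ[R] CartDual.D R (AlphaP.A p R) :=
  AlphaP.lift p R (xi p R) (xi_pow_p p R)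

theorem thetaAlg_x : thetaAlg p R (AlphaP.x p R) = xi p R := AlphaP.lift_x _ _


theorem thetaAlg_x_pow (n : ℕ) : thetaAlg p R (AlphaP.x p R ^ n) = xi p R ^ n := by
  rw [map_pow, thetaAlg_x]

theorem one_x_pow (j : ℕ) : (1 : CartDual.D R (AlphaP.A p R)) (AlphaP.x p R ^ j) = if j = 0 then 1 else 0 := by
  have := xi_pow_apply p R 0 j
  rw [pow_zero, Nat.factorial_zero, Nat.cast_one] at this
  exact this

noncomputable def thetaBialg : AlphaP.A p R →ₐc[R] CartDual.D R (AlphaP.A p R) :=
  BialgHom.ofAlgHom (thetaAlg p R)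
    (by
      apply AlphaP.algHom_ext
      show Coalgebra.counit (R := R) (thetaAlg p R (AlphaP.x p R)) =
        Coalgebra.counit (R := R) (AlphaP.x p R)
      rw [thetaAlg_x, CartDual.coalgebra_counit_apply, AlphaP.counit_x]
      have := xi_x_pow p R 0
      rw [pow_zero] at this
      rw [this, if_neg (by omega)])
    (by
      have := nontrivialR p R
      apply AlphaP.algHom_ext
      show Algebra.TensorProduct.map (thetaAlg p R) (thetaAlg p R)
          (Coalgebra.comul (R := R) (AlphaP.x p R)) =
        Coalgebra.comul (R := R) (thetaAlg p R (AlphaP.x p R))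
      rw [AlphaP.comul_x, map_add, Algebra.TensorProduct.map_tmul, Algebra.TensorProduct.map_tmul,
        map_one, thetaAlg_x]
      apply (CartDual.ev₂ R (AlphaP.A p R)).injective
      apply TensorProduct.ext
      apply (AlphaP.basis p R).ext; intro i
      apply (AlphaP.basis p R).ext; intro j
      simp only [LinearMap.compr₂ₛₗ_apply, TensorProduct.mk_apply, AlphaP.basis_apply, map_add,
        LinearMap.add_apply]
      rw [CartDual.ev₂_tmul, CartDual.ev₂_tmul, CartDual.ev₂_coalgebra_comul_tmul, ← pow_add,
        xi_x_pow, xi_x_pow, xi_x_pow, one_x_pow, one_x_pow]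
      by_cases h1 : (i : ℕ) + j = 1
      · rcases Nat.eq_zero_or_pos (i : ℕ) with h0 | h0
        · rw [h0] at h1 ⊢
          have hj : (j : ℕ) = 1 := by omega
          rw [hj]; simp
        · have hi : (i : ℕ) = 1 := by omega
          have hj : (j : ℕ) = 0 := by omega
          rw [hi, hj]; simp
      · rw [if_neg h1]
        by_cases hi : (i : ℕ) = 1
        · have hj : (j : ℕ) ≠ 0 := by omega
          rw [if_neg hj, mul_zero, zero_add]
          have hi0 : (i : ℕ) ≠ 0 := by omega
          rw [if_neg hi0, zero_mul]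
        · rw [if_neg hi, zero_mul, zero_add]
          by_cases hi0 : (i : ℕ) = 0
          · have hj : (j : ℕ) ≠ 1 := by omega
            rw [if_neg hj, mul_zero]
          · rw [if_neg hi0, zero_mul])


/-- the basis `i! • δ_i` of the dual -/
noncomputable def bD : Module.Basis (Fin p) R (CartDual.D R (AlphaP.A p R)) :=
  haveI := nontrivialR p R
  ((AlphaP.basis p R).dualBasis.map (CartDual.toDual R (AlphaP.A p R)).symm).isUnitSMul
    (w := fun i => (((i : ℕ).factorial : ℕ) : R))
    (fun i => (IsUnit.natCast_factorial_iff_of_charP p).mpr i.2)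

theorem bD_apply (i : Fin p) : bD p R i = xi p R ^ (i : ℕ) := by
  have := nontrivialR p R
  apply WithConv.ext
  apply (AlphaP.basis p R).ext
  intro j
  have h2 : (xi p R ^ (i : ℕ)).ofConv (AlphaP.basis p R j) =
      if (j : ℕ) = i then (((i : ℕ).factorial : ℕ) : R) else 0 := by
    rw [AlphaP.basis_apply]; exact xi_pow_apply p R i j
  rw [h2, bD, Module.Basis.isUnitSMul_apply, Module.Basis.map_apply, WithConv.ofConv_smul,
    LinearMap.smul_apply]
  show _ • (AlphaP.basis p R).dualBasis i (AlphaP.basis p R j) = _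
  rw [Module.Basis.dualBasis_apply_self]
  by_cases hji : j = i
  · subst hji; simp
  · rw [if_neg hji, if_neg (fun h => hji (Fin.ext h)), smul_zero]

theorem theta_bijective : Function.Bijective (thetaBialg p R) := by
  have := nontrivialR p R
  have key : (thetaAlg p R).toLinearMap =
      ((AlphaP.basis p R).equiv (bD p R) (Equiv.refl _)).toLinearMap := by
    apply (AlphaP.basis p R).ext
    intro i
    show thetaAlg p R (AlphaP.basis p R i) = (AlphaP.basis p R).equiv (bD p R) (Equiv.refl _) (AlphaP.basis p R i)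
    rw [Module.Basis.equiv_apply, Equiv.refl_apply, bD_apply, AlphaP.basis_apply, thetaAlg_x_pow]
  have h2 : (thetaBialg p R : AlphaP.A p R → CartDual.D R (AlphaP.A p R)) =
      ((AlphaP.basis p R).equiv (bD p R) (Equiv.refl _)) := by
    funext a
    exact LinearMap.congr_fun key a
  rw [h2]
  exact LinearEquiv.bijective _

end Groth.Agent.S16071Aux

namespace Groth.Agent.S16071

/-- Let p be a prime, R a commutative ring of characteristic p and A = R[X]/(X^p) the Hopf algebra of
α_p over Spec R, with X primitive. Then the Cartier dual of α_p is again α_p: there is a bialgebra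
isomorphism e from the dual Hopf algebra Hom_R(A, R), with the transposed structure maps, to A,
whose inverse sends X to the linear form dual to X with respect to the basis 1, X, …, X^{p-1} of A
(so e⁻¹(X) takes the value 1 on X and 0 on the other powers X^i, i < p). (Any commutative base ring
of characteristic p is allowed.) -/
theorem result (p : ℕ) [Fact p.Prime] (R : Type u) [CommRing R] [CharP R p] :
    ∃ e : CartDual.D R (AlphaP.A p R) ≃ₐc[R] AlphaP.A p R,
      ∀ i : ℕ, i < p → (e.symm (AlphaP.x p R)) (AlphaP.x p R ^ i) = if i = 1 then 1 else 0 := by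
  refine ⟨(BialgEquiv.ofBijective (S16071Aux.thetaBialg p R) (S16071Aux.theta_bijective p R)).symm,
    fun i _ => ?_⟩
  show (S16071Aux.thetaAlg p R (AlphaP.x p R)) (AlphaP.x p R ^ i) = _
  rw [S16071Aux.thetaAlg_x, S16071Aux.xi_x_pow]

end Groth.Agent.S16071
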