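import Groth.Statements.S17330
import Mathlib
import Groth.Agent.Lib.Helper66.PrimDual
import Groth.Agent.S16069
import Groth.Agent.S16071
open Groth.Agent.Lib.Helper66.PrimDual

set_option autoImplicit false
universe u v
open Hopf

namespace Groth.Agent.S17330

/-- Let k be an algebraically closed field of characteristic p > 0 and A a commutative Hopf algebra over
k, finite-dimensional as a k-vector space and not reduced (a non-reduced finite group scheme G =
Spec A). Then G contains a subgroup scheme isomorphic to μ_p or to α_p: there is a surjective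
bialgebra homomorphism from A onto the group algebra of the cyclic group of order p (the Hopf
algebra of μ_p, group elements group-like) or onto k[X]/(X^p) with X primitive (the Hopf algebra of
α_p). -/
theorem result (k : Type u) [Field k] [IsAlgClosed k]
    (p : ℕ) [Fact p.Prime] [CharP k p] (A : Type v) [CommRing A] [HopfAlgebra k A] [Module.Finite k A]
    (hA : ¬ IsReduced A) :
    (∃ f : A →ₐc[k] MonoidAlgebra k (Multiplicative (ZMod p)), Function.Surjective f) ∨
      (∃ f : A →ₐc[k] AlphaP.A p k, Function.Surjective f) := by
  obtain ⟨y, hy, hy0⟩ := exists_isPrim_ne_zero (k := k) (A := A) hA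
  obtain ⟨z, hz, hz0, hzp⟩ := exists_prim_fixed_or_nilpotent p y hy hy0
  rcases hzp with hzp | hzp
  · right
    obtain ⟨f, hf⟩ := exists_surjective_of_injective (alphaBialgHom p z hzp hz)
      (alphaBialgHom_injective p z hzp hz hz0)
    obtain ⟨e, -⟩ := Groth.Agent.S16071.result p k
    exact ⟨(e : CartDual.D k (AlphaP.A p k) →ₐc[k] AlphaP.A p k).comp f,
      e.surjective.comp hf⟩
  · left
    obtain ⟨f, hf⟩ := exists_surjective_of_injective (muBialgHom k p z hzp hz)
      (muBialgHom_injective k p z hzp hz hz0)
    obtain ⟨e, -⟩ := Groth.Agent.S16069.result k (Multiplicative (ZMod p))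
    exact ⟨(e : CartDual.D k (ConstGrp.F k (Multiplicative (ZMod p))) →ₐc[k]
      MonoidAlgebra k (Multiplicative (ZMod p))).comp f, e.surjective.comp hf⟩

end Groth.Agent.S17330
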