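import Groth.Statements.S17331
import Mathlib
import Groth.Agent.Lib.Helper66.EtaleCase
import Groth.Agent.S17330
open Groth.Agent.Lib.Helper66.EtaleCase Groth.Agent.Lib.Helper66.PointsDecomp

set_option autoImplicit false
universe u v
open Hopf

namespace Groth.Agent.S17331

/-- Let k be an algebraically closed field of characteristic p > 0, ℓ a prime, and A a commutative Hopf
algebra over k of dimension ℓ as a k-vector space (a finite group scheme G of prime order ℓ). If ℓ ≠
p then G ≅ ℤ/ℓ: A is isomorphic as a bialgebra to the algebra of k-valued functions on the cyclic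
group of order ℓ. If ℓ = p then G is isomorphic to ℤ/p, μ_p or α_p: A is isomorphic as a bialgebra
to the algebra of functions on the cyclic group of order p, to its group algebra (group elements
group-like), or to k[X]/(X^p) with X primitive. -/
theorem result (k : Type u) [Field k] [IsAlgClosed k]
    (p : ℕ) [Fact p.Prime] [CharP k p] (A : Type v) [CommRing A] [HopfAlgebra k A]
    (ℓ : ℕ) [Fact ℓ.Prime] (hA : Module.finrank k A = ℓ) :
    (ℓ ≠ p → Nonempty (A ≃ₐc[k] ConstGrp.F k (Multiplicative (ZMod ℓ)))) ∧
      (ℓ = p → Nonempty (A ≃ₐc[k] ConstGrp.F k (Multiplicative (ZMod p))) ∨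
        Nonempty (A ≃ₐc[k] MonoidAlgebra k (Multiplicative (ZMod p))) ∨
        Nonempty (A ≃ₐc[k] AlphaP.A p k)) := by
  haveI : Module.Finite k A :=
    Module.finite_of_finrank_pos (by rw [hA]; exact (Fact.out : ℓ.Prime).pos)
  by_cases hred : IsReduced A
  · haveI := hred
    have h := nonempty_bialgEquiv_constGrp (K := k) (A := A) ℓ hA
    refine ⟨fun _ => h, fun hlp => Or.inl ?_⟩
    subst hlp
    exact h
  · have hp_dvd : p ∣ ℓ := by
      by_contra hnd
      apply hred
      have h1 : (Module.finrank k A : k) ≠ 0 := by
        rw [hA]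
        intro h0
        exact hnd ((CharP.cast_eq_zero_iff k p ℓ).1 h0)
      have h2 := sq_eq_self_of_finrank_ne_zero (K := k) (A := A) h1
      have hE : Algebra.Etale k A := (Groth.Agent.S18472.result k A).2 h2
      exact Algebra.FormallyUnramified.isReduced_of_field k A
    have hlp : p = ℓ := (Nat.prime_dvd_prime_iff_eq (Fact.out : p.Prime) (Fact.out : ℓ.Prime)).1 hp_dvd
    refine ⟨fun h => absurd hlp.symm h, fun _ => Or.inr ?_⟩
    rcases Groth.Agent.S17330.result k p A hred with ⟨f, hf⟩ | ⟨f, hf⟩
    · left
      have hfr : Module.finrank k A = Module.finrank k (MonoidAlgebra k (Multiplicative (ZMod p))) := by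
        rw [hA, Module.finrank_eq_card_basis (MonoidAlgebra.basis (Multiplicative (ZMod p)) k),
          Fintype.card_multiplicative, ZMod.card, hlp]
      have hinj : Function.Injective f :=
        (LinearMap.injective_iff_surjective_of_finrank_eq_finrank hfr
          (f := (f : A →ₗ[k] _))).2 hf
      exact ⟨BialgEquiv.ofBijective f ⟨hinj, hf⟩⟩
    · right
      have hfr : Module.finrank k A = Module.finrank k (AlphaP.A p k) := by
        rw [hA, AlphaP.finrank_eq, hlp]
      have hinj : Function.Injective f :=
        (LinearMap.injective_iff_surjective_of_finrank_eq_finrank hfr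
          (f := (f : A →ₗ[k] _))).2 hf
      exact ⟨BialgEquiv.ofBijective f ⟨hinj, hf⟩⟩

end Groth.Agent.S17331
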