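import Groth.Statements.S4113
import Mathlib
import Groth.Agent.Lib.Helper66.PointsDecomp
import Groth.Agent.S18472
open scoped TensorProduct
open Groth.Agent.Lib.Helper66.PointsDecomp

set_option autoImplicit false
universe u
open CategoryTheory MonoidalCategory CartesianMonoidalCategory MonObj GrpObj AlgebraicGeometry CategoryTheory.Limits
open SGA3

namespace Groth.Agent.S4113

/-- Let A be a finite-dimensional commutative Hopf algebra over a field k (a finite algebraic k-group of
rank dim A). If the rank is invertible in k then A is an etale k-algebra. -/
theorem result (k : Type u) [Field k] (A : Type u) [CommRing A] [HopfAlgebra k A]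
    [Module.Finite k A] (h : (Module.finrank k A : k) ≠ 0) : Algebra.Etale k A := by
  have h1 : (Module.finrank (AlgebraicClosure k) ((AlgebraicClosure k) ⊗[k] A) : AlgebraicClosure k) ≠ 0 := by
    rw [Module.finrank_baseChange]
    intro h0
    apply h
    have : algebraMap k (AlgebraicClosure k) (Module.finrank k A : k) = 0 := by
      rw [map_natCast]; exact h0
    exact (map_eq_zero_iff _ (algebraMap k (AlgebraicClosure k)).injective).1 this
  have h2 := sq_eq_self_of_finrank_ne_zero (K := AlgebraicClosure k)
    (A := (AlgebraicClosure k) ⊗[k] A) h1
  haveI : Algebra.Etale (AlgebraicClosure k) ((AlgebraicClosure k) ⊗[k] A) :=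
    (Groth.Agent.S18472.result (AlgebraicClosure k) ((AlgebraicClosure k) ⊗[k] A)).2 h2
  exact Algebra.Etale.of_etale_tensorProduct_of_faithfullyFlat (AlgebraicClosure k)

end Groth.Agent.S4113
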