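import Groth.Statements.S18471
import Groth.Agent.S18468
import Groth.Prelude.Def_CartDual2
import Mathlib

set_option autoImplicit false
universe u
open OortTate

namespace Groth.Agent.S18471

section Aux

open WithConv TensorProduct CartDual
open Groth.Agent.S18468 (E)

section Transp
variable {R : Type u} [CommRing R] {A : Type u} [CommRing A] [HopfAlgebra R A]
  [Module.Finite R A] [Module.Projective R A]

/-- linear convolution powers of the identity -/
noncomputable def PL (B : Type u) [Ring B] [Bialgebra R B] (n : ℕ) : WithConv (B →ₗ[R] B) :=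
  (toConv LinearMap.id) ^ n

theorem powConv_toLinearMap (B : Type u) [CommRing B] [HopfAlgebra R B] (n : ℕ) :
    (SGA3b.powConv R B n).toLinearMap = (PL (R := R) B n).ofConv := by
  have := AlgHom.toLinearMap_convPow (toConv (AlgHom.id R B)) n
  exact congrArg WithConv.ofConv this


theorem key_tensor (T : A →ₗ[R] A) (t : D R A ⊗[R] D R A) (a : A) :
    (LinearMap.mul' R (D R A) (TensorProduct.map (transposeLin R T) LinearMap.id t)) a =
      ev₂ R A t (TensorProduct.map T LinearMap.id (Coalgebra.comul (R := R) a)) := by
  induction t using TensorProduct.induction_on with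
  | zero => simp
  | add t₁ t₂ h₁ h₂ =>
    rw [map_add, map_add, map_add, LinearMap.add_apply, ← h₁, ← h₂]
    rfl
  | tmul y z =>
    rw [TensorProduct.map_tmul, LinearMap.mul'_apply, LinearMap.id_apply]
    change LinearMap.mul' R R (TensorProduct.map (transposeLin R T y).ofConv z.ofConv
      (Coalgebra.comul (R := R) a)) = _
    generalize Coalgebra.comul (R := R) a = s
    induction s using TensorProduct.induction_on with
    | zero => simp
    | add s₁ s₂ h₁ h₂ => simp only [map_add, h₁, h₂]
    | tmul b c =>
      rw [TensorProduct.map_tmul, TensorProduct.map_tmul, LinearMap.mul'_apply, ev₂_tmul]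
      rfl


theorem PL_D (n : ℕ) :
    (PL (R := R) (D R A) n).ofConv = transposeLin R (PL (R := R) A n).ofConv := by
  induction n with
  | zero =>
    apply LinearMap.ext; intro x
    apply WithConv.ext; apply LinearMap.ext; intro a
    simp only [PL, pow_zero, LinearMap.convOne_def, coe_apply, ofConv_toConv, LinearMap.comp_apply,
      transposeLin_apply, Algebra.linearMap_apply, coalgebra_counit_apply]
    rw [Algebra.algebraMap_eq_smul_one, Algebra.algebraMap_eq_smul_one, map_smul]
    simp [coe_apply, mul_comm]
  | succ n ih =>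
    apply LinearMap.ext; intro x
    apply WithConv.ext; apply LinearMap.ext; intro a
    have h1 : PL (R := R) (D R A) (n + 1) = PL (R := R) (D R A) n * toConv LinearMap.id := pow_succ _ _
    have h2 : PL (R := R) A (n + 1) = PL (R := R) A n * toConv LinearMap.id := pow_succ _ _
    rw [h1, LinearMap.convMul_def, ofConv_toConv, ih]
    change (LinearMap.mul' R (D R A) (TensorProduct.map (transposeLin R (PL (R := R) A n).ofConv)
      LinearMap.id (Coalgebra.comul (R := R) x))) a = x ((PL (R := R) A (n + 1)).ofConv a)
    rw [key_tensor, comul_def, ev₂_comul, h2]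
    rfl


theorem E_D [Coalgebra.IsCocomm R A] {p : ℕ} [Fact p.Prime] (m : (ZMod p)ˣ) (x : D R A) (a : A) :
    (E R (D R A) m x) a = x (E R A m a) := by
  unfold Groth.Agent.S18468.E
  rw [powConv_toLinearMap, powConv_toLinearMap]
  have := PL_D (R := R) (A := A) (m : ZMod p).val
  exact congrArg (fun T : D R A →ₗ[R] D R A => (T x) a) this

end Transp


section Main
open Groth.Agent.S18468

variable {p : ℕ} [Fact p.Prime] {R : Type u} [CommRing R] (u : R)
  (hu : u * ((p - 1 : ℕ) : R) = 1)
  (χ : (ZMod p)ˣ →* Rˣ) (hχ : ∀ m : (ZMod p)ˣ, m ≠ 1 → IsUnit ((χ m : R) - 1))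
  {A : Type u} [CommRing A] [HopfAlgebra R A] [Coalgebra.IsCocomm R A]
  [Module.Finite R A] [Module.Projective R A]
  (hp : (WithConv.toConv (AlgHom.id R A)) ^ p = 1)

theorem chi_pow_mod (m : (ZMod p)ˣ) (i : ℕ) :
    ((χ m : Rˣ) : R) ^ i = ((χ m : Rˣ) : R) ^ (i % (p - 1)) := by
  have h1 : ((χ m : Rˣ) : R) ^ (p - 1) = 1 := by
    rw [← Units.val_pow_eq_pow_val, ← map_pow, ZMod.units_pow_card_sub_one_eq_one, map_one,
      Units.val_one]
  exact pow_eq_pow_mod i h1

theorem eigenAug_mod (B : Type u) [CommRing B] [HopfAlgebra R B] (i : ℕ) :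
    OortTate.eigenAug R B p χ i = OortTate.eigenAug R B p χ (i % (p - 1)) := by
  ext f
  rw [mem_eigenAug, mem_eigenAug]
  simp only [← chi_pow_mod χ _ i]

theorem mem_D (i : ℕ) (f : D R A) :
    f ∈ OortTate.eigenAug R (D R A) p χ i ↔
      f 1 = 0 ∧ ∀ (m : (ZMod p)ˣ) (a : A), f (E R A m a) = ((χ m : Rˣ) : R) ^ i * f a := by
  rw [mem_eigenAug]
  refine and_congr Iff.rfl (forall_congr' fun m => ?_)
  constructor
  · intro h a
    rw [← E_D, h]
    rfl
  · intro h
    apply WithConv.ext; apply LinearMap.ext; intro a
    exact (E_D m f a).trans (h a)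


include hu in
theorem L1 (i : ℕ) (f : D R A) (hf : f ∈ OortTate.eigenAug R (D R A) p χ i) (b : A) :
    f (OortTate.proj R A p u χ i b) = f b := by
  rw [mem_D] at hf
  rw [proj_apply]
  change f.ofConv _ = _
  rw [map_smul, map_sum]
  have : ∀ m : (ZMod p)ˣ, f.ofConv ((((χ m⁻¹ : Rˣ) : R) ^ i) • E R A m b) = f b := by
    intro m
    rw [map_smul]
    change _ • f (E R A m b) = _
    rw [hf.2 m b, smul_eq_mul, ← mul_assoc, ← mul_pow, ← Units.val_mul, ← map_mul, inv_mul_cancel,
      map_one, Units.val_one, one_pow, one_mul]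
  simp only [this, Finset.sum_const, Finset.card_univ, ZMod.card_units, nsmul_eq_mul, smul_eq_mul]
  rw [← mul_assoc, hu, one_mul]

/-- reduction to the augmentation ideal -/
noncomputable def red : A →ₗ[R] A :=
  LinearMap.id - Algebra.linearMap R A ∘ₗ (Bialgebra.counitAlgHom R A).toLinearMap

theorem red_apply (a : A) : red (R := R) a = a - algebraMap R A (Bialgebra.counitAlgHom R A a) := rfl

theorem counit_red (a : A) : Bialgebra.counitAlgHom R A (red (R := R) a) = 0 := by
  rw [red_apply, map_sub, AlgHom.commutes]
  simp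

theorem red_of_mem (a : A) (ha : Bialgebra.counitAlgHom R A a = 0) : red (R := R) a = a := by
  rw [red_apply, ha, map_zero, sub_zero]

theorem f_red (i : ℕ) (f : D R A) (hf : f ∈ OortTate.eigenAug R (D R A) p χ i) (a : A) :
    f (red (R := R) a) = f a := by
  rw [mem_D] at hf
  rw [red_apply]
  change f.ofConv _ = _
  rw [map_sub, Algebra.algebraMap_eq_smul_one, map_smul]
  change f a - _ • f 1 = _
  rw [hf.1, smul_zero, sub_zero]

include hp in
theorem proj_E_comm (i : ℕ) (m : (ZMod p)ˣ) (b : A) :
    OortTate.proj R A p u χ i (E R A m b) = E R A m (OortTate.proj R A p u χ i b) := by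
  rw [proj_apply, proj_apply, map_smul, map_sum]
  congr 1
  refine Finset.sum_congr rfl fun n _ => ?_
  rw [map_smul, ← LinearMap.comp_apply, ← LinearMap.comp_apply, ← E_mul hp, ← E_mul hp, mul_comm]

theorem E_red (m : (ZMod p)ˣ) (a : A) : red (R := R) (E R A m a) = E R A m (red (R := R) a) := by
  rw [red_apply, red_apply, counit_E, map_sub]
  congr 1
  exact ((SGA3b.powConv R A (m : ZMod p).val).commutes _).symm


include hu hχ hp in
theorem main (i : ℕ) :
    Function.Bijective (fun f : OortTate.eigenAug R (CartDual.D R A) p χ i =>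
      ((CartDual.toDual R A) (f : CartDual.D R A)).comp (OortTate.eigenAug R A p χ i).subtype) := by
  have hp1 : 0 < p - 1 := Nat.sub_pos_of_lt (Fact.out : p.Prime).one_lt
  have hi'lt : i % (p - 1) < p - 1 := Nat.mod_lt _ hp1
  have hA : OortTate.eigenAug R A p χ i = OortTate.eigenAug R A p χ (i % (p - 1)) :=
    eigenAug_mod χ A i
  have hD : OortTate.eigenAug R (D R A) p χ i = OortTate.eigenAug R (D R A) p χ (i % (p - 1)) :=
    eigenAug_mod χ (D R A) i
  have hρ : ∀ a : A, OortTate.proj R A p u χ (i % (p - 1)) (red (R := R) a) ∈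
      OortTate.eigenAug R A p χ i := fun a => by
    rw [hA]; exact proj_mem u χ hp _ _ (counit_red a)
  constructor
  · intro f g hfg
    apply Subtype.ext
    apply WithConv.ext; apply LinearMap.ext; intro a
    have hf' : (f : D R A) ∈ OortTate.eigenAug R (D R A) p χ (i % (p - 1)) := hD ▸ f.2
    have hg' : (g : D R A) ∈ OortTate.eigenAug R (D R A) p χ (i % (p - 1)) := hD ▸ g.2
    have e1 : (f : D R A) a =
        (f : D R A) (OortTate.proj R A p u χ (i % (p - 1)) (red (R := R) a)) := by
      rw [L1 u hu χ _ _ hf', f_red χ _ _ hf']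
    have e2 : (g : D R A) a =
        (g : D R A) (OortTate.proj R A p u χ (i % (p - 1)) (red (R := R) a)) := by
      rw [L1 u hu χ _ _ hg', f_red χ _ _ hg']
    have := congrArg (fun φ : OortTate.eigenAug R A p χ i →ₗ[R] R => φ ⟨_, hρ a⟩) hfg
    exact e1.trans (this.trans e2.symm)
  · intro φ
    let ρ : A →ₗ[R] OortTate.eigenAug R A p χ i :=
      LinearMap.codRestrict _ (OortTate.proj R A p u χ (i % (p - 1)) ∘ₗ red (R := R)) hρ
    refine ⟨⟨toConv (φ ∘ₗ ρ), ?_⟩, ?_⟩
    · rw [hD, mem_D]
      constructor
      · change φ (ρ 1) = 0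
        have : ρ 1 = 0 := by
          apply Subtype.ext
          change OortTate.proj R A p u χ (i % (p - 1)) (red (R := R) 1) = 0
          rw [red_apply]
          simp
        rw [this, map_zero]
      · intro m a
        change φ (ρ (E R A m a)) = _ * φ (ρ a)
        have : ρ (E R A m a) = (((χ m : Rˣ) : R) ^ (i % (p - 1))) • ρ a := by
          apply Subtype.ext
          change OortTate.proj R A p u χ (i % (p - 1)) (red (R := R) (E R A m a)) =
            (((χ m : Rˣ) : R) ^ (i % (p - 1))) •
              OortTate.proj R A p u χ (i % (p - 1)) (red (R := R) a)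
          rw [E_red, proj_E_comm u χ hp]
          exact ((mem_eigenAug χ _ _).mp (proj_mem u χ hp _ _ (counit_red a))).2 m
        rw [this, map_smul, smul_eq_mul]
    · apply LinearMap.ext; intro a
      change φ (ρ a) = φ a
      congr 1
      apply Subtype.ext
      change OortTate.proj R A p u χ (i % (p - 1)) (red (R := R) (a : A)) = a
      have ha : (a : A) ∈ OortTate.eigenAug R A p χ (i % (p - 1)) := hA ▸ a.2
      rw [red_of_mem _ ((mem_eigenAug χ _ _).mp ha).1,
        proj_eigen u hu χ hχ _ _ hi'lt hi'lt _ ha, if_pos rfl]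

end Main


end Aux

/-- Let p be a prime, R a commutative ring containing u with u(p − 1) = 1, and χ a homomorphism from the
units of ℤ/p to the units of R such that χ(m) − 1 is a unit for every m ≠ 1 (the situation of an
algebra over the subring Λ_p of the p-adic integers generated by the Teichmüller values and 1/(p(p −
1)), with χ the Teichmüller character, which is the published setting). Let A be a commutative and
cocommutative Hopf algebra over R, finitely generated and projective as an R-module, such that the
p-th convolution power of the identity of A is the neutral element (a finite locally free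
commutative group killed by p), and let A^D = Hom_R(A, R) be its dual Hopf algebra (the Cartier
dual). For i ≥ 0 let I_i(A) ⊆ A and I_i(A^D) ⊆ A^D be the submodules of elements f of the respective
augmentation ideals with [m]f = χ(m)^i f for every unit m of ℤ/p, [m] the power map. Then
restriction of linear forms to I_i(A) is a bijection from I_i(A^D) onto the dual module
Hom_R(I_i(A), R). (The published statement is for a group scheme of order p over a Λ_p-algebra and
asserts an isomorphism of R-modules; the map here is the one its proof uses.) -/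
theorem result
    (p : ℕ) [Fact p.Prime] (R : Type u) [CommRing R] (u : R) (hu : u * ((p - 1 : ℕ) : R) = 1)
    (χ : (ZMod p)ˣ →* Rˣ) (hχ : ∀ m : (ZMod p)ˣ, m ≠ 1 → IsUnit ((χ m : R) - 1))
    (A : Type u) [CommRing A] [HopfAlgebra R A] [Coalgebra.IsCocomm R A]
    [Module.Finite R A] [Module.Projective R A]
    (hp : (WithConv.toConv (AlgHom.id R A)) ^ p = 1) (i : ℕ) :
    Function.Bijective (fun f : OortTate.eigenAug R (CartDual.D R A) p χ i =>
      ((CartDual.toDual R A) (f : CartDual.D R A)).comp (OortTate.eigenAug R A p χ i).subtype) := by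
  exact main u hu χ hχ hp i

end Groth.Agent.S18471
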