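import Groth.Statements.S4983
import Groth.Agent.Lib.Helper73.SkMod.AssOpen

set_option autoImplicit false
open CategoryTheory AlgebraicGeometry
universe u v w
open EGA43

namespace Groth.Agent.S4983

/-- Let f : X ⟶ Y be a morphism locally of finite presentation and F a finitely presented O_X-module
which is f-flat; for x in X write F_{f x} for the restriction of F to the fibre of f through x. Then
the set of points x which lie on no embedded associated cycle of F_{f x} — every associated point of
F_{f x} specializing to x is not a specialization of another associated point — is open in X. -/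
theorem result {X Y : Scheme.{u}} (f : X ⟶ Y) [LocallyOfFinitePresentation f]
    (F : X.Modules) (hF : CohB1.IsFP F) (hflat : FlatMod.IsFlatOver f F) :
    IsOpen {x : X | ∀ z ∈ AssSch.Ass ((Scheme.Modules.pullback (f.fiberι (f.base x))).obj F), f.asFiber x ∈ closure {z} →
      ∀ z' ∈ AssSch.Ass ((Scheme.Modules.pullback (f.fiberι (f.base x))).obj F), z ∈ closure {z'} → z' = z} := by
  open Groth.Agent.Lib.Helper73 in
  have h := isOpen_noEmb_X f F hF hflat
  convert h using 1
  ext x
  simp only [Set.mem_setOf_eq]
  have key1 := forall_fiber_generization_iff f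
    (fun s z => z ∈ AssSch.Ass ((Scheme.Modules.pullback (f.fiberι s)).obj F) →
      ∀ z' ∈ AssSch.Ass ((Scheme.Modules.pullback (f.fiberι s)).obj F), z ∈ closure {z'} → z' = z) x
  have key2 : ∀ x' : X, (∀ z' : ↥(f.fiber (f.base x')), f.asFiber x' ∈ closure {z'} →
      (z' ∈ AssSch.Ass ((Scheme.Modules.pullback (f.fiberι (f.base x'))).obj F) →
        f.fiberι (f.base x') z' = x')) ↔
      ∀ x'' : X, x'' ⤳ x' → f x'' = f x' →
        (f.asFiber x'' ∈ AssSch.Ass ((Scheme.Modules.pullback (f.fiberι (f.base x''))).obj F) →
        f.fiberι (f.base x'') (f.asFiber x'') = x') := fun x' =>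
    forall_fiber_generization_iff f
      (fun s z' => z' ∈ AssSch.Ass ((Scheme.Modules.pullback (f.fiberι s)).obj F) →
        f.fiberι s z' = x') x'
  constructor
  · intro h1 x' hsp hfx hass x'' hsp'' hfx'' hass''
    have h2 := key1.mp (fun z hz hzA => h1 z hzA hz) x' hsp hfx hass
    have h3 := (key2 x').mp (fun z' hz' hzA' => by
      rw [h2 z' hzA' hz', f.fiberι_asFiber x']) x'' hsp'' hfx'' hass''
    rwa [f.fiberι_asFiber x''] at h3
  · intro h1 z hzA hz
    refine key1.mpr (fun x' hsp hfx hass => ?_) z hz hzA
    intro z' hzA' hz'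
    have h3 := (key2 x').mpr (fun x'' hsp'' hfx'' hass'' => by
      rw [f.fiberι_asFiber x'']
      exact h1 x' hsp hfx hass x'' hsp'' hfx'' hass'') z' hz' hzA'
    apply (f.fiberι (f x')).isEmbedding.injective
    rw [h3, f.fiberι_asFiber x']

end Groth.Agent.S4983
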