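import Groth.Statements.S1339
import Mathlib
import Groth.Agent.S1335
import Groth.Agent.S1337
import Groth.Agent.S2396
import Groth.Agent.Lib.Helper78.ConsMor

set_option autoImplicit false
universe u
open FlatMor

namespace Groth.Agent.S1339

open AlgebraicGeometry CategoryTheory Limits in
/-- Noetherian case: level sets of the count are constructible. -/
theorem isConstructible_noeth {X₀ S₀ : Scheme.{u}} [IsNoetherian S₀] (g₀ : X₀ ⟶ S₀)
    [LocallyOfFiniteType g₀] [QuasiCompact g₀] (n : ℕ∞) :
    Topology.IsConstructible {s : S₀ | MoreMor.nGeomConnComp g₀ s = n} := by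
  rw [Groth.Agent.S2396.result]
  intro Y hYc hYi
  obtain ⟨y, hy⟩ := QuasiSober.sober hYi hYc
  obtain rfl : closure {y} = Y := hy.def
  obtain ⟨V, hVsub, hyV, hVopen, hVconst⟩ := Groth.Agent.S1337.result g₀ y
  obtain ⟨U, hU, hUV⟩ := isOpen_induced_iff.1 hVopen
  have hUV' : U ∩ closure {y} = V := by
    ext x
    constructor
    · rintro ⟨hxU, hxY⟩
      have : (⟨x, hxY⟩ : closure ({y} : Set S₀)) ∈ Subtype.val ⁻¹' U := hxU
      rw [hUV] at this
      exact this
    · intro hxV
      have hxY := hVsub hxV
      have : (⟨x, hxY⟩ : closure ({y} : Set S₀)) ∈ Subtype.val ⁻¹' V := hxV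
      rw [← hUV] at this
      exact ⟨this, hxY⟩
  by_cases hn : MoreMor.nGeomConnComp g₀ y = n
  · right
    refine ⟨U, hU, ⟨y, ?_⟩, ?_⟩
    · rw [hUV']
      exact hyV
    · rw [hUV']
      intro x hx
      show MoreMor.nGeomConnComp g₀ x = n
      rw [hVconst x hx, hn]
  · left
    rw [Groth.Agent.S2396.nowhereDense_iff _ _ hYi]
    intro hsub
    have hcl : closure ({s : S₀ | MoreMor.nGeomConnComp g₀ s = n} ∩ closure {y}) ⊆
        closure {y} \ U := by
      apply closure_minimal
      · rintro x ⟨hxE, hxY⟩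
        refine ⟨hxY, fun hxU => ?_⟩
        have hxV : x ∈ V := by
          rw [← hUV']
          exact ⟨hxU, hxY⟩
        apply hn
        rw [← hVconst x hxV]
        exact hxE
      · exact isClosed_closure.sdiff hU
    have hyU : y ∈ U := by
      have : y ∈ U ∩ closure {y} := by
        rw [hUV']
        exact hyV
      exact this.1
    exact (hcl (hsub (subset_closure rfl))).2 hyU

open AlgebraicGeometry CategoryTheory Limits in
/-- Affine base: level sets of the count are constructible. -/
theorem isConstructible_of_isAffine {X S : Scheme.{u}} [IsAffine S] (g : X ⟶ S)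
    [LocallyOfFinitePresentation g] [QuasiCompact g] [QuasiSeparated g] (n : ℕ∞) :
    Topology.IsConstructible {s : S | MoreMor.nGeomConnComp g s = n} := by
  obtain ⟨S₀, X₀, Y₀, f₀, g₀, h, eX, eY, _, _, _, _, _, hY, hX⟩ :=
    Groth.Agent.Lib.Helper78.ConsMor.exists_noeth_model_mor (𝟙 X) g
  have heq : {s : S | MoreMor.nGeomConnComp g s = n} =
      h.base ⁻¹' {s : S₀ | MoreMor.nGeomConnComp g₀ s = n} := by
    ext s
    show MoreMor.nGeomConnComp g s = n ↔ MoreMor.nGeomConnComp g₀ (h s) = n
    rw [Groth.Agent.S1335.result g₀ g eY h hY s]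
  rw [heq]
  exact h.isConstructible_preimage (isConstructible_noeth g₀ n)

open AlgebraicGeometry CategoryTheory Limits in

open AlgebraicGeometry CategoryTheory Limits in
/-- For a morphism of finite presentation, each level set of the function counting the connected
components of the geometric fibres is locally constructible in the target. -/
theorem result {X Y : Scheme.{u}} (f : X ⟶ Y) [LocallyOfFinitePresentation f] [QuasiCompact f] [QuasiSeparated f] (n : ℕ∞) :
    Topology.IsLocallyConstructible {y : ↑Y | MoreMor.nGeomConnComp f y = n} := by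
  intro y₀
  obtain ⟨_, ⟨V, hV : IsAffineOpen V, rfl⟩, hyV, -⟩ :=
    Y.isBasis_affineOpens.exists_subset_of_mem_open (Set.mem_univ y₀) isOpen_univ
  refine ⟨V, V.2.mem_nhds hyV, V.2, ?_⟩
  suffices hsuff : Topology.IsConstructible ((Scheme.Opens.ι V) ⁻¹'
      {y : Y | MoreMor.nGeomConnComp f y = n}) from hsuff
  have : IsAffine (V : Scheme.{u}) := hV
  have heq : ((Scheme.Opens.ι V) ⁻¹' {y : Y | MoreMor.nGeomConnComp f y = n}) =
      {v : (V : Scheme.{u}) | MoreMor.nGeomConnComp (f ∣_ V) v = n} := by
    ext v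
    show MoreMor.nGeomConnComp f (Scheme.Opens.ι V v) = n ↔ MoreMor.nGeomConnComp (f ∣_ V) v = n
    rw [Groth.Agent.S1335.result f (f ∣_ V) (Scheme.Opens.ι (f ⁻¹ᵁ V)) (Scheme.Opens.ι V) (isPullback_morphismRestrict f V).flip v]
  rw [heq]
  exact isConstructible_of_isAffine (f ∣_ V) n

end Groth.Agent.S1339
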