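import Groth.Statements.S0549
import Groth.Agent.S0543
import Mathlib.RingTheory.DiscreteValuationRing.TFAE
import Mathlib.RingTheory.Filtration
import Mathlib.RingTheory.AdicCompletion.Noetherian
import Mathlib.Algebra.Module.SpanRankOperations

set_option autoImplicit false
universe u
open CAlg

namespace Groth.Agent.S0549

open IsLocalRing in
theorem exists_unit_mul_pow {B : Type u} [CommRing B] [IsLocalRing B] [IsNoetherianRing B] (s : B)
    (hs : maximalIdeal B = Ideal.span {s}) (x : B) (hx : x ≠ 0) :
    ∃ (n : ℕ) (c : B), IsUnit c ∧ x = c * s ^ n := by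
  have hbot := Ideal.iInf_pow_eq_bot_of_isLocalRing (maximalIdeal B) Ideal.IsPrime.ne_top'
  have hex : ∃ n, x ∉ maximalIdeal B ^ n := by
    by_contra hcon
    push Not at hcon
    have : x ∈ ⨅ i, maximalIdeal B ^ i := by
      rw [Ideal.mem_iInf]
      exact hcon
    rw [hbot] at this
    exact hx (by simpa using this)
  classical
  let n := Nat.find hex
  have hn : x ∉ maximalIdeal B ^ n := Nat.find_spec hex
  have hn0 : n ≠ 0 := by
    intro h0
    rw [h0, pow_zero, Ideal.one_eq_top] at hn
    exact hn (Submodule.mem_top)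
  obtain ⟨k, hk⟩ := Nat.exists_eq_succ_of_ne_zero hn0
  have hk' : x ∈ maximalIdeal B ^ k := by
    by_contra hcon
    have := Nat.find_min' hex hcon
    omega
  rw [hs, Ideal.span_singleton_pow, Ideal.mem_span_singleton] at hk'
  obtain ⟨c, hc⟩ := hk'
  refine ⟨k, c, ?_, by rw [hc, mul_comm]⟩
  by_contra hcu
  have hcm : c ∈ maximalIdeal B := (mem_maximalIdeal c).mpr hcu
  rw [hs, Ideal.mem_span_singleton] at hcm
  obtain ⟨d, hd⟩ := hcm
  apply hn
  rw [hk, hs, Ideal.span_singleton_pow, Ideal.mem_span_singleton]
  exact ⟨d, by rw [hc, hd, pow_succ]; ring⟩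

open IsLocalRing in
theorem isDomain_of_principal {B : Type u} [CommRing B] [IsLocalRing B] [IsNoetherianRing B]
    (s : B) (hs : maximalIdeal B = Ideal.span {s}) (hn : ¬ IsNilpotent s) : IsDomain B := by
  haveI : NoZeroDivisors B := by
    constructor
    intro x y hxy
    by_contra hcon
    push Not at hcon
    obtain ⟨n, c, hc, rfl⟩ := exists_unit_mul_pow s hs x hcon.1
    obtain ⟨k, d, hd, rfl⟩ := exists_unit_mul_pow s hs y hcon.2
    have h1 : (c * d) * s ^ (n + k) = 0 := by
      rw [← hxy, pow_add]; ring
    have h2 : s ^ (n + k) = 0 := by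
      have := (hc.mul hd).mul_right_eq_zero.mp h1
      exact this
    exact hn ⟨n + k, h2⟩
  exact NoZeroDivisors.to_isDomain B

/-- A Noetherian local ring is a discrete valuation ring exactly when its completion at the maximal
ideal is a discrete valuation ring. -/
theorem result (A : Type u) [CommRing A] [IsLocalRing A]
    [IsNoetherianRing A] :
    (∃ _ : IsDomain A, IsDiscreteValuationRing A) ↔
      ∃ _ : IsDomain (AdicCompletion (IsLocalRing.maximalIdeal A) A),
        IsDiscreteValuationRing (AdicCompletion (IsLocalRing.maximalIdeal A) A) := by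
  haveI : IsNoetherianRing (AdicCompletion (IsLocalRing.maximalIdeal A) A) :=
    Groth.Agent.S0543.result A (IsLocalRing.maximalIdeal A)
  have hrank : Module.finrank (IsLocalRing.ResidueField (AdicCompletion (IsLocalRing.maximalIdeal A) A))
      (IsLocalRing.CotangentSpace (AdicCompletion (IsLocalRing.maximalIdeal A) A)) =
      Module.finrank (IsLocalRing.ResidueField A) (IsLocalRing.CotangentSpace A) := by
    rw [← IsLocalRing.spanFinrank_maximalIdeal_eq_finrank_cotangentSpace,
      ← IsLocalRing.spanFinrank_maximalIdeal_eq_finrank_cotangentSpace,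
      AdicCompletion.spanFinrank_maximalIdeal_eq]
  have hinj : Function.Injective (algebraMap A (AdicCompletion (IsLocalRing.maximalIdeal A) A)) :=
    AdicCompletion.of_injective _ _
  constructor
  · rintro ⟨hd, hdvr⟩
    obtain ⟨t, ht⟩ := IsDiscreteValuationRing.exists_irreducible A
    have hm : IsLocalRing.maximalIdeal (AdicCompletion (IsLocalRing.maximalIdeal A) A) =
        Ideal.span {algebraMap A (AdicCompletion (IsLocalRing.maximalIdeal A) A) t} := by
      rw [AdicCompletion.maximalIdeal_eq_map, ht.maximalIdeal_eq, Ideal.map_span,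
        Set.image_singleton]
    have hnil : ¬ IsNilpotent (algebraMap A (AdicCompletion (IsLocalRing.maximalIdeal A) A) t) := by
      rintro ⟨n, hn⟩
      rw [← map_pow] at hn
      have h0 : t ^ n = 0 := hinj (by simpa using hn)
      exact ht.ne_zero (eq_zero_of_pow_eq_zero h0)
    haveI hdom : IsDomain (AdicCompletion (IsLocalRing.maximalIdeal A) A) :=
      isDomain_of_principal _ hm hnil
    refine ⟨hdom, ?_⟩
    rw [← IsLocalRing.finrank_CotangentSpace_eq_one_iff, hrank,
      IsLocalRing.finrank_CotangentSpace_eq_one_iff]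
    exact hdvr
  · rintro ⟨hd, hdvr⟩
    haveI hdom : IsDomain A :=
      hinj.isDomain (algebraMap A (AdicCompletion (IsLocalRing.maximalIdeal A) A))
    refine ⟨hdom, ?_⟩
    rw [← IsLocalRing.finrank_CotangentSpace_eq_one_iff, ← hrank,
      IsLocalRing.finrank_CotangentSpace_eq_one_iff]
    exact hdvr

end Groth.Agent.S0549
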