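import Groth.Statements.S4689
import Groth.Agent.Lib.Helper73.DimFormula.Catenary

set_option autoImplicit false
universe u
open EGA4

namespace Groth.Agent.S4689

/-- Let A be a universally catenary Noetherian local domain and B a domain containing A which is a
finite A-algebra. Then for every maximal ideal n of B the local ring B_n has the same Krull
dimension as A. -/
theorem result (A B : Type u) [CommRing A] [IsDomain A]
    [IsNoetherianRing A] [IsLocalRing A] (hA : CAlg.IsUniversallyCatenary A) [CommRing B] [IsDomain B]
    [Algebra A B] [FaithfulSMul A B] [Module.Finite A B] (n : Ideal B) [n.IsMaximal] :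
    ringKrullDim (Localization.AtPrime n) = ringKrullDim A := by
  have hint : Algebra.IsIntegral A B := inferInstance
  let m : Ideal A := n.under A
  have hm : m.IsMaximal := Ideal.IsMaximal.under A n
  have hmeq : m = IsLocalRing.maximalIdeal A := IsLocalRing.eq_maximalIdeal hm
  have hmp : m.IsPrime := hm.isPrime
  have hno : n.LiesOver m := Ideal.over_under (A := A) n
  have h := Groth.Agent.Lib.Helper73.dimFormula_eq A hA B m n
  have h1 : Algebra.trdeg A B = 0 := trdeg_eq_zero
  have hint2 : Algebra.IsIntegral (A ⧸ m) (B ⧸ n) := inferInstance
  have h2 : Algebra.trdeg (A ⧸ m) (B ⧸ n) = 0 := trdeg_eq_zero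
  rw [h1, h2, add_zero, add_zero] at h
  have h3 : n.height = m.height := by exact_mod_cast h
  rw [IsLocalization.AtPrime.ringKrullDim_eq_height n (Localization.AtPrime n), h3, hmeq,
    IsLocalRing.maximalIdeal_height_eq_ringKrullDim]

end Groth.Agent.S4689
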