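import Groth.Statements.S12124
import Groth.Agent.Lib.Helper38.MoriNagata

set_option autoImplicit false
universe u
open CAlg

namespace Groth.Agent.S12124

/-- Let A be a Noetherian local domain with fraction field K and A' its integral closure in K. Then A'
is a Krull domain whose essential valuation rings come from a finite sub-A-algebra: there is a
sub-A-algebra C of K, finite over A, such that, writing V_p for the integral closure in K of the
local ring C_p at a height-one prime p of C (the elements x of K with s x integral over C for some s
in C outside p), (a) each V_p is a discrete valuation ring with fraction field K, (b) A' is the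
intersection of the V_p over all height-one primes p of C, and (c) every element of K lies in V_p
for all but finitely many p. (The published statement calls C local and also records that A' is
semi-local; this row does not assert that C is local, and the semi-locality of A' is a separate
result.) -/
theorem result {A : Type u} [CommRing A] [IsDomain A] [IsNoetherianRing A] [IsLocalRing A] :
    ∃ C : Subalgebra A (FractionRing A), Module.Finite A C ∧
      (∀ (p : Ideal C) [p.IsPrime], p.height = 1 →
        ∃ V : ValuationSubring (FractionRing A), IsDiscreteValuationRing V ∧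
          ∀ x : FractionRing A, x ∈ V ↔ ∃ s : C, s ∉ p ∧ IsIntegral C ((s : FractionRing A) * x)) ∧
      (∀ x : FractionRing A, x ∈ integralClosure A (FractionRing A) ↔
        ∀ (p : Ideal C) [p.IsPrime], p.height = 1 → ∃ s : C, s ∉ p ∧ IsIntegral C ((s : FractionRing A) * x)) ∧
      (∀ x : FractionRing A, {p : Ideal C | p.IsPrime ∧ p.height = 1 ∧
        ¬ ∃ s : C, s ∉ p ∧ IsIntegral C ((s : FractionRing A) * x)}.Finite) := by
  classical
  let K := FractionRing A
  obtain ⟨Cα, hCα, -, hrad⟩ := Groth.Agent.Lib.Helper38.IntClosMax.exists_stable_cpl A K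
  have hint := Groth.Agent.Lib.Helper38.IntClosMax.le_integralClosure_of_PP A K Cα hCα
  have hui := hrad hint
  have hfin : Module.Finite A Cα := hCα.1
  have hNoeth : IsNoetherianRing Cα := IsNoetherianRing.of_finite A Cα
  have hAint : Algebra.IsIntegral A Cα := Algebra.IsIntegral.of_finite A Cα
  have hfaith : FaithfulSMul Cα K :=
    (faithfulSMul_iff_algebraMap_injective Cα K).mpr Subtype.val_injective
  have hfrac : IsFractionRing Cα K := by
    apply IsFractionRing.of_field
    intro z
    obtain ⟨a, b, hb, hab⟩ := hCα.2 z
    refine ⟨a, b, ?_⟩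
    have hb' : algebraMap Cα K b ≠ 0 := hb
    rw [eq_div_iff hb']
    exact hab
  -- comparison of the two integral closures
  have hAC : ∀ x : K, IsIntegral Cα x ↔ IsIntegral A x := fun x =>
    ⟨fun h => isIntegral_trans x h, fun h => h.tower_top⟩
  let φ := (Subalgebra.inclusion hint).toRingHom
  let ψinv : integralClosure A K →+* integralClosure Cα K :=
    { toFun := fun y => ⟨y.1, (hAC y.1).mpr y.2⟩
      map_one' := rfl
      map_mul' := fun _ _ => rfl
      map_zero' := rfl
      map_add' := fun _ _ => rfl }
  have hψsurj : Function.Surjective ψinv := fun y => ⟨⟨y.1, (hAC y.1).mp y.2⟩, rfl⟩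
  have hcomp : ψinv.comp φ = algebraMap Cα (integralClosure Cα K) :=
    RingHom.ext (fun c => Subtype.ext rfl)
  have hinj : Groth.Agent.Lib.Helper38.MoriNagata.InjSpec Cα K := by
    intro P₁ P₂ hP₁ hP₂ h
    let p₁ : PrimeSpectrum (integralClosure A K) := ⟨P₁.comap ψinv, Ideal.comap_isPrime _ _⟩
    let p₂ : PrimeSpectrum (integralClosure A K) := ⟨P₂.comap ψinv, Ideal.comap_isPrime _ _⟩
    have h2 : (AlgebraicGeometry.Spec.map (CommRingCat.ofHom φ)) p₁ =
        (AlgebraicGeometry.Spec.map (CommRingCat.ofHom φ)) p₂ := by
      rw [AlgebraicGeometry.Spec.map_apply, AlgebraicGeometry.Spec.map_apply]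
      apply PrimeSpectrum.ext
      show (P₁.comap ψinv).comap φ = (P₂.comap ψinv).comap φ
      rw [Ideal.comap_comap, Ideal.comap_comap, hcomp]
      exact h
    have h3 : p₁ = p₂ := (AlgebraicGeometry.Spec.map (CommRingCat.ofHom φ)).injective h2
    have h4 : P₁.comap ψinv = P₂.comap ψinv := congrArg PrimeSpectrum.asIdeal h3
    exact Ideal.comap_injective_of_surjective ψinv hψsurj h4
  refine ⟨Cα, hfin, ?_, ?_, ?_⟩
  · intro p hp hht
    exact Groth.Agent.Lib.Helper38.MoriNagata.exists_dvr hinj p hht
  · intro x
    rw [mem_integralClosure_iff, ← hAC x,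
      Groth.Agent.Lib.Helper38.MoriNagata.isIntegral_iff_forall_height_one hinj x]
    exact ⟨fun h p hp hht => h p hp hht, fun h p hp hht => h p hht⟩
  · intro x
    exact Groth.Agent.Lib.Helper38.MoriNagata.finite_bad x

end Groth.Agent.S12124
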