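import Groth.Statements.S9438
import Groth.Agent.S0565
import Mathlib

set_option autoImplicit false
universe u
open CAlg

namespace Groth.Agent.S9438

theorem isNoetherianRing_of_faithfullyFlat (R : Type u) [CommRing R] (S : Type u) [CommRing S]
    [Algebra R S] [Module.FaithfullyFlat R S] [IsNoetherianRing S] : IsNoetherianRing R := by
  have hinj := Ideal.map_injective_of_faithfullyFlat (A := R) (B := S)
  have hmono : StrictMono (Ideal.map (algebraMap R S)) :=
    Monotone.strictMono_of_injective (fun _ _ h => Ideal.map_mono h) hinj
  have : WellFoundedGT (Ideal S) := (isNoetherian_iff' (R := S) (M := S)).mp inferInstance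
  have : WellFoundedGT (Ideal R) := hmono.wellFoundedGT
  exact (isNoetherian_iff' (R := R) (M := R)).mpr this

theorem main (h0565 : ∀ (A : Type u) [CommRing A] [IsLocalRing A] [IsNoetherianRing A] (B : Type u)
      [CommRing B] [IsRegularLocalRing B] [Algebra A B] [IsLocalHom (algebraMap A B)]
      [Module.Flat A B], IsRegularLocalRing A)
    (k : ℕ) (R : Type u) [CommRing R] (S : Type u) [CommRing S]
    [Algebra R S] [Module.FaithfullyFlat R S] [IsNoetherianRing S] (hS : LocCoh.HasRk k S) :
    IsNoetherianRing R ∧ LocCoh.HasRk k R := by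
  have hRnoeth : IsNoetherianRing R := isNoetherianRing_of_faithfullyFlat R S
  refine ⟨hRnoeth, ?_⟩
  intro p hp hpk
  -- pS ≠ ⊤
  have hpS : p.map (algebraMap R S) ≠ ⊤ := by
    intro h
    have := Ideal.comap_map_eq_self_of_faithfullyFlat (B := S) p
    rw [h, Ideal.comap_top] at this
    exact hp.ne_top this.symm
  obtain ⟨m, hm⟩ := Ideal.exists_le_maximal _ hpS
  have hmprime : m.IsPrime := hm.1.isPrime
  obtain ⟨q, hq, -⟩ := Ideal.exists_minimalPrimes_le (I := p.map (algebraMap R S)) (J := m) hm.2
  have hqprime : q.IsPrime := hq.1.1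
  have hpq : p.map (algebraMap R S) ≤ q := hq.1.2
  -- q lies over p
  have hple : p ≤ q.under R := by
    rw [Ideal.under_def, ← Ideal.map_le_iff_le_comap]; exact hpq
  have hover : q.under R = p := by
    obtain ⟨q', hq'le, hq'prime, hq'over⟩ := Ideal.exists_ideal_le_liesOver_of_le (p := p) q hple
    have h1 : p.map (algebraMap R S) ≤ q' := by
      rw [Ideal.map_le_iff_le_comap, ← Ideal.under_def, ← hq'over.over]
    have h2 : q ≤ q' := hq.2 ⟨hq'prime, h1⟩ hq'le
    have h3 : q' = q := le_antisymm hq'le h2
    rw [← h3]; exact hq'over.over.symm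
  have hlies : q.LiesOver p := ⟨hover.symm⟩
  -- height
  have hheight : q.height ≤ p.height := by
    have h1 := Ideal.height_le_height_add_of_liesOver p q
    have h2 : (q.map (Ideal.Quotient.mk (p.map (algebraMap R S)))).height = 0 := by
      have hmem : q ∈ Ideal.comap (Ideal.Quotient.mk (p.map (algebraMap R S))) ''
          minimalPrimes (S ⧸ p.map (algebraMap R S)) := by
        rw [← Ideal.minimalPrimes_eq_comap]; exact hq
      obtain ⟨qb, hqb, rfl⟩ := hmem
      rw [Ideal.map_comap_of_surjective _ Ideal.Quotient.mk_surjective]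
      have : qb.IsPrime := hqb.1.1
      exact Ideal.height_eq_zero_iff.mpr hqb 
    rw [h2, add_zero] at h1
    exact h1
  have hSq : IsRegularLocalRing (Localization.AtPrime q) := hS q (hheight.trans hpk)
  -- flat local hom R_p → S_q
  have hpq' : p = Ideal.comap (algebraMap R S) q := hover.symm
  let φ : Localization.AtPrime p →+* Localization.AtPrime q :=
    Localization.localRingHom p q (algebraMap R S) hpq'
  let _ : Algebra (Localization.AtPrime p) (Localization.AtPrime q) := φ.toAlgebra
  have hloc : IsLocalHom (algebraMap (Localization.AtPrime p) (Localization.AtPrime q)) :=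
    Localization.isLocalHom_localRingHom p q (algebraMap R S) hpq'
  have hflat0 : (algebraMap R S).Flat := by
    rw [RingHom.flat_algebraMap_iff]; infer_instance
  have hflat : Module.Flat (Localization.AtPrime p) (Localization.AtPrime q) :=
    (hflat0.localRingHom q p hpq')
  exact h0565 (Localization.AtPrime p) (Localization.AtPrime q)

/-- The condition (R_k) descends along faithfully flat ring maps: if S is faithfully flat over R,
Noetherian and (R_k), then R is Noetherian and (R_k). -/
theorem result (k : ℕ) (R : Type u) [CommRing R] (S : Type u) [CommRing S]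
    [Algebra R S] [Module.FaithfullyFlat R S] [IsNoetherianRing S] (hS : LocCoh.HasRk k S) :
    IsNoetherianRing R ∧ LocCoh.HasRk k R := by
  exact main (fun A _ _ _ B _ _ _ _ _ => Groth.Agent.S0565.result A B) k R S hS

end Groth.Agent.S9438
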