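import Groth.Statements.S4630
import Mathlib
import Groth.Agent.Lib.Helper51.CommonPoint

set_option autoImplicit false
open CategoryTheory AlgebraicGeometry
universe u
open FBase

namespace Groth.Agent.S4630

/-- Let X be a scheme over a field k, k' an extension field of k, and x' a point of X' = X ⊗_k k' lying
over the point x of X. Then X is geometrically pointwise integral at x over k if and only if X' is
geometrically pointwise integral at x' over k'. -/
theorem result {k K : Type u} [Field k] [Field K] [Algebra k K]
    {X : Scheme.{u}} (f : X ⟶ Spec (CommRingCat.of k)) (x' : ↥(FBase.bc f K)) :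
    FBase.IsGeomPtIntegralAt f ((FBase.bcπ f K) x') ↔ FBase.IsGeomPtIntegralAt (FBase.bcStr f K) x' := by
  unfold FBase.bc at x'
  constructor
  · intro h E _ _ t ht
    unfold FBase.bc FBase.bcStr at t ⊢
    unfold FBase.bcπ FBase.bcStr at ht
    letI algkE : Algebra k E := ((algebraMap K E).comp (algebraMap k K)).toAlgebra
    haveI : IsScalarTower k K E := IsScalarTower.of_algebraMap_eq (fun _ => rfl)
    obtain ⟨t', ht', ⟨e⟩⟩ := Groth.Agent.Lib.Helper51.stalk_tower_transfer f (k' := K) (E := E) t
    haveI hdom : IsDomain ((Limits.pullback f (Spec.map (CommRingCat.ofHom (algebraMap k E)))).presheaf.stalk t') :=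
      h E t' (by
        unfold FBase.bcπ
        exact ht'.trans (congrArg _ ht))
    exact e.symm.toMulEquiv.isDomain _
  · intro h L _ _ z hz
    unfold FBase.bc at z ⊢
    unfold FBase.bcπ at hz
    obtain ⟨E, _, _, a, t, hfa, rfl, ht⟩ := Groth.Agent.Lib.Helper51.exists_common_point_aux
      f (Spec.map (CommRingCat.ofHom (algebraMap k L)))
      (Spec.map (CommRingCat.ofHom (algebraMap k K))) z x' hz
    haveI hr : IsDomain ↑((Limits.pullback (Limits.pullback.snd f
        (Spec.map (CommRingCat.ofHom (algebraMap k K))))
        (Spec.map (CommRingCat.ofHom (algebraMap K E)))).presheaf.stalk t) := h E t ht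
    exact Function.Injective.isDomain (a.stalkMap t).hom
      (Groth.Agent.Lib.Helper51.injective_stalkMap_of_flat a t)

end Groth.Agent.S4630
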