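import Groth.Statements.S4631
import Mathlib
import Groth.Agent.Lib.Helper51.CommonPoint
import Groth.Agent.Lib.Helper51.GeomRedAt

set_option autoImplicit false
open CategoryTheory AlgebraicGeometry
universe u
open FBase

namespace Groth.Agent.S4631

/-- Let X be a scheme over an algebraically closed field k and x a point of X. Then X is geometrically
pointwise integral at x over k if and only if the local ring of X at x is a domain. -/
theorem result {k : Type u} [Field k] [IsAlgClosed k] {X : Scheme.{u}}
    (f : X ⟶ Spec (CommRingCat.of k)) (x : X) :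
    FBase.IsGeomPtIntegralAt f x ↔ IsDomain ↑(X.presheaf.stalk x) := by
  letI algx : Algebra k (X.presheaf.stalk x) :=
    ((X.presheaf.germ ⊤ x trivial).hom.comp (Coh.toGlobal f)).toAlgebra
  have hψ : Spec.map (CommRingCat.ofHom (algebraMap k (X.presheaf.stalk x))) = X.fromSpecStalk x ≫ f :=
    Groth.Agent.Lib.Helper51.specMap_stalkMapOf f x
  constructor
  · intro h
    obtain ⟨y, hy⟩ := (Groth.Agent.Lib.Helper51.surjective_pullback_fst_field f k).surj x
    have hdom := h k y hy
    unfold FBase.bc at hdom
    subst hy
    haveI : IsDomain ↑((Limits.pullback f (Spec.map (CommRingCat.ofHom (algebraMap k k)))).presheaf.stalk y) := hdom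
    exact Function.Injective.isDomain
      ((Limits.pullback.fst f (Spec.map (CommRingCat.ofHom (algebraMap k k)))).stalkMap y).hom
      (Groth.Agent.Lib.Helper51.injective_stalkMap_of_flat _ y)
  · intro h K _ _ y hy
    unfold FBase.bc at y ⊢
    unfold FBase.bcπ at hy
    haveI : IsDomain (TensorProduct k (X.presheaf.stalk x) K) :=
      Groth.Agent.Lib.Helper51.isDomain_tensor_of_isAlgClosed K
    exact Groth.Agent.Lib.Helper51.isDomain_stalk_of_isDomain_tensor f x hψ K y hy

end Groth.Agent.S4631
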