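import Groth.Statements.S4649
import Mathlib
import Groth.Agent.Lib.Helper51.DomainLocus
import Groth.Agent.Lib.Helper51.GeomIrr
import Groth.Agent.S4630
import Groth.Agent.S4631

set_option autoImplicit false
open CategoryTheory AlgebraicGeometry
universe u
open FBase

namespace Groth.Agent.S4649

/-- Let X be a scheme of finite type over a field k and Ω an algebraically closed extension field of k.
Then X is geometrically pointwise integral over k (every local ring of every X ⊗_k K is a domain) if
and only if X is geometrically reduced over k and the number of irreducible components of X ⊗_k Ω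
equals the number of connected components of X ⊗_k Ω (the geometric numbers of irreducible and of
connected components agree). -/
theorem result {k Ω : Type u} [Field k] [Field Ω] [Algebra k Ω] [IsAlgClosed Ω]
    {X : Scheme.{u}} (f : X ⟶ Spec (CommRingCat.of k)) [LocallyOfFiniteType f] [QuasiCompact f] :
    (∀ x : X, FBase.IsGeomPtIntegralAt f x) ↔
      (GeometricallyReduced f ∧
        Nat.card ↥(irreducibleComponents ↥(FBase.bc f Ω)) = Nat.card (_root_.ConnectedComponents ↥(FBase.bc f Ω))) := by
  haveI : IsLocallyNoetherian (Spec (CommRingCat.of Ω)) := by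
    rw [isLocallyNoetherian_Spec]
    infer_instance
  unfold FBase.bc
  constructor
  · intro h
    refine ⟨⟨geometrically_iff_of_commRing_of_isClosedUnderIsomorphisms.mpr fun K _ _ => ?_⟩, ?_⟩
    · refine @isReduced_of_isReduced_stalk _ ?_
      intro y
      haveI : IsDomain ((Limits.pullback f (Spec.map (CommRingCat.ofHom
          (algebraMap k K)))).presheaf.stalk y) := h _ K y rfl
      infer_instance
    · have hdom : ∀ y : ↥(Limits.pullback f (Spec.map (CommRingCat.ofHom (algebraMap k Ω)))),
          IsDomain ((Limits.pullback f (Spec.map (CommRingCat.ofHom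
            (algebraMap k Ω)))).presheaf.stalk y) := fun y => h _ Ω y rfl
      exact Nat.card_congr (Equiv.ofBijective _
        ⟨Groth.Agent.Lib.Helper51.irrToConn_injective_of_forall_isDomain_stalk _ hdom,
          Groth.Agent.Lib.Helper51.irrToConn_surjective _⟩)
  · rintro ⟨hred, hcard⟩ x
    haveI : IsReduced (Limits.pullback f (Spec.map (CommRingCat.ofHom (algebraMap k Ω)))) :=
      geometrically_iff_of_commRing_of_isClosedUnderIsomorphisms.mp hred.1 Ω
    haveI : CompactSpace ↥(Limits.pullback f (Spec.map (CommRingCat.ofHom (algebraMap k Ω)))) :=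
      inferInstance
    haveI : IsNoetherian (Limits.pullback f (Spec.map (CommRingCat.ofHom (algebraMap k Ω)))) := {}
    haveI : Finite ↥(irreducibleComponents
        ↥(Limits.pullback f (Spec.map (CommRingCat.ofHom (algebraMap k Ω))))) :=
      finite_irreducibleComponents_of_isNoetherian.to_subtype
    have hbij := (Groth.Agent.Lib.Helper51.irrToConn_surjective
      ↥(Limits.pullback f (Spec.map (CommRingCat.ofHom (algebraMap k Ω))))).bijective_of_nat_card_le
      hcard.le
    obtain ⟨y, hy⟩ := (Groth.Agent.Lib.Helper51.surjective_pullback_fst_field f Ω).surj x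
    have hdom := Groth.Agent.Lib.Helper51.isDomain_stalk_of_irrToConn_injective _ hbij.1 y
    have h1 : FBase.IsGeomPtIntegralAt (FBase.bcStr f Ω) y :=
      (Groth.Agent.S4631.result (FBase.bcStr f Ω) y).mpr hdom
    have h2 := (Groth.Agent.S4630.result f (K := Ω) y).mpr h1
    have hy' : (FBase.bcπ f Ω) y = x := hy
    rw [hy'] at h2
    exact h2

end Groth.Agent.S4649
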