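import Groth.Statements.S6161
import Groth.Agent.Lib.Helper28.CechQ
import Groth.Agent.Lib.Helper28.CechN
import Mathlib.CategoryTheory.Sites.LocallyBijective
import Mathlib.CategoryTheory.Sites.Localization
import Mathlib.CategoryTheory.Sites.Abelian
import Mathlib.CategoryTheory.Sites.Adjunction
import Mathlib.CategoryTheory.Sites.Limits
import Mathlib.Algebra.Category.Grp.Adjunctions

set_option autoImplicit false
universe u
open CategoryTheory
open CohSite

namespace Groth.Agent.S6161

open CategoryTheory Simplicial SimplicialObject Opposite Limits AlgebraicTopology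
open Groth.Agent.Lib.Helper28

section aux

variable {C : Type u} [SmallCategory C] (J : GrothendieckTopology C)

lemma isLocallySurjective_whiskerRight_free {P Q : Cᵒᵖ ⥤ Type u} (g : P ⟶ Q)
    [Presheaf.IsLocallySurjective J g] :
    Presheaf.IsLocallySurjective J (Functor.whiskerRight g AddCommGrpCat.free.{u}) where
  imageSieve_mem {U} s := by
    induction s using FreeAbelianGroup.induction_on with
    | zero =>
      refine J.superset_covering ?_ (J.top_mem U)
      intro V i _
      exact ⟨0, (map_zero _).trans (map_zero _).symm⟩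
    | of x =>
      refine J.superset_covering ?_ (Presheaf.imageSieve_mem J g x)
      rintro V i ⟨t, ht⟩
      refine ⟨FreeAbelianGroup.of t, ?_⟩
      change FreeAbelianGroup.map _ (FreeAbelianGroup.of t) =
        FreeAbelianGroup.map _ (FreeAbelianGroup.of x)
      rw [FreeAbelianGroup.map_of_apply, FreeAbelianGroup.map_of_apply]
      exact congrArg _ ht
    | neg x hx =>
      refine J.superset_covering ?_ hx
      rintro V i ⟨t, ht⟩
      refine ⟨-t, ?_⟩
      exact (map_neg _ t).trans ((congrArg Neg.neg ht).trans (map_neg _ _).symm)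
    | add x y hx hy =>
      refine J.superset_covering ?_ (J.intersection_covering hx hy)
      rintro V i ⟨⟨t, ht⟩, ⟨t', ht'⟩⟩
      refine ⟨t + t', ?_⟩
      exact (map_add _ t t').trans ((congrArg₂ (· + ·) ht ht').trans (map_add _ _ _).symm)

variable {K' K : Sheaf J (Type u)} (f : K' ⟶ K)

/-- The augmented Čech nerve of `f`, as an augmented simplicial presheaf. -/
noncomputable abbrev pshAug : SimplicialObject.Augmented (Cᵒᵖ ⥤ Type u) :=
  ((SimplicialObject.Augmented.whiskering _ _).obj (sheafToPresheaf J (Type u))).obj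
    (Arrow.mk f).augmentedCechNerve

lemma sectionwiseCechLike_pshAug : CechQ.SectionwiseCechLike (pshAug J f) := by
  intro V
  exact CechN.isCechLike_whisker_augmentedCechNerve (Arrow.mk f)
    (sheafToPresheaf J (Type u) ⋙ (evaluation Cᵒᵖ (Type u)).obj V)

lemma epi_base_zero [Epi f] :
    Epi ((Arrow.mk f).augmentedCechNerve.hom.app (op ⦋0⦌)) := by
  have fac : WidePullback.lift (objs := fun _ : Fin (0 + 1) => K') (arrows := fun _ => f) f
      (fun _ => 𝟙 _) (by simp) ≫
      (Arrow.mk f).augmentedCechNerve.hom.app (op ⦋0⦌) = f :=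
    WidePullback.lift_base _ _ _ _
  have hE : Epi (WidePullback.lift (objs := fun _ : Fin (0 + 1) => K') (arrows := fun _ => f) f
      (fun _ => 𝟙 _) (by simp) ≫
      (Arrow.mk f).augmentedCechNerve.hom.app (op ⦋0⦌)) := by
    rw [fac]
    assumption
  exact @epi_of_epi _ _ _ _ _ _ ((Arrow.mk f).augmentedCechNerve.hom.app (op ⦋0⦌)) hE

lemma isIso_sheafify_free_rangeι [Epi f] :
    IsIso ((presheafToSheaf J AddCommGrpCat.{u}).map
      (Functor.whiskerRight (Subfunctor.range ((pshAug J f).hom.app (op ⦋0⦌))).ι
        AddCommGrpCat.free.{u})) := by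
  rw [← J.W_iff]
  have h0 : (pshAug J f).hom.app (op ⦋0⦌) =
      ((Arrow.mk f).augmentedCechNerve.hom.app (op ⦋0⦌)).hom := by
    change (sheafToPresheaf J _).map _ ≫ 𝟙 _ = _
    rw [Category.comp_id]
    rfl
  have h1 : Presheaf.IsLocallySurjective J ((pshAug J f).hom.app (op ⦋0⦌)) := by
    rw [h0]
    have := epi_base_zero J f
    have : Sheaf.IsLocallySurjective ((Arrow.mk f).augmentedCechNerve.hom.app (op ⦋0⦌)) :=
      (Sheaf.isLocallySurjective_iff_epi _).2 inferInstance
    exact this
  have h2 : Presheaf.IsLocallySurjective J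
      (Subfunctor.range ((pshAug J f).hom.app (op ⦋0⦌))).ι :=
    Presheaf.isLocallySurjective_of_isLocallySurjective_fac J
      (Subfunctor.toRange_ι ((pshAug J f).hom.app (op ⦋0⦌)))
  have h3 := isLocallySurjective_whiskerRight_free J
    (Subfunctor.range ((pshAug J f).hom.app (op ⦋0⦌))).ι
  have h4 : Presheaf.IsLocallyInjective J
      (Functor.whiskerRight (Subfunctor.range ((pshAug J f).hom.app (op ⦋0⦌))).ι
        AddCommGrpCat.free.{u}) := by
    apply Presheaf.isLocallyInjective_of_injective
    intro X
    have : Mono ((Subfunctor.range ((pshAug J f).hom.app (op ⦋0⦌))).ι.app X) := inferInstance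
    have : Mono (AddCommGrpCat.free.{u}.map
      ((Subfunctor.range ((pshAug J f).hom.app (op ⦋0⦌))).ι.app X)) := inferInstance
    exact (AddCommGrpCat.mono_iff_injective _).1 this
  exact J.W_of_isLocallyBijective _


/-- source augmented object -/
noncomputable abbrev X' : SimplicialObject.Augmented (Sheaf J AddCommGrpCat.{u}) :=
  ((SimplicialObject.Augmented.whiskering _ _).obj (presheafToSheaf J AddCommGrpCat.{u})).obj
    (CechQ.freeRangeAug (pshAug J f))

/-- target augmented object -/
noncomputable abbrev X : SimplicialObject.Augmented (Sheaf J AddCommGrpCat.{u}) :=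
  ((SimplicialObject.Augmented.whiskering _ _).obj
    (Sheaf.composeAndSheafify J AddCommGrpCat.free.{u})).obj (Arrow.mk f).augmentedCechNerve

omit [SmallCategory C] in
lemma comp_aux {𝒜 ℬ 𝒞 : Type*} [Category 𝒜] [Category ℬ] [Category 𝒞] (F : 𝒜 ⥤ ℬ) (G : 𝒞 ⥤ 𝒜)
    {x y : 𝒞} (c : x ⟶ y) :
    𝟙 (F.obj (G.obj x)) ≫ (F.map (G.map c) ≫ 𝟙 _) =
      (F.map (G.map (c ≫ 𝟙 _) ≫ 𝟙 _) ≫ 𝟙 _) ≫ 𝟙 _ := by simp

/-- intermediate augmented object -/
noncomputable abbrev X'' : SimplicialObject.Augmented (Sheaf J AddCommGrpCat.{u}) :=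
  ((SimplicialObject.Augmented.whiskering _ _).obj (presheafToSheaf J AddCommGrpCat.{u})).obj
    (((SimplicialObject.Augmented.whiskering _ _).obj CechQ.freeW).obj (pshAug J f))

/-- the comparison morphism -/
noncomputable def ψ : X' J f ⟶ X'' J f :=
  ((SimplicialObject.Augmented.whiskering _ _).obj (presheafToSheaf J AddCommGrpCat.{u})).map
    (((SimplicialObject.Augmented.whiskering _ _).obj CechQ.freeW).map
      (CechQ.rangeAugι (pshAug J f)))

noncomputable def eX : X'' J f ≅ X J f :=
  Comma.isoMk (NatIso.ofComponents (fun n => Iso.refl _) (by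
      intro n m g
      simp only [Iso.refl_hom]
      rfl)) (Iso.refl _) (by
    refine NatTrans.ext (funext fun n => ?_)
    exact comp_aux (presheafToSheaf J AddCommGrpCat.{u}) CechQ.freeW
      ((sheafToPresheaf J (Type u)).map ((Arrow.mk f).augmentedCechNerve.hom.app n)))


lemma isIso_drop_map_ψ : IsIso (SimplicialObject.Augmented.drop.map (ψ J f)) := by
  have h : IsIso (CechQ.rangeAugι (pshAug J f)).left := by
    change IsIso (𝟙 _)
    infer_instance
  change IsIso (Functor.whiskerRight (Functor.whiskerRight (CechQ.rangeAugι (pshAug J f)).left _) _)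
  infer_instance

lemma isIso_point_map_ψ [Epi f] : IsIso (SimplicialObject.Augmented.point.map (ψ J f)) :=
  isIso_sheafify_free_rangeι J f

end aux


open CategoryTheory.Limits in

/-- Case A = Z; topos of sheaves of sets on a small site: for an epimorphism K' -> K of sheaves of sets,
the chain complex of free abelian sheaves ... -> Z[K' x_K K'] -> Z[K'] (alternating sums of the face
maps of the Cech nerve), augmented to Z[K], is a resolution of Z[K]: the augmentation is a
quasi-isomorphism to Z[K] placed in degree 0. (An epimorphic family (U_i -> X) is replaced here by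
the single epimorphism from its coproduct, which gives the same complex.) -/
theorem result {C : Type u} [SmallCategory C] (J : GrothendieckTopology C)
    {K' K : Sheaf J (Type u)} (f : K' ⟶ K) [Epi f] :
    QuasiIso ((AlgebraicTopology.AlternatingFaceMapComplex.ε (C := Sheaf J AddCommGrpCat.{u})).app
      (((SimplicialObject.Augmented.whiskering _ _).obj (Sheaf.composeAndSheafify J AddCommGrpCat.free.{u})).obj
        (Arrow.mk f).augmentedCechNerve)) := by
  have hQ : QuasiIso (AlternatingFaceMapComplex.ε.app (CechQ.freeRangeAug (pshAug J f))) :=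
    CechQ.quasiIso_ε_freeRangeAug (sectionwiseCechLike_pshAug J f)
  have hQ' : QuasiIso (((presheafToSheaf J AddCommGrpCat.{u}).mapHomologicalComplex _).map
      (AlternatingFaceMapComplex.ε.app (CechQ.freeRangeAug (pshAug J f)))) := inferInstance
  rw [CechH.quasiIso_ε_whisker_iff] at hQ'
  have hX' : QuasiIso (AlternatingFaceMapComplex.ε.app (X' J f)) := hQ'
  have hX'' : QuasiIso (AlternatingFaceMapComplex.ε.app (X'' J f)) :=
    (CechH.quasiIso_ε_iff_of_isIso (ψ J f) (isIso_drop_map_ψ J f) (isIso_point_map_ψ J f)).1 hX'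
  exact (CechH.quasiIso_ε_iff_of_iso (eX J f)).1 hX''

end Groth.Agent.S6161
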