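import Groth.Statements.S6624
import Mathlib.Algebra.Homology.Embedding.HomEquiv
import Mathlib.Algebra.Homology.Embedding.ExtendHomology
import Mathlib.Algebra.Homology.Additive
import Mathlib.CategoryTheory.Abelian.Injective.Extend
import Mathlib.CategoryTheory.Abelian.RightDerived
import Mathlib.Algebra.Homology.DerivedCategory.RightDerivedFunctorPlus
import Mathlib.Tactic
-- import your own Groth.Agent.* helpers here

set_option autoImplicit false
universe w w' v v' u u'
open CategoryTheory CategoryTheory.Limits
open CohDer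

namespace Groth.Agent.S6624

section helpers
open HomologicalComplex

section ext

variable {A : Type u} [Category.{v} A] [Abelian A]
    {B : Type u'} [Category.{v'} B] [Abelian B]
    (F : A ⥤ B) [F.Additive]
    {ι ι' : Type*} {c : ComplexShape ι} {c' : ComplexShape ι'} (e : c.Embedding c') [e.IsRelIff]

/-- the comparison map on restrictions -/
noncomputable def rho (K : HomologicalComplex A c) :
    (((F.mapHomologicalComplex c').obj (K.extend e)).restriction e) ⟶ (F.mapHomologicalComplex c).obj K where
  f i := F.map (K.extendXIso e rfl).hom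
  comm' i j hij := by
    change F.map _ ≫ F.map _ = F.map _ ≫ F.map _
    rw [← F.map_comp, ← F.map_comp, K.extend_d_eq e rfl rfl]
    simp

lemma rho_hasLift (K : HomologicalComplex A c) : e.HasLift (rho F e K) := by
  intro j hj i' hij'
  have hz : IsZero ((K.extend e).X i') := K.isZero_extend_X e i' (hj.notMem hij')
  exact (F.map_isZero hz).eq_of_src _ _

/-- `F` commutes with extension of complexes. -/
noncomputable def gam (K : HomologicalComplex A c) :
    (F.mapHomologicalComplex c').obj (K.extend e) ⟶ ((F.mapHomologicalComplex c).obj K).extend e :=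
  e.liftExtend (rho F e K) (rho_hasLift F e K)

instance (K : HomologicalComplex A c) : IsIso (gam F e K) := by
  have : ∀ i', IsIso ((gam F e K).f i') := by
    intro i'
    by_cases hi' : ∃ i, e.f i = i'
    · obtain ⟨i, rfl⟩ := hi'
      rw [gam, e.isIso_liftExtend_f_iff _ _ rfl]
      exact (inferInstance : IsIso (F.mapIso (K.extendXIso e rfl)).hom)
    · have h1 : IsZero (((F.mapHomologicalComplex c').obj (K.extend e)).X i') :=
        F.map_isZero (K.isZero_extend_X e i' (by simpa using hi'))
      have h2 : IsZero ((((F.mapHomologicalComplex c).obj K).extend e).X i') :=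
        isZero_extend_X _ e i' (by simpa using hi')
      exact ⟨0, h1.eq_of_src _ _, h2.eq_of_src _ _⟩
  exact HomologicalComplex.Hom.isIso_of_components _

lemma gam_naturality {K L : HomologicalComplex A c} (φ : K ⟶ L) :
    (F.mapHomologicalComplex c').map (extendMap φ e) ≫ gam F e L =
      gam F e K ≫ extendMap ((F.mapHomologicalComplex c).map φ) e := by
  apply (e.homEquiv _ _).injective
  ext i : 2
  dsimp [ComplexShape.Embedding.homEquiv]
  rw [e.homRestrict_precomp, e.homRestrict_comp_extendMap]
  simp only [gam, ComplexShape.Embedding.homRestrict_liftExtend]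
  change F.map _ ≫ F.map _ = F.map _ ≫ F.map _
  rw [← F.map_comp, ← F.map_comp, extendMap_f φ e rfl]
  simp

lemma quasiIso_map_extendMap_iff {K L : HomologicalComplex A c} (φ : K ⟶ L) :
    QuasiIso ((F.mapHomologicalComplex c').map (extendMap φ e)) ↔
      QuasiIso ((F.mapHomologicalComplex c).map φ) := by
  rw [← quasiIso_extendMap_iff _ e]
  rw [← quasiIso_iff_comp_right _ (gam F e L), gam_naturality, quasiIso_iff_comp_left]

end ext

section nat
variable {A : Type u} [Category.{v} A] [Abelian A] [EnoughInjectives A]
    {B : Type u'} [Category.{v'} B] [Abelian B]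
    (F : A ⥤ B) [F.Additive] (X : A)

lemma step3_zero (I : InjectiveResolution X) :
    QuasiIsoAt ((F.mapHomologicalComplex (.up ℕ)).map I.ι) 0 ↔ IsIso (F.toRightDerivedZero.app X) := by
  rw [quasiIsoAt_iff_isIso_homologyMap, I.toRightDerivedZero_eq F]
  have hiso : IsIso (((F.mapHomologicalComplex (.up ℕ)).obj ((CochainComplex.single₀ A).obj X)).iCycles 0) := by
    apply HomologicalComplex.isIso_iCycles _ 0 1 (by simp)
    simp
    exact F.map_zero _ _
  let e0 : ((F.mapHomologicalComplex (.up ℕ)).obj ((CochainComplex.single₀ A).obj X)).X 0 ≅ F.obj X := Iso.refl _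
  have key : ((F.mapHomologicalComplex (.up ℕ)).obj ((CochainComplex.single₀ A).obj X)).iCycles 0 ≫ e0.hom ≫
      I.toRightDerivedZero' F = HomologicalComplex.cyclesMap ((F.mapHomologicalComplex (.up ℕ)).map I.ι) 0 := by
    rw [← cancel_mono (HomologicalComplex.iCycles _ _)]
    simp only [Category.assoc, InjectiveResolution.toRightDerivedZero'_comp_iCycles,
      HomologicalComplex.cyclesMap_i, Functor.mapHomologicalComplex_map_f]
    congr 1
    exact Category.id_comp _
  have h2 : HomologicalComplex.homologyMap ((F.mapHomologicalComplex (.up ℕ)).map I.ι) 0 =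
      (CochainComplex.isoHomologyπ₀ _).inv ≫
        HomologicalComplex.cyclesMap ((F.mapHomologicalComplex (.up ℕ)).map I.ι) 0 ≫
        (CochainComplex.isoHomologyπ₀ _).hom := by
    rw [← CochainComplex.isoHomologyπ₀_inv_naturality_assoc]
    simp
  rw [h2, ← key]
  rw [isIso_comp_left_iff, isIso_comp_right_iff, isIso_comp_left_iff, isIso_comp_left_iff]
  rw [← Category.assoc, isIso_comp_right_iff, isIso_comp_right_iff]

lemma step3 (I : InjectiveResolution X) :
    QuasiIso ((F.mapHomologicalComplex (.up ℕ)).map I.ι) ↔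
      (IsIso (F.toRightDerivedZero.app X) ∧ ∀ i : ℕ, 0 < i → IsZero ((F.rightDerived i).obj X)) := by
  have hex : ∀ k : ℕ, ((F.mapHomologicalComplex (.up ℕ)).obj ((CochainComplex.single₀ A).obj X)).ExactAt (k + 1) := by
    intro k
    apply ShortComplex.exact_of_isZero_X₂
    exact F.map_isZero (HomologicalComplex.isZero_single_obj_X _ _ _ _ (Nat.succ_ne_zero k))
  have hpos : ∀ k : ℕ, QuasiIsoAt ((F.mapHomologicalComplex (.up ℕ)).map I.ι) (k + 1) ↔
      IsZero ((F.rightDerived (k + 1)).obj X) := by
    intro k
    rw [quasiIsoAt_iff_exactAt _ (k + 1) (hex k), HomologicalComplex.exactAt_iff_isZero_homology]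
    exact (Iso.isZero_iff (I.isoRightDerivedObj F (k + 1))).symm
  have hzero := step3_zero F X I
  rw [quasiIso_iff]
  constructor
  · intro h
    refine ⟨hzero.1 (h 0), fun i hi => ?_⟩
    obtain ⟨k, rfl⟩ := Nat.exists_eq_succ_of_ne_zero hi.ne'
    exact (hpos k).1 (h _)
  · rintro ⟨h0, h⟩ n
    rcases n with _ | k
    · exact hzero.2 h0
    · exact (hpos k).2 (h _ (Nat.succ_pos k))

lemma step2 (I : InjectiveResolution X) :
    QuasiIso ((F.mapHomologicalComplex (.up ℤ)).map I.ι') ↔
      QuasiIso ((F.mapHomologicalComplex (.up ℕ)).map I.ι) := by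
  rw [← quasiIso_map_extendMap_iff F ComplexShape.embeddingUpNat I.ι]
  show QuasiIso ((F.mapHomologicalComplex (.up ℤ)).map
      ((HomologicalComplex.extendSingleIso ComplexShape.embeddingUpNat X 0 0 (by simp)).inv ≫
        extendMap I.ι ComplexShape.embeddingUpNat)) ↔ _
  rw [Functor.map_comp, quasiIso_iff_comp_left]

end nat

section plus
variable {A : Type u} [Category.{v} A] [Abelian A] [HasDerivedCategory.{w} A] [EnoughInjectives A]
    {B : Type u'} [Category.{v'} B] [Abelian B] [HasDerivedCategory.{w'} B]
    (F : A ⥤ B) [F.Additive] (X : A)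

noncomputable def Jp (I : InjectiveResolution X) : HomotopyCategory.Plus A :=
  ⟨(HomotopyCategory.quotient A (.up ℤ)).obj I.cochainComplex,
    (HomotopyCategory.plus_quotient_obj_iff _).2 ⟨0, inferInstance⟩⟩

noncomputable def phi (I : InjectiveResolution X) :
    (HomotopyCategory.Plus.singleFunctor A 0).obj X ⟶ Jp X I :=
  ObjectProperty.homMk ((HomotopyCategory.quotient A (.up ℤ)).map I.ι')

instance (I : InjectiveResolution X) (n : ℤ) : Injective ((Jp X I).obj.as.X n) :=
  inferInstanceAs (Injective (I.cochainComplex.X n))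

example (I : InjectiveResolution X) : IsIso (F.rightDerivedFunctorPlusUnit.app (Jp X I)) := by
  infer_instance

lemma phi_quasiIso (I : InjectiveResolution X) : HomotopyCategory.Plus.quasiIso A (phi X I) := by
  rw [HomotopyCategory.Plus.quasiIso_iff]
  exact (HomotopyCategory.quotient_map_mem_quasiIso_iff (C := A) (c := .up ℤ) I.ι').2 ((HomologicalComplex.mem_quasiIso_iff _).2 inferInstance)

lemma isIso_Qh_phi (I : InjectiveResolution X) : IsIso (DerivedCategory.Plus.Qh.map (phi X I)) :=
  Localization.inverts DerivedCategory.Plus.Qh (HomotopyCategory.Plus.quasiIso A) _ (phi_quasiIso X I)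

lemma isIso_Qh_map_iff {K L : HomotopyCategory.Plus B} (f : K ⟶ L) :
    IsIso (DerivedCategory.Plus.Qh.map f) ↔ HomotopyCategory.quasiIso B (.up ℤ) f.hom := by
  rw [← isIso_iff_of_reflects_iso _ DerivedCategory.Plus.ι]
  exact DerivedCategory.isIso_Qh_map_iff f.hom

lemma step1 (I : InjectiveResolution X) :
    IsIso (F.rightDerivedFunctorPlusUnit.app ((HomotopyCategory.Plus.singleFunctor A 0).obj X)) ↔
      QuasiIso ((F.mapHomologicalComplex (.up ℤ)).map I.ι') := by
  have hnat := F.rightDerivedFunctorPlusUnit.naturality (phi X I)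
  have h1 : IsIso (F.rightDerivedFunctorPlusUnit.app (Jp X I)) := inferInstance
  have h2 : IsIso ((DerivedCategory.Plus.Qh ⋙ F.rightDerivedFunctorPlus).map (phi X I)) := by
    have := isIso_Qh_phi X I
    dsimp
    infer_instance
  have h3 : IsIso (F.rightDerivedFunctorPlusUnit.app ((HomotopyCategory.Plus.singleFunctor A 0).obj X)) ↔
      IsIso ((F.mapHomotopyCategoryPlus ⋙ DerivedCategory.Plus.Qh).map (phi X I)) := by
    constructor
    · intro h
      have : IsIso ((F.mapHomotopyCategoryPlus ⋙ DerivedCategory.Plus.Qh).map (phi X I) ≫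
          F.rightDerivedFunctorPlusUnit.app (Jp X I)) := by
        rw [hnat]; infer_instance
      exact IsIso.of_isIso_comp_right _ (F.rightDerivedFunctorPlusUnit.app (Jp X I))
    · intro h
      have : IsIso (F.rightDerivedFunctorPlusUnit.app ((HomotopyCategory.Plus.singleFunctor A 0).obj X) ≫
          (DerivedCategory.Plus.Qh ⋙ F.rightDerivedFunctorPlus).map (phi X I)) := by
        rw [← hnat]; infer_instance
      exact IsIso.of_isIso_comp_right _ ((DerivedCategory.Plus.Qh ⋙ F.rightDerivedFunctorPlus).map (phi X I))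
  rw [h3]
  dsimp only [Functor.comp_map]
  rw [isIso_Qh_map_iff]
  exact HomotopyCategory.quotient_map_mem_quasiIso_iff (C := B) (c := .up ℤ) ((F.mapHomologicalComplex (.up ℤ)).map I.ι')

end plus

end helpers

/-- Part (1): in the case where A has enough injectives: let F : A ⥤ B be an additive functor between
abelian categories, A with enough injectives, and X an object of A. Then X is right acyclic for F,
i.e. the canonical map F(X)[0] ⟶ RF(X[0]) is an isomorphism in D⁺(B), if and only if F(X) ⟶ R⁰F(X)
is an isomorphism and RⁱF(X) = 0 for all i > 0. -/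
theorem result {A : Type u} [Category.{v} A] [Abelian A] [HasDerivedCategory.{w} A] [EnoughInjectives A]
    {B : Type u'} [Category.{v'} B] [Abelian B] [HasDerivedCategory.{w'} B]
    (F : A ⥤ B) [F.Additive] (X : A) :
    IsIso (F.rightDerivedFunctorPlusUnit.app ((HomotopyCategory.Plus.singleFunctor A 0).obj X)) ↔
      (IsIso (F.toRightDerivedZero.app X) ∧ ∀ i : ℕ, 0 < i → IsZero ((F.rightDerived i).obj X)) := by
  obtain ⟨I⟩ : Nonempty (InjectiveResolution X) := ⟨InjectiveResolution.of X⟩
  rw [step1 F X I, step2 F X I, step3 F X I]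

end Groth.Agent.S6624
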