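import Groth.Statements.S9504
import Mathlib
import Groth.Agent.Lib.Lead.QCohAff8
import Groth.Agent.Lib.Helper59.ExtPowBC
-- import your own Groth.Agent.* helpers here

set_option autoImplicit false
universe u
open AffSch

namespace Groth.Agent.S9504

open TensorProduct AlgebraicGeometry CategoryTheory Opposite TopologicalSpace
open Groth.Agent.Lib.Helper59.ExtPowBC


theorem mem_of_forall_pow_smul_mem {A B Q : Type*} [CommRing A] [CommRing B] [Algebra A B]
    [AddCommGroup Q] [Module B Q] (S : Set A)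
    (hS : Ideal.span (algebraMap A B '' S) = ⊤) (W : Submodule B Q) (q : Q)
    (hq : ∀ f ∈ S, ∃ k : ℕ, (algebraMap A B f ^ k) • q ∈ W) : q ∈ W := by
  let I : Ideal B := (W.comap (LinearMap.toSpanSingleton B Q q))
  have hI : ∀ b : B, b ∈ I ↔ b • q ∈ W := fun b => by
    simp [I, LinearMap.toSpanSingleton_apply]
  suffices h1 : (1 : B) ∈ I by simpa using (hI 1).1 h1
  rw [← Ideal.eq_top_iff_one]
  have hrad : I.radical = ⊤ := by
    rw [eq_top_iff, ← hS, Ideal.span_le]
    rintro _ ⟨f, hf, rfl⟩
    obtain ⟨k, hk⟩ := hq f hf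
    exact ⟨k, (hI _).2 hk⟩
  exact Ideal.radical_eq_top.mp hrad

theorem isBaseChange_of_cover {A B N P : Type*} [CommRing A] [CommRing B] [Algebra A B]
    [AddCommGroup N] [Module A N] [AddCommGroup P] [Module A P] [Module B P]
    [IsScalarTower A B P] (g : N →ₗ[A] P) (S : Set A)
    (hS : Ideal.span (algebraMap A B '' S) = ⊤)
    (ha : ∀ f ∈ S, ∀ b : B, ∃ (k : ℕ) (a : A), algebraMap A B f ^ k * b = algebraMap A B a)
    (hb : ∀ f ∈ S, ∀ p : P, ∃ (k : ℕ) (x : N), f ^ k • p = g x)
    (hc : ∀ f ∈ S, ∀ y : N, g y = 0 → ∃ m : ℕ, f ^ m • y = 0) :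
    IsBaseChange B g := by
  classical
  let h : B ⊗[A] N →ₗ[B] P := LinearMap.liftBaseChange B g
  have hh : ∀ (b : B) (x : N), h (b ⊗ₜ x) = b • g x := fun b x => by
    simp [h]
  have hsurj : Function.Surjective h := by
    intro p
    have : p ∈ LinearMap.range h := by
      apply mem_of_forall_pow_smul_mem S hS
      intro f hf
      obtain ⟨k, x, hx⟩ := hb f hf p
      refine ⟨k, ⟨(1 : B) ⊗ₜ x, ?_⟩⟩
      rw [hh, one_smul, ← hx, ← map_pow, algebraMap_smul]
    exact this
  have hinj : Function.Injective h := by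
    rw [injective_iff_map_eq_zero]
    intro t ht
    have : t ∈ (⊥ : Submodule B (B ⊗[A] N)) := by
      apply mem_of_forall_pow_smul_mem S hS
      intro f hf
      -- first: exists k, y with f^k • t = 1 ⊗ y
      have h1 : ∃ (k : ℕ) (y : N), (algebraMap A B f ^ k) • t = (1 : B) ⊗ₜ[A] y := by
        clear ht
        induction t using TensorProduct.induction_on with
        | zero => exact ⟨0, 0, by simp⟩
        | tmul b x =>
          obtain ⟨k, a, hka⟩ := ha f hf b
          refine ⟨k, a • x, ?_⟩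
          rw [TensorProduct.smul_tmul', smul_eq_mul, hka, Algebra.algebraMap_eq_smul_one,
            TensorProduct.smul_tmul]
        | add t₁ t₂ h₁ h₂ =>
          obtain ⟨k₁, y₁, e₁⟩ := h₁
          obtain ⟨k₂, y₂, e₂⟩ := h₂
          refine ⟨k₁ + k₂, f ^ k₂ • y₁ + f ^ k₁ • y₂, ?_⟩
          rw [smul_add, TensorProduct.tmul_add, pow_add]
          congr 1
          · rw [mul_comm, mul_smul, e₁, TensorProduct.tmul_smul, ← map_pow, algebraMap_smul]
          · rw [mul_smul, e₂, TensorProduct.tmul_smul, ← map_pow, algebraMap_smul]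
      obtain ⟨k, y, hky⟩ := h1
      have h2 : g y = 0 := by
        have := congrArg h hky
        rw [map_smul, ht, smul_zero, hh, one_smul] at this
        exact this.symm
      obtain ⟨m, hm⟩ := hc f hf y h2
      refine ⟨m + k, ?_⟩
      rw [Submodule.mem_bot, pow_add, mul_smul, hky, ← map_pow, algebraMap_smul,
        ← TensorProduct.tmul_smul, hm, TensorProduct.tmul_zero]
    simpa using this
  exact IsBaseChange.of_equiv (LinearEquiv.ofBijective h ⟨hinj, hsurj⟩) (fun x => by
    simp [hh])



theorem exists_pow_mul_eq_zero_of_res {X : Scheme.{u}} {U V : X.Opens} (hU : IsAffineOpen U)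
    (f x : Γ(X, U)) (hV : X.basicOpen f = V) (hVU : V ≤ U)
    (H : X.presheaf.map (homOfLE hVU).op x = 0) : ∃ n : ℕ, f ^ n * x = 0 := by
  subst hV
  exact exists_pow_mul_eq_zero_of_res_basicOpen_eq_zero_of_isAffineOpen X hU x f H

theorem exists_pow_smul_eq_zero_of_res {X : Scheme.{u}} (F : X.Modules) [F.IsQuasicoherent]
    {U V : X.Opens} (hU : IsAffineOpen U)
    (f : Γ(X, U)) (s : Γ(F, U)) (hV : X.basicOpen f = V) (hVU : V ≤ U)
    (H : F.presheaf.map (homOfLE hVU).op s = 0) : ∃ n : ℕ, f ^ n • s = 0 := by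
  subst hV
  exact Groth.Agent.Lib.Lead.QCohAff.exists_pow_smul_eq_zero F hU f s H

variable (R : CommRingCat.{u}) (N : ModuleCat.{u} R) (U : (Spec R).Opens)

noncomputable def toOpenL : N →ₗ[R] Γ(tilde N, U) := (tilde.toOpen N U).hom

theorem algebraMap_eq (f : R) : algebraMap R Γ(Spec R, U) f =
    (Spec R).presheaf.map U.leTop.op ((Scheme.ΓSpecIso R).inv f) := rfl

theorem basicOpen_algebraMap (f : R) (hf : PrimeSpectrum.basicOpen f ≤ U) :
    (Spec R).basicOpen (algebraMap R Γ(Spec R, U) f) = PrimeSpectrum.basicOpen f := by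
  rw [algebraMap_eq, Scheme.basicOpen_res, basicOpen_eq_of_affine]
  exact inf_eq_right.mpr hf

theorem res_algebraMap {V : (Spec R).Opens} (hVU : V ≤ U) (a : R) :
    (Spec R).presheaf.map (homOfLE hVU).op (algebraMap R Γ(Spec R, U) a) =
      algebraMap R Γ(Spec R, V) a := by
  rw [algebraMap_eq, algebraMap_eq, ← ConcreteCategory.comp_apply, ← Functor.map_comp]
  rfl

theorem res_toOpenL {V : (Spec R).Opens} (hVU : V ≤ U) (x : N) :
    (tilde N).presheaf.map (homOfLE hVU).op (toOpenL R N U x) = toOpenL R N V x := rfl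

/-- The basic open `D(f)` as an open of the scheme `Spec R`. -/
abbrev bo (f : R) : (Spec R).Opens := PrimeSpectrum.basicOpen f

theorem isBaseChange_toOpenL (hU : IsAffineOpen U) :
    IsBaseChange Γ(Spec R, U) (toOpenL R N U) := by
  apply isBaseChange_of_cover (toOpenL R N U) {f : R | bo R f ≤ U}
  · rw [← hU.self_le_iSup_basicOpen_iff]
    intro x hx
    obtain ⟨_, ⟨f, rfl⟩, hxf, hfU⟩ :=
      PrimeSpectrum.isTopologicalBasis_basic_opens.exists_subset_of_mem_open hx U.2
    refine TopologicalSpace.Opens.mem_iSup.mpr ⟨⟨algebraMap R _ f, ⟨f, hfU, rfl⟩⟩, ?_⟩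
    rw [basicOpen_algebraMap R U f hfU]; exact hxf
  · intro f hf b
    have hf' : bo R f ≤ U := hf
    obtain ⟨⟨a, ⟨_, k, rfl⟩⟩, hka⟩ := IsLocalization.surj (Submonoid.powers f)
      ((Spec R).presheaf.map (homOfLE hf').op b)
    have hka' : (Spec R).presheaf.map (homOfLE hf').op b *
        algebraMap R Γ(Spec R, bo R f) (f ^ k) =
        algebraMap R Γ(Spec R, bo R f) a := hka
    obtain ⟨n, hn⟩ := exists_pow_mul_eq_zero_of_res hU (algebraMap R Γ(Spec R, U) f)
      (algebraMap R Γ(Spec R, U) f ^ k * b - algebraMap R Γ(Spec R, U) a)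
      (basicOpen_algebraMap R U f hf') hf' (by
        rw [map_sub, map_mul, map_pow, res_algebraMap, res_algebraMap, ← map_pow, mul_comm, hka',
          sub_self])
    refine ⟨n + k, f ^ n * a, ?_⟩
    rw [mul_sub, sub_eq_zero] at hn
    rw [pow_add, mul_assoc, hn, map_mul, map_pow]
  · intro f hf p
    have hf' : bo R f ≤ U := hf
    obtain ⟨⟨x, ⟨_, k, rfl⟩⟩, hkx⟩ := IsLocalizedModule.surj (Submonoid.powers f)
      (tilde.toOpen N (bo R f)).hom
      ((tilde N).presheaf.map (homOfLE hf').op p)
    have hkx' : f ^ k • (tilde N).presheaf.map (homOfLE hf').op p =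
        toOpenL R N (bo R f) x := hkx
    obtain ⟨n, hn⟩ := exists_pow_smul_eq_zero_of_res (tilde N) hU (algebraMap R Γ(Spec R, U) f)
      (f ^ k • p - toOpenL R N U x)
      (basicOpen_algebraMap R U f hf') hf' (by
        rw [map_sub, res_toOpenL, Scheme.Modules.map_smul_Spec, hkx', sub_self])
    refine ⟨n + k, f ^ n • x, ?_⟩
    rw [← map_pow, algebraMap_smul, smul_sub, sub_eq_zero] at hn
    rw [pow_add, mul_smul, hn, map_smul]
  · intro f hf y hy
    have hf' : bo R f ≤ U := hf
    have h1 : (tilde.toOpen N (bo R f)).hom y =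
        (tilde.toOpen N (bo R f)).hom 0 := by
      rw [map_zero]
      have := congrArg ((tilde N).presheaf.map (homOfLE hf').op) hy
      rw [res_toOpenL, map_zero] at this
      exact this
    obtain ⟨⟨_, m, rfl⟩, hm⟩ := IsLocalizedModule.exists_of_eq (S := Submonoid.powers f) h1
    refine ⟨m, ?_⟩
    rw [smul_zero] at hm
    exact hm



section Alg

variable {A B M P Q : Type*} [CommRing A] [CommRing B] [Algebra A B] [AddCommGroup M] [Module A M]
  [AddCommGroup P] [Module A P] [Module B P] [IsScalarTower A B P] (n : ℕ)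
  [AddCommGroup Q] [Module A Q] [Module B Q] [IsScalarTower A B Q]
  {gP : M →ₗ[A] P} (hP : IsBaseChange B gP) {gQ : ↥(⋀[A]^n M) →ₗ[A] Q} (hQ : IsBaseChange B gQ)

/-- If `P = B ⊗ M` and `Q = B ⊗ ⋀ⁿ M`, then `Q ≃ ⋀ⁿ_B P`. -/
noncomputable def extPowEquiv : Q ≃ₗ[B] ↥(⋀[B]^n P) :=
  hQ.equiv.symm ≪≫ₗ LinearEquiv.ofBijective (T A B M n) (T_bijective A B M n) ≪≫ₗ
    LinearEquiv.ofBijective (exteriorPower.map n hP.equiv.toLinearMap)
      (map_equiv_bijective n hP.equiv)

theorem extPowEquiv_apply (m : Fin n → M) :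
    extPowEquiv n hP hQ (gQ (exteriorPower.ιMulti A n m)) =
      exteriorPower.ιMulti B n (fun j => gP (m j)) := by
  simp only [extPowEquiv, LinearEquiv.trans_apply, LinearEquiv.ofBijective_apply]
  rw [IsBaseChange.equiv_symm_apply, T_tmul_ιMulti, one_smul, exteriorPower.map_apply_ιMulti]
  congr 1
  funext j
  simp [IsBaseChange.equiv_tmul]

theorem extPowEquiv_symm_apply (m : Fin n → M) :
    (extPowEquiv n hP hQ).symm (exteriorPower.ιMulti B n (fun j => gP (m j))) =
      gQ (exteriorPower.ιMulti A n m) := by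
  rw [LinearEquiv.symm_apply_eq, extPowEquiv_apply]

variable {B' P' Q' : Type*} [CommRing B'] [Algebra A B']
  [AddCommGroup P'] [Module A P'] [Module B' P'] [IsScalarTower A B' P']
  [AddCommGroup Q'] [Module A Q'] [Module B' Q'] [IsScalarTower A B' Q']
  {gP' : M →ₗ[A] P'} (hP' : IsBaseChange B' gP') {gQ' : ↥(⋀[A]^n M) →ₗ[A] Q'}
  (hQ' : IsBaseChange B' gQ')

theorem extPowEquiv_compat (ρ : B →+* B')
    (r : P →+ P') (hr : ∀ (b : B) (p : P), r (b • p) = ρ b • r p) (hrg : ∀ m, r (gP m) = gP' m)
    (rW : Q →+ Q') (hrW : ∀ (b : B) (q : Q), rW (b • q) = ρ b • rW q)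
    (hrWg : ∀ w, rW (gQ w) = gQ' w) (e : Fin n → P) :
    rW ((extPowEquiv n hP hQ).symm (exteriorPower.ιMulti B n e)) =
      (extPowEquiv n hP' hQ').symm (exteriorPower.ιMulti B' n (fun j => r (e j))) := by
  classical
  have hupd : ∀ (e : Fin n → P) (a : Fin n) (x : P),
      (fun j => r (Function.update e a x j)) = Function.update (fun j => r (e j)) a (r x) :=
    fun e a x => funext fun j => Function.apply_update (fun _ => ⇑r) e a x j
  have key : ∀ s : Finset (Fin n), ∀ e : Fin n → P, (∀ j ∉ s, e j ∈ Set.range gP) →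
      rW ((extPowEquiv n hP hQ).symm (exteriorPower.ιMulti B n e)) =
      (extPowEquiv n hP' hQ').symm (exteriorPower.ιMulti B' n (fun j => r (e j))) := by
    intro s
    induction s using Finset.induction_on with
    | empty =>
      intro e he
      choose m hm using fun j => he j (Finset.notMem_empty j)
      have he' : e = fun j => gP (m j) := funext fun j => (hm j).symm
      subst he'
      rw [extPowEquiv_symm_apply, hrWg]
      simp_rw [hrg]
      rw [extPowEquiv_symm_apply]
    | insert a s has ih =>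
      intro e he
      rw [← Function.update_eq_self a e]
      refine hP.inductionOn (e a) (fun p => rW ((extPowEquiv n hP hQ).symm
        (exteriorPower.ιMulti B n (Function.update e a p))) =
        (extPowEquiv n hP' hQ').symm (exteriorPower.ιMulti B' n
          (fun j => r (Function.update e a p j)))) ?_ ?_ ?_ ?_
      · rw [hupd, map_zero, AlternatingMap.map_update_zero, AlternatingMap.map_update_zero,
          map_zero, map_zero, map_zero]
      · intro m
        apply ih
        intro j hj
        by_cases hja : j = a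
        · subst hja
          rw [Function.update_self]
          exact ⟨m, rfl⟩
        · rw [Function.update_of_ne hja]
          exact he j (by simp [hja, hj])
      · intro b p hp
        rw [hupd, hr, AlternatingMap.map_update_smul, AlternatingMap.map_update_smul,
          (extPowEquiv n hP hQ).symm.map_smul, (extPowEquiv n hP' hQ').symm.map_smul, hrW, hp,
          hupd]
      · intro p p' hp hp'
        rw [hupd, map_add, AlternatingMap.map_update_add, AlternatingMap.map_update_add, map_add,
          map_add, map_add, hp, hp', hupd, hupd]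
  exact key Finset.univ e (fun j hj => absurd (Finset.mem_univ j) hj)

end Alg



theorem isExtPow_tilde (R : CommRingCat.{u}) (M : ModuleCat.{u} R) (n : ℕ) :
    ExtPow.IsExtPow n (tilde M) (tilde (ModuleCat.of R ↥(⋀[R]^n M))) := by
  let φ : ∀ U : (Spec R).affineOpens, Γ(tilde (ModuleCat.of R ↥(⋀[R]^n M)), U.1) ≃ₗ[Γ(Spec R, U.1)]
      ↥(⋀[Γ(Spec R, U.1)]^n Γ(tilde M, U.1)) := fun U => extPowEquiv n
    (isBaseChange_toOpenL R M U.1 U.2)
    (isBaseChange_toOpenL R (ModuleCat.of R ↥(⋀[R]^n M)) U.1 U.2)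
  refine ⟨φ, ?_⟩
  intro U V h e
  exact extPowEquiv_compat n (isBaseChange_toOpenL R M U.1 U.2)
    (isBaseChange_toOpenL R (ModuleCat.of R ↥(⋀[R]^n M)) U.1 U.2)
    (isBaseChange_toOpenL R M V.1 V.2)
    (isBaseChange_toOpenL R (ModuleCat.of R ↥(⋀[R]^n M)) V.1 V.2)
    ((Spec R).presheaf.map (homOfLE h).op).hom
    ((tilde M).presheaf.map (homOfLE h).op).hom
    (fun b p => Scheme.Modules.map_smul (M := tilde M) (homOfLE h) b p)
    (fun m => rfl)
    ((tilde (ModuleCat.of R ↥(⋀[R]^n M))).presheaf.map (homOfLE h).op).hom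
    (fun b q => Scheme.Modules.map_smul (M := tilde (ModuleCat.of R ↥(⋀[R]^n M))) (homOfLE h) b q)
    (fun w => rfl) e


open AlgebraicGeometry in
open CategoryTheory in
/-- Let A be a commutative ring, M an A-module and n a natural number. On X = Spec A the O_X-module
associated to the A-module ⋀^n M is an n-th exterior power of M~: on every affine open U its
sections are identified, linearly over Γ(U, O_X), with the n-th exterior power of the sections of M~
over U, compatibly with restrictions on decomposable elements. -/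
theorem result
    (A : Type u) [CommRing A] (M : Type u) [AddCommGroup M] [Module A M] (n : ℕ) :
    ExtPow.IsExtPow n (tilde (R := CommRingCat.of A) (ModuleCat.of A M))
      (tilde (R := CommRingCat.of A) (ModuleCat.of A ↥(⋀[A]^n M))) := by
  exact isExtPow_tilde (CommRingCat.of A) (ModuleCat.of A M) n


end Groth.Agent.S9504
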