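import Groth.Statements.S0864
import Mathlib.Tactic
import Mathlib.CategoryTheory.Sites.Adjunction

set_option autoImplicit false
universe u
open CategoryTheory
open CohSite

namespace Groth.Agent.S0864

noncomputable def L1 {C : Type u} [SmallCategory C] (J : GrothendieckTopology C) :
    (Cᵒᵖ ⥤ Type u) ⥤ Sheaf J AddCommGrpCat.{u} :=
  presheafToSheaf J (Type u) ⋙ (sheafToPresheaf J (Type u) ⋙ (Functor.whiskeringRight _ _ _).obj AddCommGrpCat.free.{u} ⋙
    presheafToSheaf J AddCommGrpCat.{u})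

noncomputable def L2 {C : Type u} [SmallCategory C] (J : GrothendieckTopology C) :
    (Cᵒᵖ ⥤ Type u) ⥤ Sheaf J AddCommGrpCat.{u} :=
  (Functor.whiskeringRight _ _ _).obj AddCommGrpCat.free.{u} ⋙ presheafToSheaf J AddCommGrpCat.{u}

noncomputable def R1 {C : Type u} [SmallCategory C] (J : GrothendieckTopology C) :
    Sheaf J AddCommGrpCat.{u} ⥤ (Cᵒᵖ ⥤ Type u) :=
  (sheafToPresheaf J AddCommGrpCat.{u} ⋙ (Functor.whiskeringRight _ _ _).obj (forget AddCommGrpCat.{u}))

noncomputable def adj2 {C : Type u} [SmallCategory C] (J : GrothendieckTopology C) : L2 J ⊣ R1 J :=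
  (Adjunction.whiskerRight Cᵒᵖ AddCommGrpCat.adj.{u}).comp (sheafificationAdjunction J AddCommGrpCat.{u})

noncomputable def adj1 {C : Type u} [SmallCategory C] (J : GrothendieckTopology C) : L1 J ⊣ R1 J :=
  ((sheafificationAdjunction J (Type u)).comp (Sheaf.adjunction J AddCommGrpCat.adj.{u}) :
    presheafToSheaf J (Type u) ⋙ Sheaf.composeAndSheafify J AddCommGrpCat.free.{u} ⊣
      sheafCompose J (forget AddCommGrpCat.{u}) ⋙ sheafToPresheaf J (Type u))

noncomputable def isoL {C : Type u} [SmallCategory C] (J : GrothendieckTopology C) : L1 J ≅ L2 J :=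
  (adj1 J).leftAdjointUniq (adj2 J)



/-- A totally acyclic abelian sheaf F on a site satisfies H^p(U, F) = 0 for every object U and every p >
0. -/
theorem result {C : Type u} [SmallCategory C] {J : GrothendieckTopology C}
    (F : Sheaf J AddCommGrpCat.{u}) (hF : CohCx.IsTotallyAcyclic F) (U : C) (p : ℕ) :
    Subsingleton (CohSite.HU F (p + 1) U) := by
  have h := hF ((presheafToSheaf J (Type u)).obj (yoneda.obj U)) p
  let e : (presheafToSheaf J AddCommGrpCat.{u}).obj
      (((presheafToSheaf J (Type u)).obj (yoneda.obj U)).obj ⋙ AddCommGrpCat.free.{u}) ≅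
      (presheafToSheaf J AddCommGrpCat.{u}).obj (yoneda.obj U ⋙ AddCommGrpCat.free.{u}) :=
    (isoL J).app (yoneda.obj U)
  constructor
  intro x y
  change Abelian.Ext ((presheafToSheaf J AddCommGrpCat.{u}).obj (yoneda.obj U ⋙ AddCommGrpCat.free.{u})) F (p + 1) at x y
  have hx : x = (Abelian.Ext.mk₀ e.inv).comp ((Abelian.Ext.mk₀ e.hom).comp x (zero_add _)) (zero_add _) := by
    rw [← Abelian.Ext.comp_assoc_of_second_deg_zero]
    simp
  have hy : y = (Abelian.Ext.mk₀ e.inv).comp ((Abelian.Ext.mk₀ e.hom).comp y (zero_add _)) (zero_add _) := by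
    rw [← Abelian.Ext.comp_assoc_of_second_deg_zero]
    simp
  rw [hx, hy]
  congr 1
  exact h.elim _ _

end Groth.Agent.S0864
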