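import Groth.Statements.S3093
-- import your own Groth.Agent.* helpers here

set_option autoImplicit false
universe u
open CohTop

namespace Groth.Agent.S3093

theorem sep_point {X : Type u} [TopologicalSpace X] {K : Set X}
    (hsep : ∀ x ∈ K, ∀ y ∈ K, x ≠ y → ∃ U V : Set X, IsOpen U ∧ IsOpen V ∧ x ∈ U ∧ y ∈ V ∧ Disjoint U V)
    {C : Set X} (hC : IsCompact C) (hCK : C ⊆ K) {y : X} (hy : y ∈ K) (hyC : y ∉ C) :
    ∃ U V : Set X, IsOpen U ∧ IsOpen V ∧ C ⊆ U ∧ y ∈ V ∧ Disjoint U V := by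
  refine hC.induction_on (p := fun s => ∃ U V : Set X, IsOpen U ∧ IsOpen V ∧ s ⊆ U ∧ y ∈ V ∧ Disjoint U V)
    ?_ ?_ ?_ ?_
  · exact ⟨∅, Set.univ, isOpen_empty, isOpen_univ, le_rfl, Set.mem_univ _, Set.empty_disjoint _⟩
  · rintro s t hst ⟨U, V, hU, hV, htU, hyV, hd⟩
    exact ⟨U, V, hU, hV, hst.trans htU, hyV, hd⟩
  · rintro s t ⟨U₁, V₁, hU₁, hV₁, hs₁, hy₁, hd₁⟩ ⟨U₂, V₂, hU₂, hV₂, hs₂, hy₂, hd₂⟩
    refine ⟨U₁ ∪ U₂, V₁ ∩ V₂, hU₁.union hU₂, hV₁.inter hV₂, Set.union_subset_union hs₁ hs₂,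
      ⟨hy₁, hy₂⟩, ?_⟩
    rw [Set.disjoint_union_left]
    exact ⟨hd₁.mono_right Set.inter_subset_left, hd₂.mono_right Set.inter_subset_right⟩
  · intro x hx
    have hxy : x ≠ y := fun h => hyC (h ▸ hx)
    obtain ⟨U, V, hU, hV, hxU, hyV, hd⟩ := hsep x (hCK hx) y hy hxy
    exact ⟨U, mem_nhdsWithin_of_mem_nhds (hU.mem_nhds hxU), U, V, hU, hV, le_rfl, hyV, hd⟩

theorem sep_sets {X : Type u} [TopologicalSpace X] {K : Set X}
    (hsep : ∀ x ∈ K, ∀ y ∈ K, x ≠ y → ∃ U V : Set X, IsOpen U ∧ IsOpen V ∧ x ∈ U ∧ y ∈ V ∧ Disjoint U V)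
    {C D : Set X} (hC : IsCompact C) (hCK : C ⊆ K) (hD : IsCompact D) (hDK : D ⊆ K)
    (hCD : Disjoint C D) :
    ∃ U V : Set X, IsOpen U ∧ IsOpen V ∧ C ⊆ U ∧ D ⊆ V ∧ Disjoint U V := by
  refine hD.induction_on (p := fun s => ∃ U V : Set X, IsOpen U ∧ IsOpen V ∧ C ⊆ U ∧ s ⊆ V ∧ Disjoint U V)
    ?_ ?_ ?_ ?_
  · exact ⟨Set.univ, ∅, isOpen_univ, isOpen_empty, Set.subset_univ _, le_rfl, Set.disjoint_empty _⟩
  · rintro s t hst ⟨U, V, hU, hV, hCU, htV, hd⟩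
    exact ⟨U, V, hU, hV, hCU, hst.trans htV, hd⟩
  · rintro s t ⟨U₁, V₁, hU₁, hV₁, hC₁, hs₁, hd₁⟩ ⟨U₂, V₂, hU₂, hV₂, hC₂, hs₂, hd₂⟩
    refine ⟨U₁ ∩ U₂, V₁ ∪ V₂, hU₁.inter hU₂, hV₁.union hV₂, Set.subset_inter hC₁ hC₂,
      Set.union_subset_union hs₁ hs₂, ?_⟩
    rw [Set.disjoint_union_right]
    exact ⟨hd₁.mono_left Set.inter_subset_left, hd₂.mono_left Set.inter_subset_right⟩
  · intro y hy
    have hyC : y ∉ C := fun h => Set.disjoint_left.mp hCD h hy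
    obtain ⟨U, V, hU, hV, hCU, hyV, hd⟩ := sep_point hsep hC hCK (hDK hy) hyC
    exact ⟨V, mem_nhdsWithin_of_mem_nhds (hV.mem_nhds hyV), U, V, hU, hV, hCU, le_rfl, hd⟩

theorem compact_of_closed_in {X : Type u} [TopologicalSpace X] {K : Set X} (hK : IsCompact K)
    {A : Set X} (hA : A ⊆ K) (hAc : IsClosed (Subtype.val ⁻¹' A : Set K)) : IsCompact A := by
  have : CompactSpace K := isCompact_iff_compactSpace.mp hK
  have h1 : IsCompact (Subtype.val ⁻¹' A : Set K) := hAc.isCompact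
  have h2 : IsCompact (Subtype.val '' (Subtype.val ⁻¹' A : Set K)) := h1.image continuous_subtype_val
  rwa [Subtype.image_preimage_coe, Set.inter_eq_right.mpr hA] at h2

/-- Let X be a topological space and K ⊆ X a compact subset such that any two distinct points of K have
disjoint open neighbourhoods in X. If A and B are subsets of K that are closed in K and W is an open
subset of X containing A ∩ B, then there are open subsets U ⊇ A and V ⊇ B of X with U ∩ V ⊆ W. -/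
theorem result {X : Type u} [TopologicalSpace X] {K : Set X} (hK : IsCompact K)
    (hsep : ∀ x ∈ K, ∀ y ∈ K, x ≠ y → ∃ U V : Set X, IsOpen U ∧ IsOpen V ∧ x ∈ U ∧ y ∈ V ∧ Disjoint U V)
    {A B W : Set X} (hA : A ⊆ K) (hB : B ⊆ K) (hAc : IsClosed (Subtype.val ⁻¹' A : Set K))
    (hBc : IsClosed (Subtype.val ⁻¹' B : Set K)) (hW : IsOpen W) (hABW : A ∩ B ⊆ W) :
    ∃ U V : Set X, IsOpen U ∧ IsOpen V ∧ A ⊆ U ∧ B ⊆ V ∧ U ∩ V ⊆ W := by
  have hAcpt : IsCompact A := compact_of_closed_in hK hA hAc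
  have hBcpt : IsCompact B := compact_of_closed_in hK hB hBc
  have hA' : IsCompact (A ∩ Wᶜ) := hAcpt.inter_right hW.isClosed_compl
  have hdisj : Disjoint (A ∩ Wᶜ) B := by
    rw [Set.disjoint_left]
    rintro x ⟨hxA, hxW⟩ hxB
    exact hxW (hABW ⟨hxA, hxB⟩)
  obtain ⟨U, V, hU, hV, hAU, hBV, hd⟩ :=
    sep_sets hsep hA' (Set.inter_subset_left.trans hA) hBcpt hB hdisj
  refine ⟨U ∪ W, V, hU.union hW, hV, ?_, hBV, ?_⟩
  · intro x hx
    by_cases hxW : x ∈ W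
    · exact Or.inr hxW
    · exact Or.inl (hAU ⟨hx, hxW⟩)
  · rintro x ⟨hxU | hxW, hxV⟩
    · exact absurd hxV (Set.disjoint_left.mp hd hxU)
    · exact hxW

end Groth.Agent.S3093
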