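import Groth.Statements.S3089
import Groth.Agent.Lib.Helper28.ExtAcyc
import Mathlib.CategoryTheory.Sites.Adjunction
import Mathlib.CategoryTheory.Sites.Limits
import Mathlib.CategoryTheory.Abelian.Basic
import Mathlib.CategoryTheory.Limits.Preserves.Shapes.Pullbacks

set_option autoImplicit false
universe u
open CategoryTheory
open CohSite

namespace Groth.Agent.S3089

open Groth.Agent.Lib.Helper28 Opposite CategoryTheory.Limits Abelian

section aux

variable {C : Type u} [SmallCategory C] (J : GrothendieckTopology C)

/-- The free abelian sheaf functor on sheaves of sets. -/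
noncomputable abbrev G : Sheaf J (Type u) ⥤ Sheaf J AddCommGrpCat.{u} :=
  Sheaf.composeAndSheafify J AddCommGrpCat.free.{u}

instance : (G J).IsLeftAdjoint := (Sheaf.adjunction J AddCommGrpCat.adj.{u}).isLeftAdjoint

lemma mono_G_map {Y X : Sheaf J (Type u)} (ι : Y ⟶ X) [Mono ι] : Mono ((G J).map ι) := by
  have h1 : Mono ι.hom := inferInstanceAs (Mono ((sheafToPresheaf J (Type u)).map ι))
  have h2 : ∀ V, Mono (ι.hom.app V) := fun V => inferInstance
  have h3 : Mono (Functor.whiskerRight ι.hom AddCommGrpCat.free.{u}) := by
    have : ∀ V, Mono ((Functor.whiskerRight ι.hom AddCommGrpCat.free.{u}).app V) := by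
      intro V
      have : Mono (AddCommGrpCat.free.{u}.map (ι.hom.app V)) := inferInstance
      exact this
    exact NatTrans.mono_of_mono_app _
  exact inferInstanceAs (Mono ((presheafToSheaf J AddCommGrpCat.{u}).map
    (Functor.whiskerRight ι.hom AddCommGrpCat.free.{u})))

end aux

open Opposite in

/-- For abelian sheaves on the topos of sheaves of sets on a small site: let F be an abelian sheaf which
is totally acyclic, i.e. H^q(X, F) = 0 for every sheaf of sets X and every q > 0, and let Y -> X be
a monomorphism of sheaves of sets. Then the restriction map H^0(X, F) -> H^0(Y, F) is surjective. -/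
theorem result {C : Type u} [SmallCategory C] {J : GrothendieckTopology C}
    (F : Sheaf J AddCommGrpCat.{u}) (hF : CohCx.IsTotallyAcyclic F) {Y X : Sheaf J (Type u)} (ι : Y ⟶ X) [Mono ι] :
    Function.Surjective ((CohCx.HK0Functor J F).map ι.op) := by
  intro φ
  change (G J).obj Y ⟶ F at φ
  have hm := mono_G_map J ι
  -- the short exact sequence
  let f := (G J).map ι
  let S : ShortComplex (Sheaf J AddCommGrpCat.{u}) :=
    ShortComplex.mk (biprod.lift f (-f)) (BiproductToPushoutIsCokernel.biproductToPushout f f)
      (BiproductToPushoutIsCokernel.biproductToPushoutCofork f f).condition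
  have hS : S.ShortExact := by
    have hmono : Mono S.f := mono_of_mono_fac (biprod.lift_fst f (-f))
    have hex : S.Exact := ShortComplex.exact_of_g_is_cokernel _
      (BiproductToPushoutIsCokernel.isColimitBiproductToPushout f f)
    have hepi : Epi S.g := epi_of_isColimit_cofork
      (BiproductToPushoutIsCokernel.isColimitBiproductToPushout f f)
    exact ShortComplex.ShortExact.mk' hex hmono hepi
  -- the cokernel is the free abelian sheaf on the pushout
  have e : pushout f f ≅ (G J).obj (pushout ι ι) := PreservesPushout.iso (G J) ι ι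
  have h₃ : ∀ x : Ext S.X₃ F 1, x = 0 := by
    have hac : ExtAcyc.Acyc F ((G J).obj (pushout ι ι)) := by
      intro q x
      have := hF (pushout ι ι) q
      exact Subsingleton.elim (α := CohCx.HK (pushout ι ι) F (q + 1)) x 0
    exact ExtAcyc.acyc_of_iso e.symm hac 0
  obtain ⟨ψ, hψ⟩ := ExtAcyc.exists_extension hS h₃ φ
  refine ⟨biprod.inl ≫ ψ - biprod.inr ≫ ψ, ?_⟩
  change f ≫ (biprod.inl ≫ ψ - biprod.inr ≫ ψ) = φ
  rw [← hψ]
  change f ≫ (biprod.inl ≫ ψ - biprod.inr ≫ ψ) = biprod.lift f (-f) ≫ ψ
  rw [biprod.lift_eq, Preadditive.comp_sub, Preadditive.add_comp, Category.assoc,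
    Category.assoc, Preadditive.neg_comp, sub_eq_add_neg]

end Groth.Agent.S3089
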