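import Groth.Statements.S0294
import Mathlib.LinearAlgebra.FreeModule.Finite.Matrix
import Mathlib.AlgebraicGeometry.Morphisms.Finite

set_option autoImplicit false
universe u
open Pi1

namespace Groth.Agent.S0294

open AlgebraicGeometry CategoryTheory CategoryTheory.Limits in
/-- For a finite étale cover Y of a scheme X and a point ξ : Spec Ω → X with values in a field Ω, the
fibre of Y over ξ (the set of Ω-valued points of Y lying over ξ) is finite. -/
theorem result {X : Scheme.{u}} {Ω : Type u} [Field Ω] (ξ : Spec (CommRingCat.of Ω) ⟶ X) (Y : FEt.Cat X) :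
    Finite (FEt.fiberObj ξ Y) := by
  have hfin : IsFinite Y.hom := Y.prop.1
  have hsnd : IsFinite (pullback.snd Y.hom ξ) := inferInstance
  obtain ⟨hAff, hF⟩ := (HasAffineProperty.iff_of_isAffine (P := @IsFinite)).mp hsnd
  let P := pullback Y.hom ξ
  let B := Γ(P, ⊤)
  let φ : Ω →+* B :=
    ((pullback.snd Y.hom ξ).appTop).hom.comp (Scheme.ΓSpecIso (CommRingCat.of Ω)).inv.hom
  letI : Algebra Ω B := φ.toAlgebra
  haveI : Module.Finite Ω B := by
    have h1 : φ.Finite := by
      refine RingHom.Finite.comp hF ?_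
      exact RingHom.Finite.of_surjective _
        (ConcreteCategory.bijective_of_isIso (Scheme.ΓSpecIso (CommRingCat.of Ω)).inv).2
    exact h1
  let V : FEt.fiberObj ξ Y → (Spec (CommRingCat.of Ω) ⟶ Y.left) := fun s => Subtype.val s
  have hV : ∀ s, V s ≫ Y.hom = ξ := fun s => Subtype.property s
  let T : FEt.fiberObj ξ Y → (Spec (CommRingCat.of Ω) ⟶ P) := fun s =>
    pullback.lift (V s) (𝟙 _) (by rw [hV s, Category.id_comp])
  have hT1 : ∀ s, T s ≫ pullback.snd Y.hom ξ = 𝟙 _ := fun s => pullback.lift_snd _ _ _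
  have hT2 : ∀ s, T s ≫ pullback.fst Y.hom ξ = V s := fun s => pullback.lift_fst _ _ _
  let Φ : FEt.fiberObj ξ Y → (B →ₐ[Ω] Ω) := fun s =>
    { toRingHom := (Scheme.ΓSpecIso (CommRingCat.of Ω)).hom.hom.comp ((T s).appTop).hom
      commutes' := by
        intro a
        have h1 : (pullback.snd Y.hom ξ).appTop ≫ (T s).appTop = 𝟙 _ := by
          rw [← Scheme.Hom.comp_appTop, hT1]
          rfl
        have h2 : ∀ x, (T s).appTop.hom ((pullback.snd Y.hom ξ).appTop.hom x) = x := fun x => by
          have := congrArg (fun f => f.hom x) h1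
          simpa using this
        change (Scheme.ΓSpecIso (CommRingCat.of Ω)).hom.hom
          (((T s).appTop).hom (((pullback.snd Y.hom ξ).appTop).hom
              ((Scheme.ΓSpecIso (CommRingCat.of Ω)).inv.hom a))) = a
        rw [h2]
        simp }
  have hΦ : Function.Injective Φ := by
    intro s s' h
    have h1 : (T s).appTop = (T s').appTop := by
      rw [← cancel_mono (Scheme.ΓSpecIso (CommRingCat.of Ω)).hom]
      ext x
      exact DFunLike.congr_fun h x
    have h2 : T s = T s' := ext_of_isAffine h1
    apply Subtype.ext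
    change V s = V s'
    rw [← hT2 s, ← hT2 s', h2]
  exact Finite.of_injective Φ hΦ

end Groth.Agent.S0294
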