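import Groth.Statements.S16438
import Groth.Agent.Lib.Helper69.HensStage
import Groth.Agent.Lib.Helper87.HensStrictProps
import Groth.Agent.Lib.Helper61.EssEtale
import Groth.Agent.Lib.Helper23.UnramDescent
import Groth.Agent.Lib.Helper1.FlatDescent

set_option autoImplicit false
universe u
open EGA4loc

namespace Groth.Agent.S16438

set_option backward.isDefEq.respectTransparency false in
open IsLocalRing in
/-- Let A be a Noetherian local ring with maximal ideal m, S a strict henselization of A, and D an
A-subalgebra of S which is a local ring dominated by S (the inclusion is local), essentially of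
finite type over A, and such that m D is the maximal ideal of D. Then D is an essentially etale
local A-algebra: A-isomorphic to the localization of an etale A-algebra at a prime over m. (The
published statement also assumes the total ring of fractions of D finitely generated over that of A;
for D essentially of finite type over A and dominated by S this is automatic, D then lying in a
local etale subextension of S, so that hypothesis is omitted here.) -/
theorem result
    (A S : Type u) [CommRing A] [IsLocalRing A] [IsNoetherianRing A]
    [CommRing S] [IsLocalRing S] [Algebra A S] [IsLocalHom (algebraMap A S)]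
    [Hensel.IsStrictHenselization A S] (D : Subalgebra A S) [IsLocalRing D]
    [IsLocalHom (algebraMap D S)] [Algebra.EssFiniteType A D]
    (hm : Ideal.map (algebraMap A D) (maximalIdeal A) = maximalIdeal D) :
    EGA4loc.IsEssentiallyEtale A D := by
  have hS : Hensel.IsStrictHenselization A S := inferInstance
  -- `A → D` is local
  haveI hAD : IsLocalHom (algebraMap A D) := ⟨fun a ha => by
    have h1 : IsUnit (algebraMap D S (algebraMap A D a)) := ha.map _
    rw [← IsScalarTower.algebraMap_apply A D S] at h1
    exact isUnit_of_map_unit (algebraMap A S) a h1⟩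
  -- separable residue field extension
  haveI := hS.isSepClosure
  haveI : Algebra.IsSeparable (ResidueField A) (ResidueField S) := hS.isSepClosure.separable
  haveI : Algebra.IsSeparable (ResidueField A) (ResidueField D) :=
    Algebra.isSeparable_tower_bot_of_isSeparable (ResidueField A) (ResidueField D) (ResidueField S)
  haveI hunr : Algebra.FormallyUnramified A D := Algebra.FormallyUnramified.of_map_maximalIdeal hm
  -- flatness
  haveI : Module.Flat A S := Groth.Agent.Lib.Helper87.Hens.flat_of_isStrictHenselization A S
  haveI : Module.Flat D S := Groth.Agent.Lib.Helper87.flat_of_unramified_of_flat (R := A)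
  haveI : Module.FaithfullyFlat D S := Module.FaithfullyFlat.of_flat_of_isLocalHom
  haveI hflat : Module.Flat A D := Groth.Agent.Lib.Helper1.flat_of_faithfullyFlat_of_flat A D S
  -- the finite type model
  let D₀ : Subalgebra A D := Algebra.EssFiniteType.subalgebra A D
  haveI : Algebra.FinitePresentation A D₀ := Algebra.FinitePresentation.of_finiteType.mp inferInstance
  let P₀ : Ideal D₀ := (maximalIdeal D).comap (algebraMap D₀ D)
  haveI : P₀.IsPrime := Ideal.comap_isPrime _ _
  have hM : Algebra.EssFiniteType.submonoid A D = P₀.primeCompl := by
    ext x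
    change IsUnit (algebraMap D₀ D x) ↔ x ∉ P₀
    rw [Ideal.mem_comap, mem_maximalIdeal, mem_nonunits_iff, not_not]
  haveI : IsLocalization.AtPrime D P₀ := by
    change IsLocalization P₀.primeCompl D
    rw [← hM]
    infer_instance
  let e₁ : D ≃ₐ[D₀] Localization.AtPrime P₀ :=
    IsLocalization.algEquiv P₀.primeCompl D (Localization.AtPrime P₀)
  haveI : Module.Flat A (Localization.AtPrime P₀) :=
    Module.Flat.of_linearEquiv (e₁.restrictScalars A).symm.toLinearEquiv
  haveI : Algebra.IsUnramifiedAt A P₀ :=
    Algebra.FormallyUnramified.of_equiv (e₁.restrictScalars A)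
  haveI : Algebra.IsEtaleAt A P₀ :=
    Groth.Agent.Lib.Helper23.isEtaleAt_of_flat_of_isUnramifiedAt P₀
  haveI : Algebra.FormallyEtale A D := by
    have e₃ : Localization.AtPrime P₀ ≃ₐ[A] D := (e₁.restrictScalars A).symm
    exact Algebra.FormallyEtale.of_equiv (A := Localization.AtPrime P₀) (B := D) e₃
  obtain ⟨E, i1, i2, P, i3, hEt, hcomap, ⟨e₂⟩⟩ :=
    Groth.Agent.Lib.Helper61.EssEtale.exists_etale_localization A D₀ D P₀
  refine ⟨E, i1, i2, P, i3, hEt, ?_, ⟨e₂⟩⟩
  rw [hcomap]
  change Ideal.comap (algebraMap A D₀) (Ideal.comap (algebraMap D₀ D) (maximalIdeal D)) = _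
  rw [Ideal.comap_comap, ← IsScalarTower.algebraMap_eq]
  exact ((IsLocalRing.local_hom_TFAE (algebraMap A D)).out 0 4 rfl rfl).mp hAD


end Groth.Agent.S16438
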