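import Groth.Statements.S7130
import Mathlib.RingTheory.Ideal.Pure
import Mathlib.RingTheory.Flat.Localization
import Mathlib.RingTheory.LocalProperties.Reduced
import Mathlib.LinearAlgebra.FreeModule.Basic
import Mathlib.LinearAlgebra.Basis.VectorSpace
import Mathlib.RingTheory.Flat.Basic
-- import your own Groth.Agent.* helpers here

set_option autoImplicit false
universe u
open EtAlg

namespace Groth.Agent.S7130

variable {A : Type u} [CommRing A]

theorem flat_of_isField {K : Type*} [CommRing K] (h : IsField K) (M : Type*) [AddCommGroup M]
    [Module K M] : Module.Flat K M := by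
  letI := h.toField
  have : Module.Free K M := Module.Free.of_divisionRing K M
  exact Module.Flat.of_free

theorem isReduced_of_isField {K : Type*} [CommRing K] (h : IsField K) : IsReduced K := by
  letI := h.toField
  infer_instance

theorem one_to_three
    (h : ∀ (M : Type u) [AddCommGroup M] [Module A M], Module.Flat A M)
    (p : Ideal A) [p.IsPrime] : IsField (Localization.AtPrime p) := by
  rw [IsLocalRing.isField_iff_maximalIdeal_eq, ← Localization.AtPrime.map_eq_maximalIdeal]
  have hpure : p.Pure := h (A ⧸ p)
  have hle : p ≤ RingHom.ker (algebraMap A (Localization.AtPrime p)) :=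
    Ideal.le_ker_atPrime_of_forall_exists_eq_mul
      (fun x hx => Ideal.exists_eq_mul_of_pure hx) le_rfl
  rw [eq_bot_iff, Ideal.map_le_iff_le_comap]
  intro x hx
  have := hle hx
  rw [RingHom.mem_ker] at this
  simp [Ideal.mem_comap, this]

theorem three_to_one
    (h : ∀ (p : Ideal A) [p.IsPrime], IsField (Localization.AtPrime p))
    (M : Type u) [AddCommGroup M] [Module A M] : Module.Flat A M := by
  apply Module.flat_of_localized_maximal
  intro P hP
  have : Module.Flat (Localization.AtPrime P) (LocalizedModule P.primeCompl M) :=
    flat_of_isField (h P) _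
  exact Module.Flat.trans A (Localization.AtPrime P) _

theorem three_to_two
    (h : ∀ (p : Ideal A) [p.IsPrime], IsField (Localization.AtPrime p)) :
    IsReduced A ∧ ∀ p : Ideal A, p.IsPrime → p.IsMaximal := by
  constructor
  · apply isReduced_ofLocalizationMaximal
    intro J hJ
    exact isReduced_of_isField (h J)
  · intro p hp
    obtain ⟨m, hm, hpm⟩ := Ideal.exists_le_maximal p hp.ne_top
    have hmp : m ≤ p := by
      intro x hx
      have hfield := h m
      rw [IsLocalRing.isField_iff_maximalIdeal_eq] at hfield
      have hx' : algebraMap A (Localization.AtPrime m) x ∈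
          IsLocalRing.maximalIdeal (Localization.AtPrime m) := by
        rw [← Localization.AtPrime.map_eq_maximalIdeal]
        exact Ideal.mem_map_of_mem _ hx
      rw [hfield, Ideal.mem_bot] at hx'
      rw [← (algebraMap A (Localization.AtPrime m)).map_zero,
        IsLocalization.eq_iff_exists m.primeCompl] at hx'
      obtain ⟨c, hc⟩ := hx'
      rw [mul_zero] at hc
      have hcp : (c : A) ∉ p := fun hcp => c.2 (hpm hcp)
      have : (c : A) * x ∈ p := by rw [hc]; exact p.zero_mem
      exact (hp.mem_or_mem this).resolve_left hcp
    rw [le_antisymm hpm hmp]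
    exact hm

theorem two_to_three
    (h : IsReduced A ∧ ∀ p : Ideal A, p.IsPrime → p.IsMaximal)
    (p : Ideal A) [p.IsPrime] : IsField (Localization.AtPrime p) := by
  obtain ⟨hred, hmax⟩ := h
  rw [IsLocalRing.isField_iff_maximalIdeal_eq, eq_bot_iff]
  intro x hx
  rw [Ideal.mem_bot]
  apply IsNilpotent.eq_zero
  rw [nilpotent_iff_mem_prime]
  intro q hq
  have hqle : q ≤ IsLocalRing.maximalIdeal (Localization.AtPrime p) :=
    IsLocalRing.le_maximalIdeal hq.ne_top
  have hcomap : q.comap (algebraMap A (Localization.AtPrime p)) ≤ p := by
    have := Ideal.comap_mono (f := algebraMap A (Localization.AtPrime p)) hqle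
    rwa [show (IsLocalRing.maximalIdeal (Localization.AtPrime p)).comap
      (algebraMap A (Localization.AtPrime p)) = p from
      Localization.AtPrime.under_maximalIdeal] at this
  have hqmax : (q.comap (algebraMap A (Localization.AtPrime p))).IsMaximal :=
    hmax _ (Ideal.comap_isPrime _ _)
  have heq : q.comap (algebraMap A (Localization.AtPrime p)) = p :=
    hqmax.eq_of_le (Ideal.IsPrime.ne_top inferInstance) hcomap
  have : q = IsLocalRing.maximalIdeal (Localization.AtPrime p) := by
    rw [← Localization.AtPrime.map_eq_maximalIdeal]
    have h2 := IsLocalization.map_comap p.primeCompl (Localization.AtPrime p) q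
    rw [Ideal.under_def, heq] at h2
    exact h2.symm
  rw [this]
  exact hx


/-- (2) ⇔ (3) ⇔ (4): for a ring A the following are equivalent: every A-module is flat; A is reduced of
Krull dimension zero, in the sense that every prime ideal of A is maximal; the local ring A_p is a
field for every prime p. (The further equivalent condition 'A has weak dimension at most zero'
coincides with the first condition by definition and is not listed separately.) -/
theorem result (A : Type u) [CommRing A] :
    List.TFAE [∀ (M : Type u) [AddCommGroup M] [Module A M], Module.Flat A M,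
      IsReduced A ∧ ∀ p : Ideal A, p.IsPrime → p.IsMaximal,
      ∀ (p : Ideal A) [p.IsPrime], IsField (Localization.AtPrime p)] := by
  tfae_have 1 → 3 := fun h p _ => one_to_three h p
  tfae_have 3 → 1 := fun h M _ _ => three_to_one h M
  tfae_have 3 → 2 := three_to_two
  tfae_have 2 → 3 := fun h p _ => two_to_three h p
  tfae_finish

end Groth.Agent.S7130
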