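import Groth.Statements.S7129
import Groth.Agent.S7130
-- import your own Groth.Agent.* helpers here

set_option autoImplicit false
universe u
open EtAlg

namespace Groth.Agent.S7129

theorem prime_isMaximal (ι : Type u) (K : ι → Type u) [∀ i, Field (K i)]
    (p : Ideal (∀ i, K i)) (hp : p.IsPrime) : p.IsMaximal := by
  rw [Ideal.isMaximal_iff]
  refine ⟨fun h => hp.ne_top ((Ideal.eq_top_iff_one _).mpr h), ?_⟩
  intro J x hpJ hxp hxJ
  let y : ∀ i, K i := fun i => (x i)⁻¹
  have hxy : x * (x * y - 1) = 0 := by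
    funext i
    simp only [Pi.mul_apply, Pi.sub_apply, Pi.one_apply, Pi.zero_apply, y]
    by_cases hxi : x i = 0
    · simp [hxi]
    · rw [mul_inv_cancel₀ hxi]; simp
  have hmem : x * y - 1 ∈ p := by
    have : x * (x * y - 1) ∈ p := by rw [hxy]; exact p.zero_mem
    exact (hp.mem_or_mem this).resolve_left hxp
  have h1 : x * y - (x * y - 1) ∈ J := J.sub_mem (J.mul_mem_right _ hxJ) (hpJ hmem)
  simpa using h1


/-- Every module over a product of fields ∏ K_i is flat over it (the product is an absolutely flat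
ring). -/
theorem result (ι : Type u) (K : ι → Type u) [∀ i, Field (K i)] (M : Type u)
    [AddCommGroup M] [Module (∀ i, K i) M] : Module.Flat (∀ i, K i) M := by
  have h2 : IsReduced (∀ i, K i) ∧ ∀ p : Ideal (∀ i, K i), p.IsPrime → p.IsMaximal :=
    ⟨inferInstance, fun p hp => prime_isMaximal ι K p hp⟩
  have h := ((Groth.Agent.S7130.result (∀ i, K i)).out 1 0).mp h2
  exact h M

end Groth.Agent.S7129
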