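import Groth.Statements.S1968
import Mathlib.RingTheory.Flat.Tensor
import Mathlib.RingTheory.Localization.Pi
import Mathlib.RingTheory.Bezout
-- import your own Groth.Agent.* helpers here

set_option autoImplicit false
universe u
open EtAlg

namespace Groth.Agent.S1968

open TensorProduct in
theorem flat_of_fg_flat {R : Type u} [CommRing R] (h : ∀ J : Ideal R, J.FG → Module.Flat R J)
    (I : Ideal R) : Module.Flat R I := by
  rw [Module.Flat.iff_rTensor_injective]
  intro J hJ
  have := h J hJ
  have h1 : Function.Injective (I.subtype.lTensor J) :=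
    Module.Flat.lTensor_preserves_injective_linearMap _ I.injective_subtype
  have h2 : Function.Injective (J.subtype.rTensor R) :=
    Module.Flat.rTensor_preserves_injective_linearMap _ J.injective_subtype
  have h3 : (I.subtype.lTensor R) ∘ₗ (J.subtype.rTensor I) =
      (J.subtype.rTensor R) ∘ₗ (I.subtype.lTensor J) := by
    ext
    simp
  have h4 : Function.Injective ((I.subtype.lTensor R) ∘ₗ (J.subtype.rTensor I)) := by
    rw [h3]
    exact h2.comp h1
  exact Function.Injective.of_comp h4



section pi

variable {J : Type u} {A : J → Type u} [∀ j, CommRing (A j)] [∀ j, IsDomain (A j)]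

open Classical in
noncomputable def supp (z : ∀ j, A j) : ∀ j, A j := fun j => if z j = 0 then 0 else 1

theorem supp_mul_self (z : ∀ j, A j) : supp z * z = z := by
  funext j
  simp only [Pi.mul_apply, supp]
  split_ifs with h <;> simp [h]

theorem supp_idem (z : ∀ j, A j) : supp z * supp z = supp z := by
  funext j
  simp only [Pi.mul_apply, supp]
  split_ifs <;> simp

theorem mul_supp_eq_zero (z a : ∀ j, A j) (h : a * z = 0) : a * supp z = 0 := by
  funext j
  have := congrFun h j
  simp only [Pi.mul_apply, Pi.zero_apply, supp] at this ⊢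
  split_ifs with hz
  · simp
  · rcases mul_eq_zero.mp this with h | h
    · simp [h]
    · exact absurd h hz

theorem flat_span_singleton (z : ∀ j, A j) : Module.Flat (∀ j, A j) (Ideal.span {z}) := by
  set s := supp z with hs_def
  have hs : Module.Flat (∀ j, A j) (Ideal.span {s}) := by
    refine Module.Flat.of_retract (M := ∀ j, A j) (Submodule.subtype _)
      ((LinearMap.toSpanSingleton (∀ j, A j) (Ideal.span {s})
        ⟨s, Ideal.mem_span_singleton_self s⟩)) ?_
    ext ⟨a, ha⟩
    obtain ⟨c, rfl⟩ := Ideal.mem_span_singleton'.mp ha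
    simp only [LinearMap.coe_comp, Submodule.coe_subtype, Function.comp_apply,
      LinearMap.toSpanSingleton_apply, SetLike.mk_smul_mk, smul_eq_mul, LinearMap.id_coe, id_eq]
    rw [mul_assoc, supp_idem]
  let g : Ideal.span {s} →ₗ[∀ j, A j] Ideal.span {z} :=
    (LinearMap.toSpanSingleton (∀ j, A j) (Ideal.span {z})
      ⟨z, Ideal.mem_span_singleton_self z⟩).domRestrict (Ideal.span {s})
  have hg : Function.Bijective g := by
    constructor
    · rw [injective_iff_map_eq_zero]
      rintro ⟨a, ha⟩ h0
      obtain ⟨c, rfl⟩ := Ideal.mem_span_singleton'.mp ha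
      have h1 : c * s * z = 0 := by
        have := congrArg Subtype.val h0
        simpa [g] using this
      have h2 := mul_supp_eq_zero z _ h1
      rw [mul_assoc, supp_idem] at h2
      exact Subtype.ext h2
    · rintro ⟨w, hw⟩
      obtain ⟨c, rfl⟩ := Ideal.mem_span_singleton'.mp hw
      refine ⟨⟨c * s, Ideal.mul_mem_left _ _ (Ideal.mem_span_singleton_self s)⟩, ?_⟩
      apply Subtype.ext
      simp only [g, LinearMap.domRestrict_apply, LinearMap.toSpanSingleton_apply,
        SetLike.mk_smul_mk, smul_eq_mul]
      rw [mul_assoc, supp_mul_self]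
  exact Module.Flat.of_linearEquiv (LinearEquiv.ofBijective g hg).symm

theorem span_pair_principal [∀ j, ValuationRing (A j)] (x y : ∀ j, A j) :
    (Ideal.span {x, y}).IsPrincipal := by
  classical
  let e : ∀ j, A j := fun j => if x j ∣ y j then 1 else 0
  let z : ∀ j, A j := e * x + (1 - e) * y
  refine ⟨⟨z, ?_⟩⟩
  have hzx : z ∣ x := by
    rw [pi_dvd_iff]
    intro j
    simp only [z, e, Pi.add_apply, Pi.mul_apply, Pi.sub_apply, Pi.one_apply]
    split_ifs with h
    · simp
    · simpa using (ValuationRing.dvd_total (x j) (y j)).resolve_left h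
  have hzy : z ∣ y := by
    rw [pi_dvd_iff]
    intro j
    simp only [z, e, Pi.add_apply, Pi.mul_apply, Pi.sub_apply, Pi.one_apply]
    split_ifs with h
    · simpa using h
    · simp
  apply le_antisymm
  · rw [Ideal.span_le]
    rintro w (rfl | rfl)
    · exact Ideal.mem_span_singleton.mpr hzx
    · exact Ideal.mem_span_singleton.mpr hzy
  · rw [Ideal.submodule_span_eq, Ideal.span_le, Set.singleton_subset_iff]
    exact Ideal.add_mem _ (Ideal.mul_mem_left _ _ (Ideal.subset_span (by simp)))
      (Ideal.mul_mem_left _ _ (Ideal.subset_span (by simp)))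

theorem nonZeroDivisors_pi :
    nonZeroDivisors (∀ j, A j) = Submonoid.pi Set.univ (fun j => nonZeroDivisors (A j)) := by
  classical
  ext x
  simp only [Submonoid.mem_pi, Set.mem_univ, forall_const, mem_nonZeroDivisors_iff_ne_zero]
  rw [mem_nonZeroDivisors_iff_right]
  constructor
  · intro h j hj
    have := h (Pi.single j 1) (by
      funext i
      by_cases hij : i = j
      · subst hij; simp [hj]
      · simp [Pi.single_eq_of_ne hij])
    have := congrFun this j
    simp at this
  · intro h a ha
    funext j
    have := congrFun ha j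
    simp only [Pi.mul_apply, Pi.zero_apply] at this
    exact (mul_eq_zero.mp this).resolve_right (h j)

end pi

/-- Let (A_j) be a family of valuation rings with fraction fields K_j. Then every ideal of the product
ring Π A_j is a flat Π A_j-module (that is, Π A_j has weak dimension at most 1), and Π K_j is the
localization of Π A_j at its non-zero-divisors. -/
theorem result {J : Type u} (A : J → Type u) [∀ j, CommRing (A j)] [∀ j, IsDomain (A j)]
    [∀ j, ValuationRing (A j)] (K : J → Type u) [∀ j, Field (K j)] [∀ j, Algebra (A j) (K j)]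
    [∀ j, IsFractionRing (A j) (K j)] :
    (∀ I : Ideal (∀ j, A j), Module.Flat (∀ j, A j) I) ∧
      IsLocalization (nonZeroDivisors (∀ j, A j)) (∀ j, K j) := by
  refine ⟨fun I => flat_of_fg_flat (fun I' hI' => ?_) I, ?_⟩
  · have hB : IsBezout (∀ j, A j) := IsBezout.iff_span_pair_isPrincipal.mpr span_pair_principal
    obtain ⟨z, rfl⟩ := (IsBezout.isPrincipal_of_FG I' hI').principal
    exact flat_span_singleton z
  · rw [nonZeroDivisors_pi]
    infer_instance

end Groth.Agent.S1968
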