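import Groth.Statements.S1969
import Mathlib.RingTheory.Flat.Tensor
import Mathlib.RingTheory.Flat.EquationalCriterion
import Mathlib.RingTheory.Flat.TorsionFree
import Mathlib.RingTheory.Flat.Localization
import Mathlib.Algebra.Module.LocalizedModule.Submodule
import Mathlib.Tactic.TFAE
import Mathlib.Tactic.LinearCombination
-- import your own Groth.Agent.* helpers here

set_option autoImplicit false
universe u
open EtAlg

namespace Groth.Agent.S1969

open TensorProduct in
theorem flat_submodule {R : Type u} [CommRing R] (h : ∀ J : Ideal R, J.FG → Module.Flat R J)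
    {M : Type*} [AddCommGroup M] [Module R M] [Module.Flat R M] (N : Submodule R M) :
    Module.Flat R N := by
  rw [Module.Flat.iff_rTensor_injective]
  intro J hJ
  have := h J hJ
  have h1 : Function.Injective (N.subtype.lTensor J) :=
    Module.Flat.lTensor_preserves_injective_linearMap _ N.injective_subtype
  have h2 : Function.Injective (J.subtype.rTensor M) :=
    Module.Flat.rTensor_preserves_injective_linearMap _ J.injective_subtype
  have h3 : (N.subtype.lTensor R) ∘ₗ (J.subtype.rTensor N) =
      (J.subtype.rTensor M) ∘ₗ (N.subtype.lTensor J) := by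
    ext
    simp
  have h4 : Function.Injective ((N.subtype.lTensor R) ∘ₗ (J.subtype.rTensor N)) := by
    rw [h3]
    exact h2.comp h1
  exact Function.Injective.of_comp h4

theorem exists_idem_of_flat_span_singleton {R : Type u} [CommRing R] (a b : R)
    [Module.Flat R (Ideal.span {a})] (hab : b * a = 0) :
    ∃ e : R, e * a = a ∧ b * e = 0 := by
  let x : Unit → Ideal.span {a} := fun _ => ⟨a, Ideal.mem_span_singleton_self a⟩
  let f : Unit → R := fun _ => b
  have hrel : ∑ i, f i • x i = 0 := by
    simp only [Finset.univ_unique, PUnit.default_eq_unit, Finset.sum_singleton, f, x]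
    exact Subtype.ext (by simpa using hab)
  obtain ⟨k, c, y, hx, hc⟩ := Module.Flat.isTrivialRelation_of_sum_smul_eq_zero hrel
  have hy : ∀ j, ∃ u, u * a = (y j : R) := fun j => Ideal.mem_span_singleton'.mp (y j).2
  choose u hu using hy
  refine ⟨∑ j, c () j * u j, ?_, ?_⟩
  · have h1 := congrArg Subtype.val (hx ())
    simp only [x, Submodule.coe_sum, Submodule.coe_smul, smul_eq_mul] at h1
    rw [Finset.sum_mul]
    conv_rhs => rw [h1]
    refine Finset.sum_congr rfl fun j _ => ?_
    rw [mul_assoc, hu]
  · rw [Finset.mul_sum]
    refine Finset.sum_eq_zero fun j _ => ?_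
    have h2 := hc j
    simp only [Finset.univ_unique, PUnit.default_eq_unit, Finset.sum_singleton, f] at h2
    rw [← mul_assoc, h2, zero_mul]

theorem exists_of_flat_span_pair {R : Type u} [CommRing R] (a b : R)
    [Module.Flat R (Ideal.span {a, b})] :
    ∃ (k : ℕ) (c₁ c₂ u v : Fin k → R), (∑ j, (c₁ j * u j + c₂ j * v j)) * a = a ∧
      (∑ j, (c₁ j * u j + c₂ j * v j)) * b = b ∧ ∀ j, b * c₁ j = a * c₂ j := by
  let x : Fin 2 → Ideal.span {a, b} :=
    ![⟨a, Ideal.subset_span (by simp)⟩, ⟨b, Ideal.subset_span (by simp)⟩]
  let f : Fin 2 → R := ![b, -a]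
  have hrel : ∑ i, f i • x i = 0 := by
    simp only [Fin.sum_univ_two, f, x]
    apply Subtype.ext
    simp only [Matrix.cons_val_zero, Matrix.cons_val_one, Submodule.coe_add, Submodule.coe_smul,
      smul_eq_mul, Submodule.coe_zero]
    ring
  obtain ⟨k, c, y, hx, hc⟩ := Module.Flat.isTrivialRelation_of_sum_smul_eq_zero hrel
  have hy : ∀ j, ∃ u v, u * a + v * b = (y j : R) := fun j => Ideal.mem_span_pair.mp (y j).2
  choose u v huv using hy
  have hc' : ∀ j, b * c 0 j = a * c 1 j := by
    intro j
    have h2 := hc j
    simp only [Fin.sum_univ_two, f, Matrix.cons_val_zero, Matrix.cons_val_one] at h2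
    linear_combination h2
  refine ⟨k, c 0, c 1, u, v, ?_, ?_, hc'⟩
  · have h1 := congrArg Subtype.val (hx 0)
    simp only [x, Matrix.cons_val_zero, Submodule.coe_sum, Submodule.coe_smul, smul_eq_mul] at h1
    rw [Finset.sum_mul]
    conv_rhs => rw [h1]
    refine Finset.sum_congr rfl fun j _ => ?_
    rw [← huv j]
    linear_combination (-(v j)) * hc' j
  · have h1 := congrArg Subtype.val (hx 1)
    simp only [x, Matrix.cons_val_one, Matrix.cons_val_fin_one, Submodule.coe_sum,
      Submodule.coe_smul, smul_eq_mul] at h1
    rw [Finset.sum_mul]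
    conv_rhs => rw [h1]
    refine Finset.sum_congr rfl fun j _ => ?_
    rw [← huv j]
    linear_combination (u j) * hc' j


/-- For a commutative ring A these are equivalent — all ideals are flat A-modules; all finitely
generated ideals are flat; flatness passes to submodules of flat modules; each localization at a
prime is a valuation ring (in particular a domain). Condition (1), weak dimension at most one, is
not stated. -/
theorem result (A : Type u) [CommRing A] :
    List.TFAE [∀ I : Ideal A, Module.Flat A I,
      ∀ I : Ideal A, I.FG → Module.Flat A I,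
      ∀ (M : Type u) [AddCommGroup M] [Module A M], Module.Flat A M → ∀ N : Submodule A M, Module.Flat A N,
      ∀ (p : Ideal A) [p.IsPrime], ∃ _ : IsDomain (Localization.AtPrime p), ValuationRing (Localization.AtPrime p)] := by
  tfae_have 1 → 2 := fun h I _ => h I
  tfae_have 2 → 3 := fun h M _ _ hM N => flat_submodule h N
  tfae_have 3 → 1 := fun h I => h A inferInstance I
  tfae_have 2 → 4 := by
    intro h p hp
    have h1e : ∀ e : A, e ∈ p → 1 - e ∈ p.primeCompl := fun e he h' =>
      hp.ne_top ((Ideal.eq_top_iff_one _).mpr (by simpa using p.add_mem h' he))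
    have hdom : IsDomain (Localization.AtPrime p) := by
      have : NoZeroDivisors (Localization.AtPrime p) := by
        constructor
        intro x y hxy
        obtain ⟨a, s, rfl⟩ := IsLocalization.exists_mk'_eq p.primeCompl x
        obtain ⟨b, t, rfl⟩ := IsLocalization.exists_mk'_eq p.primeCompl y
        rw [← IsLocalization.mk'_mul, IsLocalization.mk'_eq_zero_iff] at hxy
        obtain ⟨c, hc⟩ := hxy
        have hflat := h (Ideal.span {(c : A) * a}) (Submodule.fg_span (Set.toFinite _))
        obtain ⟨e, he1, he2⟩ := exists_idem_of_flat_span_singleton ((c : A) * a) b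
          (by linear_combination hc)
        by_cases hep : e ∈ p
        · left
          rw [IsLocalization.mk'_eq_zero_iff]
          refine ⟨⟨1 - e, h1e e hep⟩ * c, ?_⟩
          simp only [Submonoid.coe_mul]
          linear_combination -he1
        · right
          rw [IsLocalization.mk'_eq_zero_iff]
          exact ⟨⟨e, hep⟩, by simpa [mul_comm] using he2⟩
      exact NoZeroDivisors.to_isDomain _
    refine ⟨hdom, ?_⟩
    rw [ValuationRing.iff_dvd_total]
    have key : ∀ a b : A, algebraMap A (Localization.AtPrime p) a ∣ algebraMap A _ b ∨
        algebraMap A (Localization.AtPrime p) b ∣ algebraMap A _ a := by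
      intro a b
      have hflat := h (Ideal.span {a, b}) (Submodule.fg_span (Set.toFinite _))
      obtain ⟨k, c₁, c₂, u, v, hea, heb, hc⟩ := exists_of_flat_span_pair a b
      set e := ∑ j, (c₁ j * u j + c₂ j * v j) with he
      by_cases hep : e ∈ p
      · right
        have : algebraMap A (Localization.AtPrime p) a = 0 := by
          rw [IsLocalization.map_eq_zero_iff p.primeCompl]
          exact ⟨⟨1 - e, h1e e hep⟩, by simp only; linear_combination -hea⟩
        rw [this]
        exact dvd_zero _
      · have : ∃ j, c₁ j * u j + c₂ j * v j ∉ p := by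
          by_contra hcon
          push Not at hcon
          exact hep (Ideal.sum_mem _ fun j _ => hcon j)
        obtain ⟨j, hj⟩ := this
        have hj' : c₁ j ∉ p ∨ c₂ j ∉ p := by
          by_contra hcon
          push Not at hcon
          exact hj (p.add_mem (p.mul_mem_right _ hcon.1) (p.mul_mem_right _ hcon.2))
        have hcj := congrArg (algebraMap A (Localization.AtPrime p)) (hc j)
        simp only [map_mul] at hcj
        rcases hj' with hj' | hj'
        · left
          have hu : IsUnit (algebraMap A (Localization.AtPrime p) (c₁ j)) :=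
            IsLocalization.map_units _ (⟨c₁ j, hj'⟩ : p.primeCompl)
          rw [← hu.dvd_mul_right, hcj]
          exact dvd_mul_right _ _
        · right
          have hu : IsUnit (algebraMap A (Localization.AtPrime p) (c₂ j)) :=
            IsLocalization.map_units _ (⟨c₂ j, hj'⟩ : p.primeCompl)
          rw [← hu.dvd_mul_right, ← hcj]
          exact dvd_mul_right _ _
    constructor
    intro x y
    obtain ⟨a, s, rfl⟩ := IsLocalization.exists_mk'_eq p.primeCompl x
    obtain ⟨b, t, rfl⟩ := IsLocalization.exists_mk'_eq p.primeCompl y
    have hs : IsUnit (algebraMap A (Localization.AtPrime p) s) := IsLocalization.map_units _ s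
    have ht : IsUnit (algebraMap A (Localization.AtPrime p) t) := IsLocalization.map_units _ t
    have ha : algebraMap A (Localization.AtPrime p) a =
        IsLocalization.mk' (Localization.AtPrime p) a s * algebraMap A _ s :=
      (IsLocalization.mk'_spec _ a s).symm
    have hb : algebraMap A (Localization.AtPrime p) b =
        IsLocalization.mk' (Localization.AtPrime p) b t * algebraMap A _ t :=
      (IsLocalization.mk'_spec _ b t).symm
    rcases key a b with hab | hab
    · left
      rw [ha, hb, ht.dvd_mul_right] at hab
      exact dvd_of_mul_right_dvd hab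
    · right
      rw [ha, hb, hs.dvd_mul_right] at hab
      exact dvd_of_mul_right_dvd hab
  tfae_have 4 → 1 := by
    intro h I
    refine Module.flat_of_isLocalized_maximal (R := A) A I
      (fun P _ => I.localized' (Localization.AtPrime P) P.primeCompl
        (Algebra.linearMap A (Localization.AtPrime P)))
      (fun P _ => I.toLocalized' (Localization.AtPrime P) P.primeCompl
        (Algebra.linearMap A (Localization.AtPrime P))) ?_
    intro P hP
    obtain ⟨hdom, hval⟩ := h P
    rw [← Module.flat_iff_of_isLocalization (Localization.AtPrime P) P.primeCompl]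
    rw [Module.Flat.flat_iff_torsion_eq_bot_of_isBezout,
      ← Submodule.isTorsionFree_iff_torsion_eq_bot]
    infer_instance
  tfae_finish

end Groth.Agent.S1969
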