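import Groth.Statements.S4787
import Mathlib
import Groth.Agent.S15542
import Groth.Agent.S15543
import Groth.Agent.S9207
import Groth.Agent.Lib.Helper36.ProConsScheme3
import Groth.Agent.Lib.Helper36.ProCons2
import Groth.Agent.Lib.Helper50.Lim

set_option autoImplicit false
universe u
open CategoryTheory AlgebraicGeometry
open Lim8

namespace Groth.Agent.S4787

/-- On a quasi-compact scheme, the difference of a pro-constructible and an ind-constructible
subset is the image of an affine scheme. -/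
private lemma exists_affine_range_eq_diff {X : Scheme.{u}} [CompactSpace X] {E F : Set X}
    (hE : ProCons.IsProConstructible E) (hF : ProCons.IsIndConstructible F) :
    ∃ (T : Scheme.{u}) (a : T ⟶ X), IsAffine T ∧ Set.range a.base = E \ F := by
  obtain ⟨T₁, a₁, hT₁, h₁⟩ := Groth.Agent.Lib.Helper36.exists_affine_range_eq hE
  have hF' : ProCons.IsProConstructible (a₁.base ⁻¹' F)ᶜ :=
    Groth.Agent.Lib.Helper36.isProConstructible_compl (Groth.Agent.S15543.result a₁ F hF)
  obtain ⟨T₂, a₂, hT₂, h₂⟩ := Groth.Agent.Lib.Helper36.exists_affine_range_eq (X := T₁) hF'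
  refine ⟨T₂, a₂ ≫ a₁, hT₂, ?_⟩
  ext x
  constructor
  · rintro ⟨t, rfl⟩
    have h3 : a₂.base t ∈ (a₁.base ⁻¹' F)ᶜ := by rw [← h₂]; exact ⟨t, rfl⟩
    refine ⟨?_, h3⟩
    rw [← h₁]
    exact ⟨a₂.base t, rfl⟩
  · rintro ⟨hxE, hxF⟩
    rw [← h₁] at hxE
    obtain ⟨t₁, rfl⟩ := hxE
    have h3 : t₁ ∈ Set.range a₂.base := by rw [h₂]; exact hxF
    obtain ⟨t₂, rfl⟩ := h3
    exact ⟨t₂, rfl⟩

/-- Let S = lim S_i be a cofiltered limit of schemes with affine transition maps, some stage S_{i₀}
being quasi-compact. For every index let E_i be a pro-constructible and F_i an ind-constructible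
subset of S_i such that, for every transition map S_i ⟶ S_j, E_i lies in the preimage of E_j and F_i
contains the preimage of F_j. Put E = ⋂ (preimage of E_i in S) and F = ⋃ (preimage of F_i in S).
Then E ⊆ F if and only if there is an index i over i₀ such that E_j ⊆ F_j for every j over i. -/
theorem result {I : Type u} [SmallCategory I] [IsCofiltered I]
    (D : I ⥤ Scheme.{u}) (c : Limits.Cone D) (hc : Limits.IsLimit c)
    [∀ (i j : I) (f : i ⟶ j), IsAffineHom (D.map f)] (i₀ : I)
    [CompactSpace (D.obj i₀)] (E F : ∀ i : I, Set (D.obj i))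
    (hE : ∀ i, ProCons.IsProConstructible (E i)) (hF : ∀ i, ProCons.IsIndConstructible (F i))
    (hEm : ∀ (i j : I) (φ : i ⟶ j), E i ⊆ ⇑(D.map φ) ⁻¹' E j)
    (hFm : ∀ (i j : I) (φ : i ⟶ j), ⇑(D.map φ) ⁻¹' F j ⊆ F i) :
    (⋂ i, ⇑(c.π.app i) ⁻¹' E i : Set c.pt) ⊆ (⋃ i, ⇑(c.π.app i) ⁻¹' F i : Set c.pt) ↔
      ∃ (i : I) (_ : i ⟶ i₀), ∀ (j : I) (_ : j ⟶ i), E j ⊆ F j := by
  classical
  constructor
  · intro h
    haveI : CompactSpace c.pt := Groth.Agent.Lib.Helper50.compactSpace_pt D c hc i₀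
    let Fam : I ⊕ I → Set c.pt := fun s =>
      Sum.elim (fun i => (c.π.app i).base ⁻¹' E i) (fun i => ((c.π.app i).base ⁻¹' F i)ᶜ) s
    have hFam : ∀ s, ProCons.IsProConstructible (Fam s) := by
      rintro (i | i)
      · exact Groth.Agent.S15542.result (c.π.app i) (E i) (hE i)
      · exact Groth.Agent.Lib.Helper36.isProConstructible_compl
          (Groth.Agent.S15543.result (c.π.app i) (F i) (hF i))
    have hsub : ⋂ s, Fam s ⊆ (∅ : Set c.pt) := by
      intro x hx
      rw [Set.mem_iInter] at hx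
      have h1 : x ∈ ⋂ i, (c.π.app i).base ⁻¹' E i :=
        Set.mem_iInter.mpr (fun i => hx (Sum.inl i))
      obtain ⟨i, hi⟩ := Set.mem_iUnion.mp (h h1)
      exact (hx (Sum.inr i)) hi
    have hempty_ind : ProCons.IsIndConstructible (∅ : Set c.pt) :=
      Groth.Agent.Lib.Helper36.isIndConstructible_of_isLocallyConstructible
        Topology.IsLocallyConstructible.empty
    obtain ⟨J, hJ⟩ := Groth.Agent.Lib.Helper36.scheme_exists_finset_iInter_subset c.pt
      hempty_ind Fam hFam hsub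
    obtain ⟨j, hj⟩ := IsCofiltered.inf_objs_exists (insert i₀ (J.image (Sum.elim id id)))
    obtain ⟨φ₀⟩ := hj (Finset.mem_insert_self _ _)
    haveI : CompactSpace (D.obj j) := QuasiCompact.compactSpace_of_compactSpace (D.map φ₀)
    have hπ : ∀ {i : I} (φ : j ⟶ i) (x : c.pt),
        (c.π.app i).base x = (D.map φ).base ((c.π.app j).base x) := by
      intro i φ x
      rw [← Scheme.Hom.comp_apply, c.w φ]
    have key : ∀ x : c.pt, (c.π.app j).base x ∈ E j → (c.π.app j).base x ∉ F j → False := by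
      intro x hxE hxF
      refine hJ (?_ : x ∈ ⋂ s ∈ J, Fam s)
      simp only [Set.mem_iInter]
      rintro (i | i) hs
      · obtain ⟨φ⟩ : Nonempty (j ⟶ i) := hj (Finset.mem_insert_of_mem
          (Finset.mem_image.mpr ⟨Sum.inl i, hs, rfl⟩))
        change (c.π.app i).base x ∈ E i
        rw [hπ φ]
        exact hEm j i φ hxE
      · obtain ⟨φ⟩ : Nonempty (j ⟶ i) := hj (Finset.mem_insert_of_mem
          (Finset.mem_image.mpr ⟨Sum.inr i, hs, rfl⟩))
        change (c.π.app i).base x ∉ F i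
        rw [hπ φ]
        intro hx
        exact hxF (hFm j i φ hx)
    obtain ⟨T, a, hT, ha⟩ := exists_affine_range_eq_diff (hE j) (hF j)
    have hempty : IsEmpty ↥(Limits.pullback a (c.π.app j)) := by
      refine ⟨fun z => ?_⟩
      have h1 : (c.π.app j).base ((Limits.pullback.snd a (c.π.app j)).base z) =
          a.base ((Limits.pullback.fst a (c.π.app j)).base z) := by
        rw [← Scheme.Hom.comp_apply, ← Scheme.Hom.comp_apply, Limits.pullback.condition]
      have h2 : a.base ((Limits.pullback.fst a (c.π.app j)).base z) ∈ E j \ F j := by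
        rw [← ha]; exact ⟨_, rfl⟩
      rw [← h1] at h2
      exact key _ h2.1 h2.2
    obtain ⟨j', φ, hφ⟩ : ∃ (j' : I) (φ : j' ⟶ j), IsEmpty ↥(Limits.pullback a (D.map φ)) := by
      by_contra! H
      exact hempty.elim (Groth.Agent.S9207.aux D c hc j a fun i' φ => H i' φ).some
    refine ⟨j', φ ≫ φ₀, fun k ψ y hy => ?_⟩
    by_contra hyF
    have h3 : (D.map (ψ ≫ φ)).base y ∈ E j \ F j :=
      ⟨hEm k j (ψ ≫ φ) hy, fun h4 => hyF (hFm k j (ψ ≫ φ) h4)⟩
    rw [← ha] at h3
    obtain ⟨t, ht⟩ := h3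
    obtain ⟨w, -, -⟩ := Scheme.Pullback.exists_preimage_pullback
      (f := a) (g := D.map φ) t ((D.map ψ).base y) (by
        rw [ht, D.map_comp, Scheme.Hom.comp_apply])
    exact hφ.false w
  · rintro ⟨i, _, hi⟩ x hx
    exact Set.mem_iUnion.mpr ⟨i, hi i (𝟙 i) (Set.mem_iInter.mp hx i)⟩

end Groth.Agent.S4787
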