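import Groth.Statements.S2166
import Groth.Agent.Lib.Helper76.CIQuot
import Groth.Agent.Lib.Helper76.CIDescent
import Groth.Agent.Lib.Helper76.CIPres
import Groth.Agent.S0547

set_option autoImplicit false
universe u
open LCI

namespace Groth.Agent.S2166

open IsLocalRing Groth.Agent.Lib.Helper56 EGA4 Groth.Agent.Lib.Helper94.CILocal

/-- R already a regular local ring: for a regular local ring R and a proper ideal I, the local ring R/I
is a complete intersection (its completion is a regular local ring modulo a regular sequence) if and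
only if I itself is generated by a regular sequence of R. -/
theorem result {R : Type u} [CommRing R] [IsRegularLocalRing R]
    (I : Ideal R) (hI : I ≠ ⊤) [IsLocalRing (R ⧸ I)] :
    Pi1.IsCompleteIntersection (R ⧸ I) ↔
      ∃ rs : List R, Ideal.ofList rs = I ∧ RingTheory.Sequence.IsRegular R rs := by
  have hIm : I ≤ maximalIdeal R := IsLocalRing.le_maximalIdeal hI
  constructor
  · rintro ⟨B, _, hB, rs, hmem, hreg, ⟨e⟩⟩
    haveI hregR' : IsRegularLocalRing (AdicCompletion (maximalIdeal R) R) :=
      (Groth.Agent.S0548.result R).mp inferInstance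
    haveI : Nontrivial (R ⧸ I) := inferInstance
    have hφ := cplMap_quot_surjective R I
    have hkerφ := ker_cplMap_quot R I
    let ψ : B →+* Cpl (R ⧸ I) :=
      e.symm.toRingHom.comp (Ideal.Quotient.mk (Ideal.span {r | r ∈ rs}))
    have hψ : Function.Surjective ψ := e.symm.surjective.comp Ideal.Quotient.mk_surjective
    have hkerψ : RingHom.ker ψ = Ideal.ofList rs := by
      rw [RingHom.ker_equiv_comp, Ideal.mk_ker]
    have h1 : CInt.IsRegularIdeal (RingHom.ker ψ) := ⟨rs, hreg, hkerψ.symm⟩
    have h2 : CInt.IsRegularIdeal (RingHom.ker (cplMap R (R ⧸ I))) :=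
      (Groth.Agent.Lib.Helper76.KosLen.isRegularIdeal_ker_iff (cplMap R (R ⧸ I)) ψ hφ hψ).mpr h1
    have hK' : RingHom.ker (cplMap R (R ⧸ I)) ≤ maximalIdeal (Cpl R) :=
      IsLocalRing.le_maximalIdeal (RingHom.ker_ne_top _)
    rw [isRegularIdeal_iff_dim (Cpl R) _ hK'] at h2
    have hd1 : ringKrullDim (Cpl R ⧸ RingHom.ker (cplMap R (R ⧸ I))) = ringKrullDim (R ⧸ I) := by
      rw [ringKrullDim_eq_of_ringEquiv (RingHom.quotientKerEquivOfSurjective hφ)]
      exact Groth.Agent.S0547.result (R ⧸ I)
    have hd2 : ringKrullDim (Cpl R) = ringKrullDim R := Groth.Agent.S0547.result R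
    rw [hd1, hd2, hkerφ] at h2
    have h3 : I.spanFinrank ≤ (I.map (algebraMap R (Cpl R))).spanFinrank :=
      Groth.Agent.Lib.Helper76.CIDescent.spanFinrank_le_spanFinrank_map_completion R I
    have h4 := ringKrullDim_le_ringKrullDim_quotient_add_spanFinrank I
      (by rw [ringJacobson_eq_maximalIdeal]; exact hIm)
    have h5 : CInt.IsRegularIdeal I := by
      rw [isRegularIdeal_iff_dim R I hIm]
      obtain ⟨d, hd⟩ := exists_nat_ringKrullDim R
      obtain ⟨e', he'⟩ := exists_nat_ringKrullDim (R ⧸ I)
      rw [hd, he'] at h2 h4 ⊢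
      have h2' : e' + (I.map (algebraMap R (Cpl R))).spanFinrank = d := by exact_mod_cast h2
      have h4' : d ≤ e' + I.spanFinrank := by exact_mod_cast h4
      have : e' + I.spanFinrank = d := by omega
      exact_mod_cast this
    obtain ⟨rs', hreg', hrs'⟩ := h5
    exact ⟨rs', hrs', hreg'⟩
  · rintro ⟨rs, hrs, hreg⟩
    refine Groth.Agent.Lib.Helper76.CIQuot.isCompleteIntersection_quotient_of_isRegular R rs ?_
      hreg.toIsWeaklyRegular I hrs
    intro r hr
    apply hIm
    rw [← hrs]
    exact Ideal.subset_span hr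

end Groth.Agent.S2166
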