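import Groth.Statements.S5068
import Groth.Agent.Lib.Helper76.TransReg
import Groth.Agent.Lib.Helper76.CITransport
import Groth.Agent.Lib.Helper76.CIQuot
import Groth.Agent.Lib.Helper58.FlatKer
import Groth.Agent.S2166

set_option autoImplicit false
universe u
open CInt

namespace Groth.Agent.S5068

open IsLocalRing RingTheory.Sequence EGA4 Groth.Agent.Lib.Helper76.TransReg
  Groth.Agent.Lib.Helper76.CITransport

section Wrappers

variable (A C : Type u) [CommRing A] [IsLocalRing A] [CommRing C] [Algebra A C]

/-- `C ⧸ m_A C` as a module quotient -/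
noncomputable def fibEquiv : (FibRing A C) ≃ₗ[C] (C ⧸ (mB A C) • (⊤ : Submodule C C)) :=
  Submodule.quotEquivOfEq _ _ (by rw [smul_eq_mul, Ideal.mul_top])

theorem isWeaklyRegular_fibRing_iff (rs : List C) :
    IsWeaklyRegular (FibRing A C) (rs.map (Ideal.Quotient.mk (mB A C))) ↔
      IsWeaklyRegular (C ⧸ (mB A C) • (⊤ : Submodule C C)) rs := by
  rw [← LinearEquiv.isWeaklyRegular_congr (fibEquiv A C) rs]
  exact isWeaklyRegular_map_algebraMap_iff (FibRing A C) (FibRing A C) rs

/-- ring quotient versus module quotient -/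
noncomputable def quotEquiv (l : List C) :
    (C ⧸ Ideal.ofList l) ≃ₗ[C] (C ⧸ (Ideal.ofList l) • (⊤ : Submodule C C)) :=
  Submodule.quotEquivOfEq _ _ (by rw [smul_eq_mul, Ideal.mul_top])

theorem flat_quot_iff (l : List C) :
    Module.Flat A (C ⧸ Ideal.ofList l) ↔
      Module.Flat A (C ⧸ (Ideal.ofList l) • (⊤ : Submodule C C)) :=
  ⟨fun _ => Module.Flat.of_linearEquiv ((quotEquiv C l).symm.restrictScalars A),
    fun _ => Module.Flat.of_linearEquiv ((quotEquiv C l).restrictScalars A)⟩

end Wrappers

section Main

variable (A C B : Type u) [CommRing A] [IsLocalRing A]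
    [IsNoetherianRing A] [CommRing C] [IsLocalRing C] [IsNoetherianRing C] [Algebra A C]
    [IsLocalHom (algebraMap A C)]
    [CommRing B] [IsLocalRing B] [Algebra C B] [Algebra A B] [IsScalarTower A C B]
    [IsLocalHom (algebraMap A B)]

theorem mB_le_comap : mB A C ≤ (mB A B).comap (algebraMap C B) := by
  rw [mB, Ideal.map_le_iff_le_comap]
  intro a ha
  rw [Ideal.mem_comap, Ideal.mem_comap, ← IsScalarTower.algebraMap_apply]
  exact Ideal.mem_map_of_mem _ ha

/-- the induced map on closed fibres -/
noncomputable def fibMap : FibRing A C →+* FibRing A B :=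
  Ideal.quotientMap (mB A B) (algebraMap C B) (mB_le_comap A C B)

theorem fibMap_surjective (hsurj : Function.Surjective (algebraMap C B)) :
    Function.Surjective (fibMap A C B) :=
  Ideal.quotientMap_surjective hsurj

theorem ker_fibMap (hsurj : Function.Surjective (algebraMap C B)) :
    RingHom.ker (fibMap A C B) =
      (RingHom.ker (algebraMap C B)).map (Ideal.Quotient.mk (mB A C)) := by
  apply le_antisymm
  · intro xbar hx
    obtain ⟨x, rfl⟩ := Ideal.Quotient.mk_surjective xbar
    rw [RingHom.mem_ker, fibMap, Ideal.quotientMap_mk, Ideal.Quotient.eq_zero_iff_mem] at hx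
    have hmap : mB A B = (mB A C).map (algebraMap C B) := by
      rw [mB, mB, Ideal.map_map, ← IsScalarTower.algebraMap_eq]
    rw [hmap, Ideal.mem_map_iff_of_surjective _ hsurj] at hx
    obtain ⟨y, hy, hyx⟩ := hx
    have hker : x - y ∈ RingHom.ker (algebraMap C B) := by
      rw [RingHom.mem_ker, map_sub, hyx, sub_self]
    have : Ideal.Quotient.mk (mB A C) x = Ideal.Quotient.mk (mB A C) (x - y) := by
      rw [map_sub, Ideal.Quotient.eq_zero_iff_mem.mpr hy, sub_zero]
    rw [this]
    exact Ideal.mem_map_of_mem _ hker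
  · rw [Ideal.map_le_iff_le_comap]
    intro x hx
    rw [Ideal.mem_comap, RingHom.mem_ker, fibMap, Ideal.quotientMap_mk,
      (RingHom.mem_ker).mp hx, map_zero]

theorem mk_mem_maximalIdeal {x : C} (hx : x ∈ maximalIdeal C) :
    Ideal.Quotient.mk (mB A C) x ∈ maximalIdeal (FibRing A C) := by
  have hloc : IsLocalHom (Ideal.Quotient.mk (mB A C)) :=
    Function.Surjective.isLocalHom _ Ideal.Quotient.mk_surjective
  rw [mem_maximalIdeal, mem_nonunits_iff] at hx ⊢
  intro hu
  exact hx ((isUnit_map_iff (Ideal.Quotient.mk (mB A C)) x).mp hu)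

theorem forward [Module.Flat A C] (hreg : IsRegularLocalRing (FibRing A C))
    (hsurj : Function.Surjective (algebraMap C B)) (rs : List C)
    (hrs : Ideal.ofList rs = RingHom.ker (algebraMap C B))
    (hT : RegImm.IsTransRegularSeq A C rs) :
    Module.Flat A B ∧ Pi1.IsCompleteIntersection (FibRing A B) := by
  constructor
  · have h1 := hT.2 rs.length le_rfl
    rw [List.take_length, hrs] at h1
    have e : (C ⧸ RingHom.ker (IsScalarTower.toAlgHom A C B)) ≃ₐ[A] B :=
      Ideal.quotientKerAlgEquivOfSurjective (f := IsScalarTower.toAlgHom A C B) hsurj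
    have hk : RingHom.ker (IsScalarTower.toAlgHom A C B) = RingHom.ker (algebraMap C B) := rfl
    rw [hk] at e
    exact Module.Flat.of_linearEquiv e.toLinearEquiv.symm
  · haveI := hreg
    have hfib : IsWeaklyRegular (C ⧸ (mB A C) • (⊤ : Submodule C C)) rs :=
      isWeaklyRegular_fib_of_flat rs C hT.1 (fun j hj => (flat_quot_iff A C _).mp (hT.2 j hj))
    have hw : IsWeaklyRegular (FibRing A C) (rs.map (Ideal.Quotient.mk (mB A C))) :=
      (isWeaklyRegular_fibRing_iff A C rs).mpr hfib
    have hJm : RingHom.ker (algebraMap C B) ≤ maximalIdeal C :=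
      IsLocalRing.le_maximalIdeal (RingHom.ker_ne_top _)
    have hmem : ∀ r ∈ rs.map (Ideal.Quotient.mk (mB A C)), r ∈ maximalIdeal (FibRing A C) := by
      intro r hr
      obtain ⟨c, hc, rfl⟩ := List.mem_map.mp hr
      apply mk_mem_maximalIdeal
      apply hJm
      rw [← hrs]
      exact Ideal.subset_span hc
    have hφs := fibMap_surjective A C B hsurj
    let e : (FibRing A C ⧸ RingHom.ker (fibMap A C B)) ≃+* FibRing A B :=
      RingHom.quotientKerEquivOfSurjective hφs
    haveI : IsLocalRing (FibRing A C ⧸ RingHom.ker (fibMap A C B)) := e.symm.isLocalRing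
    have hJ : Ideal.ofList (rs.map (Ideal.Quotient.mk (mB A C))) =
        RingHom.ker (fibMap A C B) := by
      rw [ker_fibMap A C B hsurj, ← hrs, Ideal.map_ofList]
    have hci := Groth.Agent.Lib.Helper76.CIQuot.isCompleteIntersection_quotient_of_isRegular
      (FibRing A C) (rs.map (Ideal.Quotient.mk (mB A C))) hmem hw _ hJ
    exact isCompleteIntersection_of_ringEquiv e hci

omit [IsLocalRing A] [IsNoetherianRing A] [IsLocalRing C] [IsNoetherianRing C]
  [IsLocalHom (algebraMap A C)] [IsLocalRing B] [IsLocalHom (algebraMap A B)]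
  [Algebra A C] [Algebra A B] [IsScalarTower A C B] [Algebra C B] [CommRing B] in
/-- lifting a list along a surjection with prescribed membership -/
theorem exists_lift_list {R S : Type*} [CommRing R] [CommRing S] (f : R →+* S) (J : Ideal R)
    (l : List S) (hl : ∀ x ∈ l, ∃ r ∈ J, f r = x) :
    ∃ l' : List R, (∀ x ∈ l', x ∈ J) ∧ l'.map f = l := by
  induction l with
  | nil => exact ⟨[], by simp, rfl⟩
  | cons a l ih =>
    obtain ⟨r, hr, hra⟩ := hl a (by simp)
    obtain ⟨l', hl', hmap⟩ := ih (fun x hx => hl x (List.mem_cons_of_mem _ hx))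
    refine ⟨r :: l', ?_, by rw [List.map_cons, hra, hmap]⟩
    intro x hx
    rcases List.mem_cons.mp hx with rfl | hx
    · exact hr
    · exact hl' x hx

theorem backward [Module.Flat A C] (hreg : IsRegularLocalRing (FibRing A C))
    (hsurj : Function.Surjective (algebraMap C B)) (hflat : Module.Flat A B)
    (hCI : Pi1.IsCompleteIntersection (FibRing A B)) :
    ∃ rs : List C, Ideal.ofList rs = RingHom.ker (algebraMap C B) ∧
      RegImm.IsTransRegularSeq A C rs := by
  haveI := hreg
  have hφs := fibMap_surjective A C B hsurj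
  let e : (FibRing A C ⧸ RingHom.ker (fibMap A C B)) ≃+* FibRing A B :=
    RingHom.quotientKerEquivOfSurjective hφs
  haveI : IsLocalRing (FibRing A C ⧸ RingHom.ker (fibMap A C B)) := e.symm.isLocalRing
  have hci := isCompleteIntersection_of_ringEquiv e.symm hCI
  obtain ⟨rsbar, hrsbar, hregbar⟩ :=
    (Groth.Agent.S2166.result (RingHom.ker (fibMap A C B)) (RingHom.ker_ne_top _)).mp hci
  -- lift the sequence
  have hker := ker_fibMap A C B hsurj
  have hl : ∀ x ∈ rsbar, ∃ r ∈ RingHom.ker (algebraMap C B),
      Ideal.Quotient.mk (mB A C) r = x := by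
    intro x hx
    have hxk : x ∈ RingHom.ker (fibMap A C B) := by
      rw [← hrsbar]; exact Ideal.subset_span hx
    rw [hker, Ideal.mem_map_iff_of_surjective _ Ideal.Quotient.mk_surjective] at hxk
    exact hxk
  obtain ⟨rs, hrsJ, hmap⟩ := exists_lift_list (Ideal.Quotient.mk (mB A C)) _ rsbar hl
  have hw : IsWeaklyRegular (FibRing A C) (rs.map (Ideal.Quotient.mk (mB A C))) := by
    rw [hmap]; exact hregbar.toIsWeaklyRegular
  have hfib := (isWeaklyRegular_fibRing_iff A C rs).mp hw
  obtain ⟨hwC, hF⟩ := isWeaklyRegular_of_fib rs C hfib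
  refine ⟨rs, ?_, hwC, fun j hj => (flat_quot_iff A C _).mpr (hF j hj)⟩
  -- the ideal equality
  have hKJ : Ideal.ofList rs ≤ RingHom.ker (algebraMap C B) := by
    unfold Ideal.ofList
    rw [Ideal.span_le]
    exact fun x hx => hrsJ x hx
  apply le_antisymm hKJ
  refine Submodule.le_of_le_smul_of_le_jacobson_bot (I := mB A C)
    (IsNoetherian.noetherian _) ?_ ?_
  · rw [IsLocalRing.jacobson_eq_maximalIdeal ⊥ bot_ne_top]
    exact IsLocalRing.map_maximalIdeal_le (algebraMap A C)
  · intro x hx
    have hxbar : Ideal.Quotient.mk (mB A C) x ∈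
        (Ideal.ofList rs).map (Ideal.Quotient.mk (mB A C)) := by
      rw [Ideal.map_ofList, hmap, hrsbar, hker]
      exact Ideal.mem_map_of_mem _ hx
    rw [Ideal.mem_map_iff_of_surjective _ Ideal.Quotient.mk_surjective] at hxbar
    obtain ⟨k, hk, hkx⟩ := hxbar
    have hd1 : x - k ∈ mB A C := by
      rw [← Ideal.Quotient.eq_zero_iff_mem, map_sub, hkx, sub_self]
    have hd2 : (IsScalarTower.toAlgHom A C B) (x - k) = 0 := by
      show algebraMap C B (x - k) = 0
      rw [map_sub, (RingHom.mem_ker).mp hx, (RingHom.mem_ker).mp (hKJ hk), sub_zero]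
    have hd3 := Groth.Agent.Lib.Helper58.FlatKer.ker_inf_map_le_of_flat (maximalIdeal A)
      (IsScalarTower.toAlgHom A C B) hsurj hd2 hd1
    have hdecomp : x = k + (x - k) := by ring
    rw [hdecomp]
    refine Submodule.add_mem_sup hk ?_
    rw [smul_eq_mul]
    exact hd3

end Main


/-- Suppose A and C are Noetherian local rings joined by a flat local homomorphism A → C whose closed
fibre C/m_A C is a regular local ring, and consider a local ring B obtained as a quotient of C by an
ideal J (encoded as a surjective C-algebra B, with J taken to be the kernel). The ideal J admits a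
generating sequence that is transversally regular relative to A (each term a non-zero-divisor modulo
the previous ones, and every partial quotient C/(f_1, …, f_j) A-flat) exactly when two things hold:
B is A-flat, and B/m_A B is a complete intersection (meaning its completion is a regular local ring
divided by a regular sequence). -/
theorem result (A C B : Type u) [CommRing A] [IsLocalRing A]
    [IsNoetherianRing A] [CommRing C] [IsLocalRing C] [IsNoetherianRing C] [Algebra A C] [IsLocalHom (algebraMap A C)]
    [Module.Flat A C] (hreg : IsRegularLocalRing (EGA4.FibRing A C))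
    [CommRing B] [IsLocalRing B] [Algebra C B] [Algebra A B] [IsScalarTower A C B] [IsLocalHom (algebraMap A B)]
    (hsurj : Function.Surjective (algebraMap C B)) :
    (∃ rs : List C, Ideal.ofList rs = RingHom.ker (algebraMap C B) ∧ RegImm.IsTransRegularSeq A C rs) ↔
      (Module.Flat A B ∧ Pi1.IsCompleteIntersection (EGA4.FibRing A B)) := by
  constructor
  · rintro ⟨rs, hrs, hT⟩
    exact forward A C B hreg hsurj rs hrs hT
  · rintro ⟨hflat, hCI⟩
    exact backward A C B hreg hsurj hflat hCI

end Groth.Agent.S5068
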