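import Groth.Statements.S9472
import Mathlib

set_option autoImplicit false
universe u v
open Diff16

namespace Groth.Agent.S9472

section basic
variable {A B : Type u} [CommRing A] [CommRing B] [Algebra A B]
variable {M N : Type v} [AddCommGroup M] [Module A M] [Module B M] [IsScalarTower A B M]
  [AddCommGroup N] [Module A N] [Module B N] [IsScalarTower A B N]

theorem commutator_apply (D : M →ₗ[A] N) (b : B) (m : M) :
    Diff16.commutator A B M N D b m = D (b • m) - b • D m := by
  simp [Diff16.commutator]

theorem commutator_zero (b : B) : Diff16.commutator A B M N 0 b = 0 := by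
  ext m; simp [commutator_apply]

theorem commutator_sub (D E : M →ₗ[A] N) (b : B) :
    Diff16.commutator A B M N (D - E) b = Diff16.commutator A B M N D b - Diff16.commutator A B M N E b := by
  ext m; simp [commutator_apply, smul_sub]; abel

theorem commutator_comm (D : M →ₗ[A] N) (a b : B) :
    Diff16.commutator A B M N (Diff16.commutator A B M N D a) b =
      Diff16.commutator A B M N (Diff16.commutator A B M N D b) a := by
  ext m
  simp only [commutator_apply, smul_sub]
  rw [smul_comm b a m, smul_comm b a (D m)]
  abel

theorem commutator_add_right (D : M →ₗ[A] N) (a b : B) :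
    Diff16.commutator A B M N D (a + b) = Diff16.commutator A B M N D a + Diff16.commutator A B M N D b := by
  ext m; simp [commutator_apply, add_smul]; abel

theorem isDiffOpLE_zero (n : ℕ) : IsDiffOpLE A B M N n (0 : M →ₗ[A] N) := by
  induction n with
  | zero => intro b m; simp
  | succ n ih => intro b; rw [commutator_zero]; exact ih

theorem isDiffOpLE_sub (n : ℕ) : ∀ (D E : M →ₗ[A] N), IsDiffOpLE A B M N n D →
    IsDiffOpLE A B M N n E → IsDiffOpLE A B M N n (D - E) := by
  induction n with
  | zero =>
    intro D E hD hE b m
    simp [hD b m, hE b m, smul_sub]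
  | succ n ih =>
    intro D E hD hE b
    rw [commutator_sub]
    exact ih _ _ (hD b) (hE b)

theorem commutator_comp_left {N' : Type v} [AddCommGroup N'] [Module A N'] [Module B N']
    [IsScalarTower A B N'] (α : N →ₗ[B] N') (D : M →ₗ[A] N) (b : B) :
    Diff16.commutator A B M N' (α.restrictScalars A ∘ₗ D) b =
      α.restrictScalars A ∘ₗ Diff16.commutator A B M N D b := by
  ext m; simp [commutator_apply]

theorem isDiffOpLE_comp_left {N' : Type v} [AddCommGroup N'] [Module A N'] [Module B N']
    [IsScalarTower A B N'] (α : N →ₗ[B] N') (n : ℕ) : ∀ (D : M →ₗ[A] N),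
    IsDiffOpLE A B M N n D → IsDiffOpLE A B M N' n (α.restrictScalars A ∘ₗ D) := by
  induction n with
  | zero =>
    intro D hD b m
    simp [hD b m]
  | succ n ih =>
    intro D hD b
    rw [commutator_comp_left]
    exact ih _ (hD b)

end basic

section tower
variable {R S S' : Type u} [CommRing R] [CommRing S] [CommRing S'] [Algebra R S] [Algebra R S']
  [Algebra S S'] [IsScalarTower R S S']
variable {M M' N' : Type v} [AddCommGroup M] [Module R M] [Module S M] [IsScalarTower R S M]
  [AddCommGroup M'] [Module R M'] [Module S M'] [Module S' M'] [IsScalarTower R S M']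
  [IsScalarTower R S' M'] [IsScalarTower S S' M']
  [AddCommGroup N'] [Module R N'] [Module S N'] [Module S' N'] [IsScalarTower R S N']
  [IsScalarTower R S' N'] [IsScalarTower S S' N']

theorem commutator_restrict (ι : M →ₗ[S] M') (D' : M' →ₗ[R] N') (s : S) :
    Diff16.commutator R S M N' (D' ∘ₗ ι.restrictScalars R) s =
      Diff16.commutator R S' M' N' D' (algebraMap S S' s) ∘ₗ ι.restrictScalars R := by
  ext m
  simp [commutator_apply]

theorem isDiffOpLE_restrict (ι : M →ₗ[S] M') (n : ℕ) : ∀ (D' : M' →ₗ[R] N'),
    IsDiffOpLE R S' M' N' n D' → IsDiffOpLE R S M N' n (D' ∘ₗ ι.restrictScalars R) := by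
  induction n with
  | zero =>
    intro D' hD' s m
    have := hD' (algebraMap S S' s) (ι m)
    rw [LinearMap.comp_apply, LinearMap.comp_apply, LinearMap.restrictScalars_apply,
      LinearMap.restrictScalars_apply, map_smul, ← algebraMap_smul S' s (ι m), this,
      algebraMap_smul S' s (D' (ι m))]
  | succ n ih =>
    intro D' hD' s
    rw [commutator_restrict (S' := S') ι D' s]
    exact ih _ (hD' _)

/-- If all commutators with scalars from `S` vanish and `S'/S` is formally unramified,
an operator of finite order is `S'`-linear. -/
theorem linear_of_commutator_eq_zero [Algebra.FormallyUnramified S S'] (n : ℕ) :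
    ∀ (E : M' →ₗ[R] N'), IsDiffOpLE R S' M' N' n E →
      (∀ s : S, Diff16.commutator R S' M' N' E (algebraMap S S' s) = 0) →
      IsDiffOpLE R S' M' N' 0 E := by
  induction n with
  | zero => intro E hE _; exact hE
  | succ n ih =>
    intro E hE hs
    have hlin : ∀ b : S', IsDiffOpLE R S' M' N' 0 (Diff16.commutator R S' M' N' E b) := by
      intro b
      apply ih _ (hE b)
      intro s
      rw [commutator_comm, hs s, commutator_zero]
    -- for fixed m, b ↦ [E,b] m is an S-derivation S' → N'
    intro b m
    have key : Diff16.commutator R S' M' N' E b m = 0 := by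
      let δ₀ : S' →ₗ[S] N' :=
        { toFun := fun b => Diff16.commutator R S' M' N' E b m
          map_add' := fun a b => by rw [commutator_add_right]; rfl
          map_smul' := fun s a => by
            simp only [RingHom.id_apply]
            rw [commutator_apply, commutator_apply]
            have h1 := hlin (algebraMap S S' s) 
            have h0 : Diff16.commutator R S' M' N' E (algebraMap S S' s) (a • m) = 0 := by
              rw [hs s]; rfl
            rw [commutator_apply] at h0
            rw [Algebra.smul_def, mul_smul, mul_smul, smul_sub, algebraMap_smul, algebraMap_smul]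
            rw [sub_eq_zero] at h0
            rw [algebraMap_smul] at h0
            rw [h0]
            rw [algebraMap_smul] }
      let δ : Derivation S S' N' := Derivation.mk' δ₀ (by
        intro a b
        change Diff16.commutator R S' M' N' E (a * b) m = a • Diff16.commutator R S' M' N' E b m + b • Diff16.commutator R S' M' N' E a m
        have h1 := hlin a b m
        rw [commutator_apply, commutator_apply, commutator_apply]
        rw [commutator_apply, commutator_apply] at h1
        rw [mul_smul, mul_smul, smul_sub, smul_sub]
        have h2 : E (a • b • m) = b • (E (a • m) - a • E m) + a • E (b • m) := by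
          rw [← h1]; abel
        rw [h2, smul_sub, smul_comm b a (E m)]
        abel)
      have hsub : Subsingleton (Derivation S S' N') :=
        (KaehlerDifferential.linearMapEquivDerivation S S').symm.toEquiv.subsingleton
      have hδ : δ = 0 := Subsingleton.elim _ _
      have : δ b = 0 := by rw [hδ]; rfl
      exact this
    rw [commutator_apply, sub_eq_zero] at key
    exact key

end tower

section vanish
open TensorProduct
variable {R S S' : Type u} [CommRing R] [CommRing S] [CommRing S'] [Algebra R S] [Algebra R S']
  [Algebra S S'] [IsScalarTower R S S']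
variable {M N' : Type u} [AddCommGroup M] [Module S M] [Module R M] [IsScalarTower R S M]
  [AddCommGroup N'] [Module R N'] [Module S N'] [Module S' N'] [IsScalarTower R S N']
  [IsScalarTower R S' N'] [IsScalarTower S S' N']

theorem eq_zero_of_vanish [Algebra.FormallyUnramified S S'] (n : ℕ) :
    ∀ (E : S' ⊗[S] M →ₗ[R] N'), IsDiffOpLE R S' (S' ⊗[S] M) N' n E →
      (∀ m : M, E (1 ⊗ₜ m) = 0) → E = 0 := by
  have base : ∀ (E : S' ⊗[S] M →ₗ[R] N'), IsDiffOpLE R S' (S' ⊗[S] M) N' 0 E →
      (∀ m : M, E (1 ⊗ₜ m) = 0) → E = 0 := by
    intro E hE h0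
    ext x
    induction x using TensorProduct.induction_on with
    | zero => simp
    | tmul a m =>
      have : a ⊗ₜ[S] m = a • ((1 : S') ⊗ₜ[S] m) := by rw [TensorProduct.smul_tmul', smul_eq_mul, mul_one]
      rw [this, hE a _, h0 m, smul_zero]; rfl
    | add x y hx hy => rw [map_add, hx, hy]; simp
  induction n with
  | zero => exact base
  | succ n ih =>
    intro E hE h0
    apply base E _ h0
    apply linear_of_commutator_eq_zero (S := S) (n + 1) E hE
    intro s
    apply ih _ (hE _)
    intro m
    rw [commutator_apply, h0 m, smul_zero, sub_zero]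
    have : algebraMap S S' s • ((1 : S') ⊗ₜ[S] m) = (1 : S') ⊗ₜ[S] (s • m) := by
      rw [TensorProduct.smul_tmul', smul_eq_mul, mul_one, Algebra.algebraMap_eq_smul_one,
        TensorProduct.smul_tmul]
    rw [this, h0]

end vanish

open TensorProduct in
/-- Let R → S → S' be ring maps with S → S' formally étale, M an S-module and (P, D_u) a module of
principal parts of order k of M relative to R → S, i.e. D_u : M → P is a differential operator of
order at most k through which every differential operator of order at most k from M to an S-module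
factors by a unique S-linear map. If D_u' : S' ⊗_S M → S' ⊗_S P is a differential operator of order
at most k relative to R → S' with D_u'(1 ⊗ m) = 1 ⊗ D_u(m), then (S' ⊗_S P, D_u') is a module of
principal parts of order k of S' ⊗_S M relative to R → S'. (The published statement writes this as
an identification of S' ⊗_S P^k_{S/R}(M) with P^k_{S'/R}(M') and forms M' by base change over R
rather than over S; with base change over R the identification fails already for k = 0, R the
rationals, S = S' a polynomial ring in one variable and M = S, and the published proof computes with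
the base change over S, used here. Target modules are taken in one universe.) -/
theorem result (R S S' : Type u) [CommRing R]
    [CommRing S] [CommRing S'] [Algebra R S] [Algebra R S'] [Algebra S S'] [IsScalarTower R S S']
    [Algebra.FormallyEtale S S'] (M : Type u) [AddCommGroup M] [Module S M] [Module R M]
    [IsScalarTower R S M] (k : ℕ) (P : Type u) [AddCommGroup P] [Module S P] [Module R P]
    [IsScalarTower R S P] (Du : M →ₗ[R] P) (hDu : Diff16.IsDiffOpLE R S M P k Du)
    (huniv : ∀ (N : Type u) [AddCommGroup N] [Module S N] [Module R N] [IsScalarTower R S N]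
      (D : M →ₗ[R] N), Diff16.IsDiffOpLE R S M N k D → ∃! α : P →ₗ[S] N, α.restrictScalars R ∘ₗ Du = D)
    (Du' : S' ⊗[S] M →ₗ[R] S' ⊗[S] P) (hDu' : Diff16.IsDiffOpLE R S' (S' ⊗[S] M) (S' ⊗[S] P) k Du')
    (hext : Du' ∘ₗ (TensorProduct.mk S S' M 1).restrictScalars R =
      (TensorProduct.mk S S' P 1).restrictScalars R ∘ₗ Du) :
    ∀ (N' : Type u) [AddCommGroup N'] [Module S' N'] [Module R N'] [IsScalarTower R S' N']
      (D' : S' ⊗[S] M →ₗ[R] N'), Diff16.IsDiffOpLE R S' (S' ⊗[S] M) N' k D' →
        ∃! α : S' ⊗[S] P →ₗ[S'] N', α.restrictScalars R ∘ₗ Du' = D' := by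
  intro N' _ _ _ _ D' hD'
  let _ : Module S N' := Module.compHom N' (algebraMap S S')
  have hSS' : IsScalarTower S S' N' := IsScalarTower.of_algebraMap_smul fun r x => rfl
  have hRS : IsScalarTower R S N' := IsScalarTower.of_algebraMap_smul fun r x => by
    change algebraMap S S' (algebraMap R S r) • x = r • x
    rw [← IsScalarTower.algebraMap_apply R S S', algebraMap_smul]
  have hunr : Algebra.FormallyUnramified S S' := inferInstance
  let ιM : M →ₗ[S] S' ⊗[S] M := TensorProduct.mk S S' M 1
  let D₀ : M →ₗ[R] N' := D' ∘ₗ ιM.restrictScalars R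
  have hD₀ : IsDiffOpLE R S M N' k D₀ := isDiffOpLE_restrict (S' := S') ιM k D' hD'
  obtain ⟨α₀, hα₀, huniq⟩ := huniv N' D₀ hD₀
  let α : S' ⊗[S] P →ₗ[S'] N' := LinearMap.liftBaseChange S' α₀
  have hα : α.restrictScalars R ∘ₗ Du' = D' := by
    rw [← sub_eq_zero]
    apply eq_zero_of_vanish (S := S) k
    · exact isDiffOpLE_sub k _ _ (isDiffOpLE_comp_left α k Du' hDu') hD'
    · intro m
      have h1 : Du' (1 ⊗ₜ m) = 1 ⊗ₜ Du m := by
        have := congrArg (fun l => l m) hext
        simpa using this
      have h2 : α₀ (Du m) = D' (1 ⊗ₜ m) := by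
        have := congrArg (fun l => l m) hα₀
        simpa [D₀, ιM] using this
      simp only [LinearMap.sub_apply, LinearMap.coe_comp, Function.comp_apply,
        LinearMap.coe_restrictScalars]
      rw [h1]
      change LinearMap.liftBaseChange S' α₀ (1 ⊗ₜ Du m) - _ = 0
      rw [LinearMap.liftBaseChange_tmul, one_smul, h2, sub_self]
  refine ⟨α, hα, ?_⟩
  intro α' hα'
  let β : P →ₗ[S] N' := (α'.restrictScalars S) ∘ₗ (TensorProduct.mk S S' P 1)
  have hβ : β.restrictScalars R ∘ₗ Du = D₀ := by
    ext m
    have h1 : Du' (1 ⊗ₜ m) = 1 ⊗ₜ Du m := by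
      have := congrArg (fun l => l m) hext
      simpa using this
    have h3 := congrArg (fun l => l (1 ⊗ₜ m)) hα'
    simp only [LinearMap.coe_comp, Function.comp_apply, LinearMap.coe_restrictScalars] at h3
    simp only [LinearMap.coe_comp, Function.comp_apply, LinearMap.coe_restrictScalars, β, D₀, ιM,
      TensorProduct.mk_apply]
    rw [← h1, h3]
  have hβα : β = α₀ := huniq β hβ
  apply TensorProduct.AlgebraTensorModule.ext
  intro a p
  have h4 : a ⊗ₜ[S] p = a • ((1 : S') ⊗ₜ[S] p) := by
    rw [TensorProduct.smul_tmul', smul_eq_mul, mul_one]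
  change α' (a ⊗ₜ p) = LinearMap.liftBaseChange S' α₀ (a ⊗ₜ p)
  rw [LinearMap.liftBaseChange_tmul, h4, map_smul, ← hβα]
  rfl

end Groth.Agent.S9472
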