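import Groth.Statements.S3806
-- import your own Groth.Agent.* helpers here

set_option autoImplicit false
universe u
open scoped TensorProduct
attribute [local instance] PP16.mapAlgebra PP16.isScalarTower_mapAlgebra
open PP16

namespace Groth.Agent.S3806

section

set_option maxSynthPendingDepth 3
variable (n : ℕ) (A B A' B' : Type u) [CommRing A] [CommRing B] [Algebra A B]
    [CommRing A'] [CommRing B'] [Algebra A' B'] [Algebra A A'] [Algebra B B'] [Algebra A B']
    [IsScalarTower A A' B'] [IsScalarTower A B B']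


variable [Algebra.IsPushout A B A' B']

noncomputable def g₀ : B' →ₐ[A] B' ⊗[B] PP16.P n A B :=
  Algebra.pushoutDesc (R := A) (S := B) (R' := A') (A := B' ⊗[B] P n A B) B'
    (((Algebra.TensorProduct.includeRight : P n A B →ₐ[B] B' ⊗[B] P n A B).restrictScalars A).comp
      (dn n A B))
    ((Algebra.ofId A' (B' ⊗[B] P n A B)).restrictScalars A)
    (fun _ _ => mul_comm (G := B' ⊗[B] P n A B) _ _)

theorem g₀_algebraMap_B (b : B) :
    g₀ n A B A' B' (algebraMap B B' b) = (1 : B') ⊗ₜ[B] dn n A B b := by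
  simp [g₀]

theorem g₀_algebraMap_A' (a : A') :
    g₀ n A B A' B' (algebraMap A' B' a) = algebraMap A' (B' ⊗[B] P n A B) a := by
  simp [g₀]


/-- the "right" map as an `A'`-algebra map. -/
noncomputable def g₁ : B' →ₐ[A'] B' ⊗[B] PP16.P n A B :=
  { (g₀ n A B A' B').toRingHom with
    commutes' := fun a => g₀_algebraMap_A' n A B A' B' a }

theorem g₁_apply (c : B') : g₁ n A B A' B' c = g₀ n A B A' B' c := rfl

noncomputable def ψ₀ : B' ⊗[A'] B' →ₐ[B'] B' ⊗[B] PP16.P n A B :=
  Algebra.TensorProduct.lift (Algebra.ofId B' (B' ⊗[B] P n A B)) (g₁ n A B A' B')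
    (fun _ _ => Commute.all (S := B' ⊗[B] P n A B) _ _)

theorem ψ₀_tmul (b c : B') :
    ψ₀ n A B A' B' (b ⊗ₜ[A'] c) = b • g₀ n A B A' B' c := by
  rw [ψ₀, Algebra.TensorProduct.lift_tmul, g₁_apply, Algebra.ofId_apply]
  exact (Algebra.smul_def _ _).symm

/-- the nilpotent ideal of `B' ⊗[B] P`. -/
noncomputable def K : Ideal (B' ⊗[B] PP16.P n A B) :=
  (augIdeal n A B).map (Algebra.TensorProduct.includeRight : P n A B →ₐ[B] B' ⊗[B] P n A B)

theorem augIdeal_pow : augIdeal n A B ^ (n + 1) = ⊥ := by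
  rw [augIdeal, ← Ideal.map_pow, Ideal.map_quotient_self]

theorem K_pow : K n A B B' ^ (n + 1) = ⊥ := by
  have h := Ideal.map_pow
    (Algebra.TensorProduct.includeRight : P n A B →ₐ[B] B' ⊗[B] P n A B) (augIdeal n A B) (n + 1)
  rw [augIdeal_pow, Ideal.map_bot] at h
  exact h.symm


theorem sub_mem_aug (b : B) :
    PP16.dn n A B b - algebraMap B (PP16.P n A B) b ∈ augIdeal n A B := by
  change Ideal.Quotient.mk _ ((1 : B) ⊗ₜ[A] b) - Ideal.Quotient.mk _ (b ⊗ₜ[A] (1 : B)) ∈ _
  rw [← map_sub]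
  exact Ideal.mem_map_of_mem _ (KaehlerDifferential.one_smul_sub_smul_one_mem_ideal A b)

theorem algebraMap_B'_eq (b : B) :
    algebraMap B' (B' ⊗[B] P n A B) (algebraMap B B' b) =
      (1 : B') ⊗ₜ[B] algebraMap B (P n A B) b := by
  rw [Algebra.TensorProduct.algebraMap_apply, Algebra.algebraMap_self_apply,
    Algebra.algebraMap_eq_smul_one, TensorProduct.smul_tmul, ← Algebra.algebraMap_eq_smul_one]

instance K_twoSided : (K n A B B').IsTwoSided :=
  @Ideal.instIsTwoSided_1 (B' ⊗[B] P n A B) _ (K n A B B')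

theorem g₀_sub_mem (c : B') :
    g₀ n A B A' B' c - algebraMap B' (B' ⊗[B] P n A B) c ∈ K n A B B' := by
  have h : ((Ideal.Quotient.mkₐ A (K n A B B')).comp (g₀ n A B A' B')) =
      (Ideal.Quotient.mkₐ A (K n A B B')).comp
        ((Algebra.ofId B' (B' ⊗[B] P n A B)).restrictScalars A) := by
    apply Algebra.IsPushout.algHom_ext (R := A) (S := B) (R' := A') (S' := B')
    · ext a
      simp only [AlgHom.comp_apply, IsScalarTower.coe_toAlgHom', g₀_algebraMap_A',
        AlgHom.restrictScalars_apply, Algebra.ofId_apply]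
      rw [← IsScalarTower.algebraMap_apply]
    · ext b
      simp only [AlgHom.comp_apply, IsScalarTower.coe_toAlgHom', g₀_algebraMap_B,
        AlgHom.restrictScalars_apply, Algebra.ofId_apply, algebraMap_B'_eq,
        Ideal.Quotient.mkₐ_eq_mk]
      rw [Ideal.Quotient.eq, ← TensorProduct.tmul_sub]
      exact Ideal.mem_map_of_mem _ (sub_mem_aug n A B b)
  have h2 := AlgHom.congr_fun h c
  simp only [AlgHom.comp_apply, AlgHom.restrictScalars_apply, Algebra.ofId_apply,
    Ideal.Quotient.mkₐ_eq_mk] at h2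
  rwa [Ideal.Quotient.eq] at h2


theorem map_ideal_le :
    (KaehlerDifferential.ideal A' B').map (ψ₀ n A B A' B') ≤ K n A B B' := by
  have h : KaehlerDifferential.ideal A' B' =
      Ideal.span (Set.range fun s : B' => (1 : B') ⊗ₜ[A'] s - s ⊗ₜ[A'] (1 : B')) :=
    (KaehlerDifferential.span_range_eq_ideal A' B').symm
  rw [h, Ideal.map_span, Ideal.span_le]
  rintro _ ⟨_, ⟨c, rfl⟩, rfl⟩
  rw [map_sub, ψ₀_tmul, ψ₀_tmul, one_smul, map_one, Algebra.smul_def, mul_one]
  exact g₀_sub_mem n A B A' B' c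

theorem ψ₀_eq_zero (x : B' ⊗[A'] B') (hx : x ∈ KaehlerDifferential.ideal A' B' ^ (n + 1)) :
    ψ₀ n A B A' B' x = 0 := by
  have h1 : (KaehlerDifferential.ideal A' B' ^ (n + 1)).map (ψ₀ n A B A' B') ≤
      K n A B B' ^ (n + 1) := by
    rw [Ideal.map_pow]
    exact Ideal.pow_right_mono (map_ideal_le n A B A' B') _
  rw [K_pow] at h1
  exact (Ideal.mem_bot).mp (h1 (Ideal.mem_map_of_mem _ hx))

noncomputable def ψ : P n A' B' →ₐ[B'] B' ⊗[B] PP16.P n A B :=
  Ideal.Quotient.liftₐ (KaehlerDifferential.ideal A' B' ^ (n + 1)) (ψ₀ n A B A' B')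
    (ψ₀_eq_zero n A B A' B')

theorem ψ_mk (x : B' ⊗[A'] B') :
    ψ n A B A' B' (Ideal.Quotient.mk _ x) = ψ₀ n A B A' B' x := rfl

noncomputable def φ : B' ⊗[B] PP16.P n A B →ₐ[B'] P n A' B' :=
  Algebra.TensorProduct.lift (Algebra.ofId B' (P n A' B'))
    (IsScalarTower.toAlgHom B (P n A B) (P n A' B'))
    (fun _ _ => Commute.all (S := P n A' B') _ _)

theorem φ_tmul (b : B') (p : P n A B) :
    φ n A B A' B' (b ⊗ₜ[B] p) = algebraMap B' (P n A' B') b * PP16.map n A B A' B' p := by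
  rw [φ, Algebra.TensorProduct.lift_tmul]
  rfl


theorem φ_g₀ (c : B') : φ n A B A' B' (g₀ n A B A' B' c) = dn n A' B' c := by
  have h : ((φ n A B A' B').restrictScalars A).comp (g₀ n A B A' B') =
      (dn n A' B').restrictScalars A := by
    apply Algebra.IsPushout.algHom_ext (R := A) (S := B) (R' := A') (S' := B')
    · ext a
      simp only [AlgHom.comp_apply, IsScalarTower.coe_toAlgHom', g₀_algebraMap_A',
        AlgHom.restrictScalars_apply, AlgHom.commutes]
      rw [Algebra.TensorProduct.algebraMap_apply, φ_tmul, map_one, mul_one,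
        ← IsScalarTower.algebraMap_apply]
    · ext b
      simp only [AlgHom.comp_apply, IsScalarTower.coe_toAlgHom', g₀_algebraMap_B,
        AlgHom.restrictScalars_apply]
      rw [φ_tmul, map_one, one_mul, map_dn]
  exact AlgHom.congr_fun h c

theorem φ_comp_ψ : (φ n A B A' B').comp (ψ n A B A' B') = AlgHom.id B' (P n A' B') := by
  apply Ideal.Quotient.algHom_ext
  apply Algebra.TensorProduct.ext'
  intro b c
  simp only [AlgHom.comp_apply, Ideal.Quotient.mkₐ_eq_mk, ψ_mk, ψ₀_tmul, map_smul, φ_g₀,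
    AlgHom.id_apply]
  change b • Ideal.Quotient.mk _ ((1 : B') ⊗ₜ[A'] c) = Ideal.Quotient.mk _ (b ⊗ₜ[A'] c)
  have h : b ⊗ₜ[A'] c = b • ((1 : B') ⊗ₜ[A'] c) := by
    rw [TensorProduct.smul_tmul', smul_eq_mul, mul_one]
  rw [h]
  rfl

theorem ψ_map (p : P n A B) :
    ψ n A B A' B' (PP16.map n A B A' B' p) = (1 : B') ⊗ₜ[B] p := by
  obtain ⟨w, rfl⟩ := Ideal.Quotient.mk_surjective p
  induction w using TensorProduct.induction_on with
  | zero => simp
  | tmul b c =>
    rw [map_mk, tensorMap_tmul, ψ_mk, ψ₀_tmul, g₀_algebraMap_B, Algebra.smul_def,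
      algebraMap_B'_eq, Algebra.TensorProduct.tmul_mul_tmul, one_mul]
    congr 1
    change Ideal.Quotient.mk _ (b ⊗ₜ[A] (1 : B)) * Ideal.Quotient.mk _ ((1 : B) ⊗ₜ[A] c) =
      Ideal.Quotient.mk _ (b ⊗ₜ[A] c)
    rw [← map_mul, Algebra.TensorProduct.tmul_mul_tmul, mul_one, one_mul]
  | add w₁ w₂ h₁ h₂ =>
    rw [map_add, map_add, map_add, h₁, h₂, TensorProduct.tmul_add]

theorem ψ_comp_φ : (ψ n A B A' B').comp (φ n A B A' B') = AlgHom.id B' (B' ⊗[B] P n A B) := by
  apply Algebra.TensorProduct.ext'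
  intro b p
  simp only [AlgHom.comp_apply, AlgHom.id_apply, φ_tmul, map_mul, AlgHom.commutes, ψ_map]
  rw [Algebra.TensorProduct.algebraMap_apply, Algebra.algebraMap_self_apply,
    Algebra.TensorProduct.tmul_mul_tmul, mul_one, one_mul]

noncomputable def e : (B' ⊗[B] P n A B) ≃ₐ[B'] P n A' B' :=
  AlgEquiv.ofAlgHom (φ n A B A' B') (ψ n A B A' B') (φ_comp_ψ n A B A' B') (ψ_comp_φ n A B A' B')

theorem main : Algebra.IsPushout B (PP16.P n A B) B' (PP16.P n A' B') := by
  apply Algebra.IsPushout.symm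
  constructor
  refine IsBaseChange.of_equiv (e n A B A' B').toLinearEquiv ?_
  intro p
  change φ n A B A' B' ((1 : B') ⊗ₜ[B] p) = _
  rw [φ_tmul, map_one, one_mul]
  rfl

end

/-- Let A → A' be a ring map, B an A-algebra and B' = B ⊗_A A'. Then the canonical map P^n_{B/A} ⊗_B B'
→ P^n_{B'/A'} induced by functoriality of principal parts is an isomorphism; that is, the square B →
P^n_{B/A}, B → B', with P^n_{B'/A'} in the corner, is a pushout of rings. -/
theorem result (n : ℕ) (A B A' B' : Type u) [CommRing A] [CommRing B] [Algebra A B]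
    [CommRing A'] [CommRing B'] [Algebra A' B'] [Algebra A A'] [Algebra B B'] [Algebra A B']
    [IsScalarTower A A' B'] [IsScalarTower A B B'] [Algebra.IsPushout A B A' B'] :
    Algebra.IsPushout B (PP16.P n A B) B' (PP16.P n A' B') := by
  exact main n A B A' B'

end Groth.Agent.S3806
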