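import Groth.Statements.S14347
import Groth.Agent.Lib.Helper75.Fitting6
import Mathlib.LinearAlgebra.Dual.Defs
import Mathlib.LinearAlgebra.StdBasis
import Mathlib.LinearAlgebra.InvariantBasisNumber

set_option autoImplicit false
universe u
open QuotLF

namespace Groth.Agent.S14347

section helpers
open Groth.Agent.Lib.Helper75.Fitting

variable {R : Type u} [CommRing R] {m n : ℕ} (σ : (Fin m → R) →ₗ[R] (Fin n → R))

/-- matrix of `σ` -/
def A (i : Fin n) (p : Fin m) : R := σ (Pi.single p 1) i

/-- generators of the cokernel -/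
def x (i : Fin n) : (Fin n → R) ⧸ LinearMap.range σ := (LinearMap.range σ).mkQ (Pi.single i 1)

/-- generators of the cokernel of the dual -/
def y (p : Fin m) : Module.Dual R (Fin m → R) ⧸ LinearMap.range σ.dualMap :=
  (LinearMap.range σ.dualMap).mkQ (LinearMap.proj p)

theorem sum_smul_x (r : Fin n → R) : ∑ i, r i • x σ i = (LinearMap.range σ).mkQ r := by
  unfold x
  simp_rw [← map_smul, ← map_sum]
  congr 1
  funext j
  simp [Finset.sum_apply, Pi.single_apply]

theorem span_x : Submodule.span R (Set.range (x σ)) = ⊤ := by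
  rw [eq_top_iff]
  rintro v -
  obtain ⟨r, rfl⟩ := (LinearMap.range σ).mkQ_surjective v
  rw [← sum_smul_x]
  exact Submodule.sum_mem _ (fun i _ => Submodule.smul_mem _ _ (Submodule.subset_span ⟨i, rfl⟩))

theorem sigma_eq_sum (c : Fin m → R) : σ c = ∑ p, c p • (fun i => A σ i p) := by
  have hc : c = ∑ p, c p • (Pi.single p 1 : Fin m → R) := by
    funext j
    simp [Finset.sum_apply, Pi.single_apply]
  conv_lhs => rw [hc]
  rw [map_sum]
  apply Finset.sum_congr rfl
  intro p _
  rw [map_smul]
  rfl

theorem rel_x : Submodule.span R (Set.range (fun p : Fin m => (fun i => A σ i p))) =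
    relSubmodule R (x σ) := by
  apply le_antisymm
  · apply Submodule.span_le.mpr
    rintro _ ⟨p, rfl⟩
    change IsRel (x σ) _
    unfold IsRel
    rw [sum_smul_x, Submodule.mkQ_apply, Submodule.Quotient.mk_eq_zero]
    exact ⟨Pi.single p 1, rfl⟩
  · intro r hr
    change IsRel (x σ) r at hr
    unfold IsRel at hr
    rw [sum_smul_x, Submodule.mkQ_apply, Submodule.Quotient.mk_eq_zero] at hr
    obtain ⟨c, rfl⟩ := hr
    rw [sigma_eq_sum]
    exact Submodule.sum_mem _ (fun p _ => Submodule.smul_mem _ _ (Submodule.subset_span ⟨p, rfl⟩))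

theorem sum_smul_y (r : Fin m → R) :
    ∑ p, r p • y σ p = (LinearMap.range σ.dualMap).mkQ (∑ p, r p • LinearMap.proj p) := by
  unfold y
  simp_rw [← map_smul, ← map_sum]

theorem sum_proj_apply_single {k : ℕ} (r : Fin k → R) (q : Fin k) :
    (∑ p, r p • (LinearMap.proj p : (Fin k → R) →ₗ[R] R)) (Pi.single q 1) = r q := by
  simp [LinearMap.sum_apply, Pi.single_apply]

theorem dual_eq_sum {k : ℕ} (φ : Module.Dual R (Fin k → R)) :
    φ = ∑ p, φ (Pi.single p 1) • (LinearMap.proj p : (Fin k → R) →ₗ[R] R) := by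
  apply LinearMap.pi_ext
  intro q c
  have h1 : (Pi.single q c : Fin k → R) = c • Pi.single q 1 := by
    funext j
    simp [Pi.single_apply]
  rw [h1, map_smul, map_smul, sum_proj_apply_single]

theorem span_y : Submodule.span R (Set.range (y σ)) = ⊤ := by
  rw [eq_top_iff]
  rintro v -
  obtain ⟨ψ, rfl⟩ := (LinearMap.range σ.dualMap).mkQ_surjective v
  rw [dual_eq_sum ψ, ← sum_smul_y]
  exact Submodule.sum_mem _ (fun i _ => Submodule.smul_mem _ _ (Submodule.subset_span ⟨i, rfl⟩))

theorem dualMap_proj (i : Fin n) :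
    σ.dualMap (LinearMap.proj i) = ∑ p, A σ i p • (LinearMap.proj p : (Fin m → R) →ₗ[R] R) := by
  rw [dual_eq_sum (σ.dualMap (LinearMap.proj i))]
  rfl

theorem rel_y : Submodule.span R (Set.range (fun i : Fin n => (fun p => A σ i p))) =
    relSubmodule R (y σ) := by
  apply le_antisymm
  · apply Submodule.span_le.mpr
    rintro _ ⟨i, rfl⟩
    change IsRel (y σ) _
    unfold IsRel
    rw [sum_smul_y, Submodule.mkQ_apply, Submodule.Quotient.mk_eq_zero]
    exact ⟨LinearMap.proj i, dualMap_proj σ i⟩
  · intro r hr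
    change IsRel (y σ) r at hr
    unfold IsRel at hr
    rw [sum_smul_y, Submodule.mkQ_apply, Submodule.Quotient.mk_eq_zero] at hr
    obtain ⟨φ, hφ⟩ := hr
    have hr' : r = ∑ i, φ (Pi.single i 1) • (fun p => A σ i p) := by
      funext q
      rw [← sum_proj_apply_single r q, ← hφ]
      conv_lhs => rw [dual_eq_sum φ]
      simp only [map_sum, map_smul, dualMap_proj, LinearMap.sum_apply, LinearMap.smul_apply,
        Finset.sum_apply, Pi.smul_apply]
      apply Finset.sum_congr rfl
      intro i _
      congr 1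
      simp [Pi.single_apply]
    rw [hr']
    exact Submodule.sum_mem _ (fun p _ => Submodule.smul_mem _ _ (Submodule.subset_span ⟨p, rfl⟩))


theorem minors_symm (s : ℕ) :
    minorsIdeal (fun p : Fin m => (fun i => A σ i p)) s =
      minorsIdeal (fun i : Fin n => (fun p => A σ i p)) s := by
  apply le_antisymm
  · apply Ideal.span_le.mpr
    rintro d ⟨f, e, rfl⟩
    apply Ideal.subset_span
    refine ⟨e, f, ?_⟩
    rw [← Matrix.det_transpose]
    rfl
  · apply Ideal.span_le.mpr
    rintro d ⟨f, e, rfl⟩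
    apply Ideal.subset_span
    refine ⟨e, f, ?_⟩
    rw [← Matrix.det_transpose]
    rfl

theorem minors_eq_bot (s : ℕ) (hs : m < s) :
    minorsIdeal (fun p : Fin m => (fun i => A σ i p)) s = ⊥ := by
  rw [eq_bot_iff]
  apply Ideal.span_le.mpr
  rintro d ⟨f, e, rfl⟩
  obtain ⟨b₁, b₂, hne, hf⟩ := Fintype.exists_ne_map_eq_of_card_lt f (by simpa using hs)
  have : (Matrix.of fun a b => (fun i => A σ i (f b)) (e a)).det = 0 := by
    apply Matrix.det_zero_of_column_eq hne
    intro k
    simp [hf]
  rw [this]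
  exact Ideal.zero_mem _

theorem fitt_M (k : ℕ) : Fitt.ideal R ((Fin n → R) ⧸ LinearMap.range σ) k =
    minorsIdeal (fun p : Fin m => (fun i => A σ i p)) (n - k) := by
  rw [fitt_eq_J (x σ) (span_x σ) k, J_eq_minorsIdeal (x σ) _ (rel_x σ)]

theorem fitt_K (k : ℕ) : Fitt.ideal R (Module.Dual R (Fin m → R) ⧸ LinearMap.range σ.dualMap) k =
    minorsIdeal (fun i : Fin n => (fun p => A σ i p)) (m - k) := by
  rw [fitt_eq_J (y σ) (span_y σ) k, J_eq_minorsIdeal (y σ) _ (rel_y σ)]

end helpers

/-- Let R be a commutative ring and σ : R^m → R^n an injective linear map with cokernel M, so that M has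
a length-one resolution by finite free modules and rank δ = n − m; let K be the cokernel of the dual
map (R^n)^∨ → (R^m)^∨, which is the module Ext¹_R(M, R). Then the Fitting ideals satisfy Fit_{δ +
j}(M) = Fit_j(K) for all j ≥ 0, and Fit_i(M) = 0 for i < δ (the degeneracy loci of M and of K agree
after the shift by δ). -/
theorem result (R : Type u) [CommRing R] (m n : ℕ)
    (σ : (Fin m → R) →ₗ[R] (Fin n → R)) (hσ : Function.Injective σ) :
    (∀ j : ℕ, Fitt.ideal R ((Fin n → R) ⧸ LinearMap.range σ) (n - m + j) =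
        Fitt.ideal R (Module.Dual R (Fin m → R) ⧸ LinearMap.range σ.dualMap) j) ∧
      ∀ i : ℕ, i < n - m → Fitt.ideal R ((Fin n → R) ⧸ LinearMap.range σ) i = ⊥ := by
  constructor
  · intro j
    rcases subsingleton_or_nontrivial R with hR | hR
    · apply Ideal.ext
      intro a
      rw [Subsingleton.elim a 0]
      simp
    · have hmn : m ≤ n := le_of_fin_injective R σ hσ
      rw [fitt_M, fitt_K, minors_symm]
      congr 1
      omega
  · intro i hi
    rw [fitt_M]
    apply minors_eq_bot
    omega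

end Groth.Agent.S14347
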