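import Groth.Statements.S13863
import Groth.Agent.Lib.Helper16.ASCov

set_option autoImplicit false
universe u
open ASCover


namespace Groth.Agent.S13863

/-- If `d ∣ x - 1` for a unit `x` then `d ∣ x ^ e - 1` for every integer `e`. -/
theorem dvd_zpow_sub_one {R : Type*} [CommRing R] (x : Rˣ) (d : R) (h : d ∣ (x : R) - 1)
    (e : ℤ) : d ∣ ((x ^ e : Rˣ) : R) - 1 := by
  have hnat : ∀ j : ℕ, d ∣ ((x ^ j : Rˣ) : R) - 1 := by
    intro j
    rw [Units.val_pow_eq_pow_val]
    have := geom_sum_mul (x : R) j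
    rw [← this]
    exact Dvd.dvd.mul_left h _
  rcases Int.eq_nat_or_neg e with ⟨j, rfl | rfl⟩
  · rw [zpow_natCast]; exact hnat j
  · have h1 : ((x ^ (-(j : ℤ)) : Rˣ) : R) - 1 =
        -(((x ^ (-(j : ℤ)) : Rˣ) : R) * (((x ^ j : Rˣ) : R) - 1)) := by
      have h3 : ((x ^ (-(j : ℤ)) : Rˣ) : R) * ((x ^ j : Rˣ) : R) = 1 := by
        rw [← Units.val_mul, ← zpow_natCast, ← zpow_add]; simp
      linear_combination h3
    rw [h1]
    exact (Dvd.dvd.mul_left (hnat j) _).neg_right

end Groth.Agent.S13863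

namespace Groth.Agent.S13863

/-- For k an algebraically closed field of characteristic p > 0, n ≥ 1 an integer prime to p, and u ∈
k[[t]] the power series with constant term 1 and u^n · (1 + t^n) = 1, the substitution σ(t) = t·u is
a k-automorphism of k((t)) of order p and, for an integer a, σ acts on the fractional ideal I =
t^a·k[[t]]; transported to B = k[[t]] along h ↦ t^a·h this action is h ↦ u^a · h(t·u). For an
integer i with a − n ≤ i ≤ a − 1 the element σ(t^i) − t^i lies in I, so t^i defines a class in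
H^1(⟨σ⟩, I); the classes with p ∤ i form a basis of this H^1, and when p divides i the class
vanishes, i.e. σ(t^i) − t^i = σ(w) − w for some w ∈ I. (The published statement of this vanishing is
printed with the condition p ∤ i, which contradicts the basis assertion of the same lemma; its proof
treats p | i, and this row states that case.) In transported form, with m = a − i ∈ [1, n] and c ∈
k[[t]] defined by t^m · c = u^i − 1: there is h ∈ k[[t]] with u^a · h(t·u) − h = c. -/
theorem result {k : Type u} [Field k] [IsAlgClosed k] (p : ℕ)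
    [Fact p.Prime] [CharP k p] (n : ℕ) (hn : 0 < n) (hpn : ¬ p ∣ n)
    (u : PowerSeries k) (hu1 : PowerSeries.constantCoeff u = 1)
    (hun : u ^ n * (1 + PowerSeries.X ^ n) = 1) (hu : IsUnit u) (a : ℤ) (m : ℕ)
    (hm1 : 1 ≤ m) (hmn : m ≤ n) (hdvd : (p : ℤ) ∣ a - m) (c : PowerSeries k)
    (hc : PowerSeries.X ^ m * c = ((hu.unit ^ (a - m) : (PowerSeries k)ˣ) : PowerSeries k) - 1) :
    ∃ h : PowerSeries k,
      ((hu.unit ^ a : (PowerSeries k)ˣ) : PowerSeries k) * PowerSeries.subst (PowerSeries.X * u) h - h = c := by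
  open Groth.Agent.Lib.Helper16.ASCov Groth.Agent.S15813 PowerSeries in
  have hn0 : (n : k) ≠ 0 := by
    intro h0
    exact hpn ((CharP.cast_eq_zero_iff k p n).mp h0)
  obtain ⟨V, hVu, hVd, hVσ⟩ := exists_V p hu1 n hn0 hun
  obtain ⟨i', hi'⟩ := hdvd
  set Vu := hVu.unit with hVudef
  set uu := hu.unit with huudef
  have hVm : X ^ m ∣ ((Vu : (PowerSeries k)ˣ) : PowerSeries k) - 1 := by
    rw [hVudef, IsUnit.unit_spec]
    exact (pow_dvd_pow X hmn).trans hVd
  have hD := dvd_zpow_sub_one Vu (X ^ m) hVm i'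
  obtain ⟨h0, hh0⟩ := hD
  -- take h = -h0
  refine ⟨-h0, ?_⟩
  rw [← sig_apply]
  -- σ on V
  have hσV : sig u V = V * ((uu ^ (-(p : ℤ)) : (PowerSeries k)ˣ) : PowerSeries k) := by
    have h1 : ((uu ^ (-(p : ℤ)) : (PowerSeries k)ˣ) : PowerSeries k) * u ^ p = 1 := by
      rw [val_zpow_mul_pow]; simp
    calc sig u V = (((uu ^ (-(p : ℤ)) : (PowerSeries k)ˣ) : PowerSeries k) * u ^ p) * sig u V := by
          rw [h1, one_mul]
      _ = ((uu ^ (-(p : ℤ)) : (PowerSeries k)ˣ) : PowerSeries k) * (u ^ p * sig u V) := by ring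
      _ = _ := by rw [hVσ]; ring
  have hmapV : Units.map (sig u : PowerSeries k →* PowerSeries k) Vu = Vu * uu ^ (-(p : ℤ)) := by
    apply Units.ext
    rw [Units.coe_map, Units.val_mul]
    show sig u (Vu : PowerSeries k) = _
    rw [hVudef, IsUnit.unit_spec]
    exact hσV
  have hσD : sig u ((Vu ^ i' : (PowerSeries k)ˣ) : PowerSeries k) =
      ((Vu ^ i' : (PowerSeries k)ˣ) : PowerSeries k) *
        ((uu ^ (-(a - m)) : (PowerSeries k)ˣ) : PowerSeries k) := by
    have h1 : sig u ((Vu ^ i' : (PowerSeries k)ˣ) : PowerSeries k) =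
        ((Units.map (sig u : PowerSeries k →* PowerSeries k) (Vu ^ i') : (PowerSeries k)ˣ) :
          PowerSeries k) := by
      rw [Units.coe_map]; rfl
    rw [h1, map_zpow, hmapV, mul_zpow, ← zpow_mul, Units.val_mul]
    congr 3
    rw [hi']; ring
  -- apply σ to X^m * h0 = D - 1
  have h2 : X ^ m * (u ^ m * sig u h0) =
      ((Vu ^ i' : (PowerSeries k)ˣ) : PowerSeries k) *
        ((uu ^ (-(a - m)) : (PowerSeries k)ˣ) : PowerSeries k) - 1 := by
    have := congrArg (sig u) hh0
    rw [map_sub, map_one, hσD, sig_X_pow_mul] at this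
    exact this.symm
  have h3 : ((uu ^ (a - m) : (PowerSeries k)ˣ) : PowerSeries k) *
      ((uu ^ (-(a - m)) : (PowerSeries k)ˣ) : PowerSeries k) = 1 := by
    rw [← Units.val_mul, ← zpow_add]; simp
  have h4 : ((uu ^ (a - m) : (PowerSeries k)ˣ) : PowerSeries k) * u ^ m =
      ((uu ^ a : (PowerSeries k)ˣ) : PowerSeries k) := by
    rw [val_zpow_mul_pow]
    congr 2
    ring
  apply mul_left_cancel₀ (pow_ne_zero m (X_ne_zero (R := k)))
  rw [hc, map_neg]
  have h5 : X ^ m * (((uu ^ a : (PowerSeries k)ˣ) : PowerSeries k) * sig u h0) =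
      ((Vu ^ i' : (PowerSeries k)ˣ) : PowerSeries k) -
        ((uu ^ (a - m) : (PowerSeries k)ˣ) : PowerSeries k) := by
    rw [← h4]
    calc X ^ m * (((uu ^ (a - m) : (PowerSeries k)ˣ) : PowerSeries k) * u ^ m * sig u h0)
        = ((uu ^ (a - m) : (PowerSeries k)ˣ) : PowerSeries k) * (X ^ m * (u ^ m * sig u h0)) := by
          ring
      _ = _ := by
          rw [h2]
          linear_combination ((Vu ^ i' : (PowerSeries k)ˣ) : PowerSeries k) * h3
  linear_combination (-1 : PowerSeries k) * h5 - hh0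

end Groth.Agent.S13863
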