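import Groth.Statements.S13864
import Groth.Agent.Lib.Helper16.ASCov

set_option autoImplicit false
universe u
open ASCover

namespace Groth.Agent.S13864

/-- Let k be an algebraically closed field of characteristic p > 0, n ≥ 1 an integer prime to p, u ∈
k[[t]] the power series with constant term 1 and u^n · (1 + t^n) = 1 (so σ(t) = t·u is a
k-automorphism of k((t)) of order p), and a an integer; σ acts on I = t^a·k[[t]], and transported to
B = k[[t]] along h ↦ t^a·h the action is h ↦ u^a · h(t·u). For 1 ≤ m ≤ n let c_m ∈ B be determined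
by t^m · c_m = u^(a−m) − 1; this is the cocycle value σ(t^i) − t^i ∈ I of the element t^i, i = a −
m, divided by t^a. The published lemma says that the classes of the t^i with a − n ≤ i ≤ a − 1 and p
∤ i form a basis of H^1(⟨σ⟩, I); this row states their linear independence: if Σ λ_m c_m, summed
over 1 ≤ m ≤ n with p ∤ a − m, equals u^a · h(t·u) − h for some h ∈ B, then every such λ_m is 0.
(Together with the dimension of this H^1, namely n − ⌊(a−1)/p⌋ + ⌊(a−1−n)/p⌋, this gives the basis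
statement.) -/
theorem result {k : Type u} [Field k] [IsAlgClosed k] (p : ℕ)
    [Fact p.Prime] [CharP k p] (n : ℕ) (hn : 0 < n) (hpn : ¬ p ∣ n)
    (u : PowerSeries k) (hu1 : PowerSeries.constantCoeff u = 1)
    (hun : u ^ n * (1 + PowerSeries.X ^ n) = 1) (hu : IsUnit u) (a : ℤ)
    (c : ℕ → PowerSeries k)
    (hc : ∀ m : ℕ, 1 ≤ m → m ≤ n →
      PowerSeries.X ^ m * c m = ((hu.unit ^ (a - m) : (PowerSeries k)ˣ) : PowerSeries k) - 1)
    (coef : ℕ → k) (h : PowerSeries k)
    (hh : ((hu.unit ^ a : (PowerSeries k)ˣ) : PowerSeries k) * PowerSeries.subst (PowerSeries.X * u) h - h =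
      ∑ m ∈ (Finset.Icc 1 n).filter (fun m : ℕ => ¬ (p : ℤ) ∣ a - (m : ℤ)), coef m • c m) :
    ∀ m ∈ (Finset.Icc 1 n).filter (fun m : ℕ => ¬ (p : ℤ) ∣ a - (m : ℤ)), coef m = 0 := by
  classical
  open Groth.Agent.Lib.Helper16.ASCov Groth.Agent.S15813 PowerSeries in
  by_contra hcon
  push Not at hcon
  have hn0 : (n : k) ≠ 0 := by
    intro h0
    exact hpn ((CharP.cast_eq_zero_iff k p n).mp h0)
  set S := (Finset.Icc 1 n).filter (fun m : ℕ => ¬ (p : ℤ) ∣ a - (m : ℤ)) with hS
  set S' := S.filter (fun m => coef m ≠ 0) with hS'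
  have hS'ne : S'.Nonempty := by
    obtain ⟨m, hm, hm0⟩ := hcon
    exact ⟨m, Finset.mem_filter.mpr ⟨hm, hm0⟩⟩
  set m₀ := S'.max' hS'ne with hm₀
  have hm₀mem : m₀ ∈ S' := Finset.max'_mem _ _
  have hm₀S : m₀ ∈ S := (Finset.mem_filter.mp hm₀mem).1
  have hm₀c : coef m₀ ≠ 0 := (Finset.mem_filter.mp hm₀mem).2
  have hm₀I : 1 ≤ m₀ ∧ m₀ ≤ n := Finset.mem_Icc.mp (Finset.mem_filter.mp hm₀S).1
  have hm₀p : ¬ (p : ℤ) ∣ a - (m₀ : ℤ) := (Finset.mem_filter.mp hm₀S).2
  have hmax : ∀ m ∈ S, coef m ≠ 0 → m ≤ m₀ := fun m hm hc0 =>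
    Finset.le_max' _ _ (Finset.mem_filter.mpr ⟨hm, hc0⟩)
  -- the invariant element
  set F : PowerSeries k := ∑ m ∈ S, coef m • X ^ (n - m) - X ^ n * h with hF
  set b : ℤ := a - n with hb
  -- invariance
  have hT1 : ∀ m ∈ S, ((hu.unit ^ b : (PowerSeries k)ˣ) : PowerSeries k) * sig u (X ^ (n - m))
      - X ^ (n - m) = X ^ n * c m := by
    intro m hm
    have hmI : 1 ≤ m ∧ m ≤ n := Finset.mem_Icc.mp (Finset.mem_filter.mp hm).1
    have h1 : sig u (X ^ (n - m)) = X ^ (n - m) * u ^ (n - m) := by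
      rw [map_pow, sig_X, mul_pow]
    have h2 : ((hu.unit ^ b : (PowerSeries k)ˣ) : PowerSeries k) * u ^ (n - m) =
        ((hu.unit ^ (a - m) : (PowerSeries k)ˣ) : PowerSeries k) := by
      rw [val_zpow_mul_pow]
      congr 2
      rw [hb, Nat.cast_sub hmI.2]; ring
    have h3 := hc m hmI.1 hmI.2
    calc ((hu.unit ^ b : (PowerSeries k)ˣ) : PowerSeries k) * sig u (X ^ (n - m)) - X ^ (n - m)
        = X ^ (n - m) * (((hu.unit ^ b : (PowerSeries k)ˣ) : PowerSeries k) * u ^ (n - m) - 1) := by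
          rw [h1]; ring
      _ = X ^ (n - m) * (X ^ m * c m) := by rw [h2, h3]
      _ = X ^ n * c m := by
          rw [← mul_assoc, ← pow_add, Nat.sub_add_cancel hmI.2]
  have hT2 : ((hu.unit ^ b : (PowerSeries k)ˣ) : PowerSeries k) * sig u (X ^ n * h) =
      X ^ n * (((hu.unit ^ a : (PowerSeries k)ˣ) : PowerSeries k) * sig u h) := by
    have h2 : ((hu.unit ^ b : (PowerSeries k)ˣ) : PowerSeries k) * u ^ n =
        ((hu.unit ^ a : (PowerSeries k)ˣ) : PowerSeries k) := by
      rw [val_zpow_mul_pow]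
      congr 2
      rw [hb]; ring
    rw [sig_X_pow_mul, ← h2]; ring
  have hinv : ((hu.unit ^ b : (PowerSeries k)ˣ) : PowerSeries k) * sig u F - F = 0 := by
    have hsig : sig u h = PowerSeries.subst (PowerSeries.X * u) h := sig_apply u h
    rw [← hsig] at hh
    have e1 : ((hu.unit ^ b : (PowerSeries k)ˣ) : PowerSeries k) * sig u F - F =
        ∑ m ∈ S, coef m • (((hu.unit ^ b : (PowerSeries k)ˣ) : PowerSeries k) * sig u (X ^ (n - m))
          - X ^ (n - m))
        - (((hu.unit ^ b : (PowerSeries k)ˣ) : PowerSeries k) * sig u (X ^ n * h) - X ^ n * h) := by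
      simp only [hF, map_sub, map_sum, map_smul, mul_sub, Finset.mul_sum, smul_sub,
        Finset.sum_sub_distrib, mul_smul_comm]
      ring
    rw [e1, Finset.sum_congr rfl (fun m hm => by rw [hT1 m hm]), hT2]
    have e2 : ∑ m ∈ S, coef m • (X ^ n * c m) = X ^ n * ∑ m ∈ S, coef m • c m := by
      rw [Finset.mul_sum]
      exact Finset.sum_congr rfl fun m _ => by rw [mul_smul_comm]
    rw [e2, ← hh]; ring
  -- structure of F
  have hFXU : IsXU F (n - m₀) := by
    have hsplit : F = C (coef m₀) * X ^ (n - m₀) +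
        (∑ m ∈ S.erase m₀, coef m • X ^ (n - m) - X ^ n * h) := by
      rw [hF, ← Finset.add_sum_erase S _ hm₀S, smul_eq_C_mul]; ring
    rw [hsplit]
    have h1 : IsXU (C (coef m₀) * X ^ (n - m₀)) (n - m₀) := by
      have hCu : IsUnit (C (coef m₀) : PowerSeries k) := by
        rw [isUnit_iff']; simpa using hm₀c
      exact ((isXU_unit hCu).mul (isXU_X_pow (n - m₀))).congr (by ring)
    apply h1.add_dvd
    apply dvd_sub
    · apply Finset.dvd_sum
      intro m hm
      have hmS := (Finset.mem_erase.mp hm).2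
      have hmne := (Finset.mem_erase.mp hm).1
      by_cases hc0 : coef m = 0
      · rw [hc0, zero_smul]; exact dvd_zero _
      · have hle := hmax m hmS hc0
        have hlt : m < m₀ := lt_of_le_of_ne hle hmne
        rw [smul_eq_C_mul]
        apply Dvd.dvd.mul_left
        apply pow_dvd_pow
        omega
    · apply Dvd.dvd.mul_right
      apply pow_dvd_pow
      omega
  obtain ⟨ε, hε, hFε⟩ := hFXU
  have hbd : (((b + (n - m₀ : ℕ) : ℤ)) : k) ≠ 0 := by
    have : b + ((n - m₀ : ℕ) : ℤ) = a - m₀ := by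
      rw [hb, Nat.cast_sub hm₀I.2]; ring
    rw [this]
    intro h0
    exact hm₀p ((CharP.intCast_eq_zero_iff k p _).mp h0)
  have := twisted_ne hu1 n hn0 hun hu b (n - m₀) hε hbd
  rw [← hFε] at this
  exact this hinv

end Groth.Agent.S13864
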