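import Groth.Statements.S5338
-- import your own Groth.Agent.* helpers here

set_option autoImplicit false
universe u
open CategoryTheory CategoryTheory.Limits MonoidalCategory CartesianMonoidalCategory MonObj GrpObj AlgebraicGeometry
open SGA3

namespace Groth.Agent.S5338

section Helpers
open TensorProduct

section H0
/-- Nakayama for a nilpotent ideal (no finiteness). -/
lemma le_of_le_sup_smul {A M : Type*} [CommRing A] [AddCommGroup M] [Module A M]
    (n : Ideal A) (hn : IsNilpotent n) (N N' : Submodule A M) (h : N ≤ N' ⊔ n • N) : N ≤ N' := by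
  obtain ⟨k, hk⟩ := hn
  have key : ∀ j : ℕ, N ≤ N' ⊔ (n ^ j) • N := by
    intro j
    induction j with
    | zero => rw [pow_zero, Ideal.one_eq_top, Submodule.top_smul]; exact le_sup_right
    | succ j ih =>
      calc N ≤ N' ⊔ (n ^ j) • N := ih
        _ ≤ N' ⊔ (n ^ j) • (N' ⊔ n • N) := sup_le_sup_left (Submodule.smul_mono le_rfl h) _
        _ = N' ⊔ ((n ^ j) • N' ⊔ (n ^ j) • (n • N)) := by rw [Submodule.smul_sup]
        _ ≤ N' ⊔ (n ^ (j + 1)) • N := by
            rw [← Submodule.mul_smul, ← pow_succ]
            refine sup_le le_sup_left (sup_le ?_ le_sup_right)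
            exact le_trans Submodule.smul_le_right le_sup_left
  have := key k
  rw [hk, Submodule.zero_eq_bot, Submodule.bot_smul, sup_bot_eq] at this
  exact this

variable (A B C : Type u) [CommRing A] [CommRing B] [CommRing C]
    [Algebra A B] [Algebra B C] [Algebra A C] [IsScalarTower A B C]

/-- Part (i). -/
theorem part1 (n : Ideal A) (hn : IsNilpotent n)
    (h : Algebra.FiniteType (B ⧸ n.map (algebraMap A B))
      (C ⧸ (n.map (algebraMap A B)).map (algebraMap B C))) :
    Algebra.FiniteType B C := by
  classical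
  obtain ⟨s, hs⟩ := h.out
  -- lift the generators
  have hlift : ∀ y : C ⧸ (n.map (algebraMap A B)).map (algebraMap B C), ∃ x : C,
      Ideal.Quotient.mk _ x = y := Ideal.Quotient.mk_surjective
  choose l hl using hlift
  let t : Finset C := s.image l
  refine ⟨⟨t, ?_⟩⟩
  set S := Algebra.adjoin B (t : Set C) with hS
  -- every element is in S + J
  have h1 : ∀ y ∈ Algebra.adjoin (B ⧸ n.map (algebraMap A B)) (s : Set (C ⧸ _)),
      ∃ x ∈ S, Ideal.Quotient.mk ((n.map (algebraMap A B)).map (algebraMap B C)) x = y := by
    intro y hy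
    induction hy using Algebra.adjoin_induction with
    | mem y hy =>
      exact ⟨l y, Algebra.subset_adjoin (Finset.mem_image_of_mem l hy), hl y⟩
    | algebraMap r =>
      obtain ⟨b, rfl⟩ := Ideal.Quotient.mk_surjective r
      exact ⟨algebraMap B C b, Subalgebra.algebraMap_mem _ _, rfl⟩
    | add y z _ _ hy hz =>
      obtain ⟨x, hx, rfl⟩ := hy
      obtain ⟨x', hx', rfl⟩ := hz
      exact ⟨x + x', Subalgebra.add_mem _ hx hx', map_add _ _ _⟩
    | mul y z _ _ hy hz =>
      obtain ⟨x, hx, rfl⟩ := hy
      obtain ⟨x', hx', rfl⟩ := hz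
      exact ⟨x * x', Subalgebra.mul_mem _ hx hx', map_mul _ _ _⟩
  -- Nakayama as A-modules
  have hSA : (⊤ : Submodule A C) ≤ (Subalgebra.toSubmodule S).restrictScalars A ⊔
      n • (⊤ : Submodule A C) := by
    intro c _
    obtain ⟨x, hx, hxc⟩ := h1 (Ideal.Quotient.mk _ c) (by rw [hs]; trivial)
    have hJ : c - x ∈ (n.map (algebraMap A B)).map (algebraMap B C) := by
      rw [← Ideal.Quotient.eq, hxc]
    have hJ' : c - x ∈ n • (⊤ : Submodule A C) := by
      rw [Ideal.smul_top_eq_map, Submodule.restrictScalars_mem, IsScalarTower.algebraMap_eq A B C,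
        ← Ideal.map_map]
      exact hJ
    have : c = x + (c - x) := by ring
    rw [this]
    exact Submodule.add_mem_sup hx hJ'
  have := le_of_le_sup_smul n hn ⊤ _ hSA
  rw [eq_top_iff]
  intro c _
  exact this (Submodule.mem_top : c ∈ (⊤ : Submodule A C))

end H0

section H1
variable (A B C : Type u) [CommRing A] [CommRing B] [CommRing C]
    [Algebra A B] [Algebra B C] [Algebra A C] [IsScalarTower A B C]

/-- flatness step: `K ∩ nP ≤ nK` when `P/K` is flat. -/
lemma inter_smul_le {P C' : Type u} [AddCommGroup P] [Module A P] [AddCommGroup C'] [Module A C']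
    [Module.Flat A C'] (f : P →ₗ[A] C') (hf : Function.Surjective f) (n : Ideal A)
    (y : P) (hyK : y ∈ LinearMap.ker f) (hyn : y ∈ n • (⊤ : Submodule A P)) :
    y ∈ n • LinearMap.ker f := by
  have hinj : Function.Injective ((LinearMap.ker f).subtype.lTensor (A ⧸ n)) :=
    LinearMap.lTensor_injective_of_exact_of_flat f hf (LinearMap.ker f).subtype
      Subtype.val_injective (LinearMap.exact_subtype_ker_map f) (A ⧸ n)
  have h0 : ((1 : A ⧸ n) ⊗ₜ[A] (⟨y, hyK⟩ : LinearMap.ker f)) = 0 := by
    apply hinj
    rw [LinearMap.lTensor_tmul, map_zero]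
    apply (TensorProduct.quotTensorEquivQuotSMul P n).injective
    rw [map_zero, ← map_one (Ideal.Quotient.mk n), TensorProduct.quotTensorEquivQuotSMul_mk_tmul,
      one_smul, Submodule.Quotient.mk_eq_zero]
    exact hyn
  have h1 := congrArg (TensorProduct.quotTensorEquivQuotSMul (LinearMap.ker f) n) h0
  rw [map_zero, ← map_one (Ideal.Quotient.mk n), TensorProduct.quotTensorEquivQuotSMul_mk_tmul,
    one_smul, Submodule.Quotient.mk_eq_zero] at h1
  -- h1 : ⟨y, hyK⟩ ∈ n • ⊤ (in ker f)
  have h2 := Submodule.mem_map_of_mem (f := (LinearMap.ker f).subtype) h1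
  rw [Submodule.map_smul'', Submodule.map_top, Submodule.range_subtype] at h2
  exact h2

end H1

section H2
variable (A B C : Type u) [CommRing A] [CommRing B] [CommRing C]
    [Algebra A B] [Algebra B C] [Algebra A C] [IsScalarTower A B C]

theorem part2 (n : Ideal A) (hn : IsNilpotent n) (hflat : Module.Flat A C)
    (h : Algebra.FinitePresentation (B ⧸ n.map (algebraMap A B))
      (C ⧸ (n.map (algebraMap A B)).map (algebraMap B C))) :
    Algebra.FinitePresentation B C := by
  classical
  have hft : Algebra.FiniteType B C := part1 A B C n hn inferInstance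
  obtain ⟨m, f, hf⟩ := Algebra.FiniteType.iff_quotient_mvPolynomial''.mp hft
  set I := n.map (algebraMap A B) with hI
  set J := I.map (algebraMap B C) with hJ
  -- the reduced presentation
  let g : MvPolynomial (Fin m) (B ⧸ I) →ₐ[B ⧸ I] (C ⧸ J) :=
    MvPolynomial.aeval (fun i => Ideal.Quotient.mk J (f (MvPolynomial.X i)))
  let π : MvPolynomial (Fin m) B →+* MvPolynomial (Fin m) (B ⧸ I) :=
    MvPolynomial.map (Ideal.Quotient.mk I)
  have hπ : Function.Surjective π := MvPolynomial.map_surjective _ Ideal.Quotient.mk_surjective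
  have hcompat : ∀ x, g (π x) = Ideal.Quotient.mk J (f x) := by
    intro x
    have : (g : MvPolynomial (Fin m) (B ⧸ I) →+* (C ⧸ J)).comp π =
        (Ideal.Quotient.mk J).comp (f : MvPolynomial (Fin m) B →+* C) := by
      apply MvPolynomial.ringHom_ext
      · intro b
        have e1 : f (MvPolynomial.C b) = algebraMap B C b := by
          rw [← MvPolynomial.algebraMap_eq, AlgHom.commutes]
        simp only [RingHom.comp_apply, π, MvPolynomial.map_C, RingHom.coe_coe, g,
          MvPolynomial.aeval_C, e1]
        rfl
      · intro i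
        simp only [RingHom.comp_apply, π, MvPolynomial.map_X, RingHom.coe_coe, g,
          MvPolynomial.aeval_X]
    exact RingHom.congr_fun this x
  have hg : Function.Surjective g := by
    intro z
    obtain ⟨c, rfl⟩ := Ideal.Quotient.mk_surjective z
    obtain ⟨x, rfl⟩ := hf c
    exact ⟨π x, hcompat x⟩
  have hkerg : (RingHom.ker g.toRingHom).FG :=
    Algebra.FinitePresentation.ker_fG_of_surjective g hg
  -- lift generators of ker g to K = ker f
  set K : Ideal (MvPolynomial (Fin m) B) := RingHom.ker f.toRingHom with hK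
  have hKmap : ∀ z ∈ RingHom.ker g.toRingHom, ∃ k ∈ K, π k = z := by
    intro z hz
    obtain ⟨x, rfl⟩ := hπ z
    have hx : f x ∈ J := by
      rw [← Ideal.Quotient.eq_zero_iff_mem, ← hcompat x]
      exact hz
    -- J = f (I.map C)
    have hJf : J = (I.map (MvPolynomial.C : B →+* MvPolynomial (Fin m) B)).map
        (f : MvPolynomial (Fin m) B →+* C) := by
      have hc : algebraMap B C = (f : MvPolynomial (Fin m) B →+* C).comp
          (MvPolynomial.C : B →+* MvPolynomial (Fin m) B) := by
        ext b
        change algebraMap B C b = f (MvPolynomial.C b)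
        rw [← MvPolynomial.algebraMap_eq, AlgHom.commutes]
      rw [hJ, hc, ← Ideal.map_map]
    rw [hJf, Ideal.mem_map_iff_of_surjective (f : MvPolynomial (Fin m) B →+* C) hf] at hx
    obtain ⟨y, hy, hyx⟩ := hx
    refine ⟨x - y, ?_, ?_⟩
    · change f (x - y) = 0
      rw [map_sub]
      have : (f : MvPolynomial (Fin m) B →+* C) y = f y := rfl
      rw [← this, hyx, sub_self]
    · rw [map_sub]
      have hy0 : π y = 0 := by
        have : y ∈ RingHom.ker π := by
          rw [MvPolynomial.ker_map, Ideal.mk_ker]; exact hy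
        exact this
      rw [hy0, sub_zero]
  obtain ⟨gens, hgens⟩ := hkerg
  have hch : ∀ z : gens, ∃ k ∈ K, π k = (z : MvPolynomial (Fin m) (B ⧸ I)) := by
    intro z
    exact hKmap z (by rw [← hgens]; exact Ideal.subset_span z.2)
  choose kk hkkK hkkπ using hch
  let K' : Ideal (MvPolynomial (Fin m) B) := Ideal.span (Set.range kk)
  have hK'K : K' ≤ K := Ideal.span_le.mpr (by rintro _ ⟨z, rfl⟩; exact hkkK z)
  have hK'fg : K'.FG := by
    refine ⟨Finset.univ.image kk, ?_⟩
    simp [K']
  -- K ≤ K' ⊔ n • K as A-modules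
  have hsub : K.restrictScalars A ≤ K'.restrictScalars A ⊔ n • K.restrictScalars A := by
    intro x hx
    have hxK : x ∈ K := hx
    have hπx : π x ∈ RingHom.ker g.toRingHom := by
      change g (π x) = 0
      rw [hcompat x]
      have : f x = 0 := hxK
      rw [this, map_zero]
    have hπx' : π x ∈ K'.map π := by
      rw [Ideal.map_span, ← Set.range_comp]
      have : (π ∘ kk) = fun z : gens => (z : MvPolynomial (Fin m) (B ⧸ I)) := funext hkkπ
      rw [this, Subtype.range_coe_subtype]
      rw [← hgens] at hπx
      exact hπx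
    rw [Ideal.mem_map_iff_of_surjective _ hπ] at hπx'
    obtain ⟨k', hk', hk'x⟩ := hπx'
    have hd : x - k' ∈ RingHom.ker π := by
      change π (x - k') = 0
      rw [map_sub, hk'x, sub_self]
    rw [MvPolynomial.ker_map, Ideal.mk_ker] at hd
    -- x - k' ∈ I.map C = n • ⊤, and in K
    have hdK : x - k' ∈ K := K.sub_mem hxK (hK'K hk')
    have hdn : x - k' ∈ n • (⊤ : Submodule A (MvPolynomial (Fin m) B)) := by
      rw [Ideal.smul_top_eq_map, Submodule.restrictScalars_mem,
        IsScalarTower.algebraMap_eq A B (MvPolynomial (Fin m) B), ← Ideal.map_map,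
        MvPolynomial.algebraMap_eq]
      exact hd
    have hfl := inter_smul_le A (f.toLinearMap.restrictScalars A) hf n (x - k') hdK hdn
    have : x = k' + (x - k') := by ring
    rw [this]
    refine Submodule.add_mem_sup hk' ?_
    have hKer : K.restrictScalars A = LinearMap.ker (f.toLinearMap.restrictScalars A) := by
      ext y
      rfl
    rw [hKer]
    exact hfl
  have hle := le_of_le_sup_smul n hn _ _ hsub
  have hKK' : K = K' := le_antisymm (fun x hx => hle hx) hK'K
  exact Algebra.FinitePresentation.of_surjective hf (by rw [← hK, hKK']; exact hK'fg)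

end H2

end Helpers


/-- Let A → B → C be homomorphisms of commutative rings and n a nilpotent ideal of A; write nB and nC
for the extended ideals. (i) If C/nC is a (B/nB)-algebra of finite type, then C is a B-algebra of
finite type. (ii) If moreover C is flat over A and C/nC is a (B/nB)-algebra of finite presentation,
then C is a B-algebra of finite presentation. -/
theorem result (A B C : Type u) [CommRing A] [CommRing B] [CommRing C]
    [Algebra A B] [Algebra B C] [Algebra A C] [IsScalarTower A B C] (n : Ideal A) (hn : IsNilpotent n) :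
    (Algebra.FiniteType (B ⧸ n.map (algebraMap A B)) (C ⧸ (n.map (algebraMap A B)).map (algebraMap B C)) →
      Algebra.FiniteType B C) ∧
    (Module.Flat A C →
      Algebra.FinitePresentation (B ⧸ n.map (algebraMap A B)) (C ⧸ (n.map (algebraMap A B)).map (algebraMap B C)) →
      Algebra.FinitePresentation B C) := by
  exact ⟨fun h => part1 A B C n hn h, fun hfl h => part2 A B C n hn hfl h⟩

end Groth.Agent.S5338
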