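import Groth.Statements.S0355
import Groth.Agent.Lib.Helper72.GrpConn

set_option autoImplicit false
universe u v
open CategoryTheory MonoidalCategory CartesianMonoidalCategory MonObj GrpObj AlgebraicGeometry
open GrpSch

namespace Groth.Agent.S0355

/-- Let G be a group scheme over a field K. Then the connected component of the identity point of G, as
a subset of the underlying topological space of G, is irreducible and quasi-compact. The published
statement is stronger: it also makes this component a flat closed subgroup scheme and proves it
geometrically irreducible; only the topological part is asserted here. -/
theorem result (K : Type u) [Field K] (G : Over (Spec (CommRingCat.of K))) [GrpObj G] : IsIrreducible (connectedComponent (η[G].left (IsLocalRing.closedPoint K))) ∧ IsCompact (connectedComponent (η[G].left (IsLocalRing.closedPoint K))) := by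
  open Groth.Agent.Lib.Helper72.GrpComp Groth.Agent.Lib.Helper72.GrpConn in
  have h₀ := irreducibleComponent_mem_irreducibleComponents (ePt G)
  have he : ePt G ∈ irreducibleComponent (ePt G) := mem_irreducibleComponent
  have key : connectedComponent (η[G].left (IsLocalRing.closedPoint K)) =
      irreducibleComponent (ePt G) := connectedComponent_ePt G h₀ he
  rw [key]
  exact ⟨h₀.1, isCompact_identityComponent G h₀ he⟩

end Groth.Agent.S0355
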