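import Groth.Statements.S7457
import Groth.Agent.Lib.Helper72.GrpdPts

set_option autoImplicit false
universe u
open CategoryTheory CategoryTheory.Limits AlgebraicGeometry
open Grpd

namespace Groth.Agent.S7457

/-- Let (U, R, s, t, c) be a groupoid scheme over S. Let φ : R x_(t,U,t) R -> R x_(s,U,t) R be the
morphism sending a pair (a, b) with the same target to (a, a^{-1} composed with b), that is, the
morphism whose first component is the first projection and whose second component is c applied to (i
composed after the first projection, second projection). Then φ is an isomorphism and composed with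
c it gives the second projection. Moreover the square with sides c, the second projection R
x_(s,U,t) R -> R, s and s is cartesian. (A groupoid scheme carries U, R, s, t, c, e, i over S with
the groupoid axioms on T-points; c is defined on the fibre product of s and t and sends a pair (a,
b) with s(a) = t(b) to a composed with b.) -/
theorem result (S : Scheme.{u}) (G : Grpd.GroupoidScheme S) : (∀ φ : pullback G.t G.t ⟶ pullback G.s G.t, φ ≫ pullback.fst G.s G.t = pullback.fst G.t G.t → φ ≫ pullback.snd G.s G.t = pullback.lift (pullback.fst G.t G.t ≫ G.i) (pullback.snd G.t G.t) ((Category.assoc _ _ _).trans ((congrArg (fun x => pullback.fst G.t G.t ≫ x) G.i_s).trans pullback.condition)) ≫ G.c → IsIso φ ∧ φ ≫ G.c = pullback.snd G.t G.t) ∧ IsPullback G.c (pullback.snd G.s G.t) G.s G.s := by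
  open Groth.Agent.Lib.Helper72.GrpdPts in
  refine ⟨fun φ h1 h2 => ?_, ?_⟩
  · have hi : (pullback.fst G.t G.t ≫ G.i) ≫ G.s = pullback.snd G.t G.t ≫ G.t :=
      (Category.assoc _ _ _).trans ((congrArg (fun x => pullback.fst G.t G.t ≫ x) G.i_s).trans
        pullback.condition)
    have h2' : φ ≫ pullback.snd G.s G.t =
        mul G (pullback.fst G.t G.t ≫ G.i) (pullback.snd G.t G.t) hi := h2
    have hc : φ ≫ G.c = pullback.snd G.t G.t := by
      rw [comp_c G φ (by rw [Category.assoc, Category.assoc, pullback.condition])]
      refine (mul_congr G h1 h2' _ ?_).trans (mul_i_mul G _ _ hi _)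
      rw [mul_t, Category.assoc, G.i_t]
    refine ⟨?_, hc⟩
    have hct : pullback.fst G.s G.t ≫ G.t = G.c ≫ G.t := by
      rw [← fst_mul_snd, mul_t]
    refine ⟨pullback.lift (pullback.fst G.s G.t) G.c hct, ?_, ?_⟩
    · apply pullback.hom_ext
      · rw [Category.assoc, pullback.lift_fst, h1, Category.id_comp]
      · rw [Category.assoc, pullback.lift_snd, hc, Category.id_comp]
    · apply pullback.hom_ext
      · rw [Category.assoc, h1, pullback.lift_fst, Category.id_comp]
      · rw [Category.assoc, h2', Category.id_comp,
          comp_mul G _ _ _ hi (by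
            rw [Category.assoc, Category.assoc, pullback.lift_snd, ← Category.assoc,
              pullback.lift_fst, G.i_s, hct])]
        have e1 : pullback.lift (pullback.fst G.s G.t) G.c hct ≫ pullback.fst G.t G.t ≫ G.i =
            pullback.fst G.s G.t ≫ G.i := by
          rw [← Category.assoc, pullback.lift_fst]
        have e2 : pullback.lift (pullback.fst G.s G.t) G.c hct ≫ pullback.snd G.t G.t =
            mul G (pullback.fst G.s G.t) (pullback.snd G.s G.t) pullback.condition := by
          rw [pullback.lift_snd, fst_mul_snd]
        refine (mul_congr G e1 e2 _ ?_).trans (i_mul_mul G _ _ pullback.condition _)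
        rw [mul_t, Category.assoc, G.i_s]
  · have w : G.c ≫ G.s = pullback.snd G.s G.t ≫ G.s := by
      rw [← fst_mul_snd, mul_s]
    refine ⟨⟨w⟩, ⟨PullbackCone.IsLimit.mk _
      (fun s => pullback.lift
        (mul G s.fst (s.snd ≫ G.i) (by rw [Category.assoc, G.i_t, s.condition])) s.snd
        (by rw [mul_s, Category.assoc, G.i_s])) ?_ ?_ ?_⟩⟩
    · intro s
      rw [comp_c G _ (by
        rw [pullback.lift_fst, pullback.lift_snd, mul_s, Category.assoc, G.i_s])]
      refine (mul_congr G (pullback.lift_fst _ _ _) (pullback.lift_snd _ _ _) _ ?_).trans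
        (mul_i_mul' G _ _ (by rw [Category.assoc, G.i_t, s.condition]) _)
      rw [mul_s, Category.assoc, G.i_s]
    · intro s
      exact pullback.lift_snd _ _ _
    · intro s m hm1 hm2
      have hcond : (m ≫ pullback.fst G.s G.t) ≫ G.s = s.snd ≫ G.t := by
        rw [Category.assoc, pullback.condition, ← Category.assoc, hm2]
      have hx : s.fst = mul G (m ≫ pullback.fst G.s G.t) s.snd hcond := by
        rw [← hm1, comp_c G m (by rw [Category.assoc, Category.assoc, pullback.condition])]
        exact mul_congr G rfl hm2 _ _
      apply pullback.hom_ext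
      · rw [pullback.lift_fst]
        refine Eq.symm ((mul_congr G hx rfl _ ?_).trans (mul_mul_i G _ _ hcond _))
        rw [mul_s, Category.assoc, G.i_t]
      · rw [pullback.lift_snd]; exact hm2

end Groth.Agent.S7457
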