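import Groth.Statements.S7461
import Groth.Agent.S7457
import Groth.Agent.Lib.Helper72.GrpdSet
import Mathlib.AlgebraicGeometry.Morphisms.FlatRank

set_option autoImplicit false
universe u
open CategoryTheory CategoryTheory.Limits AlgebraicGeometry
open Grpd

namespace Groth.Agent.S7461

open Groth.Agent.Lib.Helper72.GrpdPts in
theorem i_i (S : Scheme.{u}) (G : Grpd.GroupoidScheme S) : G.i ≫ G.i = 𝟙 G.R := by
  have h1 : (G.i ≫ G.i) ≫ G.s = (G.i) ≫ G.t := by rw [Category.assoc, G.i_s]
  have h2 : (G.i) ≫ G.s = (𝟙 G.R) ≫ G.t := by rw [G.i_s, Category.id_comp]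
  have e1 : mul G (G.i ≫ G.i) (mul G G.i (𝟙 G.R) h2) (by rw [mul_t, h1]) = 𝟙 G.R :=
    i_mul_mul G G.i (𝟙 G.R) h2 _
  have h' : (𝟙 G.R ≫ G.i) ≫ G.s = 𝟙 G.R ≫ G.t := by rw [Category.id_comp, h2]
  have e2 : mul G G.i (𝟙 G.R) h2 = G.s ≫ G.e :=
    (mul_congr G (Category.id_comp G.i).symm rfl h2 h').trans
      ((i_mul G (𝟙 G.R) h').trans (Category.id_comp _))
  have hη : G.s ≫ G.e = (G.i ≫ G.i) ≫ G.s ≫ G.e := by
    rw [Category.assoc, ← Category.assoc G.i G.s G.e, G.i_s, ← Category.assoc G.i G.t G.e,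
      G.i_t]
  have hc : (G.i ≫ G.i) ≫ G.s = (G.s ≫ G.e) ≫ G.t := by
    rw [Category.assoc, G.i_s, G.i_t, Category.assoc, G.e_t, Category.comp_id]
  have e3 : mul G (G.i ≫ G.i) (G.s ≫ G.e) hc = G.i ≫ G.i := mul_e G _ _ hη hc
  rw [← e3, ← e1]
  exact mul_congr G rfl e2.symm _ _

instance (S : Scheme.{u}) (G : Grpd.GroupoidScheme S) : IsIso G.i :=
  ⟨G.i, i_i S G, i_i S G⟩

theorem finrank_s_eq (S : Scheme.{u}) (G : Grpd.GroupoidScheme S) [IsFinite G.s] [Flat G.s]
    (y : G.R) : G.s.finrank (G.s y) = G.s.finrank (G.t y) := by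
  have h1 := Scheme.Hom.finrank_of_isPullback G.c (pullback.snd G.s G.t) G.s G.s
    (Groth.Agent.S7457.result S G).2 y
  have h2 := Scheme.Hom.finrank_pullback_snd G.s G.t y
  rw [← h1, h2]

theorem finrank_t_eq (S : Scheme.{u}) (G : Grpd.GroupoidScheme S) [IsFinite G.s] [Flat G.s] :
    G.t.finrank = G.s.finrank := by
  have : G.t = G.i ≫ G.s := G.i_s.symm
  rw [this, Scheme.Hom.finrank_comp_left_of_isIso]

/-- Let (U, R, s, t, c) be a groupoid scheme over S with s and t finite locally free. Then U is a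
disjoint union of R-invariant open subschemes U_r, r = 1, 2, 3, ..., such that s and t restricted
over U_r are finite locally free of rank r. Here the decomposition is indexed by all natural numbers
with U_0 empty, R-invariance of U_r means s^{-1}(U_r) = t^{-1}(U_r), and 'finite locally free of
rank r' means finite, flat, locally of finite presentation with rank function constant equal to r.
(A groupoid scheme carries U, R, s, t, c, e, i over S with the groupoid axioms on T-points; c is
defined on the fibre product of s and t and sends a pair (a, b) with s(a) = t(b) to a composed with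
b.) -/
theorem result (S : Scheme.{u}) (G : Grpd.GroupoidScheme S) [IsFinite G.s] [Flat G.s] [LocallyOfFinitePresentation G.s] [IsFinite G.t] [Flat G.t] [LocallyOfFinitePresentation G.t] : ∃ V : ℕ → G.U.Opens, V 0 = ⊥ ∧ (∀ r r', r ≠ r' → Disjoint (V r) (V r')) ∧ (⨆ r, V r) = ⊤ ∧ ∀ r, G.s ⁻¹ᵁ V r = G.t ⁻¹ᵁ V r ∧ Mor2.IsFinLocFreeOfDeg r (G.s ∣_ V r) ∧ Mor2.IsFinLocFreeOfDeg r (G.t ∣_ V r) := by
  have hlc := Scheme.Hom.isLocallyConstant_finrank G.s
  refine ⟨fun r => ⟨G.s.finrank ⁻¹' {r}, hlc.isOpen_fiber r⟩, ?_, ?_, ?_, ?_⟩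
  · ext u
    simp only [TopologicalSpace.Opens.coe_mk, Set.mem_preimage, Set.mem_singleton_iff,
      TopologicalSpace.Opens.coe_bot, Set.mem_empty_iff_false, iff_false]
    have := Scheme.Hom.one_le_finrank_map G.s (G.e u)
    rw [Groth.Agent.Lib.Helper72.GrpdPts.e_s_apply] at this
    omega
  · intro r r' hrr'
    rw [disjoint_iff]
    ext u
    simp only [TopologicalSpace.Opens.coe_inf, TopologicalSpace.Opens.coe_mk, Set.mem_inter_iff,
      Set.mem_preimage, Set.mem_singleton_iff, TopologicalSpace.Opens.coe_bot,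
      Set.mem_empty_iff_false, iff_false]
    rintro ⟨h1, h2⟩
    exact hrr' (h1.symm.trans h2)
  · rw [eq_top_iff]
    intro u _
    simp only [TopologicalSpace.Opens.mem_iSup]
    exact ⟨G.s.finrank u, rfl⟩
  · intro r
    refine ⟨?_, ?_, ?_⟩
    · ext y
      show G.s.finrank (G.s y) = r ↔ G.s.finrank (G.t y) = r
      rw [finrank_s_eq S G y]
    · refine ⟨⟨inferInstance, inferInstance, ?_⟩, fun y => ?_⟩
      · exact MorphismProperty.of_isPullback (P := @LocallyOfFinitePresentation)
          (isPullback_morphismRestrict G.s _).flip inferInstance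
      · rw [Scheme.Hom.finrank_of_isPullback _ _ _ _ (isPullback_morphismRestrict G.s _).flip]
        exact y.2
    · refine ⟨⟨inferInstance, inferInstance, ?_⟩, fun y => ?_⟩
      · exact MorphismProperty.of_isPullback (P := @LocallyOfFinitePresentation)
          (isPullback_morphismRestrict G.t _).flip inferInstance
      · rw [Scheme.Hom.finrank_of_isPullback _ _ _ _ (isPullback_morphismRestrict G.t _).flip,
          finrank_t_eq S G]
        exact y.2

end Groth.Agent.S7461
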