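import Groth.Statements.S19197
import Groth.Agent.S5929
import Groth.Agent.Lib.Helper15.LocalFibrePd

set_option autoImplicit false
universe u
open TensorProduct CategoryTheory
open RelS1

namespace Groth.Agent.S19197

lemma exists_nat_between {a y : WithBot ℕ∞} (h : a < y) :
    ∃ n : ℕ, a < (n : WithBot ℕ∞) ∧ (n : WithBot ℕ∞) ≤ y := by
  induction y with
  | bot => exact absurd h (not_lt_bot)
  | coe y =>
    induction y with
    | top =>
      induction a with
      | bot => exact ⟨0, WithBot.bot_lt_coe _, le_top⟩
      | coe a =>
        induction a with
        | top => exact absurd h (lt_irrefl _)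
        | coe m =>
          refine ⟨m + 1, ?_, le_top⟩
          have : ((m : ℕ∞) : WithBot ℕ∞) = ((m : ℕ) : WithBot ℕ∞) := rfl
          rw [this]
          exact_mod_cast Nat.lt_succ_self m
    | coe m => exact ⟨m, h, le_refl _⟩

/-- In affine form, let A be a commutative ring, B a finitely presented A-algebra which is flat over A,
and M a finitely presented B-module which is flat over A. For a prime P of B lying over the prime p
of A, let B_P/pB_P be the local ring of the fibre at P and M_P/pM_P = (B_P/pB_P) ⊗_B M the fibre
stalk module. Then the function sending P to the projective dimension of M_P/pM_P over B_P/pB_P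
(valued in WithBot ℕ∞, the zero module having dimension ⊥) is upper semicontinuous on Spec B: for
every bound, the set of P where the fibre projective dimension is below the bound is open. -/
theorem result (A B M : Type u) [CommRing A] [CommRing B] [Algebra A B]
    [Algebra.FinitePresentation A B] [Module.Flat A B] [AddCommGroup M] [Module B M] [Module A M]
    [IsScalarTower A B M] [Module.FinitePresentation B M] [Module.Flat A M] :
    UpperSemicontinuous fun P : PrimeSpectrum B => projectiveDimension (ModuleCat.of
      (Localization.AtPrime P.asIdeal ⧸ (P.asIdeal.under A).map (algebraMap A (Localization.AtPrime P.asIdeal)))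
      ((Localization.AtPrime P.asIdeal ⧸ (P.asIdeal.under A).map (algebraMap A (Localization.AtPrime P.asIdeal))) ⊗[B] M)) := by
  classical
  open Groth.Agent.Lib.Helper15.Syzygy Groth.Agent.Lib.Helper15.FibreProj
    Groth.Agent.Lib.Helper15.FibrePd Groth.Agent.Lib.Helper15.LocalFibrePd in
  obtain ⟨Pres, hP⟩ := Groth.Agent.S5929.result A B M
  let C := Chain.ofRes Pres hP
  let e : C.Z 0 ≅ ModuleCat.of B M := Chain.ofResIso Pres hP
  letI := fun (X : ModuleCat.{u} B) => modA A X
  have h0 : Module.Flat A (C.Z 0) := flat_of_iso A (C.Z 0) M e
  have hfg : ∀ P : PrimeSpectrum B, projectiveDimension (ModuleCat.of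
      (Localization.AtPrime P.asIdeal ⧸
        (P.asIdeal.under A).map (algebraMap A (Localization.AtPrime P.asIdeal)))
      ((Localization.AtPrime P.asIdeal ⧸
        (P.asIdeal.under A).map (algebraMap A (Localization.AtPrime P.asIdeal))) ⊗[B] M)) =
      projectiveDimension ((Chain.baseChange (Localization.AtPrime P.asIdeal) C).Z 0) := by
    intro P
    refine Chain.projectiveDimension_quot_tensor_eq A (Localization.AtPrime P.asIdeal) C h0 M e
      (P.asIdeal.under A) ?_
    intro q hq a ha
    rw [IsLocalRing.eq_maximalIdeal hq]
    show algebraMap A (Localization.AtPrime P.asIdeal) a ∈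
      IsLocalRing.maximalIdeal (Localization.AtPrime P.asIdeal)
    rw [IsScalarTower.algebraMap_apply A B (Localization.AtPrime P.asIdeal)]
    have h1 : algebraMap A B a ∈ P.asIdeal := ha
    rw [← Localization.AtPrime.comap_maximalIdeal (I := P.asIdeal)] at h1
    exact h1
  have hopen : ∀ n : ℕ, IsOpen {P : PrimeSpectrum B |
      projectiveDimension ((Chain.baseChange (Localization.AtPrime P.asIdeal) C).Z 0) < n} := by
    intro n
    rcases n with _ | n
    · have : {P : PrimeSpectrum B |
          projectiveDimension ((Chain.baseChange (Localization.AtPrime P.asIdeal) C).Z 0) <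
            ((0 : ℕ) : WithBot ℕ∞)} = (Module.support B (C.Z 0))ᶜ := by
        ext P
        simp only [Set.mem_ofPred_eq, Set.mem_compl_iff]
        rw [projectiveDimension_lt_iff, hasProjectiveDimensionLT_zero_iff_isZero,
          ModuleCat.isZero_iff_subsingleton, Module.notMem_support_iff]
        exact (IsLocalizedModule.linearEquiv P.asIdeal.primeCompl
          (TensorProduct.mk B (Localization.AtPrime P.asIdeal) (C.Z 0) 1)
          (LocalizedModule.mkLinearMap P.asIdeal.primeCompl (C.Z 0))).toEquiv.subsingleton_congr
      rw [this]
      exact (Module.isClosed_support (R := B) (M := (C.Z 0))).isOpen_compl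
    · have : {P : PrimeSpectrum B |
          projectiveDimension ((Chain.baseChange (Localization.AtPrime P.asIdeal) C).Z 0) <
            ((n + 1 : ℕ) : WithBot ℕ∞)} = Module.freeLocus B (C.Z n) := by
        ext P
        simp only [Set.mem_ofPred_eq]
        rw [projectiveDimension_lt_iff, (Chain.baseChange (Localization.AtPrime P.asIdeal) C).pdLT_zero_iff n,
          Module.mem_freeLocus_iff_tensor P (Localization.AtPrime P.asIdeal)]
        constructor
        · intro h
          haveI : Module.Projective (Localization.AtPrime P.asIdeal)
              ((Localization.AtPrime P.asIdeal) ⊗[B] (C.Z n)) :=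
            ((Chain.baseChange (Localization.AtPrime P.asIdeal) C).Z n).projective_of_module_projective
          haveI : Module.Flat (Localization.AtPrime P.asIdeal)
              ((Localization.AtPrime P.asIdeal) ⊗[B] (C.Z n)) := Module.Flat.of_projective
          exact Module.free_of_flat_of_isLocalRing
        · intro h
          haveI : Module.Free (Localization.AtPrime P.asIdeal)
              ((Chain.baseChange (Localization.AtPrime P.asIdeal) C).Z n) := h
          infer_instance
      rw [this]
      exact Module.isOpen_freeLocus
  intro P y hy
  beta_reduce at hy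
  rw [hfg P] at hy
  obtain ⟨n, hn1, hn2⟩ : ∃ n : ℕ,
      projectiveDimension ((Chain.baseChange (Localization.AtPrime P.asIdeal) C).Z 0) < n ∧
        ((n : ℕ) : WithBot ℕ∞) ≤ y := exists_nat_between hy
  filter_upwards [(hopen n).mem_nhds hn1] with P' hP'
  beta_reduce
  rw [hfg P']
  exact lt_of_lt_of_le hP' hn2

end Groth.Agent.S19197
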