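import Groth.Statements.S4492
import Mathlib.Algebra.Homology.ShortComplex.ModuleCat
-- import your own Groth.Agent.* helpers here

set_option autoImplicit false
universe u
open FlatCx

namespace Groth.Agent.S4492

section

variable {B : Type*} [Ring B] {M₁ M₂ M₃ : Type*} [AddCommGroup M₁] [AddCommGroup M₂] [AddCommGroup M₃]
  [Module B M₁] [Module B M₂] [Module B M₃]

theorem length_add_eq (f : M₁ →ₗ[B] M₂) (g : M₂ →ₗ[B] M₃) (H : Function.Exact f g) :
    Module.length B M₁ + Module.length B M₃ =
      Module.length B M₂ + (Module.length B (LinearMap.ker f) +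
        Module.length B (M₃ ⧸ LinearMap.range g)) := by
  have h1 : Module.length B M₁ =
      Module.length B (LinearMap.ker f) + Module.length B (LinearMap.range f) :=
    Module.length_eq_add_of_exact (LinearMap.ker f).subtype f.rangeRestrict
      (Submodule.subtype_injective _) f.surjective_rangeRestrict
      (LinearMap.exact_iff.mpr (by rw [LinearMap.ker_rangeRestrict, Submodule.range_subtype]))
  have h3 : Module.length B M₃ =
      Module.length B (LinearMap.range g) + Module.length B (M₃ ⧸ LinearMap.range g) :=
    Module.length_eq_add_of_exact (LinearMap.range g).subtype (LinearMap.range g).mkQ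
      (Submodule.subtype_injective _) (Submodule.mkQ_surjective _)
      (LinearMap.exact_subtype_mkQ _)
  have h2 : Module.length B M₂ =
      Module.length B (LinearMap.range f) + Module.length B (LinearMap.range g) := by
    have hk : LinearMap.ker g = LinearMap.range f := (LinearMap.exact_iff.mp H)
    have := Module.length_eq_add_of_exact (LinearMap.ker g).subtype g.rangeRestrict
      (Submodule.subtype_injective _) g.surjective_rangeRestrict
      (LinearMap.exact_iff.mpr (by rw [LinearMap.ker_rangeRestrict, Submodule.range_subtype]))
    rw [this, hk]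
  rw [h1, h3, h2]
  ring

theorem length_le_add (f : M₁ →ₗ[B] M₂) (g : M₂ →ₗ[B] M₃) (H : Function.Exact f g) :
    Module.length B M₂ ≤ Module.length B M₁ + Module.length B M₃ := by
  rw [length_add_eq f g H]
  exact le_self_add

theorem length_eq_add_iff (f : M₁ →ₗ[B] M₂) (g : M₂ →ₗ[B] M₃) (H : Function.Exact f g)
    (h₂ : Module.length B M₂ ≠ ⊤) :
    Module.length B M₂ = Module.length B M₁ + Module.length B M₃ ↔
      Function.Injective f ∧ Function.Surjective g := by
  rw [length_add_eq f g H]
  constructor
  · intro h
    have h0 : Module.length B (LinearMap.ker f) + Module.length B (M₃ ⧸ LinearMap.range g) = 0 := by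
      have h' : Module.length B M₂ + 0 = Module.length B M₂ +
          (Module.length B (LinearMap.ker f) + Module.length B (M₃ ⧸ LinearMap.range g)) := by
        rw [add_zero]; exact h
      exact (ENat.add_right_injective_of_ne_top h₂ h').symm
    rw [add_eq_zero] at h0
    obtain ⟨hk, hq⟩ := h0
    rw [Module.length_eq_zero_iff] at hk hq
    constructor
    · rw [← LinearMap.ker_eq_bot]
      exact Submodule.eq_bot_of_subsingleton
    · rw [← LinearMap.range_eq_top]
      exact Submodule.Quotient.subsingleton_iff.mp hq
  · rintro ⟨hi, hs⟩
    have hk : Module.length B (LinearMap.ker f) = 0 := by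
      rw [Module.length_eq_zero_iff, LinearMap.ker_eq_bot.mpr hi]
      infer_instance
    have hq : Module.length B (M₃ ⧸ LinearMap.range g) = 0 := by
      rw [Module.length_eq_zero_iff, LinearMap.range_eq_top.mpr hs]
      infer_instance
    rw [hk, hq, add_zero, add_zero]

end

section
open CategoryTheory CategoryTheory.Limits

variable {A B : Type u} [Ring A] [Ring B] (F : ModuleCat.{u} A ⥤ ModuleCat.{u} B) [F.Additive]
  (hF : ∀ S : ShortComplex (ModuleCat.{u} A), S.ShortExact → (S.map F).Exact)

include hF in
theorem exact_map (S : ShortComplex (ModuleCat.{u} A)) (hS : S.ShortExact) :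
    Function.Exact (F.map S.f).hom (F.map S.g).hom :=
  (ShortComplex.ShortExact.moduleCat_exact_iff_function_exact (S.map F)).mp (hF S hS)

include hF in
theorem finite_length (hS : ∀ M : ModuleCat.{u} A, IsSimpleModule A M →
      Module.length B (F.obj M) ≠ ⊤) :
    ∀ n : ℕ, ∀ E : ModuleCat.{u} A, Module.length A E = n → Module.length B (F.obj E) ≠ ⊤ := by
  intro n
  induction n using Nat.strong_induction_on with
  | _ n ih =>
    intro E hE
    by_cases hsub : Subsingleton E
    · have h1 : IsZero E := ModuleCat.isZero_of_subsingleton E
      have h2 : IsZero (F.obj E) := F.map_isZero h1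
      have h3 := ModuleCat.subsingleton_of_isZero h2
      rw [Module.length_eq_zero]
      exact ENat.zero_ne_top
    · rw [not_subsingleton_iff_nontrivial] at hsub
      have hfin : IsFiniteLength A E :=
        Module.length_ne_top_iff.mp (by rw [hE]; exact ENat.natCast_ne_top n)
      obtain ⟨hNoeth, hArt⟩ := isFiniteLength_iff_isNoetherian_isArtinian.mp hfin
      obtain ⟨N, hN⟩ := IsAtomic.exists_atom (Submodule A E)
      have hsimple : IsSimpleModule A N := isSimpleModule_iff_isAtom.mpr hN
      let S : ShortComplex (ModuleCat.{u} A) :=
        ShortComplex.mk (ModuleCat.ofHom N.subtype) (ModuleCat.ofHom N.mkQ) (by ext; simp)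
      have hSE : S.ShortExact := ModuleCat.shortComplex_shortExact S
        (LinearMap.exact_subtype_mkQ N) (Submodule.subtype_injective N)
        (Submodule.mkQ_surjective N)
      have hlt : Module.length A (E ⧸ N) < Module.length A E :=
        Submodule.length_quotient_lt N hN.1
      obtain ⟨m, hm⟩ := ENat.ne_top_iff_exists.mp (ne_top_of_lt hlt)
      have hmn : m < n := by
        rw [← hm, hE] at hlt
        exact_mod_cast hlt
      have h1 := ih m hmn (ModuleCat.of A (E ⧸ N)) hm.symm
      have h2 := hS (ModuleCat.of A N) hsimple
      have h3 := length_le_add (F.map S.f).hom (F.map S.g).hom (exact_map F hF S hSE)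
      exact ne_top_of_le_ne_top (WithTop.add_ne_top.mpr ⟨h2, h1⟩) h3

end

open CategoryTheory CategoryTheory.Limits in
/-- (The published statement is for arbitrary abelian categories; this row is for functors between
module categories.) Let F be an additive functor from A-modules to B-modules which is half exact
(every short exact sequence 0 → E' → E → E'' → 0 goes to a sequence F(E') → F(E) → F(E'') exact at
the middle) and such that F(S) has finite length for every simple A-module S. Then F(E) has finite
length for every A-module E of finite length; and for every short exact sequence 0 → E' → E → E'' →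
0 of A-modules with E of finite length one has length F(E) ≤ length F(E') + length F(E''), with
equality if and only if 0 → F(E') → F(E) → F(E'') → 0 is (short) exact. Lengths are Mathlib's,
valued in ℕ∞. -/
theorem result {A B : Type u} [Ring A] [Ring B]
    (F : ModuleCat.{u} A ⥤ ModuleCat.{u} B) [F.Additive]
    (hF : ∀ S : ShortComplex (ModuleCat.{u} A), S.ShortExact → (S.map F).Exact)
    (hS : ∀ M : ModuleCat.{u} A, IsSimpleModule A M → Module.length B (F.obj M) ≠ ⊤) :
    (∀ E : ModuleCat.{u} A, Module.length A E ≠ ⊤ → Module.length B (F.obj E) ≠ ⊤) ∧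
      ∀ S : ShortComplex (ModuleCat.{u} A), S.ShortExact → Module.length A S.X₂ ≠ ⊤ →
        Module.length B (F.obj S.X₂) ≤ Module.length B (F.obj S.X₁) + Module.length B (F.obj S.X₃) ∧
          (Module.length B (F.obj S.X₂) = Module.length B (F.obj S.X₁) + Module.length B (F.obj S.X₃) ↔
            (S.map F).ShortExact) := by
  have part1 : ∀ E : ModuleCat.{u} A, Module.length A E ≠ ⊤ → Module.length B (F.obj E) ≠ ⊤ := by
    intro E hE
    obtain ⟨n, hn⟩ := ENat.ne_top_iff_exists.mp hE
    exact finite_length F hF hS n E hn.symm
  refine ⟨part1, ?_⟩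
  intro S hSE hfin
  have hex := exact_map F hF S hSE
  refine ⟨length_le_add _ _ hex, ?_⟩
  rw [length_eq_add_iff _ _ hex (part1 S.X₂ hfin)]
  constructor
  · rintro ⟨hi, hs⟩
    exact ModuleCat.shortComplex_shortExact (S.map F) hex hi hs
  · intro h
    exact ⟨h.moduleCat_injective_f, h.moduleCat_surjective_g⟩

end Groth.Agent.S4492
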