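import Groth.Statements.S4499
-- import your own Groth.Agent.* helpers here
import Groth.Agent.S8710
import Mathlib.CategoryTheory.Abelian.LeftDerived
import Mathlib.Algebra.Category.ModuleCat.Monoidal.Basic
import Mathlib.Algebra.Category.ModuleCat.Monoidal.Closed
import Mathlib.LinearAlgebra.TensorProduct.RightExactness
import Mathlib.LinearAlgebra.Isomorphisms

set_option autoImplicit false
universe u
attribute [local instance] HasDerivedCategory.standard
open FlatCx

namespace Groth.Agent.S4499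

open CategoryTheory CategoryTheory.Limits MonoidalCategory Groth.Agent.S8710

variable {R : Type u} [CommRing R]

noncomputable def fz (S' : ModuleCat.{u} R) (Q : ProjectiveResolution S') (M : ModuleCat.{u} R) :
    ((cxFunctor Q.complex).obj M).opcycles 0 ≅ M ⊗ S' :=
  (asIso (Q.fromLeftDerivedZero' (tensorLeft M)) :
    (((tensorLeft M).mapHomologicalComplex _).obj Q.complex).opcycles 0 ≅ (tensorLeft M).obj S')

theorem p_fz (S' : ModuleCat.{u} R) (Q : ProjectiveResolution S') (M : ModuleCat.{u} R) :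
    HomologicalComplex.pOpcycles ((cxFunctor Q.complex).obj M) 0 ≫ (fz S' Q M).hom =
      (M ◁ (Q.π.f 0) : M ⊗ Q.complex.X 0 ⟶ M ⊗ S') :=
  ProjectiveResolution.pOpcycles_comp_fromLeftDerivedZero' Q (tensorLeft M)

theorem cx_map_f (Q : ChainComplex (ModuleCat.{u} R) ℕ) {M M' : ModuleCat.{u} R} (f : M ⟶ M')
    (i : ℕ) : ((cxFunctor Q).map f).f i = (f ▷ Q.X i : M ⊗ Q.X i ⟶ M' ⊗ Q.X i) := rfl

noncomputable def psi (S' : ModuleCat.{u} R) (Q : ProjectiveResolution S') (M : ModuleCat.{u} R) :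
    ((cxFunctor Q.complex).obj M).homology 0 ≅ M ⊗ S' :=
  (ChainComplex.isoHomologyι₀ ((cxFunctor Q.complex).obj M)) ≪≫ fz S' Q M

theorem psi_naturality (S' : ModuleCat.{u} R) (Q : ProjectiveResolution S')
    {M M' : ModuleCat.{u} R} (f : M ⟶ M') :
    HomologicalComplex.homologyMap ((cxFunctor Q.complex).map f) 0 ≫ (psi S' Q M').hom =
      (psi S' Q M).hom ≫ (f ▷ S') := by
  simp only [psi, Iso.trans_hom, HomologicalComplex.isoHomologyι_hom]
  rw [HomologicalComplex.homologyι_naturality_assoc]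
  simp only [Category.assoc]
  congr 1
  rw [← cancel_epi (HomologicalComplex.pOpcycles _ 0)]
  rw [HomologicalComplex.p_opcyclesMap_assoc, p_fz, reassoc_of% (p_fz S' Q M), cx_map_f]
  exact (whisker_exchange f (Q.π.f 0)).symm

theorem isZero_F_of_flat (S' : ModuleCat.{u} R) (Q : ProjectiveResolution S') (M : ModuleCat.{u} R)
    [Module.Flat R M] (i : ℕ) : IsZero (((cxFunctor Q.complex).obj M).homology (i + 1)) :=
  IsZero.of_iso (tor_flat S' M i) (torIso S' Q M (i + 1)).symm

theorem kerCongr {X₁ Y₁ X₂ Y₂ : Type u} [AddCommGroup X₁] [AddCommGroup Y₁] [AddCommGroup X₂]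
    [AddCommGroup Y₂] [Module R X₁] [Module R Y₁] [Module R X₂] [Module R Y₂]
    (g₁ : X₁ →ₗ[R] Y₁) (g₂ : X₂ →ₗ[R] Y₂) (eX : X₁ ≃ₗ[R] X₂) (eY : Y₁ ≃ₗ[R] Y₂)
    (h : ∀ x, eY (g₁ x) = g₂ (eX x)) :
    Nonempty (LinearMap.ker g₁ ≃ₗ[R] LinearMap.ker g₂) := by
  have h1 : LinearMap.ker g₁ = (LinearMap.ker g₂).comap eX.toLinearMap := by
    ext x
    simp only [LinearMap.mem_ker, Submodule.mem_comap, LinearEquiv.coe_coe]
    rw [← h x]
    exact (LinearEquiv.map_eq_zero_iff eY).symm
  exact ⟨(LinearEquiv.ofEq _ _ h1).trans (eX.ofSubmodule' (LinearMap.ker g₂))⟩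

theorem L1 (S' : ModuleCat.{u} R) (T : ShortComplex (ModuleCat.{u} R)) (hT : T.ShortExact)
    [Module.Flat R T.X₂] :
    Nonempty ((((Tor (ModuleCat.{u} R) 1).obj T.X₃).obj S' : ModuleCat.{u} R) ≃ₗ[R]
      LinearMap.ker (T.f.hom.rTensor S')) := by
  let Q : ProjectiveResolution S' := ProjectiveResolution.of S'
  have hS := cxFunctor_shortExact Q.complex (flat_of_res S' Q) T hT
  have hmono : Mono (hS.δ 1 0 rfl) := hS.mono_δ 1 0 rfl (isZero_F_of_flat S' Q T.X₂ 0)
  have hex := hS.homology_exact₁ 1 0 rfl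
  have hinj : Function.Injective (hS.δ 1 0 rfl).hom := (ModuleCat.mono_iff_injective _).mp hmono
  have hrange := hex.moduleCat_range_eq_ker
  let e1 := (LinearEquiv.ofInjective (hS.δ 1 0 rfl).hom hinj).trans (LinearEquiv.ofEq _ _ hrange)
  obtain ⟨e2⟩ := kerCongr
    (HomologicalComplex.homologyMap ((cxFunctor Q.complex).map T.f) 0).hom
    (T.f.hom.rTensor S') (psi S' Q T.X₁).toLinearEquiv (psi S' Q T.X₂).toLinearEquiv
    (fun x => by
      have := congrArg (fun φ => φ.hom x) (psi_naturality S' Q T.f)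
      exact this)
  exact ⟨(torIso S' Q T.X₃ 1).toLinearEquiv.trans (e1.trans e2)⟩

theorem L2 (S' : ModuleCat.{u} R) (T : ShortComplex (ModuleCat.{u} R)) (hT : T.ShortExact)
    [Module.Flat R T.X₂] :
    Nonempty ((((Tor (ModuleCat.{u} R) 2).obj T.X₃).obj S' : ModuleCat.{u} R) ≃ₗ[R]
      (((Tor (ModuleCat.{u} R) 1).obj T.X₁).obj S' : ModuleCat.{u} R)) := by
  let Q : ProjectiveResolution S' := ProjectiveResolution.of S'
  have hS := cxFunctor_shortExact Q.complex (flat_of_res S' Q) T hT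
  let e := hS.δIso 2 1 rfl (isZero_F_of_flat S' Q T.X₂ 1) (isZero_F_of_flat S' Q T.X₂ 0)
  exact ⟨(torIso S' Q T.X₃ 2 ≪≫ e ≪≫ (torIso S' Q T.X₁ 1).symm).toLinearEquiv⟩

section Final

variable {A : Type u} [CommRing A] {P₁ P₀ N : Type u} [AddCommGroup P₁] [Module A P₁]
  [AddCommGroup P₀] [Module A P₀] [AddCommGroup N] [Module A N]

theorem exact1 (d : P₁ →ₗ[A] P₀) :
    Function.Exact (LinearMap.ker d).subtype d.rangeRestrict := by
  rw [LinearMap.exact_iff, LinearMap.ker_rangeRestrict, Submodule.range_subtype]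

theorem exact2 (d : P₁ →ₗ[A] P₀) :
    Function.Exact (LinearMap.range d).subtype (LinearMap.range d).mkQ := by
  rw [LinearMap.exact_iff, Submodule.ker_mkQ, Submodule.range_subtype]

theorem quot_abs {X V U W : Type u} [AddCommGroup X] [Module A X] [AddCommGroup V] [Module A V]
    [AddCommGroup U] [Module A U] [AddCommGroup W] [Module A W]
    (a : X →ₗ[A] V) (g : V →ₗ[A] U) (i : U →ₗ[A] W) (D : V →ₗ[A] W) (hD : D = i ∘ₗ g)
    (hg : Function.Surjective g) (hex : Function.Exact a g) :
    Nonempty ((↥(LinearMap.ker D) ⧸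
      Submodule.comap (LinearMap.ker D).subtype (LinearMap.range a)) ≃ₗ[A] LinearMap.ker i) := by
  subst hD
  let g' : LinearMap.ker (i ∘ₗ g) →ₗ[A] LinearMap.ker i :=
    g.restrict (fun w hw => by
      rw [LinearMap.mem_ker] at hw ⊢
      exact hw)
  have hg'surj : Function.Surjective g' := by
    rintro ⟨u, hu⟩
    obtain ⟨w, rfl⟩ := hg u
    refine ⟨⟨w, ?_⟩, rfl⟩
    rw [LinearMap.mem_ker] at hu ⊢
    exact hu
  have hker : LinearMap.ker g' = Submodule.comap (LinearMap.ker (i ∘ₗ g)).subtype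
      (LinearMap.range a) := by
    ext ⟨w, hw⟩
    have h1 : (⟨w, hw⟩ : LinearMap.ker (i ∘ₗ g)) ∈ LinearMap.ker g' ↔ g w = 0 := by
      rw [LinearMap.mem_ker]
      constructor
      · intro h
        exact congrArg Subtype.val h
      · intro h
        exact Subtype.ext h
    rw [h1, Submodule.mem_comap]
    change _ ↔ w ∈ LinearMap.range a
    rw [← (LinearMap.exact_iff.mp hex), LinearMap.mem_ker]
  have e1 := g'.quotKerEquivOfSurjective hg'surj
  have e2 := Submodule.quotEquivOfEq _ _ hker.symm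
  exact ⟨e2.trans e1⟩

theorem quot_equiv (d : P₁ →ₗ[A] P₀) :
    Nonempty ((↥(LinearMap.ker (d.rTensor N)) ⧸
      Submodule.comap (LinearMap.ker (d.rTensor N)).subtype
        (LinearMap.range ((LinearMap.ker d).subtype.rTensor N))) ≃ₗ[A]
      LinearMap.ker ((LinearMap.range d).subtype.rTensor N)) := by
  refine quot_abs ((LinearMap.ker d).subtype.rTensor N) (d.rangeRestrict.rTensor N)
    ((LinearMap.range d).subtype.rTensor N) (d.rTensor N) ?_ ?_ ?_
  · rw [← LinearMap.rTensor_comp]
    rfl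
  · exact LinearMap.rTensor_surjective N d.surjective_rangeRestrict
  · exact rTensor_exact N (exact1 d) d.surjective_rangeRestrict

theorem main [Module.Flat A P₁] [Module.Flat A P₀] (d : P₁ →ₗ[A] P₀) :
    Nonempty (LinearMap.ker ((LinearMap.ker d).subtype.rTensor N) ≃ₗ[A]
        DRing.Tor A 2 (P₀ ⧸ LinearMap.range d) N) ∧
      LinearMap.range ((LinearMap.ker d).subtype.rTensor N) ≤
        LinearMap.ker (d.rTensor N) ∧
      Nonempty ((↥(LinearMap.ker (d.rTensor N)) ⧸
          Submodule.comap (LinearMap.ker (d.rTensor N)).subtype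
            (LinearMap.range ((LinearMap.ker d).subtype.rTensor N))) ≃ₗ[A]
        DRing.Tor A 1 (P₀ ⧸ LinearMap.range d) N) := by
  let S' : ModuleCat.{u} A := ModuleCat.of A N
  let T₁ : ShortComplex (ModuleCat.{u} A) :=
    ShortComplex.mk (ModuleCat.ofHom (LinearMap.ker d).subtype) (ModuleCat.ofHom d.rangeRestrict)
      (by
        ext x
        exact congrArg Subtype.val ((exact1 d).apply_apply_eq_zero x))
  let T₂ : ShortComplex (ModuleCat.{u} A) :=
    ShortComplex.mk (ModuleCat.ofHom (LinearMap.range d).subtype)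
      (ModuleCat.ofHom (LinearMap.range d).mkQ)
      (by
        ext x
        exact (exact2 d).apply_apply_eq_zero x)
  have hT₁ : T₁.ShortExact := ModuleCat.shortComplex_shortExact T₁ (exact1 d)
    (Submodule.injective_subtype _) d.surjective_rangeRestrict
  have hT₂ : T₂.ShortExact := ModuleCat.shortComplex_shortExact T₂ (exact2 d)
    (Submodule.injective_subtype _) (Submodule.mkQ_surjective _)
  have hf1 : Module.Flat A T₁.X₂ := inferInstanceAs (Module.Flat A P₁)
  have hf0 : Module.Flat A T₂.X₂ := inferInstanceAs (Module.Flat A P₀)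
  obtain ⟨e1⟩ := L1 S' T₁ hT₁
  obtain ⟨e2⟩ := L2 S' T₂ hT₂
  obtain ⟨e3⟩ := L1 S' T₂ hT₂
  obtain ⟨e4⟩ := quot_equiv (N := N) d
  refine ⟨⟨e1.symm.trans e2.symm⟩, ?_, ⟨e4.trans e3.symm⟩⟩
  rintro _ ⟨w, rfl⟩
  rw [LinearMap.mem_ker, ← LinearMap.comp_apply, ← LinearMap.rTensor_comp]
  have : d ∘ₗ (LinearMap.ker d).subtype = 0 := by
    ext x
    exact x.2
  rw [this, LinearMap.rTensor_zero, LinearMap.zero_apply]

end Final



/-- Let A be a Noetherian local ring with residue field k, and d : P₁ → P₀ an A-linear map between flat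
A-modules, viewed as a two-term chain complex, so that H₁ = Ker d, H₀ = Coker d and H₁ of the
complex tensored with k is Ker(d ⊗ 1_k). Let α : (Ker d) ⊗_A k → P₁ ⊗_A k be the map induced by the
inclusion Ker d → P₁; its image lies in Ker(d ⊗ 1_k). Then there is an exact sequence 0 →
Tor₂^A(Coker d, k) → (Ker d) ⊗_A k → Ker(d ⊗ 1_k) → Tor₁^A(Coker d, k) → 0 with middle map α, stated
here as: Ker α is isomorphic to Tor₂^A(Coker d, k), and the quotient of Ker(d ⊗ 1_k) by the image of
α is isomorphic to Tor₁^A(Coker d, k) (existence of A-linear isomorphisms only; Tor is Mathlib's,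
left derived in the second variable). (In the published statement the cokernel is printed without
its prime, as the module of 0-cycles; the proof is about the cokernel of d.) -/
theorem result {A : Type u} [CommRing A] [IsNoetherianRing A]
    [IsLocalRing A] {P₁ P₀ : Type u} [AddCommGroup P₁] [Module A P₁] [AddCommGroup P₀] [Module A P₀]
    [Module.Flat A P₁] [Module.Flat A P₀] (d : P₁ →ₗ[A] P₀) :
    Nonempty (LinearMap.ker ((LinearMap.ker d).subtype.rTensor (IsLocalRing.ResidueField A)) ≃ₗ[A]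
        DRing.Tor A 2 (P₀ ⧸ LinearMap.range d) (IsLocalRing.ResidueField A)) ∧
      LinearMap.range ((LinearMap.ker d).subtype.rTensor (IsLocalRing.ResidueField A)) ≤
        LinearMap.ker (d.rTensor (IsLocalRing.ResidueField A)) ∧
      Nonempty ((↥(LinearMap.ker (d.rTensor (IsLocalRing.ResidueField A))) ⧸
          Submodule.comap (LinearMap.ker (d.rTensor (IsLocalRing.ResidueField A))).subtype
            (LinearMap.range ((LinearMap.ker d).subtype.rTensor (IsLocalRing.ResidueField A)))) ≃ₗ[A]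
        DRing.Tor A 1 (P₀ ⧸ LinearMap.range d) (IsLocalRing.ResidueField A)) := by
  exact main (N := IsLocalRing.ResidueField A) d

end Groth.Agent.S4499
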