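import Groth.Statements.S12250
import Mathlib

set_option autoImplicit false
universe u v
open CategoryTheory
open Deform

namespace Groth.Agent.S12250

section
open ArtFun
variable {Λ : Type u} {k : Type u} [CommRing Λ] [Field k] [Algebra Λ k]
variable (R : ArtFun.CRing Λ k) {F : ArtFun.Art Λ k ⥤ Type v}

theorem family_ext {ξ ξ' : ArtFun.Family R.carrier R.res F} (h : ∀ A φ, ξ.app A φ = ξ'.app A φ) :
    ξ = ξ' := by
  cases ξ; cases ξ'; congr; funext A φ; exact h A φ

theorem map_mem_max {A : ArtFun.Art Λ k} (φ : ArtFun.HomSet R.carrier R.res A) (r : R.carrier)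
    (hr : r ∈ IsLocalRing.maximalIdeal R.carrier) : φ.1 r ∈ IsLocalRing.maximalIdeal A := by
  rw [ArtFun.Art.mem_maximalIdeal_iff]
  have : A.res (φ.1 r) = R.res r := DFunLike.congr_fun φ.2 r
  rw [this]
  exact (ArtFun.CRing.mem_maximalIdeal_iff R r).mp hr

theorem exists_le_ker {A : ArtFun.Art Λ k} (φ : ArtFun.HomSet R.carrier R.res A) :
    ∃ n : ℕ, ArtFun.CRing.mpow R n ≤ RingHom.ker (φ.1 : R.carrier →+* A) := by
  obtain ⟨N, hN⟩ := IsArtinianRing.isNilpotent_jacobson_bot (R := A)
  rw [IsLocalRing.jacobson_eq_maximalIdeal ⊥ bot_ne_top] at hN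
  refine ⟨N, ?_⟩
  have h1 : (IsLocalRing.maximalIdeal R.carrier).map (φ.1 : R.carrier →+* A) ≤
      IsLocalRing.maximalIdeal A := by
    rw [Ideal.map_le_iff_le_comap]
    intro r hr
    exact map_mem_max R φ r hr
  have h2 : (ArtFun.CRing.mpow R N).map (φ.1 : R.carrier →+* A) ≤ ⊥ := by
    calc (ArtFun.CRing.mpow R N).map (φ.1 : R.carrier →+* A)
        = ((IsLocalRing.maximalIdeal R.carrier).map (φ.1 : R.carrier →+* A)) ^ (N + 1) :=
          Ideal.map_pow _ _ _
      _ ≤ (IsLocalRing.maximalIdeal A) ^ (N + 1) := Ideal.pow_right_mono h1 _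
      _ ≤ (IsLocalRing.maximalIdeal A) ^ N := Ideal.pow_le_pow_right (Nat.le_succ N)
      _ = ⊥ := hN
  intro r hr
  rw [RingHom.mem_ker]
  have := h2 (Ideal.mem_map_of_mem _ hr)
  exact this

noncomputable def fac {A : ArtFun.Art Λ k} (φ : ArtFun.HomSet R.carrier R.res A) (n : ℕ)
    (h : ArtFun.CRing.mpow R n ≤ RingHom.ker (φ.1 : R.carrier →+* A)) : R.trunc n ⟶ A :=
  ⟨Ideal.Quotient.liftₐ (ArtFun.CRing.mpow R n) φ.1 (fun a ha => h ha), by
    apply AlgHom.ext
    intro x
    obtain ⟨a, rfl⟩ := Ideal.Quotient.mk_surjective x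
    exact DFunLike.congr_fun φ.2 a⟩

theorem fac_succ {A : ArtFun.Art Λ k} (φ : ArtFun.HomSet R.carrier R.res A) (n : ℕ)
    (h : ArtFun.CRing.mpow R n ≤ RingHom.ker (φ.1 : R.carrier →+* A))
    (h' : ArtFun.CRing.mpow R (n + 1) ≤ RingHom.ker (φ.1 : R.carrier →+* A)) :
    fac R φ (n + 1) h' = R.truncMap n ≫ fac R φ n h := by
  apply ArtFun.Art.hom_ext
  apply AlgHom.ext
  intro x
  obtain ⟨a, rfl⟩ := Ideal.Quotient.mk_surjective x
  rfl

theorem fac_map {A B : ArtFun.Art Λ k} (f : A ⟶ B) (φ : ArtFun.HomSet R.carrier R.res A) (n : ℕ)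
    (h : ArtFun.CRing.mpow R n ≤ RingHom.ker (φ.1 : R.carrier →+* A))
    (h' : ArtFun.CRing.mpow R n ≤ RingHom.ker ((ArtFun.HomSet.map f φ).1 : R.carrier →+* B)) :
    fac R (ArtFun.HomSet.map f φ) n h' = fac R φ n h ≫ f := by
  apply ArtFun.Art.hom_ext
  apply AlgHom.ext
  intro x
  obtain ⟨a, rfl⟩ := Ideal.Quotient.mk_surjective x
  rfl

theorem le_ker_mono {A : ArtFun.Art Λ k} (φ : ArtFun.HomSet R.carrier R.res A) {n n' : ℕ}
    (hnn : n ≤ n') (h : ArtFun.CRing.mpow R n ≤ RingHom.ker (φ.1 : R.carrier →+* A)) :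
    ArtFun.CRing.mpow R n' ≤ RingHom.ker (φ.1 : R.carrier →+* A) :=
  le_trans (Ideal.pow_le_pow_right (Nat.succ_le_succ hnn)) h

theorem val_indep_aux (u : ArtFun.FormalElt F R) {A : ArtFun.Art Λ k}
    (φ : ArtFun.HomSet R.carrier R.res A) (n : ℕ)
    (h : ArtFun.CRing.mpow R n ≤ RingHom.ker (φ.1 : R.carrier →+* A)) (d : ℕ) :
    F.map (fac R φ (n + d) (le_ker_mono R φ (Nat.le_add_right n d) h)) (u.elt (n + d)) =
      F.map (fac R φ n h) (u.elt n) := by
  induction d with
  | zero => rfl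
  | succ d ih =>
    rw [← ih]
    have e := fac_succ R φ (n + d) (le_ker_mono R φ (Nat.le_add_right n d) h)
      (le_ker_mono R φ (Nat.le_add_right n (d + 1)) h)
    change F.map (fac R φ (n + d + 1) _) (u.elt (n + d + 1)) = _
    rw [e, F.map_comp, ← u.compat (n + d)]
    rfl

theorem val_indep (u : ArtFun.FormalElt F R) {A : ArtFun.Art Λ k}
    (φ : ArtFun.HomSet R.carrier R.res A) (n n' : ℕ)
    (h : ArtFun.CRing.mpow R n ≤ RingHom.ker (φ.1 : R.carrier →+* A))
    (h' : ArtFun.CRing.mpow R n' ≤ RingHom.ker (φ.1 : R.carrier →+* A)) :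
    F.map (fac R φ n h) (u.elt n) = F.map (fac R φ n' h') (u.elt n') := by
  rcases le_total n n' with hnn | hnn
  · obtain ⟨d, rfl⟩ := Nat.exists_eq_add_of_le hnn
    exact (val_indep_aux R u φ n h d).symm
  · obtain ⟨d, rfl⟩ := Nat.exists_eq_add_of_le hnn
    exact val_indep_aux R u φ n' h' d

noncomputable def ofFormal (u : ArtFun.FormalElt F R) : ArtFun.Family R.carrier R.res F where
  app A φ := F.map (fac R φ (Classical.choose (exists_le_ker R φ))
    (Classical.choose_spec (exists_le_ker R φ))) (u.elt _)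
  natural {A B} f φ := by
    have h := Classical.choose_spec (exists_le_ker R φ)
    have h' : ArtFun.CRing.mpow R (Classical.choose (exists_le_ker R φ)) ≤
        RingHom.ker ((ArtFun.HomSet.map f φ).1 : R.carrier →+* B) := by
      intro r hr
      have := h hr
      rw [RingHom.mem_ker] at this ⊢
      change f.toAlgHom (φ.1 r) = 0
      have h0 : φ.1 r = 0 := this
      rw [h0, map_zero]
    rw [val_indep R u (ArtFun.HomSet.map f φ) _ _
      (Classical.choose_spec (exists_le_ker R (ArtFun.HomSet.map f φ))) h',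
      fac_map R f φ _ h h', F.map_comp]
    rfl

theorem truncHom_le_ker (n : ℕ) :
    ArtFun.CRing.mpow R n ≤ RingHom.ker ((R.truncHom n).1 : R.carrier →+* R.trunc n) := by
  intro r hr
  rw [RingHom.mem_ker]
  exact Ideal.Quotient.eq_zero_iff_mem.mpr hr

theorem fac_truncHom (n : ℕ) : fac R (R.truncHom n) n (truncHom_le_ker R n) = 𝟙 _ := by
  apply ArtFun.Art.hom_ext
  apply AlgHom.ext
  intro x
  obtain ⟨a, rfl⟩ := Ideal.Quotient.mk_surjective x
  rfl

theorem map_fac_truncHom {A : ArtFun.Art Λ k} (φ : ArtFun.HomSet R.carrier R.res A) (n : ℕ)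
    (h : ArtFun.CRing.mpow R n ≤ RingHom.ker (φ.1 : R.carrier →+* A)) :
    ArtFun.HomSet.map (fac R φ n h) (R.truncHom n) = φ :=
  Subtype.ext (AlgHom.ext fun _ => rfl)

end


/-- Let k be an algebraically closed field, Λ a complete local Noetherian k-algebra with residue field
k, R a complete local Noetherian Λ-algebra with residue field k and F a set-valued functor on local
Artinian Λ-algebras with residue field k. Then the map sending a morphism of functors h_R → F to its
formal element (the compatible sequence of its values on the quotient maps R → R/m^(n+1), n ≥ 0) is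
a bijection between morphisms h_R → F and formal elements of F over R. -/
theorem result
    {k Λ : Type u} [Field k] [IsAlgClosed k] [CommRing Λ] [IsLocalRing Λ] [IsNoetherianRing Λ]
    [IsAdicComplete (IsLocalRing.maximalIdeal Λ) Λ] [Algebra k Λ] [Algebra Λ k] [IsScalarTower k Λ k]
    (R : ArtFun.CRing Λ k) (F : ArtFun.Art Λ k ⥤ Type v) :
    Function.Bijective (fun ξ : ArtFun.Family R.carrier R.res F => ξ.toFormalElt) := by
  constructor
  · intro ξ ξ' hξ
    apply family_ext
    intro A φ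
    obtain ⟨n, hn⟩ := exists_le_ker R φ
    have e := map_fac_truncHom R φ n hn
    rw [← e, ξ.natural, ξ'.natural]
    have h2 := congrArg (fun w => w.elt n) hξ
    change ξ.app _ (R.truncHom n) = ξ'.app _ (R.truncHom n) at h2
    rw [h2]
  · intro u
    refine ⟨ofFormal R u, ?_⟩
    apply ArtFun.FormalElt.ext'
    intro n
    change F.map (fac R (R.truncHom n) _ _) (u.elt _) = u.elt n
    rw [val_indep R u (R.truncHom n) _ n _ (truncHom_le_ker R n), fac_truncHom, F.map_id]
    rfl

end Groth.Agent.S12250
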