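import Groth.Statements.S12728
import Groth.Agent.Lib.Helper76.ArtFibre
import Groth.Agent.Lib.Helper94.ArtFun2
-- import your own Groth.Agent.* helpers here

set_option autoImplicit false
universe u v
open CategoryTheory
open ArtFun

namespace Groth.Agent.S12728

section

variable {Λ : Type u} {k : Type u} [CommRing Λ] [Field k] [Algebra Λ k]

open ArtFun.Art

theorem homSet_base_subsingleton {R : Type u} [CommRing R] [Algebra Λ R] {resR : R →ₐ[Λ] k}
    (φ ψ : HomSet R resR (base Λ k)) : φ = ψ := by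
  apply Subtype.ext
  have h1 := φ.2
  have h2 := ψ.2
  have e1 : φ.1 = resR := (AlgHom.id_comp _).symm.trans h1
  have e2 : ψ.1 = resR := (AlgHom.id_comp _).symm.trans h2
  exact e1.trans e2.symm

theorem homSet_map_comp {R : Type u} [CommRing R] [Algebra Λ R] {resR : R →ₐ[Λ] k}
    {A B C : Art Λ k} (f : A ⟶ B) (g : B ⟶ C) (φ : HomSet R resR A) :
    HomSet.map (f ≫ g) φ = HomSet.map g (HomSet.map f φ) :=
  Subtype.ext (AlgHom.ext fun _ => rfl)

theorem homSet_map_id {R : Type u} [CommRing R] [Algebra Λ R] {resR : R →ₐ[Λ] k}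
    {A : Art Λ k} (φ : HomSet R resR A) : HomSet.map (𝟙 A) φ = φ :=
  Subtype.ext (AlgHom.ext fun _ => rfl)

open Groth.Agent.Lib.Helper76 (surjective_induction fp_liftHomSet fp_map_fst_liftHomSet
  fp_map_snd_liftHomSet) in
open Groth.Agent.Lib.Helper94 (fibreProd fibreProdFst fibreProdSnd isFibreProd_fibreProd) in
/-- versality can be tested on small extensions, given the tangent and lifting conditions -/
theorem versal_of_conditions
    {F : ArtFun.Art Λ k ⥤ Type v} (h1 : ArtFun.S1 F) (h2 : ArtFun.Heps F)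
    {R : Type u} [CommRing R] [Algebra Λ R] {resR : R →ₐ[Λ] k} (ξ : ArtFun.Family R resR F)
    (ht : Function.Surjective (ArtFun.TangentSpace.ofFamily ξ))
    (hl : ∀ ⦃B A : ArtFun.Art Λ k⦄ (μ : B ⟶ A), ArtFun.Art.IsSmallExt μ →
          ∀ (φ : ArtFun.HomSet R resR A) (y : F.obj B), F.map μ y = ξ.app A φ →
            ∃ ψ : ArtFun.HomSet R resR B, ArtFun.HomSet.map μ ψ = φ) :
    ArtFun.IsVersal ξ := by
  intro B A μ hμ
  refine surjective_induction (Λ := Λ) (k := k)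
    (fun A B μ => ∀ (φ : HomSet R resR A) (y : F.obj B), F.map μ y = ξ.app A φ →
      ∃ ψ : HomSet R resR B, HomSet.map μ ψ = φ ∧ ξ.app B ψ = y) ?_ ?_ ?_ μ hμ
  · -- isomorphisms
    intro A B e he φ y hy
    refine ⟨HomSet.map (inv e) φ, ?_, ?_⟩
    · rw [← homSet_map_comp, IsIso.inv_hom_id, homSet_map_id]
    · rw [ξ.natural, ← hy, ← Functor.map_comp_apply, IsIso.hom_inv_id, Functor.map_id_apply]
  · -- small extensions
    intro A B μ hμ φ y hy
    obtain ⟨ψ₀, hψ₀⟩ := hl μ hμ φ y hy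
    have hy₀ : F.map μ (ξ.app B ψ₀) = F.map μ y := by
      rw [← ξ.natural, hψ₀, hy]
    have hP := isFibreProd_fibreProd μ μ hμ.1
    obtain ⟨z, hz⟩ := h1 _ _ _ _ hP hμ.1 ⟨(ξ.app B ψ₀, y), hy₀⟩
    have hz₁ : F.map (fibreProdFst μ μ hμ.1) z = ξ.app B ψ₀ := congrArg (fun t => t.1.1) hz
    have hz₂ : F.map (fibreProdSnd μ μ hμ.1) z = y := congrArg (fun t => t.1.2) hz
    obtain ⟨q, hq, -⟩ := Groth.Agent.Lib.Helper94.smallExt_exists_dual hμ
    obtain ⟨θ, hθ⟩ := ht (F.map q z)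
    have hθ' : ξ.app (dual Λ k) θ = F.map q z := hθ
    let χ := fp_liftHomSet hq ψ₀ θ (homSet_base_subsingleton _ _)
    have hχ₁ : HomSet.map (fibreProdFst μ μ hμ.1) χ = ψ₀ := fp_map_fst_liftHomSet hq _ _ _
    have hχ₂ : HomSet.map q χ = θ := fp_map_snd_liftHomSet hq _ _ _
    have hχz : ξ.app _ χ = z := by
      apply (h2 _ _ hq).1
      apply FibProd.ext
      · show F.map _ (ξ.app _ χ) = F.map _ z
        rw [← ξ.natural, hχ₁, hz₁]
      · show F.map q (ξ.app _ χ) = F.map q z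
        rw [← ξ.natural, hχ₂, hθ']
    refine ⟨HomSet.map (fibreProdSnd μ μ hμ.1) χ, ?_, ?_⟩
    · rw [← homSet_map_comp, ← hP.w, homSet_map_comp, hχ₁, hψ₀]
    · rw [ξ.natural, hχz, hz₂]
  · -- composition
    intro A B C p q hp hq φ y hy
    have hy' : F.map q (F.map p y) = ξ.app A φ := by
      rw [← Functor.map_comp_apply]; exact hy
    obtain ⟨ψB, hψB₁, hψB₂⟩ := hq φ (F.map p y) hy'
    obtain ⟨ψC, hψC₁, hψC₂⟩ := hp ψB y hψB₂.symm
    refine ⟨ψC, ?_, hψC₂⟩
    rw [homSet_map_comp, hψC₁, hψB₁]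

end

open ArtFun.Art in
theorem result' {Λ : Type u} {k : Type u} [CommRing Λ] [Field k] [Algebra Λ k]
    {F : ArtFun.Art Λ k ⥤ Type v} (h0 : ArtFun.H0 F) (h1 : ArtFun.S1 F) (h2 : ArtFun.Heps F)
    (R : ArtFun.CRing Λ k) (ξ : ArtFun.Family R.carrier R.res F) :
    ArtFun.IsVersal ξ ↔
      (Function.Surjective (ArtFun.TangentSpace.ofFamily ξ) ∧
        ∀ ⦃B A : ArtFun.Art Λ k⦄ (μ : B ⟶ A), ArtFun.Art.IsSmallExt μ →
          ∀ (φ : ArtFun.HomSet R.carrier R.res A) (y : F.obj B), F.map μ y = ξ.app A φ →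
            ∃ ψ : ArtFun.HomSet R.carrier R.res B, ArtFun.HomSet.map μ ψ = φ) := by
  constructor
  · intro hξ
    refine ⟨?_, ?_⟩
    · intro y
      let φ₀ : HomSet R.carrier R.res (base Λ k) := ⟨R.res, AlgHom.id_comp _⟩
      have hy : F.map (toBase (dual Λ k)) y = ξ.app _ φ₀ := h0.2.elim _ _
      obtain ⟨ψ, -, hψ⟩ := hξ (toBase (dual Λ k)) (dual Λ k).res_surjective φ₀ y hy
      exact ⟨ψ, hψ⟩
    · intro B A μ hμ φ y hy
      obtain ⟨ψ, hψ, -⟩ := hξ μ hμ.1 φ y hy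
      exact ⟨ψ, hψ⟩
  · rintro ⟨ht, hl⟩
    exact versal_of_conditions h1 h2 ξ ht hl

/-- For functors, let F be a functor on Artinian local Λ-algebras with residue field k with F(k) a
point, satisfying (S1) and (S2), and ξ a family of F over a complete local Noetherian R with residue
field k. Then ξ is versal if and only if (1) the map h_R(k[ε]) → F(k[ε]) on tangent spaces is
surjective, and (2) whenever μ : B → A is a small extension, φ : R → A, and y ∈ F(B) lies over ξ(φ),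
the map φ lifts to some R → B. -/
theorem result {Λ : Type u} {k : Type u} [CommRing Λ] [Field k] [Algebra Λ k]
    [IsNoetherianRing Λ] [Module.Finite Λ k]
    {F : ArtFun.Art Λ k ⥤ Type v} (h0 : ArtFun.H0 F) (h1 : ArtFun.S1 F) (h2 : ArtFun.Heps F)
    (R : ArtFun.CRing Λ k) (ξ : ArtFun.Family R.carrier R.res F) :
    ArtFun.IsVersal ξ ↔
      (Function.Surjective (ArtFun.TangentSpace.ofFamily ξ) ∧
        ∀ ⦃B A : ArtFun.Art Λ k⦄ (μ : B ⟶ A), ArtFun.Art.IsSmallExt μ →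
          ∀ (φ : ArtFun.HomSet R.carrier R.res A) (y : F.obj B), F.map μ y = ξ.app A φ →
            ∃ ψ : ArtFun.HomSet R.carrier R.res B, ArtFun.HomSet.map μ ψ = φ) := result' h0 h1 h2 R ξ

end Groth.Agent.S12728
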