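import Groth.Statements.S12715
import Mathlib.Tactic
-- import your own Groth.Agent.* helpers here

set_option autoImplicit false
universe u v
open CategoryTheory
open ArtFun

namespace Groth.Agent.S12715


open IsLocalRing in
theorem aux {Λ : Type u} {k : Type u} [CommRing Λ] [Field k] [Algebra Λ k]
    [Module.Finite Λ k]
    (S : Type u) [CommRing S] [Algebra Λ S] [IsLocalRing S] [IsNoetherianRing S]
    [Algebra S k] [IsScalarTower Λ S k]
    (hres : Function.Surjective (algebraMap S k)) :
    Module.Finite k (Derivation Λ S k) := by
  classical
  have hm : ∀ s : S, s ∈ maximalIdeal S ↔ algebraMap S k s = 0 := by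
    intro s
    have hmax : (RingHom.ker (algebraMap S k)).IsMaximal :=
      RingHom.ker_isMaximal_of_surjective _ hres
    rw [← IsLocalRing.eq_maximalIdeal hmax, RingHom.mem_ker]
  -- generators of the maximal ideal
  obtain ⟨G₁, hG₁⟩ := (IsNoetherian.noetherian (maximalIdeal S) : (maximalIdeal S).FG)
  -- generators of `k` over `Λ`, lifted to `S`
  obtain ⟨G₂, hG₂⟩ := (Module.Finite.fg_top : (⊤ : Submodule Λ k).FG)
  choose lift hlift using hres
  let G : Finset S := G₁ ∪ G₂.image lift
  let ev : Derivation Λ S k →ₗ[k] (G → k) :=
    { toFun := fun D g => D g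
      map_add' := fun D D' => rfl
      map_smul' := fun c D => rfl }
  have hev : Function.Injective ev := by
    rw [← LinearMap.ker_eq_bot, LinearMap.ker_eq_bot']
    intro D hD
    have hDG : ∀ g ∈ G, D g = 0 := fun g hg => congrFun hD ⟨g, hg⟩
    -- `D` vanishes on the maximal ideal
    have hDm : ∀ s ∈ maximalIdeal S, D s = 0 := by
      intro s hs
      rw [← hG₁] at hs
      refine Submodule.span_induction (p := fun s _ => D s = 0) ?_ ?_ ?_ ?_ hs
      · intro g hg
        exact hDG g (Finset.mem_union_left _ hg)
      · exact map_zero D
      · intro x y _ _ hx hy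
        rw [map_add, hx, hy, add_zero]
      · intro a x hx hDx
        have hxm : algebraMap S k x = 0 := by
          rw [← hm, ← hG₁]; exact hx
        rw [smul_eq_mul, D.leibniz, hDx, smul_zero, zero_add, Algebra.smul_def, hxm, zero_mul]
    -- `D` vanishes everywhere
    ext s
    have hs : algebraMap S k s ∈ Submodule.span Λ (G₂ : Set k) := by rw [hG₂]; trivial
    -- generalize: for every element `c` of the span, every `s` with residue `c` has `D s = 0`
    have key : ∀ c ∈ Submodule.span Λ (G₂ : Set k), ∀ s : S, algebraMap S k s = c → D s = 0 := by
      intro c hc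
      refine Submodule.span_induction
        (p := fun c _ => ∀ s : S, algebraMap S k s = c → D s = 0) ?_ ?_ ?_ ?_ hc
      · intro b hb s hsb
        have h1 : s - lift b ∈ maximalIdeal S := by
          rw [hm, map_sub, hsb, hlift, sub_self]
        have h2 := hDm _ h1
        rw [map_sub, hDG (lift b) (Finset.mem_union_right _ (Finset.mem_image_of_mem _ hb)),
          sub_zero] at h2
        exact h2
      · intro s hs0
        exact hDm s ((hm s).mpr hs0)
      · intro x y _ _ hx hy s hsxy
        have h1 : s - (lift x + lift y) ∈ maximalIdeal S := by
          rw [hm, map_sub, map_add, hsxy, hlift, hlift, sub_self]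
        have h2 := hDm _ h1
        rw [map_sub, map_add, hx _ (hlift x), hy _ (hlift y), add_zero, sub_zero] at h2
        exact h2
      · intro l x _ hx s hslx
        have e1 : algebraMap S k (l • lift x) = l • x := by
          rw [Algebra.smul_def, map_mul, hlift, ← IsScalarTower.algebraMap_apply,
            ← Algebra.smul_def]
        have h1 : s - l • lift x ∈ maximalIdeal S := by
          rw [hm, map_sub, hslx, e1, sub_self]
        have h2 := hDm _ h1
        rw [map_sub, D.map_smul, hx _ (hlift x), smul_zero, sub_zero] at h2
        exact h2
    exact key _ hs s rfl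
  exact Module.Finite.of_injective ev hev

/-- For Λ Noetherian with a finite map to the field k and S a complete local Noetherian Λ-algebra with
residue field k (through a surjective map S → k over Λ), the space of Λ-derivations S → k is
finite-dimensional over k. -/
theorem result {Λ : Type u} {k : Type u} [CommRing Λ] [Field k] [Algebra Λ k]
    [IsNoetherianRing Λ] [Module.Finite Λ k]
    (S : Type u) [CommRing S] [Algebra Λ S] [IsLocalRing S] [IsNoetherianRing S]
    [IsAdicComplete (IsLocalRing.maximalIdeal S) S] [Algebra S k] [IsScalarTower Λ S k]
    (hres : Function.Surjective (algebraMap S k)) :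
    Module.Finite k (Derivation Λ S k) := by
  exact aux S hres

end Groth.Agent.S12715
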