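import Groth.Statements.S12727
import Groth.Agent.Lib.Helper76.ArtFibre
-- import your own Groth.Agent.* helpers here

set_option autoImplicit false
universe u v
open CategoryTheory
open ArtFun

namespace Groth.Agent.S12727

open Groth.Agent.Lib.Helper76 ArtFun.Art in
/-- A versal family over a functor with `F(k)` a point is surjective on every object. -/
theorem versal_surjective {Λ : Type u} {k : Type u} [CommRing Λ] [Field k] [Algebra Λ k]
    {F : ArtFun.Art Λ k ⥤ Type v} (h0 : ArtFun.H0 F)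
    {R : Type u} [CommRing R] [Algebra Λ R] {resR : R →ₐ[Λ] k}
    (ξ : ArtFun.Family R resR F) (hξ : ArtFun.IsVersal ξ) (A : ArtFun.Art Λ k) :
    Function.Surjective (ξ.app A) := by
  intro y
  let φ₀ : HomSet R resR (Art.base Λ k) := ⟨resR, AlgHom.id_comp _⟩
  have hy : F.map (Art.toBase A) y = ξ.app _ φ₀ := h0.2.elim _ _
  obtain ⟨ψ, -, hψ⟩ := hξ (Art.toBase A) A.res_surjective φ₀ y hy
  exact ⟨ψ, hψ⟩

open Groth.Agent.Lib.Helper76 ArtFun.Art in
theorem result' {Λ : Type u} {k : Type u} [CommRing Λ] [Field k] [Algebra Λ k]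
    (F : ArtFun.Art Λ k ⥤ Type v) (h0 : ArtFun.H0 F) (hv : ArtFun.HasVersal F) :
    ArtFun.S1 F := by
  obtain ⟨⟨R, ξ, hξ⟩⟩ := hv
  intro B A A' A'' p' p'' f' f'' hfp hsurj y
  obtain ⟨φ', hφ'⟩ := versal_surjective h0 ξ hξ A' y.1.1
  have hy : F.map f'' y.1.2 = ξ.app A (HomSet.map f' φ') := by
    rw [ξ.natural, hφ', y.2]
  obtain ⟨ψ, hψ₁, hψ₂⟩ := hξ f'' hsurj (HomSet.map f' φ') y.1.2 hy
  let χ := fp_liftHomSet hfp φ' ψ hψ₁.symm
  refine ⟨ξ.app B χ, Subtype.ext (Prod.ext ?_ ?_)⟩
  · show F.map p' (ξ.app B χ) = y.1.1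
    rw [← ξ.natural, fp_map_fst_liftHomSet, hφ']
  · show F.map p'' (ξ.app B χ) = y.1.2
    rw [← ξ.natural, fp_map_snd_liftHomSet, hψ₂]

/-- For functors, a functor on Artinian local Λ-algebras with residue field k with F(k) a point which
admits a versal family (over a complete local Noetherian ring with residue field k) satisfies
condition (S1). -/
theorem result {Λ : Type u} {k : Type u} [CommRing Λ] [Field k] [Algebra Λ k]
    [IsNoetherianRing Λ] [Module.Finite Λ k]
    (F : ArtFun.Art Λ k ⥤ Type v) (h0 : ArtFun.H0 F) (hv : ArtFun.HasVersal F) :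
    ArtFun.S1 F := result' F h0 hv

end Groth.Agent.S12727
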