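import Groth.Statements.S12731
import Groth.Agent.S12727
import Groth.Agent.S12715
import Groth.Agent.Lib.Helper76.ArtFibre
-- import your own Groth.Agent.* helpers here

set_option autoImplicit false
universe u v
open CategoryTheory
open ArtFun

namespace Groth.Agent.S12731

section Aux2

open Groth.Agent.Lib.Helper76 ArtFun.Art

variable {Λ : Type u} {k : Type u} [CommRing Λ] [Field k] [Algebra Λ k]

theorem homSet_base_eq {R : Type u} [CommRing R] [Algebra Λ R] {resR : R →ₐ[Λ] k}
    (φ ψ : HomSet R resR (base Λ k)) : φ = ψ := by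
  apply Subtype.ext
  have e1 : φ.1 = resR := (AlgHom.id_comp _).symm.trans φ.2
  have e2 : ψ.1 = resR := (AlgHom.id_comp _).symm.trans ψ.2
  exact e1.trans e2.symm

theorem heps_of_miniversal {F : Art Λ k ⥤ Type v} (h0 : H0 F) (hS1 : S1 F)
    {R : Type u} [CommRing R] [Algebra Λ R] {resR : R →ₐ[Λ] k}
    (ξ : Family R resR F) (hv : IsVersal ξ) (hinj : Function.Injective (ξ.app (dual Λ k))) :
    Heps F := by
  intro B A' p' p'' hfp
  have hsurj'' : Function.Surjective (toBase (dual Λ k)) := (dual Λ k).res_surjective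
  refine ⟨?_, hS1 p' p'' _ _ hfp hsurj''⟩
  intro z₁ z₂ hz
  have hz' : F.map p' z₁ = F.map p' z₂ := congrArg (fun t => t.1.1) hz
  have hz'' : F.map p'' z₁ = F.map p'' z₂ := congrArg (fun t => t.1.2) hz
  obtain ⟨χ₁, hχ₁⟩ := Groth.Agent.S12727.versal_surjective h0 ξ hv B z₁
  have hp' : Function.Surjective p' := fp_fst_surjective hfp hsurj''
  obtain ⟨χ₂, hχ₂a, hχ₂b⟩ := hv p' hp' (HomSet.map p' χ₁) z₂ (by rw [ξ.natural, hχ₁, hz'])
  have hθ : HomSet.map p'' χ₁ = HomSet.map p'' χ₂ := by
    apply hinj
    rw [ξ.natural, ξ.natural, hχ₁, hχ₂b, hz'']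
  have : χ₁ = χ₂ := by
    apply Subtype.ext
    apply AlgHom.ext
    intro r
    apply hfp.inj
    · exact (AlgHom.congr_fun (congrArg Subtype.val hχ₂a) r).symm
    · exact AlgHom.congr_fun (congrArg Subtype.val hθ) r
  rw [← hχ₁, ← hχ₂b, this]

variable {R : Type u} [CommRing R] [Algebra Λ R] [Algebra R k] [IsScalarTower Λ R k]

/-- The derivation attached to a map `R → k[ε]`. -/
noncomputable def derOfAlgHom (φ : R →ₐ[Λ] TrivSqZeroExt k k)
    (hφ : ∀ r, TrivSqZeroExt.fst (φ r) = algebraMap R k r) : Derivation Λ R k where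
  toFun r := TrivSqZeroExt.snd (φ r)
  map_add' x y := by
    rw [map_add, TrivSqZeroExt.snd_add]
  map_smul' c x := by
    rw [map_smul, TrivSqZeroExt.snd_smul]
    rfl
  map_one_eq_zero' := by
    show TrivSqZeroExt.snd (φ 1) = 0
    rw [map_one, TrivSqZeroExt.snd_one]
  leibniz' a b := by
    show TrivSqZeroExt.snd (φ (a * b)) = a • TrivSqZeroExt.snd (φ b) + b • TrivSqZeroExt.snd (φ a)
    rw [map_mul, TrivSqZeroExt.snd_mul, hφ, hφ, Algebra.smul_def a, Algebra.smul_def b,
      MulOpposite.smul_eq_mul_unop, MulOpposite.unop_op, smul_eq_mul,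
      mul_comm (TrivSqZeroExt.snd (φ a))]

/-- The derivation attached to a map `R → k[ε]`. -/
noncomputable def derOf {resR : R →ₐ[Λ] k} (hres : ∀ r, resR r = algebraMap R k r)
    (θ : HomSet R resR (dual Λ k)) : Derivation Λ R k :=
  derOfAlgHom (θ.1 : R →ₐ[Λ] TrivSqZeroExt k k) (fun r => by
    rw [← hres]
    exact AlgHom.congr_fun θ.2 r)

theorem derOf_apply {resR : R →ₐ[Λ] k} (hres : ∀ r, resR r = algebraMap R k r)
    (θ : HomSet R resR (dual Λ k)) (r : R) :
    derOf hres θ r = TrivSqZeroExt.snd ((θ.1 : R →ₐ[Λ] TrivSqZeroExt k k) r) := rfl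

theorem derOf_injective {resR : R →ₐ[Λ] k} (hres : ∀ r, resR r = algebraMap R k r) :
    Function.Injective (derOf (Λ := Λ) hres) := by
  intro θ₁ θ₂ h
  apply Subtype.ext
  apply AlgHom.ext
  intro r
  apply TrivSqZeroExt.ext
  · exact (AlgHom.congr_fun θ₁.2 r).trans (AlgHom.congr_fun θ₂.2 r).symm
  · exact DFunLike.congr_fun h r

theorem hfin_of_miniversal {F : Art Λ k ⥤ Type v} [TangentStr F]
    [IsNoetherianRing Λ] [Module.Finite Λ k]
    [IsLocalRing R] [IsNoetherianRing R] [IsAdicComplete (IsLocalRing.maximalIdeal R) R]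
    (hsurj : Function.Surjective (algebraMap R k))
    {resR : R →ₐ[Λ] k} (hres : ∀ r, resR r = algebraMap R k r)
    (ξ : Family R resR F) (hbij : Function.Bijective (ξ.app (dual Λ k))) :
    Hfin F := by
  have : Module.Finite k (Derivation Λ R k) := Groth.Agent.S12715.result R hsurj
  let e : HomSet R resR (dual Λ k) ≃ TangentSpace F := Equiv.ofBijective _ hbij
  have he : ∀ θ, e θ = ξ.app (dual Λ k) θ := fun θ => rfl
  have hsymm : ∀ (v : TangentSpace F) θ, ξ.app (dual Λ k) θ = v → e.symm v = θ := by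
    intro v θ h
    rw [← h, ← he, Equiv.symm_apply_apply]
  let Ψ : TangentSpace F →ₗ[k] Derivation Λ R k :=
    { toFun := fun v => derOf hres (e.symm v)
      map_add' := by
        intro v w
        let χ : HomSet R resR (dual2 Λ k) :=
          fp_liftHomSet isFibreProd_dual2 (e.symm v) (e.symm w) (homSet_base_eq _ _)
        have h₁ : HomSet.map pr₁ χ = e.symm v := fp_map_fst_liftHomSet _ _ _ _
        have h₂ : HomSet.map pr₂ χ = e.symm w := fp_map_snd_liftHomSet _ _ _ _
        have hz := TangentStr.add_eq (F := F) (ξ.app _ χ)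
        rw [← ξ.natural, ← ξ.natural, ← ξ.natural, h₁, h₂, ← he, ← he, Equiv.apply_symm_apply,
          Equiv.apply_symm_apply] at hz
        have hvw : e.symm (v + w) = HomSet.map plus χ := hsymm _ _ hz.symm
        rw [hvw, ← h₁, ← h₂]
        apply Derivation.ext
        intro r
        rfl
      map_smul' := by
        intro c v
        have hz := TangentStr.smul_eq (F := F) c v
        have hv : v = ξ.app (dual Λ k) (e.symm v) := by rw [← he, Equiv.apply_symm_apply]
        rw [hv, ← ξ.natural] at hz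
        have hcv : e.symm (c • v) = HomSet.map (scale c) (e.symm v) := by
          apply hsymm
          rw [← hz, ← hv]
          rfl
        rw [hcv]
        apply Derivation.ext
        intro r
        rfl }
  have hΨ : Function.Injective Ψ := fun v w h => e.symm.injective (derOf_injective hres h)
  exact Module.Finite.of_injective Ψ hΨ

end Aux2

/-- For functors, if a functor F on Artinian local Λ-algebras with residue field k with F(k) a point has
a versal family over a complete local Noetherian ring with residue field k which is bijective on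
tangent spaces (a hull), then F satisfies (S1) and (S2) and has finite-dimensional tangent space. -/
theorem result {Λ : Type u} {k : Type u} [CommRing Λ] [Field k] [Algebra Λ k]
    [IsNoetherianRing Λ] [Module.Finite Λ k]
    (F : ArtFun.Art Λ k ⥤ Type v) [ArtFun.TangentStr F] (h0 : ArtFun.H0 F) (h : ArtFun.HasHull F) :
    ArtFun.S1 F ∧ ArtFun.Heps F ∧ ArtFun.Hfin F := by
  obtain ⟨⟨R, ξ, hversal, hbij⟩⟩ := h
  have hS1 : ArtFun.S1 F := Groth.Agent.S12727.result' F h0 ⟨⟨R, ξ, hversal⟩⟩
  refine ⟨hS1, heps_of_miniversal h0 hS1 ξ hversal hbij.1, ?_⟩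
  letI : Algebra R.carrier k := R.res.toRingHom.toAlgebra
  haveI : IsScalarTower Λ R.carrier k :=
    IsScalarTower.of_algebraMap_eq (fun x => (R.res.commutes x).symm)
  haveI := R.isAdicComplete
  exact hfin_of_miniversal (R := R.carrier) R.res_surjective (fun r => rfl) ξ hbij

end Groth.Agent.S12731
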