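import Groth.Statements.S12734
import Groth.Agent.Lib.Helper76.SchlHullExist
import Groth.Agent.Lib.Helper76.SchlProrep
import Groth.Agent.S12731
-- import your own Groth.Agent.* helpers here

set_option autoImplicit false
universe u v
open CategoryTheory
open ArtFun

namespace Groth.Agent.S12734

open Groth.Agent.Lib.Helper76 ArtFun.Art in
theorem prorep_of_conditions {Λ : Type u} {k : Type u} [CommRing Λ] [Field k] [Algebra Λ k]
    [IsNoetherianRing Λ] [Module.Finite Λ k]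
    (F : ArtFun.Art Λ k ⥤ Type v) [ArtFun.TangentStr F]
    (h0 : H0 F) (h1 : S1 F) (h2 : Heps F) (h3 : Hfin F)
    (hsq : ∀ ⦃B A A' : Art Λ k⦄ (p₁ p₂ : B ⟶ A') (f : A' ⟶ A) (h : IsFibreProd p₁ p₂ f f),
      IsSmallExt f → Function.Injective (cmp F h))
    (hc : ∀ (x₀ : F.obj (base Λ k)) (σ : base Λ k ⟶ dual Λ k),
      F.map σ x₀ = F.map baseToDual x₀ → σ = baseToDual) :
    IsProrepresentable F := by
  obtain ⟨R, ξ, hξ⟩ := exists_versal h0 h1 h2 h3
  obtain ⟨⟨R', ξ', hξ'⟩⟩ := hasHull_of_versal h0 h1 h2 hc R ξ hξ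
  exact ⟨⟨R', ξ', isUniversal_of_isMiniversal h0 hsq ξ' hξ'⟩⟩

open Groth.Agent.Lib.Helper76 ArtFun.Art in
theorem conditions_of_prorep {Λ : Type u} {k : Type u} [CommRing Λ] [Field k] [Algebra Λ k]
    [IsNoetherianRing Λ] [Module.Finite Λ k]
    (F : ArtFun.Art Λ k ⥤ Type v) [ArtFun.TangentStr F] (hF : IsProrepresentable F) :
    H0 F ∧ IsLeftExact F ∧ Hfin F ∧
      ∀ x₀ : F.obj (base Λ k), Function.Injective (fun σ : base Λ k ⟶ dual Λ k => F.map σ x₀) := by
  obtain ⟨⟨R, ξ, hξ⟩⟩ := hF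
  have h0 := h0_of_isUniversal ξ hξ
  refine ⟨h0, isLeftExact_of_isUniversal ξ hξ, ?_,
    fun x₀ => injective_map_base_of_isUniversal ξ hξ R.res_surjective x₀⟩
  exact (Groth.Agent.S12731.result F h0 ⟨⟨R, ξ, isMiniversal_of_isUniversal ξ hξ⟩⟩).2.2

/-- A functor F on Artinian local Λ-algebras with residue field k is prorepresentable if and only if (a)
F(k) is a point and F satisfies (RS): F(A₁ ×_A A₂) → F(A₁) ×_{F(A)} F(A₂) is bijective whenever A₂ →
A is surjective; (b) its tangent space is finite-dimensional; and (c) the map from morphisms k →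
k[ε] of the category (the Λ-derivations of k) to the tangent space, σ ↦ F(σ)(x₀), is injective.
Condition (c) is empty when k is separable over the image of Λ in k. -/
theorem result {Λ : Type u} {k : Type u} [CommRing Λ] [Field k] [Algebra Λ k]
    [IsNoetherianRing Λ] [Module.Finite Λ k]
    (F : ArtFun.Art Λ k ⥤ Type v) [ArtFun.TangentStr F] :
    ArtFun.IsProrepresentable F ↔
      ((ArtFun.H0 F ∧ (∀ ⦃B A A' A'' : ArtFun.Art Λ k⦄ (p' : B ⟶ A') (p'' : B ⟶ A'') (f' : A' ⟶ A) (f'' : A'' ⟶ A)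
        (h : ArtFun.Art.IsFibreProd p' p'' f' f''), Function.Surjective f'' → Function.Bijective (ArtFun.cmp F h))) ∧
        ArtFun.Hfin F ∧
        ∀ x₀ : F.obj (ArtFun.Art.base Λ k),
          Function.Injective (fun σ : ArtFun.Art.base Λ k ⟶ ArtFun.Art.dual Λ k => F.map σ x₀)) := by
  constructor
  · intro hF
    obtain ⟨h0, hle, h3, hc⟩ := conditions_of_prorep F hF
    exact ⟨⟨h0, fun B A A' A'' p' p'' f' f'' h _ => hle p' p'' f' f'' h⟩, h3, hc⟩
  · rintro ⟨⟨h0, hrs⟩, h3, hc⟩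
    have h1 : ArtFun.S1 F := fun B A A' A'' p' p'' f' f'' h hs => (hrs p' p'' f' f'' h hs).2
    have h2 : ArtFun.Heps F := fun B A' p' p'' h =>
      hrs p' p'' _ _ h (ArtFun.Art.dual Λ k).res_surjective
    refine prorep_of_conditions F h0 h1 h2 h3 ?_ ?_
    · intro B A A' p₁ p₂ f h hf
      exact (hrs p₁ p₂ f f h hf.1).1
    · intro x₀ σ hσ
      exact hc x₀ hσ

end Groth.Agent.S12734
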