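import Groth.Statements.S12709
import Groth.Agent.Lib.Lead.ArtBasic
-- import your own Groth.Agent.* helpers here

set_option autoImplicit false
universe u v
open CategoryTheory
open ArtFun ArtFun.Art

namespace Groth.Agent.S12709


open IsLocalRing in
/-- General form, for augmented local `Λ`-algebras. -/
theorem tfae_general {Λ : Type u} {k : Type u} [CommRing Λ] [Field k] [Algebra Λ k]
    (A B : Type u) [CommRing A] [CommRing B] [Algebra Λ A] [Algebra Λ B] [IsLocalRing A]
    [IsLocalRing B] (resA : A →ₐ[Λ] k) (resB : B →ₐ[Λ] k)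
    (hresA : Function.Surjective resA)
    (hmA : ∀ a : A, a ∈ maximalIdeal A ↔ resA a = 0) (hmB : ∀ b : B, b ∈ maximalIdeal B ↔ resB b = 0)
    [IsPrecomplete (maximalIdeal A) A] [IsHausdorff (maximalIdeal B) B]
    (hfg : (maximalIdeal B).FG)
    (f : A →ₐ[Λ] B) (hf : resB.comp f = resA) :
    List.TFAE [Function.Surjective f,
      Ideal.map f (maximalIdeal A) ⊔ maximalIdeal B ^ 2 = maximalIdeal B,
      Ideal.map (algebraMap Λ B) (RingHom.ker (algebraMap Λ k)) ⊔ Ideal.map f (maximalIdeal A) ⊔
        maximalIdeal B ^ 2 = maximalIdeal B] := by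
  have hres : ∀ a, resB (f a) = resA a := fun a => by rw [← hf]; rfl
  have hle : Ideal.map f (maximalIdeal A) ≤ maximalIdeal B := by
    rw [Ideal.map_le_iff_le_comap]
    intro a ha
    rw [Ideal.mem_comap, hmB]
    change resB (f a) = 0
    rw [hres, ← hmA]; exact ha
  have hsq : maximalIdeal B ^ 2 ≤ maximalIdeal B := Ideal.pow_le_self two_ne_zero
  have hΛA : Ideal.map (algebraMap Λ B) (RingHom.ker (algebraMap Λ k)) ≤
      Ideal.map f (maximalIdeal A) := by
    rw [Ideal.map_le_iff_le_comap]
    intro l hl
    rw [Ideal.mem_comap, ← f.commutes]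
    apply Ideal.mem_map_of_mem
    rw [hmA, resA.commutes]
    exact hl
  tfae_have 1 → 2 := by
    intro hsurj
    apply le_antisymm (sup_le hle hsq)
    intro b hb
    obtain ⟨a, rfl⟩ := hsurj b
    apply Ideal.mem_sup_left
    apply Ideal.mem_map_of_mem
    rw [hmA, ← hres, ← hmB]; exact hb
  tfae_have 2 → 3 := by
    intro h
    rw [sup_assoc, h]
    exact sup_eq_right.mpr (hΛA.trans hle)
  tfae_have 3 → 1 := by
    intro h
    have h2 : maximalIdeal B ≤ Ideal.map f (maximalIdeal A) ⊔ maximalIdeal B ^ 2 :=
      h.symm.le.trans (sup_le (sup_le (hΛA.trans le_sup_left) le_sup_left) le_sup_right)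
    have := Groth.Agent.Lib.Lead.ArtBasic.surjective_of_cotangent (f : A →+* B) hfg (by
      intro b
      obtain ⟨a, ha⟩ := hresA (resB b)
      refine ⟨a, ?_⟩
      rw [hmB, map_sub]
      change resB b - resB (f a) = 0
      rw [hres, ha, sub_self]) hle h2
    exact this
  tfae_finish

/-- Given a morphism f : A → B in the category of Artinian local Λ-algebras with residue field k, three
conditions coincide: (1) surjectivity of f; (2) f induces an onto map from the cotangent space of A
to the cotangent space of B, which in ideal-theoretic form says f(m_A)B + m_B² = m_B; (3) the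
induced map on cotangent spaces relative to Λ is surjective, written as m_Λ B + f(m_A)B + m_B² = m_B
with m_Λ the kernel of Λ → k. -/
theorem result {Λ : Type u} {k : Type u} [CommRing Λ] [Field k] [Algebra Λ k]
    [IsNoetherianRing Λ] [Module.Finite Λ k]
    {A B : ArtFun.Art Λ k} (f : A ⟶ B) :
    List.TFAE [Function.Surjective f,
      Ideal.map f.toAlgHom (IsLocalRing.maximalIdeal A) ⊔ IsLocalRing.maximalIdeal B ^ 2 = IsLocalRing.maximalIdeal B,
      Ideal.map (algebraMap Λ B) (RingHom.ker (algebraMap Λ k)) ⊔ Ideal.map f.toAlgHom (IsLocalRing.maximalIdeal A) ⊔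
        IsLocalRing.maximalIdeal B ^ 2 = IsLocalRing.maximalIdeal B] := by
  exact tfae_general A B A.res B.res A.res_surjective (ArtFun.Art.mem_maximalIdeal_iff A)
    (ArtFun.Art.mem_maximalIdeal_iff B) (IsNoetherian.noetherian _) f.toAlgHom f.res_comp

end Groth.Agent.S12709
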