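import Groth.Statements.S13981
import Groth.Agent.Lib.Helper94.ArtFun2
-- import your own Groth.Agent.* helpers here

set_option autoImplicit false
universe u v
open CategoryTheory
open ArtFun

namespace Groth.Agent.S13981

section Aux

open Groth.Agent.Lib.Helper94 ArtFun.Art

variable {Λ : Type u} {k : Type u} [CommRing Λ] [Field k] [Algebra Λ k]

/-- a surjective morphism of coefficient rings maps the maximal ideal onto the maximal ideal -/
theorem map_maximalIdeal_of_surjective {A' A : CRing Λ k} (g : A'.carrier →ₐ[Λ] A.carrier)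
    (hg : A.res.comp g = A'.res) (hgs : Function.Surjective g) :
    (IsLocalRing.maximalIdeal A'.carrier).map g = IsLocalRing.maximalIdeal A.carrier := by
  apply le_antisymm
  · exact Ideal.map_le_iff_le_comap.2 (CRing.maximalIdeal_le_comap g hg)
  · intro y hy
    obtain ⟨x, rfl⟩ := hgs y
    apply Ideal.mem_map_of_mem
    rw [CRing.mem_maximalIdeal_iff] at hy ⊢
    rw [← CRing.res_comp_apply g hg]
    exact hy

/-- the comparison map `A'/m^(n+2) → A'/m^(n+1) ×_{A/m^(n+1)} A/m^(n+2)` is surjective -/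
theorem exists_trunc_lift {A' A : CRing Λ k} (g : A'.carrier →ₐ[Λ] A.carrier)
    (hg : A.res.comp g = A'.res) (hgs : Function.Surjective g) (n : ℕ)
    (a' : A'.trunc n) (a : A.trunc (n + 1))
    (h : CRing.truncMapOfHom g hg n a' = A.truncMap n a) :
    ∃ x : A'.trunc (n + 1), A'.truncMap n x = a' ∧ CRing.truncMapOfHom g hg (n + 1) x = a := by
  obtain ⟨x', rfl⟩ := truncHom_surjective A' n a'
  obtain ⟨y, rfl⟩ := truncHom_surjective A (n + 1) a
  have h1 : y - g x' ∈ A.mpow n := by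
    have e1 : CRing.truncMapOfHom g hg n ((A'.truncHom n).1 x') = (A.truncHom n).1 (g x') := rfl
    have e2 : A.truncMap n ((A.truncHom (n + 1)).1 y) = (A.truncHom n).1 y := rfl
    rw [e1, e2] at h
    exact (truncHom_eq_iff A n _ _).1 h.symm
  have h2 : A.mpow n = (A'.mpow n).map g := by
    show IsLocalRing.maximalIdeal A.carrier ^ (n + 1) = Ideal.map g (IsLocalRing.maximalIdeal A'.carrier ^ (n + 1))
    rw [Ideal.map_pow, map_maximalIdeal_of_surjective g hg hgs]
  rw [h2] at h1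
  obtain ⟨z, hz, hgz⟩ := (Ideal.mem_map_iff_of_surjective g hgs).1 h1
  refine ⟨(A'.truncHom (n + 1)).1 (x' + z), ?_, ?_⟩
  · show (A'.truncHom n).1 (x' + z) = (A'.truncHom n).1 x'
    rw [truncHom_eq_iff]
    simpa using hz
  · show (A.truncHom (n + 1)).1 (g (x' + z)) = (A.truncHom (n + 1)).1 y
    rw [map_add, hgz]
    congr 1
    ring

theorem aux [IsNoetherianRing Λ] [Module.Finite Λ k]
    {F : ArtFun.Art Λ k ⥤ Type v}
    (hRS : ∀ ⦃B A A₁ A₂ : ArtFun.Art Λ k⦄ (p₁ : B ⟶ A₁) (p₂ : B ⟶ A₂) (f₁ : A₁ ⟶ A) (f₂ : A₂ ⟶ A)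
        (h : ArtFun.Art.IsFibreProd p₁ p₂ f₁ f₂), Function.Surjective f₂ → Function.Bijective (ArtFun.cmp F h))
    (R : ArtFun.CRing Λ k) (ξ : ArtFun.Family R.carrier R.res F) (hξ : ArtFun.IsVersal ξ)
    (A' A : ArtFun.CRing Λ k) (g : A'.carrier →ₐ[Λ] A.carrier) (hg : A.res.comp g = A'.res)
    (hgs : Function.Surjective g) (η' : ArtFun.FormalElt F A')
    (φ : R.carrier →ₐ[Λ] A.carrier) (hφ : A.res.comp φ = R.res)
    (hsq : (ξ.along φ hφ).toFormalElt = η'.push g hg) :
    ∃ (ψ : R.carrier →ₐ[Λ] A'.carrier) (hψ : A'.res.comp ψ = R.res),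
      g.comp ψ = φ ∧ (ξ.along ψ hψ).toFormalElt = η' := by
  -- the truncations of `φ`
  let φn : ∀ n, HomSet R.carrier R.res (A.trunc n) := fun n =>
    ⟨(A.truncHom n).1.comp φ, by rw [← AlgHom.comp_assoc, (A.truncHom n).2, hφ]⟩
  have hφn : ∀ n, ξ.app _ (φn n) = F.map (CRing.truncMapOfHom g hg n) (η'.elt n) := fun n =>
    congrArg (fun u : FormalElt F A => u.elt n) hsq
  have hφcompat : ∀ n, HomSet.map (A.truncMap n) (φn (n + 1)) = φn n := fun n =>
    Subtype.ext (AlgHom.ext fun _ => rfl)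
  have hgn_surj : ∀ n, Function.Surjective (CRing.truncMapOfHom g hg n) := by
    intro n y
    obtain ⟨y', rfl⟩ := truncHom_surjective A n y
    obtain ⟨x, rfl⟩ := hgs y'
    exact ⟨(A'.truncHom n).1 x, rfl⟩
  -- the property of the n-th approximation
  let P : ∀ n, HomSet R.carrier R.res (A'.trunc n) → Prop := fun n ψ =>
    HomSet.map (CRing.truncMapOfHom g hg n) ψ = φn n ∧ ξ.app _ ψ = η'.elt n
  -- base case
  have base : ∃ ψ, P 0 ψ := by
    obtain ⟨ψ, h1, h2⟩ := hξ (CRing.truncMapOfHom g hg 0) (hgn_surj 0) (φn 0) (η'.elt 0) (hφn 0).symm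
    exact ⟨ψ, h1, h2⟩
  -- inductive step
  have step : ∀ n (ψ : HomSet R.carrier R.res (A'.trunc n)), P n ψ →
      ∃ ψ' : HomSet R.carrier R.res (A'.trunc (n + 1)), P (n + 1) ψ' ∧
        HomSet.map (A'.truncMap n) ψ' = ψ := by
    rintro n ψ ⟨hψ1, hψ2⟩
    have hts : Function.Surjective (A.truncMap n) := by
      intro y
      obtain ⟨y', rfl⟩ := truncHom_surjective A n y
      exact ⟨(A.truncHom (n + 1)).1 y', rfl⟩
    let B := fibreProd (CRing.truncMapOfHom g hg n) (A.truncMap n) hts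
    let p₁ : B ⟶ A'.trunc n := fibreProdFst _ _ hts
    let p₂ : B ⟶ A.trunc (n + 1) := fibreProdSnd _ _ hts
    have hB : IsFibreProd p₁ p₂ (CRing.truncMapOfHom g hg n) (A.truncMap n) :=
      isFibreProd_fibreProd _ _ hts
    obtain ⟨q, hq1, hq2⟩ := IsFibreProd.exists_lift_hom hB (A'.truncMap n)
      (CRing.truncMapOfHom g hg (n + 1)) (CRing.truncMapOfHom_truncMap g hg n).symm
    have hqs : Function.Surjective q := by
      intro b
      obtain ⟨x, hx1, hx2⟩ := exists_trunc_lift g hg hgs n (p₁ b) (p₂ b) (hB.w_apply b)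
      refine ⟨x, hB.inj _ _ ?_ ?_⟩
      · rw [← hx1, ← hq1]; rfl
      · rw [← hx2, ← hq2]; rfl
    obtain ⟨χ, hχ1, hχ2⟩ := IsFibreProd.exists_lift hB ψ (φn (n + 1))
      (hψ1.trans (hφcompat n).symm)
    have hχ : F.map q (η'.elt (n + 1)) = ξ.app B χ := by
      apply (hRS p₁ p₂ _ _ hB hts).1
      apply FibProd.ext
      · show F.map p₁ (F.map q (η'.elt (n + 1))) = F.map p₁ (ξ.app B χ)
        rw [← ξ.natural, hχ1, hψ2, ← Functor.map_comp_apply, hq1, η'.compat]
      · show F.map p₂ (F.map q (η'.elt (n + 1))) = F.map p₂ (ξ.app B χ)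
        rw [← ξ.natural, hχ2, hφn, ← Functor.map_comp_apply, hq2]
    obtain ⟨ψ', h1, h2⟩ := hξ q hqs χ (η'.elt (n + 1)) hχ
    refine ⟨ψ', ⟨?_, h2⟩, ?_⟩
    · rw [← hχ2, ← h1, ← hq2]
      exact Subtype.ext (AlgHom.ext fun _ => rfl)
    · rw [← hχ1, ← h1, ← hq1]
      exact Subtype.ext (AlgHom.ext fun _ => rfl)
  -- the compatible sequence
  choose nxt hnxt using step
  let s : ∀ n, {ψ : HomSet R.carrier R.res (A'.trunc n) // P n ψ} := fun n =>
    Nat.rec (motive := fun n => {ψ : HomSet R.carrier R.res (A'.trunc n) // P n ψ})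
      ⟨base.choose, base.choose_spec⟩ (fun n ψ => ⟨nxt n ψ.1 ψ.2, (hnxt n ψ.1 ψ.2).1⟩) n
  have hs : ∀ n, HomSet.map (A'.truncMap n) (s (n + 1)).1 = (s n).1 := fun n =>
    (hnxt n (s n).1 (s n).2).2
  obtain ⟨ψ, hψ, hψn⟩ := exists_glue A' (fun n => (s n).1) hs
  refine ⟨ψ, hψ, ?_, ?_⟩
  · apply algHom_ext_of_truncHom A
    intro n
    have h1 : (HomSet.map (CRing.truncMapOfHom g hg n) (s n).1).1 = (φn n).1 :=
      congrArg Subtype.val (s n).2.1
    show (A.truncHom n).1.comp (g.comp ψ) = (φn n).1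
    rw [← h1]
    show _ = (CRing.truncMapOfHom g hg n).toAlgHom.comp (s n).1.1
    rw [← hψn n]
    exact AlgHom.ext fun _ => rfl
  · apply FormalElt.ext'
    intro n
    show ξ.app _ _ = η'.elt n
    rw [← (s n).2.2]
    congr 1
    exact Subtype.ext (hψn n)

end Aux

/-- Let F be a functor on Artinian local Λ-algebras with residue field k (Λ Noetherian, Λ → k finite and
surjective) satisfying (RS) — the comparison map for A₁ ×_A A₂ is bijective whenever A₂ → A is
surjective — and let ξ be a versal family of F over a complete local Noetherian Λ-algebra R with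
residue field k. Then the lifting property defining versality also holds along surjections of
complete local Noetherian algebras: if g : A' → A is such a surjection, η' is a formal element of F
over A' (a compatible system over the truncations A'/m^(n+1)) and φ : R → A is a map under which the
formal element of ξ becomes the pushforward of η' along g, then φ lifts to ψ : R → A' with g ∘ ψ = φ
and with ξ inducing η' along ψ. (The published statement takes Λ complete local Noetherian with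
residue field k; its proof does not use completeness of Λ, and this row assumes only Λ Noetherian
with Λ → k surjective.) -/
theorem result {Λ : Type u} {k : Type u} [CommRing Λ] [Field k]
    [Algebra Λ k] [IsNoetherianRing Λ] [Module.Finite Λ k] (hΛ : Function.Surjective (algebraMap Λ k))
    {F : ArtFun.Art Λ k ⥤ Type v}
    (hRS : ∀ ⦃B A A₁ A₂ : ArtFun.Art Λ k⦄ (p₁ : B ⟶ A₁) (p₂ : B ⟶ A₂) (f₁ : A₁ ⟶ A) (f₂ : A₂ ⟶ A)
        (h : ArtFun.Art.IsFibreProd p₁ p₂ f₁ f₂), Function.Surjective f₂ → Function.Bijective (ArtFun.cmp F h))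
    (R : ArtFun.CRing Λ k) (ξ : ArtFun.Family R.carrier R.res F) (hξ : ArtFun.IsVersal ξ)
    (A' A : ArtFun.CRing Λ k) (g : A'.carrier →ₐ[Λ] A.carrier) (hg : A.res.comp g = A'.res)
    (hgs : Function.Surjective g) (η' : ArtFun.FormalElt F A')
    (φ : R.carrier →ₐ[Λ] A.carrier) (hφ : A.res.comp φ = R.res)
    (hsq : (ξ.along φ hφ).toFormalElt = η'.push g hg) :
    ∃ (ψ : R.carrier →ₐ[Λ] A'.carrier) (hψ : A'.res.comp ψ = R.res),
      g.comp ψ = φ ∧ (ξ.along ψ hψ).toFormalElt = η' := aux hRS R ξ hξ A' A g hg hgs η' φ hφ hsq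

end Groth.Agent.S13981
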