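import Groth.Statements.S12718
import Groth.Agent.Lib.Helper76.PowEval
import Groth.Agent.Lib.Helper76.SchlProrep
import Groth.Agent.Lib.Helper94.ArtFun2
import Groth.Agent.S12714
import Groth.Agent.S13981
-- import your own Groth.Agent.* helpers here

set_option autoImplicit false
universe u v
open CategoryTheory
open ArtFun

namespace Groth.Agent.S12718

section Aux

open Groth.Agent.Lib.Helper76 Groth.Agent.Lib.Helper94 ArtFun.Art MvPowerSeries

variable {Λ : Type u} {k : Type u} [CommRing Λ] [Field k] [Algebra Λ k]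

theorem X_mem_maximalIdeal {A : Type*} [CommRing A] [IsLocalRing A] {n : ℕ} (i : Fin n) :
    (X i : MvPowerSeries (Fin n) A) ∈ IsLocalRing.maximalIdeal (MvPowerSeries (Fin n) A) := by
  rw [IsLocalRing.mem_maximalIdeal, mem_nonunits_iff, isUnit_iff_constantCoeff, constantCoeff_X]
  exact not_isUnit_zero

theorem versal_of_equiv [IsNoetherianRing Λ] [Module.Finite Λ k]
    (R S : CRing Λ k) [Algebra R.carrier S.carrier] [IsScalarTower Λ R.carrier S.carrier]
    (hRS : S.res.comp (IsScalarTower.toAlgHom Λ R.carrier S.carrier) = R.res)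
    (n : ℕ) (e : S.carrier ≃ₐ[R.carrier] MvPowerSeries (Fin n) R.carrier) :
    IsVersal ((Family.self R.carrier R.res).along
      (IsScalarTower.toAlgHom Λ R.carrier S.carrier) hRS) := by
  intro B A μ hμ φ y hy
  obtain ⟨y, hyres⟩ := y
  have hy' : ∀ r : R.carrier, μ (y r) = φ.1 (algebraMap R.carrier S.carrier r) := by
    intro r
    exact AlgHom.congr_fun (congrArg Subtype.val hy) r
  -- the images of the variables
  have hs : ∀ i : Fin n, S.res (e.symm (X i)) = 0 := by
    intro i
    rw [← CRing.mem_maximalIdeal_iff, IsLocalRing.mem_maximalIdeal, mem_nonunits_iff]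
    intro hu
    have h1 : IsUnit (e (e.symm (X i))) := hu.map e
    rw [e.apply_symm_apply] at h1
    exact (IsLocalRing.mem_maximalIdeal _).1 (X_mem_maximalIdeal i) h1
  choose b hb using fun i : Fin n => hμ (φ.1 (e.symm (X i)))
  have hbm : ∀ i, b i ∈ IsLocalRing.maximalIdeal (B : Type u) := by
    intro i
    rw [Art.mem_maximalIdeal_iff, ← Art.res_app μ, hb]
    exact (AlgHom.congr_fun φ.2 _).trans (hs i)
  let _ : Algebra R.carrier B := y.toRingHom.toAlgebra
  obtain ⟨ev, hev⟩ := exists_mvPowerSeries_eval' (Q := R.carrier) b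
    (IsLocalRing.maximalIdeal (B : Type u)) hbm
  have hevC : ∀ r : R.carrier, ev (C r) = y r := by
    intro r
    have := hev (MvPolynomial.C r)
    rw [MvPolynomial.coe_C, MvPolynomial.aeval_C] at this
    exact this
  have hevX : ∀ i, ev (X i) = b i := by
    intro i
    have := hev (MvPolynomial.X i)
    rw [MvPolynomial.coe_X, MvPolynomial.aeval_X] at this
    exact this
  have heC : ∀ r : R.carrier, e (algebraMap R.carrier S.carrier r) = C r := fun r => e.commutes r
  let ψ : S.carrier →ₐ[Λ] B :=
    { (ev.comp (e : S.carrier →+* MvPowerSeries (Fin n) R.carrier)) with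
      commutes' := fun c => by
        show ev (e (algebraMap Λ S.carrier c)) = algebraMap Λ B c
        rw [IsScalarTower.algebraMap_apply Λ R.carrier S.carrier, heC, hevC, y.commutes] }
  have hψ : ∀ s, ψ s = ev (e s) := fun _ => rfl
  -- compatibility with `φ`
  have hμψ : μ.toAlgHom.comp ψ = φ.1 := by
    have : (μ.toAlgHom : B →+* A).comp ev =
        (φ.1 : S.carrier →+* A).comp (e.symm : MvPowerSeries (Fin n) R.carrier →+* S.carrier) := by
      apply mvPowerSeries_ringHom_ext (IsLocalRing.maximalIdeal (A : Type u))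
      · intro r
        show μ (ev (C r)) = φ.1 (e.symm (C r))
        rw [hevC, hy', ← heC, e.symm_apply_apply]
      · intro i
        show μ (ev (X i)) = φ.1 (e.symm (X i))
        rw [hevX, hb]
      · intro i
        show μ (ev (X i)) ∈ _
        rw [hevX, Art.mem_maximalIdeal_iff, Art.res_app]
        exact (Art.mem_maximalIdeal_iff B _).1 (hbm i)
    apply AlgHom.ext
    intro s
    have h1 := RingHom.congr_fun this (e s)
    show μ (ev (e s)) = φ.1 s
    rw [← e.symm_apply_apply s]
    simpa using h1
  have hψres : B.res.comp ψ = S.res := by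
    rw [← μ.res_comp, AlgHom.comp_assoc, hμψ, φ.2]
  refine ⟨⟨ψ, hψres⟩, Subtype.ext hμψ, ?_⟩
  apply Subtype.ext
  apply AlgHom.ext
  intro r
  show ev (e (algebraMap R.carrier S.carrier r)) = y r
  rw [heC, hevC]

end Aux

section Aux2

open Groth.Agent.Lib.Helper76 Groth.Agent.Lib.Helper94 ArtFun.Art MvPowerSeries

variable {Λ : Type u} {k : Type u} [CommRing Λ] [Field k] [Algebra Λ k]

theorem X_mem_maximalIdeal' {A : Type*} [CommRing A] [IsLocalRing A] {n : ℕ} (i : Fin n) :
    (X i : MvPowerSeries (Fin n) A) ∈ IsLocalRing.maximalIdeal (MvPowerSeries (Fin n) A) := by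
  rw [IsLocalRing.mem_maximalIdeal, mem_nonunits_iff, isUnit_iff_constantCoeff, constantCoeff_X]
  exact not_isUnit_zero

theorem powCRing_maximalIdeal (R : CRing Λ k) (n : ℕ) :
    IsLocalRing.maximalIdeal (powCRing R n).carrier = bigIdeal (IsLocalRing.maximalIdeal R.carrier) :=
  pow_maximalIdeal_eq_bigIdeal R n

/-- the generation property used to choose the variables -/
def Gen (R S : CRing Λ k) [Algebra R.carrier S.carrier] (n : ℕ) : Prop :=
  ∃ x : Fin n → S.carrier, (∀ i, x i ∈ IsLocalRing.maximalIdeal S.carrier) ∧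
    IsLocalRing.maximalIdeal S.carrier ≤
      (IsLocalRing.maximalIdeal R.carrier).map (algebraMap R.carrier S.carrier) ⊔
        Ideal.span (Set.range x) ⊔ IsLocalRing.maximalIdeal S.carrier ^ 2

theorem remove_one (R S : CRing Λ k) [Algebra R.carrier S.carrier]
    (n : ℕ) (x : Fin n → S.carrier) (hxm : ∀ i, x i ∈ IsLocalRing.maximalIdeal S.carrier)
    (hgen : IsLocalRing.maximalIdeal S.carrier ≤
      (IsLocalRing.maximalIdeal R.carrier).map (algebraMap R.carrier S.carrier) ⊔
        Ideal.span (Set.range x) ⊔ IsLocalRing.maximalIdeal S.carrier ^ 2)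
    (j : Fin n)
    (hj : x j ∈ (IsLocalRing.maximalIdeal R.carrier).map (algebraMap R.carrier S.carrier) ⊔
        Ideal.span (x '' {i | i ≠ j}) ⊔ IsLocalRing.maximalIdeal S.carrier ^ 2) :
    ∃ m < n, Gen R S m := by
  rcases n with _ | m
  · exact j.elim0
  · refine ⟨m, Nat.lt_succ_self m, x ∘ j.succAbove, fun i => hxm _, ?_⟩
    have hrange : Set.range (x ∘ j.succAbove) = x '' {i | i ≠ j} := by
      rw [Set.range_comp, Fin.range_succAbove]
      congr 1
    rw [hrange]
    refine hgen.trans (sup_le (sup_le (le_sup_of_le_left le_sup_left) ?_) le_sup_right)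
    rw [Ideal.span_le]
    rintro _ ⟨i, rfl⟩
    by_cases hij : i = j
    · rw [hij]
      exact hj
    · exact Ideal.mem_sup_left (Ideal.mem_sup_right (Ideal.subset_span ⟨i, hij, rfl⟩))

theorem key [IsNoetherianRing Λ] [Module.Finite Λ k]
    (R S : CRing Λ k) [Algebra R.carrier S.carrier] [IsScalarTower Λ R.carrier S.carrier]
    (hRS : S.res.comp (IsScalarTower.toAlgHom Λ R.carrier S.carrier) = R.res)
    (hv : IsVersal ((Family.self R.carrier R.res).along
      (IsScalarTower.toAlgHom Λ R.carrier S.carrier) hRS))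
    (n : ℕ) (x : Fin n → S.carrier) (hxm : ∀ i, x i ∈ IsLocalRing.maximalIdeal S.carrier)
    (hgen : IsLocalRing.maximalIdeal S.carrier ≤
      (IsLocalRing.maximalIdeal R.carrier).map (algebraMap R.carrier S.carrier) ⊔
        Ideal.span (Set.range x) ⊔ IsLocalRing.maximalIdeal S.carrier ^ 2)
    (hmin : ∀ m < n, ¬ Gen R S m) :
    Nonempty (S.carrier ≃ₐ[R.carrier] MvPowerSeries (Fin n) R.carrier) := by
  classical
  have hSc := S.isAdicComplete
  obtain ⟨w₀, hw₀⟩ := exists_mvPowerSeries_eval' (Q := R.carrier) x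
    (IsLocalRing.maximalIdeal S.carrier) hxm
  have hw₀C : ∀ r : R.carrier, w₀ (C r) = algebraMap R.carrier S.carrier r := by
    intro r
    have := hw₀ (MvPolynomial.C r)
    rw [MvPolynomial.coe_C, MvPolynomial.aeval_C] at this
    exact this
  have hw₀X : ∀ i, w₀ (X i) = x i := by
    intro i
    have := hw₀ (MvPolynomial.X i)
    rw [MvPolynomial.coe_X, MvPolynomial.aeval_X] at this
    exact this
  let T := powCRing R n
  let w : MvPowerSeries (Fin n) R.carrier →ₐ[R.carrier] S.carrier :=
    { w₀ with commutes' := fun r => hw₀C r }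
  let wΛ : T.carrier →ₐ[Λ] S.carrier := w.restrictScalars Λ
  have hwΛ : ∀ t, wΛ t = w₀ t := fun _ => rfl
  have hresC : ∀ r : R.carrier, T.res (C r) = R.res r := by
    intro r
    show R.res (constantCoeff (C r : MvPowerSeries (Fin n) R.carrier)) = R.res r
    rw [constantCoeff_C]
  have hresX : ∀ i : Fin n, T.res (X i) = 0 := by
    intro i
    show R.res (constantCoeff (X i : MvPowerSeries (Fin n) R.carrier)) = 0
    rw [constantCoeff_X, map_zero]
  have hSι : ∀ r : R.carrier, S.res (algebraMap R.carrier S.carrier r) = R.res r :=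
    fun r => AlgHom.congr_fun hRS r
  have hwres : S.res.comp wΛ = T.res := by
    have : (S.res : S.carrier →+* k).comp w₀ = (T.res : T.carrier →+* k) := by
      apply mvPowerSeries_ringHom_ext (⊥ : Ideal k)
      · intro r
        show S.res (w₀ (C r)) = T.res (C r)
        rw [hw₀C, hSι, hresC]
      · intro i
        show S.res (w₀ (X i)) = T.res (X i)
        rw [hw₀X, hresX]
        exact (CRing.mem_maximalIdeal_iff S _).1 (hxm i)
      · intro i
        show S.res (w₀ (X i)) ∈ (⊥ : Ideal k)
        rw [hw₀X, Ideal.mem_bot]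
        exact (CRing.mem_maximalIdeal_iff S _).1 (hxm i)
    exact AlgHom.ext fun t => RingHom.congr_fun this t
  have hCm : ∀ r ∈ IsLocalRing.maximalIdeal R.carrier,
      (C r : T.carrier) ∈ IsLocalRing.maximalIdeal T.carrier := by
    intro r hr
    exact (CRing.mem_maximalIdeal_iff T _).2 ((hresC r).trans ((CRing.mem_maximalIdeal_iff R r).1 hr))
  have hXm : ∀ i : Fin n, (X i : T.carrier) ∈ IsLocalRing.maximalIdeal T.carrier := by
    intro i
    exact (CRing.mem_maximalIdeal_iff T _).2 (hresX i)
  have hmapw : Ideal.map wΛ (IsLocalRing.maximalIdeal T.carrier) ≤ IsLocalRing.maximalIdeal S.carrier :=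
    Ideal.map_le_iff_le_comap.2 (CRing.maximalIdeal_le_comap wΛ hwres)
  -- surjectivity of `w`
  have hsurj : Function.Surjective wΛ := by
    refine ((Groth.Agent.S12714.result T S wΛ hwres).out 0 1).2 ?_
    apply le_antisymm
    · exact sup_le hmapw (Ideal.pow_le_self two_ne_zero)
    · refine hgen.trans (sup_le_sup_right (sup_le ?_ ?_) _)
      · rw [Ideal.map_le_iff_le_comap]
        intro r hr
        rw [Ideal.mem_comap, ← hw₀C, ← hwΛ]
        exact Ideal.mem_map_of_mem _ (hCm r hr)
      · rw [Ideal.span_le]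
        rintro _ ⟨i, rfl⟩
        rw [← hw₀X, ← hwΛ]
        exact Ideal.mem_map_of_mem _ (hXm i)
  -- the section `v` of `w`
  have hRSle : ∀ ⦃B A A₁ A₂ : Art Λ k⦄ (p₁ : B ⟶ A₁) (p₂ : B ⟶ A₂) (f₁ : A₁ ⟶ A) (f₂ : A₂ ⟶ A)
      (h : IsFibreProd p₁ p₂ f₁ f₂), Function.Surjective f₂ →
        Function.Bijective (cmp (hR R.carrier R.res) h) := fun _ _ _ _ p₁ p₂ f₁ f₂ h _ =>
    isLeftExact_of_isUniversal (Family.self R.carrier R.res) (fun _ => Function.bijective_id)
      p₁ p₂ f₁ f₂ h
  let η' : FormalElt (hR R.carrier R.res) T :=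
    ((Family.self R.carrier R.res).along (powC R n) (powRes_comp_powC R n)).toFormalElt
  have hsq : (((Family.self R.carrier R.res).along
      (IsScalarTower.toAlgHom Λ R.carrier S.carrier) hRS).along (AlgHom.id Λ S.carrier)
        (AlgHom.comp_id _)).toFormalElt = η'.push wΛ hwres := by
    apply FormalElt.ext'
    intro m
    apply Subtype.ext
    apply AlgHom.ext
    intro r
    show (S.truncHom m).1 (algebraMap R.carrier S.carrier r) =
      (S.truncHom m).1 (wΛ (C r))
    rw [hwΛ, hw₀C]
  obtain ⟨v, hvres, hwv, hvη⟩ := Groth.Agent.S13981.aux hRSle S _ hv T S wΛ hwres hsurj η'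
    (AlgHom.id Λ S.carrier) (AlgHom.comp_id _) hsq
  have hvι : ∀ r : R.carrier, v (algebraMap R.carrier S.carrier r) = (C r : T.carrier) := by
    intro r
    have h1 : v.comp (IsScalarTower.toAlgHom Λ R.carrier S.carrier) = powC R n := by
      apply algHom_ext_of_truncHom T
      intro m
      exact congrArg (fun u : FormalElt (hR R.carrier R.res) T => (u.elt m).1) hvη
    exact AlgHom.congr_fun h1 r
  have hwv' : ∀ s, wΛ (v s) = s := fun s => AlgHom.congr_fun hwv s
  let e : T.carrier →ₐ[Λ] T.carrier := v.comp wΛ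
  have heres : T.res.comp e = T.res := by
    show T.res.comp (v.comp wΛ) = T.res
    rw [← AlgHom.comp_assoc, hvres, hwres]
  let v₀ : S.carrier →+* MvPowerSeries (Fin n) R.carrier := (v : S.carrier →+* T.carrier)
  let e₀ : MvPowerSeries (Fin n) R.carrier →+* MvPowerSeries (Fin n) R.carrier := v₀.comp w₀
  have he₀ : ∀ t, e₀ t = v₀ (w₀ t) := fun _ => rfl
  have hv₀ι : ∀ r : R.carrier, v₀ (algebraMap R.carrier S.carrier r) = C r := hvι
  have hw₀v₀ : ∀ s, w₀ (v₀ s) = s := hwv'
  have he₀C : ∀ r : R.carrier, e₀ (C r) = C r := by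
    intro r
    rw [he₀, hw₀C, hv₀ι]
  have hwe : ∀ t, w₀ (e₀ t) = w₀ t := fun t => hw₀v₀ (w₀ t)
  have hwC : w₀.comp (C : R.carrier →+* MvPowerSeries (Fin n) R.carrier) =
      algebraMap R.carrier S.carrier := RingHom.ext fun r => hw₀C r
  have hmapw' : Ideal.map w₀ (bigIdeal (IsLocalRing.maximalIdeal R.carrier)) ≤
      IsLocalRing.maximalIdeal S.carrier := by
    rw [← pow_maximalIdeal_eq_bigIdeal]
    exact hmapw
  have hresw : ∀ t : MvPowerSeries (Fin n) R.carrier, S.res (w₀ t) = R.res (constantCoeff t) :=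
    fun t => AlgHom.congr_fun hwres t
  -- the kernel of `w` consists of elements without linear part
  have hker : RingHom.ker w₀ ≤
      (IsLocalRing.maximalIdeal R.carrier).map (C : R.carrier →+* MvPowerSeries (Fin n) R.carrier) ⊔
        bigIdeal (IsLocalRing.maximalIdeal R.carrier) ^ 2 := by
    intro t ht
    rw [RingHom.mem_ker] at ht
    have hc₀ : constantCoeff t ∈ IsLocalRing.maximalIdeal R.carrier := by
      rw [CRing.mem_maximalIdeal_iff, ← hresw, ht, map_zero]
    have hsub := sub_linPart_mem (IsLocalRing.maximalIdeal R.carrier) t hc₀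
    by_cases hall : ∀ i, coeff (Finsupp.single i 1) t ∈ IsLocalRing.maximalIdeal R.carrier
    · have hlin : linPart t ∈ bigIdeal (IsLocalRing.maximalIdeal R.carrier) ^ 2 := by
        rw [linPart]
        apply Ideal.sum_mem
        intro i _
        rw [pow_two]
        apply Ideal.mul_mem_mul
        · exact Ideal.mem_sup_left (Ideal.mem_map_of_mem _ (hall i))
        · exact Ideal.mem_sup_right (Ideal.subset_span ⟨i, rfl⟩)
      have : t = (t - linPart t) + linPart t := by ring
      rw [this]
      exact Ideal.add_mem _ hsub (Ideal.mem_sup_right hlin)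
    · exfalso
      push Not at hall
      obtain ⟨j, hj⟩ := hall
      have hu : IsUnit (coeff (Finsupp.single j 1) t) := by
        by_contra h
        exact hj ((IsLocalRing.mem_maximalIdeal _).2 h)
      have h1 : w₀ (t - linPart t) ∈
          (IsLocalRing.maximalIdeal R.carrier).map (algebraMap R.carrier S.carrier) ⊔
            IsLocalRing.maximalIdeal S.carrier ^ 2 := by
        have h := Ideal.mem_map_of_mem w₀ hsub
        rw [Ideal.map_sup, Ideal.map_map, hwC, Ideal.map_pow] at h
        exact sup_le_sup_left (Ideal.pow_right_mono hmapw' 2) _ h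
      have h2 : w₀ (linPart t) =
          ∑ i : Fin n, algebraMap R.carrier S.carrier (coeff (Finsupp.single i 1) t) * x i := by
        rw [linPart, map_sum]
        apply Finset.sum_congr rfl
        intro i _
        rw [map_mul, hw₀C, hw₀X]
      have h3 : ∑ i : Fin n, algebraMap R.carrier S.carrier (coeff (Finsupp.single i 1) t) * x i ∈
          (IsLocalRing.maximalIdeal R.carrier).map (algebraMap R.carrier S.carrier) ⊔
            IsLocalRing.maximalIdeal S.carrier ^ 2 := by
        rw [← h2]
        have : w₀ (linPart t) = -w₀ (t - linPart t) := by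
          rw [map_sub, ht, zero_sub, neg_neg]
        rw [this]
        exact (Ideal.neg_mem_iff _).2 h1
      rw [← Finset.add_sum_erase Finset.univ _ (Finset.mem_univ j)] at h3
      have h4 : ∑ i ∈ Finset.univ.erase j,
          algebraMap R.carrier S.carrier (coeff (Finsupp.single i 1) t) * x i ∈
            Ideal.span (x '' {i | i ≠ j}) := by
        apply Ideal.sum_mem
        intro i hi
        apply Ideal.mul_mem_left
        exact Ideal.subset_span ⟨i, (Finset.mem_erase.1 hi).1, rfl⟩
      have h5 : algebraMap R.carrier S.carrier (coeff (Finsupp.single j 1) t) * x j ∈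
          (IsLocalRing.maximalIdeal R.carrier).map (algebraMap R.carrier S.carrier) ⊔
            Ideal.span (x '' {i | i ≠ j}) ⊔ IsLocalRing.maximalIdeal S.carrier ^ 2 := by
        have h6 := Ideal.sub_mem _
          (show _ ∈ (IsLocalRing.maximalIdeal R.carrier).map (algebraMap R.carrier S.carrier) ⊔
            Ideal.span (x '' {i | i ≠ j}) ⊔ IsLocalRing.maximalIdeal S.carrier ^ 2 from
            (sup_le (le_sup_of_le_left le_sup_left) le_sup_right :
              (IsLocalRing.maximalIdeal R.carrier).map (algebraMap R.carrier S.carrier) ⊔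
                IsLocalRing.maximalIdeal S.carrier ^ 2 ≤ _) h3)
          (Ideal.mem_sup_left (Ideal.mem_sup_right h4))
        rwa [add_sub_cancel_right] at h6
      obtain ⟨uu, huu⟩ := hu.map (algebraMap R.carrier S.carrier)
      have h7 : x j ∈ (IsLocalRing.maximalIdeal R.carrier).map (algebraMap R.carrier S.carrier) ⊔
            Ideal.span (x '' {i | i ≠ j}) ⊔ IsLocalRing.maximalIdeal S.carrier ^ 2 := by
        have := Ideal.mul_mem_left _ (↑uu⁻¹ : S.carrier) h5
        rwa [← huu, ← mul_assoc, Units.inv_mul, one_mul] at this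
      obtain ⟨m, hm, hgm⟩ := remove_one R S n x hxm hgen j h7
      exact hmin m hm hgm
  -- `e` is surjective
  have hesurj : Function.Surjective e := by
    refine ((Groth.Agent.S12714.result T T e heres).out 0 1).2 ?_
    show Ideal.map e₀ (IsLocalRing.maximalIdeal (MvPowerSeries (Fin n) R.carrier)) ⊔
      IsLocalRing.maximalIdeal (MvPowerSeries (Fin n) R.carrier) ^ 2 =
        IsLocalRing.maximalIdeal (MvPowerSeries (Fin n) R.carrier)
    have hle : Ideal.map e₀ (IsLocalRing.maximalIdeal (MvPowerSeries (Fin n) R.carrier)) ≤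
        IsLocalRing.maximalIdeal (MvPowerSeries (Fin n) R.carrier) :=
      Ideal.map_le_iff_le_comap.2 (CRing.maximalIdeal_le_comap e heres)
    apply le_antisymm
    · exact sup_le hle (Ideal.pow_le_self two_ne_zero)
    · have hCle : (IsLocalRing.maximalIdeal R.carrier).map
          (C : R.carrier →+* MvPowerSeries (Fin n) R.carrier) ≤
          Ideal.map e₀ (IsLocalRing.maximalIdeal (MvPowerSeries (Fin n) R.carrier)) := by
        rw [Ideal.map_le_iff_le_comap]
        intro r hr
        rw [Ideal.mem_comap, ← he₀C]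
        exact Ideal.mem_map_of_mem _ (hCm r hr)
      nth_rw 1 [pow_maximalIdeal_eq_bigIdeal R n]
      rw [bigIdeal]
      refine sup_le (hCle.trans le_sup_left) ?_
      rw [Ideal.span_le]
      rintro _ ⟨i, rfl⟩
      have hsplit : (X i : MvPowerSeries (Fin n) R.carrier) = e₀ (X i) + (X i - e₀ (X i)) := by ring
      rw [hsplit]
      apply Ideal.add_mem
      · exact Ideal.mem_sup_left (Ideal.mem_map_of_mem _ (hXm i))
      · have hk : (X i - e₀ (X i) : MvPowerSeries (Fin n) R.carrier) ∈ RingHom.ker w₀ := by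
          rw [RingHom.mem_ker, map_sub, hwe, sub_self]
        have := hker hk
        rw [← pow_maximalIdeal_eq_bigIdeal R n] at this
        exact sup_le_sup_right hCle _ this
  have heinj : Function.Injective e₀ :=
    injective_of_surjective_ringEnd' e₀ hesurj
  have hwinj : Function.Injective w := by
    intro a b hab
    apply heinj
    rw [he₀, he₀]
    exact congrArg v₀ hab
  exact ⟨(AlgEquiv.ofBijective w ⟨hwinj, hsurj⟩).symm⟩

end Aux2

section Main

open Groth.Agent.Lib.Helper76 ArtFun.Art MvPowerSeries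

variable {Λ : Type u} {k : Type u} [CommRing Λ] [Field k] [Algebra Λ k]

theorem exists_gen (R S : CRing Λ k) [Algebra R.carrier S.carrier] : ∃ n, Gen R S n := by
  classical
  obtain ⟨s, hs⟩ := (IsNoetherian.noetherian (IsLocalRing.maximalIdeal S.carrier) :
    (IsLocalRing.maximalIdeal S.carrier).FG)
  have hrange : Set.range (fun i : Fin s.card => (s.equivFin.symm i : S.carrier)) = (s : Set S.carrier) := by
    ext y
    constructor
    · rintro ⟨i, rfl⟩
      exact (s.equivFin.symm i).2
    · intro hy
      exact ⟨s.equivFin ⟨y, hy⟩, by simp⟩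
  refine ⟨s.card, fun i => (s.equivFin.symm i : S.carrier), ?_, ?_⟩
  · intro i
    rw [← hs]
    exact Ideal.subset_span (s.equivFin.symm i).2
  · rw [hrange]
    exact (le_of_eq hs.symm).trans (le_sup_of_le_left le_sup_right)

theorem aux [IsNoetherianRing Λ] [Module.Finite Λ k]
    (R S : ArtFun.CRing Λ k) [Algebra R.carrier S.carrier] [IsScalarTower Λ R.carrier S.carrier]
    (hRS : S.res.comp (IsScalarTower.toAlgHom Λ R.carrier S.carrier) = R.res) :
    ArtFun.IsVersal ((ArtFun.Family.self R.carrier R.res).along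
        (IsScalarTower.toAlgHom Λ R.carrier S.carrier) hRS) ↔
      ∃ n : ℕ, Nonempty (S.carrier ≃ₐ[R.carrier] MvPowerSeries (Fin n) R.carrier) := by
  classical
  constructor
  · intro hv
    have hP := exists_gen R S
    obtain ⟨x, hxm, hgen⟩ := Nat.find_spec hP
    exact ⟨Nat.find hP, key R S hRS hv (Nat.find hP) x hxm hgen (fun m hm => Nat.find_min hP hm)⟩
  · rintro ⟨n, ⟨e⟩⟩
    exact versal_of_equiv R S hRS n e

end Main

/-- Let R → S be a morphism of complete local Noetherian Λ-algebras with residue field k. The induced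
morphism h_S → h_R of functors on Artinian local Λ-algebras with residue field k (composition with R
→ S) is smooth if and only if S is isomorphic as an R-algebra to a power series ring R[[X₁, …, Xₙ]]
for some n. Smoothness of h_S → h_R is written as versality of the corresponding family of h_R over
S. -/
theorem result {Λ : Type u} {k : Type u} [CommRing Λ] [Field k] [Algebra Λ k]
    [IsNoetherianRing Λ] [Module.Finite Λ k]
    (R S : ArtFun.CRing Λ k) [Algebra R.carrier S.carrier] [IsScalarTower Λ R.carrier S.carrier]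
    (hRS : S.res.comp (IsScalarTower.toAlgHom Λ R.carrier S.carrier) = R.res) :
    ArtFun.IsVersal ((ArtFun.Family.self R.carrier R.res).along
        (IsScalarTower.toAlgHom Λ R.carrier S.carrier) hRS) ↔
      ∃ n : ℕ, Nonempty (S.carrier ≃ₐ[R.carrier] MvPowerSeries (Fin n) R.carrier) := aux R S hRS

end Groth.Agent.S12718
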