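import Groth.Statements.S12722
import Groth.Agent.S12718
-- import your own Groth.Agent.* helpers here

set_option autoImplicit false
universe u v
open CategoryTheory
open ArtFun

namespace Groth.Agent.S12722

section Aux

open ArtFun.Art

variable {Λ : Type u} {k : Type u} [CommRing Λ] [Field k] [Algebra Λ k]

/-- the base ring as a coefficient ring -/
noncomputable def baseCRing [IsLocalRing Λ] [IsNoetherianRing Λ]
    [IsAdicComplete (IsLocalRing.maximalIdeal Λ) Λ]
    (hk : Function.Surjective (algebraMap Λ k)) : CRing Λ k :=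
  { carrier := Λ
    res := Algebra.ofId Λ k
    res_surjective := hk
    isAdicComplete := inferInstance }

theorem homSet_base_subsingleton {res₀ : Λ →ₐ[Λ] k} (A : Art Λ k) (φ ψ : HomSet Λ res₀ A) : φ = ψ := by
  apply Subtype.ext
  apply AlgHom.ext
  intro c
  have h1 := φ.1.commutes c
  have h2 := ψ.1.commutes c
  rw [Algebra.algebraMap_self_apply] at h1 h2
  rw [h1, h2]

theorem aux [IsNoetherianRing Λ] [Module.Finite Λ k]
    [IsLocalRing Λ] [IsAdicComplete (IsLocalRing.maximalIdeal Λ) Λ]
    (hk : Function.Surjective (algebraMap Λ k)) (R : ArtFun.CRing Λ k) :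
    ArtFun.IsSmoothFunctor (ArtFun.hR R.carrier R.res) ↔
      ∃ n : ℕ, Nonempty (R.carrier ≃ₐ[Λ] MvPowerSeries (Fin n) Λ) := by
  let Λc : CRing Λ k := baseCRing hk
  let _ : Algebra Λc.carrier R.carrier := R.algebra
  have : IsScalarTower Λ Λc.carrier R.carrier := (inferInstance : IsScalarTower Λ Λ R.carrier)
  have hRS : R.res.comp (IsScalarTower.toAlgHom Λ Λc.carrier R.carrier) = Λc.res := by
    apply AlgHom.ext
    intro c
    exact R.res.commutes c
  have key := Groth.Agent.S12718.aux Λc R hRS
  refine Iff.trans ?_ key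
  constructor
  · intro hs B A μ hμ φ y hy
    obtain ⟨ψ, hψ⟩ := hs μ hμ φ
    exact ⟨ψ, hψ, homSet_base_subsingleton B _ _⟩
  · intro hv B A μ hμ φ
    let y : HomSet Λc.carrier Λc.res B := ⟨Algebra.ofId Λ B, by
      apply AlgHom.ext
      intro c
      exact B.res.commutes c⟩
    obtain ⟨ψ, hψ, -⟩ := hv μ hμ φ y (homSet_base_subsingleton A _ _)
    exact ⟨ψ, hψ⟩

end Aux

/-- (1) ⇔ (5): let Λ be a complete local Noetherian ring with residue field k. For a complete local
Noetherian Λ-algebra R with residue field k, the functor h_R on Artinian local Λ-algebras with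
residue field k is smooth if and only if R is isomorphic over Λ to a power series ring Λ[[x₁, …,
xₙ]] for some n. -/
theorem result {Λ : Type u} {k : Type u} [CommRing Λ] [Field k] [Algebra Λ k]
    [IsNoetherianRing Λ] [Module.Finite Λ k]
    [IsLocalRing Λ] [IsAdicComplete (IsLocalRing.maximalIdeal Λ) Λ]
    (hk : Function.Surjective (algebraMap Λ k)) (R : ArtFun.CRing Λ k) :
    ArtFun.IsSmoothFunctor (ArtFun.hR R.carrier R.res) ↔
      ∃ n : ℕ, Nonempty (R.carrier ≃ₐ[Λ] MvPowerSeries (Fin n) Λ) := aux hk R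

end Groth.Agent.S12722
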