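import Groth.Statements.S12289
import Mathlib

set_option autoImplicit false
universe u w m
open scoped TensorProduct
open DefT

namespace Groth.Agent.S12289

section Helpers

universe u' v' w' t' m'
open TensorProduct

theorem exists_factor {R : Type*} [CommRing R] {M N Q : Type*} [AddCommGroup M] [AddCommGroup N]
    [AddCommGroup Q] [Module R M] [Module R N] [Module R Q] (g : M →ₗ[R] N)
    (hg : Function.Surjective g) (φ : M →ₗ[R] Q) (h : LinearMap.ker g ≤ LinearMap.ker φ) :
    ∃ ψ : N →ₗ[R] Q, ψ ∘ₗ g = φ := by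
  refine ⟨(LinearMap.ker g).liftQ φ h ∘ₗ (g.quotKerEquivOfSurjective hg).symm.toLinearMap, ?_⟩
  ext x
  simp only [LinearMap.coe_comp, LinearEquiv.coe_coe, Function.comp_apply]
  have : (g.quotKerEquivOfSurjective hg).symm (g x) = Submodule.Quotient.mk x := by
    rw [LinearEquiv.symm_apply_eq]
    rfl
  rw [this, Submodule.liftQ_apply]

variable {A : Type u'} {B : Type v'} {ι : Type w'} {σ : Type t'}
variable [CommRing A] [CommRing B] [Algebra A B]
variable (P : Algebra.Presentation A B ι σ)

theorem toCot_surjective : Function.Surjective (CotT.toCot P) := by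
  intro y
  obtain ⟨x, rfl⟩ := Algebra.Extension.Cotangent.mk_surjective y
  have hx : (x : P.toExtension.Ring) ∈ LinearMap.range (CotT.jmap P) := by
    rw [CotT.range_jmap]
    exact x.2
  obtain ⟨f, hf⟩ := hx
  refine ⟨(1 : B) ⊗ₜ f, ?_⟩
  rw [CotT.toCot_tmul, one_smul]
  congr 1
  exact Subtype.ext hf

theorem one_tmul_eq_zero_of_mem_smul (g : CotT.relMod P)
    (hg : g ∈ P.toExtension.ker • (⊤ : Submodule P.toExtension.Ring (CotT.relMod P))) :
    ((1 : B) ⊗ₜ[P.toExtension.Ring] g : CotT.L1 P) = 0 := by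
  refine Submodule.smul_induction_on hg (fun r hr n _ => ?_) (fun x y hx hy => ?_)
  · rw [← TensorProduct.smul_tmul, Algebra.smul_def, mul_one]
    have : algebraMap P.toExtension.Ring B r = 0 := hr
    rw [this, TensorProduct.zero_tmul]
  · rw [TensorProduct.tmul_add, hx, hy, add_zero]

theorem ker_toCot_le_range_d2 : LinearMap.ker (CotT.toCot P) ≤ LinearMap.range (CotT.d2 P) := by
  intro z hz
  obtain ⟨f, rfl⟩ := TensorProduct.mk_surjective P.toExtension.Ring (CotT.relMod P) B
    P.toExtension.algebraMap_surjective z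
  rw [LinearMap.mem_ker, TensorProduct.mk_apply, CotT.toCot_tmul, one_smul,
    Algebra.Extension.Cotangent.mk_eq_zero_iff] at hz
  have hz' : CotT.jmap P f ∈ P.toExtension.ker ^ 2 := hz
  have hmap : (P.toExtension.ker • (⊤ : Submodule P.toExtension.Ring (CotT.relMod P))).map
      (CotT.jmap P) = P.toExtension.ker ^ 2 := by
    rw [Submodule.map_smul'', Submodule.map_top, CotT.range_jmap, pow_two, smul_eq_mul]
  rw [← hmap] at hz'
  obtain ⟨g, hg, hgf⟩ := hz'
  have hq : f - g ∈ CotT.relKer P := by
    change CotT.jmap P (f - g) = 0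
    rw [map_sub, hgf, sub_self]
  refine ⟨Submodule.Quotient.mk ((1 : B) ⊗ₜ ⟨f - g, hq⟩), ?_⟩
  rw [CotT.d2_mk_tmul, TensorProduct.mk_apply]
  change (1 : B) ⊗ₜ[P.toExtension.Ring] (f - g) = _
  rw [TensorProduct.tmul_sub, one_tmul_eq_zero_of_mem_smul P g hg, sub_zero]

theorem comp_cotangentComplex_eq_zero_iff {M : Type m'} [AddCommGroup M] [Module B M]
    (φ : CotT.L0 P →ₗ[B] M) :
    φ ∘ₗ CotT.d1 P = 0 ↔ φ ∘ₗ P.toExtension.cotangentComplex = 0 := by
  constructor
  · intro h
    ext y
    obtain ⟨z, rfl⟩ := toCot_surjective P y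
    exact LinearMap.congr_fun h z
  · intro h
    rw [CotT.d1, ← LinearMap.comp_assoc, h, LinearMap.zero_comp]

end Helpers


/-- Let k be a commutative ring and B a k-algebra presented as R/I with R = k[x_i] a polynomial ring
(any set of variables) and chosen generators of I, and let M be a B-module; T^0(B/k, M) and T^1(B/k,
M) are computed from this presentation. Then the sequence 0 → T^0(B/k, M) → Hom_B(Ω_{R/k} ⊗_R B, M)
→ Hom_B(I/I², M) → T^1(B/k, M) → 0 is exact, where the middle map is composition with the conormal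
map d : I/I² → Ω_{R/k} ⊗_R B and the last map sends φ to the class of φ ∘ (F/IF → I/I²): the
submodule T^0(B/k, M) of Hom_B(Ω_{R/k} ⊗ B, M) is the kernel of composition with d, the kernel of
Hom_B(I/I², M) → T^1(B/k, M) is the image of composition with d, and Hom_B(I/I², M) → T^1(B/k, M) is
surjective. (The published statement takes finitely many variables over a field and adds that the
same holds over any base ring; this row allows any base ring and any set of variables.) -/
theorem result
    (k B : Type u) [CommRing k] [CommRing B] [Algebra k B] (ι σ : Type w) (P : Algebra.Presentation k B ι σ)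
    (M : Type m) [AddCommGroup M] [Module B M] :
    LinearMap.ker (CotT.d1Star P M) = LinearMap.ker (LinearMap.lcomp B M P.toExtension.cotangentComplex) ∧
    LinearMap.ker (CotT.homToT1 P M) = LinearMap.range (LinearMap.lcomp B M P.toExtension.cotangentComplex) ∧
    Function.Surjective (CotT.homToT1 P M) := by
  refine ⟨?_, ?_, ?_⟩
  · ext φ
    rw [LinearMap.mem_ker, LinearMap.mem_ker, CotT.d1Star_apply, LinearMap.lcomp_apply']
    exact comp_cotangentComplex_eq_zero_iff P φ
  · ext φ
    rw [LinearMap.mem_ker, LinearMap.mem_range]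
    change (CotT.coboundaries1 P M).mkQ _ = 0 ↔ _
    rw [Submodule.mkQ_apply, Submodule.Quotient.mk_eq_zero]
    constructor
    · rintro ⟨ψ, hψ⟩
      refine ⟨ψ, ?_⟩
      rw [LinearMap.lcomp_apply']
      ext y
      obtain ⟨z, rfl⟩ := toCot_surjective P y
      have := LinearMap.congr_fun hψ z
      exact this
    · rintro ⟨ψ, hψ⟩
      refine ⟨ψ, ?_⟩
      rw [LinearMap.lcomp_apply'] at hψ
      change ψ ∘ₗ CotT.d1 P = φ ∘ₗ CotT.toCot P
      rw [← hψ, CotT.d1, LinearMap.comp_assoc]
  · intro t
    obtain ⟨c, rfl⟩ := Submodule.mkQ_surjective _ t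
    have hc : (c : CotT.L1 P →ₗ[B] M) ∘ₗ CotT.d2 P = 0 := c.2
    have hker : LinearMap.ker (CotT.toCot P) ≤ LinearMap.ker (c : CotT.L1 P →ₗ[B] M) := by
      intro z hz
      obtain ⟨w, rfl⟩ := ker_toCot_le_range_d2 P hz
      exact LinearMap.congr_fun hc w
    obtain ⟨φ, hφ⟩ := exists_factor (CotT.toCot P) (toCot_surjective P) _ hker
    refine ⟨φ, ?_⟩
    change (CotT.coboundaries1 P M).mkQ _ = _
    congr 1
    exact Subtype.ext hφ

end Groth.Agent.S12289
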