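import Mathlib
-- Template for statement S6575 (row 6574; see the milestone table for weights).
-- Copy to Groth/Agent/S6575.lean and replace the sorry. The statement below is byte-identical to the frozen
-- statement Curves.GrothFrozen.S6575 (Groth/Statements/S6575.lean; the theorem Curves.jacobian_minors_ideal_indep_of_generators);
-- the grader kernel-checks Groth.Agent.S6575.result against that frozen type. Keep the theorem IN THIS FILE
-- (a `result` declared elsewhere and merely imported here is not credited); helpers may live anywhere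
-- under Groth/Agent/.
import Groth.Statements.S6575


set_option autoImplicit false
universe u
open Curves

namespace Groth.Agent.S6575

/-- Cauchy–Binet, weak form: a minor of a product `X * Y` lies in the ideal of minors of `Y`. -/
theorem det_mul_mem {B : Type*} [CommRing B] {r m : ℕ} (X : Matrix (Fin r) (Fin m) B)
    (Y : Matrix (Fin m) (Fin r) B) :
    (X * Y).det ∈ Ideal.span {d : B | ∃ φ : Fin r → Fin m, Function.Injective φ ∧
      d = (Y.submatrix φ id).det} := by
  classical
  have hrow : (X * Y) = Matrix.of (fun t => ∑ j, X t j • Y j) := by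
    ext t k
    simp [Matrix.mul_apply, Finset.sum_apply]
  have hdet : (X * Y).det = ∑ φ : Fin r → Fin m, (∏ t, X t (φ t)) * (Y.submatrix φ id).det := by
    rw [hrow]
    show Matrix.detRowAlternating (fun t => ∑ j, X t j • Y j) = _
    rw [← AlternatingMap.coe_multilinearMap, MultilinearMap.map_sum]
    refine Finset.sum_congr rfl fun φ _ => ?_
    rw [MultilinearMap.map_smul_univ, smul_eq_mul]
    rfl
  rw [hdet]
  refine Ideal.sum_mem _ fun φ _ => ?_
  by_cases hφ : Function.Injective φ
  · exact Ideal.mul_mem_left _ _ (Ideal.subset_span ⟨φ, hφ, rfl⟩)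
  · have : (Y.submatrix φ id).det = 0 := by
      rw [Function.Injective] at hφ
      push Not at hφ
      obtain ⟨a, b, hab, hne⟩ := hφ
      refine Matrix.det_zero_of_row_eq hne ?_
      funext k
      simp [Matrix.submatrix_apply, hab]
    rw [this, mul_zero]
    exact Ideal.zero_mem _

theorem aux (k : Type u) [Field k] (n m l r : ℕ)
    (f : Fin m → MvPowerSeries (Fin n) k) (g : Fin l → MvPowerSeries (Fin n) k)
    (hfg : Ideal.span (Set.range f) = Ideal.span (Set.range g)) :
    Ideal.span {d : MvPowerSeries (Fin n) k | ∃ (ρ : Fin r → Fin m) (γ : Fin r → Fin n), Function.Injective ρ ∧ Function.Injective γ ∧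
          d = ((Matrix.of fun (j : Fin m) (i : Fin n) => MvPowerSeries.pderiv k i (f j)).submatrix ρ γ).det} ≤
      Ideal.span {d : MvPowerSeries (Fin n) k | ∃ (ρ : Fin r → Fin l) (γ : Fin r → Fin n), Function.Injective ρ ∧ Function.Injective γ ∧
          d = ((Matrix.of fun (j : Fin l) (i : Fin n) => MvPowerSeries.pderiv k i (g j)).submatrix ρ γ).det} ⊔ Ideal.span (Set.range g) := by
  classical
  rw [Ideal.span_le]
  rintro d ⟨ρ, γ, hρ, hγ, rfl⟩
  have hb : ∀ j, ∃ b : Fin l → MvPowerSeries (Fin n) k, ∑ s, b s * g s = f j := by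
    intro j
    have : f j ∈ Ideal.span (Set.range g) := hfg ▸ Ideal.subset_span ⟨j, rfl⟩
    exact (Ideal.mem_span_range_iff_exists_fun).mp this
  choose b hb using hb
  set I := Ideal.span (Set.range g) with hI
  let q := Ideal.Quotient.mk I
  let Jf : Matrix (Fin m) (Fin n) (MvPowerSeries (Fin n) k) :=
    Matrix.of fun j i => MvPowerSeries.pderiv k i (f j)
  let Jg : Matrix (Fin l) (Fin n) (MvPowerSeries (Fin n) k) :=
    Matrix.of fun j i => MvPowerSeries.pderiv k i (g j)
  let Bm : Matrix (Fin m) (Fin l) (MvPowerSeries (Fin n) k) := Matrix.of fun j s => b j s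
  have hq : ∀ j i, q (Jf j i) = q ((Bm * Jg) j i) := by
    intro j i
    show q (MvPowerSeries.pderiv k i (f j)) = q (∑ s, b j s * MvPowerSeries.pderiv k i (g s))
    rw [← hb j, map_sum, map_sum, map_sum]
    refine Finset.sum_congr rfl fun s _ => ?_
    rw [Derivation.leibniz, map_add, smul_eq_mul, smul_eq_mul, map_mul, map_mul]
    have : q (g s) = 0 := Ideal.Quotient.eq_zero_iff_mem.mpr (Ideal.subset_span ⟨s, rfl⟩)
    rw [this, zero_mul, add_zero]
  have hdet : q ((Jf.submatrix ρ γ).det) = q (((Bm * Jg).submatrix ρ γ).det) := by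
    rw [RingHom.map_det, RingHom.map_det]
    congr 1
    ext t u
    simp only [RingHom.mapMatrix_apply, Matrix.map_apply, Matrix.submatrix_apply]
    exact hq _ _
  have hmem : (Jf.submatrix ρ γ).det - ((Bm * Jg).submatrix ρ γ).det ∈ I := by
    rw [← Ideal.Quotient.eq_zero_iff_mem, map_sub, hdet, sub_self]
  have hprod : ((Bm * Jg).submatrix ρ γ) = (Bm.submatrix ρ id) * (Jg.submatrix id γ) := by
    ext t u
    simp [Matrix.mul_apply]
  have hminor : ((Bm * Jg).submatrix ρ γ).det ∈
      Ideal.span {d : MvPowerSeries (Fin n) k | ∃ (ρ : Fin r → Fin l) (γ : Fin r → Fin n), Function.Injective ρ ∧ Function.Injective γ ∧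
          d = ((Matrix.of fun (j : Fin l) (i : Fin n) => MvPowerSeries.pderiv k i (g j)).submatrix ρ γ).det} := by
    rw [hprod]
    refine Ideal.span_mono ?_ (det_mul_mem (Bm.submatrix ρ id) (Jg.submatrix id γ))
    rintro d ⟨φ, hφ, rfl⟩
    exact ⟨φ, γ, hφ, hγ, rfl⟩
  have : (Jf.submatrix ρ γ).det = ((Bm * Jg).submatrix ρ γ).det +
      ((Jf.submatrix ρ γ).det - ((Bm * Jg).submatrix ρ γ).det) := by ring
  show (Jf.submatrix ρ γ).det ∈ _
  rw [this]
  exact add_mem (Ideal.mem_sup_left hminor) (Ideal.mem_sup_right hmem)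

end Groth.Agent.S6575

namespace Groth.Agent.S6575

/-- Let k be a field, A = k[[x_1, …, x_n]] and I ⊆ A an ideal generated by f_1, …, f_m and also by g_1,
…, g_l. Then for every r ≥ 0 the ideal of A/I generated by the r × r minors of (∂f_j/∂x_i) equals
the one generated by the r × r minors of (∂g_s/∂x_i); stated in A as equality of the ideals
generated by the minors together with I. (The published result also asserts independence of the
regular system of parameters x_1, …, x_n, which is not stated here.) -/
theorem result (k : Type u) [Field k] (n m l r : ℕ)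
    (f : Fin m → MvPowerSeries (Fin n) k) (g : Fin l → MvPowerSeries (Fin n) k)
    (hfg : Ideal.span (Set.range f) = Ideal.span (Set.range g)) :
    Ideal.span {d : MvPowerSeries (Fin n) k | ∃ (ρ : Fin r → Fin m) (γ : Fin r → Fin n), Function.Injective ρ ∧ Function.Injective γ ∧
          d = ((Matrix.of fun (j : Fin m) (i : Fin n) => MvPowerSeries.pderiv k i (f j)).submatrix ρ γ).det} ⊔ Ideal.span (Set.range f) =
      Ideal.span {d : MvPowerSeries (Fin n) k | ∃ (ρ : Fin r → Fin l) (γ : Fin r → Fin n), Function.Injective ρ ∧ Function.Injective γ ∧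
          d = ((Matrix.of fun (j : Fin l) (i : Fin n) => MvPowerSeries.pderiv k i (g j)).submatrix ρ γ).det} ⊔ Ideal.span (Set.range g) := by
  refine le_antisymm (sup_le (aux k n m l r f g hfg) ?_) (sup_le (aux k n l m r g f hfg.symm) ?_)
  · rw [hfg]; exact le_sup_right
  · rw [← hfg]; exact le_sup_right

end Groth.Agent.S6575
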