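import Groth.Statements.S2221
import Groth.Agent.Lib.Helper94.DiscDual

set_option autoImplicit false
universe u
open Disc

namespace Groth.Agent.S2221

open TensorProduct in

/-- Affine finite free case: let A be a Noetherian ring and B an A-algebra which is finite free as an
A-module, and suppose omega = Hom_A(B, A) is an invertible B-module. Then the different of B over A
(the b with b omega inside B Trace) equals the Noether different of B over A. -/
theorem result {A B : Type u} [CommRing A]
    [CommRing B] [Algebra A B] [IsNoetherianRing A] [Module.Finite A B] [Module.Free A B]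
    [Module.Invertible B (Disc.Omega A B)] :
    Disc.differentSet A B = (Disc.noetherDifferent A B : Set B) := by
  rw [Groth.Agent.Lib.Helper94.DiscDual.noetherDifferent_eq_range]
  -- reformulate membership in the different
  have hmem : ∀ b : B, b ∈ Disc.differentSet A B ↔
      ∀ l : Disc.Omega A B, ∃ c : B, b • l = c • Disc.Omega.trace A B := by
    intro b
    constructor
    · intro hb l
      obtain ⟨c, hc⟩ := hb l.toLinearMap
      refine ⟨c, ?_⟩
      apply Disc.Omega.toLinearMap_injective
      apply LinearMap.ext
      intro x
      exact hc x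
    · intro hb φ
      obtain ⟨c, hc⟩ := hb ⟨φ⟩
      refine ⟨c, fun x => ?_⟩
      have := congrArg (fun l : Disc.Omega A B => l.toLinearMap x) hc
      exact this
  ext b
  rw [hmem]
  constructor
  · intro hb
    -- the evaluation at the trace
    let ev : Module.Dual B (Disc.Omega A B) →ₗ[B] B :=
      LinearMap.applyₗ (Disc.Omega.trace A B)
    have key : ∀ z : Module.Dual B (Disc.Omega A B) ⊗[B] Disc.Omega A B,
        b * contractLeft B (Disc.Omega A B) z ∈ LinearMap.range ev := by
      intro z
      induction z using TensorProduct.induction_on with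
      | zero => simp
      | tmul φ m =>
        obtain ⟨c, hc⟩ := hb m
        refine ⟨c • φ, ?_⟩
        change (c • φ) (Disc.Omega.trace A B) = b * φ m
        rw [LinearMap.smul_apply, ← map_smul, ← hc, map_smul, smul_eq_mul]
      | add z w hz hw =>
        rw [map_add, mul_add]
        exact Submodule.add_mem _ hz hw
    obtain ⟨z, hz⟩ := (Module.Invertible.bijective (R := B) (M := Disc.Omega A B)).2 1
    have := key z
    rw [hz, mul_one] at this
    obtain ⟨φ, hφ⟩ := this
    exact ⟨φ, hφ⟩
  · rintro ⟨Φ, rfl⟩ l
    refine ⟨Φ l, ?_⟩
    let g : Disc.Omega A B ⊗[B] Disc.Omega A B →ₗ[B] Disc.Omega A B :=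
      TensorProduct.lift ((LinearMap.lsmul B (Disc.Omega A B)).comp Φ)
    have h1 : g (Disc.Omega.trace A B ⊗ₜ[B] l) = Φ (Disc.Omega.trace A B) • l := by
      simp [g]
    have h2 : g (l ⊗ₜ[B] Disc.Omega.trace A B) = Φ l • Disc.Omega.trace A B := by
      simp [g]
    change Φ (Disc.Omega.trace A B) • l = _
    rw [← h1, ← h2, Module.Invertible.tmul_comm]


end Groth.Agent.S2221
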