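import Groth.Statements.S12716
import Groth.Agent.S12709
import Mathlib.Tactic

set_option autoImplicit false
universe u v
open CategoryTheory
open ArtFun

namespace Groth.Agent.S12716


open IsLocalRing in
theorem aux {Λ : Type u} {k : Type u} [CommRing Λ] [Field k] [Algebra Λ k]
    (R : Type u) [CommRing R] [Algebra Λ R] [IsLocalRing R]
    [IsPrecomplete (maximalIdeal R) R] (resR : R →ₐ[Λ] k) (hresR : Function.Surjective resR)
    (S : Type u) [CommRing S] [Algebra Λ S] [IsLocalRing S] [IsNoetherianRing S]
    [IsHausdorff (IsLocalRing.maximalIdeal S) S] [Algebra S k] [IsScalarTower Λ S k]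
    (hres : Function.Surjective (algebraMap S k))
    (f : R →ₐ[Λ] S) (hf : (IsScalarTower.toAlgHom Λ S k).comp f = resR)
    (hinj : ∀ D₁ D₂ : Derivation Λ S k, (∀ r : R, D₁ (f r) = D₂ (f r)) → D₁ = D₂) :
    Function.Surjective f := by
  have hmR : ∀ a : R, a ∈ maximalIdeal R ↔ resR a = 0 := by
    intro a
    have hmax : (RingHom.ker (resR : R →+* k)).IsMaximal :=
      RingHom.ker_isMaximal_of_surjective (resR : R →+* k) hresR
    rw [← IsLocalRing.eq_maximalIdeal hmax, RingHom.mem_ker]
    rfl
  have hmS : ∀ b : S, b ∈ maximalIdeal S ↔ algebraMap S k b = 0 := by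
    intro b
    have hmax : (RingHom.ker (algebraMap S k)).IsMaximal :=
      RingHom.ker_isMaximal_of_surjective (algebraMap S k) hres
    rw [← IsLocalRing.eq_maximalIdeal hmax, RingHom.mem_ker]
  have hfres : ∀ r : R, algebraMap S k (f r) = resR r := by
    intro r
    rw [← hf]; rfl
  have hfg : (maximalIdeal S).FG := (isNoetherianRing_iff_ideal_fg S).1 inferInstance _
  have htfae := Groth.Agent.S12709.tfae_general (Λ := Λ) (k := k) R S resR
    (IsScalarTower.toAlgHom Λ S k) hresR hmR (fun b => by rw [hmS]; rfl) hfg f hf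
  apply (htfae.out 1 0).1
  set I : Ideal S := Ideal.map f (maximalIdeal R) ⊔ maximalIdeal S ^ 2 with hI
  have hle : Ideal.map f (maximalIdeal R) ≤ maximalIdeal S := by
    rw [Ideal.map_le_iff_le_comap]
    intro a ha
    rw [Ideal.mem_comap, hmS, hfres, ← hmR]; exact ha
  have hIle : I ≤ maximalIdeal S := sup_le hle (Ideal.pow_le_self two_ne_zero)
  by_contra hne
  have hlt : I < maximalIdeal S := lt_of_le_of_ne hIle hne
  obtain ⟨x, hxm, hxI⟩ := Set.exists_of_ssubset hlt
  -- the quotient ring
  let S' := S ⧸ I
  let mk : S →+* S' := Ideal.Quotient.mk I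
  let g : R →+* S' := mk.comp (f : R →+* S)
  have hker : RingHom.ker (resR : R →+* k) ≤ RingHom.ker g := by
    intro r hr
    rw [RingHom.mem_ker]
    change mk (f r) = 0
    rw [Ideal.Quotient.eq_zero_iff_mem]
    apply Ideal.mem_sup_left
    apply Ideal.mem_map_of_mem
    rw [hmR]; exact hr
  let ι : k →+* S' := (resR : R →+* k).liftOfSurjective hresR ⟨g, hker⟩
  have hι : ∀ r : R, ι (resR r) = mk (f r) := fun r =>
    RingHom.liftOfSurjective_comp_apply (resR : R →+* k) hresR ⟨g, hker⟩ r
  letI : Module k S' := Module.compHom S' ι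
  have hsmul : ∀ (c : k) (y : S'), c • y = ι c * y := fun c y => rfl
  -- decomposition
  have hdec : ∀ s : S, ∃ m ∈ maximalIdeal S, mk s = ι (algebraMap S k s) + mk m := by
    intro s
    obtain ⟨r, hr⟩ := hresR (algebraMap S k s)
    refine ⟨s - f r, ?_, ?_⟩
    · rw [hmS, map_sub, hfres, hr, sub_self]
    · rw [← hr, hι, map_sub]; ring
  have hmm : ∀ m ∈ maximalIdeal S, ∀ m' ∈ maximalIdeal S, mk m * mk m' = 0 := by
    intro m hm m' hm'
    rw [← map_mul, Ideal.Quotient.eq_zero_iff_mem]
    apply Ideal.mem_sup_right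
    rw [sq]
    exact Ideal.mul_mem_mul hm hm'
  -- x is not in the span of 1
  have hx1 : mk x ∉ Submodule.span k {(1 : S')} := by
    intro hx
    obtain ⟨c, hc⟩ := Submodule.mem_span_singleton.1 hx
    rw [hsmul, mul_one] at hc
    obtain ⟨r, rfl⟩ := hresR c
    have hc' := hc
    rw [hι] at hc
    have h1 : f r - x ∈ I := by
      rw [← Ideal.Quotient.eq_zero_iff_mem, map_sub]
      change mk (f r) - mk x = 0
      rw [hc, sub_self]
    have h2 : f r ∈ maximalIdeal S := by
      have := Ideal.add_mem _ (hIle h1) hxm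
      simpa using this
    rw [hmS, hfres] at h2
    rw [h2, map_zero] at hc'
    apply hxI
    exact Ideal.Quotient.eq_zero_iff_mem.1 hc'.symm
  obtain ⟨φ, hφx, hφ⟩ := Submodule.exists_dual_map_eq_bot_of_notMem hx1 inferInstance
  have hφ1 : φ 1 = 0 := by
    have : φ 1 ∈ (Submodule.span k {(1 : S')}).map φ :=
      Submodule.mem_map_of_mem (Submodule.mem_span_singleton_self 1)
    rw [hφ] at this
    exact this
  have hφι : ∀ c : k, φ (ι c) = 0 := by
    intro c
    have : ι c = c • (1 : S') := by rw [hsmul, mul_one]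
    rw [this, map_smul, hφ1, smul_zero]
  have hφmul : ∀ (c : k) (y : S'), φ (ι c * y) = c * φ y := by
    intro c y
    rw [← hsmul, map_smul, smul_eq_mul]
  have hφmk : ∀ s : S, ∀ m : S, mk s = ι (algebraMap S k s) + mk m → φ (mk m) = φ (mk s) := by
    intro s m h
    rw [h, map_add, hφι, zero_add]
  let D : Derivation Λ S k :=
    { toFun := fun s => φ (mk s)
      map_add' := fun s s' => by rw [map_add, map_add]
      map_smul' := fun l s => by
        have h1 : mk (l • s) = ι (algebraMap Λ k l) * mk s := by
          rw [Algebra.smul_def, map_mul, ← f.commutes l]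
          congr 1
          rw [← hι, resR.commutes]
        rw [h1, hφmul, RingHom.id_apply, Algebra.smul_def]
      map_one_eq_zero' := by
        change φ (mk 1) = 0
        rw [map_one, hφ1]
      leibniz' := fun a b => by
        change φ (mk (a * b)) = a • φ (mk b) + b • φ (mk a)
        obtain ⟨m, hm, ha⟩ := hdec a
        obtain ⟨m', hm', hb⟩ := hdec b
        have h1 : mk (a * b) = ι (algebraMap S k a * algebraMap S k b) +
            ι (algebraMap S k a) * mk m' + ι (algebraMap S k b) * mk m := by
          rw [map_mul, ha, hb, map_mul]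
          have := hmm m hm m' hm'
          linear_combination this
        rw [h1, map_add, map_add, hφι, zero_add, hφmul, hφmul, hφmk b m' hb, hφmk a m ha,
          Algebra.smul_def, Algebra.smul_def] }
  have hD0 : D = 0 := by
    apply hinj
    intro r
    change φ (mk (f r)) = 0
    rw [← hι, hφι]
  apply hφx
  have : D x = 0 := by rw [hD0]; rfl
  exact this

/-- Let f : R → S be a morphism of complete local Noetherian Λ-algebras with residue field k (Λ
Noetherian, Λ → k finite). If the restriction map Der_Λ(S, k) → Der_Λ(R, k) is injective — two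
Λ-derivations S → k that agree after composing with f are equal — then f is surjective. -/
theorem result {Λ : Type u} {k : Type u} [CommRing Λ] [Field k] [Algebra Λ k]
    [IsNoetherianRing Λ] [Module.Finite Λ k]
    (R : ArtFun.CRing Λ k)
    (S : Type u) [CommRing S] [Algebra Λ S] [IsLocalRing S] [IsNoetherianRing S]
    [IsAdicComplete (IsLocalRing.maximalIdeal S) S] [Algebra S k] [IsScalarTower Λ S k]
    (hres : Function.Surjective (algebraMap S k))
    (f : R.carrier →ₐ[Λ] S) (hf : (IsScalarTower.toAlgHom Λ S k).comp f = R.res)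
    (hinj : ∀ D₁ D₂ : Derivation Λ S k, (∀ r : R.carrier, D₁ (f r) = D₂ (f r)) → D₁ = D₂) :
    Function.Surjective f := by
  haveI := R.isAdicComplete
  exact aux R.carrier R.res R.res_surjective S hres f hf hinj

end Groth.Agent.S12716
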