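import Groth.Statements.S12720
import Groth.Agent.S12727
import Groth.Agent.Lib.Helper94.ArtFun
-- import your own Groth.Agent.* helpers here

set_option autoImplicit false
universe u v
open CategoryTheory
open ArtFun

namespace Groth.Agent.S12720

open ArtFun.Art in
theorem truncMap_surjective {Λ : Type u} {k : Type u} [CommRing Λ] [Field k] [Algebra Λ k]
    (S : ArtFun.CRing Λ k) (n : ℕ) : Function.Surjective (S.truncMap n) := by
  intro y
  obtain ⟨a, rfl⟩ := Ideal.Quotient.mk_surjective y
  exact ⟨Ideal.Quotient.mk _ a, rfl⟩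

open ArtFun.Art in
theorem result' {Λ : Type u} {k : Type u} [CommRing Λ] [Field k] [Algebra Λ k]
    {F : ArtFun.Art Λ k ⥤ Type v} (h0 : ArtFun.H0 F)
    (R : ArtFun.CRing Λ k) (ξ : ArtFun.Family R.carrier R.res F) (hξ : ArtFun.IsVersal ξ)
    (S : ArtFun.CRing Λ k) (η : ArtFun.FormalElt F S) :
    ∃ (g : R.carrier →ₐ[Λ] S.carrier) (hg : S.res.comp g = R.res),
      (ξ.along g hg).toFormalElt = η := by
  classical
  -- the compatible system
  have hstep : ∀ (n : ℕ) (φ : {φ : HomSet R.carrier R.res (S.trunc n) // ξ.app _ φ = η.elt n}),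
      ∃ ψ : {ψ : HomSet R.carrier R.res (S.trunc (n + 1)) // ξ.app _ ψ = η.elt (n + 1)},
        HomSet.map (S.truncMap n) ψ.1 = φ.1 := by
    intro n φ
    have hy : F.map (S.truncMap n) (η.elt (n + 1)) = ξ.app _ φ.1 := by
      rw [η.compat, φ.2]
    obtain ⟨ψ, hψ₁, hψ₂⟩ := hξ (S.truncMap n) (truncMap_surjective S n) φ.1 (η.elt (n + 1)) hy
    exact ⟨⟨ψ, hψ₂⟩, hψ₁⟩
  obtain ⟨φ₀, hφ₀⟩ := Groth.Agent.S12727.versal_surjective h0 ξ hξ (S.trunc 0) (η.elt 0)
  let Φ : ∀ n, {φ : HomSet R.carrier R.res (S.trunc n) // ξ.app _ φ = η.elt n} :=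
    fun n => Nat.rec ⟨φ₀, hφ₀⟩ (fun n φ => Classical.choose (hstep n φ)) n
  have hΦ : ∀ n, HomSet.map (S.truncMap n) (Φ (n + 1)).1 = (Φ n).1 :=
    fun n => Classical.choose_spec (hstep n (Φ n))
  obtain ⟨g, hg, hglue⟩ := Groth.Agent.Lib.Helper94.exists_glue S (fun n => (Φ n).1) hΦ
  refine ⟨g, hg, ?_⟩
  apply FormalElt.ext'
  intro n
  show ξ.app _ _ = η.elt n
  rw [← (Φ n).2]
  congr 1
  exact Subtype.ext (hglue n)

/-- For functors, let F be a functor on Artinian local Λ-algebras with residue field k with F(k) a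
point, and ξ a versal family of F over a complete local Noetherian R with residue field k. Then
every formal element η of F over a complete local Noetherian S with residue field k is induced from
ξ: there is a morphism g : R → S (over Λ, compatible with the augmentations) such that the family
obtained from ξ by composing with g has formal element η. -/
theorem result {Λ : Type u} {k : Type u} [CommRing Λ] [Field k] [Algebra Λ k]
    [IsNoetherianRing Λ] [Module.Finite Λ k]
    {F : ArtFun.Art Λ k ⥤ Type v} (h0 : ArtFun.H0 F)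
    (R : ArtFun.CRing Λ k) (ξ : ArtFun.Family R.carrier R.res F) (hξ : ArtFun.IsVersal ξ)
    (S : ArtFun.CRing Λ k) (η : ArtFun.FormalElt F S) :
    ∃ (g : R.carrier →ₐ[Λ] S.carrier) (hg : S.res.comp g = R.res), (ξ.along g hg).toFormalElt = η := result' h0 R ξ hξ S η

end Groth.Agent.S12720
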