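import Groth.Statements.S12757
import Mathlib
import Groth.Agent.S12720
import Groth.Agent.S12716
import Groth.Agent.Lib.Helper94.ArtFun

set_option autoImplicit false
universe u v
open CategoryTheory
open ArtFun

namespace Groth.Agent.S12757

open ArtFun in
/-- pushing forward the formal element of `ξ.along g` along `f` gives that of `ξ.along (f ∘ g)` -/
theorem push_along {Λ : Type u} {k : Type u} [CommRing Λ] [Field k] [Algebra Λ k]
    {F : ArtFun.Art Λ k ⥤ Type v} {R₀ R' R : ArtFun.CRing Λ k}
    (ξ : ArtFun.Family R₀.carrier R₀.res F)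
    (g : R₀.carrier →ₐ[Λ] R'.carrier) (hg : R'.res.comp g = R₀.res)
    (f : R'.carrier →ₐ[Λ] R.carrier) (hf : R.res.comp f = R'.res)
    (hfg : R.res.comp (f.comp g) = R₀.res) :
    ((ξ.along g hg).toFormalElt).push f hf = (ξ.along (f.comp g) hfg).toFormalElt := by
  apply FormalElt.ext'
  intro n
  show F.map (CRing.truncMapOfHom f hf n) (ξ.app _ _) = ξ.app _ _
  rw [← ξ.natural]
  congr 1

open ArtFun in
/-- families with the same formal element agree everywhere -/
theorem family_app_eq {Λ : Type u} {k : Type u} [CommRing Λ] [Field k] [Algebra Λ k]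
    {F : ArtFun.Art Λ k ⥤ Type v} {R : ArtFun.CRing Λ k}
    (ξ₁ ξ₂ : ArtFun.Family R.carrier R.res F) (h : ξ₁.toFormalElt = ξ₂.toFormalElt)
    (A : ArtFun.Art Λ k) (u : ArtFun.HomSet R.carrier R.res A) : ξ₁.app A u = ξ₂.app A u := by
  obtain ⟨n, ubar, hu⟩ := Groth.Agent.Lib.Helper94.exists_factorTrunc R u
  rw [Groth.Agent.Lib.Helper94.family_app_eq_of_factor R ξ₁ u n ubar hu,
    Groth.Agent.Lib.Helper94.family_app_eq_of_factor R ξ₂ u n ubar hu, h]

open ArtFun in
/-- the augmented algebra map `R → k[ε]` attached to a derivation `R → k` -/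
noncomputable def ofDer {Λ : Type u} {k : Type u} [CommRing Λ] [Field k] [Algebra Λ k]
    (R : ArtFun.CRing Λ k) [Algebra R.carrier k] [IsScalarTower Λ R.carrier k]
    (hres : ∀ r, algebraMap R.carrier k r = R.res r)
    (D : Derivation Λ R.carrier k) : R.carrier →ₐ[Λ] DualNumber k where
  toFun r := (R.res r, D r)
  map_one' := TrivSqZeroExt.ext (map_one R.res) (by simp)
  map_mul' x y := TrivSqZeroExt.ext (map_mul R.res x y) (by
    change D (x * y) = R.res x • D y + MulOpposite.op (R.res y) • D x
    rw [Derivation.leibniz, op_smul_eq_smul, Algebra.smul_def, Algebra.smul_def, hres, hres]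
    rfl)
  map_zero' := TrivSqZeroExt.ext (map_zero R.res) (by simp)
  map_add' x y := TrivSqZeroExt.ext (map_add R.res x y) (by simp)
  commutes' c := TrivSqZeroExt.ext (by
      change R.res (algebraMap Λ R.carrier c) = (algebraMap Λ (TrivSqZeroExt k k) c).fst
      rw [TrivSqZeroExt.algebraMap_eq_inl', TrivSqZeroExt.fst_inl, R.res.commutes]) (by
      change D (algebraMap Λ R.carrier c) = (algebraMap Λ (TrivSqZeroExt k k) c).snd
      rw [TrivSqZeroExt.algebraMap_eq_inl', TrivSqZeroExt.snd_inl, Derivation.map_algebraMap])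


open ArtFun in
/-- main step: if `ξ` is injective on `k[ε]` and `(ξ.along h).toFormalElt = ξ.toFormalElt` for an
endomorphism `h` of `R`, then `h` is surjective. -/
theorem surjective_of_along_eq {Λ : Type u} {k : Type u} [CommRing Λ] [Field k] [Algebra Λ k]
    [IsNoetherianRing Λ] [Module.Finite Λ k]
    {F : ArtFun.Art Λ k ⥤ Type v} (R : ArtFun.CRing Λ k) (ξ : ArtFun.Family R.carrier R.res F)
    (hinj : Function.Injective (ξ.app (Art.dual Λ k)))
    (h : R.carrier →ₐ[Λ] R.carrier) (hh : R.res.comp h = R.res)
    (heq : (ξ.along h hh).toFormalElt = ξ.toFormalElt) : Function.Surjective h := by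
  have h2 := family_app_eq (ξ.along h hh) ξ heq
  have h3 : ∀ φ : HomSet R.carrier R.res (Art.dual Λ k), ∀ r, φ.1 (h r) = φ.1 r := by
    intro φ r
    have := hinj (h2 _ φ)
    exact congrArg (fun ψ : HomSet R.carrier R.res (Art.dual Λ k) => ψ.1 r) this
  letI alg : Algebra R.carrier k := R.res.toRingHom.toAlgebra
  have htower : IsScalarTower Λ R.carrier k :=
    IsScalarTower.of_algebraMap_eq (fun x => (R.res.commutes x).symm)
  have hcomplete := R.isAdicComplete
  have hres : ∀ r, algebraMap R.carrier k r = R.res r := fun r => rfl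
  refine Groth.Agent.S12716.result R R.carrier R.res_surjective h ?_ ?_
  · apply AlgHom.ext
    intro x
    exact congrArg (fun t => t x) hh
  · intro D₁ D₂ hD
    have key : ∀ D : Derivation Λ R.carrier k, ∀ r, D (h r) = D r := by
      intro D r
      have := h3 ⟨ofDer R hres D, AlgHom.ext fun x => rfl⟩ r
      exact congrArg TrivSqZeroExt.snd this
    ext r
    rw [← key D₁ r, ← key D₂ r, hD r]

/-- For functors, let F be a functor on Artinian local Λ-algebras with residue field k with F(k) a
point. A versal family of F over a complete local Noetherian R with residue field k which is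
bijective on tangent spaces (a hull; bijectivity implies bijectivity on orbits of the derivations of
k) is minimal: every morphism of coefficient rings R' → R along which some formal element over R'
pushes forward to the formal element of the family is surjective. -/
theorem result {Λ : Type u} {k : Type u} [CommRing Λ] [Field k] [Algebra Λ k]
    [IsNoetherianRing Λ] [Module.Finite Λ k]
    {F : ArtFun.Art Λ k ⥤ Type v} (h0 : ArtFun.H0 F) (P : ArtFun.Hull F) :
    P.family.IsMinimalVersal := by
  refine ⟨P.miniversal.1, fun R' u f hf hpush => ?_⟩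
  obtain ⟨g, hg, hgu⟩ := Groth.Agent.S12720.result h0 P.ring P.family P.miniversal.1 R' u
  have hfg : P.ring.res.comp (f.comp g) = P.ring.res := by
    rw [← AlgHom.comp_assoc, hf, hg]
  have h1 : (P.family.along (f.comp g) hfg).toFormalElt = P.family.toFormalElt := by
    rw [← push_along P.family g hg f hf hfg, hgu, hpush]
  have hs := surjective_of_along_eq P.ring P.family P.miniversal.2.1 (f.comp g) hfg h1
  intro y
  obtain ⟨x, hx⟩ := hs y
  exact ⟨g x, hx⟩

end Groth.Agent.S12757
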