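import Groth.Statements.S12758
import Mathlib
import Groth.Agent.S12720
import Groth.Agent.S12757

set_option autoImplicit false
universe u v
open CategoryTheory
open ArtFun

namespace Groth.Agent.S12758

theorem injective_of_surjective_endo {R : Type*} [CommRing R] [IsNoetherianRing R] (g : R →+* R)
    (hg : Function.Surjective g) : Function.Injective g := by
  have hmono : Monotone (fun n : ℕ => RingHom.ker (g ^ n)) := by
    apply monotone_nat_of_le_succ
    intro n x hx
    rw [RingHom.mem_ker] at hx ⊢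
    rw [pow_succ', RingHom.mul_def, RingHom.comp_apply, hx, map_zero]
  obtain ⟨n, hn⟩ := monotone_stabilizes_iff_noetherian.mpr (inferInstance : IsNoetherian R R)
    ⟨fun n : ℕ => RingHom.ker (g ^ n), hmono⟩
  rw [injective_iff_map_eq_zero]
  intro x hx
  have hsurj : Function.Surjective (g ^ n) := by
    rw [RingHom.coe_pow]; exact hg.iterate n
  obtain ⟨y, rfl⟩ := hsurj x
  have hy : y ∈ RingHom.ker (g ^ (n + 1)) := by
    rw [RingHom.mem_ker, pow_succ', RingHom.mul_def, RingHom.comp_apply, hx]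
  have := hn (n + 1) (Nat.le_succ n)
  have h2 : RingHom.ker (g ^ n) = RingHom.ker (g ^ (n + 1)) := this
  rw [← h2] at hy
  exact hy

open ArtFun in
theorem push_toFormalElt {Λ : Type u} {k : Type u} [CommRing Λ] [Field k] [Algebra Λ k]
    {F : ArtFun.Art Λ k ⥤ Type v} {R' R : ArtFun.CRing Λ k}
    (ξ : ArtFun.Family R'.carrier R'.res F)
    (f : R'.carrier →ₐ[Λ] R.carrier) (hf : R.res.comp f = R'.res) :
    (ξ.toFormalElt).push f hf = (ξ.along f hf).toFormalElt := by
  apply FormalElt.ext'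
  intro n
  show F.map (CRing.truncMapOfHom f hf n) (ξ.app _ _) = ξ.app _ _
  rw [← ξ.natural]
  congr 1

open ArtFun in
theorem along_congr {Λ : Type u} {k : Type u} [CommRing Λ] [Field k] [Algebra Λ k]
    {F : ArtFun.Art Λ k ⥤ Type v} {R' R : ArtFun.CRing Λ k}
    (ξ : ArtFun.Family R'.carrier R'.res F)
    (f f' : R'.carrier →ₐ[Λ] R.carrier) (h : f = f') (hf : R.res.comp f = R'.res)
    (hf' : R.res.comp f' = R'.res) : ξ.along f hf = ξ.along f' hf' := by
  subst h
  rfl

/-- For functors, two minimal versal families of a functor F on Artinian local Λ-algebras with residue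
field k with F(k) a point — over complete local Noetherian coefficient rings R₁, R₂ with residue
field k — are isomorphic: there is an isomorphism R₁ ≅ R₂ over Λ, compatible with the augmentations,
along which the formal element of the first family pushes forward to that of the second. -/
theorem result {Λ : Type u} {k : Type u} [CommRing Λ] [Field k] [Algebra Λ k]
    [IsNoetherianRing Λ] [Module.Finite Λ k]
    {F : ArtFun.Art Λ k ⥤ Type v} (h0 : ArtFun.H0 F) {R₁ R₂ : ArtFun.CRing Λ k}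
    (ξ₁ : ArtFun.Family R₁.carrier R₁.res F) (ξ₂ : ArtFun.Family R₂.carrier R₂.res F)
    (h₁ : ξ₁.IsMinimalVersal) (h₂ : ξ₂.IsMinimalVersal) :
    ∃ (e : R₁.carrier ≃ₐ[Λ] R₂.carrier) (he : R₂.res.comp (e : R₁.carrier →ₐ[Λ] R₂.carrier) = R₁.res),
      (ξ₁.along (e : R₁.carrier →ₐ[Λ] R₂.carrier) he).toFormalElt = ξ₂.toFormalElt := by
  obtain ⟨g₁, hg₁, e₁⟩ := Groth.Agent.S12720.result h0 R₁ ξ₁ h₁.1 R₂ ξ₂.toFormalElt
  obtain ⟨g₂, hg₂, e₂⟩ := Groth.Agent.S12720.result h0 R₂ ξ₂ h₂.1 R₁ ξ₁.toFormalElt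
  have s₁ : Function.Surjective g₁ :=
    h₂.2 R₁ ξ₁.toFormalElt g₁ hg₁ (by rw [push_toFormalElt, e₁])
  have s₂ : Function.Surjective g₂ :=
    h₁.2 R₂ ξ₂.toFormalElt g₂ hg₂ (by rw [push_toFormalElt, e₂])
  have inj : Function.Injective (g₂.comp g₁) :=
    injective_of_surjective_endo (g₂.comp g₁).toRingHom (s₂.comp s₁)
  have i₁ : Function.Injective g₁ := Function.Injective.of_comp inj
  have hcoe : ((AlgEquiv.ofBijective g₁ ⟨i₁, s₁⟩ : R₁.carrier ≃ₐ[Λ] R₂.carrier) :
      R₁.carrier →ₐ[Λ] R₂.carrier) = g₁ := AlgHom.ext fun _ => rfl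
  refine ⟨AlgEquiv.ofBijective g₁ ⟨i₁, s₁⟩, by rw [hcoe]; exact hg₁, ?_⟩
  rw [along_congr ξ₁ _ g₁ hcoe _ hg₁, e₁]

end Groth.Agent.S12758
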