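import Groth.Statements.S8719
import Mathlib
import Groth.Agent.S11741

set_option autoImplicit false
universe u
open VanCyc

namespace Groth.Agent.S8719

open MvPowerSeries in
theorem coeff_single_mul_X {k : Type u} [Field k] {d : ℕ} (c : MvPowerSeries (Fin d) k)
    (l l' : Fin d) :
    MvPowerSeries.coeff (Finsupp.single l 1) (c * MvPowerSeries.X l') =
      if l = l' then MvPowerSeries.constantCoeff c else 0 := by
  classical
  split_ifs with h
  · subst h
    have := MvPowerSeries.coeff_add_mul_monomial (0 : Fin d →₀ ℕ) (Finsupp.single l 1) c (1 : k)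
    rw [zero_add, mul_one] at this
    exact this
  · have hdvd : (MvPowerSeries.X l' : MvPowerSeries (Fin d) k) ∣ c * MvPowerSeries.X l' :=
      Dvd.intro_left c rfl
    rw [MvPowerSeries.X_dvd_iff] at hdvd
    apply hdvd
    rw [Finsupp.single_apply, if_neg h]

theorem mem_sq_of_low_terms {k : Type u} [Field k] (d : ℕ) (g : MvPowerSeries (Fin d) k)
    (h0 : MvPowerSeries.constantCoeff g = 0)
    (h1 : ∀ l : Fin d, MvPowerSeries.coeff (Finsupp.single l 1) g = 0) :
    g ∈ IsLocalRing.maximalIdeal (MvPowerSeries (Fin d) k) •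
      IsLocalRing.maximalIdeal (MvPowerSeries (Fin d) k) := by
  have hg := Groth.Agent.S11740.mem_span_X_of_constantCoeff_eq_zero d g h0
  rw [Ideal.mem_span_range_iff_exists_fun] at hg
  obtain ⟨c, hc⟩ := hg
  have hcl : ∀ l, MvPowerSeries.constantCoeff (c l) = 0 := by
    intro l
    have := h1 l
    rw [← hc, map_sum] at this
    simp only [coeff_single_mul_X] at this
    rw [Finset.sum_ite_eq Finset.univ l] at this
    simpa using this
  rw [← hc]
  refine Ideal.sum_mem _ fun l _ => ?_
  rw [smul_eq_mul]
  apply Ideal.mul_mem_mul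
  · rw [Groth.Agent.S11741.maximalIdeal_mvPowerSeries_eq]
    exact Groth.Agent.S11740.mem_span_X_of_constantCoeff_eq_zero d (c l) (hcl l)
  · rw [Groth.Agent.S11741.maximalIdeal_mvPowerSeries_eq]
    exact Ideal.subset_span ⟨l, rfl⟩


/-- The formal computation carried out in its proof: let k be a field and f a power series in k[[x_0,
..., x_n]] with vanishing constant and linear terms whose degree-two part is a non-degenerate
quadratic form (the Gram determinant of its polar bilinear form is a unit). Then the partial
derivatives of f generate the maximal ideal of k[[x_0, ..., x_n]] (so f together with its partial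
derivatives cut out the origin with multiplicity one). -/
theorem result (k : Type u) [Field k] (n : ℕ)
    (f : MvPowerSeries (Fin (n + 1)) k) (hf : VanCyc.NondegQuadSeries f) :
    Ideal.span (Set.range fun i : Fin (n + 1) => MvPowerSeries.pderiv k i f) =
      IsLocalRing.maximalIdeal (MvPowerSeries (Fin (n + 1)) k) := by
  classical
  obtain ⟨⟨hc0, hc1⟩, hdet⟩ := hf
  have hmX : IsLocalRing.maximalIdeal (MvPowerSeries (Fin (n + 1)) k) =
      Ideal.span (Set.range (MvPowerSeries.X : Fin (n + 1) → MvPowerSeries (Fin (n + 1)) k)) :=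
    Groth.Agent.S11741.maximalIdeal_mvPowerSeries_eq k (n + 1)
  have hIm : Ideal.span (Set.range fun i : Fin (n + 1) => MvPowerSeries.pderiv k i f) ≤
      IsLocalRing.maximalIdeal (MvPowerSeries (Fin (n + 1)) k) := by
    rw [Ideal.span_le]
    rintro _ ⟨i, rfl⟩
    rw [hmX]
    apply Groth.Agent.S11740.mem_span_X_of_constantCoeff_eq_zero
    rw [← MvPowerSeries.coeff_zero_eq_constantCoeff_apply, MvPowerSeries.coeff_pderiv, zero_add,
      hc1 i, zero_mul]
  apply le_antisymm hIm
  have hL : ∀ i : Fin (n + 1),
      (∑ l : Fin (n + 1), MvPowerSeries.C (VanCyc.polarMatrix (VanCyc.quadPart f) i l) *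
        (MvPowerSeries.X l : MvPowerSeries (Fin (n + 1)) k)) ∈
      Ideal.span (Set.range fun i : Fin (n + 1) => MvPowerSeries.pderiv k i f) ⊔
        IsLocalRing.maximalIdeal (MvPowerSeries (Fin (n + 1)) k) •
          IsLocalRing.maximalIdeal (MvPowerSeries (Fin (n + 1)) k) := by
    intro i
    have hg : MvPowerSeries.pderiv k i f -
        (∑ l : Fin (n + 1), MvPowerSeries.C (VanCyc.polarMatrix (VanCyc.quadPart f) i l) *
          (MvPowerSeries.X l : MvPowerSeries (Fin (n + 1)) k)) ∈
        IsLocalRing.maximalIdeal (MvPowerSeries (Fin (n + 1)) k) •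
          IsLocalRing.maximalIdeal (MvPowerSeries (Fin (n + 1)) k) := by
      apply mem_sq_of_low_terms
      · rw [map_sub, map_sum]
        rw [← MvPowerSeries.coeff_zero_eq_constantCoeff_apply, MvPowerSeries.coeff_pderiv, zero_add,
          hc1 i, zero_mul, zero_sub, neg_eq_zero]
        refine Finset.sum_eq_zero fun l _ => ?_
        rw [map_mul, MvPowerSeries.constantCoeff_X, mul_zero]
      · intro l
        rw [map_sub, map_sum]
        simp only [MvPowerSeries.coeff_C_mul, MvPowerSeries.coeff_index_single_X]
        rw [MvPowerSeries.coeff_pderiv]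
        simp only [mul_ite, mul_one, mul_zero]
        rw [Finset.sum_ite_eq Finset.univ l, if_pos (Finset.mem_univ _)]
        rw [sub_eq_zero]
        unfold VanCyc.polarMatrix VanCyc.quadPart
        by_cases hil : i = l
        · subst hil
          simp only [if_true, Finsupp.single_eq_same]
          rw [← Finsupp.single_add]
          norm_num
          ring
        · have hli : ¬ l = i := fun h => hil h.symm
          rw [if_neg hil, Finsupp.single_apply, if_neg hli]
          simp only [Nat.cast_zero, zero_add, mul_one]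
          rcases lt_or_gt_of_ne hil with h | h
          · rw [if_pos h, if_neg hil, if_pos h, add_comm (Finsupp.single l 1) (Finsupp.single i 1)]
          · rw [if_neg (not_lt.mpr h.le), if_neg hli, if_pos h]
    have h1 : MvPowerSeries.pderiv k i f ∈
        Ideal.span (Set.range fun i : Fin (n + 1) => MvPowerSeries.pderiv k i f) :=
      Ideal.subset_span ⟨i, rfl⟩
    have : (∑ l : Fin (n + 1), MvPowerSeries.C (VanCyc.polarMatrix (VanCyc.quadPart f) i l) *
          (MvPowerSeries.X l : MvPowerSeries (Fin (n + 1)) k)) =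
        MvPowerSeries.pderiv k i f - (MvPowerSeries.pderiv k i f -
          (∑ l : Fin (n + 1), MvPowerSeries.C (VanCyc.polarMatrix (VanCyc.quadPart f) i l) *
            (MvPowerSeries.X l : MvPowerSeries (Fin (n + 1)) k))) := by ring
    rw [this]
    exact Submodule.sub_mem _ (Submodule.mem_sup_left h1) (Submodule.mem_sup_right hg)
  have hXj : ∀ j : Fin (n + 1), (MvPowerSeries.X j : MvPowerSeries (Fin (n + 1)) k) ∈
      Ideal.span (Set.range fun i : Fin (n + 1) => MvPowerSeries.pderiv k i f) ⊔
        IsLocalRing.maximalIdeal (MvPowerSeries (Fin (n + 1)) k) •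
          IsLocalRing.maximalIdeal (MvPowerSeries (Fin (n + 1)) k) := by
    intro j
    have hinv : (VanCyc.polarMatrix (VanCyc.quadPart f))⁻¹ * VanCyc.polarMatrix (VanCyc.quadPart f) = 1 :=
      Matrix.nonsing_inv_mul _ hdet
    have hsum : (MvPowerSeries.X j : MvPowerSeries (Fin (n + 1)) k) =
        ∑ i : Fin (n + 1), MvPowerSeries.C ((VanCyc.polarMatrix (VanCyc.quadPart f))⁻¹ j i) *
          (∑ l : Fin (n + 1), MvPowerSeries.C (VanCyc.polarMatrix (VanCyc.quadPart f) i l) *
            (MvPowerSeries.X l : MvPowerSeries (Fin (n + 1)) k)) := by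
      simp only [Finset.mul_sum]
      rw [Finset.sum_comm]
      simp only [← mul_assoc, ← map_mul, ← Finset.sum_mul, ← map_sum]
      have : ∀ l : Fin (n + 1), ∑ i : Fin (n + 1),
          (VanCyc.polarMatrix (VanCyc.quadPart f))⁻¹ j i * VanCyc.polarMatrix (VanCyc.quadPart f) i l =
          (1 : Matrix (Fin (n + 1)) (Fin (n + 1)) k) j l := by
        intro l
        rw [← hinv, Matrix.mul_apply]
      simp only [this, Matrix.one_apply]
      rw [Finset.sum_eq_single j]
      · simp
      · intro b _ hb
        rw [if_neg (Ne.symm hb)]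
        simp
      · intro h
        exact absurd (Finset.mem_univ j) h
    rw [hsum]
    exact Ideal.sum_mem _ fun i _ => Ideal.mul_mem_left _ _ (hL i)
  have hle : IsLocalRing.maximalIdeal (MvPowerSeries (Fin (n + 1)) k) ≤
      Ideal.span (Set.range fun i : Fin (n + 1) => MvPowerSeries.pderiv k i f) ⊔
        IsLocalRing.maximalIdeal (MvPowerSeries (Fin (n + 1)) k) •
          IsLocalRing.maximalIdeal (MvPowerSeries (Fin (n + 1)) k) := by
    conv_lhs => rw [hmX]
    rw [Ideal.span_le]
    rintro _ ⟨j, rfl⟩
    exact hXj j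
  have hfg : (IsLocalRing.maximalIdeal (MvPowerSeries (Fin (n + 1)) k)).FG := by
    rw [hmX]
    exact ⟨(Finset.univ : Finset (Fin (n + 1))).image MvPowerSeries.X, by simp⟩
  exact Submodule.le_of_le_smul_of_le_jacobson_bot hfg
    (IsLocalRing.jacobson_eq_maximalIdeal ⊥ bot_ne_top).ge hle


end Groth.Agent.S8719
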