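import Groth.Statements.S9146
import Groth.Agent.Lib.Helper94.SyntI

set_option autoImplicit false
universe u
open Synt

namespace Groth.Agent.S9146

open TensorProduct in

/-- Being syntomic is local on the target ring: if finitely many elements of S generating the unit ideal
have syntomic localizations R → S_g, then R → S is syntomic. -/
theorem result (R S : Type u) [CommRing R] [CommRing S] [Algebra R S]
    (s : Finset S) (hs : Ideal.span (s : Set S) = ⊤)
    (h : ∀ g ∈ s, Synt.IsSyntomic R (Localization.Away g)) : Synt.IsSyntomic R S := by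
  have hFP : Algebra.FinitePresentation R S :=
    Algebra.FinitePresentation.of_span_eq_top_target (s : Set S) hs (fun g hg => (h g hg).2.1)
  refine ⟨?_, hFP, fun p => ?_⟩
  · exact Module.flat_of_isLocalized_span S S (s : Set S) hs (fun r => Localization.Away r.1)
      (fun r => Algebra.linearMap S (Localization.Away r.1)) (fun r => (h r.1 r.2).1)
  · haveI : Algebra.FiniteType R S := inferInstance
    refine ⟨inferInstance, fun 𝔮 => ?_⟩
    have hex : ∃ g ∈ s, ((1 : p.asIdeal.ResidueField) ⊗ₜ[R] g : p.asIdeal.Fiber S) ∉ 𝔮.asIdeal := by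
      by_contra hcon
      push Not at hcon
      have hle : (Ideal.span (s : Set S)).map
          (Algebra.TensorProduct.includeRight : S →ₐ[R] p.asIdeal.Fiber S) ≤ 𝔮.asIdeal := by
        rw [Ideal.map_span, Ideal.span_le]
        rintro _ ⟨g, hg, rfl⟩
        exact hcon g hg
      rw [hs, Ideal.map_top] at hle
      exact 𝔮.2.ne_top (top_le_iff.mp hle)
    obtain ⟨g, hg, hg𝔮⟩ := hex
    have h1 := (h g hg).2.2 p
    have h2 : Synt.IsLCIOver p.asIdeal.ResidueField
        (Localization.Away ((1 : p.asIdeal.ResidueField) ⊗ₜ[R] g : p.asIdeal.Fiber S)) :=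
      Groth.Agent.Lib.Helper94.SyntI.isLCIOver_of_algEquiv
        (IsLocalization.Away.tensorProductEquivTMulRight R p.asIdeal.ResidueField g
          (Localization.Away g)) h1
    exact Groth.Agent.Lib.Helper94.CIMain.exists_isGlobalCI_away_of_isLCIOver_away
      𝔮.asIdeal _ hg𝔮 h2


end Groth.Agent.S9146
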