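import Groth.Statements.S8931
import Mathlib
import Groth.Agent.Lib.Helper75.Fitting7
-- import your own Groth.Agent.* helpers here

set_option autoImplicit false
universe u
open Disc

namespace Groth.Agent.S8931

open TensorProduct KaehlerDifferential Groth.Agent.Lib.Helper75.Fitting
set_option linter.style.haveILetI false
set_option linter.unusedVariables false
set_option linter.unusedSectionVars false

theorem D_eq_sum (A : Type u) [CommRing A] (n : ℕ) (p : MvPolynomial (Fin n) A) :
    D A (MvPolynomial (Fin n) A) p =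
      ∑ j, MvPolynomial.pderiv j p • D A (MvPolynomial (Fin n) A) (MvPolynomial.X j) := by
  have := (mvPolynomialBasis A (Fin n)).sum_repr (D A (MvPolynomial (Fin n) A) p)
  rw [← this]
  refine Finset.sum_congr rfl fun j _ => ?_
  rw [mvPolynomialBasis_repr_apply, mvPolynomialBasis_apply]

section

variable (A : Type u) [CommRing A] (n : ℕ) (Q : Type u) [CommRing Q] [Algebra A Q]
  [Algebra (MvPolynomial (Fin n) A) Q] [IsScalarTower A (MvPolynomial (Fin n) A) Q]

theorem D_algebraMap_eq_sum (p : MvPolynomial (Fin n) A) :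
    D A Q (algebraMap (MvPolynomial (Fin n) A) Q p) =
      ∑ j, algebraMap (MvPolynomial (Fin n) A) Q (MvPolynomial.pderiv j p) •
        D A Q (algebraMap (MvPolynomial (Fin n) A) Q (MvPolynomial.X j)) := by
  have h := congrArg (KaehlerDifferential.map A A (MvPolynomial (Fin n) A) Q) (D_eq_sum A n p)
  rw [KaehlerDifferential.map_D, map_sum] at h
  rw [h]
  refine Finset.sum_congr rfl fun j _ => ?_
  rw [map_smul, KaehlerDifferential.map_D, algebraMap_smul]

theorem span_D_X (hsurj : Function.Surjective (algebraMap (MvPolynomial (Fin n) A) Q)) :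
    Submodule.span Q (Set.range fun j : Fin n =>
      D A Q (algebraMap (MvPolynomial (Fin n) A) Q (MvPolynomial.X j))) = ⊤ := by
  rw [eq_top_iff, ← KaehlerDifferential.span_range_derivation, Submodule.span_le]
  rintro _ ⟨q, rfl⟩
  obtain ⟨p, rfl⟩ := hsurj q
  rw [D_algebraMap_eq_sum]
  exact Submodule.sum_mem _ fun j _ => Submodule.smul_mem _ _ (Submodule.subset_span ⟨j, rfl⟩)

/-- `1 ⊗ dp` in terms of the basis `1 ⊗ dX_j`. -/
theorem one_tmul_D_eq_sum (p : MvPolynomial (Fin n) A) :
    (1 : Q) ⊗ₜ[MvPolynomial (Fin n) A] D A (MvPolynomial (Fin n) A) p =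
      ∑ j, algebraMap (MvPolynomial (Fin n) A) Q (MvPolynomial.pderiv j p) •
        ((1 : Q) ⊗ₜ[MvPolynomial (Fin n) A] D A (MvPolynomial (Fin n) A) (MvPolynomial.X j)) := by
  conv_lhs => rw [D_eq_sum, TensorProduct.tmul_sum]
  refine Finset.sum_congr rfl fun j _ => ?_
  rw [TensorProduct.tmul_smul, algebraMap_smul]

theorem span_rows_eq (f : Fin n → MvPolynomial (Fin n) A)
    (hsurj : Function.Surjective (algebraMap (MvPolynomial (Fin n) A) Q))
    (hker : RingHom.ker (algebraMap (MvPolynomial (Fin n) A) Q) = Ideal.span (Set.range f)) :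
    Submodule.span Q (Set.range fun i : Fin n => fun j : Fin n =>
        algebraMap (MvPolynomial (Fin n) A) Q (MvPolynomial.pderiv j (f i))) =
    relSubmodule Q (fun j : Fin n =>
      D A Q (algebraMap (MvPolynomial (Fin n) A) Q (MvPolynomial.X j))) := by
  classical
  have hmk : ∀ i, algebraMap (MvPolynomial (Fin n) A) Q (f i) = 0 := fun i => by
    rw [← RingHom.mem_ker, hker]; exact Ideal.subset_span ⟨i, rfl⟩
  apply le_antisymm
  · rw [Submodule.span_le]
    rintro _ ⟨i, rfl⟩
    change IsRel _ _
    unfold IsRel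
    rw [← D_algebraMap_eq_sum, hmk, map_zero]
  · intro r hr
    have hr' : ∑ j, r j • D A Q (algebraMap (MvPolynomial (Fin n) A) Q (MvPolynomial.X j)) = 0 := hr
    let b := (mvPolynomialBasis A (Fin n)).baseChange Q
    have hb : ∀ j, b j = (1 : Q) ⊗ₜ[MvPolynomial (Fin n) A]
        D A (MvPolynomial (Fin n) A) (MvPolynomial.X j) := by
      intro j
      simp [b, mvPolynomialBasis_apply]
    let ξ : Q ⊗[MvPolynomial (Fin n) A] Ω[MvPolynomial (Fin n) A⁄A] := ∑ j, r j • b j
    have hξ : mapBaseChange A (MvPolynomial (Fin n) A) Q ξ = 0 := by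
      simp only [ξ, map_sum, map_smul, hb, mapBaseChange_tmul, one_smul, KaehlerDifferential.map_D]
      exact hr'
    obtain ⟨c, hc⟩ := (KaehlerDifferential.exact_kerCotangentToTensor_mapBaseChange A
      (MvPolynomial (Fin n) A) Q hsurj ξ).mp hξ
    obtain ⟨g, rfl⟩ := Ideal.toCotangent_surjective _ c
    rw [kerCotangentToTensor_toCotangent] at hc
    have hg : (g : MvPolynomial (Fin n) A) ∈ Ideal.span (Set.range f) := hker ▸ g.2
    rw [Ideal.mem_span_range_iff_exists_fun] at hg
    obtain ⟨c', hc'⟩ := hg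
    have h1 : (1 : Q) ⊗ₜ[MvPolynomial (Fin n) A]
        D A (MvPolynomial (Fin n) A) (g : MvPolynomial (Fin n) A) =
        ∑ j, (∑ i, algebraMap (MvPolynomial (Fin n) A) Q (c' i) *
          algebraMap (MvPolynomial (Fin n) A) Q (MvPolynomial.pderiv j (f i))) • b j := by
      rw [one_tmul_D_eq_sum]
      refine Finset.sum_congr rfl fun j _ => ?_
      rw [hb]
      congr 1
      rw [← hc', map_sum, map_sum]
      refine Finset.sum_congr rfl fun i _ => ?_
      rw [Derivation.leibniz, smul_eq_mul, smul_eq_mul, map_add, map_mul, map_mul, hmk, zero_mul,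
        add_zero]
    have h2 : ∑ j, r j • b j = ∑ j, (∑ i, algebraMap (MvPolynomial (Fin n) A) Q (c' i) *
          algebraMap (MvPolynomial (Fin n) A) Q (MvPolynomial.pderiv j (f i))) • b j := by
      rw [← h1, hc]
    have h3 : ∀ j, r j = ∑ i, algebraMap (MvPolynomial (Fin n) A) Q (c' i) *
          algebraMap (MvPolynomial (Fin n) A) Q (MvPolynomial.pderiv j (f i)) := by
      intro j
      have h4 : ∑ j, (r j - ∑ i, algebraMap (MvPolynomial (Fin n) A) Q (c' i) *
          algebraMap (MvPolynomial (Fin n) A) Q (MvPolynomial.pderiv j (f i))) • b j = 0 := by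
        have hsub : ∀ j, (r j - ∑ i, algebraMap (MvPolynomial (Fin n) A) Q (c' i) *
            algebraMap (MvPolynomial (Fin n) A) Q (MvPolynomial.pderiv j (f i))) • b j =
            r j • b j - (∑ i, algebraMap (MvPolynomial (Fin n) A) Q (c' i) *
            algebraMap (MvPolynomial (Fin n) A) Q (MvPolynomial.pderiv j (f i))) • b j :=
          fun j => sub_smul (r j) (∑ i, algebraMap (MvPolynomial (Fin n) A) Q (c' i) *
            algebraMap (MvPolynomial (Fin n) A) Q (MvPolynomial.pderiv j (f i))) (b j)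
        simp only [hsub, Finset.sum_sub_distrib]
        rw [h2, sub_self]
      exact sub_eq_zero.mp (Fintype.linearIndependent_iff.mp b.linearIndependent _ h4 j)
    have h5 : r = ∑ i, algebraMap (MvPolynomial (Fin n) A) Q (c' i) • (fun j : Fin n =>
        algebraMap (MvPolynomial (Fin n) A) Q (MvPolynomial.pderiv j (f i))) := by
      funext j
      rw [h3 j, Finset.sum_apply]
      rfl
    rw [h5]
    exact Submodule.sum_mem _ fun i _ => Submodule.smul_mem _ _ (Submodule.subset_span ⟨i, rfl⟩)

theorem minorsIdeal_eq (f : Fin n → MvPolynomial (Fin n) A) :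
    minorsIdeal (fun i : Fin n => fun j : Fin n =>
        algebraMap (MvPolynomial (Fin n) A) Q (MvPolynomial.pderiv j (f i))) n =
      Ideal.span {algebraMap (MvPolynomial (Fin n) A) Q
        (Matrix.det (Matrix.of fun i j : Fin n => MvPolynomial.pderiv j (f i)))} := by
  classical
  let JT : Matrix (Fin n) (Fin n) Q := Matrix.of fun a b =>
    algebraMap (MvPolynomial (Fin n) A) Q (MvPolynomial.pderiv a (f b))
  have hJT : JT.det = algebraMap (MvPolynomial (Fin n) A) Q
      (Matrix.det (Matrix.of fun i j : Fin n => MvPolynomial.pderiv j (f i))) := by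
    rw [RingHom.map_det, ← Matrix.det_transpose]
    congr 1
  unfold minorsIdeal
  apply le_antisymm
  · rw [Ideal.span_le]
    rintro d ⟨f', e, rfl⟩
    have hmat : (Matrix.of fun a b => algebraMap (MvPolynomial (Fin n) A) Q
        (MvPolynomial.pderiv (e a) (f (f' b)))) =
        (1 : Matrix (Fin n) (Fin n) Q).submatrix e (Equiv.refl _) * JT *
          (1 : Matrix (Fin n) (Fin n) Q).submatrix (Equiv.refl _) f' := by
      rw [Matrix.one_submatrix_mul, Matrix.mul_submatrix_one]
      ext a b
      simp [JT]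
    rw [hmat, Matrix.det_mul, Matrix.det_mul, hJT]
    exact Ideal.mul_mem_right _ _ (Ideal.mul_mem_left _ _ (Ideal.mem_span_singleton_self _))
  · rw [Ideal.span_le, Set.singleton_subset_iff]
    refine Ideal.subset_span ⟨id, id, ?_⟩
    rw [← hJT]
    rfl

theorem fitt_eq (f : Fin n → MvPolynomial (Fin n) A)
    (hsurj : Function.Surjective (algebraMap (MvPolynomial (Fin n) A) Q))
    (hker : RingHom.ker (algebraMap (MvPolynomial (Fin n) A) Q) = Ideal.span (Set.range f)) :
    Fitt.ideal Q (Ω[Q⁄A]) 0 = Ideal.span {algebraMap (MvPolynomial (Fin n) A) Q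
        (Matrix.det (Matrix.of fun i j : Fin n => MvPolynomial.pderiv j (f i)))} := by
  rw [fitt_eq_J _ (span_D_X A n Q hsurj) 0, Nat.sub_zero,
    J_eq_minorsIdeal _ _ (span_rows_eq A n Q f hsurj hker) n, minorsIdeal_eq]

end


/-- For a ring A, n ≥ 1 and f_1, …, f_n in A[x_1, …, x_n], with B = A[x_1, …, x_n]/(f_1, …, f_n), the
zeroth Fitting ideal of Ω_{B/A} (the Kähler different of B over A) is generated by the image in B of
the Jacobian determinant det(∂f_i/∂x_j). -/
theorem result (A : Type u) [CommRing A] (n : ℕ) (hn : 1 ≤ n) (f : Fin n → MvPolynomial (Fin n) A) : Fitt.ideal (MvPolynomial (Fin n) A ⧸ Ideal.span (Set.range f)) (KaehlerDifferential A (MvPolynomial (Fin n) A ⧸ Ideal.span (Set.range f))) 0 = Ideal.span {Ideal.Quotient.mk (Ideal.span (Set.range f)) (Matrix.det (Matrix.of fun i j : Fin n => MvPolynomial.pderiv j (f i)))} := by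
  have := fitt_eq A n (MvPolynomial (Fin n) A ⧸ Ideal.span (Set.range f)) f
    Ideal.Quotient.mk_surjective (by rw [Ideal.Quotient.algebraMap_eq, Ideal.mk_ker])
  exact this


end Groth.Agent.S8931
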