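import Groth.Statements.S14433
import Groth.Agent.Lib.Helper98.KoszulMod

set_option autoImplicit false
universe u
open Koszul3

namespace Groth.Agent.S14433

open CategoryTheory CategoryTheory.Limits HomologicalComplex CochainComplex HomComplex

section Helpers

variable {R : Type u} [CommRing R]

lemma ofHom_smul' {K L : DRing.Cx R} (a : R) (φ : K ⟶ L) :
    Cochain.ofHom (a • φ) = a • Cochain.ofHom φ := by
  ext p
  simp

/-- `f` acts null-homotopically on the cone of `f`. -/
noncomputable def coneSelfHomotopy (K : DRing.Cx R) (f : R) :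
    Homotopy (f • 𝟙 (mappingCone (f • 𝟙 K))) 0 :=
  (Cochain.equivHomotopy _ _).symm
    ⟨(mappingCone.snd (f • 𝟙 K)).comp (mappingCone.inl (f • 𝟙 K)) (zero_add (-1)), by
      rw [δ_comp _ _ (zero_add (-1)) 1 0 0 (by norm_num) (by norm_num) (by norm_num)]
      rw [mappingCone.δ_inl, mappingCone.δ_snd]
      simp only [Cochain.ofHom_zero, add_zero, Linear.smul_comp, Category.id_comp, ofHom_smul',
        Cochain.comp_smul, Cochain.neg_comp, Cochain.smul_comp, Cochain.comp_id, Int.negOnePow_neg,
        Int.negOnePow_one, Units.neg_smul, one_smul, neg_neg]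
      rw [← smul_add, add_comm, mappingCone.id]⟩

/-- a null-homotopy of `x` on `K` induces one on the cone of `f`. -/
noncomputable def coneHomotopy (K : DRing.Cx R) (f x : R) (h : Homotopy (x • 𝟙 K) 0) :
    Homotopy (x • 𝟙 (mappingCone (f • 𝟙 K))) 0 := by
  obtain ⟨s, hs'⟩ := Cochain.equivHomotopy _ _ h
  have hs : δ (-1) 0 s = x • Cochain.ofHom (𝟙 K) := by
    rw [Cochain.ofHom_zero, add_zero, ofHom_smul'] at hs'
    exact hs'.symm
  refine (Cochain.equivHomotopy _ _).symm
    ⟨(mappingCone.snd (f • 𝟙 K)).comp (s.comp (Cochain.ofHom (mappingCone.inr (f • 𝟙 K))) (add_zero (-1)))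
        (zero_add (-1)) -
      (mappingCone.fst (f • 𝟙 K)).1.comp (s.comp (mappingCone.inl (f • 𝟙 K)) (by norm_num : (-1 : ℤ) + (-1) = -2))
        (by norm_num : (1 : ℤ) + (-2) = -1), ?_⟩
  rw [δ_sub, δ_comp _ _ (zero_add (-1)) 1 0 0 (by norm_num) (by norm_num) (by norm_num),
    δ_comp _ _ (by norm_num : (1 : ℤ) + (-2) = -1) 2 (-1) 0 (by norm_num) (by norm_num) (by norm_num),
    δ_comp_ofHom, Cocycle.δ_eq_zero,
    δ_comp _ _ (by norm_num : (-1 : ℤ) + (-1) = -2) 0 0 (-1) (by norm_num) (by norm_num) (by norm_num),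
    hs, mappingCone.δ_inl, mappingCone.δ_snd]
  simp only [Cochain.ofHom_zero, add_zero, Linear.smul_comp, Category.id_comp, ofHom_smul',
    Cochain.comp_smul, Cochain.neg_comp, Cochain.smul_comp, Cochain.comp_id, Cochain.id_comp, Int.negOnePow_neg,
    Int.negOnePow_one, Units.neg_smul, one_smul, neg_neg, Cochain.zero_comp, smul_zero, Cochain.comp_add,
    Cochain.comp_neg]
  rw [← mappingCone.id (f • 𝟙 K), smul_add]
  abel

lemma mem_homotopy (M : ModuleCat.{u} R) (xs : List R) (x : R) (hx : x ∈ xs) :
    Nonempty (Homotopy (x • 𝟙 (CohIII.koszulCx M xs)) 0) := by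
  induction xs with
  | nil => simp at hx
  | cons f l ih =>
    rcases List.mem_cons.1 hx with rfl | hx'
    · exact ⟨coneSelfHomotopy _ _⟩
    · obtain ⟨h⟩ := ih hx'
      exact ⟨coneHomotopy _ f x h⟩

def homotopyCongr {K L : DRing.Cx R} {f f' g g' : K ⟶ L} (h : Homotopy f g) (hf : f = f') (hg : g = g') :
    Homotopy f' g' := by
  subst hf hg
  exact h

theorem span_homotopy (M : ModuleCat.{u} R) (xs : List R) (a : R) (ha : a ∈ Ideal.span {x | x ∈ xs}) :
    Nonempty (Homotopy (a • 𝟙 (CohIII.koszulCx M xs)) 0) := by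
  induction ha using Submodule.span_induction with
  | mem x hx => exact mem_homotopy M xs x hx
  | zero => exact ⟨Homotopy.ofEq (zero_smul _ _)⟩
  | add x y _ _ hx hy =>
    obtain ⟨h1⟩ := hx
    obtain ⟨h2⟩ := hy
    exact ⟨homotopyCongr (h1.add h2) (add_smul _ _ _).symm (add_zero _)⟩
  | smul r x _ hx =>
    obtain ⟨h1⟩ := hx
    exact ⟨homotopyCongr (h1.smul r) (by rw [smul_eq_mul, mul_smul]) (smul_zero _)⟩

end Helpers


open CategoryTheory CategoryTheory.Limits in
/-- Let R be a commutative ring, M an R-module, x = (x_1, …, x_n) elements of R and a an element of the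
ideal (x_1, …, x_n). Then multiplication by a on the Koszul complex K(x; M) is homotopic to the zero
map (so a annihilates every Koszul cohomology module, and K(x; M) is exact when the x_i generate the
unit ideal). (The published statement is for the Koszul complex of a linear form φ : E → R and a ∈
φ(E); stated here for E free of finite rank, with the Koszul complex realised by iterated mapping
cones as in the prelude, which is isomorphic to the exterior-algebra complex.) -/
theorem result {R : Type u} [CommRing R] (M : Type u) [AddCommGroup M] [Module R M]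
    (xs : List R) (a : R) (ha : a ∈ Ideal.span {x | x ∈ xs}) :
    Nonempty (Homotopy (a • 𝟙 (CohIII.koszulCx (ModuleCat.of R M) xs)) 0) := by
  exact span_homotopy _ xs a ha

end Groth.Agent.S14433
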