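import Groth.Statements.S0332
import Groth.Agent.Lib.Helper92.HLVTComplete
import Groth.Agent.Lib.Helper98.CechFlatLin
import Groth.Agent.S0547
import Groth.Agent.S0543

set_option autoImplicit false
universe u v
open LocCoh

namespace Groth.Agent.S0332

open Groth.Agent.Lib.Helper92 Groth.Agent.Lib.Helper92.HLVT IsLocalRing TensorProduct

/-- Let R be Noetherian local of dimension d with completion R^; suppose that for every minimal prime p
of R^ with dim R^/p = d the quotient of R^ by I R^ + p has Krull dimension at least 1 (i.e. some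
prime containing I R^ + p is not maximal). Then local cohomology with support in I vanishes in all
degrees ≥ d for every module. -/
theorem result (R : Type u) [CommRing R] [IsLocalRing R] [IsNoetherianRing R] (I : Ideal R) (d : ℕ) (hd : ringKrullDim R = d) (h : ∀ p ∈ minimalPrimes (AdicCompletion (IsLocalRing.maximalIdeal R) R), ringKrullDim (AdicCompletion (IsLocalRing.maximalIdeal R) R ⧸ p) = d → 1 ≤ ringKrullDim (AdicCompletion (IsLocalRing.maximalIdeal R) R ⧸ (I.map (algebraMap R (AdicCompletion (IsLocalRing.maximalIdeal R) R)) ⊔ p))) (M : Type u) [AddCommGroup M] [Module R M] (i : ℕ) (hi : d ≤ i) : Subsingleton (LocCoh.H I i M) := by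
  have hcd := LC.cdLE_of_ringKrullDim_le I d (le_of_eq hd)
  rcases lt_or_eq_of_le hi with hlt | rfl
  · exact hcd M i hlt
  refine LC.subsingleton_top_of_ring I d hcd ?_ M
  haveI : IsNoetherianRing (AdicCompletion (maximalIdeal R) R) :=
    Groth.Agent.S0543.result R (maximalIdeal R)
  have hd' : ringKrullDim (AdicCompletion (maximalIdeal R) R) = d := by
    rw [Groth.Agent.S0547.result R, hd]
  haveI : Module.FaithfullyFlat R (AdicCompletion (maximalIdeal R) R) :=
    Module.FaithfullyFlat.of_flat_of_isLocalHom
  have h1 : Subsingleton (LocCoh.H (I.map (algebraMap R (AdicCompletion (maximalIdeal R) R))) d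
      (AdicCompletion (maximalIdeal R) R)) :=
    hlvt_complete (AdicCompletion (maximalIdeal R) R) d hd' _ h _ d le_rfl
  have h2 : Subsingleton (LocCoh.H (I.map (algebraMap R (AdicCompletion (maximalIdeal R) R))) d
      (AdicCompletion (maximalIdeal R) R ⊗[R] R)) :=
    (((localCohomology _ d).mapIso (TensorProduct.AlgebraTensorModule.rid R
      (AdicCompletion (maximalIdeal R) R) (AdicCompletion (maximalIdeal R) R)).toModuleIso
        ).toLinearEquiv).toEquiv.subsingleton
  obtain ⟨e⟩ := Helper98.CechFlatLin.lc_baseChange_lin (R := R)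
    (R' := AdicCompletion (maximalIdeal R) R) I R d
  have h3 : Subsingleton (AdicCompletion (maximalIdeal R) R ⊗[R] LocCoh.H I d R) :=
    e.toEquiv.subsingleton
  exact (Module.FaithfullyFlat.subsingleton_tensorProduct_iff_right R
    (AdicCompletion (maximalIdeal R) R)).1 h3

end Groth.Agent.S0332
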