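import Groth.Statements.S7623
import Groth.Agent.Lib.Helper65.GenericSmooth

set_option autoImplicit false
universe u
open CategoryTheory CategoryTheory.Limits AlgebraicGeometry
open Variety

namespace Groth.Agent.S7623

/-- Let k be a perfect field and A a reduced finite type k-algebra such that Ω_{A/k} is a projective
A-module (locally free, as it is finitely presented). Then A is smooth over k. The scheme statement,
X reduced and locally of finite type over k with Ω_{X/k} locally free is smooth over k, is this
assertion on affine opens. -/
theorem result (k A : Type u) [Field k] [PerfectField k] [CommRing A] [Algebra k A]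
    [Algebra.FiniteType k A] [_root_.IsReduced A] [Module.Projective A Ω[A⁄k]] : Algebra.Smooth k A := by
  have hfp : Algebra.FinitePresentation k A :=
    Algebra.FinitePresentation.of_finiteType.mp inferInstance
  have hfs : Algebra.FormallySmooth k A := by
    rw [← Algebra.smoothLocus_eq_univ_iff, Set.eq_univ_iff_forall]
    intro q
    show Algebra.FormallySmooth k (Localization.AtPrime q.asIdeal)
    have hproj : Module.Projective (Localization.AtPrime q.asIdeal)
        Ω[Localization.AtPrime q.asIdeal⁄k] :=
      Module.projective_of_isLocalizedModule q.asIdeal.primeCompl
        (KaehlerDifferential.map k k A (Localization.AtPrime q.asIdeal))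
    have hred : _root_.IsReduced (Localization.AtPrime q.asIdeal) := inferInstance
    obtain ⟨p, hp, -⟩ := Ideal.exists_minimalPrimes_le
      (bot_le : (⊥ : Ideal (Localization.AtPrime q.asIdeal)) ≤
        IsLocalRing.maximalIdeal (Localization.AtPrime q.asIdeal))
    have hp' : p ∈ minimalPrimes (Localization.AtPrime q.asIdeal) := hp
    have := hp'.1.1
    have : Ring.KrullDimLE 0 (Localization.AtPrime p) := .of_isLocalization _ hp' _
    let _ : Field (Localization.AtPrime p) := Ring.KrullDimLE.isField_of_isReduced.toField
    have hess1 : Algebra.EssFiniteType k (Localization.AtPrime q.asIdeal) :=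
      Algebra.EssFiniteType.comp k A _
    have hess2 : Algebra.EssFiniteType k (Localization.AtPrime p) :=
      Algebra.EssFiniteType.comp k (Localization.AtPrime q.asIdeal) _
    have : Algebra.FormallySmooth k (Localization.AtPrime p) :=
      Algebra.FormallySmooth.of_perfectField
    exact Groth.Agent.Lib.Helper65.GenericSmooth.formallySmooth_of_generic k
      (Localization.AtPrime q.asIdeal) p hp'
  exact ⟨hfs, hfp⟩

end Groth.Agent.S7623
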