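import Groth.Statements.S1846
import Mathlib.RingTheory.HopfAlgebra.Basic
import Mathlib.RingTheory.HopfAlgebra.Convolution
import Mathlib.RingTheory.Bialgebra.Convolution
import Mathlib.RingTheory.Kaehler.Basic
import Mathlib.LinearAlgebra.TensorProduct.Basis
import Mathlib.LinearAlgebra.TensorProduct.Tower
import Mathlib.RingTheory.TensorProduct.Basic
import Mathlib.Tactic.Module

set_option autoImplicit false
universe u v
open GrpSch

namespace Groth.Agent.S1846

open TensorProduct Coalgebra

section
variable (K : Type u) [Field K] (B : Type v) [CommRing B] [HopfAlgebra K B]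

/-- `fS u v = S u • d v`. -/
noncomputable def fS : B →ₗ[K] B →ₗ[K] Ω[B⁄K] :=
  LinearMap.mk₂ K (fun u v => HopfAlgebra.antipode K u • KaehlerDifferential.D K B v)
    (by intro u₁ u₂ v; simp [add_smul])
    (by intro c u v; simp)
    (by intro u v₁ v₂; simp)
    (by intro c u v; rw [Derivation.map_smul, smul_comm])

@[simp] lemma fS_apply (u v : B) :
    fS K B u v = HopfAlgebra.antipode K u • KaehlerDifferential.D K B v := rfl

lemma antipode_mul' (x y : B) :
    HopfAlgebra.antipode K (x * y) = HopfAlgebra.antipode K x * HopfAlgebra.antipode K y :=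
  map_mul (HopfAlgebra.antipodeAlgHom K B) x y

/-- `θ x = Σ S x₁ • d x₂`. -/
noncomputable def theta : B →ₗ[K] Ω[B⁄K] := TensorProduct.lift (fS K B) ∘ₗ comul

lemma lift_fS_mul (t s : B ⊗[K] B) :
    TensorProduct.lift (fS K B) (t * s) =
      (LinearMap.mul' K B ((HopfAlgebra.antipode K).rTensor B t)) • TensorProduct.lift (fS K B) s +
      (LinearMap.mul' K B ((HopfAlgebra.antipode K).rTensor B s)) • TensorProduct.lift (fS K B) t := by
  induction t using TensorProduct.induction_on with
  | zero => simp
  | add t₁ t₂ h₁ h₂ =>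
    rw [add_mul, map_add, h₁, h₂]
    simp only [map_add, add_smul, smul_add]
    abel
  | tmul a b =>
    induction s using TensorProduct.induction_on with
    | zero => simp
    | add s₁ s₂ h₁ h₂ =>
      rw [mul_add, map_add, h₁, h₂]
      simp only [map_add, add_smul, smul_add]
      abel
    | tmul c e =>
      simp only [Algebra.TensorProduct.tmul_mul_tmul, TensorProduct.lift.tmul, fS_apply,
        LinearMap.rTensor_tmul, LinearMap.mul'_apply, antipode_mul', Derivation.leibniz]
      module

lemma theta_mul (x y : B) :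
    theta K B (x * y) = counit (R := K) x • theta K B y + counit (R := K) y • theta K B x := by
  simp only [theta, LinearMap.comp_apply, Bialgebra.comul_mul, lift_fS_mul,
    HopfAlgebra.mul_antipode_rTensor_comul_apply, algebraMap_smul]

/-- the space of invariant differentials, as the range of `θ` -/
noncomputable abbrev omega : Submodule K (Ω[B⁄K]) := LinearMap.range (theta K B)

/-- `π = θ` corestricted -/
noncomputable def piMap : B →ₗ[K] omega K B := (theta K B).rangeRestrict

lemma piMap_mul (x y : B) :
    piMap K B (x * y) = counit (R := K) x • piMap K B y + counit (R := K) y • piMap K B x := by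
  apply Subtype.ext
  simp only [piMap, LinearMap.codRestrict_apply, Submodule.coe_add, Submodule.coe_smul,
    LinearMap.rangeRestrict]
  exact theta_mul K B x y

/-- `D x = Σ x₁ ⊗ π x₂` -/
noncomputable def Dlin : B →ₗ[K] B ⊗[K] omega K B := (piMap K B).lTensor B ∘ₗ comul

lemma lTensor_piMap_mul (t s : B ⊗[K] B) :
    (piMap K B).lTensor B (t * s) =
      (TensorProduct.rid K B (counit.lTensor B t)) • (piMap K B).lTensor B s +
      (TensorProduct.rid K B (counit.lTensor B s)) • (piMap K B).lTensor B t := by
  induction t using TensorProduct.induction_on with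
  | zero => simp
  | add t₁ t₂ h₁ h₂ =>
    rw [add_mul, map_add, h₁, h₂]
    simp only [map_add, add_smul, smul_add]
    abel
  | tmul a b =>
    induction s using TensorProduct.induction_on with
    | zero => simp
    | add s₁ s₂ h₁ h₂ =>
      rw [mul_add, map_add, h₁, h₂]
      simp only [map_add, add_smul, smul_add]
      abel
    | tmul c e =>
      simp only [Algebra.TensorProduct.tmul_mul_tmul, LinearMap.lTensor_tmul, piMap_mul,
        TensorProduct.rid_tmul, TensorProduct.tmul_add, TensorProduct.tmul_smul,
        TensorProduct.smul_tmul']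
      simp only [smul_eq_mul, smul_mul_assoc, mul_comm c a]


/-- The derivation `D : B → B ⊗ ω`. -/
noncomputable def Dder : Derivation K B (B ⊗[K] omega K B) where
  toLinearMap := Dlin K B
  map_one_eq_zero' := by
    have hθ1 : theta K B 1 = 0 := by
      simp [theta, Bialgebra.comul_one, Algebra.TensorProduct.one_def]
    have h1 : piMap K B 1 = 0 := Subtype.ext hθ1
    simp only [Dlin, LinearMap.comp_apply, Bialgebra.comul_one, Algebra.TensorProduct.one_def,
      LinearMap.lTensor_tmul, h1, TensorProduct.tmul_zero]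
  leibniz' := by
    intro x y
    simp only [Dlin, LinearMap.comp_apply, Bialgebra.comul_mul, lTensor_piMap_mul,
      Coalgebra.lTensor_counit_comul, TensorProduct.rid_tmul, one_smul]

/-- `Φ : Ω → B ⊗ ω` -/
noncomputable def Phi : Ω[B⁄K] →ₗ[B] B ⊗[K] omega K B := (Dder K B).liftKaehlerDifferential

/-- `Ψ : B ⊗ ω → Ω` -/
noncomputable def Psi : B ⊗[K] omega K B →ₗ[B] Ω[B⁄K] :=
  LinearMap.liftBaseChange B (omega K B).subtype

/-- scalar multiplication as a `K`-bilinear map -/
noncomputable def lsmulK : B →ₗ[K] Ω[B⁄K] →ₗ[K] Ω[B⁄K] :=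
  LinearMap.mk₂ K (fun x w => x • w)
    (by intro x₁ x₂ w; exact add_smul _ _ _)
    (by intro c x w; exact smul_assoc _ _ _)
    (by intro x w₁ w₂; exact smul_add _ _ _)
    (by intro c x w; exact smul_comm _ _ _)

@[simp] lemma lsmulK_apply (x : B) (w : Ω[B⁄K]) : lsmulK K B x w = x • w := rfl

/-- `G (x ⊗ s) = x • lift fS s` -/
noncomputable def Gmap : B ⊗[K] (B ⊗[K] B) →ₗ[K] Ω[B⁄K] :=
  TensorProduct.lift ((lsmulK K B).compl₂ (TensorProduct.lift (fS K B)))

lemma Psi_lTensor (t : B ⊗[K] B) :
    Psi K B ((piMap K B).lTensor B t) = Gmap K B (comul.lTensor B t) := by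
  induction t using TensorProduct.induction_on with
  | zero => simp
  | add t₁ t₂ h₁ h₂ => simp only [map_add, h₁, h₂]
  | tmul x y =>
    simp only [LinearMap.lTensor_tmul, Psi, LinearMap.liftBaseChange_tmul, Submodule.subtype_apply,
      Gmap, TensorProduct.lift.tmul, LinearMap.compl₂_apply, lsmulK_apply]
    rfl

lemma Gmap_assoc_tmul (u : B ⊗[K] B) (q : B) :
    Gmap K B (TensorProduct.assoc K B B B (u ⊗ₜ[K] q)) =
      (LinearMap.mul' K B ((HopfAlgebra.antipode K).lTensor B u)) • KaehlerDifferential.D K B q := by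
  induction u using TensorProduct.induction_on with
  | zero => simp
  | add u₁ u₂ h₁ h₂ => simp only [TensorProduct.add_tmul, map_add, h₁, h₂, add_smul]
  | tmul x y =>
    simp only [TensorProduct.assoc_tmul, Gmap, TensorProduct.lift.tmul, LinearMap.compl₂_apply,
      lsmulK_apply, fS_apply, LinearMap.lTensor_tmul, LinearMap.mul'_apply, mul_smul]

lemma Gmap_assoc_rTensor (t : B ⊗[K] B) :
    Gmap K B (TensorProduct.assoc K B B B (comul.rTensor B t)) =
      KaehlerDifferential.D K B (TensorProduct.lift (LinearMap.lsmul K B ∘ₗ counit) t) := by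
  induction t using TensorProduct.induction_on with
  | zero => simp
  | add t₁ t₂ h₁ h₂ => simp only [map_add, h₁, h₂]
  | tmul p q =>
    simp only [LinearMap.rTensor_tmul, Gmap_assoc_tmul, HopfAlgebra.mul_antipode_lTensor_comul_apply,
      algebraMap_smul, TensorProduct.lift.tmul, LinearMap.comp_apply, LinearMap.lsmul_apply,
      Derivation.map_smul]

lemma Psi_Dlin (b : B) : Psi K B (Dlin K B b) = KaehlerDifferential.D K B b := by
  simp only [Dlin, LinearMap.comp_apply, Psi_lTensor, ← Coalgebra.coassoc_apply, Gmap_assoc_rTensor]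
  have := LinearMap.congr_fun (Coalgebra.lift_lsmul_comp_counit_comp_comul (R := K) (A := B)) b
  simp only [LinearMap.comp_apply, LinearMap.id_apply] at this
  rw [this]

lemma Psi_comp_Phi : (Psi K B).comp (Phi K B) = LinearMap.id := by
  apply Derivation.liftKaehlerDifferential_unique
  ext b
  show Psi K B (Phi K B (KaehlerDifferential.D K B b)) = KaehlerDifferential.D K B b
  rw [Phi, Derivation.liftKaehlerDifferential_comp_D]
  exact Psi_Dlin K B b

/-- scalar multiplication on `B ⊗ ω` as a `K`-bilinear map -/
noncomputable def lsmulK' : B →ₗ[K] (B ⊗[K] omega K B) →ₗ[K] (B ⊗[K] omega K B) :=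
  LinearMap.mk₂ K (fun x w => x • w)
    (by intro x₁ x₂ w; exact add_smul _ _ _)
    (by intro c x w; exact smul_assoc _ _ _)
    (by intro x w₁ w₂; exact smul_add _ _ _)
    (by intro c x w; exact smul_comm _ _ _)

@[simp] lemma lsmulK'_apply (x : B) (w : B ⊗[K] omega K B) : lsmulK' K B x w = x • w := rfl

/-- `G' (x ⊗ s) = S x • lTensor π s` -/
noncomputable def Gmap' : B ⊗[K] (B ⊗[K] B) →ₗ[K] B ⊗[K] omega K B :=
  TensorProduct.lift
    (((lsmulK' K B) ∘ₗ HopfAlgebra.antipode K).compl₂ ((piMap K B).lTensor B))

/-- `Φ (lift fS t) = G' (lTensor comul t)` -/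
lemma Phi_lift_fS (t : B ⊗[K] B) :
    Phi K B (TensorProduct.lift (fS K B) t) = Gmap' K B (comul.lTensor B t) := by
  induction t using TensorProduct.induction_on with
  | zero => simp
  | add t₁ t₂ h₁ h₂ => simp only [map_add, h₁, h₂]
  | tmul x y =>
    simp only [TensorProduct.lift.tmul, fS_apply, map_smul, Phi,
      Derivation.liftKaehlerDifferential_comp_D, LinearMap.lTensor_tmul, Gmap',
      LinearMap.compl₂_apply, LinearMap.comp_apply, lsmulK'_apply]
    rfl

lemma Gmap'_assoc_tmul (u : B ⊗[K] B) (q : B) :
    Gmap' K B (TensorProduct.assoc K B B B (u ⊗ₜ[K] q)) =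
      (LinearMap.mul' K B ((HopfAlgebra.antipode K).rTensor B u)) ⊗ₜ[K] piMap K B q := by
  induction u using TensorProduct.induction_on with
  | zero => simp
  | add u₁ u₂ h₁ h₂ => simp only [TensorProduct.add_tmul, map_add, h₁, h₂]
  | tmul x y =>
    simp only [TensorProduct.assoc_tmul, Gmap', TensorProduct.lift.tmul, LinearMap.compl₂_apply,
      LinearMap.comp_apply, lsmulK'_apply, LinearMap.lTensor_tmul, LinearMap.rTensor_tmul,
      LinearMap.mul'_apply, TensorProduct.smul_tmul', smul_eq_mul]

lemma Gmap'_assoc_rTensor (t : B ⊗[K] B) :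
    Gmap' K B (TensorProduct.assoc K B B B (comul.rTensor B t)) =
      (1 : B) ⊗ₜ[K] piMap K B (TensorProduct.lift (LinearMap.lsmul K B ∘ₗ counit) t) := by
  induction t using TensorProduct.induction_on with
  | zero => simp
  | add t₁ t₂ h₁ h₂ => simp only [map_add, h₁, h₂, TensorProduct.tmul_add]
  | tmul p q =>
    simp only [LinearMap.rTensor_tmul, Gmap'_assoc_tmul, HopfAlgebra.mul_antipode_rTensor_comul_apply,
      TensorProduct.lift.tmul, LinearMap.comp_apply, LinearMap.lsmul_apply, map_smul,
      TensorProduct.tmul_smul, Algebra.algebraMap_eq_smul_one, TensorProduct.smul_tmul']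

lemma Phi_theta (x : B) : Phi K B (theta K B x) = (1 : B) ⊗ₜ[K] piMap K B x := by
  simp only [theta, LinearMap.comp_apply, Phi_lift_fS, ← Coalgebra.coassoc_apply,
    Gmap'_assoc_rTensor]
  have := LinearMap.congr_fun (Coalgebra.lift_lsmul_comp_counit_comp_comul (R := K) (A := B)) x
  simp only [LinearMap.comp_apply, LinearMap.id_apply] at this
  rw [this]

lemma Phi_comp_Psi : (Phi K B).comp (Psi K B) = LinearMap.id := by
  apply TensorProduct.AlgebraTensorModule.ext
  rintro b ⟨w, x, rfl⟩
  simp only [LinearMap.comp_apply, Psi, LinearMap.liftBaseChange_tmul, Submodule.subtype_apply,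
    map_smul, LinearMap.id_apply]
  rw [Phi_theta]
  simp only [TensorProduct.smul_tmul', smul_eq_mul, mul_one]
  rfl

/-- The isomorphism `Ω ≃ B ⊗ ω`. -/
noncomputable def equiv : Ω[B⁄K] ≃ₗ[B] B ⊗[K] omega K B :=
  LinearEquiv.ofLinear (Phi K B) (Psi K B) (Phi_comp_Psi K B) (Psi_comp_Phi K B)

end

/-- Affine case of the last sentence: for a group scheme over a field the module of differentials is a
free module; stated for an affine group scheme Spec B, i.e. for a commutative Hopf algebra B over a
field K: Ω_{B/K} is a free B-module. -/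
theorem result (K : Type u) [Field K] (B : Type v) [CommRing B] [HopfAlgebra K B] : Module.Free B (Ω[B⁄K]) := by
  exact Module.Free.of_equiv (equiv K B).symm

end Groth.Agent.S1846
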