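import Mathlib
import Groth.Statements.S9296
import Groth.Agent.S0564

set_option autoImplicit false
universe u
open EGA4

namespace Groth.Agent.S9296

open TopologicalSpace Set


theorem isClosed_inter_compl_of_nagata {X : Type*} [TopologicalSpace X] [NoetherianSpace X]
    [QuasiSober X] (E : Set X) (hgen : StableUnderGeneralization E)
    (h : ∀ x ∈ E, ∃ U : Set X, IsOpen U ∧ (U ∩ closure {x}).Nonempty ∧ U ∩ closure {x} ⊆ E)
    (s : Closeds X) : IsClosed ((s : Set X) ∩ Eᶜ) := by
  apply wellFounded_lt.induction s; clear s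
  intro s H
  rcases eq_or_ne s ⊥ with rfl | h₀
  · simp
  · by_cases h₁ : IsPreirreducible (s : Set X)
    · replace h₁ : IsIrreducible (s : Set X) := ⟨Closeds.coe_nonempty.2 h₀, h₁⟩
      have hgp := h₁.isGenericPoint_genericPoint_closure
      rw [s.isClosed.closure_eq] at hgp
      set η := h₁.genericPoint with hη
      by_cases hηE : η ∈ E
      · obtain ⟨U, hU, hne, hsub⟩ := h η hηE
        rw [hgp.def] at hne hsub
        let s' : Closeds X := ⟨(s : Set X) ∩ Uᶜ, s.isClosed.inter hU.isClosed_compl⟩
        have hlt : s' < s := by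
          refine lt_of_le_of_ne (fun x hx => hx.1) ?_
          intro heq
          obtain ⟨y, hyU, hys⟩ := hne
          have : y ∈ (s' : Set X) := by rw [heq]; exact hys
          exact this.2 hyU
        have := H s' hlt
        have heq : (s : Set X) ∩ Eᶜ = (s' : Set X) ∩ Eᶜ := by
          ext y
          constructor
          · rintro ⟨hys, hyE⟩
            refine ⟨⟨hys, fun hyU => hyE (hsub ⟨hyU, hys⟩)⟩, hyE⟩
          · rintro ⟨⟨hys, _⟩, hyE⟩
            exact ⟨hys, hyE⟩
        rw [heq]; exact this
      · have heq : (s : Set X) ∩ Eᶜ = (s : Set X) := by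
          ext y
          constructor
          · exact fun hy => hy.1
          · intro hys
            refine ⟨hys, fun hyE => hηE (hgen ?_ hyE)⟩
            rw [← hgp.def] at hys
            exact specializes_iff_mem_closure.mpr hys
        rw [heq]; exact s.isClosed
    · simp only [isPreirreducible_iff_isClosed_union_isClosed, not_forall, not_or] at h₁
      obtain ⟨z₁, z₂, hz₁, hz₂, h, hz₁', hz₂'⟩ := h₁
      lift z₁ to Closeds X using hz₁
      lift z₂ to Closeds X using hz₂
      have h1 := H (s ⊓ z₁) (inf_lt_left.2 hz₁')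
      have h2 := H (s ⊓ z₂) (inf_lt_left.2 hz₂')
      have heq : (s : Set X) ∩ Eᶜ = ((s ⊓ z₁ : Closeds X) : Set X) ∩ Eᶜ ∪ ((s ⊓ z₂ : Closeds X) : Set X) ∩ Eᶜ := by
        ext y
        simp only [Closeds.coe_inf, mem_inter_iff, mem_union, mem_compl_iff, SetLike.mem_coe]
        constructor
        · rintro ⟨hys, hyE⟩
          rcases h hys with h' | h'
          · exact Or.inl ⟨⟨hys, h'⟩, hyE⟩
          · exact Or.inr ⟨⟨hys, h'⟩, hyE⟩
        · rintro (⟨⟨hys, _⟩, hyE⟩ | ⟨⟨hys, _⟩, hyE⟩) <;> exact ⟨hys, hyE⟩
      rw [heq]; exact h1.union h2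

theorem isOpen_of_nagata {X : Type*} [TopologicalSpace X] [NoetherianSpace X]
    [QuasiSober X] (E : Set X) (hgen : StableUnderGeneralization E)
    (h : ∀ x ∈ E, ∃ U : Set X, IsOpen U ∧ (U ∩ closure {x}).Nonempty ∧ U ∩ closure {x} ⊆ E) :
    IsOpen E := by
  have := isClosed_inter_compl_of_nagata E hgen h ⊤
  simpa using this

theorem regLocus_stableUnderGeneralization (R : Type u) [CommRing R]
    (hloc : ∀ (A : Type u) [CommRing A] [IsRegularLocalRing A] (p : Ideal A) [p.IsPrime],
      IsRegularLocalRing (Localization.AtPrime p)) :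
    StableUnderGeneralization (EGA4.regLocus R) := by
  intro q p hpq hq
  rw [← PrimeSpectrum.le_iff_specializes] at hpq
  change IsRegularLocalRing (Localization.AtPrime q.asIdeal) at hq
  change IsRegularLocalRing (Localization.AtPrime p.asIdeal)
  have hdisj : Disjoint (q.asIdeal.primeCompl : Set R) (p.asIdeal : Set R) := by
    rw [Set.disjoint_left]
    intro x hx hxp
    exact hx (hpq hxp)
  set S := Localization.AtPrime q.asIdeal
  set P : Ideal S := Ideal.map (algebraMap R S) p.asIdeal with hP
  have hPprime : P.IsPrime :=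
    IsLocalization.isPrime_of_isPrime_disjoint q.asIdeal.primeCompl S p.asIdeal p.isPrime hdisj
  have hcomap : P.comap (algebraMap R S) = p.asIdeal :=
    IsLocalization.under_map_of_isPrime_disjoint q.asIdeal.primeCompl S p.isPrime hdisj
  have hreg : IsRegularLocalRing (Localization.AtPrime P) := hloc S P
  have e := IsLocalization.localizationLocalizationAtPrimeIsoLocalization q.asIdeal.primeCompl P
  have hreg' : IsRegularLocalRing (Localization.AtPrime (P.comap (algebraMap R S))) :=
    IsRegularLocalRing.of_ringEquiv e.symm.toRingEquiv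
  have : ∀ (I J : Ideal R) [I.IsPrime] [J.IsPrime], I = J →
      IsRegularLocalRing (Localization.AtPrime I) → IsRegularLocalRing (Localization.AtPrime J) := by
    intro I J _ _ hIJ h
    subst hIJ
    exact h
  exact this _ _ hcomap hreg'

/-- For a Noetherian ring R, the set of primes at which R is regular is open in Spec R (R is J-1)
exactly when, for each such prime p, some nonempty open part of the closed set V(p) consists of
primes at which R is regular. Stated with an open U of Spec R whose trace on V(p) is nonempty and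
contained in the regular locus. -/
theorem result (R : Type u) [CommRing R] [IsNoetherianRing R] :
    IsOpen (EGA4.regLocus R) ↔
      ∀ p ∈ EGA4.regLocus R, ∃ U : Set (PrimeSpectrum R), IsOpen U ∧
        (U ∩ PrimeSpectrum.zeroLocus (p.asIdeal : Set R)).Nonempty ∧
        U ∩ PrimeSpectrum.zeroLocus (p.asIdeal : Set R) ⊆ EGA4.regLocus R := by
  constructor
  · intro hopen p hp
    refine ⟨EGA4.regLocus R, hopen, ⟨p, hp, ?_⟩, Set.inter_subset_left⟩
    rw [PrimeSpectrum.mem_zeroLocus]
  · intro h
    refine isOpen_of_nagata _ (regLocus_stableUnderGeneralization R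
      (fun A _ _ p _ => Groth.Agent.S0564.result A p)) ?_
    intro p hp
    obtain ⟨U, hU, hne, hsub⟩ := h p hp
    rw [PrimeSpectrum.closure_singleton]
    exact ⟨U, hU, hne, hsub⟩

end Groth.Agent.S9296
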