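import Groth.Statements.S15706
import Mathlib.Tactic
import Mathlib.RingTheory.Ideal.MinimalPrime.Localization
import Mathlib.RingTheory.Ideal.AssociatedPrime.Finiteness

set_option autoImplicit false
universe u
open CAlg

namespace Groth.Agent.S15706

theorem coset_avoid {R : Type u} [CommRing R] (s : Finset (Ideal R))
    (hprime : ∀ P ∈ s, P.IsPrime) (hinc : ∀ P ∈ s, ∀ Q ∈ s, P ≤ Q → P = Q)
    (I : Ideal R) (x : R) (hx : ∀ P ∈ s, I ≤ P → x ∉ P) :
    ∃ i ∈ I, ∀ P ∈ s, x + i ∉ P := by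
  classical
  let T' := s.filter (fun P => x ∈ P)
  let T'' := s.filter (fun P => x ∉ P)
  let K : Ideal R := I ⊓ T''.inf id
  have hK : ¬ ((K : Set R) ⊆ ⋃ P ∈ (T' : Set (Ideal R)), (id P : Ideal R)) := by
    rw [Ideal.subset_union_prime (f := id) ⊥ ⊥ (fun P hP _ _ => hprime P (Finset.mem_filter.mp hP).1)]
    rintro ⟨P, hP, hKP⟩
    have hPs := (Finset.mem_filter.mp hP).1
    have hxP : x ∈ P := (Finset.mem_filter.mp hP).2
    have := hprime P hPs
    rcases (Ideal.IsPrime.inf_le (hprime P hPs)).mp hKP with h | h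
    · exact hx P hPs h hxP
    · obtain ⟨Q, hQ, hQP⟩ := (Ideal.IsPrime.inf_le' (hprime P hPs)).mp h
      have hQs := (Finset.mem_filter.mp hQ).1
      have hxQ : x ∉ Q := (Finset.mem_filter.mp hQ).2
      have := hinc Q hQs P hPs hQP
      exact hxQ (this ▸ hxP)
  rw [Set.not_subset] at hK
  obtain ⟨i, hiK, hi⟩ := hK
  refine ⟨i, hiK.1, fun P hP hmem => ?_⟩
  by_cases hxP : x ∈ P
  · apply hi
    have : i ∈ P := by
      have := P.sub_mem hmem hxP
      simpa using this
    exact Set.mem_biUnion (show P ∈ (T' : Set (Ideal R)) from Finset.mem_filter.mpr ⟨hP, hxP⟩) this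
  · have hiP : i ∈ P := by
      have h1 : T''.inf id ≤ P := Finset.inf_le (f := id) (Finset.mem_filter.mpr ⟨hP, hxP⟩)
      exact h1 hiK.2
    apply hxP
    have := P.sub_mem hmem hiP
    simpa using this


/-- Let A be a Noetherian ring with Serre's property (S_1), stated here in the equivalent form that
every associated prime of A is a minimal prime of A. Let I be an ideal of A and b an element of A/I
which is regular (a non-zero-divisor) in A/I. Then b is the image of a regular element of A. -/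
theorem result (A : Type u) [CommRing A]
    [IsNoetherianRing A] (hS1 : ∀ p ∈ associatedPrimes A A, p ∈ minimalPrimes A) (I : Ideal A)
    (b : A ⧸ I) (hb : b ∈ nonZeroDivisors (A ⧸ I)) :
    ∃ a : A, a ∈ nonZeroDivisors A ∧ Ideal.Quotient.mk I a = b := by
  classical
  obtain ⟨b₀, rfl⟩ := Ideal.Quotient.mk_surjective b
  have hfin : (associatedPrimes A A).Finite := associatedPrimes.finite A A
  let s : Finset (Ideal A) := hfin.toFinset
  have hs : ∀ P, P ∈ s ↔ P ∈ associatedPrimes A A := fun P => hfin.mem_toFinset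
  have hmin : ∀ P ∈ s, P ∈ minimalPrimes A := fun P hP => hS1 P ((hs P).mp hP)
  have hprime : ∀ P ∈ s, P.IsPrime := fun P hP => Ideal.minimalPrimes_isPrime (hmin P hP)
  have hinc : ∀ P ∈ s, ∀ Q ∈ s, P ≤ Q → P = Q := by
    intro P hP Q hQ hPQ
    have hQmin := hmin Q hQ
    have := hprime P hP
    exact le_antisymm hPQ (hQmin.2 ⟨this, bot_le⟩ hPQ)
  have hx : ∀ P ∈ s, I ≤ P → b₀ ∉ P := by
    intro P hP hIP hbP
    have hPprime := hprime P hP
    have hPI : P ∈ I.minimalPrimes := by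
      refine ⟨⟨hPprime, hIP⟩, fun Q hQ hQP => ?_⟩
      exact (hmin P hP).2 ⟨hQ.1, bot_le⟩ hQP
    rw [Ideal.minimalPrimes_eq_comap] at hPI
    obtain ⟨P', hP', rfl⟩ := hPI
    have : Ideal.Quotient.mk I b₀ ∈ P' := hbP
    exact Set.disjoint_left.mp (Ideal.disjoint_nonZeroDivisors_of_mem_minimalPrimes hP') this hb
  obtain ⟨i, hiI, hi⟩ := coset_avoid s hprime hinc I b₀ hx
  refine ⟨b₀ + i, ?_, ?_⟩
  · have h := biUnion_associatedPrimes_eq_compl_nonZeroDivisors A
    by_contra hnz
    have : b₀ + i ∈ ((nonZeroDivisors A : Set A))ᶜ := hnz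
    rw [← h] at this
    obtain ⟨P, hP, hmem⟩ := Set.mem_iUnion₂.mp this
    exact hi P ((hs P).mpr hP) hmem
  · rw [map_add, Ideal.Quotient.eq_zero_iff_mem.mpr hiI, add_zero]

end Groth.Agent.S15706
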