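import Groth.Statements.S2075
import Mathlib
import Groth.Agent.Lib.Helper50.LimStage
import Groth.Agent.Lib.Helper46.LimFlat

set_option autoImplicit false
universe u
open CategoryTheory AlgebraicGeometry
open Lim

namespace Groth.Agent.S2075

/-- Let `S = lim S_i` be the limit of a cofiltered diagram `D : I ⥤ Scheme` with affine transition
morphisms (given by a limit cone `c`), and fix `i₀` with `S_{i₀}` quasi-compact and quasi-separated.
Let `f₀ : X₀ → Y₀` and `g₀ : Y₀ → S_{i₀}` be morphisms with `X₀`, `Y₀` quasi-compact and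
quasi-separated, and let `Y = Y₀ ×_{S_{i₀}} S` and `X = X₀ ×_{Y₀} Y` be the base changes to the
limit (expressed via `IsPullback` squares), with induced morphism `f : X → Y`. If `f₀` is locally of
finite presentation and `f` is flat, then there exist `i`, a morphism `i → i₀`, and base changes
`Y_i = Y₀ ×_{S_{i₀}} S_i`, `X_i = X₀ ×_{Y₀} Y_i` (again as `IsPullback` squares) such that the
induced morphism `f_i : X_i → Y_i` is flat. -/
theorem result {I : Type u} [SmallCategory I] [IsCofiltered I]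
    (D : I ⥤ Scheme.{u}) (c : Limits.Cone D) (hc : Limits.IsLimit c)
    [∀ (i j : I) (f : i ⟶ j), IsAffineHom (D.map f)] (i₀ : I) [CompactSpace (D.obj i₀)]
    [QuasiSeparatedSpace (D.obj i₀)] {X₀ Y₀ : Scheme.{u}} (f₀ : X₀ ⟶ Y₀) (g₀ : Y₀ ⟶ D.obj i₀)
    [CompactSpace X₀] [QuasiSeparatedSpace X₀] [CompactSpace Y₀] [QuasiSeparatedSpace Y₀]
    {X Y : Scheme.{u}} (f : X ⟶ Y) (g : Y ⟶ c.pt) (qY : Y ⟶ Y₀) (qX : X ⟶ X₀)
    (hY : IsPullback qY g g₀ (c.π.app i₀)) (hX : IsPullback qX f f₀ qY) [LocallyOfFinitePresentation f₀] [Flat f] :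
    ∃ (i : I) (φ : i ⟶ i₀) (Xi Yi : Scheme.{u}) (fi : Xi ⟶ Yi) (gi : Yi ⟶ D.obj i) (pY : Yi ⟶ Y₀)
      (pX : Xi ⟶ X₀), IsPullback pY gi g₀ (D.map φ) ∧ IsPullback pX fi f₀ pY ∧ Flat fi := by
  open Groth.Agent.Lib.Helper50 Groth.Agent.Lib.Helper50.StageSetup in
  refine exists_stage D i₀ f₀ g₀ @Flat ?_
  have h3 := compactSpace_F D i₀ f₀ g₀
  have hf' : Flat (X := (cF D c i₀ f₀ g₀ f g qY qX hY hX).pt)
      (Y := (cE D c i₀ g₀ g qY hY).pt) f := ‹Flat f›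
  have hlfp : ∀ j, LocallyOfFinitePresentation ((τ D i₀ f₀ g₀).app j) := fun j =>
    inferInstanceAs (LocallyOfFinitePresentation (Limits.pullback.snd f₀ (γ D i₀ g₀ j)))
  obtain ⟨j, _, hj⟩ := Groth.Agent.Lib.Helper46.LimFlat.exists_flat_app (τ D i₀ f₀ g₀)
    (cF D c i₀ f₀ g₀ f g qY qX hY hX)
    (cE D c i₀ g₀ g qY hY) (hcE D c hc i₀ g₀ g qY hY) f
    (fun φ => isPullback_τ D i₀ f₀ g₀ φ)
    (fun j => isPullback_bcConeπ (E D i₀ g₀) (γ D i₀ g₀) f₀ (cE D c i₀ g₀ g qY hY) qY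
      (hb' D c i₀ g₀ g qY hY) qX f hX j) (Over.mk (𝟙 i₀))
  exact ⟨j, hj⟩

end Groth.Agent.S2075
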