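import Groth.Statements.S1327
import Mathlib
import Groth.Agent.S1326
import Groth.Agent.S3403
import Groth.Agent.Lib.Helper36.ProCons
import Groth.Agent.Lib.Helper78.SecCompNbhd

set_option autoImplicit false
universe u
open FlatMor

namespace Groth.Agent.S1327

open AlgebraicGeometry CategoryTheory Limits Groth.Agent.Lib.Helper78.SecCompNbhd in
/-- generizations of points of `X_y⁰` stay in `X⁰` (any base). -/
theorem mem_sectionComponents_of_specializes {X Y : Scheme.{u}} (f : X ⟶ Y) (s : Y ⟶ X)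
    (hs : s ≫ f = 𝟙 Y) [LocallyOfFinitePresentation f] [QuasiCompact f] [QuasiSeparated f]
    [Flat f] (y : Y) (hy : GeometricallyReduced (f.fiberToSpecResidueField y))
    (x x' : X) (hx : x ∈ connectedComponentIn (f ⁻¹' {y}) (s y)) (hsp : x' ⤳ x) :
    x' ∈ MoreMor.sectionComponents f s := by
  have hfx : f x = y := (connectedComponentIn_subset (f ⁻¹' {y}) (s y)) hx
  obtain ⟨_, ⟨V, hV : IsAffineOpen V, rfl⟩, hyV, -⟩ :=
    Y.isBasis_affineOpens.exists_subset_of_mem_open (Set.mem_univ y) isOpen_univ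
  have : IsAffine (V : Scheme.{u}) := hV
  have hpb : IsPullback (Scheme.Opens.ι (f ⁻¹ᵁ V)) (f ∣_ V) f (Scheme.Opens.ι V) :=
    (isPullback_morphismRestrict f V).flip
  let s' : (V : Scheme.{u}) ⟶ (f ⁻¹ᵁ V : Scheme.{u}) :=
    hpb.lift (Scheme.Opens.ι V ≫ s) (𝟙 _) (by
      rw [Category.assoc, hs, Category.comp_id, Category.id_comp])
  have hs' : s' ≫ (f ∣_ V) = 𝟙 _ := hpb.lift_snd _ _ _
  have hs'g : s' ≫ Scheme.Opens.ι (f ⁻¹ᵁ V) = Scheme.Opens.ι V ≫ s := hpb.lift_fst _ _ _
  have hbc := sectionComponents_baseChange f s hs (f ∣_ V) _ _ hpb s' hs' hs'g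
  have hxV : x ∈ f ⁻¹ᵁ V := by
    show f x ∈ V
    rw [hfx]; exact hyV
  have hx'V : x' ∈ f ⁻¹ᵁ V := hsp.mem_open (f ⁻¹ᵁ V).2 hxV
  let v : (V : Scheme.{u}) := ⟨y, hyV⟩
  let w : (f ⁻¹ᵁ V : Scheme.{u}) := ⟨x, hxV⟩
  let w' : (f ⁻¹ᵁ V : Scheme.{u}) := ⟨x', hx'V⟩
  have hιv : Scheme.Opens.ι V v = y := rfl
  have hιw : Scheme.Opens.ι (f ⁻¹ᵁ V) w = x := rfl
  have hιw' : Scheme.Opens.ι (f ⁻¹ᵁ V) w' = x' := rfl
  have hfw : (f ∣_ V) w = v := by
    apply (Scheme.Opens.ι V).isOpenEmbedding.injective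
    rw [← Scheme.Hom.comp_apply, ← hpb.w, Scheme.Hom.comp_apply, hιw, hιv, hfx]
  have hy' : GeometricallyReduced ((f ∣_ V).fiberToSpecResidueField v) :=
    (geometricallyReduced_fiber_iff_of_isPullback hpb v).1 hy
  have hw : w ∈ connectedComponentIn ((f ∣_ V) ⁻¹' {v}) (s' v) := by
    rw [← mem_sectionComponents_iff (f ∣_ V) s' w v hfw, hbc]
    show Scheme.Opens.ι (f ⁻¹ᵁ V) w ∈ MoreMor.sectionComponents f s
    rw [hιw, mem_sectionComponents_iff f s x y hfx]
    exact hx
  have hsp' : w' ⤳ w := by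
    apply ((Scheme.Opens.ι (f ⁻¹ᵁ V)).isOpenEmbedding.isInducing.specializes_iff).1
    rw [hιw, hιw']
    exact hsp
  have key := mem_sectionComponents_of_specializes_affine (f ∣_ V) s' hs' v hy' w w' hw hsp'
  rw [hbc] at key
  exact key

open AlgebraicGeometry CategoryTheory Limits in

open AlgebraicGeometry CategoryTheory Limits in
/-- Let f be flat and of finite presentation with a section s, and let y be a point of the target whose
fibre is geometrically reduced. Then the section components of (f, s) contain an open neighbourhood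
of the connected component of s y in the fibre over y. -/
theorem result {X Y : Scheme.{u}} (f : X ⟶ Y) (s : Y ⟶ X) (hs : s ≫ f = 𝟙 Y)
    [LocallyOfFinitePresentation f] [QuasiCompact f] [QuasiSeparated f] [Flat f] (y : Y)
    (hy : GeometricallyReduced (f.fiberToSpecResidueField y)) :
    connectedComponentIn (f ⁻¹' {y}) (s y) ⊆ interior (MoreMor.sectionComponents f s) := by
  intro x hx
  have hE : ProCons.IsIndConstructible (MoreMor.sectionComponents f s) :=
    Groth.Agent.Lib.Helper36.isIndConstructible_of_isLocallyConstructible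
      (Groth.Agent.S1326.result f s hs)
  rw [Groth.Agent.S3403.result X _ hE x]
  intro x' hsp
  exact mem_sectionComponents_of_specializes f s hs y hy x x' hx hsp

end Groth.Agent.S1327
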