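import Groth.Statements.S15351
import Mathlib
import Groth.Agent.S1327
import Groth.Agent.Lib.Helper94.SmoothRed
import Groth.Agent.Lib.Helper78.SecCompOpen

set_option autoImplicit false
universe u
open CategoryTheory CategoryTheory.Limits AlgebraicGeometry
open MoreMor

namespace Groth.Agent.S15351

open Groth.Agent.Lib.Helper78.SecCompOpen in
/-- the local statement: a neighbourhood of `x ∈ X⁰` inside `X⁰` -/
theorem exists_open_subset_sectionComponents {S X : Scheme.{u}} [QuasiSeparatedSpace ↥X]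
    (f : X ⟶ S) [Smooth f] (e : S ⟶ X) (he : e ≫ f = 𝟙 S) (x : X)
    (hx : x ∈ MoreMor.sectionComponents f e) :
    ∃ O : Set X, IsOpen O ∧ x ∈ O ∧ O ⊆ MoreMor.sectionComponents f e := by
  have hfe : ∀ v, f (e v) = v := fun v => by
    rw [← Scheme.Hom.comp_apply, he]; rfl
  obtain ⟨y, hy⟩ : ∃ y, y = f x := ⟨_, rfl⟩
  have hx' : x ∈ connectedComponentIn (f ⁻¹' {y}) (e y) := by rw [hy]; exact hx
  obtain ⟨_, ⟨V₀, hV₀ : IsAffineOpen V₀, rfl⟩, hyV₀, -⟩ :=
    S.isBasis_affineOpens.exists_subset_of_mem_open (Set.mem_univ y) isOpen_univ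
  -- the family of affine opens over `V₀`
  let 𝒲 : Set (Set X) := {W | ∃ W' : X.Opens, IsAffineOpen W' ∧ W' ≤ f ⁻¹ᵁ V₀ ∧ W = (W' : Set X)}
  have hcov : f ⁻¹' {y} ⊆ ⋃₀ 𝒲 := by
    intro z hz
    have hzV : z ∈ f ⁻¹ᵁ V₀ := by
      show f z ∈ V₀
      rw [hz]; exact hyV₀
    obtain ⟨_, ⟨W', hW' : IsAffineOpen W', rfl⟩, hzW, hWV⟩ :=
      X.isBasis_affineOpens.exists_subset_of_mem_open hzV (f ⁻¹ᵁ V₀).2
    exact ⟨W', ⟨W', hW', hWV, rfl⟩, hzW⟩
  have hloc : ∀ W ∈ 𝒲, ∀ z ∈ W ∩ f ⁻¹' {y}, ∃ (A O : Set X), IsOpen O ∧ A = O ∩ f ⁻¹' {y} ∧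
      A ⊆ W ∧ z ∈ A ∧ _root_.IsPreconnected A := by
    rintro _ ⟨W', hW', hWV, rfl⟩ z hz
    haveI := noetherianSpace_inter_fibre f hV₀ hW' hWV y hyV₀
    exact exists_open_preconnected_piece (f ⁻¹' {y}) (W' : Set X) W'.2 z hz
  obtain ⟨𝒲', hfin, hsub, hxP⟩ :=
    exists_finite_connectedComponentIn (f ⁻¹' {y}) (e y) (hfe y) 𝒲 hcov hloc x hx'
  -- the quasi-compact open `U`
  have hUopen : IsOpen (⋃₀ 𝒲') := isOpen_sUnion fun W hW => by
    obtain ⟨W', -, -, rfl⟩ := hsub hW
    exact W'.2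
  let U : X.Opens := ⟨⋃₀ 𝒲', hUopen⟩
  have hUc : IsCompact (U : Set X) := hfin.isCompact_sUnion fun W hW => by
    obtain ⟨W', hW', -, rfl⟩ := hsub hW
    exact hW'.isCompact
  have hUV : U ≤ f ⁻¹ᵁ V₀ := by
    rintro z ⟨W, hW, hzW⟩
    obtain ⟨W', -, hWV, rfl⟩ := hsub hW
    exact hWV hzW
  set P : Set X := connectedComponentIn ((⋃₀ 𝒲') ∩ f ⁻¹' {y}) (e y) with hP
  have hPsub : P ⊆ (U : Set X) ∩ f ⁻¹' {y} := connectedComponentIn_subset _ _
  have heyP : e y ∈ P := by
    apply mem_connectedComponentIn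
    by_contra hcon
    rw [hP, connectedComponentIn_eq_empty hcon] at hxP
    exact hxP
  have heyU : e y ∈ U := (hPsub heyP).1
  -- shrink the base
  obtain ⟨_, ⟨V, hV : IsAffineOpen V, rfl⟩, hyV, hVsub⟩ :=
    S.isBasis_affineOpens.exists_subset_of_mem_open
      (show y ∈ ((e ⁻¹ᵁ U ⊓ V₀ : S.Opens) : Set S) from ⟨heyU, hyV₀⟩) (e ⁻¹ᵁ U ⊓ V₀ : S.Opens).2
  have hVU : ∀ v ∈ V, e v ∈ U := fun v hv => (hVsub hv).1
  have hVV₀ : V ≤ V₀ := fun v hv => (hVsub hv).2
  let U'' : X.Opens := U ⊓ f ⁻¹ᵁ V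
  let g : (U'' : Scheme.{u}) ⟶ (V : Scheme.{u}) := f.resLE V U'' inf_le_right
  have hgι : g ≫ Scheme.Opens.ι V = Scheme.Opens.ι U'' ≫ f := Scheme.Hom.resLE_comp_ι _ _
  have hg : ∀ w, f (Scheme.Opens.ι U'' w) = Scheme.Opens.ι V (g w) := fun w => by
    rw [← Scheme.Hom.comp_apply, ← Scheme.Hom.comp_apply, hgι]
  haveI : IsAffine (V : Scheme.{u}) := hV
  haveI : IsAffine (V₀ : Scheme.{u}) := hV₀
  -- compactness of `U''`
  haveI : CompactSpace ↥(U : Scheme.{u}) := isCompact_iff_compactSpace.1 hUc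
  have hU''c : IsCompact (U'' : Set X) := by
    let gU : (U : Scheme.{u}) ⟶ (V₀ : Scheme.{u}) := f.resLE V₀ U hUV
    haveI : QuasiCompact gU := inferInstance
    have hgU : ∀ w, f (Scheme.Opens.ι U w) = Scheme.Opens.ι V₀ (gU w) := fun w => by
      rw [← Scheme.Hom.comp_apply, ← Scheme.Hom.comp_apply, Scheme.Hom.resLE_comp_ι]
    have h1 : IsCompact ((Scheme.Opens.ι V₀) ⁻¹' (V : Set S)) := by
      rw [(Scheme.Opens.ι V₀).isOpenEmbedding.isInducing.isCompact_preimage_iff]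
      · exact hV.isCompact
      · intro v hv
        rw [Scheme.Opens.range_ι]
        exact hVV₀ hv
    have h2 : IsCompact (gU ⁻¹' ((Scheme.Opens.ι V₀) ⁻¹' (V : Set S))) :=
      QuasiCompact.isCompact_preimage _ (V.2.preimage (Scheme.Opens.ι V₀).continuous) h1
    have h3 : (U'' : Set X) =
        Scheme.Opens.ι U '' (gU ⁻¹' ((Scheme.Opens.ι V₀) ⁻¹' (V : Set S))) := by
      ext z
      constructor
      · rintro ⟨hzU, hzV⟩
        let w : (U : Scheme.{u}) := ⟨z, hzU⟩
        refine ⟨w, ?_, rfl⟩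
        have hz' : f (Scheme.Opens.ι U w) ∈ V := hzV
        rw [hgU] at hz'
        exact hz' 
      · rintro ⟨w, hw, rfl⟩
        refine ⟨w.2, ?_⟩
        show f (Scheme.Opens.ι U w) ∈ V
        rw [hgU]
        exact hw
    rw [h3]
    exact h2.image (Scheme.Opens.ι U).continuous
  haveI : CompactSpace ↥(U'' : Scheme.{u}) := isCompact_iff_compactSpace.1 hU''c
  haveI : QuasiCompact g := inferInstance
  haveI : QuasiSeparatedSpace ↥(U'' : Scheme.{u}) :=
    (Scheme.Opens.ι U'').isOpenEmbedding.quasiSeparatedSpace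
  haveI : QuasiSeparated g := inferInstance
  haveI : Smooth g := inferInstance
  haveI : LocallyOfFinitePresentation g := inferInstance
  haveI : Flat g := inferInstance
  -- the section
  have hrange : Set.range (Scheme.Opens.ι V ≫ e) ⊆ Set.range (Scheme.Opens.ι U'') := by
    rintro _ ⟨v, rfl⟩
    rw [Scheme.Opens.range_ι]
    refine ⟨hVU _ v.2, ?_⟩
    show f ((Scheme.Opens.ι V ≫ e) v) ∈ V
    rw [Scheme.Hom.comp_apply, hfe]
    exact v.2
  let e'' : (V : Scheme.{u}) ⟶ (U'' : Scheme.{u}) :=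
    IsOpenImmersion.lift (Scheme.Opens.ι U'') (Scheme.Opens.ι V ≫ e) hrange
  have he''ι : e'' ≫ Scheme.Opens.ι U'' = Scheme.Opens.ι V ≫ e := IsOpenImmersion.lift_fac _ _ _
  have he'' : e'' ≫ g = 𝟙 _ := by
    rw [← cancel_mono (Scheme.Opens.ι V), Category.assoc, hgι, ← Category.assoc, he''ι,
      Category.assoc, he, Category.comp_id, Category.id_comp]
  have he''a : ∀ v, Scheme.Opens.ι U'' (e'' v) = e (Scheme.Opens.ι V v) := fun v => by
    rw [← Scheme.Hom.comp_apply, he''ι, Scheme.Hom.comp_apply]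
  -- the fibre is geometrically reduced
  let y'' : (V : Scheme.{u}) := ⟨y, hyV⟩
  have hy'' : GeometricallyReduced (g.fiberToSpecResidueField y'') := by
    haveI : Smooth (g.fiberToSpecResidueField y'') :=
      MorphismProperty.of_isPullback (P := @Smooth)
        (IsPullback.of_hasPullback g ((V : Scheme.{u}).fromSpecResidueField y'')) inferInstance
    exact Groth.Agent.Lib.Helper94.geometricallyReduced_of_smooth _
  have key := Groth.Agent.S1327.result g e'' he'' y'' hy''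
  -- the point `x` upstairs
  have hxU'' : x ∈ U'' := ⟨(hPsub hxP).1, by
    show f x ∈ V
    rw [← hy]; exact hyV⟩
  let x'' : (U'' : Scheme.{u}) := ⟨x, hxU''⟩
  have hx'' : x'' ∈ connectedComponentIn (g ⁻¹' {y''}) (e'' y'') := by
    have hQ : _root_.IsPreconnected ((Scheme.Opens.ι U'') ⁻¹' P) := by
      rw [← (Scheme.Opens.ι U'').isOpenEmbedding.isInducing.isPreconnected_image,
        Set.image_preimage_eq_inter_range, Scheme.Opens.range_ι, Set.inter_eq_left.2]
      · exact isPreconnected_connectedComponentIn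
      · intro z hz
        refine ⟨(hPsub hz).1, ?_⟩
        show f z ∈ V
        rw [(hPsub hz).2]
        exact hyV
    have hQsub : (Scheme.Opens.ι U'') ⁻¹' P ⊆ g ⁻¹' {y''} := by
      intro w hw
      show g w = y''
      apply (Scheme.Opens.ι V).isOpenEmbedding.injective
      rw [← hg]
      exact (hPsub hw).2
    have hemem : e'' y'' ∈ (Scheme.Opens.ι U'') ⁻¹' P := by
      show Scheme.Opens.ι U'' (e'' y'') ∈ P
      rw [he''a]
      exact heyP
    exact hQ.subset_connectedComponentIn hemem hQsub (show Scheme.Opens.ι U'' x'' ∈ P from hxP)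
  have hxint := key hx''
  refine ⟨Scheme.Opens.ι U'' '' interior (MoreMor.sectionComponents g e''),
    (Scheme.Opens.ι U'').isOpenEmbedding.isOpenMap _ isOpen_interior, ⟨x'', hxint, rfl⟩, ?_⟩
  rintro _ ⟨w, hw, rfl⟩
  have hw0 : w ∈ MoreMor.sectionComponents g e'' := interior_subset hw
  have hw' : w ∈ connectedComponentIn (g ⁻¹' {g w}) (e'' (g w)) := hw0
  show Scheme.Opens.ι U'' w ∈
    connectedComponentIn (f ⁻¹' {f (Scheme.Opens.ι U'' w)}) (e (f (Scheme.Opens.ι U'' w)))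
  have hpre : _root_.IsPreconnected
      (Scheme.Opens.ι U'' '' connectedComponentIn (g ⁻¹' {g w}) (e'' (g w))) :=
    isPreconnected_connectedComponentIn.image _ (Scheme.Opens.ι U'').continuous.continuousOn
  have hsubset : Scheme.Opens.ι U'' '' connectedComponentIn (g ⁻¹' {g w}) (e'' (g w)) ⊆
      f ⁻¹' {f (Scheme.Opens.ι U'' w)} := by
    rintro _ ⟨w', hw'', rfl⟩
    have h1 : g w' = g w := (connectedComponentIn_subset (g ⁻¹' {g w}) (e'' (g w))) hw''
    show f (Scheme.Opens.ι U'' w') = f (Scheme.Opens.ι U'' w)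
    rw [hg, hg, h1]
  have hmem : e (f (Scheme.Opens.ι U'' w)) ∈
      Scheme.Opens.ι U'' '' connectedComponentIn (g ⁻¹' {g w}) (e'' (g w)) := by
    refine ⟨e'' (g w), mem_connectedComponentIn ?_, ?_⟩
    · show g (e'' (g w)) = g w
      rw [← Scheme.Hom.comp_apply, he'']
      rfl
    · rw [he''a, hg]
  exact hpre.subset_connectedComponentIn hmem hsubset ⟨w, hw', rfl⟩

open AlgebraicGeometry CategoryTheory Limits in

/-- Let f : X ⟶ S be a smooth morphism of schemes, X quasi-separated, with a section e : S ⟶ X, and let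
X⁰ ⊆ X be the union over the points s of S of the connected component of e(s) in the fibre f⁻¹(s)
with its subspace topology. Then X⁰ is open in X; no quasi-compactness is assumed. (The published
statement is for an algebraic space X smooth over S; this row is the case of a scheme.) -/
theorem result {S X : Scheme.{u}} [QuasiSeparatedSpace ↥X] (f : X ⟶ S) [Smooth f]
    (e : S ⟶ X) (he : e ≫ f = 𝟙 S) :
    IsOpen (MoreMor.sectionComponents f e) := by
  rw [isOpen_iff_forall_mem_open]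
  intro x hx
  obtain ⟨O, hO, hxO, hOsub⟩ := exists_open_subset_sectionComponents f e he x hx
  exact ⟨O, hOsub, hO, hxO⟩

end Groth.Agent.S15351
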