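import Groth.Statements.S1124
import Groth.Agent.S0079
import Mathlib.AlgebraicGeometry.Morphisms.FlatDescent
import Mathlib.AlgebraicGeometry.Morphisms.SchemeTheoreticallyDominant
import Mathlib.AlgebraicGeometry.Morphisms.Immersion

set_option autoImplicit false
open CategoryTheory CategoryTheory.Limits AlgebraicGeometry Opposite
universe u
open Desc

namespace Groth.Agent.S1124

set_option backward.isDefEq.respectTransparency.types false
set_option linter.style.haveILetI false

/-- the morphism to the scheme-theoretic image is scheme-theoretically dominant. -/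
theorem isSchemeTheoreticallyDominant_toImage {X Y : Scheme.{u}} (g : X ⟶ Y) :
    IsSchemeTheoreticallyDominant g.toImage := by
  rw [isSchemeTheoreticallyDominant_iff]
  have h1 : (g.toImage.ker.subschemeι ≫ g.imageι).ker = g.imageι.ker := by
    have := Scheme.Hom.ker_comp g.toImage g.imageι
    rw [g.toImage_imageι] at this
    rw [Scheme.Hom.imageι, Scheme.IdealSheafData.ker_subschemeι]
    exact this.symm
  have h2 : IsIso g.toImage.ker.subschemeι :=
    IsClosedImmersion.isIso_of_ker_eq (g.toImage.ker.subschemeι ≫ g.imageι) g.imageι
      g.toImage.ker.subschemeι rfl h1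
  exact (Scheme.isIso_subschemeι_iff_eq_bot _).mp h2

/-- a quasi-compact scheme-theoretically dominant immersion is an open immersion. -/
theorem isOpenImmersion_of_dominant {X Y : Scheme.{u}} (k : X ⟶ Y) [IsImmersion k]
    [QuasiCompact k] [IsSchemeTheoreticallyDominant k] : IsOpenImmersion k := by
  have h : IsIso k.imageι := by
    rw [Scheme.Hom.imageι, Scheme.isIso_subschemeι_iff_eq_bot]
    exact k.ker_eq_bot
  rw [← k.toImage_imageι]
  infer_instance

/-- If the base change of a morphism of schemes along a quasi-compact, flat, surjective morphism is a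
quasi-compact immersion, then the morphism itself is a quasi-compact immersion. (Stated for a single
quasi-compact flat surjective base change; together with Zariski-locality on the target this is fpqc
descent for quasi-compact immersions.) -/
theorem result :
    MorphismProperty.DescendsAlong (@IsImmersion ⊓ @QuasiCompact : MorphismProperty Scheme.{u})
      (@Surjective ⊓ @Flat ⊓ @QuasiCompact : MorphismProperty Scheme.{u}) := by
  haveI := Groth.Agent.S0079.result.{u}
  apply MorphismProperty.DescendsAlong.mk'
  intro X Y Z f g _ hf hg
  obtain ⟨hi, hq⟩ := hg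
  have hgqc : QuasiCompact g :=
    MorphismProperty.of_pullback_fst_of_descendsAlong (P := @QuasiCompact)
      (Q := @Surjective ⊓ @Flat ⊓ @QuasiCompact) (f := f) hf hq
  refine ⟨?_, hgqc⟩
  haveI : IsImmersion (pullback.fst f g) := hi
  haveI : QuasiCompact (pullback.fst f g) := hq
  -- the base change of the cover to the scheme-theoretic image
  let fW := pullback.snd f g.imageι
  have hfW : (@Surjective ⊓ @Flat ⊓ @QuasiCompact : MorphismProperty Scheme.{u}) fW :=
    MorphismProperty.pullback_snd _ _ hf
  haveI : Flat fW := hfW.1.2
  let k := pullback.fst fW g.toImage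
  let c := pullback.fst f g.imageι
  -- `k ≫ c` is isomorphic to `pullback.fst f g`
  have hkc : IsPullback (pullback.snd fW g.toImage) (k ≫ c) g f := by
    have h1 : IsPullback (pullback.snd fW g.toImage) k g.toImage fW :=
      (IsPullback.of_hasPullback fW g.toImage).flip
    have h2 : IsPullback fW c g.imageι f := (IsPullback.of_hasPullback f g.imageι).flip
    have := h1.paste_vert h2
    rwa [g.toImage_imageι] at this
  have hkc' : k ≫ c = hkc.flip.isoPullback.hom ≫ pullback.fst f g :=
    (IsPullback.isoPullback_hom_fst _).symm
  haveI : IsImmersion (k ≫ c) := by rw [hkc']; infer_instance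
  haveI : IsImmersion k := IsImmersion.of_comp k c
  haveI : QuasiCompact k := by
    haveI := hgqc
    exact MorphismProperty.pullback_fst (P := @QuasiCompact) _ _ inferInstance
  haveI : IsSchemeTheoreticallyDominant g.toImage := isSchemeTheoreticallyDominant_toImage g
  haveI : IsSchemeTheoreticallyDominant k :=
    IsSchemeTheoreticallyDominant.of_isPullback (IsPullback.of_hasPullback fW g.toImage).flip
  have hk : IsOpenImmersion k := isOpenImmersion_of_dominant k
  haveI : IsOpenImmersion g.toImage :=
    MorphismProperty.of_pullback_fst_of_descendsAlong (P := @IsOpenImmersion)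
      (Q := @Surjective ⊓ @Flat ⊓ @QuasiCompact) (f := fW) hfW hk
  rw [← g.toImage_imageι]
  infer_instance

end Groth.Agent.S1124
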