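import Groth.Statements.S8654
import Mathlib.Tactic
import Groth.Agent.Lib.Helper43.RegImmComp
-- import your own Groth.Agent.* helpers here

set_option autoImplicit false
universe u
open CategoryTheory CategoryTheory.Limits AlgebraicGeometry
open RegImm

namespace Groth.Agent.S8654

/-- Let i : Y ⟶ X and j : Z ⟶ Y be Koszul-regular immersions (not necessarily closed). Then the
composite Z ⟶ X is a Koszul-regular immersion. -/
theorem result {X Y Z : Scheme.{u}} (i : Y ⟶ X) (j : Z ⟶ Y)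
    (hi : RegImm.IsRegularImmersion .koszul i) (hj : RegImm.IsRegularImmersion .koszul j) :
    RegImm.IsRegularImmersion .koszul (j ≫ i) := by
  obtain ⟨hi1, hi2⟩ := hi
  obtain ⟨hj1, hj2⟩ := hj
  haveI := hi1
  haveI := hj1
  refine ⟨inferInstance, fun z => ?_⟩
  obtain ⟨U, hzU, hci, rs, hrs, hker⟩ := hi2 (j z)
  obtain ⟨V, hzV, hcj, ts, hts, hkerj⟩ := hj2 z
  obtain ⟨U₁, hz₁, hc₁, l, _, hl, hkl⟩ := Groth.Agent.Lib.Helper43.RegImmComp.koszul_comp_at i j z
    U.1 U.2 hzU rs hrs hker V.1 V.2 hzV ts hts hkerj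
  exact ⟨U₁, hz₁, hc₁, l, hl, hkl⟩

end Groth.Agent.S8654
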