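import Groth.Statements.S12982
import Groth.Agent.Lib.Helper17.Pasting
import Groth.Agent.S12782

set_option autoImplicit false
universe u
open CategoryTheory AlgebraicGeometry
open AlgSt

namespace Groth.Agent.S12982

theorem isEquivOver_id {S : Scheme.{u}} (𝒜 : AlgSt.Cat S) :
    FibCat.IsEquivOver (BasedFunctor.id 𝒜) :=
  ⟨BasedFunctor.id 𝒜, ⟨Iso.refl _⟩, ⟨Iso.refl _⟩⟩

theorem repByAlgSpWith_comp_equiv {S : Scheme.{u}} {𝒲 𝒜 ℬ : AlgSt.Cat S}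
    (P : MorphismProperty (AlgSp.Sp S)) (x : 𝒲 ⥤ᵇ 𝒜) (e : 𝒜 ⥤ᵇ ℬ) (he : FibCat.IsEquivOver e)
    (hx : AlgSt.RepByAlgSpWith P x) : AlgSt.RepByAlgSpWith P (BasedFunctor.comp x e) :=
  Groth.Agent.S12782.bwd P (BasedFunctor.comp x e) x (BasedFunctor.id 𝒲) e (isEquivOver_id 𝒲) he
    (Iso.refl _) hx

theorem isQuasiCompact_of_isEquivOver {S : Scheme.{u}} {𝒜 ℬ : AlgSt.Cat S} (e : 𝒜 ⥤ᵇ ℬ)
    (he : FibCat.IsEquivOver e) (h : AlgSt.IsQuasiCompact 𝒜) : AlgSt.IsQuasiCompact ℬ := by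
  obtain ⟨U, x, hU, h1, h2⟩ := h
  exact ⟨U, BasedFunctor.comp x e, hU, repByAlgSpWith_comp_equiv _ x e he h1,
    repByAlgSpWith_comp_equiv _ x e he h2⟩

/-- The base change of a quasi-compact morphism of algebraic stacks along any morphism of algebraic
stacks is quasi-compact (quasi-compact: base change to any quasi-compact algebraic stack is
quasi-compact). -/
theorem result
    (S : Scheme.{u}) (𝒳 : AlgSt.Cat S) (𝒴 : AlgSt.Cat S) (𝒴' : AlgSt.Cat S)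
    (h𝒳 : AlgSt.IsAlgStack Scheme.fppfPrecoverage 𝒳)
    (h𝒴 : AlgSt.IsAlgStack Scheme.fppfPrecoverage 𝒴)
    (h𝒴' : AlgSt.IsAlgStack Scheme.fppfPrecoverage 𝒴')
    (f : 𝒳 ⥤ᵇ 𝒴) (g : 𝒴' ⥤ᵇ 𝒴) :
    AlgSt.IsQuasiCompactMor Scheme.fppfPrecoverage f → AlgSt.IsQuasiCompactMor Scheme.fppfPrecoverage (FibCat.fpFst g f) := by
  intro hf 𝒵 h𝒵 hqc y
  exact isQuasiCompact_of_isEquivOver _ (Groth.Agent.Lib.Helper17.PS.paste_isEquivOver y g f)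
    (hf 𝒵 h𝒵 hqc (BasedFunctor.comp y g))

end Groth.Agent.S12982
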