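import Groth.Statements.S7392
import Groth.Agent.Lib.Lead.PullbackAff3

set_option autoImplicit false
universe u
open CategoryTheory AlgebraicGeometry
open Opposite
open Mor

namespace Groth.Agent.S7392

open Groth.Agent.Lib.Lead.PullbackAff Scheme.Modules TensorProduct

/-- sections of isomorphic modules are linearly equivalent -/
noncomputable def secIso {X : Scheme.{u}} {F F' : X.Modules} (φ : F ≅ F') (U : X.Opens) :
    Γ(F, U) ≃ₗ[Γ(X, U)] Γ(F', U) :=
  ((PresheafOfModules.evaluation _ (op U)).mapIso ((SheafOfModules.forget _).mapIso φ)).toLinearEquiv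

theorem projective_of_le {X : Scheme.{u}} (G : X.Modules) [G.IsQuasicoherent] {U V : X.Opens}
    (hU : IsAffineOpen U) (hV : IsAffineOpen V) (e : U ≤ V)
    [Module.Projective Γ(X, V) Γ(G, V)] : Module.Projective Γ(X, U) Γ(G, U) := by
  have e' : U ≤ (𝟙 X) ⁻¹ᵁ V := e
  letI := ((𝟙 X : X ⟶ X).appLE V U e').hom.toAlgebra
  have h1 : Module.Projective Γ(X, U) (Γ(X, U) ⊗[Γ(X, V)] Γ(G, V)) := inferInstance
  have h2 : Module.Projective Γ(X, U) Γ((pullback (𝟙 X)).obj G, U) :=
    Module.Projective.of_equiv' (sectionsPullbackEquiv (𝟙 X) G hU hV e').symm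
  exact Module.Projective.of_equiv' (secIso ((pullbackId X).app G) U)

section
variable (A : CommRingCat.{u}) (F : (Spec A).Modules)

instance : RingHomInvPair (Scheme.ΓSpecIso A).inv.hom (Scheme.ΓSpecIso A).hom.hom :=
  ⟨by ext x; exact congr($((Scheme.ΓSpecIso A).inv_hom_id) x),
   by ext x; exact congr($((Scheme.ΓSpecIso A).hom_inv_id) x)⟩

instance : RingHomInvPair (Scheme.ΓSpecIso A).hom.hom (Scheme.ΓSpecIso A).inv.hom :=
  ⟨by ext x; exact congr($((Scheme.ΓSpecIso A).hom_inv_id) x),
   by ext x; exact congr($((Scheme.ΓSpecIso A).inv_hom_id) x)⟩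

/-- The identity, as a semilinear equivalence. -/
noncomputable def topEquiv :
    (moduleSpecΓFunctor.obj F : Type u) ≃ₛₗ[(Scheme.ΓSpecIso A).inv.hom] Γ(F, ⊤) where
  toFun x := x
  invFun x := x
  left_inv _ := rfl
  right_inv _ := rfl
  map_add' _ _ := rfl
  map_smul' _ _ := rfl

theorem projective_top_iff :
    Module.Projective Γ(Spec A, ⊤) Γ(F, ⊤) ↔ Module.Projective A (moduleSpecΓFunctor.obj F) :=
  ⟨fun _ => Module.Projective.of_equiv (topEquiv A F).symm,
   fun _ => Module.Projective.of_equiv (topEquiv A F)⟩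

end

theorem result (A : CommRingCat.{u}) (M : ModuleCat.{u} A) :
    (∀ U : (Spec A).Opens, IsAffineOpen U →
      Module.Projective ((Spec A).ringCatSheaf.obj.obj (op U)) ((tilde M).val.obj (op U))) ↔
      Module.Projective A M := by
  have key : Module.Projective A (moduleSpecΓFunctor.obj (tilde M)) ↔ Module.Projective A M :=
    ⟨fun h => by
      haveI : Module.Projective A ((tilde.functor A ⋙ moduleSpecΓFunctor).obj M) := h
      exact Module.Projective.of_equiv' (tilde.toTildeΓNatIso.app M).toLinearEquiv.symm,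
     fun h => by
      haveI : Module.Projective A ((𝟭 (ModuleCat A)).obj M) := h
      exact Module.Projective.of_equiv' (tilde.toTildeΓNatIso.app M).toLinearEquiv⟩
  constructor
  · intro h
    exact key.mp ((projective_top_iff A (tilde M)).mp (h ⊤ (isAffineOpen_top _)))
  · intro h U hU
    haveI : Module.Projective Γ(Spec A, ⊤) Γ(tilde M, ⊤) :=
      (projective_top_iff A (tilde M)).mpr (key.mpr h)
    exact projective_of_le (tilde M) hU (isAffineOpen_top _) le_top

end Groth.Agent.S7392
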