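import Groth.Statements.S15423
import Groth.Agent.Lib.Helper8.GrSyzCompare
import Groth.Agent.Lib.Helper8.GrSyzHilb

set_option autoImplicit false
universe u
open GrSyz

namespace Groth.Agent.S15423

theorem iInf_le_coe (s : WithBot (WithTop ℤ)) (t : ℤ)
    (ht : s ≤ ((t : WithTop ℤ) : WithBot (WithTop ℤ))) :
    (⨅ (r : ℤ) (_ : s ≤ ((r : WithTop ℤ) : WithBot (WithTop ℤ))),
      ((r : WithTop ℤ) : WithBot (WithTop ℤ))) ≤ ((t : WithTop ℤ) : WithBot (WithTop ℤ)) :=
  iInf_le_of_le t (iInf_le_of_le ht le_rfl)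

theorem iInf_eq_self (s : WithBot (WithTop ℤ)) :
    ⨅ (r : ℤ) (_ : s ≤ ((r : WithTop ℤ) : WithBot (WithTop ℤ))),
      ((r : WithTop ℤ) : WithBot (WithTop ℤ)) = s := by
  apply le_antisymm
  · induction s using WithBot.recBotCoe with
    | bot =>
      have hlb : ∀ t : ℤ, (⨅ (r : ℤ) (_ : (⊥ : WithBot (WithTop ℤ)) ≤
          ((r : WithTop ℤ) : WithBot (WithTop ℤ))), ((r : WithTop ℤ) : WithBot (WithTop ℤ))) ≤
          ((t : WithTop ℤ) : WithBot (WithTop ℤ)) := fun t => iInf_le_coe ⊥ t bot_le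
      generalize (⨅ (r : ℤ) (_ : (⊥ : WithBot (WithTop ℤ)) ≤
          ((r : WithTop ℤ) : WithBot (WithTop ℤ))), ((r : WithTop ℤ) : WithBot (WithTop ℤ))) = x
        at hlb
      induction x using WithBot.recBotCoe with
      | bot => exact le_rfl
      | coe y =>
        exfalso
        induction y using WithTop.recTopCoe with
        | top =>
          have := hlb 0
          rw [WithBot.coe_le_coe] at this
          exact absurd this (by simp)
        | coe t =>
          have := hlb (t - 1)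
          rw [WithBot.coe_le_coe, WithTop.coe_le_coe] at this
          omega
    | coe y =>
      induction y using WithTop.recTopCoe with
      | top => exact le_top
      | coe t => exact iInf_le_coe _ t le_rfl
  · exact le_iInf₂ fun r hr => hr

theorem map_le_iff (i : ℕ) (r : ℤ) (x : WithBot ℤ) :
    WithBot.map (fun t : ℤ => ((t - (i : ℤ) : ℤ) : WithTop ℤ)) x ≤
      ((r : WithTop ℤ) : WithBot (WithTop ℤ)) ↔ x ≤ ((r + i : ℤ) : WithBot ℤ) := by
  induction x using WithBot.recBotCoe with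
  | bot => simp
  | coe t =>
    rw [WithBot.map_coe, WithBot.coe_le_coe, WithTop.coe_le_coe, WithBot.coe_le_coe]
    omega


/-- Let k be a field, S = k[x_0, …, x_r] graded by degree, 𝔪 = (x_0, …, x_r), M a finitely generated
ℤ-graded S-module and F a minimal graded free resolution of M by finite-rank free modules with
homogeneous bases (all matrix entries in 𝔪). Then the Castelnuovo–Mumford regularity of M (an
extended integer) is the supremum over i ≥ 0 of t_i − i, where t_i is the largest degree of a basis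
vector of F_i, that is the largest nonzero degree of Tor_i^S(M, k) (−∞ when F_i = 0). In particular
the value does not depend on the minimal resolution chosen. -/
theorem result (k : Type u) [Field k] (r : ℕ)
    (M : Type u) [AddCommGroup M] [Module k M] [Module (MvPolynomial (Fin (r + 1)) k) M]
    [IsScalarTower k (MvPolynomial (Fin (r + 1)) k) M] [Module.Finite (MvPolynomial (Fin (r + 1)) k) M]
    (ℳ : ℤ → Submodule k M) [DirectSum.Decomposition ℳ] [SetLike.GradedSMul (GrSyz.stdGr k (Fin (r + 1))) ℳ]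
    (F : GrSyz.FreeRes (GrSyz.stdGr k (Fin (r + 1))) ℳ) (hF : F.IsMinimal (GrSyz.irrel (GrSyz.stdGr k (Fin (r + 1)))).toIdeal) :
    GrSyz.reg (GrSyz.stdGr k (Fin (r + 1))) ℳ (GrSyz.irrel (GrSyz.stdGr k (Fin (r + 1)))).toIdeal =
      ⨆ i : ℕ, WithBot.map (fun t : ℤ => ((t - (i : ℤ) : ℤ) : WithTop ℤ)) (F.maxGenDeg i) := by
  have hgen : ∀ ρ : ℤ, F.IsGenLE ρ ↔
      (⨆ i : ℕ, WithBot.map (fun t : ℤ => ((t - (i : ℤ) : ℤ) : WithTop ℤ)) (F.maxGenDeg i)) ≤
        ((ρ : WithTop ℤ) : WithBot (WithTop ℤ)) := by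
    intro ρ
    rw [iSup_le_iff]
    unfold GrSyz.FreeRes.IsGenLE GrSyz.FreeRes.maxGenDeg
    refine forall_congr' fun i => ?_
    rw [map_le_iff, Finset.sup_le_iff]
    constructor
    · intro h b _
      exact WithBot.coe_le_coe.mpr (h b)
    · intro h b
      exact WithBot.coe_le_coe.mp (h b (Finset.mem_univ b))
  have hreg : ∀ ρ : ℤ, GrSyz.IsRegLE (GrSyz.stdGr k (Fin (r + 1))) ℳ
      (GrSyz.irrel (GrSyz.stdGr k (Fin (r + 1)))).toIdeal ρ ↔ F.IsGenLE ρ := by
    intro ρ
    constructor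
    · rintro ⟨F', -, hF'⟩ i b
      obtain ⟨b', hb'⟩ := Groth.Agent.Lib.Helper8.GrSyzCompare.exists_deg_eq
        (fun n hn => Groth.Agent.Lib.Helper8.GrSyzHilb.stdGr_neg_eq_bot k hn)
        Groth.Agent.Lib.Helper8.GrSyzBasic.one_not_mem_irrel F F' hF i b
      rw [← hb']
      exact hF' i b'
    · intro h
      exact ⟨F, hF, h⟩
  unfold GrSyz.reg
  rw [← iInf_eq_self (⨆ i : ℕ, WithBot.map (fun t : ℤ => ((t - (i : ℤ) : ℤ) : WithTop ℤ))
    (F.maxGenDeg i))]
  refine iInf_congr fun ρ => ?_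
  exact iInf_congr_Prop ((hreg ρ).trans (hgen ρ)) (fun _ => rfl)

end Groth.Agent.S15423
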