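import Groth.Statements.S15430
import Groth.Agent.Lib.Helper8.GrSyzPD

set_option autoImplicit false
universe u
open GrSyz

namespace Groth.Agent.S15430

/-- Let k be a field, S = k[x_0, …, x_r] graded by degree, 𝔪 = (x_0, …, x_r), M a finitely generated
ℤ-graded S-module and F a minimal graded free resolution of M by free modules of finite rank with
homogeneous bases (all matrix entries in 𝔪). Then the length of F is the projective dimension of M:
for every natural number n, all terms F_i with i > n vanish if and only if M has projective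
dimension at most n as an S-module (all Ext^i_S(M, −) with i > n vanish). -/
theorem result (k : Type u) [Field k] (r : ℕ)
    (M : Type u) [AddCommGroup M] [Module k M] [Module (MvPolynomial (Fin (r + 1)) k) M]
    [IsScalarTower k (MvPolynomial (Fin (r + 1)) k) M] [Module.Finite (MvPolynomial (Fin (r + 1)) k) M]
    (ℳ : ℤ → Submodule k M) [DirectSum.Decomposition ℳ] [SetLike.GradedSMul (GrSyz.stdGr k (Fin (r + 1))) ℳ]
    (F : GrSyz.FreeRes (GrSyz.stdGr k (Fin (r + 1))) ℳ) (hF : F.IsMinimal (GrSyz.irrel (GrSyz.stdGr k (Fin (r + 1)))).toIdeal) (n : ℕ) :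
    F.HasLengthLE n ↔ CategoryTheory.HasProjectiveDimensionLE (ModuleCat.of (MvPolynomial (Fin (r + 1)) k) M) n := by
  obtain ⟨N, hsyz, hpd⟩ := Groth.Agent.Lib.Helper8.GrSyzPD.exists_syz F n
  have hpd0 := hpd 0
  have hproj : CategoryTheory.HasProjectiveDimensionLE
      (ModuleCat.of (MvPolynomial (Fin (r + 1)) k) M) n ↔
      Module.Projective (MvPolynomial (Fin (r + 1)) k) N := by
    unfold CategoryTheory.HasProjectiveDimensionLE
    rw [show n + 1 = n + 0 + 1 from rfl, hpd0, zero_add,
      ← CategoryTheory.projective_iff_hasProjectiveDimensionLT_one]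
    exact (IsProjective.iff_projective N).symm
  rw [hproj]
  constructor
  · intro hlen
    exact Groth.Agent.Lib.Helper8.GrSyzPD.projective_of_rk_succ_eq_zero F n
      (hlen (n + 1) (Nat.lt_succ_self n)) hsyz
  · intro hP
    obtain ⟨φ, hφ, hker⟩ := hsyz
    have h1 := Groth.Agent.Lib.Helper8.GrSyzPD.range_eq_bot_of_projective
      Groth.Agent.Lib.Helper8.GrSyzBasic.irrel_ne_top (F.d n) (hF n) φ hφ hker
    have h2 := Groth.Agent.Lib.Helper8.GrSyzPD.rk_succ_eq_zero F hF
      Groth.Agent.Lib.Helper8.GrSyzBasic.irrel_ne_top n h1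
    exact Groth.Agent.Lib.Helper8.GrSyzPD.hasLengthLE_of_rk_succ_eq_zero F hF
      Groth.Agent.Lib.Helper8.GrSyzBasic.irrel_ne_top n h2

end Groth.Agent.S15430
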