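import Groth.Statements.S19471
import Groth.Agent.Lib.Helper8.GrSyzMin
import Groth.Agent.S15430
import Groth.Agent.S0563
import Mathlib.RingTheory.RegularLocalRing.Polynomial
import Mathlib.RingTheory.LocalProperties.ProjectiveDimension
import Mathlib.RingTheory.KrullDimension.Polynomial

set_option autoImplicit false
universe u
open GrSyz

namespace Groth.Agent.S19471

open CategoryTheory

theorem pd_le (k : Type u) [Field k] (n : ℕ)
    (M : Type u) [AddCommGroup M] [Module (MvPolynomial (Fin (n + 1)) k) M]
    [Module.Finite (MvPolynomial (Fin (n + 1)) k) M] :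
    HasProjectiveDimensionLE (ModuleCat.of (MvPolynomial (Fin (n + 1)) k) M) (n + 1) := by
  rw [ModuleCat.hasProjectiveDimensionLE_iff_forall_maximalSpectrum]
  intro m
  have hprime : m.asIdeal.IsPrime := m.isMaximal.isPrime
  have hreg : IsRegularLocalRing (Localization.AtPrime m.asIdeal) := inferInstance
  have hdimS : ringKrullDim (MvPolynomial (Fin (n + 1)) k) = ((n + 1 : ℕ) : WithBot ℕ∞) := by
    rw [MvPolynomial.ringKrullDim_of_isNoetherianRing, ringKrullDim_eq_zero_of_field]
    simp
  have hht : m.asIdeal.height ≤ ((n + 1 : ℕ) : ℕ∞) := by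
    have h := Ideal.height_le_ringKrullDim_of_ne_top hprime.ne_top
    rw [hdimS] at h
    exact WithBot.coe_le_coe.mp h
  obtain ⟨d, hd⟩ : ∃ d : ℕ, m.asIdeal.height = d :=
    ENat.ne_top_iff_exists.mp (ne_top_of_le_ne_top (ENat.natCast_ne_top _) hht) |>.imp
      fun _ h => h.symm
  have hdle : d ≤ n + 1 := by
    rw [hd] at hht
    exact_mod_cast hht
  have hdim : ringKrullDim (Localization.AtPrime m.asIdeal) = (d : WithBot ℕ∞) := by
    rw [IsLocalization.AtPrime.ringKrullDim_eq_height m.asIdeal, hd]
    rfl
  have key := Groth.Agent.S0563.result (Localization.AtPrime m.asIdeal) d hdim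
    (((ModuleCat.of (MvPolynomial (Fin (n + 1)) k) M).localizedModule m.asIdeal.primeCompl :
      ModuleCat.{u} (Localization m.asIdeal.primeCompl)))
  exact hasProjectiveDimensionLT_of_ge _ (d + 1) (n + 1 + 1) (by omega)

/-- Let k be an algebraically closed field, S = k[x_0, …, x_n] with its standard grading, and M a
finitely generated ℤ-graded S-module. Then M has a graded free resolution of length at most n + 1:
an exact sequence 0 → F_{n+1} → … → F_1 → F_0 → M → 0 in which every F_i is a finite direct sum of
twists S(−j) (a finite-rank free module with a homogeneous basis) and all maps respect the grading. -/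
theorem result (k : Type u) [Field k] [IsAlgClosed k] (n : ℕ)
    (M : Type u) [AddCommGroup M] [Module k M] [Module (MvPolynomial (Fin (n + 1)) k) M]
    [IsScalarTower k (MvPolynomial (Fin (n + 1)) k) M] [Module.Finite (MvPolynomial (Fin (n + 1)) k) M]
    (ℳ : ℤ → Submodule k M) [DirectSum.Decomposition ℳ]
    [SetLike.GradedSMul (GrSyz.stdGr k (Fin (n + 1))) ℳ] :
    ∃ F : GrSyz.FreeRes (GrSyz.stdGr k (Fin (n + 1))) ℳ, F.HasLengthLE (n + 1) := by
  obtain ⟨F, hF⟩ := Groth.Agent.Lib.Helper8.GrSyzMin.exists_minimal (k := k) (r := n) ℳ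
  refine ⟨F, ?_⟩
  rw [Groth.Agent.S15430.result k n M ℳ F hF (n + 1)]
  exact pd_le k n M

end Groth.Agent.S19471
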