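import Groth.Statements.S14424
import Groth.Agent.Lib.Helper67.SuppLoc

set_option autoImplicit false
universe u
open LocCoh

namespace Groth.Agent.S14424

/-- Let R be a Noetherian ring. Then R is Cohen–Macaulay (every localization at a prime ideal is a
Cohen–Macaulay local ring) if and only if for every proper ideal a of R the a-depth of R equals the
height (codimension) of a. (The published statement defines a Cohen–Macaulay ring by its
localizations at maximal ideals; this row uses all prime ideals, an equivalent definition because
Cohen–Macaulayness passes to localizations.) -/
theorem result (R : Type u) [CommRing R] [IsNoetherianRing R] :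
    LocCoh.IsCohenMacaulayRing R ↔ ∀ a : Ideal R, a ≠ ⊤ → LocCoh.idealDepth a R = a.height := by
  open Groth.Agent.Lib.Helper67 in
  have hself : ∀ (p : Ideal R) [p.IsPrime],
      LocCoh.depth (Localization.AtPrime p) (LocalizedModule p.primeCompl R) =
        LocCoh.depth (Localization.AtPrime p) (Localization.AtPrime p) := fun p _ =>
    depth_congr (LinearEquiv.extendScalarsOfIsLocalization p.primeCompl (Localization.AtPrime p)
      (IsLocalizedModule.linearEquiv p.primeCompl (LocalizedModule.mkLinearMap p.primeCompl R)
        (Algebra.linearMap R (Localization.AtPrime p))))
  have hdim : ∀ (p : Ideal R) [p.IsPrime],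
      Module.supportDim (Localization.AtPrime p) (Localization.AtPrime p) =
        ((p.height : ℕ∞) : WithBot ℕ∞) := fun p _ => by
    rw [Module.supportDim_self_eq_ringKrullDim,
      IsLocalization.AtPrime.ringKrullDim_eq_height p (Localization.AtPrime p)]
  constructor
  · intro hCM a ha
    rw [idealDepth_eq_iInf_depth_localization a R]
    have hterm : ∀ p : PrimeSpectrum R,
        LocCoh.depth (Localization.AtPrime p.asIdeal) (LocalizedModule p.asIdeal.primeCompl R) =
          p.asIdeal.height := by
      intro p
      rw [hself p.asIdeal]
      have h1 := (hCM.isCohenMacaulayLocalRing_localization p.asIdeal).supportDim_eq_depth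
      rw [hdim p.asIdeal] at h1
      exact (WithBot.coe_injective h1).symm
    simp only [hterm]
    apply le_antisymm
    · rw [Ideal.height_eq_inf_minimalPrimes]
      refine le_iInf₂ fun J hJ => ?_
      exact iInf₂_le (⟨J, hJ.1.1⟩ : PrimeSpectrum R) hJ.1.2
    · exact le_iInf₂ fun p hp => Ideal.height_mono hp
  · intro h
    refine { isCohenMacaulayLocalRing_localization := fun p _ => ?_ }
    refine { supportDim_eq_depth := ?_ }
    rw [hdim p]
    congr 1
    apply le_antisymm
    · rw [← h p (Ideal.IsPrime.ne_top inferInstance), ← hself p]
      exact idealDepth_le_depth_localization p R p le_rfl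
    · have h1 := depth_le_supportDim (R := Localization.AtPrime p) (Localization.AtPrime p)
      rw [hdim p] at h1
      exact_mod_cast h1

end Groth.Agent.S14424
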