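import Groth.Statements.S18646
import Mathlib.RingTheory.FiniteStability
import Mathlib.RingTheory.Noetherian.Basic
import Mathlib.Order.WellFounded

set_option autoImplicit false
universe u
open scoped TensorProduct
open GrSegre

namespace Groth.Agent.S18646

section aux

variable {k : Type u} [Field k] {R : Type u} [CommRing R] [Algebra k R]
  (𝒜 : ℤ → Submodule k R) [GradedAlgebra 𝒜]
  {S : Type u} [CommRing S] [Algebra k S] (ℬ : ℤ → Submodule k S) [GradedAlgebra ℬ]

noncomputable def diagProj : TensorProduct k R S →ₗ[k] TensorProduct k R S :=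
  TensorProduct.lift
    ((DirectSum.toModule k ℤ (S →ₗ[k] TensorProduct k R S)
      (fun n => ((TensorProduct.mk k R S).comp (𝒜 n).subtype).compl₂ (GradedAlgebra.proj ℬ n))).comp
      (DirectSum.decomposeLinearEquiv 𝒜).toLinearMap)

theorem diagProj_tmul_of_mem {i : ℤ} {a : R} (ha : a ∈ 𝒜 i) (b : S) :
    diagProj 𝒜 ℬ (a ⊗ₜ[k] b) = a ⊗ₜ[k] (DirectSum.decompose ℬ b i : S) := by
  simp only [diagProj, TensorProduct.lift.tmul, LinearMap.coe_comp, Function.comp_apply,
    LinearEquiv.coe_coe, DirectSum.decomposeLinearEquiv_apply]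
  rw [DirectSum.decompose_of_mem 𝒜 ha]
  erw [DirectSum.toModule_lof]
  simp [GradedAlgebra.proj_apply]

theorem diagProj_mul_tmul {n : ℤ} {ta : R} (hta : ta ∈ 𝒜 n) {tb : S} (htb : tb ∈ ℬ n)
    (z : TensorProduct k R S) :
    diagProj 𝒜 ℬ ((ta ⊗ₜ[k] tb) * z) = (ta ⊗ₜ[k] tb) * diagProj 𝒜 ℬ z := by
  induction z using TensorProduct.induction_on with
  | zero => simp
  | add x y hx hy => rw [mul_add, map_add, hx, hy, map_add, mul_add]
  | tmul a' b' =>
    induction a' using DirectSum.Decomposition.inductionOn 𝒜 with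
    | zero => simp
    | add x y hx hy =>
      rw [TensorProduct.add_tmul, mul_add, map_add, hx, hy, map_add, mul_add]
    | homogeneous a' =>
      rename_i i
      rw [Algebra.TensorProduct.tmul_mul_tmul,
        diagProj_tmul_of_mem 𝒜 ℬ (SetLike.mul_mem_graded hta a'.2),
        diagProj_tmul_of_mem 𝒜 ℬ a'.2, Algebra.TensorProduct.tmul_mul_tmul,
        DirectSum.coe_decompose_mul_add_of_left_mem ℬ htb]

theorem diagProj_mul_of_mem_span {n : ℤ} {y : TensorProduct k R S}
    (hy : y ∈ Submodule.span k {x : TensorProduct k R S | ∃ a ∈ 𝒜 n, ∃ b ∈ ℬ n, x = a ⊗ₜ[k] b})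
    (z : TensorProduct k R S) :
    diagProj 𝒜 ℬ (y * z) = y * diagProj 𝒜 ℬ z := by
  induction hy using Submodule.span_induction with
  | mem x hx =>
    obtain ⟨a, ha, b, hb, rfl⟩ := hx
    exact diagProj_mul_tmul 𝒜 ℬ ha hb z
  | zero => simp
  | add x y _ _ hx hy => rw [add_mul, map_add, hx, hy, add_mul]
  | smul c x _ hx => rw [smul_mul_assoc, map_smul, hx, smul_mul_assoc]

theorem diagProj_mem_span_of_mem {i : ℤ} {a : R} (ha : a ∈ 𝒜 i) (b : S) :
    diagProj 𝒜 ℬ (a ⊗ₜ[k] b) ∈
      Submodule.span k {x : TensorProduct k R S | ∃ a ∈ 𝒜 i, ∃ b ∈ ℬ i, x = a ⊗ₜ[k] b} := by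
  rw [diagProj_tmul_of_mem 𝒜 ℬ ha]
  exact Submodule.subset_span ⟨a, ha, _, Submodule.coe_mem _, rfl⟩

end aux

/-- Let R and S be graded rings defined over a field k. Then their Segre product T = R # S is a
Noetherian ring (hence again a graded ring defined over k). Here a graded ring defined over k is a
commutative k-algebra of finite type, graded in nonnegative degrees by k-subspaces with degree-zero
part k·1; the Segre product T = R # S = ⊕_n R_n ⊗_k S_n (graded by T_n = R_n ⊗_k S_n) is presented
abstractly as a graded k-algebra T with an injective k-algebra homomorphism ψ : T → R ⊗_k S carrying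
T_n onto the k-span of the elementary tensors a ⊗ b with a ∈ R_n, b ∈ S_n, for every n. -/
theorem result (k : Type u) [Field k] (R : Type u) [CommRing R] [Algebra k R] (𝒜 : ℤ → Submodule k R) [GradedAlgebra 𝒜] (hposR : ∀ n : ℤ, n < 0 → 𝒜 n = ⊥) (h0R : 𝒜 0 = Submodule.span k {(1 : R)}) [Algebra.FiniteType k R] (S : Type u) [CommRing S] [Algebra k S] (ℬ : ℤ → Submodule k S) [GradedAlgebra ℬ] (hposS : ∀ n : ℤ, n < 0 → ℬ n = ⊥) (h0S : ℬ 0 = Submodule.span k {(1 : S)}) [Algebra.FiniteType k S] (T : Type u) [CommRing T] [Algebra k T] (𝒯 : ℤ → Submodule k T) [GradedAlgebra 𝒯] (ψ : T →ₐ[k] TensorProduct k R S) (hψ : Function.Injective ψ) (hdegT : ∀ n : ℤ, (𝒯 n).map ψ.toLinearMap = Submodule.span k {x : TensorProduct k R S | ∃ a ∈ 𝒜 n, ∃ b ∈ ℬ n, x = a ⊗ₜ[k] b}) : IsNoetherianRing T := by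
  classical
  -- R ⊗ S is noetherian
  have hft1 : Algebra.FiniteType R (TensorProduct k R S) := inferInstance
  have hft : Algebra.FiniteType k (TensorProduct k R S) := Algebra.FiniteType.trans ‹_› hft1
  have hN : IsNoetherianRing (TensorProduct k R S) := Algebra.FiniteType.isNoetherianRing k _
  -- T-linearity of the diagonal projection
  have hlin : ∀ (t : T) (z : TensorProduct k R S),
      diagProj 𝒜 ℬ (ψ t * z) = ψ t * diagProj 𝒜 ℬ z := by
    intro t z
    induction t using DirectSum.Decomposition.inductionOn 𝒯 with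
    | zero => simp
    | add x y hx hy => rw [map_add, add_mul, map_add, hx, hy, add_mul]
    | homogeneous t =>
      rename_i n
      apply diagProj_mul_of_mem_span 𝒜 ℬ (n := n)
      rw [← hdegT n]
      exact ⟨t, t.2, rfl⟩
  have hrange : ∀ z : TensorProduct k R S, diagProj 𝒜 ℬ z ∈ LinearMap.range ψ.toLinearMap := by
    intro z
    induction z using TensorProduct.induction_on with
    | zero => simp
    | add x y hx hy => rw [map_add]; exact Submodule.add_mem _ hx hy
    | tmul a b =>
      induction a using DirectSum.Decomposition.inductionOn 𝒜 with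
      | zero => simp
      | add x y hx hy =>
        rw [TensorProduct.add_tmul, map_add]
        exact Submodule.add_mem _ hx hy
      | homogeneous a =>
        rename_i i
        have h1 := diagProj_mem_span_of_mem 𝒜 ℬ a.2 b
        rw [← hdegT i] at h1
        exact LinearMap.map_le_range h1
  have hone : diagProj 𝒜 ℬ (1 : TensorProduct k R S) = 1 := by
    rw [Algebra.TensorProduct.one_def, diagProj_tmul_of_mem 𝒜 ℬ (SetLike.GradedOne.one_mem)]
    rw [DirectSum.decompose_of_mem_same ℬ (SetLike.GradedOne.one_mem)]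
  -- contraction of extension
  have hcontr : ∀ (I : Ideal T) (x : T), ψ x ∈ Ideal.map ψ I → x ∈ I := by
    intro I x hx
    have hP : ∀ y ∈ Ideal.map ψ I, ∀ z : TensorProduct k R S,
        ∃ x' ∈ I, diagProj 𝒜 ℬ (z * y) = ψ x' := by
      intro y hy
      induction hy using Submodule.span_induction with
      | mem y hy =>
        obtain ⟨i, hi, rfl⟩ := hy
        intro z
        obtain ⟨t, ht⟩ := hrange z
        refine ⟨i * t, I.mul_mem_right t hi, ?_⟩
        rw [mul_comm, hlin, ← ht, map_mul]
        rfl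
      | zero =>
        intro z
        exact ⟨0, I.zero_mem, by simp⟩
      | add y y' _ _ hy hy' =>
        intro z
        obtain ⟨x1, hx1, h1⟩ := hy z
        obtain ⟨x2, hx2, h2⟩ := hy' z
        exact ⟨x1 + x2, I.add_mem hx1 hx2, by rw [mul_add, map_add, h1, h2, map_add]⟩
      | smul c y _ hy =>
        intro z
        obtain ⟨x1, hx1, h1⟩ := hy (z * c)
        exact ⟨x1, hx1, by rw [smul_eq_mul, ← mul_assoc, h1]⟩
    obtain ⟨x', hx', h'⟩ := hP (ψ x) hx 1
    rw [one_mul, ← mul_one (ψ x), hlin, hone, mul_one] at h'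
    rw [hψ h']
    exact hx'
  have hmono : StrictMono (fun I : Ideal T => Ideal.map ψ I) := by
    apply Monotone.strictMono_of_injective
    · intro I J hIJ
      exact Ideal.map_mono hIJ
    · intro I J hIJ
      apply le_antisymm
      · intro x hx
        apply hcontr J x
        rw [← show Ideal.map ψ I = Ideal.map ψ J from hIJ]
        exact Ideal.mem_map_of_mem ψ hx
      · intro x hx
        apply hcontr I x
        rw [show Ideal.map ψ I = Ideal.map ψ J from hIJ]
        exact Ideal.mem_map_of_mem ψ hx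
  have hwf : WellFoundedGT (Ideal (TensorProduct k R S)) := isNoetherian_iff'.mp hN
  have : WellFoundedGT (Ideal T) := hmono.wellFoundedGT
  exact isNoetherian_iff'.mpr this

end Groth.Agent.S18646
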