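import Groth.Statements.S18647
import Groth.Agent.S18646
import Groth.Agent.Lib.Helper14.SegreUpper
import Groth.Agent.Lib.Helper14.SegreLower
import Groth.Agent.Lib.Helper14.GradedFG

set_option autoImplicit false
universe u
open scoped TensorProduct
open GrSegre

namespace Groth.Agent.S18647


open Groth.Agent.Lib.Helper14 in
theorem main_aux (k : Type u) [Field k] (R : Type u) [CommRing R] [Algebra k R] (𝒜 : ℤ → Submodule k R) [GradedAlgebra 𝒜] (hposR : ∀ n : ℤ, n < 0 → 𝒜 n = ⊥) (h0R : 𝒜 0 = Submodule.span k {(1 : R)}) [Algebra.FiniteType k R] (S : Type u) [CommRing S] [Algebra k S] (ℬ : ℤ → Submodule k S) [GradedAlgebra ℬ] (hposS : ∀ n : ℤ, n < 0 → ℬ n = ⊥) (h0S : ℬ 0 = Submodule.span k {(1 : S)}) [Algebra.FiniteType k S] (T : Type u) [CommRing T] [Algebra k T] (𝒯 : ℤ → Submodule k T) [GradedAlgebra 𝒯] (ψ : T →ₐ[k] TensorProduct k R S) (hψ : Function.Injective ψ) (hdegT : ∀ n : ℤ, (𝒯 n).map ψ.toLinearMap = Submodule.span k {x : TensorProduct k R S | ∃ a ∈ 𝒜 n,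 ∃ b ∈ ℬ n, x = a ⊗ₜ[k] b}) (r' s' : ℕ) (hr : ringKrullDim R = ((r' + 1 : ℕ) : WithBot ℕ∞)) (hs : ringKrullDim S = ((s' + 1 : ℕ) : WithBot ℕ∞)) : ringKrullDim T = ((r' + s' + 1 : ℕ) : WithBot ℕ∞) := by
  classical
  haveI : Nontrivial R := by
    by_contra h
    rw [not_nontrivial_iff_subsingleton] at h
    rw [ringKrullDim_eq_bot_of_subsingleton] at hr
    exact WithBot.bot_ne_coe hr
  haveI : Nontrivial S := by
    by_contra h
    rw [not_nontrivial_iff_subsingleton] at h
    rw [ringKrullDim_eq_bot_of_subsingleton] at hs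
    exact WithBot.bot_ne_coe hs
  have hdimC := ringKrullDim_tensorProduct k R S (r' + 1) (s' + 1) hr hs
  haveI : Nontrivial (TensorProduct k R S) := by
    by_contra h
    rw [not_nontrivial_iff_subsingleton] at h
    rw [ringKrullDim_eq_bot_of_subsingleton] at hdimC
    exact WithBot.bot_ne_coe hdimC
  haveI : Nontrivial T := ψ.toRingHom.domain_nontrivial
  have hDn : ∀ n : ℤ, (𝒯 n).map ψ.toLinearMap = Dn 𝒜 ℬ n := hdegT
  have hnegT : ∀ n : ℤ, n < 0 → 𝒯 n = ⊥ := by
    intro n hn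
    have h1 : (𝒯 n).map ψ.toLinearMap = ⊥ := by
      rw [hdegT n, Submodule.span_eq_bot]
      rintro _ ⟨a, ha, b, -, rfl⟩
      rw [hposR n hn] at ha
      rw [(Submodule.mem_bot k).mp ha, TensorProduct.zero_tmul]
    rw [eq_bot_iff]
    intro x hx
    have h2 : ψ.toLinearMap x ∈ (𝒯 n).map ψ.toLinearMap := Submodule.mem_map_of_mem hx
    rw [h1, Submodule.mem_bot] at h2
    rw [Submodule.mem_bot]
    exact hψ (by rw [map_zero]; exact h2)
  have h0T : 𝒯 0 = Submodule.span k {(1 : T)} := by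
    apply Submodule.map_injective_of_injective (f := ψ.toLinearMap) hψ
    rw [hdegT 0, Submodule.map_span, Set.image_singleton]
    have h1 : ψ.toLinearMap 1 = (1 : TensorProduct k R S) := map_one ψ
    rw [h1]
    apply le_antisymm
    · rw [Submodule.span_le]
      rintro _ ⟨a, ha, b, hb, rfl⟩
      rw [h0R] at ha
      rw [h0S] at hb
      obtain ⟨α, rfl⟩ := Submodule.mem_span_singleton.mp ha
      obtain ⟨β, rfl⟩ := Submodule.mem_span_singleton.mp hb
      rw [TensorProduct.smul_tmul_smul, ← Algebra.TensorProduct.one_def]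
      exact Submodule.smul_mem _ _ (Submodule.mem_span_singleton_self _)
    · rw [Submodule.span_le, Set.singleton_subset_iff]
      apply Submodule.subset_span
      exact ⟨1, SetLike.GradedOne.one_mem, 1, SetLike.GradedOne.one_mem, rfl⟩
  haveI : IsNoetherianRing T :=
    Groth.Agent.S18646.result k R 𝒜 hposR h0R S ℬ hposS h0S T 𝒯 ψ hψ hdegT
  haveI : Algebra.FiniteType k T := finiteType_of_isNoetherianRing_of_graded 𝒯 hnegT h0T
  have hrange : ∀ y : T, ψ y ∈ Dlin 𝒜 ℬ := by
    intro y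
    induction y using DirectSum.Decomposition.inductionOn 𝒯 with
    | zero => rw [map_zero]; exact Subalgebra.zero_mem _
    | add x y hx hy => rw [map_add]; exact Subalgebra.add_mem _ hx hy
    | homogeneous t =>
      rename_i n
      apply Dn_le_Dlin 𝒜 ℬ n
      rw [← hDn n]
      exact ⟨t, t.2, rfl⟩
  obtain ⟨N, hN⟩ := exists_natCast_eq_ringKrullDim k T
  have hlower : r' + s' + 1 ≤ N := by
    obtain ⟨m, hm, hmD⟩ := exists_lower_family 𝒜 ℬ hposR h0R hposS h0S r' s' hr hs
    have hex : ∀ l, ∃ t : T, ψ t = m l := by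
      intro l
      obtain ⟨n, hn⟩ := hmD l
      rw [← hDn n] at hn
      obtain ⟨t, -, ht⟩ := hn
      exact ⟨t, ht⟩
    choose t ht using hex
    have htind : AlgebraicIndependent k t := by
      apply AlgebraicIndependent.of_comp ψ
      have : (ψ ∘ t) = m := funext ht
      rw [this]
      exact hm
    have h1 := card_le_ringKrullDim_of_algebraicIndependent k T t htind
    rw [hN] at h1
    have h2 : Fintype.card (Fin (r' + 1) ⊕ Fin s') ≤ N := by exact_mod_cast h1
    simp only [Fintype.card_sum, Fintype.card_fin] at h2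
    omega
  have hupper : N ≤ r' + s' + 1 := by
    rcases Nat.eq_zero_or_pos N with h0 | hpos
    · omega
    · obtain ⟨x, hx⟩ := exists_algebraicIndependent_of_ringKrullDim_eq k T N hN
      have h1 := upper_bound 𝒜 ℬ hposR h0R h0S (r' + 1) (s' + 1) hr hs hpos
        (fun i => ψ (x i)) (fun i => hrange (x i)) (hx.map' hψ)
      omega
  rw [hN]
  have : N = r' + s' + 1 := le_antisymm hupper hlower
  rw [this]

/-- Let R and S be graded rings defined over a field k with dim R = r ≥ 1 and dim S = s ≥ 1. Then the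
Segre product T = R # S has Krull dimension r + s − 1. Here a graded ring defined over k is a
commutative k-algebra of finite type, graded in nonnegative degrees by k-subspaces with degree-zero
part k·1; the Segre product T = R # S = ⊕_n R_n ⊗_k S_n (graded by T_n = R_n ⊗_k S_n) is presented
abstractly as a graded k-algebra T with an injective k-algebra homomorphism ψ : T → R ⊗_k S carrying
T_n onto the k-span of the elementary tensors a ⊗ b with a ∈ R_n, b ∈ S_n, for every n. -/
theorem result (k : Type u) [Field k] (R : Type u) [CommRing R] [Algebra k R] (𝒜 : ℤ → Submodule k R) [GradedAlgebra 𝒜] (hposR : ∀ n : ℤ, n < 0 → 𝒜 n = ⊥) (h0R : 𝒜 0 = Submodule.span k {(1 : R)}) [Algebra.FiniteType k R] (S : Type u) [CommRing S] [Algebra k S] (ℬ : ℤ → Submodule k S) [GradedAlgebra ℬ] (hposS : ∀ n : ℤ, n < 0 → ℬ n = ⊥) (h0S : ℬ 0 = Submodule.span k {(1 : S)}) [Algebra.FiniteType k S] (T : Type u) [CommRing T] [Algebra k T] (𝒯 : ℤ → Submodule k T) [GradedAlgebra 𝒯] (ψ :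 T →ₐ[k] TensorProduct k R S) (hψ : Function.Injective ψ) (hdegT : ∀ n : ℤ, (𝒯 n).map ψ.toLinearMap = Submodule.span k {x : TensorProduct k R S | ∃ a ∈ 𝒜 n, ∃ b ∈ ℬ n, x = a ⊗ₜ[k] b}) (r s : ℕ) (hr : ringKrullDim R = r) (hs : ringKrullDim S = s) (h1r : 1 ≤ r) (h1s : 1 ≤ s) : ringKrullDim T = ((r + s - 1 : ℕ) : WithBot ℕ∞) := by
  obtain ⟨r', rfl⟩ : ∃ r', r = r' + 1 := ⟨r - 1, by omega⟩
  obtain ⟨s', rfl⟩ : ∃ s', s = s' + 1 := ⟨s - 1, by omega⟩
  have := main_aux k R 𝒜 hposR h0R S ℬ hposS h0S T 𝒯 ψ hψ hdegT r' s' hr hs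
  have e : r' + 1 + (s' + 1) - 1 = r' + s' + 1 := by omega
  rw [e]
  exact this

end Groth.Agent.S18647
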