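import Groth.Statements.S19747
import Mathlib
import Groth.Agent.Lib.Helper93.Segre
import Groth.Agent.Lib.Helper93.SegreAct

set_option autoImplicit false
universe u
open scoped TensorProduct
open GrSegre

namespace Groth.Agent.S19747

/-- Let R and S be graded rings defined over a field k with Segre product T = R # S, and let M be a
finitely generated graded R-module and N a finitely generated graded S-module. Then M # N is a
finitely generated T-module. Here a graded ring defined over k is a commutative k-algebra of finite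
type, graded in nonnegative degrees by k-subspaces with degree-zero part k·1; the Segre product T =
R # S = ⊕_n R_n ⊗_k S_n is presented abstractly as a graded k-algebra T with an injective k-algebra
homomorphism ψ : T → R ⊗_k S carrying T_n onto the k-span of the elementary tensors a ⊗ b with a ∈
R_n, b ∈ S_n; the Segre product M # N = ⊕_n M_n ⊗_k N_n of a graded R-module M and a graded S-module
N is presented abstractly as a graded T-module P with an injective k-linear map φ : P → M ⊗_k N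
carrying P_n onto the k-span of the tensors x ⊗ y with x ∈ M_n, y ∈ N_n and turning the action of t
∈ T into that of ψ(t) (acting factorwise on M ⊗_k N). -/
theorem result (k : Type u) [Field k] (R : Type u) [CommRing R] [Algebra k R] (𝒜 : ℤ → Submodule k R) [GradedAlgebra 𝒜] (hposR : ∀ n : ℤ, n < 0 → 𝒜 n = ⊥) (h0R : 𝒜 0 = Submodule.span k {(1 : R)}) [Algebra.FiniteType k R] (S : Type u) [CommRing S] [Algebra k S] (ℬ : ℤ → Submodule k S) [GradedAlgebra ℬ] (hposS : ∀ n : ℤ, n < 0 → ℬ n = ⊥) (h0S : ℬ 0 = Submodule.span k {(1 : S)}) [Algebra.FiniteType k S] (T : Type u) [CommRing T] [Algebra k T] (𝒯 : ℤ → Submodule k T) [GradedAlgebra 𝒯] (ψ : T →ₐ[k] TensorProduct k R S) (hT : GrSeg.IsSegreRing 𝒜 ℬ 𝒯 ψ) (M : Type u) [AddCommGroup M] [Module R M] [Module k M] [IsScalarTower k R M] (ℳ : ℤ → AddSubgroup M) [DirectSum.Decomposition ℳ] [SetLike.GradedSMul 𝒜 ℳ] [Module.Finite R M] (N : Type u) [AddCommGroup N] [Module S N] [Module k N] [IsScalarTower k S N] (𝒩 : ℤ → AddSubgroup N) [DirectSum.Decomposition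 𝒩] [SetLike.GradedSMul ℬ 𝒩] [Module.Finite S N] (P : Type u) [AddCommGroup P] [Module T P] [Module k P] [IsScalarTower k T P] (𝒬 : ℤ → AddSubgroup P) [DirectSum.Decomposition 𝒬] (φ : P →ₗ[k] TensorProduct k M N) (hP : GrSeg.IsSegreMod ψ ℳ 𝒩 𝒬 φ) : Module.Finite T P := by
  classical
  have hM : ∀ (i j : ℤ) (a : R) (x : M), a ∈ 𝒜 i → x ∈ ℳ j → a • x ∈ ℳ (i + j) := by
    intro i j a x ha hx
    have h := SetLike.GradedSMul.smul_mem (A := 𝒜) (B := ℳ) ha hx
    rwa [vadd_eq_add] at h
  have hN : ∀ (i j : ℤ) (b : S) (y : N), b ∈ ℬ i → y ∈ 𝒩 j → b • y ∈ 𝒩 (i + j) := by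
    intro i j b y hb hy
    have h := SetLike.GradedSMul.smul_mem (A := ℬ) (B := 𝒩) hb hy
    rwa [vadd_eq_add] at h
  letI := Lib.Helper93.SegreAct.segModule k R S M N
  haveI hfin : Module.Finite (TensorProduct k R S) (TensorProduct k M N) :=
    Lib.Helper93.SegreAct.seg_finite k R S M N
  have hft1 : Algebra.FiniteType R (TensorProduct k R S) := inferInstance
  have hft : Algebra.FiniteType k (TensorProduct k R S) := Algebra.FiniteType.trans ‹_› hft1
  haveI hN' : IsNoetherianRing (TensorProduct k R S) := Algebra.FiniteType.isNoetherianRing k _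
  haveI : IsNoetherian (TensorProduct k R S) (TensorProduct k M N) :=
    isNoetherian_of_isNoetherianRing_of_finite _ _
  set H : Set P := {p | ∃ j, p ∈ 𝒬 j} with hH
  have hfg : (Submodule.span (TensorProduct k R S) (φ '' H)).FG := IsNoetherian.noetherian _
  obtain ⟨F0, hF0sub, hF0⟩ := (Submodule.fg_span_iff_fg_span_finset_subset _).mp hfg
  obtain ⟨P0, hP0sub, hP0img⟩ := Finset.subset_set_image_iff.mp hF0sub
  refine ⟨⟨P0, ?_⟩⟩
  rw [eq_top_iff]
  intro p hp
  clear hp
  induction p using DirectSum.Decomposition.inductionOn 𝒬 with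
  | zero => exact zero_mem _
  | add p1 p2 h1 h2 => exact add_mem h1 h2
  | homogeneous p =>
    rename_i n
    have hpH : (p : P) ∈ H := ⟨n, p.2⟩
    have hφp : φ p ∈ Submodule.span (TensorProduct k R S)
        ((P0.image φ : Finset (TensorProduct k M N)) : Set (TensorProduct k M N)) := by
      rw [hP0img, ← hF0]
      exact Submodule.subset_span ⟨p, hpH, rfl⟩
    rw [Submodule.mem_span_finset] at hφp
    obtain ⟨f, -, hsum⟩ := hφp
    rw [Finset.sum_image (fun a _ b _ h => hP.injective h)] at hsum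
    have hdeg : ∀ q ∈ P0, ∃ j, q ∈ 𝒬 j := fun q hq => hP0sub hq
    choose! deg hdeg using hdeg
    have h2 := congrArg (Lib.Helper93.SegreAct.diagM 𝒜 ℬ ℳ 𝒩 hM hN n) hsum
    rw [Lib.Helper93.SegreAct.diagM_of_mem 𝒜 ℬ ℳ 𝒩 hM hN
      ((Lib.Helper93.Segre.mem_piece_iff ℳ 𝒩 𝒬 hP).mp p.2), map_sum] at h2
    have hterm : ∀ q ∈ P0, ∃ t : T,
        Lib.Helper93.SegreAct.diagM 𝒜 ℬ ℳ 𝒩 hM hN n (f (φ q) • φ q) = φ (t • q) := by
      intro q hq
      rw [Lib.Helper93.SegreAct.seg_smul_def, Lib.Helper93.SegreAct.diagM_act 𝒜 ℬ ℳ 𝒩 hM hN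
        ((Lib.Helper93.Segre.mem_piece_iff ℳ 𝒩 𝒬 hP).mp (hdeg q hq))]
      have hz := Lib.Helper93.SegreAct.diagR_mem 𝒜 ℬ (n - deg q) (f (φ q))
      rw [← hT.2 (n - deg q)] at hz
      obtain ⟨t, _, ht⟩ := hz
      refine ⟨t, ?_⟩
      rw [hP.map_smul]
      have ht' : ψ t = Lib.Helper93.SegreAct.diagR 𝒜 ℬ (n - deg q) (f (φ q)) := ht
      rw [ht']
    choose! t ht using hterm
    have hfin : φ (∑ q ∈ P0, t q • q) = φ p := by
      rw [map_sum, ← h2]
      exact Finset.sum_congr rfl (fun q hq => (ht q hq).symm)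
    rw [← hP.injective hfin]
    exact Submodule.sum_mem _ (fun q hq => Submodule.smul_mem _ _ (Submodule.subset_span hq))

end Groth.Agent.S19747
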