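import Groth.Statements.S19754
import Groth.Agent.S19747
import Groth.Agent.Lib.Helper90.SegG
import Groth.Agent.Lib.Helper90.SegCM2
import Groth.Agent.Lib.Helper90.SegCM3
import Groth.Agent.Lib.Helper90.SegCM4

set_option autoImplicit false
universe u
open scoped TensorProduct
open GrSegre

namespace Groth.Agent.S19754

/-- Let R and S be graded rings defined over a field k, T = R # S, M a finitely generated graded
Cohen–Macaulay R-module of dimension r ≥ 1 and N a finitely generated graded Cohen–Macaulay S-module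
of dimension s ≥ 1. Then either M # N = 0 or dim (M # N) = r + s − 1. The letters r and s stand here
for the dimensions of the modules M and N themselves and are not assumed to equal dim R and dim S;
the proof by homogeneous parameter systems of M and N establishes this general form. Here a graded
ring defined over k is a commutative k-algebra of finite type, graded in nonnegative degrees by
k-subspaces with degree-zero part k·1; the Segre product T = R # S = ⊕_n R_n ⊗_k S_n is presented
abstractly as a graded k-algebra T with an injective k-algebra homomorphism ψ : T → R ⊗_k S carrying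
T_n onto the k-span of the elementary tensors a ⊗ b with a ∈ R_n, b ∈ S_n; the Segre product M # N =
⊕_n M_n ⊗_k N_n of a graded R-module M and a graded S-module N is presented abstractly as a graded
T-module P with an injective k-linear map φ : P → M ⊗_k N carrying P_n onto the k-span of the
tensors x ⊗ y with x ∈ M_n, y ∈ N_n and turning the action of t ∈ T into that of ψ(t) (acting
factorwise on M ⊗_k N); a module over a ring is called Cohen–Macaulay when each of its localizations
at a prime ideal is zero or a Cohen–Macaulay module over the local ring (dimension of the support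
equal to the depth), and the dimension of a module is the Krull dimension of its support. -/
theorem result (k : Type u) [Field k] (R : Type u) [CommRing R] [Algebra k R] (𝒜 : ℤ → Submodule k R) [GradedAlgebra 𝒜] (hposR : ∀ n : ℤ, n < 0 → 𝒜 n = ⊥) (h0R : 𝒜 0 = Submodule.span k {(1 : R)}) [Algebra.FiniteType k R] (S : Type u) [CommRing S] [Algebra k S] (ℬ : ℤ → Submodule k S) [GradedAlgebra ℬ] (hposS : ∀ n : ℤ, n < 0 → ℬ n = ⊥) (h0S : ℬ 0 = Submodule.span k {(1 : S)}) [Algebra.FiniteType k S] (T : Type u) [CommRing T] [Algebra k T] (𝒯 : ℤ → Submodule k T) [GradedAlgebra 𝒯] (ψ : T →ₐ[k] TensorProduct k R S) (hT : GrSeg.IsSegreRing 𝒜 ℬ 𝒯 ψ) (M : Type u) [AddCommGroup M] [Module R M] [Module k M] [IsScalarTower k R M] (ℳ : ℤ → AddSubgroup M) [DirectSum.Decomposition ℳ] [SetLike.GradedSMul 𝒜 ℳ] [Module.Finite R M] (N : Type u) [AddCommGroup N] [Module S N] [Module k N] [IsScalarTower k S N] (𝒩 : ℤ → AddSubgroup N) [DirectSum.Decomposition 𝒩] [SetLike.GradedSMul ℬ 𝒩] [Module.Finite S N]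 (P : Type u) [AddCommGroup P] [Module T P] [Module k P] [IsScalarTower k T P] (𝒬 : ℤ → AddSubgroup P) [DirectSum.Decomposition 𝒬] (φ : P →ₗ[k] TensorProduct k M N) (hP : GrSeg.IsSegreMod ψ ℳ 𝒩 𝒬 φ) (r s : ℕ) (h1r : 1 ≤ r) (h1s : 1 ≤ s) (hdM : Module.supportDim R M = r) (hdN : Module.supportDim S N = s) (hMcm : (∀ (q : Ideal R) [q.IsPrime], Subsingleton (LocalizedModule q.primeCompl M) ∨ LocCoh.IsCohenMacaulayModule (Localization.AtPrime q) (LocalizedModule q.primeCompl M))) (hNcm : (∀ (q : Ideal S) [q.IsPrime], Subsingleton (LocalizedModule q.primeCompl N) ∨ LocCoh.IsCohenMacaulayModule (Localization.AtPrime q) (LocalizedModule q.primeCompl N))) : Module.supportDim T P = ((r + s - 1 : ℕ) : WithBot ℕ∞) ∨ Subsingleton P := by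
  classical
  by_cases hsub : Subsingleton P
  · exact Or.inr hsub
  left
  have hnt : Nontrivial P := not_subsingleton_iff_nontrivial.mp hsub
  -- a nonzero pure tensor `x ⊗ y` of some degree `n`
  obtain ⟨p, hp⟩ := exists_ne (0 : P)
  have hex : ∃ n, Lib.Helper90.Seg.comp 𝒬 n p ≠ 0 := by
    by_contra h
    push Not at h
    exact hp (Lib.Helper90.Seg.eq_zero_of_comp 𝒬 h)
  obtain ⟨n, hn⟩ := hex
  have hp₁ : Lib.Helper90.Seg.comp 𝒬 n p ∈ 𝒬 n := Lib.Helper90.Seg.comp_mem 𝒬 n p
  have hφp₁ : φ (Lib.Helper90.Seg.comp 𝒬 n p) ∈ GrSeg.segrePiece k ℳ 𝒩 n :=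
    Lib.Helper90.Seg.segMod_map_mem hP hp₁
  have hφne : φ (Lib.Helper90.Seg.comp 𝒬 n p) ≠ 0 := fun h =>
    hn (hP.injective (by rw [h, map_zero]))
  have hex2 : ∃ x ∈ ℳ n, ∃ y ∈ 𝒩 n, x ⊗ₜ[k] y ≠ (0 : TensorProduct k M N) := by
    by_contra h
    push Not at h
    apply hφne
    have hle : GrSeg.segrePiece k ℳ 𝒩 n ≤ ⊥ := by
      unfold GrSeg.segrePiece
      rw [Submodule.span_le]
      rintro _ ⟨a, ha, b, hb, rfl⟩
      exact h a ha b hb
    exact (Submodule.mem_bot k).mp (hle hφp₁)
  obtain ⟨x, hx, y, hy, hxy⟩ := hex2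
  have hx0 : x ≠ 0 := by
    rintro rfl
    exact hxy (TensorProduct.zero_tmul _ _)
  have hy0 : y ≠ 0 := by
    rintro rfl
    exact hxy (TensorProduct.tmul_zero _ _)
  obtain ⟨p₀, hp₀, hφp₀⟩ := Lib.Helper90.Seg.segMod_exists_of_mem hP
    (Lib.Helper90.Seg.tmul_mem_segrePiece ℳ 𝒩 hx hy)
  -- finiteness and reduction to the annihilator
  have hfin : Module.Finite T P :=
    Groth.Agent.S19747.result k R 𝒜 hposR h0R S ℬ hposS h0S T 𝒯 ψ hT M ℳ N 𝒩 P 𝒬 φ hP
  rw [Module.supportDim_eq_ringKrullDim_quotient_annihilator]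
  have hK₁ := Lib.Helper90.Seg.ringKrullDim_quotient_ker_quotMapSeg 𝒜 ℬ 𝒯 ψ hposR h0R hposS h0S hT
    (Lib.Helper90.Seg.annihilator_isHomogeneous 𝒜 ℳ)
    (Lib.Helper90.Seg.annihilator_isHomogeneous ℬ 𝒩) r s
    (by rw [← Module.supportDim_eq_ringKrullDim_quotient_annihilator]; exact hdM)
    (by rw [← Module.supportDim_eq_ringKrullDim_quotient_annihilator]; exact hdN) h1r h1s
  have hK₂ := Lib.Helper90.Seg.ringKrullDim_quotient_ker_quotMapSeg 𝒜 ℬ 𝒯 ψ hposR h0R hposS h0S hT
    (Lib.Helper90.Seg.annEl_isHomogeneous 𝒜 ℳ hx)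
    (Lib.Helper90.Seg.annEl_isHomogeneous ℬ 𝒩 hy) r s
    (by rw [Lib.Helper90.Seg.ringKrullDim_quotient_annEl 𝒜 ℳ h0R hMcm hx0]; exact hdM)
    (by rw [Lib.Helper90.Seg.ringKrullDim_quotient_annEl ℬ 𝒩 h0S hNcm hy0]; exact hdN) h1r h1s
  have hle₁ : RingHom.ker (Lib.Helper90.Seg.quotMapSeg ψ (Module.annihilator R M)
      (Module.annihilator S N)) ≤ Module.annihilator T P := by
    intro t ht
    rw [RingHom.mem_ker, Lib.Helper90.Seg.quotMapSeg_apply] at ht
    rw [Module.mem_annihilator]
    intro q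
    apply hP.injective
    rw [hP.map_smul, Lib.Helper90.Seg.act_eq_zero_of_map_mk_eq_zero le_rfl le_rfl ht,
      LinearMap.zero_apply, map_zero]
  have hle₂ : Module.annihilator T P ≤ RingHom.ker (Lib.Helper90.Seg.quotMapSeg ψ
      (Lib.Helper90.Seg.annEl (R := R) x) (Lib.Helper90.Seg.annEl (R := S) y)) := by
    intro t ht
    rw [RingHom.mem_ker, Lib.Helper90.Seg.quotMapSeg_apply]
    apply Lib.Helper90.Seg.map_mk_eq_zero_of_act_eq_zero
    rw [← hφp₀, ← hP.map_smul, Module.mem_annihilator.mp ht p₀, map_zero]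
  apply le_antisymm
  · rw [← hK₁]
    exact Lib.Helper67.ringKrullDim_quotient_le_of_le hle₁
  · rw [← hK₂]
    exact Lib.Helper67.ringKrullDim_quotient_le_of_le hle₂

end Groth.Agent.S19754
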