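import Groth.Statements.S15432
import Groth.Agent.Lib.Helper8.GrSyzHB
import Groth.Agent.S15428

set_option autoImplicit false
universe u
open GrSyz

namespace Groth.Agent.S15432

open Groth.Agent.Lib.Helper8.GrSyzBasic Groth.Agent.Lib.Helper8.GrSyzHB

section PartA

variable {k : Type u} [Field k]
  {M : Type u} [AddCommGroup M] [Module k M] [Module (MvPolynomial (Fin 3) k) M]
  {ℳ : ℤ → Submodule k M} [DirectSum.Decomposition ℳ]
  [SetLike.GradedSMul (GrSyz.stdGr k (Fin 3)) ℳ]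

theorem partA (F : GrSyz.FreeRes (GrSyz.stdGr k (Fin 3)) ℳ)
    (hF : F.IsMinimal (GrSyz.irrel (GrSyz.stdGr k (Fin 3))).toIdeal) (hlen : F.HasLengthLE 2)
    (t : ℕ) (h1 : F.rk 1 = t + 1) (h2 : F.rk 2 = t)
    (ha : ∀ i j : Fin (t + 1), i ≤ j →
      F.deg 1 (Fin.cast h1.symm j) ≤ F.deg 1 (Fin.cast h1.symm i))
    (hb : ∀ i j : Fin t, i ≤ j → F.deg 2 (Fin.cast h2.symm j) ≤ F.deg 2 (Fin.cast h2.symm i))
    (i : Fin t) :
    1 ≤ F.deg 2 (Fin.cast h2.symm i) - F.deg 1 (Fin.cast h1.symm i.castSucc) := by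
  by_contra hcon
  have hle : F.deg 2 (Fin.cast h2.symm i) ≤ F.deg 1 (Fin.cast h1.symm i.castSucc) := by omega
  have ha' : ∀ p p' : Fin (F.rk 1), p.val ≤ p'.val → F.deg 1 p' ≤ F.deg 1 p := by
    intro p p' hpp'
    have := ha (Fin.cast h1 p) (Fin.cast h1 p') (Fin.le_def.mpr hpp')
    simpa using this
  have hb' : ∀ q q' : Fin (F.rk 2), q.val ≤ q'.val → F.deg 2 q' ≤ F.deg 2 q := by
    intro q q' hqq'
    have := hb (Fin.cast h2 q) (Fin.cast h2 q') (Fin.le_def.mpr hqq')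
    simpa using this
  refine zero_pattern_false F (irrel_ne_top (k := k) (σ := Fin 3)) hF (hlen 3 (by norm_num))
    (by rw [h1, h2]) i.val (by rw [h2]; exact i.2) ?_
  intro p q hp hq
  have hq' : F.deg 2 q ≤ F.deg 2 (Fin.cast h2.symm i) := hb' (Fin.cast h2.symm i) q (by simpa using hq)
  have hp' : F.deg 1 (Fin.cast h1.symm i.castSucc) ≤ F.deg 1 p :=
    ha' p (Fin.cast h1.symm i.castSucc) (by simpa using hp)
  exact eq_zero_of_mem_irrel_of_mem_stdGr_nonpos (n := F.deg (1 + 1) q - F.deg 1 p)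
    (by change F.deg 2 q - F.deg 1 p ≤ 0; omega) (F.d_mem 1 p q) (hF 1 p q)

end PartA

section PartB

theorem sum_quad (n : ℕ) (a : Fin n → ℤ) (d : ℤ) :
    ∑ b, ((d - a b) + 2) * ((d - a b) + 1) =
      (n : ℤ) * (d ^ 2 + 3 * d + 2) - (2 * d + 3) * ∑ b, a b + ∑ b, (a b) ^ 2 := by
  have h : ∀ b, ((d - a b) + 2) * ((d - a b) + 1) =
      (d ^ 2 + 3 * d + 2) - (2 * d + 3) * a b + (a b) ^ 2 := fun b => by ring
  simp_rw [h]
  rw [Finset.sum_add_distrib, Finset.sum_sub_distrib, Finset.sum_const, Finset.card_univ,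
    Fintype.card_fin, ← Finset.mul_sum]
  simp

variable {k : Type u} [Field k]
  {M : Type u} [AddCommGroup M] [Module k M] [Module (MvPolynomial (Fin 3) k) M]
  [IsScalarTower k (MvPolynomial (Fin 3) k) M]
  {ℳ : ℤ → Submodule k M} [DirectSum.Decomposition ℳ]
  [SetLike.GradedSMul (GrSyz.stdGr k (Fin 3)) ℳ]

theorem partB (Z : Finset (Fin 3 → k)) (I : Ideal (MvPolynomial (Fin 3) k))
    (hI : ∀ f : MvPolynomial (Fin 3) k, f ∈ I ↔
      ∀ p ∈ Z, ∀ j : ℕ, MvPolynomial.eval p (MvPolynomial.homogeneousComponent j f) = 0)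
    (π : MvPolynomial (Fin 3) k →ₗ[MvPolynomial (Fin 3) k] M) (hπ : Function.Surjective π)
    (hπg : GrLC.IsGrHom (GrSyz.stdGr k (Fin 3)) ℳ π) (hker : LinearMap.ker π = I)
    (F : GrSyz.FreeRes (GrSyz.stdGr k (Fin 3)) ℳ) (hlen : F.HasLengthLE 2) :
    (F.rk 0 : ℤ) - F.rk 1 + F.rk 2 = 0 ∧
      (∑ b, F.deg 0 b) - (∑ b, F.deg 1 b) + ∑ b, F.deg 2 b = 0 := by
  have : Module.Finite (MvPolynomial (Fin 3) k) M := Module.Finite.of_surjective π hπ
  set D1 : ℤ := ∑ i ∈ Finset.range 3, ∑ b : Fin (F.rk i), |F.deg i b| with hD1def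
  have hD1 : ∀ i ∈ Finset.range 3, ∀ b : Fin (F.rk i), F.deg i b ≤ D1 := by
    intro i hi b
    calc F.deg i b ≤ |F.deg i b| := le_abs_self _
      _ ≤ ∑ b : Fin (F.rk i), |F.deg i b| :=
        Finset.single_le_sum (f := fun b => |F.deg i b|) (fun _ _ => abs_nonneg _)
          (Finset.mem_univ b)
      _ ≤ D1 := Finset.single_le_sum (f := fun i => ∑ b : Fin (F.rk i), |F.deg i b|)
          (fun _ _ => Finset.sum_nonneg fun _ _ => abs_nonneg _) hi
  have hformula : ∀ d : ℤ, D1 ≤ d → 2 * (Module.finrank k ↥(ℳ d) : ℤ) =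
      ∑ i ∈ Finset.range 3, (-1 : ℤ) ^ i *
        ∑ b : Fin (F.rk i), ((d - F.deg i b) + 2) * ((d - F.deg i b) + 1) := by
    intro d hd
    rw [Groth.Agent.S15428.result k 2 M ℳ F 2 hlen d, Finset.mul_sum]
    apply Finset.sum_congr rfl
    intro i hi
    rw [mul_left_comm, Finset.mul_sum]
    congr 1
    apply Finset.sum_congr rfl
    intro b _
    have hb := hD1 i hi b
    rw [if_pos (by omega), two_mul_choose]
    have : ((d - F.deg i b).toNat : ℤ) = d - F.deg i b := Int.toNat_of_nonneg (by omega)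
    rw [this]
  have hbound := quad_bounded ((F.rk 0 : ℤ) - F.rk 1 + F.rk 2)
    (3 * ((F.rk 0 : ℤ) - F.rk 1 + F.rk 2) -
      2 * ((∑ b, F.deg 0 b) - (∑ b, F.deg 1 b) + ∑ b, F.deg 2 b))
    (2 * ((F.rk 0 : ℤ) - F.rk 1 + F.rk 2) -
      3 * ((∑ b, F.deg 0 b) - (∑ b, F.deg 1 b) + ∑ b, F.deg 2 b) +
      ((∑ b, (F.deg 0 b) ^ 2) - (∑ b, (F.deg 1 b) ^ 2) + ∑ b, (F.deg 2 b) ^ 2))
    (2 * (Z.card : ℤ)) D1 (by
      intro d hd
      have h1 := hformula d hd
      rw [Finset.sum_range_succ, Finset.sum_range_succ, Finset.sum_range_one, sum_quad, sum_quad,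
        sum_quad] at h1
      have h2 : (Module.finrank k ↥(ℳ d) : ℤ) ≤ Z.card := by
        exact_mod_cast finrank_le_card (r := 2) π hπg hπ Z I hI hker d
      have h3 : (0 : ℤ) ≤ (Module.finrank k ↥(ℳ d) : ℤ) := Int.natCast_nonneg _
      constructor
      · nlinarith
      · nlinarith)
  obtain ⟨hA, hB⟩ := hbound
  refine ⟨hA, ?_⟩
  rw [hA] at hB
  omega

end PartB

section PartC

open DirectSum

variable {k : Type u} [Field k]
  {M : Type u} [AddCommGroup M] [Module k M] [Module (MvPolynomial (Fin 3) k) M]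
  [IsScalarTower k (MvPolynomial (Fin 3) k) M]
  {ℳ : ℤ → Submodule k M} [DirectSum.Decomposition ℳ]
  [SetLike.GradedSMul (GrSyz.stdGr k (Fin 3)) ℳ]

theorem partC (Z : Finset (Fin 3 → k)) (hZne : Z.Nonempty) (I : Ideal (MvPolynomial (Fin 3) k))
    (hI : ∀ f : MvPolynomial (Fin 3) k, f ∈ I ↔
      ∀ p ∈ Z, ∀ j : ℕ, MvPolynomial.eval p (MvPolynomial.homogeneousComponent j f) = 0)
    (π : MvPolynomial (Fin 3) k →ₗ[MvPolynomial (Fin 3) k] M) (hπ : Function.Surjective π)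
    (hπg : GrLC.IsGrHom (GrSyz.stdGr k (Fin 3)) ℳ π) (hker : LinearMap.ker π = I)
    (F : GrSyz.FreeRes (GrSyz.stdGr k (Fin 3)) ℳ)
    (hF : F.IsMinimal (GrSyz.irrel (GrSyz.stdGr k (Fin 3))).toIdeal) :
    (∀ b, 0 ≤ F.deg 0 b) ∧ ∃ b, F.deg 0 b ≤ 0 := by
  constructor
  · intro b
    by_contra hlt
    have h0 : F.aug b = 0 :=
      eq_zero_of_mem_neg (r := 2) π hπg hπ _ (not_le.mp hlt) (F.aug b) (F.aug_mem b)
    have h1 : Fintype.linearCombination (MvPolynomial (Fin 3) k) F.aug (Pi.single b 1) = 0 := by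
      rw [Fintype.linearCombination_apply_single, one_smul, h0]
    have h2 := coord_mem_of_mem_ker_aug hF h1 b
    rw [Pi.single_eq_same] at h2
    exact one_not_mem_irrel h2
  · by_contra hcon
    rw [not_exists] at hcon
    have hπ1 : π 1 ≠ 0 := by
      intro h
      have h1 : (1 : MvPolynomial (Fin 3) k) ∈ I := by
        rw [← hker]; exact h
      obtain ⟨p, hp⟩ := hZne
      have h2 := (hI 1).mp h1 p hp 0
      rw [MvPolynomial.homogeneousComponent_of_mem
        ((MvPolynomial.mem_homogeneousSubmodule _ _).2 (MvPolynomial.isHomogeneous_one _ _)),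
        if_pos rfl, map_one] at h2
      exact one_ne_zero h2
    obtain ⟨v, hv⟩ := F.aug_surjective (π 1)
    have hmem : π 1 ∈ ℳ 0 := hπg 0 1 (SetLike.GradedOne.one_mem)
    have h3 : (decompose ℳ (π 1) 0 : M) = π 1 := decompose_of_mem_same ℳ hmem
    rw [← hv, Fintype.linearCombination_apply, decompose_sum, DFinsupp.finsetSum_apply,
      AddSubmonoidClass.coe_finsetSum] at h3
    apply hπ1
    rw [← hv, Fintype.linearCombination_apply, ← h3]
    apply Finset.sum_eq_zero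
    intro b _
    rw [Groth.Agent.Lib.Helper8.GrSyzStrand.coe_decompose_smul_of_right_mem
      (GrSyz.stdGr k (Fin 3)) ℳ 0 (F.aug_mem b)]
    have hneg : (0 : ℤ) - F.deg 0 b < 0 := by
      have := not_le.mp (hcon b)
      omega
    have h4 : (decompose (GrSyz.stdGr k (Fin 3)) (v b) (0 - F.deg 0 b) :
        MvPolynomial (Fin 3) k) = 0 := by
      have hm := SetLike.coe_mem (decompose (GrSyz.stdGr k (Fin 3)) (v b) (0 - F.deg 0 b))
      have hbot := Groth.Agent.Lib.Helper8.GrSyzHilb.stdGr_neg_eq_bot k (σ := Fin 3) hneg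
      exact (Submodule.mem_bot k).mp (hbot ▸ hm)
    rw [h4, zero_smul]

end PartC


/-- Let k be a field, Z a nonempty finite set of nonzero vectors of k^3, regarded as points of the
projective plane, I ⊆ S = k[x_0, x_1, x_2] the homogeneous vanishing ideal of Z (a polynomial lies
in I exactly when each of its homogeneous components vanishes at every vector of Z), M = S/I given
as a ℤ-graded S-module with a surjective degree-preserving S-linear map π : S → M with kernel I, and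
F a minimal graded free resolution of M of length at most 2 whose terms F_1 and F_2 have ranks t + 1
and t, with basis degrees a_1 ≥ … ≥ a_{t+1} for F_1 and b_1 ≥ … ≥ b_t for F_2 (non-increasing along
the chosen bases), so that the (i, j) entry of the matrix F_2 → F_1 has degree b_j − a_i. Put e_i =
b_i − a_i and f_i = b_i − a_{i+1}. Then e_i ≥ 1 and f_i ≥ 1 for every i, and Σ_i a_i = Σ_j b_j
(equivalently a_i = Σ_{j < i} e_j + Σ_{j ≥ i} f_j for every i). (The ordering of both bases is the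
standing assumption under which the published statement is made; this row carries it as the
hypotheses on the basis degrees. The further inequalities f_i ≥ e_i and f_i ≥ e_{i+1} follow at once
from the ordering and are not restated.) -/
theorem result (k : Type u) [Field k]
    (Z : Finset (Fin 3 → k)) (hZ : ∀ p ∈ Z, p ≠ 0) (hZne : Z.Nonempty) (I : Ideal (MvPolynomial (Fin 3) k))
    (hI : ∀ f : MvPolynomial (Fin 3) k, f ∈ I ↔
      ∀ p ∈ Z, ∀ j : ℕ, MvPolynomial.eval p (MvPolynomial.homogeneousComponent j f) = 0)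
    (M : Type u) [AddCommGroup M] [Module k M] [Module (MvPolynomial (Fin 3) k) M] [IsScalarTower k (MvPolynomial (Fin 3) k) M]
    (ℳ : ℤ → Submodule k M) [DirectSum.Decomposition ℳ] [SetLike.GradedSMul (GrSyz.stdGr k (Fin 3)) ℳ]
    (π : MvPolynomial (Fin 3) k →ₗ[MvPolynomial (Fin 3) k] M) (hπ : Function.Surjective π)
    (hπg : GrLC.IsGrHom (GrSyz.stdGr k (Fin 3)) ℳ π) (hker : LinearMap.ker π = I)
    (F : GrSyz.FreeRes (GrSyz.stdGr k (Fin 3)) ℳ) (hF : F.IsMinimal (GrSyz.irrel (GrSyz.stdGr k (Fin 3))).toIdeal) (hlen : F.HasLengthLE 2)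
    (t : ℕ) (h1 : F.rk 1 = t + 1) (h2 : F.rk 2 = t)
    (ha : ∀ i j : Fin (t + 1), i ≤ j → F.deg 1 (Fin.cast h1.symm j) ≤ F.deg 1 (Fin.cast h1.symm i))
    (hb : ∀ i j : Fin t, i ≤ j → F.deg 2 (Fin.cast h2.symm j) ≤ F.deg 2 (Fin.cast h2.symm i)) :
    (∀ i : Fin t, 1 ≤ F.deg 2 (Fin.cast h2.symm i) - F.deg 1 (Fin.cast h1.symm i.castSucc) ∧
        1 ≤ F.deg 2 (Fin.cast h2.symm i) - F.deg 1 (Fin.cast h1.symm i.succ)) ∧
      ∑ i : Fin (t + 1), F.deg 1 (Fin.cast h1.symm i) = ∑ j : Fin t, F.deg 2 (Fin.cast h2.symm j) := by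
  constructor
  · intro i
    have hA := partA F hF hlen t h1 h2 ha hb i
    refine ⟨hA, ?_⟩
    have := ha i.castSucc i.succ (Fin.castSucc_le_succ i)
    omega
  · obtain ⟨hA, hS⟩ := partB Z I hI π hπ hπg hker F hlen
    obtain ⟨hnn, b0, hb0⟩ := partC Z hZne I hI π hπ hπg hker F hF
    have h0 : F.rk 0 = 1 := by
      rw [h1, h2] at hA
      push_cast at hA
      omega
    have hsub : Subsingleton (Fin (F.rk 0)) := by
      rw [h0]; infer_instance
    have hs0 : ∑ b, F.deg 0 b = 0 := by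
      rw [Fintype.sum_eq_single b0 (fun b hb => absurd (Subsingleton.elim b b0) hb)]
      have := hnn b0
      omega
    rw [hs0] at hS
    have e1 : ∑ i : Fin (t + 1), F.deg 1 (Fin.cast h1.symm i) = ∑ b, F.deg 1 b :=
      Fintype.sum_equiv (finCongr h1.symm) _ _ (fun i => rfl)
    have e2 : ∑ j : Fin t, F.deg 2 (Fin.cast h2.symm j) = ∑ b, F.deg 2 b :=
      Fintype.sum_equiv (finCongr h2.symm) _ _ (fun i => rfl)
    rw [e1, e2]
    omega

end Groth.Agent.S15432
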