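import Groth.Statements.S16572
import Mathlib.FieldTheory.IsAlgClosed.AlgebraicClosure
import Mathlib.FieldTheory.Isaacs
import Mathlib.RingTheory.LocalRing.ResidueField.Instances
import Mathlib.RingTheory.Polynomial.ScaleRoots
import Mathlib.Algebra.Polynomial.Lifts
import Mathlib.RingTheory.Localization.Integer
import Mathlib.Tactic
-- import your own Groth.Agent.* helpers here

set_option autoImplicit false
universe u
open CAlg

namespace Groth.Agent.S16572

open Polynomial

abbrev Idx (A : Type u) [CommRing A] := {P : Polynomial A // P.Monic ∧ 0 < P.natDegree}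

noncomputable abbrev JJ (A : Type u) [CommRing A] : Ideal (MvPolynomial (Idx A) A) :=
  Ideal.span (Set.range fun P : Idx A => Polynomial.aeval (MvPolynomial.X (R := A) P) P.1)

abbrev TT (A : Type u) [CommRing A] := MvPolynomial (Idx A) A ⧸ JJ A

theorem aeval_X_eq_zero (A : Type u) [CommRing A] (P : Idx A) :
    Polynomial.aeval (Ideal.Quotient.mk (JJ A) (MvPolynomial.X P)) P.1 = 0 := by
  have h1 : Polynomial.aeval (Ideal.Quotient.mkₐ A (JJ A) (MvPolynomial.X P)) P.1 =
      Ideal.Quotient.mkₐ A (JJ A) (Polynomial.aeval (MvPolynomial.X P) P.1) :=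
    Polynomial.aeval_algHom_apply _ _ _
  have h2 : Ideal.Quotient.mkₐ A (JJ A) (Polynomial.aeval (MvPolynomial.X P) P.1) = 0 :=
    Ideal.Quotient.eq_zero_iff_mem.mpr (Ideal.subset_span ⟨P, rfl⟩)
  rw [h2] at h1
  exact h1

theorem isIntegral_TT (A : Type u) [CommRing A] : Algebra.IsIntegral A (TT A) := by
  constructor
  intro x
  obtain ⟨x, rfl⟩ := Ideal.Quotient.mk_surjective x
  induction x using MvPolynomial.induction_on with
  | C a => exact isIntegral_algebraMap (R := A) (A := TT A) (x := a)
  | add p q hp hq => rw [map_add]; exact hp.add hq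
  | mul_X p i hp =>
    rw [map_mul]
    exact hp.mul ⟨i.1, i.2.1, aeval_X_eq_zero A i⟩

theorem surj (A : Type u) [CommRing A] :
    Function.Surjective (PrimeSpectrum.comap (algebraMap A (TT A))) := by
  intro 𝔭
  let K := 𝔭.asIdeal.ResidueField
  let Ω := AlgebraicClosure K
  let ψ₀ : A →+* Ω := (algebraMap K Ω).comp (algebraMap A K)
  let _ : Algebra A Ω := ψ₀.toAlgebra
  have hroot : ∀ P : Idx A, ∃ ρ : Ω, Polynomial.aeval ρ P.1 = 0 := by
    intro P
    have hdeg : (P.1.map ψ₀).degree ≠ 0 := by
      have hm : (P.1.map ψ₀).Monic := P.2.1.map ψ₀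
      rw [Polynomial.degree_eq_natDegree hm.ne_zero, P.2.1.natDegree_map]
      exact_mod_cast P.2.2.ne'
    obtain ⟨ρ, hρ⟩ := IsAlgClosed.exists_root (P.1.map ψ₀) hdeg
    refine ⟨ρ, ?_⟩
    rw [Polynomial.IsRoot, Polynomial.eval_map] at hρ
    exact hρ
  choose ρ hρ using hroot
  let Φ : MvPolynomial (Idx A) A →ₐ[A] Ω := MvPolynomial.aeval ρ
  have hΦ : ∀ a ∈ JJ A, Φ a = 0 := by
    intro a ha
    have : JJ A ≤ RingHom.ker Φ.toRingHom := by
      rw [Ideal.span_le]
      rintro _ ⟨P, rfl⟩
      show Φ (Polynomial.aeval (MvPolynomial.X P) P.1) = 0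
      rw [← Polynomial.aeval_algHom_apply, MvPolynomial.aeval_X]
      exact hρ P
    exact this ha
  let Φ' : TT A →+* Ω := Ideal.Quotient.lift (JJ A) Φ.toRingHom hΦ
  refine ⟨⟨RingHom.ker Φ', RingHom.ker_isPrime Φ'⟩, ?_⟩
  apply PrimeSpectrum.ext
  show Ideal.comap (algebraMap A (TT A)) (RingHom.ker Φ') = 𝔭.asIdeal
  rw [RingHom.comap_ker]
  have hcomp : Φ'.comp (algebraMap A (TT A)) = ψ₀ := by
    ext a
    show Φ' (Ideal.Quotient.mk (JJ A) (algebraMap A (MvPolynomial (Idx A) A) a)) = ψ₀ a
    rw [Ideal.Quotient.lift_mk]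
    exact Φ.commutes a
  rw [hcomp]
  ext a
  rw [RingHom.mem_ker, RingHom.comp_apply, map_eq_zero_iff _ (algebraMap K Ω).injective,
    Ideal.algebraMap_residueField_eq_zero]


theorem exists_scaled_lift (A : Type u) [CommRing A] (p : Ideal A) [p.IsPrime]
    (f : Polynomial p.ResidueField) (hf : f.Monic) (hdeg : 0 < f.natDegree) :
    ∃ (P : Polynomial A) (β : p.ResidueField), β ≠ 0 ∧ P.Monic ∧ 0 < P.natDegree ∧
      P.map (algebraMap A p.ResidueField) = Polynomial.scaleRoots f β := by
  classical
  obtain ⟨b, hb⟩ := IsLocalization.exist_integer_multiples (nonZeroDivisors (A ⧸ p))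
    (Finset.range f.natDegree) (fun i => f.coeff i)
  set β : p.ResidueField := algebraMap (A ⧸ p) p.ResidueField b with hβ
  have hβ0 : β ≠ 0 := by
    rw [hβ]
    exact IsLocalization.to_map_ne_zero_of_mem_nonZeroDivisors _ le_rfl b.2
  have hrange : ∀ y : A ⧸ p, algebraMap (A ⧸ p) p.ResidueField y ∈ (algebraMap A p.ResidueField).range := by
    intro y
    obtain ⟨a, rfl⟩ := Ideal.Quotient.mk_surjective y
    exact ⟨a, rfl⟩
  have hβR : β ∈ (algebraMap A p.ResidueField).range := hrange _
  have hcoeff : ∀ i, (Polynomial.scaleRoots f β).coeff i ∈ (algebraMap A p.ResidueField).range := by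
    intro i
    rw [Polynomial.coeff_scaleRoots]
    rcases lt_trichotomy i f.natDegree with hi | hi | hi
    · obtain ⟨y, hy⟩ := hb i (Finset.mem_range.mpr hi)
      have h1 : β * f.coeff i ∈ (algebraMap A p.ResidueField).range := by
        have : β * f.coeff i = algebraMap (A ⧸ p) p.ResidueField y := by
          rw [hy, Algebra.smul_def]
        rw [this]
        exact hrange y
      have h2 : f.coeff i * β ^ (f.natDegree - i) = (β * f.coeff i) * β ^ (f.natDegree - i - 1) := by
        have : f.natDegree - i = (f.natDegree - i - 1) + 1 := by omega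
        conv_lhs => rw [this, pow_succ]
        ring
      rw [h2]
      exact Subring.mul_mem _ h1 (Subring.pow_mem _ hβR _)
    · rw [hi, Nat.sub_self, pow_zero, mul_one]
      have : f.coeff f.natDegree = 1 := hf
      rw [this]
      exact Subring.one_mem _
    · rw [Polynomial.coeff_eq_zero_of_natDegree_lt hi, zero_mul]
      exact Subring.zero_mem _
  have hlifts : Polynomial.scaleRoots f β ∈ Polynomial.lifts (algebraMap A p.ResidueField) := by
    rw [Polynomial.lifts_iff_coeff_lifts]
    intro i
    exact hcoeff i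
  have hmonic : (Polynomial.scaleRoots f β).Monic := (Polynomial.monic_scaleRoots_iff β).mpr hf
  obtain ⟨P, hPmap, hPdeg, hPmonic⟩ := Polynomial.lifts_and_natDegree_eq_and_monic hlifts hmonic
  refine ⟨P, β, hβ0, hPmonic, ?_, hPmap⟩
  rw [hPdeg, Polynomial.natDegree_scaleRoots]
  exact hdeg

theorem part2 (A : Type u) [CommRing A] (Q : Ideal (TT A)) [Q.IsPrime] :
    IsAlgClosed Q.ResidueField ∧
      (Ideal.ResidueField.map (Q.comap (algebraMap A (TT A))) Q (algebraMap A (TT A)) rfl).IsIntegral := by
  have hint : Algebra.IsIntegral A (TT A) := isIntegral_TT A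
  set p : Ideal A := Q.comap (algebraMap A (TT A)) with hp
  have hover : Q.LiesOver p := ⟨rfl⟩
  let _ : Algebra (Localization.AtPrime p) (Localization.AtPrime Q) :=
    Localization.AtPrime.algebraOfLiesOver p Q
  have halg : Algebra.IsAlgebraic p.ResidueField Q.ResidueField := inferInstance
  have hmapeq : algebraMap p.ResidueField Q.ResidueField =
      Ideal.ResidueField.map p Q (algebraMap A (TT A)) rfl := rfl
  have hintK : Algebra.IsIntegral p.ResidueField Q.ResidueField := Algebra.IsAlgebraic.isIntegral
  refine ⟨?_, fun x => ?_⟩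
  swap
  · have h : IsIntegral p.ResidueField (x : Q.ResidueField) := hintK.isIntegral x
    exact h
  have hclosure : IsAlgClosure p.ResidueField Q.ResidueField := by
    apply IsAlgClosure.of_exists_root
    intro f hfm hfirr
    obtain ⟨P, β, hβ0, hPmonic, hPdeg, hPmap⟩ :=
      exists_scaled_lift A p f hfm hfirr.natDegree_pos
    let P' : Idx A := ⟨P, hPmonic, hPdeg⟩
    let xT : TT A := Ideal.Quotient.mk (JJ A) (MvPolynomial.X P')
    have hxT : Polynomial.aeval xT P = 0 := aeval_X_eq_zero A P'
    let y : Q.ResidueField := algebraMap (TT A) Q.ResidueField xT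
    have hy : Polynomial.aeval y P = 0 := by
      have := Polynomial.aeval_algebraMap_apply (A := TT A) Q.ResidueField xT P
      rw [this, hxT, map_zero]
    have hy2 : Polynomial.eval₂ (algebraMap p.ResidueField Q.ResidueField) y
        (Polynomial.scaleRoots f β) = 0 := by
      rw [← hPmap, Polynomial.eval₂_map, ← IsScalarTower.algebraMap_eq]
      exact hy
    set φ := algebraMap p.ResidueField Q.ResidueField with hφ
    have hφβ : φ β ≠ 0 := (map_ne_zero_iff φ φ.injective).mpr hβ0
    refine ⟨y / φ β, ?_⟩
    have h3 := Polynomial.scaleRoots_eval₂_mul (p := f) φ (y / φ β) β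
    rw [mul_div_cancel₀ _ hφβ, hy2] at h3
    have h4 : Polynomial.eval₂ φ (y / φ β) f = 0 := by
      rcases mul_eq_zero.mp h3.symm with h | h
      · exact absurd (pow_eq_zero_iff (Nat.pos_iff_ne_zero.mp hfirr.natDegree_pos) |>.mp h) hφβ
      · exact h
    exact h4
  exact hclosure.isAlgClosed


/-- Let A be a commutative ring and T the quotient of the polynomial ring over A in indeterminates X_P,
one for each monic polynomial P over A of positive degree, by the ideal generated by the elements
P(X_P). Then the map on prime spectra Spec T → Spec A is surjective, and for every prime ideal Q of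
T, with p its contraction to A, the residue field of Q is algebraically closed and integral over the
residue field of p under the induced map of residue fields (so it is an algebraic closure of it). -/
theorem result (A : Type u) [CommRing A] :
    Function.Surjective (PrimeSpectrum.comap (algebraMap A (MvPolynomial {P : Polynomial A // P.Monic ∧ 0 < P.natDegree} A ⧸
      Ideal.span (Set.range fun P : {P : Polynomial A // P.Monic ∧ 0 < P.natDegree} =>
        Polynomial.aeval (MvPolynomial.X (R := A) P) P.1)))) ∧
    ∀ (Q : Ideal (MvPolynomial {P : Polynomial A // P.Monic ∧ 0 < P.natDegree} A ⧸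
      Ideal.span (Set.range fun P : {P : Polynomial A // P.Monic ∧ 0 < P.natDegree} =>
        Polynomial.aeval (MvPolynomial.X (R := A) P) P.1))) [Q.IsPrime],
      IsAlgClosed Q.ResidueField ∧
      (Ideal.ResidueField.map (Q.comap (algebraMap A (MvPolynomial {P : Polynomial A // P.Monic ∧ 0 < P.natDegree} A ⧸
      Ideal.span (Set.range fun P : {P : Polynomial A // P.Monic ∧ 0 < P.natDegree} =>
        Polynomial.aeval (MvPolynomial.X (R := A) P) P.1)))) Q (algebraMap A (MvPolynomial {P : Polynomial A // P.Monic ∧ 0 < P.natDegree} A ⧸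
      Ideal.span (Set.range fun P : {P : Polynomial A // P.Monic ∧ 0 < P.natDegree} =>
        Polynomial.aeval (MvPolynomial.X (R := A) P) P.1))) rfl).IsIntegral := by
  exact ⟨surj A, fun Q _ => part2 A Q⟩

end Groth.Agent.S16572
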