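import Groth.Statements.S12059
import Groth.Agent.Lib.Helper81.IsQuotAffine

set_option autoImplicit false
universe u
open CategoryTheory CategoryTheory.Limits AlgebraicGeometry
open SGA1

namespace Groth.Agent.S12059

/-- Let a finite group G act on a commutative ring A by ring automorphisms σ_g, and let B → A be
injective, G-equivariant for the trivial action on B, with image containing all G-invariants (so B
is the ring of invariants A^G). Let ρ be an action of G on Spec A by scheme automorphisms whose
automorphisms are exactly the maps Spec(σ_g). Then Spec A ⟶ Spec B is a quotient of Spec A by G, and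
the structure sheaf of Spec B is the sheaf of G-invariants of the direct image of the structure
sheaf of Spec A: the map is affine and G-invariant, and for every open U of Spec B the sections of
the structure sheaf of Spec B over U map injectively onto the G-invariant sections of the structure
sheaf of Spec A over the inverse image of U. -/
theorem result (G : Type u) [Group G] [Finite G] (A B : Type u) [CommRing A] [CommRing B]
    [Algebra B A] [MulSemiringAction G A] [SMulCommClass G B A] [Algebra.IsInvariant B A G] [FaithfulSMul B A]
    (ρ : G →* Aut (Spec (CommRingCat.of A)))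
    (hρ : Set.range (fun g : G => (ρ g).hom) =
      Set.range (fun g : G => Spec.map (CommRingCat.ofHom (MulSemiringAction.toRingHom G A g)))) :
    SGA1.IsQuot ρ (Spec.map (CommRingCat.ofHom (algebraMap B A))) := by
  have hφσ : ∀ h : G, CommRingCat.ofHom (algebraMap B A) ≫
      CommRingCat.ofHom (MulSemiringAction.toRingHom G A h) = CommRingCat.ofHom (algebraMap B A) := by
    intro h
    ext b
    simp [smul_algebraMap]
  have hinv : ∀ g : G, (ρ g).hom ≫ Spec.map (CommRingCat.ofHom (algebraMap B A)) =
      Spec.map (CommRingCat.ofHom (algebraMap B A)) := by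
    intro g
    obtain ⟨h, hh⟩ : (ρ g).hom ∈ Set.range
        (fun g : G => Spec.map (CommRingCat.ofHom (MulSemiringAction.toRingHom G A g))) := by
      rw [← hρ]; exact ⟨g, rfl⟩
    simp only at hh
    rw [← hh, ← Spec.map_comp, hφσ]
  have hnat := Scheme.ΓSpecIso_naturality (CommRingCat.ofHom (algebraMap B A))
  have hbijA := ConcreteCategory.bijective_of_isIso (Scheme.ΓSpecIso (CommRingCat.of A)).hom
  have hbijB := ConcreteCategory.bijective_of_isIso (Scheme.ΓSpecIso (CommRingCat.of B)).hom
  have hnat' : ∀ t, (Scheme.ΓSpecIso (CommRingCat.of A)).hom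
      ((Spec.map (CommRingCat.ofHom (algebraMap B A))).appTop t) =
      algebraMap B A ((Scheme.ΓSpecIso (CommRingCat.of B)).hom t) := fun t =>
    congrArg (fun φ => φ.hom t) hnat
  refine Groth.Agent.Lib.Helper81.Quot.isQuot_of_top ρ _ hinv ?_ ?_
  · intro t t' htt'
    apply hbijB.injective
    apply FaithfulSMul.algebraMap_injective B A
    rw [← hnat', ← hnat']
    exact congrArg _ htt'
  · intro s hs
    have hfix : ∀ h : G, h • ((Scheme.ΓSpecIso (CommRingCat.of A)).hom s) =
        (Scheme.ΓSpecIso (CommRingCat.of A)).hom s := by
      intro h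
      obtain ⟨g, hg⟩ : Spec.map (CommRingCat.ofHom (MulSemiringAction.toRingHom G A h)) ∈
          Set.range (fun g : G => (ρ g).hom) := by
        rw [hρ]; exact ⟨h, rfl⟩
      simp only at hg
      have h1 := hs g
      unfold Groth.Agent.Lib.Helper81.Quot.sec at h1
      have h2 : (ρ g).hom.appLE _ _ (SGA1.preimage_le_of_inv ρ
          (Spec.map (CommRingCat.ofHom (algebraMap B A))) hinv g ⊤) = (ρ g).hom.appTop := by
        simp [Scheme.Hom.appLE]
      rw [h2, hg] at h1
      have h3 := congrArg (fun φ => φ.hom s)
        (Scheme.ΓSpecIso_naturality (CommRingCat.ofHom (MulSemiringAction.toRingHom G A h)))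
      simp only [CommRingCat.hom_comp, RingHom.coe_comp, Function.comp_apply] at h3
      exact h3.symm.trans
        (congrArg (fun x => (Scheme.ΓSpecIso (CommRingCat.of A)).hom.hom x) h1)
    obtain ⟨b, hb⟩ := Algebra.IsInvariant.isInvariant (A := B) (B := A) (G := G) _ hfix
    obtain ⟨t, rfl⟩ := hbijB.surjective b
    refine ⟨t, ?_⟩
    apply hbijA.injective
    exact (hnat' t).trans hb

end Groth.Agent.S12059
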