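import Groth.Statements.S9633
import Mathlib.RingTheory.Spectrum.Prime.Topology
import Mathlib.Topology.Connected.Separation
import Mathlib.Topology.Connected.TotallyDisconnected
-- import your own Groth.Agent.* helpers here

set_option autoImplicit false
universe u
open CAlg

namespace Groth.Agent.S9633

/-- For a ring R with spectrum X the following are equivalent: (1) X is profinite, i.e. compact,
Hausdorff and totally disconnected; (2) X is Hausdorff; (3) X is totally disconnected; (4) every
quasi-compact open subset of X is closed; (5) there are no nontrivial inclusions among prime ideals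
of R; (6) every prime ideal of R is maximal; (7) every prime ideal of R is a minimal prime; (8)
every standard open D(f) is closed. -/
theorem result {R : Type u} [CommRing R] :
    [CompactSpace (PrimeSpectrum R) ∧ T2Space (PrimeSpectrum R) ∧ TotallyDisconnectedSpace (PrimeSpectrum R),
      T2Space (PrimeSpectrum R),
      TotallyDisconnectedSpace (PrimeSpectrum R),
      ∀ W : Set (PrimeSpectrum R), IsOpen W → IsCompact W → IsClosed W,
      ∀ p q : PrimeSpectrum R, p ≤ q → p = q,
      ∀ p : Ideal R, p.IsPrime → p.IsMaximal,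
      ∀ p : Ideal R, p.IsPrime → p ∈ minimalPrimes R,
      ∀ f : R, IsClosed (PrimeSpectrum.basicOpen f : Set (PrimeSpectrum R))].TFAE := by
  tfae_have 1 → 2 := fun h => h.2.1
  tfae_have 1 → 3 := fun h => h.2.2
  tfae_have 2 → 5 := by
    intro h p q hpq
    rw [PrimeSpectrum.le_iff_specializes] at hpq
    exact hpq.eq
  tfae_have 3 → 5 := by
    intro h p q hpq
    rw [PrimeSpectrum.le_iff_specializes] at hpq
    have h1 : IsPreconnected ({p, q} : Set (PrimeSpectrum R)) := by
      refine (isPreconnected_singleton (x := p)).subset_closure ?_ ?_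
      · intro x hx
        rw [Set.mem_singleton_iff] at hx
        rw [hx]
        exact Set.mem_insert _ _
      · intro x hx
        rcases hx with rfl | hx
        · exact subset_closure rfl
        · rw [Set.mem_singleton_iff] at hx
          rw [hx]
          exact hpq.mem_closure
    exact h1.subsingleton (Set.mem_insert _ _) (Set.mem_insert_of_mem _ rfl)
  tfae_have 5 → 6 := by
    intro h p hp
    obtain ⟨m, hm, hpm⟩ := Ideal.exists_le_maximal p hp.ne_top
    have := h ⟨p, hp⟩ ⟨m, hm.isPrime⟩ hpm
    have e : p = m := congrArg PrimeSpectrum.asIdeal this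
    rw [e]
    exact hm
  tfae_have 6 → 7 := by
    intro h p hp
    refine ⟨⟨hp, bot_le⟩, ?_⟩
    rintro q ⟨hq, _⟩ hqp
    have := (h q hq).eq_of_le hp.ne_top hqp
    exact this.ge
  tfae_have 7 → 5 := by
    intro h p q hpq
    have hq := h q.asIdeal q.isPrime
    have : q.asIdeal ≤ p.asIdeal := hq.2 ⟨p.isPrime, bot_le⟩ hpq
    exact le_antisymm hpq this
  tfae_have 5 → 8 := by
    intro h f
    rw [← isOpen_compl_iff, isOpen_iff_forall_mem_open]
    intro p hp
    have hfp : f ∈ p.asIdeal := by
      by_contra hc
      exact hp hc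
    let S : Submonoid R := Submonoid.powers f ⊔ p.asIdeal.primeCompl
    have h0 : (0 : R) ∈ S := by
      by_contra h0
      have hdis : Disjoint ((⊥ : Ideal R) : Set R) S := by
        rw [Set.disjoint_left]
        intro x hx hxS
        have : x = 0 := hx
        exact h0 (this ▸ hxS)
      obtain ⟨q, hq, _, hqS⟩ := Ideal.exists_le_prime_disjoint ⊥ S hdis
      have hqp : q ≤ p.asIdeal := by
        intro x hx
        by_contra hxp
        exact Set.disjoint_left.mp hqS hx (Submonoid.mem_sup_right hxp)
      have hfq : f ∉ q := fun hfq =>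
        Set.disjoint_left.mp hqS hfq (Submonoid.mem_sup_left (Submonoid.mem_powers f))
      have := h ⟨q, hq⟩ p hqp
      have e : q = p.asIdeal := congrArg PrimeSpectrum.asIdeal this
      exact hfq (e ▸ hfp)
    obtain ⟨y, ⟨n, rfl⟩, g, hg, hyg⟩ := Submonoid.mem_sup.mp h0
    refine ⟨PrimeSpectrum.basicOpen g, ?_, (PrimeSpectrum.basicOpen g).isOpen, hg⟩
    intro q hq hqf
    have hq' : g ∉ q.asIdeal := hq
    have hqf' : f ∉ q.asIdeal := hqf
    have : f ^ n * g ∈ q.asIdeal := by
      rw [hyg]
      exact zero_mem _
    rcases q.isPrime.mem_or_mem this with h1 | h1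
    · exact hqf' (q.isPrime.mem_of_pow_mem n h1)
    · exact hq' h1
  tfae_have 8 → 4 := by
    intro h W hWo hWc
    obtain ⟨t, ht⟩ := PrimeSpectrum.isCompact_isOpen_iff.mp ⟨hWc, hWo⟩
    rw [← ht]
    have : (PrimeSpectrum.zeroLocus (t : Set R))ᶜ =
        ⋃ f ∈ t, (PrimeSpectrum.basicOpen f : Set (PrimeSpectrum R)) := by
      ext x
      simp [PrimeSpectrum.mem_zeroLocus, Set.not_subset]
    rw [this]
    exact t.finite_toSet.isClosed_biUnion (fun f _ => h f)
  tfae_have 4 → 8 := by
    intro h f
    exact h _ (PrimeSpectrum.basicOpen f).isOpen (PrimeSpectrum.isCompact_basicOpen f)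
  tfae_have 8 → 1 := by
    intro h
    have hts : TotallySeparatedSpace (PrimeSpectrum R) := by
      rw [totallySeparatedSpace_iff_exists_isClopen]
      intro p q hpq
      have hne : p.asIdeal ≠ q.asIdeal := fun e => hpq (PrimeSpectrum.ext e)
      have : ∃ f, (f ∈ p.asIdeal ∧ f ∉ q.asIdeal) ∨ (f ∉ p.asIdeal ∧ f ∈ q.asIdeal) := by
        by_contra hc
        push Not at hc
        apply hne
        ext f
        constructor
        · exact (hc f).1
        · intro hf
          by_contra hfp
          exact (hc f).2 hfp hf
      obtain ⟨f, hf | hf⟩ := this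
      · refine ⟨(PrimeSpectrum.basicOpen f : Set (PrimeSpectrum R))ᶜ, ?_, ?_, ?_⟩
        · exact (IsClopen.compl ⟨h f, (PrimeSpectrum.basicOpen f).isOpen⟩)
        · intro hc
          exact hc hf.1
        · intro hc
          exact hc hf.2
      · refine ⟨(PrimeSpectrum.basicOpen f : Set (PrimeSpectrum R)), ?_, ?_, ?_⟩
        · exact ⟨h f, (PrimeSpectrum.basicOpen f).isOpen⟩
        · exact hf.1
        · intro hc
          exact hc hf.2
    exact ⟨inferInstance, inferInstance, inferInstance⟩
  tfae_finish

end Groth.Agent.S9633
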