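import Groth.Statements.S0500
import Mathlib.RingTheory.AdjoinRoot
import Mathlib.RingTheory.Nakayama
import Mathlib.RingTheory.Polynomial.Basic
import Mathlib.Tactic.LinearCombination
-- import your own Groth.Agent.* helpers here

set_option autoImplicit false
universe u
open Hensel

namespace Groth.Agent.S0500


theorem isUnit_add_of_isUnit_of_not {A : Type u} [CommRing A] [IsLocalRing A] {x y : A}
    (hx : IsUnit x) (hy : ¬ IsUnit y) : IsUnit (x + y) := by
  have h : IsUnit ((x + y) + (-y)) := by simpa using hx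
  rcases IsLocalRing.isUnit_or_isUnit_of_isUnit_add h with h | h
  · exact h
  · exact absurd (by simpa using h.neg) hy

theorem eq_zero_of_smul_eq_zero_of_free {R S : Type u} [CommRing R] [IsLocalRing R]
    [AddCommGroup S] [Module R S] [Module.Free R S] (r : R) (x : S)
    (hx : x ∉ IsLocalRing.maximalIdeal R • (⊤ : Submodule R S)) (hr : r • x = 0) : r = 0 := by
  classical
  let b := Module.Free.chooseBasis R S
  by_contra hr0
  apply hx
  have hc : ∀ j, b.repr x j ∈ IsLocalRing.maximalIdeal R := by
    intro j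
    by_contra hcon
    have hu : IsUnit (b.repr x j) := by
      by_contra h'
      exact hcon h'
    have h0 : r * b.repr x j = 0 := by
      have := congrArg (fun y => b.repr y j) hr
      simpa using this
    exact hr0 (hu.mul_left_eq_zero.mp h0)
  rw [← b.linearCombination_repr x, Finsupp.linearCombination_apply, Finsupp.sum]
  refine Submodule.sum_mem _ fun j _ => ?_
  exact Submodule.smul_mem_smul (hc j) Submodule.mem_top

open Polynomial in
theorem aux {R : Type u} [CommRing R] [IsLocalRing R] (f : R[X]) (hf : f.Monic) (a₀ : R)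
    (h₁ : f.eval a₀ ∈ IsLocalRing.maximalIdeal R) (h₂ : IsUnit (f.derivative.eval a₀))
    {ι : Type u} [Fintype ι] (A : ι → Type u) [∀ i, CommRing (A i)] [∀ i, IsLocalRing (A i)]
    (e : AdjoinRoot f ≃+* (∀ i, A i)) :
    ∃ a : R, f.IsRoot a ∧ a - a₀ ∈ IsLocalRing.maximalIdeal R := by
  classical
  set res := IsLocalRing.residue R with hres
  have hev0 : f.eval₂ res (res a₀) = 0 := by
    rw [Polynomial.eval₂_at_apply, IsLocalRing.residue_eq_zero_iff]
    exact h₁
  let ev : AdjoinRoot f →+* IsLocalRing.ResidueField R := AdjoinRoot.lift res (res a₀) hev0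
  have hev_alg : ∀ r : R, ev (algebraMap R (AdjoinRoot f) r) = res r := fun r =>
    AdjoinRoot.lift_of hev0
  have hev_root : ev (AdjoinRoot.root f) = res a₀ := AdjoinRoot.lift_root hev0
  let ε : ι → AdjoinRoot f := fun i => e.symm (Pi.single i 1)
  have hsum : ∑ i, ε i = 1 := by
    have : ∑ i, (Pi.single i (1 : A i) : ∀ i, A i) = 1 := by
      ext j
      simp [Finset.sum_apply]
    simp only [ε, ← map_sum, this, map_one]
  obtain ⟨i₀, hi₀⟩ : ∃ i, ev (ε i) ≠ 0 := by
    by_contra hcon
    push Not at hcon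
    have : ev 1 = 0 := by
      rw [← hsum, map_sum]
      exact Finset.sum_eq_zero (fun i _ => hcon i)
    rw [map_one] at this
    exact one_ne_zero this
  let π : AdjoinRoot f →+* A i₀ := (Pi.evalRingHom A i₀).comp e.toRingHom
  have hπ : ∀ s, π s = e s i₀ := fun s => rfl
  have hπsurj : Function.Surjective π := by
    intro y
    refine ⟨e.symm (Pi.single i₀ y), ?_⟩
    simp [hπ]
  have hπε : ∀ s : AdjoinRoot f, π s = 0 → s * ε i₀ = 0 := by
    intro s hs
    apply e.injective
    rw [map_mul, map_zero]
    ext j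
    simp only [ε, RingEquiv.apply_symm_apply, Pi.mul_apply, Pi.zero_apply]
    by_cases hj : j = i₀
    · subst hj
      rw [← hπ, hs, zero_mul]
    · rw [Pi.single_eq_of_ne hj, mul_zero]
  have hker : ∀ s : AdjoinRoot f, ev s = 0 → ¬ IsUnit (π s) := by
    intro s hs hu
    obtain ⟨y, hy⟩ := hu.exists_right_inv
    obtain ⟨s', rfl⟩ := hπsurj y
    have h3 : π (s * s' - 1) = 0 := by rw [map_sub, map_mul, hy, map_one, sub_self]
    have h4 := congrArg ev (hπε _ h3)
    rw [map_mul, map_sub, map_mul, hs, zero_mul, map_one, map_zero, zero_sub, neg_mul, one_mul,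
      neg_eq_zero] at h4
    exact hi₀ h4
  let _ : Algebra R (A i₀) := (π.comp (algebraMap R (AdjoinRoot f))).toAlgebra
  let πₐ : AdjoinRoot f →ₐ[R] A i₀ := { π with commutes' := fun r => rfl }
  have hπₐ : ∀ s, πₐ s = π s := fun s => rfl
  have hfinS : Module.Finite R (AdjoinRoot f) := hf.finite_adjoinRoot
  have hfreeS : Module.Free R (AdjoinRoot f) := hf.free_adjoinRoot
  have hfin : Module.Finite R (A i₀) := Module.Finite.of_surjective πₐ.toLinearMap hπsurj
  set t : A i₀ := π (AdjoinRoot.root f) with ht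
  have haeval : ∀ p : R[X], π (AdjoinRoot.mk f p) = aeval t p := by
    intro p
    rw [← AdjoinRoot.aeval_eq, ← hπₐ, ← Polynomial.aeval_algHom_apply, hπₐ]
  have hexp : ∀ p : R[X], ∃ q : R[X], aeval t p =
      algebraMap R (A i₀) (p.eval a₀) + (t - algebraMap R (A i₀) a₀) * aeval t q := by
    intro p
    obtain ⟨q, hq⟩ := Polynomial.X_sub_C_dvd_sub_C_eval (p := p) (a := a₀)
    refine ⟨q, ?_⟩
    have hp : p = C (p.eval a₀) + (X - C a₀) * q := by rw [← hq]; ring
    conv_lhs => rw [hp]
    simp
  have htm : ¬ IsUnit (t - algebraMap R (A i₀) a₀) := by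
    have : t - algebraMap R (A i₀) a₀ = π (AdjoinRoot.root f - algebraMap R (AdjoinRoot f) a₀) := by
      rw [map_sub]
      rfl
    rw [this]
    apply hker
    rw [map_sub, hev_root, hev_alg, sub_self]
  set m := IsLocalRing.maximalIdeal R with hm
  have htmA : t - algebraMap R (A i₀) a₀ ∈ Ideal.map (algebraMap R (A i₀)) m := by
    obtain ⟨q, hq⟩ := Polynomial.X_sub_C_dvd_sub_C_eval (p := f) (a := a₀)
    have hfq : f = C (f.eval a₀) + (X - C a₀) * q := by rw [← hq]; ring
    have hqa : q.eval a₀ = f.derivative.eval a₀ := by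
      have := congrArg (fun p => (derivative p).eval a₀) hfq
      simp only [derivative_add, derivative_C, zero_add, derivative_mul, derivative_sub,
        derivative_X, sub_zero, one_mul, eval_add, eval_mul, eval_sub, eval_X, eval_C, sub_self,
        zero_mul, add_zero] at this
      exact this.symm
    have hft : aeval t f = 0 := by
      rw [← haeval, AdjoinRoot.mk_self, map_zero]
    have h3 : algebraMap R (A i₀) (f.eval a₀) + (t - algebraMap R (A i₀) a₀) * aeval t q = 0 := by
      rw [← hft]
      conv_rhs => rw [hfq]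
      simp
    obtain ⟨q', hq'⟩ := hexp q
    have hqu : IsUnit (aeval t q) := by
      rw [hq']
      refine isUnit_add_of_isUnit_of_not ?_ ?_
      · rw [hqa]
        exact h₂.map _
      · intro hcon
        exact htm (isUnit_of_mul_isUnit_left hcon)
    obtain ⟨v, hv⟩ := hqu.exists_right_inv
    have h4 : t - algebraMap R (A i₀) a₀ = algebraMap R (A i₀) (f.eval a₀) * (-v) := by
      have := congrArg (· * v) h3
      simp only [add_mul, zero_mul, mul_assoc, hv, mul_one] at this
      linear_combination this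
    rw [h4]
    exact Ideal.mul_mem_right _ _ (Ideal.mem_map_of_mem _ h₁)
  have hle : (⊤ : Submodule R (A i₀)) ≤
      LinearMap.range (Algebra.linearMap R (A i₀)) ⊔ m • ⊤ := by
    rintro x -
    obtain ⟨s, rfl⟩ := hπsurj x
    obtain ⟨p, rfl⟩ := AdjoinRoot.mk_surjective s
    obtain ⟨q, hq⟩ := hexp p
    rw [haeval, hq]
    refine Submodule.add_mem_sup ⟨p.eval a₀, rfl⟩ ?_
    rw [Ideal.smul_top_eq_map]
    exact Ideal.mul_mem_right _ _ htmA
  have htop := Submodule.le_of_le_smul_of_le_jacobson_bot (Module.Finite.fg_top)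
    (IsLocalRing.maximalIdeal_le_jacobson _) hle
  obtain ⟨a, ha⟩ := htop (Submodule.mem_top (x := t))
  rw [Algebra.linearMap_apply] at ha
  have hinj : ∀ r : R, algebraMap R (A i₀) r = 0 → r = 0 := by
    intro r hr
    have h3 : (algebraMap R (AdjoinRoot f) r) * ε i₀ = 0 := hπε _ hr
    rw [← Algebra.smul_def] at h3
    refine eq_zero_of_smul_eq_zero_of_free r (ε i₀) ?_ h3
    intro hcon
    rw [Ideal.smul_top_eq_map] at hcon
    apply hi₀
    have hcon' : ε i₀ ∈ Ideal.map (algebraMap R (AdjoinRoot f)) m := hcon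
    have hle' : Ideal.map (algebraMap R (AdjoinRoot f)) m ≤ RingHom.ker ev := by
      rw [Ideal.map_le_iff_le_comap]
      intro r hr
      rw [Ideal.mem_comap, RingHom.mem_ker, hev_alg, IsLocalRing.residue_eq_zero_iff]
      exact hr
    exact hle' hcon'
  refine ⟨a, ?_, ?_⟩
  · apply hinj
    have hft : aeval t f = 0 := by
      rw [← haeval, AdjoinRoot.mk_self, map_zero]
    rw [← ha, Polynomial.aeval_algebraMap_apply] at hft
    exact hft
  · by_contra hcon
    have hu : IsUnit (a - a₀) := by
      by_contra h'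
      exact hcon h'
    apply htm
    rw [← ha, ← map_sub]
    exact hu.map _

/-- If every algebra over a local ring that is finitely generated as a module is ring-isomorphic to a
finite product of local rings, then the local ring is henselian. -/
theorem result (R : Type u) [CommRing R] [IsLocalRing R]
    (h : ∀ (S : Type u) [CommRing S] [Algebra R S], Module.Finite R S →
      ∃ (ι : Type u) (_ : Fintype ι) (A : ι → Type u) (_ : ∀ i, CommRing (A i)),
        (∀ i, IsLocalRing (A i)) ∧ Nonempty (S ≃+* (∀ i, A i))) :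
    HenselianLocalRing R := by
  refine ⟨fun f hf a₀ h₁ h₂ => ?_⟩
  obtain ⟨ι, hι, A, hA, hloc, ⟨e⟩⟩ := h (AdjoinRoot f) hf.finite_adjoinRoot
  exact aux f hf a₀ h₁ h₂ A e

end Groth.Agent.S0500
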