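import Mathlib
import Groth.Statements.S1964
import Groth.Agent.S0499
import Groth.Agent.S0505
import Groth.Agent.Lib.Helper9.HenselSplit

set_option autoImplicit false
universe u
open EtAlg

namespace Groth.Agent.S1964

set_option linter.style.haveILetI false
set_option linter.unusedSectionVars false

open Polynomial

theorem isLocalRing_pi_of_isDomain {ι : Type u} (Aι : ι → Type u) [∀ i, CommRing (Aι i)]
    (hloc : ∀ i, IsLocalRing (Aι i)) [IsDomain (∀ i, Aι i)] : IsLocalRing (∀ i, Aι i) := by
  classical
  have hsub : ∀ i j : ι, i = j := by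
    intro i j
    by_contra hij
    have h1 : (Pi.single i (1 : Aι i) : ∀ i, Aι i) * Pi.single j (1 : Aι j) = 0 := by
      ext k
      by_cases hk : k = i
      · subst hk
        simp [Pi.single_eq_of_ne hij]
      · simp [Pi.single_eq_of_ne hk]
    rcases mul_eq_zero.1 h1 with h | h
    · have := congrFun h i
      simp at this
    · have := congrFun h j
      simp at this
  refine IsLocalRing.of_isUnit_or_isUnit_one_sub_self fun x => ?_
  by_cases hne : Nonempty ι
  · obtain ⟨i₀⟩ := hne
    rcases IsLocalRing.isUnit_or_isUnit_one_sub_self (x i₀) with h | h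
    · refine Or.inl (Pi.isUnit_iff.2 fun i => ?_)
      rw [hsub i i₀]; exact h
    · refine Or.inr (Pi.isUnit_iff.2 fun i => ?_)
      rw [hsub i i₀]; exact h
  · exact Or.inl (Pi.isUnit_iff.2 fun i => (hne ⟨i⟩).elim)

theorem isLocalRing_of_finite_domain (A : Type u) [CommRing A] [HenselianLocalRing A]
    (S : Type u) [CommRing S] [IsDomain S] [Algebra A S] [Module.Finite A S] : IsLocalRing S := by
  obtain ⟨ι, _, Aι, _, hloc, ⟨e⟩⟩ := Groth.Agent.S0499.result A S
  haveI : IsDomain (∀ i, Aι i) := e.symm.toMulEquiv.isDomain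
  haveI := isLocalRing_pi_of_isDomain Aι hloc
  exact e.symm.isLocalRing

section Main


theorem finite_adjoin (A B : Type u) [CommRing A] [HenselianLocalRing A] [CommRing B]
    [IsDomain B] [Algebra A B] [Algebra.IsIntegral A B] (s : Finset B) : Module.Finite A (Algebra.adjoin A (s : Set B)) := by
  have : (Algebra.adjoin A (s : Set B)).toSubmodule.FG :=
    fg_adjoin_of_finite s.finite_toSet fun x _ => Algebra.IsIntegral.isIntegral x
  exact Module.Finite.of_fg this

theorem isLocalRing_adjoin (A B : Type u) [CommRing A] [HenselianLocalRing A] [CommRing B]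
    [IsDomain B] [Algebra A B] [Algebra.IsIntegral A B] (s : Finset B) : IsLocalRing (Algebra.adjoin A (s : Set B)) := by
  haveI := finite_adjoin A B s
  exact isLocalRing_of_finite_domain A _

theorem isLocalRing (A B : Type u) [CommRing A] [HenselianLocalRing A] [CommRing B]
    [IsDomain B] [Algebra A B] [Algebra.IsIntegral A B] : IsLocalRing B := by
  classical
  refine IsLocalRing.of_isUnit_or_isUnit_one_sub_self fun x => ?_
  haveI := isLocalRing_adjoin A B {x}
  have hx : x ∈ Algebra.adjoin A (({x} : Finset B) : Set B) :=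
    Algebra.subset_adjoin (by simp)
  rcases IsLocalRing.isUnit_or_isUnit_one_sub_self
    (⟨x, hx⟩ : Algebra.adjoin A (({x} : Finset B) : Set B)) with h | h
  · exact Or.inl (h.map (Algebra.adjoin A (({x} : Finset B) : Set B)).val)
  · exact Or.inr (h.map (Algebra.adjoin A (({x} : Finset B) : Set B)).val)

theorem isLocalHom_val (A B : Type u) [CommRing A] [HenselianLocalRing A] [CommRing B]
    [IsDomain B] [Algebra A B] [Algebra.IsIntegral A B] (S : Subalgebra A B) [IsLocalRing S] :
    letI := isLocalRing A B
    IsLocalHom (algebraMap S B) := by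
  letI := isLocalRing A B
  haveI : Algebra.IsIntegral S B := by
    refine ⟨fun b => ?_⟩
    exact (Algebra.IsIntegral.isIntegral (R := A) b).tower_top
  exact Groth.Agent.Lib.Helper9.isLocalHom_of_isIntegral (R := S) (A := B)

theorem henselian (A B : Type u) [CommRing A] [HenselianLocalRing A] [CommRing B]
    [IsDomain B] [Algebra A B] [Algebra.IsIntegral A B] : HenselianLocalRing B := by
  classical
  letI := isLocalRing A B
  refine { is_henselian := ?_ }
  intro f hf a₀ h₁ h₂
  let s : Finset B := insert a₀ f.coeffs
  set S := Algebra.adjoin A (s : Set B) with hS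
  haveI := finite_adjoin A B s
  haveI := isLocalRing_adjoin A B s
  haveI : HenselianLocalRing S := Groth.Agent.S0505.result A S
  haveI hloc : IsLocalHom (algebraMap S B) := isLocalHom_val A B S
  have ha₀ : a₀ ∈ S := Algebra.subset_adjoin (by simp [s])
  have hlift : f ∈ Polynomial.lifts (algebraMap S B) := by
    rw [Polynomial.lifts_iff_coeff_lifts]
    intro k
    by_cases hk : f.coeff k = 0
    · exact ⟨0, by rw [map_zero, hk]⟩
    · have : f.coeff k ∈ S := Algebra.subset_adjoin (by
        simp only [s, Finset.coe_insert, Set.mem_insert_iff, Finset.mem_coe]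
        exact Or.inr (Polynomial.coeff_mem_coeffs hk))
      exact ⟨⟨_, this⟩, rfl⟩
  obtain ⟨g, hg, -, hgm⟩ := Polynomial.lifts_and_degree_eq_and_monic hlift hf
  have heval : ∀ (q : S[X]) (y : S), ((q.eval y : S) : B) = (q.map (algebraMap S B)).eval (y : B) := by
    intro q y
    rw [Polynomial.eval_map]
    exact (Polynomial.hom_eval₂ q (RingHom.id S) (algebraMap S B) y)
  have h1' : g.eval ⟨a₀, ha₀⟩ ∈ IsLocalRing.maximalIdeal S := by
    rw [IsLocalRing.mem_maximalIdeal, mem_nonunits_iff]
    intro hu
    have : IsUnit ((g.eval ⟨a₀, ha₀⟩ : S) : B) := hu.map S.val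
    rw [heval, hg] at this
    exact (IsLocalRing.mem_maximalIdeal _).1 h₁ this
  have h2' : IsUnit (g.derivative.eval ⟨a₀, ha₀⟩) := by
    apply hloc.map_nonunit
    show IsUnit ((g.derivative.eval ⟨a₀, ha₀⟩ : S) : B)
    rw [heval, ← Polynomial.derivative_map, hg]
    exact h₂
  obtain ⟨a, ha, haa⟩ := HenselianLocalRing.is_henselian g hgm ⟨a₀, ha₀⟩ h1' h2'
  refine ⟨(a : B), ?_, ?_⟩
  · have h3 : ((g.eval a : S) : B) = ((0 : S) : B) := congrArg (fun y : S => (y : B)) ha
    rw [heval, hg] at h3
    exact h3
  · rw [IsLocalRing.mem_maximalIdeal, mem_nonunits_iff]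
    intro hu
    have hu' : IsUnit (algebraMap S B (a - ⟨a₀, ha₀⟩)) := hu
    exact (IsLocalRing.mem_maximalIdeal _).1 haa (hloc.map_nonunit _ hu')

end Main

/-- A domain B integral over a henselian local ring A is itself henselian local, and the structure map A
-> B is local; if the residue field of A is separably closed, so is that of B, and the residue field
extension is purely inseparable. -/
theorem result (A B : Type u) [CommRing A] [HenselianLocalRing A] [CommRing B]
    [IsDomain B] [Algebra A B] [Algebra.IsIntegral A B] :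
    ∃ _ : HenselianLocalRing B, IsLocalHom (algebraMap A B) ∧
      (IsSepClosed (IsLocalRing.ResidueField A) →
        IsSepClosed (IsLocalRing.ResidueField B) ∧
        ∀ _ : IsLocalHom (algebraMap A B),
          letI := (IsLocalRing.ResidueField.map (algebraMap A B)).toAlgebra
          IsPurelyInseparable (IsLocalRing.ResidueField A) (IsLocalRing.ResidueField B)) := by
  haveI hB : HenselianLocalRing B := henselian A B
  haveI hloc : IsLocalHom (algebraMap A B) :=
    Groth.Agent.Lib.Helper9.isLocalHom_of_isIntegral (R := A) (A := B)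
  refine ⟨hB, hloc, fun hsep => ?_⟩
  letI alg := (IsLocalRing.ResidueField.map (algebraMap A B)).toAlgebra
  haveI halg : Algebra.IsAlgebraic (IsLocalRing.ResidueField A) (IsLocalRing.ResidueField B) := by
    refine ⟨fun y => IsIntegral.isAlgebraic ?_⟩
    obtain ⟨b, rfl⟩ := IsLocalRing.residue_surjective y
    obtain ⟨p, hp, hpb⟩ := Algebra.IsIntegral.isIntegral (R := A) b
    refine ⟨p.map (IsLocalRing.residue A), hp.map _, ?_⟩
    rw [Polynomial.eval₂_map]
    have hcomp : (algebraMap (IsLocalRing.ResidueField A) (IsLocalRing.ResidueField B)).comp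
        (IsLocalRing.residue A) = (IsLocalRing.residue B).comp (algebraMap A B) := rfl
    rw [hcomp, ← Polynomial.hom_eval₂, hpb, map_zero]
  refine ⟨Algebra.IsAlgebraic.isSepClosed (F := IsLocalRing.ResidueField A), fun _ => ?_⟩
  exact Algebra.IsAlgebraic.isPurelyInseparable_of_isSepClosed

end Groth.Agent.S1964
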