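import Groth.Statements.S1412
import Groth.Agent.Lib.Helper55.FlatDescent
import Mathlib.AlgebraicGeometry.Morphisms.WeaklyEtale
import Mathlib.AlgebraicGeometry.Stalk
import Mathlib.AlgebraicGeometry.Pullbacks
import Mathlib.CategoryTheory.Limits.Shapes.Diagonal

set_option autoImplicit false
universe u
open FlatMor

namespace Groth.Agent.S1412

open AlgebraicGeometry CategoryTheory Limits in
theorem flat_fromSpecStalk (Y : Scheme.{u}) (y : Y) : Flat (Y.fromSpecStalk y) := by
  obtain ⟨_, ⟨U, hU, rfl⟩, hyU, -⟩ :=
    Y.isBasis_affineOpens.exists_subset_of_mem_open (Set.mem_univ y) isOpen_univ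
  rw [← hU.fromSpecStalk_eq_fromSpecStalk hyU, IsAffineOpen.fromSpecStalk]
  have : Flat (Spec.map (Y.presheaf.germ U y hyU)) := by
    rw [Flat.SpecMap_iff]
    letI : Algebra Γ(Y, U) (Y.presheaf.stalk y) := (Y.presheaf.germ U y hyU).hom.toAlgebra
    haveI := hU.isLocalization_stalk ⟨y, hyU⟩
    exact IsLocalization.flat _ (hU.primeIdealOf ⟨y, hyU⟩).asIdeal.primeCompl
  infer_instance

open AlgebraicGeometry CategoryTheory Limits in
lemma weaklyEtale_of_flat_mono {X Y : Scheme.{u}} (i : X ⟶ Y) [Flat i] [Mono i] :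
    WeaklyEtale i where
  flat_diagonal := inferInstance

open AlgebraicGeometry CategoryTheory Limits in
lemma weaklyEtale_SpecMap_iff {R S : CommRingCat.{u}} (φ : R ⟶ S) :
    WeaklyEtale (Spec.map φ) ↔ φ.hom.Flat ∧
      (letI := φ.hom.toAlgebra
       (Algebra.TensorProduct.lmul' (S := ↑S) (↑R)).toRingHom.Flat) := by
  letI : Algebra R S := φ.hom.toAlgebra
  rw [weaklyEtale_iff, Flat.SpecMap_iff]
  have e : Spec.map φ = Spec.map (CommRingCat.ofHom (algebraMap R S)) := rfl
  have h2 : Flat (pullback.diagonal (Spec.map φ)) ↔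
      (Algebra.TensorProduct.lmul' (S := ↑S) (↑R)).toRingHom.Flat := by
    rw [e, diagonal_SpecMap, MorphismProperty.cancel_right_of_respectsIso (P := @Flat),
      Flat.SpecMap_iff]
    rfl
  rw [h2]

open AlgebraicGeometry CategoryTheory Limits in
/-- A morphism of schemes f : X → Y is weakly étale (flat with flat diagonal) if and only if for every
point x of X the local ring map O_{Y, f(x)} → O_{X, x} is weakly étale, that is, flat and with flat
multiplication map O_{X,x} ⊗_{O_{Y, f(x)}} O_{X,x} → O_{X,x}. -/
theorem result {X Y : Scheme.{u}} (f : X ⟶ Y) :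
    WeaklyEtale f ↔ ∀ x : X, (f.stalkMap x).hom.Flat ∧
      (letI := (f.stalkMap x).hom.toAlgebra
       (Algebra.TensorProduct.lmul' (S := ↑(X.presheaf.stalk x)) (↑(Y.presheaf.stalk (f x)))).toRingHom.Flat) := by
  constructor
  · intro h x
    have e := Scheme.SpecMap_stalkMap_fromSpecStalk f (x := x)
    haveI := flat_fromSpecStalk X x
    haveI := flat_fromSpecStalk Y (f x)
    haveI := weaklyEtale_of_flat_mono (X.fromSpecStalk x)
    haveI := weaklyEtale_of_flat_mono (Y.fromSpecStalk (f x))
    haveI : WeaklyEtale (X.fromSpecStalk x ≫ f) := inferInstance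
    haveI : WeaklyEtale (Spec.map (f.stalkMap x) ≫ Y.fromSpecStalk (f x)) := e ▸ this
    have := WeaklyEtale.of_comp (Spec.map (f.stalkMap x)) (Y.fromSpecStalk (f x))
    exact (weaklyEtale_SpecMap_iff _).1 this
  · intro h
    have hflat : Flat f := (Flat.iff_flat_stalkMap f).2 (fun x => (h x).1)
    refine ⟨hflat, ?_⟩
    rw [Flat.iff_flat_stalkMap]
    intro x
    have hW : WeaklyEtale (Spec.map (f.stalkMap x)) := (weaklyEtale_SpecMap_iff _).2 (h x)
    have e := Scheme.SpecMap_stalkMap_fromSpecStalk f (x := x)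
    haveI := flat_fromSpecStalk X x
    haveI := flat_fromSpecStalk Y (f x)
    have hj : Flat (pullback.map (Spec.map (f.stalkMap x)) (Spec.map (f.stalkMap x)) f f
        (X.fromSpecStalk x) (X.fromSpecStalk x) (Y.fromSpecStalk (f x)) e e) := by
      rw [pullback_map_eq_pullbackFstFstIso_inv]
      infer_instance
    have sq : X.fromSpecStalk x ≫ pullback.diagonal f =
        pullback.diagonal (Spec.map (f.stalkMap x)) ≫
          pullback.map (Spec.map (f.stalkMap x)) (Spec.map (f.stalkMap x)) f f
            (X.fromSpecStalk x) (X.fromSpecStalk x) (Y.fromSpecStalk (f x)) e e := by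
      apply pullback.hom_ext
      · rw [Category.assoc, pullback.diagonal_fst, Category.comp_id, Category.assoc]
        rw [show pullback.map (Spec.map (f.stalkMap x)) (Spec.map (f.stalkMap x)) f f
            (X.fromSpecStalk x) (X.fromSpecStalk x) (Y.fromSpecStalk (f x)) e e ≫ pullback.fst f f =
            pullback.fst _ _ ≫ X.fromSpecStalk x from pullback.lift_fst _ _ _,
          pullback.diagonal_fst_assoc]
      · rw [Category.assoc, pullback.diagonal_snd, Category.comp_id, Category.assoc]
        rw [show pullback.map (Spec.map (f.stalkMap x)) (Spec.map (f.stalkMap x)) f f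
            (X.fromSpecStalk x) (X.fromSpecStalk x) (Y.fromSpecStalk (f x)) e e ≫ pullback.snd f f =
            pullback.snd _ _ ≫ X.fromSpecStalk x from pullback.lift_snd _ _ _,
          pullback.diagonal_snd_assoc]
    have hcomp : Flat (X.fromSpecStalk x ≫ pullback.diagonal f) := by
      rw [sq]
      infer_instance
    have h1 : ((X.fromSpecStalk x ≫ pullback.diagonal f).stalkMap
        (IsLocalRing.closedPoint (X.presheaf.stalk x))).hom.Flat := Flat.stalkMap _ _
    rw [Scheme.Hom.stalkMap_comp] at h1
    have h2 : ((X.fromSpecStalk x).stalkMap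
        (IsLocalRing.closedPoint (X.presheaf.stalk x))).hom.Flat := Flat.stalkMap _ _
    have h3 := Groth.Agent.Lib.Helper55.ringHom_flat_of_comp_of_faithfullyFlat
      ((pullback.diagonal f).stalkMap ((X.fromSpecStalk x)
        (IsLocalRing.closedPoint (X.presheaf.stalk x)))).hom _ h2 h1
    have key : ∀ x' : X, x' = x → ((pullback.diagonal f).stalkMap x').hom.Flat →
        ((pullback.diagonal f).stalkMap x).hom.Flat := by
      rintro _ rfl h
      exact h
    exact key _ (Scheme.fromSpecStalk_closedPoint) h3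

end Groth.Agent.S1412
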