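import Groth.Statements.S15315
import Mathlib.Tactic.LinearCombination
import Mathlib.Tactic.Ring

set_option autoImplicit false
universe u
open ArLef

namespace Groth.Agent.S15315

/-- For a Noetherian commutative ring A, elements a, b with a a non-zero-divisor on A/(b), and an ideal
I, one has length(A/(aI + bA)) = length(A/(a, b)) + length(A/(I + bA)) as extended natural numbers;
in particular when two of the three quotients have finite length so does the third. -/
theorem result (A : Type u) [CommRing A] [IsNoetherianRing A] (a b : A) (I : Ideal A)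
    (ha : IsSMulRegular (A ⧸ Ideal.span ({b} : Set A)) a) :
    Module.length A (A ⧸ (Ideal.span {a} * I ⊔ Ideal.span {b})) =
      Module.length A (A ⧸ Ideal.span ({a, b} : Set A)) + Module.length A (A ⧸ (I ⊔ Ideal.span {b})) := by
  set J1 : Ideal A := I ⊔ Ideal.span {b} with hJ1
  set J2 : Ideal A := Ideal.span {a} * I ⊔ Ideal.span {b} with hJ2
  set J3 : Ideal A := Ideal.span ({a, b} : Set A) with hJ3
  have hb2 : b ∈ J2 := Ideal.mem_sup_right (Ideal.mem_span_singleton_self b)
  have h12 : J1 ≤ Submodule.comap (LinearMap.mulLeft A a) J2 := by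
    intro x hx
    rw [Submodule.mem_comap, LinearMap.mulLeft_apply]
    obtain ⟨i, hi, z, hz, rfl⟩ := Submodule.mem_sup.mp hx
    rw [mul_add]
    refine J2.add_mem (Ideal.mem_sup_left (Ideal.mul_mem_mul (Ideal.mem_span_singleton_self a) hi)) ?_
    obtain ⟨c, rfl⟩ := Ideal.mem_span_singleton'.mp hz
    rw [← mul_assoc]
    exact J2.mul_mem_left _ hb2
  have h23 : J2 ≤ Submodule.comap (LinearMap.id : A →ₗ[A] A) J3 := by
    intro x hx
    rw [Submodule.mem_comap, LinearMap.id_apply]
    obtain ⟨y, hy, z, hz, rfl⟩ := Submodule.mem_sup.mp hx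
    refine J3.add_mem ?_ ?_
    · obtain ⟨i, -, rfl⟩ := Ideal.mem_span_singleton_mul.mp hy
      exact J3.mul_mem_right _ (Ideal.subset_span (by simp))
    · obtain ⟨c, rfl⟩ := Ideal.mem_span_singleton'.mp hz
      exact J3.mul_mem_left _ (Ideal.subset_span (by simp))
  let f : (A ⧸ J1) →ₗ[A] (A ⧸ J2) := Submodule.mapQ J1 J2 (LinearMap.mulLeft A a) h12
  let g : (A ⧸ J2) →ₗ[A] (A ⧸ J3) := Submodule.mapQ J2 J3 LinearMap.id h23
  have hf : Function.Injective f := by
    rw [← LinearMap.ker_eq_bot, LinearMap.ker_eq_bot']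
    intro x hx
    obtain ⟨x, rfl⟩ := Submodule.Quotient.mk_surjective _ x
    have hx' : a * x ∈ J2 := by
      have : f (Submodule.Quotient.mk x) = Submodule.Quotient.mk (a * x) := rfl
      rw [this] at hx
      exact (Submodule.Quotient.mk_eq_zero _).mp hx
    obtain ⟨y, hy, z, hz, hyz⟩ := Submodule.mem_sup.mp hx'
    obtain ⟨i, hi, rfl⟩ := Ideal.mem_span_singleton_mul.mp hy
    obtain ⟨c, rfl⟩ := Ideal.mem_span_singleton'.mp hz
    have h1 : a • (Ideal.Quotient.mk (Ideal.span ({b} : Set A)) (x - i)) = a • 0 := by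
      rw [smul_zero, ← Ideal.Quotient.mk_eq_mk, ← Submodule.Quotient.mk_smul, Ideal.Quotient.mk_eq_mk,
        Ideal.Quotient.eq_zero_iff_mem, Ideal.mem_span_singleton']
      refine ⟨c, ?_⟩
      rw [smul_eq_mul]
      linear_combination hyz
    have h2 := ha h1
    rw [Ideal.Quotient.eq_zero_iff_mem] at h2
    rw [Submodule.Quotient.mk_eq_zero]
    have : x = i + (x - i) := by ring
    rw [this]
    exact J1.add_mem (Ideal.mem_sup_left hi) (Ideal.mem_sup_right h2)
  have hg : Function.Surjective g := by
    intro y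
    obtain ⟨y, rfl⟩ := Submodule.Quotient.mk_surjective _ y
    exact ⟨Submodule.Quotient.mk y, rfl⟩
  have hfg : Function.Exact f g := by
    intro y
    obtain ⟨y, rfl⟩ := Submodule.Quotient.mk_surjective _ y
    constructor
    · intro hy
      have hy' : y ∈ J3 := by
        have : g (Submodule.Quotient.mk y) = Submodule.Quotient.mk y := rfl
        rw [this] at hy
        exact (Submodule.Quotient.mk_eq_zero _).mp hy
      obtain ⟨r, s, rfl⟩ := Ideal.mem_span_pair.mp hy'
      refine ⟨Submodule.Quotient.mk r, ?_⟩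
      have : f (Submodule.Quotient.mk r) = Submodule.Quotient.mk (a * r) := rfl
      rw [this, Submodule.Quotient.eq]
      have : a * r - (r * a + s * b) = -(s * b) := by ring
      rw [this]
      exact J2.neg_mem (J2.mul_mem_left _ hb2)
    · rintro ⟨x, hx⟩
      obtain ⟨x, rfl⟩ := Submodule.Quotient.mk_surjective _ x
      have : g (f (Submodule.Quotient.mk x)) = Submodule.Quotient.mk (a * x) := rfl
      rw [← hx, this, Submodule.Quotient.mk_eq_zero]
      exact J3.mul_mem_right _ (Ideal.subset_span (by simp))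
  rw [Module.length_eq_add_of_exact f g hf hg hfg, add_comm]

end Groth.Agent.S15315
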