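import Groth.Statements.S14080
import Mathlib.RingTheory.PowerSeries.Substitution
import Mathlib.RingTheory.PowerSeries.Trunc
import Mathlib.RingTheory.PowerSeries.Inverse
import Mathlib.Tactic

set_option autoImplicit false
universe u
open ArSing

namespace Groth.Agent.S14080

open PowerSeries

variable {k : Type u} [Field k]

theorem map_C (ψ : k⟦X⟧ →ₐ[k] k⟦X⟧) (c : k) : ψ (C c) = C c := by
  have := ψ.commutes c
  rwa [PowerSeries.algebraMap_eq] at this

theorem constantCoeff_algHom_X (ψ : k⟦X⟧ →ₐ[k] k⟦X⟧) : constantCoeff (ψ X) = 0 := by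
  by_contra hc
  have hu : IsUnit (X - C (constantCoeff (ψ X)) : k⟦X⟧) := by
    rw [PowerSeries.isUnit_iff_constantCoeff]
    simp [hc]
  have hu' := hu.map ψ
  rw [map_sub, map_C, PowerSeries.isUnit_iff_constantCoeff] at hu'
  simp at hu'

theorem X_dvd_algHom_X (ψ : k⟦X⟧ →ₐ[k] k⟦X⟧) : X ∣ ψ X :=
  PowerSeries.X_dvd_iff.mpr (constantCoeff_algHom_X ψ)

theorem coeff_algHom (ψ : k⟦X⟧ →ₐ[k] k⟦X⟧) (f : k⟦X⟧) (n : ℕ) :
    coeff n (ψ f) = coeff n (Polynomial.aeval (ψ X) (trunc (n + 1) f)) := by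
  have h1 : X ^ (n + 1) ∣ f - (trunc (n + 1) f : k⟦X⟧) := by
    rw [PowerSeries.X_pow_dvd_iff]
    intro m hm
    rw [map_sub, Polynomial.coeff_coe, coeff_trunc, if_pos hm, sub_self]
  obtain ⟨q, hq⟩ := h1
  have h2 : f = (trunc (n + 1) f : k⟦X⟧) + X ^ (n + 1) * q := by rw [← hq]; ring
  have h3 : ψ ((trunc (n + 1) f : k⟦X⟧)) = Polynomial.aeval (ψ X) (trunc (n + 1) f) := by
    have : (ψ.comp (Polynomial.coeToPowerSeries.algHom k)) =
        Polynomial.aeval (ψ X) := by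
      apply Polynomial.algHom_ext
      simp
    exact congrArg (fun w => w (trunc (n + 1) f)) this
  have h4 : X ^ (n + 1) ∣ ψ (X ^ (n + 1) * q) := by
    rw [map_mul, map_pow]
    exact Dvd.dvd.mul_right (pow_dvd_pow_of_dvd (X_dvd_algHom_X ψ) _) _
  conv_lhs => rw [h2]
  rw [map_add, map_add, h3]
  rw [PowerSeries.X_pow_dvd_iff] at h4
  rw [h4 n (Nat.lt_succ_self n), add_zero]

theorem algHom_ext_X (ψ₁ ψ₂ : k⟦X⟧ →ₐ[k] k⟦X⟧) (h : ψ₁ X = ψ₂ X) : ψ₁ = ψ₂ := by
  ext f n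
  rw [coeff_algHom, coeff_algHom, h]

theorem constantCoeff_algHom (ψ : k⟦X⟧ →ₐ[k] k⟦X⟧) (f : k⟦X⟧) :
    constantCoeff (ψ f) = constantCoeff f := by
  have := coeff_algHom ψ f 0
  rw [coeff_zero_eq_constantCoeff_apply] at this
  rw [this]
  have h1 : trunc (0 + 1) f = Polynomial.C (constantCoeff f) := by
    ext m
    rw [coeff_trunc, Polynomial.coeff_C]
    by_cases hm : m = 0
    · subst hm; simp
    · rw [if_neg (by omega), if_neg hm]
  rw [h1, Polynomial.aeval_C, PowerSeries.algebraMap_eq]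
  simp


/-- Let k be a field in which 2 is invertible and σ an involutive k-algebra automorphism of the power
series ring k[[t]], with ξ the coefficient of t in σ(t). Then ξ^2 = 1, the k-algebra endomorphism φ
with φ(t) = (t + ξ σ(t))/2 is an automorphism, and φ⁻¹ σ φ is the automorphism t ↦ ξ t. (The
published statement is over an algebraically closed field of characteristic prime to 2; only the
invertibility of 2 is used, so any field with 2 ≠ 0 is allowed here.) -/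
theorem result (k : Type u) [Field k] (h2 : (2 : k) ≠ 0)
    (σ : PowerSeries k ≃ₐ[k] PowerSeries k) (hσ : ∀ f, σ (σ f) = f) :
    (PowerSeries.coeff 1 (σ PowerSeries.X)) ^ 2 = 1 ∧
    ∃ φ : PowerSeries k ≃ₐ[k] PowerSeries k,
      φ PowerSeries.X = PowerSeries.C (2⁻¹ : k) *
        (PowerSeries.X + PowerSeries.C (PowerSeries.coeff 1 (σ PowerSeries.X)) * σ PowerSeries.X) ∧
      ∀ f, φ.symm (σ (φ f)) = PowerSeries.rescale (PowerSeries.coeff 1 (σ PowerSeries.X)) f := by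
  set ξ := PowerSeries.coeff 1 (σ PowerSeries.X) with hξ
  have hc0 : constantCoeff (σ X) = 0 := constantCoeff_algHom_X (σ : k⟦X⟧ →ₐ[k] k⟦X⟧)
  obtain ⟨u, hu⟩ := PowerSeries.X_dvd_iff.mpr hc0
  have hu0 : constantCoeff u = ξ := by
    rw [hξ, hu, coeff_succ_X_mul, coeff_zero_eq_constantCoeff_apply]
  have hξ2 : ξ ^ 2 = 1 := by
    have h1 : coeff 1 (σ (σ X)) = 1 := by rw [hσ]; simp
    have hcu : constantCoeff (σ u) = constantCoeff u :=
      constantCoeff_algHom (σ : k⟦X⟧ →ₐ[k] k⟦X⟧) u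
    rw [hu, map_mul, hu, mul_assoc, coeff_succ_X_mul, coeff_zero_eq_constantCoeff_apply, map_mul,
      hcu, hu0] at h1
    rw [sq]; exact h1
  refine ⟨hξ2, ?_⟩
  set g : k⟦X⟧ := C (2⁻¹ : k) * (X + C ξ * σ X) with hg
  have hg0 : constantCoeff g = 0 := by
    rw [hg]; simp [hc0]
  have hg1 : coeff 1 g = 1 := by
    rw [hg, coeff_C_mul, map_add, coeff_C_mul, ← hξ, coeff_one_X, ← sq, hξ2]
    field_simp
    norm_num
  have hg1u : IsUnit (coeff 1 g) := by rw [hg1]; exact isUnit_one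
  have hgs : HasSubst g := HasSubst.of_constantCoeff_zero' hg0
  set gi := g.substInvOfIsUnit hg1u with hgi
  have hgis : HasSubst gi := HasSubst.substInvOfIsUnit g hg1u
  have e1 : g.subst gi = X := subst_substInvOfIsUnit_right g hg0 hg1u
  have e2 : gi.subst g = X := subst_substInvOfIsUnit_left g hg0 hg1u
  let φ : k⟦X⟧ ≃ₐ[k] k⟦X⟧ := AlgEquiv.ofAlgHom (substAlgHom hgs) (substAlgHom hgis)
    (by
      apply algHom_ext_X
      rw [AlgHom.comp_apply, substAlgHom_X, coe_substAlgHom, AlgHom.id_apply]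
      exact e2)
    (by
      apply algHom_ext_X
      rw [AlgHom.comp_apply, substAlgHom_X, coe_substAlgHom, AlgHom.id_apply]
      exact e1)
  have hφX : φ X = g := substAlgHom_X hgs
  refine ⟨φ, hφX, ?_⟩
  intro f
  rw [AlgEquiv.symm_apply_eq]
  have key : ((σ : k⟦X⟧ →ₐ[k] k⟦X⟧).comp (φ : k⟦X⟧ →ₐ[k] k⟦X⟧)) =
      (φ : k⟦X⟧ →ₐ[k] k⟦X⟧).comp (rescaleAlgHom ξ) := by
    apply algHom_ext_X
    rw [AlgHom.comp_apply, AlgHom.comp_apply]
    have r1 : rescaleAlgHom ξ (X : k⟦X⟧) = C ξ * X := by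
      have := congrArg (fun w => w (X : k⟦X⟧)) (coe_rescaleAlgHom ξ)
      simp only [RingHom.coe_coe] at this
      rw [this, rescale_X]
    rw [r1]
    change σ (φ X) = φ (C ξ * X)
    rw [map_mul, hφX, hg, map_mul, map_add, map_mul, hσ]
    have hC : ∀ c : k, φ (C c) = C c := fun c => map_C (φ : k⟦X⟧ →ₐ[k] k⟦X⟧) c
    have hC' : ∀ c : k, σ (C c) = C c := fun c => map_C (σ : k⟦X⟧ →ₐ[k] k⟦X⟧) c
    rw [hC, hC', hC']
    have : (C ξ : k⟦X⟧) * C ξ = 1 := by rw [← map_mul, ← sq, hξ2, map_one]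
    linear_combination (-(C (2⁻¹ : k)) * σ X) * this
  have h3 := congrArg (fun w => w f) key
  change σ (φ f) = φ (rescaleAlgHom ξ f) at h3
  rw [h3]
  congr 1
  have := congrArg (fun w => w f) (coe_rescaleAlgHom ξ)
  simpa using this


end Groth.Agent.S14080
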