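import Groth.Statements.S19092
import Mathlib.RingTheory.Localization.Basic
import Mathlib.Tactic
-- import your own Groth.Agent.* helpers here

set_option autoImplicit false
universe u
open FrobAlg

namespace Groth.Agent.S19092


theorem isLoc_pow (p : ℕ) [Fact p.Prime] (A : Type u) [CommRing A] [CharP A p]
    (S : Submonoid A) (B : Type u) [CommRing B] [Algebra A B] [IsLocalization S B] :
    IsLocalization (S.map (frobenius A p)) B where
  map_units := by
    rintro ⟨y, s, hs, rfl⟩
    show IsUnit (algebraMap A B (frobenius A p s))
    rw [frobenius_def, map_pow]
    exact (IsLocalization.map_units B (⟨s, hs⟩ : S)).pow p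
  surj := by
    intro z
    obtain ⟨⟨a, s⟩, h⟩ := IsLocalization.surj S z
    have hp : 0 < p := (Fact.out : p.Prime).pos
    refine ⟨(a * (s : A) ^ (p - 1), ⟨frobenius A p s, s, s.2, rfl⟩), ?_⟩
    simp only at h ⊢
    rw [frobenius_def, map_mul, ← h, map_pow, map_pow]
    have : p = (p - 1) + 1 := by omega
    conv_lhs => rw [this, pow_succ]
    ring
  exists_of_eq := by
    intro x y hxy
    obtain ⟨c, hc⟩ := IsLocalization.exists_of_eq (M := S) hxy
    have hp : 0 < p := (Fact.out : p.Prime).pos
    refine ⟨⟨frobenius A p c, c, c.2, rfl⟩, ?_⟩
    show frobenius A p c * x = frobenius A p c * y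
    rw [frobenius_def]
    have : p = (p - 1) + 1 := by omega
    rw [this, pow_succ, mul_assoc, mul_assoc, hc]

/-- Let p be a prime and A a commutative ring of characteristic p whose absolute Frobenius a ↦ a^p is a
finite ring homomorphism. Then the same holds for every quotient and every localization of A: for
every ideal I of A such that A ⧸ I has characteristic p (every proper ideal) the absolute Frobenius
of A ⧸ I is finite, and for every submonoid S of A and every localization B of A at S of
characteristic p (every nonzero localization) the absolute Frobenius of B is finite. -/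
theorem result (p : ℕ) [Fact p.Prime]
    (A : Type u) [CommRing A] [CharP A p] (hF : (frobenius A p).Finite) :
    (∀ (I : Ideal A) [CharP (A ⧸ I) p], (frobenius (A ⧸ I) p).Finite) ∧
      ∀ (S : Submonoid A) (B : Type u) [CommRing B] [Algebra A B] [IsLocalization S B] [CharP B p],
        (frobenius B p).Finite := by
  constructor
  · intro I _
    have hcomm : (frobenius (A ⧸ I) p).comp (Ideal.Quotient.mk I) =
        (Ideal.Quotient.mk I).comp (frobenius A p) := by
      ext x
      simp [frobenius_def]
    have h1 : ((Ideal.Quotient.mk I).comp (frobenius A p)).Finite :=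
      RingHom.Finite.comp (RingHom.Finite.of_surjective _ Ideal.Quotient.mk_surjective) hF
    rw [← hcomm] at h1
    exact RingHom.Finite.of_comp_finite h1
  · intro S B _ _ _ _
    haveI := isLoc_pow p A S B
    have h := RingHom.finite_localizationPreserves (frobenius A p) S B B hF
    have heq : (IsLocalization.map B (frobenius A p) (Submonoid.le_comap_map S) : B →+* B) =
        frobenius B p := by
      apply IsLocalization.ringHom_ext S
      ext x
      simp [IsLocalization.map_eq, frobenius_def]
    rw [heq] at h
    exact h

end Groth.Agent.S19092
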