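import Mathlib
import Groth.Statements.S0503
import Groth.Agent.Lib.Helper9.HenselSplit

set_option autoImplicit false
universe u
open Hensel

namespace Groth.Agent.S0503

open IsLocalRing Groth.Agent.Lib.Helper9

/-- A finite-type quasi-finite algebra `S` over a henselian local ring `R` contains an idempotent `e`
such that `S/(1-e)` is finitely generated as an `R`-module and the maximal ideal of `R` generates
the unit ideal of `S/(e)`; in other words `S` is a product of a module-finite algebra and an algebra
whose fibre over the closed point is empty. -/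
theorem result (R : Type u) [CommRing R] [HenselianLocalRing R]
    (S : Type u) [CommRing S] [Algebra R S] [Algebra.FiniteType R S] [Algebra.QuasiFinite R S] :
    ∃ e : S, IsIdempotentElem e ∧ Module.Finite R (S ⧸ Ideal.span ({1 - e} : Set S)) ∧
      Ideal.map (algebraMap R (S ⧸ Ideal.span ({e} : Set S))) (IsLocalRing.maximalIdeal R) = ⊤ := by
  classical
  have hTfin : ((maximalIdeal R).primesOver S).Finite :=
    Algebra.QuasiFinite.finite_primesOver (maximalIdeal R)
  have hex : ∀ q : Ideal S, ∃ e : S, q ∈ (maximalIdeal R).primesOver S →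
      IsIdempotentElem e ∧ e ∉ q ∧ Module.Finite R (Localization.Away e) := by
    intro q
    by_cases hq : q ∈ (maximalIdeal R).primesOver S
    · have h1 : q.IsPrime := hq.1
      have h2 : q.LiesOver (maximalIdeal R) := hq.2
      obtain ⟨e, he, heq, hfin, -⟩ := exists_idempotent_of_quasiFiniteAt (R := R) q
      exact ⟨e, fun _ => ⟨he, heq, hfin⟩⟩
    · exact ⟨0, fun h => absurd h hq⟩
  choose e he using hex
  obtain ⟨E, hE, hEfin, hEe, -⟩ := exists_idempotent_union (R := R) hTfin.toFinset e
    (fun q hq => (he q (hTfin.mem_toFinset.1 hq)).1)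
    (fun q hq => (he q (hTfin.mem_toFinset.1 hq)).2.2)
  refine ⟨E, hE, hEfin, ?_⟩
  by_contra hne
  obtain ⟨M, hM, hle⟩ := Ideal.exists_le_maximal _ hne
  set Q : Ideal S := M.comap (Ideal.Quotient.mk (Ideal.span {E})) with hQ
  have hQprime : Q.IsPrime := Ideal.comap_isPrime _ _
  have hEQ : E ∈ Q := by
    rw [hQ, Ideal.mem_comap, Ideal.Quotient.eq_zero_iff_mem.2 (Ideal.mem_span_singleton_self E)]
    exact M.zero_mem
  have hQm : Q.LiesOver (maximalIdeal R) := by
    constructor
    apply (IsLocalRing.maximalIdeal.isMaximal R).eq_of_le (Ideal.IsPrime.under R Q).ne_top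
    intro r hr
    rw [Ideal.under, Ideal.mem_comap, hQ, Ideal.mem_comap]
    apply hle
    exact Ideal.mem_map_of_mem _ hr
  have hQT : Q ∈ (maximalIdeal R).primesOver S := ⟨hQprime, hQm⟩
  apply (he Q hQT).2.1
  rw [← hEe Q (hTfin.mem_toFinset.2 hQT)]
  exact Q.mul_mem_left _ hEQ

end Groth.Agent.S0503
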