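import Groth.Statements.S14100
import Mathlib.Algebra.Homology.DerivedCategory.TStructure
import Mathlib.Algebra.Homology.DerivedCategory.FullyFaithful
import Mathlib.CategoryTheory.Triangulated.TStructure.TruncLTGE
-- import your own Groth.Agent.* helpers here

set_option autoImplicit false
universe w v u
open DCoh

namespace Groth.Agent.S14100

section
open CategoryTheory Limits Pretriangulated Triangulated DerivedCategory

variable {C : Type u} [Category.{v} C] [Abelian C] [HasDerivedCategory.{w} C]

noncomputable abbrev tt : TStructure (DerivedCategory C) := DerivedCategory.TStructure.t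

theorem eq_zero_of_heart {X Z : DerivedCategory C} (b : ℤ) [X.IsGE b] [X.IsLE b] [Z.IsGE b] [Z.IsLE b]
    (f : X ⟶ Z) (hf : (homologyFunctor C b).map f = 0) : f = 0 := by
  obtain ⟨Y, ⟨e⟩⟩ := exists_iso_singleFunctor_obj_of_isGE_of_isLE X b
  obtain ⟨Y', ⟨e'⟩⟩ := exists_iso_singleFunctor_obj_of_isGE_of_isLE Z b
  obtain ⟨g, hg⟩ := (singleFunctor C b).map_surjective (e.inv ≫ f ≫ e'.hom)
  have hg0 : g = 0 := by
    have nat := NatIso.naturality_1 (singleFunctorCompHomologyFunctorIso C b) g
    simp only [Functor.comp_map, Functor.id_map] at nat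
    rw [← nat, hg, Functor.map_comp, Functor.map_comp, hf]
    simp
  rw [hg0, Functor.map_zero] at hg
  have h2 : f = e.hom ≫ (e.inv ≫ f ≫ e'.hom) ≫ e'.inv := by simp
  rw [h2, ← hg]
  simp

theorem mono_homology_truncLTι (X : DerivedCategory C) (b q : ℤ) (hq : q < b) :
    Mono ((homologyFunctor C q).map ((tt.truncLTι b).app X)) := by
  have hT := tt.triangleLTGE_distinguished b X
  have h := (HomologySequence.mono_homologyMap_mor₁_iff _ hT (q - 1) q (by lia)).mpr
    (by
      apply IsZero.eq_of_src
      exact isZero_of_isGE ((tt.truncGE b).obj X) b (q - 1) (by lia))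
  exact h

theorem epi_homology_truncGEπ (X : DerivedCategory C) (b q : ℤ) (hq : b ≤ q) :
    Epi ((homologyFunctor C q).map ((tt.truncGEπ b).app X)) := by
  have hT := tt.triangleLTGE_distinguished b X
  have h := (HomologySequence.epi_homologyMap_mor₂_iff _ hT q (q + 1) rfl).mpr
    (by
      apply IsZero.eq_of_tgt
      exact isZero_of_isLE ((tt.truncLT b).obj X) (b - 1) (q + 1) (by lia))
  exact h

theorem comp_truncGEπ_eq_zero {X Z : DerivedCategory C} (b : ℤ) [X.IsLE b] [Z.IsLE b] (f : X ⟶ Z)
    (hf : (homologyFunctor C b).map f = 0) : f ≫ (tt.truncGEπ b).app Z = 0 := by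
  rw [← tt.truncGEπ_naturality]
  have h : (tt.truncGE b).map f = 0 := by
    apply eq_zero_of_heart b
    have hepi := epi_homology_truncGEπ X b b le_rfl
    rw [← cancel_epi ((homologyFunctor C b).map ((tt.truncGEπ b).app X)), ← Functor.map_comp,
      tt.truncGEπ_naturality, Functor.map_comp, hf]
    simp
  rw [h, comp_zero]

theorem homology_truncLT_map_eq_zero {X Z : DerivedCategory C} (b q : ℤ) (f : X ⟶ Z)
    (hf : (homologyFunctor C q).map f = 0) :
    (homologyFunctor C q).map ((tt.truncLT b).map f) = 0 := by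
  by_cases hq : q < b
  · have := mono_homology_truncLTι Z b q hq
    have nat : (tt.truncLT b).map f ≫ (tt.truncLTι b).app Z = (tt.truncLTι b).app X ≫ f :=
      (tt.truncLTι b).naturality f
    rw [← cancel_mono ((homologyFunctor C q).map ((tt.truncLTι b).app Z)),
      ← Functor.map_comp, nat, Functor.map_comp, hf]
    simp
  · apply IsZero.eq_of_tgt
    exact isZero_of_isLE ((tt.truncLT b).obj Z) (b - 1) q (by lia)

@[reducible] def succF : ℕ ⥤ ℕ where
  obj i := i + 1
  map f := homOfLE (Nat.succ_le_succ (leOfHom f))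

theorem main (n : ℕ) : ∀ (a : ℤ) (K : ℕ ⥤ DerivedCategory C)
    (_ : ∀ i : ℕ, i ≤ n + 1 → (K.obj i).IsGE a)
    (_ : ∀ i : ℕ, i ≤ n + 1 → (K.obj i).IsLE (a + n))
    (_ : ∀ i : ℕ, i ≤ n → ∀ q : ℤ,
      (homologyFunctor C q).map (K.map (homOfLE (Nat.le_succ i))) = 0),
    K.map (homOfLE (Nat.zero_le (n + 1))) = 0 := by
  induction n with
  | zero =>
    intro a K hGE hLE hzero
    have h1 := hGE 0 (by omega)
    have h2 := hGE 1 (by omega)
    have h3 : (K.obj 0).IsLE a := by simpa using hLE 0 (by omega)
    have h4 : (K.obj 1).IsLE a := by simpa using hLE 1 (by omega)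
    exact eq_zero_of_heart a _ (hzero 0 le_rfl a)
  | succ n ih =>
    intro a K hGE hLE hzero
    have hb : a + ((n + 1 : ℕ) : ℤ) = a + n + 1 := by push_cast; omega
    rw [hb] at hLE
    set b : ℤ := a + n + 1 with hbdef
    let f0 : K.obj 0 ⟶ K.obj 1 := K.map (homOfLE (Nat.le_succ 0))
    let φ : K.obj 1 ⟶ K.obj (n + 1 + 1) := K.map (homOfLE (show 1 ≤ n + 1 + 1 by omega))
    have e1 : K.map (homOfLE (Nat.zero_le (n + 1 + 1))) = f0 ≫ φ := by
      rw [← K.map_comp]
      rfl
    have h1' : (tt.truncLT b).map φ = 0 := by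
      have := ih a (succF ⋙ K ⋙ tt.truncLT b)
        (fun i hi => by
          have := hGE (i + 1) (by omega)
          show tt.IsGE ((tt.truncLT b).obj (K.obj (i + 1))) a
          infer_instance)
        (fun i hi => by
          show tt.IsLE ((tt.truncLT b).obj (K.obj (i + 1))) (a + n)
          exact tt.isLE_truncLT_obj _ b (a + n) (by lia))
        (fun i hi q => by
          apply homology_truncLT_map_eq_zero b q
          exact hzero (i + 1) (by omega) q)
      exact this
    have h0 : f0 ≫ (tt.truncGEπ b).app (K.obj 1) = 0 := by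
      have := hLE 0 (by omega)
      have := hLE 1 (by omega)
      exact comp_truncGEπ_eq_zero b _ (hzero 0 (by omega) b)
    obtain ⟨g, hg⟩ : ∃ g : K.obj 0 ⟶ (tt.truncLT b).obj (K.obj 1),
        f0 = g ≫ (tt.truncLTι b).app (K.obj 1) :=
      Triangle.coyoneda_exact₂ _ (tt.triangleLTGE_distinguished b (K.obj 1)) _ h0
    have nat : (tt.truncLT b).map φ ≫ (tt.truncLTι b).app (K.obj (n + 1 + 1)) =
        (tt.truncLTι b).app (K.obj 1) ≫ φ := (tt.truncLTι b).naturality φ
    rw [e1, hg, Category.assoc, ← nat, h1', zero_comp, comp_zero]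

end

open CategoryTheory in
/-- Let C be an abelian category, a an integer and n a natural number, and let K_0 → K_1 → ⋯ → K_{n+1}
be composable morphisms in the derived category of C such that each K_i has cohomology concentrated
in degrees a, …, a+n and each map K_i → K_{i+1} induces zero on every cohomology object. Then the
composite K_0 → K_{n+1} is zero. (The chain is given as a functor from the ordered set of natural
numbers; only its values on 0, …, n+1 matter.) -/
theorem result
    (C : Type u) [Category.{v} C] [Abelian C] [HasDerivedCategory.{w} C]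
    (a : ℤ) (n : ℕ) (K : ℕ ⥤ DerivedCategory C)
    (hGE : ∀ i : ℕ, i ≤ n + 1 → (K.obj i).IsGE a)
    (hLE : ∀ i : ℕ, i ≤ n + 1 → (K.obj i).IsLE (a + n))
    (hzero : ∀ i : ℕ, i ≤ n → ∀ q : ℤ,
      (DerivedCategory.homologyFunctor C q).map (K.map (homOfLE (Nat.le_succ i))) = 0) :
    K.map (homOfLE (Nat.zero_le (n + 1))) = 0 := by
  exact main n a K hGE hLE hzero

end Groth.Agent.S14100
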