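import Groth.Statements.S15294
import Mathlib
-- import your own Groth.Agent.* helpers here

set_option autoImplicit false
universe u
open DeRham

namespace Groth.Agent.S15294

open exteriorPower in
theorem gen_induction {R A : Type u} [CommRing R] [CommRing A] [Algebra R A] (p : ℕ)
    {P : ↥(⋀[A]^p (Ω[A⁄R])) → Prop} (h0 : P 0) (hadd : ∀ x y, P x → P y → P (x + y))
    (hgen : ∀ (b₀ : A) (b : Fin p → A), P (DeRham.gen (KaehlerDifferential.D R A) p b₀ b))
    (x : ↥(⋀[A]^p (Ω[A⁄R]))) : P x := by
  let gs : Set ↥(⋀[A]^p (Ω[A⁄R])) :=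
    {x | ∃ (b₀ : A) (b : Fin p → A), x = DeRham.gen (KaehlerDifferential.D R A) p b₀ b}
  let S : Submodule A ↥(⋀[A]^p (Ω[A⁄R])) :=
    { carrier := AddSubmonoid.closure gs
      zero_mem' := (AddSubmonoid.closure gs).zero_mem
      add_mem' := (AddSubmonoid.closure gs).add_mem
      smul_mem' := by
        intro a x hx
        induction hx using AddSubmonoid.closure_induction with
        | mem x hx =>
          obtain ⟨b₀, b, rfl⟩ := hx
          apply AddSubmonoid.subset_closure
          exact ⟨a * b₀, b, by simp [DeRham.gen, mul_smul]⟩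
        | zero => rw [smul_zero]; exact (AddSubmonoid.closure gs).zero_mem
        | add x y _ _ hx hy => rw [smul_add]; exact (AddSubmonoid.closure gs).add_mem hx hy }
  have hS : S = ⊤ := by
    rw [eq_top_iff, ← exteriorPower.ιMulti_span_of_span A p (Ω[A⁄R])
      (KaehlerDifferential.span_range_derivation R A), Submodule.span_le]
    rintro _ ⟨m, hm, rfl⟩
    have hm' : ∀ i, ∃ b, KaehlerDifferential.D R A b = m i := fun i => hm ⟨i, rfl⟩
    choose b hb using hm'
    apply AddSubmonoid.subset_closure
    refine ⟨1, b, ?_⟩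
    simp only [DeRham.gen, one_smul]
    congr 1
    ext i
    exact (hb i).symm
  have hx : x ∈ AddSubmonoid.closure gs := by
    have : x ∈ S := by rw [hS]; trivial
    exact this
  induction hx using AddSubmonoid.closure_induction with
  | mem x hx => obtain ⟨b₀, b, rfl⟩ := hx; exact hgen b₀ b
  | zero => exact h0
  | add x y _ _ hx hy => exact hadd x y hx hy


open exteriorPower in
/-- The map of de Rham complexes attached to a square of ring maps is compatible with the differentials.
Precisely: let R → A and S → B be ring maps with B an algebra over A (and over R, compatibly), let d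
and d' be de Rham differentials of the Kähler differentials of A over R and of B over S, and let ψ
be a family of additive maps from p-forms of A over R to p-forms of B over S which is the induced
map for the structure map g : A → B, sending b₀ db₁ ∧ … ∧ db_p to g(b₀) d(g b₁) ∧ … ∧ d(g b_p). Then
ψ in degree p+1 composed with d equals d' composed with ψ in degree p. (The published statement is
for a commutative square of ring maps R → S, A → B; once the family ψ is given the conclusion holds
for any ring maps, the square being needed only to produce ψ.) -/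
theorem result (R S A B : Type u) [CommRing R] [CommRing S] [CommRing A] [CommRing B]
    [Algebra R A] [Algebra S B] [Algebra A B] [Algebra R B] [IsScalarTower R A B]
    (d : ∀ p : ℕ, ↥(⋀[A]^p (Ω[A⁄R])) →ₗ[R] ↥(⋀[A]^(p + 1) (Ω[A⁄R])))
    (hd : DeRham.IsDiff (KaehlerDifferential.D R A) d)
    (d' : ∀ p : ℕ, ↥(⋀[B]^p (Ω[B⁄S])) →ₗ[S] ↥(⋀[B]^(p + 1) (Ω[B⁄S])))
    (hd' : DeRham.IsDiff (KaehlerDifferential.D S B) d')
    (ψ : ∀ p : ℕ, ↥(⋀[A]^p (Ω[A⁄R])) →+ ↥(⋀[B]^p (Ω[B⁄S])))
    (hψ : DeRham.IsCxMap (KaehlerDifferential.D R A) (KaehlerDifferential.D S B) (algebraMap A B) ψ)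
    (p : ℕ) (x : ↥(⋀[A]^p (Ω[A⁄R]))) :
    ψ (p + 1) (d p x) = d' p (ψ p x) := by
  induction x using gen_induction with
  | h0 => simp
  | hadd x y hx hy => rw [map_add, map_add, map_add, map_add, hx, hy]
  | hgen b₀ b =>
    rw [hd.1 p b₀ b, hψ p b₀ b, hd'.1 p]
    have h1 : exteriorPower.ιMulti A (p + 1)
        (Fin.cons (KaehlerDifferential.D R A b₀) (fun i => KaehlerDifferential.D R A (b i))) =
        DeRham.gen (KaehlerDifferential.D R A) (p + 1) 1 (Fin.cons b₀ b) := by
      simp only [DeRham.gen, one_smul]
      congr 1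
      ext i
      refine Fin.cases ?_ (fun j => ?_) i <;> simp
    rw [h1, hψ (p + 1) 1 (Fin.cons b₀ b)]
    simp only [DeRham.gen, map_one, one_smul]
    congr 1
    ext i
    refine Fin.cases ?_ (fun j => ?_) i <;> simp

end Groth.Agent.S15294
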