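import Groth.Statements.S15795
import Groth.Agent.Lib.Helper83.Krull
-- import your own Groth.Agent.* helpers here

set_option autoImplicit false
universe u v
open WildQuot

namespace Groth.Agent.S15795

open IsLocalRing in
theorem smul_mem_maximalIdeal {A : Type u} [CommRing A] [IsLocalRing A]
    {G : Type v} [Group G] [MulSemiringAction G A] (σ : G) {x : A}
    (hx : x ∈ maximalIdeal A) : σ • x ∈ maximalIdeal A := by
  rw [mem_maximalIdeal, mem_nonunits_iff] at hx ⊢
  intro h
  apply hx
  have h2 := h.map (MulSemiringAction.toRingHom G A σ⁻¹)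
  simpa using h2

open IsLocalRing in
theorem map_maximalIdeal_le {A : Type u} [CommRing A] [IsLocalRing A]
    {G : Type v} [Group G] [MulSemiringAction G A] (σ : G) :
    Ideal.map (MulSemiringAction.toRingHom G A σ) (maximalIdeal A) ≤ maximalIdeal A := by
  rw [Ideal.map_le_iff_le_comap]
  intro x hx
  exact smul_mem_maximalIdeal σ hx

open IsLocalRing in
theorem nakayama_le {A : Type u} [CommRing A] [IsLocalRing A] [IsNoetherianRing A]
    (J : Ideal A) (h : maximalIdeal A ≤ J ⊔ maximalIdeal A ^ 2) : maximalIdeal A ≤ J := by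
  refine Submodule.le_of_le_smul_of_le_jacobson_bot (I := maximalIdeal A)
    (IsNoetherian.noetherian _) (IsLocalRing.jacobson_eq_maximalIdeal _ bot_ne_top).ge ?_
  rwa [smul_eq_mul, ← pow_two]

open IsLocalRing in
theorem not_lower {A : Type u} [CommRing A] [IsLocalRing A] [IsNoetherianRing A]
    {G : Type v} [Group G] [MulSemiringAction G A]
    (n : ℕ) (hn : ringKrullDim A = n) (u : Fin n → A)
    (hu : Ideal.span (Set.range u) = maximalIdeal A)
    (htri : ∀ (σ : G) (i : Fin n),
      σ • u i ∈ Ideal.span (u '' {j | j ≤ i}) ⊔ maximalIdeal A ^ 2)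
    (σ : G) (i : Fin n)
    (h : σ • u i ∈ Ideal.span (u '' {j | j < i}) ⊔ maximalIdeal A ^ 2) : False := by
  classical
  set f := MulSemiringAction.toRingHom G A σ⁻¹ with hf
  have h1 : u i ∈ Ideal.span (u '' {j | j < i}) ⊔ maximalIdeal A ^ 2 := by
    have h2 : f (σ • u i) ∈ Ideal.map f (Ideal.span (u '' {j | j < i}) ⊔ maximalIdeal A ^ 2) :=
      Ideal.mem_map_of_mem f h
    have h3 : f (σ • u i) = u i := by
      simp [hf]
    rw [h3] at h2
    refine (?_ : Ideal.map f (Ideal.span (u '' {j | j < i}) ⊔ maximalIdeal A ^ 2) ≤ _) h2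
    rw [Ideal.map_sup, Ideal.map_pow, Ideal.map_span]
    refine sup_le ?_ (le_sup_of_le_right (Ideal.pow_right_mono (map_maximalIdeal_le _) 2))
    rw [Ideal.span_le]
    rintro _ ⟨_, ⟨j, hj, rfl⟩, rfl⟩
    have h4 := htri σ⁻¹ j
    have hle : Ideal.span (u '' {j' | j' ≤ j}) ⊔ maximalIdeal A ^ 2 ≤
        Ideal.span (u '' {j | j < i}) ⊔ maximalIdeal A ^ 2 := by
      refine sup_le_sup_right (Ideal.span_mono (Set.image_mono ?_)) _
      intro j' hj'
      exact lt_of_le_of_lt (show j' ≤ j from hj') (show j < i from hj)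
    exact hle h4
  have hs : (((Finset.univ.erase i).image u : Finset A) : Set A) = u '' {j | j ≠ i} := by
    ext x; simp
  have h5 : maximalIdeal A ≤ Ideal.span (u '' {j | j ≠ i}) ⊔ maximalIdeal A ^ 2 := by
    rw [← hu, Ideal.span_le]
    rintro _ ⟨j, rfl⟩
    by_cases hj : j = i
    · subst hj
      rw [hu]
      have hle : Ideal.span (u '' {j' | j' < j}) ⊔ maximalIdeal A ^ 2 ≤
          Ideal.span (u '' {j' | j' ≠ j}) ⊔ maximalIdeal A ^ 2 := by
        refine sup_le_sup_right (Ideal.span_mono (Set.image_mono ?_)) _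
        intro j' hj'
        exact ne_of_lt hj'
      exact hle h1
    · rw [hu]
      exact Ideal.mem_sup_left (Ideal.subset_span ⟨j, hj, rfl⟩)
  have h6 := nakayama_le _ h5
  have hsm : Ideal.span (((Finset.univ.erase i).image u : Finset A) : Set A) ≤
      maximalIdeal A := by
    rw [← hu]
    apply Ideal.span_mono
    rw [hs]
    exact Set.image_subset_range _ _
  have h7 := Groth.Agent.Lib.Helper83.card_ge_of_maximalIdeal_le_radical n hn _ hsm
    (by rw [hs]; exact h6.trans Ideal.le_radical)
  have hc : ((Finset.univ.erase i).image u).card ≤ n - 1 := by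
    calc ((Finset.univ.erase i).image u).card ≤ (Finset.univ.erase i).card := Finset.card_image_le
      _ = n - 1 := by simp
  have hpos : 0 < n := i.pos
  omega

open IsLocalRing in
theorem mem_of_tri {A : Type u} [CommRing A] [IsLocalRing A] [IsNoetherianRing A]
    {G : Type v} [Group G] [MulSemiringAction G A]
    (n : ℕ) (hn : ringKrullDim A = n) (u : Fin n → A)
    (hu : Ideal.span (Set.range u) = maximalIdeal A)
    (htri : ∀ (σ : G) (i : Fin n),
      σ • u i ∈ Ideal.span (u '' {j | j ≤ i}) ⊔ maximalIdeal A ^ 2)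
    (σ : G) (i : Fin n) :
    u i ∈ Ideal.span {σ • u i} ⊔ Ideal.span (u '' {j | j < i}) ⊔ maximalIdeal A ^ 2 := by
  have h := htri σ i
  have hset : {j : Fin n | j ≤ i} = {j | j < i} ∪ {i} := by
    ext j
    simp only [Set.mem_ofPred_eq, Set.mem_union, Set.mem_singleton_iff]
    exact le_iff_lt_or_eq
  rw [hset, Set.image_union, Set.image_singleton, Ideal.span_union] at h
  obtain ⟨y, hy, q, hq, hyq⟩ := Submodule.mem_sup.mp h
  obtain ⟨v, hv, w, hw, hvw⟩ := Submodule.mem_sup.mp hy
  obtain ⟨c, rfl⟩ := Ideal.mem_span_singleton'.mp hw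
  by_cases hc : IsUnit c
  · obtain ⟨c', rfl⟩ := hc
    have e : u i = (↑c'⁻¹ : A) * (σ • u i) - ↑c'⁻¹ * v - ↑c'⁻¹ * q := by
      rw [← hyq, ← hvw]
      have : (↑c'⁻¹ : A) * ↑c' = 1 := by simp
      linear_combination (-(u i)) * this
    have key : (↑c'⁻¹ : A) * (σ • u i) - ↑c'⁻¹ * v - ↑c'⁻¹ * q ∈
        Ideal.span {σ • u i} ⊔ Ideal.span (u '' {j | j < i}) ⊔ maximalIdeal A ^ 2 := by
      refine Ideal.sub_mem _ (Ideal.sub_mem _ ?_ ?_) ?_
      · exact Ideal.mem_sup_left (Ideal.mem_sup_left
          (Ideal.mul_mem_left _ _ (Ideal.subset_span rfl)))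
      · exact Ideal.mem_sup_left (Ideal.mem_sup_right (Ideal.mul_mem_left _ _ hv))
      · exact Ideal.mem_sup_right (Ideal.mul_mem_left _ _ hq)
    rwa [← e] at key
  · exfalso
    apply not_lower n hn u hu htri σ i
    rw [← hyq, ← hvw]
    have hcm : c ∈ maximalIdeal A := hc
    have hui : u i ∈ maximalIdeal A := by
      rw [← hu]; exact Ideal.subset_span ⟨i, rfl⟩
    have : c * u i ∈ maximalIdeal A ^ 2 := by
      rw [pow_two]; exact Ideal.mul_mem_mul hcm hui
    exact Ideal.add_mem _ (Ideal.add_mem _ (Ideal.mem_sup_left hv) (Ideal.mem_sup_right this))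
      (Ideal.mem_sup_right hq)

open IsLocalRing in
theorem induction_step {A : Type u} [CommRing A] [IsLocalRing A] [IsNoetherianRing A]
    {G : Type v} [Group G] [MulSemiringAction G A]
    (n : ℕ) (hn : ringKrullDim A = n) (u : Fin n → A)
    (hu : Ideal.span (Set.range u) = maximalIdeal A)
    (htri : ∀ (σ : G) (i : Fin n),
      σ • u i ∈ Ideal.span (u '' {j | j ≤ i}) ⊔ maximalIdeal A ^ 2)
    (τ : Fin n → G) (k : ℕ) :
    Ideal.span (u '' {j | j.val < k}) ≤
      Ideal.span ((fun j => τ j • u j) '' {j | j.val < k}) ⊔ maximalIdeal A ^ 2 := by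
  induction k with
  | zero => simp
  | succ k ih =>
    rw [Ideal.span_le]
    rintro _ ⟨j, hj, rfl⟩
    have hmono : Ideal.span ((fun j => τ j • u j) '' {j | j.val < k}) ≤
        Ideal.span ((fun j => τ j • u j) '' {j | j.val < k + 1}) := by
      apply Ideal.span_mono
      apply Set.image_mono
      intro j' hj'
      exact Nat.lt_succ_of_lt hj'
    by_cases hjk : j.val < k
    · exact (sup_le_sup_right hmono _) (ih (Ideal.subset_span ⟨j, hjk, rfl⟩))
    · have hjk' : j.val = k := by
        have : j.val < k + 1 := hj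
        omega
      have h1 := mem_of_tri n hn u hu htri (τ j) j
      have hle : Ideal.span {τ j • u j} ⊔ Ideal.span (u '' {j' | j' < j}) ⊔ maximalIdeal A ^ 2 ≤
          Ideal.span ((fun j => τ j • u j) '' {j | j.val < k + 1}) ⊔ maximalIdeal A ^ 2 := ?_
      · exact hle h1
      refine sup_le (sup_le ?_ ?_) le_sup_right
      · refine le_sup_of_le_left ?_
        rw [Ideal.span_le, Set.singleton_subset_iff]
        exact Ideal.subset_span ⟨j, hj, rfl⟩
      · have : {j' : Fin n | j' < j} = {j' | j'.val < k} := by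
          ext j'
          simp only [Set.mem_ofPred_eq, Fin.lt_def, hjk']
        rw [this]
        exact ih.trans (sup_le_sup_right hmono _)

/-- Let `A` be a regular local ring of Krull dimension `n` with maximal ideal `m`, let a finite group
`G` act on `A` by ring automorphisms inducing the identity on the residue field, and let `u_1, …,
u_n` generate `m`. Suppose that for every `σ ∈ G` and every `i`, `σ u_i ∈ (u_1, …, u_i) + m ^ 2`,
i.e. the induced linear maps of `m / m ^ 2` are upper triangular in the basis given by the `u_i`.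
Then the system `u` is admissible: for every choice `σ_1, …, σ_n ∈ G` the elements `σ_1 u_1, …, σ_n
u_n` generate `m`. (The published statement is for a complete regular local ring containing a
`G`-fixed field of representatives; this row drops completeness and asks only that `G` act trivially
on the residue field.) -/
theorem result
    (A : Type u) [CommRing A] [IsRegularLocalRing A]
    (G : Type v) [Group G] [Finite G] [MulSemiringAction G A]
    (hres : ∀ (σ : G) (a : A), σ • a - a ∈ IsLocalRing.maximalIdeal A)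
    (n : ℕ) (hn : ringKrullDim A = n) (u : Fin n → A)
    (hu : Ideal.span (Set.range u) = IsLocalRing.maximalIdeal A)
    (htri : ∀ (σ : G) (i : Fin n),
      σ • u i ∈ Ideal.span (u '' {j | j ≤ i}) ⊔ IsLocalRing.maximalIdeal A ^ 2) :
    ∀ τ : Fin n → G,
      Ideal.span (Set.range fun i => τ i • u i) = IsLocalRing.maximalIdeal A := by
  intro τ
  have h1 := induction_step n hn u hu htri τ n
  have hall : {j : Fin n | j.val < n} = Set.univ := by
    ext j; simp
  rw [hall, Set.image_univ, Set.image_univ, hu] at h1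
  apply le_antisymm
  · rw [Ideal.span_le]
    rintro _ ⟨j, rfl⟩
    apply smul_mem_maximalIdeal
    rw [← hu]
    exact Ideal.subset_span ⟨j, rfl⟩
  · exact nakayama_le _ h1

end Groth.Agent.S15795
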