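import Groth.Statements.S17774
-- import your own Groth.Agent.* helpers here
import Groth.Agent.Lib.Helper85.CanonGor
import Groth.Agent.Lib.Helper77.Unmixed

set_option autoImplicit false
universe u
open CategoryTheory Opposite
open LocCoh

namespace Groth.Agent.S17774

/-- the height of an ideal is the infimum of the heights of all primes containing it -/
theorem height_eq_iInf {S : Type u} [CommRing S] (I : Ideal S) :
    I.height = ⨅ (p : PrimeSpectrum S) (_ : I ≤ p.asIdeal), p.asIdeal.height := by
  apply le_antisymm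
  · refine le_iInf₂ fun p hp => ?_
    exact Ideal.height_mono hp
  · rw [Ideal.height_eq_inf_minimalPrimes]
    refine le_iInf₂ fun J hJ => ?_
    exact iInf₂_le (⟨J, hJ.1.1⟩ : PrimeSpectrum S) hJ.1.2

/-- `dim S = dim S/I + ht I` for a Cohen–Macaulay local ring -/
theorem dim_formula (S : Type u) [CommRing S] [LocCoh.IsCohenMacaulayLocalRing S] (I : Ideal S)
    (hI : I ≠ ⊤) :
    ringKrullDim S = ringKrullDim (S ⧸ I) + ((I.height : ℕ∞) : WithBot ℕ∞) := by
  have h2 := Groth.Agent.Lib.Helper67.supportDim_eq_add_idealDepth_of_CM S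
    (Groth.Agent.Lib.Helper77.Unmixed.isCM_self S) I hI
  have hd : LocCoh.idealDepth I S = I.height := by
    rw [Groth.Agent.Lib.Helper67.idealDepth_eq_iInf_depth_localization, height_eq_iInf]
    congr 1
    funext Q
    congr 1
    funext _
    exact Groth.Agent.Lib.Helper77.Unmixed.depth_localization_eq_height S Q
  rw [hd, Module.supportDim_self_eq_ringKrullDim] at h2
  rw [h2]
  congr 1
  have : I • (⊤ : Submodule S S) = I := by rw [smul_eq_mul, Ideal.mul_top]
  rw [this]
  exact Module.supportDim_quotient_eq_ringKrullDim I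

/-- Let (S, n) be a Gorenstein local ring, I an ideal of S of height g such that R = S ⧸ I is a
Cohen–Macaulay local ring, of Krull dimension d, and E an injective hull of the residue field of S.
Then the canonical module of R is Ext^g_S(R, S), in the following sense: the Matlis dual
Hom_S(Ext^g_S(R, S), E) is isomorphic as an S-module to the top local cohomology H^d_n(R) of R
regarded as an S-module (existence of an S-linear isomorphism; Hom into E over S and local
cohomology with support in n agree with the corresponding notions over R for R-modules). -/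
theorem result (S : Type u) [CommRing S] [LocCoh.IsGorensteinLocalRing S] (I : Ideal S) (g : ℕ) (hg : I.height = g) [LocCoh.IsCohenMacaulayLocalRing (S ⧸ I)] (d : ℕ) (hd : ringKrullDim (S ⧸ I) = d) (E : Type u) [AddCommGroup E] [Module S E] (f : IsLocalRing.ResidueField S →ₗ[S] E) (hf : InjHull.IsInjectiveHull f) : Nonempty ((((Ext S (ModuleCat.{u} S) g).obj (op (ModuleCat.of S (S ⧸ I)))).obj (ModuleCat.of S S) →ₗ[S] E) ≃ₗ[S] LocCoh.H (IsLocalRing.maximalIdeal S) d (S ⧸ I)) := by
  haveI : Module.Injective S E := hf.isInjective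
  haveI := Groth.Agent.Lib.Helper4.GorCM.isCohenMacaulayLocalRing_of_gorenstein S
  obtain ⟨n, hdim, -, -⟩ := Groth.Agent.Lib.Helper4.GorCM.gorenstein_dim S
  have hI : I ≠ ⊤ := by
    intro h
    have : Subsingleton (S ⧸ I) := Ideal.Quotient.subsingleton_iff.2 h
    exact not_nontrivial (S ⧸ I) inferInstance
  have hform := dim_formula S I hI
  rw [hdim, hd, hg] at hform
  have hn : n = g + d := by
    have : ((n : ℕ) : WithBot ℕ∞) = ((d + g : ℕ) : WithBot ℕ∞) := by
      rw [hform]; push_cast; rfl
    have := WithBot.coe_injective (by exact_mod_cast this : ((n : ℕ∞) : WithBot ℕ∞) = (((d + g : ℕ) : ℕ∞) : WithBot ℕ∞))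
    have h3 : n = d + g := by exact_mod_cast this
    omega
  have hcd : LocCoh.CdLE S (IsLocalRing.maximalIdeal S) n :=
    Groth.Agent.Lib.Helper92.LC.cdLE_of_ringKrullDim_le _ n (le_of_eq hdim)
  have hN := Groth.Agent.Lib.Helper85.Canon.LCCM.self_of_CM S n hdim
  obtain ⟨θ⟩ := Groth.Agent.Lib.Helper85.Canon.gor_top_equiv S n hdim hf
  let eK : (S →ₗ[S] E) ≃ₗ[S] LocCoh.H (IsLocalRing.maximalIdeal S) n S :=
    (LinearMap.ringLmapEquivSelf S S E) ≪≫ₗ θ.symm
  obtain ⟨e⟩ := Groth.Agent.Lib.Helper85.Canon.duality S n hcd hN.2 eK g d hn.symm (S ⧸ I)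
  exact ⟨(e ≪≫ₗ (LinearEquiv.congrLeft E S
    (Groth.Agent.Lib.Helper92.OldExt.Φ (R := S) (ModuleCat.of S (S ⧸ I)) (ModuleCat.of S S) g)).symm).symm⟩

end Groth.Agent.S17774
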