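import Groth.Statements.S18707
import Mathlib
import Groth.Agent.S18700
import Groth.Agent.Lib.Helper77.FlatDepth3
import Groth.Agent.Lib.Helper67.Depth2
import Groth.Agent.Lib.Helper67.DepthAlg
import Groth.Agent.Lib.Helper85.KollarFlat3

set_option autoImplicit false
universe u
open QGor

namespace Groth.Agent.S18707

open IsLocalRing LocCoh

section Local

variable {R S : Type u} [CommRing R] [CommRing S] [IsLocalRing R] [IsLocalRing S]
  [IsNoetherianRing R] [IsNoetherianRing S] [Algebra R S] [IsLocalHom (algebraMap R S)]
variable (N : Type u) [AddCommGroup N] [Module R N] [Module S N] [IsScalarTower R S N]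
  [Module.Finite S N] [Module.Flat R N]

/-- flat local homomorphism, `N` finite over `S` and flat over `R`: the depth of `N` is at least the
depth of the closed fibre `N / m_R N` over the fibre ring `S / m_R S`. -/
theorem le_depth_of_fibre (I : Ideal S) (hI : I = (maximalIdeal R).map (algebraMap R S)) (d : ℕ∞)
    (h : d ≤ LocCoh.idealDepth ((maximalIdeal S).map (algebraMap S (S ⧸ I)))
      (N ⧸ I • (⊤ : Submodule S N))) :
    d ≤ LocCoh.depth S N := by
  subst hI
  by_cases hN : Nontrivial N
  · rw [Groth.Agent.Lib.Helper77.FlatDepth.depth_eq_add (A := R) (B := S) N]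
    refine le_trans ?_ le_add_self
    unfold LocCoh.depth
    have hfin : Module.Finite (S ⧸ (maximalIdeal R).map (algebraMap R S))
        (N ⧸ ((maximalIdeal R).map (algebraMap R S)) • (⊤ : Submodule S N)) :=
      Module.Finite.of_restrictScalars_finite S _ _
    rw [Groth.Agent.Lib.Helper67.idealDepth_eq_idealDepth_map_of_finite (A := S)
      (B := S ⧸ (maximalIdeal R).map (algebraMap R S)) (maximalIdeal S) _]
    exact h
  · rw [not_nontrivial_iff_subsingleton] at hN
    unfold LocCoh.depth
    rw [Groth.Agent.Lib.Helper67.idealDepth_eq_top_of_smul_top_eq_top _ _ (Subsingleton.elim _ _)]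
    exact le_top

end Local

section Prime

variable (A B : Type u) [CommRing A] [CommRing B] [IsNoetherianRing A] [IsNoetherianRing B]
  [Algebra A B] (q : Ideal B) [q.IsPrime] (E : Type u) [AddCommGroup E] [Module B E] [Module A E]
  [IsScalarTower A B E] [Module.Finite B E] [Module.Flat A E]

theorem le_depth_localizedModule (d : ℕ∞)
    (h : d ≤ LocCoh.idealDepth (q.map (algebraMap B (EGA4.FibLocRing A B q)))
      (EGA4.FibLocMod A B q E)) :
    d ≤ LocCoh.depth (Localization.AtPrime q) (LocalizedModule q.primeCompl E) := by
  set p := q.comap (algebraMap A B) with hp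
  have hlo : q.LiesOver p := ⟨rfl⟩
  let _ := Localization.AtPrime.algebraOfLiesOver p q
  have hloc : IsLocalHom (algebraMap (Localization.AtPrime p) (Localization.AtPrime q)) :=
    Localization.isLocalHom_localRingHom p q (algebraMap A B) rfl
  have hNA : IsNoetherianRing (Localization.AtPrime p) :=
    IsLocalization.isNoetherianRing p.primeCompl _ inferInstance
  have hNB : IsNoetherianRing (Localization.AtPrime q) :=
    IsLocalization.isNoetherianRing q.primeCompl _ inferInstance
  have hI : (maximalIdeal (Localization.AtPrime p)).map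
      (algebraMap (Localization.AtPrime p) (Localization.AtPrime q)) =
      p.map (algebraMap A (Localization.AtPrime q)) := by
    rw [← Localization.AtPrime.map_eq_maximalIdeal, Ideal.map_map,
      ← IsScalarTower.algebraMap_eq]
  let _ : Module (Localization.AtPrime p) (LocalizedModule q.primeCompl E) :=
    Module.compHom _ (algebraMap (Localization.AtPrime p) (Localization.AtPrime q))
  have hst1 : IsScalarTower (Localization.AtPrime p) (Localization.AtPrime q)
      (LocalizedModule q.primeCompl E) :=
    IsScalarTower.of_algebraMap_smul fun r x => rfl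
  have hst2 : IsScalarTower A (Localization.AtPrime p) (LocalizedModule q.primeCompl E) :=
    IsScalarTower.of_algebraMap_smul fun a z => by
      change algebraMap (Localization.AtPrime p) (Localization.AtPrime q)
        (algebraMap A (Localization.AtPrime p) a) • z = a • z
      rw [← IsScalarTower.algebraMap_apply A (Localization.AtPrime p) (Localization.AtPrime q),
        algebraMap_smul]
  have hflatA : Module.Flat A (LocalizedModule q.primeCompl E) :=
    Groth.Agent.Lib.Helper85.KollarFlat.flat_localizedModule (A := A) E q.primeCompl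
  have hflat : Module.Flat (Localization.AtPrime p) (LocalizedModule q.primeCompl E) :=
    (Module.flat_iff_of_isLocalization (Localization.AtPrime p) p.primeCompl _).2 hflatA
  apply le_depth_of_fibre (R := Localization.AtPrime p) (S := Localization.AtPrime q)
    (LocalizedModule q.primeCompl E) (p.map (algebraMap A (Localization.AtPrime q))) hI.symm d
  rw [← Localization.AtPrime.map_eq_maximalIdeal, Ideal.map_map, ← IsScalarTower.algebraMap_eq]
  exact h

/-- fibrewise depth along `V(J)` bounds the `J`-depth of an `A`-flat finite `B`-module -/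
theorem le_idealDepth_of_fibres (J : Ideal B) (d : ℕ∞)
    (hZ : ∀ q : PrimeSpectrum B, J ≤ q.asIdeal →
      d ≤ LocCoh.idealDepth (q.asIdeal.map (algebraMap B (EGA4.FibLocRing A B q.asIdeal)))
        (EGA4.FibLocMod A B q.asIdeal E)) :
    d ≤ LocCoh.idealDepth J E := by
  rw [Groth.Agent.Lib.Helper67.idealDepth_eq_iInf_depth_localization J E]
  exact le_iInf₂ fun q hq => le_depth_localizedModule A B q.asIdeal E d (hZ q hq)

end Prime

/-- Affine form. Let A → B be a homomorphism of Noetherian rings, J an ideal of B, and 0 → F → E⁰ → E¹ →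
G → 0 an exact sequence of finite B-modules such that E⁰ and E¹ are flat over A and G_q is flat over
A for every prime q not containing J. Assume that for every prime q ⊇ J with contraction p to A the
fibre stalk (E⁰)_q / p(E⁰)_q has depth ≥ 2 and (E¹)_q / p(E¹)_q has depth ≥ 1 over the fibre local
ring B_q / pB_q. Then depth_J F ≥ 2 (the restriction map from F to its sections off V(J) is
bijective). -/
theorem result (A B : Type u) [CommRing A] [CommRing B]
    [IsNoetherianRing A] [IsNoetherianRing B] [Algebra A B] (J : Ideal B)
    (F E0 E1 G : Type u) [AddCommGroup F] [Module B F] [Module.Finite B F]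
    [AddCommGroup E0] [Module B E0] [Module A E0] [IsScalarTower A B E0] [Module.Finite B E0] [Module.Flat A E0]
    [AddCommGroup E1] [Module B E1] [Module A E1] [IsScalarTower A B E1] [Module.Finite B E1] [Module.Flat A E1]
    [AddCommGroup G] [Module B G] [Module A G] [IsScalarTower A B G] [Module.Finite B G]
    (f : F →ₗ[B] E0) (u : E0 →ₗ[B] E1) (v : E1 →ₗ[B] G)
    (hf : Function.Injective f) (hfu : Function.Exact f u) (huv : Function.Exact u v) (hv : Function.Surjective v)
    (hGU : ∀ q : PrimeSpectrum B, ¬ J ≤ q.asIdeal → FlatCA.FlatAt A q.asIdeal G)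
    (h0 : ∀ q : PrimeSpectrum B, J ≤ q.asIdeal →
      2 ≤ LocCoh.idealDepth (q.asIdeal.map (algebraMap B (EGA4.FibLocRing A B q.asIdeal))) (EGA4.FibLocMod A B q.asIdeal E0))
    (h1 : ∀ q : PrimeSpectrum B, J ≤ q.asIdeal →
      1 ≤ LocCoh.idealDepth (q.asIdeal.map (algebraMap B (EGA4.FibLocRing A B q.asIdeal))) (EGA4.FibLocMod A B q.asIdeal E1)) :
    2 ≤ LocCoh.idealDepth J F := by
  have hE0 : 2 ≤ LocCoh.idealDepth J E0 := le_idealDepth_of_fibres A B E0 J 2 h0
  have hE1 : 1 ≤ LocCoh.idealDepth J E1 := le_idealDepth_of_fibres A B E1 J 1 h1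
  have hker := (Groth.Agent.S18700.result B J E0 E1 u).2 hE0 hE1
  have hrange : LinearMap.range f = LinearMap.ker u := (LinearMap.exact_iff.1 hfu).symm
  let e : F ≃ₗ[B] LinearMap.ker u :=
    (LinearEquiv.ofInjective f hf).trans (LinearEquiv.ofEq _ _ hrange)
  rw [Groth.Agent.Lib.Helper67.idealDepth_congr J e]
  exact hker

end Groth.Agent.S18707
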