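import Groth.Statements.S18709
import Mathlib

set_option autoImplicit false
universe u
open QGor

namespace Groth.Agent.S18709

section
variable {B : Type u} [CommRing B] [IsNoetherianRing B]

theorem lemmaL (N : Type u) [AddCommGroup N] [Module B N] [Module.Finite B N]
    (q : Ideal B) [q.IsPrime]
    [Module.Free (Localization.AtPrime q) (LocalizedModule q.primeCompl N)]
    {m : ℕ} (ψ : Fin m → Module.Dual B N) (hψ : Submodule.span B (Set.range ψ) = ⊤) :
    Module.Free (Localization.AtPrime q)
      (LocalizedModule q.primeCompl ((Fin m → B) ⧸ LinearMap.range (LinearMap.pi ψ))) := by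
  classical
  have : Module.FinitePresentation B N := Module.finitePresentation_of_finite B N
  let S := q.primeCompl
  let Bq := Localization.AtPrime q
  let Nq := LocalizedModule S N
  let u : N →ₗ[B] (Fin m → B) := LinearMap.pi ψ
  let b := Module.finBasis Bq Nq
  -- lifts of coordinate functionals
  have hlift : ∀ k, ∃ (ν : N →ₗ[B] B) (s : S),
      (Algebra.linearMap B Bq) ∘ₗ ν =
        s • (((b.coord k).restrictScalars B) ∘ₗ LocalizedModule.mkLinearMap S N) := by
    intro k
    exact Module.FinitePresentation.exists_lift_of_isLocalizedModule S (Algebra.linearMap B Bq)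
      (((b.coord k).restrictScalars B) ∘ₗ LocalizedModule.mkLinearMap S N)
  choose ν s hν using hlift
  have hνspan : ∀ k, ∃ a : Fin m → B, ∑ j, a j • ψ j = ν k := by
    intro k
    have : ν k ∈ Submodule.span B (Set.range ψ) := by rw [hψ]; trivial
    exact (Submodule.mem_span_range_iff_exists_fun B).mp this
  choose a ha using hνspan
  let w₀ : (Fin m → B) →ₗ[B] Nq :=
    ∑ k, (LinearMap.toSpanSingleton B Nq ((IsLocalization.mk' Bq (1 : B) (s k)) • b k)) ∘ₗ
      (∑ j, a k j • LinearMap.proj j)
  have hw₀ : ∀ x : N, w₀ (u x) = LocalizedModule.mkLinearMap S N x := by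
    intro x
    have h1 : ∀ k, (∑ j, a k j • (LinearMap.proj j : (Fin m → B) →ₗ[B] B)) (u x) = ν k x := by
      intro k
      rw [← ha k]
      simp [u, LinearMap.sum_apply]
    simp only [w₀, LinearMap.sum_apply, LinearMap.comp_apply, h1,
      LinearMap.toSpanSingleton_apply]
    have h2 : ∀ k, (ν k x) • ((IsLocalization.mk' Bq (1 : B) (s k)) • b k) =
        (b.coord k (LocalizedModule.mkLinearMap S N x)) • b k := by
      intro k
      have h3 := LinearMap.congr_fun (hν k) x
      simp only [LinearMap.comp_apply, Algebra.linearMap_apply, LinearMap.smul_apply,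
        LinearMap.coe_restrictScalars] at h3
      rw [← algebraMap_smul Bq (ν k x), h3, smul_smul]
      congr 1
      rw [Submonoid.smul_def, Algebra.smul_def, mul_comm, ← mul_assoc,
        IsLocalization.mk'_spec, map_one, one_mul]
    rw [Finset.sum_congr rfl (fun k _ => h2 k)]
    exact b.sum_repr _
  have hunits : ∀ x : S, IsUnit ((algebraMap B (Module.End B Nq)) ↑x) :=
    IsLocalizedModule.map_units (LocalizedModule.mkLinearMap S N)
  let w : LocalizedModule S (Fin m → B) →ₗ[B] Nq :=
    IsLocalizedModule.lift S (LocalizedModule.mkLinearMap S (Fin m → B)) w₀ hunits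
  let uq : Nq →ₗ[Bq] LocalizedModule S (Fin m → B) := LocalizedModule.map S u
  have hwu : ∀ n : Nq, w (uq n) = n := by
    have h1 : w ∘ₗ (uq.restrictScalars B) = LinearMap.id := by
      apply IsLocalizedModule.ext S (LocalizedModule.mkLinearMap S N) hunits
      apply LinearMap.ext
      intro x
      simp only [LinearMap.comp_apply, LinearMap.coe_restrictScalars, LinearMap.id_apply, uq]
      rw [LocalizedModule.mkLinearMap_apply, LocalizedModule.map_mk,
        ← LocalizedModule.mkLinearMap_apply, IsLocalizedModule.lift_apply, hw₀]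
      rfl
    intro n
    exact LinearMap.congr_fun h1 n
  let p : (Fin m → B) →ₗ[B] ((Fin m → B) ⧸ LinearMap.range u) := (LinearMap.range u).mkQ
  let pq : LocalizedModule S (Fin m → B) →ₗ[Bq]
      LocalizedModule S ((Fin m → B) ⧸ LinearMap.range u) := LocalizedModule.map S p
  have hexact : Function.Exact uq pq :=
    LocalizedModule.map_exact S u p (LinearMap.exact_map_mkQ_range u)
  have hsurj : Function.Surjective pq :=
    LocalizedModule.map_surjective S p (Submodule.mkQ_surjective _)
  let wq : LocalizedModule S (Fin m → B) →ₗ[Bq] Nq :=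
    LinearMap.extendScalarsOfIsLocalization S Bq w
  have hwq : ∀ y, wq y = w y := fun y => rfl
  let E : LocalizedModule S (Fin m → B) →ₗ[Bq] LocalizedModule S (Fin m → B) :=
    LinearMap.id - uq ∘ₗ wq
  have hE : LinearMap.ker pq ≤ LinearMap.ker E := by
    intro y hy
    rw [LinearMap.mem_ker] at hy
    obtain ⟨n, rfl⟩ := (hexact y).mp hy
    rw [LinearMap.mem_ker]
    simp only [E, LinearMap.sub_apply, LinearMap.id_apply, LinearMap.comp_apply]
    rw [hwq, hwu, sub_self]
  let σ : LocalizedModule S ((Fin m → B) ⧸ LinearMap.range u) →ₗ[Bq]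
      LocalizedModule S (Fin m → B) :=
    ((LinearMap.ker pq).liftQ E hE) ∘ₗ (pq.quotKerEquivOfSurjective hsurj).symm.toLinearMap
  have hσ : pq ∘ₗ σ = LinearMap.id := by
    apply LinearMap.ext
    intro z
    obtain ⟨y, rfl⟩ := hsurj z
    have h1 : (pq.quotKerEquivOfSurjective hsurj).symm (pq y) =
        Submodule.Quotient.mk y := by
      rw [LinearEquiv.symm_apply_eq]
      rfl
    simp only [σ, LinearMap.comp_apply, LinearEquiv.coe_coe, LinearMap.id_apply]
    rw [h1, Submodule.liftQ_apply]
    simp only [E, LinearMap.sub_apply, LinearMap.id_apply, LinearMap.comp_apply, map_sub]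
    have h2 : pq (uq (wq y)) = 0 := (hexact _).mpr ⟨_, rfl⟩
    rw [h2, sub_zero]
  have hproj : Module.Projective Bq (LocalizedModule S ((Fin m → B) ⧸ LinearMap.range u)) :=
    Module.Projective.of_split σ pq hσ
  exact Module.free_of_flat_of_isLocalRing

theorem lemmaT1 (F : Type u) [AddCommGroup F] [Module B F] [Module.IsReflexive B F]
    {n : ℕ} (φ : Fin n → Module.Dual B F) (hφ : Submodule.span B (Set.range φ) = ⊤) :
    Function.Injective (LinearMap.pi φ : F →ₗ[B] (Fin n → B)) := by
  rw [← LinearMap.ker_eq_bot, LinearMap.ker_eq_bot']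
  intro x hx
  have h1 : ∀ i, φ i x = 0 := fun i => congrFun hx i
  have h2 : ∀ θ : Module.Dual B F, θ x = 0 := by
    intro θ
    have hθ : θ ∈ Submodule.span B (Set.range φ) := by rw [hφ]; trivial
    induction hθ using Submodule.span_induction with
    | mem θ hθ => obtain ⟨i, rfl⟩ := hθ; exact h1 i
    | zero => rfl
    | add a b _ _ ha hb => rw [LinearMap.add_apply, ha, hb, add_zero]
    | smul c a _ ha => rw [LinearMap.smul_apply, ha, smul_zero]
  have h3 : Module.Dual.eval B F x = 0 := by
    ext θ
    exact h2 θ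
  exact (Module.bijective_dual_eval B F).1 (by rw [h3, map_zero])

theorem lemmaT2 (F : Type u) [AddCommGroup F] [Module B F] [Module.IsReflexive B F]
    {n : ℕ} (φ : Fin n → Module.Dual B F) (hφ : Submodule.span B (Set.range φ) = ⊤)
    (y : Fin n → B) (hy : ∀ c : Fin n → B, ∑ i, c i • φ i = 0 → ∑ i, c i * y i = 0) :
    y ∈ LinearMap.range (LinearMap.pi φ : F →ₗ[B] (Fin n → B)) := by
  classical
  let Φ : (Fin n → B) →ₗ[B] Module.Dual B F := Fintype.linearCombination B φ
  let Y : (Fin n → B) →ₗ[B] B := Fintype.linearCombination B y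
  have hΦ : ∀ c, Φ c = ∑ i, c i • φ i := fun c => Fintype.linearCombination_apply B φ c
  have hY : ∀ c, Y c = ∑ i, c i * y i := fun c => by
    rw [Fintype.linearCombination_apply]; rfl
  have hΦsurj : Function.Surjective Φ := by
    rw [← LinearMap.range_eq_top, Fintype.range_linearCombination, hφ]
  have hker : LinearMap.ker Φ ≤ LinearMap.ker Y := by
    intro c hc
    rw [LinearMap.mem_ker, hΦ] at hc
    rw [LinearMap.mem_ker, hY]
    exact hy c hc
  let Λ : Module.Dual B F →ₗ[B] B :=
    ((LinearMap.ker Φ).liftQ Y hker) ∘ₗ (Φ.quotKerEquivOfSurjective hΦsurj).symm.toLinearMap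
  have hΛ : ∀ c, Λ (Φ c) = Y c := by
    intro c
    have h1 : (Φ.quotKerEquivOfSurjective hΦsurj).symm (Φ c) = Submodule.Quotient.mk c := by
      rw [LinearEquiv.symm_apply_eq]; rfl
    simp only [Λ, LinearMap.comp_apply, LinearEquiv.coe_coe]
    rw [h1, Submodule.liftQ_apply]
  obtain ⟨x, hx⟩ := (Module.bijective_dual_eval B F).2 Λ
  refine ⟨x, ?_⟩
  ext i
  have h1 : φ i = Φ (Pi.single i 1) := by
    rw [hΦ]
    simp [Pi.single_apply]
  have h2 : Λ (φ i) = y i := by
    rw [h1, hΛ, hY]
    simp [Pi.single_apply]
  rw [← h2, ← hx]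
  rfl

end

/-- Affine form; the flatness and depth hypotheses of the printed lemma only serve to place the sequence
in the situation of the key proposition and are not needed for the existence. Let B be a Noetherian
ring, J an ideal and F a finite reflexive B-module with F_q free for every prime q not containing J.
Then there is an exact sequence 0 → F → Bⁿ → Bᵐ → G → 0 with G_q free for every prime q not
containing J. -/
theorem result (B : Type u) [CommRing B] [IsNoetherianRing B]
    (J : Ideal B) (F : Type u) [AddCommGroup F] [Module B F] [Module.Finite B F] [Module.IsReflexive B F]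
    (hU : ∀ q : PrimeSpectrum B, ¬ J ≤ q.asIdeal →
      Module.Free (Localization.AtPrime q.asIdeal) (LocalizedModule q.asIdeal.primeCompl F)) :
    ∃ (n m : ℕ) (g : F →ₗ[B] (Fin n → B)) (h : (Fin n → B) →ₗ[B] (Fin m → B)),
      Function.Injective g ∧ Function.Exact g h ∧
      ∀ q : PrimeSpectrum B, ¬ J ≤ q.asIdeal →
        Module.Free (Localization.AtPrime q.asIdeal)
          (LocalizedModule q.asIdeal.primeCompl ((Fin m → B) ⧸ LinearMap.range h)) := by
  classical
  obtain ⟨n, φ, hφ⟩ := Module.Finite.exists_fin (R := B) (M := Module.Dual B F)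
  let g : F →ₗ[B] (Fin n → B) := LinearMap.pi φ
  have hginj : Function.Injective g := lemmaT1 F φ hφ
  obtain ⟨m, ψ, hψ⟩ := Module.Finite.exists_fin (R := B)
    (M := Module.Dual B ((Fin n → B) ⧸ LinearMap.range g))
  let h₀ : ((Fin n → B) ⧸ LinearMap.range g) →ₗ[B] (Fin m → B) := LinearMap.pi ψ
  have hh₀ : Function.Injective h₀ := by
    rw [← LinearMap.ker_eq_bot, LinearMap.ker_eq_bot']
    intro z hz
    obtain ⟨y, rfl⟩ := Submodule.Quotient.mk_surjective _ z
    have h1 : ∀ j, ψ j (Submodule.Quotient.mk y) = 0 := fun j => congrFun hz j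
    have h2 : ∀ θ : Module.Dual B ((Fin n → B) ⧸ LinearMap.range g),
        θ (Submodule.Quotient.mk y) = 0 := by
      intro θ
      have hθ : θ ∈ Submodule.span B (Set.range ψ) := by rw [hψ]; trivial
      induction hθ using Submodule.span_induction with
      | mem θ hθ => obtain ⟨j, rfl⟩ := hθ; exact h1 j
      | zero => rfl
      | add a b _ _ ha hb => rw [LinearMap.add_apply, ha, hb, add_zero]
      | smul c a _ ha => rw [LinearMap.smul_apply, ha, smul_zero]
    rw [Submodule.Quotient.mk_eq_zero]
    apply lemmaT2 F φ hφ y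
    intro c hc
    let lam : (Fin n → B) →ₗ[B] B := Fintype.linearCombination B c
    have hlam : ∀ v, lam v = ∑ i, v i * c i := fun v => by
      rw [Fintype.linearCombination_apply]; rfl
    have hlamg : LinearMap.range g ≤ LinearMap.ker lam := by
      rintro _ ⟨x, rfl⟩
      rw [LinearMap.mem_ker, hlam]
      have h3 := LinearMap.congr_fun hc x
      simp only [LinearMap.sum_apply, LinearMap.smul_apply, smul_eq_mul,
        LinearMap.zero_apply] at h3
      rw [← h3]
      apply Finset.sum_congr rfl
      intro i _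
      simp only [g, LinearMap.pi_apply]
      ring
    have h4 := h2 ((LinearMap.range g).liftQ lam hlamg)
    rw [Submodule.liftQ_apply, hlam] at h4
    rw [← h4]
    apply Finset.sum_congr rfl
    intro i _
    ring
  let h : (Fin n → B) →ₗ[B] (Fin m → B) := h₀ ∘ₗ (LinearMap.range g).mkQ
  have hrange : LinearMap.range h = LinearMap.range h₀ := by
    simp only [h]
    rw [LinearMap.range_comp, Submodule.range_mkQ, Submodule.map_top]
  refine ⟨n, m, g, h, hginj, ?_, ?_⟩
  · intro y
    simp only [h, LinearMap.comp_apply, Submodule.mkQ_apply]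
    rw [map_eq_zero_iff h₀ hh₀, Submodule.Quotient.mk_eq_zero]
    rfl
  · intro q hq
    have h1 := hU q hq
    have h2 : Module.Free (Localization.AtPrime q.asIdeal)
        (LocalizedModule q.asIdeal.primeCompl ((Fin n → B) ⧸ LinearMap.range g)) :=
      lemmaL F q.asIdeal φ hφ
    rw [hrange]
    exact lemmaL ((Fin n → B) ⧸ LinearMap.range g) q.asIdeal ψ hψ

end Groth.Agent.S18709
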