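import Groth.Statements.S18710
import Mathlib
import Groth.Agent.Lib.Helper67.FlatDepth7
import Groth.Agent.Lib.Helper67.EquiCat
import Groth.Agent.Lib.Helper77.FlatDepth3

set_option autoImplicit false
universe u
open QGor

namespace Groth.Agent.S18710

open TensorProduct IsLocalRing LocCoh

section Iso

variable {A B : Type u} [CommRing A] [CommRing B] [Algebra A B] (Q : Ideal B) [Q.IsPrime]
  (p : Ideal A) [p.IsPrime] [Q.LiesOver p]
  [Algebra (Localization.AtPrime p) (Localization.AtPrime Q)]
  [Localization.AtPrime.IsLiesOverAlgebra p Q]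
  (G : Type u) [AddCommGroup G] [Module A G]

/-- `(B ⊗_A G)_Q ≅ B_Q ⊗_{A_p} G_p` -/
noncomputable def locTensorEquiv :
    LocalizedModule Q.primeCompl (B ⊗[A] G) ≃ₗ[Localization.AtPrime Q]
      (Localization.AtPrime Q) ⊗[Localization.AtPrime p] (LocalizedModule p.primeCompl G) :=
  (LocalizedModule.equivTensorProduct Q.primeCompl (B ⊗[A] G)) ≪≫ₗ
  (AlgebraTensorModule.cancelBaseChange A B (Localization.AtPrime Q) (Localization.AtPrime Q) G) ≪≫ₗ
  (AlgebraTensorModule.cancelBaseChange A (Localization.AtPrime p) (Localization.AtPrime Q)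
    (Localization.AtPrime Q) G).symm ≪≫ₗ
  (AlgebraTensorModule.congr (LinearEquiv.refl (Localization.AtPrime Q) (Localization.AtPrime Q))
    (LocalizedModule.equivTensorProduct p.primeCompl G).symm)

end Iso

section Pointwise

variable {A B : Type u} [CommRing A] [CommRing B] [IsNoetherianRing A] [IsNoetherianRing B]
  [Algebra A B] [Module.Flat A B]
  (G : Type u) [AddCommGroup G] [Module A G] [Module.Finite A G]

theorem height_map_eq_zero_of_dim {S : Type u} [CommRing S] [IsLocalRing S] [IsNoetherianRing S]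
    (I J : Ideal S) (hIJ : I = J) (hJ : J ≠ ⊤) (h : ringKrullDim (S ⧸ I) = 0) :
    ((maximalIdeal S).map (Ideal.Quotient.mk J)).height = 0 := by
  subst hIJ
  have hnt : Nontrivial (S ⧸ I) := Ideal.Quotient.nontrivial_iff.mpr hJ
  have hloc : IsLocalRing (S ⧸ I) :=
    IsLocalRing.of_surjective' (Ideal.Quotient.mk I) Ideal.Quotient.mk_surjective
  have h1 := IsLocalRing.maximalIdeal_height_eq_ringKrullDim (R := S ⧸ I)
  rw [h, Groth.Agent.Lib.Helper67.maximalIdeal_quotient_eq_map I hJ] at h1
  exact_mod_cast h1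

theorem depth_formula (Q : Ideal B) [Q.IsPrime] (p : Ideal A) [p.IsPrime] [hQp : Q.LiesOver p] :
    ∃ c : ℕ∞, depth (Localization.AtPrime Q) (LocalizedModule Q.primeCompl (B ⊗[A] G)) =
      depth (Localization.AtPrime p) (LocalizedModule p.primeCompl G) + c ∧
      (Q ∈ (p.map (algebraMap A B)).minimalPrimes → c = 0) := by
  let _ := Localization.AtPrime.algebraOfLiesOver p Q
  have hp : p = Q.comap (algebraMap A B) := hQp.over
  have hloc : IsLocalHom (algebraMap (Localization.AtPrime p) (Localization.AtPrime Q)) :=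
    Localization.isLocalHom_localRingHom p Q (algebraMap A B) hp
  have hNA : IsNoetherianRing (Localization.AtPrime p) :=
    IsLocalization.isNoetherianRing p.primeCompl _ inferInstance
  have hNB : IsNoetherianRing (Localization.AtPrime Q) :=
    IsLocalization.isNoetherianRing Q.primeCompl _ inferInstance
  refine ⟨depth (Localization.AtPrime Q) (Localization.AtPrime Q ⧸
    ((maximalIdeal (Localization.AtPrime p)).map
      (algebraMap (Localization.AtPrime p) (Localization.AtPrime Q))) •
      (⊤ : Submodule (Localization.AtPrime Q) (Localization.AtPrime Q))), ?_, ?_⟩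
  · rw [Groth.Agent.Lib.Helper67.depth_congr (locTensorEquiv Q p G)]
    exact Groth.Agent.Lib.Helper67.depth_tensor_eq_add_quotient (R := Localization.AtPrime p)
      (S := Localization.AtPrime Q) (Localization.AtPrime Q) (LocalizedModule p.primeCompl G)
  · intro hQ
    apply Groth.Agent.Lib.Helper67.depth_fibre_eq_zero_of_height_eq_zero
    have hQ' : Q ∈ ((Q.comap (algebraMap A B)).map (algebraMap A B)).minimalPrimes := by
      rw [← hp]; exact hQ
    have h0 := Groth.Agent.Lib.Helper77.FlatDepth.dim_fibLoc_eq_zero_of_minimal A B Q hQ'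
    have hI : (Q.comap (algebraMap A B)).map (algebraMap A (Localization.AtPrime Q)) =
        (maximalIdeal (Localization.AtPrime p)).map
          (algebraMap (Localization.AtPrime p) (Localization.AtPrime Q)) := by
      rw [← hp, ← Localization.AtPrime.map_eq_maximalIdeal, Ideal.map_map,
        ← IsScalarTower.algebraMap_eq]
    exact height_map_eq_zero_of_dim _ _ hI
      (IsLocalRing.map_maximalIdeal_lt_top (algebraMap _ _)).ne h0

end Pointwise

section Main

variable (A B : Type u) [CommRing A] [CommRing B] [IsNoetherianRing A] [IsNoetherianRing B]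
  [Algebra A B] [Module.Flat A B] (I : Ideal A)
  (hI : ∀ p : PrimeSpectrum A, I ≤ p.asIdeal →
    ∃ q : PrimeSpectrum B, q.asIdeal.comap (algebraMap A B) = p.asIdeal)

omit [IsNoetherianRing A] [IsNoetherianRing B] in
include hI in
/-- over every prime `p ⊇ I` there is a prime `Q`, minimal over `pB`, lying over `p` -/
theorem exists_minimal_over (p : Ideal A) [hp : p.IsPrime] (hIp : I ≤ p) :
    ∃ Q : Ideal B, Q ∈ (p.map (algebraMap A B)).minimalPrimes ∧
      Q.comap (algebraMap A B) = p := by
  obtain ⟨q, hq⟩ := hI ⟨p, hp⟩ hIp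
  have hle : p.map (algebraMap A B) ≤ q.asIdeal := by
    rw [Ideal.map_le_iff_le_comap, hq]
  obtain ⟨Q, hQ, hQq⟩ := Ideal.exists_minimalPrimes_le hle
  exact ⟨Q, hQ, Groth.Agent.Lib.Helper67.EquiCat.comap_eq_of_mem_minimalPrimes_map p Q hQ⟩

include hI in
theorem height_map_eq : (I.map (algebraMap A B)).height = I.height := by
  apply le_antisymm
  · rw [Ideal.height_eq_inf_minimalPrimes I]
    refine le_iInf₂ fun p hp => ?_
    have hpp : p.IsPrime := hp.1.1
    obtain ⟨Q, hQ, hQp⟩ := exists_minimal_over A B I hI p hp.1.2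
    have hQprime : Q.IsPrime := hQ.1.1
    rw [← Groth.Agent.Lib.Helper67.EquiCat.height_eq_of_mem_minimalPrimes_map p Q hQ]
    exact Ideal.height_mono (le_trans (Ideal.map_mono hp.1.2) hQ.1.2)
  · rw [Ideal.height_eq_inf_minimalPrimes (I.map (algebraMap A B))]
    refine le_iInf₂ fun Q hQ => ?_
    have hQprime : Q.IsPrime := hQ.1.1
    have hpprime : (Q.comap (algebraMap A B)).IsPrime := Ideal.comap_isPrime _ _
    have hlo : Q.LiesOver (Q.comap (algebraMap A B)) := ⟨rfl⟩
    have h1 : I ≤ Q.comap (algebraMap A B) := Ideal.map_le_iff_le_comap.1 hQ.1.2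
    have h2 := Ideal.height_eq_height_add_of_liesOver_of_hasGoingDown
      (Q.comap (algebraMap A B)) Q
    rw [h2]
    exact le_trans (Ideal.height_mono h1) le_self_add

include hI in
theorem idealDepth_tensor_eq (G : Type u) [AddCommGroup G] [Module A G] [Module.Finite A G] :
    LocCoh.idealDepth (I.map (algebraMap A B)) (B ⊗[A] G) = LocCoh.idealDepth I G := by
  rw [Groth.Agent.Lib.Helper67.idealDepth_eq_iInf_depth_localization,
    Groth.Agent.Lib.Helper67.idealDepth_eq_iInf_depth_localization]
  apply le_antisymm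
  · refine le_iInf₂ fun p hp => ?_
    obtain ⟨Q, hQ, hQp⟩ := exists_minimal_over A B I hI p.asIdeal hp
    have hQprime : Q.IsPrime := hQ.1.1
    have hlo : Q.LiesOver p.asIdeal := ⟨hQp.symm⟩
    obtain ⟨c, hc, hc0⟩ := depth_formula G Q p.asIdeal
    rw [hc0 hQ, add_zero] at hc
    rw [← hc]
    have hIQ : I.map (algebraMap A B) ≤ (⟨Q, hQprime⟩ : PrimeSpectrum B).asIdeal :=
      le_trans (Ideal.map_mono hp) hQ.1.2
    exact iInf₂_le (⟨Q, hQprime⟩ : PrimeSpectrum B) hIQ
  · refine le_iInf₂ fun Q hQ => ?_
    have hpprime : (Q.asIdeal.comap (algebraMap A B)).IsPrime := Ideal.comap_isPrime _ _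
    have hlo : Q.asIdeal.LiesOver (Q.asIdeal.comap (algebraMap A B)) := ⟨rfl⟩
    have h1 : I ≤ Q.asIdeal.comap (algebraMap A B) := Ideal.map_le_iff_le_comap.1 hQ
    obtain ⟨c, hc, -⟩ := depth_formula G Q.asIdeal (Q.asIdeal.comap (algebraMap A B))
    rw [hc]
    exact le_trans (iInf₂_le (⟨Q.asIdeal.comap (algebraMap A B), hpprime⟩ : PrimeSpectrum A) h1)
      le_self_add

end Main

open TensorProduct in

open TensorProduct in
/-- Affine form. Let A → B be a flat homomorphism of Noetherian rings and I an ideal of A with V(I)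
contained in the image of Spec B → Spec A (every prime containing I is a contraction of a prime of
B). Then ht(IB) = ht(I) (codimension of the preimage equals codimension), and for every finite
A-module G one has depth_{IB} (B ⊗_A G) = depth_I G. -/
theorem result (A B : Type u) [CommRing A] [CommRing B]
    [IsNoetherianRing A] [IsNoetherianRing B] [Algebra A B] [Module.Flat A B] (I : Ideal A)
    (hI : ∀ p : PrimeSpectrum A, I ≤ p.asIdeal → ∃ q : PrimeSpectrum B, q.asIdeal.comap (algebraMap A B) = p.asIdeal)
    (G : Type u) [AddCommGroup G] [Module A G] [Module.Finite A G] :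
    (I.map (algebraMap A B)).height = I.height ∧
    LocCoh.idealDepth (I.map (algebraMap A B)) (B ⊗[A] G) = LocCoh.idealDepth I G := by
  exact ⟨height_map_eq A B I hI, idealDepth_tensor_eq A B I hI G⟩

end Groth.Agent.S18710
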