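import Groth.Statements.S0329
import Groth.Agent.Lib.Helper98.LCFaltings

set_option autoImplicit false
universe u v
open LocCoh

namespace Groth.Agent.S0329

open Groth.Agent.Lib.Helper98.LCFaltings


/-- Part (1): ⇔(2) with T = V(I) (Faltings): for a finite module M over a Noetherian ring, the local
cohomology modules H^i_I(M) for i ≤ n are all finitely generated exactly when some ideal J with I
contained in the radical of J kills all of them. -/
theorem result (R : Type u) [CommRing R] [IsNoetherianRing R] (I : Ideal R) (M : Type u) [AddCommGroup M] [Module R M] [Module.Finite R M] (n : ℕ) : (∀ i : ℕ, i ≤ n → Module.Finite R (LocCoh.H I i M)) ↔ ∃ J : Ideal R, I ≤ J.radical ∧ ∀ i : ℕ, i ≤ n → ∀ a ∈ J, ∀ x : LocCoh.H I i M, a • x = 0 := by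
  constructor
  · intro hfin
    have h1 : ∀ j : ℕ, j ≤ n → ∃ m : ℕ, ∀ a ∈ I ^ m, ∀ x : LocCoh.H I j M, a • x = 0 := by
      intro j hj
      have := hfin j hj
      exact kills_of_finite I j (ModuleCat.of R M)
    choose m hm using h1
    let T : ℕ := (Finset.range (n + 1)).sup (fun j => if h : j ≤ n then m j h else 0)
    have hT : ∀ j (hj : j ≤ n), m j hj ≤ T := by
      intro j hj
      have : (fun j => if h : j ≤ n then m j h else 0) j ≤ T :=
        Finset.le_sup (f := fun j => if h : j ≤ n then m j h else 0)
          (Finset.mem_range.2 (Nat.lt_succ_of_le hj))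
      simpa [hj] using this
    refine ⟨I ^ T, fun a ha => ⟨T, Ideal.pow_mem_pow ha T⟩, fun j hj a ha x => ?_⟩
    exact hm j hj a (Ideal.pow_le_pow_right (hT j hj) ha) x
  · rintro ⟨J, hIJ, hJ⟩
    obtain ⟨t, ht⟩ := Ideal.exists_pow_le_of_le_radical_of_fg hIJ
      ((isNoetherianRing_iff_ideal_fg R).1 inferInstance I)
    exact finite_of_kills I n M t (fun j hj a ha x => hJ j hj a (ht ha) x)

end Groth.Agent.S0329
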