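import Groth.Statements.S5172
-- import your own Groth.Agent.* helpers here
import Groth.Agent.Lib.Helper85.SGA2Key

set_option autoImplicit false
universe u
open LocCoh

namespace Groth.Agent.S5172

/-- Let A be a Noetherian ring which is a quotient of a regular ring, I an ideal, M a finite A-module
and n ≥ 0; c(p) = codim(V(p) ∩ V(I), V(p)). Then depth M_p > n − c(p) for all primes p ⊉ I if and
only if depth M_p ≥ n for all primes p ⊉ I with c(p) = 1. -/
theorem result (R : Type u) [CommRing R] [IsRegularRing R] (A : Type u) [CommRing A] [IsNoetherianRing A] (π : R →+* A) (hπ : Function.Surjective π) (I : Ideal A) (M : Type u) [AddCommGroup M] [Module A M] [Module.Finite A M] (n : ℕ) : (∀ p : PrimeSpectrum A, ¬ I ≤ p.asIdeal → (n : ℕ∞) < LocCoh.depth (Localization.AtPrime p.asIdeal) (LocalizedModule p.asIdeal.primeCompl M) + SGA2.relCodim I p) ↔ (∀ p : PrimeSpectrum A, ¬ I ≤ p.asIdeal → SGA2.relCodim I p = 1 → (n : ℕ∞) ≤ LocCoh.depth (Localization.AtPrime p.asIdeal) (LocalizedModule p.asIdeal.primeCompl M)) := by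
  constructor
  · intro h p hp hc
    have h1 := h p hp
    rw [hc] at h1
    have h2 : (n : ℕ∞) < LocCoh.depth (Localization.AtPrime p.asIdeal)
        (LocalizedModule p.asIdeal.primeCompl M) + ((1 : ℕ) : ℕ∞) := by exact_mod_cast h1
    rw [Groth.Agent.Lib.Helper85.FLCrit.lt_depth_add_iff] at h2
    rw [Groth.Agent.Lib.Helper85.FLCrit.le_depth_iff]
    intro j hj
    exact h2 j (by omega)
  · intro h p hp
    rcases hc : SGA2.relCodim I p with _ | c
    · have : (LocCoh.depth (Localization.AtPrime p.asIdeal)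
          (LocalizedModule p.asIdeal.primeCompl M) + (⊤ : ℕ∞)) = ⊤ := add_top _
      change (n : ℕ∞) < LocCoh.depth (Localization.AtPrime p.asIdeal)
          (LocalizedModule p.asIdeal.primeCompl M) + (⊤ : ℕ∞)
      rw [this]
      exact ENat.natCast_lt_top n
    · change (n : ℕ∞) < LocCoh.depth (Localization.AtPrime p.asIdeal)
          (LocalizedModule p.asIdeal.primeCompl M) + ((c : ℕ) : ℕ∞)
      rw [Groth.Agent.Lib.Helper85.FLCrit.lt_depth_add_iff]
      intro j hj
      refine (Groth.Agent.Lib.Helper85.SGA2Codim.main_iff R A π hπ M I (j + c)).mpr ?_ p hp c j hc rfl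
      intro p' hp' hc' j' hj'
      have h1 := h p' hp' hc'
      rw [Groth.Agent.Lib.Helper85.FLCrit.le_depth_iff] at h1
      exact h1 j' (by omega)

end Groth.Agent.S5172
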