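import Groth.Statements.S8761
import Mathlib
import Groth.Agent.Lib.Helper86.Adeq2Transport

set_option autoImplicit false
universe u
open CategoryTheory Limits AlgebraicGeometry
open Adeq

namespace Groth.Agent.S8761

/-- The kernel, in the category of all `O`-modules on the big fppf site of `S`, of a morphism between
adequate `O`-modules is adequate. -/
theorem result (S : Scheme.{u}) {M N : BigSite.Mod Scheme.fppfPrecoverage S} (φ : M ⟶ N)
    (hM : Adeq.adequateMod Scheme.fppfPrecoverage S M) (hN : Adeq.adequateMod Scheme.fppfPrecoverage S N) :
    Adeq.adequateMod Scheme.fppfPrecoverage S (kernel φ) := by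
  exact Groth.Agent.Lib.Helper86.Adeq2Transport.adequateMod_kernel Scheme.fppfPrecoverage
    Scheme.zariskiPrecoverage_le_fppfPrecoverage φ hM hN

end Groth.Agent.S8761
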