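import Groth.Statements.S4917
import Groth.Agent.Lib.Helper73.DimFormula.OpenDim

set_option autoImplicit false
open CategoryTheory AlgebraicGeometry
universe u v w
open EGA43

namespace Groth.Agent.S4917

/-- Assume Y is a locally Noetherian scheme and X is an irreducible scheme, and consider a dominant
morphism f : X ⟶ Y that is locally of finite type. Fix a point x of X and write y = f x. If, for
every irreducible component of the fibre X_y that contains x, the morphism f is open at the generic
point of that component, then f is equidimensional at x. -/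
theorem result {X Y : Scheme.{u}} [IsLocallyNoetherian Y]
    [IrreducibleSpace X] (f : X ⟶ Y) [LocallyOfFiniteType f] [IsDominant f] (x : X)
    (h : ∀ z : ↥(f.fiber (f.base x)), f.asFiber x ∈ closure {z} →
      (∀ z' : ↥(f.fiber (f.base x)), z ∈ closure {z'} → z' = z) →
      EGA43.IsOpenAt f.base ((f.fiberι (f.base x)).base z)) :
    EGA43.IsEquidimAt f x := by
  open Groth.Agent.Lib.Helper73 in
  let ξ : X := genericPoint X
  have hgen : ∀ t : X, ξ ⤳ t := fun t => genericPoint_specializes t
  have hfξgen : ∀ t : Y, f ξ ⤳ t := by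
    intro t
    rw [specializes_iff_mem_closure]
    have hd : Dense (Set.range f) := f.denseRange
    have hsub : Set.range f ⊆ closure {f ξ} := by
      rintro _ ⟨t', rfl⟩
      exact specializes_iff_mem_closure.mp ((hgen t').map f.continuous)
    have : closure (Set.range f) ⊆ closure {f ξ} := closure_minimal hsub isClosed_closure
    exact this (hd t)
  have hfξmax : ∀ t : Y, t ⤳ f ξ → t = f ξ := fun t ht => (ht.antisymm (hfξgen t)).eq
  rw [isEquidimAt_iff_of_generic f ξ hgen x]
  refine ⟨hfξmax, ?_⟩
  apply fibreDimAt_le_of_forall_generization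
  intro η' hη'x hfη'
  obtain ⟨ζ, hζη', hfζ, hζmax⟩ := exists_maximal_fiber_specializes f η'
  have h1 := resTrdegNat_le_of_specializes_fiber f η' ζ hζη' hfζ
  have hopen := isOpenAt_of_fiber_hyp f x h ζ (hζη'.trans hη'x) (hfζ.trans hfη') hζmax
  obtain ⟨ξ', hξ'ζ, -, hξ'max, hr, -⟩ :=
    exists_maximal_generization_of_isOpenAt f ζ hζmax hopen (f ξ) (hfξgen _) hfξmax
  have : ξ = ξ' := hξ'max ξ (hgen ξ')
  rw [← this] at hr
  omega

end Groth.Agent.S4917
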