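import Groth.Statements.S4974
import Groth.Agent.Lib.Helper87.HensSection

set_option autoImplicit false
open CategoryTheory AlgebraicGeometry
universe u v w
open EGA43

namespace Groth.Agent.S4974

/-- Consider a complete Noetherian local domain A and put Y = Spec A. Suppose f : X ⟶ Y is locally of
finite type, and take a point x ∈ X mapping to the closed point of Y, where f is equidimensional at
x and x is closed in the fibre containing it. Then one can find a local domain A' that contains A
and is finite as an A-algebra, together with a Y-morphism h : Spec A' ⟶ X that is an immersion and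
has x in its image. -/
theorem result {A : Type u} [CommRing A] [IsDomain A]
    [IsNoetherianRing A] [IsLocalRing A] [IsAdicComplete (IsLocalRing.maximalIdeal A) A] {X : Scheme.{u}}
    (f : X ⟶ Spec (CommRingCat.of A)) [LocallyOfFiniteType f] (x : X) (hx : f.base x = IsLocalRing.closedPoint A)
    (hf : EGA43.IsEquidimAt f x) (hcl : ∀ x' : X, f.base x' = f.base x → x ⤳ x' → x' = x) :
    ∃ (A' : Type u) (_ : CommRing A') (_ : IsDomain A') (_ : IsLocalRing A') (_ : Algebra A A') (_ : Module.Finite A A'),
      Function.Injective (algebraMap A A') ∧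
      ∃ h : Spec (CommRingCat.of A') ⟶ X, h ≫ f = Spec.map (CommRingCat.ofHom (algebraMap A A')) ∧
        IsImmersion h ∧ x ∈ Set.range h.base := by
  have hH : HenselianRing A (IsLocalRing.maximalIdeal A) := inferInstance
  have : HenselianLocalRing A :=
    { is_henselian := fun f hf a₀ h1 h2 => hH.is_henselian f hf a₀ h1 (h2.map _) }
  obtain ⟨T, i, hi, hirr, hred, ⟨t, htx⟩, hlft, hqf, hqc, hdom⟩ :=
    Groth.Agent.S4944.result f x hf hcl
  have ht : (i ≫ f).base t = IsLocalRing.closedPoint A := by
    rw [Scheme.Hom.comp_apply, htx, hx]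
  obtain ⟨A', i1, i2, i3, i4, i5, hinj, h, hh, hoi, a, ha⟩ :=
    Groth.Agent.Lib.Helper87.HensSection.exists_finite_local_domain (i ≫ f) t ht
  refine ⟨A', i1, i2, i3, i4, i5, hinj, h ≫ i, ?_, inferInstance, ⟨a, ?_⟩⟩
  · rw [Category.assoc, hh]
  · rw [Scheme.Hom.comp_apply, ha, htx]

end Groth.Agent.S4974
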