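import Groth.Statements.S11075
-- import your own Groth.Agent.* helpers here
import Groth.Agent.Lib.Helper88.FunFldZeros
import Mathlib.Tactic.Ring
import Mathlib.Tactic.FieldSimp

set_option autoImplicit false
open FunFld

namespace Groth.Agent.S11075

section aux

open Groth.Agent.Lib.Helper88.FF WithZero

variable {k K : Type*} [Field k] [Field K] [Algebra k K]

lemma aeval_scale {n : ℕ} (g : MvPolynomial (Fin (n + 1)) k) {N : ℕ} (hg : g.IsHomogeneous N)
    (x : Fin (n + 1) → K) (c : K) :
    MvPolynomial.aeval (fun i => c * x i) g = c ^ N * MvPolynomial.aeval x g := by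
  rw [MvPolynomial.aeval_def, MvPolynomial.aeval_def, MvPolynomial.eval₂_eq',
    MvPolynomial.eval₂_eq', Finset.mul_sum]
  refine Finset.sum_congr rfl fun d hd => ?_
  have hdeg : ∑ i, d i = N := by
    rw [← Finsupp.degree_eq_sum, Finsupp.degree_eq_weight_one]
    exact hg (MvPolynomial.mem_support_iff.1 hd)
  simp_rw [mul_pow]
  rw [Finset.prod_mul_distrib, Finset.prod_pow_eq_pow_sum, hdeg]
  ring

lemma finite_lt_one (hK : IsFunctionField k K) {x : K} (hx : x ≠ 0) :
    {P : Place k K | P.1 x < 1}.Finite := by
  refine (finite_support_ord hK x).subset ?_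
  intro P hP
  rw [Function.mem_support]
  have := (val_lt_one_iff P hx).1 hP
  omega

end aux

/-- Over an algebraically closed constant field, let `φ = (φ₀, …, φₙ)`, `n ≥ 1`, be a projective map
onto the curve `V`. (a) A homogeneous `g` not vanishing identically on `V` vanishes at the image
point of only finitely many places (so a closed set not containing `V` meets `V` in a finite set);
(b) each fibre of `φ` is finite. Here `g` vanishes at `φ(P)` when `g(φ₀/φⱼ, …, φₙ/φⱼ)` lies in the
maximal ideal of `P` for an entry `φⱼ` of least order at `P`. Two places have the same image point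
when some entry `φⱼ` has least order at both and each `φᵢ/φⱼ` is congruent to one constant modulo
both maximal ideals. -/
theorem result (k K : Type*) [Field k] [IsAlgClosed k] [Field K] [Algebra k K]
    (hK : FunFld.IsFunctionField k K) {n : ℕ} (hn : 1 ≤ n)
    (φ : Fin (n + 1) → K) (hφ : LinearIndependent k φ) :
    (∀ g : MvPolynomial (Fin (n + 1)) k, g.IsHomogeneous g.totalDegree →
      MvPolynomial.aeval φ g ≠ 0 →
        {P : FunFld.Place k K | ∃ j, φ j ≠ 0 ∧ (∀ i, P.1 (φ i) ≤ P.1 (φ j)) ∧
          P.1 (MvPolynomial.aeval (fun i => φ i / φ j) g) < 1}.Finite) ∧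
    ∀ P : FunFld.Place k K, {Q : FunFld.Place k K | FunFld.SameImage φ P Q}.Finite := by
  classical
  constructor
  · intro g hg hne
    have hsub : {P : FunFld.Place k K | ∃ j, φ j ≠ 0 ∧ (∀ i, P.1 (φ i) ≤ P.1 (φ j)) ∧
          P.1 (MvPolynomial.aeval (fun i => φ i / φ j) g) < 1} ⊆
        ⋃ j : Fin (n + 1), {P : FunFld.Place k K | φ j ≠ 0 ∧
          P.1 (MvPolynomial.aeval (fun i => φ i / φ j) g) < 1} := by
      rintro P ⟨j, hj, -, hP⟩
      exact Set.mem_iUnion.2 ⟨j, hj, hP⟩
    refine (Set.finite_iUnion fun j => ?_).subset hsub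
    by_cases hj : φ j = 0
    · refine Set.Finite.subset Set.finite_empty ?_
      rintro P ⟨h, -⟩
      exact (h hj).elim
    · have h1 : MvPolynomial.aeval (fun i => φ i / φ j) g =
          (φ j)⁻¹ ^ g.totalDegree * MvPolynomial.aeval φ g := by
        have := aeval_scale g hg φ (φ j)⁻¹
        simp only [div_eq_inv_mul]
        exact this
      have h2 : MvPolynomial.aeval (fun i => φ i / φ j) g ≠ 0 := by
        rw [h1]
        exact mul_ne_zero (pow_ne_zero _ (inv_ne_zero hj)) hne
      refine (finite_lt_one hK h2).subset ?_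
      rintro P ⟨-, hP⟩
      exact hP
  · intro P
    have hsub : {Q : FunFld.Place k K | FunFld.SameImage φ P Q} ⊆
        ⋃ j : Fin (n + 1), {Q : FunFld.Place k K | φ j ≠ 0 ∧ ∀ i, ∃ c : k,
          P.1 (φ i / φ j - algebraMap k K c) < 1 ∧ Q.1 (φ i / φ j - algebraMap k K c) < 1} := by
      rintro Q ⟨j, hj, -, -, hQ⟩
      exact Set.mem_iUnion.2 ⟨j, hj, hQ⟩
    refine (Set.finite_iUnion fun j => ?_).subset hsub
    by_cases hj : φ j = 0
    · refine Set.Finite.subset Set.finite_empty ?_
      rintro Q ⟨h, -⟩
      exact (h hj).elim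
    · obtain ⟨i, hij⟩ : ∃ i, i ≠ j := by
        have : Nontrivial (Fin (n + 1)) := Fin.nontrivial_iff_two_le.2 (by omega)
        exact exists_ne j
      have hr : ∀ c : k, φ i / φ j - algebraMap k K c ≠ 0 := by
        intro c h
        have h3 : φ i = c • φ j := by
          rw [sub_eq_zero] at h
          rw [Algebra.smul_def, ← h]
          field_simp
        have h4 := hφ.notMem_span_image (s := {j}) (x := i) (by simpa using hij)
        apply h4
        rw [Set.image_singleton, h3]
        exact Submodule.smul_mem _ _ (Submodule.subset_span rfl)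
      by_cases hc : ∃ c : k, P.1 (φ i / φ j - algebraMap k K c) < 1
      · obtain ⟨c0, hc0⟩ := hc
        refine (finite_lt_one hK (hr c0)).subset ?_
        rintro Q ⟨-, hQ⟩
        obtain ⟨c, hPc, hQc⟩ := hQ i
        have hcc : c = c0 := by
          by_contra hne
          have h1 : P.1 (algebraMap k K (c0 - c)) = 1 :=
            Groth.Agent.Lib.Helper88.FF.val_algebraMap P (sub_ne_zero.2 (Ne.symm hne))
          have h2 : algebraMap k K (c0 - c) =
              (φ i / φ j - algebraMap k K c) - (φ i / φ j - algebraMap k K c0) := by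
            rw [map_sub]; ring
          rw [h2] at h1
          have h5 := (P.1.map_sub _ _).trans_lt (max_lt hPc hc0)
          rw [h1] at h5
          exact lt_irrefl _ h5
        subst hcc
        exact hQc
      · refine Set.Finite.subset Set.finite_empty ?_
        rintro Q ⟨-, hQ⟩
        obtain ⟨c, hPc, -⟩ := hQ i
        exact (hc ⟨c, hPc⟩).elim

end Groth.Agent.S11075
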