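import Groth.Statements.S1784
import Groth.Agent.Lib.Helper89.Lau5

set_option autoImplicit false
universe u
open CategoryTheory
attribute [local instance] HasDerivedCategory.standard
open Dual2

namespace Groth.Agent.S1784

/-- Let R → A be a finite homomorphism of Noetherian rings, where φ^!(K) is formed from a presentation ψ
: R[x_1, …, x_n] → A as RHom_P(A, K ⊗^L_R P)[n], assuming the derived base change to P exists and
taking for RHom_P(A, −) a right adjoint of restriction of scalars along ψ. If R' : D(R) → D(A) is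
right adjoint to restriction of scalars along R → A (so R' computes RHom(A, −)), then φ^!(K) ≅ R'(K)
for every K in D(R). -/
theorem result (R A : Type u) [CommRing R] [CommRing A] [IsNoetherianRing R] [IsNoetherianRing A] [Algebra R A] (n : ℕ) (ψ : MvPolynomial (Fin n) R →ₐ[R] A) (hψ : Function.Surjective ψ) [DRing.HasLBaseChange (algebraMap R (MvPolynomial (Fin n) R))] (Rψ : Dual.D (MvPolynomial (Fin n) R) ⥤ Dual.D A) (adj : DRing.restrictD ψ.toRingHom ⊣ Rψ) [Module.Finite R A] (R' : Dual.D R ⥤ Dual.D A) (adjR : DRing.restrictD (algebraMap R A) ⊣ R') (K : Dual.D R) : Nonempty (Dual2.shriekVia n Rψ K ≅ R'.obj K) := by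
  open Groth.Agent.Lib.Helper89 in
  have hC : algebraMap R A = ψ.toRingHom.comp (MvPolynomial.C : R →+* MvPolynomial (Fin n) R) := by
    ext r
    rw [RingHom.comp_apply]
    exact (ψ.commutes r).symm
  haveI : Algebra.IsIntegral R A := Algebra.IsIntegral.of_finite R A
  obtain ⟨e1⟩ := Lau5.multi_finite (Fin n) R A ψ.toRingHom
    (fun j => by
      rw [← hC]
      exact Algebra.IsIntegral.isIntegral (R := R) (ψ (MvPolynomial.X j)))
    Rψ adj (algebraMap R A) hC R' adjR K
  rw [Nat.card_fin] at e1
  have e2 : (DRing.LBaseChange (algebraMap R (MvPolynomial (Fin n) R))).obj K ≅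
      (DRing.LBaseChange (MvPolynomial.C : R →+* MvPolynomial (Fin n) R)).obj K :=
    (Groth.Agent.Lib.Helper15.LBCFlat.lbcOfEq (MvPolynomial.algebraMap_eq R (Fin n))).app K
  exact ⟨(shiftFunctor (Dual.D A) (n : ℤ)).mapIso (Rψ.mapIso e2) ≪≫ e1⟩

end Groth.Agent.S1784
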