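import Groth.Statements.S6707


set_option autoImplicit false
universe w v u
open CategoryTheory
open DEquiv

namespace Groth.Agent.S6707

section Helpers

lemma epi_of_sq {C : Type*} [Category C] {W X Y Z : C} (f : W ⟶ X) (i : X ⟶ Z) (j : W ⟶ Y)
    (g : Y ⟶ Z) (h : f ≫ i = j ≫ g) (hi : IsIso i) (hj : IsIso j) (hg : Epi g) : Epi f := by
  have h1 : f = (j ≫ g) ≫ inv i := by rw [← h, Category.assoc, IsIso.hom_inv_id, Category.comp_id]
  rw [h1]
  infer_instance

end Helpers

open CategoryTheory.Limits in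
/-- Let A be an abelian category in which every object X is the target of an epimorphism N ⟶ X with
Hom(X, N) = 0. Let f : X ⟶ X' be a morphism between bounded objects of D(A) and b an integer with
H^i(X) = 0 for i > b and H^i(X') = 0 for i ≥ b. Then there exist an object N of A and a morphism
N⟦-b⟧ ⟶ X (N placed in degree b) inducing an epimorphism N ⟶ H^b(X), with Hom(H^b(X), N) = 0, and
whose composite with f is zero. -/
theorem result
    {A : Type u} [Category.{v} A] [Abelian A] [HasDerivedCategory.{w} A]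
    (hneg : ∀ X : A, ∃ (N : A) (p : N ⟶ X), Epi p ∧ ∀ f : X ⟶ N, f = 0)
    (X X' : DerivedCategory A) (f : X ⟶ X') (a b a' : ℤ) [X.IsGE a] [X.IsLE b] [X'.IsGE a']
    [X'.IsLE (b - 1)] :
    ∃ (N : A) (g : (DerivedCategory.singleFunctor A b).obj N ⟶ X),
      Epi ((DerivedCategory.homologyFunctor A b).map g) ∧
        (∀ φ : (DerivedCategory.homologyFunctor A b).obj X ⟶ N, φ = 0) ∧ g ≫ f = 0 := by
  classical
  obtain ⟨K, hK, ⟨e⟩⟩ := X.exists_iso_Q_obj_of_isLE b
  obtain ⟨K', hK', ⟨e'⟩⟩ := X'.exists_iso_Q_obj_of_isLE (b - 1)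
  obtain ⟨Y, hY, s, hs, g', fac⟩ :=
    DerivedCategory.right_fac_of_isStrictlyLE (e.inv ≫ f ≫ e'.hom) b
  obtain ⟨N, p, hp, hN⟩ := hneg (Y.X b)
  -- the chain map from `N` in degree `b` to `Y`
  let γ : (HomologicalComplex.single A (ComplexShape.up ℤ) b).obj N ⟶ Y :=
    HomologicalComplex.mkHomFromSingle p (fun k _ =>
      (CochainComplex.isZero_of_isStrictlyLE Y b k (by
        have : b + 1 = k := by simpa using ‹(ComplexShape.up ℤ).Rel b k›
        lia)).eq_of_tgt _ _)
  have hγ : γ.f b = (HomologicalComplex.singleObjXSelf (ComplexShape.up ℤ) b N).hom ≫ p :=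
    HomologicalComplex.mkHomFromSingle_f _ _
  have hγg : γ ≫ g' = 0 := by
    apply HomologicalComplex.from_single_hom_ext
    exact (CochainComplex.isZero_of_isStrictlyLE K' (b - 1) b).eq_of_tgt _ _
  -- `Y.X b ⟶ H^b(Y)` is an epimorphism
  have hdY : Y.d b (b + 1) = 0 :=
    (CochainComplex.isZero_of_isStrictlyLE Y b (b + 1)).eq_of_tgt _ _
  have hiso : IsIso (Y.iCycles b) := Y.isIso_iCycles b (b + 1) (by simp) hdY
  have hse : IsIso (DerivedCategory.Q.map s ≫ e.inv) := inferInstance
  obtain ⟨t, ht⟩ : ∃ t : DerivedCategory.Q.obj Y ⟶ X, t = DerivedCategory.Q.map s ≫ e.inv :=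
    ⟨_, rfl⟩
  rw [← ht] at hse
  obtain ⟨ι, hι⟩ : ∃ ι : Y.homology b ⟶
      (DerivedCategory.homologyFunctor A b).obj (DerivedCategory.Q.obj Y), IsIso ι :=
    ⟨_, (inferInstance : IsIso ((DerivedCategory.homologyFunctorFactors A b).app Y).inv)⟩
  let π : Y.X b ⟶ (DerivedCategory.homologyFunctor A b).obj X :=
    inv (Y.iCycles b) ≫ Y.homologyπ b ≫ ι ≫ (DerivedCategory.homologyFunctor A b).map t
  have hπ : Epi π :=
    epi_comp' inferInstance (epi_comp' inferInstance (epi_comp' inferInstance inferInstance))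
  obtain ⟨g₀, hg₀⟩ : ∃ g₀ : (DerivedCategory.singleFunctor A b).obj N ⟶ DerivedCategory.Q.obj Y,
    g₀ = DerivedCategory.Q.map γ := ⟨_, rfl⟩
  refine ⟨N, g₀ ≫ t, ?_, ?_, ?_⟩
  · -- `H^b(γ)` is an epimorphism
    have hc : Epi (HomologicalComplex.cyclesMap γ b) := by
      have h3 : HomologicalComplex.cyclesMap γ b ≫ Y.iCycles b =
          ((HomologicalComplex.single A (ComplexShape.up ℤ) b).obj N).iCycles b ≫ γ.f b :=
        HomologicalComplex.cyclesMap_i γ b
      have h4 : IsIso (((HomologicalComplex.single A (ComplexShape.up ℤ) b).obj N).iCycles b) :=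
        HomologicalComplex.isIso_iCycles _ b (b + 1) (by simp) (by simp)
      have h5 : Epi (γ.f b) := by rw [hγ]; infer_instance
      have h6 : Epi (HomologicalComplex.cyclesMap γ b ≫ Y.iCycles b) := by
        rw [h3]; infer_instance
      have h7 : HomologicalComplex.cyclesMap γ b =
          (HomologicalComplex.cyclesMap γ b ≫ Y.iCycles b) ≫ inv (Y.iCycles b) := by
        rw [Category.assoc, IsIso.hom_inv_id, Category.comp_id]
      rw [h7]
      infer_instance
    have hh : Epi (HomologicalComplex.homologyMap γ b) := by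
      have h3 := HomologicalComplex.homologyπ_naturality γ b
      have h4 : Epi (HomologicalComplex.cyclesMap γ b ≫ Y.homologyπ b) := inferInstance
      rw [← h3] at h4
      exact epi_of_epi (HomologicalComplex.homologyπ _ b) (HomologicalComplex.homologyMap γ b)
    have hQ : Epi ((DerivedCategory.homologyFunctor A b).map g₀) := by
      have h3 := DerivedCategory.homologyFunctorFactors_hom_naturality γ b
      rw [← hg₀] at h3
      exact epi_of_sq _ _ _ _ h3
        (inferInstance : IsIso ((DerivedCategory.homologyFunctorFactors A b).app _).hom)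
        (inferInstance : IsIso ((DerivedCategory.homologyFunctorFactors A b).app _).hom) hh
    rw [Functor.map_comp]
    infer_instance
  · intro φ
    rw [← cancel_epi π, hN (π ≫ φ), Limits.comp_zero]
  · have h1 : t ≫ f = DerivedCategory.Q.map g' ≫ e'.inv := by
      rw [← cancel_mono e'.hom, ht, Category.assoc, Category.assoc, fac]
      simp
    have h2 : g₀ ≫ DerivedCategory.Q.map g' = 0 := by
      rw [hg₀]
      exact (Functor.map_comp _ _ _).symm.trans
        ((congrArg (fun z => DerivedCategory.Q.map z) hγg).trans (Functor.map_zero _ _ _))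
    rw [Category.assoc, h1, reassoc_of% h2]
    simp

end Groth.Agent.S6707
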