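import Groth.Statements.S1971
-- import your own Groth.Agent.* helpers here
import Groth.Agent.S0527
import Groth.Agent.S0528
import Mathlib.RingTheory.Spectrum.Prime.Topology
import Mathlib.RingTheory.Ideal.Operations

set_option autoImplicit false
universe u
open EtAlg

namespace Groth.Agent.S1971

/-- Henselian-ness along an ideal only depends on its radical. -/
theorem hens_radical (A : Type u) [CommRing A] (I : Ideal A) :
    HenselianRing A I ↔ HenselianRing A I.radical := by
  have h1 := Groth.Agent.S0528.result A I I.radical Ideal.le_radical
  have h2 : HenselianRing (A ⧸ I) (Ideal.map (Ideal.Quotient.mk I) I.radical) := by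
    apply Groth.Agent.S0527.result
    intro x hx
    obtain ⟨y, hy, rfl⟩ :=
      (Ideal.mem_map_iff_of_surjective _ Ideal.Quotient.mk_surjective).mp hx
    obtain ⟨n, hn⟩ := hy
    refine ⟨n, ?_⟩
    rw [← map_pow]
    exact Ideal.Quotient.eq_zero_iff_mem.mpr hn
  constructor
  · intro h
    exact h1.mpr ⟨h, h2⟩
  · intro h
    exact (h1.mp h).1

theorem hens_of_radical_eq (A : Type u) [CommRing A] (I J : Ideal A) (h : I.radical = J.radical) :
    HenselianRing A I ↔ HenselianRing A J := by
  rw [hens_radical A I, hens_radical A J, h]

theorem radical_map_eq {A B : Type u} [CommRing A] [CommRing B] (f : A →+* B) (I J : Ideal A)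
    (h : I.radical = J.radical) : (I.map f).radical = (J.map f).radical := by
  have key : ∀ I J : Ideal A, I.radical = J.radical → (I.map f).radical ≤ (J.map f).radical := by
    intro I J h
    rw [Ideal.radical_le_radical_iff]
    calc I.map f ≤ (I.radical).map f := Ideal.map_mono Ideal.le_radical
      _ = (J.radical).map f := by rw [h]
      _ ≤ (J.map f).radical := Ideal.map_radical_le f
  exact le_antisymm (key I J h) (key J I h.symm)

theorem one_dir (A : Type u) [CommRing A] (I J : Ideal A) (h : I.radical = J.radical)
    (B : Type u) [CommRing B] [Algebra A B] (hB : Hens2.IsPairHenselization A I B) :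
    Hens2.IsPairHenselization A J B := by
  obtain ⟨h1, h2⟩ := hB
  refine ⟨?_, ?_⟩
  · exact (hens_of_radical_eq B _ _ (radical_map_eq (algebraMap A B) I J h)).mp h1
  · intro C _ J' f hC hJ
    have hC' : HenselianRing C J'.radical := (hens_radical C J').mp hC
    apply h2 C J'.radical f hC'
    calc I.map f ≤ (I.map f).radical := Ideal.le_radical
      _ = (J.map f).radical := radical_map_eq f I J h
      _ ≤ J'.radical := Ideal.radical_mono hJ

/-- Let A be a ring with ideals I and J having the same zero locus in Spec A. Then an A-algebra is a
henselization of the pair (A, I) if and only if it is a henselization of the pair (A, J). -/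
theorem result (A : Type u) [CommRing A] (I J : Ideal A)
    (h : PrimeSpectrum.zeroLocus (I : Set A) = PrimeSpectrum.zeroLocus (J : Set A)) (B : Type u) [CommRing B] [Algebra A B] :
    Hens2.IsPairHenselization A I B ↔ Hens2.IsPairHenselization A J B := by
  have hrad : I.radical = J.radical := by
    have := congrArg PrimeSpectrum.vanishingIdeal h
    rwa [PrimeSpectrum.vanishingIdeal_zeroLocus_eq_radical,
      PrimeSpectrum.vanishingIdeal_zeroLocus_eq_radical] at this
  exact ⟨one_dir A I J hrad B, one_dir A J I hrad.symm B⟩

end Groth.Agent.S1971
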