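import Groth.Statements.S7140
import Mathlib.RingTheory.Polynomial.Cyclotomic.Roots
import Mathlib.RingTheory.RootsOfUnity.Lemmas
import Mathlib.NumberTheory.Wilson
import Mathlib.Algebra.Ring.GeomSum
import Mathlib.Data.Nat.Choose.Dvd

set_option autoImplicit false
universe u
open EtAlg

set_option linter.unusedSectionVars false

namespace Groth.Agent.S7140Aux
open Polynomial Finset

variable (p : ℕ) [hp : Fact p.Prime]

abbrev O := AdjoinRoot (cyclotomic p ℤ)

instance : IsDomain (O p) :=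
  AdjoinRoot.isDomain_of_prime (cyclotomic.irreducible hp.out.pos).prime

noncomputable def ζ₀ : O p := AdjoinRoot.root _
noncomputable def w₀ : O p := 1 - ζ₀ p
noncomputable def g (k : ℕ) : O p := ∑ j ∈ range k, ζ₀ p ^ j
noncomputable def u : O p := ∏ k ∈ range (p - 1), g p (k + 1)

lemma natCast_p_ne_zero : ((p : ℕ) : O p) ≠ 0 := by
  intro h
  have h1 : (AdjoinRoot.mk (cyclotomic p ℤ)) (C (p : ℤ)) = 0 := by
    rw [← h]; simp
  rw [AdjoinRoot.mk_eq_zero] at h1
  have hmon : (cyclotomic p ℤ).Monic := cyclotomic.monic p ℤ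
  refine hmon.not_dvd_of_natDegree_lt ?_ ?_ h1
  · simpa using hp.out.ne_zero
  · rw [natDegree_C, natDegree_cyclotomic, Nat.totient_prime hp.out]
    have := hp.out.two_le; omega

instance : NeZero ((p : ℕ) : O p) := ⟨natCast_p_ne_zero p⟩

lemma prim : IsPrimitiveRoot (ζ₀ p) p := by
  rw [← isRoot_cyclotomic_iff]
  have h : cyclotomic p (O p) = (cyclotomic p ℤ).map (Int.castRingHom (O p)) :=
    (map_cyclotomic_int p (O p)).symm
  rw [IsRoot.def, h, eval_map]
  exact AdjoinRoot.eval₂_root _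

lemma one_sub_pow (k : ℕ) : 1 - ζ₀ p ^ k = w₀ p * g p k := by
  unfold w₀ g
  rw [mul_neg_geom_sum]

lemma p_eq : ((p : ℕ) : O p) = w₀ p ^ (p - 1) * u p := by
  have hp1 : (p - 1) + 1 = p := by have := hp.out.two_le; omega
  have h : IsPrimitiveRoot (ζ₀ p) ((p - 1) + 1) := by rw [hp1]; exact prim p
  have h2 := h.prod_one_sub_pow_eq_order
  simp only [one_sub_pow] at h2
  rw [prod_mul_distrib, prod_const, card_range] at h2
  unfold u
  rw [h2]
  have : ((p : ℕ) : O p) = (((p - 1 : ℕ) : O p) + 1) := by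
    rw [← Nat.cast_succ, Nat.succ_eq_add_one, hp1]
  exact this

lemma w₀_ne_zero : w₀ p ≠ 0 := by
  unfold w₀
  rw [sub_ne_zero]
  exact ((prim p).ne_one hp.out.one_lt).symm


lemma p_mem : ((p : ℕ) : O p) ∈ Ideal.span {w₀ p} := by
  rw [p_eq, Ideal.mem_span_singleton]
  have hp1 : p - 1 = (p - 2) + 1 := by have := hp.out.two_le; omega
  rw [hp1, pow_succ]
  exact ⟨w₀ p ^ (p - 2) * u p, by ring⟩

lemma u_add_one_mem : u p + 1 ∈ Ideal.span {w₀ p} := by
  set I := Ideal.span {w₀ p} with hI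
  rw [← Ideal.Quotient.eq_zero_iff_mem]
  have hζ : Ideal.Quotient.mk I (ζ₀ p) = 1 := by
    have h : Ideal.Quotient.mk I (1 - ζ₀ p) = 0 := by
      rw [Ideal.Quotient.eq_zero_iff_mem]
      exact Ideal.subset_span rfl
    rw [map_sub, map_one, sub_eq_zero] at h
    exact h.symm
  have hg : ∀ k : ℕ, Ideal.Quotient.mk I (g p k) = (k : O p ⧸ I) := by
    intro k
    unfold g
    rw [map_sum]
    simp [hζ]
  have hu : Ideal.Quotient.mk I (u p) = (((p - 1).factorial : ℕ) : O p ⧸ I) := by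
    unfold u
    rw [map_prod, ← Finset.prod_range_add_one_eq_factorial]
    push_cast
    exact Finset.prod_congr rfl fun k _ => by rw [hg]; push_cast; rfl
  have hw : (p : ℕ) ∣ (p - 1).factorial + 1 := by
    rw [← ZMod.natCast_eq_zero_iff]
    push_cast
    rw [ZMod.wilsons_lemma]; ring
  obtain ⟨c, hc⟩ := hw
  have hpz : Ideal.Quotient.mk I ((p : ℕ) : O p) = 0 := by
    rw [Ideal.Quotient.eq_zero_iff_mem]; exact p_mem p
  rw [map_add, map_one, hu]
  have : ((((p - 1).factorial : ℕ) : O p ⧸ I) + 1) = (((p - 1).factorial + 1 : ℕ) : O p ⧸ I) := by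
    push_cast; rfl
  rw [this, hc]
  push_cast
  rw [map_natCast] at hpz
  rw [hpz, zero_mul]


/-- coefficients -/
noncomputable def a₀ (i : ℕ) : O p :=
  if 0 < i ∧ i < p then w₀ p ^ (i - 1) * u p * ((p.choose i / p : ℕ) : O p) + (if i = 1 then 1 else 0)
  else 0

noncomputable def P₀ : (O p)[X] :=
  X ^ p - X + ∑ i ∈ Ioo 0 p, C (a₀ p i) * X ^ i

lemma a₀_mem (i : ℕ) : a₀ p i ∈ Ideal.span {w₀ p} := by
  unfold a₀
  split_ifs with h1 h2
  · subst h2
    have hc : p.choose 1 / p = 1 := by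
      rw [Nat.choose_one_right]; exact Nat.div_self hp.out.pos
    rw [hc]
    simpa using u_add_one_mem p
  · rw [add_zero, Ideal.mem_span_singleton]
    have : i - 1 = (i - 2) + 1 := by omega
    rw [this, pow_succ]
    exact ⟨w₀ p ^ (i - 2) * u p * ((p.choose i / p : ℕ) : O p), by ring⟩
  · exact Ideal.zero_mem _

lemma w_pow_mul_a₀ (i : ℕ) (hi : i ∈ Ioo 0 p) :
    w₀ p ^ p * a₀ p i = w₀ p ^ i * ((p.choose i : ℕ) : O p) + (if i = 1 then w₀ p ^ p else 0) := by
  rw [mem_Ioo] at hi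
  unfold a₀
  rw [if_pos hi]
  have hdvd : p ∣ p.choose i := Nat.Prime.dvd_choose_self hp.out (by omega) hi.2
  have hc : ((p.choose i : ℕ) : O p) = ((p : ℕ) : O p) * ((p.choose i / p : ℕ) : O p) := by
    rw [← Nat.cast_mul, Nat.mul_div_cancel' hdvd]
  rw [hc, p_eq]
  have hpi : w₀ p ^ p * w₀ p ^ (i - 1) = w₀ p ^ i * w₀ p ^ (p - 1) := by
    rw [← pow_add, ← pow_add]; congr 1; omega
  rw [mul_add, ← mul_assoc, ← mul_assoc, hpi]
  split_ifs <;> ring

lemma range_eq : range (p + 1) = insert 0 (insert p (Ioo 0 p)) := by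
  ext i
  simp only [mem_range, mem_insert, mem_Ioo]
  have := hp.out.two_le
  omega

lemma P₀_spec : C (w₀ p ^ p) * P₀ p = (1 + C (w₀ p) * X) ^ p - 1 := by
  have h2 := hp.out.two_le
  have hR : (1 + C (w₀ p) * X : (O p)[X]) ^ p =
      ∑ i ∈ range (p + 1), C (w₀ p ^ i * ((p.choose i : ℕ) : O p)) * X ^ i := by
    rw [add_comm, add_pow]
    refine sum_congr rfl fun i _ => ?_
    rw [one_pow, mul_one, mul_pow, ← C_pow, C_mul]
    simp only [map_natCast]
    ring
  rw [hR, range_eq, sum_insert (by simp; omega), sum_insert (by simp)]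
  unfold P₀
  rw [mul_add, mul_sub, mul_sum]
  have h1 : ∀ i ∈ Ioo 0 p, C (w₀ p ^ p) * (C (a₀ p i) * X ^ i) =
      C (w₀ p ^ i * ((p.choose i : ℕ) : O p)) * X ^ i + (if i = 1 then C (w₀ p ^ p) * X else 0) := by
    intro i hi
    rw [← mul_assoc, ← C_mul, w_pow_mul_a₀ p i hi, C_add, add_mul]
    congr 1
    split_ifs with h
    · subst h; simp
    · simp
  rw [sum_congr rfl h1, sum_add_distrib, sum_ite_eq' (Ioo 0 p) 1, if_pos (by simp; omega)]
  simp only [pow_zero, Nat.choose_zero_right, Nat.cast_one, mul_one, C_1, Nat.choose_self]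
  ring


/-- evaluation of the spec identity at any point of any `O`-algebra given by a ring hom. -/
lemma eval_spec {S : Type*} [CommRing S] (ψ : O p →+* S) (z : S) :
    ψ (w₀ p) ^ p * (P₀ p).eval₂ ψ z = (1 + ψ (w₀ p) * z) ^ p - 1 := by
  have h := congrArg (Polynomial.eval₂ ψ z) (P₀_spec p)
  rw [eval₂_mul, eval₂_C, eval₂_sub, eval₂_pow, eval₂_add, eval₂_one, eval₂_mul, eval₂_C, eval₂_X,
    map_pow] at h
  exact h

/-- group law in the universal domain. -/
lemma univ_law :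
    let T := MvPolynomial (Fin 2) (O p)
    let cT : O p →+* T := MvPolynomial.C
    (P₀ p).eval₂ cT (MvPolynomial.X 0 + MvPolynomial.X 1 + cT (w₀ p) * MvPolynomial.X 0 * MvPolynomial.X 1) =
      (P₀ p).eval₂ cT (MvPolynomial.X 0) + (P₀ p).eval₂ cT (MvPolynomial.X 1) +
        cT (w₀ p) ^ p * (P₀ p).eval₂ cT (MvPolynomial.X 0) * (P₀ p).eval₂ cT (MvPolynomial.X 1) := by
  intro T cT
  have hW : cT (w₀ p) ^ p ≠ 0 := by
    apply pow_ne_zero
    intro h
    exact w₀_ne_zero p (MvPolynomial.C_injective (Fin 2) (O p) (by rw [h]; simp))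
  apply mul_left_cancel₀ hW
  have e1 := eval_spec p cT (MvPolynomial.X 0)
  have e2 := eval_spec p cT (MvPolynomial.X 1)
  have e3 := eval_spec p cT (MvPolynomial.X 0 + MvPolynomial.X 1 + cT (w₀ p) * MvPolynomial.X 0 * MvPolynomial.X 1)
  have hfac : (1 + cT (w₀ p) * (MvPolynomial.X 0 + MvPolynomial.X 1 + cT (w₀ p) * MvPolynomial.X 0 * MvPolynomial.X 1) : T) =
      (1 + cT (w₀ p) * MvPolynomial.X 0) * (1 + cT (w₀ p) * MvPolynomial.X 1) := by ring
  rw [hfac, mul_pow] at e3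
  rw [e3]
  have e1' : (1 + cT (w₀ p) * MvPolynomial.X 0 : T) ^ p = cT (w₀ p) ^ p * (P₀ p).eval₂ cT (MvPolynomial.X 0) + 1 := by
    rw [e1]; ring
  have e2' : (1 + cT (w₀ p) * MvPolynomial.X 1 : T) ^ p = cT (w₀ p) ^ p * (P₀ p).eval₂ cT (MvPolynomial.X 1) + 1 := by
    rw [e2]; ring
  rw [e1', e2']
  ring

lemma law {S : Type*} [CommRing S] (ψ : O p →+* S) (z₁ z₂ : S) :
    (P₀ p).eval₂ ψ (z₁ + z₂ + ψ (w₀ p) * z₁ * z₂) =
      (P₀ p).eval₂ ψ z₁ + (P₀ p).eval₂ ψ z₂ + ψ (w₀ p) ^ p * (P₀ p).eval₂ ψ z₁ * (P₀ p).eval₂ ψ z₂ := by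
  have h := univ_law p
  simp only at h
  let ev : MvPolynomial (Fin 2) (O p) →+* S := MvPolynomial.eval₂Hom ψ ![z₁, z₂]
  have hc : ev.comp (MvPolynomial.C : O p →+* MvPolynomial (Fin 2) (O p)) = ψ := by
    refine RingHom.ext fun x => ?_
    simp [ev]
  have h2 := congrArg ev h
  simp only [map_add, map_mul, map_pow, Polynomial.hom_eval₂, hc] at h2
  simpa [ev] using h2

end Groth.Agent.S7140Aux

namespace Groth.Agent.S7140

open Polynomial in
/-- Let p be a prime and A a ring with an element ζ satisfying 1 + ζ + ... + ζ^(p-1) = 0 (so that A is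
an algebra over the ring of integers of the p-th cyclotomic field); set w = 1 - ζ. Then the
polynomial ((1 + wz)^p - 1)/w^p makes sense in A[z]: there is P in A[z] with w^p·P = (1 + wz)^p - 1,
of the form z^p - z + Σ_{0<i<p} a_i z^i with all a_i in the ideal (w), and P(z₁ + z₂ + w z₁ z₂) =
P(z₁) + P(z₂) + w^p P(z₁)P(z₂) for all z₁, z₂ in any A-algebra. (The published statement asks only
for a primitive p-th root of unity; this row asks that ζ be a root of the p-th cyclotomic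
polynomial, the case its proof treats. With ζ only of multiplicative order p the published statement
fails, for example for ζ = (1, e^{2πi/p}) in ℂ × ℂ.) -/
theorem result (p : ℕ) (hp : p.Prime) (A : Type u) [CommRing A] (ζ : A)
    (hζ : aeval ζ (cyclotomic p ℤ) = 0) :
    ∃ P : A[X], C ((1 - ζ) ^ p) * P = (1 + C (1 - ζ) * X) ^ p - 1 ∧
      (∃ a : ℕ → A, (∀ i, a i ∈ Ideal.span {1 - ζ}) ∧
        P = X ^ p - X + (Finset.Ioo 0 p).sum (fun i => C (a i) * X ^ i)) ∧
      ∀ (S : Type u) [CommRing S] [Algebra A S] (z₁ z₂ : S),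
        aeval (z₁ + z₂ + algebraMap A S (1 - ζ) * z₁ * z₂) P =
          aeval z₁ P + aeval z₂ P + algebraMap A S ((1 - ζ) ^ p) * aeval z₁ P * aeval z₂ P := by
  have : Fact p.Prime := ⟨hp⟩
  have hζ' : (cyclotomic p ℤ).eval₂ (Int.castRingHom A) ζ = 0 := by
    rw [← hζ, Polynomial.aeval_def]; rfl
  let φ : Groth.Agent.S7140Aux.O p →+* A := AdjoinRoot.lift (Int.castRingHom A) ζ hζ'
  have hφζ : φ (Groth.Agent.S7140Aux.ζ₀ p) = ζ := AdjoinRoot.lift_root hζ'
  have hφw : φ (Groth.Agent.S7140Aux.w₀ p) = 1 - ζ := by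
    unfold Groth.Agent.S7140Aux.w₀
    rw [map_sub, map_one, hφζ]
  refine ⟨(Groth.Agent.S7140Aux.P₀ p).map φ, ?_, ⟨fun i => φ (Groth.Agent.S7140Aux.a₀ p i), ?_, ?_⟩, ?_⟩
  · have h := congrArg (Polynomial.map φ) (Groth.Agent.S7140Aux.P₀_spec p)
    simp only [Polynomial.map_mul, Polynomial.map_C, Polynomial.map_sub, Polynomial.map_pow,
      Polynomial.map_add, Polynomial.map_one, Polynomial.map_X, map_pow, hφw] at h
    rw [Polynomial.C_pow]
    exact h
  · intro i
    have := Groth.Agent.S7140Aux.a₀_mem p i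
    rw [Ideal.mem_span_singleton] at this ⊢
    rw [← hφw]
    exact map_dvd φ this
  · unfold Groth.Agent.S7140Aux.P₀
    simp only [Polynomial.map_add, Polynomial.map_sub, Polynomial.map_pow, Polynomial.map_X,
      Polynomial.map_sum, Polynomial.map_mul, Polynomial.map_C]
  · intro S _ _ z₁ z₂
    have h := Groth.Agent.S7140Aux.law p ((algebraMap A S).comp φ) z₁ z₂
    simp only [Polynomial.aeval_def, Polynomial.eval₂_map]
    rw [RingHom.comp_apply, hφw] at h
    rw [h, map_pow]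

end Groth.Agent.S7140
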