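import Mathlib
import Groth.Statements.S7157
import Groth.Agent.Lib.Helper9.DvrEisensteinApp

set_option autoImplicit false
universe u
open EtAlg

namespace Groth.Agent.S7157

/-- Let A be a discrete valuation ring, π a uniformizer, K its field of fractions, and suppose the
residue field of A has characteristic p > 0. For every n > 1 and every power q of p there is a
separable degree-q extension L/K that is totally ramified with respect to A and whose ring of
integers B (the integral closure of A in L) contains elements π_B, b, b' with π_B^q = π + πⁿ·b and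
π_B^q = π + π_B^(nq)·b' (π_B is then a uniformizer of B and the ramification index is q). -/
theorem result (p : ℕ) (hp : p.Prime) (A K : Type u)
    [CommRing A] [IsDomain A] [IsDiscreteValuationRing A] [Field K] [Algebra A K] [IsFractionRing A K]
    [CharP (IsLocalRing.ResidueField A) p] (π : A) (hπ : IsLocalRing.maximalIdeal A = Ideal.span {π})
    (n : ℕ) (hn : 1 < n) (k : ℕ) :
    ∃ (L : Type u) (_ : Field L) (_ : Algebra K L) (_ : Algebra A L) (_ : IsScalarTower A K L),
      Module.finrank K L = p ^ k ∧ Algebra.IsSeparable K L ∧ EtRam.IsTotallyRamified A (algebraMap A L) ∧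
      ∃ πB b b' : L, πB ∈ integralClosure A L ∧ b ∈ integralClosure A L ∧ b' ∈ integralClosure A L ∧
        πB ^ (p ^ k) = algebraMap A L π + algebraMap A L π ^ n * b ∧
        πB ^ (p ^ k) = algebraMap A L π + πB ^ (n * p ^ k) * b' := by
  classical
  have hπirr : Irreducible π := (IsDiscreteValuationRing.irreducible_iff_uniformizer π).2 hπ
  have hπm : π ∈ IsLocalRing.maximalIdeal A := by rw [hπ]; exact Ideal.mem_span_singleton_self π
  have hq0 : 0 < p ^ k := pow_pos hp.pos k
  have hn1 : n - 1 + 1 = n := by omega
  -- the Eisenstein polynomial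
  have hone : (1 : A) ∉ IsLocalRing.maximalIdeal A := fun h =>
    (IsLocalRing.maximalIdeal.isMaximal A).ne_top ((Ideal.eq_top_iff_one _).2 h)
  have hπsq : ∀ u : A, π * u ∈ IsLocalRing.maximalIdeal A ^ 2 → u ∈ IsLocalRing.maximalIdeal A := by
    intro u hu
    rw [hπ, Ideal.span_singleton_pow] at hu
    obtain ⟨c, hc⟩ := Ideal.mem_span_singleton'.1 hu
    have h1 : π * u = π * (c * π) := by rw [← hc]; ring
    have h2 : u = c * π := mul_left_cancel₀ hπirr.ne_zero h1
    rw [h2]
    exact Ideal.mul_mem_left _ _ hπm
  obtain ⟨f, hmon, hE, hdegq, hsep, b₀, hb₀⟩ : ∃ f : Polynomial A, f.Monic ∧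
      f.IsEisensteinAt (IsLocalRing.maximalIdeal A) ∧ f.natDegree = p ^ k ∧
      (f.map (algebraMap A K)).Separable ∧ ∃ b₀ : AdjoinRoot f,
        AdjoinRoot.root f ^ (p ^ k) = AdjoinRoot.of f π + AdjoinRoot.of f π ^ n * b₀ := by
    rcases Nat.eq_zero_or_pos k with hk | hk
    · subst hk
      obtain ⟨c, hc⟩ : ∃ c : A, c = π + π ^ n := ⟨_, rfl⟩
      have hcm : c ∈ IsLocalRing.maximalIdeal A := by
        rw [hc]
        exact Ideal.add_mem _ hπm (Ideal.pow_mem_of_mem _ hπm n (by omega))
      have hc2 : c ∉ IsLocalRing.maximalIdeal A ^ 2 := by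
        intro hmem
        have h1 : c = π * (1 + π ^ (n - 1)) := by
          rw [hc, mul_add, mul_one, ← pow_succ', hn1]
        rw [h1] at hmem
        have h2 := hπsq _ hmem
        apply hone
        have h4 : (1 : A) = (1 + π ^ (n - 1)) - π ^ (n - 1) := by ring
        rw [h4]
        exact Ideal.sub_mem _ h2 (Ideal.pow_mem_of_mem _ hπm _ (by omega))
      refine ⟨Polynomial.X - Polynomial.C c, Polynomial.monic_X_sub_C _, ?_,
        by rw [Polynomial.natDegree_X_sub_C, pow_zero], ?_, 1, ?_⟩
      · refine ⟨?_, ?_, ?_⟩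
        · rw [(Polynomial.monic_X_sub_C _).leadingCoeff]
          exact hone
        · intro i hi
          rw [Polynomial.natDegree_X_sub_C] at hi
          have hi0 : i = 0 := by omega
          subst hi0
          rw [Polynomial.coeff_sub, Polynomial.coeff_X_zero, Polynomial.coeff_C_zero, zero_sub]
          exact (Ideal.neg_mem_iff _).2 hcm
        · rw [Polynomial.coeff_sub, Polynomial.coeff_X_zero, Polynomial.coeff_C_zero, zero_sub,
            Ideal.neg_mem_iff]
          exact hc2
      · rw [Polynomial.map_sub, Polynomial.map_X, Polynomial.map_C]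
        exact Polynomial.separable_X_sub_C
      · have h1 := AdjoinRoot.mk_self (f := Polynomial.X - Polynomial.C c)
        rw [map_sub, AdjoinRoot.mk_X, AdjoinRoot.mk_C, sub_eq_zero] at h1
        have h5 : AdjoinRoot.of (Polynomial.X - Polynomial.C c) c =
            AdjoinRoot.of (Polynomial.X - Polynomial.C c) π +
              AdjoinRoot.of (Polynomial.X - Polynomial.C c) π ^ n := by
          have := congrArg (AdjoinRoot.of (Polynomial.X - Polynomial.C c)) hc
          rw [this, map_add, map_pow]
        rw [pow_zero, pow_one, mul_one, h1, h5]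
    · have hq2 : 2 ≤ p ^ k := by
        calc 2 ≤ p := hp.two_le
          _ = p ^ 1 := (pow_one p).symm
          _ ≤ p ^ k := Nat.pow_le_pow_right hp.pos hk
      obtain ⟨g, hg⟩ : ∃ g : Polynomial A, g = Polynomial.C (π ^ n) * Polynomial.X + Polynomial.C π :=
        ⟨_, rfl⟩
      have hgcoeff : ∀ i, g.coeff i = (if i = 1 then π ^ n else 0) + (if i = 0 then π else 0) := by
        intro i
        rw [hg, Polynomial.coeff_add, Polynomial.coeff_C_mul_X, Polynomial.coeff_C]
      have hgdeg : g.degree < ((p ^ k : ℕ) : WithBot ℕ) := by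
        have h1 : g.degree ≤ 1 := by
          rw [hg]
          exact le_trans (Polynomial.degree_add_le _ _)
            (max_le (le_trans (Polynomial.degree_C_mul_X_le _) le_rfl)
              (le_trans Polynomial.degree_C_le zero_le_one))
        exact lt_of_le_of_lt h1 (by exact_mod_cast hq2)
      have hg0 : g ≠ 0 := by
        intro h0
        have := hgcoeff 0
        rw [h0, Polynomial.coeff_zero, if_neg (by norm_num), if_pos rfl, zero_add] at this
        exact hπirr.ne_zero this.symm
      have hmon : (Polynomial.X ^ (p ^ k) - g).Monic := Polynomial.monic_X_pow_sub hgdeg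
      have hnat : (Polynomial.X ^ (p ^ k) - g).natDegree = p ^ k := by
        rw [Polynomial.natDegree_sub_eq_left_of_natDegree_lt, Polynomial.natDegree_X_pow]
        rw [Polynomial.natDegree_X_pow]
        exact (Polynomial.natDegree_lt_iff_degree_lt hg0).2 hgdeg
      have hcoeff : ∀ i, i < p ^ k → (Polynomial.X ^ (p ^ k) - g).coeff i =
          -((if i = 1 then π ^ n else 0) + (if i = 0 then π else 0)) := by
        intro i hi
        rw [Polynomial.coeff_sub, Polynomial.coeff_X_pow, if_neg hi.ne, hgcoeff, zero_sub]
      have hE' : (Polynomial.X ^ (p ^ k) - g).IsEisensteinAt (IsLocalRing.maximalIdeal A) := by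
        refine ⟨?_, ?_, ?_⟩
        · rw [hmon.leadingCoeff]
          exact hone
        · intro i hi
          rw [hnat] at hi
          rw [hcoeff i hi, Ideal.neg_mem_iff]
          apply Ideal.add_mem
          · split_ifs
            · exact Ideal.pow_mem_of_mem _ hπm n (by omega)
            · exact Ideal.zero_mem _
          · split_ifs
            · exact hπm
            · exact Ideal.zero_mem _
        · rw [hcoeff 0 hq0, if_neg (by norm_num), if_pos rfl, zero_add, Ideal.neg_mem_iff]
          intro hmem
          have := hπsq 1 (by rwa [mul_one])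
          exact hone this
      refine ⟨Polynomial.X ^ (p ^ k) - g, hmon, hE', hnat, ?_, AdjoinRoot.root _, ?_⟩
      · have hirr := Groth.Agent.Lib.Helper9.DvrEisenstein.irreducible_map _ hmon hE'
          (by rw [hnat]; exact hq0) K
        rw [Polynomial.separable_iff_derivative_ne_zero hirr]
        intro h0
        have h1 := congrArg (fun r => r.coeff 0) h0
        simp only [Polynomial.derivative_map, Polynomial.coeff_map, Polynomial.coeff_zero] at h1
        have h2 : (Polynomial.derivative (Polynomial.X ^ (p ^ k) - g)).coeff 0 = -π ^ n := by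
          rw [Polynomial.derivative_sub, Polynomial.derivative_X_pow, hg, Polynomial.derivative_add,
            Polynomial.derivative_C_mul, Polynomial.derivative_X, Polynomial.derivative_C,
            Polynomial.coeff_sub, Polynomial.coeff_C_mul, Polynomial.coeff_X_pow,
            if_neg (by omega), mul_zero, zero_sub, add_zero, mul_one, Polynomial.coeff_C_zero]
        rw [h2, map_neg, neg_eq_zero, map_pow] at h1
        have h3 : algebraMap A K π = 0 := pow_eq_zero_iff (by omega) |>.1 h1
        exact hπirr.ne_zero (IsFractionRing.injective A K (h3.trans (map_zero _).symm))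
      · have h1 := AdjoinRoot.mk_self (f := Polynomial.X ^ (p ^ k) - g)
        rw [map_sub, map_pow, AdjoinRoot.mk_X, sub_eq_zero] at h1
        have h2 : AdjoinRoot.mk (Polynomial.X ^ (p ^ k) - g) g =
            AdjoinRoot.of _ π ^ n * AdjoinRoot.root _ + AdjoinRoot.of _ π := by
          have := congrArg (AdjoinRoot.mk (Polynomial.X ^ (p ^ k) - g)) hg
          rw [this, map_add, map_mul, AdjoinRoot.mk_C, AdjoinRoot.mk_X, AdjoinRoot.mk_C, map_pow]
        rw [h1, h2]; ring
  have hdeg : 0 < f.natDegree := by rw [hdegq]; exact hq0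
  obtain ⟨L, iF, iKL, iAL, iT, ι, hfin, hsepL, htot, hιof, hιint⟩ :=
    Groth.Agent.Lib.Helper9.DvrEisensteinApp.eisenstein_ext (K := K) f hmon hE hdeg hsep
  obtain ⟨w, hw⟩ := Groth.Agent.Lib.Helper9.DvrEisenstein.exists_unit_root_pow f hmon hE hdeg hπirr
  rw [hdegq] at hw
  refine ⟨L, iF, iKL, iAL, iT, by rw [hfin, hdegq], hsepL, htot, ι (AdjoinRoot.root f), ι b₀,
    ι (((w⁻¹ : (AdjoinRoot f)ˣ) : AdjoinRoot f) ^ n * b₀), hιint _, hιint _, hιint _, ?_, ?_⟩
  · rw [← map_pow, hb₀, map_add, map_mul, map_pow, hιof]
  · have h1 : AdjoinRoot.of f π = ((w⁻¹ : (AdjoinRoot f)ˣ) : AdjoinRoot f) *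
        AdjoinRoot.root f ^ (p ^ k) := by
      rw [hw, ← mul_assoc, Units.inv_mul, one_mul]
    have h2 : AdjoinRoot.root f ^ (p ^ k) = AdjoinRoot.of f π +
        AdjoinRoot.root f ^ (n * p ^ k) * (((w⁻¹ : (AdjoinRoot f)ˣ) : AdjoinRoot f) ^ n * b₀) := by
      conv_lhs => rw [hb₀]
      congr 1
      conv_lhs => rw [h1]
      rw [mul_pow, ← pow_mul, mul_comm (p ^ k) n]
      ring
    have h3 := congrArg ι h2
    rw [map_add, map_mul, map_pow, map_pow, hιof] at h3
    exact h3

end Groth.Agent.S7157
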