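import Groth.Statements.S17148
import Groth.Agent.Lib.Helper90.Isoc

set_option autoImplicit false
universe u v
open Isoc
open Groth.Agent.Lib.Helper90.IsocLib

namespace Groth.Agent.S17148

/-- Let k be a perfect field of characteristic p, a ∈ ℤ, W = W(k) with fraction field L, and (N, F) a
σ^a-F-isocrystal over k (N finite-dimensional over L, F a bijective σ^a-semilinear endomorphism)
that is isoclinic of slope μ, i.e. there are a W-lattice M, r ∈ ℤ and s > 0 with r/s = μ and F^s(M)
= p^r · M. Then for every F-stable L-subspace P of N, the sub-isocrystal (P, F|P) is again isoclinic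
of slope μ. -/
theorem result (p : ℕ) [Fact p.Prime] (k : Type u) [Field k] [CharP k p] [PerfectRing k p] (a : ℤ)
    (N : Type v) [AddCommGroup N] [Module (WittVector p k) N] [Module (FractionRing (WittVector p k)) N]
    [IsScalarTower (WittVector p k) (FractionRing (WittVector p k)) N]
    (F : N →ₛₗ[Isoc.frob p k a] N) (hF : Isoc.IsIsoc F) (μ : ℚ) (hμ : Isoc.IsIsoclinic F μ)
    (P : Submodule (FractionRing (WittVector p k)) N) (hP : ∀ x ∈ P, F x ∈ P) :
    Isoc.IsIsoclinic (F.restrict hP) μ := by
  obtain ⟨M, hM, r, s, hs, hrs, hFM⟩ := hμ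
  have hτ := isWAut_frob (p := p) (k := k) a
  haveI : Module.Finite (FractionRing (WittVector p k)) N := hF.finite
  set MP := M.comap (P.subtype.restrictScalars (WittVector p k)) with hMP
  refine ⟨MP, comap_subtype_isLattice P hM, r, s, hs, hrs, ?_⟩
  have hiter : ∀ (j : ℕ) (x : P), (((⇑(F.restrict hP))^[j] x : P) : N) = (⇑F)^[j] (x : N) := by
    intro j
    induction j with
    | zero => intro x; rfl
    | succ j ih =>
      intro x
      rw [Function.iterate_succ_apply', Function.iterate_succ_apply', ← ih]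
      rfl
  have hinj : Function.Injective (F.restrict hP) := by
    intro x y hxy
    have : F (x : N) = F (y : N) := congrArg Subtype.val hxy
    exact Subtype.ext (hF.bijective.1 this)
  have hsurj : Function.Surjective (F.restrict hP) :=
    semilinear_surjective_of_injective hτ.surjective (F.restrict hP) hinj
  have hsurjs : Function.Surjective ((⇑(F.restrict hP))^[s]) := hsurj.iterate s
  have hinjs : Function.Injective ((⇑F)^[s]) := hF.bijective.1.iterate s
  ext x
  rw [mem_latImg hτ, mem_pPow]
  constructor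
  · rintro ⟨y, hy, rfl⟩
    have h1 : (⇑F)^[s] (y : N) ∈ Isoc.pPow r M := hFM ▸ iterate_mem_latImg hy
    obtain ⟨z, hz, hzy⟩ := mem_pPow.mp h1
    have hzP : z ∈ P := by
      have h2 : z = ((p : FractionRing (WittVector p k)) ^ r)⁻¹ • (⇑F)^[s] (y : N) := by
        rw [← hzy, smul_smul, inv_mul_cancel₀ (zpow_ne_zero r p_ne_zero), one_smul]
      rw [h2, ← hiter]
      exact P.smul_mem _ (Subtype.mem _)
    refine ⟨⟨z, hzP⟩, hz, ?_⟩
    apply Subtype.ext
    rw [hiter]
    exact hzy
  · rintro ⟨z, hz, rfl⟩
    have h1 : ((p : FractionRing (WittVector p k)) ^ r) • (z : N) ∈ Isoc.latImg F s M :=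
      hFM ▸ smul_mem_pPow hz
    obtain ⟨y, hy, hyz⟩ := (mem_latImg hτ).mp h1
    obtain ⟨y', hy'⟩ := hsurjs (((p : FractionRing (WittVector p k)) ^ r) • z)
    have h3 : (⇑F)^[s] (y' : N) = (⇑F)^[s] y := by
      rw [← hiter, hy', hyz]
      rfl
    have h4 : (y' : N) = y := hinjs h3
    refine ⟨y', ?_, hy'⟩
    show (y' : N) ∈ M
    rw [h4]
    exact hy

end Groth.Agent.S17148
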