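import Groth.Statements.S17153
import Groth.Agent.Lib.Helper90.Isoc9
import Groth.Agent.S17148

set_option autoImplicit false
universe u
open Isoc
open Groth.Agent.Lib.Helper90.IsocLib

namespace Groth.Agent.S17153

/-- Let k be a perfect field of characteristic p, W = W(k), L its fraction field, a ∈ ℤ, and λ = d/h
with h > 0 and gcd(d, h) = 1. The standard σ^a-F-isocrystal N_λ of slope λ — the space L^h with the
σ^a-semilinear F determined by F e_i = e_{i+1} (i + 1 < h) and F e_{h−1} = p^d · e_0 — is a simple
isocrystal: an L-subspace of L^h carried into itself by F is either 0 or everything. (The source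
introduces N_λ for a ≠ 0 only; the simplicity argument, via sub-isocrystals of an isoclinic
isocrystal having the same slope, does not use that restriction, and the statement is made for all
a.) -/
theorem result (p : ℕ) [Fact p.Prime] (k : Type u) [Field k] [CharP k p] [PerfectRing k p]
    (a : ℤ) (d : ℤ) (h : ℕ) (hh : 0 < h) (hdh : Int.gcd d h = 1)
    (P : Submodule (FractionRing (WittVector p k)) (Fin h → (FractionRing (WittVector p k))))
    (hP : ∀ x ∈ P, Isoc.stdIsoc (Isoc.frob p k a) d h x ∈ P) : P = ⊥ ∨ P = ⊤ := by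
  have hτ := isWAut_frob (p := p) (k := k) a
  set F := Isoc.stdIsoc (Isoc.frob p k a) d h with hFdef
  have hF : Isoc.IsIsoc F := stdIsoc_isIsoc hτ d h
  have hiso : Isoc.IsIsoclinic F ((d : ℚ) / (h : ℚ)) := stdIsoc_isIsoclinic hτ d h hh
  have hPiso := Groth.Agent.S17148.result p k a _ F hF _ hiso P hP
  obtain ⟨MP, hMP, r, s, hs, hrs, hFM⟩ := hPiso
  have hinj : Function.Injective (F.restrict hP) := by
    intro x y hxy
    have : F (x : Fin h → FractionRing (WittVector p k)) = F (y : Fin h → _) :=
      congrArg Subtype.val hxy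
    exact Subtype.ext (hF.bijective.1 this)
  have hsurj : Function.Surjective (F.restrict hP) :=
    semilinear_surjective_of_injective hτ.surjective (F.restrict hP) hinj
  set h' := Module.finrank (FractionRing (WittVector p k)) P with hh'
  set bP := Module.finBasis (FractionRing (WittVector p k)) P with hbP
  obtain ⟨d', hd'⟩ := exists_isOrdP_detCoeff hτ bP hinj
  have hkey := mul_orddet_eq_mul_height hτ bP hsurj hd' hMP hFM
  -- r * h = d * s
  have hsQ : (s : ℚ) ≠ 0 := by exact_mod_cast hs.ne'
  have hhQ : (h : ℚ) ≠ 0 := by exact_mod_cast hh.ne'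
  have h1 : (r : ℚ) * h = d * s := by
    rw [div_eq_div_iff hsQ hhQ] at hrs
    exact hrs
  have h1' : r * (h : ℤ) = d * s := by exact_mod_cast h1
  have h2 : d' * (h : ℤ) = d * h' := by
    have hsZ : (s : ℤ) ≠ 0 := by exact_mod_cast hs.ne'
    apply mul_left_cancel₀ hsZ
    calc (s : ℤ) * (d' * h) = (s * d') * h := by ring
      _ = (r * h') * h := by rw [hkey]
      _ = (r * h) * h' := by ring
      _ = (d * s) * h' := by rw [h1']
      _ = s * (d * h') := by ring
  have h3 : (h : ℤ) ∣ d * h' := ⟨d', by rw [← h2]; ring⟩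
  have hcop : IsCoprime (h : ℤ) d := by
    rw [Int.isCoprime_iff_gcd_eq_one, Int.gcd_comm]
    exact hdh
  have h4 : (h : ℤ) ∣ (h' : ℤ) := hcop.dvd_of_dvd_mul_left h3
  have h5 : h ∣ h' := by exact_mod_cast h4
  have hle : h' ≤ h := by
    have := Submodule.finrank_le P
    rw [Module.finrank_fin_fun] at this
    exact this
  rcases Nat.eq_zero_or_pos h' with h0 | hpos
  · left
    exact Submodule.finrank_eq_zero.mp h0
  · right
    have heq : h' = h := le_antisymm hle (Nat.le_of_dvd hpos h5)
    apply Submodule.eq_top_of_finrank_eq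
    rw [Module.finrank_fin_fun]
    exact heq

end Groth.Agent.S17153
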