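import Groth.Statements.S7581
import Groth.Agent.Lib.Helper10.ChainCodim

set_option autoImplicit false
universe u
open PtTop

namespace Groth.Agent.S7581

open Groth.Agent.Lib.Helper10.ChainCodim TopologicalSpace

theorem codim_eq_cd {X : Type u} [TopologicalSpace X] (Y Y' : IrreducibleCloseds X) :
    PtTop.codim Y (Y' : Set X) = cd Y Y' := by
  simp only [PtTop.codim, cd, SetLike.coe_subset_coe]

theorem isCatenary_iff {X : Type u} [TopologicalSpace X] :
    PtTop.IsCatenarySpace X ↔ ∀ a b : IrreducibleCloseds X, a ≤ b → cd a b ≠ ⊤ ∧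
      ∀ s : LTSeries (IrreducibleCloseds X), s.head = a → s.last = b → Sat s →
        (s.length : ℕ∞) = cd a b := by
  unfold PtTop.IsCatenarySpace
  simp only [codim_eq_cd]
  rfl


/-- Let X be a topological space. Then X is catenary if and only if for every pair of irreducible closed
subsets Y ⊆ Y' the codimension codim(Y, Y') is finite and for every triple Y ⊆ Y' ⊆ Y'' of
irreducible closed subsets codim(Y, Y'') = codim(Y, Y') + codim(Y', Y''). -/
theorem result (X : Type u) [TopologicalSpace X] :
    PtTop.IsCatenarySpace X ↔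
      (∀ Y Y' : TopologicalSpace.IrreducibleCloseds X, Y ≤ Y' → PtTop.codim Y (Y' : Set X) ≠ ⊤) ∧
      (∀ Y Y' Y'' : TopologicalSpace.IrreducibleCloseds X, Y ≤ Y' → Y' ≤ Y'' →
        PtTop.codim Y (Y'' : Set X) = PtTop.codim Y (Y' : Set X) + PtTop.codim Y' (Y'' : Set X)) := by
  rw [isCatenary_iff]
  simp only [codim_eq_cd]
  constructor
  · intro hcat
    exact ⟨fun Y Y' h => (hcat Y Y' h).1, fun Y Y' Y'' h h' => additive_of_catenary hcat Y Y' Y'' h h'⟩
  · rintro ⟨hfin, hadd⟩ a b hab
    refine ⟨hfin a b hab, ?_⟩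
    intro s h1 h2 hs
    rw [← h1, ← h2]
    exact sat_length_of_additive hadd s hs

end Groth.Agent.S7581
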