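import Groth.Statements.S1642
import Groth.Agent.Lib.Helper60.Kz9
-- import your own Groth.Agent.* helpers here

set_option autoImplicit false
universe u
open CategoryTheory CategoryTheory.Limits AlgebraicGeometry
open Variety

namespace Groth.Agent.S1642

/-- A coherent module on P^n_k which is m-regular in the sense of Castelnuovo–Mumford is also (m +
1)-regular. -/
theorem result (k : Type u) [Field k] (n : ℕ) (F : (CohB1.ProjSpace n k).Modules) (hF : Coh.IsCoh F) (m : ℤ)
    (h : Curv2.IsMRegular k n F m) : Curv2.IsMRegular k n F (m + 1) := by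
  intro i hi1 hin
  have hq : Coh.IsQCoh F := hF.1
  refine Groth.Agent.Lib.Helper60.Koszul.reg_step k n F i (m + 1 - i) (fun q hq1 hqn => ?_)
  have e : m + 1 - (i : ℤ) - (q : ℤ) = m - ((i + q - 1 : ℕ) : ℤ) := by
    rw [Nat.cast_sub (by omega)]
    push_cast
    ring
  rw [e]
  by_cases hj : i + q - 1 ≤ n
  · exact h (i + q - 1) (by omega) hj
  · exact Groth.Agent.Lib.Helper97.TwistExact.subsingleton_HH_twist_of_lt k n F hq _ _ (by omega)

end Groth.Agent.S1642
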