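import Groth.Statements.S1647
import Groth.Agent.Lib.Helper60.Gg3
import Groth.Agent.S1642
import Groth.Agent.S2325
import Groth.Agent.S2352
import Groth.Agent.Lib.Helper35.VA9
import Groth.Agent.Lib.Helper7.ProjSpaceProper
-- import your own Groth.Agent.* helpers here

set_option autoImplicit false
universe u
open CategoryTheory CategoryTheory.Limits AlgebraicGeometry
open Variety

namespace Groth.Agent.S1647

/-- Let F be a coherent module on P^n_k which is m-regular. Then F(m) = F ⊗ O(m) is globally generated. -/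
theorem result (k : Type u) [Field k] (n : ℕ) (F : (CohB1.ProjSpace n k).Modules) (hF : Coh.IsCoh F) (m : ℤ)
    (h : Curv2.IsMRegular k n F m) : Curv2.IsGloballyGenerated (CohB1.tensorMod F (Twist.twistProjSpace n k m)) := by
  have hq : Coh.IsQCoh F := hF.1
  -- regularity propagates upwards
  have hregt : ∀ t : ℕ, Curv2.IsMRegular k n F (m + t) := by
    intro t
    induction t with
    | zero => simpa using h
    | succ t ih =>
      have h1 := Groth.Agent.S1642.result k n F hF (m + t) ih
      have e : m + ((t + 1 : ℕ) : ℤ) = m + (t : ℤ) + 1 := by push_cast; ring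
      rw [e]
      exact h1
  -- transfer of global generation along isomorphisms
  have hiso : ∀ {M N : (CohB1.ProjSpace n k).Modules}, (M ≅ N) → Curv2.IsGloballyGenerated M →
      Curv2.IsGloballyGenerated N := by
    rintro M N e ⟨ι, p, hp⟩
    exact ⟨ι, p ≫ e.hom, epi_comp _ _⟩
  have hisoL : ∀ (A B : (CohB1.ProjSpace n k).Modules), (A ≅ B) →
      Curv2.IsGloballyGenerated (CohB1.tensorMod F A) →
      Curv2.IsGloballyGenerated (CohB1.tensorMod F B) := by
    intro A B e h
    exact hiso ((Groth.Agent.Lib.Helper97.TwistExact.tensLF F).mapIso e) h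
  -- Serre's theorem
  haveI : CompactSpace (CohB1.ProjSpace n k) :=
    QuasiCompact.compactSpace_of_compactSpace (CohB1.ProjSpace.toSpec n k)
  haveI : (CohB1.ProjSpace n k).IsSeparated := by
    refine ⟨?_⟩
    rw [← terminal.comp_from (CohB1.ProjSpace.toSpec n k)]
    infer_instance
  obtain ⟨n₀, hn₀⟩ := Groth.Agent.S2325.result (CohB1.ProjSpace n k) (Twist.twistProjSpace n k 1)
    (Groth.Agent.Lib.Helper35.VA.isAmple_twistProjSpace n k) F hF
  have hQ : ∀ N : ℕ, n₀ ≤ N → Curv2.IsGloballyGenerated
      (CohB1.tensorMod F (Twist.twistProjSpace n k (N : ℤ))) := by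
    intro N hN
    obtain ⟨e⟩ := (Groth.Agent.S2352.result (CohB1.polyGrading n k)
      (Groth.Agent.Lib.Helper60.AutPn.hgen_poly n k)).2.2 N
    have e' : CohB1.tensorPow (Twist.twistProjSpace n k 1) N ≅ Twist.twistProjSpace n k (N : ℤ) :=
      e.symm
    have h1 : Curv2.IsGloballyGenerated
        (CohB1.tensorMod F (CohB1.tensorPow (Twist.twistProjSpace n k 1) N)) := hn₀ N hN
    exact hisoL _ _ e' h1
  -- Mumford's step
  have hstep : ∀ t : ℕ, Curv2.IsGloballyGenerated
      (CohB1.tensorMod F (Twist.twistProjSpace n k (m + t + 1))) →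
      Curv2.IsGloballyGenerated (CohB1.tensorMod F (Twist.twistProjSpace n k (m + t))) := by
    intro t hgg
    refine Groth.Agent.Lib.Helper60.Koszul.gg_step k n _ (fun j hj1 hjn => ?_) ?_
    · obtain ⟨e⟩ := Groth.Agent.Lib.Helper97.TwistExact.nonempty_twist_twist_iso k n F (m + t) (-(j : ℤ))
      have h1 := hregt t j hj1 hjn
      have e2 : m + (t : ℤ) - (j : ℤ) = m + (t : ℤ) + -(j : ℤ) := by ring
      rw [e2] at h1
      exact Groth.Agent.Lib.Helper97.TwistExact.subsingleton_HH_of_iso' e.symm j h1
    · obtain ⟨e⟩ := Groth.Agent.Lib.Helper97.TwistExact.nonempty_twist_twist_iso k n F (m + t) 1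
      exact hiso e.symm hgg
  have hdesc : ∀ t : ℕ, Curv2.IsGloballyGenerated
      (CohB1.tensorMod F (Twist.twistProjSpace n k (m + t))) →
      Curv2.IsGloballyGenerated (CohB1.tensorMod F (Twist.twistProjSpace n k m)) := by
    intro t
    induction t with
    | zero =>
      intro h0
      have e : m + ((0 : ℕ) : ℤ) = m := by simp
      rw [e] at h0
      exact h0
    | succ t ih =>
      intro h1
      have e : m + ((t + 1 : ℕ) : ℤ) = m + (t : ℤ) + 1 := by push_cast; ring
      rw [e] at h1
      exact ih (hstep t h1)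
  -- conclusion
  let N : ℕ := n₀ + m.toNat
  have hNm : m ≤ (N : ℤ) := by
    have := Int.self_le_toNat m
    simp only [N]
    push_cast
    omega
  obtain ⟨t, ht⟩ := Int.eq_ofNat_of_zero_le (by omega : 0 ≤ (N : ℤ) - m)
  have e : (N : ℤ) = m + t := by omega
  have h1 := hQ N (by simp [N])
  rw [e] at h1
  exact hdesc t h1

end Groth.Agent.S1647
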