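import Groth.Statements.S0009
import Groth.Agent.S10954
import Groth.Agent.S0013
import Groth.Agent.Lib.Helper26.SerreCrit
import Groth.Agent.Lib.Helper26.CechVanish
import Groth.Agent.Lib.Helper78.ModStalkExact
import Groth.Agent.Lib.Helper21.QCohKernel

set_option autoImplicit false
universe u
open Coherent

namespace Groth.Agent.S0009

open AlgebraicGeometry CategoryTheory TopologicalSpace Opposite Limits
open Groth.Agent.Lib.Helper78.ModStalkExact Abelian

variable {X : Scheme.{u}}

/-- vanishing of cohomology in the middle of a short exact sequence -/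
theorem subsingleton_HH_of_shortExact {S : ShortComplex X.Modules} (hS : S.ShortExact) (p : ℕ)
    (h1 : Subsingleton (Coh.HH X S.X₁ p)) (h3 : Subsingleton (Coh.HH X S.X₃ p)) :
    Subsingleton (Coh.HH X S.X₂ p) := by
  have hT := shortExact_toSh S hS
  refine ⟨fun a b => ?_⟩
  suffices h0 : ∀ x : Coh.HH X S.X₂ p, x = 0 from (h0 a).trans (h0 b).symm
  intro x₂
  have h : x₂.comp (Ext.mk₀ (S.map (toSh X)).g) (add_zero p) = 0 :=
    @Subsingleton.elim (Coh.HH X S.X₃ p) h3 _ _
  obtain ⟨x₁, rfl⟩ := Ext.covariant_sequence_exact₂ _ hT x₂ h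
  have : x₁ = 0 := @Subsingleton.elim (Coh.HH X S.X₁ p) h1 _ _
  rw [this, Ext.zero_comp]
  rfl

theorem ext_eq_zero_of_isZero {C : Type*} [Category C] [Abelian C] [HasExt C] (P G : C)
    (hG : IsZero G) (p : ℕ) (x : Ext P G p) : x = 0 := by
  have hid : 𝟙 G = 0 := hG.eq_of_src _ _
  have hx : x = x.comp (Ext.mk₀ (𝟙 G)) (add_zero p) := (Ext.comp_mk₀_id x).symm
  rw [hx, hid, Ext.mk₀_zero, Ext.comp_zero]

theorem subsingleton_HH_of_isZero (F : X.Modules) (hF : IsZero F) (p : ℕ) :
    Subsingleton (Coh.HH X F p) := by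
  refine ⟨fun a b => ?_⟩
  suffices h0 : ∀ x : Coh.HH X F p, x = 0 from (h0 a).trans (h0 b).symm
  intro x
  have hz : IsZero (Coh.toAb F) := (SheafOfModules.toSheaf X.ringCatSheaf).map_isZero hF
  exact ext_eq_zero_of_isZero _ (Coh.toAb F) hz p x


theorem isZero_pi_zero : IsZero (∏ᶜ (fun _ : Fin 0 => Coh.structureModule X)) := by
  rw [IsZero.iff_id_eq_zero]
  exact Limits.Pi.hom_ext _ _ (fun i => i.elim0)

/-- `H^1` vanishes for quasi-coherent submodules of `O^n`, if it does for quasi-coherent ideals -/
theorem H1_sub_pi (X : Scheme.{u})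
    (h : ∀ (I : X.Modules) (i : I ⟶ Coh.structureModule X), Mono i →
      Coh.IsQCoh I → Subsingleton (Coh.HH X I 1)) :
    ∀ (n : ℕ) (F : X.Modules) (j : F ⟶ ∏ᶜ (fun _ : Fin n => Coh.structureModule X)), Mono j →
      Coh.IsQCoh F → Subsingleton (Coh.HH X F 1) := by
  intro n
  induction n with
  | zero =>
    intro F j hj _
    exact subsingleton_HH_of_isZero F (IsZero.of_mono j isZero_pi_zero) 1
  | succ n ih =>
    intro F j hj hF
    have : F.IsQuasicoherent := hF
    have hO : (Coh.structureModule X).IsQuasicoherent :=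
      Groth.Agent.Lib.Helper22.IdealModAff.structureModule_isQuasicoherent X
    let α : F ⟶ Coh.structureModule X :=
      j ≫ Pi.π (fun _ : Fin (n + 1) => Coh.structureModule X) (Fin.last n)
    have hK : (kernel α).IsQuasicoherent := Groth.Agent.Lib.Helper2.KerSec.isQuasicoherent_kernel α
    have hQ : (cokernel (kernel.ι α)).IsQuasicoherent :=
      Groth.Agent.Lib.Helper21.QCohKernel.isQuasicoherent_cokernel (kernel.ι α)
    let j' : kernel α ⟶ ∏ᶜ (fun _ : Fin n => Coh.structureModule X) :=
      kernel.ι α ≫ j ≫ Pi.lift (fun i : Fin n =>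
        Pi.π (fun _ : Fin (n + 1) => Coh.structureModule X) i.castSucc)
    have hj' : Mono j' := by
      refine ⟨fun {T} a b hab => ?_⟩
      have hκ : Mono (kernel.ι α) := equalizer.ι_mono
      rw [← cancel_mono (kernel.ι α), ← cancel_mono j]
      apply Limits.Pi.hom_ext
      intro i
      refine Fin.lastCases ?_ (fun i => ?_) i
      · have e : kernel.ι α ≫ j ≫
            Pi.π (fun _ : Fin (n + 1) => Coh.structureModule X) (Fin.last n) = 0 :=
          kernel.condition α
        simp only [Category.assoc]
        rw [e, comp_zero, comp_zero]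
      · have := congrArg (fun φ => φ ≫ Pi.π (fun _ : Fin n => Coh.structureModule X) i) hab
        simp only [j', Category.assoc, Pi.lift_π] at this
        simpa only [Category.assoc] using this
    have h1 : Subsingleton (Coh.HH X (kernel α) 1) := ih (kernel α) j' hj' hK
    have hmono : Mono (Abelian.factorThruCoimage α) := inferInstance
    have h3 : Subsingleton (Coh.HH X (cokernel (kernel.ι α)) 1) :=
      h (cokernel (kernel.ι α)) (Abelian.factorThruCoimage α) hmono hQ
    let S : ShortComplex X.Modules :=
      ShortComplex.mk (kernel.ι α) (cokernel.π (kernel.ι α)) (cokernel.condition _)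
    have hS : S.ShortExact :=
      { exact := ShortComplex.exact_cokernel _
        mono_f := equalizer.ι_mono
        epi_g := coequalizer.π_epi }
    exact subsingleton_HH_of_shortExact hS 1 h1 h3


theorem surjective_of_H1 {S : ShortComplex X.Modules} (hS : S.ShortExact)
    (h1 : Subsingleton (Coh.HH X S.X₁ 1)) :
    Function.Surjective (S.g.val.app (op ⊤)).hom := by
  have hT := shortExact_toSh S hS
  have h1' : Subsingleton (CohTop.HU (Coh.toAb S.X₁) 1 (⊤ : Opens X)) :=
    (Groth.Agent.S0013.HUtopEquiv (Coh.toAb S.X₁) 1).toEquiv.subsingleton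
  exact Groth.Agent.Lib.Helper26.CechVanish.surjective_g_of_HU hT ⊤ h1'



open AlgebraicGeometry CategoryTheory in
/-- If X is quasi-compact and H^1 vanishes for every quasi-coherent submodule of the structure sheaf,
then X is affine. A quasi-coherent sheaf of ideals is modelled as a quasi-coherent module with a
monomorphism into the structure sheaf. -/
theorem result (X : Scheme.{u}) [CompactSpace X]
    (h : ∀ (I : X.Modules) (i : I ⟶ Coh.structureModule X), Mono i →
      Coh.IsQCoh I → Subsingleton (Coh.HH X I 1)) : IsAffine X := by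
  apply Groth.Agent.S10954.result X
  intro S n j hS hj hq1 _ _
  exact surjective_of_H1 hS (H1_sub_pi X h n S.X₁ j hj hq1)

end Groth.Agent.S0009
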