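import Groth.Statements.S9169
import Groth.Agent.Lib.Helper94.SyntS

set_option autoImplicit false
universe u
open Synt

namespace Groth.Agent.S9169

open TensorProduct in

open TensorProduct in
/-- Let R → S be a ring map and q a prime of S lying over p; write Q for the prime of the fibre ring
κ(p) ⊗ S that pulls back to q. Equivalent: (1) some basic open neighbourhood S_g of q is syntomic
over R; (2) some S_g is isomorphic over R to a relative global complete intersection; (3) some S_g
is of finite presentation over R, the local ring S_q is flat over R (equivalently over R_p), and the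
fibre local ring (κ(p) ⊗ S)_Q is a complete intersection over κ(p). Stated as (1) ↔ (2) and (1) ↔
(3). -/
theorem result (R S : Type u) [CommRing R] [CommRing S] [Algebra R S]
    (p : Ideal R) [p.IsPrime] (q : Ideal S) [q.IsPrime] [q.LiesOver p]
    (Q : Ideal (p.Fiber S)) [Q.IsPrime]
    (hQ : Q.comap (Algebra.TensorProduct.includeRight.toRingHom) = q) :
    ((∃ g : S, g ∉ q ∧ Synt.IsSyntomic R (Localization.Away g)) ↔
        ∃ g : S, g ∉ q ∧ ∃ (n c : ℕ) (F : Fin c → MvPolynomial (Fin n) R), Synt.IsRelGCI R n c F ∧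
          Nonempty (Localization.Away g ≃ₐ[R] Synt.RelGCIRing R n c F)) ∧
      ((∃ g : S, g ∉ q ∧ Synt.IsSyntomic R (Localization.Away g)) ↔
        ∃ g : S, g ∉ q ∧ Algebra.FinitePresentation R (Localization.Away g) ∧
          Module.Flat R (Localization.AtPrime q) ∧
          Synt.IsCIOver p.ResidueField (Localization.AtPrime Q)) := by
  have h21 : (∃ g : S, g ∉ q ∧ ∃ (n c : ℕ) (F : Fin c → MvPolynomial (Fin n) R),
      Synt.IsRelGCI R n c F ∧ Nonempty (Localization.Away g ≃ₐ[R] Synt.RelGCIRing R n c F)) →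
      (∃ g : S, g ∉ q ∧ Synt.IsSyntomic R (Localization.Away g)) := by
    rintro ⟨g, hg, n, c, F, hF, ⟨e⟩⟩
    exact ⟨g, hg, Groth.Agent.Lib.Helper94.SyntS.isSyntomic_of_algEquiv e.symm
      (Groth.Agent.Lib.Helper94.SyntH.isSyntomic_of_isRelGCI R n c F hF)⟩
  have h13 : (∃ g : S, g ∉ q ∧ Synt.IsSyntomic R (Localization.Away g)) →
      (∃ g : S, g ∉ q ∧ Algebra.FinitePresentation R (Localization.Away g) ∧
          Module.Flat R (Localization.AtPrime q) ∧
          Synt.IsCIOver p.ResidueField (Localization.AtPrime Q)) := by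
    rintro ⟨g, hg, hfl, hfp, hfib⟩
    refine ⟨g, hg, hfp, ?_, ?_⟩
    · haveI := Groth.Agent.Lib.Helper94.CILoc.isPrime_map_away g q hg
      let e := Groth.Agent.Lib.Helper94.CILoc.atPrimeAwayEquiv (k := R) g q hg
      haveI : Module.Flat R
          (Localization.AtPrime (q.map (algebraMap S (Localization.Away g)))) :=
        Module.Flat.trans R (Localization.Away g) _
      exact Module.Flat.of_linearEquiv e.toLinearEquiv
    · obtain ⟨Q₀, hQ₀p, hQ₀c, ⟨e⟩⟩ :=
        Groth.Agent.Lib.Helper94.SyntS.exists_fibre_away p q Q hQ g hg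
      haveI := hQ₀p
      have hLCI := hfib ⟨p, inferInstance⟩
      haveI : Algebra.FiniteType p.ResidueField (p.Fiber (Localization.Away g)) := hLCI.1
      have h1 := (Groth.Agent.Lib.Helper94.CIMain.isLCIOver_iff_forall_prime p.ResidueField
        (p.Fiber (Localization.Away g))).mp hLCI ⟨Q₀, hQ₀p⟩
      exact Groth.Agent.Lib.Helper94.CIMain.isCIOver_of_algEquiv e.symm h1
  have h32 : (∃ g : S, g ∉ q ∧ Algebra.FinitePresentation R (Localization.Away g) ∧
          Module.Flat R (Localization.AtPrime q) ∧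
          Synt.IsCIOver p.ResidueField (Localization.AtPrime Q)) →
      (∃ g : S, g ∉ q ∧ ∃ (n c : ℕ) (F : Fin c → MvPolynomial (Fin n) R),
      Synt.IsRelGCI R n c F ∧ Nonempty (Localization.Away g ≃ₐ[R] Synt.RelGCIRing R n c F)) := by
    rintro ⟨g₀, hg₀, hfp, hflat, hCI⟩
    haveI := hfp
    haveI hq₀ := Groth.Agent.Lib.Helper94.CILoc.isPrime_map_away g₀ q hg₀
    obtain ⟨Q₀, hQ₀p, hQ₀c, ⟨e⟩⟩ :=
      Groth.Agent.Lib.Helper94.SyntS.exists_fibre_away p q Q hQ g₀ hg₀
    haveI := hQ₀p
    have hqp : (q.map (algebraMap S (Localization.Away g₀))).comap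
        (algebraMap R (Localization.Away g₀)) = p := by
      rw [IsScalarTower.algebraMap_eq R S (Localization.Away g₀), ← Ideal.comap_comap,
        Groth.Agent.Lib.Helper94.CILoc.comap_map_away g₀ q hg₀]
      exact (Ideal.over_def q p).symm
    have hflat₀ : Module.Flat R
        (Localization.AtPrime (q.map (algebraMap S (Localization.Away g₀)))) :=
      Module.Flat.of_linearEquiv
        (Groth.Agent.Lib.Helper94.CILoc.atPrimeAwayEquiv (k := R) g₀ q hg₀).symm.toLinearEquiv
    obtain ⟨g', hg', N, C, G, hG, ⟨e'⟩⟩ :=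
      Groth.Agent.Lib.Helper94.SyntR.exists_relGCI_away p
        (q.map (algebraMap S (Localization.Away g₀))) hqp Q₀ hQ₀c hflat₀
        (Groth.Agent.Lib.Helper94.CIMain.isCIOver_of_algEquiv e hCI)
    obtain ⟨g, hg, ⟨e''⟩⟩ :=
      Groth.Agent.Lib.Helper94.SyntS.exists_away_algEquiv (R := R) q g₀ hg₀ g' hg'
    exact ⟨g, hg, N, C, G, hG, ⟨e''.trans e'⟩⟩
  exact ⟨⟨fun h => h32 (h13 h), h21⟩, ⟨h13, fun h => h21 (h32 h)⟩⟩


end Groth.Agent.S9169
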