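import Groth.Statements.S8905
import Mathlib.Tactic
import Groth.Agent.Lib.Helper43.KoszulH1
import Groth.Agent.S2103
-- import your own Groth.Agent.* helpers here

set_option autoImplicit false
universe u
open CategoryTheory CategoryTheory.Limits AlgebraicGeometry TopologicalSpace
open SDiv

namespace Groth.Agent.S8905

/-- change of kind along an implication of sequence-level notions -/
lemma of_seq_imp {Z X : AlgebraicGeometry.Scheme.{u}} (i : Z ⟶ X) (k k' : RegImm.Kind)
    (H : ∀ (R : Type u) [CommRing R] (rs : List R), k.Seq R rs → k'.Seq R rs)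
    (h : RegImm.IsRegularImmersion k i) : RegImm.IsRegularImmersion k' i := by
  obtain ⟨himm, h⟩ := h
  refine ⟨himm, fun z => ?_⟩
  obtain ⟨U, hU, hci, rs, hrs, hker⟩ := h z
  exact ⟨U, hU, hci, rs, H _ rs hrs, hker⟩

/-- Let i : Z ⟶ X be an immersion of schemes. If i is a regular immersion then it is Koszul-regular; if
Koszul-regular then H_1-regular; if H_1-regular then quasi-regular. -/
theorem result {Z X : Scheme.{u}} (i : Z ⟶ X) :
    (RegImm.IsRegularImmersion RegImm.Kind.regular i → RegImm.IsRegularImmersion RegImm.Kind.koszul i) ∧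
      (RegImm.IsRegularImmersion RegImm.Kind.koszul i → RegImm.IsRegularImmersion RegImm.Kind.h1 i) ∧
      (RegImm.IsRegularImmersion RegImm.Kind.h1 i → RegImm.IsRegularImmersion RegImm.Kind.quasi i) := by
  refine ⟨of_seq_imp i _ _ ?_, of_seq_imp i _ _ ?_, of_seq_imp i _ _ ?_⟩
  · intro R _ rs hrs
    exact (Helper98.KoszulLES.koszul_of_weaklyRegular rs
      (RingTheory.Sequence.IsRegular.toIsWeaklyRegular hrs)).1
  · intro R _ rs hrs
    exact Groth.Agent.Lib.Helper43.KoszulH1.isH1Regular_of_isKoszulRegularSeq rs hrs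
  · intro R _ rs hrs
    exact Groth.Agent.S2103.result rs.get hrs

end Groth.Agent.S8905
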