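import Groth.Statements.S5003
import Groth.Agent.Lib.Helper39.QRegGeom
-- import your own Groth.Agent.* helpers here

set_option autoImplicit false
universe u
open CategoryTheory CategoryTheory.Limits AlgebraicGeometry TopologicalSpace
open Nrm16

namespace Groth.Agent.S5003

/-- Let X be a locally Noetherian scheme and j : Y ⟶ X a morphism. Then j is a regular immersion if and
only if j is a quasi-regular immersion. -/
theorem result {X Y : Scheme.{u}} [IsLocallyNoetherian X] (j : Y ⟶ X) :
    RegImm.IsRegularImmersion RegImm.Kind.regular j ↔ RegImm.IsRegularImmersion RegImm.Kind.quasi j := by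
  constructor
  · rintro ⟨himm, hreg⟩
    refine ⟨himm, fun z => ?_⟩
    obtain ⟨U, hzU, hcl, rs, hrs, hker⟩ := hreg z
    refine ⟨U, hzU, hcl, rs, ?_, hker⟩
    apply Groth.Agent.Lib.Helper3.QReg.isQuasiRegular_of_isWeaklyRegular
    rw [List.ofFn_get]
    exact hrs.toIsWeaklyRegular
  · rintro ⟨himm, hq⟩
    refine ⟨himm, fun z => ?_⟩
    have := himm
    have hqc : QuasiCompact j := by
      rw [← j.liftCoborder_ι]
      infer_instance
    obtain ⟨U, hzU, hcl, rs, hrs, hker⟩ := hq z
    have hx' : j z ∈ X.zeroLocus (U := U.1) (Ideal.ofList rs : Set Γ(X, U.1)) := by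
      rw [Scheme.mem_zeroLocus_iff]
      intro s hs hzs
      rw [SetLike.mem_coe, ← hker, RingHom.mem_ker] at hs
      have h1 : z ∈ j ⁻¹ᵁ X.basicOpen s := hzs
      rw [Scheme.preimage_basicOpen] at h1
      have h2 : (j.app U.1) s = 0 := hs
      rw [h2, Scheme.basicOpen_zero] at h1
      exact h1
    obtain ⟨g, hxg, hreg⟩ :=
      Groth.Agent.Lib.Helper39.QSpread.exists_isRegular_basicOpen U rs hrs (j z) hzU hx'
    refine ⟨X.affineBasicOpen g, hxg, ?_, _, hreg, ?_⟩
    · have h1 : IsClosedImmersion (j ∣_ U.1 ∣_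
          U.1.toScheme.basicOpen (X.presheaf.map (eqToHom U.1.isOpenEmbedding_obj_top).op g)) :=
        IsZariskiLocalAtTarget.restrict hcl _
      exact (MorphismProperty.arrow_mk_iso_iff @IsClosedImmersion
        (morphismRestrictRestrictBasicOpen j U.1 g)).mp h1
    · rw [← Scheme.Hom.ker_apply j (X.affineBasicOpen g), ← j.ker.map_ideal_basicOpen U g,
        Scheme.Hom.ker_apply j U, hker, Ideal.map_ofList]
      rfl

end Groth.Agent.S5003
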