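import Mathlib
import Groth.Statements.S9321

set_option autoImplicit false
open CAlg

namespace Groth.Agent.S9321

open MvPowerSeries


theorem coe_mem_span_X_pow {σ K : Type*} [Finite σ] [CommRing K] (N : ℕ)
    (r : MvPolynomial σ K) (hr : r ∈ MvPolynomial.idealOfVars σ K ^ N) :
    (r : MvPowerSeries σ K) ∈ (Ideal.span (Set.range (X : σ → MvPowerSeries σ K))) ^ N := by
  have h1 : Ideal.map (MvPolynomial.coeToMvPowerSeries.ringHom (R := K) (σ := σ))
      (MvPolynomial.idealOfVars σ K) = Ideal.span (Set.range (X : σ → MvPowerSeries σ K)) := by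
    rw [MvPolynomial.idealOfVars, Ideal.map_span, ← Set.range_comp]
    congr 2
    ext i : 1
    simp
  rw [← h1, ← Ideal.map_pow]
  exact Ideal.mem_map_of_mem _ hr

theorem mem_pow_of_coeff_eq_zero {σ K : Type*} [Finite σ] [CommRing K] (N : ℕ)
    (h : MvPowerSeries σ K) (hh : ∀ d : σ →₀ ℕ, d.degree < N → coeff d h = 0) :
    h ∈ (Ideal.span (Set.range (X : σ → MvPowerSeries σ K))) ^ N := by
  set e := toAdicCompletionAlgEquiv σ K
  have htr : truncTotal N h = 0 := by
    ext d
    rw [coeff_truncTotal_eq_ite]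
    split_ifs with hd
    · rw [hh d hd]; simp
    · simp
  have h1 : e h ∈ (MvPolynomial.idealOfVars σ K ^ N • ⊤ :
      Submodule (MvPolynomial σ K) (AdicCompletion (MvPolynomial.idealOfVars σ K) (MvPolynomial σ K))) := by
    rw [AdicCompletion.pow_smul_top_eq_ker_eval (MvPolynomial.idealOfVars_fg σ K), LinearMap.mem_ker,
      AdicCompletion.eval_apply]
    change (toAdicCompletion σ K h).val N = 0
    rw [toAdicCompletion_apply_eq_mk_truncTotal, htr]
    rfl
  have key : ∀ y ∈ (MvPolynomial.idealOfVars σ K ^ N • ⊤ :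
      Submodule (MvPolynomial σ K) (AdicCompletion (MvPolynomial.idealOfVars σ K) (MvPolynomial σ K))),
      e.symm y ∈ (Ideal.span (Set.range (X : σ → MvPowerSeries σ K))) ^ N := by
    intro y hy
    refine Submodule.smul_induction_on hy ?_ ?_
    · intro r hr m _
      rw [map_smul, Algebra.smul_def]
      apply Ideal.mul_mem_right
      rw [MvPowerSeries.algebraMap_apply', Algebra.algebraMap_self, MvPowerSeries.map_id]
      exact coe_mem_span_X_pow N r hr
    · intro x y hx hy
      rw [map_add]
      exact Ideal.add_mem _ hx hy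
  have := key _ h1
  rwa [AlgEquiv.symm_apply_apply] at this

theorem formallySmooth_of_charZero {F K : Type} [Field F] [CharZero F] [Field K] [Algebra F K] :
    Algebra.FormallySmooth F K := by
  obtain ⟨s, hs⟩ := exists_isTranscendenceBasis F K
  have : Algebra.IsAlgebraic (IntermediateField.adjoin F (Set.range ((↑) : s → K))) K :=
    hs.isAlgebraic_field
  have : CharZero (IntermediateField.adjoin F (Set.range ((↑) : s → K))) :=
    charZero_of_injective_algebraMap
      (algebraMap F (IntermediateField.adjoin F (Set.range ((↑) : s → K)))).injective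
  have : Algebra.IsSeparable (IntermediateField.adjoin F (Set.range ((↑) : s → K))) K :=
    Algebra.IsAlgebraic.isSeparable_of_perfectField
  exact Algebra.FormallySmooth.of_algebraicIndependent_of_isSeparable hs.1

theorem span_X_le_maximalIdeal {σ K : Type*} [Field K] :
    Ideal.span (Set.range (X : σ → MvPowerSeries σ K)) ≤ IsLocalRing.maximalIdeal (MvPowerSeries σ K) := by
  rw [Ideal.span_le]
  rintro _ ⟨i, rfl⟩
  rw [SetLike.mem_coe, IsLocalRing.mem_maximalIdeal, mem_nonunits_iff, MvPowerSeries.isUnit_iff_constantCoeff]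
  simp

theorem sub_truncTotal_mem {σ K : Type*} [Finite σ] [Field K] (N : ℕ) (f : MvPowerSeries σ K) :
    f - ((truncTotal N f : MvPolynomial σ K) : MvPowerSeries σ K) ∈
      IsLocalRing.maximalIdeal (MvPowerSeries σ K) ^ N := by
  refine Ideal.pow_right_mono span_X_le_maximalIdeal N (mem_pow_of_coeff_eq_zero N _ ?_)
  intro d hd
  rw [map_sub, MvPolynomial.coeff_coe, coeff_truncTotal _ hd, sub_self]

/-- Let `K` be a field of characteristic zero and `n ≥ 0`. Then `ℚ → K[[x_1, …, x_n]]` is formally
smooth for the adic topology of the maximal ideal of the power series ring. (`K` is taken in the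
lowest universe, where `ℚ` lives.) -/
theorem result (K : Type) [Field K] [CharZero K] (n : ℕ) :
    CAlgX.IsAdicFormallySmooth ℚ (MvPowerSeries (Fin n) K)
      (IsLocalRing.maximalIdeal (MvPowerSeries (Fin n) K)) := by
  intro A _ _ J hJ ψ ⟨k, hk⟩
  have hfs : Algebra.FormallySmooth ℚ K := formallySmooth_of_charZero
  -- lift on K
  let ι : K →ₐ[ℚ] MvPowerSeries (Fin n) K := (MvPowerSeries.C (σ := Fin n) (R := K)).toRatAlgHom
  obtain ⟨φ, hφ⟩ := Algebra.FormallySmooth.comp_surjective ℚ K J hJ (ψ.comp ι)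
  let _ : Algebra K A := φ.toRingHom.toAlgebra
  -- lifts of the variables
  let a : Fin n → A := fun i => Function.surjInv Ideal.Quotient.mk_surjective (ψ (X i))
  have ha : ∀ i, Ideal.Quotient.mk J (a i) = ψ (X i) := fun i =>
    Function.surjInv_eq Ideal.Quotient.mk_surjective _
  let g₀ : MvPolynomial (Fin n) K →ₐ[K] A := MvPolynomial.aeval a
  -- compatibility on polynomials
  have hcompat : ∀ p : MvPolynomial (Fin n) K,
      Ideal.Quotient.mk J (g₀ p) = ψ (p : MvPowerSeries (Fin n) K) := by
    intro p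
    have : ((Ideal.Quotient.mk J).comp g₀.toRingHom) =
        (ψ.toRingHom.comp (MvPolynomial.coeToMvPowerSeries.ringHom (R := K) (σ := Fin n))) := by
      apply MvPolynomial.ringHom_ext
      · intro r
        have := AlgHom.congr_fun hφ r
        simp only [AlgHom.comp_apply, Ideal.Quotient.mkₐ_eq_mk] at this
        simpa [g₀, ι, RingHom.algebraMap_toAlgebra] using this
      · intro i
        simp [g₀, ha]
    exact RingHom.congr_fun this p
  set N := 2 * k with hN
  set I := MvPolynomial.idealOfVars (Fin n) K with hI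
  have hIk : I ^ k ≤ Ideal.comap g₀.toRingHom J := by
    intro p hp
    rw [Ideal.mem_comap, ← Ideal.Quotient.eq_zero_iff_mem]
    rw [AlgHom.toRingHom_eq_coe, RingHom.coe_coe, hcompat]
    apply hk
    exact Ideal.pow_right_mono span_X_le_maximalIdeal k (coe_mem_span_X_pow k p hp)
  have hIN : I ^ N ≤ RingHom.ker g₀.toRingHom := by
    calc I ^ N = (I ^ k) ^ 2 := by rw [← pow_mul, mul_comm]
      _ ≤ (Ideal.comap g₀.toRingHom J) ^ 2 := Ideal.pow_right_mono hIk 2
      _ ≤ Ideal.comap g₀.toRingHom (J ^ 2) := Ideal.le_comap_pow _ _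
      _ = RingHom.ker g₀.toRingHom := by rw [hJ]; rfl
  let g : MvPolynomial (Fin n) K ⧸ I ^ N →+* A :=
    Ideal.Quotient.lift (I ^ N) g₀.toRingHom (fun p hp => hIN hp)
  let χ₀ : MvPowerSeries (Fin n) K →+* A := g.comp (truncTotalAlgHom (Fin n) K N).toRingHom
  refine ⟨χ₀.toRatAlgHom, ?_⟩
  ext f
  simp only [AlgHom.comp_apply, Ideal.Quotient.mkₐ_eq_mk, RingHom.toRatAlgHom_apply]
  have h1 : χ₀ f = g₀ (truncTotal N f) := by
    simp only [χ₀, g, RingHom.comp_apply, AlgHom.toRingHom_eq_coe, RingHom.coe_coe,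
      truncTotalAlgHom_apply]
    exact Ideal.Quotient.lift_mk _ _ _
  rw [h1, hcompat]
  have h2 := sub_truncTotal_mem N f
  have h3 : f - ((truncTotal N f : MvPolynomial (Fin n) K) : MvPowerSeries (Fin n) K) ∈
      IsLocalRing.maximalIdeal (MvPowerSeries (Fin n) K) ^ k :=
    Ideal.pow_le_pow_right (by omega) h2
  have h4 := hk _ h3
  rw [map_sub, sub_eq_zero] at h4
  exact h4.symm

end Groth.Agent.S9321
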