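import Groth.Statements.S3291
import Mathlib.Tactic

set_option autoImplicit false
universe u
open Finset
open LambdaRing

namespace Groth.Agent.S3291

variable {K : Type u} [CommRing K] [LambdaRing.LambdaOps K]

theorem gamma_one (x : K) : LambdaRing.gamma 1 x = x := by
  simp [LambdaRing.gamma, Finset.sum_range_succ, LambdaRing.LambdaOps.lam_one]

/-- the generating set -/
def gen (P : LambdaRing.PosStructure K) (n : ℕ) : Set K :=
  {y | ∃ (l : List (ℕ × K)), (∀ p ∈ l, P.aug p.2 = 0) ∧ n ≤ (l.map Prod.fst).sum ∧
        y = (l.map fun p => LambdaRing.gamma p.1 p.2).prod}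

theorem filtration_of_ne_zero (P : LambdaRing.PosStructure K) {n : ℕ} (hn : n ≠ 0) :
    LambdaRing.gammaFiltration P n = AddSubgroup.closure (gen P n) := by
  simp [LambdaRing.gammaFiltration, hn, gen]

theorem mul_gen_mem (P : LambdaRing.PosStructure K) {n : ℕ} (a y : K) (hy : y ∈ gen P n) :
    a * y ∈ AddSubgroup.closure (gen P n) := by
  obtain ⟨l, hl, hsum, rfl⟩ := hy
  have hsplit : a = (a - ((P.aug a : ℤ) : K)) + ((P.aug a : ℤ) : K) := by ring
  rw [hsplit, add_mul]
  apply AddSubgroup.add_mem
  · apply AddSubgroup.subset_closure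
    refine ⟨(1, a - ((P.aug a : ℤ) : K)) :: l, ?_, ?_, ?_⟩
    · intro p hp
      rcases List.mem_cons.mp hp with rfl | hp
      · simp
      · exact hl p hp
    · simp only [List.map_cons, List.sum_cons]
      omega
    · simp only [List.map_cons, List.prod_cons, gamma_one]
  · rw [← zsmul_eq_mul]
    apply AddSubgroup.zsmul_mem
    apply AddSubgroup.subset_closure
    exact ⟨l, hl, hsum, rfl⟩

theorem mul_mem_closure (P : LambdaRing.PosStructure K) {n : ℕ} (a x : K)
    (hx : x ∈ AddSubgroup.closure (gen P n)) : a * x ∈ AddSubgroup.closure (gen P n) := by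
  induction hx using AddSubgroup.closure_induction with
  | mem y hy => exact mul_gen_mem P a y hy
  | zero => rw [mul_zero]; exact AddSubgroup.zero_mem _
  | add y z _ _ hy hz => rw [mul_add]; exact AddSubgroup.add_mem _ hy hz
  | neg y _ hy => rw [mul_neg]; exact AddSubgroup.neg_mem _ hy

theorem part1 (P : LambdaRing.PosStructure K) (n : ℕ) (a x : K)
    (hx : x ∈ LambdaRing.gammaFiltration P n) : a * x ∈ LambdaRing.gammaFiltration P n := by
  by_cases hn : n = 0
  · subst hn
    simp [LambdaRing.gammaFiltration]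
  · rw [filtration_of_ne_zero P hn] at hx ⊢
    exact mul_mem_closure P a x hx

theorem gen_mul_gen (P : LambdaRing.PosStructure K) {m n : ℕ} (x y : K) (hx : x ∈ gen P m)
    (hy : y ∈ gen P n) : x * y ∈ gen P (m + n) := by
  obtain ⟨lx, hlx, hsx, rfl⟩ := hx
  obtain ⟨ly, hly, hsy, rfl⟩ := hy
  refine ⟨lx ++ ly, ?_, ?_, ?_⟩
  · intro p hp
    rcases List.mem_append.mp hp with hp | hp
    · exact hlx p hp
    · exact hly p hp
  · simp only [List.map_append, List.sum_append]
    omega
  · simp only [List.map_append, List.prod_append]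

theorem result (K : Type u) [CommRing K] [LambdaRing.LambdaOps K] (P : LambdaRing.PosStructure K) :
    (∀ (n : ℕ) (a x : K), x ∈ LambdaRing.gammaFiltration P n → a * x ∈ LambdaRing.gammaFiltration P n) ∧
    ∀ (m n : ℕ) (x y : K), x ∈ LambdaRing.gammaFiltration P m → y ∈ LambdaRing.gammaFiltration P n →
      x * y ∈ LambdaRing.gammaFiltration P (m + n) := by
  refine ⟨part1 P, ?_⟩
  intro m n x y hx hy
  by_cases hm : m = 0
  · subst hm
    rw [zero_add]
    exact part1 P n x y hy
  by_cases hn : n = 0
  · subst hn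
    rw [add_zero, mul_comm]
    exact part1 P m y x hx
  have hmn : m + n ≠ 0 := by omega
  rw [filtration_of_ne_zero P hm] at hx
  rw [filtration_of_ne_zero P hn] at hy
  rw [filtration_of_ne_zero P hmn]
  induction hx using AddSubgroup.closure_induction with
  | mem x hx =>
    induction hy using AddSubgroup.closure_induction with
    | mem y hy => exact AddSubgroup.subset_closure (gen_mul_gen P x y hx hy)
    | zero => rw [mul_zero]; exact AddSubgroup.zero_mem _
    | add y z _ _ hy hz => rw [mul_add]; exact AddSubgroup.add_mem _ hy hz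
    | neg y _ hy => rw [mul_neg]; exact AddSubgroup.neg_mem _ hy
  | zero => rw [zero_mul]; exact AddSubgroup.zero_mem _
  | add x z _ _ hx hz => rw [add_mul]; exact AddSubgroup.add_mem _ hx hz
  | neg x _ hx => rw [neg_mul]; exact AddSubgroup.neg_mem _ hx

end Groth.Agent.S3291
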