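import Groth.Statements.S8649
import Mathlib

set_option autoImplicit false
universe u
open Finset
open LambdaRing

namespace Groth.Agent.S8649


open PowerSeries in
theorem lamSeries_add {K : Type u} [CommRing K] [LambdaRing.LambdaOps K] (x y : K) :
    LambdaRing.lamSeries (x + y) = LambdaRing.lamSeries x * LambdaRing.lamSeries y := by
  ext k
  simp only [LambdaRing.lamSeries, PowerSeries.coeff_mk, PowerSeries.coeff_mul,
    LambdaRing.LambdaOps.lam_add]
  rw [Finset.Nat.sum_antidiagonal_eq_sum_range_succ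
    (fun i j => LambdaRing.LambdaOps.lam i x * LambdaRing.LambdaOps.lam j y)]

open PowerSeries in
theorem lamSeries_one {K : Type u} [CommRing K] [LambdaRing.LambdaOps K]
    (h1 : ∀ k : ℕ, 2 ≤ k → LambdaRing.LambdaOps.lam k (1 : K) = 0) :
    LambdaRing.lamSeries (1 : K) = 1 + PowerSeries.X := by
  ext k
  simp only [LambdaRing.lamSeries, PowerSeries.coeff_mk, map_add, PowerSeries.coeff_one,
    PowerSeries.coeff_X]
  rcases k with _ | _ | k
  · simp [LambdaRing.LambdaOps.lam_zero]
  · simp [LambdaRing.LambdaOps.lam_one]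
  · rw [h1 (k + 2) (by omega)]
    simp

open PowerSeries in
theorem lamSeries_zero {K : Type u} [CommRing K] [LambdaRing.LambdaOps K] :
    LambdaRing.lamSeries (0 : K) = 1 := by
  have h : LambdaRing.lamSeries (0 : K) = LambdaRing.lamSeries 0 * LambdaRing.lamSeries 0 := by
    conv_lhs => rw [← add_zero (0 : K)]
    exact lamSeries_add 0 0
  have hu : IsUnit (LambdaRing.lamSeries (0 : K)) := by
    rw [PowerSeries.isUnit_iff_constantCoeff]
    simp [LambdaRing.lamSeries, LambdaRing.LambdaOps.lam_zero]
  have h2 : LambdaRing.lamSeries (0 : K) * 1 = LambdaRing.lamSeries 0 * LambdaRing.lamSeries 0 := by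
    rw [mul_one]
    exact h
  exact (hu.mul_left_cancel h2).symm

open PowerSeries in
theorem lamSeries_natCast {K : Type u} [CommRing K] [LambdaRing.LambdaOps K]
    (h1 : ∀ k : ℕ, 2 ≤ k → LambdaRing.LambdaOps.lam k (1 : K) = 0) (m : ℕ) :
    LambdaRing.lamSeries ((m : ℕ) : K) = (1 + PowerSeries.X) ^ m := by
  induction m with
  | zero => simp [lamSeries_zero]
  | succ m ih => rw [Nat.cast_succ, lamSeries_add, ih, lamSeries_one h1, pow_succ]

open PowerSeries in
theorem coeff_one_add_X_pow {K : Type u} [CommRing K] (m k : ℕ) :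
    PowerSeries.coeff k ((1 + PowerSeries.X : PowerSeries K) ^ m) = (m.choose k : K) := by
  have h : ((1 + PowerSeries.X : PowerSeries K) ^ m) =
      (((1 + Polynomial.X : Polynomial K) ^ m : Polynomial K) : PowerSeries K) := by
    simp
  rw [h, Polynomial.coeff_coe, Polynomial.coeff_one_add_X_pow]

theorem lam_add_natCast {K : Type u} [CommRing K] [LambdaRing.LambdaOps K]
    (h1 : ∀ k : ℕ, 2 ≤ k → LambdaRing.LambdaOps.lam k (1 : K) = 0) (k m : ℕ) (x : K) :
    LambdaRing.LambdaOps.lam k (x + (m : K)) =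
      ∑ i ∈ Finset.range (k + 1), LambdaRing.LambdaOps.lam i x * ((m.choose (k - i) : ℕ) : K) := by
  have h := congrArg (PowerSeries.coeff k) (lamSeries_add x (m : K))
  rw [lamSeries_natCast h1, PowerSeries.coeff_mul] at h
  simp only [LambdaRing.lamSeries, PowerSeries.coeff_mk, coeff_one_add_X_pow] at h
  rw [h, Finset.Nat.sum_antidiagonal_eq_sum_range_succ
    (fun i j => LambdaRing.LambdaOps.lam i x * ((m.choose j : ℕ) : K))]

/-- Let K be a pre-λ-ring (λ^0 = 1, λ^1 = id, λ^n(x + y) = Σ λ^p(x) λ^q(y)) in which λ^k(1) = 0 for all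
k ≥ 2, so that λ_t(1) = 1 + t. Then the γ-operations, defined as the coefficients of λ_{t/(1−t)}(x)
(γ^0 = 1 and γ^n(x) = Σ_{j=1}^{n} C(n−1, j−1) λ^j(x) for n ≥ 1), satisfy γ^n(x) = λ^n(x + n − 1) for
all x and n. (The published statement is for a λ-ring, where λ_t also respects products and
composition; its proof uses only additivity and λ_t(1) = 1 + t, which are the hypotheses taken
here.) -/
theorem result (K : Type u) [CommRing K] [LambdaRing.LambdaOps K]
    (h1 : ∀ k : ℕ, 2 ≤ k → LambdaRing.LambdaOps.lam k (1 : K) = 0) (n : ℕ) (x : K) :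
    LambdaRing.gamma n x = LambdaRing.LambdaOps.lam n (x + (n : K) - 1) := by
  rcases n with _ | n
  · simp [LambdaRing.gamma, LambdaRing.LambdaOps.lam_zero]
  · have hx : x + ((n + 1 : ℕ) : K) - 1 = x + (n : K) := by push_cast; ring
    rw [hx, lam_add_natCast h1, LambdaRing.gamma, if_neg (Nat.succ_ne_zero n)]
    refine Finset.sum_congr rfl fun j hj => ?_
    rw [Finset.mem_range] at hj
    rcases j with _ | j
    · simp
    · rw [if_neg (Nat.succ_ne_zero j), mul_comm]
      congr 2
      have h2 : n + 1 - 1 = n := by omega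
      have h3 : j + 1 - 1 = j := by omega
      have h4 : n + 1 - (j + 1) = n - j := by omega
      rw [h2, h3, h4]
      exact (Nat.choose_symm (by omega)).symm

end Groth.Agent.S8649
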