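import Groth.Statements.S8650
import Mathlib

set_option autoImplicit false
universe u
open Finset
open LambdaRing

namespace Groth.Agent.S8650


open PowerSeries in
theorem lamSeries_add {K : Type u} [CommRing K] [LambdaRing.LambdaOps K] (x y : K) :
    LambdaRing.lamSeries (x + y) = LambdaRing.lamSeries x * LambdaRing.lamSeries y := by
  ext k
  simp only [LambdaRing.lamSeries, PowerSeries.coeff_mk, PowerSeries.coeff_mul,
    LambdaRing.LambdaOps.lam_add]
  rw [Finset.Nat.sum_antidiagonal_eq_sum_range_succ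
    (fun i j => LambdaRing.LambdaOps.lam i x * LambdaRing.LambdaOps.lam j y)]

open PowerSeries in
theorem lamSeries_one {K : Type u} [CommRing K] [LambdaRing.LambdaOps K]
    (h1 : ∀ k : ℕ, 2 ≤ k → LambdaRing.LambdaOps.lam k (1 : K) = 0) :
    LambdaRing.lamSeries (1 : K) = 1 + PowerSeries.X := by
  ext k
  simp only [LambdaRing.lamSeries, PowerSeries.coeff_mk, map_add, PowerSeries.coeff_one,
    PowerSeries.coeff_X]
  rcases k with _ | _ | k
  · simp [LambdaRing.LambdaOps.lam_zero]
  · simp [LambdaRing.LambdaOps.lam_one]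
  · rw [h1 (k + 2) (by omega)]
    simp

theorem lam_succ_eq {K : Type u} [CommRing K] [LambdaRing.LambdaOps K]
    (h1 : ∀ k : ℕ, 2 ≤ k → LambdaRing.LambdaOps.lam k (1 : K) = 0) (y : K) (k : ℕ) :
    LambdaRing.LambdaOps.lam (k + 1) y =
      LambdaRing.LambdaOps.lam (k + 1) (y - 1) + LambdaRing.LambdaOps.lam k (y - 1) := by
  have h : LambdaRing.lamSeries y = LambdaRing.lamSeries (y - 1) * (1 + PowerSeries.X) := by
    rw [← lamSeries_one h1, ← lamSeries_add, sub_add_cancel]
  have h2 := congrArg (PowerSeries.coeff (k + 1)) h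
  rw [mul_add, mul_one, map_add, PowerSeries.coeff_succ_mul_X] at h2
  simpa [LambdaRing.lamSeries] using h2

theorem lam_sub_one {K : Type u} [CommRing K] [LambdaRing.LambdaOps K]
    (h1 : ∀ k : ℕ, 2 ≤ k → LambdaRing.LambdaOps.lam k (1 : K) = 0) (y : K) (n : ℕ) :
    LambdaRing.LambdaOps.lam n (y - 1) =
      (-1 : K) ^ n * ∑ i ∈ Finset.range (n + 1), (-1 : K) ^ i * LambdaRing.LambdaOps.lam i y := by
  induction n with
  | zero => simp [LambdaRing.LambdaOps.lam_zero]
  | succ n ih =>
    have h := lam_succ_eq h1 y n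
    have h2 : LambdaRing.LambdaOps.lam (n + 1) (y - 1) =
        LambdaRing.LambdaOps.lam (n + 1) y - LambdaRing.LambdaOps.lam n (y - 1) := by
      rw [h]; ring
    rw [h2, ih, Finset.sum_range_succ _ (n + 1)]
    have h3 : ((-1 : K) ^ (n + 1)) * ((-1 : K) ^ (n + 1)) = 1 := by
      rw [← pow_add, ← two_mul, pow_mul]; simp
    rw [mul_add, ← mul_assoc, h3, pow_succ]
    ring

/-- Let K be a pre-λ-ring (λ^0 = 1, λ^1 = id, additive formula) in which λ^k(1) = 0 for all k ≥ 2. Then
for every x ∈ K and every n, λ^n(x + n − 1) = (−1)^n Σ_{i=0}^{n} (−1)^i λ^i(x + n). (The published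
statement is for a λ-ring; its proof uses only additivity and λ_t(1) = 1 + t, the hypotheses taken
here.) -/
theorem result (K : Type u) [CommRing K] [LambdaRing.LambdaOps K]
    (h1 : ∀ k : ℕ, 2 ≤ k → LambdaRing.LambdaOps.lam k (1 : K) = 0) (n : ℕ) (x : K) :
    LambdaRing.LambdaOps.lam n (x + (n : K) - 1) =
      (-1 : K) ^ n * ∑ i ∈ range (n + 1), (-1 : K) ^ i * LambdaRing.LambdaOps.lam i (x + (n : K)) := by
  exact lam_sub_one h1 (x + (n : K)) n

end Groth.Agent.S8650
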