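import Groth.Statements.S8651
import Mathlib
import Groth.Agent.S8649
import Groth.Agent.S8650

set_option autoImplicit false
universe u
open Finset
open LambdaRing

namespace Groth.Agent.S8651

theorem lam_add_of_line {A : Type u} [CommRing A] [LambdaRing.LambdaOps A] (v y : A)
    (hy : ∀ j : ℕ, 2 ≤ j → LambdaRing.LambdaOps.lam j y = 0) (k : ℕ) :
    LambdaRing.LambdaOps.lam (k + 1) (v + y) =
      LambdaRing.LambdaOps.lam (k + 1) v + LambdaRing.LambdaOps.lam k v * y := by
  rw [LambdaRing.LambdaOps.lam_add, Finset.sum_range_succ, Finset.sum_range_succ]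
  rw [Finset.sum_eq_zero]
  · have e1 : k + 1 - k = 1 := by omega
    have e2 : k + 1 - (k + 1) = 0 := by omega
    rw [e1, e2, LambdaRing.LambdaOps.lam_one, LambdaRing.LambdaOps.lam_zero]
    ring
  · intro i hi
    rw [Finset.mem_range] at hi
    rw [hy (k + 1 - i) (by omega), mul_zero]

theorem gamma_add_sub_one {A : Type u} [CommRing A] [LambdaRing.LambdaOps A]
    (h1 : ∀ k : ℕ, 2 ≤ k → LambdaRing.LambdaOps.lam k (1 : A) = 0) (z y : A)
    (hy : ∀ j : ℕ, 2 ≤ j → LambdaRing.LambdaOps.lam j y = 0) (k : ℕ) :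
    LambdaRing.gamma (k + 1) (z + (y - 1)) =
      LambdaRing.gamma (k + 1) z + LambdaRing.gamma k z * (y - 1) := by
  rw [Groth.Agent.S8649.result A h1, Groth.Agent.S8649.result A h1, Groth.Agent.S8649.result A h1]
  have e1 : z + (y - 1) + ((k + 1 : ℕ) : A) - 1 = (z + (k : A) - 1) + y := by push_cast; ring
  have e2 : z + ((k + 1 : ℕ) : A) - 1 = z + (k : A) := by push_cast; ring
  rw [e1, e2, lam_add_of_line _ _ hy]
  have h3 := Groth.Agent.S8650.lam_succ_eq h1 (z + (k : A)) k
  have e3 : z + (k : A) - 1 = z + (k : A) - 1 := rfl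
  rw [h3]
  ring

theorem gamma_finset {A : Type u} [CommRing A] [LambdaRing.LambdaOps A]
    (h1 : ∀ k : ℕ, 2 ≤ k → LambdaRing.LambdaOps.lam k (1 : A) = 0) {ι : Type*} [DecidableEq ι]
    (y : ι → A) (hy : ∀ (i : ι) (j : ℕ), 2 ≤ j → LambdaRing.LambdaOps.lam j (y i) = 0)
    (s : Finset ι) : ∀ k : ℕ,
    LambdaRing.gamma k (∑ i ∈ s, y i - (s.card : A)) =
      ∑ t ∈ s.powersetCard k, ∏ i ∈ t, (y i - 1) := by
  induction s using Finset.induction_on with
  | empty =>
    intro k
    rcases k with _ | k
    · simp [LambdaRing.gamma]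
    · rw [Finset.powersetCard_eq_empty.mpr (by simp)]
      simp only [Finset.sum_empty, Finset.card_empty, Nat.cast_zero, sub_zero]
      rw [Groth.Agent.S8649.result A h1]
      have e : (0 : A) + ((k + 1 : ℕ) : A) - 1 = ((k : ℕ) : A) := by push_cast; ring
      rw [e]
      have := congrArg (PowerSeries.coeff (k + 1)) (Groth.Agent.S8649.lamSeries_natCast h1 k)
      rw [Groth.Agent.S8649.coeff_one_add_X_pow] at this
      simp only [LambdaRing.lamSeries, PowerSeries.coeff_mk] at this
      rw [this, Nat.choose_succ_self, Nat.cast_zero]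
  | insert a s ha ih =>
    intro k
    have e : ∑ i ∈ insert a s, y i - ((insert a s).card : A) =
        (∑ i ∈ s, y i - (s.card : A)) + (y a - 1) := by
      rw [Finset.sum_insert ha, Finset.card_insert_of_notMem ha]
      push_cast
      ring
    rw [e]
    rcases k with _ | k
    · simp [LambdaRing.gamma]
    · rw [gamma_add_sub_one h1 _ _ (hy a), ih, ih, Finset.powersetCard_succ_insert ha,
        Finset.sum_union]
      · congr 1
        rw [Finset.sum_image]
        · rw [Finset.sum_mul]
          refine Finset.sum_congr rfl fun t ht => ?_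
          have hat : a ∉ t := fun h => ha (Finset.mem_powersetCard.mp ht |>.1 h)
          rw [Finset.prod_insert hat, mul_comm]
        · intro t ht t' ht' htt
          have hat : a ∉ t := fun h => ha (Finset.mem_powersetCard.mp ht |>.1 h)
          have hat' : a ∉ t' := fun h => ha (Finset.mem_powersetCard.mp ht' |>.1 h)
          rw [← Finset.erase_insert hat, ← Finset.erase_insert hat', htt]
      · rw [Finset.disjoint_left]
        intro t ht ht'
        rw [Finset.mem_image] at ht'
        obtain ⟨t', _, rfl⟩ := ht'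
        exact ha (Finset.mem_powersetCard.mp ht |>.1 (Finset.mem_insert_self a t'))

/-- Let A be a pre-λ-ring (λ^0 = 1, λ^1 = id, additive formula) in which λ^k(1) = 0 for all k ≥ 2, and
let y_1, …, y_n ∈ A satisfy λ^j(y_i) = 0 for every j ≥ 2; put x = Σ_i y_i. Then for every k the
element γ^k(x − n) (γ-operations: the coefficients of λ_{t/(1−t)}) equals the k-th elementary
symmetric function of y_1 − 1, …, y_n − 1, namely the sum over the k-element subsets s of the index
set of Π_{i ∈ s} (y_i − 1); in particular γ^k(x − n) = 0 for k > n. (The published statement is for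
a λ-ring; its proof uses only additivity and λ_t(1) = 1 + t, the hypotheses taken here.) -/
theorem result (A : Type u) [CommRing A] [LambdaRing.LambdaOps A]
    (h1 : ∀ k : ℕ, 2 ≤ k → LambdaRing.LambdaOps.lam k (1 : A) = 0) (n : ℕ) (y : Fin n → A)
    (hy : ∀ (i : Fin n) (j : ℕ), 2 ≤ j → LambdaRing.LambdaOps.lam j (y i) = 0) (k : ℕ) :
    LambdaRing.gamma k (∑ i : Fin n, y i - (n : A)) =
      ∑ s ∈ (univ : Finset (Fin n)).powersetCard k, ∏ i ∈ s, (y i - 1) := by
  have h := gamma_finset h1 y hy (Finset.univ : Finset (Fin n)) k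
  rw [Finset.card_univ, Fintype.card_fin] at h
  exact h

end Groth.Agent.S8651
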