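import Groth.Statements.S8703
import Groth.Agent.Lib.Helper26.LambdaAdams

set_option autoImplicit false
universe u
open LambdaRing

namespace Groth.Agent.S8703

open Groth.Agent.Lib.Helper26.LambdaAdams PowerSeries Finset

theorem map_lamSeries {K K' : Type u} [CommRing K] [CommRing K']
    [LambdaRing.LambdaOps K] [LambdaRing.LambdaOps K'] (f : K →+* K')
    (hf : LambdaRing.IsLambdaHom f) (x : K) :
    PowerSeries.map f (lamSeries x) = lamSeries (f x) := by
  ext n
  rw [coeff_map, coeff_lamSeries, coeff_lamSeries, hf]

theorem map_derivative {K K' : Type u} [CommRing K] [CommRing K'] (f : K →+* K') (F : K⟦X⟧) :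
    PowerSeries.map f (derivative K F) = derivative K' (PowerSeries.map f F) := by
  ext n
  rw [coeff_map, coeff_derivative, coeff_derivative, coeff_map, map_mul, map_add, map_natCast,
    map_one]



/-- The Adams operations commute with λ-homomorphisms, and conversely, if K and K' are pre-λ-rings which
are algebras over the rationals, a ring homomorphism f : K → K' commuting with the ψ^k for all k ≥ 1
is a λ-homomorphism (commutes with all λ^i), the λ^i being expressible through the ψ^k in
characteristic zero. -/
theorem result (K K' : Type u) [CommRing K] [CommRing K']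
    [LambdaRing.LambdaOps K] [LambdaRing.LambdaOps K'] [Algebra ℚ K] [Algebra ℚ K'] (f : K →+* K') :
    LambdaRing.IsLambdaHom f ↔
      ∀ k : ℕ, 1 ≤ k → ∀ x : K, f (LambdaRing.adamsOp k x) = LambdaRing.adamsOp k (f x) := by
  constructor
  · intro hf k hk x
    obtain ⟨j, rfl⟩ : ∃ j, k = j + 1 := ⟨k - 1, by omega⟩
    have h1 : PowerSeries.map f (logDerivSeries x) = logDerivSeries (f x) := by
      apply logDeriv_unique
      rw [← map_lamSeries f hf, ← map_derivative, deriv_lamSeries, map_mul]
    rw [adamsOp_succ, adamsOp_succ, ← h1, coeff_map, map_mul, map_pow, map_neg, map_one]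
  · intro h n
    induction n using Nat.strong_induction_on with
    | _ n ih =>
      intro x
      cases n with
      | zero => rw [LambdaOps.lam_zero, LambdaOps.lam_zero, map_one]
      | succ n =>
        have h1 := congrArg f (newton n x)
        rw [map_mul, map_add, map_natCast, map_one, map_sum] at h1
        have h2 := newton n (f x)
        have h3 : ∑ p ∈ antidiagonal n, f (((-1) ^ p.1 * adamsOp (p.1 + 1) x) * LambdaOps.lam p.2 x) =
            ∑ p ∈ antidiagonal n, ((-1) ^ p.1 * adamsOp (p.1 + 1) (f x)) * LambdaOps.lam p.2 (f x) := by
          apply Finset.sum_congr rfl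
          intro p hp
          have hp2 : p.2 < n + 1 := by
            have := Finset.mem_antidiagonal.1 hp
            omega
          rw [map_mul, map_mul, map_pow, map_neg, map_one, h (p.1 + 1) (by omega), ih p.2 hp2]
        rw [h3, ← h2] at h1
        exact (natCast_succ_isUnit (K := K') n).mul_left_injective h1

end Groth.Agent.S8703
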