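import Groth.Statements.S8686
import Groth.Agent.Lib.Helper26.LambdaAdams
import Mathlib.Tactic
-- import your own Groth.Agent.* helpers here

set_option autoImplicit false
universe u
open LambdaRing

namespace Groth.Agent.S8686

/-- Let K be a pre-λ-ring with λ^n(1) = 0 for all n ≥ 2, i.e. λ_t(1) = 1 + t. Then the Adams operations,
defined for k ≥ 1 through (d/dt λ_t(x)) · λ_t(x)⁻¹ = Σ_{k ≥ 1} (−1)^{k−1} ψ^k(x) t^{k−1}, satisfy
ψ^k(1) = 1 for every k ≥ 1. (The published statement is for a λ-ring in the strict sense; this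
identity uses only λ_t(1) = 1 + t, the hypothesis taken here.) -/
theorem result (K : Type u) [CommRing K] [LambdaRing.LambdaOps K]
    (h1 : ∀ n : ℕ, 2 ≤ n → LambdaRing.LambdaOps.lam n (1 : K) = 0) (k : ℕ) (hk : 1 ≤ k) :
    LambdaRing.adamsOp k (1 : K) = 1 := by
  open PowerSeries Groth.Agent.Lib.Helper26.LambdaAdams in
  have hlam : lamSeries (1 : K) = 1 + PowerSeries.X := by
    ext n
    rw [coeff_lamSeries, map_add, PowerSeries.coeff_one, PowerSeries.coeff_X]
    rcases n with _ | _ | n
    · simp [LambdaOps.lam_zero]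
    · simp [LambdaOps.lam_one]
    · rw [h1 _ (by omega)]; simp
  open PowerSeries Groth.Agent.Lib.Helper26.LambdaAdams in
  have hP : PowerSeries.mk (fun n : ℕ => ((-1 : K)) ^ n) = logDerivSeries (1 : K) := by
    apply logDeriv_unique
    rw [hlam]
    have hd : PowerSeries.derivative K (1 + PowerSeries.X) = 1 := by
      rw [map_add, PowerSeries.derivative_X, Derivation.map_one_eq_zero, zero_add]
    rw [hd]
    ext n
    rw [mul_add, mul_one, map_add]
    rcases n with _ | n
    · simp
    · rw [PowerSeries.coeff_succ_mul_X, PowerSeries.coeff_mk, PowerSeries.coeff_mk]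
      simp [PowerSeries.coeff_one, pow_succ]
  obtain ⟨k, rfl⟩ : ∃ j, k = j + 1 := ⟨k - 1, by omega⟩
  open Groth.Agent.Lib.Helper26.LambdaAdams in
  rw [adamsOp_succ, ← hP, PowerSeries.coeff_mk, ← pow_add, Even.neg_one_pow ⟨k, rfl⟩]

end Groth.Agent.S8686
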