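import Groth.Statements.S4373
import Groth.Agent.Lib.Lead.Inv5
import Groth.Agent.Lib.Lead.QcqsLoc

set_option autoImplicit false
universe u
open CategoryTheory CategoryTheory.Limits AlgebraicGeometry
open EGA2

namespace Groth.Agent.S4373

open Groth.Agent.Lib.Lead.Inv Groth.Agent.Lib.Lead.QCohAff Groth.Agent.Lib.Lead.QcqsLoc
  Groth.Agent.Lib.Helper35.GlobGen TopologicalSpace in
theorem aux (X : Scheme.{u}) [X.IsQuasiAffine] (L : X.Modules)
    (hL : PicF.IsInvertible L) : CohB1.IsAmple L := by
  haveI : L.IsQuasicoherent := isQuasicoherent_of_isInvertible hL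
  refine ⟨hL, inferInstance, fun x => ?_⟩
  obtain ⟨U₀, hxU₀, e₀, he₀⟩ := (isInvertible_iff_exists_isGen.mp hL) x
  obtain ⟨_, ⟨r, hr, rfl⟩, hxr, hrU₀⟩ :=
    Opens.isBasis_iff_nbhd.mp (Scheme.IsQuasiAffine.isBasis_basicOpen X) hxU₀
  -- the generator on `D(r)`
  have ht : IsGen L (X.basicOpen r) (L.presheaf.map (homOfLE hrU₀).op e₀) := he₀.res hrU₀
  -- extend `r^n • t` to a global section
  obtain ⟨n, σ, hσ⟩ := exists_res_eq_pow_smul_of_qcqs L (U := ⊤)
    (by exact CompactSpace.isCompact_univ) (by exact isQuasiSeparated_univ) r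
    (L.presheaf.map (homOfLE hrU₀).op e₀)
  set s₀ : Coh.structureModule X ⟶ L := secHom L σ with hs₀
  have hle : X.basicOpen r ≤ CohB1.genLocus L s₀ := by
    rw [le_genLocus_iff_isGen, hs₀, val_secHom, hσ]
    have hunit : IsUnit ((X.presheaf.map (homOfLE (X.basicOpen_le r)).op r) ^ n) :=
      (RingedSpace.isUnit_res_basicOpen X.toRingedSpace r).pow n
    have := (ht.isGen_smul_iff ((X.presheaf.map (homOfLE (X.basicOpen_le r)).op r) ^ n)
      (le_refl (X.basicOpen r))).mpr (le_of_eq (X.basicOpen_of_isUnit hunit).symm)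
    rw [res_self] at this
    exact this
  obtain ⟨ι⟩ := Groth.Agent.Lib.Helper60.TensorLib.nonempty_tensorMod_unit_left L
  refine ⟨0, secSmul r s₀ ≫ ι.inv, ?_⟩
  have hgl : CohB1.genLocus _ (secSmul r s₀ ≫ ι.inv) = X.basicOpen r := by
    have h1 := genLocus_comp_iso (secSmul r s₀) ι.symm
    have h2 := genLocus_secSmul hL r s₀
    exact (h1.trans h2).trans (inf_eq_left.mpr hle)
  change x ∈ CohB1.genLocus (CohB1.tensorMod (Coh.structureModule X) L) (secSmul r s₀ ≫ ι.inv) ∧
    IsAffineOpen (CohB1.genLocus (CohB1.tensorMod (Coh.structureModule X) L)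
      (secSmul r s₀ ≫ ι.inv))
  rw [hgl]
  exact ⟨hxr, hr⟩

/-- Let X be a quasi-affine scheme and L an invertible O_X-module. Then L is ample. (The published
statement also asserts that L is very ample for the canonical morphism to the spectrum of the global
sections; that part is not stated here.) -/
theorem result (X : Scheme.{u}) [X.IsQuasiAffine] (L : X.Modules)
    (hL : PicF.IsInvertible L) : CohB1.IsAmple L := by
  exact aux X L hL

end Groth.Agent.S4373
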