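import Groth.Statements.S4374
import Groth.Agent.Lib.Lead.Ample2

set_option autoImplicit false
universe u
open CategoryTheory CategoryTheory.Limits AlgebraicGeometry
open EGA2

namespace Groth.Agent.S4374

open Groth.Agent.Lib.Lead.Inv in
theorem aux (X : Scheme.{u}) [CompactSpace X] (L L' : X.Modules)
    (hinv : ClSub.IsInverseOf L L') (hL : CohB1.IsAmple L) (hL' : CohB1.IsAmple L') :
    X.IsQuasiAffine := by
  obtain ⟨hLi, -, ha⟩ := hL
  obtain ⟨hLi', -, ha'⟩ := hL'
  obtain ⟨e⟩ := hinv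
  refine Scheme.IsQuasiAffine.of_forall_exists_mem_basicOpen X fun x => ?_
  obtain ⟨m, s, hxs, hs⟩ := ha x
  obtain ⟨n, s', hxs', hs'⟩ := ha' x
  obtain ⟨k, u, hu⟩ := exists_section_tensor hLi hLi' s s'
  obtain ⟨i1⟩ := nonempty_tensorPow_congr e (k + 1)
  obtain ⟨i2⟩ := nonempty_tensorPow_unit (X := X) (k + 1)
  obtain ⟨f, hf⟩ := exists_section_of_iso ⟨i1 ≪≫ i2⟩ u
  rw [genLocus_end] at hf
  refine ⟨(show Γ(X, ⊤) from val f ⊤), ?_, ?_⟩
  · rw [hf, hu]
    exact isAffineOpen_inf_genLocus (isInvertible_tensorPow hLi' _) s' hs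
  · rw [hf, hu]
    exact ⟨hxs, hxs'⟩

/-- Let X be a quasi-compact scheme and L, L' two O_X-modules with L ⊗ L' ≅ O_X (so L' is an inverse of
L). If L and L' are both ample, then X is quasi-affine. -/
theorem result (X : Scheme.{u}) [CompactSpace X] (L L' : X.Modules)
    (hinv : ClSub.IsInverseOf L L') (hL : CohB1.IsAmple L) (hL' : CohB1.IsAmple L') : X.IsQuasiAffine := by
  exact aux X L L' hinv hL hL'

end Groth.Agent.S4374
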