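import Groth.Statements.S12286
import Mathlib
import Groth.Agent.S12289

set_option autoImplicit false
universe u w m
open scoped TensorProduct
open DefT

namespace Groth.Agent.S12286

/-- Let A → B be a ring homomorphism, P a presentation of B over A and M a B-module. The canonical
B-linear map from the A-derivations Der_A(B, M) = Hom_B(Ω_{B/A}, M) to T^0(B/A, M) (the kernel of
Hom_B(L₀, M) → Hom_B(L₁, M), L₀ = B ⊗_R Ω_{R/A}), sending a derivation D to b ⊗ dr ↦ b·D(r̄), is
bijective. -/
theorem result
    (A B : Type u) [CommRing A] [CommRing B] [Algebra A B] (ι σ : Type w) (P : Algebra.Presentation A B ι σ)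
    (M : Type m) [AddCommGroup M] [Module B M] [Module A M] [IsScalarTower A B M] :
    Function.Bijective (CotT.derToT0 P M) := by
  constructor
  · intro D D' h
    have h' : CotT.derLift P M D = CotT.derLift P M D' := congrArg Subtype.val h
    apply Derivation.ext_of_adjoin_eq_top (Set.range P.val)
    · rw [Algebra.adjoin_range_eq_range_aeval, AlgHom.range_eq_top]
      exact P.aeval_val_surjective
    · rintro _ ⟨i, rfl⟩
      rw [← CotT.derLift_basis P M D i, ← CotT.derLift_basis P M D' i, h']
  · intro φ
    have hφ : (φ : CotT.L0 P →ₗ[B] M) ∘ₗ CotT.d1 P = 0 := φ.2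
    rw [Groth.Agent.S12289.comp_cotangentComplex_eq_zero_iff] at hφ
    have hker : LinearMap.ker P.toExtension.toKaehler ≤ LinearMap.ker (φ : CotT.L0 P →ₗ[B] M) := by
      intro z hz
      rw [LinearMap.mem_ker] at hz
      obtain ⟨y, rfl⟩ := (P.toExtension.exact_cotangentComplex_toKaehler z).mp hz
      exact LinearMap.congr_fun hφ y
    obtain ⟨ψ, hψ⟩ := Groth.Agent.S12289.exists_factor P.toExtension.toKaehler
      P.toExtension.toKaehler_surjective _ hker
    refine ⟨ψ.compDer (KaehlerDifferential.D A B), ?_⟩
    apply Subtype.ext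
    change CotT.derLift P M _ = (φ : CotT.L0 P →ₗ[B] M)
    refine (P.cotangentSpaceBasis).ext fun i => ?_
    rw [CotT.derLift_basis, ← hψ]
    simp only [LinearMap.coe_comp, Function.comp_apply]
    rw [Algebra.Generators.toKaehler_cotangentSpaceBasis]
    rfl

end Groth.Agent.S12286
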