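import Groth.Statements.S9319
import Groth.Agent.Lib.Helper97.JZNatural
import Groth.Agent.Lib.Helper49.MacLane

set_option autoImplicit false
universe u
open CAlg

namespace Groth.Agent.S9319

open TensorProduct in
/-- For a tower of fields `K ⊆ L ⊆ M`, the first map of the Jacobi–Zariski sequence, from `H_1(L_{L/K})
⊗_L M` to `H_1(L_{M/K})`, is injective; here `H_1(L)` denotes the first homology of the naive
cotangent complex and the map is the `M`-linear extension of the functoriality map. (The rest of the
six-term sequence is exact for any three rings, so for fields it is exact with a zero on the left.) -/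
theorem result {K L M : Type u} [Field K] [Field L]
    [Field M] [Algebra K L] [Algebra L M] [Algebra K M] [IsScalarTower K L M] :
    Function.Injective ((Algebra.H1Cotangent.map K K L M).liftBaseChange M) := by
  obtain ⟨p, hp⟩ := CharP.exists K
  rcases CharP.char_is_prime_or_zero K p with hpp | rfl
  · haveI : Fact p.Prime := ⟨hpp⟩
    letI : Algebra (ZMod p) K := ZMod.algebra K p
    letI : Algebra (ULift.{u} (ZMod p)) K := ULift.algebra' (ZMod p) K
    letI : Algebra (ULift.{u} (ZMod p)) L :=
      ((algebraMap K L).comp (algebraMap (ULift.{u} (ZMod p)) K)).toAlgebra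
    letI : Algebra (ULift.{u} (ZMod p)) M :=
      ((algebraMap K M).comp (algebraMap (ULift.{u} (ZMod p)) K)).toAlgebra
    haveI : IsScalarTower (ULift.{u} (ZMod p)) K L := IsScalarTower.of_algebraMap_eq (fun x => rfl)
    haveI : IsScalarTower (ULift.{u} (ZMod p)) K M := IsScalarTower.of_algebraMap_eq (fun x => rfl)
    haveI : CharP L p := charP_of_injective_algebraMap (algebraMap K L).injective p
    haveI : Algebra.FormallySmooth (ULift.{u} (ZMod p)) L :=
      Groth.Agent.Lib.Helper49.MacLane.formallySmooth_of_perfect p
    haveI : Subsingleton (Algebra.H1Cotangent (ULift.{u} (ZMod p)) L) :=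
      Algebra.FormallySmooth.subsingleton_h1Cotangent
    exact Groth.Agent.Lib.Helper97.JZNatural.liftBaseChange_injective (ULift.{u} (ZMod p)) K L M
  · haveI : CharZero K := CharP.charP_to_charZero K
    haveI : Algebra.FormallySmooth K L := Groth.Agent.S4524.formallySmooth_of_charZero
    haveI : Subsingleton (Algebra.H1Cotangent K L) :=
      Algebra.FormallySmooth.subsingleton_h1Cotangent
    exact Groth.Agent.Lib.Helper97.JZNatural.liftBaseChange_injective K K L M

end Groth.Agent.S9319
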