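import Groth.Statements.S4595
import Groth.Agent.Lib.Helper97.ArtinCot.Main
import Groth.Agent.Lib.Helper97.CartierH1

set_option autoImplicit false
universe u
open TensorProduct IsLocalRing
open EGA41

namespace Groth.Agent.S4595

/-- a nontrivial algebra over a ring of prime characteristic `p` has characteristic `p` -/
theorem charP_of_algebra (R S : Type u) [CommRing R] [CommRing S] [Algebra R S] [Nontrivial S]
    (p : ℕ) [Fact p.Prime] [CharP R p] : CharP S p := by
  have h0 : ((p : ℕ) : S) = 0 := by
    rw [← map_natCast (algebraMap R S), CharP.cast_eq_zero, map_zero]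
  obtain ⟨q, hq⟩ := CharP.exists S
  have hdvd : q ∣ p := (CharP.cast_eq_zero_iff S q p).mp h0
  rcases (Nat.dvd_prime (Fact.out : p.Prime)).mp hdvd with h1 | h1
  · exact absurd h1 (CharP.char_ne_one S q)
  · exact h1 ▸ hq

/-- Let A be an Artinian local ring of characteristic p > 0 with maximal ideal m of square zero and
residue field K, f_1, …, f_r ∈ A, and B = A[T_1, …, T_r]/(T_1^p − f_1, …, T_r^p − f_r). Then B is
local, and dim_K m = dim_{K'}(m'/m'²) (m', K' the maximal ideal and residue field of B) if and only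
if the d f_i ⊗ 1 are linearly independent in Ω_A ⊗_A K. -/
theorem result {A : Type u} [CommRing A]
    [IsArtinianRing A] [IsLocalRing A] (hm : maximalIdeal A ^ 2 = ⊥) (p : ℕ) [Fact p.Prime] [CharP A p]
    {r : ℕ} (f : Fin r → A) :
    let B := MvPolynomial (Fin r) A ⧸ Ideal.span (Set.range fun i => MvPolynomial.X i ^ p - MvPolynomial.C (f i))
    ∃ _ : IsLocalRing B,
      (Module.finrank (ResidueField A) (CotangentSpace A) = Module.finrank (ResidueField B) (CotangentSpace B) ↔
        LinearIndependent (ResidueField A) (fun i => (1 : ResidueField A) ⊗ₜ[A] KaehlerDifferential.D ℤ A (f i))) := by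
  intro B
  letI : Algebra (ZMod p) A := ZMod.algebra A p
  letI : Algebra (ULift.{u} (ZMod p)) A := ULift.algebra' (ZMod p) A
  refine ⟨(inferInstance : IsLocalRing (Groth.Agent.Lib.Helper97.ArtinCot.B p f)), ?_⟩
  have : CharP (ResidueField A) p := charP_of_algebra A _ p
  have : CharP (ResidueField (Groth.Agent.Lib.Helper97.ArtinCot.B p f)) p :=
    charP_of_algebra A _ p
  have : Algebra.FormallySmooth (ULift.{u} (ZMod p)) (ResidueField A) :=
    Groth.Agent.Lib.Helper49.MacLane.formallySmooth_of_perfect p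
  have : Algebra.FormallySmooth (ULift.{u} (ZMod p))
      (ResidueField (Groth.Agent.Lib.Helper97.ArtinCot.B p f)) :=
    Groth.Agent.Lib.Helper49.MacLane.formallySmooth_of_perfect p
  have key := Groth.Agent.Lib.Helper97.ArtinCot.main p f (ULift.{u} (ZMod p))
    (Groth.Agent.Lib.Helper97.CartierH1.pthPowerHyp_zmod p)
  refine key.trans ?_
  have h : ∀ c : ULift.{u} (ZMod p),
      KaehlerDifferential.D ℤ A (algebraMap (ULift.{u} (ZMod p)) A c) = 0 := by
    intro c
    obtain ⟨n, rfl⟩ : ∃ n : ℕ, (n : ULift.{u} (ZMod p)) = c :=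
      ⟨c.down.val, ULift.ext _ _ (by
        change ((c.down.val : ℕ) : ZMod p) = c.down
        exact ZMod.natCast_zmod_val _)⟩
    rw [map_natCast, Derivation.map_natCast]
  let E := (Groth.Agent.Lib.Helper97.ArtinCot.kaehlerIntEquiv (ULift.{u} (ZMod p)) A h).baseChange
    A (ResidueField A) _ _
  have hE : Groth.Agent.Lib.Helper97.ArtinCot.vec f (ULift.{u} (ZMod p)) =
      E.toLinearMap ∘ (fun i => (1 : ResidueField A) ⊗ₜ[A] KaehlerDifferential.D ℤ A (f i)) := by
    funext i
    simp [E, Groth.Agent.Lib.Helper97.ArtinCot.vec]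
  rw [hE]
  exact LinearMap.linearIndependent_iff E.toLinearMap (LinearEquiv.ker E)

end Groth.Agent.S4595
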