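import Groth.Statements.S10890
import Mathlib

set_option autoImplicit false
universe u
open CAlgX

namespace Groth.Agent.S10890

section
open Matrix

variable {R : Type u} [CommRing R]

theorem det_mul_rows {s p : ℕ} (X : Matrix (Fin s) (Fin p) R) (Y : Matrix (Fin p) (Fin s) R) :
    det (X * Y) = ∑ f : Fin s → Fin p, (∏ i, X i (f i)) * det (Y.submatrix f id) := by
  have h1 : X * Y = fun i => ∑ l, X i l • Y l := by
    ext i j
    simp [Matrix.mul_apply, Finset.sum_apply]
  rw [h1]
  have h2 := MultilinearMap.map_sum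
    ((Matrix.detRowAlternating : (Fin s → R) [⋀^Fin s]→ₗ[R] R).toMultilinearMap)
    (fun i l => X i l • Y l)
  simp only [AlternatingMap.coe_multilinearMap] at h2
  rw [show det (fun i => ∑ l, X i l • Y l) =
    (Matrix.detRowAlternating : (Fin s → R) [⋀^Fin s]→ₗ[R] R) (fun i => ∑ l, X i l • Y l) from rfl,
    h2]
  refine Finset.sum_congr rfl fun f _ => ?_
  have h3 := MultilinearMap.map_smul_univ
    ((Matrix.detRowAlternating : (Fin s → R) [⋀^Fin s]→ₗ[R] R).toMultilinearMap)
    (fun i => X i (f i)) (fun i => Y (f i))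
  simp only [AlternatingMap.coe_multilinearMap] at h3
  rw [h3, smul_eq_mul]
  rfl

theorem det_mul_cols {s p : ℕ} (X : Matrix (Fin s) (Fin p) R) (Y : Matrix (Fin p) (Fin s) R) :
    det (X * Y) = ∑ f : Fin s → Fin p, (∏ i, Y (f i) i) * det (X.submatrix id f) := by
  rw [← det_transpose, transpose_mul, det_mul_rows]
  refine Finset.sum_congr rfl fun f _ => ?_
  rw [← det_transpose (X.submatrix id f)]
  rfl

theorem fwd [IsLocalRing R] {n m r : ℕ} (A : Matrix (Fin n) (Fin m) R)
    (N' : Submodule R (Fin n → R)) (hc : IsCompl (LinearMap.range (Matrix.mulVecLin A)) N')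
    (hfr : Module.finrank R (LinearMap.range (Matrix.mulVecLin A)) = r) :
    CAlgX.minorIdeal A (r + 1) = ⊥ ∧ CAlgX.minorIdeal A r = ⊤ := by
  classical
  have hproj : Module.Projective R (LinearMap.range (Matrix.mulVecLin A)) :=
    Module.Projective.of_split (LinearMap.range (Matrix.mulVecLin A)).subtype
      (Submodule.projectionOnto _ N' hc) (Submodule.projectionOnto_comp_subtype hc)
  have hfree : Module.Free R (LinearMap.range (Matrix.mulVecLin A)) :=
    Module.free_of_flat_of_isLocalRing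
  let b : Module.Basis (Fin r) R (LinearMap.range (Matrix.mulVecLin A)) :=
    Module.finBasisOfFinrankEq R _ hfr
  let Blin : (Fin r → R) →ₗ[R] (Fin n → R) :=
    (LinearMap.range (Matrix.mulVecLin A)).subtype ∘ₗ (b.equivFun.symm : (Fin r → R) →ₗ[R] _)
  let Clin : (Fin m → R) →ₗ[R] (Fin r → R) :=
    (b.equivFun : _ →ₗ[R] (Fin r → R)) ∘ₗ (Matrix.mulVecLin A).rangeRestrict
  let Llin : (Fin n → R) →ₗ[R] (Fin r → R) :=
    (b.equivFun : _ →ₗ[R] (Fin r → R)) ∘ₗ (Submodule.projectionOnto _ N' hc)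
  have hBC : Blin ∘ₗ Clin = Matrix.mulVecLin A := by
    refine LinearMap.ext fun x => ?_
    simp [Blin, Clin]
  have hLB : Llin ∘ₗ Blin = LinearMap.id := by
    refine LinearMap.ext fun x => ?_
    change b.equivFun (Submodule.projectionOnto _ N' hc ((b.equivFun.symm x : _) : Fin n → R)) = x
    rw [Submodule.projectionOnto_apply_left, LinearEquiv.apply_symm_apply]
  have hCsurj : Function.Surjective Clin := by
    intro y
    obtain ⟨x, hx⟩ := (Matrix.mulVecLin A).surjective_rangeRestrict (b.equivFun.symm y)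
    refine ⟨x, ?_⟩
    change b.equivFun ((Matrix.mulVecLin A).rangeRestrict x) = y
    rw [hx, LinearEquiv.apply_symm_apply]
  obtain ⟨Slin, hS⟩ := Clin.exists_rightInverse_of_surjective (LinearMap.range_eq_top.2 hCsurj)
  have hA' : LinearMap.toMatrix' (Matrix.mulVecLin A) = A := LinearMap.toMatrix'_toLin' A
  have mBC : LinearMap.toMatrix' Blin * LinearMap.toMatrix' Clin = A := by
    rw [← LinearMap.toMatrix'_comp, hBC, hA']
  have mLB : LinearMap.toMatrix' Llin * LinearMap.toMatrix' Blin = 1 := by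
    rw [← LinearMap.toMatrix'_comp, hLB, LinearMap.toMatrix'_id]
  have mCS : LinearMap.toMatrix' Clin * LinearMap.toMatrix' Slin = 1 := by
    rw [← LinearMap.toMatrix'_comp, hS, LinearMap.toMatrix'_id]
  obtain ⟨B, hB⟩ : ∃ B, B = LinearMap.toMatrix' Blin := ⟨_, rfl⟩
  obtain ⟨C, hC⟩ : ∃ C, C = LinearMap.toMatrix' Clin := ⟨_, rfl⟩
  obtain ⟨L, hL⟩ : ∃ L, L = LinearMap.toMatrix' Llin := ⟨_, rfl⟩
  obtain ⟨S, hS'⟩ : ∃ S, S = LinearMap.toMatrix' Slin := ⟨_, rfl⟩
  rw [← hB, ← hC] at mBC
  rw [← hL, ← hB] at mLB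
  rw [← hC, ← hS'] at mCS
  constructor
  · unfold CAlgX.minorIdeal
    rw [Ideal.span_eq_bot]
    rintro _ ⟨⟨g, h⟩, rfl⟩
    change det (A.submatrix g h) = 0
    rw [← mBC, Matrix.submatrix_mul B C g id h Function.bijective_id, det_mul_rows]
    refine Finset.sum_eq_zero fun f _ => ?_
    have hni : ¬ Function.Injective f := by
      intro hinj
      have := Fintype.card_le_of_injective f hinj
      simp at this
    rw [Function.Injective] at hni
    push Not at hni
    obtain ⟨i, j, hij, hne⟩ := hni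
    rw [Matrix.det_zero_of_row_eq hne (by
      funext l
      simp [hij]), mul_zero]
  · rw [Ideal.eq_top_iff_one]
    have h1 : (1 : R) = det (L * (A * S)) := by
      rw [← mBC, Matrix.mul_assoc B C S, mCS, Matrix.mul_one, mLB, det_one]
    rw [h1, det_mul_rows]
    refine Ideal.sum_mem _ fun f _ => Ideal.mul_mem_left _ _ ?_
    have h2 : (A * S).submatrix f id = A.submatrix f id * S := by
      rw [Matrix.submatrix_mul A S f id id Function.bijective_id, Matrix.submatrix_id_id]
    rw [h2, det_mul_cols]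
    refine Ideal.sum_mem _ fun f' _ => Ideal.mul_mem_left _ _ ?_
    exact Ideal.subset_span ⟨(f, f'), rfl⟩

theorem bordered {r : ℕ} (Mb : Matrix (Fin (r + 1)) (Fin (r + 1)) R) (z : R)
    (hcol : ∀ k : Fin r, Mb (Fin.castSucc k) (Fin.last r) = 0)
    (hz : Mb (Fin.last r) (Fin.last r) = z) :
    det Mb = z * det (Mb.submatrix Fin.castSucc Fin.castSucc) := by
  rw [Matrix.det_succ_column Mb (Fin.last r), Fin.sum_univ_castSucc]
  have h0 : ∑ i : Fin r, (-1 : R) ^ ((Fin.castSucc i : ℕ) + (Fin.last r : ℕ)) *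
      Mb (Fin.castSucc i) (Fin.last r) *
      det (Mb.submatrix (Fin.castSucc i).succAbove (Fin.last r).succAbove) = 0 :=
    Finset.sum_eq_zero fun i _ => by rw [hcol, mul_zero, zero_mul]
  rw [h0, zero_add, hz, Fin.succAbove_last]
  have : ((Fin.last r : ℕ) + (Fin.last r : ℕ)) = 2 * r := by simp; ring
  rw [this, pow_mul]
  simp

theorem colmem [IsLocalRing R] {n m r : ℕ} (A : Matrix (Fin n) (Fin m) R)
    (h1 : CAlgX.minorIdeal A (r + 1) = ⊥) (g : Fin r → Fin n) (h : Fin r → Fin m)
    (hD : IsUnit (det (A.submatrix g h))) (l : Fin m) :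
    ∃ c : Fin r → R, (A.submatrix id h) *ᵥ c = fun a => A a l := by
  classical
  refine ⟨(A.submatrix g h)⁻¹ *ᵥ (fun i => A (g i) l), ?_⟩
  obtain ⟨c, hc⟩ : ∃ c, c = (A.submatrix g h)⁻¹ *ᵥ (fun i => A (g i) l) := ⟨_, rfl⟩
  rw [← hc]
  have hDc : (A.submatrix g h) *ᵥ c = fun i => A (g i) l := by
    rw [hc, Matrix.mulVec_mulVec, Matrix.mul_nonsing_inv _ hD, Matrix.one_mulVec]
  funext a
  have hmin : det (A.submatrix (Fin.snoc g a : Fin (r + 1) → Fin n)
      (Fin.snoc h l : Fin (r + 1) → Fin m)) = 0 := by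
    have : det (A.submatrix (Fin.snoc g a : Fin (r + 1) → Fin n)
        (Fin.snoc h l : Fin (r + 1) → Fin m)) ∈ CAlgX.minorIdeal A (r + 1) :=
      Ideal.subset_span ⟨(Fin.snoc g a, Fin.snoc h l), rfl⟩
    rw [h1] at this
    exact this
  obtain ⟨Mb, hMb⟩ : ∃ Mb, Mb = A.submatrix (Fin.snoc g a : Fin (r + 1) → Fin n)
      (Fin.snoc h l : Fin (r + 1) → Fin m) := ⟨_, rfl⟩
  rw [← hMb] at hmin
  have hsum := det_updateCol_sum Mb (Fin.last r) (Fin.snoc (fun i => - c i) 1 : Fin (r + 1) → R)
  rw [hmin, smul_zero] at hsum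
  have hcolk : ∀ k : Fin (r + 1), (∑ i : Fin (r + 1),
      (Fin.snoc (fun i => - c i) 1 : Fin (r + 1) → R) i • Mb k i) =
      A ((Fin.snoc g a : Fin (r + 1) → Fin n) k) l -
        ((A.submatrix id h) *ᵥ c) ((Fin.snoc g a : Fin (r + 1) → Fin n) k) := by
    intro k
    rw [Fin.sum_univ_castSucc]
    simp only [Fin.snoc_castSucc, Fin.snoc_last, hMb, Matrix.submatrix_apply, smul_eq_mul, one_mul,
      Matrix.mulVec, dotProduct, id_eq]
    rw [add_comm, sub_eq_add_neg, ← Finset.sum_neg_distrib]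
    congr 1
    exact Finset.sum_congr rfl fun i _ => by ring
  have hb := bordered (Mb.updateCol (Fin.last r) (fun k => ∑ i : Fin (r + 1),
      (Fin.snoc (fun i => - c i) 1 : Fin (r + 1) → R) i • Mb k i))
    (A a l - ((A.submatrix id h) *ᵥ c) a)
    (by
      intro k
      rw [Matrix.updateCol_self, hcolk, Fin.snoc_castSucc]
      have : ((A.submatrix id h) *ᵥ c) (g k) = ((A.submatrix g h) *ᵥ c) k := rfl
      rw [this, hDc, sub_self])
    (by
      rw [Matrix.updateCol_self, hcolk, Fin.snoc_last])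
  rw [hsum] at hb
  have hsub : (Mb.updateCol (Fin.last r) (fun k => ∑ i : Fin (r + 1),
      (Fin.snoc (fun i => - c i) 1 : Fin (r + 1) → R) i • Mb k i)).submatrix
      Fin.castSucc Fin.castSucc = A.submatrix g h := by
    ext k i
    rw [Matrix.submatrix_apply, Matrix.updateCol_ne (Fin.castSucc_lt_last i).ne, hMb]
    simp
  rw [hsub] at hb
  have := (hD.mul_left_eq_zero).1 hb.symm
  exact (sub_eq_zero.1 this).symm

theorem bwd [IsLocalRing R] {n m r : ℕ} (A : Matrix (Fin n) (Fin m) R)
    (h1 : CAlgX.minorIdeal A (r + 1) = ⊥) (h2 : CAlgX.minorIdeal A r = ⊤) :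
    ∃ N' : Submodule R (Fin n → R), IsCompl (LinearMap.range (Matrix.mulVecLin A)) N' ∧
      Module.finrank R (LinearMap.range (Matrix.mulVecLin A)) = r := by
  classical
  have hex : ∃ (g : Fin r → Fin n) (h : Fin r → Fin m), IsUnit (det (A.submatrix g h)) := by
    by_contra hno
    push Not at hno
    have hle : CAlgX.minorIdeal A r ≤ IsLocalRing.maximalIdeal R := by
      unfold CAlgX.minorIdeal
      rw [Ideal.span_le]
      rintro _ ⟨⟨g, h⟩, rfl⟩
      exact (IsLocalRing.mem_maximalIdeal _).2 (hno g h)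
    rw [h2] at hle
    exact (IsLocalRing.maximalIdeal.isMaximal R).ne_top (top_le_iff.1 hle)
  obtain ⟨g, h, hD⟩ := hex
  have K2 : ∀ c : Fin r → R, (A.submatrix g h) *ᵥ c = 0 → c = 0 := by
    intro c hc
    have := congrArg (fun v => (A.submatrix g h)⁻¹ *ᵥ v) hc
    simpa [Matrix.mulVec_mulVec, Matrix.nonsing_inv_mul _ hD] using this
  have K1 : ∀ v : Fin r → R, (A.submatrix g h) *ᵥ ((A.submatrix g h)⁻¹ *ᵥ v) = v := by
    intro v
    rw [Matrix.mulVec_mulVec, Matrix.mul_nonsing_inv _ hD, Matrix.one_mulVec]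
  have K3 : ∀ (c : Fin r → R) (i : Fin r),
      ((A.submatrix id h) *ᵥ c) (g i) = ((A.submatrix g h) *ᵥ c) i := fun c i => rfl
  have K4 : ∀ c : Fin r → R, (A.submatrix id h) *ᵥ c =
      A *ᵥ ((1 : Matrix (Fin m) (Fin m) R).submatrix id h *ᵥ c) := by
    intro c
    rw [Matrix.mulVec_mulVec]
    have := Matrix.mul_submatrix_one (Equiv.refl (Fin m)) h A
    simp only [Equiv.coe_refl, Equiv.refl_symm, Function.id_comp] at this
    rw [this]
  have hrange : LinearMap.range (Matrix.mulVecLin A) =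
      LinearMap.range (Matrix.mulVecLin (A.submatrix id h)) := by
    apply le_antisymm
    · rintro _ ⟨x, rfl⟩
      have hx : Matrix.mulVecLin A x = ∑ l, x l • (fun a => A a l) := by
        funext a
        simp [Matrix.mulVec, dotProduct, Finset.sum_apply, mul_comm]
      rw [hx]
      refine Submodule.sum_mem _ fun l _ => Submodule.smul_mem _ _ ?_
      obtain ⟨c, hc⟩ := colmem A h1 g h hD l
      exact ⟨c, hc⟩
    · rintro _ ⟨c, rfl⟩
      exact ⟨_, (K4 c).symm⟩
  have hinj : Function.Injective (Matrix.mulVecLin (A.submatrix id h)) := by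
    rw [injective_iff_map_eq_zero]
    intro c hc
    apply K2
    funext i
    rw [← K3]
    exact congrFun hc (g i)
  refine ⟨{ carrier := {v | ∀ i, v (g i) = 0}
            add_mem' := fun {v w} hv hw i => by simp [hv i, hw i]
            zero_mem' := fun i => rfl
            smul_mem' := fun a v hv i => by simp [hv i] }, ?_, ?_⟩
  · rw [hrange]
    constructor
    · rw [Submodule.disjoint_def]
      rintro _ ⟨c, rfl⟩ hN
      have : c = 0 := by
        apply K2
        funext i
        rw [← K3]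
        exact hN i
      rw [this, map_zero]
    · rw [codisjoint_iff, eq_top_iff]
      intro v _
      obtain ⟨c, hc⟩ : ∃ c, c = (A.submatrix g h)⁻¹ *ᵥ (fun i => v (g i)) := ⟨_, rfl⟩
      have hv : v = (A.submatrix id h) *ᵥ c + (v - (A.submatrix id h) *ᵥ c) := by abel
      rw [hv]
      refine Submodule.add_mem_sup ⟨c, rfl⟩ ?_
      intro i
      change v (g i) - ((A.submatrix id h) *ᵥ c) (g i) = 0
      rw [K3, hc, K1, sub_self]
  · rw [hrange, LinearMap.finrank_range_of_inj hinj, Module.finrank_fin_fun]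

end

/-- (i) ⇔ (ii): let R be a local ring, A an n × m matrix over R regarded as a linear map R^m → R^n, and
1 ≤ r ≤ n. Then the image of A is a direct summand of R^n of rank r if and only if every (r+1) ×
(r+1) minor of A is zero and the r × r minors of A generate the unit ideal. (The printed statement
is over an arbitrary ring with 'direct summand of rank r'; its proof localises at once, and this row
states the local case, where a direct summand of R^n is free and its rank is its finrank.) -/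
theorem result (R : Type u) [CommRing R] [IsLocalRing R] (n m r : ℕ)
    (hr : 1 ≤ r) (hrn : r ≤ n) (A : Matrix (Fin n) (Fin m) R) :
    (∃ N' : Submodule R (Fin n → R), IsCompl (LinearMap.range (Matrix.mulVecLin A)) N' ∧
        Module.finrank R (LinearMap.range (Matrix.mulVecLin A)) = r) ↔
      (CAlgX.minorIdeal A (r + 1) = ⊥ ∧ CAlgX.minorIdeal A r = ⊤) := by
  constructor
  · rintro ⟨N', hc, hfr⟩
    exact fwd A N' hc hfr
  · rintro ⟨h1, h2⟩
    exact bwd A h1 h2

end Groth.Agent.S10890
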