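import Groth.Statements.S17983
import Mathlib.FieldTheory.Minpoly.IsIntegrallyClosed
import Mathlib.Analysis.Complex.Polynomial.Basic
import Mathlib.Tactic

set_option autoImplicit false
universe u
open WeilNum

namespace Groth.Agent.S17983

open Polynomial

theorem dvd_of_root {K : Type*} [Field K] [CharZero K] (π : K) (hπ : IsIntegral ℤ π) (w : ℂ)
    (hw : aeval w (minpoly ℤ π) = 0) (f : ℤ[X]) (hf : aeval w f = 0) : minpoly ℤ π ∣ f := by
  have hwint : IsIntegral ℤ w := ⟨minpoly ℤ π, minpoly.monic hπ, hw⟩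
  have h1 : minpoly ℤ w ∣ minpoly ℤ π := minpoly.isIntegrallyClosed_dvd hwint hw
  have hirr : Irreducible (minpoly ℤ π) := minpoly.irreducible hπ
  obtain ⟨c, hc⟩ := h1
  have hcu : IsUnit c := (hirr.isUnit_or_isUnit hc).resolve_left (minpoly.not_isUnit ℤ w)
  have hassoc : Associated (minpoly ℤ w) (minpoly ℤ π) := ⟨hcu.unit, by rw [hc]; rfl⟩
  have heq : minpoly ℤ w = minpoly ℤ π :=
    eq_of_monic_of_associated (minpoly.monic hwint) (minpoly.monic hπ) hassoc
  rw [← heq]
  exact minpoly.isIntegrallyClosed_dvd hwint hf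

theorem coeff_relation (q : ℤ) (n : ℕ) (P : ℤ[X]) (hn : P.natDegree = n) (hPm : P.Monic)
    (z₀ w : ℂ) (hT : ∀ f : ℤ[X], aeval w f = 0 → P ∣ f)
    (hz : aeval z₀ P = 0) (hzw : z₀ * w = (q : ℂ)) :
    ∀ k ≤ n, P.coeff (n - k) * q ^ (n - k) = P.coeff 0 * P.coeff k := by
  set Pt : ℤ[X] := ∑ k ∈ Finset.range (n + 1), monomial k (P.coeff (n - k) * q ^ (n - k)) with hPt
  have hcoeff : ∀ k ≤ n, Pt.coeff k = P.coeff (n - k) * q ^ (n - k) := by
    intro k hk
    rw [hPt, finsetSum_coeff]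
    simp only [coeff_monomial]
    rw [Finset.sum_ite_eq' (Finset.range (n + 1)) k]
    simp [Nat.lt_succ_of_le hk]
  have hdeg : Pt.natDegree ≤ n := by
    rw [hPt]
    apply natDegree_sum_le_of_forall_le
    intro k hk
    exact (natDegree_monomial_le _).trans (Nat.lt_succ_iff.mp (Finset.mem_range.mp hk))
  have heval : aeval w Pt = 0 := by
    rw [hPt, map_sum]
    simp only [aeval_monomial]
    have h1 : ∀ k ∈ Finset.range (n + 1),
        algebraMap ℤ ℂ (P.coeff (n - k) * q ^ (n - k)) * w ^ k =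
          (fun j => (P.coeff j : ℂ) * (q : ℂ) ^ j * w ^ (n - j)) (n + 1 - 1 - k) := by
      intro k hk
      have hk' : k ≤ n := Nat.lt_succ_iff.mp (Finset.mem_range.mp hk)
      simp only [Nat.add_sub_cancel]
      rw [Nat.sub_sub_self hk']
      simp
    rw [Finset.sum_congr rfl h1,
      Finset.sum_range_reflect (fun j => (P.coeff j : ℂ) * (q : ℂ) ^ j * w ^ (n - j)) (n + 1)]
    have h2 : ∀ j ∈ Finset.range (n + 1), (P.coeff j : ℂ) * (q : ℂ) ^ j * w ^ (n - j) =
        w ^ n * ((P.coeff j : ℂ) * z₀ ^ j) := by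
      intro j hj
      have hj' : j ≤ n := Nat.lt_succ_iff.mp (Finset.mem_range.mp hj)
      rw [← hzw, mul_pow]
      have : w ^ n = w ^ j * w ^ (n - j) := by rw [← pow_add, Nat.add_sub_cancel' hj']
      rw [this]; ring
    rw [Finset.sum_congr rfl h2, ← Finset.mul_sum]
    have h3 : aeval z₀ P = ∑ j ∈ Finset.range (n + 1), (P.coeff j : ℂ) * z₀ ^ j := by
      rw [aeval_eq_sum_range, hn]
      refine Finset.sum_congr rfl fun j _ => ?_
      rw [zsmul_eq_mul]
    rw [← h3, hz, mul_zero]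
  have hdvd : P ∣ Pt := hT Pt heval
  have hmul := eq_mul_leadingCoeff_of_monic_of_dvd_of_natDegree_le hPm hdvd (hn ▸ hdeg)
  have hc : Pt.leadingCoeff = P.coeff 0 := by
    have h4 := congrArg (fun f => f.coeff n) hmul
    simp only [coeff_mul_C] at h4
    rw [hcoeff n le_rfl, Nat.sub_self, pow_zero, mul_one] at h4
    have : P.coeff n = 1 := by rw [← hn]; exact hPm.coeff_natDegree
    rw [this, one_mul] at h4
    exact h4.symm
  intro k hk
  have h5 := congrArg (fun f => f.coeff k) hmul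
  simp only [coeff_mul_C] at h5
  rw [hcoeff k hk, hc] at h5
  rw [h5, mul_comm]

theorem real_root_aux (P : ℤ[X]) (n : ℕ) (hn : P.natDegree = n) (s : ℝ) (hs : 0 < s) (δ ε : ℝ)
    (hε : ε * ε = 1) (h0 : (P.coeff 0 : ℝ) = δ * s ^ n)
    (hrel : ∀ k ≤ n, (P.coeff (n - k) : ℝ) * (s ^ 2) ^ (n - k) = (P.coeff 0 : ℝ) * P.coeff k)
    (hδε : δ * ε ^ n = -1) : aeval (ε * s) P = 0 := by
  have h3 : aeval (ε * s) P = ∑ j ∈ Finset.range (n + 1), (P.coeff j : ℝ) * (ε * s) ^ j := by
    rw [aeval_eq_sum_range, hn]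
    refine Finset.sum_congr rfl fun j _ => ?_
    rw [zsmul_eq_mul]
  have hεk : ∀ k, ε ^ k * ε ^ k = 1 := by
    intro k; rw [← mul_pow, hε, one_pow]
  have hterm : ∀ k ∈ Finset.range (n + 1),
      (fun j => (P.coeff j : ℝ) * (ε * s) ^ j) (n + 1 - 1 - k) =
        - ((P.coeff k : ℝ) * (ε * s) ^ k) := by
    intro k hk
    have hk' : k ≤ n := Nat.lt_succ_iff.mp (Finset.mem_range.mp hk)
    simp only [Nat.add_sub_cancel]
    have h1 := hrel k hk'
    rw [h0] at h1
    have hsn : s ^ n = s ^ (n - k) * s ^ k := by rw [← pow_add, Nat.sub_add_cancel hk']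
    have hpos : s ^ (n - k) ≠ 0 := (pow_pos hs _).ne'
    have h2 : (P.coeff (n - k) : ℝ) * s ^ (n - k) = δ * s ^ k * P.coeff k := by
      apply mul_right_cancel₀ hpos
      rw [← pow_mul, pow_mul', sq] at h1
      rw [hsn] at h1
      linear_combination h1
    have hεn : ε ^ n = ε ^ (n - k) * ε ^ k := by rw [← pow_add, Nat.sub_add_cancel hk']
    have hεnk : ε ^ (n - k) = ε ^ n * ε ^ k := by
      rw [hεn, mul_assoc, hεk, mul_one]
    rw [mul_pow, mul_pow, hεnk]
    have : (P.coeff (n - k) : ℝ) * (ε ^ n * ε ^ k * s ^ (n - k)) =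
        (δ * ε ^ n) * ((P.coeff k : ℝ) * (ε ^ k * s ^ k)) := by
      linear_combination (ε ^ n * ε ^ k) * h2
    rw [this, hδε]; ring
  have h4 : aeval (ε * s) P = - aeval (ε * s) P := by
    conv_lhs => rw [h3,
      ← Finset.sum_range_reflect (fun j => (P.coeff j : ℝ) * (ε * s) ^ j) (n + 1),
      Finset.sum_congr rfl hterm, Finset.sum_neg_distrib, ← h3]
  linarith

/-- Let p be a prime number, e ≥ 1 and q = p^e. Let π be an element of a field of characteristic zero
which is integral over ℤ, with minimal polynomial P over ℤ, and assume that every complex root of P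
has absolute value √q and that no complex root of P is real (π is a nonreal Weil q-number). Then the
degree of P is even, say 2d, and writing a_j for the coefficient of x^j in P one has a_{d−r} = q^r ·
a_{d+r} for every 0 ≤ r ≤ d. -/
theorem result (p e : ℕ) [Fact p.Prime] (he : 0 < e)
    (K : Type u) [Field K] [CharZero K] (π : K) (hπ : IsIntegral ℤ π)
    (hweil : ∀ z ∈ (minpoly ℤ π).aroots ℂ, ‖z‖ = Real.sqrt ((p : ℝ) ^ e))
    (hnr : ∀ z ∈ (minpoly ℤ π).aroots ℂ, z.im ≠ 0) :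
    Even (minpoly ℤ π).natDegree ∧
      ∀ r ≤ (minpoly ℤ π).natDegree / 2,
        (minpoly ℤ π).coeff ((minpoly ℤ π).natDegree / 2 - r) =
          (p : ℤ) ^ (e * r) * (minpoly ℤ π).coeff ((minpoly ℤ π).natDegree / 2 + r) := by
  set P := minpoly ℤ π with hP
  set n := P.natDegree with hn
  have hPm : P.Monic := minpoly.monic hπ
  have hmapne : P.map (algebraMap ℤ ℂ) ≠ 0 := (hPm.map _).ne_zero
  have hnpos : 0 < n := minpoly.natDegree_pos hπ
  have hdeg : P.degree ≠ 0 := by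
    rw [degree_eq_natDegree hPm.ne_zero]
    exact_mod_cast hnpos.ne'
  obtain ⟨z₀, hz₀⟩ := IsAlgClosed.exists_aeval_eq_zero ℂ P hdeg
  have hz₀mem : z₀ ∈ P.aroots ℂ := (mem_aroots').mpr ⟨hmapne, hz₀⟩
  have hpe : (0 : ℝ) ≤ (p : ℝ) ^ e := by positivity
  set s := Real.sqrt ((p : ℝ) ^ e) with hs
  have hs2 : s ^ 2 = (p : ℝ) ^ e := Real.sq_sqrt hpe
  have hspos : 0 < s := by
    apply Real.sqrt_pos.mpr
    have : (0 : ℝ) < p := by exact_mod_cast (Fact.out : p.Prime).pos
    positivity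
  set w := (starRingEnd ℂ) z₀ with hw
  have hzw : z₀ * w = (((p : ℤ) ^ e : ℤ) : ℂ) := by
    rw [hw, Complex.mul_conj, Complex.normSq_eq_norm_sq, hweil z₀ hz₀mem]
    push_cast
    rw [← Complex.ofReal_pow, hs2]
    push_cast
    rfl
  have hwroot : aeval w P = 0 := by
    have := Polynomial.aeval_algHom_apply ((starRingEnd ℂ).toIntAlgHom) z₀ P
    change aeval w P = (starRingEnd ℂ) (aeval z₀ P) at this
    rw [this, hz₀, map_zero]
  have hT := dvd_of_root π hπ w hwroot
  have hrel := coeff_relation ((p : ℤ) ^ e) n P hn.symm hPm z₀ w hT hz₀ hzw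
  have hrelR : ∀ k ≤ n, (P.coeff (n - k) : ℝ) * (s ^ 2) ^ (n - k) = (P.coeff 0 : ℝ) * P.coeff k := by
    intro k hk
    have := congrArg (fun x : ℤ => (x : ℝ)) (hrel k hk)
    push_cast at this
    rw [hs2]
    exact this
  have hnoreal : ∀ t : ℝ, aeval t P ≠ 0 := by
    intro t ht
    have hmem : ((t : ℝ) : ℂ) ∈ P.aroots ℂ := by
      refine (mem_aroots').mpr ⟨hmapne, ?_⟩
      have := Polynomial.aeval_algebraMap_apply ℂ t P
      rw [ht, map_zero] at this
      exact this
    exact hnr _ hmem (Complex.ofReal_im t)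
  have hsq : (P.coeff 0 : ℝ) ^ 2 = (s ^ n) ^ 2 := by
    have h1 := hrelR 0 (Nat.zero_le n)
    rw [Nat.sub_zero] at h1
    have : P.coeff n = 1 := hPm.coeff_natDegree
    rw [this] at h1
    rw [sq, ← h1, ← pow_mul, ← pow_mul, mul_comm 2 n]
    push_cast; ring
  have h0 : (P.coeff 0 : ℝ) = s ^ n := by
    rcases sq_eq_sq_iff_eq_or_eq_neg.mp hsq with h | h
    · exact h
    · exfalso
      have := real_root_aux P n hn.symm s hspos (-1) 1 (by norm_num) (by rw [h]; ring) hrelR
        (by simp)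
      exact hnoreal _ this
  have heven : Even n := by
    by_contra hodd
    rw [Nat.not_even_iff_odd] at hodd
    have := real_root_aux P n hn.symm s hspos 1 (-1) (by norm_num) (by rw [h0]; ring) hrelR
      (by rw [hodd.neg_one_pow]; ring)
    exact hnoreal _ this
  refine ⟨heven, ?_⟩
  intro r hr
  obtain ⟨d, hd⟩ := heven
  have hd2 : n / 2 = d := by omega
  rw [hd2] at hr ⊢
  have hk : d + r ≤ n := by omega
  have h1 := hrel (d + r) hk
  have hnk : n - (d + r) = d - r := by omega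
  rw [hnk] at h1
  have h0Z : P.coeff 0 = ((p : ℤ) ^ e) ^ d := by
    have : ((P.coeff 0 : ℤ) : ℝ) = (((p : ℤ) ^ e) ^ d : ℤ) := by
      rw [h0, hd, ← two_mul, pow_mul, hs2]
      push_cast; ring
    exact_mod_cast this
  rw [h0Z] at h1
  have hqpos : ((p : ℤ) ^ e) ^ (d - r) ≠ 0 := by
    have : (p : ℤ) ≠ 0 := by exact_mod_cast (Fact.out : p.Prime).ne_zero
    positivity
  apply mul_right_cancel₀ hqpos
  rw [h1, pow_mul]
  have : ((p : ℤ) ^ e) ^ d = ((p : ℤ) ^ e) ^ (d - r) * ((p : ℤ) ^ e) ^ r := by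
    rw [← pow_add, Nat.sub_add_cancel hr]
  rw [this]; ring

end Groth.Agent.S17983
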