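import Groth.Statements.S2586
import Groth.Agent.Lib.Helper55.FL.RegSeqFibre

set_option autoImplicit false
open TensorProduct
universe u
open EGA43

namespace Groth.Agent.S2586

/-- Let A ⟶ B be a ring map with B finitely presented over A, M a finitely presented B-module, q a prime
of B with contraction p, and g₁, …, gₙ elements of q. Suppose the localization M_q is flat over A
and the gᵢ form a regular sequence on the localization at q of the fibre module M ⊗_A κ(p). Then the
gᵢ form a regular sequence on M_q, and for every i the localization at q of M/(g₁, …, gᵢ)M is flat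
over A. -/
theorem result {A B : Type u} [CommRing A] [CommRing B] [Algebra A B]
    [Algebra.FinitePresentation A B] (M : Type u) [AddCommGroup M] [Module B M] [Module A M] [IsScalarTower A B M]
    [Module.FinitePresentation B M] (q : Ideal B) [q.IsPrime] (g : List B) (hg : ∀ b ∈ g, b ∈ q)
    (hflat : Module.Flat A (LocalizedModule q.primeCompl M))
    (hreg : RingTheory.Sequence.IsRegular
      (LocalizedModule q.primeCompl (M ⊗[A] (q.comap (algebraMap A B)).ResidueField)) g) :
    RingTheory.Sequence.IsRegular (LocalizedModule q.primeCompl M) g ∧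
      ∀ i ≤ g.length, Module.Flat A
        (LocalizedModule q.primeCompl (M ⧸ (Ideal.span {b | b ∈ g.take i} • (⊤ : Submodule B M)))) := by
  classical
  have hfg : ∀ l : List B, (Ideal.ofList l).FG := fun l => Submodule.fg_span (List.finite_toSet l)
  have hP : ∀ i, i ≤ g.length → Module.Flat A (LocalizedModule q.primeCompl
      (M ⧸ (Ideal.ofList (g.take i) • (⊤ : Submodule B M)))) := by
    intro i
    induction i with
    | zero =>
      intro _
      have h0 : Ideal.ofList (g.take 0) • (⊤ : Submodule B M) = ⊥ := by simp
      exact Groth.Agent.Lib.Helper55.FL.flat_localized_of_equiv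
        (Submodule.quotEquivOfEqBot _ h0).symm q.primeCompl hflat
    | succ i ih =>
      intro hi
      have hi' : i < g.length := hi
      have hPi := ih (le_of_lt hi')
      have hregi := hreg.toIsWeaklyRegular.regular_mod_prev i hi'
      obtain ⟨_, h2⟩ := Groth.Agent.Lib.Helper55.FL.regseq_step M q (Ideal.ofList (g.take i))
        (hfg _) g[i] hPi hregi
      have : Ideal.ofList (g.take (i + 1)) = Ideal.span {g[i]} ⊔ Ideal.ofList (g.take i) := by
        rw [List.take_succ_eq_append_getElem hi', Ideal.ofList_append, Ideal.ofList_singleton,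
          sup_comm]
      rw [this]
      exact h2
  have hR : ∀ i (hi : i < g.length),
      ∀ x : M ⧸ (Ideal.ofList (g.take i) • (⊤ : Submodule B M)), g[i] • x = 0 →
        ∃ t ∉ q, t • x = 0 := fun i hi =>
    (Groth.Agent.Lib.Helper55.FL.regseq_step M q (Ideal.ofList (g.take i)) (hfg _) g[i]
      (hP i hi.le) (hreg.toIsWeaklyRegular.regular_mod_prev i hi)).1
  refine ⟨⟨⟨fun i hi => Groth.Agent.Lib.Helper55.FL.regular_localized_quot q _ g[i] (hR i hi)⟩,
    Groth.Agent.Lib.Helper55.FL.top_ne_of_fibre q _ _ hreg.top_ne_smul⟩, fun i hi => hP i hi⟩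

end Groth.Agent.S2586
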