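import Groth.Statements.S2128
import Groth.Agent.Lib.Helper40.QCohColim2

set_option autoImplicit false
universe u
open CategoryTheory AlgebraicGeometry
open Mor

namespace Groth.Agent.S2128

open Limits Opposite TopologicalSpace Groth.Agent.Lib.Helper40 Groth.Agent.Lib.Helper40.ExtFP
  Groth.Agent.S9828 Groth.Agent.Lib.Helper40.QCohColim2
  Groth.Agent.Lib.Helper21.QCohSections
  Groth.Agent.Lib.Helper40.SSh Groth.Agent.Lib.Helper40.SSh.SubSh

variable {X : Scheme.{u}} [CompactSpace X] [QuasiSeparatedSpace X] (F : X.Modules)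
  [F.IsQuasicoherent]

/-- quasi-coherent submodules of finite type of `F` (as sectionwise ranges) -/
def SProp (N : SubSh F) : Prop :=
  ∃ (G : X.Modules) (i : G ⟶ F), Mono i ∧ G.IsQuasicoherent ∧
    SheafOfModules.IsFiniteType (R := X.ringCatSheaf) G ∧ N = ofHom i

def S : Type u := {N : SubSh F // SProp F N}

noncomputable def Gs (N : S F) : X.Modules := N.2.choose

noncomputable def is (N : S F) : Gs F N ⟶ F := N.2.choose_spec.choose

omit [CompactSpace X] [QuasiSeparatedSpace X] [F.IsQuasicoherent] in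
theorem specS (N : S F) : Mono (is F N) ∧ (Gs F N).IsQuasicoherent ∧
    SheafOfModules.IsFiniteType (R := X.ringCatSheaf) (Gs F N) ∧ N.1 = ofHom (is F N) :=
  N.2.choose_spec.choose_spec

instance (N : S F) : (Gs F N).IsQuasicoherent := (specS F N).2.1
instance (N : S F) : Mono (is F N) := (specS F N).1

omit [F.IsQuasicoherent] in
theorem exKL (N : S F) : ∃ (P : X.Modules) (φ : P ⟶ Gs F N), P.IsQuasicoherent ∧
    SheafOfModules.IsFinitePresentation (R := X.ringCatSheaf) P ∧ Epi φ :=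
  exists_fp_epi (Gs F N) (specS F N).2.2.1

noncomputable def Ps (N : S F) : X.Modules := (exKL F N).choose

noncomputable def πs (N : S F) : Ps F N ⟶ Gs F N := (exKL F N).choose_spec.choose

omit [F.IsQuasicoherent] in
theorem specKL (N : S F) : (Ps F N).IsQuasicoherent ∧
    SheafOfModules.IsFinitePresentation (R := X.ringCatSheaf) (Ps F N) ∧ Epi (πs F N) :=
  (exKL F N).choose_spec.choose_spec

instance (N : S F) : (Ps F N).IsQuasicoherent := (specKL F N).1
instance (N : S F) : Epi (πs F N) := (specKL F N).2.2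

structure Idx where
  N : S F
  M : J (πs F N)

noncomputable def obj (x : Idx F) : X.Modules := Dobj (πs F x.N) x.M

noncomputable def str (x : Idx F) : obj F x ⟶ F := toF (πs F x.N) x.M ≫ is F x.N

omit [F.IsQuasicoherent] in
theorem fp_obj (x : Idx F) :
    SheafOfModules.IsFinitePresentation (R := X.ringCatSheaf) (obj F x) :=
  fp_Dobj (πs F x.N) (specKL F x.N).2.1 x.M

omit [F.IsQuasicoherent] in
theorem qc_obj (x : Idx F) : (obj F x).IsQuasicoherent := qc_Dobj (πs F x.N) x.M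

abbrev I := InducedCategory (Over F) (fun x : Idx F => Over.mk (str F x))

noncomputable def mkHom (x y : Idx F) (h : obj F x ⟶ obj F y) (w : h ≫ str F y = str F x) :
    (show I F from x) ⟶ (show I F from y) :=
  InducedCategory.homMk (Over.homMk h w)

theorem nonempty_S : Nonempty (S F) := by
  obtain ⟨G, i, hm, hq, hft, -⟩ := exists_ft_sub_of_fg_qcqs F (isAffineOpen_bot X) ⊥
    Submodule.fg_bot
  exact ⟨⟨ofHom i, G, i, hm, hq, hft, rfl⟩⟩

theorem exists_upper (N₁ N₂ : S F) : ∃ (N₃ : S F) (k₁ : Gs F N₁ ⟶ Gs F N₃) (k₂ : Gs F N₂ ⟶ Gs F N₃),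
    k₁ ≫ is F N₃ = is F N₁ ∧ k₂ ≫ is F N₃ = is F N₂ := by
  obtain ⟨E, j, hm, hq, hft, hA, hB⟩ := exists_sup (is F N₁) (is F N₂) (specS F N₁).2.2.1
    (specS F N₂).2.2.1
  let N₃ : S F := ⟨ofHom j, E, j, hm, hq, hft, rfl⟩
  have h3 : ∀ (T : X.Opens) (e : Γ(E, T)), ∃ b : Γ(Gs F N₃, T), (is F N₃).app T b = j.app T e := by
    intro T e
    have h1 : j.app T e ∈ N₃.1.obj T := ⟨e, rfl⟩
    rw [(specS F N₃).2.2.2] at h1
    exact h1
  obtain ⟨k₁, hk₁⟩ := exists_factor_of_range_le (is F N₁) (is F N₃) (fun T a => by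
    obtain ⟨e, he⟩ := hA T a
    obtain ⟨b, hb⟩ := h3 T e
    exact ⟨b, hb.trans he⟩)
  obtain ⟨k₂, hk₂⟩ := exists_factor_of_range_le (is F N₂) (is F N₃) (fun T a => by
    obtain ⟨e, he⟩ := hB T a
    obtain ⟨b, hb⟩ := h3 T e
    exact ⟨b, hb.trans he⟩)
  exact ⟨N₃, k₁, k₂, hk₁, hk₂⟩

theorem cocone_objs' (x y : Idx F) : ∃ (z : Idx F) (hx : obj F x ⟶ obj F z) (hy : obj F y ⟶ obj F z),
    hx ≫ str F z = str F x ∧ hy ≫ str F z = str F y := by
  obtain ⟨N₃, k₁, k₂, hk₁, hk₂⟩ := exists_upper F x.N y.N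
  haveI := fp_obj F x
  haveI := fp_obj F y
  obtain ⟨M₁, h₁, hh₁⟩ := exists_lift (πs F N₃) (obj F x) (toF (πs F x.N) x.M ≫ k₁)
  obtain ⟨M₂, h₂, hh₂⟩ := exists_lift (πs F N₃) (obj F y) (toF (πs F y.N) y.M ≫ k₂)
  haveI := directed_J (πs F N₃)
  obtain ⟨M₃, le₁, le₂⟩ := exists_ge_ge M₁ M₂
  refine ⟨⟨N₃, M₃⟩, h₁ ≫ Dmap (πs F N₃) le₁, h₂ ≫ Dmap (πs F N₃) le₂, ?_, ?_⟩
  · change (h₁ ≫ Dmap (πs F N₃) le₁) ≫ toF (πs F N₃) M₃ ≫ is F N₃ = _
    rw [Category.assoc, ← Category.assoc (Dmap _ _), Dmap_toF, ← Category.assoc, hh₁,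
      Category.assoc, hk₁]
    rfl
  · change (h₂ ≫ Dmap (πs F N₃) le₂) ≫ toF (πs F N₃) M₃ ≫ is F N₃ = _
    rw [Category.assoc, ← Category.assoc (Dmap _ _), Dmap_toF, ← Category.assoc, hh₂,
      Category.assoc, hk₂]
    rfl

theorem cocone_maps' (x y : Idx F) (f g : obj F x ⟶ obj F y) (hf : f ≫ str F y = str F x)
    (hg : g ≫ str F y = str F x) : ∃ (z : Idx F) (t : obj F y ⟶ obj F z),
    t ≫ str F z = str F y ∧ f ≫ t = g ≫ t := by
  haveI := fp_obj F x
  have hh : f ≫ toF (πs F y.N) y.M = g ≫ toF (πs F y.N) y.M := by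
    rw [← cancel_mono (is F y.N), Category.assoc, Category.assoc]
    exact hf.trans hg.symm
  obtain ⟨M', hle, he⟩ := exists_eq (πs F y.N) (obj F x) y.M f g hh
  refine ⟨⟨y.N, M'⟩, Dmap (πs F y.N) hle, ?_, he⟩
  change Dmap (πs F y.N) hle ≫ toF (πs F y.N) M' ≫ is F y.N = _
  rw [← Category.assoc, Dmap_toF]
  rfl

instance : IsFiltered (I F) where
  cocone_objs x y := by
    obtain ⟨z, hx, hy, wx, wy⟩ := cocone_objs' F x y
    exact ⟨z, mkHom F x z hx wx, mkHom F y z hy wy, trivial⟩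
  cocone_maps x y f g := by
    obtain ⟨z, t, wt, he⟩ := cocone_maps' F x y f.hom.left g.hom.left (Over.w f.hom) (Over.w g.hom)
    refine ⟨z, mkHom F y z t wt, ?_⟩
    apply InducedCategory.hom_ext
    apply Over.OverMorphism.ext
    exact he
  nonempty := by
    obtain ⟨N⟩ := nonempty_S F
    obtain ⟨M⟩ := nonempty_J (πs F N)
    exact ⟨⟨N, M⟩⟩

noncomputable def Dfn : I F ⥤ X.Modules := inducedFunctor _ ⋙ Over.forget F

noncomputable def cc : Cocone (Dfn F) := (Over.forgetCocone F).whisker (inducedFunctor _)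

theorem cc_app (x : I F) : (cc F).ι.app x = str F x := rfl

theorem isColimit_cc : Nonempty (IsColimit (cc F)) := by
  haveI : (cc F).pt.IsQuasicoherent := ‹F.IsQuasicoherent›
  apply isColimit_of_sections (Dfn F) (fun x => qc_obj F x) (cc F)
  · intro V hV t
    obtain ⟨G, i, hm, hq, hft, hmem⟩ := exists_ft_sub_of_fg_qcqs F hV
      (Submodule.span Γ(X, V) {t}) (Submodule.fg_span_singleton _)
    let N : S F := ⟨ofHom i, G, i, hm, hq, hft, rfl⟩
    have h1 : t ∈ N.1.obj V := hmem t (Submodule.subset_span rfl)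
    rw [(specS F N).2.2.2] at h1
    obtain ⟨g', hg'⟩ := h1
    obtain ⟨p, hp⟩ := app_surjective_of_epi (πs F N) hV g'
    obtain ⟨M⟩ := nonempty_J (πs F N)
    refine ⟨⟨N, M⟩, (q (πs F N) M).app V p, ?_⟩
    rw [cc_app]
    change (is F N).app V ((toF (πs F N) M).app V ((q (πs F N) M).app V p)) = t
    have h2 := congr($(congrArg (fun φ : Ps F N ⟶ Gs F N => φ.app V) (q_toF (πs F N) M)) p)
    change (toF (πs F N) M).app V ((q (πs F N) M).app V p) = (πs F N).app V p at h2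
    rw [h2, hp, hg']
  · intro V hV x ε hε
    rw [cc_app] at hε
    change (is F x.N).app V ((toF (πs F x.N) x.M).app V ε) = 0 at hε
    have h1 : (toF (πs F x.N) x.M).app V ε = 0 := by
      apply app_injective_of_mono (is F x.N) V
      rw [hε, map_zero]
    obtain ⟨k₁, ψ₁, h₁⟩ := sys_C2 (πs F x.N) V hV (op x.M) ε h1
    have h2 := h₁ k₁ (𝟙 k₁)
    have hle : x.M ≤ k₁.unop := leOfHom ψ₁.unop
    refine ⟨⟨x.N, k₁.unop⟩, mkHom F x ⟨x.N, k₁.unop⟩ (Dmap (πs F x.N) hle) ?_, ?_⟩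
    · change Dmap (πs F x.N) hle ≫ toF (πs F x.N) k₁.unop ≫ is F x.N = _
      rw [← Category.assoc, Dmap_toF]
      rfl
    · exact h2

/-- Let `X` be quasi-compact and quasi-separated and `F` a quasi-coherent `O_X`-module. Then `F` is the
colimit of a filtered diagram of finitely presented `O_X`-modules: there are a small filtered
category `I`, a diagram of finitely presented modules and a colimit cocone with vertex `F`. -/
theorem result (X : Scheme.{u}) [CompactSpace X] [QuasiSeparatedSpace X] (F : X.Modules)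
    (hF : Coh.IsQCoh F) :
    ∃ (I : Type u) (_ : SmallCategory I) (_ : IsFiltered I) (D : I ⥤ X.Modules) (c : Limits.Cocone D)
      (_ : Limits.IsColimit c), (∀ i, CohB1.IsFP (D.obj i)) ∧ c.pt = F := by
  haveI : F.IsQuasicoherent := hF
  exact ⟨I F, inferInstance, inferInstance, Dfn F, cc F, (isColimit_cc F).some,
    fun x => fp_obj F x, rfl⟩

end Groth.Agent.S2128
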