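import Groth.Statements.S14694
import Mathlib.RingTheory.AdjoinRoot
import Mathlib.AlgebraicGeometry.Morphisms.FlatRank
import Mathlib.AlgebraicGeometry.Morphisms.FinitePresentation
import Mathlib.AlgebraicGeometry.Morphisms.Finite
import Mathlib.Tactic

set_option autoImplicit false
universe u
open CategoryTheory AlgebraicGeometry
open SekSuwa

namespace Groth.Agent.S14694

section helpers
open Polynomial

variable {R : Type u} [CommRing R] {lam : R} {N : ℕ} (h : SekSuwa.DivCond lam N)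

lemma coeff_rhs (lam : R) (N k : ℕ) :
    ((1 + C lam * X : R[X]) ^ N).coeff k = (N.choose k : R) * lam ^ k := by
  have : (1 + C lam * X : R[X]) ^ N = ((1 + X : R[X]) ^ N).comp (C lam * X) := by
    simp
  rw [this, Polynomial.comp_C_mul_X_coeff, Polynomial.coeff_one_add_X_pow]

include h in
lemma coeff_psiPoly {k : ℕ} (hk : 1 ≤ k) :
    lam ^ N * (SekSuwa.psiPoly lam N h).coeff k = (N.choose k : R) * lam ^ k := by
  have := congrArg (fun p => Polynomial.coeff p k) (SekSuwa.psiPoly_spec h)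
  simp only [Polynomial.coeff_C_mul, Polynomial.coeff_sub, coeff_rhs, Polynomial.coeff_one] at this
  rw [this, if_neg (by omega), sub_zero]

include h in
lemma coeff_psiPoly_self (hN : 0 < N) : (SekSuwa.psiPoly lam N h).coeff N = 1 := by
  have := coeff_psiPoly h (k := N) hN
  rw [Nat.choose_self, Nat.cast_one, one_mul] at this
  exact SekSuwa.cancel_nzd h.pow_nzd (this.trans (mul_one _).symm)

include h in
lemma coeff_psiPoly_gt (hN : 0 < N) {k : ℕ} (hk : N < k) : (SekSuwa.psiPoly lam N h).coeff k = 0 := by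
  have := coeff_psiPoly h (k := k) (by omega)
  rw [Nat.choose_eq_zero_of_lt hk, Nat.cast_zero, zero_mul] at this
  exact SekSuwa.cancel_nzd h.pow_nzd (this.trans (mul_zero _).symm)

include h in
lemma natDegree_psiPoly_le (hN : 0 < N) : (SekSuwa.psiPoly lam N h).natDegree ≤ N :=
  Polynomial.natDegree_le_iff_coeff_eq_zero.mpr (fun _ hk => coeff_psiPoly_gt h hN hk)

include h in
lemma monic_psiPoly (hN : 0 < N) : (SekSuwa.psiPoly lam N h).Monic :=
  Polynomial.monic_of_natDegree_le_of_coeff_eq_one N (natDegree_psiPoly_le h hN)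
    (coeff_psiPoly_self h hN)

include h in
lemma natDegree_psiPoly [Nontrivial R] (hN : 0 < N) : (SekSuwa.psiPoly lam N h).natDegree = N :=
  Polynomial.natDegree_eq_of_le_of_coeff_ne_zero (natDegree_psiPoly_le h hN)
    (by rw [coeff_psiPoly_self h hN]; exact one_ne_zero)

/-- `(1 + λ root)^N = 1` in `R[X]/(P)`. -/
lemma root_pow : (1 + lam • AdjoinRoot.root (SekSuwa.psiPoly lam N h)) ^ N = 1 := by
  have e := SekSuwa.aeval_psiPoly h (AdjoinRoot.root (SekSuwa.psiPoly lam N h))
  rw [AdjoinRoot.aeval_eq, AdjoinRoot.mk_self, mul_zero] at e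
  rw [Algebra.smul_def]
  exact (sub_eq_zero.mp e.symm)

lemma root_rel (hN : 0 < N) : (1 + lam • AdjoinRoot.root (SekSuwa.psiPoly lam N h)) *
    (1 + lam • AdjoinRoot.root (SekSuwa.psiPoly lam N h)) ^ (N - 1) = 1 := by
  rw [← pow_succ', Nat.sub_add_cancel hN, root_pow]

/-- The map `A → R[X]/(P)`. -/
noncomputable def toAdj₀ (hN : 0 < N) : SekSuwa.A R lam →ₐ[R] AdjoinRoot (SekSuwa.psiPoly lam N h) :=
  SekSuwa.A.lift R lam (AdjoinRoot.root (SekSuwa.psiPoly lam N h))
    ((1 + lam • AdjoinRoot.root (SekSuwa.psiPoly lam N h)) ^ (N - 1)) (root_rel h hN)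

lemma toAdj₀_kerGen (hN : 0 < N) : toAdj₀ h hN (SekSuwa.kerGen lam N h) = 0 := by
  rw [SekSuwa.kerGen, ← Polynomial.aeval_algHom_apply, toAdj₀, SekSuwa.A.lift_t, AdjoinRoot.aeval_eq,
    AdjoinRoot.mk_self]

/-- The map `AK → R[X]/(P)`. -/
noncomputable def toAdj (hN : 0 < N) : SekSuwa.AK R lam N h →ₐ[R] AdjoinRoot (SekSuwa.psiPoly lam N h) :=
  Ideal.Quotient.liftₐ (SekSuwa.kerIdeal lam N h) (toAdj₀ h hN) (by
    intro a ha
    obtain ⟨c, rfl⟩ := Ideal.mem_span_singleton'.mp ha
    rw [map_mul, toAdj₀_kerGen, mul_zero])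

lemma toAdj_t (hN : 0 < N) : toAdj h hN SekSuwa.AK.t = AdjoinRoot.root _ := by
  change toAdj₀ h hN SekSuwa.A.t = _
  rw [toAdj₀, SekSuwa.A.lift_t]

lemma toAdj_inv (hN : 0 < N) : toAdj h hN SekSuwa.AK.inv =
    (1 + lam • AdjoinRoot.root (SekSuwa.psiPoly lam N h)) ^ (N - 1) := by
  change toAdj₀ h hN SekSuwa.A.inv = _
  rw [toAdj₀, SekSuwa.A.lift_inv]

/-- The map `R[X]/(P) → AK`. -/
noncomputable def ofAdj : AdjoinRoot (SekSuwa.psiPoly lam N h) →ₐ[R] SekSuwa.AK R lam N h :=
  AdjoinRoot.liftAlgHom (SekSuwa.psiPoly lam N h) (Algebra.ofId R _) SekSuwa.AK.t (by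
    have := SekSuwa.AK.aeval_t (R := R) (lam := lam) (N := N) (h := h)
    rwa [Polynomial.aeval_def] at this)

lemma ofAdj_root : ofAdj h (AdjoinRoot.root _) = SekSuwa.AK.t := by
  rw [ofAdj, AdjoinRoot.liftAlgHom_root]

lemma AK_u_mul_inv : (1 + lam • (SekSuwa.AK.t : SekSuwa.AK R lam N h)) * SekSuwa.AK.inv = 1 := by
  have := congrArg (SekSuwa.AK.mkHom R lam N h) (SekSuwa.A.u_mul_inv (R := R) (lam := lam))
  rw [map_mul, map_one, SekSuwa.A.u, map_add, map_one, map_smul] at this
  exact this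

lemma AK_inv_eq (hN : 0 < N) :
    (1 + lam • (SekSuwa.AK.t : SekSuwa.AK R lam N h)) ^ (N - 1) = SekSuwa.AK.inv := by
  calc (1 + lam • (SekSuwa.AK.t : SekSuwa.AK R lam N h)) ^ (N - 1)
      = (1 + lam • SekSuwa.AK.t) ^ (N - 1) * ((1 + lam • SekSuwa.AK.t) * SekSuwa.AK.inv) := by
        rw [AK_u_mul_inv, mul_one]
    _ = (1 + lam • SekSuwa.AK.t) ^ (N - 1 + 1) * SekSuwa.AK.inv := by rw [pow_succ, mul_assoc]
    _ = SekSuwa.AK.inv := by rw [Nat.sub_add_cancel hN, SekSuwa.AK.u_pow, one_mul]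

/-- `AK ≃ R[X]/(P)`. -/
noncomputable def equivAdj (hN : 0 < N) :
    SekSuwa.AK R lam N h ≃ₐ[R] AdjoinRoot (SekSuwa.psiPoly lam N h) :=
  AlgEquiv.ofAlgHom (toAdj h hN) (ofAdj h)
    (by
      apply AdjoinRoot.algHom_ext
      rw [AlgHom.comp_apply, ofAdj_root, toAdj_t, AlgHom.id_apply])
    (by
      apply SekSuwa.AK.algHom_ext
      · rw [AlgHom.comp_apply, toAdj_t, ofAdj_root, AlgHom.id_apply]
      · rw [AlgHom.comp_apply, toAdj_inv, map_pow, map_add, map_one, map_smul, ofAdj_root,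
          AK_inv_eq h hN, AlgHom.id_apply])

end helpers

/-- For any commutative ring R, λ ∈ R and N ≥ 1 such that λ is a non-zero-divisor and λ^N divides (1 +
λX)^N − 1 in R[X] with quotient P_{λ,N}, the R-group scheme G_{λ,N}, defined as the closed subscheme
of the affine R-group G^(λ) = Spec R[T, 1/(1+λT)] cut out by P_{λ,N}(T), is finite locally free of
degree N over Spec R (its coordinate ring is R[T]/(P_{λ,N}(T)) with P_{λ,N} monic of degree N). (The
published text states this over a discrete valuation ring with N = p^n: G_{λ,n} is a commutative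
finite flat group scheme of rank p^n.) -/
theorem result (R : Type u) [CommRing R] (lam : R) (N : ℕ) (hN : 0 < N) (h : SekSuwa.DivCond lam N) :
    Mor2.IsFinLocFreeOfDeg N (SekSuwa.GK R lam N h).hom := by
  have hmonic := monic_psiPoly h hN
  let e := equivAdj h hN
  haveI : Module.Finite R (AdjoinRoot (SekSuwa.psiPoly lam N h)) := hmonic.finite_adjoinRoot
  haveI : Module.Free R (AdjoinRoot (SekSuwa.psiPoly lam N h)) := hmonic.free_adjoinRoot
  haveI : Module.Finite R (SekSuwa.AK R lam N h) := Module.Finite.equiv e.symm.toLinearEquiv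
  haveI : Module.Free R (SekSuwa.AK R lam N h) := Module.Free.of_equiv e.symm.toLinearEquiv
  haveI : Algebra.FinitePresentation R (SekSuwa.AK R lam N h) :=
    Algebra.FinitePresentation.equiv e.symm
  change Mor2.IsFinLocFreeOfDeg N
    (Spec.map (CommRingCat.ofHom (algebraMap R (SekSuwa.AK R lam N h))))
  refine ⟨⟨?_, ?_, ?_⟩, ?_⟩
  · rw [IsFinite.SpecMap_iff]
    exact RingHom.finite_algebraMap.mpr inferInstance
  · rw [Flat.SpecMap_iff]
    exact (RingHom.flat_algebraMap_iff).mpr inferInstance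
  · rw [LocallyOfFinitePresentation.SpecMap_iff]
    exact (RingHom.finitePresentation_algebraMap).mpr inferInstance
  · intro y
    haveI : Nontrivial R := by
      by_contra hR
      rw [not_nontrivial_iff_subsingleton] at hR
      exact (PrimeSpectrum.instIsEmptyOfSubsingleton (R := R)).false y
    rw [Scheme.Hom.finrank_SpecMap_algebraMap, Module.rankAtStalk_eq_finrank_of_free,
      Pi.natCast_def]
    change Module.finrank R (SekSuwa.AK R lam N h) = N
    rw [e.toLinearEquiv.finrank_eq, (AdjoinRoot.powerBasis' hmonic).finrank, AdjoinRoot.powerBasis'_dim,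
      natDegree_psiPoly h hN]

end Groth.Agent.S14694
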