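import Groth.Statements.S4809
-- import your own Groth.Agent.* helpers here
import Mathlib.AlgebraicGeometry.ZariskisMainTheorem
import Mathlib.RingTheory.LocalProperties.IntegrallyClosed

set_option autoImplicit false
universe u
open CategoryTheory AlgebraicGeometry
open Lim8

namespace Groth.Agent.S4809

open MorphismProperty in
theorem core' {A B K K' : Type u} [CommRing A] [CommRing B] [CommRing K] [CommRing K']
    [IsDomain A] [IsIntegrallyClosed A] [IsDomain K]
    (φ : A →+* B) (gA : A →+* K) (gB : B →+* K') (σ : K →+* K')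
    [Algebra A K] (halg : algebraMap A K = gA) [IsFractionRing A K]
    (hcomm : gB.comp φ = σ.comp gA) (hσ : Function.Bijective σ) (hgB : Function.Injective gB)
    (b : B) (hint : φ.IsIntegralElem b) : ∃ a, φ a = b := by
  obtain ⟨p, hp, hpb⟩ := hint
  obtain ⟨c, hc⟩ := hσ.2 (gB b)
  have h1 : σ (Polynomial.eval₂ gA c p) = 0 := by
    rw [Polynomial.hom_eval₂, ← hcomm, hc, ← Polynomial.hom_eval₂, hpb, map_zero]
  have h2 : Polynomial.eval₂ gA c p = 0 := hσ.1 (by rw [h1, map_zero])
  have h3 : IsIntegral A c := ⟨p, hp, by rw [halg]; exact h2⟩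
  obtain ⟨a, ha⟩ := IsIntegrallyClosed.algebraMap_eq_of_integral h3
  refine ⟨a, hgB ?_⟩
  have := congr($hcomm a)
  simp only [RingHom.coe_comp, Function.comp_apply] at this
  rw [this, ← halg, ha, hc]

theorem bijective_algebraMap_integralClosure {A B K K' : Type u} [CommRing A] [CommRing B]
    [CommRing K] [CommRing K'] [IsDomain A] [IsIntegrallyClosed A] [IsDomain K] [Algebra A B]
    (gA : A →+* K) (gB : B →+* K') (σ : K →+* K')
    [Algebra A K] (halg : algebraMap A K = gA) [IsFractionRing A K]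
    (hcomm : gB.comp (algebraMap A B) = σ.comp gA) (hσ : Function.Bijective σ)
    (hgB : Function.Injective gB) :
    Function.Bijective (algebraMap A (integralClosure A B)) := by
  constructor
  · intro a a' h
    have h' : algebraMap A B a = algebraMap A B a' := congrArg Subtype.val h
    have := congr($hcomm a)
    have := congr($hcomm a')
    simp only [RingHom.coe_comp, Function.comp_apply] at *
    have h4 : σ (gA a) = σ (gA a') := by rw [← ‹gB _ = σ (gA a)›, ← ‹gB _ = σ (gA a')›, h']
    exact IsFractionRing.injective A K (by rw [halg]; exact hσ.1 h4)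
  · rintro ⟨b, hb⟩
    obtain ⟨a, ha⟩ := core' (algebraMap A B) gA gB σ halg hcomm hσ hgB b hb
    exact ⟨a, Subtype.ext ha⟩

theorem isFractionRing_germ {Y : Scheme.{u}} [IsIntegral Y] (U : Y.Opens) (hU : IsAffineOpen U)
    (y : Y) (hy : y = genericPoint Y) (hyU : y ∈ U) :
    @IsFractionRing Γ(Y, U) _ (Y.presheaf.stalk y) _ (Y.presheaf.germ U y hyU).hom.toAlgebra := by
  subst hy
  have : Nonempty U := ⟨⟨_, hyU⟩⟩
  exact functionField_isFractionRing_of_isAffineOpen Y U hU

theorem isIntegrallyClosed_of_stalks {Y : Scheme.{u}} [IsIntegral Y]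
    (hN : ∀ y : Y, IsIntegrallyClosed (Y.presheaf.stalk y)) (U : Y.Opens) (hU : IsAffineOpen U)
    [Nonempty U] : IsIntegrallyClosed Γ(Y, U) := by
  apply IsIntegrallyClosed.of_localization_maximal
  intro p _ hp
  let y : PrimeSpectrum Γ(Y, U) := ⟨p, hp.isPrime⟩
  have hy : hU.fromSpec y ∈ U := by
    rw [← SetLike.mem_coe, ← hU.range_fromSpec]
    exact ⟨y, rfl⟩
  let := TopCat.Presheaf.algebra_section_stalk Y.presheaf ⟨hU.fromSpec y, hy⟩
  have hloc : IsLocalization.AtPrime (Y.presheaf.stalk (hU.fromSpec y)) p :=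
    hU.isLocalization_stalk' y hy
  have := hN (hU.fromSpec y)
  exact IsIntegrallyClosed.of_equiv
    (IsLocalization.algEquiv p.primeCompl (Y.presheaf.stalk (hU.fromSpec y))
      (Localization.AtPrime p)).toRingEquiv

open MorphismProperty in
theorem isOpenImmersion_of_birational_qc_sep {X Y : Scheme.{u}} [IsIntegral X] [IsIntegral Y]
    (hN : ∀ y : Y, IsIntegrallyClosed (Y.presheaf.stalk y)) (g : X ⟶ Y) [LocallyQuasiFinite g]
    [LocallyOfFiniteType g] [IsSeparated g] [QuasiCompact g]
    (hgen : g (genericPoint X) = genericPoint Y)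
    (hbir : IsIso (g.stalkMap (genericPoint X))) : IsOpenImmersion g := by
  have h1 : IsOpenImmersion g.toNormalization := inferInstance
  have h2 : IsIso g.fromNormalization := by
    rw [← isomorphisms.iff, IsZariskiLocalAtTarget.iff_of_iSup_eq_top (P := isomorphisms Scheme) _
      (iSup_affineOpens_eq_top Y)]
    intro W
    rw [isomorphisms.iff, isIso_morphismRestrict_iff_isIso_app _ W.2,
      g.fromNormalization_app W.2]
    let := (g.app W.1).hom.toAlgebra
    suffices IsIso (CommRingCat.ofHom (algebraMap Γ(Y, W.1)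
        (integralClosure Γ(Y, W.1) Γ(X, g ⁻¹ᵁ W.1)))) by infer_instance
    rw [ConcreteCategory.isIso_iff_bijective]
    by_cases hne : Nonempty W.1
    · have hηW : g (genericPoint X) ∈ W.1 := by
        rw [hgen]
        exact ((genericPoint_spec Y).mem_open_set_iff W.1.isOpen).mpr (by simpa using hne)
      have hη'W : genericPoint X ∈ g ⁻¹ᵁ W.1 := hηW
      have : IsIntegrallyClosed Γ(Y, W.1) := isIntegrallyClosed_of_stalks hN W.1 W.2
      let := (Y.presheaf.germ W.1 _ hηW).hom.toAlgebra
      have : IsFractionRing Γ(Y, W.1) (Y.presheaf.stalk (g (genericPoint X))) :=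
        isFractionRing_germ W.1 W.2 _ hgen hηW
      refine bijective_algebraMap_integralClosure (Y.presheaf.germ W.1 _ hηW).hom
        (X.presheaf.germ (g ⁻¹ᵁ W.1) _ hη'W).hom (g.stalkMap (genericPoint X)).hom rfl ?_
        (ConcreteCategory.bijective_of_isIso (g.stalkMap (genericPoint X)))
        (germ_injective_of_isIntegral X _ hη'W)
      rw [← CommRingCat.hom_comp, Scheme.Hom.germ_stalkMap]
      rfl
    · have hW' : W.1 = ⊥ := by
        ext x
        simp only [TopologicalSpace.Opens.coe_bot, Set.mem_empty_iff_false, iff_false]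
        exact fun hx => hne ⟨⟨x, hx⟩⟩
      have e : g ⁻¹ᵁ W.1 = ⊥ := by rw [hW']; ext; simp
      have s1 : Subsingleton Γ(Y, W.1) := hW' ▸ inferInstance
      have s2 : Subsingleton Γ(X, g ⁻¹ᵁ W.1) := e ▸ inferInstance
      have s3 : Subsingleton (integralClosure Γ(Y, W.1) Γ(X, g ⁻¹ᵁ W.1)) :=
        ⟨fun a b => Subtype.ext (Subsingleton.elim _ _)⟩
      exact ⟨fun a b _ => Subsingleton.elim _ _, fun b => ⟨0, Subsingleton.elim _ _⟩⟩
  rw [← g.toNormalization_fromNormalization]
  infer_instance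


theorem isOpenImmersion_resLE {X Y : Scheme.{u}} [IsIntegral X] [IsIntegral Y]
    (hN : ∀ y : Y, IsIntegrallyClosed (Y.presheaf.stalk y)) (f : X ⟶ Y) [LocallyQuasiFinite f]
    [LocallyOfFiniteType f] (hgen : f (genericPoint X) = genericPoint Y)
    (hbir : IsIso (f.stalkMap (genericPoint X)))
    (V : Y.Opens) (U : X.Opens) (e : U ≤ f ⁻¹ᵁ V) [Nonempty U]
    [IsSeparated (f.resLE V U e)] [QuasiCompact (f.resLE V U e)] :
    IsOpenImmersion (f.resLE V U e) := by
  have : Nonempty V := ⟨⟨f (Nonempty.some ‹Nonempty U›).1, e (Nonempty.some ‹Nonempty U›).2⟩⟩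
  have hηU : U.ι (genericPoint U) = genericPoint X := genericPoint_eq_of_isOpenImmersion U.ι
  have hηV : V.ι (genericPoint V) = genericPoint Y := genericPoint_eq_of_isOpenImmersion V.ι
  apply isOpenImmersion_of_birational_qc_sep
  · intro y
    have := hN (V.ι y)
    exact IsIntegrallyClosed.of_equiv (asIso (V.ι.stalkMap y)).commRingCatIsoToRingEquiv
  · apply V.ι.isOpenEmbedding.injective
    rw [hηV, ← Scheme.Hom.comp_apply, Scheme.Hom.resLE_comp_ι, Scheme.Hom.comp_apply, hηU, hgen]
  · have key : ∀ x : X, x = genericPoint X → IsIso (f.stalkMap x) := by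
      rintro _ rfl; exact hbir
    have := key _ hηU
    exact ((MorphismProperty.isomorphisms _).arrow_mk_iso_iff
      (Scheme.Hom.resLEStalkMap f e (genericPoint U))).mpr this


/-- Let Y be an integral normal scheme (every local ring integrally closed), X an integral scheme, and f
: X ⟶ Y a locally quasi-finite morphism (locally of finite type with discrete fibres) which is
birational: f maps the generic point of X to that of Y and its stalk map at the generic point of X,
the induced homomorphism of function fields, is an isomorphism. Then f is a local isomorphism, and f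
is an open immersion as soon as it is separated. -/
theorem result {X Y : Scheme.{u}} [IsIntegral X] [IsIntegral Y]
    (hN : ∀ y : Y, IsIntegrallyClosed (Y.presheaf.stalk y)) (f : X ⟶ Y) [LocallyQuasiFinite f]
    [LocallyOfFiniteType f] (hgen : f (genericPoint X) = genericPoint Y)
    (hbir : IsIso (f.stalkMap (genericPoint X))) :
    IsLocalIso f ∧ (IsSeparated f → IsOpenImmersion f) := by
  have hloc : IsLocalIso f := by
    constructor
    intro x
    obtain ⟨_, ⟨V, hV, rfl⟩, hxV, -⟩ := Y.isBasis_affineOpens.exists_subset_of_mem_open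
      (Set.mem_univ (f x)) isOpen_univ
    obtain ⟨_, ⟨U, hU, rfl⟩, hxU, hUV⟩ := X.isBasis_affineOpens.exists_subset_of_mem_open
      hxV (f ⁻¹ᵁ V).2
    have : Nonempty U := ⟨⟨x, hxU⟩⟩
    have : IsAffine U := hU
    have : IsAffine V := hV
    have : IsOpenImmersion (f.resLE V U hUV) := isOpenImmersion_resLE hN f hgen hbir V U hUV
    refine ⟨U, hxU, ?_⟩
    rw [← Scheme.Hom.resLE_comp_ι f hUV]
    infer_instance
  refine ⟨hloc, fun hsep => ?_⟩
  have hinj : Function.Injective f := by
    intro x1 x2 h12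
    obtain ⟨_, ⟨V, hV, rfl⟩, hxV, -⟩ := Y.isBasis_affineOpens.exists_subset_of_mem_open
      (Set.mem_univ (f x1)) isOpen_univ
    obtain ⟨_, ⟨U1, hU1, rfl⟩, hx1, hU1V⟩ := X.isBasis_affineOpens.exists_subset_of_mem_open
      hxV (f ⁻¹ᵁ V).2
    have hx2V : x2 ∈ f ⁻¹ᵁ V := by
      change f x2 ∈ V
      rw [← h12]; exact hxV
    obtain ⟨_, ⟨U2, hU2, rfl⟩, hx2, hU2V⟩ := X.isBasis_affineOpens.exists_subset_of_mem_open
      hx2V (f ⁻¹ᵁ V).2
    obtain ⟨U, hUdef⟩ : ∃ U : X.Opens, U = U1 ⊔ U2 := ⟨_, rfl⟩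
    have hx1U : x1 ∈ U := hUdef ▸ Or.inl hx1
    have hx2U : x2 ∈ U := hUdef ▸ Or.inr hx2
    have hUV : U ≤ f ⁻¹ᵁ V := hUdef ▸ sup_le hU1V hU2V
    have : Nonempty U := ⟨⟨x1, hx1U⟩⟩
    have : IsAffine V := hV
    have : CompactSpace U := by
      rw [hUdef]
      exact isCompact_iff_compactSpace.mp (hU1.isCompact.union hU2.isCompact)
    have : QuasiCompact (f.resLE V U hUV) :=
      (HasAffineProperty.iff_of_isAffine (P := @QuasiCompact)).mpr ‹_›
    have := isOpenImmersion_resLE hN f hgen hbir V U hUV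
    have hinj' := (f.resLE V U hUV).isOpenEmbedding.injective
    have h3 : (⟨x1, hx1U⟩ : U) = ⟨x2, hx2U⟩ :=
      hinj' (Subtype.ext (by simp [h12]))
    exact congrArg Subtype.val h3
  have hstalk : ∀ x, IsIso (f.stalkMap x) := by
    intro x
    obtain ⟨U, hxU, hU⟩ := hloc.exists_isOpenImmersion x
    obtain ⟨x', hx'⟩ : ∃ x' : U.toScheme, U.ι x' = x := ⟨⟨x, hxU⟩, rfl⟩
    subst hx'
    have h1 : IsIso ((U.ι ≫ f).stalkMap x') := inferInstance
    rw [Scheme.Hom.stalkMap_comp] at h1
    have h2 : IsIso (U.ι.stalkMap x') := inferInstance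
    exact @IsIso.of_isIso_comp_right _ _ _ _ _ _ _ h2 h1
  refine IsOpenImmersion.of_isIso_stalkMap f ?_
  refine .of_continuous_injective_isOpenMap f.continuous hinj ?_
  intro S hS
  rw [isOpen_iff_forall_mem_open]
  rintro _ ⟨x, hxS, rfl⟩
  obtain ⟨U, hxU, hU⟩ := hloc.exists_isOpenImmersion x
  refine ⟨(U.ι ≫ f) '' (U.ι ⁻¹' S), ?_,
    (U.ι ≫ f).isOpenEmbedding.isOpenMap _ (hS.preimage U.ι.continuous), ⟨⟨x, hxU⟩, hxS, rfl⟩⟩
  rintro _ ⟨u, hu, rfl⟩
  exact ⟨U.ι u, hu, rfl⟩

end Groth.Agent.S4809
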