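import Groth.Statements.S0089
import Groth.Agent.S4809
import Groth.Agent.S0288
import Groth.Agent.S4997
import Groth.Agent.Lib.Helper87.LocIrredScheme
import Groth.Agent.Lib.Helper69.FEtNormal

set_option autoImplicit false
open CategoryTheory CategoryTheory.Limits AlgebraicGeometry Opposite
universe u
open EtBase

namespace Groth.Agent.S0089

open AlgebraicGeometry CategoryTheory CategoryTheory.Limits

theorem map_genericPoint' {W X : Scheme.{u}} [IsIntegral W] [IsIntegral X] (f : W ⟶ X) [Flat f] :
    f (genericPoint W) = genericPoint X := by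
  obtain ⟨ξ, h1, h2⟩ := Flat.generalizingMap f (genericPoint_specializes (f (genericPoint W)))
  have : ξ = genericPoint W := (Specializes.antisymm h1 (genericPoint_specializes ξ)).eq
  rw [← this]; exact h2

theorem isIso_of_sepClosed {W X : Scheme.{u}} [IsIntegral W] [IsIntegral X]
    [IsSepClosed X.functionField] (x : X) (hx : x = genericPoint X) (w : W)
    (hw : w = genericPoint W) (φ : X.presheaf.stalk x ⟶ W.presheaf.stalk w)
    (hφ1 : φ.hom.FormallyUnramified) (hφ2 : φ.hom.EssFiniteType) : IsIso φ := by
  subst hx hw
  change X.functionField ⟶ W.functionField at φ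
  algebraize [φ.hom]
  have : Algebra.IsSeparable X.functionField W.functionField :=
    Algebra.FormallyUnramified.isSeparable _ _
  rw [ConcreteCategory.isIso_iff_bijective]
  exact IsSepClosed.algebraMap_bijective X.functionField W.functionField

theorem isIso_stalkMap_generic {W X : Scheme.{u}} [IsIntegral W] [IsIntegral X]
    [IsSepClosed X.functionField] (f : W ⟶ X) [Etale f] :
    IsIso (f.stalkMap (genericPoint W)) :=
  isIso_of_sepClosed _ (map_genericPoint' f) _ rfl _ (FormallyUnramified.stalkMap f _)
    (LocallyOfFiniteType.stalkMap f _)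

/-- an integral étale separated scheme over a normal integral scheme with separably closed function
field is an open subscheme. -/
theorem isOpenImmersion_of_integral {W X : Scheme.{u}} [IsIntegral W] [IsIntegral X]
    (hN : ∀ x : X, IsIntegrallyClosed (X.presheaf.stalk x))
    [IsSepClosed X.functionField] (f : W ⟶ X) [Etale f] [IsSeparated f] :
    IsOpenImmersion f := by
  haveI := Groth.Agent.S4997.locallyQuasiFinite_of_etale f
  exact (Groth.Agent.S4809.result hN f (map_genericPoint' f) (isIso_stalkMap_generic f)).2
    inferInstance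

/-- a scheme whose points all have irreducible open neighbourhoods is the disjoint union of its
irreducible components. -/
theorem exists_decomposition {U : Scheme.{u}}
    (hloc : ∀ x : U, ∃ W : Set U, IsOpen W ∧ IsIrreducible W ∧ x ∈ W) :
    ∃ (W : irreducibleComponents U → U.Opens), (∀ i, ((W i : U.Opens) : Set U) = i.1) ∧
      (⨆ i, W i = ⊤) ∧ Pairwise (Function.onFun Disjoint W) := by
  refine ⟨fun i => ⟨i.1, Groth.Agent.Lib.Helper87.LocIrred.isOpen_of_mem_irreducibleComponents
    hloc i.2⟩, fun i => rfl, ?_, ?_⟩
  · rw [eq_top_iff]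
    intro x _
    simp only [TopologicalSpace.Opens.mem_iSup]
    exact ⟨⟨irreducibleComponent x, irreducibleComponent_mem_irreducibleComponents x⟩,
      mem_irreducibleComponent⟩
  · intro i j hij
    simp only [Function.onFun]
    rw [disjoint_iff]
    ext x
    simp only [TopologicalSpace.Opens.coe_inf, TopologicalSpace.Opens.coe_mk, Set.mem_inter_iff,
      TopologicalSpace.Opens.coe_bot, Set.mem_empty_iff_false, iff_false, not_and]
    intro hxi hxj
    obtain ⟨W, hW, hWi, hxW⟩ := hloc x
    have := (Groth.Agent.Lib.Helper87.LocIrred.existsUnique_irreducibleComponent hW hWi hxW).unique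
      ⟨i.2, hxi⟩ ⟨j.2, hxj⟩
    exact hij (Subtype.ext this)


/-- Part (1) — over an integral normal scheme whose function field is separably closed, any separated
étale scheme is a disjoint union of open subschemes of the base. -/
theorem result {U X : Scheme.{u}} [IsIntegral X] (hN : ∀ x : X, IsIntegrallyClosed (X.presheaf.stalk x))
    [IsSepClosed X.functionField] (g : U ⟶ X) [AlgebraicGeometry.Etale g] [IsSeparated g] :
    ∃ (ι : Type u) (V : ι → X.Opens) (e : (∐ fun i => (V i : Scheme.{u})) ≅ U),
      ∀ i, Sigma.ι (fun i => (V i : Scheme.{u})) i ≫ e.hom ≫ g = (V i).ι := by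
  classical
  have hX' : Pi1.IsNormalScheme X := fun x => ⟨inferInstance, hN x⟩
  have hU' : Pi1.IsNormalScheme U := Groth.Agent.Lib.Helper69.FEtNormal.isNormalScheme_of_etale g hX'
  haveI : ∀ x : U, _root_.IsReduced (U.presheaf.stalk x) := fun x => by
    haveI := (hU' x).1
    infer_instance
  haveI : IsReduced U := isReduced_of_isReduced_stalk U
  have hloc : ∀ x : U, ∃ W : Set U, IsOpen W ∧ IsIrreducible W ∧ x ∈ W := fun x =>
    Groth.Agent.Lib.Helper87.LocIrred.exists_irreducible_nhd_of_etale g
      (fun y => by
        haveI := hN y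
        exact Groth.Agent.S0288.isGeomUnibranch_of_normal _) x
  obtain ⟨W, hW, hcov, hdisj⟩ := exists_decomposition hloc
  have hint : ∀ i, IsIntegral (W i).toScheme := fun i => by
    haveI : IrreducibleSpace (W i).toScheme := by
      have : IsIrreducible ((W i : U.Opens) : Set U) := by rw [hW i]; exact i.2.1
      exact Subtype.irreducibleSpace this
    exact isIntegral_of_irreducibleSpace_of_isReduced _
  have hoi : ∀ i, IsOpenImmersion ((W i).ι ≫ g) := fun i => by
    haveI := hint i
    exact isOpenImmersion_of_integral hN _
  let V : irreducibleComponents U → X.Opens := fun i =>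
    haveI := hoi i
    ((W i).ι ≫ g).opensRange
  let iso : ∀ i, (V i).toScheme ≅ (W i).toScheme := fun i =>
    haveI := hoi i
    IsOpenImmersion.isoOfRangeEq (V i).ι ((W i).ι ≫ g) (by simp [V])
  have hiso : ∀ i, (iso i).hom ≫ (W i).ι ≫ g = (V i).ι := fun i => by
    haveI := hoi i
    exact IsOpenImmersion.isoOfRangeEq_hom_fac _ _ _
  -- the cofan with legs `(iso i).hom ≫ (W i).ι` is also a colimit
  let f : ∀ i, (V i).toScheme ⟶ U := fun i => (iso i).hom ≫ (W i).ι
  have hfr : ∀ i, (f i).opensRange = W i := fun i => by
    simp only [f]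
    rw [Scheme.Hom.opensRange_comp_of_isIso, Scheme.Opens.opensRange_ι]
  obtain ⟨hc'⟩ : Nonempty (IsColimit (Cofan.mk U f)) := by
    apply nonempty_isColimit_cofanMk_of
    · simp only [hfr]; exact hcov
    · simpa only [hfr] using hdisj
  refine ⟨irreducibleComponents U, V,
    (coproductIsCoproduct _).coconePointUniqueUpToIso hc', fun i => ?_⟩
  rw [← Category.assoc]
  have h1 : Sigma.ι (fun i => (V i : Scheme.{u})) i ≫
      ((coproductIsCoproduct _).coconePointUniqueUpToIso hc').hom = f i :=
    IsColimit.comp_coconePointUniqueUpToIso_hom (coproductIsCoproduct _) hc' ⟨i⟩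
  rw [h1]
  simp only [f, Category.assoc]
  exact hiso i


end Groth.Agent.S0089
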