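import Mathlib
import Groth.Statements.S9867
import Groth.Agent.S0084

set_option autoImplicit false
open CategoryTheory CategoryTheory.Limits AlgebraicGeometry Opposite
universe u
open Desc

namespace Groth.Agent.S9867

theorem flat_codescendsAlong :
    RingHom.CodescendsAlong RingHom.Flat RingHom.FaithfullyFlat := by
  apply RingHom.CodescendsAlong.mk _ RingHom.Flat.respectsIso
  introv h H
  rw [RingHom.faithfullyFlat_algebraMap_iff] at h
  rw [RingHom.flat_algebraMap_iff] at H ⊢
  exact Module.Flat.of_flat_tensorProduct R T S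

theorem flat_descendsAlong :
    MorphismProperty.DescendsAlong @Flat
      (@Surjective ⊓ @Flat ⊓ @QuasiCompact : MorphismProperty Scheme.{u}) :=
  HasRingHomProperty.descendsAlong_flat flat_codescendsAlong

theorem result :
    MorphismProperty.DescendsAlong (fun _ _ f => Mor2.IsFinLocFree f : MorphismProperty Scheme.{u})
      (@Surjective ⊓ @Flat ⊓ @QuasiCompact : MorphismProperty Scheme.{u}) ∧
    ∀ d : ℕ, MorphismProperty.DescendsAlong (fun _ _ f => Mor2.IsFinLocFreeOfDeg d f : MorphismProperty Scheme.{u})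
      (@Surjective ⊓ @Flat ⊓ @QuasiCompact : MorphismProperty Scheme.{u}) := by
  haveI := Groth.Agent.S0084.result.{u}
  haveI := flat_descendsAlong.{u}
  have key : ∀ {A X Y Z : Scheme.{u}} {fst : A ⟶ X} {snd : A ⟶ Y} {f : X ⟶ Z} {g : Y ⟶ Z},
      IsPullback fst snd f g →
      (@Surjective ⊓ @Flat ⊓ @QuasiCompact : MorphismProperty Scheme.{u}) f →
      Mor2.IsFinLocFree fst → Mor2.IsFinLocFree g := by
    intro A X Y Z fst snd f g h hf hfst
    exact ⟨MorphismProperty.of_isPullback_of_descendsAlong (P := @IsFinite) h hf hfst.1,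
      MorphismProperty.of_isPullback_of_descendsAlong (P := @Flat) h hf hfst.2.1,
      MorphismProperty.of_isPullback_of_descendsAlong (P := @LocallyOfFinitePresentation) h hf
        hfst.2.2⟩
  refine ⟨⟨fun h hf hfst => key h hf hfst⟩, fun d => ⟨fun {A X Y Z fst snd f g} h hf hfst => ?_⟩⟩
  have hg : Mor2.IsFinLocFree g := key h hf hfst.1
  refine ⟨hg, fun z => ?_⟩
  haveI : IsFinite g := hg.1
  haveI : Flat g := hg.2.1
  haveI : Surjective f := hf.1.1
  obtain ⟨x, rfl⟩ := f.surjective z
  rw [← Scheme.Hom.finrank_of_isPullback snd fst g f h.flip x]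
  exact hfst.2 x

end Groth.Agent.S9867
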