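import Groth.Statements.S0020
import Groth.Agent.Lib.Helper64.FinTypeStalk

set_option autoImplicit false
universe u
open Coherent

namespace Groth.Agent.S0020

open AlgebraicGeometry CategoryTheory TopologicalSpace


open AlgebraicGeometry in
/-- On a scheme X, the set of points at which the stalk of a finite type 𝒪_X-module M is nonzero (the
support of M) is closed. -/
theorem result (X : Scheme.{u}) (M : X.Modules) (hM : CohB1.IsFT M) :
    IsClosed (CohB1.support M) := by
  rw [← isOpen_compl_iff, isOpen_iff_forall_mem_open]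
  intro x hx
  have hs : Subsingleton (M.presheaf.stalk x) := not_not.mp hx
  obtain ⟨U, hxU, n, s, hs'⟩ := Groth.Agent.Lib.Helper64.FinTypeStalk.exists_local_generators M hM x
  -- each s i has zero germ at x, so vanishes on a neighbourhood
  have h1 : ∀ i : Fin n, ∃ (V : X.Opens) (hxV : x ∈ V) (hVU : V ≤ U),
      M.presheaf.map (homOfLE hVU).op (s i) = 0 := by
    intro i
    have h0 : M.presheaf.germ U x hxU (s i) = M.presheaf.germ U x hxU 0 :=
      Subsingleton.elim _ _
    obtain ⟨W, hxW, iU, iV, h⟩ := M.presheaf.germ_eq x hxU hxU _ _ h0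
    refine ⟨W, hxW, iU.le, ?_⟩
    have := h
    simp only [map_zero] at this
    exact this
  choose V hxV hVU hV using h1
  let W : X.Opens := U ⊓ ⨅ i : Fin n, V i
  have hxW : x ∈ W := by
    refine ⟨hxU, ?_⟩
    show x ∈ ((⨅ i : Fin n, V i : X.Opens) : Set X)
    rw [Opens.coe_iInf]
    exact Set.mem_iInter.mpr hxV
  refine ⟨W, ?_, W.2, hxW⟩
  intro y hy
  show ¬ ¬ Subsingleton (M.presheaf.stalk y)
  rw [not_not]
  have hyU : y ∈ U := hy.1
  have hz : ∀ i, M.presheaf.germ U y hyU (s i) = 0 := by
    intro i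
    have hyV : y ∈ V i := by
      have h2 : y ∈ ((⨅ i : Fin n, V i : X.Opens) : Set X) := hy.2
      rw [Opens.coe_iInf] at h2
      exact Set.mem_iInter.mp h2 i
    have := TopCat.Presheaf.germ_res_apply M.presheaf (homOfLE (hVU i)) y hyV (s i)
    rw [← this, hV i, map_zero]
  have htop := hs' y hyU
  have : (Set.range fun i => M.presheaf.germ U y hyU (s i)) ⊆ {0} := by
    rintro _ ⟨i, rfl⟩
    exact hz i
  have hbot : (⊤ : Submodule (X.presheaf.stalk y) (M.presheaf.stalk y)) = ⊥ := by
    rw [← htop]
    exact (Submodule.span_eq_bot.mpr (fun z hz' => this hz'))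
  exact (Submodule.subsingleton_iff _).mp (subsingleton_of_bot_eq_top hbot.symm)

end Groth.Agent.S0020
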