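import Groth.Statements.S0008
import Groth.Agent.Lib.Helper26.CechVanish
import Groth.Agent.Lib.Helper26.AffineVanishing

set_option autoImplicit false
universe u
open Coherent

namespace Groth.Agent.S0008

open AlgebraicGeometry CategoryTheory TopologicalSpace Limits Opposite

theorem isAffineOpen_of_eq {X : Scheme.{u}} {U V : X.Opens} (h : U = V) (hV : IsAffineOpen V) :
    IsAffineOpen U := h ▸ hV

theorem iInf_basicOpen {A : Type u} [CommRing A] {κ : Type*} (f : κ → A) (n : ℕ) (a : Fin (n + 1) → κ) :
    (iInf fun k => (PrimeSpectrum.basicOpen (f (a k)) : Opens (PrimeSpectrum A))) =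
      PrimeSpectrum.basicOpen (∏ k, f (a k)) := by
  ext x
  simp only [Opens.coe_iInf, Set.mem_iInter, SetLike.mem_coe, PrimeSpectrum.mem_basicOpen]
  constructor
  · intro h hx
    obtain ⟨k, -, hk⟩ := (Ideal.IsPrime.prod_mem_iff (p := x.asIdeal)).mp hx
    exact h k hk
  · intro h k hk
    exact h ((Ideal.IsPrime.prod_mem_iff (p := x.asIdeal)).mpr ⟨k, Finset.mem_univ k, hk⟩)



open AlgebraicGeometry in
/-- For a ring A, an A-module M and elements f_1, …, f_n generating the unit ideal, the Čech cohomology
of the associated module on Spec A with respect to the covering by the basic opens D(f_i) vanishes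
in every positive degree. -/
theorem result (A : Type u) [CommRing A] (M : ModuleCat.{u} A)
    (n : ℕ) (f : ULift.{u} (Fin n) → A) (hf : Ideal.span (Set.range f) = ⊤) (p : ℕ) (hp : 0 < p) :
    CategoryTheory.Limits.IsZero (CohB1.cechH (fun i => PrimeSpectrum.basicOpen (f i)) (tilde (R := CommRingCat.of A) M) p) := by
  obtain ⟨q, rfl⟩ := Nat.exists_eq_succ_of_ne_zero hp.ne'
  have key := Groth.Agent.Lib.Helper26.CechVanish.isZero_cechH_succ
    (X := (Spec (CommRingCat.of A)).toTopCat)
    (fun i : ULift.{u} (Fin n) => (PrimeSpectrum.basicOpen (f i) : (Spec (CommRingCat.of A)).Opens))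
    {V | IsAffineOpen V} ?_ ?_ q (Coh.toAb (tilde (R := CommRingCat.of A) M)) ?_
  · exact key
  · intro m a
    have h : (iInf fun k => ((PrimeSpectrum.basicOpen (f (a k)) : Opens (PrimeSpectrum A)) :
        (Spec (CommRingCat.of A)).Opens)) =
        (PrimeSpectrum.basicOpen (∏ k, f (a k)) : Opens (PrimeSpectrum A)) := iInf_basicOpen f m a
    exact isAffineOpen_of_eq (X := Spec (CommRingCat.of A)) h
      (IsAffineOpen.Spec_basicOpen (R := CommRingCat.of A) _)
  · have h : (iSup fun i : ULift.{u} (Fin n) =>
        ((PrimeSpectrum.basicOpen (f i) : Opens (PrimeSpectrum A)) :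
          (Spec (CommRingCat.of A)).Opens)) = ⊤ :=
      PrimeSpectrum.iSup_basicOpen_eq_top_iff.mpr hf
    exact isAffineOpen_of_eq (X := Spec (CommRingCat.of A)) h
      (isAffineOpen_top (Spec (CommRingCat.of A)))
  · intro V hV k
    exact Groth.Agent.Lib.Helper26.AffineVanishing.subsingleton_HU_succ _ k hV

end Groth.Agent.S0008
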