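import Groth.Statements.S0011
import Groth.Agent.S0012
import Groth.Agent.S0007
import Groth.Agent.Lib.Helper2.QCohLim
import Groth.Agent.Lib.Lead.QCohPush
import Groth.Agent.Lib.Helper21.QCohKernel
import Groth.Agent.Lib.Helper78.ModStalkExact

set_option autoImplicit false
universe u
open Coherent

namespace Groth.Agent.S0011

open AlgebraicGeometry CategoryTheory TopologicalSpace Limits Opposite

set_option linter.style.haveILetI false

variable {X : Scheme.{u}}

theorem isAffineHom_ι (hd : ∀ V W : X.Opens, IsAffineOpen V → IsAffineOpen W → IsAffineOpen (V ⊓ W))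
    (U : X.Opens) (hU : IsAffineOpen U) : IsAffineHom U.ι := by
  refine ⟨fun V hV => ?_⟩
  rw [← U.ι.isAffineOpen_iff_of_isOpenImmersion, Scheme.Hom.image_preimage_eq_opensRange_inf,
    Scheme.Opens.opensRange_ι]
  exact hd U V hU hV

/-- the module `j_* (M|_U)` -/
noncomputable abbrev pr (M : X.Modules) (U : X.Opens) : X.Modules :=
  (Scheme.Modules.pushforward U.ι).obj (M.restrict U.ι)

/-- the unit `M ⟶ j_* (M|_U)` -/
noncomputable abbrev un (M : X.Modules) (U : X.Opens) : M ⟶ pr M U :=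
  (Scheme.Modules.restrictAdjunction U.ι).unit.app M

theorem un_app (M : X.Modules) (U V : X.Opens) (s : Γ(M, V)) :
    (un M U).app V s = M.presheaf.map (homOfLE (U.ι.image_preimage_le V)).op s := rfl

theorem pr_acyclic (hd : ∀ V W : X.Opens, IsAffineOpen V → IsAffineOpen W → IsAffineOpen (V ⊓ W))
    (M : X.Modules) [M.IsQuasicoherent] (U : X.Opens) (hU : IsAffineOpen U) (p : ℕ) (hp : 0 < p) :
    Subsingleton (Coh.HH X (pr M U) p) := by
  haveI := isAffineHom_ι hd U hU
  haveI : IsAffine (U : Scheme.{u}) := hU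
  haveI : (M.restrict U.ι).IsQuasicoherent := inferInstance
  obtain ⟨e⟩ := Groth.Agent.S0012.result U.ι (M.restrict U.ι) p
  haveI := Groth.Agent.S0007.result (↑U) (M.restrict U.ι) p hp
  exact e.symm.injective.subsingleton


open Abelian in
theorem ext_biprod_zero {C : Type*} [Category C] [Abelian C] {D : Type*} [Category D] [Abelian D]
    [HasExt D] (F : C ⥤ D) [F.Additive] (P : D) (A B : C) (p : ℕ)
    (hA : ∀ x : Ext P (F.obj A) p, x = 0) (hB : ∀ x : Ext P (F.obj B) p, x = 0)
    (x : Ext P (F.obj (A ⊞ B)) p) : x = 0 := by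
  have hid : 𝟙 (F.obj (A ⊞ B)) =
      F.map (biprod.fst : A ⊞ B ⟶ A) ≫ F.map (biprod.inl : A ⟶ A ⊞ B) +
        F.map (biprod.snd : A ⊞ B ⟶ B) ≫ F.map (biprod.inr : B ⟶ A ⊞ B) := by
    rw [← F.map_comp, ← F.map_comp, ← F.map_add, biprod.total, F.map_id]
  have hx : x = x.comp (Ext.mk₀ (𝟙 (F.obj (A ⊞ B)))) (add_zero p) := (Ext.comp_mk₀_id x).symm
  rw [hx, hid, Ext.mk₀_add, Ext.comp_add, ← Ext.mk₀_comp_mk₀, ← Ext.mk₀_comp_mk₀,
    ← Ext.comp_assoc_of_third_deg_zero, ← Ext.comp_assoc_of_third_deg_zero,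
    hA (x.comp (Ext.mk₀ (F.map (biprod.fst : A ⊞ B ⟶ A))) (add_zero p)),
    hB (x.comp (Ext.mk₀ (F.map (biprod.snd : A ⊞ B ⟶ B))) (add_zero p)),
    Ext.zero_comp, Ext.zero_comp, add_zero]

theorem subsingleton_HH_biprod (M₁ M₂ : X.Modules) (p : ℕ)
    [h1 : Subsingleton (Coh.HH X M₁ p)] [h2 : Subsingleton (Coh.HH X M₂ p)] :
    Subsingleton (Coh.HH X (M₁ ⊞ M₂) p) := by
  refine ⟨fun a b => ?_⟩
  have h0 := ext_biprod_zero (Groth.Agent.Lib.Helper78.ModStalkExact.toSh X) _ M₁ M₂ p
    (fun x => @Subsingleton.elim (Coh.HH X M₁ p) h1 x 0)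
    (fun x => @Subsingleton.elim (Coh.HH X M₂ p) h2 x 0)
  exact (h0 a).trans (h0 b).symm

theorem mono_of_injective {M N : X.Modules} (φ : M ⟶ N)
    (h : ∀ U : X.Opens, Function.Injective (φ.app U)) : Mono φ := by
  refine ⟨fun {T} α β hαβ => ?_⟩
  apply Scheme.Modules.hom_ext
  intro U
  ext s
  apply h U
  have := congrArg (fun ψ : T ⟶ N => ψ.app U s) hαβ
  exact this

theorem key (hd : ∀ V W : X.Opens, IsAffineOpen V → IsAffineOpen W → IsAffineOpen (V ⊓ W))
    (M : X.Modules) [M.IsQuasicoherent] (l : List X.Opens) (hl : ∀ U ∈ l, IsAffineOpen U) :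
    ∃ (M' : X.Modules) (i : M ⟶ M'), M'.IsQuasicoherent ∧
      (∀ p : ℕ, 0 < p → Subsingleton (Coh.HH X M' p)) ∧
      ∀ (V : X.Opens) (s : Γ(M, V)), i.app V s = 0 → ∀ U ∈ l,
        M.presheaf.map (homOfLE (U.ι.image_preimage_le V)).op s = 0 := by
  induction l with
  | nil =>
    haveI := isAffineHom_ι hd ⊥ (isAffineOpen_bot X)
    refine ⟨pr M ⊥, un M ⊥, inferInstance, fun p hp => pr_acyclic hd M ⊥ (isAffineOpen_bot X) p hp, ?_⟩
    intro V s _ U hU
    exact absurd hU (List.not_mem_nil)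
  | cons U l ih =>
    obtain ⟨M', i, hq, hac, hi⟩ := ih (fun W hW => hl W (List.mem_cons_of_mem _ hW))
    have hU : IsAffineOpen U := hl U List.mem_cons_self
    haveI := isAffineHom_ι hd U hU
    haveI : (pr M U).IsQuasicoherent := inferInstance
    refine ⟨pr M U ⊞ M', biprod.lift (un M U) i,
      Groth.Agent.Lib.Helper2.KerSec.isQuasicoherent_biprod _ _, fun p hp => ?_, ?_⟩
    · haveI := pr_acyclic hd M U hU p hp
      haveI := hac p hp
      exact subsingleton_HH_biprod _ _ p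
    · intro V s hs W hW
      rcases List.mem_cons.mp hW with rfl | hW
      · have h1 : (biprod.lift (un M W) i ≫ biprod.fst).app V s = 0 := by
          rw [Scheme.Modules.Hom.comp_app, ConcreteCategory.comp_apply, hs, map_zero]
        rw [biprod.lift_fst] at h1
        exact h1
      · have h1 : (biprod.lift (un M U) i ≫ biprod.snd).app V s = 0 := by
          rw [Scheme.Modules.Hom.comp_app, ConcreteCategory.comp_apply, hs, map_zero]
        rw [biprod.lift_snd] at h1
        exact hi V s h1 W hW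



open AlgebraicGeometry CategoryTheory in
/-- On a quasi-compact scheme in which affine opens have affine intersections, every quasi-coherent
module admits a monomorphism into a quasi-coherent module whose cohomology vanishes in all positive
degrees. (Part (2), universality of the delta-functor, is not stated.) -/
theorem result (X : Scheme.{u}) [CompactSpace X]
    (hd : ∀ V W : X.Opens, IsAffineOpen V → IsAffineOpen W → IsAffineOpen (V ⊓ W))
    (M : X.Modules) [Coh.IsQCoh M] :
    ∃ (M' : X.Modules) (i : M ⟶ M'), Mono i ∧ Coh.IsQCoh M' ∧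
      ∀ p : ℕ, 0 < p → Subsingleton (Coh.HH X M' p) := by
  classical
  obtain ⟨t, ht, hcov⟩ := (isCompact_iff_finite_and_eq_biUnion_affineOpens (X := X) (U := ⊤)).mp
    (by simpa using isCompact_univ)
  haveI : M.IsQuasicoherent := ‹Coh.IsQCoh M›
  obtain ⟨M', i, hq, hac, hi⟩ := key hd M (ht.toFinset.toList.map (fun U : X.affineOpens => U.1))
    (by
      intro U hU
      obtain ⟨U', -, rfl⟩ := List.mem_map.mp hU
      exact U'.2)
  refine ⟨M', i, ?_, hq, hac⟩
  apply mono_of_injective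
  intro V
  rw [injective_iff_map_eq_zero]
  intro s hs
  have h1 := hi V s hs
  refine TopCat.Sheaf.eq_of_locally_eq' ⟨M.presheaf, M.isSheaf⟩
    (fun U : t => (U.1.1.ι ''ᵁ U.1.1.ι ⁻¹ᵁ V : X.Opens)) V
    (fun U => homOfLE (U.1.1.ι.image_preimage_le V)) ?_ s 0 ?_
  · intro x hx
    have hx' : x ∈ (⊤ : X.Opens) := trivial
    rw [hcov] at hx'
    simp only [Opens.mem_iSup] at hx'
    obtain ⟨U, hUt, hxU⟩ := hx'
    refine Opens.mem_iSup.mpr ⟨⟨U, hUt⟩, ?_⟩
    rw [Scheme.Hom.image_preimage_eq_opensRange_inf, Scheme.Opens.opensRange_ι]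
    exact ⟨hxU, hx⟩
  · intro U
    rw [map_zero]
    exact h1 U.1.1 (List.mem_map.mpr ⟨U.1, by simp [U.2], rfl⟩)

end Groth.Agent.S0011
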