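import Groth.Statements.S0468
import Groth.Agent.S0862

set_option autoImplicit false
universe u
open CategoryTheory
open CohTop

namespace Groth.Agent.S0468

open TopologicalSpace Opposite CategoryTheory.Limits

section

variable {X : TopCat.{u}}

/-- In a quasi-separated space, a finite intersection of compact opens (with a compact open) is
compact. -/
lemma isCompact_inf_finset_inf [QuasiSeparatedSpace X] {κ : Type*} (f : κ → Opens X)
    (hf : ∀ k, IsCompact (f k : Set X)) (s : Finset κ) :
    ∀ V₀ : Opens X, IsCompact (V₀ : Set X) → IsCompact ((V₀ ⊓ s.inf f : Opens X) : Set X) := by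
  classical
  induction s using Finset.induction with
  | empty =>
    intro V₀ h
    rwa [Finset.inf_empty, inf_top_eq]
  | insert a s _ ih =>
    intro V₀ h
    rw [Finset.inf_insert, ← inf_assoc]
    apply ih
    rw [Opens.coe_inf]
    exact QuasiSeparatedSpace.inter_isCompact _ _ V₀.2 h (f a).2 (hf a)

lemma isCompact_iInf_fin [QuasiSeparatedSpace X] {n : ℕ} (f : Fin (n + 1) → Opens X)
    (hf : ∀ k, IsCompact (f k : Set X)) : IsCompact ((⨅ k, f k : Opens X) : Set X) := by
  have e : (⨅ k, f k) = f 0 ⊓ Finset.univ.inf f := by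
    rw [Finset.inf_univ_eq_iInf]
    exact (inf_eq_right.2 (iInf_le f 0)).symm
  rw [e]
  exact isCompact_inf_finset_inf f hf _ _ (hf 0)

/-- The underlying open of a product in `Over V` is the intersection. -/
lemma prod_left_eq_iInf {V : Opens X} {n : ℕ} (Z : Fin (n + 1) → Over V) :
    (∏ᶜ Z).left = ⨅ k, (Z k).left := by
  apply le_antisymm
  · exact le_iInf (fun k => leOfHom (Pi.π Z k).left)
  · let W : Over V := Over.mk (homOfLE ((iInf_le (fun k => (Z k).left) 0).trans
      (leOfHom (Z 0).hom)))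
    have l : W ⟶ ∏ᶜ Z := Pi.lift (fun k => Over.homMk (homOfLE (iInf_le (fun k => (Z k).left) k))
      (Subsingleton.elim _ _))
    exact leOfHom l.left

/-- The class of covering families used: finite families of compact opens covering a compact
open. -/
def Cov (V : Opens X) (κ : Type u) (Y : κ → Over V) : Prop :=
  Finite κ ∧ IsCompact (V : Set X) ∧ (∀ i, IsCompact ((Y i).left : Set X)) ∧ V ≤ ⨆ i, (Y i).left

lemma cov_h1 [QuasiSeparatedSpace X] (V : Opens X) (κ : Type u) (Y : κ → Over V)
    (h : Cov V κ Y) : Finite κ ∧ V ∈ {V : Opens X | IsCompact (V : Set X)} ∧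
      Sieve.ofArrows (fun i => (Y i).left) (fun i => (Y i).hom) ∈
        Opens.grothendieckTopology X V ∧
      ∀ (p : ℕ) (a : Fin (p + 1) → κ),
        (∏ᶜ fun k => Y (a k)).left ∈ {V : Opens X | IsCompact (V : Set X)} := by
  obtain ⟨hfin, hV, hY, hcov⟩ := h
  refine ⟨hfin, hV, ?_, ?_⟩
  · intro x hx
    obtain ⟨i, hi⟩ := Opens.mem_iSup.1 (hcov hx)
    exact ⟨(Y i).left, (Y i).hom, Sieve.ofArrows_mk _ _ i, hi⟩
  · intro p a
    change IsCompact (((∏ᶜ fun k => Y (a k)).left : Opens X) : Set X)
    rw [prod_left_eq_iInf]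
    exact isCompact_iInf_fin _ (fun k => hY (a k))

lemma cov_h2 [PrespectralSpace X] (V : Opens X) (hV : IsCompact (V : Set X))
    (T : Sieve V) (hT : T ∈ Opens.grothendieckTopology X V) :
    ∃ (κ : Type u) (Y : κ → Over V), Cov V κ Y ∧ ∀ i, T.arrows (Y i).hom := by
  -- for each point of `V`, a compact open neighbourhood in the sieve
  have hpt : ∀ x : V, ∃ W : Opens X, ∃ hWV : W ≤ V, IsCompact (W : Set X) ∧ (x : X) ∈ W ∧
      T.arrows (homOfLE hWV) := by
    intro x
    obtain ⟨W₀, f, hf, hxW₀⟩ := hT x.1 x.2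
    obtain ⟨W, ⟨hWo, hWc⟩, hxW, hWW₀⟩ :=
      (PrespectralSpace.isTopologicalBasis (X := X)).exists_subset_of_mem_open hxW₀ W₀.2
    have hle : (⟨W, hWo⟩ : Opens X) ≤ W₀ := hWW₀
    refine ⟨⟨W, hWo⟩, hle.trans (leOfHom f), hWc, hxW, ?_⟩
    have := T.downward_closed hf (homOfLE hle)
    have e : homOfLE hle ≫ f = homOfLE (hle.trans (leOfHom f)) := Subsingleton.elim _ _
    rwa [e] at this
  choose W hWV hWc hxW hWT using hpt
  obtain ⟨t, ht⟩ := hV.elim_finite_subcover (fun x : V => ((W x : Opens X) : Set X))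
    (fun x => (W x).2) (fun x hx => Set.mem_iUnion.2 ⟨⟨x, hx⟩, hxW ⟨x, hx⟩⟩)
  refine ⟨↥t, fun i => Over.mk (homOfLE (hWV i.1)), ⟨inferInstance, hV, fun i => hWc i.1, ?_⟩,
    fun i => hWT i.1⟩
  intro x hx
  obtain ⟨i, hi, hxi⟩ := Set.mem_iUnion₂.1 (ht hx)
  exact Opens.mem_iSup.2 ⟨⟨i, hi⟩, hxi⟩

end

open TopologicalSpace Opposite CategoryTheory.Limits in

/-- Let X be a space whose compact opens form a basis and are stable under pairwise intersections, U a
compact open and (F_i) a directed system of abelian sheaves. Then colim H^q(U, F_i) → H^q(U, colim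
F_i) is an isomorphism; stated as: H^q(U, -) preserves colimits of shape ι for every nonempty
directed preorder ι. -/
theorem result {X : TopCat.{u}} [PrespectralSpace X] [QuasiSeparatedSpace X]
    (U : Opens X) (hU : IsCompact (U : Set X))
    (ι : Type u) [Preorder ι] [IsDirected ι (· ≤ ·)] [Nonempty ι] (q : ℕ) :
    PreservesColimitsOfShape ι
      ((Sheaf.cohomologyPresheafFunctor (Opens.grothendieckTopology X) q).flip.obj (op U) :
        CohTop.Ab X ⥤ AddCommGrpCat.{u}) := by
  constructor
  intro F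
  exact Groth.Agent.S0862.result (Opens.grothendieckTopology X)
    {V : Opens X | IsCompact (V : Set X)} Cov cov_h1
    (fun V hV T hT => cov_h2 V hV T hT) U hU q ι F

end Groth.Agent.S0468
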