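import Groth.Statements.S0014
import Groth.Agent.S0009
import Groth.Agent.S2128
import Groth.Agent.S0468
import Groth.Agent.Lib.Helper68.HColim
import Groth.Agent.Lib.Helper42.ModSheaf
import Groth.Agent.Lib.Helper21.QCohKernel
import Groth.Agent.Lib.Helper21.CohNoeth
import Groth.Agent.Lib.Helper22.IdealModAff

set_option autoImplicit false
universe u
open Coherent

namespace Groth.Agent.S0014

section

open AlgebraicGeometry CategoryTheory CategoryTheory.Limits TopologicalSpace Opposite

/-- the underlying abelian sheaf functor -/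
noncomputable abbrev TT (X : Scheme.{u}) : X.Modules ⥤ CohTop.Ab X :=
  SheafOfModules.toSheaf X.ringCatSheaf

/-- `H^q(⊤, -)` on abelian sheaves -/
noncomputable abbrev GG (X : Scheme.{u}) (q : ℕ) : CohTop.Ab X ⥤ AddCommGrpCat.{u} :=
  (Sheaf.cohomologyPresheafFunctor (Opens.grothendieckTopology X) q).flip.obj (op ⊤)

/-- On a quasi-compact quasi-separated scheme: if every leg of a filtered colimit cocone of modules
factors through a module with vanishing `H^q`, then `H^q` of the colimit vanishes. -/
theorem subsingleton_HH_of_filtered (X : Scheme.{u}) [CompactSpace X] [QuasiSeparatedSpace X]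
    {J : Type u} [SmallCategory J] [IsFiltered J] (D : J ⥤ X.Modules) (c : Cocone D)
    (hc : IsColimit c) (q : ℕ)
    (h : ∀ j, ∃ (M : X.Modules) (a : D.obj j ⟶ M) (b : M ⟶ c.pt), a ≫ b = c.ι.app j ∧
      Subsingleton (Coh.HH X M q)) :
    Subsingleton (Coh.HH X c.pt q) := by
  classical
  haveI : CompactSpace X.toTopCat := ‹CompactSpace X›
  haveI : PrespectralSpace X.toTopCat := inferInstanceAs (PrespectralSpace X)
  haveI : QuasiSeparatedSpace X.toTopCat := ‹QuasiSeparatedSpace X›
  obtain ⟨α, _, _, _, F, hF⟩ := IsFiltered.exists_directed J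
  have hc1 : IsColimit (c.whisker F) := (Functor.Final.isColimitWhiskerEquiv F c).symm hc
  haveI : PreservesColimit (F ⋙ D) (TT X) :=
    Groth.Agent.Lib.Helper42.ModSheaf.toSheaf_preservesColimit X.ringCatSheaf (F ⋙ D)
  have hc2 : IsColimit ((TT X).mapCocone (c.whisker F)) := isColimitOfPreserves (TT X) hc1
  haveI : PreservesColimitsOfShape α (GG X q) :=
    Groth.Agent.S0468.result (X := X.toTopCat) ⊤ isCompact_univ α q
  have hc3 : IsColimit ((GG X q).mapCocone ((TT X).mapCocone (c.whisker F))) := isColimitOfPreserves (GG X q) hc2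
  haveI : Subsingleton (CohTop.HU (Coh.toAb c.pt) q (⊤ : Opens X)) := by
    have key : ∀ y : ((GG X q).obj ((TT X).obj c.pt) : AddCommGrpCat.{u}), y = 0 := by
      intro y
      obtain ⟨a, x, hx⟩ := Concrete.isColimit_exists_rep _ hc3 y
      obtain ⟨M, f, g, hfg, hM⟩ := h (F.obj a)
      haveI : Subsingleton (CohTop.H (Coh.toAb M) q) := hM
      haveI : Subsingleton (CohTop.HU (Coh.toAb M) q (⊤ : Opens X)) :=
        Groth.Agent.Lib.Helper68.HColim.subsingleton_HU_top_of_subsingleton_H (Coh.toAb M) q
      have h1 : ((GG X q).map ((TT X).map f)).hom x = 0 :=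
        Subsingleton.elim (α := CohTop.HU (Coh.toAb M) q (⊤ : Opens X)) _ _
      have h2 : ((GG X q).mapCocone ((TT X).mapCocone (c.whisker F))).ι.app a =
          (GG X q).map ((TT X).map f) ≫ (GG X q).map ((TT X).map g) := by
        show (GG X q).map ((TT X).map (c.ι.app (F.obj a))) = _
        rw [← hfg, Functor.map_comp, Functor.map_comp]
      rw [← hx, h2]
      show ((GG X q).map ((TT X).map g)).hom (((GG X q).map ((TT X).map f)).hom x) = 0
      rw [h1, map_zero]
    exact ⟨fun a b => (key a).trans (key b).symm⟩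
  exact Groth.Agent.Lib.Helper26.MVTop.subsingleton_H_of_subsingleton_HU_top (Coh.toAb c.pt) q

end

open AlgebraicGeometry CategoryTheory in
/-- If X is quasi-compact and quasi-separated and H^1 vanishes for every quasi-coherent submodule of
finite type of the structure sheaf, then X is affine. -/
theorem result (X : Scheme.{u}) [CompactSpace X]
    [QuasiSeparatedSpace X]
    (h : ∀ (I : X.Modules) (i : I ⟶ Coh.structureModule X), Mono i →
      Coh.IsQCoh I → CohB1.IsFT I → Subsingleton (Coh.HH X I 1)) : IsAffine X := by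
  apply Groth.Agent.S0009.result X
  intro I i hi hq
  obtain ⟨J, _, _, D, c, hc, hfp, rfl⟩ := Groth.Agent.S2128.result X I hq
  haveI : (c.pt).IsQuasicoherent := hq
  refine subsingleton_HH_of_filtered X D c hc 1 (fun j => ?_)
  haveI : SheafOfModules.IsFinitePresentation (R := X.ringCatSheaf) (D.obj j) := hfp j
  haveI : (D.obj j).IsQuasicoherent := inferInstance
  have hft : SheafOfModules.IsFiniteType (R := X.ringCatSheaf) (D.obj j) := inferInstance
  let ψ : D.obj j ⟶ c.pt := c.ι.app j
  haveI : (CategoryTheory.Limits.cokernel ψ : X.Modules).IsQuasicoherent :=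
    Groth.Agent.Lib.Helper21.QCohKernel.isQuasicoherent_cokernel ψ
  haveI hqi : (CategoryTheory.Abelian.image ψ : X.Modules).IsQuasicoherent :=
    Groth.Agent.Lib.Helper21.QCohKernel.isQuasicoherent_kernel (CategoryTheory.Limits.cokernel.π ψ)
  have hfi : SheafOfModules.IsFiniteType (R := X.ringCatSheaf)
      (CategoryTheory.Abelian.image ψ : X.Modules) :=
    Groth.Agent.Lib.Helper21.CohNoeth.isFiniteType_of_epi
      (CategoryTheory.Abelian.factorThruImage ψ) hft
  haveI : CategoryTheory.Mono (CategoryTheory.Abelian.image.ι ψ ≫ i) := CategoryTheory.mono_comp _ _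
  exact ⟨CategoryTheory.Abelian.image ψ, CategoryTheory.Abelian.factorThruImage ψ,
    CategoryTheory.Abelian.image.ι ψ, CategoryTheory.Abelian.image.fac ψ,
    h _ (CategoryTheory.Abelian.image.ι ψ ≫ i) inferInstance hqi hfi⟩

end Groth.Agent.S0014
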