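import Groth.Statements.S0015
import Mathlib.AlgebraicGeometry.Morphisms.QuasiCompact
import Mathlib.AlgebraicGeometry.Morphisms.QuasiSeparated

set_option autoImplicit false
universe u
open Coherent

namespace Groth.Agent.S0015

open AlgebraicGeometry in
/-- Let X be quasi-compact and quasi-separated and P a property of opens of X. If P holds for affine
opens, and P(U ∪ V) follows from P(U), P(V), P(U ∩ V) whenever U is quasi-compact open and V affine
open, then P holds for every quasi-compact open, in particular for X. -/
theorem result (X : Scheme.{u}) [CompactSpace X] [QuasiSeparatedSpace X]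
    (P : X.Opens → Prop) (h₁ : ∀ U : X.Opens, IsAffineOpen U → P U)
    (h₂ : ∀ U V : X.Opens, IsCompact (U : Set X) → IsAffineOpen V → P U → P V → P (U ⊓ V) →
      P (U ⊔ V))
    (U : X.Opens) (hU : IsCompact (U : Set X)) : P U := by
  classical
  -- Part 1: finite unions of basic opens inside an affine open
  have part1 : ∀ (V : X.Opens) (hV : IsAffineOpen V) (n : ℕ) (s : Finset Γ(X, V)), s.card ≤ n →
      P (s.sup fun f => X.basicOpen f) := by
    intro V hV n
    induction n with
    | zero =>
      intro s hs
      have : s = ∅ := by simpa using hs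
      subst this
      rw [Finset.sup_empty]
      exact h₁ ⊥ (isAffineOpen_bot X)
    | succ n ih =>
      intro s hs
      rcases s.eq_empty_or_nonempty with rfl | ⟨f, hf⟩
      · rw [Finset.sup_empty]
        exact h₁ ⊥ (isAffineOpen_bot X)
      · have hs' : s = insert f (s.erase f) := (Finset.insert_erase hf).symm
        have hcard : (s.erase f).card ≤ n := by
          rw [Finset.card_erase_of_mem hf]; omega
        rw [hs', Finset.sup_insert, sup_comm]
        refine h₂ _ _ ?_ (hV.basicOpen f) (ih _ hcard) (h₁ _ (hV.basicOpen f)) ?_
        · refine Finset.sup_induction (p := fun W : X.Opens => IsCompact (W : Set X)) ?_ ?_ ?_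
          · simp
          · intro a ha b hb
            rw [TopologicalSpace.Opens.coe_sup]
            exact ha.union hb
          · intro g _
            exact (hV.basicOpen g).isCompact
        · have : ((s.erase f).sup fun g => X.basicOpen g) ⊓ X.basicOpen f =
              ((s.erase f).image fun g => g * f).sup fun g => X.basicOpen g := by
            rw [Finset.sup_inf_distrib_right, Finset.sup_image]
            refine Finset.sup_congr rfl fun g _ => ?_
            simp [Scheme.basicOpen_mul]
          rw [this]
          exact ih _ (Finset.card_image_le.trans hcard)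
  -- Part 1': compact opens inside an affine open
  have part1' : ∀ (V : X.Opens) (hV : IsAffineOpen V) (W : X.Opens), W ≤ V →
      IsCompact (W : Set X) → P W := by
    intro V hV W hWV hW
    have key : ∀ x : W, ∃ f : Γ(X, V), X.basicOpen f ≤ W ∧ (x : X) ∈ X.basicOpen f :=
      fun x => hV.exists_basicOpen_le x (hWV x.2)
    choose f hf1 hf2 using key
    obtain ⟨t, ht⟩ := hW.elim_finite_subcover (fun x : W => (X.basicOpen (f x) : Set X))
      (fun x => (X.basicOpen (f x)).isOpen) (fun x hx => Set.mem_iUnion.mpr ⟨⟨x, hx⟩, hf2 ⟨x, hx⟩⟩)
    have hWeq : W = (t.image f).sup fun g => X.basicOpen g := by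
      apply le_antisymm
      · intro x hx
        obtain ⟨y, hy⟩ := Set.mem_iUnion.mp (ht hx)
        obtain ⟨hyt, hxy⟩ := Set.mem_iUnion.mp hy
        rw [Finset.sup_image]
        exact (Finset.le_sup (f := (fun g => X.basicOpen g) ∘ f) hyt) hxy
      · rw [Finset.sup_image]
        exact Finset.sup_le fun y _ => hf1 y
    rw [hWeq]
    exact part1 V hV _ _ le_rfl
  -- Part 2
  refine compact_open_induction_on U hU (h₁ ⊥ (isAffineOpen_bot X)) ?_
  intro S hS V hPS
  refine h₂ S V hS V.2 hPS (h₁ V V.2) (part1' V V.2 (S ⊓ V) inf_le_right ?_)
  rw [TopologicalSpace.Opens.coe_inf]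
  exact QuasiSeparatedSpace.inter_isCompact _ _ S.isOpen hS V.1.isOpen V.2.isCompact

end Groth.Agent.S0015
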