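import Groth.Statements.S0016
import Groth.Agent.Lib.Helper26.AffineVanishing
import Groth.Agent.Lib.Helper26.MVCover
import Mathlib.AlgebraicGeometry.Morphisms.QuasiCompact

set_option autoImplicit false
universe u
open Coherent

namespace Groth.Agent.S0016

open CategoryTheory AlgebraicGeometry TopologicalSpace
open Groth.Agent.Lib.Helper26.MVTop Groth.Agent.Lib.Helper26.AffineVanishing

theorem qa {X : Scheme.{u}} {A : X.Opens} (hA : IsAffineOpen A) (V : X.Opens) (hVA : V ≤ A)
    (hV : IsCompact (V : Set X)) :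
    ∃ d : ℕ, ∀ (M : X.Modules), Coh.IsQCoh M → ∀ n : ℕ, d ≤ n →
      Subsingleton (CohTop.HU (Coh.toAb M) n V) := by
  classical
  choose f hf1 hf2 using fun x : V => hA.exists_basicOpen_le (V := V) x (hVA x.2)
  obtain ⟨t, ht⟩ := hV.elim_finite_subcover (fun x : V => (X.basicOpen (f x) : Set X))
    (fun x => (X.basicOpen (f x)).isOpen)
    (fun x hx => Set.mem_iUnion.2 ⟨⟨x, hx⟩, hf2 ⟨x, hx⟩⟩)
  have hVeq : V = ⨆ y ∈ t, X.basicOpen (f y) := by
    apply le_antisymm
    · intro x hx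
      obtain ⟨y, hy⟩ := Set.mem_iUnion.1 (ht hx)
      obtain ⟨hyt, hxy⟩ := Set.mem_iUnion.1 hy
      exact Opens.mem_iSup.2 ⟨y, Opens.mem_iSup.2 ⟨hyt, hxy⟩⟩
    · exact iSup₂_le fun y _ => hf1 y
  refine ⟨t.card, fun M hM n hn => ?_⟩
  have := hM
  rw [hVeq]
  exact subsingleton_HU_biSup (Coh.toAb M) (fun W : X.Opens => ∃ g : Γ(X, A), W = X.basicOpen g)
    (by
      rintro _ _ ⟨g, rfl⟩ ⟨g', rfl⟩
      exact ⟨g * g', (X.basicOpen_mul g g').symm⟩)
    (by
      rintro _ ⟨g, rfl⟩ k
      exact subsingleton_HU_succ M k (hA.basicOpen g))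
    t (fun y => X.basicOpen (f y)) (fun y _ => ⟨f y, rfl⟩) n hn

theorem main {X : Scheme.{u}} [QuasiSeparatedSpace X] {ι : Type*} [DecidableEq ι] (s : Finset ι) :
    ∀ (U : ι → X.Opens), (∀ i ∈ s, IsAffineOpen (U i)) →
      ∃ d : ℕ, ∀ (M : X.Modules), Coh.IsQCoh M → ∀ n : ℕ, d ≤ n →
        Subsingleton (CohTop.HU (Coh.toAb M) n (⨆ i ∈ s, U i)) := by
  induction s using Finset.induction_on with
  | empty =>
    intro U _
    refine ⟨0, fun M _ n _ => ?_⟩
    simp only [Finset.notMem_empty, iSup_false, iSup_bot]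
    exact subsingleton_HU_bot _ n
  | insert a s ha ih =>
    intro U hU
    have hUa : IsAffineOpen (U a) := hU a (Finset.mem_insert_self a s)
    have hUs : ∀ i ∈ s, IsAffineOpen (U i) := fun i hi => hU i (Finset.mem_insert_of_mem hi)
    obtain ⟨d', hd'⟩ := ih U hUs
    have hcomp : IsCompact ((U a ⊓ ⨆ i ∈ s, U i : X.Opens) : Set X) := by
      rw [inf_iSup₂_eq]
      simp only [Opens.coe_iSup]
      exact s.isCompact_biUnion fun i hi =>
        QuasiSeparatedSpace.inter_isCompact _ _ (U a).isOpen hUa.isCompact (U i).isOpen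
          (hUs i hi).isCompact
    obtain ⟨d'', hd''⟩ := qa hUa (U a ⊓ ⨆ i ∈ s, U i) inf_le_left hcomp
    refine ⟨max d' d'' + 1, fun M hM n hn => ?_⟩
    obtain ⟨k, rfl⟩ : ∃ k, n = k + 1 := ⟨n - 1, by omega⟩
    have hk1 : d' ≤ k + 1 := by omega
    have hk2 : d'' ≤ k := by omega
    rw [Finset.iSup_insert]
    have := hM
    have h1 : Subsingleton (CohTop.HU (Coh.toAb M) (k + 1) (U a)) := subsingleton_HU_succ M k hUa
    have h2 : Subsingleton (CohTop.HU (Coh.toAb M) (k + 1) (⨆ i ∈ s, U i)) := hd' M hM _ hk1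
    have h3 : Subsingleton (CohTop.HU (Coh.toAb M) k (U a ⊓ ⨆ i ∈ s, U i)) := hd'' M hM _ hk2
    refine ⟨fun x y => ?_⟩
    have key : ∀ α : CohTop.HU (Coh.toAb M) (k + 1) (U a ⊔ ⨆ i ∈ s, U i), α = 0 := fun α =>
      eq_zero_of_sup (Coh.toAb M) _ _ k (exists_sub_of_subsingleton _ _ _ k) α
        (Subsingleton.elim _ _) (Subsingleton.elim _ _)
    exact (key x).trans (key y).symm



open AlgebraicGeometry in
/-- For a quasi-compact quasi-separated scheme X there is a natural number d such that H^p(X, F) = 0 for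
every quasi-coherent F and every p ≥ d; vanishing is stated as Subsingleton of the cohomology group.
(The published statement gives an explicit d in terms of a covering by quasi-compact separated
opens; here only existence of some d is asserted.) -/
theorem result (X : Scheme.{u}) [CompactSpace X]
    [QuasiSeparatedSpace X] :
    ∃ d : ℕ, ∀ (M : X.Modules), Coh.IsQCoh M → ∀ p : ℕ, d ≤ p → Subsingleton (Coh.HH X M p) := by
  classical
  obtain ⟨s, hs, hcov⟩ := (isCompact_iff_finite_and_eq_biUnion_affineOpens (X := X) (U := ⊤)).mp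
    (by simpa using isCompact_univ)
  obtain ⟨d, hd⟩ := main hs.toFinset (fun i : X.affineOpens => (i : X.Opens)) (fun i _ => i.2)
  refine ⟨d, fun M hM p hp => ?_⟩
  have h1 := hd M hM p hp
  have h2 : (⨆ i ∈ hs.toFinset, (i : X.Opens)) = ⊤ := by
    rw [hcov]
    simp only [Set.Finite.mem_toFinset]
  rw [h2] at h1
  exact subsingleton_H_of_subsingleton_HU_top (Coh.toAb M) p

end Groth.Agent.S0016
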