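import Groth.Statements.S0019
import Groth.Agent.Lib.Lead.QCohPush
import Groth.Agent.Lib.Lead.CohAff3

set_option autoImplicit false
universe u
open Coherent

namespace Groth.Agent.S0019

open AlgebraicGeometry CategoryTheory Scheme.Modules TopologicalSpace
open Groth.Agent.Lib.Lead.QCohAff Groth.Agent.Lib.Lead.CohAff Groth.Agent.Lib.Lead.QCohPush

theorem finite_sections_pushforward {X Y : Scheme.{u}} (f : X ⟶ Y) (M : X.Modules)
    (V : Y.Opens) (hR : (f.app V).hom.Finite)
    (hM : Module.Finite Γ(X, f ⁻¹ᵁ V) Γ(M, f ⁻¹ᵁ V)) :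
    Module.Finite Γ(Y, V) Γ((Scheme.Modules.pushforward f).obj M, V) := by
  letI : Algebra Γ(Y, V) Γ(X, f ⁻¹ᵁ V) := (f.app V).hom.toAlgebra
  letI : Module Γ(Y, V) Γ(M, f ⁻¹ᵁ V) := Module.compHom _ (f.app V).hom
  haveI : IsScalarTower Γ(Y, V) Γ(X, f ⁻¹ᵁ V) Γ(M, f ⁻¹ᵁ V) :=
    IsScalarTower.of_algebraMap_smul fun r m => rfl
  haveI : Module.Finite Γ(Y, V) Γ(X, f ⁻¹ᵁ V) := hR
  haveI : Module.Finite Γ(Y, V) Γ(M, f ⁻¹ᵁ V) := Module.Finite.trans Γ(X, f ⁻¹ᵁ V) _
  let e : Γ(M, f ⁻¹ᵁ V) ≃ₗ[Γ(Y, V)] Γ((Scheme.Modules.pushforward f).obj M, V) :=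
    { toFun := fun s => pfSec' f M s
      invFun := fun s => pfSec f M s
      left_inv := fun _ => rfl
      right_inv := fun _ => rfl
      map_add' := fun _ _ => rfl
      map_smul' := fun _ _ => rfl }
  exact Module.Finite.equiv e

open AlgebraicGeometry in
/-- If f : X → Y is a finite morphism of schemes with Y locally Noetherian and F is a coherent
O_X-module, then the direct image f_*F is a coherent O_Y-module. -/
theorem result {X Y : Scheme.{u}} (f : X ⟶ Y) [IsFinite f] [IsLocallyNoetherian Y]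
    (M : X.Modules) (hM : Coh.IsCoh M) : Coh.IsCoh ((Coh.push f).obj M) := by
  obtain ⟨h1, h2⟩ := hM
  haveI : M.IsQuasicoherent := h1
  haveI : ((Scheme.Modules.pushforward f).obj M).IsQuasicoherent := inferInstance
  refine ⟨inferInstanceAs ((Scheme.Modules.pushforward f).obj M).IsQuasicoherent, ?_⟩
  apply isFiniteType_of_finite_sections ((Scheme.Modules.pushforward f).obj M)
  intro y
  obtain ⟨_, ⟨V, hV : IsAffineOpen V, rfl⟩, hyV, -⟩ :=
    (Y.isBasis_affineOpens).exists_subset_of_mem_open (Set.mem_univ y) isOpen_univ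
  refine ⟨V, hV, hyV, ?_⟩
  exact finite_sections_pushforward f M V (IsFinite.finite_app f V hV)
    (finite_sections_of_isFiniteType M h2 (hV.preimage f))

end Groth.Agent.S0019
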