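import Groth.Statements.S9522
import Groth.Agent.Lib.Helper21.SubStep

set_option autoImplicit false
universe u
open CategoryTheory CategoryTheory.Limits AlgebraicGeometry
attribute [local instance] HasDerivedCategory.standard
open Coherent

namespace Groth.Agent.S9522

/-- Let X be a Noetherian scheme, Z₀ ⊆ X an irreducible closed subset with generic point ξ, and P an
isomorphism-invariant property of O_X-modules that holds for every zero module and such that (1) for
every short exact sequence 0 → F₁ → F → F₂ → 0 of coherent modules, P(F₁) and P(F₂) imply P(F); (2)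
for coherent F, P(F^⊕r) for some r ≥ 1 implies P(F); (3) P holds for i_*I for every closed immersion
i : Z → X with Z integral, i(Z) a proper subset of Z₀, and every quasi-coherent ideal sheaf I ⊆ O_Z;
(4) there is a coherent module G with support equal to Z₀, whose stalk at ξ is annihilated by the
maximal ideal of O_{X,ξ}, and such that for every quasi-coherent sheaf of ideals J on X with ξ ∉
V(J) there is a quasi-coherent submodule G' ⊆ J·G whose inclusion into G induces an isomorphism on
stalks at ξ and for which P holds. Then P holds for every coherent O_X-module whose support is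
contained in Z₀. (The published statement does not ask that P hold for the zero module, although its
proof uses this for a filtration with no steps; without it the conclusion fails for the zero module
when Z₀ is a closed point: on the spectrum of a field, with P(F) meaning that F is nonzero, every
other hypothesis holds. This row assumes that P holds for every zero module.) -/
theorem result (X : Scheme.{u}) [IsNoetherian X]
    (Z₀ : Set X) (hZ₀ : IsClosed Z₀) (hirr : IsIrreducible Z₀) (ξ : X) (hξ : ξ ∈ Z₀ ∧ closure {ξ} = Z₀)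
    (P : X.Modules → Prop) (hP : ∀ M N : X.Modules, Nonempty (M ≅ N) → P M → P N)
    (h₀ : ∀ M : X.Modules, IsZero M → P M)
    (h₁ : ∀ S : ShortComplex X.Modules, S.ShortExact → Coh.IsCoh S.X₁ → Coh.IsCoh S.X₂ → Coh.IsCoh S.X₃ →
      P S.X₁ → P S.X₃ → P S.X₂)
    (h₂ : ∀ (F : X.Modules) (r : ℕ), Coh.IsCoh F → 1 ≤ r → P (∐ fun _ : Fin r => F) → P F)
    (h₃ : ∀ (Z : Scheme.{u}) (i : Z ⟶ X), IsClosedImmersion i → IsIntegral Z →
      Set.range ⇑i ⊆ Z₀ → Set.range ⇑i ≠ Z₀ →
      ∀ (I : Z.Modules) (ι : I ⟶ Coh.structureModule Z), Mono ι → Coh.IsQCoh I → P ((Coh.push i).obj I))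
    (h₄ : ∃ G : X.Modules, Coh.IsCoh G ∧ CohB1.support G = Z₀ ∧
      (∀ a ∈ IsLocalRing.maximalIdeal (X.presheaf.stalk ξ), ∀ m : ↑(G.presheaf.stalk ξ), a • m = 0) ∧
      ∀ J : X.IdealSheafData, ξ ∉ (J.support : Set X) →
        ∃ (G' : X.Modules) (ι' : G' ⟶ (Dual3.idealMul J).obj G), Mono ι' ∧ Coh.IsQCoh G' ∧
          IsIso ((TopCat.Presheaf.stalkFunctor _ ξ).map (ι' ≫ Dual3.idealMulι J G).mapPresheaf) ∧ P G')
    (F : X.Modules) (hF : Coh.IsCoh F) (hsupp : CohB1.support F ⊆ Z₀) : P F := by
  obtain ⟨G, hG, hGs, hkill, hsubG⟩ := h₄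
  -- the induction hypothesis: modules whose support misses a point of `Z₀`
  have IH : ∀ y ∈ Z₀, ∀ F' : X.Modules, Coh.IsCoh F' → CohB1.support F' ⊆ Z₀ →
      y ∉ CohB1.support F' → P F' := by
    intro y hy F' hF' hFs hnot
    refine Groth.Agent.Lib.Helper21.ClImmDev.ext_devissage (CohB1.support F') P hP h₀
      (fun S hS h1 h2 h3 _ p1 p3 => h₁ S hS h1 h2 h3 p1 p3) ?_ F' hF' le_rfl
    intro Z i hcli hint hr I ι hι hI
    refine h₃ Z i hcli hint (hr.trans hFs) (fun h => hnot ?_) I ι hι hI
    apply hr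
    rw [h]
    exact hy
  obtain ⟨Z, i, hcl, hint, hrange⟩ :=
    Groth.Agent.Lib.Helper21.IntegralSub.exists_integral_closedImmersion Z₀ hZ₀ hirr
  have hξ' : closure {i (genericPoint Z)} = Z₀ :=
    (Groth.Agent.Lib.Helper21.IntegralSub.closure_genericPoint_image i).trans hrange
  have hgp₁ : IsGenericPoint (i (genericPoint Z)) Z₀ := hξ'
  have hgp₂ : IsGenericPoint ξ Z₀ := hξ.2
  have heq : i (genericPoint Z) = ξ := hgp₁.eq hgp₂
  refine Groth.Agent.Lib.Helper21.ClImmDev.ext_step i Z₀ hrange (fun M => Coh.IsCoh M → P M)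
    ?_ ?_ ?_ ?_ F hF hsupp hF
  · rintro M N ⟨e⟩ h hN
    exact hP _ _ ⟨e⟩ (h (Groth.Agent.Lib.Helper21.Devissage.isCoh_of_iso e.symm hN))
  · intro S hS h1 h2 h3 _ p1 p3 _
    exact h₁ S hS h1 h2 h3 (p1 h1) (p3 h3)
  · intro I ι hι hIq hc
    by_cases hz : CategoryTheory.Limits.IsZero I
    · exact h₀ _ (Groth.Agent.Lib.Helper21.ClImmDev.isZero_pushforward i hz)
    · haveI := hι
      have hsimple := Groth.Agent.Lib.Helper21.PushGeneric.isSimpleModule_stalk_push_ideal i I ι hc hz
      rw [heq] at hsimple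
      refine Groth.Agent.Lib.Helper21.SubStep.rank_lemma_sub Z₀ P hP h₁
        (fun F d hd hF hk => h₂ F d hF hd hk) ξ hξ.2 (IH ξ hξ.1) G hG hGs.le hkill
        (hGs ▸ hξ.1) ?_ _ hc ?_ hsimple
      · intro J hJ
        obtain ⟨G', ι', hm, hq, hiso, hPG'⟩ := hsubG J hJ
        exact ⟨G', ι', hm, hq, (CategoryTheory.ConcreteCategory.isIso_iff_bijective _).mp hiso,
          hPG'⟩
      · rw [← hrange]
        exact Groth.Agent.Lib.Helper21.ClImmSupport.support_pushforward_subset_range i
          i.isClosedEmbedding.isClosed_range _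
  · intro F' hF' hs' hnot _
    exact IH _ (hrange ▸ ⟨_, rfl⟩) F' hF' hs' hnot

end Groth.Agent.S9522
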