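import Groth.Statements.S0021
import Groth.Agent.S0009
import Groth.Agent.S0012
import Groth.Agent.S0007
import Groth.Agent.S0019
import Groth.Agent.S0820
import Groth.Agent.S9522
import Groth.Agent.Lib.Helper21.PushIdealMul
import Groth.Agent.Lib.Helper21.RootStep

set_option autoImplicit false
universe u
open Coherent

namespace Groth.Agent.S0021

open AlgebraicGeometry CategoryTheory CategoryTheory.Limits Abelian in
/-- cohomology of a retract vanishes if that of the ambient module does -/
theorem subsingleton_HH_of_retract {X : Scheme.{u}} {A B : X.Modules} (s : A ⟶ B) (r : B ⟶ A)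
    (h : s ≫ r = 𝟙 A) (n : ℕ) (hB : Subsingleton (Coh.HH X B n)) :
    Subsingleton (Coh.HH X A n) := by
  refine ⟨fun a b => ?_⟩
  suffices h0 : ∀ x : Coh.HH X A n, x = 0 from (h0 a).trans (h0 b).symm
  intro x
  have h1 : x.comp (Ext.mk₀ ((SheafOfModules.toSheaf X.ringCatSheaf).map s)) (add_zero n) = 0 :=
    @Subsingleton.elim (Coh.HH X B n) hB _ _
  have h2 : x = (x.comp (Ext.mk₀ ((SheafOfModules.toSheaf X.ringCatSheaf).map s))
      (add_zero n)).comp (Ext.mk₀ ((SheafOfModules.toSheaf X.ringCatSheaf).map r)) (add_zero n) := by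
    have hsr : (SheafOfModules.toSheaf X.ringCatSheaf).map s ≫
        (SheafOfModules.toSheaf X.ringCatSheaf).map r = 𝟙 _ := by
      rw [← CategoryTheory.Functor.map_comp]
      exact (congrArg (fun φ => (SheafOfModules.toSheaf X.ringCatSheaf).map φ) h).trans
        (CategoryTheory.Functor.map_id _ _)
    rw [Ext.comp_assoc_of_third_deg_zero, Ext.mk₀_comp_mk₀, hsr, Ext.comp_mk₀_id]
  rw [h2, h1, Ext.zero_comp]

open AlgebraicGeometry CategoryTheory CategoryTheory.Limits in
/-- Let f : Y → X be finite and surjective with Y affine and X Noetherian. Then X is affine. -/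
theorem result {Y X : Scheme.{u}} (f : Y ⟶ X) [IsFinite f]
    [Surjective f] [IsAffine Y] [IsNoetherian X] : IsAffine X := by
  classical
  let P : X.Modules → Prop := fun F => Subsingleton (Coh.HH X F 1)
  have hP : ∀ M N : X.Modules, Nonempty (M ≅ N) → P M → P N := by
    rintro M N ⟨e⟩ hM
    exact subsingleton_HH_of_retract e.inv e.hom e.inv_hom_id 1 hM
  have h₀ : ∀ M : X.Modules, IsZero M → P M :=
    fun M hM => Groth.Agent.S0009.subsingleton_HH_of_isZero M hM 1
  have h₁ : ∀ S : ShortComplex X.Modules, S.ShortExact → Coh.IsCoh S.X₁ → Coh.IsCoh S.X₂ →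
      Coh.IsCoh S.X₃ → P S.X₁ → P S.X₃ → P S.X₂ :=
    fun S hS _ _ _ p1 p3 => Groth.Agent.S0009.subsingleton_HH_of_shortExact hS 1 p1 p3
  have h₂ : ∀ (F : X.Modules) (r : ℕ), Coh.IsCoh F → 1 ≤ r → P (∐ fun _ : Fin r => F) → P F := by
    intro F r _ hr hp
    exact subsingleton_HH_of_retract (Sigma.ι (fun _ : Fin r => F) ⟨0, hr⟩)
      (Sigma.desc (fun _ => 𝟙 F)) (by simp) 1 hp
  have hpush : ∀ N : Y.Modules, N.IsQuasicoherent → P ((Coh.push f).obj N) := by
    intro N hN
    haveI : Coh.IsQCoh N := hN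
    obtain ⟨e⟩ := Groth.Agent.S0012.result f N 1
    haveI : Subsingleton (Coh.HH Y N 1) := Groth.Agent.S0007.result Y N 1 one_pos
    exact e.symm.toEquiv.subsingleton
  have main : ∀ F : X.Modules, Coh.IsCoh F → P F := by
    intro F hF
    refine Groth.Agent.Lib.Helper21.Devissage.noetherian_induction Set.univ P hP h₀
      (fun S hS c1 c2 c3 _ p1 p3 => h₁ S hS c1 c2 c3 p1 p3) ?_ F hF (Set.subset_univ _)
    intro Z₀ hZ₀ hirr _ IH F hF hFs
    obtain ⟨Z, i, hcl, hint, hrange⟩ :=
      Groth.Agent.Lib.Helper21.IntegralSub.exists_integral_closedImmersion Z₀ hZ₀ hirr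
    haveI := hcl
    haveI := hint
    have hξcl : closure {i (genericPoint Z)} = Z₀ :=
      (Groth.Agent.Lib.Helper21.IntegralSub.closure_genericPoint_image i).trans hrange
    have hξmem : i (genericPoint Z) ∈ Z₀ := hrange ▸ ⟨_, rfl⟩
    refine Groth.Agent.S9522.result X Z₀ hZ₀ hirr (i (genericPoint Z)) ⟨hξmem, hξcl⟩ P hP h₀ h₁ h₂
      ?_ ?_ F hF hFs
    · intro Z' i' hcl' hint' hsub hne I ι hι hIq
      haveI := hcl'
      haveI := hint'
      haveI := hι
      haveI : I.IsQuasicoherent := hIq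
      haveI : IsLocallyNoetherian Z' := LocallyOfFiniteType.isLocallyNoetherian i'
      haveI := Groth.Agent.Lib.Helper21.ClImmDev.isQuasicoherent_structureModule Z'
      have hIc : Coh.IsCoh I := ⟨hIq, Groth.Agent.Lib.Helper21.CohNoeth.isFiniteType_of_mono ι
        (Groth.Agent.Lib.Helper21.ClImmDev.isCoh_structureModule Z').2⟩
      have hc : Coh.IsCoh ((Coh.push i').obj I) := Groth.Agent.S0019.result i' I hIc
      have hs : CohB1.support ((Coh.push i').obj I) ⊆ Set.range i' :=
        Groth.Agent.Lib.Helper21.ClImmSupport.support_pushforward_subset_range i'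
          i'.isClosedEmbedding.isClosed_range _
      exact IH _ hc (hs.trans hsub) (fun h => hne (le_antisymm hsub (h ▸ hs)))
    · obtain ⟨F₀, hF₀, hsupp, hkill⟩ := Groth.Agent.S0820.result f Z i
      haveI : F₀.IsQuasicoherent := hF₀.1
      have hG : Coh.IsCoh ((Coh.push f).obj F₀) := Groth.Agent.S0019.result f F₀ hF₀
      haveI : ((Coh.push f).obj F₀).IsQuasicoherent := hG.1
      refine ⟨(Coh.push f).obj F₀, hG, hsupp.trans hrange, hkill, ?_⟩
      intro J hJ
      obtain ⟨e, -⟩ :=
        Groth.Agent.Lib.Helper21.PushIdealMul.exists_iso_idealMul_pushforward f F₀ J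
      refine ⟨(Dual3.idealMul J).obj ((Coh.push f).obj F₀), 𝟙 _, inferInstance, inferInstance,
        ?_, ?_⟩
      · rw [Category.id_comp]
        exact (ConcreteCategory.isIso_iff_bijective _).mpr
          (Groth.Agent.Lib.Helper21.RootStep.stalkMap_idealMulι_bijective J _ _ hJ)
      · exact hP _ _ ⟨e.symm⟩ (hpush _ inferInstance)
  apply Groth.Agent.S0009.result X
  intro I ι hι hIq
  haveI := hι
  haveI : I.IsQuasicoherent := hIq
  haveI := Groth.Agent.Lib.Helper21.ClImmDev.isQuasicoherent_structureModule X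
  exact main I ⟨hIq, Groth.Agent.Lib.Helper21.CohNoeth.isFiniteType_of_mono ι
    (Groth.Agent.Lib.Helper21.ClImmDev.isCoh_structureModule X).2⟩

end Groth.Agent.S0021
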