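import Groth.Statements.S0023
import Mathlib
import Groth.Agent.Lib.Helper93.PnCoh3
import Groth.Agent.Lib.Helper35.ProjRes

set_option autoImplicit false
universe u
open Coherent

namespace Groth.Agent.S0023

open AlgebraicGeometry CategoryTheory in
/-- cohomology vanishing transfers along isomorphisms of modules -/
lemma subsingleton_HH_of_iso {X : Scheme.{u}} {M N : X.Modules} (φ : M ≅ N) (q : ℕ)
    [Subsingleton (Coh.HH X M q)] : Subsingleton (Coh.HH X N q) := by
  let ψ : Coh.toAb M ≅ Coh.toAb N := (SheafOfModules.toSheaf X.ringCatSheaf).mapIso φ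
  refine ⟨fun x y => ?_⟩
  have hx : x = Sheaf.H.map ψ.hom q (Sheaf.H.map ψ.inv q x) := by
    rw [← Sheaf.H.map_comp_apply, Iso.inv_hom_id, Sheaf.H.map_id_apply]
  have hy : y = Sheaf.H.map ψ.hom q (Sheaf.H.map ψ.inv q y) := by
    rw [← Sheaf.H.map_comp_apply, Iso.inv_hom_id, Sheaf.H.map_id_apply]
  rw [hx, hy, Subsingleton.elim (Sheaf.H.map ψ.inv q x) (Sheaf.H.map ψ.inv q y)]

open AlgebraicGeometry in
/-- Special case of the twist d = 0 in positive degree: H^q(P^n_R, O) = 0 for all q > 0 and any ring R.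
(The full statement computes all H^q(P^n_R, O(d)); only the untwisted part is stated here.) -/
theorem result (n : ℕ) (R : Type u) [CommRing R]
    (q : ℕ) (hq : 0 < q) :
    Subsingleton (Coh.HH (CohB1.ProjSpace n R) (Coh.structureModule (CohB1.ProjSpace n R)) q) := by
  obtain ⟨φ⟩ := Groth.Agent.Lib.Helper35.ProjRes.twist_zero_iso (CohB1.polyGrading n R)
  haveI : Subsingleton (Coh.HH (Proj (CohB1.polyGrading n R)) (Twist.twist (CohB1.polyGrading n R) 0) q) :=
    Groth.Agent.Lib.Helper93.PnCoh.subsingleton_HH n R 0 q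
      (Or.inr ⟨hq, Or.inl (by have : (0 : ℤ) ≤ (n : ℤ) := Int.natCast_nonneg n; linarith)⟩)
  exact subsingleton_HH_of_iso φ q

end Groth.Agent.S0023
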