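import Groth.Statements.S0024
import Mathlib
import Groth.Agent.Lib.Helper93.ProjGamma2

set_option autoImplicit false
universe u
open Coherent

namespace Groth.Agent.S0024

open AlgebraicGeometry CategoryTheory in
/-- Special case d = 0, q = 0: the map R → Γ(P^n_R, O) induced by the structure morphism P^n_R → Spec R
is an isomorphism (global functions on projective space are the degree-zero part R of the polynomial
ring). -/
theorem result (n : ℕ) (R : Type u) [CommRing R] :
    IsIso (CohB1.ProjSpace.toSpec n R).appTop :=
  Groth.Agent.Lib.Helper93.ProjGamma.isIso_appTop n R

end Groth.Agent.S0024
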