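import Groth.Statements.S0027
import Groth.Agent.Lib.Helper21.ClImmDev

set_option autoImplicit false
universe u
open Coherent

namespace Groth.Agent.S0027

open AlgebraicGeometry CategoryTheory CategoryTheory.Limits in
/-- Let X be a nonempty Noetherian scheme and P an isomorphism-invariant property of O_X-modules such
that (1) in a short exact sequence of coherent modules, P for the two outer terms implies P for the
middle term, and (2) P holds for the direct image of every quasi-coherent ideal sheaf of every
integral closed subscheme of X. Then P holds for every coherent O_X-module. (Nonemptiness of X is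
needed for the zero module; the published statement leaves it implicit.) -/
theorem result (X : Scheme.{u}) [IsNoetherian X] [Nonempty X]
    (P : X.Modules → Prop) (hP : ∀ M N : X.Modules, Nonempty (M ≅ N) → P M → P N)
    (h₁ : ∀ S : ShortComplex X.Modules, S.ShortExact → Coh.IsCoh S.X₁ → Coh.IsCoh S.X₂ →
      Coh.IsCoh S.X₃ → P S.X₁ → P S.X₃ → P S.X₂)
    (h₂ : ∀ (Z : Scheme.{u}) (i : Z ⟶ X), IsClosedImmersion i → IsIntegral Z →
      ∀ (I : Z.Modules) (ι : I ⟶ Coh.structureModule Z), Mono ι → Coh.IsQCoh I →
        P ((Coh.push i).obj I))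
    (M : X.Modules) (hM : Coh.IsCoh M) : P M := by
  -- `P` holds for zero modules
  have hzero : ∀ M : X.Modules, IsZero M → P M := by
    intro M0 hM0
    obtain ⟨x⟩ := ‹Nonempty X›
    obtain ⟨Z, i, hcl, hint, -⟩ :=
      Groth.Agent.Lib.Helper21.IntegralSub.exists_integral_closedImmersion
        (closure {x}) isClosed_closure isIrreducible_singleton.closure
    obtain ⟨I0, h0⟩ := HasZeroObject.zero (C := Z.Modules)
    have hP0 := h₂ Z i hcl hint I0 0 (h0.mono _)
      (Groth.Agent.Lib.Helper21.Devissage.isCoh_of_isZero h0).1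
    exact hP _ _ ⟨(Groth.Agent.Lib.Helper21.ClImmDev.isZero_pushforward i h0).iso hM0⟩ hP0
  exact Groth.Agent.Lib.Helper21.ClImmDev.ext_devissage Set.univ P hP hzero
    (fun S hS h1 h2 h3 _ p1 p3 => h₁ S hS h1 h2 h3 p1 p3)
    (fun Z i hcl hint _ I ι hι hI => h₂ Z i hcl hint I ι hι hI) M hM (Set.subset_univ _)

end Groth.Agent.S0027
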