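import Groth.Statements.S0031
import Groth.Agent.Lib.Helper26.LerayBasis
import Groth.Agent.Lib.Helper26.QcqsBound

set_option autoImplicit false
universe u
open Coherent

namespace Groth.Agent.S0031

open AlgebraicGeometry CategoryTheory TopologicalSpace Limits

theorem key {X S : Scheme.{u}} (f : X ⟶ S) [QuasiCompact f] [QuasiSeparated f]
    (V : S.Opens) (hV : IsAffineOpen V) :
    ∃ d : ℕ, ∀ (h : Γ(X, f ⁻¹ᵁ V)) (M : X.Modules), Coh.IsQCoh M → ∀ n : ℕ, d ≤ n →
      Subsingleton (CohTop.HU (Coh.toAb M) n (X.basicOpen h)) := by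
  classical
  have hc : IsCompact (f ⁻¹ᵁ V : Set X) := QuasiCompact.isCompact_preimage _ V.2 hV.isCompact
  obtain ⟨t, ht, hteq⟩ := isCompact_iff_finite_and_eq_biUnion_affineOpens.mp hc
  have hZ : IsQuasiSeparated (f ⁻¹ᵁ V : Set X) := f.isQuasiSeparated_preimage hV.isQuasiSeparated
  obtain ⟨d, hd⟩ := Groth.Agent.Lib.Helper26.QcqsBound.mainT hZ ht.toFinset
    (fun i : X.affineOpens => i.1) (fun i hi => ⟨i.2, by
      rw [hteq]
      exact le_iSup₂_of_le i (ht.mem_toFinset.mp hi) le_rfl⟩)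
  refine ⟨d, fun h M hM n hn => ?_⟩
  have h1 := hd h M hM n hn
  have e : (⨆ i ∈ ht.toFinset, (i : X.Opens)) ⊓ X.basicOpen h = X.basicOpen h := by
    apply inf_eq_right.mpr
    refine (X.basicOpen_le h).trans ?_
    rw [hteq]
    simp only [Set.Finite.mem_toFinset]
    exact le_rfl
  rw [e] at h1
  exact h1



open AlgebraicGeometry CategoryTheory in
/-- If f : X → S is quasi-compact and quasi-separated and S is quasi-compact, there is an integer n with
R^p f_* F = 0 for all p ≥ n and all quasi-coherent F (higher direct images of the underlying abelian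
sheaves). -/
theorem result {X S : Scheme.{u}} (f : X ⟶ S) [QuasiCompact f]
    [QuasiSeparated f] [CompactSpace S] :
    ∃ n : ℕ, ∀ (M : X.Modules), Coh.IsQCoh M → ∀ p : ℕ, n ≤ p →
      Limits.IsZero ((Coh.RpushAb f p).obj (Coh.toAb M)) := by
  classical
  obtain ⟨s, hs, hcov⟩ := (isCompact_iff_finite_and_eq_biUnion_affineOpens (X := S) (U := ⊤)).mp
    (by simpa using isCompact_univ)
  choose d hd using fun V : S.affineOpens => key f V.1 V.2
  refine ⟨hs.toFinset.sup d + 1, fun M hM p hp => ?_⟩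
  obtain ⟨q, rfl⟩ : ∃ q, p = q + 1 := ⟨p - 1, by omega⟩
  refine Groth.Agent.Lib.Helper26.LerayBasis.isZero_Rpush_succ_of_basis f.base (Coh.toAb M)
    {W | ∃ V ∈ s, ∃ g : Γ(S, (V : S.Opens)), W = S.basicOpen g} ?_ q ?_
  · intro U x hx
    have hx' : x ∈ (⊤ : S.Opens) := trivial
    rw [hcov] at hx'
    simp only [Opens.mem_iSup] at hx'
    obtain ⟨V, hVs, hxV⟩ := hx'
    obtain ⟨g, hg1, hg2⟩ := V.2.exists_basicOpen_le (V := U) ⟨x, hx⟩ hxV
    exact ⟨_, ⟨V, hVs, g, rfl⟩, hg2, hg1⟩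
  · rintro _ ⟨V, hVs, g, rfl⟩
    have h1 := hd V (f.app V.1 g) M hM (q + 1) (by
      have : d V ≤ hs.toFinset.sup d := Finset.le_sup (f := d) (hs.mem_toFinset.mpr hVs)
      omega)
    rw [← Scheme.preimage_basicOpen] at h1
    exact h1

end Groth.Agent.S0031
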