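import Groth.Statements.S0032
import Groth.Agent.Lib.Helper26.QCohRpush
import Groth.Agent.Lib.Helper53.LerayDeg
import Groth.Agent.Lib.Helper53.PushTheta
import Groth.Agent.S0007
import Groth.Agent.S11319
import Groth.Prelude.Def_CohPull

set_option autoImplicit false
universe u
open Coherent

namespace Groth.Agent.S0032

open AlgebraicGeometry CategoryTheory Opposite Limits Abelian

--MARK
lemma injective_push {X S : Scheme.{u}} (f : X ⟶ S) (I : CohTop.Ab X) (hI : Injective I) :
    Injective ((CohTop.push f.base).obj I) :=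
  @Groth.Agent.Lib.Helper53.injective_push _ _ f.base I hI



open AlgebraicGeometry CategoryTheory Opposite in
/-- Let f : X → S be quasi-compact and quasi-separated with S affine, and F quasi-coherent on X. Then
H^q(X, F) is isomorphic to the global sections of R^q f_* F (higher direct image of the underlying
abelian sheaf), for every q. -/
theorem result {X S : Scheme.{u}} (f : X ⟶ S)
    [QuasiCompact f] [QuasiSeparated f] [IsAffine S] (M : X.Modules) [Coh.IsQCoh M] (q : ℕ) :
    Nonempty (Coh.HH X M q ≃+ ↑(((Coh.RpushAb f q).obj (Coh.toAb M)).obj.obj (op ⊤))) := by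
  have hir := Groth.Agent.Lib.Helper26.QCohRpush.hasInjectiveResolutions_modules X
  have hacyc : ∀ (q p : ℕ) (x : Ext (CohTop.const S (ULift.{u} ℤ))
      (((CohTop.push f.base).rightDerived q).obj (Coh.toAb M)) (p + 1)), x = 0 := by
    intro q p x
    obtain ⟨e⟩ := Groth.Agent.S11319.result f M q
    have hq : ((Coh.Rpush f q).obj M).IsQuasicoherent :=
      Groth.Agent.Lib.Helper26.QCohRpush.isQuasicoherent_rightDerived_pushforward f M ‹_› q
    have hsub : Subsingleton (Coh.HH S ((Coh.Rpush f q).obj M) (p + 1)) :=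
      @Groth.Agent.S0007.result S _ ((Coh.Rpush f q).obj M) hq (p + 1) (Nat.succ_pos p)
    have h1 : x = (x.comp (Ext.mk₀ e.inv) (add_zero _)).comp (Ext.mk₀ e.hom) (add_zero _) := by
      rw [Ext.comp_assoc_of_third_deg_zero, Ext.mk₀_comp_mk₀, e.inv_hom_id, Ext.comp_mk₀_id]
    rw [h1, hsub.elim (x.comp (Ext.mk₀ e.inv) (add_zero _)) 0, Ext.zero_comp]
  obtain ⟨e⟩ := Groth.Agent.Lib.Helper53.LerayDeg.nonempty_ext_equiv_hom_rightDerived
    (CohTop.push f.base) (injective_push f) (CohTop.const X (ULift.{u} ℤ))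
    (CohTop.const S (ULift.{u} ℤ)) (Groth.Agent.Lib.Helper53.pushTheta f.base)
    (Groth.Agent.Lib.Helper53.pushTheta_naturality f.base) (Coh.toAb M) hacyc q
  exact ⟨e.trans (Ext.addEquiv₀.symm.trans (Sheaf.H.equiv₀ _ isTerminalTop))⟩

end Groth.Agent.S0032
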