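import Groth.Statements.S0037
import Groth.Agent.Lib.Helper68.FiberStalk
import Groth.Agent.Lib.Helper26.AffineVanishing
import Groth.Agent.S0461
import Groth.Agent.Lib.Helper43.ZF0037

set_option autoImplicit false
universe u
open Coherent

namespace Groth.Agent.S0037

section Helpers

open CategoryTheory AlgebraicGeometry Opposite TopologicalSpace CategoryTheory.Limits

/-- the stalk of `R^p f_* F` at `y` vanishes if `H^p(f⁻¹V, F) = 0` for arbitrarily small
neighbourhoods `V` of `y` -/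
theorem isZero_stalk_Rpush {X Y : TopCat.{u}} (f : X ⟶ Y) (F : CohTop.Ab X) (y : Y) (p : ℕ)
    (h : ∀ U : Opens Y, y ∈ U → ∃ V : Opens Y, y ∈ V ∧ V ≤ U ∧
      Subsingleton (CohTop.HU F p ((Opens.map f).obj V))) :
    IsZero (TopCat.Presheaf.stalk ((CohTop.Rpush f p).obj F).obj y) := by
  obtain ⟨e₁⟩ := Groth.Agent.S0461.result f F p
  let Q : TopCat.Presheaf AddCommGrpCat.{u} Y := (Opens.map f).op ⋙ Sheaf.cohomologyPresheaf.{u} F p
  let i₁ : TopCat.Presheaf.stalk ((CohTop.Rpush f p).obj F).obj y ≅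
      TopCat.Presheaf.stalk
        ((presheafToSheaf (Opens.grothendieckTopology Y) AddCommGrpCat.{u}).obj Q).obj y :=
    (TopCat.Sheaf.forget AddCommGrpCat.{u} Y ⋙
      TopCat.Presheaf.stalkFunctor AddCommGrpCat.{u} y).mapIso e₁
  let i₂ : TopCat.Presheaf.stalk
        ((presheafToSheaf (Opens.grothendieckTopology Y) AddCommGrpCat.{u}).obj Q).obj y ≅
      TopCat.Presheaf.stalk Q y :=
    (Groth.Agent.Lib.Helper68.FiberStalk.stalkSheafifyIso y).app Q
  refine IsZero.of_iso ?_ (i₁ ≪≫ i₂)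
  have hsub : Subsingleton ((TopCat.Presheaf.stalk Q y : AddCommGrpCat.{u}) : Type u) := by
    refine ⟨fun a b => ?_⟩
    have key : ∀ x : ((TopCat.Presheaf.stalk Q y : AddCommGrpCat.{u}) : Type u), x = 0 := by
      intro x
      obtain ⟨U, hyU, s, rfl⟩ := TopCat.Presheaf.exists_germ_eq Q x
      obtain ⟨V, hyV, hVU, hV⟩ := h U hyU
      have h0 : (Q.map (homOfLE hVU).op) s = 0 := Subsingleton.elim (α := CohTop.HU F p ((Opens.map f).obj V)) _ _
      rw [← TopCat.Presheaf.germ_res_apply Q (homOfLE hVU) y hyV s, h0, map_zero]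
    rw [key a, key b]
  exact AddCommGrpCat.isZero_of_subsingleton _

end Helpers


open AlgebraicGeometry CategoryTheory in
/-- Let Y be locally Noetherian, f : X → Y proper and y a point whose fibre f⁻¹{y} is finite. Then for
every coherent F on X and every p > 0 the stalk of R^p f_* F at y vanishes. -/
theorem result {X Y : Scheme.{u}} (f : X ⟶ Y) [IsProper f]
    [IsLocallyNoetherian Y] (y : Y) (hy : (f.base ⁻¹' {y}).Finite) (M : X.Modules) (hM : Coh.IsCoh M)
    (p : ℕ) (hp : 0 < p) :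
    Limits.IsZero (TopCat.Presheaf.stalk ((Coh.RpushAb f p).obj (Coh.toAb M)).obj y) := by
  obtain ⟨V, hyV, hV⟩ := Groth.Agent.Lib.Helper43.ZF0037.exists_nhd_affine_preimage f y hy
  obtain ⟨q, rfl⟩ := Nat.exists_eq_succ_of_ne_zero hp.ne'
  have hq : Coh.IsQCoh M := hM.1
  refine isZero_stalk_Rpush f.base (Coh.toAb M) y (q + 1) ?_
  intro U hyU
  obtain ⟨_, ⟨W, hW, rfl⟩, hyW, hWU⟩ := Y.isBasis_affineOpens.exists_subset_of_mem_open
    (show y ∈ ((U ⊓ V : Y.Opens) : Set Y) from ⟨hyU, hyV⟩) (U ⊓ V).2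
  refine ⟨W, hyW, fun z hz => (hWU hz).1, ?_⟩
  exact Groth.Agent.Lib.Helper26.AffineVanishing.subsingleton_HU_succ M q
    (hV W (fun z hz => (hWU hz).2) hW)

end Groth.Agent.S0037
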