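import Groth.Statements.S0043
import Groth.Agent.Lib.Helper98.AffineKoszul
import Groth.Agent.Lib.Helper98.FlatAcyc
import Groth.Agent.Lib.Helper98.LerayNatSch

set_option autoImplicit false
universe u
open Coherent CategoryTheory AlgebraicGeometry Opposite TopologicalSpace

namespace Groth.Agent.S0043

section Helpers

theorem structureModule_isQuasicoherent (Y : Scheme.{u}) :
    (Coh.structureModule Y).IsQuasicoherent := by
  have h : (SheafOfModules.free (R := Y.ringCatSheaf) PUnit.{u+1}).IsQuasicoherent := inferInstance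
  exact ObjectProperty.prop_of_iso (SheafOfModules.isQuasicoherent Y.ringCatSheaf)
    (Limits.coproductUniqueIso (fun _ : PUnit.{u+1} => SheafOfModules.unit Y.ringCatSheaf)) h

theorem exists_fs (X : Scheme.{u}) [X.IsQuasiAffine] :
    ∃ fs : List Γ(X, ⊤), (∀ i : Fin fs.length, IsAffineOpen (X.basicOpen (fs.get i))) ∧
      (⨆ i : Fin fs.length, X.basicOpen (fs.get i)) = ⊤ := by
  let ι := { r : Γ(X, ⊤) // IsAffineOpen (X.basicOpen r) }
  have hcov : ∀ x : X, ∃ r : ι, x ∈ X.basicOpen r.1 := by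
    intro x
    obtain ⟨_, ⟨_, ⟨r, hr, rfl⟩, rfl⟩, hxr, -⟩ :=
      (Scheme.IsQuasiAffine.isBasis_basicOpen X).exists_subset_of_mem_open (Set.mem_univ x)
        isOpen_univ
    exact ⟨⟨r, hr⟩, hxr⟩
  obtain ⟨t, ht⟩ := isCompact_univ.elim_finite_subcover (fun r : ι => (X.basicOpen r.1 : Set X))
    (fun r => (X.basicOpen r.1).2) (fun x _ => by
      obtain ⟨r, hr⟩ := hcov x
      exact Set.mem_iUnion.2 ⟨r, hr⟩)
  refine ⟨t.toList.map (·.1), ?_, ?_⟩
  · intro i
    have : (t.toList.map (·.1)).get i ∈ t.toList.map (·.1) := List.get_mem _ _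
    obtain ⟨r, -, hr⟩ := List.mem_map.1 this
    rw [← hr]
    exact r.2
  · rw [eq_top_iff]
    intro x _
    have := ht (Set.mem_univ x)
    simp only [Set.mem_iUnion] at this
    obtain ⟨r, hrt, hxr⟩ := this
    have hm : r.1 ∈ t.toList.map (·.1) := List.mem_map.2 ⟨r, Finset.mem_toList.2 hrt, rfl⟩
    obtain ⟨i, hi⟩ := List.mem_iff_get.1 hm
    exact Opens.mem_iSup.2 ⟨i, by rw [hi]; exact hxr⟩

/-- `H^q(X, F) ≃ H^q(U, F|_U)` when `U = ⊤` -/
theorem HH_equiv_HHon {X : Scheme.{u}} (F : X.Modules) (U : X.Opens) (hU : U = ⊤) (q : ℕ) :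
    Nonempty (Coh.HH X F q ≃+ Coh.HHon X F U q) := by
  obtain ⟨e1⟩ := Groth.Agent.Lib.Helper53.nonempty_HU_equiv_H_restr
    (X := X.toTopCat) U (Coh.toAb F) q
  exact ⟨((Groth.Agent.Lib.Helper98.LerayNatSch.HtopEquiv (X := X.toTopCat) (Coh.toAb F) q).trans
    (Groth.Agent.Lib.Helper98.LerayNatSch.HUcongr (X := X.toTopCat) (Coh.toAb F) q hU.symm)).trans e1⟩

theorem ker_coker_trivial {X : Scheme.{u}} (F : X.Modules) (U : X.Opens) (hU : U = ⊤) :
    Subsingleton (((Coh.toAb F).obj.map (homOfLE (le_top : U ≤ ⊤)).op).hom.ker) ∧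
    Subsingleton (↑((Coh.toAb F).obj.obj (op U)) ⧸
      ((Coh.toAb F).obj.map (homOfLE (le_top : U ≤ ⊤)).op).hom.range) := by
  subst hU
  have h1 : (homOfLE (le_top : (⊤ : X.Opens) ≤ ⊤)) = 𝟙 _ := Subsingleton.elim _ _
  rw [h1]
  have h2 : (Coh.toAb F).obj.map (𝟙 (⊤ : X.Opens)).op = 𝟙 _ := by
    rw [op_id, CategoryTheory.Functor.map_id]
  rw [h2]
  constructor
  · constructor
    rintro ⟨a, ha⟩ ⟨b, hb⟩
    apply Subtype.ext
    have ha' : a = 0 := ha
    have hb' : b = 0 := hb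
    exact ha'.trans hb'.symm
  · have hr : (AddCommGrpCat.Hom.hom (𝟙 ((Coh.toAb F).obj.obj (op ⊤)))).range = ⊤ := by
      rw [AddMonoidHom.range_eq_top]
      intro x
      exact ⟨x, rfl⟩
    rw [hr]
    exact QuotientAddGroup.subsingleton_quotient_top

end Helpers


open AlgebraicGeometry in
/-- If X is quasi-affine and H^p(X, O_X) = 0 for all p > 0, then X is affine. -/
theorem result (X : Scheme.{u}) [X.IsQuasiAffine]
    (h : ∀ p : ℕ, 0 < p → Subsingleton (Coh.HH X (Coh.structureModule X) p)) : IsAffine X := by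
  obtain ⟨fs, haff, hsup⟩ := exists_fs X
  have : Coh.IsQCoh (Coh.structureModule X) := structureModule_isQuasicoherent X
  have hK : ∀ p : ℕ, Subsingleton (CohIII.koszulHLim fs
      (ModuleCat.of Γ(X, ⊤) ((Coh.structureModule X).val.obj (op ⊤))) p) := by
    intro p
    obtain ⟨hk, hc⟩ := ker_coker_trivial (Coh.structureModule X) _ hsup
    obtain ⟨⟨e0⟩, ⟨e1⟩⟩ := Groth.Agent.S2442.result X fs (Coh.structureModule X)
    match p with
    | 0 => exact e0.symm.injective.subsingleton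
    | 1 => exact e1.symm.injective.subsingleton
    | (q + 2) =>
      obtain ⟨e⟩ := Groth.Agent.S2439.result X fs haff (Coh.structureModule X) (q + 1) (by omega)
      obtain ⟨e'⟩ := HH_equiv_HHon (Coh.structureModule X) _ hsup (q + 1)
      have := h (q + 1) (by omega)
      have h2 : Subsingleton (Coh.HHon X (Coh.structureModule X)
          (⨆ i : Fin fs.length, X.basicOpen (fs.get i)) (q + 1)) := e'.symm.injective.subsingleton
      exact e.symm.injective.subsingleton
  have hex : ∀ n : ℤ, (DerCA.extCech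
      (ModuleCat.of Γ(X, ⊤) ((Coh.structureModule X).val.obj (op ⊤))) fs).ExactAt n := by
    intro n
    by_cases hn : n < 0
    · exact HomologicalComplex.ExactAt.of_isZero
        (Groth.Agent.Lib.Helper98.FlatAcyc.isZero_extCech_X_of_neg _ fs n hn)
    · obtain ⟨p, rfl⟩ : ∃ p : ℕ, n = (p : ℤ) := ⟨n.toNat, by omega⟩
      obtain ⟨e⟩ := Groth.Agent.Lib.Helper98.KoszulCechLim.koszulHLim_equiv fs
        (ModuleCat.of Γ(X, ⊤) ((Coh.structureModule X).val.obj (op ⊤))) p
      have := hK p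
      rw [HomologicalComplex.exactAt_iff_isZero_homology]
      exact ModuleCat.isZero_iff_subsingleton.mpr e.symm.injective.subsingleton
  have hs := Groth.Agent.Lib.Helper98.FlatAcyc.span_eq_top_of_acyclic
    (ModuleCat.of Γ(X, ⊤) ((Coh.structureModule X).val.obj (op ⊤)))
    (LinearEquiv.refl Γ(X, ⊤) Γ(X, ⊤)) fs hex
  refine isAffine_of_isAffineOpen_basicOpen {a | a ∈ fs} hs ?_
  intro a ha
  obtain ⟨i, rfl⟩ := List.mem_iff_get.1 ha
  exact haff i

end Groth.Agent.S0043
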