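import Groth.Statements.S0045
import Groth.Agent.Lib.Helper64.CohAffine
import Groth.Agent.Lib.Helper21.CohSupport
import Groth.Agent.Lib.Helper21.QCohKernel
import Groth.Agent.Lib.Helper21.QCohSections

set_option autoImplicit false
universe u
open Coherent

namespace Groth.Agent.S0045

open AlgebraicGeometry CategoryTheory TopologicalSpace Limits

set_option backward.isDefEq.respectTransparency.types false

/-- a module with zero stalks is zero -/
theorem isZero_of_stalks {X : Scheme.{u}} (G : X.Modules)
    (h : ∀ x : X, Subsingleton (G.presheaf.stalk x)) : IsZero G := by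
  by_contra hG
  obtain ⟨U, s, hs⟩ := Groth.Agent.Lib.Helper78.ModStalk.exists_section_ne_zero hG
  apply hs
  have hsh : TopCat.Presheaf.IsSheaf G.presheaf := G.isSheaf
  refine TopCat.Presheaf.section_ext ⟨_, hsh⟩ U s 0 ?_
  intro x hx
  exact Subsingleton.elim _ _

/-- a mono of quasi-coherent modules which is surjective on sections over an affine cover is iso -/
theorem isIso_of_surjective {X : Scheme.{u}} {A B : X.Modules} [A.IsQuasicoherent]
    [B.IsQuasicoherent] (ψ : A ⟶ B) [Mono ψ]
    (h : ∀ x : X, ∃ U : X.Opens, IsAffineOpen U ∧ x ∈ U ∧ Function.Surjective (ψ.app U)) :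
    IsIso ψ := by
  haveI : (cokernel ψ).IsQuasicoherent :=
    Groth.Agent.Lib.Helper21.QCohKernel.isQuasicoherent_cokernel ψ
  have hz : IsZero (cokernel ψ) := by
    apply isZero_of_stalks
    intro x
    obtain ⟨U, hU, hxU, hsurj⟩ := h x
    refine Groth.Agent.Lib.Helper21.CohSupport.subsingleton_stalk_of_subsingleton_sections
      (cokernel ψ) hU ?_ x hxU
    have hπ : Function.Surjective ((cokernel.π ψ).app U) :=
      Groth.Agent.Lib.Helper21.QCohSections.app_surjective_of_epi (cokernel.π ψ) hU
    refine ⟨fun a b => ?_⟩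
    suffices h0 : ∀ c : Γ(cokernel ψ, U), c = 0 by rw [h0 a, h0 b]
    intro c
    obtain ⟨b', rfl⟩ := hπ c
    obtain ⟨a', rfl⟩ := hsurj b'
    have : (ψ ≫ cokernel.π ψ).app U a' = 0 := by
      rw [cokernel.condition]; rfl
    exact this
  haveI : Epi ψ := Preadditive.epi_of_isZero_cokernel ψ hz
  exact isIso_of_mono_of_epi ψ


open Groth.Agent.Lib.Helper21.QCohSections in
theorem stab {X : Scheme.{u}} [IsLocallyNoetherian X] (M : X.Modules)
    (hM : Coh.IsCoh M) (F : ℕ →o Subobject M) (U : X.Opens) (hU : IsAffineOpen U) :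
    ∃ n : ℕ, ∀ m : ℕ, n ≤ m →
      LinearMap.range (appL (F n).arrow U) = LinearMap.range (appL (F m).arrow U) := by
  haveI : SheafOfModules.IsQuasicoherent (R := X.ringCatSheaf) M := hM.1
  haveI : IsNoetherianRing Γ(X, U) := IsLocallyNoetherian.component_noetherian ⟨U, hU⟩
  haveI : Module.Finite Γ(X, U) Γ(M, U) :=
    Groth.Agent.Lib.Helper64.CohAffine.finite_sections M hM.2 hU
  haveI : IsNoetherian Γ(X, U) Γ(M, U) := isNoetherian_of_isNoetherianRing_of_finite _ _
  let f : ℕ →o Submodule Γ(X, U) Γ(M, U) :=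
    { toFun := fun k => LinearMap.range (appL (F k).arrow U)
      monotone' := by
        intro k l hkl
        rintro _ ⟨a, rfl⟩
        refine ⟨(Subobject.ofLE _ _ (F.monotone hkl)).app U a, ?_⟩
        show ((F l).arrow.app U) ((Subobject.ofLE _ _ (F.monotone hkl)).app U a) = (F k).arrow.app U a
        rw [← Subobject.ofLE_arrow (F.monotone hkl)]
        rfl }
  exact monotone_stabilizes_iff_noetherian.mpr inferInstance f



open AlgebraicGeometry CategoryTheory in
/-- On a Noetherian scheme, any increasing sequence of quasi-coherent submodules of a coherent module is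
eventually constant. -/
theorem result (X : Scheme.{u}) [IsNoetherian X] (M : X.Modules)
    (hM : Coh.IsCoh M) (F : ℕ →o Subobject M) (hF : ∀ n, Coh.IsQCoh ((F n : Subobject M) : X.Modules)) :
    ∃ n : ℕ, ∀ m : ℕ, n ≤ m → F m = F n := by
  obtain ⟨s, hs, hcov⟩ := (isCompact_iff_finite_and_eq_biUnion_affineOpens
    (U := (⊤ : X.Opens))).mp (by simpa using isCompact_univ)
  have key := fun U : X.affineOpens => stab M hM F U.1 U.2
  choose nU hnU using key
  refine ⟨hs.toFinset.sup nU, fun m hm => ?_⟩
  refine le_antisymm ?_ (F.monotone hm)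
  haveI : SheafOfModules.IsQuasicoherent (R := X.ringCatSheaf)
    ((F (hs.toFinset.sup nU) : Subobject M) : X.Modules) := hF _
  haveI : SheafOfModules.IsQuasicoherent (R := X.ringCatSheaf)
    ((F m : Subobject M) : X.Modules) := hF _
  set n := hs.toFinset.sup nU with hn
  let ψ := Subobject.ofLE _ _ (F.monotone hm)
  haveI : IsIso ψ := by
    apply isIso_of_surjective
    intro x
    have hx : x ∈ (⊤ : X.Opens) := trivial
    rw [hcov] at hx
    simp only [Opens.mem_iSup] at hx
    obtain ⟨U, hUs, hxU⟩ := hx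
    refine ⟨U.1, U.2, hxU, ?_⟩
    intro b
    have h1 : nU U ≤ n := Finset.le_sup (f := nU) (hs.mem_toFinset.mpr hUs)
    have e1 := hnU U n h1
    have e2 := hnU U m (h1.trans hm)
    have hb : Groth.Agent.Lib.Helper21.QCohSections.appL (F m).arrow U b ∈
        LinearMap.range (Groth.Agent.Lib.Helper21.QCohSections.appL (F n).arrow U) := by
      rw [← e1, e2]
      exact ⟨b, rfl⟩
    obtain ⟨a, ha⟩ := hb
    refine ⟨a, ?_⟩
    apply Groth.Agent.Lib.Helper21.QCohSections.app_injective_of_mono (F m).arrow U
    have : (ψ ≫ (F m).arrow).app U a = (F n).arrow.app U a := by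
      rw [Subobject.ofLE_arrow]
    exact this.trans ha
  exact Subobject.le_of_comm (inv ψ) (by rw [IsIso.inv_comp_eq, Subobject.ofLE_arrow])

end Groth.Agent.S0045
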