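import Groth.Statements.S0046
import Groth.Agent.Lib.Helper64.CohAffine

set_option autoImplicit false
universe u
open Coherent

namespace Groth.Agent.S0046


open AlgebraicGeometry CategoryTheory in
/-- On a locally Noetherian scheme, a quasi-coherent submodule of a coherent module is coherent. (The
statement about quotients is omitted.) -/
theorem result (X : Scheme.{u}) [IsLocallyNoetherian X]
    (M N : X.Modules) (i : N ⟶ M) [Mono i] (hM : Coh.IsCoh M) (hN : Coh.IsQCoh N) : Coh.IsCoh N := by
  refine ⟨hN, ?_⟩
  haveI : SheafOfModules.IsQuasicoherent (R := X.ringCatSheaf) N := hN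
  haveI : SheafOfModules.IsQuasicoherent (R := X.ringCatSheaf) M := hM.1
  apply (Groth.Agent.Lib.Helper64.CohAffine.isFiniteType_iff_finite_sections N).mpr
  intro U hU
  haveI : IsNoetherianRing Γ(X, U) := IsLocallyNoetherian.component_noetherian ⟨U, hU⟩
  haveI : Module.Finite Γ(X, U) Γ(M, U) :=
    Groth.Agent.Lib.Helper64.CohAffine.finite_sections M hM.2 hU
  let f : Γ(N, U) →ₗ[Γ(X, U)] Γ(M, U) := (i.val.app (Opposite.op U)).hom
  have hf : Function.Injective f := Groth.Agent.Lib.Helper78.ModStalk.app_injective_of_mono i U
  exact Module.Finite.of_injective f hf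

end Groth.Agent.S0046
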