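import Groth.Statements.S0047
import Groth.Agent.S0020
import Groth.Agent.Lib.Helper53.Flasque
import Mathlib.Topology.Sheaves.SheafCondition.UniqueGluing
import Mathlib.AlgebraicGeometry.Noetherian
import Mathlib.Topology.NoetherianSpace
import Mathlib.Topology.Sober
import Mathlib.Topology.LocalAtTarget

set_option autoImplicit false
universe u
open Coherent

namespace Groth.Agent.S0047

open TopologicalSpace AlgebraicGeometry CategoryTheory Opposite

theorem finite_of_noetherian_quasiSober_t1 (α : Type*) [TopologicalSpace α] [NoetherianSpace α]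
    [QuasiSober α] [T1Space α] : Finite α := by
  have hfin : (irreducibleComponents α).Finite := NoetherianSpace.finite_irreducibleComponents
  have hsub : ∀ C ∈ irreducibleComponents α, (C : Set α).Subsingleton := by
    intro C hC
    have hirr : IsIrreducible C := hC.1
    have hcl : IsClosed C := isClosed_of_mem_irreducibleComponents C hC
    obtain ⟨x, hx⟩ := QuasiSober.sober hirr hcl
    have : C = {x} := by
      rw [← hx.def, closure_singleton]
    rw [this]
    exact Set.subsingleton_singleton
  have hcov : (Set.univ : Set α) ⊆ ⋃ C ∈ irreducibleComponents α, C := by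
    intro x _
    exact Set.mem_biUnion (irreducibleComponent_mem_irreducibleComponents x)
      mem_irreducibleComponent
  have : (Set.univ : Set α).Finite :=
    (hfin.biUnion fun C hC => (hsub C hC).finite).subset hcov
  exact Set.finite_univ_iff.1 this

/-- in a locally Noetherian scheme, a closed set of closed points meets every affine open in a
finite set -/
theorem finite_preimage (X : Scheme.{u}) [IsLocallyNoetherian X] (Z : Set X) (hZ : IsClosed Z)
    (h0 : ∀ x ∈ Z, IsClosed ({x} : Set X)) (W : X.Opens) (hW : IsAffineOpen W) :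
    ((Subtype.val : W → X) ⁻¹' Z).Finite := by
  have : IsNoetherianRing Γ(X, W) := IsLocallyNoetherian.component_noetherian ⟨W, hW⟩
  have : NoetherianSpace W := noetherianSpace_of_isAffineOpen W hW
  have : QuasiSober W := W.isOpenEmbedding'.quasiSober
  set Z' : Set W := (Subtype.val : W → X) ⁻¹' Z with hZ'
  have hZ'cl : IsClosed Z' := hZ.preimage continuous_subtype_val
  have : NoetherianSpace Z' := Topology.IsInducing.subtypeVal.noetherianSpace
  have : QuasiSober Z' := hZ'cl.isClosedEmbedding_subtypeVal.quasiSober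
  have : T1Space Z' := by
    refine ⟨fun y => ?_⟩
    have hc : IsClosed ({y.1.1} : Set X) := h0 _ y.2
    have : ({y} : Set Z') = (fun z : Z' => z.1.1) ⁻¹' {y.1.1} := by
      ext z
      simp only [Set.mem_singleton_iff, Set.mem_preimage]
      constructor
      · rintro rfl; rfl
      · intro h; exact Subtype.ext (Subtype.ext h)
    rw [this]
    exact hc.preimage (continuous_subtype_val.comp continuous_subtype_val)
  have := finite_of_noetherian_quasiSober_t1 Z'
  exact Set.finite_coe_iff.1 this

theorem isClosed_of_finite_of_closed_points {X : Type*} [TopologicalSpace X] (W : Set X)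
    (S : Set W) (hS : S.Finite) (h : ∀ y ∈ S, IsClosed ({y.1} : Set X)) : IsClosed S := by
  have e : S = ⋃ y ∈ S, {y} := (Set.biUnion_of_singleton S).symm
  rw [e]
  refine hS.isClosed_biUnion fun y hy => ?_
  have e2 : ({y} : Set W) = (Subtype.val : W → X) ⁻¹' {y.1} := by
    ext z
    simp only [Set.mem_singleton_iff, Set.mem_preimage]
    exact ⟨fun h => h ▸ rfl, fun h => Subtype.ext h⟩
  rw [e2]
  exact (h y hy).preimage continuous_subtype_val

/-- in a locally Noetherian scheme, every subset of a closed set of closed points is closed -/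
theorem isClosed_of_subset (X : Scheme.{u}) [IsLocallyNoetherian X] (Z : Set X) (hZ : IsClosed Z)
    (h0 : ∀ x ∈ Z, IsClosed ({x} : Set X)) (T : Set X) (hT : T ⊆ Z) : IsClosed T := by
  have hcov : IsOpenCover (fun W : X.affineOpens => (W : X.Opens)) := iSup_affineOpens_eq_top X
  rw [hcov.isClosed_iff_coe_preimage]
  intro W
  have hfin := (finite_preimage X Z hZ h0 W.1 W.2).subset (Set.preimage_mono hT)
  exact isClosed_of_finite_of_closed_points _ _ hfin (fun y hy => h0 _ (hT hy))



/-- glue two compatible sections of an abelian sheaf -/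
lemma glue_two {X : TopCat.{u}} (F : TopCat.Sheaf Ab.{u} X) (V₁ V₂ U : Opens X) (h1 : V₁ ≤ U) (h2 : V₂ ≤ U)
    (hc : U ≤ V₁ ⊔ V₂) (a : F.1.obj (op V₁)) (b : F.1.obj (op V₂))
    (hab : F.1.map (homOfLE (inf_le_left : V₁ ⊓ V₂ ≤ V₁)).op a =
      F.1.map (homOfLE (inf_le_right : V₁ ⊓ V₂ ≤ V₂)).op b) :
    ∃ s : F.1.obj (op U), F.1.map (homOfLE h1).op s = a ∧ F.1.map (homOfLE h2).op s = b := by
  let W : ULift.{u} Bool → Opens X := fun i => if i.down then V₁ else V₂
  let sf : ∀ i : ULift.{u} Bool, F.1.obj (op (W i)) := fun i =>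
    match i with
    | ⟨true⟩ => a
    | ⟨false⟩ => b
  have hab' : ∀ (W' : Opens X) (i₁ : W' ⟶ V₁) (i₂ : W' ⟶ V₂),
      F.1.map i₁.op a = F.1.map i₂.op b := by
    intro W' i₁ i₂
    have hle : W' ≤ V₁ ⊓ V₂ := le_inf i₁.le i₂.le
    have := congrArg (F.1.map (homOfLE hle).op) hab
    rw [← ConcreteCategory.comp_apply, ← ConcreteCategory.comp_apply, ← Functor.map_comp,
      ← Functor.map_comp] at this
    exact this
  have hcompat : TopCat.Presheaf.IsCompatible F.1 W sf := by
    rintro ⟨_ | _⟩ ⟨_ | _⟩
    · rfl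
    · exact (hab' _ _ _).symm
    · exact hab' _ _ _
    · rfl
  obtain ⟨s, hs, -⟩ := TopCat.Sheaf.existsUnique_gluing' F W U
    (fun i => match i with
      | ⟨true⟩ => homOfLE h1
      | ⟨false⟩ => homOfLE h2)
    (by
      refine hc.trans ?_
      apply sup_le
      · exact le_iSup W ⟨true⟩
      · exact le_iSup W ⟨false⟩) sf hcompat
  exact ⟨s, hs ⟨true⟩, hs ⟨false⟩⟩


/-- sections of `M` over an open disjoint from the support vanish -/
lemma eq_zero_of_disjoint_support {X : Scheme.{u}} (M : X.Modules) (V : X.Opens)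
    (hV : ∀ x ∈ V, x ∉ CohB1.support M) (s : Γ(M, V)) : s = 0 := by
  have hsh : TopCat.Presheaf.IsSheaf M.presheaf := M.isSheaf
  refine TopCat.Presheaf.section_ext ⟨_, hsh⟩ V s 0 ?_
  intro x hx
  have : Subsingleton (M.presheaf.stalk x) := not_not.1 (hV x hx)
  exact Subsingleton.elim _ _

theorem isFlasque_toAb (X : Scheme.{u}) [IsLocallyNoetherian X]
    (M : X.Modules) (hM : Coh.IsCoh M) (h0 : ∀ x ∈ CohB1.support M, IsClosed ({x} : Set X)) :
    TopCat.Sheaf.IsFlasque (Coh.toAb M) where
  epi {U V} i := by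
    refine (AddCommGrpCat.epi_iff_surjective _).mpr (fun s => ?_)
    have hZ : IsClosed (CohB1.support M) := Groth.Agent.S0020.result X M hM.2
    have hT : IsClosed (CohB1.support M ∩ (V.unop : Set X)) :=
      isClosed_of_subset X _ hZ h0 _ Set.inter_subset_left
    let U' : X.Opens := U.unop ⊓ ⟨(CohB1.support M ∩ (V.unop : Set X))ᶜ, hT.isOpen_compl⟩
    have hVU : V.unop ≤ U.unop := i.unop.le
    have hc : U.unop ≤ V.unop ⊔ U' := by
      intro x hx
      by_cases hxV : x ∈ V.unop
      · exact Or.inl hxV
      · exact Or.inr ⟨hx, fun h => hxV h.2⟩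
    have hab : (Coh.toAb M).1.map (homOfLE (inf_le_left : V.unop ⊓ U' ≤ V.unop)).op s =
        (Coh.toAb M).1.map (homOfLE (inf_le_right : V.unop ⊓ U' ≤ U')).op 0 := by
      rw [map_zero]
      apply eq_zero_of_disjoint_support M (V.unop ⊓ U')
      rintro x ⟨hxV, -, hx⟩ hxZ
      exact hx ⟨hxZ, hxV⟩
    obtain ⟨t, ht, -⟩ := glue_two (Coh.toAb M) V.unop U' U.unop hVU inf_le_left hc s 0 hab
    refine ⟨t, ?_⟩
    have : i = (homOfLE hVU).op := rfl
    rw [this]
    exact ht



open AlgebraicGeometry in
/-- On a locally Noetherian scheme, a coherent module whose support consists of closed points (i.e. has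
dimension ≤ 0) satisfies H^i(X, F) = 0 for all i > 0. (Global generation is not stated.) -/
theorem result (X : Scheme.{u}) [IsLocallyNoetherian X]
    (M : X.Modules) (hM : Coh.IsCoh M) (h0 : ∀ x ∈ CohB1.support M, IsClosed ({x} : Set X))
    (i : ℕ) (hi : 0 < i) : Subsingleton (Coh.HH X M i) := by
  have := isFlasque_toAb X M hM h0
  obtain ⟨n, rfl⟩ : ∃ n, i = n + 1 := ⟨i - 1, by omega⟩
  exact Groth.Agent.Lib.Helper53.subsingleton_H_succ (Coh.toAb M) n

end Groth.Agent.S0047
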