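import Groth.Statements.S0064
-- import your own Groth.Agent.* helpers here

set_option autoImplicit false
open CategoryTheory CategoryTheory.Limits AlgebraicGeometry Opposite
universe u
open EtBase

namespace Groth.Agent.S0064

theorem finite_isClopen (α : Type*) [TopologicalSpace α] [TopologicalSpace.NoetherianSpace α] :
    {C : Set α | IsClopen C}.Finite := by
  have hfin := TopologicalSpace.NoetherianSpace.finite_irreducibleComponents (α := α)
  refine Set.Finite.of_injOn (f := fun C => {Z ∈ irreducibleComponents α | Z ⊆ C})
    (t := 𝒫 (irreducibleComponents α)) ?_ ?_ hfin.finite_subsets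
  · intro C _ Z hZ
    exact hZ.1
  · intro C hC C' hC' heq
    have key : ∀ {A B : Set α}, IsClopen A →
        {Z ∈ irreducibleComponents α | Z ⊆ A} = {Z ∈ irreducibleComponents α | Z ⊆ B} →
        A ⊆ B := by
      intro A B hA h x hx
      have h1 : irreducibleComponent x ⊆ A :=
        isIrreducible_irreducibleComponent.isPreirreducible.isPreconnected.subset_isClopen hA
          ⟨x, mem_irreducibleComponent, hx⟩
      have h2 : irreducibleComponent x ∈ {Z ∈ irreducibleComponents α | Z ⊆ A} :=
        ⟨irreducibleComponent_mem_irreducibleComponents x, h1⟩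
      rw [h] at h2
      exact h2.2 mem_irreducibleComponent
    exact Set.Subset.antisymm (key hC heq) (key hC' heq.symm)

theorem hasOfPostcomp : MorphismProperty.HasOfPostcompProperty @IsOpenImmersion
    (@FormallyUnramified ⊓ @LocallyOfFiniteType) :=
  MorphismProperty.hasOfPostcompProperty_iff_le_diagonal.mpr
    fun _ _ f ⟨h1, h2⟩ ↦ by
      have := h1
      have := h2
      exact inferInstanceAs (IsOpenImmersion (pullback.diagonal f))


/-- Let S be a Noetherian scheme, X → S a quasi-compact, separated, unramified morphism (formally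
unramified and locally of finite type), and Y a Noetherian scheme with a morphism Y → S. Then there
are only finitely many S-morphisms Y → X. The published statement does not assume X → S separated;
it is stated here in the separated case. -/
theorem result {X S Y : Scheme.{u}} [IsNoetherian S] [IsNoetherian Y]
    (π : X ⟶ S) [FormallyUnramified π] [LocallyOfFiniteType π] [QuasiCompact π] [IsSeparated π]
    (h : Y ⟶ S) : Set.Finite {f : Y ⟶ X | f ≫ π = h} := by
  let Z := pullback π h
  let p : Z ⟶ Y := pullback.snd π h
  have hp1 : FormallyUnramified p := MorphismProperty.pullback_snd _ _ ‹_›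
  have hp2 : LocallyOfFiniteType p := MorphismProperty.pullback_snd _ _ ‹_›
  have hp3 : QuasiCompact p := MorphismProperty.pullback_snd _ _ ‹_›
  have hp4 : IsSeparated p := MorphismProperty.pullback_snd _ _ ‹_›
  have hZ1 : IsLocallyNoetherian Z := LocallyOfFiniteType.isLocallyNoetherian p
  have hZ2 : CompactSpace Z := by
    have : CompactSpace Y := inferInstance
    exact QuasiCompact.compactSpace_of_compactSpace p
  have hZ : IsNoetherian Z := { }
  have := hasOfPostcomp.{u}
  have hsec : ∀ (σ : Y ⟶ Z), σ ≫ p = 𝟙 Y → IsOpenImmersion σ ∧ IsClosedImmersion σ := by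
    intro σ hσ
    constructor
    · refine MorphismProperty.of_postcomp (W := @IsOpenImmersion)
        (W' := @FormallyUnramified ⊓ @LocallyOfFiniteType) σ p ⟨hp1, hp2⟩ ?_
      rw [hσ]
      infer_instance
    · have : IsClosedImmersion (σ ≫ p) := by rw [hσ]; infer_instance
      exact IsClosedImmersion.of_comp σ p
  classical
  let Φ : (Y ⟶ X) → Set Z := fun f =>
    if hf : f ≫ π = h then Set.range (pullback.lift f (𝟙 Y) (by simpa using hf)) else ∅
  refine Set.Finite.of_injOn (f := Φ) (t := {C : Set Z | IsClopen C}) ?_ ?_ (finite_isClopen Z)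
  · intro f hf
    have hf' : f ≫ π = h := hf
    simp only [Φ, dif_pos hf']
    obtain ⟨h1, h2⟩ := hsec (pullback.lift f (𝟙 Y) (by simpa using hf')) (pullback.lift_snd _ _ _)
    exact ⟨(Scheme.Hom.isClosedEmbedding _).isClosed_range,
      (Scheme.Hom.isOpenEmbedding _).isOpen_range⟩
  · intro f hf g hg hfg
    have hf' : f ≫ π = h := hf
    have hg' : g ≫ π = h := hg
    simp only [Φ, dif_pos hf', dif_pos hg'] at hfg
    set σf := pullback.lift f (𝟙 Y) (by simpa using hf') with hσf
    set σg := pullback.lift g (𝟙 Y) (by simpa using hg') with hσg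
    have hf1 : σf ≫ p = 𝟙 Y := pullback.lift_snd _ _ _
    have hg1 : σg ≫ p = 𝟙 Y := pullback.lift_snd _ _ _
    obtain ⟨h1, -⟩ := hsec σf hf1
    have hlift : IsOpenImmersion.lift σf σg hfg.ge ≫ σf = σg := IsOpenImmersion.lift_fac _ _ _
    have hl1 : IsOpenImmersion.lift σf σg hfg.ge = 𝟙 Y := by
      calc IsOpenImmersion.lift σf σg hfg.ge
          = IsOpenImmersion.lift σf σg hfg.ge ≫ σf ≫ p := by rw [hf1, Category.comp_id]
        _ = σg ≫ p := by rw [← Category.assoc, hlift]
        _ = 𝟙 Y := hg1
    have : σf = σg := by rw [← hlift, hl1, Category.id_comp]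
    have hff : σf ≫ pullback.fst π h = f := pullback.lift_fst _ _ _
    have hgg : σg ≫ pullback.fst π h = g := pullback.lift_fst _ _ _
    rw [← hff, ← hgg, this]

end Groth.Agent.S0064
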