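import Groth.Statements.S0066
import Groth.Agent.Lib.Helper87.EtaleNormalIff
import Mathlib.AlgebraicGeometry.Morphisms.Etale
import Mathlib.AlgebraicGeometry.AffineScheme

set_option autoImplicit false
open CategoryTheory CategoryTheory.Limits AlgebraicGeometry Opposite
universe u
open EtBase

namespace Groth.Agent.S0066

/-- normality of the stalk at a point of an affine open vs the localization at the prime. -/
theorem stalk_normal_iff {X : Scheme.{u}} {U : X.Opens} (hU : IsAffineOpen U) (x : X)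
    (hx : x ∈ U) :
    (IsDomain (X.presheaf.stalk x) ∧ IsIntegrallyClosed (X.presheaf.stalk x)) ↔
      (IsDomain (Localization.AtPrime (hU.primeIdealOf ⟨x, hx⟩).asIdeal) ∧
        IsIntegrallyClosed (Localization.AtPrime (hU.primeIdealOf ⟨x, hx⟩).asIdeal)) := by
  let _ : Algebra Γ(X, U) (X.presheaf.stalk x) :=
    TopCat.Presheaf.algebra_section_stalk X.presheaf (⟨x, hx⟩ : U)
  have hloc : IsLocalization.AtPrime (X.presheaf.stalk x) (hU.primeIdealOf ⟨x, hx⟩).asIdeal :=
    hU.isLocalization_stalk ⟨x, hx⟩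
  let e : Localization.AtPrime (hU.primeIdealOf ⟨x, hx⟩).asIdeal ≃ₐ[Γ(X, U)] X.presheaf.stalk x :=
    IsLocalization.algEquiv (hU.primeIdealOf ⟨x, hx⟩).asIdeal.primeCompl _ _
  constructor
  · rintro ⟨h1, h2⟩
    exact Groth.Agent.Lib.Helper87.NormalDvd.isDomain_and_isIntegrallyClosed_of_ringEquiv
      (A := X.presheaf.stalk x) e.symm.toRingEquiv
  · rintro ⟨h1, h2⟩
    exact Groth.Agent.Lib.Helper87.NormalDvd.isDomain_and_isIntegrallyClosed_of_ringEquiv
      (B := X.presheaf.stalk x) e.toRingEquiv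

/-- For an étale morphism f : X → Y with Y locally Noetherian and a point x of X, the local ring O_{X,x}
is a normal domain (a domain which is integrally closed in its fraction field) if and only if
O_{Y,f(x)} is. -/
theorem result {X Y : Scheme.{u}} (f : X ⟶ Y) [AlgebraicGeometry.Etale f]
    [IsLocallyNoetherian Y] (x : X) :
    (IsDomain (X.presheaf.stalk x) ∧ IsIntegrallyClosed (X.presheaf.stalk x)) ↔
      (IsDomain (Y.presheaf.stalk (f.base x)) ∧ IsIntegrallyClosed (Y.presheaf.stalk (f.base x))) := by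
  obtain ⟨_, ⟨U, hU : IsAffineOpen U, rfl⟩, hfxU, -⟩ :=
    Y.isBasis_affineOpens.exists_subset_of_mem_open (Set.mem_univ (f.base x)) isOpen_univ
  obtain ⟨_, ⟨V, hV : IsAffineOpen V, rfl⟩, hxV, hVU⟩ :=
    X.isBasis_affineOpens.exists_subset_of_mem_open (show x ∈ (f ⁻¹ᵁ U : Set X) from hfxU)
      (f ⁻¹ᵁ U).isOpen
  have e : V ≤ f ⁻¹ᵁ U := hVU
  rw [stalk_normal_iff hV x hxV, stalk_normal_iff hU (f.base x) hfxU]
  have het : (f.appLE U V e).hom.Etale := f.etale_appLE hU hV e
  let _ := (f.appLE U V e).hom.toAlgebra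
  have het' : Algebra.Etale Γ(Y, U) Γ(X, V) := het
  have hmain := Groth.Agent.Lib.Helper87.EtNormal.normal_localization_iff_of_etale
    Γ(Y, U) Γ(X, V) (hV.primeIdealOf ⟨x, hxV⟩).asIdeal
  have hcomap := IsAffineOpen.comap_primeIdealOf_appLE U hU V hV e hxV
  have key : ∀ (P : PrimeSpectrum Γ(Y, U)),
      P = (hV.primeIdealOf ⟨x, hxV⟩).comap (f.appLE U V e).hom →
      ((IsDomain (Localization.AtPrime P.asIdeal) ∧
          IsIntegrallyClosed (Localization.AtPrime P.asIdeal)) ↔
        (IsDomain (Localization.AtPrime (hV.primeIdealOf ⟨x, hxV⟩).asIdeal) ∧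
          IsIntegrallyClosed (Localization.AtPrime (hV.primeIdealOf ⟨x, hxV⟩).asIdeal))) := by
    intro P hP
    subst hP
    exact hmain
  exact (key _ hcomap.symm).symm

end Groth.Agent.S0066
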