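import Groth.Statements.S0068
import Groth.Agent.Lib.Helper4.ClosedRecoll

set_option autoImplicit false
open CategoryTheory CategoryTheory.Limits AlgebraicGeometry Opposite
universe u
open EtBase

namespace Groth.Agent.S0068
open Groth.Agent.Lib.Helper4

theorem vanishing_push {Z X : Scheme.{u}} (i : Z ⟶ X) [IsClosedImmersion i] [EtCoh.BCCont i]
    (G : EtCoh.Ab Z) (U : X.Etale) (h : Disjoint (Set.range U.hom.base) (Set.range i.base)) :
    IsZero (((EtCoh.push i).obj G).obj.obj (op U)) := by
  have hempty : IsEmpty ((EtCoh.bc i).obj U).left := by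
    constructor
    intro z
    have h1 : (pullback.fst U.hom i ≫ U.hom).base z = (pullback.snd U.hom i ≫ i).base z := by
      rw [pullback.condition]
    exact Set.disjoint_left.1 h ⟨(pullback.fst U.hom i).base z, rfl⟩
      ⟨(pullback.snd U.hom i).base z, h1.symm⟩
  exact Groth.Agent.S0069.isZero_of_isEmpty G ((EtCoh.bc i).obj U)


/-- Part (2), second half — an abelian étale sheaf is a pushforward from a closed subscheme exactly when
its sections vanish over every étale scheme mapping into the open complement. -/
theorem result {Z X : Scheme.{u}} (i : Z ⟶ X) [IsClosedImmersion i] [EtCoh.BCCont i]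
    (F : EtCoh.Ab X) :
    (EtCoh.push i).essImage F ↔
      ∀ U : X.Etale, Disjoint (Set.range U.hom.base) (Set.range i.base) → IsZero (F.obj.obj (op U)) := by
  constructor
  · rintro ⟨G, ⟨e⟩⟩ U hU
    have hz := vanishing_push i G U hU
    exact hz.of_iso (((sheafSections _ _).obj (op U)).mapIso e.symm)
  · intro hF
    have hiso : IsIso ((EtCoh.pullPushAdj i).unit.app F) := by
      rw [EtStalk.isIso_iff_stalk]
      intro Ω _ _ ξ
      let pt : ↥(Spec (CommRingCat.of Ω)) := default
      have hr : Set.range ξ.base = {ξ.base pt} := by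
        ext y
        constructor
        · rintro ⟨a, rfl⟩
          rw [Subsingleton.elim (α := ↥(Spec (CommRingCat.of Ω))) a pt]
          rfl
        · rintro rfl
          exact ⟨pt, rfl⟩
      by_cases h : ξ.base pt ∈ Set.range i.base
      · have hsub : Set.range ξ.base ⊆ Set.range i.base := by
          rw [hr]
          exact Set.singleton_subset_iff.2 h
        obtain ⟨ζ, rfl⟩ := ClosedRecoll.exists_lift_geomPt i ξ hsub
        exact ClosedRecoll.isIso_stalk_unit i F ζ
      · have hd : Disjoint (Set.range ξ.base) (Set.range i.base) := by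
          rw [hr, Set.disjoint_singleton_left]
          exact h
        have h1 := ClosedRecoll.isZero_stalk_of_vanishing i F hF ξ hd
        have h2 := Groth.Agent.S0069.result i ((EtCoh.pull i).obj F) ξ hd
        exact ⟨⟨0, h1.eq_of_src _ _, h2.eq_of_src _ _⟩⟩
    exact ⟨(EtCoh.pull i).obj F, ⟨(asIso ((EtCoh.pullPushAdj i).unit.app F)).symm⟩⟩


end Groth.Agent.S0068
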