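import Groth.Statements.S0072
import Groth.Agent.Lib.Helper57.FinStalk8

set_option autoImplicit false
open CategoryTheory CategoryTheory.Limits AlgebraicGeometry Opposite
universe u
open EtBase

namespace Groth.Agent.S0072

/-- Let f : X → Y be a finite morphism of schemes, F an abelian sheaf on X_ét, and η : Spec Ω → Y a
geometric point with Ω algebraically closed. Then the stalk (f_*F)_η is isomorphic to the direct sum
of the stalks F_ξ over the geometric points ξ : Spec Ω → X lying over η (those with f ∘ ξ = η). Only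
the existence of an isomorphism is asserted; the published statement gives a canonical
identification. -/
theorem result {X Y : Scheme.{u}} (f : X ⟶ Y) [IsFinite f] [EtCoh.BCCont f]
    (F : EtCoh.Ab X) {Ω : Type u} [Field Ω] [IsAlgClosed Ω] (η : Spec (CommRingCat.of Ω) ⟶ Y) :
    Nonempty ((EtCoh.stalk η).obj ((EtCoh.push f).obj F) ≅
      ∐ fun ξ : {ξ : Spec (CommRingCat.of Ω) ⟶ X // ξ ≫ f = η} => (EtCoh.stalk ξ.1).obj F) := by
  classical
  let I := {ξ : Spec (CommRingCat.of Ω) ⟶ X // ξ ≫ f = η}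
  have hfin : Finite I := Groth.Agent.Lib.Helper57.FinStalk.finite_lifts f η
  have := Fintype.ofFinite I
  have hpf : PreservesFilteredColimitsOfSize.{u, u} (forget AddCommGrpCat.{u + 1}) :=
    preservesFilteredColimitsOfSize_shrink.{u, u + 1, u, u + 1} _
  let G : I → AddCommGrpCat.{u + 1} := fun ξ => (EtCoh.stalk ξ.1).obj F
  let Θ : (EtCoh.stalk η).obj ((EtCoh.push f).obj F) ⟶ ∏ᶜ G :=
    Pi.lift (fun ξ : I => Groth.Agent.Lib.Helper57.FinStalk.T f ξ.1 ξ.2 F.obj)
  have hΘ : ∀ (ξ : I) (a), (Pi.π G ξ) (Θ a) =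
      Groth.Agent.Lib.Helper57.FinStalk.T f ξ.1 ξ.2 F.obj a := by
    intro ξ a
    have h1 : Θ ≫ Pi.π G ξ = Groth.Agent.Lib.Helper57.FinStalk.T f ξ.1 ξ.2 F.obj := Pi.lift_π _ _
    exact ConcreteCategory.congr_hom h1 a
  have hsheaf : Presieve.IsSheaf X.smallEtaleTopology (F.obj ⋙ forget AddCommGrpCat.{u + 1}) :=
    (isSheaf_iff_isSheaf_of_type _ _).1
      (Presheaf.isSheaf_comp_of_isSheaf X.smallEtaleTopology F.obj (forget AddCommGrpCat.{u + 1})
        F.property)
  have hiso : IsIso Θ := by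
    rw [ConcreteCategory.isIso_iff_bijective]
    constructor
    · intro a b hab
      apply Groth.Agent.Lib.Helper57.FinStalk.T_jointly_injective f η F.obj hsheaf a b
      intro ξ hξ
      rw [← hΘ ⟨ξ, hξ⟩ a, ← hΘ ⟨ξ, hξ⟩ b, hab]
    · intro p
      obtain ⟨a, ha⟩ := Groth.Agent.Lib.Helper57.FinStalk.T_jointly_surjective f η F.obj hsheaf
        (fun ξ => (Pi.π G ξ) p)
      refine ⟨a, ?_⟩
      apply Concrete.isLimit_ext _ (limit.isLimit (Discrete.functor G))
      rintro ⟨ξ⟩
      exact (hΘ ξ a).trans (ha ξ)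
  exact ⟨asIso Θ ≪≫ (biproduct.isoProduct G).symm ≪≫ biproduct.isoCoproduct G⟩

end Groth.Agent.S0072
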