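import Groth.Statements.S0074
import Groth.Agent.Lib.Helper9.HenselLocal

set_option autoImplicit false
open CategoryTheory CategoryTheory.Limits AlgebraicGeometry Opposite
universe u
open EtBase

namespace Groth.Agent.S0074

theorem exists_section {R : Type u} [CommRing R] [HenselianLocalRing R]
    {Y : Scheme.{u}} (f : Y ⟶ Spec (CommRingCat.of R)) [Etale f]
    (v : Spec (CommRingCat.of (IsLocalRing.ResidueField R)) ⟶ Y)
    (hv : v ≫ f = Spec.map (CommRingCat.ofHom (IsLocalRing.residue R))) :
    ∃ σ : Spec (CommRingCat.of R) ⟶ Y, σ ≫ f = 𝟙 _ ∧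
      Spec.map (CommRingCat.ofHom (IsLocalRing.residue R)) ≫ σ = v := by
  obtain ⟨R', j, hj, hmem, -⟩ := Scheme.exists_affine_mem_range_and_range_subset
    (X := Y) (x := v.base default) (U := ⊤) (by trivial)
  have hrange : Set.range v.base ⊆ Set.range j.base := by
    rintro _ ⟨a, rfl⟩
    rwa [Subsingleton.elim a default]
  let v' : Spec (CommRingCat.of (IsLocalRing.ResidueField R)) ⟶ Spec R' :=
    IsOpenImmersion.lift j v hrange
  have hv' : v' ≫ j = v := IsOpenImmersion.lift_fac _ _ _
  let φ : CommRingCat.of R ⟶ R' := Spec.preimage (j ≫ f)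
  have hφ : Spec.map φ = j ≫ f := Spec.map_preimage _
  let ψ : R' ⟶ CommRingCat.of (IsLocalRing.ResidueField R) := Spec.preimage v'
  have hψ : Spec.map ψ = v' := Spec.map_preimage _
  have hcomp : φ ≫ ψ = CommRingCat.ofHom (IsLocalRing.residue R) := by
    apply Spec.map_injective
    rw [Spec.map_comp, hφ, hψ, ← Category.assoc, hv', hv]
  have het : φ.hom.Etale := by
    have : Etale (Spec.map φ) := by rw [hφ]; infer_instance
    exact (HasRingHomProperty.Spec_iff (P := @Etale)).1 this
  let _ : Algebra R R' := φ.hom.toAlgebra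
  have : Algebra.Etale R R' := het
  let Ψ : R' →ₐ[R] IsLocalRing.ResidueField R :=
    { ψ.hom with
      commutes' := fun r => by
        have := congrArg (fun g => g.hom r) hcomp
        exact this }
  obtain ⟨t, ht⟩ := Groth.Agent.Lib.Helper9.exists_lift_of_etale Ψ
  refine ⟨Spec.map (CommRingCat.ofHom t.toRingHom) ≫ j, ?_, ?_⟩
  · rw [Category.assoc, ← hφ, ← Spec.map_comp]
    have : φ ≫ CommRingCat.ofHom t.toRingHom = 𝟙 _ := by
      ext r
      exact t.commutes r
    rw [this, Spec.map_id]
  · rw [← Category.assoc, ← Spec.map_comp, ← hv', ← hψ]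
    congr 2
    ext x
    exact ht x


theorem exists_section' {R : Type u} [CommRing R] [HenselianLocalRing R]
    [IsSepClosed (IsLocalRing.ResidueField R)]
    (U : (Spec (CommRingCat.of R)).Etale)
    (u : (Scheme.pointSmallEtale
      (Spec.map (CommRingCat.ofHom (IsLocalRing.residue R)))).fiber.obj U) :
    ∃ σ : EtCoh.top (Spec (CommRingCat.of R)) ⟶ U,
      (Scheme.pointSmallEtale
        (Spec.map (CommRingCat.ofHom (IsLocalRing.residue R)))).fiber.map σ
        (Over.homMk (Spec.map (CommRingCat.ofHom (IsLocalRing.residue R))) (Category.comp_id _))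
        = u := by
  cases U with | _ Y f
  obtain ⟨v, hv, rfl⟩ := Over.homMk_surjective u
  dsimp at v hv
  obtain ⟨σ, hσ1, hσ2⟩ := exists_section f v hv
  refine ⟨MorphismProperty.Over.homMk σ hσ1, ?_⟩
  apply Over.OverMorphism.ext
  exact hσ2

instance presFilt : PreservesFilteredColimitsOfSize.{u, u} (forget AddCommGrpCat.{u + 1}) :=
  preservesFilteredColimitsOfSize_shrink.{u, u + 1, u, u + 1} (forget AddCommGrpCat.{u + 1})

/-- On the spectrum of a strictly henselian local ring, global sections of an abelian étale sheaf map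
bijectively onto the stalk at the geometric closed point. -/
theorem result (R : Type u) [CommRing R] [HenselianLocalRing R]
    [IsSepClosed (IsLocalRing.ResidueField R)] (F : EtCoh.Ab (Spec (CommRingCat.of R))) :
    Function.Bijective ((Scheme.pointSmallEtale
      (Spec.map (CommRingCat.ofHom (IsLocalRing.residue R)))).toPresheafFiber
        (EtCoh.top (Spec (CommRingCat.of R)))
        (Over.homMk (Spec.map (CommRingCat.ofHom (IsLocalRing.residue R))) (Category.comp_id _)) F.obj) := by
  set Φ := Scheme.pointSmallEtale (Spec.map (CommRingCat.ofHom (IsLocalRing.residue R))) with hΦ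
  set x₀ : Φ.fiber.obj (EtCoh.top (Spec (CommRingCat.of R))) :=
    Over.homMk (Spec.map (CommRingCat.ofHom (IsLocalRing.residue R))) (Category.comp_id _) with hx₀
  constructor
  · intro z₁ z₂ h
    rw [Φ.toPresheafFiber_eq_iff'] at h
    obtain ⟨Y, f, y, hy, hz⟩ := h
    obtain ⟨σ, hσ⟩ := exists_section' Y y
    have hid : σ ≫ f = 𝟙 _ := by
      apply MorphismProperty.Over.Hom.ext
      have h1 : (σ ≫ f).left ≫ 𝟙 _ = 𝟙 _ := Over.w (σ ≫ f).hom
      rw [Category.comp_id] at h1
      exact h1
    have h2 := congrArg (F.obj.map σ.op) hz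
    rw [← ConcreteCategory.comp_apply, ← ConcreteCategory.comp_apply, ← F.obj.map_comp,
      ← op_comp, hid, op_id, F.obj.map_id] at h2
    exact h2
  · intro p
    obtain ⟨U, u, z, rfl⟩ := Φ.toPresheafFiber_jointly_surjective p
    obtain ⟨σ, hσ⟩ := exists_section' U u
    refine ⟨F.obj.map σ.op z, ?_⟩
    rw [← hσ]
    exact Φ.toPresheafFiber_w_apply σ x₀ F.obj z

end Groth.Agent.S0074
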