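import Groth.Statements.S0073
import Groth.Agent.S0074

set_option autoImplicit false
open CategoryTheory CategoryTheory.Limits AlgebraicGeometry Opposite
universe u
open EtBase

namespace Groth.Agent.S0073

noncomputable def isTerminal_top (X : Scheme.{u}) : IsTerminal (EtCoh.top X) :=
  MorphismProperty.Over.mkIdTerminal EtCoh.etaleMP X

theorem projective_ulift_int : Projective (AddCommGrpCat.of (ULift.{u + 1} ℤ)) := by
  constructor
  intro E X f e he
  have hs : Function.Surjective e := (AddCommGrpCat.epi_iff_surjective e).1 he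
  obtain ⟨a, ha⟩ := hs (f ⟨1⟩)
  refine ⟨AddCommGrpCat.ofHom (((zmultiplesHom E) a).comp
    (AddEquiv.ulift : ULift.{u + 1} ℤ ≃+ ℤ).toAddMonoidHom), ?_⟩
  ext x
  obtain ⟨n⟩ := x
  simp only [AddCommGrpCat.hom_comp, AddCommGrpCat.hom_ofHom, AddMonoidHom.coe_comp,
    Function.comp_apply, AddEquiv.coe_toAddMonoidHom, zmultiplesHom_apply, map_zsmul, ha]
  have : (⟨n⟩ : ULift.{u + 1} ℤ) = n • ⟨1⟩ := by
    apply ULift.ext
    simp
  rw [this, map_zsmul]
  have h1 : (AddEquiv.ulift : ULift.{u + 1} ℤ ≃+ ℤ) ⟨1⟩ = 1 := rfl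
  rw [h1, smul_eq_mul, mul_one]
  exact (map_zsmul f.hom n _).symm

theorem preservesEpi_sections (R : Type u) [CommRing R] [HenselianLocalRing R]
    [IsSepClosed (IsLocalRing.ResidueField R)] :
    ((sheafSections (Spec (CommRingCat.of R)).smallEtaleTopology AddCommGrpCat.{u + 1}).obj
      (op (EtCoh.top (Spec (CommRingCat.of R))))).PreservesEpimorphisms := by
  constructor
  intro F G e he
  rw [AddCommGrpCat.epi_iff_surjective]
  intro s
  have hls : Sheaf.IsLocallySurjective e := (Sheaf.isLocallySurjective_iff_epi' _ e).2 he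
  have hmem := Presheaf.imageSieve_mem (Spec (CommRingCat.of R)).smallEtaleTopology e.hom s
  obtain ⟨Y, f, ⟨t, ht⟩, y, hy⟩ := (Scheme.pointSmallEtale
    (Spec.map (CommRingCat.ofHom (IsLocalRing.residue R)))).jointly_surjective _ hmem
    (Over.homMk (Spec.map (CommRingCat.ofHom (IsLocalRing.residue R))) (Category.comp_id _))
  obtain ⟨σ, hσ⟩ := Groth.Agent.S0074.exists_section' Y y
  have hid : σ ≫ f = 𝟙 _ := by
    apply MorphismProperty.Over.Hom.ext
    have h1 : (σ ≫ f).left ≫ 𝟙 _ = 𝟙 _ := Over.w (σ ≫ f).hom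
    rw [Category.comp_id] at h1
    exact h1
  refine ⟨F.obj.map σ.op t, ?_⟩
  change e.hom.app _ (F.obj.map σ.op t) = s
  have h1 : e.hom.app _ (F.obj.map σ.op t) = G.obj.map σ.op (e.hom.app _ t) :=
    NatTrans.naturality_apply e.hom σ.op t
  rw [h1, ht, ← ConcreteCategory.comp_apply, ← G.obj.map_comp, ← op_comp, hid, op_id,
    G.obj.map_id]
  rfl

/-- Étale cohomology of any abelian sheaf on the spectrum of a strictly henselian local ring vanishes in
positive degrees. -/
theorem result (R : Type u) [CommRing R] [HenselianLocalRing R]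
    [IsSepClosed (IsLocalRing.ResidueField R)] (F : EtCoh.Ab (Spec (CommRingCat.of R)))
    (p : ℕ) (hp : 1 ≤ p) : Subsingleton (EtCoh.H (Spec (CommRingCat.of R)) F p) := by
  have := preservesEpi_sections R
  have hproj : Projective ((constantSheaf (Spec (CommRingCat.of R)).smallEtaleTopology
      AddCommGrpCat.{u + 1}).obj (AddCommGrpCat.of (ULift.{u + 1} ℤ))) :=
    (constantSheafAdj _ _ (isTerminal_top _)).map_projective _ projective_ulift_int
  obtain ⟨n, rfl⟩ : ∃ n, p = n + 1 := ⟨p - 1, by omega⟩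
  exact subsingleton_of_forall_eq 0 fun x => CategoryTheory.Abelian.Ext.eq_zero_of_projective x

end Groth.Agent.S0073
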