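import Groth.Statements.S0076
import Groth.Agent.Lib.Helper57.UnivHomeo

set_option autoImplicit false
open CategoryTheory CategoryTheory.Limits AlgebraicGeometry Opposite
universe u
open EtBase

namespace Groth.Agent.S0076

/-- For X étale over S and any S-scheme Y, base change along an integral, universally injective,
surjective S' → S gives a bijection between S-morphisms Y → X and S'-morphisms of the base changes. -/
theorem result {S S' : Scheme.{u}} (g : S' ⟶ S) [IsIntegralHom g] [UniversallyInjective g]
    [Surjective g] (X Y : Over S) [AlgebraicGeometry.Etale X.hom] :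
    Function.Bijective (fun φ : Y ⟶ X => (Over.pullback g).map φ) := by
  have hth : Groth.Agent.Lib.Helper57.UnivHomeo.IsUH g := ⟨inferInstance, inferInstance, inferInstance⟩
  have hj : Groth.Agent.Lib.Helper57.UnivHomeo.IsUH (pullback.fst Y.hom g) :=
    hth.baseChange (IsPullback.of_hasPullback Y.hom g).flip
  have hjs : Surjective (pullback.fst Y.hom g) := hj.3
  have hmap : ∀ φ : Y ⟶ X, ((Over.pullback g).map φ).left ≫ pullback.fst X.hom g =
      pullback.fst Y.hom g ≫ φ.left := fun φ => pullback.lift_fst _ _ _
  constructor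
  · intro φ₁ φ₂ h
    have h' : pullback.fst Y.hom g ≫ φ₁.left = pullback.fst Y.hom g ≫ φ₂.left := by
      rw [← hmap φ₁, ← hmap φ₂]
      exact congrArg (fun m => CommaMorphism.left m ≫ pullback.fst X.hom g) h
    ext1
    apply Groth.Agent.Lib.Helper57.FlatThick.eq_of_surjective_comp_eq X.hom
      (pullback.fst Y.hom g) _ _ h'
    rw [Over.w, Over.w]
  · intro ψ
    have hψ : ψ.left ≫ pullback.snd X.hom g = pullback.snd Y.hom g := Over.w ψ
    have hab : pullback.fst Y.hom g ≫ Y.hom = (ψ.left ≫ pullback.fst X.hom g) ≫ X.hom := by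
      rw [Category.assoc, pullback.condition (f := X.hom), ← Category.assoc, hψ,
        pullback.condition]
    obtain ⟨l, ⟨hl1, hl2⟩, -⟩ := Groth.Agent.Lib.Helper57.UnivHomeo.existsUnique_lift_uh X.hom
      (pullback.fst Y.hom g) hj (ψ.left ≫ pullback.fst X.hom g) Y.hom hab
    refine ⟨Over.homMk l hl2, ?_⟩
    ext1
    apply pullback.hom_ext
    · rw [hmap]
      exact hl1
    · have : ((Over.pullback g).map (Over.homMk l hl2)).left ≫ pullback.snd X.hom g =
          pullback.snd Y.hom g := pullback.lift_snd _ _ _
      rw [this, hψ]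

end Groth.Agent.S0076
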