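import Groth.Statements.S0077
-- import your own Groth.Agent.* helpers here
import Mathlib.LinearAlgebra.Dimension.Finite
import Mathlib.LinearAlgebra.LinearIndependent.Lemmas

set_option autoImplicit false
universe u
open EtBase

namespace Groth.Agent.S0077

theorem iter_smul {k V : Type u} [Field k] (p : ℕ) [AddCommGroup V] [Module k V] (F : V →+ V)
    (hF : ∀ (c : k) (v : V), F (c • v) = c ^ p • F v) (i : ℕ) (c : k) (x : V) :
    F^[i] (c • x) = c ^ (p ^ i) • F^[i] x := by
  induction i with
  | zero => simp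
  | succ i ih =>
    rw [Function.iterate_succ_apply', Function.iterate_succ_apply', ih, hF, ← pow_mul, ← pow_succ]

theorem iter_sub_mem {V : Type u} [AddCommGroup V] (F : V →+ V) (I : AddSubgroup V)
    (hI : ∀ x, F x - x ∈ I) (i : ℕ) (x : V) : F^[i] x - x ∈ I := by
  induction i with
  | zero => simp
  | succ i ih =>
    rw [Function.iterate_succ_apply']
    have : F (F^[i] x) - x = (F (F^[i] x) - F^[i] x) + (F^[i] x - x) := by abel
    rw [this]
    exact I.add_mem (hI _) ih


/-- First half — on a finite-dimensional vector space over an algebraically closed field of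
characteristic p, any additive p-semilinear map F has F − id surjective. -/
theorem result {k V : Type u} [Field k] [IsAlgClosed k] (p : ℕ) [Fact p.Prime] [CharP k p]
    [AddCommGroup V] [Module k V] [FiniteDimensional k V] (F : V →+ V)
    (hF : ∀ (c : k) (v : V), F (c • v) = c ^ p • F v) :
    Function.Surjective fun v => F v - v := by
  classical
  have hp : p.Prime := Fact.out
  intro v
  let I : AddSubgroup V := (F - AddMonoidHom.id V).range
  have hI : ∀ x, F x - x ∈ I := fun x => ⟨x, by simp⟩
  suffices hv : v ∈ I by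
    obtain ⟨w, hw⟩ := hv
    exact ⟨w, by simpa using hw⟩
  set n := Module.finrank k V with hn
  -- a nontrivial linear relation among the iterates
  have hnli : ¬ LinearIndependent k (fun i : Fin (n + 1) => F^[(i : ℕ)] v) := by
    intro hli
    have := hli.fintype_card_le_finrank
    simp at this
    omega
  obtain ⟨b, hb0, i₀, hi₀⟩ := Fintype.not_linearIndependent_iff.mp hnli
  -- roots
  have hroot : ∀ i : Fin (n + 1), ∃ β : k, β ^ (p ^ (i : ℕ)) = b i := fun i =>
    IsAlgClosed.exists_pow_nat_eq (b i) (pow_pos hp.pos _)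
  choose β hβ using hroot
  have hβ0 : β i₀ ≠ 0 := by
    intro h0
    apply hi₀
    rw [← hβ i₀, h0, zero_pow (pow_pos hp.pos _).ne']
  -- key congruence
  have key : ∀ c : k, (∑ i : Fin (n + 1), β i * c ^ (p ^ (n - (i : ℕ)))) • v ∈ I := by
    intro c
    have h1 : ∀ i : Fin (n + 1),
        F^[(i : ℕ)] ((β i * c ^ (p ^ (n - (i : ℕ)))) • v) = c ^ (p ^ n) • (b i • F^[(i : ℕ)] v) := by
      intro i
      rw [iter_smul p F hF, mul_pow, hβ, ← pow_mul, ← pow_add, Nat.sub_add_cancel (by omega),
        smul_smul, mul_comm]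
    have h2 : ∑ i : Fin (n + 1), F^[(i : ℕ)] ((β i * c ^ (p ^ (n - (i : ℕ)))) • v) = 0 := by
      simp_rw [h1]
      rw [← Finset.smul_sum, hb0, smul_zero]
    have h3 : (∑ i : Fin (n + 1), β i * c ^ (p ^ (n - (i : ℕ)))) • v =
        - ∑ i : Fin (n + 1), (F^[(i : ℕ)] ((β i * c ^ (p ^ (n - (i : ℕ)))) • v) -
          (β i * c ^ (p ^ (n - (i : ℕ)))) • v) := by
      rw [Finset.sum_sub_distrib, h2, zero_sub, neg_neg, Finset.sum_smul]
    rw [h3]
    exact I.neg_mem (I.sum_mem fun i _ => iter_sub_mem F I hI _ _)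
  -- the polynomial
  let Q : Polynomial k := ∑ i : Fin (n + 1), Polynomial.C (β i) * Polynomial.X ^ (p ^ (n - (i : ℕ)))
  have hinj : ∀ i j : Fin (n + 1), p ^ (n - (i : ℕ)) = p ^ (n - (j : ℕ)) → i = j := by
    intro i j h
    have := Nat.pow_right_injective hp.two_le h
    ext; omega
  have hcoeff : (Q - Polynomial.C 1).coeff (p ^ (n - (i₀ : ℕ))) = β i₀ := by
    have hpos : p ^ (n - (i₀ : ℕ)) ≠ 0 := (pow_pos hp.pos _).ne'
    simp only [Q, Polynomial.coeff_sub, Polynomial.finsetSum_coeff, Polynomial.coeff_C_mul,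
      Polynomial.coeff_X_pow, Polynomial.coeff_C, hpos, if_false, sub_zero]
    rw [Finset.sum_eq_single i₀]
    · simp
    · intro j _ hj
      rw [if_neg (fun h => hj (hinj _ _ h).symm), mul_zero]
    · simp
  have hdeg : (Q - Polynomial.C 1).degree ≠ 0 := by
    intro h0
    have h1 : (Q - Polynomial.C 1).natDegree = 0 := Polynomial.natDegree_eq_of_degree_eq_some h0
    have h2 : p ^ (n - (i₀ : ℕ)) ≤ (Q - Polynomial.C 1).natDegree :=
      Polynomial.le_natDegree_of_ne_zero (by rw [hcoeff]; exact hβ0)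
    have : 0 < p ^ (n - (i₀ : ℕ)) := pow_pos hp.pos _
    omega
  obtain ⟨c, hc⟩ := IsAlgClosed.exists_root _ hdeg
  have hQc : ∑ i : Fin (n + 1), β i * c ^ (p ^ (n - (i : ℕ))) = 1 := by
    have := hc
    simp only [Q, Polynomial.IsRoot.def, Polynomial.eval_sub, Polynomial.eval_finsetSum,
      Polynomial.eval_mul, Polynomial.eval_C, Polynomial.eval_pow, Polynomial.eval_X] at this
    exact sub_eq_zero.mp this
  have := key c
  rwa [hQc, one_smul] at this

end Groth.Agent.S0077
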