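import Groth.Statements.S0078
-- import your own Groth.Agent.* helpers here
import Mathlib.FieldTheory.Finite.Basic
import Mathlib.LinearAlgebra.Dimension.Finite
import Mathlib.LinearAlgebra.LinearIndependent.Lemmas

set_option autoImplicit false
universe u
open EtBase

namespace Groth.Agent.S0078


/-- Second half — for such an F the fixed vectors F v = v form a finite set of size at most p ^ dim V
(an F_p-space of dimension at most dim V). -/
theorem result {k V : Type u} [Field k] [IsAlgClosed k] (p : ℕ) [Fact p.Prime] [CharP k p]
    [AddCommGroup V] [Module k V] [FiniteDimensional k V] (F : V →+ V)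
    (hF : ∀ (c : k) (v : V), F (c • v) = c ^ p • F v) :
    Set.Finite {v : V | F v = v} ∧ Nat.card {v : V | F v = v} ≤ p ^ Module.finrank k V := by
  classical
  have hp : p.Prime := Fact.out
  set W : Set V := {v : V | F v = v} with hW
  obtain ⟨b, hbW, hspan, hli⟩ := exists_linearIndependent k W
  have hbfin : Finite b := hli.finite
  have : Fintype b := Fintype.ofFinite b
  have hbcard : Fintype.card b ≤ Module.finrank k V := hli.fintype_card_le_finrank
  have hrange : Set.range ((↑) : b → V) = b := Subtype.range_coe
  have hmem : ∀ w : W, (w : V) ∈ Submodule.span k (Set.range ((↑) : b → V)) := by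
    intro w
    rw [hrange, hspan]
    exact Submodule.subset_span w.2
  -- the finite set of roots of X^p - X
  let R : Finset k := (Polynomial.X ^ p - Polynomial.X : Polynomial k).roots.toFinset
  have hRcard : R.card ≤ p := by
    calc R.card ≤ Multiset.card (Polynomial.X ^ p - Polynomial.X : Polynomial k).roots :=
          Multiset.toFinset_card_le _
      _ ≤ (Polynomial.X ^ p - Polynomial.X : Polynomial k).natDegree := Polynomial.card_roots' _
      _ = p := FiniteField.X_pow_card_sub_X_natDegree_eq k hp.one_lt
  have hne : (Polynomial.X ^ p - Polynomial.X : Polynomial k) ≠ 0 := by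
    intro h0
    have := FiniteField.X_pow_card_sub_X_natDegree_eq k hp.one_lt
    rw [h0, Polynomial.natDegree_zero] at this
    exact hp.ne_zero this.symm
  have hRmem : ∀ c : k, c ^ p = c → c ∈ R := by
    intro c hc
    simp only [R, Multiset.mem_toFinset, Polynomial.mem_roots hne, Polynomial.IsRoot.def,
      Polynomial.eval_sub, Polynomial.eval_pow, Polynomial.eval_X, hc, sub_self]
  -- coordinates
  let Φ : W → (b → R) := fun w i => ⟨hli.repr ⟨w, hmem w⟩ i, by
    apply hRmem
    set c := hli.repr ⟨w, hmem w⟩ with hc
    have hsum : Finsupp.linearCombination k ((↑) : b → V) c = w := hli.linearCombination_repr _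
    have hp0 : (0 : k) ^ p = 0 := zero_pow hp.ne_zero
    have hFw : Finsupp.linearCombination k ((↑) : b → V) (c.mapRange (· ^ p) hp0) = w := by
      have h1 : F (Finsupp.linearCombination k ((↑) : b → V) c) = F w := by rw [hsum]
      rw [w.2] at h1
      rw [← h1, Finsupp.linearCombination_apply, Finsupp.linearCombination_apply,
        Finsupp.sum_mapRange_index (by simp), Finsupp.sum, Finsupp.sum, map_sum]
      refine Finset.sum_congr rfl fun j _ => ?_
      rw [hF, hbW j.2]
    have := hli.repr_eq (x := ⟨w, hmem w⟩) hFw
    have h2 := congr($this i)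
    rw [Finsupp.mapRange_apply] at h2
    exact h2.symm⟩
  have hΦ : Function.Injective Φ := by
    intro w w' h
    apply Subtype.ext
    have h1 : hli.repr ⟨w, hmem w⟩ = hli.repr ⟨w', hmem w'⟩ := by
      ext i
      exact congrArg Subtype.val (congrFun h i)
    have h2 := hli.linearCombination_repr ⟨w, hmem w⟩
    have h3 := hli.linearCombination_repr ⟨w', hmem w'⟩
    rw [h1] at h2
    exact h2.symm.trans h3
  have hfin : Finite W := Finite.of_injective Φ hΦ
  refine ⟨Set.toFinite W, ?_⟩
  calc Nat.card W ≤ Nat.card (b → R) := Nat.card_le_card_of_injective Φ hΦ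
    _ = Nat.card R ^ Nat.card b := Nat.card_fun
    _ = R.card ^ Fintype.card b := by simp [Nat.card_eq_fintype_card]
    _ ≤ p ^ Fintype.card b := Nat.pow_le_pow_left hRcard _
    _ ≤ p ^ Module.finrank k V := Nat.pow_le_pow_right hp.pos hbcard

end Groth.Agent.S0078
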