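import Groth.Statements.S0087
-- import your own Groth.Agent.* helpers here
import Mathlib.AlgebraicGeometry.Morphisms.LocalFlatDescent

set_option autoImplicit false
open CategoryTheory CategoryTheory.Limits AlgebraicGeometry Opposite
universe u
open EtBase

namespace Groth.Agent.S0087


/-- Being locally quasi-finite (in the sense that includes being locally of finite type; encoded as the
conjunction of the two properties) descends along a quasi-compact flat surjective base change: if
the base change of a morphism g along a quasi-compact, flat, surjective morphism to its target is
locally quasi-finite and locally of finite type, then so is g. (Stated for a single quasi-compact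
faithfully flat cover; combined with Zariski-locality on the target this gives the fpqc-local form.) -/
theorem result :
    MorphismProperty.DescendsAlong (@LocallyQuasiFinite ⊓ @LocallyOfFiniteType : MorphismProperty Scheme.{u}) (@Surjective ⊓ @Flat ⊓ @QuasiCompact : MorphismProperty Scheme.{u}) := by
  constructor
  intro A X Y Z fst snd f g h hf hfst
  obtain ⟨hqf, hft⟩ := hfst
  have hqf' : LocallyQuasiFinite fst := hqf
  have hg : LocallyOfFiniteType g :=
    MorphismProperty.of_isPullback_of_descendsAlong (P := @LocallyOfFiniteType)
      (Q := (@Surjective ⊓ @Flat ⊓ @QuasiCompact : MorphismProperty Scheme.{u})) h hf hft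
  refine ⟨?_, hg⟩
  change LocallyQuasiFinite g
  rw [locallyQuasiFinite_iff_isDiscrete_preimage_singleton]
  intro z
  have hsurj : Surjective f := hf.1.1
  obtain ⟨x, rfl⟩ := hsurj.surj z
  have hp := isPullback_fiberToSpecResidueField_of_isPullback h.flip x
  have h1 : Surjective (Spec.map (f.residueFieldMap x)) := ⟨fun a => ⟨default, Subsingleton.elim _ _⟩⟩
  have h2 : Flat (Spec.map (f.residueFieldMap x)) := inferInstance
  have hm1 := MorphismProperty.of_isPullback (P := @Surjective) hp.flip h1
  have hm2 := MorphismProperty.of_isPullback (P := @Flat) hp.flip h2
  have hm3 := MorphismProperty.of_isPullback (P := @QuasiCompact) hp.flip inferInstance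
  have hq := @Flat.isQuotientMap_of_surjective _ _ _ hm2 hm3 hm1
  have hdA : DiscreteTopology (fst.fiber x) := inferInstance
  have hd : DiscreteTopology (g.fiber (f x)) := by
    rw [discreteTopology_iff_forall_isOpen]
    intro s
    exact hq.isOpen_preimage.mp (@isOpen_discrete _ _ hdA _)
  have : DiscreteTopology (g ⁻¹' {f x}) := (g.fiberHomeo (f x)).discreteTopology
  exact isDiscrete_iff_discreteTopology.mpr this

end Groth.Agent.S0087
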