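import Groth.Statements.S0088
import Groth.Agent.Lib.Helper69.EtSplit
import Groth.Agent.S0527

set_option autoImplicit false
open CategoryTheory CategoryTheory.Limits AlgebraicGeometry Opposite
universe u
open EtBase

namespace Groth.Agent.S0088

/-- If all points of `S` are closed, every non-unit of a stalk is nilpotent. -/
theorem isNilpotent_of_not_isUnit (S : Scheme.{u}) (h1 : ∀ s : S, IsClosed ({s} : Set S)) (s : S)
    (a : S.presheaf.stalk s) (ha : ¬ IsUnit a) : IsNilpotent a := by
  have hsub : ∀ p q : PrimeSpectrum (S.presheaf.stalk s), p = q := by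
    intro p q
    have hp : S.fromSpecStalk s p = s := by
      have h : S.fromSpecStalk s p ⤳ s := by
        have : S.fromSpecStalk s p ∈ Set.range (S.fromSpecStalk s) := ⟨p, rfl⟩
        rw [Scheme.range_fromSpecStalk] at this
        exact this
      have h' := h.mem_closed (h1 _) (Set.mem_singleton _)
      exact (Set.mem_singleton_iff.1 h').symm
    have hq : S.fromSpecStalk s q = s := by
      have h : S.fromSpecStalk s q ⤳ s := by
        have : S.fromSpecStalk s q ∈ Set.range (S.fromSpecStalk s) := ⟨q, rfl⟩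
        rw [Scheme.range_fromSpecStalk] at this
        exact this
      have h' := h.mem_closed (h1 _) (Set.mem_singleton _)
      exact (Set.mem_singleton_iff.1 h').symm
    exact (S.fromSpecStalk s).isEmbedding.injective (hp.trans hq.symm)
  have huniq : ∃! I : Ideal (S.presheaf.stalk s), I.IsPrime := by
    refine ⟨IsLocalRing.maximalIdeal _, inferInstance, fun J hJ => ?_⟩
    have := hsub ⟨J, hJ⟩ ⟨IsLocalRing.maximalIdeal _, inferInstance⟩
    exact congrArg PrimeSpectrum.asIdeal this
  exact ((((Ring.krullDimLE_zero_and_isLocalRing_tfae (S.presheaf.stalk s)).out 1 2 rfl rfl).mp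
    huniq) a).mpr ha

/-- If all points of `S` are closed, basic opens are closed. -/
theorem isClosed_basicOpen (S : Scheme.{u}) (h1 : ∀ s : S, IsClosed ({s} : Set S))
    (f : Γ(S, ⊤)) : IsClosed (S.basicOpen f : Set S) := by
  rw [← isOpen_compl_iff, isOpen_iff_forall_mem_open]
  intro x hx
  have hnu : ¬ IsUnit (S.presheaf.germ ⊤ x trivial f) := by
    rw [← Scheme.mem_basicOpen_top]
    exact hx
  obtain ⟨n, hn⟩ := isNilpotent_of_not_isUnit S h1 x _ hnu
  have hn' : S.presheaf.germ ⊤ x trivial (f ^ (n + 1)) = S.presheaf.germ ⊤ x trivial 0 := by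
    rw [map_pow, pow_succ, hn, zero_mul, map_zero]
  obtain ⟨W, hxW, iU, iV, hW⟩ := TopCat.Presheaf.germ_eq S.presheaf (U := ⊤) (V := ⊤) x
    trivial trivial _ _ hn'
  refine ⟨W, ?_, W.isOpen, hxW⟩
  intro w hwW hwf
  have h2 : S.basicOpen (S.presheaf.map iU.op (f ^ (n + 1))) = W ⊓ S.basicOpen (f ^ (n + 1)) :=
    Scheme.basicOpen_res _ _ _
  rw [hW, map_zero, Scheme.basicOpen_zero] at h2
  have h3 : S.basicOpen (f ^ (n + 1)) = S.basicOpen f := Scheme.basicOpen_pow S f (Nat.succ_pos n)
  rw [h3] at h2
  have : w ∈ W ⊓ S.basicOpen f := ⟨hwW, hwf⟩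
  rw [← h2] at this
  exact this

theorem henselianLocalRing_stalk (S : Scheme.{u}) (h1 : ∀ s : S, IsClosed ({s} : Set S)) (s : S) :
    HenselianLocalRing (S.presheaf.stalk s) := by
  have hH : HenselianRing (S.presheaf.stalk s) (IsLocalRing.maximalIdeal (S.presheaf.stalk s)) :=
    Groth.Agent.S0527.result _ _ fun x hx =>
      isNilpotent_of_not_isUnit S h1 s x ((IsLocalRing.mem_maximalIdeal x).1 hx)
  exact
    { is_henselian := fun f hf a₀ h₁ h₂ =>
        HenselianRing.is_henselian (R := S.presheaf.stalk s)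
          (I := IsLocalRing.maximalIdeal (S.presheaf.stalk s)) f hf a₀ h₁ (h₂.map _) }


/-- On an affine scheme all of whose points are closed and all of whose residue fields are separably
closed, every abelian étale sheaf has vanishing cohomology in positive degrees. -/
theorem result (S : Scheme.{u}) [IsAffine S] (h1 : ∀ s : S, IsClosed ({s} : Set S))
    (h2 : ∀ s : S, IsSepClosed (S.residueField s)) (F : EtCoh.Ab S) (i : ℕ) (hi : 1 ≤ i) :
    Subsingleton (EtCoh.H S F i) := by
  refine Groth.Agent.Lib.Helper69.EtSplit.H_subsingleton_of_isAffine S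
    (fun s _ => ⟨henselianLocalRing_stalk S h1 s, h2 s⟩) ?_ F i hi
  intro x _ U hxU
  obtain ⟨_, ⟨f, rfl⟩, hxf, hfU⟩ := TopologicalSpace.Opens.isBasis_iff_nbhd.1 (isBasis_basicOpen S) hxU
  exact ⟨S.basicOpen f, ⟨isClosed_basicOpen S h1 f, (S.basicOpen f).isOpen⟩, hxf, hfU⟩

end Groth.Agent.S0088
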