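import Groth.Statements.S0097
-- import your own Groth.Agent.* helpers here
import Mathlib.AlgebraicGeometry.ZariskisMainTheorem
import Mathlib.AlgebraicGeometry.Morphisms.SmoothFiber
import Mathlib.RingTheory.LocalRing.Module
import Mathlib.RingTheory.Unramified.Field

set_option autoImplicit false
open CategoryTheory CategoryTheory.Limits AlgebraicGeometry Opposite
universe u
open EtBase

namespace Groth.Agent.S0097

open TensorProduct in
theorem exists_smul_mem_range {R S : Type u} [CommRing R] [CommRing S] [Algebra R S]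
    [Module.Finite R S] (p : Ideal R) [hp : p.IsPrime]
    (h : Function.Surjective (algebraMap p.ResidueField (p.Fiber S))) :
    ∃ r : R, r ∉ p ∧ ∀ s : S, ∃ a : R, algebraMap R S a = r • s := by
  let N : Submodule R S := LinearMap.range (Algebra.linearMap R S)
  have hp' : (⟨p, hp⟩ : PrimeSpectrum R) ∉ Module.support R (S ⧸ N) := by
    rw [Module.mem_support_iff_nontrivial_residueField_tensorProduct,
      not_nontrivial_iff_subsingleton]
    suffices ∀ z : p.ResidueField ⊗[R] (S ⧸ N), z = 0 from
      ⟨fun x y => by rw [this x, this y]⟩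
    intro z
    obtain ⟨w, rfl⟩ := LinearMap.lTensor_surjective p.ResidueField N.mkQ_surjective z
    obtain ⟨k, rfl⟩ := h w
    rw [Algebra.TensorProduct.algebraMap_apply]
    simp only [Algebra.algebraMap_self, RingHom.id_apply, LinearMap.lTensor_tmul,
      Submodule.mkQ_apply]
    have : (Submodule.Quotient.mk (1 : S) : S ⧸ N) = 0 := by
      rw [Submodule.Quotient.mk_eq_zero]
      exact ⟨1, by simp⟩
    rw [this, tmul_zero]
  rw [Module.mem_support_iff_of_finite] at hp'
  obtain ⟨r, hr, hrp⟩ := Set.not_subset.mp hp'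
  refine ⟨r, hrp, fun s => ?_⟩
  have h0 := Module.mem_annihilator.mp hr (Submodule.Quotient.mk s : S ⧸ N)
  rw [← Submodule.Quotient.mk_smul, Submodule.Quotient.mk_eq_zero] at h0
  obtain ⟨a, ha⟩ := h0
  exact ⟨a, ha⟩

theorem SpecMap_closedImmersion_iff {R S : CommRingCat.{u}} (ψ : R ⟶ S) :
    IsClosedImmersion (Spec.map ψ) ↔ Function.Surjective ψ.hom :=
  HasAffineProperty.SpecMap_iff_of_affineAnd (P := @IsClosedImmersion)
    (Q := fun f => Function.Surjective f) inferInstance RingHom.surjective_respectsIso ψ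

open TensorProduct in
theorem spec_case {R S : CommRingCat.{u}} (φ : R ⟶ S) (hφ : φ.hom.Finite) (p : Spec R)
    (h : IsClosedImmersion ((Spec.map φ).fiberToSpecResidueField p)) :
    ∃ U : (Spec R).Opens, p ∈ U ∧ IsClosedImmersion (Spec.map φ ∣_ U) := by
  algebraize [φ.hom]
  have hsurj : Function.Surjective (algebraMap p.asIdeal.ResidueField (p.asIdeal.Fiber S)) := by
    rw [← CommRingCat.hom_ofHom (algebraMap p.asIdeal.ResidueField (p.asIdeal.Fiber ↑S)),
      ← SpecMap_closedImmersion_iff,
      ← MorphismProperty.arrow_mk_iso_iff (P := @IsClosedImmersion)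
        (Spec.fiberToSpecResidueFieldIso R S p)]
    exact h
  obtain ⟨r, hrp, hr⟩ := exists_smul_mem_range p.asIdeal hsurj
  let ψ : R ⟶ CommRingCat.of (Localization.Away r) :=
    CommRingCat.ofHom (algebraMap R (Localization.Away r))
  have hψ : IsOpenImmersion (Spec.map ψ) := inferInstance
  refine ⟨(Spec.map ψ).opensRange, ?_, ?_⟩
  · rw [Scheme.Hom.opensRange_localizationAway]
    exact hrp
  · rw [MorphismProperty.arrow_mk_iso_iff @IsClosedImmersion
      (morphismRestrictOpensRange (Spec.map φ) (Spec.map ψ))]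
    change IsClosedImmersion (Limits.pullback.snd (Spec.map φ) (Spec.map ψ))
    have e := pullbackSpecIso_inv_snd R S (Localization.Away r)
    have : IsClosedImmersion ((pullbackSpecIso R S (Localization.Away r)).inv ≫
        Limits.pullback.snd (Spec.map φ) (Spec.map ψ)) := by
      erw [e]
      rw [SpecMap_closedImmersion_iff]
      intro z
      induction z using TensorProduct.induction_on with
      | zero => exact ⟨0, map_zero _⟩
      | add x y hx hy =>
        obtain ⟨a, ha⟩ := hx
        obtain ⟨b, hb⟩ := hy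
        exact ⟨a + b, by rw [map_add, ha, hb]⟩
      | tmul s t =>
        obtain ⟨a, ha⟩ := hr s
        obtain ⟨t', ht'⟩ : ∃ t' : Localization.Away r, t = r • t' := by
          refine ⟨IsLocalization.Away.invSelf r * t, ?_⟩
          rw [Algebra.smul_def, ← mul_assoc, IsLocalization.Away.mul_invSelf, one_mul]
        refine ⟨a • t', ?_⟩
        change (1 : S) ⊗ₜ[R] (a • t') = s ⊗ₜ[R] t
        rw [← TensorProduct.smul_tmul, ht', ← TensorProduct.smul_tmul, ← ha,
          Algebra.algebraMap_eq_smul_one]
    exact (MorphismProperty.cancel_left_of_respectsIso @IsClosedImmersion _ _).mp this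

theorem restrict_of_isPullback {P : MorphismProperty Scheme.{u}} [P.RespectsIso]
    {X Y X' Y' : Scheme.{u}} {f : X ⟶ Y} {f' : X' ⟶ Y'} {i : X' ⟶ X} {j : Y' ⟶ Y}
    [IsOpenImmersion j] (h : IsPullback i f' f j) (U' : Y'.Opens) (hP : P (f' ∣_ U')) :
    P (f ∣_ (j ''ᵁ U')) := by
  let W := j ''ᵁ U'
  let e : U'.toScheme ≅ W.toScheme := j.isoImage U'
  have he : e.hom ≫ W.ι = U'.ι ≫ j := j.isoImage_hom_ι U'
  have H1 : IsPullback (f ∣_ W ≫ e.inv) (f ⁻¹ᵁ W).ι (U'.ι ≫ j) f := by
    refine IsPullback.of_iso (isPullback_morphismRestrict f W) (Iso.refl _) e.symm (Iso.refl _)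
      (Iso.refl _) (by simp) (by simp) ?_ (by simp)
    rw [← he]
    simp
  have H2 : IsPullback (f' ∣_ U') ((f' ⁻¹ᵁ U').ι ≫ i) (U'.ι ≫ j) f :=
    (isPullback_morphismRestrict f' U').paste_vert h.flip
  let k := H1.isoIsPullback _ _ H2
  have hk : k.hom ≫ f' ∣_ U' = f ∣_ W ≫ e.inv := H1.isoIsPullback_hom_fst _ _ H2
  have : f ∣_ W = k.hom ≫ f' ∣_ U' ≫ e.hom := by rw [reassoc_of% hk]; simp
  change P (f ∣_ W)
  rw [this]
  exact (P.cancel_left_of_respectsIso _ _).mpr ((P.cancel_right_of_respectsIso _ _).mpr hP)

theorem exists_isClosedImmersion_restrict_of_fiber {X Y : Scheme.{u}} (f : X ⟶ Y) [IsFinite f]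
    (y : Y) (h : IsClosedImmersion (f.fiberToSpecResidueField y)) :
    ∃ U : Y.Opens, y ∈ U ∧ IsClosedImmersion (f ∣_ U) := by
  obtain ⟨R, j, hj, ⟨y', rfl⟩, -⟩ :=
    Scheme.exists_affine_mem_range_and_range_subset (x := y) (U := ⊤) trivial
  let X' := Limits.pullback f j
  let f' : X' ⟶ Spec R := Limits.pullback.snd f j
  have hf' : IsFinite f' := MorphismProperty.pullback_snd _ _ ‹IsFinite f›
  have : IsAffine X' := isAffine_of_isAffineHom f'
  obtain ⟨φ, hφ⟩ := Spec.map_surjective (X'.isoSpec.inv ≫ f')
  have hpb : IsPullback (X'.isoSpec.inv ≫ Limits.pullback.fst f j) (Spec.map φ) f j := by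
    rw [hφ]
    exact IsPullback.of_iso (IsPullback.of_hasPullback f j) X'.isoSpec (Iso.refl _) (Iso.refl _)
      (Iso.refl _) (by simp) (by simp [f']) (by simp) (by simp)
  have hfin : φ.hom.Finite := by
    rw [← IsFinite.SpecMap_iff, hφ]
    infer_instance
  have hfib : IsClosedImmersion ((Spec.map φ).fiberToSpecResidueField y') := by
    apply MorphismProperty.of_isPullback (P := @IsClosedImmersion)
    · exact isPullback_fiberToSpecResidueField_of_isPullback hpb _
    · exact h
  obtain ⟨U', hyU', hU'⟩ := spec_case φ hfin y' hfib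
  exact ⟨j ''ᵁ U', ⟨y', hyU', rfl⟩, restrict_of_isPullback hpb U' hU'⟩

theorem isReduced_fiber {X S : Scheme.{u}} (f : X ⟶ S) [IsFinite f] [FormallyUnramified f]
    (s : S) : IsReduced (f.fiber s) := by
  let F := f.fiber s
  let h : F ⟶ Spec (S.residueField s) := f.fiberToSpecResidueField s
  have hfin : IsFinite h := MorphismProperty.pullback_snd _ _ ‹IsFinite f›
  have hunr : FormallyUnramified h := MorphismProperty.pullback_snd _ _ ‹FormallyUnramified f›
  obtain ⟨φ, hφ⟩ := Spec.map_surjective (F.isoSpec.inv ≫ h)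
  have h1 : φ.hom.Finite := by
    rw [← IsFinite.SpecMap_iff, hφ]
    infer_instance
  have h2 : φ.hom.FormallyUnramified := by
    rw [← HasRingHomProperty.Spec_iff (P := @FormallyUnramified), hφ]
    exact (MorphismProperty.cancel_left_of_respectsIso @FormallyUnramified _ _).mpr hunr
  algebraize [φ.hom]
  have : IsReduced Γ(F, ⊤) := Algebra.FormallyUnramified.isReduced_of_field (S.residueField s) _
  have : IsReduced (Spec Γ(F, ⊤)) := (affine_isReduced_iff _).mpr this
  exact isReduced_of_isOpenImmersion F.isoSpec.hom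

theorem fiber_isClosedImmersion {X S : Scheme.{u}} (f : X ⟶ S) [IsFinite f] [FormallyUnramified f]
    (x : X) (hx : f.base ⁻¹' {f.base x} = {x})
    (hκ : Function.Surjective (f.residueFieldMap x)) :
    IsClosedImmersion (f.fiberToSpecResidueField (f.base x)) := by
  let F := f.fiber (f x)
  let h := f.fiberToSpecResidueField (f x)
  have hsub : Subsingleton F := by
    have e := f.fiberHomeo (f x)
    have : Subsingleton (f ⁻¹' {f x}) := by
      have : (f ⁻¹' {f x}) = {x} := hx
      rw [this]
      infer_instance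
    exact e.injective.subsingleton
  have hred : IsReduced F := isReduced_fiber f (f x)
  let a := f.asFiberHom x
  have hs : Surjective a := ⟨fun z => ⟨default, Subsingleton.elim _ _⟩⟩
  have hcl : IsClosedImmersion a := by
    refine IsClosedImmersion.of_isPreimmersion a ?_
    rw [hs.surj.range_eq]
    exact isClosed_univ
  have hiso : IsIso a := isIso_of_isClosedImmersion_of_surjective a
  have eq : h = inv a ≫ Spec.map (f.residueFieldMap x) := by
    rw [IsIso.eq_inv_comp]
    exact f.asFiberHom_fiberToSpecResidueField x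
  change IsClosedImmersion h
  rw [eq]
  have : IsClosedImmersion (Spec.map (f.residueFieldMap x)) :=
    IsClosedImmersion.spec_of_surjective _ hκ
  infer_instance


/-- A finite unramified morphism whose fibre over a point s is a single point with the same residue
field is a closed immersion over an open neighbourhood of s. -/
theorem result {X S : Scheme.{u}} (f : X ⟶ S) [IsFinite f] [FormallyUnramified f] (s : S) (x : X)
    (hx : f.base ⁻¹' {s} = {x}) (hκ : Function.Surjective (f.residueFieldMap x)) :
    ∃ U : S.Opens, s ∈ U ∧ IsClosedImmersion (f ∣_ U) := by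
  have hxs : f.base x = s := by
    have : x ∈ f.base ⁻¹' {s} := by rw [hx]; rfl
    exact this
  subst hxs
  exact exists_isClosedImmersion_restrict_of_fiber f (f.base x)
    (fiber_isClosedImmersion f x hx hκ)

end Groth.Agent.S0097
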