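import Groth.Statements.S0098
-- import your own Groth.Agent.* helpers here
import Groth.Agent.S0097
import Mathlib.AlgebraicGeometry.Morphisms.FlatMono

set_option autoImplicit false
open CategoryTheory CategoryTheory.Limits AlgebraicGeometry Opposite
universe u
open EtBase

namespace Groth.Agent.S0098


/-- A finite étale morphism whose fibre over a point s is a single point with the same residue field is
an isomorphism over an open neighbourhood of s. -/
theorem result {X S : Scheme.{u}} (f : X ⟶ S) [IsFinite f] [AlgebraicGeometry.Etale f] (s : S) (x : X)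
    (hx : f.base ⁻¹' {s} = {x}) (hκ : Function.Surjective (f.residueFieldMap x)) :
    ∃ U : S.Opens, s ∈ U ∧ IsIso (f ∣_ U) := by
  obtain ⟨U, hsU, hU⟩ := Groth.Agent.S0097.result f s x hx hκ
  have hxs : f.base x = s := by
    have : x ∈ f.base ⁻¹' {s} := by rw [hx]; rfl
    exact this
  let g := f ∣_ U
  have hg : IsOpenImmersion g := IsOpenImmersion.of_flat_of_mono g
  let V : U.toScheme.Opens := g.opensRange
  have hxU : x ∈ f ⁻¹ᵁ U := by
    change f.base x ∈ U
    rw [hxs]
    exact hsU
  have hsV : (⟨s, hsU⟩ : U) ∈ V := by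
    refine ⟨⟨x, hxU⟩, ?_⟩
    apply Subtype.ext
    rw [morphismRestrict_base_coe]
    exact hxs
  have hiso : IsIso (g ∣_ V) := by
    have : IsOpenImmersion (g ∣_ V) := inferInstance
    apply isIso_of_isOpenImmersion_of_opensRange_eq_top
    rw [eq_top_iff]
    rintro ⟨v, w, hw⟩ -
    have hwV : w ∈ g ⁻¹ᵁ V := by
      change g.base w ∈ V
      exact ⟨w, rfl⟩
    refine ⟨⟨w, hwV⟩, ?_⟩
    apply Subtype.ext
    rw [morphismRestrict_base_coe]
    exact hw
  refine ⟨U.ι ''ᵁ V, ⟨⟨s, hsU⟩, hsV, rfl⟩, ?_⟩
  exact ((MorphismProperty.isomorphisms Scheme).arrow_mk_iso_iff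
    (morphismRestrictRestrict f U V)).mp hiso

end Groth.Agent.S0098
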