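import Groth.Statements.S0103
import Groth.Agent.Lib.Helper4.GaAcyclic
import Groth.Agent.Lib.Helper4.ArtinSchreier
import Mathlib.Algebra.Homology.DerivedCategory.Ext.ExactSequences

set_option autoImplicit false
open CategoryTheory CategoryTheory.Limits AlgebraicGeometry Opposite
universe u
open EtBase

namespace Groth.Agent.S0103

open Groth.Agent.Lib.Helper4 Abelian


/-- Let S be an affine scheme whose ring of global sections has prime characteristic p. Then the étale
cohomology H^q(S, Z/p) with constant Z/p coefficients vanishes for every q ≥ 2. -/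
theorem result (S : Scheme.{u}) [IsAffine S] (p : ℕ) [Fact p.Prime] [CharP Γ(S, ⊤) p]
    (q : ℕ) (hq : 2 ≤ q) : Subsingleton (EtCoh.H S (EtCoh.const S (ZMod p)) q) := by
  obtain ⟨n, rfl⟩ : ∃ n, q = n + 2 := ⟨q - 2, by omega⟩
  obtain ⟨e⟩ := ArtinSchreier.kernel_as_iso S p
  have hepi := ArtinSchreier.as_epi S p
  let Sc : ShortComplex (EtCoh.Ab S) :=
    ShortComplex.mk (kernel.ι (ArtinSchreier.as S p)) (ArtinSchreier.as S p) (kernel.condition _)
  have hS : Sc.ShortExact :=
    ShortComplex.ShortExact.mk' (ShortComplex.exact_of_f_is_kernel _ (kernelIsKernel _))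
      (inferInstanceAs (Mono (kernel.ι (ArtinSchreier.as S p)))) hepi
  refine subsingleton_of_forall_eq 0 (fun x => ?_)
  let x' := x.comp (Ext.mk₀ e.inv) (add_zero (n + 2))
  have h1 : x'.comp (Ext.mk₀ Sc.f) (add_zero (n + 2)) = 0 := GaAcyclic.H_Ga_affine S (n + 1) _
  obtain ⟨x₃, hx₃⟩ := Ext.covariant_sequence_exact₁ _ hS x' h1 (n₀ := n + 1) rfl
  have h3 : x₃ = 0 := GaAcyclic.H_Ga_affine S n x₃
  have hx' : x' = 0 := by rw [← hx₃, h3, Ext.zero_comp]
  have hx : x = x'.comp (Ext.mk₀ e.hom) (add_zero (n + 2)) := by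
    change x = (x.comp (Ext.mk₀ e.inv) (add_zero (n + 2))).comp (Ext.mk₀ e.hom) (add_zero (n + 2))
    rw [Ext.comp_assoc_of_third_deg_zero, Ext.mk₀_comp_mk₀, e.inv_hom_id, Ext.comp_mk₀_id]
  rw [hx, hx', Ext.zero_comp]

end Groth.Agent.S0103
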