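import Groth.Statements.S0105
import Groth.Agent.Lib.Helper4.ConstStalk
import Mathlib.AlgebraicGeometry.Sites.EtalePoint
import Mathlib.FieldTheory.SeparableClosure
import Mathlib.AlgebraicGeometry.Morphisms.UniversallyOpen
import Mathlib.AlgebraicGeometry.Morphisms.Etale

set_option autoImplicit false
open CategoryTheory CategoryTheory.Limits AlgebraicGeometry Opposite
universe u
open EtBase

namespace Groth.Agent.S0105
open Groth.Agent.Lib.Helper4

section
variable {X : Scheme.{u}} (x : X)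

abbrev Ωx : Type u := SeparableClosure (X.residueField x)

noncomputable def geomPt : Spec (CommRingCat.of (Ωx x)) ⟶ X :=
  Spec.map (CommRingCat.ofHom (algebraMap (X.residueField x) (Ωx x))) ≫ X.fromSpecResidueField x

theorem geomPt_default : (geomPt x) default = x := by
  unfold geomPt
  rw [Scheme.Hom.comp_apply]
  exact Scheme.fromSpecResidueField_apply _ _

end


theorem stalk_iso_of_restr_iso {X : Scheme.{u}} (F : EtCoh.Ab X) (V : X.Etale) (M : Type)
    [AddCommGroup M]
    (e : EtCoh.restr F V ≅ (constantSheaf (X.smallEtaleTopology.over V) AddCommGrpCat.{u+1}).obj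
      (AddCommGrpCat.of (ULift.{u+1} M)))
    {Ω : Type u} [Field Ω] [IsSepClosed Ω] (ξ : Spec (CommRingCat.of Ω) ⟶ X)
    (t : (Scheme.pointSmallEtale ξ).fiber.obj V) :
    Nonempty ((Scheme.pointSmallEtale ξ).sheafFiber.obj F ≅ AddCommGrpCat.of (ULift.{u+1} M)) :=
  ⟨(ConstStalk.overSheafFiberIso (Scheme.pointSmallEtale ξ) t F).symm ≪≫
    ((Scheme.pointSmallEtale ξ).over t).sheafFiber.mapIso e ≪≫
    (ConstStalk.constFiberIso ((Scheme.pointSmallEtale ξ).over t) AddCommGrpCat.{u+1}
      Over.mkIdTerminal).app _⟩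


theorem addEquiv_of_overlap {X : Scheme.{u}} (F : EtCoh.Ab X) (V W : X.Etale) (M N : Type)
    [AddCommGroup M] [AddCommGroup N]
    (eM : EtCoh.restr F V ≅ (constantSheaf (X.smallEtaleTopology.over V) AddCommGrpCat.{u+1}).obj
      (AddCommGrpCat.of (ULift.{u+1} M)))
    (eN : EtCoh.restr F W ≅ (constantSheaf (X.smallEtaleTopology.over W) AddCommGrpCat.{u+1}).obj
      (AddCommGrpCat.of (ULift.{u+1} N)))
    (y : V.left) (z : W.left) (h : V.hom.base y = W.hom.base z) : Nonempty (M ≃+ N) := by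
  obtain ⟨t, -⟩ := Scheme.pointSmallEtaleFiberObjToPreimage_surjective (geomPt (V.hom.base y))
    (geomPt_default _) V ⟨y, rfl⟩
  obtain ⟨t', -⟩ := Scheme.pointSmallEtaleFiberObjToPreimage_surjective (geomPt (V.hom.base y))
    (geomPt_default _) W ⟨z, h.symm⟩
  obtain ⟨a⟩ := stalk_iso_of_restr_iso F V M eM (geomPt (V.hom.base y)) t
  obtain ⟨b⟩ := stalk_iso_of_restr_iso F W N eN (geomPt (V.hom.base y)) t'
  exact ⟨AddEquiv.ulift.symm.trans ((a.symm ≪≫ b).addCommGroupIsoToAddEquiv.trans AddEquiv.ulift)⟩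


theorem isOpen_range_etale {X : Scheme.{u}} (V : X.Etale) : IsOpen (Set.range V.hom.base) := by
  have : Etale V.hom := V.prop
  exact V.hom.isOpenMap.isOpen_range


/-- On a connected scheme X, a finite locally constant abelian sheaf F on the small étale site is, étale
locally, constant with one and the same finite group everywhere: there are a finite abelian group M
and an étale covering (U_i) of X such that the restriction of F to every U_i is isomorphic to the
constant sheaf with value M. (The published statement covers arbitrary locally constant sheaves of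
modules; stated here for finite locally constant abelian sheaves.) -/
theorem result {X : Scheme.{u}} [ConnectedSpace X] (F : EtCoh.Ab X) (h : EtCoh.IsFiniteLocallyConstant F) :
    ∃ (M : Type) (_ : AddCommGroup M) (_ : Finite M) (ι : Type u) (U : ι → X.Etale), EtCoh.Covers U ∧
      ∀ i, Nonempty (EtCoh.restr F (U i) ≅
        (constantSheaf (X.smallEtaleTopology.over (U i)) AddCommGrpCat.{u + 1}).obj
          (AddCommGrpCat.of (ULift.{u + 1} M))) := by
  obtain ⟨ι, U, hcov, hM⟩ := h
  choose M instA instF hiso using hM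
  obtain ⟨x₀⟩ : Nonempty X := inferInstance
  obtain ⟨i₀, y₀, hy₀⟩ := hcov x₀
  let A : Set X := ⋃ (i : {i : ι // Nonempty (M i ≃+ M i₀)}), Set.range (U i.1).hom.base
  let B : Set X := ⋃ (i : {i : ι // ¬ Nonempty (M i ≃+ M i₀)}), Set.range (U i.1).hom.base
  have hA : IsOpen A := isOpen_iUnion fun i => isOpen_range_etale (U i.1)
  have hB : IsOpen B := isOpen_iUnion fun i => isOpen_range_etale (U i.1)
  have hAB : Aᶜ = B := by
    ext x
    simp only [A, B, Set.mem_compl_iff, Set.mem_iUnion, Set.mem_range, not_exists]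
    constructor
    · intro hx
      obtain ⟨i, y, hy⟩ := hcov x
      by_cases hi : Nonempty (M i ≃+ M i₀)
      · exact absurd hy (hx ⟨i, hi⟩ y)
      · exact ⟨⟨i, hi⟩, y, hy⟩
    · rintro ⟨⟨j, hj⟩, z, hz⟩ ⟨i, hi⟩ y hy
      obtain ⟨e⟩ := addEquiv_of_overlap F (U j) (U i) (M j) (M i) (hiso j).some (hiso i).some z y
        (hz.trans hy.symm)
      exact hj ⟨e.trans hi.some⟩
  have hclopen : IsClopen A := ⟨by rw [← isOpen_compl_iff, hAB]; exact hB, hA⟩
  have hne : A.Nonempty := ⟨x₀, Set.mem_iUnion.2 ⟨⟨i₀, ⟨AddEquiv.refl _⟩⟩, y₀, hy₀⟩⟩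
  have huniv : A = Set.univ := hclopen.eq_univ hne
  refine ⟨M i₀, instA i₀, instF i₀, {i : ι // Nonempty (M i ≃+ M i₀)}, fun i => U i.1, ?_, ?_⟩
  · intro x
    have hx : x ∈ A := huniv ▸ Set.mem_univ x
    obtain ⟨i, y, hy⟩ := Set.mem_iUnion.1 hx
    exact ⟨i, y, hy⟩
  · rintro ⟨i, ⟨e⟩⟩
    obtain ⟨a⟩ := hiso i
    let c : AddCommGrpCat.of (ULift.{u + 1} (M i)) ≅ AddCommGrpCat.of (ULift.{u + 1} (M i₀)) :=
      (AddEquiv.ulift.trans (e.trans AddEquiv.ulift.symm)).toAddCommGrpIso
    exact ⟨a ≪≫ (constantSheaf (X.smallEtaleTopology.over (U i)) AddCommGrpCat.{u + 1}).mapIso c⟩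

end Groth.Agent.S0105
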