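import Groth.Statements.S0108
import Groth.Agent.Lib.Helper4.StdEtaleCover
import Groth.Agent.S0102
import Mathlib.CategoryTheory.Sites.EpiMono

set_option autoImplicit false
open CategoryTheory CategoryTheory.Limits AlgebraicGeometry Opposite
universe u
open EtBase

namespace Groth.Agent.S0108
open Groth.Agent.Lib.Helper4 Polynomial

theorem powMap_app (S : Scheme.{u}) (n : ℕ) (T : S.Etale) (b : (EtCoh.Gm S).obj.obj (op T)) :
    (EtCoh.powMap S n).hom.app (op T) b = n • b := by
  have h1 : (EtCoh.powMap S n).hom = n • (𝟙 (EtCoh.Gm S) : EtCoh.Gm S ⟶ EtCoh.Gm S).hom :=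
    (sheafToPresheaf S.smallEtaleTopology AddCommGrpCat.{u + 1}).map_nsmul
  rw [h1, NatTrans.app_nsmul]
  rfl

noncomputable def kummerPair {A : Type u} [CommRing A] (n : ℕ) (hn0 : n ≠ 0) (a : Aˣ) (ν : A)
    (hν : (n : A) * ν = 1) : StandardEtalePair A where
  f := X ^ n - C (a : A)
  monic_f := monic_X_pow_sub_C _ hn0
  g := 1
  cond := ⟨C (ν * (↑a⁻¹ : A)) * X, - C (↑a⁻¹ : A), 0, by
    have h2 : (X : A[X]) ^ (n - 1) * X = X ^ n := pow_sub_one_mul hn0 _
    simp only [derivative_sub, derivative_X_pow, derivative_C, sub_zero, pow_zero]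
    have h3 : C ((n : A) * (ν * (↑a⁻¹ : A))) = C (↑a⁻¹ : A) := by
      rw [← mul_assoc, hν, one_mul]
    have h4 : (C (a : A) : A[X]) * C (↑a⁻¹ : A) = 1 := by
      rw [← C_mul, Units.mul_inv, C_1]
    calc C (n : A) * X ^ (n - 1) * (C (ν * (↑a⁻¹ : A)) * X) + (X ^ n - C (a : A)) * -C (↑a⁻¹ : A)
        = C ((n : A) * (ν * (↑a⁻¹ : A))) * (X ^ (n - 1) * X) - X ^ n * C (↑a⁻¹ : A)
          + C (a : A) * C (↑a⁻¹ : A) := by simp only [C_mul]; ring
      _ = 1 := by rw [h3, h2, h4]; ring⟩


/-- The Kummer sequence — when n is invertible on S, the n-th power map on the multiplicative group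
sheaf is an epimorphism of étale sheaves (its kernel μ_n is, by definition in the prelude, the sheaf
of n-th roots of unity, so the sequence 0 → μ_n → G_m → G_m → 0 is exact). -/
theorem result (S : Scheme.{u}) (n : ℕ) (hn : IsUnit (n : Γ(S, ⊤))) : Epi (EtCoh.powMap S n) := by
  rw [← Sheaf.isLocallySurjective_iff_epi' _ (EtCoh.powMap S n)]
  constructor
  intro U a
  apply Groth.Agent.S0102.mem_of_forall_exists
  intro x
  let A := Γ(U.left, ⊤)
  have hnU : IsUnit (n : A) := by
    have := hn.map U.hom.appTop.hom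
    rwa [map_natCast] at this
  have hn0 : n ≠ 0 := by
    rintro rfl
    have h0 : IsUnit (0 : A) := by simpa using hnU
    have h1 := h0.map (U.left.presheaf.germ ⊤ x trivial).hom
    rw [map_zero] at h1
    exact not_isUnit_zero h1
  obtain ⟨ν, hν⟩ := hnU.exists_right_inv
  let a₀ : Aˣ := Additive.toMul (ULift.down a)
  let P₀ : StandardEtalePair A := kummerPair n hn0 a₀ ν hν
  have hdeg : P₀.f.natDegree ≠ 0 := by
    have : Nontrivial A := by
      by_contra hnt
      rw [not_nontrivial_iff_subsingleton] at hnt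
      have h1 : IsUnit ((U.left.presheaf.germ ⊤ x trivial).hom (0 : A)) :=
        (isUnit_of_subsingleton (0 : A)).map _
      rw [map_zero] at h1
      exact not_isUnit_zero h1
    change (X ^ n - C (a₀ : A)).natDegree ≠ 0
    rw [natDegree_X_pow_sub_C]
    exact hn0
  obtain ⟨T, g, t, r, hgt, hr⟩ := StdEtaleCover.exists_etale_nbhd_root U x P₀ rfl hdeg
  have hr' : r ^ n = g.left.appTop.hom (a₀ : A) := by
    change eval₂ g.left.appTop.hom r (X ^ n - C (a₀ : A)) = 0 at hr
    rw [eval₂_sub, eval₂_X_pow, eval₂_C, sub_eq_zero] at hr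
    exact hr
  have hru : IsUnit r := by
    have h1 : IsUnit (r ^ n) := by
      rw [hr']
      exact a₀.isUnit.map _
    exact (isUnit_pow_iff hn0).1 h1
  refine ⟨T, g, t, ⟨ULift.up (Additive.ofMul hru.unit), ?_⟩, hgt⟩
  rw [powMap_app]
  apply ULift.ext
  apply Additive.toMul.injective
  apply Units.ext
  change ((hru.unit ^ n : (Γ(T.left, ⊤))ˣ) : Γ(T.left, ⊤)) = g.left.appTop.hom (a₀ : A)
  rw [Units.val_pow_eq_pow_val, IsUnit.unit_spec, hr']


end Groth.Agent.S0108
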