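import Groth.Statements.S0111
import Groth.Agent.Lib.Helper4.StrictHens
import Groth.Agent.Lib.Helper4.StrictHensGeom

set_option autoImplicit false
open CategoryTheory CategoryTheory.Limits AlgebraicGeometry Opposite
universe u
open EtBase

namespace Groth.Agent.S0111
open Groth.Agent.Lib.Helper4 Polynomial

section
variable {X : Scheme.{u}} {Ω : Type u} [Field Ω] [IsSepClosed Ω]
    (ξ : Spec (CommRingCat.of Ω) ⟶ X)

noncomputable def φ (U : X.Etale) (x : (Scheme.pointSmallEtale ξ).fiber.obj U) :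
    (EtBase.OO X).obj (op U) ⟶ CommRingCat.of Ω :=
  (CommaMorphism.left x).appTop ≫ (Scheme.ΓSpecIso (CommRingCat.of Ω)).hom

theorem hφ ⦃U V : X.Etale⦄ (f : U ⟶ V) (x : (Scheme.pointSmallEtale ξ).fiber.obj U) :
    (EtBase.OO X).map f.op ≫ φ ξ U x = φ ξ V ((Scheme.pointSmallEtale ξ).fiber.map f x) := by
  change f.left.appTop ≫ (CommaMorphism.left x).appTop ≫ _ =
    (CommaMorphism.left x ≫ f.left).appTop ≫ _
  rw [Scheme.Hom.comp_appTop, Category.assoc]
  rfl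

noncomputable def ε : (EtBase.etaleLocalRing ξ : Type u) →+* Ω :=
  ((Scheme.pointSmallEtale ξ).presheafFiberDesc (φ ξ) (hφ ξ)).hom

theorem ε_ι (U : X.Etale) (x : (Scheme.pointSmallEtale ξ).fiber.obj U) :
    (ε ξ).comp ((Scheme.pointSmallEtale ξ).toPresheafFiber U x (EtBase.OO X)).hom =
      (φ ξ U x).hom := by
  have := (Scheme.pointSmallEtale ξ).toPresheafFiber_presheafFiberDesc (φ ξ) (hφ ξ) U x
  exact congrArg CommRingCat.Hom.hom this

theorem exists_elem (U : X.Etale) (x : (Scheme.pointSmallEtale ξ).fiber.obj U) (T : X.Etale)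
    (g : T ⟶ U) (t : Spec (CommRingCat.of Ω) ⟶ T.left)
    (ht : t ≫ g.left = CommaMorphism.left x) :
    ∃ y : (Scheme.pointSmallEtale ξ).fiber.obj T,
      (Scheme.pointSmallEtale ξ).fiber.map g y = x ∧ CommaMorphism.left y = t := by
  have hw : t ≫ T.hom = ξ := by
    have h1 : g.left ≫ U.hom = T.hom := Over.w g.hom
    have h2 : CommaMorphism.left x ≫ U.hom = ξ := Over.w x
    calc t ≫ T.hom = t ≫ g.left ≫ U.hom := by rw [h1]
      _ = (t ≫ g.left) ≫ U.hom := (Category.assoc _ _ _).symm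
      _ = CommaMorphism.left x ≫ U.hom := congrArg (· ≫ U.hom) ht
      _ = ξ := h2
  refine ⟨Over.homMk t hw, ?_, rfl⟩
  apply Over.OverMorphism.ext
  exact ht

theorem H1aux (U : X.Etale) (x : (Scheme.pointSmallEtale ξ).fiber.obj U) (s : Γ(U.left, ⊤))
    (hs : (φ ξ U x).hom s ≠ 0) :
    ∃ (T : X.Etale) (y : (Scheme.pointSmallEtale ξ).fiber.obj T) (g : T ⟶ U),
      (Scheme.pointSmallEtale ξ).fiber.map g y = x ∧ IsUnit (g.left.appTop.hom s) := by
  let P₀ : StandardEtalePair Γ(U.left, ⊤) :=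
    ⟨Polynomial.X, Polynomial.monic_X, Polynomial.C s, ⟨Polynomial.C s, 0, 1, by simp⟩⟩
  obtain ⟨T, g, t, r, ht, -, hu, -⟩ := StrictHensGeom.exists_etale_nbhd_geom U
    (CommaMorphism.left x) P₀ 0 (Polynomial.eval₂_X _ _)
    (by rw [show P₀.g = Polynomial.C s from rfl, Polynomial.eval₂_C]; exact hs)
  obtain ⟨y, hy, -⟩ := exists_elem ξ U x T g t ht
  refine ⟨T, y, g, hy, ?_⟩
  rw [show P₀.g = Polynomial.C s from rfl, Polynomial.eval₂_C] at hu
  exact hu

theorem H2aux (U : X.Etale) (x : (Scheme.pointSmallEtale ξ).fiber.obj U) (P₀ : Γ(U.left, ⊤)[X])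
    (ω : Ω) (hm : P₀.Monic) (h0 : P₀.eval₂ (φ ξ U x).hom ω = 0)
    (h1 : P₀.derivative.eval₂ (φ ξ U x).hom ω ≠ 0) :
    ∃ (T : X.Etale) (y : (Scheme.pointSmallEtale ξ).fiber.obj T) (g : T ⟶ U) (r : Γ(T.left, ⊤)),
      (Scheme.pointSmallEtale ξ).fiber.map g y = x ∧ P₀.eval₂ g.left.appTop.hom r = 0 ∧
      (φ ξ T y).hom r = ω := by
  let Q : StandardEtalePair Γ(U.left, ⊤) :=
    ⟨P₀, hm, P₀.derivative, ⟨1, 0, 1, by simp⟩⟩
  obtain ⟨T, g, t, r, ht, hr, -, hω⟩ := StrictHensGeom.exists_etale_nbhd_geom U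
    (CommaMorphism.left x) Q ω h0 h1
  obtain ⟨y, hy, hyt⟩ := exists_elem ξ U x T g t ht
  refine ⟨T, y, g, r, hy, hr, ?_⟩
  change ((CommaMorphism.left y).appTop ≫ (Scheme.ΓSpecIso (CommRingCat.of Ω)).hom).hom r = ω
  rw [hyt]
  exact hω

end


/-- Let X be a scheme and ξ : Spec Ω → X a geometric point, Ω a separably closed field. Then the étale
local ring of X at ξ (the stalk of the structure sheaf on the small étale site of X at ξ) is a
strictly henselian local ring. The published statement is stronger: it identifies this ring with the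
strict henselization of the Zariski local ring at the underlying point of ξ; only the consequence
that it is strictly henselian is asserted here. -/
theorem result {X : Scheme.{u}} {Ω : Type u} [Field Ω] [IsSepClosed Ω]
    (ξ : Spec (CommRingCat.of Ω) ⟶ X) : EtCoh.IsStrictlyHenselianLocalRing (EtBase.etaleLocalRing ξ) := by
  let Φ := Scheme.pointSmallEtale ξ
  let D := (CategoryOfElements.π Φ.fiber).op ⋙ EtBase.OO X
  let c := Φ.presheafFiberCocone (EtBase.OO X)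
  have hc : IsColimit c := Φ.isColimitPresheafFiberCocone _
  have H1 : ∀ (j : Φ.fiber.Elementsᵒᵖ) (s : D.obj j), ε ξ ((c.ι.app j).hom s) ≠ 0 →
      ∃ (j' : Φ.fiber.Elementsᵒᵖ) (f : j ⟶ j'), IsUnit ((D.map f).hom s) := by
    rintro ⟨⟨U, x⟩⟩ s hs
    have hs' : (φ ξ U x).hom s ≠ 0 := by
      rw [← ε_ι]
      exact hs
    obtain ⟨T, y, g, hy, hu⟩ := H1aux ξ U x s hs'
    exact ⟨op ⟨T, y⟩, Quiver.Hom.op ⟨g, hy⟩, hu⟩
  have H2 : ∀ (j : Φ.fiber.Elementsᵒᵖ) (P₀ : (D.obj j : Type u)[X]) (ω : Ω), P₀.Monic →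
      P₀.eval₂ ((ε ξ).comp (c.ι.app j).hom) ω = 0 →
      P₀.derivative.eval₂ ((ε ξ).comp (c.ι.app j).hom) ω ≠ 0 →
      ∃ (j' : Φ.fiber.Elementsᵒᵖ) (f : j ⟶ j') (r : D.obj j'), P₀.eval₂ (D.map f).hom r = 0 ∧
        ε ξ ((c.ι.app j').hom r) = ω := by
    rintro ⟨⟨U, x⟩⟩ P₀ ω hm h0 h1
    have e : (ε ξ).comp (c.ι.app (op ⟨U, x⟩)).hom = (φ ξ U x).hom := ε_ι ξ U x
    rw [e] at h0 h1
    obtain ⟨T, y, g, r, hy, hr, hω⟩ := H2aux ξ U x P₀ ω hm h0 h1
    refine ⟨op ⟨T, y⟩, Quiver.Hom.op ⟨g, hy⟩, r, hr, ?_⟩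
    have e' : (ε ξ).comp (c.ι.app (op ⟨T, y⟩)).hom = (φ ξ T y).hom := ε_ι ξ T y
    change ((ε ξ).comp (c.ι.app (op ⟨T, y⟩)).hom) r = ω
    rw [e']
    exact hω
  have hU := StrictHens.hU_of_colimit D c hc (ε ξ) H1
  have hK := StrictHens.hK_of_colimit D c hc (ε ξ) H2
  have hH : HenselianLocalRing (EtBase.etaleLocalRing ξ) := StrictHens.henselianLocalRing (ε ξ) hU hK
  exact ⟨hH, StrictHens.isSepClosed_residueField (ε ξ) hU hK⟩

end Groth.Agent.S0111
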