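import Groth.Statements.S0118
import Groth.Agent.S0117
import Groth.Agent.Lib.Helper57.EtLift

set_option autoImplicit false
open CategoryTheory CategoryTheory.Limits AlgebraicGeometry Opposite
universe u
open EtBase

namespace Groth.Agent.S0118

open Groth.Agent.Lib.Helper57 in
theorem forget_map_bc {S S₀ : Scheme.{u}} (i : S₀ ⟶ S) {A B : S.Etale} (g : A ⟶ B) :
    (Scheme.Etale.forget S₀).map ((EtCoh.bc i).map g) =
      (Over.pullback i).map ((Scheme.Etale.forget S).map g) := rfl

theorem faithful_bc {S S₀ : Scheme.{u}} (i : S₀ ⟶ S) [IsClosedImmersion i] [Surjective i] :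
    (EtCoh.bc i).Faithful := by
  constructor
  intro A B g₁ g₂ h
  apply (Scheme.Etale.forget S).map_injective
  have hB : AlgebraicGeometry.Etale ((Scheme.Etale.forget S).obj B).hom :=
    inferInstanceAs (AlgebraicGeometry.Etale B.hom)
  apply (Groth.Agent.S0117.result i ((Scheme.Etale.forget S).obj B)
    ((Scheme.Etale.forget S).obj A)).1
  show (Over.pullback i).map ((Scheme.Etale.forget S).map g₁) =
    (Over.pullback i).map ((Scheme.Etale.forget S).map g₂)
  rw [← forget_map_bc, ← forget_map_bc, h]

theorem full_bc {S S₀ : Scheme.{u}} (i : S₀ ⟶ S) [IsClosedImmersion i] [Surjective i] :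
    (EtCoh.bc i).Full := by
  constructor
  intro A B h
  have hB : AlgebraicGeometry.Etale ((Scheme.Etale.forget S).obj B).hom :=
    inferInstanceAs (AlgebraicGeometry.Etale B.hom)
  obtain ⟨φ, hφ⟩ := (Groth.Agent.S0117.result i ((Scheme.Etale.forget S).obj B)
    ((Scheme.Etale.forget S).obj A)).2 ((Scheme.Etale.forget S₀).map h)
  refine ⟨(Scheme.Etale.forget S).preimage φ, ?_⟩
  apply (Scheme.Etale.forget S₀).map_injective
  rw [forget_map_bc, Functor.map_preimage]
  exact hφ

theorem essSurj_bc {S S₀ : Scheme.{u}} (i : S₀ ⟶ S) [IsClosedImmersion i] [Surjective i] :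
    (EtCoh.bc i).EssSurj := by
  constructor
  intro Y₀
  have hY₀ : AlgebraicGeometry.Etale Y₀.hom := inferInstance
  obtain ⟨X, j, f, hf, -, hpb⟩ := Groth.Agent.Lib.Helper57.EtLift.exists_isPullback i Y₀.hom
  refine ⟨Scheme.Etale.mk f, ⟨?_⟩⟩
  refine (MorphismProperty.Over.isoMk hpb.isoPullback ?_).symm
  exact hpb.isoPullback_hom_snd

/-- Base change to a closed subscheme with the same underlying space is an equivalence between the
categories of étale schemes over the two. -/
theorem result {S S₀ : Scheme.{u}} (i : S₀ ⟶ S) [IsClosedImmersion i] [Surjective i] :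
    (EtCoh.bc i).IsEquivalence := by
  exact ⟨faithful_bc i, full_bc i, essSurj_bc i⟩

end Groth.Agent.S0118
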