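import Groth.Statements.S0119
import Mathlib
-- import your own Groth.Agent.* helpers here

set_option autoImplicit false
open CategoryTheory CategoryTheory.Limits AlgebraicGeometry Opposite
universe u
open EtBase

namespace Groth.Agent.S0119

open TensorProduct in
theorem isReduced_of_flat_of_formallyUnramified {R S : Type u} [CommRing R] [CommRing S]
    [Algebra R S] [IsNoetherianRing R] [IsReduced R] [Module.Flat R S]
    [Algebra.FormallyUnramified R S] [Algebra.EssFiniteType R S] : IsReduced S := by
  constructor
  intro x hx
  let ι := {p : Ideal R // p ∈ minimalPrimes R}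
  have hfin : Finite ι := (minimalPrimes.finite_of_isNoetherianRing R).to_subtype
  have hprime : ∀ p : ι, p.1.IsPrime := fun p => p.2.1.1
  have : Fintype ι := Fintype.ofFinite ι
  classical
  let K : ι → Type u := fun p => p.1.ResidueField
  let ψ : R →ₗ[R] (∀ p : ι, K p) := LinearMap.pi (fun p => Algebra.linearMap R (K p))
  have hψ : Function.Injective ψ := by
    rw [injective_iff_map_eq_zero]
    intro r hr
    have hmem : ∀ p : ι, r ∈ p.1 := by
      intro p
      have := congrFun hr p
      simpa [ψ, K, Ideal.algebraMap_residueField_eq_zero] using this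
    have h2 : r ∈ sInf (minimalPrimes R) := by
      rw [Submodule.mem_sInf]
      intro p hp
      exact hmem ⟨p, hp⟩
    rw [minimalPrimes, Ideal.sInf_minimalPrimes] at h2
    have h3 : (⊥ : Ideal R).radical = ⊥ := by
      simp
    rw [h3] at h2
    simp at h2; exact h2
  have hinj := Module.Flat.lTensor_preserves_injective_linearMap (M := S) ψ hψ
  have key : ∀ p : ι, x ⊗ₜ[R] (1 : K p) = 0 := by
    intro p
    have : IsReduced (K p ⊗[R] S) := Algebra.FormallyUnramified.isReduced_of_field (K p) _
    have hr : IsReduced (S ⊗[R] K p) :=
      isReduced_of_injective (Algebra.TensorProduct.comm R S (K p)).toRingEquiv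
        (Algebra.TensorProduct.comm R S (K p)).injective
    have hnil : IsNilpotent (Algebra.TensorProduct.includeLeft (R := R) (S := R) (A := S) (B := K p) x) :=
      hx.map _
    exact hnil.eq_zero
  have h0 : ψ.lTensor S (x ⊗ₜ[R] (1 : R)) = 0 := by
    apply (TensorProduct.piRight R R S K).injective
    ext p
    simp [ψ, key p]
  have h1 : x ⊗ₜ[R] (1 : R) = 0 := hinj (by simpa using h0)
  simpa using congrArg (TensorProduct.rid R S) h1


/-- Let f : X → Y be an étale morphism of schemes with Y locally Noetherian, and let x ∈ X. Then the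
local ring O_{X,x} is reduced if and only if the local ring O_{Y,f(x)} is reduced. -/
theorem result {X Y : Scheme.{u}} (f : X ⟶ Y) [AlgebraicGeometry.Etale f]
    [IsLocallyNoetherian Y] (x : X) :
    _root_.IsReduced (X.presheaf.stalk x) ↔ _root_.IsReduced (Y.presheaf.stalk (f.base x)) := by
  algebraize [(f.stalkMap x).hom]
  have : IsLocalHom (algebraMap (Y.presheaf.stalk (f x)) (X.presheaf.stalk x)) :=
    inferInstanceAs <| IsLocalHom (f.stalkMap x).hom
  have : Algebra.EssFiniteType (Y.presheaf.stalk (f x)) (X.presheaf.stalk x) := by
    rw [← RingHom.essFiniteType_algebraMap, RingHom.algebraMap_toAlgebra]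
    exact LocallyOfFiniteType.stalkMap f x
  have : Algebra.FormallyUnramified (Y.presheaf.stalk (f x)) (X.presheaf.stalk x) := by
    rw [← RingHom.formallyUnramified_algebraMap, RingHom.algebraMap_toAlgebra]
    exact FormallyUnramified.stalkMap f x
  have : Module.Flat (Y.presheaf.stalk (f x)) (X.presheaf.stalk x) := by
    rw [← RingHom.flat_algebraMap_iff, RingHom.algebraMap_toAlgebra]
    exact Flat.stalkMap f x
  have : Module.FaithfullyFlat (Y.presheaf.stalk (f x)) (X.presheaf.stalk x) :=
    Module.FaithfullyFlat.of_flat_of_isLocalHom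
  constructor
  · intro h
    exact isReduced_of_injective (algebraMap (Y.presheaf.stalk (f x)) (X.presheaf.stalk x))
      (FaithfulSMul.algebraMap_injective _ _)
  · intro h
    exact isReduced_of_flat_of_formallyUnramified (R := Y.presheaf.stalk (f x))

end Groth.Agent.S0119
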