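import Groth.Statements.S0120
import Mathlib
-- import your own Groth.Agent.* helpers here

set_option autoImplicit false
open CategoryTheory CategoryTheory.Limits AlgebraicGeometry Opposite
universe u
open EtBase

namespace Groth.Agent.S0120

theorem dim_eq_of_flat_of_map_maximalIdeal {R S : Type u} [CommRing R] [CommRing S] [Algebra R S]
    [IsLocalRing R] [IsLocalRing S] [IsLocalHom (algebraMap R S)]
    [IsNoetherianRing R] [IsNoetherianRing S] [Module.Flat R S]
    (h : (IsLocalRing.maximalIdeal R).map (algebraMap R S) = IsLocalRing.maximalIdeal S) :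
    ringKrullDim S = ringKrullDim R := by
  have : (IsLocalRing.maximalIdeal S).LiesOver (IsLocalRing.maximalIdeal R) := inferInstance
  have key := Ideal.height_eq_height_add_of_liesOver_of_hasGoingDown
    (IsLocalRing.maximalIdeal R) (IsLocalRing.maximalIdeal S)
  rw [h] at key
  have h0 : (Ideal.map (Ideal.Quotient.mk (IsLocalRing.maximalIdeal S))
      (IsLocalRing.maximalIdeal S)).height = 0 := by
    rw [Ideal.map_quotient_self]
    exact Ideal.height_bot
  rw [h0, add_zero] at key
  rw [← IsLocalRing.maximalIdeal_height_eq_ringKrullDim,
    ← IsLocalRing.maximalIdeal_height_eq_ringKrullDim, key]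

/-- For an étale morphism X → Y with Y locally Noetherian and a point x of X, the local ring of X at x
and the local ring of Y at the image of x have the same Krull dimension. -/
theorem result {X Y : Scheme.{u}} (f : X ⟶ Y) [AlgebraicGeometry.Etale f]
    [IsLocallyNoetherian Y] (x : X) :
    ringKrullDim (X.presheaf.stalk x) = ringKrullDim (Y.presheaf.stalk (f.base x)) := by
  have : IsLocallyNoetherian X := LocallyOfFiniteType.isLocallyNoetherian f
  algebraize [(f.stalkMap x).hom]
  have : IsLocalHom (algebraMap (Y.presheaf.stalk (f x)) (X.presheaf.stalk x)) :=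
    inferInstanceAs <| IsLocalHom (f.stalkMap x).hom
  have : Algebra.EssFiniteType (Y.presheaf.stalk (f x)) (X.presheaf.stalk x) := by
    rw [← RingHom.essFiniteType_algebraMap, RingHom.algebraMap_toAlgebra]
    exact LocallyOfFiniteType.stalkMap f x
  have : Algebra.FormallyUnramified (Y.presheaf.stalk (f x)) (X.presheaf.stalk x) := by
    rw [← RingHom.formallyUnramified_algebraMap, RingHom.algebraMap_toAlgebra]
    exact FormallyUnramified.stalkMap f x
  have : Module.Flat (Y.presheaf.stalk (f x)) (X.presheaf.stalk x) := by
    rw [← RingHom.flat_algebraMap_iff, RingHom.algebraMap_toAlgebra]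
    exact Flat.stalkMap f x
  exact dim_eq_of_flat_of_map_maximalIdeal Algebra.FormallyUnramified.map_maximalIdeal

end Groth.Agent.S0120
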