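import Groth.Statements.S0127
import Groth.Agent.Lib.Helper4.StrataPull

set_option autoImplicit false
universe u
open CategoryTheory CategoryTheory.Limits AlgebraicGeometry Opposite
open EtPBC

namespace Groth.Agent.S0127
open Groth.Agent.Lib.Helper4 Groth.Agent.Lib.Helper4.Strata

theorem strata_pull_affine {X Y : Scheme.{u}} (f : X ⟶ Y) (F : EtCoh.Ab Y) (W : Y.Opens)
    (hW : IsAffineOpen W) (hFW : Strata F (W : Set Y)) (V : X.Opens) (hV : IsAffineOpen V)
    (hVW : V ≤ f ⁻¹ᵁ W) : Strata ((EtCoh.pull f).obj F) (V : Set X) := by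
  have : IsAffine V.toScheme := hV
  have hrange : Set.range (V.ι ≫ f) ⊆ W := by
    rintro _ ⟨x, rfl⟩
    exact hVW x.2
  have hpre : (V.ι ≫ f) ⁻¹' (W : Set Y) = Set.univ := by
    ext x
    simp only [Set.mem_preimage, Set.mem_univ, iff_true]
    exact hVW x.2
  have h1 : Strata ((EtCoh.pull (V.ι ≫ f)).obj F) ((V.ι ≫ f) ⁻¹' (W : Set Y)) :=
    strata_preimage (V.ι ≫ f) F (fun A hA => cin_preimage_scheme (V.ι ≫ f) W.isOpen hW.isCompact hpre
      (fun K hK1 hK2 hK3 => isCompact_preimage_of_affine (V.ι ≫ f) W hW hrange K hK1 hK2 hK3) hA) hFW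
  rw [hpre] at h1
  have h2 : Strata ((EtCoh.pull V.ι).obj ((EtCoh.pull f).obj F)) Set.univ :=
    strata_of_iso ((EtCore.pullComp V.ι f).app F) h1
  have h3 := strata_image _ V.ι h2
  rwa [Set.image_univ, Scheme.Opens.range_ι] at h3


/-- Abelian case: if F is a constructible abelian sheaf on Y_et and f : X -> Y is any morphism of
schemes, then f^* F is constructible on X_et. -/
theorem result {X Y : Scheme.{u}} (f : X ⟶ Y) [EtCoh.BCCont f]
    (F : EtCoh.Ab Y) (hF : EtPBC.IsConstructible F) :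
    EtPBC.IsConstructible ((EtCoh.pull f).obj F) := by
  intro V hV
  rw [← strata_iff]
  have hcov : ∀ x : V, ∃ W : Y.Opens, IsAffineOpen W ∧ f (x : X) ∈ W := by
    intro x
    obtain ⟨W, hW, hxW, -⟩ := TopologicalSpace.Opens.isBasis_iff_nbhd.1 Y.isBasis_affineOpens
      (show f (x : X) ∈ (⊤ : Y.Opens) from trivial)
    exact ⟨W, hW, hxW⟩
  choose W hW hfW using hcov
  have ha : ∀ x : V, ∃ a : Γ(X, V), X.basicOpen a ≤ f ⁻¹ᵁ (W x) ∧ (x : X) ∈ X.basicOpen a :=
    fun x => hV.exists_basicOpen_le ⟨x, hfW x⟩ x.2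
  choose a ha1 ha2 using ha
  obtain ⟨t, ht⟩ := hV.isCompact.elim_finite_subcover (fun x : V => (X.basicOpen (a x) : Set X))
    (fun x => (X.basicOpen (a x)).isOpen) (fun x hx => Set.mem_iUnion.2 ⟨⟨x, hx⟩, ha2 ⟨x, hx⟩⟩)
  have key := strata_biUnion ((EtCoh.pull f).obj F) t (fun x : V => (X.basicOpen (a x) : Set X))
    (V : Set X) hV.isQuasiSeparated (fun x _ => ⟨(X.basicOpen (a x)).isOpen,
      (hV.basicOpen (a x)).isCompact, X.basicOpen_le (a x),
      strata_pull_affine f F (W x) (hW x) ((strata_iff _ _).2 (hF (W x) (hW x))) _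
        (hV.basicOpen (a x)) (ha1 x)⟩)
  have heq : (⋃ x ∈ t, (X.basicOpen (a x) : Set X)) = (V : Set X) := by
    apply Set.Subset.antisymm
    · exact Set.iUnion₂_subset fun x _ => X.basicOpen_le (a x)
    · exact ht
  rwa [heq] at key

end Groth.Agent.S0127
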