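import Groth.Statements.S0129
import Groth.Agent.Lib.Helper4.Strata

set_option autoImplicit false
universe u
open CategoryTheory CategoryTheory.Limits AlgebraicGeometry Opposite
open EtPBC

namespace Groth.Agent.S0129
open Groth.Agent.Lib.Helper4 Groth.Agent.Lib.Helper4.Strata

theorem strata_of_le_open {X : Scheme.{u}} (F : EtCoh.Ab X) (U : X.Opens)
    (h : EtPBC.IsConstructible ((EtCoh.pull U.ι).obj F)) (W : X.Opens) (hW : IsAffineOpen W)
    (hWU : W ≤ U) : Strata F (W : Set X) := by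
  have hW' : IsAffineOpen (U.ι ⁻¹ᵁ W) :=
    hW.preimage_of_isOpenImmersion U.ι (by rwa [Scheme.Opens.opensRange_ι])
  have h1 := (strata_iff _ _).2 (h (U.ι ⁻¹ᵁ W) hW')
  have h2 := strata_image F U.ι h1
  have h3 : U.ι '' ((U.ι ⁻¹ᵁ W : U.toScheme.Opens) : Set U.toScheme) = (W : Set X) := by
    change U.ι '' (U.ι ⁻¹' (W : Set X)) = W
    rw [Set.image_preimage_eq_inter_range, Scheme.Opens.range_ι]
    exact Set.inter_eq_left.2 hWU
  rwa [h3] at h2


/-- Abelian case: if X is covered by opens U_i and the restriction of F to each U_i is constructible,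
then F is constructible. -/
theorem result {X : Scheme.{u}} (F : EtCoh.Ab X) {ι : Type u} (U : ι → X.Opens)
    (hU : ⨆ i, U i = ⊤) [∀ i, EtCoh.BCCont (U i).ι]
    (h : ∀ i, EtPBC.IsConstructible ((EtCoh.pull (U i).ι).obj F)) :
    EtPBC.IsConstructible F := by
  intro V hV
  rw [← strata_iff]
  have hcov : ∀ x : V, ∃ i, (x : X) ∈ U i := by
    intro x
    have : (x : X) ∈ ⨆ i, U i := by rw [hU]; trivial
    exact TopologicalSpace.Opens.mem_iSup.1 this
  choose i hi using hcov
  have hf : ∀ x : V, ∃ f : Γ(X, V), X.basicOpen f ≤ U (i x) ∧ (x : X) ∈ X.basicOpen f :=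
    fun x => hV.exists_basicOpen_le ⟨x, hi x⟩ x.2
  choose f hf1 hf2 using hf
  obtain ⟨t, ht⟩ := hV.isCompact.elim_finite_subcover (fun x : V => (X.basicOpen (f x) : Set X))
    (fun x => (X.basicOpen (f x)).isOpen) (fun x hx => Set.mem_iUnion.2 ⟨⟨x, hx⟩, hf2 ⟨x, hx⟩⟩)
  have key := strata_biUnion F t (fun x : V => (X.basicOpen (f x) : Set X)) (V : Set X)
    hV.isQuasiSeparated (fun x _ => ⟨(X.basicOpen (f x)).isOpen, (hV.basicOpen (f x)).isCompact,
      X.basicOpen_le (f x), strata_of_le_open F (U (i x)) (h (i x)) _ (hV.basicOpen (f x)) (hf1 x)⟩)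
  have heq : (⋃ x ∈ t, (X.basicOpen (f x) : Set X)) = (V : Set X) := by
    apply Set.Subset.antisymm
    · exact Set.iUnion₂_subset fun x _ => X.basicOpen_le (f x)
    · exact ht
  rwa [heq] at key

end Groth.Agent.S0129
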