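import Groth.Statements.S0130
import Groth.Agent.Lib.Helper4.AStrata
import Groth.Agent.S0128

set_option autoImplicit false
universe u
open CategoryTheory CategoryTheory.Limits AlgebraicGeometry Opposite
open EtPBC

namespace Groth.Agent.S0130
open Groth.Agent.Lib.Helper4 Groth.Agent.Lib.Helper4.Strata Groth.Agent.Lib.Helper4.CIn


/-- Abelian case: X quasi-compact and quasi-separated, T_i -> X immersions with constructible images
covering X, and F pulled back to each T_i constructible; then F is constructible. -/
theorem result (X : Scheme.{u}) [CompactSpace X] [QuasiSeparatedSpace X]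
    (F : EtCoh.Ab X) {ι : Type u} (T : ι → Scheme.{u}) (g : ∀ i, T i ⟶ X) [∀ i, IsImmersion (g i)]
    [∀ i, EtCoh.BCCont (g i)]
    (hc : ∀ i, Topology.IsConstructible (Set.range (g i)))
    (hcov : (⋃ i, Set.range (g i)) = Set.univ)
    (h : ∀ i, EtPBC.IsConstructible ((EtCoh.pull (g i)).obj F)) :
    EtPBC.IsConstructible F := by
  obtain ⟨t, ht⟩ := exists_finite_subcover_of_isConstructible (fun i => Set.range (g i)) hc hcov
  have key : ∀ i, AStrata F (Set.range (g i)) := by
    intro i
    have hQS : QuasiSeparatedSpace (T i) := quasiSeparatedSpace_of_quasiSeparated (g i)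
    have hCS : CompactSpace (T i) := by
      rw [← isCompact_univ_iff, (g i).isEmbedding.isInducing.isCompact_iff, Set.image_univ]
      exact isCompact_of_isConstructible (hc i)
    have h1 : Strata ((EtCoh.pull (g i)).obj F) Set.univ :=
      (strata_iff _ _).2 ((Groth.Agent.S0128.result (T i) _).1 (h i))
    have h2 := strata_image F (g i) h1
    rw [Set.image_univ] at h2
    exact astrata_of_strata F (hc i) h2
  have h3 := astrata_biUnion F t (fun i => Set.range (g i)) (fun i _ => ⟨hc i, key i⟩)
  rw [ht] at h3
  exact (Groth.Agent.S0128.result X F).2 ((strata_iff _ _).1 (strata_univ_of_astrata F h3))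

end Groth.Agent.S0130
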