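import Groth.Statements.S0141
import Groth.Agent.Lib.Helper57.SubCons
import Groth.Agent.Lib.Helper57.SurjLocus

set_option autoImplicit false
universe u
open CategoryTheory CategoryTheory.Limits AlgebraicGeometry Opposite
open EtPBC

namespace Groth.Agent.S0141

/-- Part (3): with Λ = Z/n, quotient half: on a Noetherian scheme a quotient of a constructible abelian
sheaf killed by n > 0 is constructible. -/
theorem result (X : Scheme.{u}) [IsNoetherian X]
    {F Q : EtCoh.Ab X} (π : F ⟶ Q) [Epi π] (n : ℕ) (hn : 0 < n) (hFn : EtCoh.KilledBy n F)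
    (hF : EtPBC.IsConstructible F) :
    EtPBC.IsConstructible Q := by
  have hK : EtPBC.IsConstructible (kernel π) :=
    Groth.Agent.Lib.Helper57.SubCons.isConstructible_of_mono (kernel.ι π) hF
  have hC : EtPBC.IsConstructible (cokernel (kernel.ι π)) :=
    Groth.Agent.Lib.Helper57.SurjLocus.isConstructible_cokernel (kernel.ι π) hK hF
  have hcol : IsColimit (CokernelCofork.ofπ π (kernel.condition π)) :=
    Abelian.epiIsCokernelOfKernel (KernelFork.ofι (kernel.ι π) (kernel.condition π))
      (kernelIsKernel π)
  let e : cokernel (kernel.ι π) ≅ Q :=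
    IsColimit.coconePointUniqueUpToIso (cokernelIsCokernel (kernel.ι π)) hcol
  intro U hU
  rw [← Groth.Agent.Lib.Helper4.Strata.strata_iff]
  exact Groth.Agent.Lib.Helper4.Strata.strata_of_iso e
    ((Groth.Agent.Lib.Helper4.Strata.strata_iff _ _).2 (hC U hU))

end Groth.Agent.S0141
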