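import Groth.Statements.S0152
import Mathlib.Topology.Spectral.ConstructibleTopology
import Mathlib.Topology.Spectral.Basic

set_option autoImplicit false
universe u
open EtPBC

namespace Groth.Agent.S0152
open Topology

theorem compactSpace_constr (X : Type u) [TopologicalSpace X] [SpectralSpace X] :
    @CompactSpace X (constructibleTopology X) :=
  @Function.Surjective.compactSpace (WithConstructibleTopology X) X _ (constructibleTopology X)
    WithTopology.ofTopology (WithTopology.continuous_ofTopology (t := constructibleTopology X)) _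
    (WithTopology.ofTopology_surjective _)

theorem exists_sep {X : Type u} [TopologicalSpace X] [SpectralSpace X] (K : Set X) (hK : IsClosed K)
    (x : X) (hx : Disjoint K (closure {x})) :
    ∃ W : Set X, IsCompact W ∧ IsOpen W ∧ K ⊆ W ∧ x ∉ W := by
  obtain ⟨W, hWc, hWo, hKW, hWU⟩ := PrespectralSpace.exists_isCompact_and_isOpen_between
    hK.isCompact (isClosed_closure (s := ({x} : Set X))).isOpen_compl
    (Set.subset_compl_iff_disjoint_right.2 hx)
  exact ⟨W, hWc, hWo, hKW, fun h => hWU h (subset_closure rfl)⟩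

theorem exists_pair {X : Type u} [TopologicalSpace X] [SpectralSpace X]
    (Z : Set X) (hconn : ∀ x : X, IsConnected (Z ∩ closure {x}))
    (Z₁ Z₂ : Set X) (h₁ : IsClosed Z₁) (h₂ : IsClosed Z₂) (hdisj : Disjoint Z₁ Z₂)
    (hunion : Z₁ ∪ Z₂ = Z) (x : X) :
    ∃ W V : Set X, IsCompact W ∧ IsOpen W ∧ IsCompact V ∧ IsOpen V ∧ Z₁ ⊆ W ∧ Z₂ ⊆ V ∧
      x ∉ W ∩ V := by
  have hc := (hconn x).isPreconnected
  have hsub := (isPreconnected_iff_subset_of_disjoint_closed.1 hc) Z₁ Z₂ h₁ h₂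
    (by rw [hunion]; exact Set.inter_subset_left)
    (by rw [Set.disjoint_iff_inter_eq_empty.1 hdisj, Set.inter_empty])
  rcases hsub with h | h
  · have hd : Disjoint Z₂ (closure {x}) := by
      rw [Set.disjoint_left]
      intro z hz2 hzc
      have hz1 : z ∈ Z₁ := h ⟨hunion ▸ Or.inr hz2, hzc⟩
      exact Set.disjoint_left.1 hdisj hz1 hz2
    obtain ⟨V, hVc, hVo, hZV, hxV⟩ := exists_sep Z₂ h₂ x hd
    exact ⟨Set.univ, V, isCompact_univ, isOpen_univ, hVc, hVo, Set.subset_univ _, hZV,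
      fun hx => hxV hx.2⟩
  · have hd : Disjoint Z₁ (closure {x}) := by
      rw [Set.disjoint_left]
      intro z hz1 hzc
      have hz2 : z ∈ Z₂ := h ⟨hunion ▸ Or.inl hz1, hzc⟩
      exact Set.disjoint_left.1 hdisj hz1 hz2
    obtain ⟨W, hWc, hWo, hZW, hxW⟩ := exists_sep Z₁ h₁ x hd
    exact ⟨W, Set.univ, hWc, hWo, isCompact_univ, isOpen_univ, hZW, Set.subset_univ _,
      fun hx => hxW hx.1⟩

theorem exists_opens {X : Type u} [TopologicalSpace X] [SpectralSpace X]
    (Z : Set X) (hconn : ∀ x : X, IsConnected (Z ∩ closure {x}))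
    (Z₁ Z₂ : Set X) (h₁ : IsClosed Z₁) (h₂ : IsClosed Z₂) (hdisj : Disjoint Z₁ Z₂)
    (hunion : Z₁ ∪ Z₂ = Z) :
    ∃ W V : Set X, IsOpen W ∧ IsOpen V ∧ Z₁ ⊆ W ∧ Z₂ ⊆ V ∧ W ∩ V = ∅ := by
  choose W V hWc hWo hVc hVo hZW hZV hx using
    exists_pair Z hconn Z₁ Z₂ h₁ h₂ hdisj hunion
  have hcs := compactSpace_constr X
  let C : X → Set X := fun x => (W x ∩ V x)ᶜ
  have hCo : ∀ x, IsOpen[constructibleTopology X] (C x) := by
    intro x
    apply IsCompact.isOpen_constructibleTopology_of_isClosed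
    · rw [compl_compl]
      exact (hWc x).inter_of_isOpen (hVc x) (hWo x) (hVo x)
    · exact ((hWo x).inter (hVo x)).isClosed_compl
  have hcover : (Set.univ : Set X) ⊆ ⋃ x, C x := by
    intro x _
    exact Set.mem_iUnion.2 ⟨x, hx x⟩
  obtain ⟨t, ht⟩ := @IsCompact.elim_finite_subcover X (constructibleTopology X) Set.univ X
    (@isCompact_univ X (constructibleTopology X) hcs) C hCo hcover
  refine ⟨⋂ x ∈ t, W x, ⋂ x ∈ t, V x, ?_, ?_, ?_, ?_, ?_⟩
  · exact isOpen_biInter_finset fun x _ => hWo x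
  · exact isOpen_biInter_finset fun x _ => hVo x
  · exact Set.subset_iInter₂ fun x _ => hZW x
  · exact Set.subset_iInter₂ fun x _ => hZV x
  · rw [Set.eq_empty_iff_forall_notMem]
    rintro y ⟨hyW, hyV⟩
    obtain ⟨x, hxt, hyC⟩ := Set.mem_iUnion₂.1 (ht (Set.mem_univ y))
    exact hyC ⟨Set.mem_iInter₂.1 hyW x hxt, Set.mem_iInter₂.1 hyV x hxt⟩


/-- Let X be a spectral space and Z a closed subset such that Z meets the closure of every point of X in
a connected (nonempty) set. If Z is the disjoint union of two closed subsets Z_1, Z_2 then X is the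
disjoint union of closed subsets X_1, X_2 with Z_i = Z ∩ X_i. -/
theorem result (X : Type u) [TopologicalSpace X] [SpectralSpace X]
    (Z : Set X) (hZ : IsClosed Z)
    (hconn : ∀ x : X, IsConnected (Z ∩ closure {x}))
    (Z₁ Z₂ : Set X) (h₁ : IsClosed Z₁) (h₂ : IsClosed Z₂) (hdisj : Disjoint Z₁ Z₂) (hunion : Z₁ ∪ Z₂ = Z) :
    ∃ X₁ X₂ : Set X, IsClosed X₁ ∧ IsClosed X₂ ∧ Disjoint X₁ X₂ ∧ X₁ ∪ X₂ = Set.univ ∧
      Z₁ = Z ∩ X₁ ∧ Z₂ = Z ∩ X₂ := by
  obtain ⟨W, V, hWo, hVo, hZW, hZV, hWV⟩ := exists_opens Z hconn Z₁ Z₂ h₁ h₂ hdisj hunion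
  have hsub : ∀ x, Z ∩ closure {x} ⊆ Z₁ ∨ Z ∩ closure {x} ⊆ Z₂ := fun x =>
    (isPreconnected_iff_subset_of_disjoint_closed.1 (hconn x).isPreconnected) Z₁ Z₂ h₁ h₂
      (by rw [hunion]; exact Set.inter_subset_left)
      (by rw [Set.disjoint_iff_inter_eq_empty.1 hdisj, Set.inter_empty])
  have hmemW : ∀ x, Z ∩ closure {x} ⊆ Z₁ → x ∈ W := by
    intro x hx
    obtain ⟨z, hz⟩ := (hconn x).nonempty
    have hzW : z ∈ W := hZW (hx hz)
    obtain ⟨y, hyW, hy⟩ := mem_closure_iff.1 hz.2 W hWo hzW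
    rw [Set.mem_singleton_iff] at hy
    exact hy ▸ hyW
  have hmemV : ∀ x, Z ∩ closure {x} ⊆ Z₂ → x ∈ V := by
    intro x hx
    obtain ⟨z, hz⟩ := (hconn x).nonempty
    have hzV : z ∈ V := hZV (hx hz)
    obtain ⟨y, hyV, hy⟩ := mem_closure_iff.1 hz.2 V hVo hzV
    rw [Set.mem_singleton_iff] at hy
    exact hy ▸ hyV
  have hcover : ∀ x, x ∈ W ∨ x ∈ V := fun x => (hsub x).imp (hmemW x) (hmemV x)
  have hVW : ∀ x, x ∈ V → x ∉ W := fun x hV hW => by
    have : x ∈ W ∩ V := ⟨hW, hV⟩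
    rw [hWV] at this
    exact this
  refine ⟨Vᶜ, Wᶜ, hVo.isClosed_compl, hWo.isClosed_compl, ?_, ?_, ?_, ?_⟩
  · rw [Set.disjoint_left]
    intro x hxV hxW
    rcases hcover x with h | h
    · exact hxW h
    · exact hxV h
  · ext x
    simp only [Set.mem_union, Set.mem_compl_iff, Set.mem_univ, iff_true]
    by_cases h : x ∈ V
    · exact Or.inr (hVW x h)
    · exact Or.inl h
  · ext x
    constructor
    · intro hx
      exact ⟨hunion ▸ Or.inl hx, fun hV => hVW x hV (hZW hx)⟩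
    · rintro ⟨hxZ, hxV⟩
      rw [← hunion] at hxZ
      rcases hxZ with h | h
      · exact h
      · exact absurd (hZV h) hxV
  · ext x
    constructor
    · intro hx
      exact ⟨hunion ▸ Or.inr hx, fun hW => hVW x (hZV hx) hW⟩
    · rintro ⟨hxZ, hxW⟩
      rw [← hunion] at hxZ
      rcases hxZ with h | h
      · exact absurd (hZW h) hxW
      · exact h

end Groth.Agent.S0152
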