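import Groth.Statements.S0161
import Groth.Agent.S0621
import Groth.Agent.Lib.Helper57.EtPushExact

set_option autoImplicit false
universe u
open CategoryTheory CategoryTheory.Limits AlgebraicGeometry Opposite
open EtPBC

namespace Groth.Agent.S0161

/-- For a finite morphism f : X -> Y, cohomology commutes with base change: for every cartesian square
and torsion abelian F on X_et and every q, g^* R^q f_* F ≅ R^q f'_* g'^* F (abstract-isomorphism
form). -/
theorem result {X Y : Scheme.{u}} (f : X ⟶ Y) [IsFinite f] [EtCoh.BCCont f] :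
    EtPBC.CohCommutesWithBC f := by
  intro X' Y' f' g' g _ _ _ h F _ q
  have hf' : IsFinite f' := MorphismProperty.of_isPullback (P := @IsFinite) h inferInstance
  rcases Nat.eq_zero_or_pos q with rfl | hq
  · have := Groth.Agent.Lib.Helper57.EtPushExact.push_preservesFiniteLimits f
    have := Groth.Agent.Lib.Helper57.EtPushExact.push_preservesFiniteLimits f'
    have hiso : IsIso (EtCoh.baseChange0 f g f' g' h.w F) := Groth.Agent.S0621.result f g f' g' h F
    exact ⟨(EtCoh.pull g).mapIso ((EtCoh.push f).rightDerivedZeroIsoSelf.app F) ≪≫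
      asIso (EtCoh.baseChange0 f g f' g' h.w F) ≪≫
      ((EtCoh.push f').rightDerivedZeroIsoSelf.app ((EtCoh.pull g').obj F)).symm⟩
  · have h1 := Groth.Agent.Lib.Helper57.EtPushExact.isZero_Rpush f F q hq
    have h2 := Groth.Agent.Lib.Helper57.EtPushExact.isZero_Rpush f' ((EtCoh.pull g').obj F) q hq
    have h3 : IsZero ((EtCoh.pull g).obj ((EtCoh.Rpush f q).obj F)) := by
      have : (EtCoh.pull g).IsLeftAdjoint := (EtCoh.pullPushAdj g).isLeftAdjoint
      have : (EtCoh.pull g).PreservesZeroMorphisms :=
        Functor.preservesZeroMorphisms_of_isLeftAdjoint _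
      exact (EtCoh.pull g).map_isZero h1
    exact ⟨h3.iso h2⟩

end Groth.Agent.S0161
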