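import Groth.Statements.S0175
import Groth.Agent.Lib.Helper4.Recoll

set_option autoImplicit false
universe u
open CategoryTheory CategoryTheory.Limits AlgebraicGeometry Opposite
open EtPBC

namespace Groth.Agent.S0175
open Groth.Agent.Lib.Helper4

section
variable {Z X U : Scheme.{u}} (i : Z ⟶ X) [IsClosedImmersion i]
    (j : U ⟶ X) [IsOpenImmersion j] (hZU : Set.range j.base = (Set.range i.base)ᶜ)

include hZU in
theorem isIso_unit_of_isZero_pull (K : EtCoh.Ab X) (hK : IsZero ((EtCoh.pull j).obj K)) :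
    IsIso ((EtCoh.pullPushAdj i).unit.app K) := by
  rw [EtStalk.isIso_iff_stalk]
  intro Ω _ _ ξ
  rcases Recoll.dichotomy i j hZU ξ with ⟨v, rfl, -⟩ | ⟨ζ, rfl⟩
  · have h1 : IsZero ((EtCoh.stalk (v ≫ j)).obj K) :=
      IsZero.of_iso ((EtCoh.stalk v).map_isZero hK) ((EtStalkPull.stalkPullIso j v).app K).symm
    have h2 : IsZero ((EtCoh.stalk (v ≫ j)).obj ((EtCoh.push i).obj ((EtCoh.pull i).obj K))) :=
      IsZero.of_iso ((EtCoh.stalk v).map_isZero (Recoll.isZero_pull_push i j hZU _))
        ((EtStalkPull.stalkPullIso j v).app _).symm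
    exact ⟨0, h1.eq_of_src _ _, h2.eq_of_src _ _⟩
  · exact ClosedRecoll.isIso_stalk_unit i K ζ

theorem isZero_pull_kernel_unit (I : EtCoh.Ab X) :
    IsZero ((EtCoh.pull j).obj (kernel ((EtCoh.pullPushAdj j).unit.app I))) := by
  have := EtStalk.preservesFiniteLimits_pull j
  let η := (EtCoh.pullPushAdj j).unit.app I
  have hm : Mono ((EtCoh.pull j).map η) := by
    have h := (EtCoh.pullPushAdj j).left_triangle_components I
    exact (SplitMono.mk _ h).mono
  have h0 : (EtCoh.pull j).map (kernel.ι η) = 0 := by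
    rw [← cancel_mono ((EtCoh.pull j).map η), ← Functor.map_comp, kernel.condition,
      Functor.map_zero, zero_comp]
  have hm2 : Mono ((EtCoh.pull j).map (kernel.ι η)) := inferInstance
  rw [IsZero.iff_id_eq_zero, ← cancel_mono ((EtCoh.pull j).map (kernel.ι η)), h0, comp_zero, zero_comp]

include hZU in
theorem main (I : EtCoh.Ab X) [Injective I] :
    Injective ((EtCoh.pull i).obj (kernel ((EtCoh.pullPushAdj j).unit.app I))) := by
  let η := (EtCoh.pullPushAdj j).unit.app I
  let K := kernel η
  let κ : K ⟶ I := kernel.ι η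
  have hu : IsIso ((EtCoh.pullPushAdj i).unit.app K) :=
    isIso_unit_of_isZero_pull i j hZU K (isZero_pull_kernel_unit j I)
  let ff : (EtCoh.push i).FullyFaithful := (EtCoh.pullPushAdj i).fullyFaithfulROfIsIsoCounit
  have : PreservesFiniteLimits (EtCoh.push i) :=
    have : PreservesLimitsOfSize.{0, 0} (EtCoh.push i) :=
      (EtCoh.pullPushAdj i).rightAdjoint_preservesLimits
    PreservesLimitsOfSize.preservesFiniteLimits _
  constructor
  intro G' G φ m hm
  have hm' : Mono ((EtCoh.push i).map m) := inferInstance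
  let α : (EtCoh.push i).obj G' ⟶ I :=
    (EtCoh.push i).map φ ≫ inv ((EtCoh.pullPushAdj i).unit.app K) ≫ κ
  let β : (EtCoh.push i).obj G ⟶ I := Injective.factorThru α ((EtCoh.push i).map m)
  have hβ : (EtCoh.push i).map m ≫ β = α := Injective.comp_factorThru _ _
  have hβ0 : β ≫ η = 0 := by
    apply ((EtCoh.pullPushAdj j).homEquiv _ _).symm.injective
    exact (Recoll.isZero_pull_push i j hZU G).eq_of_src _ _
  let γ : (EtCoh.push i).obj G ⟶ K := kernel.lift η β hβ0
  have hγ : γ ≫ κ = β := kernel.lift_ι _ _ _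
  have h1 : (EtCoh.push i).map m ≫ γ = (EtCoh.push i).map φ ≫ inv ((EtCoh.pullPushAdj i).unit.app K) := by
    rw [← cancel_mono κ, Category.assoc, hγ, hβ, Category.assoc]
  let ψ : G ⟶ (EtCoh.pull i).obj K := ff.preimage (γ ≫ (EtCoh.pullPushAdj i).unit.app K)
  refine ⟨ψ, ?_⟩
  apply ff.map_injective
  rw [Functor.map_comp, ff.map_preimage, ← Category.assoc, h1, Category.assoc, IsIso.inv_hom_id,
    Category.comp_id]

end


/-- Let i : Z → X be a closed immersion of schemes with open complement j : U → X, and I an injective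
abelian sheaf on X_ét. Then the subsheaf H_Z(I) of sections supported on Z (the kernel of I → j_*
j^* I), viewed on Z_ét via i^*, is an injective abelian sheaf on Z_ét. -/
theorem result {Z X U : Scheme.{u}} (i : Z ⟶ X) [IsClosedImmersion i]
    (j : U ⟶ X) [IsOpenImmersion j] (hZU : Set.range j = (Set.range i)ᶜ)
    [EtCoh.BCCont i] [EtCoh.BCCont j] (I : EtCoh.Ab X) [Injective I] :
    Injective ((EtCoh.pull i).obj (kernel ((EtCoh.pullPushAdj j).unit.app I))) := by
  exact main i j hZU I

end Groth.Agent.S0175
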