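import Groth.Statements.S0200
import Groth.Agent.Lib.Helper1.CSADescent

set_option autoImplicit false
universe u v w
open scoped TensorProduct
open Curves

namespace Groth.Agent.S0200

/-- A k-algebra is finite central simple exactly when its base change to the separable closure of k is a
matrix algebra of positive size. -/
theorem result (k : Type u) [Field k] (A : Type v) [Ring A] [Algebra k A] :
    (Algebra.IsCentral k A ∧ IsSimpleRing A ∧ FiniteDimensional k A) ↔
      Curves.Splits k A (SeparableClosure k) := by
  constructor
  · rintro ⟨h1, h2, h3⟩
    exact Groth.Agent.Lib.Helper1.CSA.splits_separableClosure k A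
  · intro h
    exact ⟨Groth.Agent.Lib.Helper1.CSA.isCentral_of_splits h,
      Groth.Agent.Lib.Helper1.CSA.isSimpleRing_of_splits h,
      Groth.Agent.Lib.Helper1.CSA.finiteDimensional_of_splits h⟩

end Groth.Agent.S0200
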