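import Groth.Statements.S0215
import Groth.Agent.Lib.Helper32.Units.Scheme
import Groth.Agent.Lib.Helper32.Units.Components

set_option autoImplicit false
universe u
open CategoryTheory CategoryTheory.Limits AlgebraicGeometry TopologicalSpace
open Curves

namespace Groth.Agent.S0215

/-- For a connected reduced scheme locally of finite type over a field k with finitely many irreducible
components, in which every global function integral over k is a constant, the group of invertible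
global functions modulo nonzero constants is finitely generated. -/
theorem result (k : Type u) [Field k] (X : Scheme.{u}) (f : X ⟶ Spec (CommRingCat.of k))
    [LocallyOfFiniteType f] [IsReduced X] [ConnectedSpace X] (hirr : (irreducibleComponents (X : Type u)).Finite)
    (hint : ∀ x : Γ(X, ⊤), (f.appTop.hom.comp (Scheme.ΓSpecIso (CommRingCat.of k)).inv.hom).IsIntegralElem x →
      x ∈ Set.range (f.appTop.hom.comp (Scheme.ΓSpecIso (CommRingCat.of k)).inv.hom)) :
    Group.FG ((Γ(X, ⊤))ˣ ⧸ (Units.map ((f.appTop.hom.comp (Scheme.ΓSpecIso (CommRingCat.of k)).inv.hom : k →+* Γ(X, ⊤)) : k →* Γ(X, ⊤))).range) := by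
  classical
  haveI : Nonempty X := ConnectedSpace.toNonempty
  haveI : Nontrivial Γ(X, ⊤) := @Scheme.component_nontrivial X ⊤ ⟨⟨Classical.arbitrary X, trivial⟩⟩
  let φ : k →+* Γ(X, ⊤) := f.appTop.hom.comp (Scheme.ΓSpecIso (CommRingCat.of k)).inv.hom
  haveI : Finite ↥(irreducibleComponents (X : Type u)) := hirr.to_subtype
  haveI : Fintype ↥(irreducibleComponents (X : Type u)) := Fintype.ofFinite _
  choose 𝒰 hAff hne hsub hirrU using fun Z : ↥(irreducibleComponents (X : Type u)) =>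
    Groth.Agent.Lib.Helper32.Units.exists_affineOpen_of_component X hirr Z.1 Z.2
  haveI : ∀ Z, IsDomain Γ(X, 𝒰 Z) := fun Z =>
    Groth.Agent.Lib.Helper32.Units.isDomain_of_isIrreducible X (𝒰 Z) (hirrU Z)
  choose J hJ ψ hψ using fun Z : ↥(irreducibleComponents (X : Type u)) =>
    Groth.Agent.Lib.Helper32.Units.exists_hom_of_affineOpen k X f (𝒰 Z) (hAff Z)
  haveI : ∀ Z, Finite (J Z) := hJ
  let res : ∀ Z : ↥(irreducibleComponents (X : Type u)), Γ(X, ⊤) →+* Γ(X, 𝒰 Z) := fun Z =>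
    (X.presheaf.map (homOfLE (le_top : 𝒰 Z ≤ ⊤)).op).hom
  have hresφ : ∀ Z, (res Z).comp φ = Groth.Agent.Lib.Helper32.Units.structHom k X f (𝒰 Z) :=
    fun Z => rfl
  let w : (Γ(X, ⊤))ˣ →* ((Σ Z : ↥(irreducibleComponents (X : Type u)), J Z) → Multiplicative ℤ) :=
    MonoidHom.pi (fun p => (Pi.evalMonoidHom _ p.2).comp
      ((ψ p.1).comp (Units.map (res p.1 : Γ(X, ⊤) →* Γ(X, 𝒰 p.1)))))
  apply Groth.Agent.Lib.Helper32.Units.fg_quotient_of_hom w
  ext u
  rw [MonoidHom.mem_ker, MonoidHom.mem_range]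
  have hw : w u = 1 ↔ ∀ Z, ψ Z (Units.map (res Z : Γ(X, ⊤) →* Γ(X, 𝒰 Z)) u) = 1 := by
    constructor
    · intro h Z
      funext j
      exact congrFun h ⟨Z, j⟩
    · intro h
      funext p
      exact congrFun (h p.1) p.2
  rw [hw]
  constructor
  · intro h
    have h' : ∀ Z, (Groth.Agent.Lib.Helper32.Units.structHom k X f (𝒰 Z)).IsIntegralElem
        (res Z (u : Γ(X, ⊤))) := fun Z => (hψ Z _).mp (h Z)
    choose P hPmonic hP using h'
    have hmonic : (∏ Z, P Z).Monic := Polynomial.monic_prod_of_monic Finset.univ P (fun Z _ => hPmonic Z)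
    have ht : Polynomial.eval₂ φ (u : Γ(X, ⊤)) (∏ Z, P Z) = 0 := by
      apply Groth.Agent.Lib.Helper32.Units.eq_zero_of_forall_res X 𝒰 hne hsub
      intro Z
      show res Z (Polynomial.eval₂ φ (u : Γ(X, ⊤)) (∏ Z, P Z)) = 0
      rw [Polynomial.hom_eval₂, hresφ, Polynomial.eval₂_finsetProd]
      exact Finset.prod_eq_zero (Finset.mem_univ Z) (hP Z)
    obtain ⟨c, hc⟩ := hint (u : Γ(X, ⊤)) ⟨_, hmonic, ht⟩
    have hc0 : c ≠ 0 := by
      intro h0
      rw [h0, map_zero] at hc
      exact u.ne_zero hc.symm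
    refine ⟨Units.mk0 c hc0, ?_⟩
    apply Units.ext
    exact hc
  · rintro ⟨c, rfl⟩ Z
    rw [hψ]
    have : ((Units.map (res Z : Γ(X, ⊤) →* Γ(X, 𝒰 Z))
        (Units.map ((f.appTop.hom.comp (Scheme.ΓSpecIso (CommRingCat.of k)).inv.hom : k →+* Γ(X, ⊤)) :
          k →* Γ(X, ⊤)) c) : (Γ(X, 𝒰 Z))ˣ) : Γ(X, 𝒰 Z)) =
        Groth.Agent.Lib.Helper32.Units.structHom k X f (𝒰 Z) (c : k) := rfl
    rw [this]
    exact Groth.Agent.Lib.Helper32.Units.isIntegralElem_map _ _

end Groth.Agent.S0215
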