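import Groth.Statements.S0218
import Mathlib.FieldTheory.Minpoly.Field
import Mathlib.RingTheory.Adjoin.Polynomial.Basic
import Mathlib.Algebra.Polynomial.Expand
import Mathlib.RingTheory.Polynomial.Basic
import Mathlib.Algebra.Polynomial.FieldDivision
import Mathlib.Algebra.Polynomial.RingDivision

set_option autoImplicit false
universe u
open Curves

set_option linter.unusedSectionVars false

namespace Groth.Agent.S0218Aux
open Polynomial

variable {k : Type u} [Field k] {A : Type u} [CommRing A] [Algebra k A]

lemma dichotomy (h : Nat.card (Subalgebra k A) = 2) :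
    (⊥ : Subalgebra k A) ≠ ⊤ ∧ ∀ S : Subalgebra k A, S = ⊥ ∨ S = ⊤ := by
  rw [Nat.card_eq_two_iff] at h
  obtain ⟨x, y, hxy, huniv⟩ := h
  have hne : (⊥ : Subalgebra k A) ≠ ⊤ := by
    intro hbt
    have hall : ∀ S : Subalgebra k A, S = ⊥ := fun S => le_antisymm (hbt ▸ le_top) bot_le
    exact hxy ((hall x).trans (hall y).symm)
  refine ⟨hne, fun S => ?_⟩
  have mem : ∀ T : Subalgebra k A, T = x ∨ T = y := by
    intro T
    have : T ∈ ({x, y} : Set (Subalgebra k A)) := by rw [huniv]; trivial
    simpa using this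
  rcases mem ⊥ with hb | hb <;> rcases mem ⊤ with ht | ht <;> rcases mem S with hS | hS
  all_goals first
    | (left; rw [hS, hb]; done)
    | (right; rw [hS, ht]; done)
    | (exfalso; exact hne (hb.trans ht.symm))


lemma not_mem_bot_iff (t : A) : t ∉ (⊥ : Subalgebra k A) ↔ ∀ c : k, algebraMap k A c ≠ t := by
  rw [Algebra.mem_bot]
  simp

lemma iso_dual [Nontrivial A] (hd : ∀ S : Subalgebra k A, S = ⊥ ∨ S = ⊤) (t : A)
    (ht : t ∉ (⊥ : Subalgebra k A)) (h0 : t * t = 0) : Nonempty (A ≃ₐ[k] DualNumber k) := by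
  let φ : DualNumber k →ₐ[k] A := DualNumber.lift ⟨(Algebra.ofId k A, t), h0, fun a => Commute.all _ _⟩
  have hφ : ∀ x : DualNumber k, φ x = algebraMap k A x.fst + algebraMap k A x.snd * t := fun x => rfl
  have hsurj : Function.Surjective φ := by
    rw [← AlgHom.range_eq_top]
    rcases hd φ.range with h | h
    · exfalso
      apply ht
      rw [← h]
      exact ⟨DualNumber.eps, by simp [φ]⟩
    · exact h
  have hinj : Function.Injective φ := by
    rw [injective_iff_map_eq_zero]
    intro x hx
    rw [hφ] at hx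
    have hy : x.snd = 0 := by
      by_contra hy
      apply ht
      rw [Algebra.mem_bot]
      refine ⟨-(x.fst / x.snd), ?_⟩
      have : algebraMap k A x.snd * (algebraMap k A (-(x.fst / x.snd)) - t) = 0 := by
        rw [mul_sub, ← map_mul]
        have : x.snd * (-(x.fst / x.snd)) = - x.fst := by field_simp
        rw [this, map_neg]
        linear_combination -hx
      have hu : IsUnit (algebraMap k A x.snd) := (IsUnit.mk0 _ hy).map _
      exact sub_eq_zero.mp ((hu.mul_right_eq_zero).mp this)
    rw [hy, map_zero, zero_mul, add_zero] at hx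
    have hx0 : x.fst = 0 := (algebraMap k A).injective (by rw [hx, map_zero])
    exact TrivSqZeroExt.ext hx0 hy
  exact ⟨(AlgEquiv.ofBijective φ ⟨hinj, hsurj⟩).symm⟩


lemma iso_prod [Nontrivial A] (hd : ∀ S : Subalgebra k A, S = ⊥ ∨ S = ⊤) (t : A)
    (ht : t ∉ (⊥ : Subalgebra k A)) (h1 : t * t = t) : Nonempty (A ≃ₐ[k] (k × k)) := by
  let L : (k × k) →ₗ[k] A :=
    (LinearMap.fst k k k).smulRight t + (LinearMap.snd k k k).smulRight (1 - t)
  have hL : ∀ x : k × k, L x = x.1 • t + x.2 • (1 - t) := fun x => rfl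
  have h2 : (1 - t) * (1 - t) = 1 - t := by linear_combination h1
  have h3 : t * (1 - t) = 0 := by linear_combination -h1
  let φ : (k × k) →ₐ[k] A := AlgHom.ofLinearMap L (by rw [hL]; simp)
    (by
      intro x y
      rw [hL, hL, hL]
      simp only [Prod.fst_mul, Prod.snd_mul, Algebra.smul_def, map_mul]
      linear_combination (-(algebraMap k A x.1 * algebraMap k A y.1)) * h1 -
        (algebraMap k A x.2 * algebraMap k A y.2) * h2 -
        (algebraMap k A x.1 * algebraMap k A y.2 + algebraMap k A x.2 * algebraMap k A y.1) * h3)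
  have hφ : ∀ x : k × k, φ x = x.1 • t + x.2 • (1 - t) := fun x => rfl
  have hsurj : Function.Surjective φ := by
    rw [← AlgHom.range_eq_top]
    rcases hd φ.range with h | h
    · exfalso
      apply ht
      rw [← h]
      refine ⟨(1, 0), ?_⟩
      show φ (1, 0) = t
      rw [hφ]; simp
    · exact h
  have hinj : Function.Injective φ := by
    rw [injective_iff_map_eq_zero]
    intro x hx
    rw [hφ, Algebra.smul_def, Algebra.smul_def] at hx
    have hxy : x.1 = x.2 := by
      by_contra hne
      have hne' : x.1 - x.2 ≠ 0 := sub_ne_zero.mpr hne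
      apply ht
      rw [Algebra.mem_bot]
      refine ⟨-(x.2 / (x.1 - x.2)), ?_⟩
      have : algebraMap k A (x.1 - x.2) * (algebraMap k A (-(x.2 / (x.1 - x.2))) - t) = 0 := by
        rw [mul_sub, ← map_mul]
        have : (x.1 - x.2) * (-(x.2 / (x.1 - x.2))) = - x.2 := by field_simp
        rw [this, map_neg, map_sub]
        linear_combination -hx
      have hu : IsUnit (algebraMap k A (x.1 - x.2)) := (IsUnit.mk0 _ hne').map _
      exact sub_eq_zero.mp ((hu.mul_right_eq_zero).mp this)
    have hx2 : algebraMap k A x.2 = 0 := by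
      rw [hxy] at hx
      linear_combination hx
    have h20 : x.2 = 0 := (algebraMap k A).injective (by rw [hx2, map_zero])
    exact Prod.ext (hxy.trans h20) h20
  exact ⟨(AlgEquiv.ofBijective φ ⟨hinj, hsurj⟩).symm⟩


lemma exists_integral_gen (hne : (⊥ : Subalgebra k A) ≠ ⊤)
    (hd : ∀ S : Subalgebra k A, S = ⊥ ∨ S = ⊤) :
    ∃ a : A, a ∉ (⊥ : Subalgebra k A) ∧ IsIntegral k a := by
  have hex : ∃ a : A, a ∉ (⊥ : Subalgebra k A) := by
    by_contra hcon
    push Not at hcon
    exact hne (le_antisymm bot_le fun x _ => hcon x)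
  obtain ⟨a, ha⟩ := hex
  refine ⟨a, ha, ?_⟩
  rcases hd (Algebra.adjoin k {a ^ 2}) with h | h
  · have h2 : a ^ 2 ∈ (⊥ : Subalgebra k A) := by
      rw [← h]; exact Algebra.subset_adjoin rfl
    rw [Algebra.mem_bot] at h2
    obtain ⟨c, hc⟩ := h2
    refine ⟨X ^ 2 - C c, monic_X_pow_sub_C c two_ne_zero, ?_⟩
    simp [hc]
  · have h2 : a ∈ Algebra.adjoin k {a ^ 2} := by rw [h]; trivial
    rw [Algebra.adjoin_singleton_eq_range_aeval] at h2
    obtain ⟨q, hq⟩ := h2
    have hq' : aeval (a ^ 2) q = a := hq
    apply IsAlgebraic.isIntegral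
    refine ⟨expand k 2 q - X, ?_, ?_⟩
    · intro h0
      have := congrArg (fun p => coeff p 1) h0
      simp [coeff_expand] at this
    · rw [map_sub, expand_aeval, hq', aeval_X, sub_self]


lemma exists_t [IsAlgClosed k] [Nontrivial A] (a : A) (ha : a ∉ (⊥ : Subalgebra k A))
    (hint : IsIntegral k a) :
    ∃ t : A, t ∉ (⊥ : Subalgebra k A) ∧ (t * t = t ∨ t * t = 0) := by
  have hinj : Function.Injective (algebraMap k A) := (algebraMap k A).injective
  set f := minpoly k a with hf
  have hf0 : f ≠ 0 := minpoly.ne_zero hint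
  have hfm : f.Monic := minpoly.monic hint
  have hfa : aeval a f = 0 := minpoly.aeval k a
  have hdeg : f.degree ≠ 0 := (minpoly.degree_pos hint).ne'
  obtain ⟨r, hr⟩ := IsAlgClosed.exists_root f hdeg
  set m := rootMultiplicity r f with hm
  have hm1 : 1 ≤ m := (rootMultiplicity_pos hf0).mpr hr
  obtain ⟨q, hfq, hq⟩ := exists_eq_pow_rootMultiplicity_mul_and_not_dvd f hf0 r
  rw [← hm] at hfq
  have hXm : ((X - C r : k[X]) ^ m).Monic := (monic_X_sub_C r).pow m
  have hqm : q.Monic := by
    have := hfm
    rw [hfq] at this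
    exact hXm.of_mul_monic_left this
  have hevalXm : eval r ((X - C r : k[X]) ^ m) = 0 := by
    rw [eval_pow, eval_sub, eval_X, eval_C, sub_self, zero_pow (by omega)]
  by_cases hq0 : q.natDegree = 0
  · -- f = (X - r)^m
    have hq1 : q = 1 := eq_one_of_monic_natDegree_zero hqm hq0
    rw [hq1, mul_one] at hfq
    have hfdeg : f.natDegree = m := by
      rw [hfq, natDegree_pow, natDegree_X_sub_C, mul_one]
    have hm2 : 2 ≤ m := by
      by_contra hlt
      have hm' : m = 1 := by omega
      rw [hfq, hm', pow_one, map_sub, aeval_X, aeval_C] at hfa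
      apply ha
      rw [Algebra.mem_bot]
      exact ⟨r, (sub_eq_zero.mp hfa).symm⟩
    refine ⟨aeval a ((X - C r : k[X]) ^ (m - 1)), ?_, Or.inr ?_⟩
    · intro hmem
      rw [Algebra.mem_bot] at hmem
      obtain ⟨c, hc⟩ := hmem
      have hsq : aeval a ((X - C r : k[X]) ^ (m - 1)) * aeval a ((X - C r : k[X]) ^ (m - 1)) = 0 := by
        rw [← map_mul, ← pow_add, show m - 1 + (m - 1) = m + (m - 2) by omega, pow_add, ← hfq,
          map_mul, hfa, zero_mul]
      have hc0 : c = 0 := by
        have : algebraMap k A (c * c) = 0 := by rw [map_mul]; rw [hc]; exact hsq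
        have := hinj (this.trans (map_zero _).symm)
        exact mul_self_eq_zero.mp this
      have h0 : aeval a ((X - C r : k[X]) ^ (m - 1)) = 0 := by
        have hc' : aeval a ((X - C r : k[X]) ^ (m - 1)) = algebraMap k A c := hc.symm
        rw [hc', hc0, map_zero]
      have hdvd := minpoly.dvd k a h0
      have hle := natDegree_le_of_dvd hdvd (pow_ne_zero _ (X_sub_C_ne_zero r))
      rw [← hf, hfdeg, natDegree_pow, natDegree_X_sub_C, mul_one] at hle
      omega
    · rw [← map_mul, ← pow_add, show m - 1 + (m - 1) = m + (m - 2) by omega, pow_add, ← hfq,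
        map_mul, hfa, zero_mul]
  · -- coprime factorisation
    have hcop : IsCoprime ((X - C r : k[X]) ^ m) q :=
      ((irreducible_X_sub_C r).coprime_iff_not_dvd.mpr hq).pow_left
    obtain ⟨u, v, huv⟩ := hcop
    have hvq_r : eval r (v * q) = 1 := by
      have := congrArg (eval r) huv
      rw [eval_add, eval_mul, hevalXm, mul_zero, zero_add, eval_one] at this
      exact this
    have hidem : aeval a (v * q) * aeval a (v * q) = aeval a (v * q) := by
      have h1 : (v * q) * (v * q) - v * q = -(u * v) * f := by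
        rw [hfq]
        linear_combination (v * q) * huv
      have := congrArg (aeval a) h1
      rw [map_sub, map_mul, map_mul (aeval a) (-(u * v)) f, hfa, mul_zero] at this
      exact sub_eq_zero.mp this
    refine ⟨aeval a (v * q), ?_, Or.inl hidem⟩
    intro hmem
    rw [Algebra.mem_bot] at hmem
    obtain ⟨c, hc⟩ := hmem
    have hc' : aeval a (v * q) = algebraMap k A c := hc.symm
    have hcc : c * c = c := by
      apply hinj
      rw [map_mul, ← hc']; exact hidem
    have hc01 : c = 0 ∨ c = 1 := by
      have : c * (c - 1) = 0 := by rw [mul_sub, hcc, mul_one, sub_self]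
      rcases mul_eq_zero.mp this with h | h
      · exact Or.inl h
      · exact Or.inr (sub_eq_zero.mp h)
    rcases hc01 with h0 | h1
    · rw [h0, map_zero] at hc'
      have hdvd := minpoly.dvd k a hc'
      rw [← hf, hfq] at hdvd
      have hX : (X - C r : k[X]) ∣ v * q :=
        (dvd_pow_self _ (by omega)).trans ((dvd_mul_right _ _).trans hdvd)
      rw [dvd_iff_isRoot, IsRoot.def, hvq_r] at hX
      exact one_ne_zero hX
    · rw [h1, map_one] at hc'
      have h2 : aeval a (u * (X - C r : k[X]) ^ m) = 0 := by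
        have := congrArg (aeval a) huv
        rw [map_add, hc', map_one] at this
        exact add_eq_right.mp this
      have hdvd := minpoly.dvd k a h2
      rw [← hf, hfq] at hdvd
      have hqdvd : q ∣ u * (X - C r : k[X]) ^ m := (dvd_mul_left _ _).trans hdvd
      have hcop' : IsCoprime q ((X - C r : k[X]) ^ m) :=
        (((irreducible_X_sub_C r).coprime_iff_not_dvd.mpr hq).pow_left).symm
      have hqu : q ∣ u := hcop'.dvd_of_dvd_mul_right hqdvd
      have hq1 : q ∣ 1 := by
        rw [← huv]
        exact dvd_add (hqu.mul_right _) (dvd_mul_left _ _)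
      have := natDegree_eq_zero_of_isUnit (isUnit_of_dvd_one hq1)
      exact hq0 this

end Groth.Agent.S0218Aux

namespace Groth.Agent.S0218

/-- Over an algebraically closed field k, a commutative k-algebra with exactly two k-subalgebras is
isomorphic to k × k or to the dual numbers over k. -/
theorem result (k : Type u) [Field k] [IsAlgClosed k] (A : Type u) [CommRing A] [Algebra k A]
    (h : Nat.card (Subalgebra k A) = 2) :
    Nonempty (A ≃ₐ[k] (k × k)) ∨ Nonempty (A ≃ₐ[k] DualNumber k) := by
  obtain ⟨hne, hd⟩ := Groth.Agent.S0218Aux.dichotomy h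
  have : Nontrivial A := by
    by_contra hnt
    rw [not_nontrivial_iff_subsingleton] at hnt
    apply hne
    apply le_antisymm bot_le
    intro x _
    rw [Subsingleton.elim x 0]
    exact Subalgebra.zero_mem _
  obtain ⟨a, ha, hint⟩ := Groth.Agent.S0218Aux.exists_integral_gen hne hd
  obtain ⟨t, ht, ht2⟩ := Groth.Agent.S0218Aux.exists_t a ha hint
  rcases ht2 with h1 | h0
  · exact Or.inl (Groth.Agent.S0218Aux.iso_prod hd t ht h1)
  · exact Or.inr (Groth.Agent.S0218Aux.iso_dual hd t ht h0)

end Groth.Agent.S0218
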