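import Groth.Statements.S0219
-- import your own Groth.Agent.* helpers here
import Groth.Agent.Lib.Helper19.KrullDimLift
import Mathlib.AlgebraicGeometry.ZariskisMainTheorem
import Mathlib.AlgebraicGeometry.Morphisms.QuasiFinite
import Mathlib.AlgebraicGeometry.Morphisms.Proper
import Mathlib.AlgebraicGeometry.Noetherian
import Mathlib.Topology.NoetherianSpace
import Mathlib.Tactic

set_option autoImplicit false
universe u
open CategoryTheory CategoryTheory.Limits AlgebraicGeometry TopologicalSpace
open Curves

namespace Groth.Agent.S0219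

attribute [local instance] specializationOrder in
/-- In a sober T0 space of dimension at most one there is no chain of three distinct points. -/
theorem no_three_chain {Y : Type*} [TopologicalSpace Y] [QuasiSober Y] [T0Space Y]
    (hY : topologicalKrullDim Y ≤ 1) {a b c : Y} (hab : a ⤳ b) (hbc : b ⤳ c) (h1 : a ≠ b)
    (h2 : b ≠ c) : False := by
  rw [Groth.Agent.Lib.Helper19.topologicalKrullDim_eq_krullDim_points,
    Order.krullDim_le_one_iff] at hY
  have hba : b < a := lt_of_le_of_ne hab (Ne.symm h1)
  have hcb : c < b := lt_of_le_of_ne hbc (Ne.symm h2)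
  rcases hY b with h | h
  · exact (h.not_lt hcb)
  · exact (h.not_lt hba)

attribute [local instance] specializationOrder in
/-- A sober T0 space with two distinct points, one specializing to the other, has dimension at
least one. -/
theorem one_le_dim {Z : Type*} [TopologicalSpace Z] [QuasiSober Z] [T0Space Z] {a b : Z}
    (hab : a ⤳ b) (hne : a ≠ b) : 1 ≤ topologicalKrullDim Z := by
  rw [Groth.Agent.Lib.Helper19.topologicalKrullDim_eq_krullDim_points, Order.one_le_krullDim_iff]
  exact ⟨b, a, lt_of_le_of_ne hab (Ne.symm hne)⟩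

/-- Topological core: finiteness of the fibres. -/
theorem finite_fibre {X Y : Type*} [TopologicalSpace X] [TopologicalSpace Y] [NoetherianSpace X]
    [QuasiSober X] [T0Space X] (hdim : topologicalKrullDim X ≤ 1) (f : X → Y)
    (hfc : Continuous f) (hcl : IsClosedMap f)
    (h : ∀ Z ∈ irreducibleComponents X, topologicalKrullDim Z = 1 → (f '' Z).Nontrivial) (y : Y) :
    (f ⁻¹' {y}).Finite := by
  by_contra hinf
  have hinf' : (f ⁻¹' {y}).Infinite := hinf
  -- some irreducible component meets the fibre in an infinite set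
  have hcomp : ∃ Z ∈ irreducibleComponents X, (f ⁻¹' {y} ∩ Z).Infinite := by
    by_contra hcon
    push Not at hcon
    apply hinf
    have hfin : (⋃ Z ∈ irreducibleComponents X, f ⁻¹' {y} ∩ Z).Finite :=
      NoetherianSpace.finite_irreducibleComponents.biUnion
        (fun Z hZ => hcon Z hZ)
    refine hfin.subset ?_
    intro x hx
    have hxu : x ∈ ⋃₀ irreducibleComponents X := by
      rw [sUnion_irreducibleComponents]
      trivial
    obtain ⟨Z, hZ, hxZ⟩ := hxu
    exact Set.mem_biUnion hZ ⟨hx, hxZ⟩
  obtain ⟨Z, hZ, hZinf⟩ := hcomp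
  have hZcl : IsClosed Z := isClosed_of_mem_irreducibleComponents Z hZ
  have hZirr : IsIrreducible Z := hZ.1
  obtain ⟨ζ, hζ⟩ := QuasiSober.sober hZirr hZcl
  have hζZ : closure {ζ} = Z := hζ
  -- points of `Z` other than the generic point are closed
  have hclosedpt : ∀ z ∈ Z, z ≠ ζ → IsClosed ({z} : Set X) := by
    intro z hz hne
    rw [← closure_eq_iff_isClosed]
    apply Set.Subset.antisymm _ subset_closure
    intro w hw
    by_contra hwz
    have h1 : ζ ⤳ z := specializes_iff_mem_closure.2 (hζZ ▸ hz)
    have h2 : z ⤳ w := specializes_iff_mem_closure.2 hw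
    exact no_three_chain hdim h1 h2 (Ne.symm hne) (fun e => hwz (e ▸ rfl))
  -- the point `y` is closed
  obtain ⟨z, hzFZ, hzne⟩ : ∃ z ∈ f ⁻¹' {y} ∩ Z, z ≠ ζ := by
    by_contra hcon
    push Not at hcon
    exact hZinf ((Set.finite_singleton ζ).subset fun z hz => hcon z hz)
  have hycl : IsClosed ({y} : Set Y) := by
    have := hcl _ (hclosedpt z hzFZ.2 hzne)
    rwa [Set.image_singleton, hzFZ.1] at this
  -- the generic point of `Z` lies in the fibre
  have hWcl : IsClosed (f ⁻¹' {y} ∩ Z) := by
    exact IsClosed.inter (hycl.preimage hfc) hZcl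
  have hζW : ζ ∈ f ⁻¹' {y} ∩ Z := by
    by_contra hζW
    apply hZinf
    obtain ⟨S, hSf, hSc, hSi, hSU⟩ :=
      NoetherianSpace.exists_finite_set_isClosed_irreducible hWcl
    -- every irreducible piece is a closed point
    have hpiece : ∀ t ∈ S, t.Subsingleton := by
      intro t ht
      obtain ⟨w, hw⟩ := QuasiSober.sober (hSi t ht) (hSc t ht)
      have hwt : closure {w} = t := hw
      have hwW : w ∈ f ⁻¹' {y} ∩ Z := by
        rw [hSU]
        exact ⟨t, ht, hwt ▸ subset_closure rfl⟩
      have hwne : w ≠ ζ := fun e => hζW (e ▸ hwW)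
      have := (hclosedpt w hwW.2 hwne).closure_eq
      rw [← hwt, this]
      exact Set.subsingleton_singleton
    rw [hSU]
    exact hSf.sUnion (fun t ht => (hpiece t ht).finite)
  have hZsub : f '' Z ⊆ {y} := by
    rintro _ ⟨x, hx, rfl⟩
    have hxW : x ∈ closure ({ζ} : Set X) := hζZ ▸ hx
    have : closure ({ζ} : Set X) ⊆ f ⁻¹' {y} ∩ Z :=
      hWcl.closure_subset_iff.2 (Set.singleton_subset_iff.2 hζW)
    exact (this hxW).1
  -- `Z` has dimension one
  have hZdim : topologicalKrullDim Z = 1 := by
    apply le_antisymm ((topologicalKrullDim_subspace_le X Z).trans hdim)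
    haveI : QuasiSober Z := hZcl.isClosedEmbedding_subtypeVal.quasiSober
    have hζz : ζ ∈ Z := hζZ ▸ subset_closure rfl
    have hzZ : z ∈ Z := hzFZ.2
    refine one_le_dim (a := (⟨ζ, hζz⟩ : Z)) (b := (⟨z, hzZ⟩ : Z)) ?_ ?_
    · rw [subtype_specializes_iff]
      exact specializes_iff_mem_closure.2 (hζZ ▸ hzZ)
    · intro e
      exact hzne (congrArg Subtype.val e).symm
  exact (h Z hZ hZdim).not_subset_singleton hZsub

/-- A morphism over a field from a proper scheme of dimension at most one to a separated scheme, which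
does not contract any one-dimensional irreducible component to a point, is finite. -/
theorem result (k : Type u) [Field k] (X Y : Scheme.{u}) (p : X ⟶ Spec (CommRingCat.of k)) (q : Y ⟶ Spec (CommRingCat.of k))
    [IsProper p] [IsSeparated q] (f : X ⟶ Y) (hf : f ≫ q = p) (hdim : topologicalKrullDim X ≤ 1)
    (h : ∀ Z ∈ irreducibleComponents (X : Type u), topologicalKrullDim Z = 1 → (f.base '' Z).Nontrivial) :
    IsFinite f := by
  haveI : IsProper (f ≫ q) := hf ▸ inferInstance
  haveI : IsProper f := IsProper.of_comp f q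
  haveI : IsLocallyNoetherian X := LocallyOfFiniteType.isLocallyNoetherian p
  haveI : CompactSpace X := HasAffineProperty.iff_of_isAffine.mp (inferInstance : QuasiCompact p)
  haveI : IsNoetherian X := {}
  haveI : LocallyQuasiFinite f := LocallyQuasiFinite.of_finite_preimage_singleton f
    (fun y => finite_fibre hdim f.base f.continuous f.isClosedMap h y)
  exact IsFinite.of_isProper_of_locallyQuasiFinite f

end Groth.Agent.S0219
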