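import Groth.Statements.S0220
-- import your own Groth.Agent.* helpers here
import Groth.Agent.Lib.Helper19.KrullDimLift
import Mathlib.AlgebraicGeometry.Morphisms.Flat
import Mathlib.AlgebraicGeometry.FunctionField
import Mathlib.AlgebraicGeometry.Noetherian
import Mathlib.AlgebraicGeometry.Stalk
import Mathlib.RingTheory.Flat.TorsionFree
import Mathlib.RingTheory.DiscreteValuationRing.TFAE
import Mathlib.RingTheory.KrullDimension.Basic
import Mathlib.Tactic

set_option autoImplicit false
universe u
open CategoryTheory CategoryTheory.Limits AlgebraicGeometry TopologicalSpace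
open Curves

namespace Groth.Agent.S0220

/-- The dimension of a stalk is at most the dimension of the scheme. -/
theorem ringKrullDim_stalk_le (Y : Scheme.{u}) (y : Y) :
    ringKrullDim (Y.presheaf.stalk y) ≤ topologicalKrullDim Y := by
  rw [← PrimeSpectrum.topologicalKrullDim_eq_ringKrullDim]
  exact Groth.Agent.Lib.Helper19.topologicalKrullDim_le_of_strict
    (X := PrimeSpectrum (Y.presheaf.stalk y)) (Y.fromSpecStalk y).base
    (Y.fromSpecStalk y).continuous
    (fun a b _ hab => (Y.fromSpecStalk y).isEmbedding.injective hab)

attribute [local instance] specializationOrder in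
/-- In a sober T0 space of dimension at most one there is no chain of three distinct points. -/
theorem no_three_chain {Y : Type*} [TopologicalSpace Y] [QuasiSober Y] [T0Space Y]
    (hY : topologicalKrullDim Y ≤ 1) {a b c : Y} (hab : a ⤳ b) (hbc : b ⤳ c) (h1 : a ≠ b)
    (h2 : b ≠ c) : False := by
  rw [Groth.Agent.Lib.Helper19.topologicalKrullDim_eq_krullDim_points,
    Order.krullDim_le_one_iff] at hY
  have hba : b < a := lt_of_le_of_ne hab (Ne.symm h1)
  have hcb : c < b := lt_of_le_of_ne hbc (Ne.symm h2)
  rcases hY b with h | h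
  · exact (h.not_lt hcb)
  · exact (h.not_lt hba)

theorem main (k : Type u) [Field k] (X Y : Scheme.{u}) (p : X ⟶ Spec (CommRingCat.of k)) (q : Y ⟶ Spec (CommRingCat.of k))
    [IsIntegral X] [IsIntegral Y] [LocallyOfFiniteType q]
    (hY : topologicalKrullDim Y = 1)
    (hN : ∀ y : Y, IsDomain (Y.presheaf.stalk y) ∧ IsIntegrallyClosed (Y.presheaf.stalk y))
    (f : X ⟶ Y) (hnc : (Set.range f.base).Nontrivial) :
    Flat f := by
  haveI : IsLocallyNoetherian Y := LocallyOfFiniteType.isLocallyNoetherian q
  have hYle : topologicalKrullDim Y ≤ 1 := hY.le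
  -- the generic point goes to the generic point
  have hη : f.base (genericPoint X) = genericPoint Y := by
    by_contra hne
    have hrange : ∀ x : X, f.base x = f.base (genericPoint X) := by
      intro x
      by_contra hx
      have h1 : genericPoint Y ⤳ f.base (genericPoint X) :=
        (genericPoint_spec Y).specializes trivial
      have h2 : f.base (genericPoint X) ⤳ f.base x :=
        ((genericPoint_spec X).specializes trivial).map f.continuous
      exact no_three_chain hYle h1 h2 (Ne.symm hne) (Ne.symm hx)
    obtain ⟨a, ⟨x₁, rfl⟩, b, ⟨x₂, rfl⟩, hab⟩ := hnc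
    exact hab ((hrange x₁).trans (hrange x₂).symm)
  apply Flat.of_stalkMap
  intro x
  have hs : genericPoint X ⤳ x := (genericPoint_spec X).specializes trivial
  have hfield : IsField (Y.presheaf.stalk (f.base (genericPoint X))) :=
    hη ▸ (Field.toIsField Y.functionField)
  -- injectivity of the stalk map
  have hinj : Function.Injective (f.stalkMap x).hom := by
    rw [injective_iff_map_eq_zero]
    intro a ha
    have key := f.stalkSpecializes_stalkMap_apply (genericPoint X) x hs a
    have ha' : f.stalkMap x a = 0 := ha
    rw [ha', map_zero] at key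
    set S := Y.presheaf.stalkSpecializes (f.base.hom.map_specializes hs) a with hS
    have hS0 : S = 0 := by
      by_contra hne
      obtain ⟨t, ht⟩ := hfield.mul_inv_cancel hne
      have := congrArg (f.stalkMap (genericPoint X)) ht
      rw [map_mul, key, zero_mul, map_one] at this
      exact zero_ne_one this
    have hcomp : algebraMap (Y.presheaf.stalk (f.base x)) Y.functionField a =
        Y.presheaf.stalkSpecializes ((genericPoint_spec Y).specializes trivial) S := by
      rw [hS, ← ConcreteCategory.comp_apply, TopCat.Presheaf.stalkSpecializes_comp]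
      rfl
    rw [hS0, map_zero] at hcomp
    exact (IsFractionRing.injective (Y.presheaf.stalk (f.base x)) Y.functionField)
      (hcomp.trans (map_zero _).symm)
  -- the local ring of `Y` is a principal ideal domain
  haveI : IsDomain (Y.presheaf.stalk (f.base x)) := (hN _).1
  haveI : IsIntegrallyClosed (Y.presheaf.stalk (f.base x)) := (hN _).2
  haveI hdim : Ring.KrullDimLE 1 (Y.presheaf.stalk (f.base x)) :=
    Ring.krullDimLE_iff.2 ((ringKrullDim_stalk_le Y _).trans (by rw [hY]; rfl))
  have h4 : IsIntegrallyClosed (Y.presheaf.stalk (f.base x)) ∧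
      ∀ P : Ideal (Y.presheaf.stalk (f.base x)), P ≠ ⊥ → P.IsPrime →
        P = IsLocalRing.maximalIdeal (Y.presheaf.stalk (f.base x)) :=
    ⟨inferInstance, fun P hP hP' => IsLocalRing.eq_maximalIdeal (hP'.isMaximal_of_ne_bot hP)⟩
  haveI hPID : IsPrincipalIdealRing (Y.presheaf.stalk (f.base x)) :=
    ((tfae_of_isNoetherianRing_of_isLocalRing_of_isDomain (Y.presheaf.stalk (f.base x))).out 3 0).1
      h4
  -- torsion-free implies flat
  letI := (f.stalkMap x).hom.toAlgebra
  show Module.Flat (Y.presheaf.stalk (f.base x)) (X.presheaf.stalk x)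
  rw [Module.Flat.flat_iff_torsion_eq_bot_of_isBezout, eq_bot_iff]
  rintro m ⟨⟨r, hr⟩, hrm⟩
  have hr0 : r ≠ 0 := nonZeroDivisors.ne_zero hr
  have h1 : (f.stalkMap x).hom r * m = 0 := hrm
  rcases mul_eq_zero.1 h1 with h | h
  · exact absurd (hinj (h.trans (map_zero _).symm)) hr0
  · exact h

/-- A nonconstant morphism between curves over a field (integral, separated, finite type, dimension one)
whose target has integrally closed local domains is flat. -/
theorem result (k : Type u) [Field k] (X Y : Scheme.{u}) (p : X ⟶ Spec (CommRingCat.of k)) (q : Y ⟶ Spec (CommRingCat.of k))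
    [IsIntegral X] [IsIntegral Y] [IsSeparated p] [IsSeparated q] [LocallyOfFiniteType p] [LocallyOfFiniteType q]
    [QuasiCompact p] [QuasiCompact q] (hX : topologicalKrullDim X = 1) (hY : topologicalKrullDim Y = 1)
    (hN : ∀ y : Y, IsDomain (Y.presheaf.stalk y) ∧ IsIntegrallyClosed (Y.presheaf.stalk y))
    (f : X ⟶ Y) (hf : f ≫ q = p) (hnc : (Set.range f.base).Nontrivial) :
    Flat f := by
  exact main k X Y p q hY hN f hnc

end Groth.Agent.S0220
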