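import Groth.Statements.S0232
import Groth.Agent.Lib.Lead.PicDesc
import Groth.Agent.Lib.Helper51.H0Const

set_option autoImplicit false
universe u
open CategoryTheory CategoryTheory.Limits AlgebraicGeometry
open Curves

namespace Groth.Agent.S0232

theorem nonempty_iso_of_cl_eq {Y : Scheme.{u}} {L L' : Y.Modules} (h : PicF.cl L = PicF.cl L') :
    Nonempty (L ≅ L') := by
  have h1 := Quot.eqvGen_exact h
  have heq : Equivalence (fun L L' : Y.Modules => Nonempty (L ≅ L')) :=
    ⟨fun L => ⟨Iso.refl L⟩, fun ⟨e⟩ => ⟨e.symm⟩, fun ⟨e⟩ ⟨e'⟩ => ⟨e ≪≫ e'⟩⟩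
  exact (heq.eqvGen_iff).mp h1

/-- For a quasi-compact quasi-separated scheme X over a field k with finite-dimensional H^0(X, O_X), an
invertible module on X that becomes trivial after base change to a field extension k' is already
trivial (injectivity of Pic(X) → Pic(X_{k'}), stated on classes without a group structure). The base
change is given as any pullback square. -/
theorem result (k : Type u) [Field k] (X : Scheme.{u}) [X.Over (Spec (CommRingCat.of k))]
    [CompactSpace X] [QuasiSeparatedSpace X]
    (hfin : Module.Finite k (Coh.HH X (Coh.structureModule X) 0))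
    (k' : Type u) [Field k'] [Algebra k k'] (X' : Scheme.{u}) (g : X' ⟶ X) (q : X' ⟶ Spec (CommRingCat.of k'))
    (hpb : IsPullback g q (X ↘ Spec (CommRingCat.of k)) (Spec.map (CommRingCat.ofHom (algebraMap k k'))))
    (L : X.Modules) (hL : PicF.IsInvertible L) (htriv : PicF.IsTrivialCl (PicF.pullCl g (PicF.cl L))) :
    PicF.IsTrivialCl (PicF.cl L) := by
  obtain ⟨φ⟩ := nonempty_iso_of_cl_eq (show PicF.cl ((Scheme.Modules.pullback g).obj L) =
    PicF.cl (Coh.structureModule X') from htriv)
  haveI : QuasiCompact (X ↘ Spec (CommRingCat.of k)) :=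
    (HasAffineProperty.iff_of_isAffine (P := @QuasiCompact)).mpr ‹CompactSpace X›
  haveI : QuasiSeparated (X ↘ Spec (CommRingCat.of k)) :=
    (HasAffineProperty.iff_of_isAffine (P := @QuasiSeparated)).mpr ‹QuasiSeparatedSpace X›
  haveI : Flat (Spec.map (CommRingCat.ofHom (algebraMap k k'))) := by
    rw [HasRingHomProperty.Spec_iff (P := @Flat)]
    change (algebraMap k k').Flat
    rw [RingHom.flat_algebraMap_iff]
    infer_instance
  haveI : Surjective (Spec.map (CommRingCat.ofHom (algebraMap k k'))) := by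
    rw [AlgebraicGeometry.surjective_iff]
    intro y
    haveI : Nonempty (Spec (CommRingCat.of k')) := inferInstanceAs (Nonempty (PrimeSpectrum k'))
    haveI : Subsingleton (Spec (CommRingCat.of k)) := inferInstanceAs (Subsingleton (PrimeSpectrum k))
    exact ⟨Classical.arbitrary _, Subsingleton.elim _ _⟩
  -- `Γ(X, O_X)` is a finite `k`-algebra
  let ρ : k →+* Γ(X, ⊤) := Coh.toGlobal (X ↘ Spec (CommRingCat.of k))
  letI : Algebra k Γ(X, ⊤) := ρ.toAlgebra
  have hfin' : Module.Finite k Γ(X, ⊤) := by
    let e : Coh.HH X (Coh.structureModule X) 0 ≃ₗ[k] Γ(X, ⊤) :=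
      { Groth.Agent.Lib.Helper51.h0Equiv X with
        map_smul' := fun c x => by
          exact Groth.Agent.Lib.Helper51.h0Equiv_smul X
            (Coh.toGlobal (X ↘ Spec (CommRingCat.of k)) c) x }
    exact Module.Finite.equiv e
  haveI : IsArtinianRing Γ(X, ⊤) := IsArtinianRing.of_finite k _
  obtain ⟨ψ⟩ := Groth.Agent.Lib.Lead.PicDesc.nonempty_iso_of_pullback_trivial hpb L hL φ
  exact Quot.sound ⟨ψ⟩

end Groth.Agent.S0232
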