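import Groth.Statements.S4436
import Groth.Agent.Lib.Helper2.RankSections

set_option autoImplicit false
universe u
open CategoryTheory CategoryTheory.Limits AlgebraicGeometry
open EGA2

namespace Groth.Agent.S4436

open Groth.Agent.Lib.Helper2.RankSections Groth.Agent.Lib.Helper2.LocFreeAff
  Groth.Agent.Lib.Helper2.FreeModAff Groth.Agent.Lib.Helper2.FinLocFreeAff
  Groth.Agent.Lib.Lead Groth.Agent.Lib.Helper21.RelFPSch

section
variable {X : Scheme.{u}}

/-- if the localisation of sections at `b` has a basis of size `r`, then `F` is free of rank `r`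
on `D(b)` -/
theorem iso_freeMod_basicOpen_of_basis (F : X.Modules) [F.IsQuasicoherent] {U : X.Opens}
    (hU : IsAffineOpen U) [Module.Finite Γ(X, U) Γ(F, U)] (b : Γ(X, U)) (r : ℕ)
    (bs : Module.Basis (Fin r) (Localization.Away b) (LocalizedModule.Away b Γ(F, U))) :
    Nonempty (F.restrict (X.basicOpen b).ι ≅ FlatMod.freeMod (X.basicOpen b) r) := by
  letI : Module Γ(X, U) Γ(F, X.basicOpen b) :=
    Module.compHom _ (resRing X (X.basicOpen_le b))
  haveI : IsScalarTower Γ(X, U) Γ(X, X.basicOpen b) Γ(F, X.basicOpen b) :=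
    IsScalarTower.of_algebraMap_smul fun _ _ => rfl
  haveI := hU.isLocalization_basicOpen b
  haveI := isLocalizedModule_resL F hU b
  rw [nonempty_iso_freeMod_iff F (hU.basicOpen b)]
  have hfree_r : Module.Free (Localization.Away b) (LocalizedModule.Away b Γ(F, U)) :=
    Module.Free.of_basis bs
  have hfree' : Module.Free Γ(X, X.basicOpen b) Γ(F, X.basicOpen b) :=
    (free_away_iff b Γ(X, X.basicOpen b) Γ(F, X.basicOpen b)
      (resL F (X.basicOpen_le b))).1 hfree_r
  haveI : Module.Finite (Localization.Away b) (LocalizedModule.Away b Γ(F, U)) :=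
    Module.Finite.of_basis bs
  have hfin : Module.Finite Γ(X, X.basicOpen b) Γ(F, X.basicOpen b) :=
    Module.Finite.of_isLocalizedModule (Submonoid.powers b) (Rₚ := Γ(X, X.basicOpen b))
      (resL F (X.basicOpen_le b))
  by_cases hnt : Nontrivial Γ(X, X.basicOpen b)
  · haveI : Nontrivial (Localization.Away b) :=
      (IsLocalization.algEquiv (Submonoid.powers b) (Localization.Away b)
        Γ(X, X.basicOpen b)).toRingEquiv.symm.injective.nontrivial
    have hrank' : Module.finrank Γ(X, X.basicOpen b) Γ(F, X.basicOpen b) = r := by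
      rw [← finrank_away_eq b Γ(X, X.basicOpen b) Γ(F, X.basicOpen b)
        (resL F (X.basicOpen_le b)), Module.finrank_eq_card_basis bs, Fintype.card_fin]
    exact ⟨(Module.finBasisOfFinrankEq Γ(X, X.basicOpen b) Γ(F, X.basicOpen b) hrank').equivFun⟩
  · rw [not_nontrivial_iff_subsingleton] at hnt
    haveI : Subsingleton Γ(F, X.basicOpen b) := Module.subsingleton Γ(X, X.basicOpen b) _
    exact ⟨LinearEquiv.ofSubsingleton _ _⟩

end


/-- Let f : X' ⟶ X be a finite morphism and F' a locally free O_{X'}-module of rank r. Then every point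
of X has an open neighbourhood U over whose inverse image F' is free of rank r; this is the content
of the statement that the direct image of F' is a locally free module of rank r over the direct
image of O_{X'} (the converse implication being immediate). -/
theorem result {X' X : Scheme.{u}} (f : X' ⟶ X) [IsFinite f] (r : ℕ)
    (F : X'.Modules) (hF : FlatMod.IsFinLocFreeOfRank r F) (x : X) :
    ∃ U : X.Opens, x ∈ U ∧ Nonempty (F.restrict (f ⁻¹ᵁ U).ι ≅ FlatMod.freeMod (↑(f ⁻¹ᵁ U)) r) := by
  haveI : F.IsQuasicoherent := isQuasicoherent_of_isFinLocFree F (isFinLocFree_of_rank hF)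
  obtain ⟨V, hV, hxV, -⟩ := exists_isAffineOpen_mem_and_subset (U := (⊤ : X.Opens)) (x := x) trivial
  have hU' : IsAffineOpen (f ⁻¹ᵁ V) := hV.preimage f
  letI : Algebra Γ(X, V) Γ(X', f ⁻¹ᵁ V) := (f.app V).hom.toAlgebra
  haveI : Module.Finite Γ(X, V) Γ(X', f ⁻¹ᵁ V) := IsFinite.finite_app f V hV
  haveI := finitePresentation_sections_of_isFinLocFree F (isFinLocFree_of_rank hF) hU'
  haveI := projective_sections_of_isFinLocFree F (isFinLocFree_of_rank hF) hU'
  obtain ⟨a, ha, ⟨b⟩⟩ := exists_basis_away_of_finite (A := Γ(X, V)) (B := Γ(X', f ⁻¹ᵁ V))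
    (M := Γ(F, f ⁻¹ᵁ V)) r (fun q => rankAtStalk_sections_eq F r hF hU' q)
    (hV.primeIdealOf ⟨x, hxV⟩).asIdeal
  refine ⟨X.basicOpen a, (QCohAff.mem_basicOpen_iff_notMem_primeIdealOf hV x hxV a).2 ha, ?_⟩
  have hpre : f ⁻¹ᵁ X.basicOpen a = X'.basicOpen (f.app V a) := Scheme.preimage_basicOpen f a
  rw [hpre]
  exact iso_freeMod_basicOpen_of_basis F hU' _ r b

end Groth.Agent.S4436
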