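import Groth.Statements.S0235
import Groth.Agent.S4436

set_option autoImplicit false
universe u
open CategoryTheory CategoryTheory.Limits AlgebraicGeometry
open Curves

namespace Groth.Agent.S0235

/-- the free module of rank one is the structure module -/
noncomputable def freeModOneIso (X : Scheme.{u}) : FlatMod.freeMod X 1 ≅ Coh.structureModule X :=
  coproductUniqueIso (fun _ : Fin 1 => Coh.structureModule X)


/-- For a finite morphism π : X → Y and an invertible module L on X, every point y of Y has an open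
neighbourhood V such that L is trivial on the preimage of V. -/
theorem result {X Y : Scheme.{u}} (π : X ⟶ Y) [IsFinite π]
    (L : X.Modules) (hL : PicF.IsInvertible L) (y : Y) :
    ∃ V : Y.Opens, y ∈ V ∧ Nonempty (L.restrict (π ⁻¹ᵁ V).ι ≅ Coh.structureModule (↑(π ⁻¹ᵁ V))) := by
  have hF : FlatMod.IsFinLocFreeOfRank 1 L := by
    intro x
    obtain ⟨U, hxU, ⟨e⟩⟩ := hL x
    exact ⟨U, hxU, ⟨e ≪≫ (freeModOneIso _).symm⟩⟩
  obtain ⟨V, hyV, ⟨e⟩⟩ := Groth.Agent.S4436.result π 1 L hF y
  exact ⟨V, hyV, ⟨e ≪≫ freeModOneIso _⟩⟩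

end Groth.Agent.S0235
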