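import Groth.Statements.S1302
import Groth.Agent.Lib.Helper6.ThickIsAffine
import Groth.Agent.Lib.Helper6.Thickening

set_option autoImplicit false
universe u
open FlatMor

namespace Groth.Agent.S1302

open AlgebraicGeometry CategoryTheory Limits in
/-- For a morphism of thickenings, that is a commutative square whose horizontal maps are thickenings
(closed immersions that are surjective on points), the morphism between the thin schemes is affine
if and only if the morphism between the thick ones is. -/
theorem result {X X' S S' : Scheme.{u}} (iX : X ⟶ X') (iS : S ⟶ S') (f : X ⟶ S) (f' : X' ⟶ S')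
    (hX : MoreMor.IsThickening iX) (hS : MoreMor.IsThickening iS) (w : iX ≫ f' = f ≫ iS) :
    IsAffineHom f ↔ IsAffineHom f' := by
  open Groth.Agent.Lib.Helper6 in
  have := hX.1
  have := hS.1
  constructor
  · intro hf
    refine ⟨fun V' hV' => ?_⟩
    apply ThickIsAffine.isAffineOpen_of_thickening iX hX.2.surj
    have h1 : IsAffineOpen (f ⁻¹ᵁ (iS ⁻¹ᵁ V')) := (hV'.preimage iS).preimage f
    have h2 : iX ⁻¹ᵁ (f' ⁻¹ᵁ V') = f ⁻¹ᵁ (iS ⁻¹ᵁ V') := by
      rw [← Scheme.Hom.comp_preimage, ← Scheme.Hom.comp_preimage, w]
    rw [h2]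
    exact h1
  · intro hf'
    have : IsAffineHom (f ≫ iS) := by rw [← w]; infer_instance
    exact Thick.of_comp_mono @IsAffineHom f iS this

end Groth.Agent.S1302
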