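import Groth.Statements.S0238
import Groth.Agent.S0117
import Groth.Agent.S1305
import Groth.Agent.Lib.Helper57.EtLift

set_option autoImplicit false
universe u
open Pi1

namespace Groth.Agent.S0238

open AlgebraicGeometry CategoryTheory CategoryTheory.Limits

theorem forget_map_restrict {X X' : Scheme.{u}} (i : X ⟶ X') {A B : FEt.Cat X'} (g : A ⟶ B) :
    (MorphismProperty.Over.forget FEt.prop ⊤ X).map ((FEt.restrict i).map g) =
      (Over.pullback i).map ((MorphismProperty.Over.forget FEt.prop ⊤ X').map g) := rfl

theorem faithful_restrict {X X' : Scheme.{u}} (i : X ⟶ X') [IsClosedImmersion i] [Surjective i] :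
    (FEt.restrict i).Faithful := by
  constructor
  intro A B g₁ g₂ h
  apply (MorphismProperty.Over.forget FEt.prop ⊤ X').map_injective
  have hB : AlgebraicGeometry.Etale ((MorphismProperty.Over.forget FEt.prop ⊤ X').obj B).hom :=
    B.prop.2
  apply (Groth.Agent.S0117.result i ((MorphismProperty.Over.forget FEt.prop ⊤ X').obj B)
    ((MorphismProperty.Over.forget FEt.prop ⊤ X').obj A)).1
  show (Over.pullback i).map ((MorphismProperty.Over.forget FEt.prop ⊤ X').map g₁) =
    (Over.pullback i).map ((MorphismProperty.Over.forget FEt.prop ⊤ X').map g₂)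
  rw [← forget_map_restrict, ← forget_map_restrict, h]

theorem full_restrict {X X' : Scheme.{u}} (i : X ⟶ X') [IsClosedImmersion i] [Surjective i] :
    (FEt.restrict i).Full := by
  constructor
  intro A B h
  have hB : AlgebraicGeometry.Etale ((MorphismProperty.Over.forget FEt.prop ⊤ X').obj B).hom :=
    B.prop.2
  obtain ⟨φ, hφ⟩ := (Groth.Agent.S0117.result i
    ((MorphismProperty.Over.forget FEt.prop ⊤ X').obj B)
    ((MorphismProperty.Over.forget FEt.prop ⊤ X').obj A)).2
      ((MorphismProperty.Over.forget FEt.prop ⊤ X).map h)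
  refine ⟨(MorphismProperty.Over.forget FEt.prop ⊤ X').preimage φ, ?_⟩
  apply (MorphismProperty.Over.forget FEt.prop ⊤ X).map_injective
  rw [forget_map_restrict, Functor.map_preimage]
  exact hφ

theorem essSurj_restrict {X X' : Scheme.{u}} (i : X ⟶ X') [IsClosedImmersion i] [Surjective i] :
    (FEt.restrict i).EssSurj := by
  constructor
  intro Y₀
  have hY₀ : AlgebraicGeometry.Etale Y₀.hom := Y₀.prop.2
  have hY₀f : IsFinite Y₀.hom := Y₀.prop.1
  obtain ⟨Y', j, f, hf, hj, hpb⟩ := Groth.Agent.Lib.Helper57.EtLift.exists_isPullback i Y₀.hom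
  have hint : IsIntegralHom f :=
    (Groth.Agent.S1305.result j i Y₀.hom f hj ⟨inferInstance, inferInstance⟩ hpb.w).mp
      inferInstance
  have hfin : IsFinite f :=
    (IsFinite.iff_isIntegralHom_and_locallyOfFiniteType f).mpr ⟨hint, inferInstance⟩
  refine ⟨MorphismProperty.Over.mk ⊤ f ⟨hfin, hf⟩, ⟨?_⟩⟩
  refine (MorphismProperty.Over.isoMk hpb.isoPullback ?_).symm
  exact hpb.isoPullback_hom_snd

open AlgebraicGeometry CategoryTheory CategoryTheory.Limits in
/-- For a thickening, i.e. a closed immersion which is surjective on points, pulling back finite etale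
covers is an equivalence of categories. -/
theorem result {X X' : Scheme.{u}} (i : X ⟶ X') [IsClosedImmersion i] [Surjective i] :
    (FEt.restrict i).IsEquivalence := by
  exact ⟨faithful_restrict i, full_restrict i, essSurj_restrict i⟩

end Groth.Agent.S0238
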