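import Groth.Statements.S0244
import Groth.Agent.Lib.Helper69.FEtFull
import Groth.Agent.S0237

set_option autoImplicit false
set_option linter.style.haveILetI false
universe u
open Pi1

namespace Groth.Agent.S0244

open AlgebraicGeometry CategoryTheory CategoryTheory.Limits

open AlgebraicGeometry CategoryTheory CategoryTheory.Limits in
/-- Let X be a normal integral scheme and U ⊆ X a nonempty open subscheme. Then the restriction functor
from finite étale covers of X to finite étale covers of U is full and faithful. -/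
theorem result {X : Scheme.{u}} [IsIntegral X] (hX : Pi1.IsNormalScheme X) (U : X.Opens)
    (hU : (U : Set X).Nonempty) : (FEt.restrict U.ι).Full ∧ (FEt.restrict U.ι).Faithful := by
  have hdense : Dense (U : Set X) := U.2.dense hU
  have hfaith : (FEt.restrict U.ι).Faithful := by
    apply Groth.Agent.S0237.result
    rw [DenseRange, Scheme.Opens.range_ι]
    exact hdense
  refine ⟨?_, hfaith⟩
  -- the generic point
  set η := genericPoint X with hη
  set jX := X.fromSpecStalk η with hjX
  have hjXpt : ∀ s : ↥(Spec (X.presheaf.stalk η)), jX s = η := by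
    intro s
    have h1 : jX s ∈ Set.range jX := ⟨s, rfl⟩
    rw [hjX, Scheme.range_fromSpecStalk] at h1
    exact (Specializes.antisymm h1 (genericPoint_specializes _)).eq
  have hηU : η ∈ U := by
    obtain ⟨x, hx⟩ := hU
    exact (genericPoint_specializes x).mem_open U.2 hx
  have hrange : Set.range jX ⊆ Set.range U.ι := by
    rw [Scheme.Opens.range_ι]
    rintro _ ⟨s, rfl⟩
    rw [hjXpt]; exact hηU
  let jU : Spec (X.presheaf.stalk η) ⟶ U.toScheme := IsOpenImmersion.lift U.ι jX hrange
  have hjU : jU ≫ U.ι = jX := IsOpenImmersion.lift_fac _ _ _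
  have hjUdense : DenseRange jU.base := by
    have h1 : Set.range jU = U.ι ⁻¹' (Set.range jX) := by
      ext u
      constructor
      · rintro ⟨s, rfl⟩
        exact ⟨s, by rw [← hjU, Scheme.Hom.comp_apply]⟩
      · rintro ⟨s, hs⟩
        refine ⟨s, U.ι.isOpenEmbedding.injective ?_⟩
        rw [← Scheme.Hom.comp_apply, hjU, hs]
    have h2 : Dense (Set.range jX) := by
      haveI : Nonempty ↥(Spec (X.presheaf.stalk η)) := inferInstance
      obtain ⟨s₀⟩ := ‹Nonempty ↥(Spec (X.presheaf.stalk η))›
      have hmem : η ∈ Set.range jX := ⟨s₀, hjXpt s₀⟩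
      have hd : Dense ({η} : Set X) := by
        rw [dense_iff_closure_eq]
        exact genericPoint_closure _
      exact hd.mono (Set.singleton_subset_iff.mpr hmem)
    change Dense (Set.range jU)
    rw [h1]
    exact h2.preimage U.ι.isOpenEmbedding.isOpenMap
  refine ⟨fun {Y₁ Y₂} ψ => ?_⟩
  haveI : IsFinite Y₁.hom := Y₁.prop.1
  haveI : Etale Y₁.hom := Y₁.prop.2
  haveI : IsFinite Y₂.hom := Y₂.prop.1
  haveI : Etale Y₂.hom := Y₂.prop.2
  let p₁ : Y₁.left ⟶ X := Y₁.hom
  let p₂ : Y₂.left ⟶ X := Y₂.hom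
  let ψ' : pullback p₁ U.ι ⟶ pullback p₂ U.ι := ψ.left
  have hw : ψ' ≫ pullback.snd p₂ U.ι = pullback.snd p₁ U.ι := Over.w ψ.hom
  let α₁ : pullback p₁ jX ⟶ pullback p₁ U.ι :=
    pullback.lift (pullback.fst _ _) (pullback.snd _ _ ≫ jU)
      (by rw [Category.assoc, hjU, pullback.condition])
  have hα₁f : α₁ ≫ pullback.fst p₁ U.ι = pullback.fst p₁ jX := pullback.lift_fst _ _ _
  have hα₁s : α₁ ≫ pullback.snd p₁ U.ι = pullback.snd p₁ jX ≫ jU :=
    pullback.lift_snd _ _ _
  let ψη : pullback p₁ jX ⟶ pullback p₂ jX :=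
    pullback.lift (α₁ ≫ ψ' ≫ pullback.fst p₂ U.ι) (pullback.snd p₁ jX)
      (by
        rw [Category.assoc, Category.assoc, pullback.condition, ← Category.assoc ψ', hw,
          ← Category.assoc, hα₁s, Category.assoc, hjU])
  have hψη₁ : ψη ≫ pullback.fst p₂ jX = α₁ ≫ ψ' ≫ pullback.fst p₂ U.ι :=
    pullback.lift_fst _ _ _
  have hψη₂ : ψη ≫ pullback.snd p₂ jX = pullback.snd p₁ jX := pullback.lift_snd _ _ _
  haveI : Nonempty ↥(Spec (X.presheaf.stalk η)) := inferInstance
  obtain ⟨φ, h1, h2⟩ := Groth.Agent.Lib.Helper69.FEtNormal.full_key hX jX hjXpt p₁ p₂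
    ψη hψη₂
  refine ⟨MorphismProperty.Over.homMk φ h1 trivial, ?_⟩
  ext
  simp only [FEt.restrict, MorphismProperty.Over.pullback]
  change pullback.lift (pullback.fst p₁ U.ι ≫ φ) (pullback.snd p₁ U.ι) _ = ψ'
  -- both sides are `U`-morphisms between finite étale `U`-schemes agreeing on the generic fibre
  set A : pullback p₁ U.ι ⟶ pullback p₂ U.ι :=
    pullback.lift (pullback.fst p₁ U.ι ≫ φ) (pullback.snd p₁ U.ι)
      (by rw [Category.assoc, h1, pullback.condition]) with hA
  have hA₁ : A ≫ pullback.fst p₂ U.ι = pullback.fst p₁ U.ι ≫ φ := pullback.lift_fst _ _ _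
  have hA₂ : A ≫ pullback.snd p₂ U.ι = pullback.snd p₁ U.ι := pullback.lift_snd _ _ _
  apply Groth.Agent.S0237.key jU hjUdense (pullback.snd p₁ U.ι) (pullback.snd p₂ U.ι) A ψ' hA₂ hw
  -- factor the projection through `α₁`
  let β : pullback (pullback.snd p₁ U.ι) jU ⟶ pullback p₁ jX :=
    pullback.lift (pullback.fst _ _ ≫ pullback.fst p₁ U.ι) (pullback.snd _ _)
      (by
        rw [Category.assoc, pullback.condition, ← Category.assoc, pullback.condition,
          Category.assoc, hjU])
  have hβ : β ≫ α₁ = pullback.fst (pullback.snd p₁ U.ι) jU := by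
    apply pullback.hom_ext
    · rw [Category.assoc, hα₁f]
      exact pullback.lift_fst _ _ _
    · rw [Category.assoc, hα₁s, ← Category.assoc]
      have : β ≫ pullback.snd p₁ jX = pullback.snd _ _ := pullback.lift_snd _ _ _
      rw [this, pullback.condition]
  rw [← hβ]
  apply pullback.hom_ext
  · rw [Category.assoc, Category.assoc, Category.assoc, Category.assoc, hA₁, ← Category.assoc α₁,
      hα₁f, h2, hψη₁]
  · rw [Category.assoc, Category.assoc, Category.assoc, Category.assoc, hA₂, hw]

end Groth.Agent.S0244
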