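import Groth.Statements.S0245
import Groth.Agent.Lib.Helper69.FEtFull
import Groth.Agent.S0237

set_option autoImplicit false
set_option linter.style.haveILetI false
universe u
open Pi1

namespace Groth.Agent.S0245

open AlgebraicGeometry CategoryTheory CategoryTheory.Limits

theorem full_of_key {X S : Scheme.{u}} [IsIntegral X] (hX : Pi1.IsNormalScheme X) (j : S ⟶ X)
    [IsPreimmersion j] (hj : ∀ s : S, j s = genericPoint X) [Nonempty S] :
    (FEt.restrict j).Full := by
  refine ⟨fun {Y₁ Y₂} ψ => ?_⟩
  haveI : IsFinite Y₁.hom := Y₁.prop.1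
  haveI : Etale Y₁.hom := Y₁.prop.2
  haveI : IsFinite Y₂.hom := Y₂.prop.1
  haveI : Etale Y₂.hom := Y₂.prop.2
  have hw : ψ.left ≫ pullback.snd Y₂.hom j = pullback.snd Y₁.hom j := Over.w ψ.hom
  obtain ⟨φ, h1, h2⟩ := Groth.Agent.Lib.Helper69.FEtNormal.full_key hX j hj Y₁.hom Y₂.hom ψ.left hw
  refine ⟨MorphismProperty.Over.homMk φ h1 trivial, ?_⟩
  ext
  simp only [FEt.restrict, MorphismProperty.Over.pullback]
  apply pullback.hom_ext
  · exact (pullback.lift_fst _ _ _).trans h2
  · exact (pullback.lift_snd _ _ _).trans hw.symm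



open AlgebraicGeometry CategoryTheory CategoryTheory.Limits in
/-- For a normal integral scheme X, restricting finite étale covers of X along the canonical morphism
from the spectrum of the local ring at the generic point (the spectrum of the function field) is a
full and faithful functor. -/
theorem result {X : Scheme.{u}} [IsIntegral X] (hX : Pi1.IsNormalScheme X) :
    (FEt.restrict (X.fromSpecStalk (genericPoint X))).Full ∧
    (FEt.restrict (X.fromSpecStalk (genericPoint X))).Faithful := by
  have hj : ∀ s : ↥(Spec (X.presheaf.stalk (genericPoint X))),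
      X.fromSpecStalk (genericPoint X) s = genericPoint X := by
    intro s
    have h1 : X.fromSpecStalk (genericPoint X) s ∈ Set.range (X.fromSpecStalk (genericPoint X)) :=
      ⟨s, rfl⟩
    rw [Scheme.range_fromSpecStalk] at h1
    exact (Specializes.antisymm h1 (genericPoint_specializes _)).eq
  haveI : Nonempty ↥(Spec (X.presheaf.stalk (genericPoint X))) := inferInstance
  refine ⟨full_of_key hX _ hj, ?_⟩
  apply Groth.Agent.S0237.result
  obtain ⟨s₀⟩ := ‹Nonempty ↥(Spec (X.presheaf.stalk (genericPoint X)))›
  have hmem : genericPoint X ∈ Set.range (X.fromSpecStalk (genericPoint X)) := ⟨s₀, hj s₀⟩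
  have hd : Dense ({genericPoint X} : Set X) := by
    rw [dense_iff_closure_eq]
    exact genericPoint_closure _
  exact hd.mono (Set.singleton_subset_iff.mpr hmem)

end Groth.Agent.S0245
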