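import Groth.Statements.S0246
import Groth.Agent.Lib.Helper69.FEtNormal

set_option autoImplicit false
set_option linter.style.haveILetI false
universe u
open Pi1

namespace Groth.Agent.S0246

open AlgebraicGeometry CategoryTheory CategoryTheory.Limits in
/-- If Y is finite etale over a normal integral scheme X and Y is connected, then Y is an integral
scheme all of whose local rings are integrally closed domains. -/
theorem result {X : Scheme.{u}} [IsIntegral X] (hX : Pi1.IsNormalScheme X) (Y : FEt.Cat X)
    [ConnectedSpace Y.left] : IsIntegral Y.left ∧ Pi1.IsNormalScheme Y.left := by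
  let f : Y.left ⟶ X := Y.hom
  haveI hfin : IsFinite f := Y.prop.1
  haveI het : Etale f := Y.prop.2
  have hN : Pi1.IsNormalScheme Y.left :=
    Groth.Agent.Lib.Helper69.FEtNormal.isNormalScheme_of_etale f hX
  haveI : ∀ y : Y.left, IsDomain (Y.left.presheaf.stalk y) := fun y => (hN y).1
  haveI : IrreducibleSpace Y.left :=
    Groth.Agent.Lib.Helper69.FEtNormal.irreducibleSpace_of_connected f (fun y => (hN y).1)
  haveI : IsReduced Y.left := isReduced_of_isReduced_stalk Y.left
  exact ⟨isIntegral_of_irreducibleSpace_of_isReduced Y.left, hN⟩

end Groth.Agent.S0246
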