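import Groth.Statements.S0249
import Mathlib.RingTheory.Ideal.KrullsHeightTheorem
import Mathlib.Tactic

set_option autoImplicit false
universe u
open Pi1

namespace Groth.Agent.S0249

theorem aux (A : Type u) [CommRing A] [IsNoetherianRing A] (f : A) :
    ∀ n : ℕ, ∀ q : Ideal A, q.IsPrime → f ∈ q → 1 ≤ q.height → q.height = n →
      ∃ p : Ideal A, p.IsPrime ∧ f ∈ p ∧ p.height = 1 := by
  intro n
  induction n using Nat.strong_induction_on with
  | _ n ih =>
    intro q hq hfq h1 hn
    by_cases hle : q.height ≤ 1
    · exact ⟨q, hq, hfq, le_antisymm hle h1⟩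
    · have hle' : ¬ q.height ≤ ((1 : ℕ) : ℕ∞) := by simpa using hle
      rw [Ideal.height_le_iff] at hle'
      push Not at hle'
      obtain ⟨p₁, hp₁, hp₁q, hp₁h⟩ := hle'
      have key : ∃ q' : Ideal A, q'.IsPrime ∧ f ∈ q' ∧ 1 ≤ q'.height ∧ q' < q := by
        by_cases hfp : f ∈ p₁
        · exact ⟨p₁, hp₁, hfp, by simpa using hp₁h, hp₁q⟩
        · have hp₁0 : ¬ p₁.height ≤ ((0 : ℕ) : ℕ∞) := by
            intro h0
            have : (1 : ℕ∞) ≤ 0 := by
              have h2 : ((1 : ℕ) : ℕ∞) ≤ p₁.height := hp₁h
              calc (1 : ℕ∞) = ((1 : ℕ) : ℕ∞) := by simp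
                _ ≤ p₁.height := h2
                _ ≤ ((0 : ℕ) : ℕ∞) := h0
                _ = 0 := by simp
            simp at this
          rw [Ideal.height_le_iff] at hp₁0
          push Not at hp₁0
          obtain ⟨p₀, hp₀, hp₀p₁, -⟩ := hp₁0
          have hsup : p₀ ⊔ Ideal.span {f} ≤ q := by
            refine sup_le (hp₀p₁.le.trans hp₁q.le) ?_
            rw [Ideal.span_le]
            simpa using hfq
          obtain ⟨q', hq'min, hq'q⟩ := Ideal.exists_minimalPrimes_le hsup
          have hq'prime : q'.IsPrime := hq'min.isPrime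
          have hfq' : f ∈ q' := by
            have : p₀ ⊔ Ideal.span {f} ≤ q' := hq'min.le
            exact this (Ideal.mem_sup_right (Ideal.subset_span (by simp)))
          have hp₀q' : p₀ ≤ q' := le_sup_left.trans hq'min.le
          have hp₀q'lt : p₀ < q' := by
            refine lt_of_le_of_ne hp₀q' ?_
            intro e
            apply hfp
            apply hp₀p₁.le
            rw [e]
            exact hfq'
          have hq'1 : 1 ≤ q'.height := by
            have := Ideal.height_add_one_le_of_lt_of_isPrime hp₀q'lt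
            exact le_trans (by simp) this
          refine ⟨q', hq'prime, hfq', hq'1, lt_of_le_of_ne hq'q ?_⟩
          intro e
          subst e
          have hmap := Ideal.map_height_le_one_of_mem_minimalPrimes hq'min
          have hker : RingHom.ker (Ideal.Quotient.mk p₀) = p₀ := Ideal.mk_ker
          have hsurj : Function.Surjective (Ideal.Quotient.mk p₀) := Ideal.Quotient.mk_surjective
          have hP1 : (p₁.map (Ideal.Quotient.mk p₀)).IsPrime :=
            Ideal.map_isPrime_of_surjective hsurj (by rw [hker]; exact hp₀p₁.le)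
          have hQ : (q'.map (Ideal.Quotient.mk p₀)).IsPrime :=
            Ideal.map_isPrime_of_surjective hsurj (by rw [hker]; exact hp₀q')
          have hbot : (⊥ : Ideal (A ⧸ p₀)).IsPrime := Ideal.isPrime_bot
          have hcm : ∀ I : Ideal A, p₀ ≤ I →
              (I.map (Ideal.Quotient.mk p₀)).comap (Ideal.Quotient.mk p₀) = I := by
            intro I hI
            rw [Ideal.comap_map_of_surjective _ hsurj, ← RingHom.ker_eq_comap_bot, hker]
            exact sup_eq_left.mpr hI
          have hlt1 : (⊥ : Ideal (A ⧸ p₀)) < p₁.map (Ideal.Quotient.mk p₀) := by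
            refine lt_of_le_of_ne bot_le ?_
            intro e
            have h2 := hcm p₁ hp₀p₁.le
            rw [← e, ← RingHom.ker_eq_comap_bot, hker] at h2
            exact hp₀p₁.ne h2
          have hlt2 : p₁.map (Ideal.Quotient.mk p₀) < q'.map (Ideal.Quotient.mk p₀) := by
            refine lt_of_le_of_ne (Ideal.map_mono hp₁q.le) ?_
            intro e
            have h2 := hcm p₁ hp₀p₁.le
            rw [e, hcm q' hp₀q'] at h2
            exact hp₁q.ne h2.symm
          have ha := Ideal.height_add_one_le_of_lt_of_isPrime hlt1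
          have hb := Ideal.height_add_one_le_of_lt_of_isPrime hlt2
          have hc : (2 : ℕ∞) ≤ (q'.map (Ideal.Quotient.mk p₀)).height := by
            calc (2 : ℕ∞) = 0 + 1 + 1 := by norm_num
              _ ≤ (⊥ : Ideal (A ⧸ p₀)).height + 1 + 1 := by gcongr; exact zero_le
              _ ≤ (p₁.map (Ideal.Quotient.mk p₀)).height + 1 := by gcongr
              _ ≤ _ := hb
          have : (2 : ℕ∞) ≤ 1 := hc.trans hmap
          norm_num at this
      obtain ⟨q', hq', hfq', hq'1, hq'q⟩ := key
      have hlt : q'.height < q.height := Ideal.height_strict_mono_of_isPrime_of_isPrime hq'q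
      have hfin : q'.height ≠ ⊤ := Ideal.height_ne_top_of_isPrime
      obtain ⟨m, hm⟩ := ENat.ne_top_iff_exists.mp hfin
      have hmn : m < n := by
        rw [hn, ← hm] at hlt
        exact_mod_cast hlt
      exact ih m hmn q' hq' hfq' hq'1 hm.symm

open AlgebraicGeometry CategoryTheory CategoryTheory.Limits in
/-- Let A be a Noetherian local ring of dimension at least 1 and f an element of its maximal ideal. Then
some prime ideal of height exactly 1 contains f. -/
theorem result (A : Type u) [CommRing A] [IsNoetherianRing A] [IsLocalRing A]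
    (h : (1 : WithBot ℕ∞) ≤ ringKrullDim A) (f : A) (hf : f ∈ IsLocalRing.maximalIdeal A) :
    ∃ p : Ideal A, p.IsPrime ∧ f ∈ p ∧ p.height = 1 := by
  have hm : (IsLocalRing.maximalIdeal A).IsPrime := inferInstance
  have hh : (1 : ℕ∞) ≤ (IsLocalRing.maximalIdeal A).height := by
    have h2 : ((IsLocalRing.maximalIdeal A).height : WithBot ℕ∞) = ringKrullDim A :=
      IsLocalRing.maximalIdeal_height_eq_ringKrullDim
    rw [← h2] at h
    exact_mod_cast h
  have hfin : (IsLocalRing.maximalIdeal A).height ≠ ⊤ := Ideal.height_ne_top_of_isPrime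
  obtain ⟨n, hn⟩ := ENat.ne_top_iff_exists.mp hfin
  exact aux A f n _ hm hf hh hn.symm

end Groth.Agent.S0249
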