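import Groth.Statements.S0250
import Groth.Agent.Lib.Helper50.PurityExt

set_option autoImplicit false
universe u
open Pi1

namespace Groth.Agent.S0250

open AlgebraicGeometry CategoryTheory CategoryTheory.Limits in
/-- Let X be a Noetherian scheme and U ⊆ X an open subscheme such that purity holds for the local ring
𝒪_{X,x} at every point x outside U. Then restriction of finite étale covers from X to U is
essentially surjective. -/
theorem result {X : Scheme.{u}} [IsNoetherian X] (U : X.Opens)
    (h : ∀ x : X, x ∉ U → FEt.PurityHolds (X.presheaf.stalk x)) : (FEt.restrict U.ι).EssSurj := by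
  open Groth.Agent.Lib.Helper50 Groth.Agent.Lib.Helper50.StalkLim in
  constructor
  intro V
  let v : V.left ⟶ U.toScheme := V.hom
  have hv : IsFinite v ∧ Etale v := ⟨V.prop.1, V.prop.2⟩
  -- the set of opens over which `V` extends
  let Ext : X.Opens → Prop := fun U' ↦ ∃ (hle : U ≤ U') (V' : Scheme.{u}) (v' : V' ⟶ U'.toScheme)
    (r : V.left ⟶ V'), IsFinite v' ∧ Etale v' ∧ IsPullback r v v' (X.homOfLE hle)
  have hExtU : Ext U := by
    refine ⟨le_rfl, V.left, v, 𝟙 _, hv.1, hv.2, ?_⟩
    rw [Scheme.homOfLE_rfl]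
    exact IsPullback.id_horiz v
  have hwf : WellFoundedGT X.Opens := inferInstanceAs (TopologicalSpace.NoetherianSpace X)
  obtain ⟨U', hU'ext, hU'max⟩ := hwf.wf.has_min {U' | Ext U'} ⟨U, hExtU⟩
  have hU'top : U' = ⊤ := by
    by_contra hne
    have hZne : ((U' : Set X)ᶜ).Nonempty := by
      rw [Set.nonempty_compl]
      intro h
      exact hne (TopologicalSpace.Opens.ext h)
    obtain ⟨x, hxZ, hxgen⟩ := exists_mem_forall_specializes_eq U'.isOpen.isClosed_compl hZne
    obtain ⟨hle, V', v', r, hfin, het, hpb⟩ := hU'ext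
    have hxU' : x ∉ U' := hxZ
    have hxU : x ∉ U := fun h' ↦ hxU' (hle h')
    have hgen : ∀ z : X, z ⤳ x → z ≠ x → z ∈ U' := by
      intro z hz hzx
      by_contra hzU
      exact hzx (hxgen z hzU hz)
    have : TopologicalSpace.NoetherianSpace U'.toScheme :=
      inferInstanceAs (TopologicalSpace.NoetherianSpace (U' : Set X))
    obtain ⟨W, hxW, V'', v'', r', hfin', het', hpb'⟩ :=
      exists_bigger_extension x hxU' hgen (h x hxU) v' ⟨hfin, het⟩
    have hext : Ext (U' ⊔ W) := by
      refine ⟨hle.trans le_sup_left, V'', v'', r ≫ r', hfin', het', ?_⟩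
      have := hpb.paste_horiz hpb'
      rwa [Scheme.homOfLE_homOfLE] at this
    refine hU'max (U' ⊔ W) hext ?_
    refine lt_of_le_of_ne le_sup_left ?_
    intro heq
    apply hxU'
    rw [heq]
    exact Or.inr hxW
  subst hU'top
  obtain ⟨hle, V', v', r, hfin, het, hpb⟩ := hU'ext
  have hpb' : IsPullback r v (v' ≫ (⊤ : X.Opens).ι) U.ι := by
    have := isPullback_comp_mono (⊤ : X.Opens).ι hpb
    rwa [Scheme.homOfLE_ι] at this
  have hiso : IsIso (⊤ : X.Opens).ι := by
    rw [← Scheme.topIso_hom]; infer_instance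
  have hfin' : IsFinite (v' ≫ (⊤ : X.Opens).ι) := inferInstance
  have het' : Etale (v' ≫ (⊤ : X.Opens).ι) := inferInstance
  refine ⟨MorphismProperty.Over.mk ⊤ (v' ≫ (⊤ : X.Opens).ι) ⟨hfin', het'⟩, ⟨?_⟩⟩
  refine MorphismProperty.Over.isoMk hpb'.isoPullback.symm ?_
  exact hpb'.isoPullback_inv_snd

end Groth.Agent.S0250
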