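import Groth.Statements.S0252
import Groth.Agent.Lib.Helper82.Pi0FEt

set_option autoImplicit false
universe u
open Pi1

namespace Groth.Agent.S0252

open AlgebraicGeometry CategoryTheory CategoryTheory.Limits in
/-- Let f be a morphism between quasi-compact quasi-separated schemes such that base change of finite
etale covers along f is an equivalence. Then the induced map on connected components is a
homeomorphism. -/
theorem result {X Y : Scheme.{u}} [CompactSpace X] [QuasiSeparatedSpace X] [CompactSpace Y] [QuasiSeparatedSpace Y]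
    (f : X ⟶ Y) (h : (FEt.restrict f).IsEquivalence) :
    IsHomeomorph f.continuous.connectedComponentsMap := by
  apply Groth.Agent.Lib.Helper82.Pi0Homeo.isHomeomorph_connectedComponentsMap f.continuous
  · intro W W' hW hW' heq
    let T := Groth.Agent.Lib.Helper82.Pi0FEt.ofClopen (⟨W, hW.isOpen⟩ : Y.Opens) hW.isClosed
    let T' := Groth.Agent.Lib.Helper82.Pi0FEt.ofClopen (⟨W', hW'.isOpen⟩ : Y.Opens) hW'.isClosed
    have hr : Set.range ((FEt.restrict f).obj T).hom.base =
        Set.range ((FEt.restrict f).obj T').hom.base := by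
      rw [Groth.Agent.Lib.Helper82.Pi0FEt.range_restrict, Groth.Agent.Lib.Helper82.Pi0FEt.range_restrict, Groth.Agent.Lib.Helper82.Pi0FEt.range_hom_ofClopen, Groth.Agent.Lib.Helper82.Pi0FEt.range_hom_ofClopen]
      exact heq
    haveI : IsOpenImmersion ((FEt.restrict f).obj T).hom :=
      inferInstanceAs (IsOpenImmersion (pullback.snd (Scheme.Opens.ι _) f))
    haveI : IsOpenImmersion ((FEt.restrict f).obj T').hom :=
      inferInstanceAs (IsOpenImmersion (pullback.snd (Scheme.Opens.ι _) f))
    let e : (FEt.restrict f).obj T ≅ (FEt.restrict f).obj T' :=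
      MorphismProperty.Over.isoMk (IsOpenImmersion.isoOfRangeEq _ _ hr)
        (IsOpenImmersion.isoOfRangeEq_hom_fac _ _ hr)
    have := Groth.Agent.Lib.Helper82.Pi0FEt.range_hom_eq_of_iso ((FEt.restrict f).preimageIso e)
    rw [Groth.Agent.Lib.Helper82.Pi0FEt.range_hom_ofClopen, Groth.Agent.Lib.Helper82.Pi0FEt.range_hom_ofClopen] at this
    exact this
  · intro Z hZ
    let TZ := Groth.Agent.Lib.Helper82.Pi0FEt.ofClopen (⟨Z, hZ.isOpen⟩ : X.Opens) hZ.isClosed
    let T := (FEt.restrict f).objPreimage TZ
    let e : (FEt.restrict f).obj T ≅ TZ := (FEt.restrict f).objObjPreimageIso TZ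
    refine ⟨Set.range T.hom.base, Groth.Agent.Lib.Helper82.Pi0FEt.isClopen_range_hom T, ?_⟩
    rw [← Groth.Agent.Lib.Helper82.Pi0FEt.range_restrict, Groth.Agent.Lib.Helper82.Pi0FEt.range_hom_eq_of_iso e, Groth.Agent.Lib.Helper82.Pi0FEt.range_hom_ofClopen]
    rfl

end Groth.Agent.S0252
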