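import Groth.Statements.S0253
import Groth.Agent.Lib.Helper82.SepClosedFrac
import Mathlib.RingTheory.Localization.LocalizationLocalization
import Mathlib.RingTheory.IntegralClosure.IntegrallyClosed
import Mathlib.RingTheory.Localization.AtPrime.Basic

set_option autoImplicit false
universe u
open Pi1

namespace Groth.Agent.S0253

open AlgebraicGeometry CategoryTheory CategoryTheory.Limits in
/-- Let A be an integrally closed domain whose fraction field is separably closed. Then the residue
field at any nonzero prime ideal of A is algebraically closed. -/
theorem result (A : Type u) [CommRing A] [IsDomain A] [IsIntegrallyClosed A] [IsSepClosed (FractionRing A)]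
    (p : Ideal A) [p.IsPrime] (hp : p ≠ ⊥) : IsAlgClosed p.ResidueField := by
  have hIC : IsIntegrallyClosed (Localization.AtPrime p) :=
    isIntegrallyClosed_of_isLocalization (Localization.AtPrime p) p.primeCompl
      p.primeCompl_le_nonZeroDivisors
  obtain ⟨a, hap, ha0⟩ : ∃ a ∈ p, a ≠ 0 := by
    by_contra hcon
    push Not at hcon
    exact hp ((Submodule.eq_bot_iff _).2 hcon)
  have hinj : Function.Injective (algebraMap A (Localization.AtPrime p)) :=
    IsLocalization.injective _ p.primeCompl_le_nonZeroDivisors
  have ht0 : algebraMap A (Localization.AtPrime p) a ≠ 0 := by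
    intro h0
    exact ha0 (hinj (by rw [h0, map_zero]))
  have htm : algebraMap A (Localization.AtPrime p) a ∈
      IsLocalRing.maximalIdeal (Localization.AtPrime p) := by
    rw [← Localization.AtPrime.map_eq_maximalIdeal]
    exact Ideal.mem_map_of_mem _ hap
  exact Groth.Agent.Lib.Helper82.isAlgClosed_residueField (K := FractionRing A) _ ht0 htm

end Groth.Agent.S0253
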