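import Groth.Statements.S0257
import Groth.Agent.Lib.Helper69.QFPurity
import Groth.Agent.Lib.Helper19.StalkCriteria
import Groth.Agent.Lib.Helper23.StalkChart

set_option autoImplicit false
universe u
open Pi1

namespace Groth.Agent.S0257

open AlgebraicGeometry CategoryTheory CategoryTheory.Limits in
/-- Let f be flat and locally of finite type between locally Noetherian schemes, x a point of X which is
not a generic point of an irreducible component (its local ring has dimension at least 1), with f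
quasi-finite at x and unramified at all points of dimension one specializing to x. Then f is etale
on an open neighbourhood of x. -/
theorem result {X Y : Scheme.{u}} (f : X ⟶ Y) [LocallyOfFiniteType f] [Flat f] [IsLocallyNoetherian X]
    [IsLocallyNoetherian Y] (x : X) (hq : f.QuasiFiniteAt x)
    (hdim1 : (1 : WithBot ℕ∞) ≤ ringKrullDim (X.presheaf.stalk x))
    (hunr : ∀ x' : X, x' ⤳ x → ringKrullDim (X.presheaf.stalk x') = 1 →
      (f.stalkMap x').hom.FormallyUnramified) :
    ∃ U : X.Opens, x ∈ U ∧ Etale (U.ι ≫ f) := by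
  classical
  -- affine charts
  obtain ⟨_, ⟨U, hU, rfl⟩, hxU, -⟩ := Y.isBasis_affineOpens.exists_subset_of_mem_open
    (Set.mem_univ (f x)) isOpen_univ
  obtain ⟨_, ⟨V, hV, rfl⟩, hxV, hUV : V ≤ f ⁻¹ᵁ U⟩ :=
    X.isBasis_affineOpens.exists_subset_of_mem_open hxU (f ⁻¹ᵁ U).2
  have hft : (f.appLE U V hUV).hom.FiniteType := f.finiteType_appLE hU hV hUV
  have hflat : (f.appLE U V hUV).hom.Flat :=
    HasRingHomProperty.appLE (P := @Flat) f inferInstance ⟨U, hU⟩ ⟨V, hV⟩ hUV
  have : IsNoetherianRing Γ(Y, U) := IsLocallyNoetherian.component_noetherian ⟨U, hU⟩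
  algebraize [(f.appLE U V hUV).hom]
  have hqf : Algebra.QuasiFiniteAt Γ(Y, U) (hV.primeIdealOf ⟨x, hxV⟩).asIdeal :=
    hq.quasiFiniteAt hV hU hUV hxV
  -- height of q
  have hqh : 1 ≤ (hV.primeIdealOf ⟨x, hxV⟩).asIdeal.height := by
    have hloc := hV.isLocalization_stalk ⟨x, hxV⟩
    letI := X.presheaf.algebra_section_stalk ⟨x, hxV⟩
    rw [IsLocalization.AtPrime.ringKrullDim_eq_height (hV.primeIdealOf ⟨x, hxV⟩).asIdeal
      (X.presheaf.stalk x)] at hdim1
    exact_mod_cast hdim1
  have key : Algebra.IsUnramifiedAt Γ(Y, U) (hV.primeIdealOf ⟨x, hxV⟩).asIdeal := by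
    apply Groth.Agent.Lib.Helper69.QFPurity.isUnramifiedAt_of_height_one _ hqh
    intro q' hq' hle hh
    let y : X := hV.fromSpec ⟨q', hq'⟩
    have hyV : y ∈ V := by
      have : y ∈ Set.range hV.fromSpec := ⟨_, rfl⟩
      rw [hV.range_fromSpec] at this
      exact this
    have hprime : hV.primeIdealOf ⟨y, hyV⟩ = ⟨q', hq'⟩ := by
      apply hV.fromSpec.isEmbedding.injective
      rw [hV.fromSpec_primeIdealOf]
    have hspec : y ⤳ x := by
      have h1 : (⟨q', hq'⟩ : PrimeSpectrum Γ(X, V)) ⤳ hV.primeIdealOf ⟨x, hxV⟩ :=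
        (PrimeSpectrum.le_iff_specializes _ _).mp hle
      have h2 := h1.map hV.fromSpec.continuous
      rwa [hV.fromSpec_primeIdealOf] at h2
    have hdim : ringKrullDim (X.presheaf.stalk y) = 1 := by
      have hloc := hV.isLocalization_stalk ⟨y, hyV⟩
      letI := X.presheaf.algebra_section_stalk ⟨y, hyV⟩
      rw [IsLocalization.AtPrime.ringKrullDim_eq_height (hV.primeIdealOf ⟨y, hyV⟩).asIdeal
        (X.presheaf.stalk y), hprime]
      change ((q'.height : ℕ∞) : WithBot ℕ∞) = 1
      rw [hh]; rfl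
    have h6 := Groth.Agent.Lib.Helper23.isUnramifiedAt_of_stalkMap f hU hV hUV y hyV
      (hunr y hspec hdim)
    exact Groth.Agent.Lib.Helper69.FinFlatPurity.isUnramifiedAt_congr _ _
      (congrArg PrimeSpectrum.asIdeal hprime) h6
  -- conclude
  obtain ⟨b, hbq, hb⟩ := Algebra.exists_formallyUnramified_of_isUnramifiedAt (R := Γ(Y, U))
    (hV.primeIdealOf ⟨x, hxV⟩).asIdeal
  refine ⟨X.basicOpen b,
    (Groth.Agent.Lib.Helper19.mem_basicOpen_iff_notMem_primeIdealOf hV x hxV b).mpr hbq, ?_⟩
  have hresp := Groth.Agent.Lib.Helper19.formallyUnramified_respectsRight_isOpenImmersion.{u}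
  have hfu : FormallyUnramified ((X.basicOpen b).ι ≫ f) := by
    rw [Groth.Agent.Lib.Helper19.ι_comp_iff_appLE @FormallyUnramified f hU (hV.basicOpen b)
      ((X.basicOpen_le b).trans hUV), ← f.appLE_map hUV (homOfLE (X.basicOpen_le b)).op]
    exact (Groth.Agent.Lib.Helper19.formallyUnramified_basicOpen_iff hV b).mpr hb
  have hlfp : LocallyOfFinitePresentation ((X.basicOpen b).ι ≫ f) :=
    LocallyOfFinitePresentation.iff_locallyOfFiniteType.mpr inferInstance
  exact Etale.of_formallyUnramified_of_flat _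


end Groth.Agent.S0257
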