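import Groth.Statements.S0258
import Mathlib
import Groth.Agent.Lib.Helper64.HartogsRel

set_option autoImplicit false
universe u
open Pi1

namespace Groth.Agent.S0258


open AlgebraicGeometry CategoryTheory CategoryTheory.Limits in
/-- For a Noetherian local ring A of depth at least 2, the functor restricting finite étale covers of
Spec A to the punctured spectrum is fully faithful (full and faithful). The published statement
assumes instead that the punctured spectrum of the strict henselization of A is connected; depth at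
least 2 is a sufficient condition for this, and the result is stated here under that hypothesis. -/
theorem result (A : Type u) [CommRing A] [IsNoetherianRing A] [IsLocalRing A] (hA : (2 : ℕ∞) ≤ LocCoh.depth A A) :
    (FEt.restrict (FEt.puncturedSpec A).ι).Full ∧ (FEt.restrict (FEt.puncturedSpec A).ι).Faithful := by
  have key : ∀ (L₁ L₂ : Scheme.{u}) (g₁ : L₁ ⟶ Spec (CommRingCat.of A))
      (g₂ : L₂ ⟶ Spec (CommRingCat.of A)) (_ : IsFinite g₁) (_ : Etale g₁) (_ : IsFinite g₂)
      (ψ : pullback g₁ (FEt.puncturedSpec A).ι ⟶ L₂)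
      (_ : ψ ≫ g₂ = pullback.fst g₁ (FEt.puncturedSpec A).ι ≫ g₁),
      ∃! φ : L₁ ⟶ L₂, φ ≫ g₂ = g₁ ∧ pullback.fst g₁ (FEt.puncturedSpec A).ι ≫ φ = ψ := by
    intro L₁ L₂ g₁ g₂ _ _ _ ψ hψ
    haveI : IsLocallyNoetherian L₁ := LocallyOfFiniteType.isLocallyNoetherian g₁
    have hreg : ∀ y : L₁, y ∉ Set.range (pullback.fst g₁ (FEt.puncturedSpec A).ι) →
        Groth.Agent.Lib.Helper64.HartogsRing.HasRegPair (L₁.presheaf.stalk y) := by
      intro y hy
      rw [Scheme.Pullback.range_fst, Scheme.Opens.range_ι] at hy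
      have hy' : g₁ y = IsLocalRing.closedPoint A := by
        by_contra hne
        exact hy hne
      have h1 := Groth.Agent.Lib.Helper64.HartogsRel.hasWRegPair_stalk_closedPoint A
        (Groth.Agent.Lib.Helper64.HartogsRel.hasWRegPair_of_two_le_depth hA)
      have h2 : Groth.Agent.Lib.Helper64.HartogsRel.HasWRegPair
          ((Spec (CommRingCat.of A)).presheaf.stalk (g₁ y)) := by
        rw [hy']; exact h1
      exact (Groth.Agent.Lib.Helper64.HartogsRel.HasWRegPair.of_flat_isLocalHom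
        (g₁.stalkMap y).hom (AlgebraicGeometry.Flat.stalkMap g₁ y) h2).hasRegPair
    exact Groth.Agent.Lib.Helper64.HartogsRel.existsUnique_extension_of_isAffineHom'
      (pullback.fst g₁ (FEt.puncturedSpec A).ι) hreg g₁ g₂ ψ hψ
  constructor
  · refine ⟨fun {Y₁ Y₂} ψ₀ => ?_⟩
    have hw : ψ₀.left ≫ pullback.snd Y₂.hom (FEt.puncturedSpec A).ι =
        pullback.snd Y₁.hom (FEt.puncturedSpec A).ι := MorphismProperty.Over.w ψ₀
    have hψ : (ψ₀.left ≫ pullback.fst Y₂.hom (FEt.puncturedSpec A).ι) ≫ Y₂.hom =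
        pullback.fst Y₁.hom (FEt.puncturedSpec A).ι ≫ Y₁.hom := by
      calc (ψ₀.left ≫ pullback.fst Y₂.hom (FEt.puncturedSpec A).ι) ≫ Y₂.hom
          = ψ₀.left ≫ (pullback.fst Y₂.hom (FEt.puncturedSpec A).ι ≫ Y₂.hom) := Category.assoc _ _ _
        _ = ψ₀.left ≫ (pullback.snd Y₂.hom (FEt.puncturedSpec A).ι ≫ (FEt.puncturedSpec A).ι) :=
            congrArg (ψ₀.left ≫ ·) pullback.condition
        _ = (ψ₀.left ≫ pullback.snd Y₂.hom (FEt.puncturedSpec A).ι) ≫ (FEt.puncturedSpec A).ι :=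
            (Category.assoc _ _ _).symm
        _ = pullback.snd Y₁.hom (FEt.puncturedSpec A).ι ≫ (FEt.puncturedSpec A).ι :=
            congrArg (· ≫ (FEt.puncturedSpec A).ι) hw
        _ = pullback.fst Y₁.hom (FEt.puncturedSpec A).ι ≫ Y₁.hom := pullback.condition.symm
    obtain ⟨φ, ⟨h1, h2⟩, -⟩ := key Y₁.left Y₂.left Y₁.hom Y₂.hom Y₁.prop.1 Y₁.prop.2 Y₂.prop.1 _ hψ
    refine ⟨MorphismProperty.Over.homMk φ h1 trivial, ?_⟩
    apply MorphismProperty.Over.Hom.ext
    apply pullback.hom_ext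
    · exact (pullback.lift_fst _ _ _).trans h2
    · exact (pullback.lift_snd _ _ _).trans hw.symm
  · refine ⟨fun {Y₁ Y₂} a b hab => ?_⟩
    have ha : ((FEt.restrict (FEt.puncturedSpec A).ι).map a).left ≫
        pullback.fst Y₂.hom (FEt.puncturedSpec A).ι =
        pullback.fst Y₁.hom (FEt.puncturedSpec A).ι ≫ a.left := pullback.lift_fst _ _ _
    have hb : ((FEt.restrict (FEt.puncturedSpec A).ι).map b).left ≫
        pullback.fst Y₂.hom (FEt.puncturedSpec A).ι =
        pullback.fst Y₁.hom (FEt.puncturedSpec A).ι ≫ b.left := pullback.lift_fst _ _ _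
    have e : pullback.fst Y₁.hom (FEt.puncturedSpec A).ι ≫ a.left =
        pullback.fst Y₁.hom (FEt.puncturedSpec A).ι ≫ b.left :=
      ha.symm.trans ((congrArg (fun c => c.left ≫ pullback.fst Y₂.hom (FEt.puncturedSpec A).ι) hab).trans hb)
    have hψ : (pullback.fst Y₁.hom (FEt.puncturedSpec A).ι ≫ a.left) ≫ Y₂.hom =
        pullback.fst Y₁.hom (FEt.puncturedSpec A).ι ≫ Y₁.hom :=
      (Category.assoc _ _ _).trans (congrArg (pullback.fst Y₁.hom (FEt.puncturedSpec A).ι ≫ ·)
        (MorphismProperty.Over.w a))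
    obtain ⟨φ, -, huniq⟩ := key Y₁.left Y₂.left Y₁.hom Y₂.hom Y₁.prop.1 Y₁.prop.2 Y₂.prop.1 _ hψ
    apply MorphismProperty.Over.Hom.ext
    exact (huniq a.left ⟨MorphismProperty.Over.w a, rfl⟩).trans
      (huniq b.left ⟨MorphismProperty.Over.w b, e.symm⟩).symm

end Groth.Agent.S0258
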