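import Groth.Statements.S0263
import Mathlib
import Groth.Agent.Lib.Helper64.HartogsRel

set_option autoImplicit false
universe u
open Pi1

namespace Groth.Agent.S0263


open AlgebraicGeometry CategoryTheory CategoryTheory.Limits in
/-- Let A be a Noetherian local ring of depth at least 2 and V a finite étale cover of the punctured
spectrum of A which is isomorphic to the restriction of some finite étale cover of Spec A. Then the
ring of global sections Γ(V, O_V) is finite and étale over A, via the ring map A → Γ(V, O_V) induced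
by the composite V → Spec A. (Only this implication of the published statement is asserted here; its
converse is not.) -/
theorem result (A : Type u) [CommRing A] [IsNoetherianRing A] [IsLocalRing A] (hA : (2 : ℕ∞) ≤ LocCoh.depth A A)
    (V : FEt.Cat (FEt.puncturedSpec A : Scheme.{u}))
    (hV : ∃ Y : FEt.Cat (Spec (CommRingCat.of A)),
      Nonempty ((FEt.restrict (FEt.puncturedSpec A).ι).obj Y ≅ V)) :
    ((Scheme.ΓSpecIso (CommRingCat.of A)).inv ≫ (V.hom ≫ (FEt.puncturedSpec A).ι).appTop).hom.Finite ∧
    ((Scheme.ΓSpecIso (CommRingCat.of A)).inv ≫ (V.hom ≫ (FEt.puncturedSpec A).ι).appTop).hom.Etale := by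
  obtain ⟨Y, ⟨e⟩⟩ := hV
  -- a clean statement about schemes
  have key : ∀ (L W : Scheme.{u}) (g : L ⟶ Spec (CommRingCat.of A)) (_ : IsFinite g) (_ : Etale g)
      (v : W ⟶ (FEt.puncturedSpec A : Scheme.{u}))
      (ε : W ⟶ pullback g (FEt.puncturedSpec A).ι) (_ : IsIso ε)
      (_ : ε ≫ pullback.snd g (FEt.puncturedSpec A).ι = v),
      ((Scheme.ΓSpecIso (CommRingCat.of A)).inv ≫ (v ≫ (FEt.puncturedSpec A).ι).appTop).hom.Finite ∧
      ((Scheme.ΓSpecIso (CommRingCat.of A)).inv ≫ (v ≫ (FEt.puncturedSpec A).ι).appTop).hom.Etale := by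
    intro L W g _ _ v ε _ hε
    haveI : IsLocallyNoetherian L := LocallyOfFiniteType.isLocallyNoetherian g
    haveI : IsAffine L := isAffine_of_isAffineHom g
    have hreg : ∀ y : L, y ∉ Set.range (pullback.fst g (FEt.puncturedSpec A).ι) →
        Groth.Agent.Lib.Helper64.HartogsRing.HasRegPair (L.presheaf.stalk y) := by
      intro y hy
      rw [Scheme.Pullback.range_fst, Scheme.Opens.range_ι] at hy
      have hy' : g y = IsLocalRing.closedPoint A := by
        by_contra hne
        exact hy hne
      exact Groth.Agent.Lib.Helper64.HartogsRel.hasRegPair_of_flat_over_closedPoint A hA g y hy'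
    have hj := Groth.Agent.Lib.Helper64.HartogsRel.bijective_appTop_of_isOpenImmersion
      (pullback.fst g (FEt.puncturedSpec A).ι) hreg
    have hεb : Function.Bijective ε.appTop := by
      haveI : IsIso ε.appTop :=
        ⟨(inv ε).appTop, by simp [← Scheme.Hom.comp_appTop], by simp [← Scheme.Hom.comp_appTop]⟩
      exact (ConcreteCategory.isIso_iff_bijective _).1 inferInstance
    have hΓ : Function.Bijective (Scheme.ΓSpecIso (CommRingCat.of A)).inv :=
      (ConcreteCategory.isIso_iff_bijective _).1 inferInstance
    -- factorization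
    have hfac : (Scheme.ΓSpecIso (CommRingCat.of A)).inv ≫ (v ≫ (FEt.puncturedSpec A).ι).appTop =
        (Scheme.ΓSpecIso (CommRingCat.of A)).inv ≫ g.appTop ≫
          (pullback.fst g (FEt.puncturedSpec A).ι).appTop ≫ ε.appTop := by
      have : v ≫ (FEt.puncturedSpec A).ι = ε ≫ pullback.fst g (FEt.puncturedSpec A).ι ≫ g := by
        rw [← hε, Category.assoc, pullback.condition]
      rw [this, Scheme.Hom.comp_appTop, Scheme.Hom.comp_appTop]
      simp only [Category.assoc]
    rw [hfac]
    have hfin : g.appTop.hom.Finite := ((HasAffineProperty.iff_of_isAffine (P := @IsFinite)).1 ‹_›).2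
    have het : g.appTop.hom.Etale := (HasRingHomProperty.iff_of_isAffine (P := @Etale)).1 ‹_›
    have hb : Function.Bijective ((pullback.fst g (FEt.puncturedSpec A).ι).appTop ≫ ε.appTop) := by
      have : ⇑((pullback.fst g (FEt.puncturedSpec A).ι).appTop ≫ ε.appTop) =
          ⇑ε.appTop ∘ ⇑(pullback.fst g (FEt.puncturedSpec A).ι).appTop := by
        ext x; rfl
      rw [this]
      exact hεb.comp hj
    constructor
    · simp only [CommRingCat.hom_comp]
      refine RingHom.Finite.comp (RingHom.Finite.comp ?_ hfin) (RingHom.Finite.of_surjective _ hΓ.2)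
      exact RingHom.Finite.of_surjective _ hb.2
    · simp only [CommRingCat.hom_comp]
      refine RingHom.Etale.stableUnderComposition _ _
        (RingHom.Etale.of_bijective hΓ) (RingHom.Etale.stableUnderComposition _ _ het ?_)
      exact RingHom.Etale.of_bijective hb
  exact key Y.left V.left Y.hom Y.prop.1 Y.prop.2 V.hom e.inv.left
    ⟨e.hom.left, by
      constructor
      · show (e.inv ≫ e.hom).left = _
        rw [Iso.inv_hom_id]; rfl
      · show (e.hom ≫ e.inv).left = _
        rw [Iso.hom_inv_id]; rfl⟩
    (MorphismProperty.Over.w e.inv)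

end Groth.Agent.S0263
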