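import Groth.Statements.S0274
-- import your own Groth.Agent.* helpers here
import Mathlib.RingTheory.Flat.Tensor
import Mathlib.Algebra.Module.CharacterModule
import Mathlib.LinearAlgebra.TensorProduct.RightExactness
import Mathlib.LinearAlgebra.TensorProduct.Tower
import Mathlib.Tactic

set_option autoImplicit false
universe u
open scoped TensorProduct
open Pi1

namespace Groth.Agent.S0274

section aux
variable {R : Type*} [CommRing R] {A B : Type*} [AddCommGroup A] [Module R A] [AddCommGroup B]
  [Module R B]

theorem dual_app (f : A →ₗ[R] B) (L : CharacterModule B) (x : A) :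
    CharacterModule.dual f L x = L (f x) := rfl

theorem uncurry_tmul (c : A →ₗ[R] CharacterModule B) (a : A) (b : B) :
    CharacterModule.uncurry c (a ⊗ₜ[R] b) = c a b := rfl

theorem curry_app (c : CharacterModule (A ⊗[R] B)) (a : A) (b : B) :
    CharacterModule.curry c a b = c (a ⊗ₜ[R] b) := rfl

end aux

/-- A retract of a Baer module is Baer. -/
theorem baer_of_retract {R : Type*} [Ring R] {Q Q' : Type*} [AddCommGroup Q] [Module R Q]
    [AddCommGroup Q'] [Module R Q']
    (i : Q →ₗ[R] Q') (ρ : Q' →ₗ[R] Q) (hρ : ∀ x, ρ (i x) = x) (hQ' : Module.Baer R Q') :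
    Module.Baer R Q := by
  intro I g
  obtain ⟨g', hg'⟩ := hQ' I (i ∘ₗ g)
  exact ⟨ρ ∘ₗ g', fun x mem => by simp [hg' x mem, hρ]⟩

/-- Purity of `R → S` yields an `R`-linear section `σ` of the restriction of characters
`C(S) → C(R)` (we only record `σ φ 1 = φ 1`). -/
theorem exists_sigma (R S : Type u) [CommRing R] [CommRing S] [Algebra R S]
    (h : Pi1.UnivInjective R S) :
    ∃ σ : CharacterModule R →ₗ[R] CharacterModule S, ∀ φ : CharacterModule R, σ φ 1 = φ 1 := by
  have hinj := h (CharacterModule R)
  have hsurj := CharacterModule.dual_surjective_of_injective _ hinj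
  let ev : CharacterModule (CharacterModule R ⊗[R] R) := CharacterModule.uncurry (LinearMap.id)
  obtain ⟨ψ, hψ⟩ := hsurj ev
  refine ⟨CharacterModule.curry ψ, fun φ => ?_⟩
  have := congrArg (fun c => c (φ ⊗ₜ[R] (1 : R))) hψ
  simp only [dual_app, LinearMap.lTensor_tmul, Algebra.linearMap_apply, map_one, ev,
    uncurry_tmul, LinearMap.id_apply] at this
  rw [curry_app, this]

/-- The natural map `C(N) → C(S ⊗ N)` induced by `σ : C(R) → C(S)`. -/
noncomputable def aMap (R S : Type u) [CommRing R] [CommRing S] [Algebra R S]
    (σ : CharacterModule R →ₗ[R] CharacterModule S) (N : Type u) [AddCommGroup N] [Module R N] :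
    CharacterModule N →ₗ[R] CharacterModule (S ⊗[R] N) :=
  CharacterModule.dual (TensorProduct.comm R S N).toLinearMap ∘ₗ CharacterModule.uncurry ∘ₗ
    (LinearMap.compRight R σ) ∘ₗ CharacterModule.curry ∘ₗ
      CharacterModule.dual (TensorProduct.rid R N).toLinearMap

theorem aMap_tmul (R S : Type u) [CommRing R] [CommRing S] [Algebra R S]
    (σ : CharacterModule R →ₗ[R] CharacterModule S) (N : Type u) [AddCommGroup N] [Module R N]
    (χ : CharacterModule N) (s : S) (n : N) :
    aMap R S σ N χ (s ⊗ₜ[R] n) =
      σ (CharacterModule.curry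
        (CharacterModule.dual (TensorProduct.rid R N).toLinearMap χ) n) s := by
  rfl

/-- Let R -> S be universally injective and M an R-module such that S ⊗_R M is flat over S. Then M is
flat over R. -/
theorem result (R S : Type u) [CommRing R] [CommRing S] [Algebra R S]
    (h : Pi1.UnivInjective R S) (M : Type u) [AddCommGroup M] [Module R M]
    [Module.Flat S (S ⊗[R] M)] : Module.Flat R M := by
  classical
  obtain ⟨σ, hσ⟩ := exists_sigma R S h
  rw [Module.Flat.iff_characterModule_baer]
  let q : (M →₀ R) →ₗ[R] M := Finsupp.linearCombination R id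
  have hq : Function.Surjective q := Finsupp.linearCombination_id_surjective R M
  have hF : Module.Baer R (CharacterModule (M →₀ R)) :=
    Module.Flat.iff_characterModule_baer.mp inferInstance
  let qS : S ⊗[R] (M →₀ R) →ₗ[S] S ⊗[R] M := LinearMap.baseChange S q
  have hqS : Function.Surjective qS := LinearMap.lTensor_surjective S hq
  have hMS : Module.Baer S (CharacterModule (S ⊗[R] M)) :=
    Module.Flat.iff_characterModule_baer.mp inferInstance
  obtain ⟨g, hg⟩ := hMS.extension_property (CharacterModule.dual qS)
    (CharacterModule.dual_injective_of_surjective qS hqS) LinearMap.id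
  let b : CharacterModule (S ⊗[R] M) →ₗ[R] CharacterModule M :=
    CharacterModule.dual (TensorProduct.mk R S M 1)
  let gR : CharacterModule (S ⊗[R] (M →₀ R)) →ₗ[R] CharacterModule (S ⊗[R] M) :=
    { toFun := g
      map_add' := g.map_add
      map_smul' := fun r c => by
        have h1 : ∀ (N : Type u) [AddCommGroup N] [Module R N] (c : CharacterModule (S ⊗[R] N)),
            r • c = (algebraMap R S r) • c := by
          intro N _ _ c
          ext x
          rw [CharacterModule.smul_apply, CharacterModule.smul_apply, algebraMap_smul]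
        rw [h1, map_smul, RingHom.id_apply, h1] }
  refine baer_of_retract (CharacterModule.dual q) (b ∘ₗ gR ∘ₗ aMap R S σ (M →₀ R)) ?_ hF
  intro χ
  have hnat : aMap R S σ (M →₀ R) (CharacterModule.dual q χ) =
      CharacterModule.dual qS (aMap R S σ M χ) := by
    ext x
    induction x using TensorProduct.induction_on with
    | zero => simp
    | tmul s f =>
      rw [aMap_tmul, dual_app, LinearMap.baseChange_tmul, aMap_tmul]
      congr 2
      ext r
      rw [curry_app, curry_app, dual_app, dual_app, dual_app]
      simp only [LinearEquiv.coe_coe, TensorProduct.rid_tmul, map_smul]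
    | add x y hx hy => rw [map_add, map_add, hx, hy]
  have h2 : gR (CharacterModule.dual qS (aMap R S σ M χ)) = aMap R S σ M χ :=
    LinearMap.congr_fun hg _
  ext m
  simp only [LinearMap.comp_apply]
  rw [hnat, h2]
  show aMap R S σ M χ ((1 : S) ⊗ₜ[R] m) = χ m
  rw [aMap_tmul, hσ, curry_app, dual_app]
  simp

end Groth.Agent.S0274
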