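import Groth.Statements.S0275
-- import your own Groth.Agent.* helpers here
import Mathlib.LinearAlgebra.TensorProduct.RightExactness
import Mathlib.LinearAlgebra.TensorProduct.Tower
import Mathlib.RingTheory.Finiteness.Basic
import Mathlib.Tactic

set_option autoImplicit false
universe u
open scoped TensorProduct
open Pi1

namespace Groth.Agent.S0275

/-- If `S ⊗ Q = 0` and `R → S` is universally injective, then `Q = 0`. -/
theorem subsingleton_of_tensor (R S : Type u) [CommRing R] [CommRing S] [Algebra R S]
    (h : Pi1.UnivInjective R S) (Q : Type u) [AddCommGroup Q] [Module R Q]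
    [Subsingleton (S ⊗[R] Q)] : Subsingleton Q := by
  have h1 : Subsingleton (Q ⊗[R] S) := (TensorProduct.comm R Q S).toEquiv.subsingleton
  have h2 : Subsingleton (Q ⊗[R] R) := (h Q).subsingleton
  exact (TensorProduct.rid R Q).symm.toEquiv.subsingleton

/-- The key step: if `N ≤ M` is a submodule such that the elements `1 ⊗ n`, `n ∈ N`, span
`S ⊗ M` over `S`, then `N = ⊤`. -/
theorem eq_top_of_span (R S : Type u) [CommRing R] [CommRing S] [Algebra R S]
    (h : Pi1.UnivInjective R S) (M : Type u) [AddCommGroup M] [Module R M]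
    (N : Submodule R M)
    (hN : Submodule.span S ((fun m : M => (1 : S) ⊗ₜ[R] m) '' (N : Set M)) = ⊤) : N = ⊤ := by
  have hsub : Subsingleton (S ⊗[R] (M ⧸ N)) := by
    let g : S ⊗[R] M →ₗ[S] S ⊗[R] (M ⧸ N) := LinearMap.baseChange S N.mkQ
    have hg : Function.Surjective g := by
      have : Function.Surjective (LinearMap.lTensor S N.mkQ) :=
        LinearMap.lTensor_surjective S N.mkQ_surjective
      exact this
    have hker : LinearMap.ker g = ⊤ := by
      rw [eq_top_iff, ← hN, Submodule.span_le]
      rintro _ ⟨n, hn, rfl⟩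
      simp only [SetLike.mem_coe, LinearMap.mem_ker, g, LinearMap.baseChange_tmul]
      have : N.mkQ n = 0 := by simpa using hn
      rw [this, TensorProduct.tmul_zero]
    refine ⟨fun a b => ?_⟩
    obtain ⟨a', rfl⟩ := hg a
    obtain ⟨b', rfl⟩ := hg b
    have ha : a' ∈ LinearMap.ker g := hker ▸ Submodule.mem_top
    have hb : b' ∈ LinearMap.ker g := hker ▸ Submodule.mem_top
    rw [LinearMap.mem_ker.mp ha, LinearMap.mem_ker.mp hb]
  have := subsingleton_of_tensor R S h (M ⧸ N)
  exact Submodule.Quotient.subsingleton_iff.mp this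

/-- Let R -> S be universally injective and M an R-module such that S ⊗_R M is finitely generated over
S. Then M is finitely generated over R. -/
theorem result (R S : Type u) [CommRing R] [CommRing S] [Algebra R S]
    (h : Pi1.UnivInjective R S) (M : Type u) [AddCommGroup M] [Module R M]
    [Module.Finite S (S ⊗[R] M)] : Module.Finite R M := by
  classical
  have hspan : Submodule.span S (Set.range (fun m : M => (1 : S) ⊗ₜ[R] m)) = ⊤ := by
    rw [eq_top_iff]
    rintro x -
    induction x using TensorProduct.induction_on with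
    | zero => exact zero_mem _
    | tmul s m =>
      have : s ⊗ₜ[R] m = s • ((1 : S) ⊗ₜ[R] m) := by
        rw [TensorProduct.smul_tmul', smul_eq_mul, mul_one]
      rw [this]
      exact Submodule.smul_mem _ _ (Submodule.subset_span ⟨m, rfl⟩)
    | add x y hx hy => exact add_mem hx hy
  have hfg : (⊤ : Submodule S (S ⊗[R] M)).FG := Module.finite_def.mp inferInstance
  rw [← hspan] at hfg
  obtain ⟨T', hT'sub, hT'span⟩ := (Submodule.fg_span_iff_fg_span_finset_subset _).mp hfg
  rw [hspan] at hT'span
  -- choose preimages
  have hch : ∀ t ∈ T', ∃ m : M, (1 : S) ⊗ₜ[R] m = t := fun t ht => hT'sub ht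
  choose! f hf using hch
  let T : Finset M := T'.image f
  have hTN : Submodule.span R (T : Set M) = ⊤ := by
    apply eq_top_of_span R S h M
    rw [eq_top_iff, hT'span, Submodule.span_le]
    intro t ht
    apply Submodule.subset_span
    refine ⟨f t, Submodule.subset_span ?_, hf t ht⟩
    exact Finset.mem_coe.mpr (Finset.mem_image_of_mem f ht)
  exact ⟨⟨T, hTN⟩⟩

end Groth.Agent.S0275
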