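import Groth.Statements.S0276
-- import your own Groth.Agent.* helpers here
import Groth.Agent.S0275
import Mathlib.Algebra.Module.FinitePresentation
import Mathlib.RingTheory.Finiteness.Cardinality
import Mathlib.LinearAlgebra.TensorProduct.RightExactness
import Mathlib.Tactic

set_option autoImplicit false
universe u
open scoped TensorProduct
open Pi1

namespace Groth.Agent.S0276

/-- Purity lets one test membership after base change: if `1 ⊗ k` lies in the `S`-span of the
`1 ⊗ n`, `n ∈ N`, then `k ∈ N`. -/
theorem mem_of_tmul_mem_span (R S : Type u) [CommRing R] [CommRing S] [Algebra R S]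
    (h : Pi1.UnivInjective R S) (F : Type u) [AddCommGroup F] [Module R F]
    (N : Submodule R F) (k : F)
    (hk : (1 : S) ⊗ₜ[R] k ∈
      Submodule.span S ((fun m : F => (1 : S) ⊗ₜ[R] m) '' (N : Set F))) : k ∈ N := by
  let g : S ⊗[R] F →ₗ[S] S ⊗[R] (F ⧸ N) := LinearMap.baseChange S N.mkQ
  have hker : Submodule.span S ((fun m : F => (1 : S) ⊗ₜ[R] m) '' (N : Set F)) ≤
      LinearMap.ker g := by
    rw [Submodule.span_le]
    rintro _ ⟨n, hn, rfl⟩
    simp only [SetLike.mem_coe, LinearMap.mem_ker, g, LinearMap.baseChange_tmul]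
    have : N.mkQ n = 0 := by simpa using hn
    rw [this, TensorProduct.tmul_zero]
  have h1 : (1 : S) ⊗ₜ[R] (N.mkQ k) = 0 := by
    have := LinearMap.mem_ker.mp (hker hk)
    simpa only [g, LinearMap.baseChange_tmul] using this
  have h2 : (N.mkQ k) ⊗ₜ[R] (1 : S) = 0 := by
    have := congrArg (TensorProduct.comm R S (F ⧸ N)) h1
    simpa using this
  have h3 : (N.mkQ k) ⊗ₜ[R] (1 : R) = 0 := by
    apply h (F ⧸ N)
    rw [LinearMap.lTensor_tmul, map_zero, Algebra.linearMap_apply, map_one, h2]
  have h4 : N.mkQ k = 0 := by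
    have := congrArg (TensorProduct.rid R (F ⧸ N)) h3
    simpa using this
  simpa using h4

/-- Let R -> S be universally injective and M an R-module such that S ⊗_R M is finitely presented over
S. Then M is finitely presented over R. -/
theorem result (R S : Type u) [CommRing R] [CommRing S] [Algebra R S]
    (h : Pi1.UnivInjective R S) (M : Type u) [AddCommGroup M] [Module R M]
    [Module.FinitePresentation S (S ⊗[R] M)] : Module.FinitePresentation R M := by
  classical
  have : Module.Finite R M := Groth.Agent.S0275.result R S h M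
  obtain ⟨n, π, hπ⟩ := Module.Finite.exists_fin' R M
  apply Module.finitePresentation_of_free_of_surjective π hπ
  let πS : S ⊗[R] (Fin n → R) →ₗ[S] S ⊗[R] M := LinearMap.baseChange S π
  have hπS : Function.Surjective πS := LinearMap.lTensor_surjective S hπ
  have hker : (LinearMap.ker πS).FG := Module.FinitePresentation.fg_ker πS hπS
  have hkerspan : LinearMap.ker πS = Submodule.span S
      ((fun m : Fin n → R => (1 : S) ⊗ₜ[R] m) '' (LinearMap.ker π : Set (Fin n → R))) := by
    apply le_antisymm
    · intro x hx
      have hex := lTensor_exact S (LinearMap.exact_subtype_ker_map π) hπ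
      have hx' : LinearMap.lTensor S π x = 0 := LinearMap.mem_ker.mp hx
      obtain ⟨y, rfl⟩ := (hex x).mp hx'
      clear hx hx'
      induction y using TensorProduct.induction_on with
      | zero => simp
      | tmul s k =>
        have : LinearMap.lTensor S (LinearMap.ker π).subtype (s ⊗ₜ[R] k) =
            s • ((1 : S) ⊗ₜ[R] (k : Fin n → R)) := by
          rw [LinearMap.lTensor_tmul, TensorProduct.smul_tmul', smul_eq_mul, mul_one]
          rfl
        rw [this]
        exact Submodule.smul_mem _ _ (Submodule.subset_span ⟨k, k.2, rfl⟩)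
      | add x y hx hy =>
        rw [map_add]
        exact add_mem hx hy
    · rw [Submodule.span_le]
      rintro _ ⟨k, hk, rfl⟩
      have hk' : π k = 0 := LinearMap.mem_ker.mp hk
      simp only [SetLike.mem_coe, LinearMap.mem_ker, πS, LinearMap.baseChange_tmul, hk',
        TensorProduct.tmul_zero]
  rw [hkerspan] at hker
  obtain ⟨T', hT'sub, hT'span⟩ := (Submodule.fg_span_iff_fg_span_finset_subset _).mp hker
  have hch : ∀ t ∈ T', ∃ m : Fin n → R, m ∈ LinearMap.ker π ∧ (1 : S) ⊗ₜ[R] m = t :=
    fun t ht => hT'sub ht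
  choose! f hf using hch
  refine ⟨T'.image f, ?_⟩
  apply le_antisymm
  · rw [Submodule.span_le]
    intro m hm
    obtain ⟨t, ht, rfl⟩ := Finset.mem_image.mp (Finset.mem_coe.mp hm)
    exact (hf t ht).1
  · intro k hk
    apply mem_of_tmul_mem_span R S h (Fin n → R) _ k
    have h1 : (1 : S) ⊗ₜ[R] k ∈ Submodule.span S
        ((fun m : Fin n → R => (1 : S) ⊗ₜ[R] m) '' (LinearMap.ker π : Set (Fin n → R))) :=
      Submodule.subset_span ⟨k, hk, rfl⟩
    rw [hT'span] at h1
    refine Submodule.span_mono ?_ h1
    intro t ht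
    refine ⟨f t, Submodule.subset_span ?_, (hf t ht).2⟩
    exact Finset.mem_coe.mpr (Finset.mem_image_of_mem f ht)

end Groth.Agent.S0276
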