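import Groth.Statements.S0277
-- import your own Groth.Agent.* helpers here
import Groth.Agent.S0275
import Mathlib.RingTheory.FiniteType
import Mathlib.RingTheory.TensorProduct.Basic
import Mathlib.Tactic

set_option autoImplicit false
universe u
open scoped TensorProduct
open Pi1

namespace Groth.Agent.S0277

open scoped Pointwise

/-- Every element of `S ⊗ A` lies in the `S`-span of finitely many `1 ⊗ a`. -/
theorem exists_finset_span (R S : Type u) [CommRing R] [CommRing S] [Algebra R S]
    (A : Type u) [AddCommGroup A] [Module R A] (x : S ⊗[R] A) :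
    ∃ T : Finset A, x ∈ Submodule.span S ((fun a : A => (1 : S) ⊗ₜ[R] a) '' (T : Set A)) := by
  classical
  induction x using TensorProduct.induction_on with
  | zero => exact ⟨∅, zero_mem _⟩
  | tmul s a =>
    refine ⟨{a}, ?_⟩
    have : s ⊗ₜ[R] a = s • ((1 : S) ⊗ₜ[R] a) := by
      rw [TensorProduct.smul_tmul', smul_eq_mul, mul_one]
    rw [this]
    exact Submodule.smul_mem _ _ (Submodule.subset_span ⟨a, by simp, rfl⟩)
  | add x y hx hy =>
    obtain ⟨T1, h1⟩ := hx
    obtain ⟨T2, h2⟩ := hy
    refine ⟨T1 ∪ T2, add_mem ?_ ?_⟩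
    · refine Submodule.span_mono (Set.image_mono ?_) h1
      exact Finset.coe_subset.mpr Finset.subset_union_left
    · refine Submodule.span_mono (Set.image_mono ?_) h2
      exact Finset.coe_subset.mpr Finset.subset_union_right

/-- Let R -> S be universally injective and A an R-algebra such that S ⊗_R A is of finite type over S.
Then A is of finite type over R. -/
theorem result (R S : Type u) [CommRing R] [CommRing S] [Algebra R S]
    (h : Pi1.UnivInjective R S) (A : Type u) [CommRing A] [Algebra R A]
    [Algebra.FiniteType S (S ⊗[R] A)] : Algebra.FiniteType R A := by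
  classical
  obtain ⟨F, hF⟩ := (inferInstance : Algebra.FiniteType S (S ⊗[R] A)).out
  choose Tf hTf using exists_finset_span R S A
  let T : Finset A := F.biUnion Tf
  let A' : Subalgebra R A := Algebra.adjoin R (T : Set A)
  let X : Set (S ⊗[R] A) := (fun a : A => (1 : S) ⊗ₜ[R] a) '' (A' : Set A)
  have hXX : X * X ⊆ X := by
    rintro _ ⟨_, ⟨a, ha, rfl⟩, _, ⟨b, hb, rfl⟩, rfl⟩
    refine ⟨a * b, A'.mul_mem ha hb, ?_⟩
    simp [Algebra.TensorProduct.tmul_mul_tmul]
  have hmul : ∀ x y : S ⊗[R] A, x ∈ Submodule.span S X → y ∈ Submodule.span S X →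
      x * y ∈ Submodule.span S X := by
    intro x y hx hy
    have h1 : x * y ∈ Submodule.span S X * Submodule.span S X := Submodule.mul_mem_mul hx hy
    rw [Submodule.span_mul_span] at h1
    exact Submodule.span_mono hXX h1
  have hall : ∀ x ∈ Algebra.adjoin S (F : Set (S ⊗[R] A)), x ∈ Submodule.span S X := by
    intro x hx
    induction hx using Algebra.adjoin_induction with
    | mem x hx =>
      refine Submodule.span_mono (Set.image_mono ?_) (hTf x)
      intro a ha
      apply Algebra.subset_adjoin
      exact Finset.mem_coe.mpr (Finset.mem_biUnion.mpr ⟨x, hx, ha⟩)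
    | algebraMap s =>
      have : algebraMap S (S ⊗[R] A) s = s • ((1 : S) ⊗ₜ[R] (1 : A)) := by
        rw [Algebra.TensorProduct.algebraMap_apply, TensorProduct.smul_tmul', smul_eq_mul,
          mul_one]
        rfl
      rw [this]
      exact Submodule.smul_mem _ _ (Submodule.subset_span ⟨1, A'.one_mem, rfl⟩)
    | add x y _ _ hx hy => exact add_mem hx hy
    | mul x y _ _ hx hy => exact hmul x y hx hy
  have htop : Submodule.span S X = ⊤ := by
    rw [eq_top_iff]
    rintro x -
    apply hall
    rw [hF]
    exact Algebra.mem_top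
  have h1 : Subalgebra.toSubmodule A' = ⊤ :=
    Groth.Agent.S0275.eq_top_of_span R S h A (Subalgebra.toSubmodule A') htop
  have h2 : A' = ⊤ := by
    rw [eq_top_iff]
    intro a _
    have : a ∈ Subalgebra.toSubmodule A' := h1 ▸ Submodule.mem_top
    exact this
  exact ⟨⟨T, h2⟩⟩

end Groth.Agent.S0277
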