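import Groth.Statements.S0278
-- import your own Groth.Agent.* helpers here
import Groth.Agent.S0276
import Groth.Agent.S0277
import Mathlib.RingTheory.FinitePresentation
import Mathlib.RingTheory.FiniteStability
import Mathlib.Tactic

set_option autoImplicit false
universe u
open scoped TensorProduct
open Pi1

namespace Groth.Agent.S0278

/-- The kernel of the base change of a surjective linear map is spanned by `1 ⊗ k`, `k` in the
kernel. -/
theorem ker_baseChange_eq_span (R S : Type u) [CommRing R] [CommRing S] [Algebra R S]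
    {F M : Type u} [AddCommGroup F] [Module R F] [AddCommGroup M] [Module R M]
    (π : F →ₗ[R] M) (hπ : Function.Surjective π) :
    LinearMap.ker (LinearMap.baseChange S π) = Submodule.span S
      ((fun m : F => (1 : S) ⊗ₜ[R] m) '' (LinearMap.ker π : Set F)) := by
  apply le_antisymm
  · intro x hx
    have hex := lTensor_exact S (LinearMap.exact_subtype_ker_map π) hπ
    have hx' : LinearMap.lTensor S π x = 0 := LinearMap.mem_ker.mp hx
    obtain ⟨y, rfl⟩ := (hex x).mp hx'
    clear hx hx'
    induction y using TensorProduct.induction_on with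
    | zero => simp
    | tmul s k =>
      have : LinearMap.lTensor S (LinearMap.ker π).subtype (s ⊗ₜ[R] k) =
          s • ((1 : S) ⊗ₜ[R] (k : F)) := by
        rw [LinearMap.lTensor_tmul, TensorProduct.smul_tmul', smul_eq_mul, mul_one]
        rfl
      rw [this]
      exact Submodule.smul_mem _ _ (Submodule.subset_span ⟨k, k.2, rfl⟩)
    | add x y hx hy =>
      rw [map_add]
      exact add_mem hx hy
  · rw [Submodule.span_le]
    rintro _ ⟨k, hk, rfl⟩
    have hk' : π k = 0 := LinearMap.mem_ker.mp hk
    simp only [SetLike.mem_coe, LinearMap.mem_ker, LinearMap.baseChange_tmul, hk',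
      TensorProduct.tmul_zero]

/-- The `S`-span of `1 ⊗ J`, for `J` an ideal of `P`, is stable under multiplication by
`S ⊗ P`. -/
theorem mul_mem_span (R S : Type u) [CommRing R] [CommRing S] [Algebra R S]
    (P : Type u) [CommRing P] [Algebra R P] (J : Ideal P) (a x : S ⊗[R] P)
    (hx : x ∈ Submodule.span S ((fun m : P => (1 : S) ⊗ₜ[R] m) '' (J : Set P))) :
    a * x ∈ Submodule.span S ((fun m : P => (1 : S) ⊗ₜ[R] m) '' (J : Set P)) := by
  induction a using TensorProduct.induction_on with
  | zero => simp
  | add a b ha hb =>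
    rw [add_mul]
    exact add_mem ha hb
  | tmul s p =>
    induction hx using Submodule.span_induction with
    | mem x hx =>
      obtain ⟨i, hi, rfl⟩ := hx
      have : s ⊗ₜ[R] p * (1 : S) ⊗ₜ[R] i = s • ((1 : S) ⊗ₜ[R] (p * i)) := by
        rw [Algebra.TensorProduct.tmul_mul_tmul, mul_one, TensorProduct.smul_tmul', smul_eq_mul,
          mul_one]
      rw [this]
      exact Submodule.smul_mem _ _ (Submodule.subset_span ⟨p * i, J.mul_mem_left p hi, rfl⟩)
    | zero => simp
    | add x y _ _ hx hy =>
      rw [mul_add]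
      exact add_mem hx hy
    | smul s' x _ hx =>
      rw [mul_smul_comm]
      exact Submodule.smul_mem _ _ hx

/-- Let R -> S be universally injective and A an R-algebra such that S ⊗_R A is of finite presentation
over S. Then A is of finite presentation over R. -/
theorem result (R S : Type u) [CommRing R] [CommRing S] [Algebra R S]
    (h : Pi1.UnivInjective R S) (A : Type u) [CommRing A] [Algebra R A]
    [Algebra.FinitePresentation S (S ⊗[R] A)] : Algebra.FinitePresentation R A := by
  classical
  have hft : Algebra.FiniteType R A := Groth.Agent.S0277.result R S h A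
  obtain ⟨n, f, hf⟩ := Algebra.FiniteType.iff_quotient_mvPolynomial''.mp hft
  let fT : S ⊗[R] MvPolynomial (Fin n) R →ₐ[S] S ⊗[R] A :=
    Algebra.TensorProduct.map (AlgHom.id S S) f
  have hfTapply : ∀ x, fT x = LinearMap.baseChange S f.toLinearMap x := by
    intro x
    induction x using TensorProduct.induction_on with
    | zero => simp
    | tmul s p => simp [fT]
    | add x y hx hy => rw [map_add, map_add, hx, hy]
  have hfT : Function.Surjective fT := by
    intro y
    obtain ⟨x, hx⟩ := LinearMap.lTensor_surjective S (g := f.toLinearMap) hf y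
    exact ⟨x, (hfTapply x).trans hx⟩
  have hkerFG : (RingHom.ker fT.toRingHom).FG :=
    Algebra.FinitePresentation.ker_fG_of_surjective fT hfT
  have hker_eq : ∀ x : S ⊗[R] MvPolynomial (Fin n) R, x ∈ RingHom.ker fT.toRingHom ↔
      x ∈ Submodule.span S ((fun m : MvPolynomial (Fin n) R => (1 : S) ⊗ₜ[R] m) ''
        ((RingHom.ker f.toRingHom : Ideal (MvPolynomial (Fin n) R)) :
          Set (MvPolynomial (Fin n) R))) := by
    intro x
    have h1 := ker_baseChange_eq_span R S f.toLinearMap hf
    have h2 : (LinearMap.ker f.toLinearMap : Set (MvPolynomial (Fin n) R)) =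
        ((RingHom.ker f.toRingHom : Ideal (MvPolynomial (Fin n) R)) :
          Set (MvPolynomial (Fin n) R)) := by
      ext p
      simp [RingHom.mem_ker]
    rw [← h2, ← h1, LinearMap.mem_ker, ← hfTapply, RingHom.mem_ker]
    rfl
  obtain ⟨G, hG⟩ := hkerFG
  have hch : ∀ g ∈ G, ∃ T : Finset (MvPolynomial (Fin n) R),
      (T : Set (MvPolynomial (Fin n) R)) ⊆
        ((RingHom.ker f.toRingHom : Ideal (MvPolynomial (Fin n) R)) :
          Set (MvPolynomial (Fin n) R)) ∧
      g ∈ Submodule.span S ((fun m : MvPolynomial (Fin n) R => (1 : S) ⊗ₜ[R] m) ''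
        (T : Set (MvPolynomial (Fin n) R))) := by
    intro g hg
    have hgk : g ∈ RingHom.ker fT.toRingHom := by
      rw [← hG]
      exact Ideal.subset_span hg
    obtain ⟨T', hT'sub, hgT'⟩ := Submodule.mem_span_finite_of_mem_span ((hker_eq g).mp hgk)
    obtain ⟨T, hTsub, rfl⟩ := Finset.subset_set_image_iff.mp hT'sub
    refine ⟨T, hTsub, ?_⟩
    rwa [Finset.coe_image] at hgT'
  choose! Tg hTg using hch
  let T : Finset (MvPolynomial (Fin n) R) := G.biUnion Tg
  have hTsub : ∀ g ∈ G, (Tg g : Set (MvPolynomial (Fin n) R)) ⊆ (T : Set _) := by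
    intro g hg t ht
    exact Finset.mem_coe.mpr (Finset.mem_biUnion.mpr ⟨g, hg, ht⟩)
  have hI'le : Ideal.span (T : Set (MvPolynomial (Fin n) R)) ≤ RingHom.ker f.toRingHom := by
    rw [Ideal.span_le]
    intro t ht
    obtain ⟨g, hg, htg⟩ := Finset.mem_biUnion.mp (Finset.mem_coe.mp ht)
    exact (hTg g hg).1 htg
  have hall : ∀ x ∈ Ideal.span (G : Set (S ⊗[R] MvPolynomial (Fin n) R)),
      x ∈ Submodule.span S ((fun m : MvPolynomial (Fin n) R => (1 : S) ⊗ₜ[R] m) ''
        ((Ideal.span (T : Set (MvPolynomial (Fin n) R)) : Ideal _) : Set _)) := by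
    intro x hx
    induction hx using Submodule.span_induction with
    | mem g hg =>
      refine Submodule.span_mono (Set.image_mono ?_) (hTg g hg).2
      exact (hTsub g hg).trans Ideal.subset_span
    | zero => exact zero_mem _
    | add x y _ _ hx hy => exact add_mem hx hy
    | smul a x _ hx => exact mul_mem_span R S _ _ a x hx
  have hle : RingHom.ker f.toRingHom ≤ Ideal.span (T : Set (MvPolynomial (Fin n) R)) := by
    intro k hk
    have hk1 : (1 : S) ⊗ₜ[R] k ∈ RingHom.ker fT.toRingHom := by
      rw [hker_eq]
      exact Submodule.subset_span ⟨k, hk, rfl⟩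
    rw [← hG] at hk1
    have hk2 := hall _ hk1
    exact Groth.Agent.S0276.mem_of_tmul_mem_span R S h (MvPolynomial (Fin n) R)
      ((Ideal.span (T : Set (MvPolynomial (Fin n) R))).restrictScalars R) k hk2
  have hFG : (RingHom.ker f.toRingHom).FG := ⟨T, le_antisymm hI'le hle⟩
  exact Algebra.FinitePresentation.of_surjective hf hFG

end Groth.Agent.S0278
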