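import Groth.Statements.S0279
-- import your own Groth.Agent.* helpers here
import Groth.Agent.S0274
import Groth.Agent.S0275
import Groth.Agent.S0278
import Mathlib.RingTheory.Smooth.Fiber
import Mathlib.RingTheory.Smooth.Flat
import Mathlib.RingTheory.Kaehler.TensorProduct
import Mathlib.RingTheory.Etale.Basic

set_option autoImplicit false
universe u
open scoped TensorProduct
open Pi1

namespace Groth.Agent.S0279

/-- Let R → S be a universally injective ring map and A an R-algebra such that S ⊗_R A is étale over S.
Then A is étale over R. -/
theorem result (R S : Type u) [CommRing R] [CommRing S] [Algebra R S]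
    (h : Pi1.UnivInjective R S) (A : Type u) [CommRing A] [Algebra R A]
    [Algebra.Etale S (S ⊗[R] A)] : Algebra.Etale R A := by
  have hfpS : Algebra.FinitePresentation S (S ⊗[R] A) := inferInstance
  have hfp : Algebra.FinitePresentation R A := Groth.Agent.S0278.result R S h A
  have hflatS : Module.Flat S (S ⊗[R] A) := inferInstance
  have hflat : Module.Flat R A := Groth.Agent.S0274.result R S h A
  have hunr : Algebra.FormallyUnramified R A := by
    constructor
    let _ : Algebra A (S ⊗[R] A) := Algebra.TensorProduct.rightAlgebra
    have : Subsingleton (S ⊗[R] Ω[A⁄R]) :=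
      (KaehlerDifferential.tensorKaehlerEquivBase R S A (S ⊗[R] A)).subsingleton
    exact Groth.Agent.S0275.subsingleton_of_tensor R S h Ω[A⁄R]
  exact Algebra.Etale.of_formallyUnramified_of_flat

end Groth.Agent.S0279
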