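import Groth.Statements.S0283
import Groth.Agent.Lib.Helper57.UnivHomeo

set_option autoImplicit false
universe u
open Pi1

namespace Groth.Agent.S0283

open AlgebraicGeometry CategoryTheory CategoryTheory.Limits in
/-- Let f : X → Y be a morphism of schemes which is integral, universally injective and surjective (that
is, a universal homeomorphism). Then base change along f, from finite étale covers of Y to finite
étale covers of X, is a full and faithful functor. -/
theorem result {X Y : Scheme.{u}} (f : X ⟶ Y) [IsIntegralHom f] [UniversallyInjective f] [Surjective f] :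
    (FEt.restrict f).Full ∧ (FEt.restrict f).Faithful := by
  have hth : Groth.Agent.Lib.Helper57.UnivHomeo.IsUH f := ⟨inferInstance, inferInstance, inferInstance⟩
  have hmap : ∀ {A B : FEt.Cat Y} (φ : A ⟶ B), ((FEt.restrict f).map φ).left ≫ pullback.fst B.hom f =
      pullback.fst A.hom f ≫ φ.left := fun φ => pullback.lift_fst _ _ _
  have hmap2 : ∀ {A B : FEt.Cat Y} (φ : A ⟶ B), ((FEt.restrict f).map φ).left ≫ pullback.snd B.hom f =
      pullback.snd A.hom f := fun φ => pullback.lift_snd _ _ _
  constructor
  · constructor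
    intro A B ψ
    have hj : Groth.Agent.Lib.Helper57.UnivHomeo.IsUH (pullback.fst A.hom f) :=
      hth.baseChange (IsPullback.of_hasPullback A.hom f).flip
    have : Etale B.hom := B.prop.2
    obtain ⟨ψ', hψ'⟩ : ∃ ψ' : pullback A.hom f ⟶ pullback B.hom f, ψ' = ψ.left := ⟨ψ.left, rfl⟩
    have hψ : ψ' ≫ pullback.snd B.hom f = pullback.snd A.hom f :=
      (congrArg (· ≫ pullback.snd B.hom f) hψ').trans (MorphismProperty.Over.w ψ)
    have hab : pullback.fst A.hom f ≫ A.hom = (ψ' ≫ pullback.fst B.hom f) ≫ B.hom := by
      rw [Category.assoc, pullback.condition (f := B.hom), ← Category.assoc, hψ,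
        pullback.condition]
    obtain ⟨l, ⟨hl1, hl2⟩, -⟩ := Groth.Agent.Lib.Helper57.UnivHomeo.existsUnique_lift_uh B.hom
      (pullback.fst A.hom f) hj (ψ' ≫ pullback.fst B.hom f) A.hom hab
    refine ⟨MorphismProperty.Over.homMk l hl2, ?_⟩
    apply MorphismProperty.Over.Hom.ext
    refine Eq.trans ?_ hψ'
    refine pullback.hom_ext (f := B.hom) (g := f) ?_ ?_
    · exact (hmap (MorphismProperty.Over.homMk l hl2)).trans hl1
    · exact (hmap2 (MorphismProperty.Over.homMk l hl2)).trans hψ.symm
  · constructor
    intro A B φ₁ φ₂ h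
    have hj : Groth.Agent.Lib.Helper57.UnivHomeo.IsUH (pullback.fst A.hom f) :=
      hth.baseChange (IsPullback.of_hasPullback A.hom f).flip
    have hjs : Surjective (pullback.fst A.hom f) := hj.3
    have : Etale B.hom := B.prop.2
    have h' : pullback.fst A.hom f ≫ φ₁.left = pullback.fst A.hom f ≫ φ₂.left :=
      (hmap φ₁).symm.trans ((congrArg (fun m => (CommaMorphism.left (MorphismProperty.Comma.Hom.hom m)) ≫
        pullback.fst B.hom f) h).trans (hmap φ₂))
    apply MorphismProperty.Over.Hom.ext
    apply Groth.Agent.Lib.Helper57.FlatThick.eq_of_surjective_comp_eq B.hom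
      (pullback.fst A.hom f) _ _ h'
    exact (MorphismProperty.Over.w φ₁).trans (MorphismProperty.Over.w φ₂).symm

end Groth.Agent.S0283
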