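import Groth.Statements.S0286
import Mathlib
import Groth.Agent.Lib.Helper46.RadFEt

set_option autoImplicit false
set_option linter.style.haveILetI false
universe u
open Pi1

namespace Groth.Agent.S0286

open AlgebraicGeometry CategoryTheory CategoryTheory.Limits in
/-- `Spec` of a `p`-radical homomorphism of fields is universally injective. -/
theorem universallyInjective_of_isPRadical {K L : Type u} [Field K] [Field L] (p : ℕ)
    [Fact p.Prime] [CharP K p] (i : K →+* L) [IsPRadical i p] :
    UniversallyInjective (Spec.map (CommRingCat.ofHom i)) := by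
  refine ((tfae_universallyInjective (f := Spec.map (CommRingCat.ofHom i))).out 0 1).mpr ?_
  intro M _ g₁ g₂ hg
  dsimp only at hg
  obtain ⟨φ₁, rfl⟩ := Spec.map_surjective g₁
  obtain ⟨φ₂, rfl⟩ := Spec.map_surjective g₂
  rw [← Spec.map_comp, ← Spec.map_comp] at hg
  have hφ := Spec.map_injective hg
  congr 1
  ext x
  haveI : CharP L p := charP_of_injective_ringHom i.injective p
  haveI : CharP M p := charP_of_injective_ringHom φ₁.hom.injective p
  haveI : ExpChar M p := ExpChar.prime (Fact.out)
  obtain ⟨n, y, hy⟩ := IsPRadical.pow_mem i p x
  have h1 : φ₁.hom (i y) = φ₂.hom (i y) := by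
    have := congrArg (fun ψ => ψ.hom y) hφ
    exact this
  rw [hy, map_pow, map_pow] at h1
  apply iterateFrobenius_inj M p n
  rw [iterateFrobenius_def, iterateFrobenius_def]
  exact h1

open AlgebraicGeometry CategoryTheory CategoryTheory.Limits in
/-- For a scheme X over a field k of characteristic p (p a prime), pulling back finite étale covers
along the projection X ×_{Spec k} Spec(k^perf) → X, where k^perf is the perfect closure of k, is an
equivalence of categories. -/
theorem result (k : Type u) [Field k] (p : ℕ) [Fact p.Prime] [CharP k p] {X : Scheme.{u}}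
    (f : X ⟶ Spec (CommRingCat.of k)) :
    (FEt.restrict (pullback.fst f
      (Spec.map (CommRingCat.ofHom (PerfectClosure.of k p))))).IsEquivalence := by
  obtain ⟨c, hc⟩ : ∃ c : Spec (CommRingCat.of (PerfectClosure k p)) ⟶ Spec (CommRingCat.of k),
    c = Spec.map (CommRingCat.ofHom (PerfectClosure.of k p)) := ⟨_, rfl⟩
  rw [← hc]
  have hff : (CommRingCat.ofHom (PerfectClosure.of k p)).hom.FaithfullyFlat := by
    change (PerfectClosure.of k p).FaithfullyFlat
    letI := (PerfectClosure.of k p).toAlgebra
    change (algebraMap k (PerfectClosure k p)).FaithfullyFlat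
    exact RingHom.faithfullyFlat_algebraMap_iff.mpr inferInstance
  have hfs := (flat_and_surjective_SpecMap_iff _).mpr hff
  haveI : Flat c := by rw [hc]; exact hfs.1
  haveI : Surjective c := by rw [hc]; exact hfs.2
  haveI : QuasiCompact c := by rw [hc]; infer_instance
  haveI : UniversallyInjective c := by
    rw [hc]; exact universallyInjective_of_isPRadical p (PerfectClosure.of k p)
  haveI : UniversallyInjective (pullback.fst f c) :=
    MorphismProperty.pullback_fst (P := @UniversallyInjective) f c inferInstance
  exact Groth.Agent.Lib.Helper46.RadFEt.restrict_isEquivalence (pullback.fst f c)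

end Groth.Agent.S0286
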