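import Groth.Statements.S0291
import Mathlib
import Groth.Agent.Lib.Helper64.HartogsRel

set_option autoImplicit false
universe u
open Pi1

namespace Groth.Agent.S0291


open AlgebraicGeometry CategoryTheory CategoryTheory.Limits in
/-- Let A be a Noetherian local ring and B a finite A-algebra such that the local rings of Spec B at all
closed points have depth at least 2. Then restriction from global sections of Spec B to sections
over the preimage of the punctured spectrum of A is an isomorphism. -/
theorem result (A B : Type u) [CommRing A] [IsNoetherianRing A] [IsLocalRing A] [CommRing B] [Algebra A B]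
    [Module.Finite A B]
    (h : ∀ (m : Ideal B) (_ : m.IsMaximal), (2 : ℕ∞) ≤ LocCoh.depth (Localization.AtPrime m) (Localization.AtPrime m)) :
    IsIso ((Spec (CommRingCat.of B)).presheaf.map (homOfLE (le_top :
      Spec.map (CommRingCat.ofHom (algebraMap A B)) ⁻¹ᵁ FEt.puncturedSpec A ≤ ⊤)).op) := by
  haveI : IsNoetherianRing B := IsNoetherianRing.of_finite A B
  haveI : Algebra.IsIntegral A B := Algebra.IsIntegral.of_finite A B
  have hreg : ∀ x : (Spec (CommRingCat.of B)),
      x ∉ (Spec.map (CommRingCat.ofHom (algebraMap A B)) ⁻¹ᵁ FEt.puncturedSpec A) →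
      Groth.Agent.Lib.Helper64.HartogsRing.HasRegPair ((Spec (CommRingCat.of B)).presheaf.stalk x) := by
    intro x hx
    have hx' : (Spec.map (CommRingCat.ofHom (algebraMap A B))) x = IsLocalRing.closedPoint A := by
      by_contra hne
      exact hx hne
    have hcomap : x.asIdeal.comap (algebraMap A B) = IsLocalRing.maximalIdeal A :=
      congrArg PrimeSpectrum.asIdeal hx'
    have hmax : x.asIdeal.IsMaximal := by
      have hm : (x.asIdeal.comap (algebraMap A B)).IsMaximal := by
        rw [hcomap]; infer_instance
      exact Ideal.isMaximal_of_isIntegral_of_isMaximal_comap (R := A) (S := B) x.asIdeal hm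
    have h1 := Groth.Agent.Lib.Helper64.HartogsRel.hasWRegPair_of_two_le_depth (h x.asIdeal hmax)
    letI k : Algebra B ((Spec (CommRingCat.of B)).presheaf.stalk x) :=
      StructureSheaf.stalkAlgebra B x
    haveI hloc : IsLocalization.AtPrime ((Spec (CommRingCat.of B)).presheaf.stalk x) x.asIdeal :=
      StructureSheaf.IsLocalization.to_stalk B x
    exact Groth.Agent.Lib.Helper64.HartogsRel.HasRegPair.of_ringEquiv
      (IsLocalization.algEquiv x.asIdeal.primeCompl (Localization.AtPrime x.asIdeal)
        ((Spec (CommRingCat.of B)).presheaf.stalk x)).toRingEquiv h1.hasRegPair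
  have hb := Groth.Agent.Lib.Helper64.HartogsRing.bijective_res
    (Spec.map (CommRingCat.ofHom (algebraMap A B)) ⁻¹ᵁ FEt.puncturedSpec A) hreg
    (le_top : Spec.map (CommRingCat.ofHom (algebraMap A B)) ⁻¹ᵁ FEt.puncturedSpec A ≤ ⊤)
    (by simp)
  exact (ConcreteCategory.isIso_iff_bijective _).2 hb

end Groth.Agent.S0291
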