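import Groth.Statements.S0300
import Mathlib.Algebra.Module.Injective
import Mathlib.Algebra.DirectSum.Module
import Mathlib.RingTheory.Noetherian.Defs

set_option autoImplicit false
universe u v
open InjHull

namespace Groth.Agent.S0300

/-- Over a Noetherian ring, injectivity of modules is preserved under arbitrary direct sums. -/
theorem result (R : Type u) [CommRing R] [IsNoetherianRing R] {ι : Type u} (E : ι → Type u) [∀ i, AddCommGroup (E i)] [∀ i, Module R (E i)] (hE : ∀ i, Module.Injective R (E i)) : Module.Injective R (DirectSum ι E) := by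
  classical
  apply Module.Baer.injective
  intro J g
  obtain ⟨s, hs⟩ := (IsNoetherian.noetherian J : J.FG)
  have hsJ : ∀ x ∈ s, x ∈ J := fun x hx => hs ▸ Submodule.subset_span hx
  let S : Finset ι := s.attach.biUnion fun x => DFinsupp.support (g ⟨x.1, hsJ x.1 x.2⟩)
  have hS : ∀ (x : R) (hx : x ∈ J) (i : ι), i ∉ S → (g ⟨x, hx⟩) i = 0 := by
    intro x hx i hi
    have hx' : x ∈ Submodule.span R (s : Set R) := hs ▸ hx
    have key : ∀ (y : R) (hy : y ∈ Submodule.span R (s : Set R)),
        (g ⟨y, hs ▸ hy⟩) i = 0 := by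
      intro y hy
      induction hy using Submodule.span_induction with
      | mem y hy =>
        by_contra hne
        apply hi
        rw [Finset.mem_biUnion]
        exact ⟨⟨y, hy⟩, Finset.mem_attach _ _, DFinsupp.mem_support_iff.mpr hne⟩
      | zero =>
        have : (⟨0, hs ▸ Submodule.zero_mem _⟩ : J) = 0 := rfl
        rw [this, map_zero]
        rfl
      | add y z hy hz ihy ihz =>
        have : (⟨y + z, hs ▸ Submodule.add_mem _ hy hz⟩ : J) =
            ⟨y, hs ▸ hy⟩ + ⟨z, hs ▸ hz⟩ := rfl
        rw [this, map_add, DirectSum.add_apply, ihy, ihz, add_zero]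
      | smul a y hy ihy =>
        have : (⟨a • y, hs ▸ Submodule.smul_mem _ a hy⟩ : J) = a • ⟨y, hs ▸ hy⟩ := rfl
        rw [this, map_smul, DirectSum.smul_apply, ihy, smul_zero]
    exact key x hx'
  have hB : ∀ i, Module.Baer R (E i) := fun i => Module.Baer.of_injective (hE i)
  choose h hh using fun i => hB i J ((DirectSum.component R ι E i) ∘ₗ g)
  refine ⟨∑ i ∈ S, (DirectSum.lof R ι E i) ∘ₗ h i, ?_⟩
  intro x hx
  apply DFinsupp.ext
  intro j
  rw [LinearMap.sum_apply]
  simp only [LinearMap.comp_apply, hh _ x hx]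
  rw [DFinsupp.finset_sum_apply]
  simp only [DirectSum.lof_eq_of, DirectSum.of_apply]
  by_cases hj : j ∈ S
  · rw [Finset.sum_eq_single j]
    · simp only [DirectSum.component, ↓reduceDIte]
      rfl
    · intro i _ hij
      simp [hij]
    · intro h'
      exact absurd hj h'
  · rw [hS x hx j hj]
    apply Finset.sum_eq_zero
    intro i hi
    have : i ≠ j := fun h' => hj (h' ▸ hi)
    simp [this]

end Groth.Agent.S0300
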