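import Groth.Statements.S0301
import Mathlib.Algebra.Module.Injective
import Mathlib.RingTheory.Filtration
import Mathlib.RingTheory.Noetherian.Defs

set_option autoImplicit false
universe u v
open InjHull

namespace Groth.Agent.S0301

/-- Over a Noetherian ring, the submodule of an injective module consisting of the elements killed by
some power of a given ideal is again injective. -/
theorem result (R : Type u) [CommRing R] [IsNoetherianRing R] (I : Type u) [AddCommGroup I] [Module R I] (hI : Module.Injective R I) (J : Ideal R) : Module.Injective R ↥(⨆ n : ℕ, Submodule.torsionBySet R I ((J ^ n : Ideal R) : Set R)) := by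
  classical
  set Tn : ℕ → Submodule R I := fun n => Submodule.torsionBySet R I ((J ^ n : Ideal R) : Set R)
    with hTn
  have hTmem : ∀ (n : ℕ) (x : I), x ∈ Tn n ↔
      ∀ a : ((J ^ n : Ideal R) : Set R), (a : R) • x = 0 :=
    fun n x => Submodule.mem_torsionBySet_iff _ _
  have hmono : Monotone Tn := by
    intro a b hab x hx
    rw [hTmem] at hx ⊢
    intro r
    exact hx ⟨r.1, Ideal.pow_le_pow_right hab r.2⟩
  have hmemT : ∀ x : I, x ∈ (⨆ n, Tn n) ↔ ∃ n, x ∈ Tn n :=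
    fun x => Submodule.mem_iSup_of_directed _ hmono.directed_le
  apply Module.Baer.injective
  intro 𝔞 g
  obtain ⟨s, hs⟩ := (IsNoetherian.noetherian 𝔞 : 𝔞.FG)
  have hs𝔞 : ∀ x ∈ s, x ∈ 𝔞 := fun x hx => hs ▸ Submodule.subset_span hx
  have hex : ∀ x : s, ∃ n, ((g ⟨x.1, hs𝔞 x.1 x.2⟩ : ↥(⨆ n, Tn n)) : I) ∈ Tn n :=
    fun x => (hmemT _).mp (g ⟨x.1, hs𝔞 x.1 x.2⟩).2
  choose nx hnx using hex
  let n : ℕ := s.attach.sup nx
  have hgn : ∀ (y : R) (hy : y ∈ 𝔞), ((g ⟨y, hy⟩ : ↥(⨆ n, Tn n)) : I) ∈ Tn n := by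
    intro y hy
    have hy' : y ∈ Submodule.span R (s : Set R) := hs ▸ hy
    have key : ∀ (z : R) (hz : z ∈ Submodule.span R (s : Set R)),
        ((g ⟨z, hs ▸ hz⟩ : ↥(⨆ n, Tn n)) : I) ∈ Tn n := by
      intro z hz
      induction hz using Submodule.span_induction with
      | mem z hz =>
        exact hmono (Finset.le_sup (f := nx) (Finset.mem_attach s ⟨z, hz⟩)) (hnx ⟨z, hz⟩)
      | zero =>
        have : (⟨0, hs ▸ Submodule.zero_mem _⟩ : 𝔞) = 0 := rfl
        rw [this, map_zero]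
        exact (Tn n).zero_mem
      | add a b ha hb iha ihb =>
        have : (⟨a + b, hs ▸ Submodule.add_mem _ ha hb⟩ : 𝔞) =
            ⟨a, hs ▸ ha⟩ + ⟨b, hs ▸ hb⟩ := rfl
        rw [this, map_add]
        exact (Tn n).add_mem iha ihb
      | smul c a ha iha =>
        have : (⟨c • a, hs ▸ Submodule.smul_mem _ c ha⟩ : 𝔞) = c • ⟨a, hs ▸ ha⟩ := rfl
        rw [this, map_smul]
        exact (Tn n).smul_mem c iha
    exact key y hy'
  let g₁ : 𝔞 →ₗ[R] I := (⨆ n, Tn n).subtype ∘ₗ g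
  have hkill : ∀ y : 𝔞, y ∈ (J ^ n) • (⊤ : Submodule R 𝔞) → g₁ y = 0 := by
    intro y hy
    refine Submodule.smul_induction_on hy ?_ ?_
    · intro a ha y _
      change ((g (a • y) : ↥(⨆ n, Tn n)) : I) = 0
      rw [map_smul]
      exact (hTmem _ _).mp (hgn y.1 y.2) ⟨a, ha⟩
    · intro a b ha hb
      rw [map_add, ha, hb, add_zero]
  obtain ⟨k, hk⟩ := Ideal.exists_pow_inf_eq_pow_smul J (𝔞 : Submodule R R)
  let m := n + k
  have hAR : ∀ z : R, z ∈ J ^ m → z ∈ 𝔞 → z ∈ (J ^ n) • (𝔞 : Submodule R R) := by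
    intro z hzJ hz𝔞
    have h1 : z ∈ (J ^ m • (⊤ : Submodule R R) ⊓ (𝔞 : Submodule R R)) := by
      refine ⟨?_, hz𝔞⟩
      rw [Ideal.smul_top_eq_map]
      simpa using hzJ
    rw [hk m (Nat.le_add_left k n)] at h1
    have h2 : m - k = n := Nat.add_sub_cancel n k
    rw [h2] at h1
    exact Submodule.smul_mono le_rfl inf_le_right h1
  let K : Submodule R 𝔞 := Submodule.comap 𝔞.subtype (J ^ m)
  have hK : K ≤ LinearMap.ker g₁ := by
    intro y hy
    rw [LinearMap.mem_ker]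
    apply hkill
    rw [Submodule.mem_smul_top_iff]
    exact hAR y.1 hy y.2
  let j : (𝔞 ⧸ K) →ₗ[R] (R ⧸ (J ^ m : Ideal R)) :=
    K.mapQ (J ^ m : Ideal R) 𝔞.subtype le_rfl
  have hj : Function.Injective j := by
    rw [← LinearMap.ker_eq_bot, Submodule.eq_bot_iff]
    intro x hx
    obtain ⟨y, rfl⟩ := Submodule.Quotient.mk_surjective K x
    rw [LinearMap.mem_ker] at hx
    change Submodule.Quotient.mk (p := (J ^ m : Ideal R)) (y : R) = 0 at hx
    rw [Submodule.Quotient.mk_eq_zero] at hx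
    exact (Submodule.Quotient.mk_eq_zero K).mpr hx
  obtain ⟨ψ, hψ⟩ := Module.Injective.extension_property R I (𝔞 ⧸ K) (R ⧸ (J ^ m : Ideal R)) j hj
    (K.liftQ g₁ hK)
  have hψmem : ∀ r : R, ψ (Submodule.Quotient.mk r) ∈ (⨆ n, Tn n) := by
    intro r
    rw [hmemT]
    refine ⟨m, ?_⟩
    rw [hTmem]
    rintro ⟨a, ha⟩
    change a • ψ (Submodule.Quotient.mk r) = 0
    rw [← map_smul, ← Submodule.Quotient.mk_smul]
    have : Submodule.Quotient.mk (p := (J ^ m : Ideal R)) (a • r) = 0 := by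
      rw [Submodule.Quotient.mk_eq_zero]
      exact Ideal.mul_mem_right _ _ ha
    rw [this, map_zero]
  refine ⟨LinearMap.codRestrict (⨆ n, Tn n) (ψ ∘ₗ (J ^ m : Ideal R).mkQ) hψmem, ?_⟩
  intro x hx
  apply Subtype.ext
  change ψ (Submodule.Quotient.mk x) = g₁ ⟨x, hx⟩
  have := LinearMap.congr_fun hψ (Submodule.Quotient.mk ⟨x, hx⟩)
  simp only [LinearMap.comp_apply] at this
  rw [Submodule.liftQ_apply] at this
  rw [← this]
  rfl

end Groth.Agent.S0301
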