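import Groth.Statements.S0304
import Groth.Agent.Lib.Helper27.InjHull

set_option autoImplicit false
universe u v
open InjHull

namespace Groth.Agent.S0304

/-- Let R be a commutative ring and E an indecomposable injective R-module. Then any two nonzero
submodules of E have nonzero intersection, and the set of elements r ∈ R such that r·x = 0 for some
nonzero x ∈ E is a prime ideal of R. -/
theorem result (R : Type u) [CommRing R] (E : Type u) [AddCommGroup E] [Module R E] (hE : InjHull.IsIndecomposable R E) (hinj : Module.Injective R E) : (∀ N N' : Submodule R E, N ≠ ⊥ → N' ≠ ⊥ → N ⊓ N' ≠ ⊥) ∧ ∃ p : Ideal R, p.IsPrime ∧ (p : Set R) = {r : R | ∃ x : E, x ≠ 0 ∧ r • x = 0} := by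
  have key : ∀ N : Submodule R E, N ≠ ⊥ →
      Groth.Agent.Lib.Helper27.InjHullLib.Ess N (⊤ : Submodule R E) := by
    intro N hN
    obtain ⟨E₁, hE₁, hE₁inj⟩ := Groth.Agent.Lib.Helper27.InjHullLib.exists_injective_ess N
    obtain ⟨C, hC⟩ :=
      Groth.Agent.Lib.Helper27.InjHullLib.exists_isCompl_of_injective_submodule E₁ hE₁inj
    rcases hE.2 E₁ C hC with h | h
    · exfalso
      apply hN
      rw [eq_bot_iff, ← h]
      exact hE₁.1
    · have h1 : E₁ = ⊤ := by
        have := hC.sup_eq_top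
        rwa [h, sup_bot_eq] at this
      rwa [h1] at hE₁
  have huni : ∀ N N' : Submodule R E, N ≠ ⊥ → N' ≠ ⊥ → N ⊓ N' ≠ ⊥ :=
    fun N N' hN hN' => (key N' hN').2 N le_top hN
  refine ⟨huni, ?_⟩
  have hsmul : ∀ x y : E, x ≠ 0 → y ≠ 0 → ∃ a b : R, a • x = b • y ∧ a • x ≠ 0 := by
    intro x y hx hy
    have h1 : (R ∙ x) ≠ ⊥ := by rw [Ne, Submodule.span_singleton_eq_bot]; exact hx
    have h2 : (R ∙ y) ≠ ⊥ := by rw [Ne, Submodule.span_singleton_eq_bot]; exact hy
    have h3 := huni _ _ h1 h2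
    rw [Ne, Submodule.eq_bot_iff] at h3
    push Not at h3
    obtain ⟨z, ⟨hz1, hz2⟩, hz0⟩ := h3
    obtain ⟨a, rfl⟩ := Submodule.mem_span_singleton.mp hz1
    obtain ⟨b, hb⟩ := Submodule.mem_span_singleton.mp hz2
    exact ⟨a, b, hb.symm, hz0⟩
  haveI := hE.1
  let p : Ideal R :=
    { carrier := {r : R | ∃ x : E, x ≠ 0 ∧ r • x = 0}
      add_mem' := by
        rintro r s ⟨x, hx, hrx⟩ ⟨y, hy, hsy⟩
        obtain ⟨a, b, hab, hne⟩ := hsmul x y hx hy
        refine ⟨a • x, hne, ?_⟩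
        rw [add_smul]
        nth_rewrite 2 [hab]
        rw [smul_comm r a x, smul_comm s b y, hrx, hsy, smul_zero, smul_zero, add_zero]
      zero_mem' := by
        obtain ⟨x, hx⟩ := exists_ne (0 : E)
        exact ⟨x, hx, zero_smul R x⟩
      smul_mem' := by
        rintro c r ⟨x, hx, hrx⟩
        exact ⟨x, hx, by rw [smul_eq_mul, mul_smul, hrx, smul_zero]⟩ }
  refine ⟨p, ⟨?_, ?_⟩, rfl⟩
  · rw [Ideal.ne_top_iff_one]
    rintro ⟨x, hx, h1⟩
    rw [one_smul] at h1
    exact hx h1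
  · rintro r s ⟨x, hx, hrs⟩
    by_cases hsx : s • x = 0
    · exact Or.inr ⟨x, hx, hsx⟩
    · exact Or.inl ⟨s • x, hsx, by rw [← mul_smul, hrs]⟩

end Groth.Agent.S0304
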