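import Groth.Statements.S0305
import Groth.Agent.Lib.Helper27.InjHull
import Mathlib.RingTheory.LocalRing.ResidueField.Ideal

set_option autoImplicit false
universe u v
open InjHull

namespace Groth.Agent.S0305

/-- Let R be a commutative ring, p a prime ideal, and E an injective hull of R/p. Then E is
indecomposable, and E is also an injective hull of the residue field κ(p). -/
theorem result (R : Type u) [CommRing R] (p : Ideal R) [p.IsPrime] (E : Type u) [AddCommGroup E] [Module R E] (f : (R ⧸ p) →ₗ[R] E) (hf : InjHull.IsInjectiveHull f) : InjHull.IsIndecomposable R E ∧ ∃ g : p.ResidueField →ₗ[R] E, InjHull.IsInjectiveHull g := by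
  haveI : Nontrivial (R ⧸ p) := Ideal.Quotient.nontrivial_iff.mpr (Ideal.IsPrime.ne_top ‹_›)
  have hfl : ∀ (a : R) (b : R ⧸ p), f (Ideal.Quotient.mk p a * b) = a • f b := by
    intro a b
    rw [← map_smul]
    congr 1
  have hfess := hf.toIsEssentialInj
  constructor
  · refine ⟨⟨f 1, f 0, fun h => one_ne_zero (hf.injective h)⟩, ?_⟩
    intro N N' hNN'
    by_contra hcon
    push Not at hcon
    obtain ⟨hN, hN'⟩ := hcon
    obtain ⟨x, hxN, hx0⟩ := (Submodule.ne_bot_iff N).mp hN
    obtain ⟨y, hyN', hy0⟩ := (Submodule.ne_bot_iff N').mp hN'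
    obtain ⟨r, m, hr, hm⟩ :=
      Groth.Agent.Lib.Helper27.InjHullLib.IsEssentialInj.exists_smul hfess hx0
    obtain ⟨s, m', hs, hm'⟩ :=
      Groth.Agent.Lib.Helper27.InjHullLib.IsEssentialInj.exists_smul hfess hy0
    have hm0 : m ≠ 0 := fun h => hr (by rw [← hm, h, map_zero])
    have hm'0 : m' ≠ 0 := fun h => hs (by rw [← hm', h, map_zero])
    obtain ⟨a, rfl⟩ := Ideal.Quotient.mk_surjective m
    obtain ⟨b, rfl⟩ := Ideal.Quotient.mk_surjective m'
    have h1 : f (Ideal.Quotient.mk p a * Ideal.Quotient.mk p b) ∈ N' := by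
      rw [hfl, hm']
      exact N'.smul_mem _ (N'.smul_mem _ hyN')
    have h2 : f (Ideal.Quotient.mk p a * Ideal.Quotient.mk p b) ∈ N := by
      rw [mul_comm, hfl, hm]
      exact N.smul_mem _ (N.smul_mem _ hxN)
    have h3 : f (Ideal.Quotient.mk p a * Ideal.Quotient.mk p b) ∈ N ⊓ N' := ⟨h2, h1⟩
    rw [hNN'.inf_eq_bot, Submodule.mem_bot] at h3
    have h4 := hf.injective (h3.trans (map_zero f).symm)
    exact (mul_ne_zero hm0 hm'0) h4
  · haveI := hf.isInjective
    let ι : (R ⧸ p) →ₗ[R] p.ResidueField :=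
      (IsScalarTower.toAlgHom R (R ⧸ p) p.ResidueField).toLinearMap
    have hι : Function.Injective ι := Ideal.injective_algebraMap_quotient_residueField p
    obtain ⟨g, hg⟩ := Module.Injective.extension_property R E (R ⧸ p) p.ResidueField ι hι f
    have hg' : ∀ m, g (ι m) = f m := fun m => LinearMap.congr_fun hg m
    refine ⟨g, ?_, hf.isInjective⟩
    refine Groth.Agent.Lib.Helper27.InjHullLib.isEssentialInj_of_forall ?_ ?_
    · rw [← LinearMap.ker_eq_bot, Submodule.eq_bot_iff]
      intro x hx
      by_contra hx0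
      obtain ⟨a, b, hb, rfl⟩ := IsFractionRing.div_surjective (A := R ⧸ p) x
      have hb0 : b ≠ 0 := nonZeroDivisors.ne_zero hb
      obtain ⟨b', rfl⟩ := Ideal.Quotient.mk_surjective b
      have ha0 : a ≠ 0 := by
        rintro rfl
        apply hx0
        simp
      have h1 : b' • (algebraMap (R ⧸ p) p.ResidueField a /
          algebraMap (R ⧸ p) p.ResidueField (Ideal.Quotient.mk p b')) = ι a := by
        rw [Algebra.smul_def, IsScalarTower.algebraMap_apply R (R ⧸ p) p.ResidueField]
        change algebraMap (R ⧸ p) p.ResidueField (Ideal.Quotient.mk p b') * _ = _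
        rw [mul_div_cancel₀]
        · rfl
        · intro h
          exact hb0 ((injective_iff_map_eq_zero _).mp
            (Ideal.injective_algebraMap_quotient_residueField p) _ h)
      have h2 : f a = 0 := by
        rw [← hg', ← h1, map_smul, LinearMap.mem_ker.mp hx, smul_zero]
      exact ha0 (hf.injective (h2.trans (map_zero f).symm))
    · intro y hy
      obtain ⟨r, m, hr, hm⟩ :=
        Groth.Agent.Lib.Helper27.InjHullLib.IsEssentialInj.exists_smul hfess hy
      exact ⟨r, ι m, hr, (hg' m).trans hm⟩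

end Groth.Agent.S0305
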