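import Groth.Statements.S0318
import Groth.Agent.Lib.Helper92.LocCohH0
import Mathlib.RingTheory.Regular.RegularSequence
import Mathlib.RingTheory.Regular.LinearMap

set_option autoImplicit false
universe u v
open LocCoh

namespace Groth.Agent.S0318

open CategoryTheory Groth.Agent.Lib.Helper92.LC RingTheory.Sequence
open scoped Pointwise

section

variable {R : Type u} [CommRing R] (I : Ideal R)

/-- `H^i_I(M)` is `I`-power torsion. -/
lemma exists_pow_smul_eq_zero {M : ModuleCat.{u} R} (i : ℕ) (y : (localCohomology I i).obj M) :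
    ∃ t, ∀ r ∈ I ^ t, r • y = 0 := by
  obtain ⟨t, a, rfl⟩ := exists_rep I i y
  refine ⟨t, fun r hr => ?_⟩
  rw [← mk_smul]
  have h0 : r • 𝟙 (Q I t) = 0 := by
    apply ModuleCat.hom_ext
    apply LinearMap.ext
    intro x
    obtain ⟨x, rfl⟩ := Submodule.Quotient.mk_surjective _ x
    change r • (Submodule.Quotient.mk x : R ⧸ I ^ t) = 0
    rw [← Submodule.Quotient.mk_smul]
    exact (Submodule.Quotient.mk_eq_zero _).2 (Ideal.mul_mem_right _ _ hr)
  have : r • a = 0 := by
    rw [← Abelian.Ext.mk₀_id_comp a, ← Abelian.Ext.smul_comp, ← Abelian.Ext.mk₀_smul, h0,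
      Abelian.Ext.mk₀_zero, Abelian.Ext.zero_comp]
  rw [this, mk_zero]

/-- `H^i` of multiplication by `x` is multiplication by `x`. -/
lemma Hmap_smul {M : ModuleCat.{u} R} (i : ℕ) (x : R) (y : (localCohomology I i).obj M) :
    Hmap I i (x • 𝟙 M) y = x • y := by
  obtain ⟨t, a, rfl⟩ := exists_rep I i y
  rw [Hmap_mk, ← Abelian.Ext.smul_eq_comp_mk₀, mk_smul]

/-- the short complex `0 → M --x--> M → M/xM → 0` -/
noncomputable abbrev sesSMul (x : R) (M : Type u) [AddCommGroup M] [Module R M] :
    ShortComplex (ModuleCat.{u} R) :=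
  ModuleCat.shortComplexOfCompEqZero (LinearMap.lsmul R M x)
    (Submodule.mkQ (x • (⊤ : Submodule R M))) (by
      ext m
      simp only [LinearMap.comp_apply, LinearMap.lsmul_apply, Submodule.mkQ_apply,
        LinearMap.zero_apply]
      exact (Submodule.Quotient.mk_eq_zero _).2 (Submodule.smul_mem_pointwise_smul m x ⊤ trivial))

lemma sesSMul_shortExact (x : R) (M : Type u) [AddCommGroup M] [Module R M]
    (hx : IsSMulRegular M x) : (sesSMul x M).ShortExact := by
  refine ModuleCat.shortComplex_shortExact _ ?_ hx (Submodule.mkQ_surjective _)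
  intro m
  change Submodule.Quotient.mk m = 0 ↔ m ∈ Set.range (LinearMap.lsmul R M x)
  rw [Submodule.Quotient.mk_eq_zero, Submodule.mem_smul_pointwise_iff_exists]
  constructor
  · rintro ⟨b, _, rfl⟩
    exact ⟨b, rfl⟩
  · rintro ⟨b, rfl⟩
    exact ⟨b, trivial, rfl⟩

lemma sesSMul_f (x : R) (M : Type u) [AddCommGroup M] [Module R M] :
    (sesSMul x M).f = x • 𝟙 (ModuleCat.of R M) := by
  apply ModuleCat.hom_ext
  apply LinearMap.ext
  intro m
  rfl

/-- if `x ∈ I` is injective on `H^i_I(M)` then `H^i_I(M) = 0` -/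
lemma subsingleton_of_smul_injective {M : ModuleCat.{u} R} (i : ℕ) (x : R) (hx : x ∈ I)
    (hinj : ∀ y : (localCohomology I i).obj M, x • y = 0 → y = 0) :
    Subsingleton ((localCohomology I i).obj M) := by
  suffices h : ∀ y : (localCohomology I i).obj M, y = 0 from
    ⟨fun a b => (h a).trans (h b).symm⟩
  intro y
  obtain ⟨t, ht⟩ := exists_pow_smul_eq_zero I i y
  have h1 : x ^ t • y = 0 := ht _ (Ideal.pow_mem_pow hx t)
  clear ht
  induction t with
  | zero => simpa using h1
  | succ t ih =>
    apply ih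
    apply hinj
    rw [smul_smul, ← pow_succ']
    exact h1

/-- vanishing below the length of a regular sequence -/
theorem vanish_of_regular : ∀ (rs : List R) (M : Type u) [AddCommGroup M] [Module R M],
    IsWeaklyRegular M rs → (∀ r ∈ rs, r ∈ I) → ∀ i < rs.length, Subsingleton (LocCoh.H I i M) := by
  intro rs
  induction rs with
  | nil =>
    intro M _ _ _ _ i hi
    simp at hi
  | cons x rs ih =>
    intro M _ _ hreg hmem i hi
    rw [isWeaklyRegular_cons_iff] at hreg
    obtain ⟨hx, hrs⟩ := hreg
    have hxI : x ∈ I := hmem x List.mem_cons_self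
    have hS := sesSMul_shortExact x M hx
    cases i with
    | zero =>
      suffices h : ∀ y : LocCoh.H I 0 M, y = 0 from ⟨fun a b => (h a).trans (h b).symm⟩
      intro y
      apply γ_injective I
      rw [map_zero]
      obtain ⟨n, hn⟩ := γ_mem I y
      have h1 : x ^ n • γ I y = 0 := hn _ (Ideal.pow_mem_pow hxI n)
      apply hx.pow n
      change x ^ n • γ I y = x ^ n • 0
      rw [h1, smul_zero]
    | succ j =>
      have hj : j < rs.length := by simpa using hi
      have hsub : Subsingleton (LocCoh.H I j (QuotSMulTop x M)) :=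
        ih (QuotSMulTop x M) hrs (fun r hr => hmem r (List.mem_cons_of_mem _ hr)) j hj
      refine subsingleton_of_smul_injective I (j + 1) x hxI ?_
      intro y hy
      have h1 : Hmap I (j + 1) (sesSMul x M).f y = 0 := by
        rw [sesSMul_f, Hmap_smul]
        exact hy
      obtain ⟨z, rfl⟩ := exact₁ I j hS y h1
      have : z = 0 := hsub.elim z 0
      rw [this, map_zero]

/-- no torsion ⇒ a regular element in `I` -/
lemma exists_regular_of_torsionSub_eq_bot [IsNoetherianRing R] (M : Type u) [AddCommGroup M]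
    [Module R M] [Module.Finite R M] (h : DRing.torsionSub I M = ⊥) :
    ∃ x ∈ I, IsSMulRegular M x := by
  have hsub : Subsingleton ((R ⧸ I) →ₗ[R] M) := by
    refine ⟨fun f g => ?_⟩
    have key : ∀ f : (R ⧸ I) →ₗ[R] M, f = 0 := by
      intro f
      have h1 : f (Submodule.Quotient.mk 1) ∈ DRing.torsionSub I M := by
        refine ⟨1, fun a ha => ?_⟩
        rw [pow_one] at ha
        rw [← map_smul, ← Submodule.Quotient.mk_smul, smul_eq_mul, mul_one,
          (Submodule.Quotient.mk_eq_zero _).2 ha, map_zero]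
      rw [h, Submodule.mem_bot] at h1
      apply LinearMap.ext
      intro y
      obtain ⟨y, rfl⟩ := Submodule.Quotient.mk_surjective _ y
      have : (Submodule.Quotient.mk y : R ⧸ I) = y • Submodule.Quotient.mk 1 := by
        rw [← Submodule.Quotient.mk_smul, smul_eq_mul, mul_one]
      rw [this, map_smul, h1, smul_zero, LinearMap.zero_apply]
    rw [key f, key g]
  obtain ⟨r, hr, hreg⟩ := IsSMulRegular.subsingleton_linearMap_iff.1 hsub
  rw [Ideal.annihilator_quotient] at hr
  exact ⟨r, hr, hreg⟩

theorem exists_regular_of_vanish [IsNoetherianRing R] : ∀ (n : ℕ) (M : Type u) [AddCommGroup M]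
    [Module R M] [Module.Finite R M], I • (⊤ : Submodule R M) ≠ ⊤ →
    (∀ i < n, Subsingleton (LocCoh.H I i M)) →
    ∃ rs : List R, IsWeaklyRegular M rs ∧ (∀ r ∈ rs, r ∈ I) ∧ rs.length = n := by
  intro n
  induction n with
  | zero =>
    intro M _ _ _ _ _
    exact ⟨[], IsWeaklyRegular.nil R M, by simp, rfl⟩
  | succ n ih =>
    intro M _ _ _ hIM hvan
    have h0 : DRing.torsionSub I M = ⊥ := by
      rw [eq_bot_iff]
      intro m hm
      obtain ⟨y, hy⟩ := exists_γ_eq I (M := ModuleCat.of R M) m hm
      have : y = 0 := (hvan 0 (Nat.succ_pos n)).elim y 0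
      rw [this, map_zero] at hy
      rw [Submodule.mem_bot, ← hy]
    obtain ⟨x, hxI, hx⟩ := exists_regular_of_torsionSub_eq_bot I M h0
    have hS := sesSMul_shortExact x M hx
    have hIM' : I • (⊤ : Submodule R (QuotSMulTop x M)) ≠ ⊤ := by
      intro htop
      apply hIM
      have h1 : (I • (⊤ : Submodule R M)).map (Submodule.mkQ (x • (⊤ : Submodule R M))) = ⊤ := by
        rw [Submodule.map_smul'', Submodule.map_top, Submodule.range_mkQ]
        exact htop
      have h2 := congrArg (Submodule.comap (Submodule.mkQ (x • (⊤ : Submodule R M)))) h1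
      rw [Submodule.comap_map_eq, Submodule.ker_mkQ, Submodule.comap_top] at h2
      have h3 : I • (⊤ : Submodule R M) ⊔ x • (⊤ : Submodule R M) ≤ I • (⊤ : Submodule R M) := by
        refine sup_le le_rfl ?_
        intro m hm
        obtain ⟨b, _, rfl⟩ := (Submodule.mem_smul_pointwise_iff_exists _ _ _).1 hm
        exact Submodule.smul_mem_smul hxI trivial
      exact eq_top_iff.2 (le_trans (le_of_eq h2.symm) h3)
    have hvan' : ∀ i < n, Subsingleton (LocCoh.H I i (QuotSMulTop x M)) := by
      intro i hi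
      suffices h : ∀ z : LocCoh.H I i (QuotSMulTop x M), z = 0 from
        ⟨fun a b => (h a).trans (h b).symm⟩
      intro z
      have h1 : δ I i hS z = 0 := (hvan (i + 1) (Nat.succ_lt_succ hi)).elim _ _
      obtain ⟨y, rfl⟩ := exact₃ I i hS z h1
      have : y = 0 := (hvan i (Nat.lt_succ_of_lt hi)).elim _ _
      rw [this, map_zero]
    obtain ⟨rs, hrs, hmem, hlen⟩ := ih (QuotSMulTop x M) hIM' hvan'
    refine ⟨x :: rs, (isWeaklyRegular_cons_iff M x rs).2 ⟨hx, hrs⟩, ?_, by simp [hlen]⟩
    intro r hr
    rcases List.mem_cons.1 hr with rfl | hr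
    · exact hxI
    · exact hmem r hr

end

/-- Part (1): =(3): for a finite module M over a Noetherian ring and an ideal I with IM ≠ M, the I-depth
of M is the least degree in which the local cohomology of M with support in I is nonzero. -/
theorem result (R : Type u) [CommRing R] [IsNoetherianRing R] (I : Ideal R) (M : Type u) [AddCommGroup M] [Module R M] [Module.Finite R M] (hIM : I • (⊤ : Submodule R M) ≠ ⊤) (n : ℕ) : LocCoh.idealDepth I M = n ↔ ((∀ i : ℕ, i < n → Subsingleton (LocCoh.H I i M)) ∧ Nontrivial (LocCoh.H I n M)) := by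
  have key : ∀ n : ℕ, (n : ℕ∞) ≤ LocCoh.idealDepth I M ↔
      ∀ i < n, Subsingleton (LocCoh.H I i M) := by
    intro n
    unfold LocCoh.idealDepth
    rw [if_neg hIM]
    constructor
    · intro h i hi
      by_contra hns
      have hall : ∀ rs : List R, IsWeaklyRegular M rs ∧ (∀ r ∈ rs, r ∈ I) → rs.length ≤ i := by
        rintro rs ⟨hrs, hmem⟩
        by_contra hlt
        push Not at hlt
        exact hns (vanish_of_regular I rs M hrs hmem i hlt)
      have h2 : (⨆ (rs : List R) (_ : IsWeaklyRegular M rs ∧ ∀ r ∈ rs, r ∈ I),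
          (rs.length : ℕ∞)) ≤ i :=
        iSup₂_le fun rs h => by exact_mod_cast hall rs h
      have h3 := h.trans h2
      exact absurd (by exact_mod_cast h3) (not_le.2 hi)
    · intro h
      obtain ⟨rs, hrs, hmem, hlen⟩ := exists_regular_of_vanish I n M hIM h
      exact le_iSup₂_of_le rs ⟨hrs, hmem⟩ (by rw [hlen])
  constructor
  · intro h
    have h1 : ∀ i < n, Subsingleton (LocCoh.H I i M) := (key n).1 h.ge
    refine ⟨h1, ?_⟩
    rw [← not_subsingleton_iff_nontrivial]
    intro hsub
    have h2 : ((n + 1 : ℕ) : ℕ∞) ≤ LocCoh.idealDepth I M := by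
      rw [key]
      intro i hi
      rcases Nat.lt_succ_iff_lt_or_eq.1 hi with hi | rfl
      · exact h1 i hi
      · exact hsub
    rw [h] at h2
    exact absurd (by exact_mod_cast h2) (Nat.not_succ_le_self n)
  · rintro ⟨h1, h2⟩
    apply le_antisymm
    · by_contra hlt
      push Not at hlt
      have h3 : ((n + 1 : ℕ) : ℕ∞) ≤ LocCoh.idealDepth I M := by
        rw [Nat.cast_succ]
        exact Order.add_one_le_of_lt hlt
      have := (key (n + 1)).1 h3 n (Nat.lt_succ_self n)
      exact (not_subsingleton_iff_nontrivial.2 h2) this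
    · exact (key n).2 h1

end Groth.Agent.S0318
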