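import Groth.Statements.S0326
import Groth.Agent.Lib.Helper92.LocCohCompare

set_option autoImplicit false
universe u v
open LocCoh

namespace Groth.Agent.S0326

/-- For a Noetherian ring R and an ideal of R generated by a finite set of r elements, local cohomology
with support in that ideal vanishes in all degrees above r, for every R-module. This is the
Noetherian case of the published statement. -/
theorem result (R : Type u) [CommRing R] [IsNoetherianRing R] (s : Finset R) : LocCoh.CdLE R (Ideal.span (s : Set R)) s.card :=
  Groth.Agent.Lib.Helper92.LC.cdLE_span_finset s

end Groth.Agent.S0326
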