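import Groth.Statements.S0328
import Groth.Agent.Lib.Helper92.LocCohNonVan2
import Groth.Agent.Lib.Helper92.LocCohCompare2

set_option autoImplicit false
universe u v
open LocCoh

namespace Groth.Agent.S0328

open Groth.Agent.Lib.Helper92.LC CategoryTheory in
/-- In a Noetherian local ring, if a prime p and a proper ideal I together have radical the maximal
ideal and dim R/p = d ≥ 1, then local cohomology with support in I does not vanish in all degrees ≥
d. -/
theorem result (R : Type u) [CommRing R] [IsLocalRing R] [IsNoetherianRing R] (I : Ideal R) (hI : I ≠ ⊤) (p : Ideal R) [p.IsPrime] (hpI : (p ⊔ I).radical = IsLocalRing.maximalIdeal R) (d : ℕ) (hd : ringKrullDim (R ⧸ p) = d) (hd1 : 1 ≤ d) : ¬ LocCoh.CdLE R I (d - 1) := by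
  intro hcd
  have h0 : Subsingleton ((localCohomology I d).obj (ModuleCat.of R (R ⧸ p))) :=
    hcd (R ⧸ p) d (by omega)
  -- `R ⧸ p` is `p`-power torsion
  have hT : LocCoh.IsPowerTorsion p (ModuleCat.of R (R ⧸ p)) := by
    intro e
    refine ⟨1, fun a ha => ?_⟩
    rw [pow_one] at ha
    obtain ⟨e', rfl⟩ := Ideal.Quotient.mk_surjective e
    change a • (Ideal.Quotient.mk p e') = 0
    rw [smul_quot_mk, Ideal.Quotient.eq_zero_iff_mem]
    exact Ideal.mul_mem_right _ _ ha
  have h1 : Subsingleton ((localCohomology (I ⊔ p) d).obj (ModuleCat.of R (R ⧸ p))) :=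
    (cmp_bijective_of_isPowerTorsion' I p d (ModuleCat.of R (R ⧸ p)) hT).1.subsingleton
  have hrad : (I ⊔ p).radical = (IsLocalRing.maximalIdeal R).radical := by
    rw [sup_comm, hpI, (IsLocalRing.maximalIdeal.isMaximal R).isPrime.radical]
  have h2 : Subsingleton ((localCohomology (IsLocalRing.maximalIdeal R) d).obj
      (ModuleCat.of R (R ⧸ p))) :=
    (((localCohomology.isoOfSameRadical hrad d).app
      (ModuleCat.of R (R ⧸ p))).toLinearEquiv.symm).injective.subsingleton
  have h3 := nontrivial_top (R ⧸ p) d (by rw [Module.supportDim_quotient_eq_ringKrullDim, hd])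
  exact not_subsingleton _ h2

end Groth.Agent.S0328
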