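import Groth.Statements.S1743
import Groth.Agent.Lib.Helper92.LocCohLoc
import Mathlib.Algebra.Module.FinitePresentation
import Mathlib.RingTheory.Localization.Module

set_option autoImplicit false
universe u
open LocCoh CategoryTheory

namespace Groth.Agent.S1743

open Groth.Agent.Lib.Helper92.LC Abelian

variable {A : Type u} [CommRing A]

section Additive

variable (I : Ideal A) (i : ℕ)

theorem Hmap_add {M N : ModuleCat.{u} A} (φ ψ : M ⟶ N) (y : (localCohomology I i).obj M) :
    Hmap I i (φ + ψ) y = Hmap I i φ y + Hmap I i ψ y := by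
  obtain ⟨t, x, rfl⟩ := exists_rep I i y
  rw [Hmap_mk, Hmap_mk, Hmap_mk, Ext.mk₀_add, Ext.comp_add, mk_add]

theorem Hmap_zero {M N : ModuleCat.{u} A} (y : (localCohomology I i).obj M) :
    Hmap I i (0 : M ⟶ N) y = 0 := by
  obtain ⟨t, x, rfl⟩ := exists_rep I i y
  rw [Hmap_mk, Ext.mk₀_zero, Ext.comp_zero, mk_zero]

theorem Hmap_sum {M N : ModuleCat.{u} A} {ι : Type} (s : Finset ι) (φ : ι → (M ⟶ N))
    (y : (localCohomology I i).obj M) :
    Hmap I i (∑ j ∈ s, φ j) y = ∑ j ∈ s, Hmap I i (φ j) y := by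
  classical
  induction s using Finset.induction_on with
  | empty => simp [Hmap_zero]
  | insert j s hj ih => rw [Finset.sum_insert hj, Finset.sum_insert hj, Hmap_add, ih]

theorem Hmap_id {M : ModuleCat.{u} A} (y : (localCohomology I i).obj M) :
    Hmap I i (𝟙 M) y = y := by
  change ((localCohomology I i).map (𝟙 M)).hom y = y
  rw [CategoryTheory.Functor.map_id]
  rfl

/-- an element killing `H^i_I(A)` kills `H^i_I(A^k)` -/
theorem kill_fin (b : A) (hb : ∀ x : (localCohomology I i).obj (ModuleCat.of A A), b • x = 0)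
    (k : ℕ) (y : (localCohomology I i).obj (ModuleCat.of A (Fin k → A))) : b • y = 0 := by
  let pr : Fin k → (ModuleCat.of A (Fin k → A) ⟶ ModuleCat.of A A) :=
    fun j => ModuleCat.ofHom (LinearMap.proj j)
  let ιj : Fin k → (ModuleCat.of A A ⟶ ModuleCat.of A (Fin k → A)) :=
    fun j => ModuleCat.ofHom (LinearMap.single A (fun _ => A) j)
  have hid : 𝟙 (ModuleCat.of A (Fin k → A)) = ∑ j : Fin k, pr j ≫ ιj j := by
    apply ModuleCat.hom_ext
    rw [ModuleCat.hom_sum]
    ext v l
    simp only [ModuleCat.hom_id, LinearMap.id_coe, id_eq, ModuleCat.hom_comp, ModuleCat.hom_ofHom,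
      LinearMap.coe_sum, Finset.sum_apply, LinearMap.coe_comp, Function.comp_apply,
      LinearMap.coe_proj, Function.eval, LinearMap.coe_single, pr, ιj]
    rw [Finset.sum_eq_single l]
    · simp
    · intro j _ hj
      simp [Pi.single_apply, hj.symm]
    · intro h; exact absurd (Finset.mem_univ l) h
  rw [← Hmap_id I i y, hid, Hmap_sum, Finset.smul_sum]
  apply Finset.sum_eq_zero
  intro j _
  rw [Hmap_comp, ← map_smul, hb, map_zero]

end Additive

/-- for `f ∈ I`, a power of `f` times the identity of `M` factors through `A^k`. -/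
theorem exists_factor [IsNoetherianRing A] (M : Type u) [AddCommGroup M] [Module A M]
    [Module.Finite A M] (f : A)
    (hM : Module.Projective (Localization.Away f) (LocalizedModule (Submonoid.powers f) M))
    (k : ℕ) (π : (Fin k → A) →ₗ[A] M) (hπ : Function.Surjective π) :
    ∃ (N : ℕ) (t : M →ₗ[A] (Fin k → A)), π ∘ₗ t = f ^ N • LinearMap.id := by
  have hfp : Module.FinitePresentation A M := Module.finitePresentation_of_finite A M
  let S := Submonoid.powers f
  have hsurj := LocalizedModule.map_surjective S π hπ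
  obtain ⟨h, hh⟩ := Module.projective_lifting_property (LocalizedModule.map S π) LinearMap.id hsurj
  obtain ⟨⟨t, u⟩, htu⟩ := IsLocalizedModule.surj S (LocalizedModule.map S (M := M) (N := Fin k → A)) h
  obtain ⟨n, hn⟩ := u.2
  -- `map (π ∘ t) = map (u • id)`
  have e1 : LocalizedModule.map S (π ∘ₗ t) = LocalizedModule.map S ((u : A) • (LinearMap.id : M →ₗ[A] M)) := by
    have h1 : LocalizedModule.map S (π ∘ₗ t) = (LocalizedModule.map S π) ∘ₗ (LocalizedModule.map S t) := by
      apply LinearMap.ext
      intro x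
      induction x using LocalizedModule.induction_on with
      | h m s => simp
    rw [h1, ← htu, LinearMap.comp_smul, hh, map_smul, LocalizedModule.map_id]
    rfl
  obtain ⟨c, hc⟩ := IsLocalizedModule.exists_of_eq (S := S)
    (f := LocalizedModule.map S (M := M) (N := M)) e1
  obtain ⟨e, he⟩ := c.2
  refine ⟨e + n, (c : A) • t, ?_⟩
  have hc' : (c : A) • (π ∘ₗ t) = (c : A) • ((u : A) • (LinearMap.id : M →ₗ[A] M)) := hc
  rw [LinearMap.comp_smul, hc', smul_smul, ← he, ← hn, pow_add]


/-- Let A be a Noetherian ring, J ⊆ I ideals and i ≥ 0. If H^i_I(A) is annihilated by J^n for some n,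
then for every finite A-module M such that M_f is a projective A_f-module for every f in I, the
module H^i_I(M) is annihilated by J^m for some m. (The source allows any ring with finitely
generated ideals and finitely presented M.) -/
theorem result (A : Type u) [CommRing A] [IsNoetherianRing A] (J I : Ideal A) (hJI : J ≤ I) (i n : ℕ) (hA : ∀ a ∈ J ^ n, ∀ x : LocCoh.H I i A, a • x = 0) (M : Type u) [AddCommGroup M] [Module A M] [Module.Finite A M] (hM : ∀ f ∈ I, Module.Projective (Localization.Away f) (LocalizedModule (Submonoid.powers f) M)) : ∃ m : ℕ, ∀ a ∈ J ^ m, ∀ x : LocCoh.H I i M, a • x = 0 := by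
  obtain ⟨k, π, hπ⟩ := Module.Finite.exists_fin' A M
  -- the ideal of elements `a` with `a J^n H^i_I(M) = 0`
  let 𝔟 : Ideal A := Submodule.annihilator ((J ^ n) • (⊤ : Submodule A (LocCoh.H I i M)))
  have h𝔟 : ∀ f ∈ I, ∃ N : ℕ, f ^ N ∈ 𝔟 := by
    intro f hf
    obtain ⟨N, t, ht⟩ := exists_factor M f (hM f hf) k π hπ
    refine ⟨N, ?_⟩
    rw [Submodule.mem_annihilator]
    intro z hz
    refine Submodule.smul_induction_on hz ?_ ?_
    · intro b hb x _
      have h1 : ∀ x : LocCoh.H I i M, Hmap I i (ModuleCat.ofHom (f ^ N • (LinearMap.id : M →ₗ[A] M))) x = f ^ N • x := by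
        intro x
        have : ModuleCat.ofHom (f ^ N • (LinearMap.id : M →ₗ[A] M)) = f ^ N • 𝟙 (ModuleCat.of A M) := rfl
        rw [this, Hmap_smul, Hmap_id]
      rw [← h1, ← ht, ModuleCat.ofHom_comp, Hmap_comp, map_smul, map_smul, ← map_smul,
        kill_fin I i b (hA b hb) k, map_zero]
    · intro x y hx hy
      rw [smul_add, hx, hy, add_zero]
  have hrad : I ≤ 𝔟.radical := fun f hf => h𝔟 f hf
  obtain ⟨c, hc⟩ := Ideal.exists_pow_le_of_le_radical_of_fg hrad
    ((isNoetherianRing_iff_ideal_fg A).1 inferInstance I)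
  refine ⟨c + n, fun a ha x => ?_⟩
  have ha' : a ∈ I ^ c * J ^ n := by
    rw [pow_add] at ha
    exact Ideal.mul_mono_left (Ideal.pow_right_mono hJI c) ha
  refine Submodule.mul_induction_on ha' ?_ ?_
  · intro a₁ ha₁ b hb
    have := (Submodule.mem_annihilator.1 (hc ha₁)) (b • x)
      (Submodule.smul_mem_smul hb Submodule.mem_top)
    rw [mul_smul]
    exact this
  · intro a₁ a₂ h₁ h₂
    rw [add_smul, h₁, h₂, add_zero]

end Groth.Agent.S1743
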