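import Groth.Statements.S0331
import Groth.Agent.Lib.Helper98.LCFaltings
import Groth.Agent.S1743

set_option autoImplicit false
universe u v
open LocCoh

namespace Groth.Agent.S0331

open Groth.Agent.Lib.Helper98.LCFaltings


/-- Over a Noetherian ring, if H^i_I(R) is finitely generated for i ≤ n, then so is H^i_I(M) for i ≤ n
for every finite module M that becomes finite projective after inverting any single element of I. -/
theorem result (R : Type u) [CommRing R] [IsNoetherianRing R] (I : Ideal R) (n : ℕ) (hR : ∀ i : ℕ, i ≤ n → Module.Finite R (LocCoh.H I i R)) (M : Type u) [AddCommGroup M] [Module R M] [Module.Finite R M] (hM : ∀ f ∈ I, Module.Projective (Localization.Away f) (LocalizedModule (Submonoid.powers f) M)) (i : ℕ) (hi : i ≤ n) : Module.Finite R (LocCoh.H I i M) := by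
  -- each `H^j_I(M)`, `j ≤ n`, is killed by a power of `I`
  have h1 : ∀ j : ℕ, j ≤ n → ∃ m : ℕ, ∀ a ∈ I ^ m, ∀ x : LocCoh.H I j M, a • x = 0 := by
    intro j hj
    have := hR j hj
    obtain ⟨t, ht⟩ := kills_of_finite I j (ModuleCat.of R R)
    exact Groth.Agent.S1743.result R I I le_rfl j t ht M hM
  choose m hm using h1
  -- a uniform power
  let T : ℕ := (Finset.range (n + 1)).sup (fun j => if h : j ≤ n then m j h else 0)
  have hT : ∀ j (hj : j ≤ n), m j hj ≤ T := by
    intro j hj
    have : (fun j => if h : j ≤ n then m j h else 0) j ≤ T :=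
      Finset.le_sup (f := fun j => if h : j ≤ n then m j h else 0)
        (Finset.mem_range.2 (Nat.lt_succ_of_le hj))
    simpa [hj] using this
  exact finite_of_kills I n M T
    (fun j hj a ha x => hm j hj a (Ideal.pow_le_pow_right (hT j hj) ha) x) i hi

end Groth.Agent.S0331
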