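import Groth.Statements.S0335
import Groth.Agent.Lib.Helper67.Depth
import Mathlib.Tactic
import Mathlib.RingTheory.Spectrum.Prime.Topology
import Mathlib.RingTheory.Spectrum.Prime.Noetherian
import Mathlib.RingTheory.Nilpotent.Lemmas
import Mathlib.RingTheory.LocalRing.Basic

set_option autoImplicit false
universe u v
open LocCoh
open scoped Pointwise

namespace Groth.Agent.S0335

lemma key {R : Type*} [CommRing R] [IsLocalRing R] (I J : Ideal R) (hIJ : I * J = ⊥) (x y : R)
    (hx : x ∈ I ⊔ J) (hy : y ∈ I ⊔ J) (hxreg : IsSMulRegular R x)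
    (hyreg : ∀ r, y * r ∈ Ideal.span {x} → r ∈ Ideal.span {x}) : I = ⊥ ∨ J = ⊥ := by
  have hmul : ∀ i ∈ I, ∀ j ∈ J, i * j = 0 := by
    intro i hi j hj
    have : i * j ∈ I * J := Ideal.mul_mem_mul hi hj
    rwa [hIJ, Ideal.mem_bot] at this
  obtain ⟨i1, hi1, j1, hj1, rfl⟩ := Submodule.mem_sup.mp hx
  obtain ⟨i2, hi2, j2, hj2, rfl⟩ := Submodule.mem_sup.mp hy
  have h1 : (i2 + j2) * j1 = (i1 + j1) * j2 := by
    have e1 := hmul i2 hi2 j1 hj1
    have e2 := hmul i1 hi1 j2 hj2
    linear_combination e1 - e2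
  have h2 : j1 ∈ Ideal.span {i1 + j1} := by
    apply hyreg
    rw [h1]
    exact Ideal.mul_mem_right _ _ (Ideal.mem_span_singleton_self _)
  obtain ⟨e, he⟩ := Ideal.mem_span_singleton'.mp h2
  have hidem : e * e = e := by
    apply hxreg
    apply hxreg
    simp only [smul_eq_mul]
    have e1 := hmul i1 hi1 j1 hj1
    linear_combination (e * (i1 + j1) + j1 - (i1 + j1)) * he - e1
  rcases IsLocalRing.isUnit_or_isUnit_one_sub_self e with hu | hu
  · have he1 : e = 1 := by
      have : e * (e - 1) = 0 := by linear_combination hidem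
      have := hu.mul_right_eq_zero.mp this
      linear_combination this
    left
    rw [eq_bot_iff]
    intro i hi
    rw [Ideal.mem_bot]
    apply hxreg
    simp only [smul_eq_mul, mul_zero]
    have e1 := hmul i hi j1 hj1
    rw [he1, one_mul] at he
    rw [he, mul_comm]
    exact e1
  · have he0 : e = 0 := by
      have : (1 - e) * e = 0 := by linear_combination -hidem
      exact hu.mul_right_eq_zero.mp this
    right
    rw [eq_bot_iff]
    intro j hj
    rw [Ideal.mem_bot]
    apply hxreg
    simp only [smul_eq_mul, mul_zero]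
    rw [he0, zero_mul] at he
    rw [← he, add_zero]
    exact hmul i1 hi1 j hj

lemma reg_pow {R : Type*} [CommRing R] (a b : R) (ha : IsSMulRegular R a)
    (hb : ∀ r, b * r ∈ Ideal.span {a} → r ∈ Ideal.span {a}) (k : ℕ) :
    ∀ r, b * r ∈ Ideal.span {a ^ k} → r ∈ Ideal.span {a ^ k} := by
  induction k with
  | zero => intro r _; simp
  | succ k ih =>
    intro r hr
    obtain ⟨s, hs⟩ := Ideal.mem_span_singleton'.mp hr
    have h1 : r ∈ Ideal.span {a} := by
      apply hb
      rw [← hs, pow_succ]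
      rw [Ideal.mem_span_singleton']
      exact ⟨s * a ^ k, by ring⟩
    obtain ⟨r', rfl⟩ := Ideal.mem_span_singleton'.mp h1
    have h2 : b * r' = s * a ^ k := by
      apply ha
      simp only [smul_eq_mul]
      linear_combination -hs
    have h3 : r' ∈ Ideal.span {a ^ k} := by
      apply ih
      rw [h2]
      exact Ideal.mul_mem_left _ _ (Ideal.mem_span_singleton_self _)
    obtain ⟨t, ht⟩ := Ideal.mem_span_singleton'.mp h3
    rw [Ideal.mem_span_singleton']
    exact ⟨t, by rw [← ht]; ring⟩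

lemma reg_pow' {R : Type*} [CommRing R] (x b : R)
    (hb : ∀ r, b * r ∈ Ideal.span {x} → r ∈ Ideal.span {x}) (l : ℕ) :
    ∀ r, b ^ l * r ∈ Ideal.span {x} → r ∈ Ideal.span {x} := by
  induction l with
  | zero => intro r hr; simpa using hr
  | succ l ih =>
    intro r hr
    apply ih
    apply hb
    have : b * (b ^ l * r) = b ^ (l + 1) * r := by ring
    rw [this]
    exact hr

/-- For the ring itself; Hartshorne's connectedness: if a Noetherian local ring has depth at least 2
then its punctured spectrum is connected. -/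
theorem result (R : Type u) [CommRing R] [IsLocalRing R] [IsNoetherianRing R] (h : 2 ≤ LocCoh.depth R R) : IsConnected {x : PrimeSpectrum R | x.asIdeal ≠ IsLocalRing.maximalIdeal R} := by
  obtain ⟨rs, hlen, hreg, hmem⟩ :=
    Groth.Agent.Lib.Helper67.exists_isRegular_of_le_depth (R := R) R 2 (by exact_mod_cast h)
  obtain ⟨a, b, rfl⟩ : ∃ a b, rs = [a, b] := by
    match rs, hlen with
    | [a, b], _ => exact ⟨a, b, rfl⟩
  have hw := hreg.toIsWeaklyRegular
  rw [RingTheory.Sequence.isWeaklyRegular_cons_iff] at hw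
  obtain ⟨ha, hw2⟩ := hw
  rw [RingTheory.Sequence.isWeaklyRegular_cons_iff] at hw2
  have hb0 := hw2.1
  have hb : ∀ r, b * r ∈ Ideal.span {a} → r ∈ Ideal.span {a} := by
    intro r hr
    have h1 := (isSMulRegular_quotient_iff_mem_of_smul_mem _ _).mp hb0 r
    have hiff : ∀ z : R, z ∈ a • (⊤ : Submodule R R) ↔ z ∈ Ideal.span {a} := by
      intro z
      rw [Submodule.mem_smul_pointwise_iff_exists, Ideal.mem_span_singleton']
      constructor
      · rintro ⟨s, _, rfl⟩
        exact ⟨s, by simp [mul_comm]⟩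
      · rintro ⟨s, rfl⟩
        exact ⟨s, trivial, by simp [mul_comm]⟩
    rw [← hiff]
    apply h1
    rw [hiff, smul_eq_mul]
    exact hr
  have ham : a ∈ IsLocalRing.maximalIdeal R := hmem a (by simp)
  have hbm : b ∈ IsLocalRing.maximalIdeal R := hmem b (by simp)
  refine ⟨?_, ?_⟩
  · by_contra hne
    have hall : ∀ p : PrimeSpectrum R, p.asIdeal = IsLocalRing.maximalIdeal R := by
      intro p
      by_contra hp
      exact hne ⟨p, hp⟩
    have hnil : a ∈ nilradical R := by
      rw [nilradical_eq_sInf, Ideal.mem_sInf]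
      intro p hp
      have := hall ⟨p, hp⟩
      simp only at this
      rw [this]
      exact ham
    obtain ⟨n, hn⟩ := mem_nilradical.mp hnil
    have hreg' : IsSMulRegular R (a ^ n) := ha.pow n
    have : (1 : R) = 0 := by
      apply hreg'
      simp [hn]
    exact one_ne_zero this
  · rw [isPreconnected_closed_iff]
    intro t t' ht ht' hsub hnt hnt'
    obtain ⟨I', rfl⟩ := (PrimeSpectrum.isClosed_iff_zeroLocus_ideal t).mp ht
    obtain ⟨J', rfl⟩ := (PrimeSpectrum.isClosed_iff_zeroLocus_ideal t').mp ht'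
    by_contra hempty
    have hempty' : ∀ p : PrimeSpectrum R, I' ≤ p.asIdeal → J' ≤ p.asIdeal →
        p.asIdeal = IsLocalRing.maximalIdeal R := by
      intro p h1 h2
      by_contra hp
      exact hempty ⟨p, hp, by simpa [PrimeSpectrum.mem_zeroLocus] using h1,
        by simpa [PrimeSpectrum.mem_zeroLocus] using h2⟩
    have hI'm : I' ≤ IsLocalRing.maximalIdeal R := by
      obtain ⟨p, hp1, hp2⟩ := hnt
      have : I' ≤ p.asIdeal := by simpa [PrimeSpectrum.mem_zeroLocus] using hp2
      exact this.trans (IsLocalRing.le_maximalIdeal p.2.ne_top)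
    have hnilp : I' * J' ≤ nilradical R := by
      rw [nilradical_eq_sInf]
      refine le_sInf ?_
      intro p hp
      by_cases hpm : p = IsLocalRing.maximalIdeal R
      · rw [hpm]
        exact Ideal.mul_le_left.trans hI'm
      · have hpU : (⟨p, hp⟩ : PrimeSpectrum R) ∈
            {x : PrimeSpectrum R | x.asIdeal ≠ IsLocalRing.maximalIdeal R} := hpm
        rcases hsub hpU with h1 | h1
        · have : I' ≤ p := by simpa [PrimeSpectrum.mem_zeroLocus] using h1
          exact Ideal.mul_le_left.trans this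
        · have : J' ≤ p := by simpa [PrimeSpectrum.mem_zeroLocus] using h1
          exact Ideal.mul_le_right.trans this
    obtain ⟨N, hN⟩ := IsNoetherianRing.isNilpotent_nilradical R
    have hN1 : (I' ^ (N + 1)) * (J' ^ (N + 1)) = ⊥ := by
      rw [← mul_pow, eq_bot_iff]
      calc (I' * J') ^ (N + 1) ≤ (nilradical R) ^ (N + 1) := Ideal.pow_right_mono hnilp _
        _ = ⊥ := by rw [pow_succ, hN]; simp
    have hrad : IsLocalRing.maximalIdeal R ≤ (I' ^ (N + 1) ⊔ J' ^ (N + 1)).radical := by
      rw [Ideal.radical_eq_sInf]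
      refine le_sInf ?_
      rintro p ⟨hp1, hp2⟩
      have h1 : I' ≤ p := (Ideal.IsPrime.pow_le_iff (Nat.succ_ne_zero N)).mp (le_sup_left.trans hp1)
      have h2 : J' ≤ p := (Ideal.IsPrime.pow_le_iff (Nat.succ_ne_zero N)).mp (le_sup_right.trans hp1)
      have := hempty' ⟨p, hp2⟩ h1 h2
      simp only at this
      rw [this]
    obtain ⟨k, hk⟩ := hrad ham
    obtain ⟨l, hl⟩ := hrad hbm
    have hkey := key (I' ^ (N + 1)) (J' ^ (N + 1)) hN1 (a ^ k) (b ^ l) hk hl (ha.pow k)
      (reg_pow' _ _ (reg_pow a b ha hb k) l)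
    rcases hkey with h0 | h0
    · obtain ⟨p, hp1, hp2⟩ := hnt'
      refine hempty ⟨p, hp1, ?_, hp2⟩
      rw [PrimeSpectrum.mem_zeroLocus]
      have : I' ≤ p.asIdeal := (Ideal.IsPrime.pow_le_iff (Nat.succ_ne_zero N)).mp (by rw [h0]; exact bot_le)
      exact this
    · obtain ⟨p, hp1, hp2⟩ := hnt
      refine hempty ⟨p, hp1, hp2, ?_⟩
      rw [PrimeSpectrum.mem_zeroLocus]
      have : J' ≤ p.asIdeal := (Ideal.IsPrime.pow_le_iff (Nat.succ_ne_zero N)).mp (by rw [h0]; exact bot_le)
      exact this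

end Groth.Agent.S0335
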