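import Groth.Statements.S0338
import Groth.Agent.Lib.Helper99.FrobD
import Groth.Agent.Lib.Helper99.FrobF
import Groth.Agent.Lib.Helper52.KunzLocal

set_option autoImplicit false
universe u v
open CategoryTheory
open LocCoh

namespace Groth.Agent.S0338

/-- Over a regular local ring of prime characteristic p, let M be a module killed elementwise by powers
of the maximal ideal and isomorphic to its own base change along Frobenius; then M is isomorphic to
a (possibly infinite) sum of copies of E, where E is an injective hull of the residue field. -/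
theorem result (p : ℕ) [Fact p.Prime] (R : Type u) [CommRing R] [IsRegularLocalRing R] [CharP R p] (E : Type u) [AddCommGroup E] [Module R E] (f : IsLocalRing.ResidueField R →ₗ[R] E) (hf : InjHull.IsInjectiveHull f) (M : Type u) [AddCommGroup M] [Module R M] (hM : LocCoh.IsPowerTorsion (IsLocalRing.maximalIdeal R) M) (h : Nonempty ((ModuleCat.extendScalars (frobenius R p)).obj (ModuleCat.of R M) ≅ ModuleCat.of R M)) : ∃ ι : Type u, Nonempty (M ≃ₗ[R] (ι →₀ E)) := by
  have hflat : (frobenius R p).Flat :=
    Groth.Agent.Lib.Helper52.KunzLocal.flat_of_regular R p (Fact.out : p.Prime).one_lt.le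
      (frobenius R p) (fun x => frobenius_def p x)
  obtain ⟨ι0, ⟨e0⟩⟩ := Groth.Agent.Lib.Helper99.Frob.exists_socle_equiv (R := R) M
  haveI : Module.Injective R M := by
    apply Groth.Agent.Lib.Helper99.Frob.injective_of_levels (IsLocalRing.maximalIdeal R) M hM
    intro n
    obtain ⟨e, he⟩ := Groth.Agent.Lib.Helper99.Frob.exists_frobPow_le_pow p
      (IsLocalRing.maximalIdeal R) n
    haveI : IsLocalRing (R ⧸ Groth.Agent.Lib.Helper99.Frob.frobPow p
        (IsLocalRing.maximalIdeal R) e) :=
      Groth.Agent.Lib.Helper85.GorFlat.isLocalRing_quot _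
        (Groth.Agent.Lib.Helper99.Frob.frobPow_le_self p _ e)
    exact ⟨_, he, Groth.Agent.Lib.Helper99.Frob.injective_quot_frobPow p R hflat e, ι0,
      Groth.Agent.Lib.Helper99.Frob.iterate p hflat M h (IsLocalRing.maximalIdeal R) ι0 e0 e⟩
  exact Groth.Agent.Lib.Helper99.Frob.nonempty_equiv_finsupp_hull f hf M hM

end Groth.Agent.S0338
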