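import Groth.Statements.S0340
import Groth.Agent.S0339
import Mathlib.Tactic

set_option autoImplicit false
universe u v
open CategoryTheory
open Goren

namespace Groth.Agent.S0340

/-- A Noetherian local ring is Gorenstein exactly when Ext^i(κ, A) vanishes for all large i. -/
theorem result (A : Type u) [CommRing A] [IsLocalRing A] [IsNoetherianRing A] : LocCoh.IsGorensteinLocalRing A ↔ ∃ N : ℕ, ∀ i : ℕ, N ≤ i → Subsingleton (Abelian.Ext (ModuleCat.of A (IsLocalRing.ResidueField A)) (ModuleCat.of A A) i) := by
  rw [← Groth.Agent.S0339.result A A]
  constructor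
  · intro h
    exact h.exists_hasInjectiveDimensionLT
  · intro h
    exact { exists_hasInjectiveDimensionLT := h }

end Groth.Agent.S0340
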