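import Groth.Statements.S0342
import Groth.Agent.S11185
import Groth.Agent.Lib.Helper52.RegularQuot
import Mathlib.Tactic

set_option autoImplicit false
universe u v
open Goren

namespace Groth.Agent.S0342

/-- Regular local rings have finite injective dimension over themselves, i.e. are Gorenstein. -/
theorem result (A : Type u) [CommRing A] [IsRegularLocalRing A] : LocCoh.IsGorensteinLocalRing A := by
  obtain ⟨d, hd⟩ := Groth.Agent.Lib.Helper52.exists_nat_ringKrullDim A
  exact { exists_hasInjectiveDimensionLT := ⟨d + 1, Groth.Agent.S11185.injDim_regularLocal A d hd⟩ }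

end Groth.Agent.S0342
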