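import Groth.Statements.S0345
import Groth.Agent.Lib.Helper4.GorCM
import Mathlib.RingTheory.LocalProperties.InjectiveDimension
import Mathlib.RingTheory.Ideal.KrullsHeightTheorem
import Mathlib.Tactic

set_option autoImplicit false
universe u v
open Goren

namespace Groth.Agent.S0345

open CategoryTheory in
noncomputable def locIso (A : Type u) [CommRing A] (p : Ideal A) [p.IsPrime] :
    (ModuleCat.of A A).localizedModule p.primeCompl ≅
      ModuleCat.of (Localization.AtPrime p) (Localization.AtPrime p) := by
  let e1 : LocalizedModule p.primeCompl A ≃ₗ[Localization.AtPrime p] Localization.AtPrime p :=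
    LinearEquiv.extendScalarsOfIsLocalization p.primeCompl (Localization.AtPrime p)
      (IsLocalizedModule.linearEquiv p.primeCompl
        (LocalizedModule.mkLinearMap p.primeCompl A)
        (Algebra.linearMap A (Localization.AtPrime p)))
  let e2 : Shrink.{u} (LocalizedModule p.primeCompl A) ≃ₗ[Localization.AtPrime p]
      Localization.AtPrime p :=
    (Shrink.linearEquiv (Localization.AtPrime p) _).trans e1
  exact e2.toModuleIso

lemma exists_nat_of_lt_top {x : WithBot ℕ∞} (h : x < ⊤) : ∃ n : ℕ, x ≤ n := by
  induction x with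
  | bot => exact ⟨0, bot_le⟩
  | coe y =>
    induction y with
    | top => exact absurd h (lt_irrefl _)
    | coe m => exact ⟨m, le_rfl⟩

/-- For a Noetherian ring A, the A-module A has finite injective dimension exactly when every
localization of A at a prime is Gorenstein and A has finite Krull dimension. -/
theorem result (A : Type u) [CommRing A] [IsNoetherianRing A] : (∃ n : ℕ, CategoryTheory.HasInjectiveDimensionLT (ModuleCat.of A A) n) ↔ (LocCoh.IsGorensteinRing A ∧ ringKrullDim A < ⊤) := by
  constructor
  · rintro ⟨n, hn⟩
    have hn1 : CategoryTheory.HasInjectiveDimensionLE (ModuleCat.of A A) n :=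
      CategoryTheory.hasInjectiveDimensionLT_of_ge _ n (n + 1) (by omega)
    have hloc : ∀ (p : Ideal A) [p.IsPrime], CategoryTheory.HasInjectiveDimensionLT
        (ModuleCat.of (Localization.AtPrime p) (Localization.AtPrime p)) (n + 1) := by
      intro p _
      have h1 := ModuleCat.localizedModule_hasInjectiveDimensionLE n p.primeCompl (ModuleCat.of A A)
      exact CategoryTheory.hasInjectiveDimensionLT_of_iso (locIso A p) (n + 1)
    have hgor : ∀ (p : Ideal A) [p.IsPrime],
        LocCoh.IsGorensteinLocalRing (Localization.AtPrime p) := by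
      intro p _
      exact { exists_hasInjectiveDimensionLT := ⟨n + 1, hloc p⟩ }
    refine ⟨{ isGorensteinLocalRing_localization := hgor }, ?_⟩
    have hle : ringKrullDim A ≤ ((n : ℕ∞) : WithBot ℕ∞) := by
      rw [ringKrullDim_le_iff_height_le]
      intro p hp
      have _ := hgor p
      obtain ⟨d, hdim, hdepth, _⟩ :=
        Groth.Agent.Lib.Helper4.GorCM.gorenstein_dim (Localization.AtPrime p)
      have h2 := Groth.Agent.Lib.Helper4.GorCM.depth_le_of_hasInjectiveDimensionLT
        (Localization.AtPrime p) n (hloc p)
      rw [hdepth] at h2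
      have h3 : d ≤ n := by exact_mod_cast h2
      rw [IsLocalization.AtPrime.ringKrullDim_eq_height p (Localization.AtPrime p)] at hdim
      have h4 : ((p.height : ℕ∞) : WithBot ℕ∞) = ((d : ℕ∞) : WithBot ℕ∞) := hdim
      rw [h4]
      exact_mod_cast h3
    refine lt_of_le_of_lt hle ?_
    exact WithBot.coe_lt_coe.mpr (ENat.coe_lt_top n)
  · rintro ⟨hG, hdim⟩
    obtain ⟨n, hn⟩ := exists_nat_of_lt_top hdim
    refine ⟨n + 1, ?_⟩
    change CategoryTheory.HasInjectiveDimensionLE (ModuleCat.of A A) n
    rw [ModuleCat.hasInjectiveDimensionLE_iff_forall_primeSpectrum]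
    intro p
    have _ := hG.isGorensteinLocalRing_localization p.asIdeal
    obtain ⟨d, hd, _, hinj⟩ :=
      Groth.Agent.Lib.Helper4.GorCM.gorenstein_dim (Localization.AtPrime p.asIdeal)
    have hp : ringKrullDim (Localization.AtPrime p.asIdeal) ≤ n := by
      rw [IsLocalization.AtPrime.ringKrullDim_eq_height p.asIdeal (Localization.AtPrime p.asIdeal)]
      exact Ideal.height_le_ringKrullDim_of_isPrime.trans hn
    rw [hd] at hp
    have hdn : d ≤ n := by exact_mod_cast hp
    have h2 : CategoryTheory.HasInjectiveDimensionLT
        (ModuleCat.of (Localization.AtPrime p.asIdeal) (Localization.AtPrime p.asIdeal)) (n + 1) :=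
      CategoryTheory.hasInjectiveDimensionLT_of_ge _ (d + 1) (n + 1) (by omega)
    exact CategoryTheory.hasInjectiveDimensionLT_of_iso (locIso A p.asIdeal).symm (n + 1)

end Groth.Agent.S0345
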