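import Groth.Statements.S0349
import Mathlib.AlgebraicGeometry.Morphisms.UniversallyOpen
import Mathlib.AlgebraicGeometry.ResidueField
import Mathlib.AlgebraicGeometry.PullbackCarrier
import Mathlib.CategoryTheory.Monoidal.Cartesian.Grp

set_option autoImplicit false
universe u v
open CategoryTheory CategoryTheory.Limits MonoidalCategory CartesianMonoidalCategory MonObj GrpObj AlgebraicGeometry
open GrpSch

namespace Groth.Agent.S0349

/- The following lemma is the argument of S7823 (landed by helper90), which does not use the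
finite-type hypothesis. -/
theorem mul_dense (k : Type u) [Field k] (G : Over (Spec (CommRingCat.of k))) [GrpObj G]
    (U V : G.left.Opens) (hU : Dense (U : Set G.left)) (hV : Dense (V : Set G.left)) :
    μ[G].left '' ((fst G G).left ⁻¹' (U : Set G.left) ∩ (snd G G).left ⁻¹' (V : Set G.left)) = Set.univ := by
  apply Set.eq_univ_of_forall
  intro g
  let K := G.left.residueField g
  let ιg : Spec K ⟶ G.left := G.left.fromSpecResidueField g
  let T : Over (Spec (CommRingCat.of k)) := Over.mk (ιg ≫ G.hom)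
  let gT : T ⟶ G := Over.homMk ιg rfl
  let a : G ⊗ T ⟶ G := fst G T
  let b : G ⊗ T ⟶ G := snd G T ≫ gT
  let θ : G ⊗ T ⟶ G := a⁻¹ * b
  let φ : G ⊗ T ⟶ G ⊗ G := lift a θ
  have hφμ : φ ≫ μ[G] = b := by
    show lift a θ ≫ μ = b
    rw [← Hom.mul_def]
    simp [θ]
  let α : G ⊗ T ⟶ G ⊗ T := lift θ (snd G T)
  let α' : G ⊗ T ⟶ G ⊗ T := lift (b * a⁻¹) (snd G T)
  have hαa : α ≫ a = θ := lift_fst _ _
  have hαb : α ≫ b = b := by
    show lift θ (snd G T) ≫ snd G T ≫ gT = snd G T ≫ gT
    rw [lift_snd_assoc]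
  have hα'a : α' ≫ a = b * a⁻¹ := lift_fst _ _
  have hα'b : α' ≫ b = b := by
    show lift (b * a⁻¹) (snd G T) ≫ snd G T ≫ gT = snd G T ≫ gT
    rw [lift_snd_assoc]
  have hαα' : α ≫ α' = 𝟙 _ := by
    apply CartesianMonoidalCategory.hom_ext
    · show (α ≫ lift (b * a⁻¹) (snd G T)) ≫ fst G T = 𝟙 _ ≫ fst G T
      rw [Category.assoc, lift_fst, MonObj.comp_mul, GrpObj.comp_inv, hαa, hαb, Category.id_comp]
      simp [θ]
      rfl
    · show (α ≫ lift (b * a⁻¹) (snd G T)) ≫ snd G T = 𝟙 _ ≫ snd G T
      rw [Category.assoc, lift_snd, Category.id_comp]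
      exact lift_snd _ _
  have hα'α : α' ≫ α = 𝟙 _ := by
    apply CartesianMonoidalCategory.hom_ext
    · show (α' ≫ lift (a⁻¹ * b) (snd G T)) ≫ fst G T = 𝟙 _ ≫ fst G T
      rw [Category.assoc, lift_fst, MonObj.comp_mul, GrpObj.comp_inv, hα'a, hα'b, Category.id_comp]
      simp
      rfl
    · show (α' ≫ lift (a⁻¹ * b) (snd G T)) ≫ snd G T = 𝟙 _ ≫ snd G T
      rw [Category.assoc, lift_snd, Category.id_comp]
      exact lift_snd _ _
  have hαiso : IsIso α := ⟨α', hαα', hα'α⟩
  have hαleft : IsIso α.left := (Over.forget _).map_isIso α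
  have hopenα : IsOpenMap α.left := α.left.isOpenEmbedding.isOpenMap
  have hopen_fst : IsOpenMap (fst G T).left := by
    rw [Over.fst_left]
    exact (pullback.fst G.hom T.hom).isOpenMap
  have hθleft : θ.left = α.left ≫ (fst G T).left := by
    rw [← Over.comp_left]
    exact congrArg CommaMorphism.left hαa.symm
  have hopenθ : IsOpenMap θ.left := by
    rw [hθleft]
    exact hopen_fst.comp hopenα
  have hD1 : Dense ((fst G T).left ⁻¹' (U : Set G.left)) := hU.preimage hopen_fst
  have hD2 : Dense (θ.left ⁻¹' (V : Set G.left)) := hV.preimage hopenθ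
  have hO1 : IsOpen ((fst G T).left ⁻¹' (U : Set G.left)) :=
    U.isOpen.preimage (fst G T).left.continuous
  have hne : Nonempty (G ⊗ T).left := by
    have : Nonempty (Spec K) := inferInstance
    exact this.map (lift gT (𝟙 T)).left
  obtain ⟨w, hw1, hw2⟩ := (hD1.inter_of_isOpen_left hD2 hO1).nonempty
  refine ⟨φ.left w, ⟨?_, ?_⟩, ?_⟩
  · show (fst G G).left (φ.left w) ∈ (U : Set G.left)
    have e : φ.left ≫ (fst G G).left = (fst G T).left := by
      rw [← Over.comp_left]
      exact congrArg CommaMorphism.left (lift_fst a θ)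
    rw [← Scheme.Hom.comp_apply, e]
    exact hw1
  · show (snd G G).left (φ.left w) ∈ (V : Set G.left)
    have e : φ.left ≫ (snd G G).left = θ.left := by
      rw [← Over.comp_left]
      exact congrArg CommaMorphism.left (lift_snd a θ)
    rw [← Scheme.Hom.comp_apply, e]
    exact hw2
  · have e : φ.left ≫ μ[G].left = (snd G T).left ≫ ιg := by
      rw [← Over.comp_left]
      exact congrArg CommaMorphism.left hφμ
    rw [← Scheme.Hom.comp_apply, e, Scheme.Hom.comp_apply]
    have := Set.mem_range_self (f := ιg) ((snd G T).left w)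
    rw [Scheme.range_fromSpecResidueField] at this
    exact this



/-- An irreducible group scheme over a field is quasi-compact. -/
theorem result (K : Type u) [Field K] (G : Over (Spec (CommRingCat.of K))) [GrpObj G] [IrreducibleSpace G.left] : CompactSpace G.left := by
  obtain ⟨x⟩ : Nonempty G.left := inferInstance
  obtain ⟨U, hU, hxU, -⟩ := exists_isAffineOpen_mem_and_subset (U := (⊤ : G.left.Opens)) (x := x) trivial
  have hdense : Dense (U : Set G.left) := U.isOpen.dense ⟨x, hxU⟩
  have hmul := mul_dense K G U U hdense hdense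
  have hS : IsCompact ((fst G G).left ⁻¹' (U : Set G.left) ∩ (snd G G).left ⁻¹' (U : Set G.left)) := by
    rw [Over.fst_left, Over.snd_left]
    have hr := Scheme.Pullback.range_map (f := U.ι ≫ G.hom) (g := U.ι ≫ G.hom) G.hom G.hom U.ι U.ι
      (𝟙 _) (by simp) (by simp)
    rw [Scheme.Opens.range_ι] at hr
    rw [← hr]
    have : IsAffine (U : Scheme) := hU
    exact isCompact_range (Scheme.Hom.continuous _)
  constructor
  rw [← hmul]
  exact hS.image μ[G].left.continuous

end Groth.Agent.S0349
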