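import Groth.Statements.S1892
import Groth.Agent.Lib.Helper72.GrpdTranslate

set_option autoImplicit false
universe u
open CategoryTheory CategoryTheory.Limits AlgebraicGeometry
open Grpd

namespace Groth.Agent.S1892

open Groth.Agent.Lib.Helper72.GrpdPts Groth.Agent.Lib.Helper72.FieldBase

set_option backward.isDefEq.respectTransparency false in
/-- Composition lifts along a morphism of groupoid schemes that is a monomorphism on objects. -/
theorem exists_comp_lift {S : Scheme.{u}} {G₁ G₂ : Grpd.GroupoidScheme S}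
    (a : Grpd.GroupoidScheme.Hom G₁ G₂) [Mono a.fU] :
    ∃ γ : pullback (a.fR ≫ G₂.s) (a.fR ≫ G₂.t) ⟶ G₁.R,
      γ ≫ a.fR = pullback.map (a.fR ≫ G₂.s) (a.fR ≫ G₂.t) G₂.s G₂.t a.fR a.fR (𝟙 G₂.U)
        (by simp) (by simp) ≫ G₂.c := by
  have hcond : pullback.fst (a.fR ≫ G₂.s) (a.fR ≫ G₂.t) ≫ G₁.s =
      pullback.snd (a.fR ≫ G₂.s) (a.fR ≫ G₂.t) ≫ G₁.t := by
    rw [← cancel_mono a.fU, Category.assoc, Category.assoc, ← a.comm_s, ← a.comm_t]
    exact pullback.condition
  refine ⟨pullback.lift _ _ hcond ≫ G₁.c, ?_⟩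
  refine (a.comm_c _ _ hcond).trans ?_
  congr 1

/-- General form: a locally closed image of a morphism of groupoid schemes (iso on objects) over an
integral one-point scheme is closed. -/
theorem main {S : Scheme.{u}} (G₁ G₂ : Grpd.GroupoidScheme S) [IsIntegral G₂.U] [Subsingleton G₂.U]
    (a : Grpd.GroupoidScheme.Hom G₁ G₂) [IsIso a.fU]
    (hlc : IsLocallyClosed (Set.range ⇑a.fR)) : IsClosed (Set.range ⇑a.fR) := by
  obtain ⟨γ, hγ⟩ := exists_comp_lift a
  refine isClosed_of_isLocallyClosed G₂ _ ?_ ?_ ?_ ?_ hlc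
  · intro u
    refine ⟨G₁.e ((inv a.fU) u), ?_⟩
    rw [← Scheme.Hom.comp_apply, ← Scheme.Hom.comp_apply, Hom.e_comp_fR,
      IsIso.inv_hom_id_assoc]
  · rintro _ ⟨r, rfl⟩
    refine ⟨G₁.i r, ?_⟩
    rw [← Scheme.Hom.comp_apply, Hom.i_comp_fR, Scheme.Hom.comp_apply]
  · intro p h₁ h₂
    obtain ⟨q, rfl⟩ := mem_range_pullback_map a.fR a.fR (a.fR ≫ G₂.s) (a.fR ≫ G₂.t) G₂.s G₂.t
      (by simp) (by simp) p h₁ h₂
    refine ⟨γ q, ?_⟩
    rw [← Scheme.Hom.comp_apply, hγ, Scheme.Hom.comp_apply]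
  · intro p h₁ h₂
    exact comp_mem_closure G₂.s G₂.t a.fR G₂.c γ hγ p h₁ h₂

/-- Let (U₁, R₁, s, t, c) and (U₂, R₂, s, t, c) be groupoid schemes over S with U₂ isomorphic to Spec k
for a field k, and a : R₁ → R₂ a morphism of groupoid schemes which is an isomorphism on objects. If
a(R₁) is locally closed in R₂ then it is closed. (A groupoid scheme carries U, R, s, t, c, e, i over
S satisfying the groupoid axioms on T-points.) -/
theorem result (S : Scheme.{u}) (G₁ G₂ : Grpd.GroupoidScheme S) (k : Type u) [Field k] (eU : G₂.U ≅ Spec (CommRingCat.of k)) (a : Grpd.GroupoidScheme.Hom G₁ G₂) [IsIso a.fU] (hlc : IsLocallyClosed (Set.range ⇑a.fR)) : IsClosed (Set.range ⇑a.fR) := by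
  haveI := isIntegral_of_iso_spec_field k eU
  haveI := subsingleton_of_iso_spec_field k eU
  exact main G₁ G₂ a hlc

end Groth.Agent.S1892
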