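import Groth.Statements.S7459
import Groth.Agent.Lib.Helper89.Shear
import Mathlib.AlgebraicGeometry.Morphisms.UniversallyOpen
-- import your own Groth.Agent.* helpers here

set_option autoImplicit false
universe u
open CategoryTheory MonoidalCategory CartesianMonoidalCategory MonObj GrpObj AlgebraicGeometry
open GrpSch

namespace Groth.Agent.S7459

/-- Let G be a group scheme over a field k, W an open subscheme of G and f : T -> G a morphism of
schemes (T becomes a k-scheme through f). Then the image of the composition T x_k W -> G x_k G -> G,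
the second map being the multiplication, is open. -/
theorem result (K : Type u) [Field K] (G : Over (Spec (CommRingCat.of K))) [GrpObj G] (W : G.left.Opens) (T : Scheme.{u}) (f : T ⟶ G.left) : IsOpen (Set.range ⇑(((Over.homMk f rfl : Over.mk (f ≫ G.hom) ⟶ G) ⊗ₘ (Over.homMk W.ι rfl : Over.mk (W.ι ≫ G.hom) ⟶ G)) ≫ μ[G]).left) := by
  have hdecomp : ((Over.homMk f rfl : Over.mk (f ≫ G.hom) ⟶ G) ⊗ₘ
      (Over.homMk W.ι rfl : Over.mk (W.ι ≫ G.hom) ⟶ G)) ≫ μ[G] =
      (Over.mk (f ≫ G.hom) ◁ (Over.homMk W.ι rfl : Over.mk (W.ι ≫ G.hom) ⟶ G)) ≫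
        (Groth.Agent.Lib.Helper89.shear (Over.homMk f rfl : Over.mk (f ≫ G.hom) ⟶ G)).hom ≫
          snd (Over.mk (f ≫ G.hom)) G := by
    rw [Groth.Agent.Lib.Helper89.shear_hom_snd, tensorHom_def', Category.assoc]
  rw [hdecomp, Over.comp_left, Over.comp_left]
  haveI : IsOpenImmersion
      (Over.mk (f ≫ G.hom) ◁ (Over.homMk W.ι rfl : Over.mk (W.ι ≫ G.hom) ⟶ G)).left := by
    rw [Over.whiskerLeft_left]
    haveI : IsOpenImmersion (Over.homMk W.ι rfl : Over.mk (W.ι ≫ G.hom) ⟶ G).left :=
      inferInstanceAs (IsOpenImmersion W.ι)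
    infer_instance
  haveI : IsIso (Groth.Agent.Lib.Helper89.shear
      (Over.homMk f rfl : Over.mk (f ≫ G.hom) ⟶ G)).hom.left := inferInstance
  haveI : UniversallyOpen (snd (Over.mk (f ≫ G.hom)) G).left := by
    rw [Over.snd_left]
    infer_instance
  exact (Scheme.Hom.isOpenMap _).isOpen_range

end Groth.Agent.S7459
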