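import Groth.Statements.S0352
import Groth.Agent.S7459
import Mathlib.AlgebraicGeometry.ResidueField
import Mathlib.AlgebraicGeometry.PullbackCarrier
import Mathlib.CategoryTheory.Monoidal.Cartesian.Grp

set_option autoImplicit false
universe u v
open CategoryTheory CategoryTheory.Limits MonoidalCategory CartesianMonoidalCategory MonObj GrpObj AlgebraicGeometry
open GrpSch

namespace Groth.Agent.S0352

/-- If the image of a homomorphism of group schemes over a field is open, it is also closed. -/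
theorem result (K : Type u) [Field K] (H G : Over (Spec (CommRingCat.of K))) [GrpObj H] [GrpObj G] (ψ : H ⟶ G) [IsMonHom ψ] (h : IsOpen (Set.range ψ.left)) : IsClosed (Set.range ψ.left) := by
  rw [← isOpen_compl_iff, isOpen_iff_forall_mem_open]
  intro z hz
  let W : G.left.Opens := ⟨Set.range ψ.left, h⟩
  let f : Spec (G.left.residueField z) ⟶ G.left := G.left.fromSpecResidueField z
  let T : Over (Spec (CommRingCat.of K)) := Over.mk (f ≫ G.hom)
  let fT : T ⟶ G := Over.homMk f rfl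
  let W' : Over (Spec (CommRingCat.of K)) := Over.mk (W.ι ≫ G.hom)
  let WG : W' ⟶ G := Over.homMk W.ι rfl
  let m : T ⊗ W' ⟶ G := (fT ⊗ₘ WG) ≫ μ[G]
  have hO : IsOpen (Set.range m.left) := Groth.Agent.S7459.result K G W _ f
  have hfz : ∀ x, f x = z := by
    intro x
    have hx : f x ∈ Set.range f := ⟨x, rfl⟩
    rw [Scheme.range_fromSpecResidueField] at hx
    exact hx
  refine ⟨Set.range m.left, ?_, hO, ?_⟩
  · rintro _ ⟨p, rfl⟩ ⟨h₀, hh₀⟩
    apply hz
    obtain ⟨q₁, hq₁a, hq₁b⟩ := Scheme.Pullback.exists_preimage_pullback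
      (f := m.left) (g := ψ.left) p h₀ hh₀.symm
    let w₁ : pullback m.left ψ.left ⟶ G.left :=
      pullback.fst m.left ψ.left ≫ (snd T W').left ≫ W.ι
    have hw₁ : w₁ q₁ ∈ Set.range ψ.left :=
      (((pullback.fst m.left ψ.left ≫ (snd T W').left) q₁ : W).2 : _ ∈ W)
    obtain ⟨h₁, hh₁⟩ := hw₁
    obtain ⟨q₂, hq₂a, hq₂b⟩ := Scheme.Pullback.exists_preimage_pullback
      (f := w₁) (g := ψ.left) q₁ h₁ hh₁.symm
    let Ω : Over (Spec (CommRingCat.of K)) :=
      Over.mk (pullback.fst w₁ ψ.left ≫ pullback.fst m.left ψ.left ≫ (T ⊗ W').hom)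
    let pt : Ω ⟶ T ⊗ W' := Over.homMk (pullback.fst w₁ ψ.left ≫ pullback.fst m.left ψ.left)
      (by simp [Ω])
    let ht₀ : Ω ⟶ H := Over.homMk (pullback.fst w₁ ψ.left ≫ pullback.snd m.left ψ.left) (by
      change (pullback.fst w₁ ψ.left ≫ pullback.snd m.left ψ.left) ≫ H.hom =
        pullback.fst w₁ ψ.left ≫ pullback.fst m.left ψ.left ≫ (T ⊗ W').hom
      rw [← Over.w ψ, ← Over.w m, Category.assoc, ← pullback.condition_assoc])
    let ht₁ : Ω ⟶ H := Over.homMk (pullback.snd w₁ ψ.left) (by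
      change pullback.snd w₁ ψ.left ≫ H.hom =
        pullback.fst w₁ ψ.left ≫ pullback.fst m.left ψ.left ≫ (T ⊗ W').hom
      rw [← Over.w ψ, ← pullback.condition_assoc]
      change pullback.fst w₁ ψ.left ≫ (pullback.fst m.left ψ.left ≫ (snd T W').left ≫ W.ι) ≫
        G.hom = _
      have e : (snd T W').left ≫ W.ι ≫ G.hom = (T ⊗ W').hom := Over.w (snd T W')
      simp only [Category.assoc, e])
    have e0 : pt ≫ m = ht₀ ≫ ψ := by
      ext
      change (pullback.fst w₁ ψ.left ≫ pullback.fst m.left ψ.left) ≫ m.left =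
        (pullback.fst w₁ ψ.left ≫ pullback.snd m.left ψ.left) ≫ ψ.left
      rw [Category.assoc, Category.assoc, pullback.condition]
    have e1 : pt ≫ snd T W' ≫ WG = ht₁ ≫ ψ := by
      ext
      change (pullback.fst w₁ ψ.left ≫ pullback.fst m.left ψ.left) ≫ (snd T W').left ≫ W.ι =
        pullback.snd w₁ ψ.left ≫ ψ.left
      rw [← pullback.condition, Category.assoc]
    let a : Ω ⟶ G := pt ≫ fst T W' ≫ fT
    let b : Ω ⟶ G := pt ≫ snd T W' ≫ WG
    have hab : a * b = pt ≫ m := by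
      rw [Hom.mul_def]
      change lift (pt ≫ fst T W' ≫ fT) (pt ≫ snd T W' ≫ WG) ≫ μ[G] = pt ≫ (fT ⊗ₘ WG) ≫ μ[G]
      rw [← Category.assoc pt, ← Category.assoc pt, ← Category.assoc pt]
      congr 1
      apply CartesianMonoidalCategory.hom_ext <;> simp
    have ha : a = (ht₀ / ht₁) ≫ ψ := by
      rw [GrpObj.div_comp, ← e0, ← e1, ← hab]
      change a = a * b / b
      rw [mul_div_cancel_right]
    have haz : a.left q₂ = z := hfz _
    rw [ha] at haz
    exact ⟨(ht₀ / ht₁).left q₂, haz⟩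
  · have hη : η[H] ≫ ψ = η[G] := IsMonHom.one_hom ψ
    have hrange : Set.range (toUnit T ≫ η[G]).left ⊆ Set.range W.ι := by
      rw [Scheme.Opens.range_ι]
      rintro _ ⟨x, rfl⟩
      rw [← hη]
      exact ⟨(toUnit T ≫ η[H]).left x, rfl⟩
    let eW : T ⟶ W' := Over.homMk (IsOpenImmersion.lift W.ι (toUnit T ≫ η[G]).left hrange) (by
      change IsOpenImmersion.lift W.ι (toUnit T ≫ η[G]).left hrange ≫ W.ι ≫ G.hom = T.hom
      rw [IsOpenImmersion.lift_fac_assoc]
      exact Over.w _)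
    have heW : eW ≫ WG = toUnit T ≫ η[G] := by
      ext
      exact IsOpenImmersion.lift_fac _ _ _
    let s : T ⟶ T ⊗ W' := lift (𝟙 T) eW
    have hs : s ≫ m = fT := by
      change lift (𝟙 T) eW ≫ (fT ⊗ₘ WG) ≫ μ[G] = fT
      rw [lift_map_assoc, Category.id_comp, heW, MonObj.lift_comp_one_right]
    obtain ⟨pt⟩ : Nonempty (Spec (G.left.residueField z)) := inferInstance
    refine ⟨s.left pt, ?_⟩
    have e1 : (s ≫ m).left pt = f pt := by rw [hs]; rfl
    rw [← hfz pt, ← e1]
    rfl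

end Groth.Agent.S0352
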