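import Groth.Statements.S0356
import Groth.Agent.Lib.Helper98.AffineKoszul
import Groth.Agent.S5173

set_option autoImplicit false
universe u v
open CategoryTheory AlgebraicGeometry
open LocCoh

namespace Groth.Agent.S0356


/-- Let R be a Noetherian ring, I an ideal, M an R-module and U = Spec R ∖ V(I) the punctured open. For
every p ≥ 1, the cohomology group H^p(U, M̃|_U) of the restriction to U of the quasi-coherent sheaf
associated with M is isomorphic to the local cohomology H^(p+1)_I(M). (The published statement also
gives a four-term exact sequence in low degrees, which is not stated here; here R is Noetherian.) -/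
theorem result (R : Type u) [CommRing R] [IsNoetherianRing R] (I : Ideal R) (M : Type u) [AddCommGroup M] [Module R M] (p : ℕ) (hp : 1 ≤ p) : Nonempty (Coh.HH (↑(LocCoh.puncturedOpen R I)) ((AlgebraicGeometry.tilde (R := CommRingCat.of R) (ModuleCat.of R M)).restrict (LocCoh.puncturedOpen R I).ι) p ≃+ LocCoh.H I (p + 1) M) := by
  obtain ⟨s, hs⟩ := (isNoetherian_def.1 (inferInstance : IsNoetherian R R)) I
  have hI : I = Ideal.span {a | a ∈ s.toList} := by
    rw [← hs]
    congr 1
    ext a
    simp
  subst hI
  obtain ⟨e1⟩ := Groth.Agent.Lib.Helper98.AffineKoszul.HHonEquiv R s.toList (ModuleCat.of R M) p hp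
  obtain ⟨e2⟩ := Groth.Agent.S5173.result R s.toList M (p + 1)
  exact ⟨e1.trans e2.symm.toAddEquiv⟩

end Groth.Agent.S0356
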