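import Groth.Statements.S0361
-- import your own Groth.Agent.* helpers here
import Groth.Agent.Lib.Helper88.TorGen4
import Groth.Agent.Lib.Helper68.TorSymm

set_option autoImplicit false
universe u v
open CategoryTheory
open LocCoh

namespace Groth.Agent.S0361

/-- For an ideal I of a Noetherian ring generated by at most t elements there are N, c ≥ 0 such that for
every module M and every n ≥ N the map Tor_{t+1}(M, R/I^n) → Tor_{t+1}(M, R/I^{n−c}) is zero. -/
theorem result (R : Type u) [CommRing R] [IsNoetherianRing R] (I : Ideal R) (t : ℕ) (s : Finset R) (hs : I = Ideal.span (s : Set R)) (ht : s.card ≤ t) : ∃ N c : ℕ, ∀ (M : Type u) [AddCommGroup M] [Module R M], ∀ n : ℕ, N ≤ n → (((Tor (ModuleCat.{u} R) (t + 1)).obj (ModuleCat.of R M)).map (ModuleCat.ofHom (Submodule.mapQ (I ^ n) (I ^ (n - c)) LinearMap.id (Ideal.pow_le_pow_right (Nat.sub_le n c))))) = 0 := by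
  subst hs
  obtain ⟨c, hc⟩ := Groth.Agent.Lib.Helper88.TorGen.trans_main s
  refine ⟨c, c, fun M _ _ n hn => ?_⟩
  have h1 := hc (t + 1) (by omega) (ModuleCat.of R M) n (n - c) (Nat.sub_le n c) (by omega)
  let e := Groth.Agent.Lib.Helper68.TorSymm.torIsoFlip (R := R) (t + 1)
  let g : ModuleCat.of R (R ⧸ (Ideal.span (s : Set R) ^ n : Ideal R)) ⟶
      ModuleCat.of R (R ⧸ (Ideal.span (s : Set R) ^ (n - c) : Ideal R)) :=
    ModuleCat.ofHom (Submodule.mapQ (Ideal.span (s : Set R) ^ n) (Ideal.span (s : Set R) ^ (n - c))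
      LinearMap.id (Ideal.pow_le_pow_right (Nat.sub_le n c)))
  have hnat := (e.hom.app (ModuleCat.of R M)).naturality g
  have h2 : ((Tor (ModuleCat.{u} R) (t + 1)).flip.obj (ModuleCat.of R M)).map g = 0 := h1
  rw [h2, Limits.comp_zero] at hnat
  have h3 : ((Tor (ModuleCat.{u} R) (t + 1)).obj (ModuleCat.of R M)).map g =
      (((Tor (ModuleCat.{u} R) (t + 1)).obj (ModuleCat.of R M)).map g ≫
        (e.hom.app (ModuleCat.of R M)).app _) ≫ (e.inv.app (ModuleCat.of R M)).app _ := by
    rw [Category.assoc, ← NatTrans.comp_app, ← NatTrans.comp_app, e.hom_inv_id]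
    simp
  rw [hnat, Limits.zero_comp] at h3
  exact h3

end Groth.Agent.S0361
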