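import Groth.Statements.S0363
-- import your own Groth.Agent.* helpers here
import Groth.Agent.Lib.Helper88.TorK3

set_option autoImplicit false
universe u v
open CategoryTheory
open Goren

namespace Groth.Agent.S0363

/-- Over a Gorenstein local ring of dimension d with E an injective hull of the residue field κ,
Tor_i(E, κ) vanishes for i ≠ d and Tor_d(E, κ) is isomorphic to κ. -/
theorem result (A : Type u) [CommRing A] [LocCoh.IsGorensteinLocalRing A] (d : ℕ) (hd : ringKrullDim A = d) (E : Type u) [AddCommGroup E] [Module A E] (f : IsLocalRing.ResidueField A →ₗ[A] E) (hf : InjHull.IsInjectiveHull f) : (∀ i : ℕ, i ≠ d → Limits.IsZero (((Tor (ModuleCat.{u} A) i).obj (ModuleCat.of A E)).obj (ModuleCat.of A (IsLocalRing.ResidueField A)))) ∧ Nonempty ((((Tor (ModuleCat.{u} A) d).obj (ModuleCat.of A E)).obj (ModuleCat.of A (IsLocalRing.ResidueField A))) ≅ ModuleCat.of A (IsLocalRing.ResidueField A)) := by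
  classical
  have key := fun i => Groth.Agent.Lib.Helper88.TorK.tl_injHull A d hd hf i
  have iso : ∀ i, ((Tor (ModuleCat.{u} A) i).obj (ModuleCat.of A E)).obj
      (ModuleCat.of A (IsLocalRing.ResidueField A)) ≅
      ((Groth.Agent.Lib.Helper68.TorMod.tF (ModuleCat.of A (IsLocalRing.ResidueField A))).leftDerived
        i).obj (ModuleCat.of A E) := fun i =>
    ((Groth.Agent.Lib.Helper68.TorSymm.torIsoFlip i).app (ModuleCat.of A E)).app
      (ModuleCat.of A (IsLocalRing.ResidueField A))
  constructor
  · intro i hi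
    have h := key i
    rw [if_neg hi] at h
    unfold Groth.Agent.Lib.Helper88.TorK.tl at h
    have := Module.length_eq_zero_iff.1 h
    exact (ModuleCat.isZero_of_subsingleton _).of_iso (iso i)
  · have h := key d
    rw [if_pos rfl] at h
    unfold Groth.Agent.Lib.Helper88.TorK.tl at h
    have hs := Module.length_eq_one_iff.1 h
    obtain ⟨I, hI, ⟨e⟩⟩ := isSimpleModule_iff_quot_maximal.1 hs
    have hIm : I = IsLocalRing.maximalIdeal A := IsLocalRing.eq_maximalIdeal hI
    subst hIm
    exact ⟨iso d ≪≫ e.toModuleIso⟩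


end Groth.Agent.S0363
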