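import Groth.Statements.S0365
import Groth.Agent.Lib.Helper39.Dual.HDSelf
import Groth.Agent.S0367
-- import your own Groth.Agent.* helpers here

set_option autoImplicit false
universe u v
open CategoryTheory
attribute [local instance] HasDerivedCategory.standard
open Dual

namespace Groth.Agent.S0365

/-- For a Noetherian local ring with normalized dualizing complex ω, the depth of the ring is the least
δ ≥ 0 with H^{-δ}(ω) nonzero. -/
theorem result (A : Type u) [CommRing A] [IsLocalRing A] [IsNoetherianRing A] (ω : Dual.D A) (hω : Dual.IsDualizing A ω) (hn : Dual.IsNormalized A ω) (n : ℕ) : LocCoh.depth A A = n ↔ ((∀ δ : ℕ, δ < n → Subsingleton (Dual.HD A ω (-(δ : ℤ)))) ∧ Nontrivial (Dual.HD A ω (-(n : ℤ)))) := by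
  rw [Groth.Agent.S0367.result A ω hω hn A n]
  have key : ∀ i : ℤ, Subsingleton (Dual.inD A A ⟶ ω⟦i⟧) ↔ Subsingleton (Dual.HD A ω i) :=
    fun i => Lib.Helper39.Dual.subsingleton_hom_inD_self_iff ω i
  constructor
  · rintro ⟨h1, h2⟩
    refine ⟨fun δ hδ => (key _).1 (h1 δ hδ), ?_⟩
    rw [← not_subsingleton_iff_nontrivial] at h2 ⊢
    exact fun h => h2 ((key _).2 h)
  · rintro ⟨h1, h2⟩
    refine ⟨fun δ hδ => (key _).2 (h1 δ hδ), ?_⟩
    rw [← not_subsingleton_iff_nontrivial] at h2 ⊢
    exact fun h => h2 ((key _).1 h)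

end Groth.Agent.S0365
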