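import Groth.Statements.S0366
import Groth.Agent.Lib.Helper39.Dual.LocExt
import Groth.Agent.Lib.Helper39.Dual.DimVan
-- import your own Groth.Agent.* helpers here

set_option autoImplicit false
universe u v
open CategoryTheory
attribute [local instance] HasDerivedCategory.standard
open Dual

namespace Groth.Agent.S0366

/-- Let A be a Noetherian local ring with a normalized dualizing complex ω and M a finite A-module whose
support has dimension d. Then for every integer i the A-module Ext^i(M, ω) = Hom_{D(A)}(M, ω[i]) is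
nonzero only if −d ≤ i ≤ 0, and its support has dimension at most −i (read as 0 when i > 0). -/
theorem result (A : Type u) [CommRing A] [IsLocalRing A] [IsNoetherianRing A] (ω : Dual.D A) (hω : Dual.IsDualizing A ω) (hn : Dual.IsNormalized A ω) (M : Type u) [AddCommGroup M] [Module A M] [Module.Finite A M] (d : ℕ) (hd : Module.supportDim A M = d) (i : ℤ) : (Nontrivial (Dual.inD A M ⟶ ω⟦i⟧) → (-(d : ℤ) ≤ i ∧ i ≤ 0)) ∧ Module.supportDim A (Dual.inD A M ⟶ ω⟦i⟧) ≤ ((-i).toNat : WithBot ℕ∞) := by
  refine ⟨fun hnt => ?_, ?_⟩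
  · constructor
    · by_contra hlt
      push Not at hlt
      have := Lib.Helper39.Dual.dimVan ω hω hn d i hlt M (le_of_eq hd)
      exact not_subsingleton _ this
    · by_contra hlt
      push Not at hlt
      have := Lib.Helper39.Dual.vanProp ω hω hn i M 0 (by simp) (by simpa using hlt)
      exact not_subsingleton _ this
  · unfold Module.supportDim
    rw [Order.krullDim_eq_iSup_coheight]
    apply iSup_le
    rintro ⟨p, hp⟩
    have h1 : Order.coheight (⟨p, hp⟩ : Module.support A (Dual.inD A M ⟶ ω⟦i⟧)) ≤
        Order.coheight p :=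
      Order.coheight_le_coheight_apply_of_strictMono
        (fun y : Module.support A (Dual.inD A M ⟶ ω⟦i⟧) => (y : PrimeSpectrum A))
        (fun _ _ h => h) _
    have hfin : Order.coheight p ≠ ⊤ := by
      intro htop
      have h2 := Order.coheight_le_krullDim p
      rw [htop] at h2
      have h3 : ringKrullDim A < ⊤ := ringKrullDim_lt_top
      exact absurd (lt_of_le_of_lt h2 h3) (lt_irrefl _)
    obtain ⟨e, he⟩ := ENat.ne_top_iff_exists.mp hfin
    obtain ⟨hBn, ω', hω', hn', hiff⟩ :=
      Lib.Helper39.Dual.exists_local_model ω hω hn p e he.symm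
    have h2 : ¬ Lib.Helper25.LocDual.LocZero p.asIdeal.primeCompl (Dual.inD A M ⟶ ω⟦i⟧) := by
      rw [Lib.Helper25.LocDual.locZero_iff_subsingleton, not_subsingleton_iff_nontrivial]
      exact Module.mem_support_iff.1 hp
    rw [hiff (ModuleCat.of A M) i] at h2
    have h3 : i + (e : ℤ) ≤ 0 := by
      by_contra hpos
      push Not at hpos
      apply h2
      have hfinB := Lib.Helper39.Dual.finite_extendScalars
        (algebraMap A (Localization.AtPrime p.asIdeal)) M
      exact Lib.Helper39.Dual.vanProp ω' hω' hn' (i + e)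
        ((ModuleCat.extendScalars.{u, u, u}
            (algebraMap A (Localization.AtPrime p.asIdeal))).obj (ModuleCat.of A M)) 0
        (by simp) (by simpa using hpos)
    have h4 : e ≤ (-i).toNat := by omega
    calc ((Order.coheight (⟨p, hp⟩ : Module.support A (Dual.inD A M ⟶ ω⟦i⟧)) : ℕ∞) : WithBot ℕ∞)
        ≤ ((Order.coheight p : ℕ∞) : WithBot ℕ∞) := by exact_mod_cast h1
      _ = ((e : ℕ∞) : WithBot ℕ∞) := by rw [← he]
      _ ≤ (((-i).toNat : ℕ∞) : WithBot ℕ∞) := by exact_mod_cast h4

end Groth.Agent.S0366
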