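import Groth.Statements.S0368
import Groth.Agent.Lib.Helper39.Dual.DimVan
-- import your own Groth.Agent.* helpers here

set_option autoImplicit false
universe u v
open CategoryTheory
attribute [local instance] HasDerivedCategory.standard
open Dual

namespace Groth.Agent.S0368

/-- (1)⇔(3): for a Noetherian local ring with normalized dualizing complex ω, a nonzero finite module M
with support of dimension d is Cohen–Macaulay exactly when Hom(M, ω[−i]) vanishes in D(A) for every
i ≠ d. -/
theorem result (A : Type u) [CommRing A] [IsLocalRing A] [IsNoetherianRing A] (ω : Dual.D A) (hω : Dual.IsDualizing A ω) (hn : Dual.IsNormalized A ω) (M : Type u) [AddCommGroup M] [Module A M] [Module.Finite A M] [Nontrivial M] (d : ℕ) (hd : Module.supportDim A M = d) : LocCoh.IsCohenMacaulayModule A M ↔ ∀ i : ℤ, i ≠ d → Subsingleton (Dual.inD A M ⟶ ω⟦(-i)⟧) := by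
  obtain ⟨k, hk⟩ := ENat.ne_top_iff_exists.mp (Lib.Helper67.depth_ne_top (R := A) M)
  have hntk := Lib.Helper39.Dual.nontrivial_hom_of_depth_eq ω hω hn k M hk.symm
  unfold LocCoh.IsCohenMacaulayModule
  rw [hd, ← hk]
  have hcast : ((d : ℕ) : WithBot ℕ∞) = (((k : ℕ) : ℕ∞) : WithBot ℕ∞) ↔ d = k := by
    rw [show ((d : ℕ) : WithBot ℕ∞) = (((d : ℕ) : ℕ∞) : WithBot ℕ∞) from rfl, WithBot.coe_inj]
    exact_mod_cast Iff.rfl
  rw [hcast]
  constructor
  · intro hdk i hi
    subst hdk
    rcases lt_or_gt_of_ne hi with h | h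
    · exact Lib.Helper39.Dual.vanProp ω hω hn (-i) M d (le_of_eq hk) (by omega)
    · exact Lib.Helper39.Dual.dimVan ω hω hn d (-i) (by omega) M (le_of_eq hd)
  · intro h
    by_contra hne
    have hkd : (k : ℤ) ≠ (d : ℤ) := by
      intro h'
      exact hne (by exact_mod_cast h'.symm)
    have := h (k : ℤ) hkd
    exact not_subsingleton _ this

end Groth.Agent.S0368
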