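import Groth.Statements.S0369
import Groth.Agent.Lib.Helper39.Dual.OmegaS2
-- import your own Groth.Agent.* helpers here

set_option autoImplicit false
universe u v
open CategoryTheory
attribute [local instance] HasDerivedCategory.standard
open Dual

namespace Groth.Agent.S0369

/-- For a Noetherian local ring of dimension d with normalized dualizing complex ω, the module ω_A =
H^{−d}(ω) has support equal to the union of those irreducible components of Spec A whose dimension
is d, and satisfies Serre's condition (S_2). -/
theorem result (A : Type u) [CommRing A] [IsLocalRing A] [IsNoetherianRing A] (ω : Dual.D A) (hω : Dual.IsDualizing A ω) (hn : Dual.IsNormalized A ω) (d : ℕ) (hd : ringKrullDim A = d) : Module.support A (Dual.HD A ω (-(d : ℤ))) = {p : PrimeSpectrum A | ∃ q ∈ minimalPrimes A, q ≤ p.asIdeal ∧ ringKrullDim (A ⧸ q) = d} ∧ LocCoh.HasSk 2 A (Dual.HD A ω (-(d : ℤ))) := by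
  refine ⟨?_, ?_⟩
  · ext p
    rw [Module.mem_support_iff]
    exact (Lib.Helper39.Dual.omega_local_analysis ω hω hn d hd p).1
  · intro p hp
    exact (Lib.Helper39.Dual.omega_local_analysis ω hω hn d hd ⟨p, hp⟩).2

end Groth.Agent.S0369
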