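import Groth.Statements.S0375
import Groth.Agent.Lib.Helper39.Dual.ArtDual
-- import your own Groth.Agent.* helpers here

set_option autoImplicit false
universe u v
open CategoryTheory
attribute [local instance] HasDerivedCategory.standard
open Dual

namespace Groth.Agent.S0375

/-- Over a Noetherian local ring of dimension 0, a normalized dualizing complex is isomorphic in D(A) to
an injective hull of the residue field placed in degree 0. -/
theorem result (A : Type u) [CommRing A] [IsLocalRing A] [IsNoetherianRing A] (h0 : ringKrullDim A = 0) (ω : Dual.D A) (hω : Dual.IsDualizing A ω) (hn : Dual.IsNormalized A ω) (E : Type u) [AddCommGroup E] [Module A E] (f : IsLocalRing.ResidueField A →ₗ[A] E) (hf : InjHull.IsInjectiveHull f) : Nonempty (ω ≅ Dual.inD A E) := by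
  haveI : IsArtinianRing A :=
    isArtinianRing_iff_krullDimLE_zero.mpr (Ring.krullDimLE_iff.mpr (le_of_eq h0))
  obtain ⟨W, ⟨e⟩, hinj, hsimple⟩ := Lib.Helper39.Dual.artinian_main ω hω hn
  have htors : LocCoh.IsPowerTorsion (IsLocalRing.maximalIdeal A) W := by
    obtain ⟨n, hn'⟩ := IsArtinianRing.isNilpotent_jacobson_bot (R := A)
    rw [IsLocalRing.jacobson_eq_maximalIdeal ⊥ bot_ne_top] at hn'
    intro w
    refine ⟨n, fun a ha => ?_⟩
    rw [hn'] at ha
    have ha0 : a = 0 := ha
    rw [ha0, zero_smul]
  obtain ⟨g, hg⟩ := (Groth.Agent.S5155.result A W).2 ⟨hinj, htors, hsimple⟩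
  obtain ⟨l, _⟩ := Groth.Agent.S0302.result A (IsLocalRing.ResidueField A) W E g hg f hf
  exact ⟨e ≪≫ (DerivedCategory.singleFunctor (ModuleCat.{u} A) 0).mapIso l.toModuleIso⟩

end Groth.Agent.S0375
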