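import Groth.Statements.S0376
-- import your own Groth.Agent.* helpers here
import Groth.Agent.Lib.Helper92.CanonComplete
import Groth.Agent.Lib.Helper39.Dual.EssFT
import Groth.Agent.Lib.Helper68.DualBasic

set_option autoImplicit false
universe u v
open CategoryTheory
attribute [local instance] HasDerivedCategory.standard
open Dual

namespace Groth.Agent.S0376

/-- A complete Noetherian local ring has a dualizing complex. -/
theorem result (A : Type u) [CommRing A] [IsLocalRing A] [IsNoetherianRing A] [IsAdicComplete (IsLocalRing.maximalIdeal A) A] : ∃ ω : Dual.D A, Dual.IsDualizing A ω := by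
  obtain ⟨T, _, hT, φ, hφ⟩ :=
    Groth.Agent.Lib.Helper92.CanonAnn.exists_gorenstein_surjection A
  obtain ⟨n, hn⟩ := hT.exists_hasInjectiveDimensionLT
  haveI := hn
  have hdual : Dual.IsDualizing T (Dual.inD T T) :=
    Groth.Agent.Lib.Helper68.DualBasic.isDualizing_self_of_hasInjectiveDimensionLT T n
  exact Groth.Agent.Lib.Helper39.Dual.EssFT.hasDual_of_surjective φ hφ ⟨_, hdual⟩

end Groth.Agent.S0376
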