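import Groth.Statements.S0380
import Groth.Agent.S0379

set_option autoImplicit false
universe u v
open LocCoh

namespace Groth.Agent.S0380


/-- Local cohomology with support in I vanishes above degree d on all modules exactly when, for every
prime p, local cohomology over A_p with support in I A_p vanishes above degree d on all A_p-modules. -/
theorem result (R : Type u) [CommRing R] [IsNoetherianRing R] (I : Ideal R) (d : ℕ) : LocCoh.CdLE R I d ↔ ∀ (p : Ideal R) [p.IsPrime], LocCoh.CdLE (Localization.AtPrime p) (I.map (algebraMap R (Localization.AtPrime p))) d := by
  constructor
  · intro h p _
    have : IsNoetherianRing (Localization.AtPrime p) :=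
      IsLocalization.isNoetherianRing p.primeCompl _ inferInstance
    exact (Groth.Agent.S0379.result R (Localization.AtPrime p) I d).1 h
  · intro h M _ _ i hi
    refine Module.subsingleton_of_localization_maximal
      (fun P _ => TensorProduct R (Localization.AtPrime P) ((localCohomology I i).obj (ModuleCat.of R M)))
      (fun P _ => TensorProduct.mk R (Localization.AtPrime P)
        ((localCohomology I i).obj (ModuleCat.of R M)) 1) ?_
    intro P hP
    have hN : IsNoetherianRing (Localization.AtPrime P) :=
      IsLocalization.isNoetherianRing P.primeCompl _ inferInstance
    obtain ⟨φ⟩ := Helper98.CechFlat.lc_baseChange (Localization.AtPrime P) I M i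
    have h1 : Subsingleton (LocCoh.H (I.map (algebraMap R (Localization.AtPrime P))) i
        (TensorProduct R (Localization.AtPrime P) M)) :=
      h P (TensorProduct R (Localization.AtPrime P) M) i hi
    have h2 : Subsingleton (TensorProduct R ((localCohomology I i).obj (ModuleCat.of R M))
        (Localization.AtPrime P)) := φ.symm.injective.subsingleton
    exact (TensorProduct.comm R (Localization.AtPrime P)
      ((localCohomology I i).obj (ModuleCat.of R M))).injective.subsingleton

end Groth.Agent.S0380
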