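import Groth.Statements.S0395
import Groth.Agent.Lib.Helper6.LocalFlat3

set_option autoImplicit false
universe u
open FlatMor

namespace Groth.Agent.S0395

open TensorProduct nonZeroDivisors in
/-- For a flat local homomorphism R → S of Noetherian local rings and an element f of S that is regular
on the fibre ring S/mS, the quotient of S by f is again R-flat and f is regular on S. -/
theorem result {R S : Type u} [CommRing R] [CommRing S] [IsLocalRing R] [IsLocalRing S] [IsNoetherianRing R] [IsNoetherianRing S] [Algebra R S] [IsLocalHom (algebraMap R S)] [Module.Flat R S]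
    (f : S) (hf : Ideal.Quotient.mk ((IsLocalRing.maximalIdeal R).map (algebraMap R S)) f ∈ nonZeroDivisors (S ⧸ ((IsLocalRing.maximalIdeal R).map (algebraMap R S)))) :
    Module.Flat R (S ⧸ Ideal.span {f}) ∧ f ∈ nonZeroDivisors S := by
  set u : S →ₗ[R] S := LinearMap.mulLeft R f with hu
  have h : Function.Injective (LinearMap.lTensor (R ⧸ IsLocalRing.maximalIdeal R) u) := by
    rw [injective_iff_map_eq_zero]
    intro z hz
    obtain ⟨s, rfl⟩ := TensorProduct.mk_surjective R S (R ⧸ IsLocalRing.maximalIdeal R)
      Ideal.Quotient.mk_surjective z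
    have h1 : TensorProduct.mk R (R ⧸ IsLocalRing.maximalIdeal R) S 1 (f * s) = 0 := hz
    rw [← LinearMap.mem_ker, LinearMap.ker_tensorProductMk, Ideal.smul_top_eq_map] at h1
    have h2 : f * s ∈ (IsLocalRing.maximalIdeal R).map (algebraMap R S) := h1
    have h3 : Ideal.Quotient.mk ((IsLocalRing.maximalIdeal R).map (algebraMap R S)) f *
        Ideal.Quotient.mk ((IsLocalRing.maximalIdeal R).map (algebraMap R S)) s = 0 := by
      rw [← map_mul]
      exact Ideal.Quotient.eq_zero_iff_mem.mpr h2
    have h4 := (mem_nonZeroDivisors_iff_left.mp hf) _ h3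
    have h5 : s ∈ (IsLocalRing.maximalIdeal R).map (algebraMap R S) :=
      Ideal.Quotient.eq_zero_iff_mem.mp h4
    rw [← LinearMap.mem_ker, LinearMap.ker_tensorProductMk, Ideal.smul_top_eq_map]
    exact h5
  have hinj := Groth.Agent.Lib.Helper6.LocalFlat.injective_of_residue S u h
  have hflat := Groth.Agent.Lib.Helper6.LocalFlat.flat_coker_of_residue S u h
  refine ⟨?_, ?_⟩
  · set g : S →ₗ[R] S ⧸ Ideal.span {f} := (Ideal.Quotient.mkₐ R (Ideal.span {f})).toLinearMap
      with hg
    have hgs : Function.Surjective g := Ideal.Quotient.mk_surjective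
    have hker : LinearMap.range u = LinearMap.ker g := by
      ext x
      rw [LinearMap.mem_range, LinearMap.mem_ker]
      have : g x = Ideal.Quotient.mk (Ideal.span {f}) x := rfl
      rw [this, Ideal.Quotient.eq_zero_iff_mem, Ideal.mem_span_singleton']
      constructor
      · rintro ⟨y, rfl⟩
        exact ⟨y, mul_comm _ _⟩
      · rintro ⟨y, rfl⟩
        exact ⟨y, mul_comm _ _⟩
    exact Module.Flat.of_linearEquiv
      ((Submodule.quotEquivOfEq _ _ hker).trans (g.quotKerEquivOfSurjective hgs)).symm
  · rw [mem_nonZeroDivisors_iff_left]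
    intro x hx
    exact hinj (by rw [map_zero]; exact hx)

end Groth.Agent.S0395
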