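import Groth.Statements.S0401
import Mathlib

set_option autoImplicit false
universe u
open FlatMor

namespace Groth.Agent.S0401

/-- For a finite type ring map R → S quasi-finite at a prime q lying over p, the dimension of S_q is at
most the dimension of R_p. -/
theorem result {R S : Type u} [CommRing R] [CommRing S] [Algebra R S] [Algebra.FiniteType R S] (q : Ideal S) [q.IsPrime] [Algebra.QuasiFiniteAt R q] :
    ringKrullDim (Localization.AtPrime q) ≤ ringKrullDim (Localization.AtPrime (q.under R)) := by
  rw [IsLocalization.AtPrime.ringKrullDim_eq_height q (Localization.AtPrime q),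
    IsLocalization.AtPrime.ringKrullDim_eq_height (q.under R) (Localization.AtPrime (q.under R))]
  have h1 := PrimeSpectrum.height_eq_orderHeight (⟨q, inferInstance⟩ : PrimeSpectrum S)
  have h2 := PrimeSpectrum.height_eq_orderHeight (⟨q.under R, inferInstance⟩ : PrimeSpectrum R)
  simp only at h1 h2
  rw [h1, h2, Order.height_eq_krullDim_Iic, Order.height_eq_krullDim_Iic]
  let f : Set.Iic (⟨q, inferInstance⟩ : PrimeSpectrum S) →
      Set.Iic (⟨q.under R, inferInstance⟩ : PrimeSpectrum R) := fun P =>
    ⟨PrimeSpectrum.comap (algebraMap R S) P.1, by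
      have hP : P.1.asIdeal ≤ q := P.2
      exact Ideal.comap_mono hP⟩
  refine Order.krullDim_le_of_strictMono f ?_
  intro P P' hlt
  have hle : P.1.asIdeal ≤ P'.1.asIdeal := (le_of_lt hlt : P.1 ≤ P'.1)
  have hP' : P'.1.asIdeal ≤ q := P'.2
  have hmono : (PrimeSpectrum.comap (algebraMap R S) P.1) ≤ (PrimeSpectrum.comap (algebraMap R S) P'.1) :=
    Ideal.comap_mono hle
  refine lt_of_le_of_ne hmono ?_
  intro heq
  have : Algebra.QuasiFiniteAt R P'.1.asIdeal := Algebra.QuasiFiniteAt.of_le hP'
  have h3 : P.1.asIdeal.under R = P'.1.asIdeal.under R := by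
    have := congrArg (fun x => PrimeSpectrum.asIdeal (Subtype.val x)) heq
    exact this
  have h4 := Algebra.QuasiFiniteAt.eq_of_le_of_under_eq hle h3
  have h5 : P.1 = P'.1 := PrimeSpectrum.ext h4
  exact (ne_of_lt hlt) (Subtype.ext h5)

end Groth.Agent.S0401
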