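import Groth.Statements.S0403
import Groth.Agent.Lib.Helper73.DimFormula.FibreDimSemi

set_option autoImplicit false
universe u
open FlatMor

namespace Groth.Agent.S0403

open AlgebraicGeometry CategoryTheory Limits in
/-- For a proper morphism the dimension of the fibre is an upper semicontinuous function on the target:
for every bound the set of points whose fibre has dimension at most that bound is open. -/
theorem result {X S : Scheme.{u}} (f : X ⟶ S) [IsProper f] (c : WithBot ℕ∞) :
    IsOpen {s : S | topologicalKrullDim (f.fiber s) ≤ c} := by
  open Groth.Agent.Lib.Helper73 in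
  have hcl : IsClosedMap f := f.isClosedMap
  induction c with
  | bot =>
    have : {s : S | topologicalKrullDim (f.fiber s) ≤ ⊥} = (Set.range f)ᶜ := by
      ext s
      rw [Set.mem_setOf_eq, le_bot_iff, topologicalKrullDim_fiber_eq_bot_iff]
      rfl
    rw [this, isOpen_compl_iff]
    exact hcl.isClosed_range
  | coe c =>
    induction c with
    | top =>
      have : {s : S | topologicalKrullDim (f.fiber s) ≤ ((⊤ : ℕ∞) : WithBot ℕ∞)} = Set.univ := by
        ext s
        simp only [Set.mem_setOf_eq, Set.mem_univ, iff_true]
        exact le_top
      rw [this]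
      exact isOpen_univ
    | coe n =>
      have : {s : S | topologicalKrullDim (f.fiber s) ≤ ((n : ℕ∞) : WithBot ℕ∞)} =
          (f '' {x : X | FlatMor.fibreDimAt f x ≤ ((n : ℕ) : WithBot ℕ∞)}ᶜ)ᶜ := by
        ext s
        have := topologicalKrullDim_fiber_le_iff f s n
        simp only [Set.mem_setOf_eq, Set.mem_compl_iff, Set.mem_image, not_exists, not_and]
        rw [show (((n : ℕ∞) : WithBot ℕ∞)) = ((n : ℕ) : WithBot ℕ∞) from rfl, this]
        constructor
        · intro h x hx hfx
          exact hx (h x hfx)
        · intro h x hfx
          by_contra hx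
          exact h x hx hfx
      rw [this, isOpen_compl_iff]
      exact hcl _ (isOpen_fibreDimAt_le n X S f).isClosed_compl

end Groth.Agent.S0403
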