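import Groth.Statements.S0404
import Groth.Agent.Lib.Helper73.DimFormula.CMFlat.FlatFPDim

set_option autoImplicit false
universe u
open FlatMor

namespace Groth.Agent.S0404

open AlgebraicGeometry CategoryTheory Limits in
/-- For a flat morphism of finite presentation (here: flat, quasi-compact, quasi-separated and locally
of finite presentation) the dimension of the fibre is a lower semicontinuous function on the target. -/
theorem result {X S : Scheme.{u}} (f : X ⟶ S) [Flat f] [LocallyOfFinitePresentation f] [QuasiCompact f] [QuasiSeparated f] (c : WithBot ℕ∞) :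
    IsOpen {s : S | c < topologicalKrullDim (f.fiber s)} := by
  open Groth.Agent.Lib.Helper73 AlgebraicGeometry CategoryTheory TopologicalSpace in
  rw [isOpen_iff_mem_nhds]
  intro s hs
  obtain ⟨z, hz⟩ := exists_lt_localDim_of_lt_topologicalKrullDim c hs
  have hfz : f (f.fiberι s z) = s := by
    have : f.fiberι s z ∈ Set.range (f.fiberι s) := ⟨_, rfl⟩
    rw [f.range_fiberι s] at this
    exact this
  rw [localDim_fiber_eq_fibreDimAt f (f.fiberι s z) s hfz z rfl] at hz
  obtain ⟨ξ, W, hξx, hfξ, hξW, hW⟩ := exists_open_fibreDimAt_eq_of_flat_fp f (f.fiberι s z)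
  have hopen : IsOpen (f '' (W : Set X)) := f.isOpenMap _ W.2
  refine Filter.mem_of_superset (hopen.mem_nhds ⟨ξ, hξW, hfξ.trans hfz⟩) ?_
  rintro _ ⟨w, hw, rfl⟩
  show c < topologicalKrullDim (f.fiber (f w))
  refine lt_of_lt_of_le ?_ (Groth.Agent.Lib.Helper84.localDim_le_dim (f.asFiber w))
  have := hW w hw
  unfold FlatMor.fibreDimAt at this
  rw [this]
  exact hz

end Groth.Agent.S0404
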