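import Groth.Statements.S0415
import Mathlib

set_option autoImplicit false
universe u
open FlatMor

namespace Groth.Agent.S0415

open AlgebraicGeometry CategoryTheory Limits in
/-- A morphism of schemes is a universal homeomorphism if and only if it is integral, universally
injective and surjective. -/
theorem result {X Y : Scheme.{u}} (f : X ⟶ Y) :
    FlatMor.IsUnivHomeo f ↔ IsIntegralHom f ∧ UniversallyInjective f ∧ Surjective f := by
  constructor
  · intro h
    have hf : IsHomeomorph f := h (𝟙 _) (𝟙 _) f IsPullback.of_id_snd
    have haff : IsAffineHom f := by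
      apply isAffineHom_of_isInducing f hf.isInducing
      rw [hf.surjective.range_eq]
      exact isClosed_univ
    have hcl : UniversallyClosed f := ⟨fun X' Y' i₁ i₂ f' hpb => (h i₁ i₂ f' hpb).isClosedMap⟩
    have hinj : UniversallyInjective f := ⟨fun X' Y' i₁ i₂ f' hpb => (h i₁ i₂ f' hpb).injective⟩
    exact ⟨IsIntegralHom.iff_universallyClosed_and_isAffineHom.mpr ⟨hcl, haff⟩, hinj, ⟨hf.surjective⟩⟩
  · rintro ⟨hint, hinj, hsurj⟩
    intro X' Y' i₁ i₂ f' hpb
    have h1 : IsClosedMap f' := (inferInstance : UniversallyClosed f).universally_isClosedMap i₁ i₂ f' hpb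
    have h2 : Function.Injective f' := hinj.universally_injective i₁ i₂ f' hpb
    have h3 : Surjective f' := MorphismProperty.of_isPullback (P := @Surjective) hpb.flip hsurj
    exact isHomeomorph_iff_continuous_isClosedMap_bijective.mpr ⟨f'.continuous, h1, ⟨h2, h3.surj⟩⟩

end Groth.Agent.S0415
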