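import Groth.Statements.S0416
import Groth.Agent.Lib.Helper72.GrpdSep
import Mathlib.AlgebraicGeometry.Morphisms.Preimmersion
import Mathlib.AlgebraicGeometry.Morphisms.UnderlyingMap

set_option autoImplicit false
universe u
open FlatMor

namespace Groth.Agent.S0416

section aux

open AlgebraicGeometry CategoryTheory Limits

lemma isHomeomorph_of_comp_left {α β γ : Type*} [TopologicalSpace α] [TopologicalSpace β]
    [TopologicalSpace γ] {g : α → β} {h : β → γ} (hgh : IsHomeomorph (h ∘ g))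
    (hg : IsHomeomorph g) : IsHomeomorph h := by
  have h1 : h = (h ∘ g) ∘ (hg.homeomorph g).symm := by
    funext y
    show h y = h (g ((hg.homeomorph g).symm y))
    congr 1
    exact ((hg.homeomorph g).apply_symm_apply y).symm
  rw [h1]
  exact hgh.comp (hg.homeomorph g).symm.isHomeomorph

lemma isHomeomorph_of_comp_right {α β γ : Type*} [TopologicalSpace α] [TopologicalSpace β]
    [TopologicalSpace γ] {g : α → β} {h : β → γ} (hgh : IsHomeomorph (h ∘ g))
    (hh : IsHomeomorph h) : IsHomeomorph g := by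
  have h1 : g = (hh.homeomorph h).symm ∘ (h ∘ g) := by
    funext y
    exact ((hh.homeomorph h).symm_apply_apply (g y)).symm
  rw [h1]
  exact (hh.homeomorph h).symm.isHomeomorph.comp hgh

lemma coe_comp {X Y Z : Scheme.{u}} (f : X ⟶ Y) (g : Y ⟶ Z) : ⇑(f ≫ g) = ⇑g ∘ ⇑f := by
  funext x
  rfl

theorem partA {X Y Z : Scheme.{u}} (g : X ⟶ Y) (h : Y ⟶ Z)
    (hgh : FlatMor.IsUnivHomeo (g ≫ h)) (hg : FlatMor.IsUnivHomeo g) : FlatMor.IsUnivHomeo h := by
  intro Y' Z' j₁ j₂ h' sq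
  have sq1 : IsPullback (pullback.snd g j₁) (pullback.fst g j₁) j₁ g :=
    (IsPullback.of_hasPullback g j₁).flip
  have h1 : IsHomeomorph ⇑(pullback.snd g j₁) := hg _ _ _ sq1
  have h2 : IsHomeomorph ⇑(pullback.snd g j₁ ≫ h') := hgh _ _ _ (sq1.paste_horiz sq)
  rw [coe_comp] at h2
  exact isHomeomorph_of_comp_left h2 h1

set_option backward.isDefEq.respectTransparency false in
theorem partB {X Y Z : Scheme.{u}} (g : X ⟶ Y) (h : Y ⟶ Z)
    (hgh : FlatMor.IsUnivHomeo (g ≫ h)) (hh : FlatMor.IsUnivHomeo h) : FlatMor.IsUnivHomeo g := by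
  intro X' Y' i₁ i₂ g' sq
  -- base change of `h` along `i₂ ≫ h`
  have sqh : IsPullback (pullback.snd h (i₂ ≫ h)) (pullback.fst h (i₂ ≫ h)) (i₂ ≫ h) h :=
    (IsPullback.of_hasPullback h (i₂ ≫ h)).flip
  have hh'' : IsHomeomorph ⇑(pullback.snd h (i₂ ≫ h)) := hh _ _ _ sqh
  -- base change of `g ≫ h`
  have sqgh : IsPullback (pullback.snd (g ≫ h) (i₂ ≫ h)) (pullback.fst (g ≫ h) (i₂ ≫ h))
      (i₂ ≫ h) (g ≫ h) := (IsPullback.of_hasPullback (g ≫ h) (i₂ ≫ h)).flip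
  have hp'' : IsHomeomorph ⇑(pullback.snd (g ≫ h) (i₂ ≫ h)) := hgh _ _ _ sqgh
  -- the section σ
  let σ : Y' ⟶ pullback h (i₂ ≫ h) := pullback.lift i₂ (𝟙 Y') (by simp)
  have hσ : σ ≫ pullback.snd h (i₂ ≫ h) = 𝟙 Y' := pullback.lift_snd _ _ _
  have hσ1 : σ ≫ pullback.fst h (i₂ ≫ h) = i₂ := pullback.lift_fst _ _ _
  have hσpre : IsPreimmersion σ :=
    Groth.Agent.Lib.Helper72.GrpdPts.isPreimmersion_of_section σ _ hσ
  have hσsurj : Surjective σ := by
    refine ⟨fun w => ⟨pullback.snd h (i₂ ≫ h) w, ?_⟩⟩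
    apply hh''.injective
    rw [← Scheme.Hom.comp_apply, hσ]
    rfl
  -- g''
  let g'' : pullback (g ≫ h) (i₂ ≫ h) ⟶ pullback h (i₂ ≫ h) :=
    pullback.map (g ≫ h) (i₂ ≫ h) h (i₂ ≫ h) g (𝟙 Y') (𝟙 Z) (by simp) (by simp)
  have hg''1 : g'' ≫ pullback.snd h (i₂ ≫ h) = pullback.snd (g ≫ h) (i₂ ≫ h) := by
    simp [g'']
  have hg''2 : g'' ≫ pullback.fst h (i₂ ≫ h) = pullback.fst (g ≫ h) (i₂ ≫ h) ≫ g := by
    simp [g'']
  have sqbot : IsPullback g'' (pullback.fst (g ≫ h) (i₂ ≫ h)) (pullback.fst h (i₂ ≫ h)) g := by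
    refine IsPullback.of_right ?_ hg''2 sqh
    rw [hg''1]
    exact sqgh
  -- τ
  let τ : X' ⟶ pullback (g ≫ h) (i₂ ≫ h) := pullback.lift i₁ g' (by
    rw [← Category.assoc, ← sq.w, Category.assoc])
  have hτ1 : τ ≫ pullback.fst (g ≫ h) (i₂ ≫ h) = i₁ := pullback.lift_fst _ _ _
  have hτ2 : τ ≫ pullback.snd (g ≫ h) (i₂ ≫ h) = g' := pullback.lift_snd _ _ _
  have hcomm : g' ≫ σ = τ ≫ g'' := by
    apply pullback.hom_ext
    · rw [Category.assoc, Category.assoc, hσ1, hg''2, reassoc_of% hτ1, sq.w]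
    · rw [Category.assoc, Category.assoc, hσ, hg''1, hτ2, Category.comp_id]
  have sqtop : IsPullback g' τ σ g'' := by
    refine IsPullback.of_bot ?_ hcomm sqbot
    rw [hτ1, hσ1]
    exact sq
  have hτpre : IsPreimmersion τ := MorphismProperty.of_isPullback sqtop hσpre
  have hτsurj : Surjective τ := MorphismProperty.of_isPullback sqtop hσsurj
  have hτ : IsHomeomorph ⇑τ :=
    isHomeomorph_iff_isEmbedding_surjective.2 ⟨τ.isEmbedding, hτsurj.surj⟩
  show IsHomeomorph ⇑g'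
  rw [← hτ2, coe_comp]
  exact hp''.comp hτ

end aux

open AlgebraicGeometry CategoryTheory Limits in
/-- When a composite of two morphisms is a universal homeomorphism and so is either factor, the
remaining factor is a universal homeomorphism as well. -/
theorem result {X Y Z : Scheme.{u}} (g : X ⟶ Y) (h : Y ⟶ Z) :
    (FlatMor.IsUnivHomeo (g ≫ h) → FlatMor.IsUnivHomeo g → FlatMor.IsUnivHomeo h) ∧
    (FlatMor.IsUnivHomeo (g ≫ h) → FlatMor.IsUnivHomeo h → FlatMor.IsUnivHomeo g) :=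
  ⟨partA g h, partB g h⟩

end Groth.Agent.S0416
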