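import Groth.Statements.S0417
import Mathlib.AlgebraicGeometry.ZariskisMainTheorem
import Mathlib.AlgebraicGeometry.Morphisms.Flat
import Mathlib.RingTheory.Nakayama
import Mathlib.LinearAlgebra.TensorProduct.Quotient
import Mathlib.RingTheory.KrullDimension.Basic

set_option autoImplicit false
universe u
open FlatMor

namespace Groth.Agent.S0417

open TensorProduct in
theorem mem_smul_top_of_tmul_one_eq_zero {R A B : Type*} [CommRing R] [CommRing A] [CommRing B]
    [Algebra R A] [Algebra R B] (hg : Function.Surjective (algebraMap R B)) (x : A)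
    (hx : x ⊗ₜ[R] (1 : B) = 0) :
    x ∈ (RingHom.ker (algebraMap R B)) • (⊤ : Submodule R A) := by
  set I := RingHom.ker (algebraMap R B)
  let ε : (R ⧸ I) ≃ₐ[R] B :=
    Ideal.quotientKerAlgEquivOfSurjective (f := Algebra.ofId R B) hg
  let E : A ⊗[R] (R ⧸ I) ≃ₗ[R] A ⊗[R] B :=
    TensorProduct.congr (LinearEquiv.refl R A) ε.toLinearEquiv
  have h1 : x ⊗ₜ[R] (1 : R ⧸ I) = 0 := by
    apply E.injective
    simp [E, hx]
  have h2 := congrArg (TensorProduct.tensorQuotEquivQuotSMul A I) h1
  rw [← map_one (Ideal.Quotient.mk I), TensorProduct.tensorQuotEquivQuotSMul_tmul_mk, map_zero,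
    one_smul, Submodule.Quotient.mk_eq_zero] at h2
  exact h2

open CategoryTheory Limits TensorProduct in
theorem surjective_of_isPushout {R A B P : CommRingCat.{u}} {f : R ⟶ A} {g : R ⟶ B}
    {a : A ⟶ P} {b : B ⟶ P} (H : IsPushout f g a b) (hf : f.hom.Finite)
    (hg : Function.Surjective g) (hnil : ∀ x, g x = 0 → IsNilpotent x)
    (hb : Function.Surjective b) : Function.Surjective f := by
  algebraize [f.hom, g.hom]
  let e := ((CommRingCat.isPushout_tensorProduct R A B).isoIsPushout A B H).commRingCatIsoToRingEquiv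
  have he : ∀ c : A, e (c ⊗ₜ[R] (1 : B)) = a c := by
    intro c
    exact congr($((CommRingCat.isPushout_tensorProduct R A B).inl_isoIsPushout_hom A B H).hom c)
  set I := RingHom.ker (algebraMap R B) with hI
  have key : ∀ c : A, ∃ r : R, c - f r ∈ I • (⊤ : Submodule R A) := by
    intro c
    obtain ⟨y, hy⟩ := hb (a c)
    obtain ⟨r, rfl⟩ := hg y
    refine ⟨r, ?_⟩
    apply mem_smul_top_of_tmul_one_eq_zero hg
    apply e.injective
    rw [he, map_zero, map_sub, ← hy]
    have := congr($(H.w).hom r)
    simp only [CommRingCat.hom_comp, RingHom.coe_comp, Function.comp_apply] at this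
    rw [this, sub_self]
  have hIJ : I ≤ Ideal.jacobson ⊥ := by
    intro x hx
    have : IsNilpotent x := hnil x hx
    rw [Ideal.jacobson_bot]
    exact nilradical_le_jacobson R (mem_nilradical.mpr this)
  have hfin : Module.Finite R A := hf
  have htop : (⊤ : Submodule R A) ≤ LinearMap.range (Algebra.linearMap R A) := by
    apply Submodule.le_of_le_smul_of_le_jacobson_bot Module.Finite.fg_top hIJ
    intro c _
    obtain ⟨r, hr⟩ := key c
    have : c = f r + (c - f r) := by abel
    rw [this]
    exact Submodule.add_mem_sup ⟨r, rfl⟩ hr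
  intro c
  obtain ⟨r, hr⟩ := htop (Submodule.mem_top (x := c))
  exact ⟨r, hr⟩

open AlgebraicGeometry CategoryTheory Limits in
/-- Let i : S' → S be a closed immersion that is bijective on points and f : X → S a morphism of finite
type (locally of finite type and quasi-compact) whose base change X ×_S S' → S' is a closed
immersion. Then f is a closed immersion. The published statement alternatively allows S' → S of
finite presentation in place of the finite-type hypothesis on f; only the first alternative is
stated. -/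
theorem result {X S S' : Scheme.{u}} (f : X ⟶ S) (i : S' ⟶ S) [IsClosedImmersion i] (hi : Function.Bijective i)
    [LocallyOfFiniteType f] [QuasiCompact f] [IsClosedImmersion (pullback.snd f i)] : IsClosedImmersion f := by
  have hw : pullback.fst f i ≫ f = pullback.snd f i ≫ i := pullback.condition
  have : Surjective i := ⟨hi.2⟩
  have hinj : Function.Injective f := by
    intro x1 x2 h
    obtain ⟨y1, rfl⟩ := (pullback.fst f i).surjective x1
    obtain ⟨y2, rfl⟩ := (pullback.fst f i).surjective x2
    have h' : (pullback.fst f i ≫ f) y1 = (pullback.fst f i ≫ f) y2 := by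
      simpa using h
    rw [hw] at h'
    have h'' : i (pullback.snd f i y1) = i (pullback.snd f i y2) := by simpa using h'
    have := (pullback.snd f i).isClosedEmbedding.injective (hi.1 h'')
    rw [this]
  have : IsSeparated f := isSeparated_of_injective f hinj
  have : LocallyQuasiFinite f := .of_injective hinj
  have : IsClosedImmersion (pullback.fst f i ≫ f) := by rw [hw]; infer_instance
  have : UniversallyClosed f := UniversallyClosed.of_comp_surjective (pullback.fst f i) f
  have : IsProper f := {}
  have : IsFinite f := IsFinite.of_isProper_of_locallyQuasiFinite f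
  rw [isClosedImmersion_iff_isAffineHom]
  refine ⟨inferInstance, fun U hU => ?_⟩
  have H : IsPullback (pullback.fst f i) (pullback.snd f i) f i := IsPullback.of_hasPullback f i
  have hUY : pullback.snd f i ⁻¹ᵁ (i ⁻¹ᵁ U) =
      pullback.fst f i ⁻¹ᵁ (f ⁻¹ᵁ U) ⊓ pullback.snd f i ⁻¹ᵁ (i ⁻¹ᵁ U) := by
    rw [← Scheme.Hom.comp_preimage, ← Scheme.Hom.comp_preimage, hw, inf_idem]
  have hpo := (isIso_pushoutSection_iff H (le_refl (i ⁻¹ᵁ U)) (le_refl (f ⁻¹ᵁ U)) hUY).mp
    (isIso_pushoutSection_of_isAffineOpen H _ _ hUY hU (hU.preimage i) (hU.preimage f))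
  have hsurj := surjective_of_isPushout hpo ?_ ?_ ?_ ?_
  · rwa [Scheme.Hom.appLE_eq_app] at hsurj
  · rw [Scheme.Hom.appLE_eq_app]
    exact f.finite_app U hU
  · rw [Scheme.Hom.appLE_eq_app]
    exact i.app_surjective U hU
  · intro x hx
    rw [Scheme.Hom.appLE_eq_app] at hx
    rw [Scheme.isNilpotent_iff_basicOpen_eq_bot_of_isCompact hU.isCompact]
    have h1 : i ⁻¹ᵁ (S.basicOpen x) = ⊥ := by
      rw [Scheme.preimage_basicOpen, hx, Scheme.basicOpen_zero]
    rw [eq_bot_iff]
    intro p hp
    obtain ⟨q, rfl⟩ := hi.2 p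
    have : q ∈ i ⁻¹ᵁ (S.basicOpen x) := hp
    rw [h1] at this
    exact this
  · rw [Scheme.Hom.appLE_eq_app]
    exact (pullback.snd f i).app_surjective _ (hU.preimage i)

end Groth.Agent.S0417
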