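import Groth.Statements.S0418
import Groth.Agent.Lib.Helper20.UnivHomeoPPow

set_option autoImplicit false
universe u
open FlatMor

namespace Groth.Agent.S0418

open AlgebraicGeometry in
/-- For a prime number p and a ring map A → B that becomes an isomorphism after inverting p, Spec B →
Spec A is a universal homeomorphism if and only if the kernel consists of nilpotents and every
element of B has some p-power multiple and p-power power in the image. -/
theorem result {A B : Type u} [CommRing A] [CommRing B] (φ : A →+* B) (p : ℕ) (hp : p.Prime)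
    (h : Function.Bijective (Localization.awayMap φ (p : A))) :
    FlatMor.IsUnivHomeo (Spec.map (CommRingCat.ofHom φ)) ↔
      (∀ a ∈ RingHom.ker φ, IsNilpotent a) ∧ ∀ b : B, ∃ n : ℕ, (p ^ n : B) * b ∈ φ.range ∧ b ^ (p ^ n) ∈ φ.range := by
  letI := φ.toAlgebra
  rw [show FlatMor.IsUnivHomeo (Spec.map (CommRingCat.ofHom φ)) ↔
    Groth.Agent.Lib.Helper20.UnivHomeo.UH A B from
    Groth.Agent.Lib.Helper20.UnivHomeo.isUnivHomeo_iff A B]
  have hT : ∀ b : B, ∃ n : ℕ, (p ^ n : B) * b ∈ (algebraMap A B).range := by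
    intro b
    obtain ⟨a, m, e⟩ := (Localization.awayMap_surjective_iff.mp h.2) b
    refine ⟨m, a, ?_⟩
    rw [map_natCast] at e
    exact e
  constructor
  · intro hUH
    refine ⟨fun a ha => hUH.ker_nil a ha, fun b => ?_⟩
    obtain ⟨n₁, h1⟩ := hT b
    obtain ⟨n₂, h2⟩ := Groth.Agent.Lib.Helper20.UnivHomeo.exists_ppow_mem p hp hUH hT b
    refine ⟨n₁ + n₂, ?_, ?_⟩
    · rw [pow_add, mul_comm ((p : B) ^ n₁), mul_assoc]
      exact Subring.mul_mem _ (Subring.pow_mem _ (natCast_mem _ p) n₂) h1
    · rw [pow_add, mul_comm, pow_mul]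
      exact Subring.pow_mem _ h2 _
  · rintro ⟨hker, hb⟩
    refine Groth.Agent.Lib.Helper20.UnivHomeo.uh_of_adjoin Set.univ (Algebra.adjoin_univ A B) ?_
      (fun a ha => hker a ha) ?_
    · intro b _
      obtain ⟨n, -, a, ha⟩ := hb b
      apply IsIntegral.of_pow (pow_pos hp.pos n)
      rw [← ha]
      exact isIntegral_algebraMap
    · intro b _
      obtain ⟨n, h1, h2⟩ := hb b
      exact Groth.Agent.Lib.Helper20.UnivHomeo.mem_radicialClosure_of_ppow p hp b n h1 h2

end Groth.Agent.S0418
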