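import Groth.Statements.S0421
import Groth.Agent.Lib.Helper72.DvrFibre

set_option autoImplicit false
universe u
open FlatMor

namespace Groth.Agent.S0421

section aux

open AlgebraicGeometry CategoryTheory Limits Groth.Agent.Lib.Helper72 DvrFibre

variable {R : Type u} [CommRing R] [IsDomain R] [IsDiscreteValuationRing R] {X : Scheme.{u}}
  (f : X ⟶ Spec (CommRingCat.of R)) [Flat f] {ϖ : R} (hϖ : Irreducible ϖ)

include hϖ in
/-- Every nonempty affine open meets the generic fibre. -/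
lemma exists_mem_generic {W : X.Opens} (hW : IsAffineOpen W) {x : X} (hx : x ∈ W) :
    ∃ z, z ∈ W ∧ z ∈ f ⁻¹ᵁ (PrimeSpectrum.basicOpen ϖ) := by
  by_contra hcon
  push Not at hcon
  have h1 : X.basicOpen ((secMap f W).hom ϖ) = ⊥ := by
    rw [basicOpen_secMap, eq_bot_iff]
    rintro z ⟨hz1, hz2⟩
    exact (hcon z hz1 hz2).elim
  have h2 : IsNilpotent ((secMap f W).hom ϖ) :=
    (Scheme.isNilpotent_iff_basicOpen_eq_bot_of_isCompact hW.isCompact _).2 h1
  obtain ⟨k, hk⟩ := h2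
  have h3 := pow_mem (secMap_mem_nonZeroDivisors f hϖ hW) k
  rw [hk] at h3
  have h4 : (1 : Γ(X, W)) = 0 := by
    have := (mem_nonZeroDivisors_iff_right.1 h3) 1 (by simp)
    exact this
  have h5 : W = ⊥ := by
    rw [← X.basicOpen_one (U := W), h4, X.basicOpen_zero]
  rw [h5] at hx
  exact hx

include hϖ in
lemma dense_generic : Dense ((f ⁻¹ᵁ (PrimeSpectrum.basicOpen ϖ) : X.Opens) : Set X) := by
  intro x
  rw [mem_closure_iff]
  intro o ho hxo
  obtain ⟨_, ⟨W, hW, rfl⟩, hxW, hWo⟩ := X.isBasis_affineOpens.exists_subset_of_mem_open hxo ho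
  obtain ⟨z, hz1, hz2⟩ := exists_mem_generic f hϖ hW (x := x) hxW
  exact ⟨z, hWo hz1, hz2⟩

include hϖ in
/-- The closures of two disjoint opens covering the generic fibre do not meet. -/
lemma not_mem_closure_both [IsReduced (f.fiber (IsLocalRing.closedPoint R))] (A B : X.Opens)
    (hAB : A ⊓ B = ⊥) (hU : A ⊔ B = f ⁻¹ᵁ (PrimeSpectrum.basicOpen ϖ)) (x : X)
    (hxA : x ∈ closure (A : Set X)) (hxB : x ∈ closure (B : Set X)) : False := by
  obtain ⟨_, ⟨W, hW, rfl⟩, hxW, -⟩ :=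
    X.isBasis_affineOpens.exists_subset_of_mem_open (Set.mem_univ x) isOpen_univ
  obtain ⟨p, hp⟩ : ∃ p, p = (secMap f W).hom ϖ := ⟨_, rfl⟩
  have hV : IsAffineOpen (X.basicOpen p) := hW.basicOpen p
  have hVeq : X.basicOpen p = W ⊓ f ⁻¹ᵁ (PrimeSpectrum.basicOpen ϖ) := by
    rw [hp]; exact basicOpen_secMap f W ϖ
  have hrange : ∀ z, hV.fromSpec z ∈ X.basicOpen p := by
    intro z
    have : hV.fromSpec z ∈ Set.range hV.fromSpec := ⟨z, rfl⟩
    rw [hV.range_fromSpec] at this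
    exact this
  have hclopen : IsClopen (hV.fromSpec ⁻¹' (A : Set X)) := by
    constructor
    · have : (hV.fromSpec ⁻¹' (A : Set X))ᶜ = hV.fromSpec ⁻¹' (B : Set X) := by
        ext z
        simp only [Set.mem_compl_iff, Set.mem_preimage]
        have hz : hV.fromSpec z ∈ A ⊔ B := by
          rw [hU]
          exact (hVeq.le (hrange z)).2
        constructor
        · intro h
          exact (hz.resolve_left h)
        · intro hB hA
          have : hV.fromSpec z ∈ A ⊓ B := ⟨hA, hB⟩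
          rw [hAB] at this
          exact this
      rw [← isOpen_compl_iff, this]
      exact B.isOpen.preimage hV.fromSpec.continuous
    · exact A.isOpen.preimage hV.fromSpec.continuous
  obtain ⟨e, he, hTe⟩ := PrimeSpectrum.isClopen_iff.1 hclopen
  haveI := hW.isLocalization_basicOpen p
  haveI : IsReduced (Γ(X, W) ⧸ Ideal.span {p}) := by
    rw [hp]; exact isReduced_quotient f hϖ hW
  have hpnzd : p ∈ nonZeroDivisors Γ(X, W) := by
    rw [hp]; exact secMap_mem_nonZeroDivisors f hϖ hW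
  obtain ⟨e', he', hee'⟩ := DvrAlg.exists_idem_lift p hpnzd
    (fun c hc => DvrAlg.dvd_of_dvd_sq p c 2 hc) e he
  have h1 : X.basicOpen e = X.basicOpen p ⊓ X.basicOpen e' := by
    rw [← hee']
    exact Scheme.basicOpen_res _ _ _
  have key : ∀ z, z ∈ X.basicOpen p → (z ∈ A ↔ z ∈ X.basicOpen e') := by
    intro z hz
    obtain ⟨z', rfl⟩ : z ∈ Set.range hV.fromSpec := by
      rw [hV.range_fromSpec]; exact hz
    have h2 : hV.fromSpec z' ∈ A ↔ z' ∈ PrimeSpectrum.basicOpen e := Set.ext_iff.1 hTe z'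
    have h3 := SetLike.ext_iff.1 (hV.fromSpec_preimage_basicOpen e) z'
    have h4 : hV.fromSpec z' ∈ X.basicOpen e ↔ hV.fromSpec z' ∈ X.basicOpen e' := by
      rw [h1]; exact ⟨fun h => h.2, fun h => ⟨hz, h⟩⟩
    exact h2.trans (h3.symm.trans h4)
  by_cases hxe : x ∈ X.basicOpen e'
  · obtain ⟨z, hz1, hz2⟩ := mem_closure_iff.1 hxB _ (X.basicOpen e').isOpen hxe
    have hzW : z ∈ W := X.basicOpen_le e' hz1
    have hzU : z ∈ f ⁻¹ᵁ (PrimeSpectrum.basicOpen ϖ) := by
      rw [← hU]; exact Or.inr hz2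
    have hzV : z ∈ X.basicOpen p := by rw [hVeq]; exact ⟨hzW, hzU⟩
    have hzA : z ∈ A := (key z hzV).2 hz1
    have : z ∈ A ⊓ B := ⟨hzA, hz2⟩
    rw [hAB] at this
    exact this
  · have hxe2 : x ∈ X.basicOpen (1 - e') := by
      rw [Scheme.mem_basicOpen _ _ x hxW] at hxe ⊢
      have hsum : X.presheaf.germ W x hxW e' + X.presheaf.germ W x hxW (1 - e') = 1 := by
        rw [← map_add]; simp
      exact (IsLocalRing.isUnit_or_isUnit_of_add_one hsum).resolve_left hxe
    obtain ⟨z, hz1, hz2⟩ := mem_closure_iff.1 hxA _ (X.basicOpen (1 - e')).isOpen hxe2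
    have hzW : z ∈ W := X.basicOpen_le _ hz1
    have hzU : z ∈ f ⁻¹ᵁ (PrimeSpectrum.basicOpen ϖ) := by
      rw [← hU]; exact Or.inl hz2
    have hzV : z ∈ X.basicOpen p := by rw [hVeq]; exact ⟨hzW, hzU⟩
    have hze : z ∈ X.basicOpen e' := (key z hzV).1 hz2
    have : z ∈ X.basicOpen (e' * (1 - e')) := by
      rw [Scheme.basicOpen_mul]; exact ⟨hze, hz1⟩
    have h0 : e' * (1 - e') = 0 := by
      rw [mul_sub, mul_one, he'.eq, sub_self]
    rw [h0, Scheme.basicOpen_zero] at this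
    exact this

end aux

open AlgebraicGeometry CategoryTheory Limits in
/-- For a flat morphism from a connected scheme to the spectrum of a discrete valuation ring with
reduced closed fibre, the generic fibre is connected. -/
theorem result {R : Type u} [CommRing R] [IsDomain R] [IsDiscreteValuationRing R] {X : Scheme.{u}}
    (f : X ⟶ Spec (CommRingCat.of R)) [Flat f] [ConnectedSpace ↑X]
    (hred : IsReduced (f.fiber (IsLocalRing.closedPoint R))) :
    ConnectedSpace ↑(f.fiber (⟨⊥, Ideal.isPrime_bot⟩ : PrimeSpectrum R)) := by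
  obtain ⟨ϖ, hϖ⟩ := IsDiscreteValuationRing.exists_irreducible R
  haveI := hred
  obtain ⟨U, hUdef⟩ : ∃ U : X.Opens, U = f ⁻¹ᵁ (PrimeSpectrum.basicOpen ϖ) := ⟨_, rfl⟩
  have hUeq : (f ⁻¹' {(⟨⊥, Ideal.isPrime_bot⟩ : PrimeSpectrum R)} : Set X) = (U : Set X) := by
    ext x
    rw [hUdef]
    exact (Groth.Agent.Lib.Helper72.DvrFibre.mem_preimage_basicOpen_iff f hϖ x).symm
  suffices h : _root_.IsConnected (U : Set X) by
    rw [← hUeq] at h
    haveI := isConnected_iff_connectedSpace.1 h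
    exact (f.fiberHomeo _).symm.surjective.connectedSpace (f.fiberHomeo _).symm.continuous
  constructor
  · obtain ⟨x⟩ := (inferInstance : Nonempty X)
    obtain ⟨_, ⟨W, hW, rfl⟩, hxW, -⟩ :=
      X.isBasis_affineOpens.exists_subset_of_mem_open (Set.mem_univ x) isOpen_univ
    obtain ⟨z, -, hz⟩ := exists_mem_generic f hϖ hW hxW
    exact ⟨z, by rw [hUdef]; exact hz⟩
  · intro u v hu hv huv hUu hUv
    by_contra hcon
    rw [Set.not_nonempty_iff_eq_empty] at hcon
    have hAB : (U ⊓ ⟨u, hu⟩ : X.Opens) ⊓ (U ⊓ ⟨v, hv⟩) = ⊥ := by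
      rw [eq_bot_iff]
      rintro z ⟨⟨hz1, hz2⟩, ⟨-, hz3⟩⟩
      have : z ∈ (U : Set X) ∩ (u ∩ v) := ⟨hz1, hz2, hz3⟩
      rw [hcon] at this
      exact this
    have hU : (U ⊓ ⟨u, hu⟩ : X.Opens) ⊔ (U ⊓ ⟨v, hv⟩) = f ⁻¹ᵁ (PrimeSpectrum.basicOpen ϖ) := by
      rw [← hUdef]
      apply le_antisymm
      · exact sup_le inf_le_left inf_le_left
      · intro z hz
        rcases huv hz with h | h
        · exact Or.inl ⟨hz, h⟩
        · exact Or.inr ⟨hz, h⟩
    have hdense := dense_generic f hϖ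
    have hX := isPreconnected_closed_iff.1 (isPreconnected_univ (α := X))
      (closure ((U ⊓ ⟨u, hu⟩ : X.Opens) : Set X)) (closure ((U ⊓ ⟨v, hv⟩ : X.Opens) : Set X))
      isClosed_closure isClosed_closure ?_ ?_ ?_
    · obtain ⟨x, -, hxA, hxB⟩ := hX
      exact not_mem_closure_both f hϖ _ _ hAB hU x hxA hxB
    · rw [← closure_union]
      intro x _
      have h1 : (((U ⊓ ⟨u, hu⟩ : X.Opens) : Set X) ∪ ((U ⊓ ⟨v, hv⟩ : X.Opens) : Set X)) =
          ((f ⁻¹ᵁ (PrimeSpectrum.basicOpen ϖ) : X.Opens) : Set X) := by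
        rw [← hU]; rfl
      rw [h1]
      exact hdense x
    · obtain ⟨z, hz⟩ := hUu
      exact ⟨z, trivial, subset_closure hz⟩
    · obtain ⟨z, hz⟩ := hUv
      exact ⟨z, trivial, subset_closure hz⟩

end Groth.Agent.S0421
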