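import Groth.Statements.S0425
import Mathlib.AlgebraicGeometry.Morphisms.FlatMono
import Mathlib.AlgebraicGeometry.Morphisms.UniversallyInjective
import Mathlib.AlgebraicGeometry.Morphisms.Immersion
import Mathlib.AlgebraicGeometry.Morphisms.IsIso

set_option autoImplicit false
universe u
open FlatMor

namespace Groth.Agent.S0425

open AlgebraicGeometry CategoryTheory Limits in
/-- A weakly étale universal homeomorphism is an isomorphism. -/
theorem result {X Y : Scheme.{u}} (f : X ⟶ Y) [WeaklyEtale f] (h : FlatMor.IsUnivHomeo f) : IsIso f := by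
  have hhomeo : IsHomeomorph f := h _ _ _ IsPullback.of_id_snd
  have hqc : QuasiCompact f := ⟨fun V hV hc => hhomeo.homeomorph.isCompact_preimage.mpr hc⟩
  have hsurj : Surjective f := ⟨hhomeo.bijective.2⟩
  have huinj : UniversallyInjective f := by
    rw [universallyInjective_iff]
    intro X' Y' i₁ i₂ f' sq
    exact (h i₁ i₂ f' sq).bijective.1
  have hdsurj : Surjective (pullback.diagonal f) := (UniversallyInjective.iff_diagonal f).mp huinj
  have hdhomeo : IsHomeomorph (pullback.diagonal f) :=
    ⟨(pullback.diagonal f).continuous,
      ((pullback.diagonal f).isEmbedding.isOpenEmbedding_of_surjective hdsurj.surj).isOpenMap,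
      (pullback.diagonal f).isEmbedding.injective, hdsurj.surj⟩
  have hdqc : QuasiCompact (pullback.diagonal f) :=
    ⟨fun V hV hc => hdhomeo.homeomorph.isCompact_preimage.mpr hc⟩
  have hdiso : IsIso (pullback.diagonal f) := Flat.isIso_of_surjective_of_mono _
  have : Mono f := (pullback.isIso_diagonal_iff f).mp hdiso
  exact Flat.isIso_of_surjective_of_mono f

end Groth.Agent.S0425
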