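import Groth.Statements.S0426
import Groth.Agent.Lib.Helper1.WeaklyEtale
import Groth.Agent.Lib.Helper1.FlatDescent
import Mathlib.RingTheory.Unramified.Field
import Mathlib.FieldTheory.IntermediateField.Adjoin.Algebra
import Mathlib.FieldTheory.IntermediateField.Algebraic

set_option autoImplicit false
universe u
open FlatMor

namespace Groth.Agent.S0426

theorem flat_lmul'_intermediate {K L : Type u} [Field K] [Field L] [Algebra K L]
    (E : IntermediateField K L)
    (h : (Algebra.TensorProduct.lmul' K (S := L)).toRingHom.Flat) :
    (Algebra.TensorProduct.lmul' K (S := E)).toRingHom.Flat :=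
  Groth.Agent.Lib.Helper1.flat_lmul'_of_faithfullyFlat (A := K) (B := E) (C := L) h

theorem isSeparable_intermediate {K L : Type u} [Field K] [Field L] [Algebra K L]
    (E : IntermediateField K L) (hE : E.FG)
    (h : (Algebra.TensorProduct.lmul' K (S := E)).toRingHom.Flat) : Algebra.IsSeparable K E := by
  have : Algebra.FormallyUnramified K E :=
    Groth.Agent.Lib.Helper1.formallyUnramified_of_flat_lmul' h
  have : Algebra.EssFiniteType K E :=
    IntermediateField.essFiniteType_iff.mpr hE
  exact Algebra.FormallyUnramified.isSeparable K E

theorem isSeparable_of_mem {K L : Type u} [Field K] [Field L] [Algebra K L]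
    (E : IntermediateField K L) [Algebra.IsSeparable K E] (x : L) (hx : x ∈ E) :
    IsSeparable K x := by
  have hx' : IsSeparable K (⟨x, hx⟩ : E) := Algebra.IsSeparable.isSeparable K (⟨x, hx⟩ : E)
  unfold IsSeparable at hx' ⊢
  rwa [IntermediateField.minpoly_eq] at hx'

/-- A field extension L/K such that L is weakly étale over K (equivalently the multiplication map of L
⊗_K L is flat) is algebraic and separable. -/
theorem result {K L : Type u} [Field K] [Field L] [Algebra K L] [Algebra.WeaklyEtale K L] : Algebra.IsSeparable K L := by
  refine ⟨fun x => ?_⟩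
  have hE : (IntermediateField.adjoin K {x}).FG :=
    IntermediateField.fg_adjoin_of_finite (Set.finite_singleton x)
  have := isSeparable_intermediate _ hE
    (flat_lmul'_intermediate (IntermediateField.adjoin K {x}) (Algebra.WeaklyEtale.flat_lmul' K L))
  exact isSeparable_of_mem (IntermediateField.adjoin K {x}) x
    (IntermediateField.mem_adjoin_simple_self K x)

end Groth.Agent.S0426
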