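import Groth.Statements.S0431
import Groth.Agent.Lib.Helper6.PushGlue
import Groth.Agent.Lib.Helper6.ThickIsAffine

set_option autoImplicit false
universe u
open FlatMor

namespace Groth.Agent.S0431

open AlgebraicGeometry CategoryTheory Limits in
/-- For a thickening X → X' (a surjective closed immersion) and an affine morphism X → Y, the pushout Y'
of X' and Y along X exists in schemes, Y → Y' is again a thickening and X is the fibre product of Y
and X' over Y' (the source's description of the structure sheaf of the pushout as a fibre product of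
sheaves is not restated). -/
theorem result {X X' Y : Scheme.{u}} (t : X ⟶ X') [IsClosedImmersion t] (ht : Function.Surjective t) (f : X ⟶ Y) [IsAffineHom f] :
    ∃ (Y' : Scheme.{u}) (f' : X' ⟶ Y') (b : Y ⟶ Y'), IsPushout t f f' b ∧ IsPullback t f f' b ∧
      IsClosedImmersion b ∧ Function.Surjective b := by
  classical
  have hcov : ∀ y : Y, ∃ p : Groth.Agent.Lib.Helper6.PushGlue.Pair t f, y ∈ p.V := by
    intro y
    obtain ⟨_, ⟨V, hV, rfl⟩, hyV, -⟩ :=
      Y.isBasis_affineOpens.exists_subset_of_mem_open (Set.mem_univ y) isOpen_univ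
    have hclosed : IsClosed (t '' ((f ⁻¹ᵁ V : X.Opens) : Set X)ᶜ) :=
      t.isClosedEmbedding.isClosedMap _ (f ⁻¹ᵁ V).isOpen.isClosed_compl
    let U' : X'.Opens := ⟨(t '' ((f ⁻¹ᵁ V : X.Opens) : Set X)ᶜ)ᶜ, hclosed.isOpen_compl⟩
    have hU' : t ⁻¹ᵁ U' = f ⁻¹ᵁ V := by
      ext x
      constructor
      · intro hx
        by_contra hxV
        exact hx ⟨x, hxV, rfl⟩
      · rintro hx ⟨x', hx', hxx'⟩
        have : x' = x := t.isClosedEmbedding.injective hxx'
        exact hx' (this ▸ hx)
    have haff : IsAffineOpen U' := by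
      apply Groth.Agent.Lib.Helper6.ThickIsAffine.isAffineOpen_of_thickening t ht U'
      rw [hU']
      exact hV.preimage f
    exact ⟨⟨U', V, haff, hV, hU'⟩, hyV⟩
  refine ⟨Groth.Agent.Lib.Helper6.PushGlue.glued t f,
    Groth.Agent.Lib.Helper6.PushGlue.inlX t f hcov,
    Groth.Agent.Lib.Helper6.PushGlue.inrY t f hcov,
    Groth.Agent.Lib.Helper6.PushGlue.isPushout t f hcov,
    Groth.Agent.Lib.Helper6.PushGlue.isPullback t f hcov,
    Groth.Agent.Lib.Helper6.PushGlue.isClosedImmersion_inrY t f hcov, ?_⟩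
  intro w
  rcases Groth.Agent.Lib.Helper6.PushGlue.jointlySurj t f hcov w with ⟨x', hx'⟩ | ⟨y, hy⟩
  · obtain ⟨x, rfl⟩ := ht x'
    refine ⟨f x, ?_⟩
    rw [← hx', ← Scheme.Hom.comp_apply, ← Scheme.Hom.comp_apply,
      Groth.Agent.Lib.Helper6.PushGlue.comm t f hcov]
  · exact ⟨y, hy⟩

end Groth.Agent.S0431
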