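import Groth.Statements.S0432
import Groth.Agent.Lib.Helper79.FerrandProps2

set_option autoImplicit false
universe u
open FlatMor

namespace Groth.Agent.S0432

open AlgebraicGeometry CategoryTheory Limits in
/-- The pushout of two closed immersions Z → X and Z → Y exists in schemes, both maps into it are closed
immersions and the square is cartesian. -/
theorem result {X Y Z : Scheme.{u}} (i : Z ⟶ X) (j : Z ⟶ Y) [IsClosedImmersion i] [IsClosedImmersion j] :
    ∃ (P : Scheme.{u}) (a : X ⟶ P) (b : Y ⟶ P), IsPushout i j a b ∧ IsPullback i j a b ∧ IsClosedImmersion a ∧ IsClosedImmersion b := by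
  have hF : Groth.Agent.Lib.Helper79.Ferrand.Cond i j := by
    intro y
    by_cases hy : y ∈ Set.range j
    · obtain ⟨z, rfl⟩ := hy
      obtain ⟨_, ⟨U₀, hU₀, rfl⟩, hzU₀, -⟩ :=
        X.isBasis_affineOpens.exists_subset_of_mem_open (Set.mem_univ (i z)) isOpen_univ
      obtain ⟨_, ⟨V₀, hV₀, rfl⟩, hzV₀, -⟩ :=
        Y.isBasis_affineOpens.exists_subset_of_mem_open (Set.mem_univ (j z)) isOpen_univ
      have hW₀ : IsAffineOpen (i ⁻¹ᵁ U₀) := IsAffineOpen.preimage hU₀ i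
      have hW₁ : IsAffineOpen (j ⁻¹ᵁ V₀) := IsAffineOpen.preimage hV₀ j
      obtain ⟨f₀, f₁, hff, hzf⟩ := exists_basicOpen_le_affine_inter hW₀ hW₁ z ⟨hzU₀, hzV₀⟩
      obtain ⟨h₀, hh₀⟩ := i.app_surjective U₀ hU₀ f₀
      obtain ⟨g₁, hg₁⟩ := j.app_surjective V₀ hV₀ f₁
      refine ⟨⟨X.basicOpen h₀, Y.basicOpen g₁, IsAffineOpen.basicOpen hU₀ _,
        IsAffineOpen.basicOpen hV₀ _, ?_⟩, ?_⟩
      · rw [Scheme.preimage_basicOpen, Scheme.preimage_basicOpen, hh₀, hg₁, hff]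
      · change z ∈ j ⁻¹ᵁ (Y.basicOpen g₁)
        rw [Scheme.preimage_basicOpen, hg₁, ← hff]
        exact hzf
    · let O : Y.Opens := ⟨(Set.range j)ᶜ, j.isClosedEmbedding.isClosed_range.isOpen_compl⟩
      obtain ⟨_, ⟨V, hV, rfl⟩, hyV, hVO⟩ :=
        Y.isBasis_affineOpens.exists_subset_of_mem_open (show y ∈ (O : Set Y) from hy) O.isOpen
      refine ⟨⟨⊥, V, isAffineOpen_bot X, hV, ?_⟩, hyV⟩
      have h1 : i ⁻¹ᵁ (⊥ : X.Opens) = ⊥ := rfl
      rw [h1, eq_comm, eq_bot_iff]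
      intro z hz
      exact (hVO hz ⟨z, rfl⟩).elim
  exact ⟨_, _, _, Groth.Agent.Lib.Helper79.Ferrand.isPushout hF,
    Groth.Agent.Lib.Helper79.Ferrand.isPullback hF,
    Groth.Agent.Lib.Helper79.Ferrand.isClosedImmersion_a hF,
    Groth.Agent.Lib.Helper79.Ferrand.isClosedImmersion_b hF⟩

end Groth.Agent.S0432
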