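import Groth.Statements.S0433
import Groth.Agent.Lib.Helper6.PinchAff
import Mathlib.CategoryTheory.Limits.Shapes.ConcreteCategory
import Mathlib.Algebra.Category.Ring.Limits

set_option autoImplicit false
universe u
open FlatMor

namespace Groth.Agent.S0433

open AlgebraicGeometry CategoryTheory Limits in
theorem appTop_hom {R S : CommRingCat.{u}} (φ : R ⟶ S) (x : Γ(Spec R, ⊤)) :
    (Scheme.ΓSpecIso S).hom ((Spec.map φ).appTop x) = φ ((Scheme.ΓSpecIso R).hom x) := by
  have := ConcreteCategory.congr_hom (Scheme.ΓSpecIso_naturality φ) x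
  exact this

open AlgebraicGeometry CategoryTheory Limits in
theorem appTop_inv {R S : CommRingCat.{u}} (φ : R ⟶ S) (r : R) :
    (Spec.map φ).appTop ((Scheme.ΓSpecIso R).inv r) = (Scheme.ΓSpecIso S).inv (φ r) := by
  have := ConcreteCategory.congr_hom (Scheme.ΓSpecIso_inv_naturality φ) r
  exact this.symm

open AlgebraicGeometry CategoryTheory Limits in
theorem hom_inj (R : CommRingCat.{u}) : Function.Injective (Scheme.ΓSpecIso R).hom :=
  (ConcreteCategory.bijective_of_isIso (Scheme.ΓSpecIso R).hom).injective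

open AlgebraicGeometry CategoryTheory Limits in
theorem inv_hom (R : CommRingCat.{u}) (x : Γ(Spec R, ⊤)) :
    (Scheme.ΓSpecIso R).inv ((Scheme.ΓSpecIso R).hom x) = x := by
  rw [← CommRingCat.comp_apply, Iso.hom_inv_id]
  rfl

open AlgebraicGeometry CategoryTheory Limits in
theorem hom_inv (R : CommRingCat.{u}) (r : R) :
    (Scheme.ΓSpecIso R).hom ((Scheme.ΓSpecIso R).inv r) = r := by
  rw [← CommRingCat.comp_apply, Iso.inv_hom_id]
  rfl

open AlgebraicGeometry CategoryTheory Limits in
/-- For a surjective ring map A' → A and any ring map B → A, the spectra of A, A', B and of the fibre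
product ring B ×_A A' form a pushout square of schemes. -/
theorem result {A A' B : Type u} [CommRing A] [CommRing A'] [CommRing B] (p : A' →+* A) (hp : Function.Surjective p) (q : B →+* A) :
    IsPushout (Spec.map (CommRingCat.ofHom p)) (Spec.map (CommRingCat.ofHom q))
      (Spec.map (pullback.snd (CommRingCat.ofHom q) (CommRingCat.ofHom p)))
      (Spec.map (pullback.fst (CommRingCat.ofHom q) (CommRingCat.ofHom p))) := by
  have comm : Spec.map (CommRingCat.ofHom p) ≫
      Spec.map (pullback.snd (CommRingCat.ofHom q) (CommRingCat.ofHom p)) =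
      Spec.map (CommRingCat.ofHom q) ≫
        Spec.map (pullback.fst (CommRingCat.ofHom q) (CommRingCat.ofHom p)) := by
    rw [← Spec.map_comp, ← Spec.map_comp, pullback.condition]
  apply Groth.Agent.Lib.Helper6.PinchAff.isPushout _ _ _ _ comm
  · intro z
    obtain ⟨a', ha'⟩ := hp ((Scheme.ΓSpecIso (CommRingCat.of A)).hom z)
    refine ⟨(Scheme.ΓSpecIso (CommRingCat.of A')).inv a', ?_⟩
    rw [appTop_inv]
    apply hom_inj
    rw [hom_inv]
    exact ha'
  · intro y x hyx
    have h1 : (CommRingCat.ofHom q) ((Scheme.ΓSpecIso (CommRingCat.of B)).hom y) =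
        (CommRingCat.ofHom p) ((Scheme.ΓSpecIso (CommRingCat.of A')).hom x) := by
      rw [← appTop_hom, ← appTop_hom, hyx]
    refine ⟨(Scheme.ΓSpecIso _).inv (Concrete.pullbackMk (CommRingCat.ofHom q)
      (CommRingCat.ofHom p) _ _ h1), ?_, ?_⟩
    · rw [appTop_inv, Concrete.pullbackMk_fst, inv_hom]
    · rw [appTop_inv, Concrete.pullbackMk_snd, inv_hom]
  · intro c h1 h2
    apply hom_inj
    rw [map_zero]
    have e1 : (pullback.fst (CommRingCat.ofHom q) (CommRingCat.ofHom p))
        ((Scheme.ΓSpecIso _).hom c) = 0 := by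
      rw [← appTop_hom, h1, map_zero]
    have e2 : (pullback.snd (CommRingCat.ofHom q) (CommRingCat.ofHom p))
        ((Scheme.ΓSpecIso _).hom c) = 0 := by
      rw [← appTop_hom, h2, map_zero]
    obtain ⟨x₁, x₂, h, hc⟩ := Concrete.pullbackMk_surjective (CommRingCat.ofHom q)
      (CommRingCat.ofHom p) ((Scheme.ΓSpecIso _).hom c)
    obtain ⟨y₁, y₂, h', h0⟩ := Concrete.pullbackMk_surjective (CommRingCat.ofHom q)
      (CommRingCat.ofHom p) (0 : ↑(pullback (CommRingCat.ofHom q) (CommRingCat.ofHom p)))
    have hx₁ : x₁ = y₁ := by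
      have := e1
      rw [hc, Concrete.pullbackMk_fst] at this
      have h3 : (pullback.fst (CommRingCat.ofHom q) (CommRingCat.ofHom p)) 0 = 0 := map_zero _
      rw [h0, Concrete.pullbackMk_fst] at h3
      rw [this, h3]
    have hx₂ : x₂ = y₂ := by
      have := e2
      rw [hc, Concrete.pullbackMk_snd] at this
      have h3 : (pullback.snd (CommRingCat.ofHom q) (CommRingCat.ofHom p)) 0 = 0 := map_zero _
      rw [h0, Concrete.pullbackMk_snd] at h3
      rw [this, h3]
    subst hx₁ hx₂
    rw [hc, h0]

end Groth.Agent.S0433
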