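import Groth.Statements.S0436
import Groth.Agent.Lib.Helper72.DvrFibre
import Mathlib.RingTheory.LocalProperties.Reduced

set_option autoImplicit false
universe u
open FlatMor

namespace Groth.Agent.S0436

section aux

open AlgebraicGeometry CategoryTheory Limits Groth.Agent.Lib.Helper72 DvrFibre TensorProduct

variable {R : Type u} [CommRing R] [IsDomain R]

/-- Base change of a reduced affine scheme to the generic point of a domain is reduced. -/
theorem isReduced_pullback_generic {A : CommRingCat.{u}} [_root_.IsReduced A]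
    (ψ : Spec A ⟶ Spec (CommRingCat.of R)) :
    IsReduced (pullback ψ ((Spec (CommRingCat.of R)).fromSpecResidueField
      (⟨⊥, Ideal.isPrime_bot⟩ : PrimeSpectrum R))) := by
  obtain ⟨φ, rfl⟩ : ∃ φ : CommRingCat.of R ⟶ A, Spec.map φ = ψ := ⟨_, Spec.map_preimage ψ⟩
  let _ := φ.hom.toAlgebra
  obtain ⟨y, hy⟩ : ∃ y : PrimeSpectrum R, y = ⟨⊥, Ideal.isPrime_bot⟩ := ⟨_, rfl⟩
  rw [← hy]
  have h0 : Spec.map (CommRingCat.ofHom (algebraMap R A)) = Spec.map φ := rfl
  have h1 : Spec.map (CommRingCat.ofHom (algebraMap R A)) ≫ 𝟙 _ = 𝟙 _ ≫ Spec.map φ := by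
    rw [Category.comp_id, Category.id_comp, h0]
  have h2 : Spec.map (CommRingCat.ofHom (algebraMap R y.asIdeal.ResidueField)) ≫ 𝟙 _ =
      Spec.map (Scheme.Spec.residueFieldIso (.of R) y).hom ≫
        (Spec (.of R)).fromSpecResidueField y := by
    rw [Category.comp_id, ← Scheme.Spec.map_residueFieldIso_inv_eq_fromSpecResidueField,
      ← Spec.map_comp_assoc, Iso.inv_hom_id, Spec.map_id, Category.id_comp]
  have h3 : IsOpenImmersion (pullback.map (Spec.map (CommRingCat.ofHom (algebraMap R A)))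
      (Spec.map (CommRingCat.ofHom (algebraMap R y.asIdeal.ResidueField)))
      (Spec.map φ) ((Spec (.of R)).fromSpecResidueField y) (𝟙 _)
      (Spec.map (Scheme.Spec.residueFieldIso (.of R) y).hom) (𝟙 _) h1 h2) :=
    Scheme.pullback_map_isOpenImmersion _ _ _ _ _ _ _ _ _
  have h4 : IsIso (pullback.map (Spec.map (CommRingCat.ofHom (algebraMap R A)))
      (Spec.map (CommRingCat.ofHom (algebraMap R y.asIdeal.ResidueField)))
      (Spec.map φ) ((Spec (.of R)).fromSpecResidueField y) (𝟙 _)
      (Spec.map (Scheme.Spec.residueFieldIso (.of R) y).hom) (𝟙 _) h1 h2) :=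
    pullback.map_isIso _ _ _ _ _ _ _ _ _
  have h5 : _root_.IsReduced (A ⊗[R] y.asIdeal.ResidueField) := by
    subst hy
    have : IsLocalization (Algebra.algebraMapSubmonoid A (nonZeroDivisors R))
        (A ⊗[R] (⊥ : Ideal R).ResidueField) := IsLocalization.tensor _ _
    exact isReduced_localizationPreserves (R := A)
      (Algebra.algebraMapSubmonoid A (nonZeroDivisors R))
      (A ⊗[R] (⊥ : Ideal R).ResidueField) ‹_root_.IsReduced A›
  have h6 : IsReduced (Spec (.of (A ⊗[R] y.asIdeal.ResidueField))) := inferInstance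
  have h7 : IsReduced (pullback (Spec.map (CommRingCat.ofHom (algebraMap R A)))
      (Spec.map (CommRingCat.ofHom (algebraMap R y.asIdeal.ResidueField)))) :=
    isReduced_of_isOpenImmersion (pullbackSpecIso R A y.asIdeal.ResidueField).hom
  exact isReduced_of_isOpenImmersion (inv (pullback.map (Spec.map (CommRingCat.ofHom (algebraMap R A)))
      (Spec.map (CommRingCat.ofHom (algebraMap R y.asIdeal.ResidueField)))
      (Spec.map φ) ((Spec (.of R)).fromSpecResidueField y) (𝟙 _)
      (Spec.map (Scheme.Spec.residueFieldIso (.of R) y).hom) (𝟙 _) h1 h2))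

theorem isReduced_fiber_generic {X : Scheme.{u}} (f : X ⟶ Spec (CommRingCat.of R)) [IsReduced X] :
    IsReduced (f.fiber (⟨⊥, Ideal.isPrime_bot⟩ : PrimeSpectrum R)) := by
  have h : ∀ i, IsReduced ((Scheme.Pullback.openCoverOfLeft X.affineOpenCover.openCover f
      ((Spec (CommRingCat.of R)).fromSpecResidueField
        (⟨⊥, Ideal.isPrime_bot⟩ : PrimeSpectrum R))).X i) := by
    intro i
    have h1 : IsReduced (Spec (X.affineOpenCover.X i)) :=
      isReduced_of_isOpenImmersion (X.affineOpenCover.f i)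
    have h2 : _root_.IsReduced (X.affineOpenCover.X i) := (affine_isReduced_iff _).1 h1
    exact isReduced_pullback_generic (X.affineOpenCover.f i ≫ f)
  exact IsReduced.of_openCover _ (Scheme.Pullback.openCoverOfLeft X.affineOpenCover.openCover f
      ((Spec (CommRingCat.of R)).fromSpecResidueField
        (⟨⊥, Ideal.isPrime_bot⟩ : PrimeSpectrum R)))

variable [IsDiscreteValuationRing R]

theorem exists_reduced_nbhd {X : Scheme.{u}} (f : X ⟶ Spec (CommRingCat.of R)) [IsProper f]
    [Flat f] [IsReduced (f.fiber (IsLocalRing.closedPoint R))] {ϖ : R} (hϖ : Irreducible ϖ)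
    (x : X) : ∃ V : X.Opens, x ∈ V ∧ IsReduced ↑V := by
  -- a specialization of x in the closed fibre
  obtain ⟨x₀, hx₀, hfx₀⟩ : ∃ x₀, x ⤳ x₀ ∧ f x₀ = IsLocalRing.closedPoint R := by
    have h1 : IsClosed (f '' closure {x}) := f.isClosedMap _ isClosed_closure
    have h2 : f x ∈ f '' closure {x} := ⟨x, subset_closure rfl, rfl⟩
    have h3 : IsLocalRing.closedPoint R ∈ f '' closure {x} :=
      (IsLocalRing.specializes_closedPoint (f x)).mem_closed h1 h2
    obtain ⟨x₀, hx₀, hfx₀⟩ := h3
    exact ⟨x₀, specializes_iff_mem_closure.2 hx₀, hfx₀⟩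
  obtain ⟨_, ⟨W, hW, rfl⟩, hxW, -⟩ :=
    X.isBasis_affineOpens.exists_subset_of_mem_open (Set.mem_univ x₀) isOpen_univ
  obtain ⟨p, hp⟩ : ∃ p, p = (secMap f W).hom ϖ := ⟨_, rfl⟩
  have hVeq : X.basicOpen p = W ⊓ f ⁻¹ᵁ (PrimeSpectrum.basicOpen ϖ) := by
    rw [hp]; exact basicOpen_secMap f W ϖ
  have : _root_.IsReduced (Γ(X, W) ⧸ Ideal.span {p}) := by
    rw [hp]; exact isReduced_quotient f hϖ hW
  have hpnzd : p ∈ nonZeroDivisors Γ(X, W) := by
    rw [hp]; exact secMap_mem_nonZeroDivisors f hϖ hW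
  have : IsNoetherianRing Γ(X, W) := by
    have h1 := f.finiteType_appLE (isAffineOpen_top _) hW (le_top : W ≤ f ⁻¹ᵁ ⊤)
    have h2 : IsNoetherianRing Γ(Spec (CommRingCat.of R), ⊤) :=
      isNoetherianRing_of_ringEquiv R (Scheme.ΓSpecIso (.of R)).symm.commRingCatIsoToRingEquiv
    let _ := (f.appLE ⊤ W le_top).hom.toAlgebra
    have h3 : Algebra.FiniteType Γ(Spec (CommRingCat.of R), ⊤) Γ(X, W) := h1
    exact Algebra.FiniteType.isNoetherianRing Γ(Spec (CommRingCat.of R), ⊤) Γ(X, W)
  obtain ⟨r, hr1, hr2⟩ := DvrAlg.exists_kill_nilradical p hpnzd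
  have hx₀r : x₀ ∈ X.basicOpen r := by
    have hx₀p : x₀ ∉ X.basicOpen p := by
      rw [hVeq]
      rintro ⟨-, h⟩
      exact (notMem_preimage_basicOpen_iff f hϖ x₀).2 hfx₀ h
    rw [Scheme.mem_basicOpen _ _ x₀ hxW] at hx₀p ⊢
    obtain ⟨d, hd⟩ := Ideal.mem_span_singleton'.1 hr1
    have hsum : X.presheaf.germ W x₀ hxW r + X.presheaf.germ W x₀ hxW (-d) *
        X.presheaf.germ W x₀ hxW p = 1 := by
      rw [← map_mul, ← map_add]
      have : r + -d * p = 1 := by rw [neg_mul, hd]; ring
      rw [this, map_one]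
    rcases IsLocalRing.isUnit_or_isUnit_of_add_one hsum with h | h
    · exact h
    · exact (hx₀p (isUnit_of_mul_isUnit_right h)).elim
  have hxr : x ∈ X.basicOpen r := hx₀.mem_open (X.basicOpen r).isOpen hx₀r
  refine ⟨X.basicOpen r, hxr, ?_⟩
  have hV : IsAffineOpen (X.basicOpen r) := hW.basicOpen r
  have := hW.isLocalization_basicOpen r
  have : _root_.IsReduced Γ(X, X.basicOpen r) := DvrAlg.isReduced_away r hr2
  exact isReduced_of_isOpenImmersion hV.isoSpec.hom

end aux

open AlgebraicGeometry CategoryTheory Limits in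
/-- For a proper flat morphism to the spectrum of a discrete valuation ring whose special fibre is
reduced, both the total space and the generic fibre are reduced. (The published statement is
stronger: instead of flatness it only needs every irreducible component of the total space to
dominate the base.) -/
theorem result {R : Type u} [CommRing R] [IsDomain R] [IsDiscreteValuationRing R] {X : Scheme.{u}}
    (f : X ⟶ Spec (CommRingCat.of R)) [IsProper f] [Flat f]
    (hred : IsReduced (f.fiber (IsLocalRing.closedPoint R))) :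
    IsReduced X ∧ IsReduced (f.fiber (⟨⊥, Ideal.isPrime_bot⟩ : PrimeSpectrum R)) := by
  obtain ⟨ϖ, hϖ⟩ := IsDiscreteValuationRing.exists_irreducible R
  have := hred
  have hX : IsReduced X := by
    choose V hxV hV using exists_reduced_nbhd f hϖ
    have hcov : TopologicalSpace.IsOpenCover V := by
      rw [TopologicalSpace.IsOpenCover, eq_top_iff]
      intro x _
      exact TopologicalSpace.Opens.mem_iSup.2 ⟨x, hxV x⟩
    have : ∀ i, IsReduced ((X.openCoverOfIsOpenCover V hcov).X i) := hV
    exact IsReduced.of_openCover _ (X.openCoverOfIsOpenCover V hcov)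
  exact ⟨hX, isReduced_fiber_generic f⟩

end Groth.Agent.S0436
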