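import Groth.Statements.S0438
import Mathlib
import Groth.Agent.S0436
import Groth.Agent.Lib.Helper80.ValRed
import Groth.Agent.Lib.Helper57.EtQF6
import Groth.Agent.Lib.Helper87.BirBaseChange

set_option autoImplicit false
universe u
open FlatMor

namespace Groth.Agent.S0438

section aux

open AlgebraicGeometry CategoryTheory Limits Groth.Agent.Lib.Helper72 DvrFibre TensorProduct

variable {R : Type u} [CommRing R] [IsDomain R] [ValuationRing R]

theorem exists_reduced_nbhd {X : Scheme.{u}} (f : X ⟶ Spec (CommRingCat.of R)) [IsProper f]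
    [Flat f] [IsReduced (f.fiber (IsLocalRing.closedPoint R))] (x : X) :
    ∃ V : X.Opens, x ∈ V ∧ IsReduced ↑V := by
  -- a specialization of x in the closed fibre
  obtain ⟨x₀, hx₀, hfx₀⟩ : ∃ x₀, x ⤳ x₀ ∧ f x₀ = IsLocalRing.closedPoint R := by
    have h1 : IsClosed (f '' closure {x}) := f.isClosedMap _ isClosed_closure
    have h2 : f x ∈ f '' closure {x} := ⟨x, subset_closure rfl, rfl⟩
    have h3 : IsLocalRing.closedPoint R ∈ f '' closure {x} :=
      (IsLocalRing.specializes_closedPoint (f x)).mem_closed h1 h2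
    obtain ⟨x₀, hx₀, hfx₀⟩ := h3
    exact ⟨x₀, specializes_iff_mem_closure.2 hx₀, hfx₀⟩
  obtain ⟨_, ⟨W, hW, rfl⟩, hxW, -⟩ :=
    X.isBasis_affineOpens.exists_subset_of_mem_open (Set.mem_univ x₀) isOpen_univ
  let _ := (secMap f W).hom.toAlgebra
  have hflat : Module.Flat R Γ(X, W) := flat_secMap f hW
  have hft : Algebra.FiniteType R Γ(X, W) := by
    have h1 := f.finiteType_appLE (isAffineOpen_top _) hW (le_top : W ≤ f ⁻¹ᵁ ⊤)
    have h2 : (secMap f W).hom = (f.appLE ⊤ W le_top).hom.comp
      (Scheme.ΓSpecIso (.of R)).inv.hom := rfl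
    have h3 : (secMap f W).hom.FiniteType := by
      rw [h2]
      exact RingHom.FiniteType.comp h1 (RingHom.FiniteType.of_surjective _
        (ConcreteCategory.bijective_of_isIso (Scheme.ΓSpecIso (.of R)).inv).2)
    exact h3
  have hred : _root_.IsReduced
      (Γ(X, W) ⧸ (IsLocalRing.maximalIdeal R).map (algebraMap R Γ(X, W))) := by
    have h1 := isReduced_tensor_of_fiber f hW (IsLocalRing.closedPoint R)
    have hmax : (IsLocalRing.closedPoint R).asIdeal.IsMaximal :=
      IsLocalRing.maximalIdeal.isMaximal R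
    exact DvrAlg.isReduced_quotient_of_tensor (IsLocalRing.closedPoint R).asIdeal Γ(X, W)
  have hnil : ∀ c : Γ(X, W), IsNilpotent c →
      c ∈ (IsLocalRing.maximalIdeal R).map (algebraMap R Γ(X, W)) := by
    intro c hc
    rw [← Ideal.Quotient.eq_zero_iff_mem]
    exact IsReduced.eq_zero _ (hc.map _)
  obtain ⟨r, hr1, hr2⟩ := Groth.Agent.Lib.Helper80.ValRed.exists_kill_nilradical (R := R) hnil
  have hx₀r : x₀ ∈ X.basicOpen r := by
    rw [Scheme.mem_basicOpen _ _ x₀ hxW]
    have hle : (IsLocalRing.maximalIdeal R).map (algebraMap R Γ(X, W)) ≤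
        (IsLocalRing.maximalIdeal (X.presheaf.stalk x₀)).comap
          (X.presheaf.germ W x₀ hxW).hom := by
      rw [Ideal.map_le_iff_le_comap]
      intro t ht
      show (X.presheaf.germ W x₀ hxW).hom ((secMap f W).hom t) ∈
        IsLocalRing.maximalIdeal (X.presheaf.stalk x₀)
      rw [IsLocalRing.mem_maximalIdeal, mem_nonunits_iff]
      intro hu
      have h1 : x₀ ∈ X.basicOpen ((secMap f W).hom t) :=
        (Scheme.mem_basicOpen _ _ x₀ hxW).2 hu
      rw [basicOpen_secMap] at h1
      have h2 : t ∉ (f x₀).asIdeal := h1.2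
      rw [hfx₀] at h2
      exact h2 ht
    have h3 : (X.presheaf.germ W x₀ hxW).hom (r - 1) ∈
        IsLocalRing.maximalIdeal (X.presheaf.stalk x₀) := hle hr1
    have hsum : X.presheaf.germ W x₀ hxW r + (-(X.presheaf.germ W x₀ hxW).hom (r - 1)) = 1 := by
      rw [map_sub, map_one]
      show X.presheaf.germ W x₀ hxW r + -(X.presheaf.germ W x₀ hxW r - 1) = 1
      ring
    rcases IsLocalRing.isUnit_or_isUnit_of_add_one hsum with h | h
    · exact h
    · exfalso
      rw [IsLocalRing.mem_maximalIdeal, mem_nonunits_iff] at h3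
      exact h3 (by rw [← IsUnit.neg_iff]; exact h)
  have hxr : x ∈ X.basicOpen r := hx₀.mem_open (X.basicOpen r).isOpen hx₀r
  refine ⟨X.basicOpen r, hxr, ?_⟩
  have hV : IsAffineOpen (X.basicOpen r) := hW.basicOpen r
  have := hW.isLocalization_basicOpen r
  have : _root_.IsReduced Γ(X, X.basicOpen r) := DvrAlg.isReduced_away r hr2
  exact isReduced_of_isOpenImmersion hV.isoSpec.hom

theorem isReduced_total {X : Scheme.{u}} (f : X ⟶ Spec (CommRingCat.of R)) [IsProper f]
    [Flat f] (hred : IsReduced (f.fiber (IsLocalRing.closedPoint R))) : IsReduced X := by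
  have := hred
  choose V hxV hV using exists_reduced_nbhd f
  have hcov : TopologicalSpace.IsOpenCover V := by
    rw [TopologicalSpace.IsOpenCover, eq_top_iff]
    intro x _
    exact TopologicalSpace.Opens.mem_iSup.2 ⟨x, hxV x⟩
  have : ∀ i, IsReduced ((X.openCoverOfIsOpenCover V hcov).X i) := hV
  exact IsReduced.of_openCover _ (X.openCoverOfIsOpenCover V hcov)

theorem valuationRing_quotient (p : Ideal R) [p.IsPrime] : ValuationRing (R ⧸ p) := by
  rw [ValuationRing.iff_dvd_total]
  constructor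
  intro a b
  obtain ⟨a, rfl⟩ := Ideal.Quotient.mk_surjective a
  obtain ⟨b, rfl⟩ := Ideal.Quotient.mk_surjective b
  rcases ValuationRing.dvd_total a b with h | h
  · exact Or.inl (map_dvd _ h)
  · exact Or.inr (map_dvd _ h)

end aux

open AlgebraicGeometry CategoryTheory Limits in
/-- For a proper flat morphism to the spectrum of a valuation ring whose special fibre is reduced, the
total space and every fibre are reduced. -/
theorem result {R : Type u} [CommRing R] [IsDomain R] [ValuationRing R] {X : Scheme.{u}}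
    (f : X ⟶ Spec (CommRingCat.of R)) [IsProper f] [Flat f]
    (hred : IsReduced (f.fiber (IsLocalRing.closedPoint R))) :
    IsReduced X ∧ ∀ s : ↑(Spec (CommRingCat.of R)), IsReduced (f.fiber s) := by
  refine ⟨isReduced_total f hred, ?_⟩
  intro s
  have hp : s.asIdeal.IsPrime := s.isPrime
  have hV : ValuationRing (R ⧸ s.asIdeal) := valuationRing_quotient s.asIdeal
  obtain ⟨g, hg⟩ : ∃ g : Spec (CommRingCat.of (R ⧸ s.asIdeal)) ⟶ Spec (CommRingCat.of R),
      g = Spec.map (CommRingCat.ofHom (Ideal.Quotient.mk s.asIdeal)) := ⟨_, rfl⟩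
  have hgcl : IsClosedImmersion g := by
    rw [hg]
    exact IsClosedImmersion.spec_of_surjective _ Ideal.Quotient.mk_surjective
  have hiso : ∀ u, IsIso (g.residueFieldMap u) := fun u =>
    Groth.Agent.Lib.Helper87.BirBC.isIso_residueFieldMap_of_isPreimmersion g u
  -- the closed point maps to the closed point
  have hg₀ : g (IsLocalRing.closedPoint (R ⧸ s.asIdeal)) = IsLocalRing.closedPoint R := by
    rw [hg]
    apply PrimeSpectrum.ext
    have hmax : ((IsLocalRing.closedPoint (R ⧸ s.asIdeal)).asIdeal.comap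
        (Ideal.Quotient.mk s.asIdeal)).IsMaximal :=
      Ideal.comap_isMaximal_of_surjective _ Ideal.Quotient.mk_surjective
        (K := (IsLocalRing.closedPoint (R ⧸ s.asIdeal)).asIdeal)
        (H := IsLocalRing.maximalIdeal.isMaximal _)
    exact IsLocalRing.eq_maximalIdeal hmax
  -- the generic point maps to s
  have hg₁ : g (⟨⊥, Ideal.isPrime_bot⟩ : PrimeSpectrum (R ⧸ s.asIdeal)) = s := by
    rw [hg]
    apply PrimeSpectrum.ext
    show (⊥ : Ideal (R ⧸ s.asIdeal)).comap (Ideal.Quotient.mk s.asIdeal) = s.asIdeal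
    rw [← RingHom.ker_eq_comap_bot, Ideal.mk_ker]
  have hred' : IsReduced ((pullback.snd f g).fiber (IsLocalRing.closedPoint (R ⧸ s.asIdeal))) := by
    obtain ⟨e, -⟩ := Groth.Agent.Lib.Helper57.EtQF.exists_fiberIso f g
      (IsLocalRing.closedPoint (R ⧸ s.asIdeal))
    have h1 : IsReduced (f.fiber (g (IsLocalRing.closedPoint (R ⧸ s.asIdeal)))) := by
      rw [hg₀]; exact hred
    exact isReduced_of_isOpenImmersion e.hom
  have hX' : IsReduced (pullback f g) := isReduced_total (pullback.snd f g) hred'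
  have hgen := Groth.Agent.S0436.isReduced_fiber_generic (pullback.snd f g)
  obtain ⟨e, -⟩ := Groth.Agent.Lib.Helper57.EtQF.exists_fiberIso f g
    (⟨⊥, Ideal.isPrime_bot⟩ : PrimeSpectrum (R ⧸ s.asIdeal))
  have h2 : IsReduced (f.fiber (g (⟨⊥, Ideal.isPrime_bot⟩ : PrimeSpectrum (R ⧸ s.asIdeal)))) :=
    isReduced_of_isOpenImmersion e.inv
  rw [hg₁] at h2
  exact h2

end Groth.Agent.S0438
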