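import Groth.Statements.S0443
import Mathlib.RingTheory.Unramified.LocalRing
import Mathlib.AlgebraicGeometry.Morphisms.Finite
-- import your own Groth.Agent.* helpers here

set_option autoImplicit false
universe u
open FlatMor

namespace Groth.Agent.S0443


theorem ring_case {R S : Type u} [CommRing R] [CommRing S] (φ : R →+* S) (hφ : φ.Finite)
    (q : Ideal S) [q.IsPrime]
    (hq : ∀ q' : Ideal S, q'.IsPrime → q'.comap φ = q.comap φ → q' = q) :
    (Localization.localRingHom (q.comap φ) q φ rfl).Finite := by
  algebraize [φ]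
  have hlo : q.LiesOver (q.comap φ) := ⟨rfl⟩
  have hq' : (q.comap φ).primesOver S = {q} := by
    ext q'
    simp only [Ideal.primesOver, Set.mem_ofPred_eq, Set.mem_singleton_iff]
    constructor
    · rintro ⟨h1, h2⟩
      exact hq q' h1 h2.over.symm
    · rintro rfl
      exact ⟨inferInstance, hlo⟩
  let _ := Localization.AtPrime.algebraOfLiesOver (q.comap φ) q
  exact Localization.finite_of_primesOver_eq_singleton hq'

open AlgebraicGeometry CategoryTheory Limits in
theorem spec_case {R S : CommRingCat.{u}} (φ : R ⟶ S) [IsFinite (Spec.map φ)] (p : Spec S)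
    (hp : ∀ p' : Spec S, (Spec.map φ) p' = (Spec.map φ) p → p' = p) :
    ((Spec.map φ).stalkMap p).hom.Finite := by
  rw [RingHom.finite_respectsIso.arrow_mk_iso_iff (Scheme.arrowStalkMapSpecIso φ p)]
  have hφ : φ.hom.Finite := (IsFinite.SpecMap_iff φ).mp inferInstance
  refine ring_case φ.hom hφ p.asIdeal ?_
  intro q' hq' h
  have := hp ⟨q', hq'⟩ (PrimeSpectrum.ext h)
  exact congrArg PrimeSpectrum.asIdeal this

set_option backward.isDefEq.respectTransparency false in
open AlgebraicGeometry CategoryTheory Limits in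
theorem affine_case {X Y : Scheme.{u}} (π : X ⟶ Y) [IsFinite π] [IsAffine Y] (x : X)
    (hx : ∀ x' : ↑X, π x' = π x → x' = x) : (π.stalkMap x).hom.Finite := by
  have : IsAffine X := isAffine_of_isAffineHom π
  obtain ⟨φ, hφ⟩ := Spec.map_surjective (X.isoSpec.inv ≫ π ≫ Y.isoSpec.hom)
  have hfin : IsFinite (Spec.map φ) := by rw [hφ]; infer_instance
  have key : ((X.isoSpec.inv ≫ π ≫ Y.isoSpec.hom).stalkMap (X.isoSpec.hom x)).hom.Finite := by
    rw [← hφ]
    refine spec_case φ (X.isoSpec.hom x) ?_
    intro p' hp'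
    rw [hφ] at hp'
    have h1 : π (X.isoSpec.inv p') = π x := by
      have := congrArg Y.isoSpec.inv hp'
      simpa using this
    have h2 := hx _ h1
    rw [← h2]
    simp
  rw [Scheme.Hom.stalkMap_comp, Scheme.Hom.stalkMap_comp, CommRingCat.hom_comp,
    RingHom.finite_respectsIso.cancel_right_isIso, CommRingCat.hom_comp,
    RingHom.finite_respectsIso.cancel_left_isIso] at key
  have heq : (X.isoSpec.inv (X.isoSpec.hom x)) = x := by simp
  rwa [RingHom.finite_respectsIso.arrow_mk_iso_iff (π.arrowStalkMapIsoOfEq heq)] at key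

open AlgebraicGeometry CategoryTheory Limits in
/-- For a finite morphism π : X → Y and a point x of X that is the only point of its fibre, the induced
homomorphism of local rings O_{Y,π(x)} → O_{X,x} is finite. (The published lemma has further parts,
not stated here.) -/
theorem result {X Y : Scheme.{u}} (π : X ⟶ Y) [IsFinite π] (x : X) (hx : ∀ x' : ↑X, π x' = π x → x' = x) :
    (π.stalkMap x).hom.Finite := by
  obtain ⟨U, hU, hfx, -⟩ := TopologicalSpace.Opens.isBasis_iff_nbhd.mp Y.isBasis_affineOpens
    (TopologicalSpace.Opens.mem_top <| π x)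
  have : IsAffine U := hU
  let x' : ↥(π ⁻¹ᵁ U) := ⟨x, hfx⟩
  rw [← RingHom.finite_respectsIso.arrow_mk_iso_iff (morphismRestrictStalkMap π U x')]
  refine affine_case (π ∣_ U) x' ?_
  intro z hz
  have h1 : π z.1 = π x := by
    have := congrArg Subtype.val hz
    rwa [morphismRestrict_base_coe, morphismRestrict_base_coe] at this
  exact Subtype.ext (hx _ h1)

end Groth.Agent.S0443
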