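import Groth.Statements.S0445
import Mathlib.AlgebraicGeometry.Morphisms.FormallyUnramified
import Mathlib.AlgebraicGeometry.ResidueField
-- import your own Groth.Agent.* helpers here

set_option autoImplicit false
universe u
open FlatMor

namespace Groth.Agent.S0445

open AlgebraicGeometry CategoryTheory Limits in
/-- Two morphisms over S into an S-scheme unramified over S which agree at a point and induce the same
map on residue fields there agree on an open neighbourhood of that point. -/
theorem result {X Y S : Scheme.{u}} (p : Y ⟶ S) [FormallyUnramified p] [LocallyOfFiniteType p] (f g : X ⟶ Y) (hfg : f ≫ p = g ≫ p)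
    (x : X) (h1 : f x = g x) (h2 : f.residueFieldMap x = (Y.residueFieldCongr h1).hom ≫ g.residueFieldMap x) :
    ∃ U : X.Opens, x ∈ U ∧ U.ι ≫ f = U.ι ≫ g := by
  have hΔ : IsOpenImmersion (pullback.diagonal p) := inferInstance
  set Δ := pullback.diagonal p with hΔdef
  set h : X ⟶ pullback p p := pullback.lift f g hfg with hh
  refine ⟨h ⁻¹ᵁ Δ.opensRange, ?_, ?_⟩
  · show h x ∈ Set.range Δ
    have e : X.fromSpecResidueField x ≫ f = X.fromSpecResidueField x ≫ g := by
      rw [← Scheme.Hom.SpecMap_residueFieldMap_fromSpecResidueField,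
        ← Scheme.Hom.SpecMap_residueFieldMap_fromSpecResidueField, h2, Spec.map_comp,
        Category.assoc, Scheme.residueFieldCongr_fromSpecResidueField]
    have e2 : X.fromSpecResidueField x ≫ h = (X.fromSpecResidueField x ≫ f) ≫ Δ := by
      apply pullback.hom_ext
      · rw [Category.assoc, Category.assoc, hh, pullback.lift_fst, hΔdef, pullback.diagonal_fst,
          Category.comp_id]
      · rw [Category.assoc, Category.assoc, hh, pullback.lift_snd, hΔdef, pullback.diagonal_snd,
          Category.comp_id, e]
    obtain ⟨pt⟩ : Nonempty (Spec (X.residueField x)) := inferInstance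
    refine ⟨(X.fromSpecResidueField x ≫ f) pt, ?_⟩
    rw [← Scheme.Hom.comp_apply, ← e2, Scheme.Hom.comp_apply, Scheme.fromSpecResidueField_apply]
  · set U : X.Opens := h ⁻¹ᵁ Δ.opensRange with hU
    have hr : Set.range (U.ι ≫ h) ⊆ Set.range Δ := by
      rintro _ ⟨z, rfl⟩
      rw [Scheme.Hom.comp_apply]
      exact z.2
    have hk : IsOpenImmersion.lift Δ (U.ι ≫ h) hr ≫ Δ = U.ι ≫ h := IsOpenImmersion.lift_fac _ _ _
    have e1 : U.ι ≫ f = (U.ι ≫ h) ≫ pullback.fst p p := by
      rw [Category.assoc, hh, pullback.lift_fst]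
    have e2 : U.ι ≫ g = (U.ι ≫ h) ≫ pullback.snd p p := by
      rw [Category.assoc, hh, pullback.lift_snd]
    have e3 : Δ ≫ pullback.fst p p = Δ ≫ pullback.snd p p := by
      rw [hΔdef, pullback.diagonal_fst, pullback.diagonal_snd]
    rw [e1, e2, ← hk, Category.assoc, Category.assoc, e3]

end Groth.Agent.S0445
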