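import Groth.Statements.S0448
import Mathlib.LinearAlgebra.TensorProduct.Vanishing
import Mathlib.LinearAlgebra.TensorProduct.Basis
import Mathlib.RingTheory.LocalRing.Module
-- import your own Groth.Agent.* helpers here

set_option autoImplicit false
universe u
open FlatMor

namespace Groth.Agent.S0448


open TensorProduct in
theorem flat_prod {R N P : Type u} [CommRing R] [AddCommGroup N] [Module R N] [AddCommGroup P]
    [Module R P] [Module.Flat R N] [Module.Flat R P] : Module.Flat R (N × P) := by
  rw [Module.Flat.iff_rTensor_preserves_injective_linearMap]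
  intro A A' _ _ _ _ f hf
  rw [injective_iff_map_eq_zero]
  intro z hz
  have h1 : LinearMap.lTensor A (LinearMap.fst R N P) z = 0 := by
    have := Module.Flat.rTensor_preserves_injective_linearMap (M := N) f hf
    apply this
    rw [map_zero, ← LinearMap.comp_apply, LinearMap.rTensor_comp_lTensor,
      ← LinearMap.lTensor_comp_rTensor, LinearMap.comp_apply, hz, map_zero]
  have h2 : LinearMap.lTensor A (LinearMap.snd R N P) z = 0 := by
    have := Module.Flat.rTensor_preserves_injective_linearMap (M := P) f hf
    apply this
    rw [map_zero, ← LinearMap.comp_apply, LinearMap.rTensor_comp_lTensor,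
      ← LinearMap.lTensor_comp_rTensor, LinearMap.comp_apply, hz, map_zero]
  have h3 : LinearMap.inl R N P ∘ₗ LinearMap.fst R N P + LinearMap.inr R N P ∘ₗ LinearMap.snd R N P
      = LinearMap.id := by
    ext x <;> simp
  have h4 : z = LinearMap.lTensor A (LinearMap.inl R N P ∘ₗ LinearMap.fst R N P +
      LinearMap.inr R N P ∘ₗ LinearMap.snd R N P) z := by
    rw [h3, LinearMap.lTensor_id, LinearMap.id_apply]
  rw [h4, LinearMap.lTensor_add, LinearMap.add_apply, LinearMap.lTensor_comp,
    LinearMap.lTensor_comp, LinearMap.comp_apply, LinearMap.comp_apply, h1, h2, map_zero, map_zero,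
    add_zero]

open TensorProduct in
theorem free_case {R M N : Type u} [CommRing R] [IsLocalRing R] [AddCommGroup M] [Module R M]
    {ι : Type u} (b : Module.Basis ι R M)
    [AddCommGroup N] [Module R N] [Module.Flat R N] (u : M →ₗ[R] N)
    (h : Function.Injective (LinearMap.lTensor (IsLocalRing.ResidueField R) u))
    (Q : Type u) [AddCommGroup Q] [Module R Q] : Function.Injective (LinearMap.rTensor Q u) := by
  classical
  rw [injective_iff_map_eq_zero]
  intro x hx
  obtain ⟨c, rfl⟩ := TensorProduct.eq_repr_basis_left b x
  suffices hc : c = 0 by simp [hc]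
  set s := c.support with hs
  have hsum : ∑ i : s, (c i) ⊗ₜ[R] (u (b i)) = (0 : Q ⊗[R] N) := by
    have := congrArg (TensorProduct.comm R N Q) hx
    simp only [Finsupp.sum, map_sum, LinearMap.rTensor_tmul, TensorProduct.comm_tmul,
      map_zero] at this
    rw [← this, Finset.sum_coe_sort s (fun i => c i ⊗ₜ[R] u (b i))]
  obtain ⟨k, a, y, hay', ham'⟩ :=
    TensorProduct.vanishesTrivially_of_sum_tmul_eq_zero_of_rTensor_injective R
      (Module.Flat.rTensor_preserves_injective_linearMap _ (Submodule.injective_subtype _)) hsum
  have hay : ∀ i : s, u (b i) = ∑ j, a i j • y j := hay'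
  have ham : ∀ j, ∑ i : s, a i j • c i = 0 := ham'
  let A : (s → R) →ₗ[R] (Fin k → R) := Fintype.linearCombination R a
  let B : (s → R) →ₗ[R] M := Fintype.linearCombination R (fun i : s => b i)
  let Y : (Fin k → R) →ₗ[R] N := Fintype.linearCombination R y
  let B' : M →ₗ[R] (s → R) := LinearMap.pi (fun i : s => b.coord i)
  have hB : B' ∘ₗ B = LinearMap.id := by
    refine LinearMap.pi_ext' fun i => ?_
    ext j
    have e1 : B (Pi.single i 1) = b i := by
      simp only [B, Fintype.linearCombination_apply_single, one_smul]
    simp only [LinearMap.coe_comp, Function.comp_apply, LinearMap.coe_single, LinearMap.id_coe,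
      id_eq, e1, B', LinearMap.pi_apply, Module.Basis.coord_apply, Module.Basis.repr_self,
      Finsupp.single_apply, Pi.single_apply]
    simp only [Subtype.ext_iff, eq_comm]
  have hcomm : u ∘ₗ B = Y ∘ₗ A := by
    refine LinearMap.pi_ext' fun i => ?_
    ext
    have e1 : B (Pi.single i 1) = b i := by
      simp only [B, Fintype.linearCombination_apply_single, one_smul]
    have e2 : A (Pi.single i 1) = a i := by
      simp only [A, Fintype.linearCombination_apply_single, one_smul]
    simp only [LinearMap.coe_comp, Function.comp_apply, LinearMap.coe_single, e1, e2, hay i, Y,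
      Fintype.linearCombination_apply]
  have hAinj : Function.Injective (LinearMap.lTensor (IsLocalRing.ResidueField R) A) := by
    have h1 : Function.Injective (LinearMap.lTensor (IsLocalRing.ResidueField R) B) := by
      have : LinearMap.lTensor (IsLocalRing.ResidueField R) B' ∘ₗ
          LinearMap.lTensor (IsLocalRing.ResidueField R) B = LinearMap.id := by
        rw [← LinearMap.lTensor_comp, hB, LinearMap.lTensor_id]
      exact Function.HasLeftInverse.injective ⟨_, LinearMap.congr_fun this⟩
    have h2 : Function.Injective (LinearMap.lTensor (IsLocalRing.ResidueField R) (u ∘ₗ B)) := by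
      rw [LinearMap.lTensor_comp]
      exact h.comp h1
    rw [hcomm, LinearMap.lTensor_comp] at h2
    exact Function.Injective.of_comp h2
  obtain ⟨C, hC⟩ :=
    (IsLocalRing.split_injective_iff_lTensor_residueField_injective A).mpr hAinj
  have key : ∀ i i' : s, ∑ j, a i j * (C (fun j' => if j = j' then 1 else 0)) i' =
      if i = i' then 1 else 0 := by
    intro i i'
    have h1 : C (A (Pi.single i 1)) = Pi.single i 1 := LinearMap.congr_fun hC _
    have h2 : A (Pi.single i 1) = a i := by
      simp [A, Fintype.linearCombination_apply_single]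
    rw [h2, LinearMap.pi_apply_eq_sum_univ C (a i)] at h1
    have h3 := congrFun h1 i'
    simp only [Finset.sum_apply, Pi.smul_apply, smul_eq_mul] at h3
    rw [h3, Pi.single_apply]
    simp [eq_comm]
  have hzero : ∀ i' : s, c i' = 0 := by
    intro i'
    calc c i' = ∑ i : s, (if i = i' then (1 : R) else 0) • c i := by
          simp [Finset.sum_ite_eq']
      _ = ∑ i : s, (∑ j, a i j * (C (fun j' => if j = j' then 1 else 0)) i') • c i := by
          simp_rw [key]
      _ = ∑ j, (C (fun j' => if j = j' then 1 else 0)) i' • ∑ i : s, a i j • c i := by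
          simp_rw [Finset.sum_smul, Finset.smul_sum]
          rw [Finset.sum_comm]
          refine Finset.sum_congr rfl fun j _ => Finset.sum_congr rfl fun i _ => ?_
          rw [smul_smul, mul_comm]
      _ = 0 := by
          refine Finset.sum_eq_zero fun j _ => ?_
          rw [ham j, smul_zero]
  ext i
  by_cases hi : i ∈ s
  · exact hzero ⟨i, hi⟩
  · simpa [hs] using hi

open TensorProduct in
/-- Over a local ring, a linear map from a projective module to a flat module which is injective modulo
the maximal ideal is universally injective (injective after tensoring with any module). -/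
theorem result {R M N : Type u} [CommRing R] [IsLocalRing R] [AddCommGroup M] [Module R M] [Module.Projective R M]
    [AddCommGroup N] [Module R N] [Module.Flat R N] (u : M →ₗ[R] N)
    (h : Function.Injective (LinearMap.lTensor (IsLocalRing.ResidueField R) u)) :
    ∀ (Q : Type u) [AddCommGroup Q] [Module R Q], Function.Injective (LinearMap.rTensor Q u) := by
  intro Q _ _
  obtain ⟨σ, hσ⟩ := (Module.projective_def' (R := R) (P := M)).mp inferInstance
  set π : (M →₀ R) →ₗ[R] M := Finsupp.linearCombination R id with hπ
  let u' : (M →₀ R) →ₗ[R] (N × (M →₀ R)) :=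
    LinearMap.inl R N (M →₀ R) ∘ₗ u ∘ₗ π + LinearMap.inr R N (M →₀ R) ∘ₗ (LinearMap.id - σ ∘ₗ π)
  have hfst : LinearMap.fst R N (M →₀ R) ∘ₗ u' = u ∘ₗ π := by
    ext; simp [u']
  have hsnd : LinearMap.snd R N (M →₀ R) ∘ₗ u' = LinearMap.id - σ ∘ₗ π := by
    ext; simp [u']
  have hu'σ : u' ∘ₗ σ = LinearMap.inl R N (M →₀ R) ∘ₗ u := by
    have h1 : ∀ m, π (σ m) = m := fun m => LinearMap.congr_fun hσ m
    ext m <;> simp [u', h1]
  have hinj' : Function.Injective (LinearMap.lTensor (IsLocalRing.ResidueField R) u') := by
    rw [injective_iff_map_eq_zero]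
    intro z hz
    have h1 : LinearMap.lTensor (IsLocalRing.ResidueField R) (u ∘ₗ π) z = 0 := by
      rw [← hfst, LinearMap.lTensor_comp, LinearMap.comp_apply, hz, map_zero]
    have h2 : LinearMap.lTensor (IsLocalRing.ResidueField R) π z = 0 := by
      rw [LinearMap.lTensor_comp, LinearMap.comp_apply] at h1
      exact (injective_iff_map_eq_zero _).mp h _ h1
    have h3 : LinearMap.lTensor (IsLocalRing.ResidueField R) (LinearMap.id - σ ∘ₗ π) z = 0 := by
      rw [← hsnd, LinearMap.lTensor_comp, LinearMap.comp_apply, hz, map_zero]
    rw [LinearMap.lTensor_sub, LinearMap.sub_apply, LinearMap.lTensor_id, LinearMap.id_apply,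
      LinearMap.lTensor_comp, LinearMap.comp_apply, h2, map_zero, sub_zero] at h3
    exact h3
  have : Module.Flat R (N × (M →₀ R)) := flat_prod
  have hfree := free_case (Finsupp.basisSingleOne (R := R) (ι := M)) u' hinj' Q
  rw [injective_iff_map_eq_zero]
  intro x hx
  have h1 : LinearMap.rTensor Q u' (LinearMap.rTensor Q σ x) = 0 := by
    rw [← LinearMap.comp_apply, ← LinearMap.rTensor_comp, hu'σ, LinearMap.rTensor_comp,
      LinearMap.comp_apply, hx, map_zero]
  have h2 : LinearMap.rTensor Q σ x = 0 := (injective_iff_map_eq_zero _).mp hfree _ h1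
  have h3 : LinearMap.rTensor Q π (LinearMap.rTensor Q σ x) = x := by
    rw [← LinearMap.comp_apply, ← LinearMap.rTensor_comp, hσ, LinearMap.rTensor_id,
      LinearMap.id_apply]
  rw [← h3, h2, map_zero]

end Groth.Agent.S0448
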