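import Groth.Statements.S0465
import Groth.Agent.Lib.Helper28.CechTop

set_option autoImplicit false
universe u
open CategoryTheory
open CohTop

namespace Groth.Agent.S0465

open Groth.Agent.Lib.Helper28 Opposite CategoryTheory.Limits Simplicial TopologicalSpace

open TopologicalSpace in

/-- If for every family of opens of X the Cech cohomology of F in positive degrees vanishes, then
H^(p+1)(U, F) = 0 for every open U. -/
theorem result {X : TopCat.{u}} (F : CohTop.Ab X)
    (h : ∀ (ι : Type u) (U : ι → Opens X) (p : ℕ), CategoryTheory.Limits.IsZero (CohTop.cechH F.obj U (p + 1)))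
    (U : Opens X) (p : ℕ) : Subsingleton (CohTop.HU F (p + 1) U) := by
  let Pr : CohTop.Ab X → Prop := fun F =>
    ∀ (ι : Type u) (U : ι → Opens X) (p : ℕ), IsZero (CohTop.cechH F.obj U (p + 1))
  have hinj : ∀ I : CohTop.Ab X, Injective I → Pr I := by
    intro I hI ι W p
    exact CechTop.isZero_cechH_of_injective I W p
  have hstep : ∀ S : ShortComplex (CohTop.Ab X), S.ShortExact → Pr S.X₁ → Pr S.X₂ →
      (Pr S.X₃ ∧ ∀ U ∈ (Set.univ : Set (Opens X)), Function.Surjective (S.g.hom.app (op U))) := by
    intro S hS hP₁ hP₂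
    have hsurj : ∀ U : Opens X, Function.Surjective (S.g.hom.app (op U)) := by
      intro U s
      have := hS.epi_g
      have hls : Sheaf.IsLocallySurjective S.g :=
        (Sheaf.isLocallySurjective_iff_epi' _ S.g).2 inferInstance
      have hcov := Presheaf.imageSieve_mem (Opens.grothendieckTopology X) S.g.hom s
      let ι : Type u := {V : Opens X // ∃ f : V ⟶ U, (Presheaf.imageSieve S.g.hom s).arrows f}
      let V : ι → Opens X := fun i => i.1
      have hV : iSup V = U := by
        apply le_antisymm
        · exact iSup_le fun i => leOfHom i.2.choose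
        · intro x hx
          obtain ⟨V', f, hf, hxV⟩ := hcov x hx
          exact Opens.mem_iSup.2 ⟨⟨V', f, hf⟩, hxV⟩
      refine CechTop.exists_section hS V hV (hP₁ ι V 0) s fun k => ?_
      obtain ⟨f, y, hy⟩ := k.2
      exact ⟨f, y, hy⟩
    refine ⟨?_, fun U _ => hsurj U⟩
    intro ι W p
    exact CechTop.isZero_cechH_X₃ hS W (fun n a => hsurj _) (hP₁ ι W) (hP₂ ι W) p
  exact subsingleton_of_forall_eq 0 fun x =>
    Cartan.cartan (Opens.grothendieckTopology X) Set.univ Pr hinj hstep p F h U (Set.mem_univ U) x

end Groth.Agent.S0465
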