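import Groth.Statements.S0466
import Groth.Agent.Lib.Helper28.CechTop

set_option autoImplicit false
universe u
open CategoryTheory
open CohTop

namespace Groth.Agent.S0466

open Groth.Agent.Lib.Helper28 Opposite CategoryTheory.Limits Simplicial TopologicalSpace

open TopologicalSpace Opposite in

/-- Consider a short exact sequence of abelian sheaves with kernel F, middle term G and quotient H, and
an open U. If every open covering of U admits a refinement on which the first Cech cohomology of F
vanishes, then sections of G over U map onto sections of H over U. -/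
theorem result {X : TopCat.{u}}
    (S : CategoryTheory.ShortComplex (CohTop.Ab X)) (hS : S.ShortExact) (U : Opens X)
    (h : ∀ (ι : Type u) (V : ι → Opens X), iSup V = U →
      ∃ (κ : Type u) (W : κ → Opens X) (r : κ → ι), iSup W = U ∧ (∀ k, W k ≤ V (r k)) ∧
        CategoryTheory.Limits.IsZero (CohTop.cechH S.X₁.obj W 1)) :
    Function.Surjective (S.g.hom.app (op U)) := by
  intro s
  have := hS.epi_g
  have hls : Sheaf.IsLocallySurjective S.g := (Sheaf.isLocallySurjective_iff_epi' _ S.g).2 inferInstance
  have hcov := Presheaf.imageSieve_mem (Opens.grothendieckTopology X) S.g.hom s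
  -- the family of all opens in the image sieve
  let ι : Type u := {V : Opens X // ∃ f : V ⟶ U, (Presheaf.imageSieve S.g.hom s).arrows f}
  let V : ι → Opens X := fun i => i.1
  have hV : iSup V = U := by
    apply le_antisymm
    · exact iSup_le fun i => leOfHom i.2.choose
    · intro x hx
      obtain ⟨V', f, hf, hxV⟩ := hcov x hx
      exact Opens.mem_iSup.2 ⟨⟨V', f, hf⟩, hxV⟩
  obtain ⟨κ, W, r, hW, hWV, hW1⟩ := h ι V hV
  refine CechTop.exists_section hS W hW hW1 s fun k => ?_
  obtain ⟨f, hf⟩ := (r k).2
  obtain ⟨y, hy⟩ := (Presheaf.imageSieve S.g.hom s).downward_closed hf (homOfLE (hWV k))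
  exact ⟨_, y, hy⟩

end Groth.Agent.S0466
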