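import Groth.Statements.S0469
import Groth.Agent.Lib.Helper68.SpecVanish

set_option autoImplicit false
universe u
open CategoryTheory
open CohTop

namespace Groth.Agent.S0469

/-- If X is a spectral space of Krull dimension at most d, then H^p(X, F) = 0 for every abelian sheaf F
and every p > d. -/
theorem result {X : TopCat.{u}} [SpectralSpace X] (d : ℕ) (hd : topologicalKrullDim X ≤ d)
    (F : CohTop.Ab X) (p : ℕ) (hp : d < p) : Subsingleton (CohTop.H F p) := by
  obtain ⟨n, rfl⟩ : ∃ n, p = d + n + 1 := ⟨p - d - 1, by omega⟩
  exact (Groth.Agent.Lib.Helper68.SpecVanish.main d X hd F).2 n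

end Groth.Agent.S0469
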