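import Groth.Statements.S0477
import Groth.Agent.Lib.Helper89.SigmaExact

set_option autoImplicit false
universe v u
open CategoryTheory
open CohDer

namespace Groth.Agent.S0477



open CategoryTheory.Limits in
/-- For a Grothendieck abelian category A, the derived category D(A) has all direct sums (coproducts
indexed by small types). (The published statement also describes these direct sums as computed
termwise on representing complexes; only their existence is asserted here.) -/
theorem result {A : Type u} [Category.{v} A] [Abelian A] [IsGrothendieckAbelian.{v} A]
    [HasDerivedCategory.{v} A] : HasCoproducts.{v} (DerivedCategory A) := by
  intro J
  haveI : HasCoproductsOfShape J A := inferInstance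
  exact Helper89.SigmaExact.hasCoproductsOfShape_derivedCategory

end Groth.Agent.S0477
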