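import Groth.Statements.S0480
import Mathlib

set_option autoImplicit false
universe v u
open CategoryTheory
open CohDer

namespace Groth.Agent.S0480

open CategoryTheory.Limits in
/-- In an abelian category, if the product of a family of K-injective cochain complexes exists (it is
then the termwise product), it is again K-injective. -/
theorem result {A : Type u} [Category.{v} A] [Abelian A] {T : Type v} (I : T → CochainComplex A ℤ)
    [HasProduct I] (h : ∀ t, (I t).IsKInjective) : (∏ᶜ I).IsKInjective := by
  open CochainComplex HomComplex in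
  refine ⟨fun {K} f hK => ?_⟩
  have hz : ∀ t, ∃ z : Cochain K (I t) (-1),
      δ (-1) 0 z = Cochain.ofHom (𝟙 K ≫ (f ≫ Pi.π I t)) := by
    intro t
    have := h t
    obtain ⟨ho⟩ := IsKInjective.nonempty_homotopy_zero (f ≫ Pi.π I t) hK
    obtain ⟨z, hz⟩ := Cochain.equivHomotopy _ _ ho
    refine ⟨z, ?_⟩
    rw [Category.id_comp, hz]
    simp
  choose z hz using hz
  let g : mappingCone (𝟙 K) ⟶ ∏ᶜ I :=
    Pi.lift fun t => mappingCone.desc (𝟙 K) (z t) (f ≫ Pi.π I t) (hz t)
  have hg : mappingCone.inr (𝟙 K) ≫ g = f := by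
    apply Pi.hom_ext
    intro t
    simp [g]
  refine ⟨(Cochain.equivHomotopy f 0).symm
    ⟨(mappingCone.inl (𝟙 K)).comp (Cochain.ofHom g) (add_zero _), ?_⟩⟩
  rw [δ_comp_ofHom, mappingCone.δ_inl, Category.id_comp, ← Cochain.ofHom_comp, hg]
  simp

end Groth.Agent.S0480
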