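import Groth.Statements.S0481
import Mathlib.CategoryTheory.Adjunction.Additive
import Mathlib.Algebra.Homology.ShortComplex.PreservesHomology
import Mathlib.Algebra.Homology.ShortComplex.ExactFunctor

set_option autoImplicit false
universe v u
open CategoryTheory
open CohDer

namespace Groth.Agent.S0481

open CategoryTheory.Limits in
/-- Let u : A ⥤ B be right adjoint to an exact additive functor w : B ⥤ A between abelian categories.
Then u applied termwise sends K-injective complexes to K-injective complexes. -/
theorem result {A : Type u} [Category.{v} A] [Abelian A]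
    {B : Type u} [Category.{v} B] [Abelian B] (u : A ⥤ B) (w : B ⥤ A) (adj : w ⊣ u)
    [u.Additive] [w.Additive] [PreservesFiniteLimits w] [PreservesFiniteColimits w]
    (I : CochainComplex A ℤ) (h : I.IsKInjective) :
    CochainComplex.IsKInjective ((u.mapHomologicalComplex (ComplexShape.up ℤ)).obj I) := by
  refine ⟨fun {K} f hK => ?_⟩
  let ff : ∀ n : ℤ, K.X n ⟶ u.obj (I.X n) := fun n => f.f n
  have ffcomm : ∀ i j : ℤ, ff i ≫ u.map (I.d i j) = K.d i j ≫ ff j := fun i j => f.comm i j
  let g : (w.mapHomologicalComplex (ComplexShape.up ℤ)).obj K ⟶ I :=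
    { f := fun n => (adj.homEquiv _ _).symm (ff n)
      comm' := by
        intro i j _
        have e1 := adj.homEquiv_naturality_left_symm (K.d i j) (ff j)
        have e2 := adj.homEquiv_naturality_right_symm (ff i) (I.d i j)
        exact e2.symm.trans ((congrArg (adj.homEquiv _ _).symm (ffcomm i j)).trans e1) }
  have hwK : ((w.mapHomologicalComplex (ComplexShape.up ℤ)).obj K).Acyclic := by
    intro n
    exact (hK n).map w
  obtain ⟨H⟩ := h.nonempty_homotopy_zero g hwK
  have hadd : ∀ {X : B} {Y : A} (a b : w.obj X ⟶ Y),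
      adj.homEquiv X Y (a + b) = adj.homEquiv X Y a + adj.homEquiv X Y b := by
    intro X Y a b
    simp only [Adjunction.homEquiv_unit, Functor.map_add, Preadditive.comp_add]
  have hzero : ∀ {X : B} {Y : A}, adj.homEquiv X Y (0 : w.obj X ⟶ Y) = 0 := by
    intro X Y
    simp only [Adjunction.homEquiv_unit, Functor.map_zero, Limits.comp_zero]
  let Hh : ∀ i j : ℤ, (w.obj (K.X i) ⟶ I.X j) := fun i j => H.hom i j
  have hcomm : ∀ i : ℤ, (adj.homEquiv (K.X i) (I.X i)).symm (ff i) =
      w.map (K.d i (i + 1)) ≫ Hh (i + 1) i + Hh i (i - 1) ≫ I.d (i - 1) i := by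
    intro i
    have hc := H.comm i
    have h1 : (ComplexShape.up ℤ).Rel i (i + 1) := rfl
    have h2 : (ComplexShape.up ℤ).Rel (i - 1) i := by simp
    rw [dNext_eq _ h1, prevD_eq _ h2, HomologicalComplex.zero_f, add_zero] at hc
    exact hc
  refine ⟨{ hom := fun i j => adj.homEquiv _ _ (Hh i j), zero := ?_, comm := ?_ }⟩
  · intro i j hij
    have : Hh i j = 0 := H.zero i j hij
    have h0 : adj.homEquiv _ _ (Hh i j) = 0 := by rw [this, hzero]
    exact h0
  · intro i
    have h1 : (ComplexShape.up ℤ).Rel i (i + 1) := rfl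
    have h2 : (ComplexShape.up ℤ).Rel (i - 1) i := by simp
    rw [dNext_eq _ h1, prevD_eq _ h2, HomologicalComplex.zero_f, add_zero]
    have key : ff i = K.d i (i + 1) ≫ adj.homEquiv _ _ (Hh (i + 1) i) +
        adj.homEquiv _ _ (Hh i (i - 1)) ≫ u.map (I.d (i - 1) i) := by
      have hg : ff i = adj.homEquiv _ _ ((adj.homEquiv (K.X i) (I.X i)).symm (ff i)) :=
        (Equiv.apply_symm_apply _ _).symm
      rw [hg, hcomm, hadd, Adjunction.homEquiv_naturality_left,
        Adjunction.homEquiv_naturality_right]
    exact key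

end Groth.Agent.S0481
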