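import Groth.Statements.S0483
import Groth.Agent.Lib.Helper53.SiteSec

set_option autoImplicit false
universe u
open CategoryTheory
open CohSite

namespace Groth.Agent.S0483

/-- For an abelian sheaf F on a small site, an object U and a class ξ in H^(n+1)(U, F), there is a
covering sieve of U such that ξ pulls back to zero along every arrow of the sieve. -/
theorem result {C : Type u} [SmallCategory C] (J : GrothendieckTopology C)
    (F : Sheaf J AddCommGrpCat.{u}) (U : C) (n : ℕ) (ξ : CohSite.HU F (n + 1) U) :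
    ∃ (S : J.Cover U), ∀ (a : S.Arrow), CohSite.res F (n + 1) a.f ξ = 0 := by
  open Groth.Agent.Lib.Helper53.SiteCoh Abelian in
  let R := injectiveResolution F
  obtain ⟨z, hz, rfl⟩ := R.extMk_surjective (X := freeSh J U) ξ (n + 1 + 1) rfl
  let S₀ : ShortComplex (Sheaf J AddCommGrpCat.{u}) :=
    ShortComplex.mk _ _ (R.cocomplex.d_comp_d n (n + 1) (n + 2))
  have hS₀ : S₀.Exact := R.exact_succ n
  haveI : Epi S₀.toCycles := hS₀.epi_toCycles
  obtain ⟨S, hS⟩ := exists_cover_lift_of_epi J S₀.toCycles U (S₀.liftCycles z hz)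
  refine ⟨S, fun a => ?_⟩
  obtain ⟨h, hh⟩ := hS a
  have h1 : CohSite.res F (n + 1) a.f (R.extMk z (n + 1 + 1) rfl hz) =
      R.extMk (freeShMap J a.f ≫ z) (n + 1 + 1) rfl (by rw [Category.assoc, hz, CategoryTheory.Limits.comp_zero]) :=
    R.mk₀_comp_extMk z (n + 1 + 1) rfl hz (freeShMap J a.f)
  rw [h1]
  refine (R.extMk_eq_zero_iff _ _ rfl _ n rfl).2 ⟨h, ?_⟩
  have h2 := congrArg (· ≫ S₀.iCycles) hh
  simp only [Category.assoc, ShortComplex.toCycles_i, ShortComplex.liftCycles_i] at h2
  exact h2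

end Groth.Agent.S0483
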