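import Groth.Statements.S0489
import Mathlib.Algebra.Homology.HomotopyCategory.KInjective
import Mathlib.Algebra.Homology.HomotopyCategory.HomComplexShift
import Mathlib.Algebra.Homology.HomologicalComplexLimits
import Mathlib.CategoryTheory.Functor.OfSequence

set_option autoImplicit false
universe v u
open CategoryTheory
open CohDer

namespace Groth.Agent.S0489

section Helpers
open CategoryTheory.Limits Opposite CochainComplex HomComplex

variable {A : Type u} [Category.{v} A] [Abelian A]

/-- abstract dependent recursion -/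
lemma exists_compatible_seq {S : ℕ → Type*} (R : ∀ n, S n → S (n + 1) → Prop)
    (h0 : Nonempty (S 0)) (hstep : ∀ n (x : S n), ∃ y, R n x y) :
    ∃ a : ∀ n, S n, ∀ n, R n (a n) (a (n + 1)) := by
  classical
  choose next hnext using hstep
  exact ⟨fun n => Nat.rec h0.some (fun n x => next n x) n, fun n => hnext n _⟩

/-- The Hom complex from an acyclic complex to a K-injective complex is acyclic in degree `-1`. -/
lemma exists_cochain_of_cocycle_neg_one {K M : CochainComplex A ℤ} (hK : K.Acyclic)
    [M.IsKInjective] (γ : Cochain K M (-1)) (hγ : δ (-1) 0 γ = 0) :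
    ∃ u : Cochain K M (-2), δ (-2) (-1) u = γ := by
  let γ' : Cocycle K M (-1) := Cocycle.mk γ 0 (by simp) hγ
  let g : K ⟶ M⟦(-1 : ℤ)⟧ := Cocycle.equivHomShift.symm γ'
  have hg : Cocycle.equivHomShift g = γ' := AddEquiv.apply_symm_apply _ _
  obtain ⟨ho⟩ := IsKInjective.nonempty_homotopy_zero g hK
  obtain ⟨z, hz⟩ := Cochain.equivHomotopy g 0 ho
  rw [Cochain.ofHom_zero, add_zero] at hz
  refine ⟨-(z.rightUnshift (-2) (by simp)), ?_⟩
  rw [δ_neg, Cochain.δ_rightUnshift z (-2) (by simp) (-1) 0 (by simp), ← hz]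
  have h1 : γ = (Cochain.ofHom g).rightUnshift (-1) (zero_add (-1)) := by
    have := congrArg Subtype.val hg
    rw [Cocycle.equivHomShift_apply] at this
    exact this.symm
  rw [h1]
  simp

variable [HasLimitsOfShape ℕᵒᵖ A] (I : ℕᵒᵖ ⥤ CochainComplex A ℤ)

/-- joint monicity of the projections from the limit complex, for cochains -/
lemma cochain_ext_of_limit {K : CochainComplex A ℤ} {d : ℤ} (β β' : Cochain K (limit I) d)
    (h : ∀ n : ℕ, β.comp (Cochain.ofHom (limit.π I (op n))) (add_zero d) =
      β'.comp (Cochain.ofHom (limit.π I (op n))) (add_zero d)) : β = β' := by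
  ext p q hpq
  have hq := isLimitOfPreserves (HomologicalComplex.eval A (ComplexShape.up ℤ) q) (limit.isLimit I)
  apply hq.hom_ext
  rintro ⟨n⟩
  have := Cochain.congr_v (h n) p q hpq
  simp only [Cochain.comp_zero_cochain_v, Cochain.ofHom_v] at this
  exact this

/-- assembling compatible cochains into a cochain to the limit complex -/
lemma exists_cochain_to_limit {K : CochainComplex A ℤ} {d : ℤ}
    (α : ∀ n : ℕ, Cochain K (I.obj (op n)) d)
    (hα : ∀ n : ℕ, (α (n + 1)).comp (Cochain.ofHom (I.map (homOfLE (Nat.le_succ n)).op))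
      (add_zero d) = α n) :
    ∃ β : Cochain K (limit I) d,
      ∀ n : ℕ, β.comp (Cochain.ofHom (limit.π I (op n))) (add_zero d) = α n := by
  have hq := fun q : ℤ =>
    isLimitOfPreserves (HomologicalComplex.eval A (ComplexShape.up ℤ) q) (limit.isLimit I)
  let c : ∀ (p q : ℤ) (hpq : p + d = q),
      (Functor.const ℕᵒᵖ).obj (K.X p) ⟶ I ⋙ HomologicalComplex.eval A (ComplexShape.up ℤ) q :=
    fun p q hpq => NatTrans.ofOpSequence (fun n => (α n).v p q hpq) (fun n => by
      have := Cochain.congr_v (hα n) p q hpq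
      simp only [Cochain.comp_zero_cochain_v, Cochain.ofHom_v] at this
      simp only [Functor.const_obj_obj, Functor.const_obj_map, Category.id_comp,
        Functor.comp_map, HomologicalComplex.eval_map]
      exact this.symm)
  refine ⟨Cochain.mk (fun p q hpq => (hq q).lift ⟨K.X p, c p q hpq⟩), fun n => ?_⟩
  ext p q hpq
  simp only [Cochain.comp_zero_cochain_v, Cochain.ofHom_v, Cochain.mk_v]
  exact (hq q).fac ⟨K.X p, c p q hpq⟩ (op n)

end Helpers

open CategoryTheory.Limits Opposite in
/-- Let … → I_3 → I_2 → I_1 be an inverse system of K-injective cochain complexes in an abelian category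
with sequential limits, such that each transition map is a split epimorphism in each degree. Then
the (termwise) limit complex is K-injective. -/
theorem result {A : Type u} [Category.{v} A] [Abelian A] [HasLimitsOfShape ℕᵒᵖ A]
    (I : ℕᵒᵖ ⥤ CochainComplex A ℤ) (h1 : ∀ n : ℕ, (I.obj (op n)).IsKInjective)
    (h2 : ∀ (n : ℕ) (m : ℤ), IsSplitEpi ((I.map (homOfLE (Nat.le_succ n)).op).f m)) :
    (limit I).IsKInjective := by
  classical
  refine ⟨fun {K} f hK => ?_⟩
  -- notation
  let pr : ∀ n : ℕ, I.obj (op (n + 1)) ⟶ I.obj (op n) := fun n => I.map (homOfLE (Nat.le_succ n)).op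
  let fn : ∀ n : ℕ, K ⟶ I.obj (op n) := fun n => f ≫ limit.π I (op n)
  have hfn : ∀ n, fn (n + 1) ≫ pr n = fn n := fun n => by
    simp only [fn, pr, Category.assoc, limit.w]
  -- stage data
  let S : ℕ → Type _ := fun n =>
    {α : CochainComplex.HomComplex.Cochain K (I.obj (op n)) (-1) //
      CochainComplex.HomComplex.δ (-1) 0 α = CochainComplex.HomComplex.Cochain.ofHom (fn n)}
  have base : ∀ n, Nonempty (S n) := by
    intro n
    haveI := h1 n
    obtain ⟨ho⟩ := CochainComplex.IsKInjective.nonempty_homotopy_zero (fn n) hK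
    obtain ⟨z, hz⟩ := CochainComplex.HomComplex.Cochain.equivHomotopy (fn n) 0 ho
    rw [CochainComplex.HomComplex.Cochain.ofHom_zero, add_zero] at hz
    exact ⟨⟨z, hz.symm⟩⟩
  have step : ∀ n (x : S n), ∃ y : S (n + 1),
      y.1.comp (CochainComplex.HomComplex.Cochain.ofHom (pr n)) (add_zero (-1)) = x.1 := by
    rintro n ⟨αn, hαn⟩
    obtain ⟨⟨β, hβ⟩⟩ := base (n + 1)
    haveI := h1 n
    let γ := β.comp (CochainComplex.HomComplex.Cochain.ofHom (pr n)) (add_zero (-1)) - αn
    have hγ : CochainComplex.HomComplex.δ (-1) 0 γ = 0 := by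
      simp only [γ, CochainComplex.HomComplex.δ_sub, CochainComplex.HomComplex.δ_comp_ofHom, hβ, hαn]
      rw [← CochainComplex.HomComplex.Cochain.ofHom_comp, hfn, sub_self]
    obtain ⟨u, hu⟩ := exists_cochain_of_cocycle_neg_one hK γ hγ
    -- lift `u` using the degreewise sections
    haveI := fun m => h2 n m
    let ũ : CochainComplex.HomComplex.Cochain K (I.obj (op (n + 1))) (-2) :=
      CochainComplex.HomComplex.Cochain.mk (fun p q hpq => u.v p q hpq ≫ section_ ((pr n).f q))
    have hũ : ũ.comp (CochainComplex.HomComplex.Cochain.ofHom (pr n)) (add_zero (-2)) = u := by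
      ext p q hpq
      simp [ũ]
    refine ⟨⟨β - CochainComplex.HomComplex.δ (-2) (-1) ũ, ?_⟩, ?_⟩
    · rw [CochainComplex.HomComplex.δ_sub, CochainComplex.HomComplex.δ_δ, sub_zero, hβ]
    · show (β - CochainComplex.HomComplex.δ (-2) (-1) ũ).comp _ _ = αn
      rw [CochainComplex.HomComplex.Cochain.sub_comp, ← CochainComplex.HomComplex.δ_comp_ofHom,
        hũ, hu]
      simp [γ]
  obtain ⟨a, ha⟩ := exists_compatible_seq
    (fun n (x : S n) (y : S (n + 1)) =>
      y.1.comp (CochainComplex.HomComplex.Cochain.ofHom (pr n)) (add_zero (-1)) = x.1)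
    (base 0) step
  obtain ⟨α, hα⟩ := exists_cochain_to_limit I (fun n => (a n).1) ha
  have key : CochainComplex.HomComplex.Cochain.ofHom f = CochainComplex.HomComplex.δ (-1) 0 α := by
    apply cochain_ext_of_limit I
    intro n
    rw [← CochainComplex.HomComplex.δ_comp_ofHom, hα n, (a n).2,
      ← CochainComplex.HomComplex.Cochain.ofHom_comp]
  exact ⟨(CochainComplex.HomComplex.Cochain.equivHomotopy f 0).symm ⟨α, by
    rw [CochainComplex.HomComplex.Cochain.ofHom_zero, add_zero]; exact key⟩⟩

end Groth.Agent.S0489
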