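import Groth.Statements.S0490
import Mathlib.CategoryTheory.Adjunction.Comma
import Mathlib.CategoryTheory.Triangulated.Orthogonal

set_option autoImplicit false
universe v u
open CategoryTheory
open CohDer

namespace Groth.Agent.S0490

set_option backward.isDefEq.respectTransparency false in
open CategoryTheory.Pretriangulated in
/-- Let A be a full triangulated subcategory of a pretriangulated category D (an object property
containing zero, stable under shifts and closed under extensions). The inclusion A → D is a left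
adjoint (i.e. has a right adjoint) if and only if every object X of D fits in a distinguished
triangle A → X → B → A[1] with A in the subcategory and B right orthogonal to it. (The source's
further conclusions about saturation are not asserted.) -/
theorem result {D : Type u} [Category.{v} D] [Preadditive D] [Limits.HasZeroObject D] [HasShift D ℤ]
    [∀ n : ℤ, (shiftFunctor D n).Additive] [Pretriangulated D]
    (P : ObjectProperty D) [P.IsTriangulated] :
    P.ι.IsLeftAdjoint ↔ ∀ X : D, ∃ (A B : D) (f : A ⟶ X) (g : X ⟶ B) (h : B ⟶ (shiftFunctor D (1 : ℤ)).obj A),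
      Triangle.mk f g h ∈ distinguishedTriangles ∧ P A ∧ P.rightOrthogonal B := by
  constructor
  · intro hL X
    let R := P.ι.rightAdjoint
    let adj : P.ι ⊣ R := Adjunction.ofIsLeftAdjoint P.ι
    let f : (R.obj X).obj ⟶ X := adj.counit.app X
    obtain ⟨B, g, h, hT⟩ := distinguished_cocone_triangle f
    have hbij : ∀ Z, P Z → Function.Bijective (fun k : Z ⟶ (R.obj X).obj => k ≫ f) := by
      intro Z hZ
      constructor
      · intro k₁ k₂ hk
        have e : (adj.homEquiv ⟨Z, hZ⟩ X).symm (ObjectProperty.homMk k₁) =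
            (adj.homEquiv ⟨Z, hZ⟩ X).symm (ObjectProperty.homMk k₂) := by
          rw [Adjunction.homEquiv_counit, Adjunction.homEquiv_counit]
          exact hk
        have := (adj.homEquiv ⟨Z, hZ⟩ X).symm.injective e
        exact congrArg (fun m => m.hom) this
      · intro ψ
        refine ⟨(adj.homEquiv ⟨Z, hZ⟩ X ψ).hom, ?_⟩
        have := (adj.homEquiv ⟨Z, hZ⟩ X).symm_apply_apply ψ
        rw [Adjunction.homEquiv_counit] at this
        exact this
    refine ⟨(R.obj X).obj, B, f, g, h, hT, (R.obj X).property, ?_⟩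
    intro Z φ hZ
    have h0 : h ≫ (shiftFunctor D (1 : ℤ)).map f = 0 := comp_distTriang_mor_zero₃₁ _ hT
    have hfg : f ≫ g = 0 := comp_distTriang_mor_zero₁₂ _ hT
    have h1 : (φ ≫ h) ≫ (shiftFunctor D (1 : ℤ)).map f = 0 := by
      rw [Category.assoc, h0, Limits.comp_zero]
    have h2 : φ ≫ h = 0 := by
      obtain ⟨k, hk⟩ : ∃ k : (shiftFunctor D (-1 : ℤ)).obj Z ⟶ (R.obj X).obj,
          (shiftEquiv D (1 : ℤ)).symm.toAdjunction.homEquiv Z (R.obj X).obj k = φ ≫ h :=
        ((shiftEquiv D (1 : ℤ)).symm.toAdjunction.homEquiv Z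
          (R.obj X).obj).surjective (φ ≫ h)
      have hk0 : k ≫ f = 0 := by
        apply ((shiftEquiv D (1 : ℤ)).symm.toAdjunction.homEquiv Z X).injective
        rw [Adjunction.homEquiv_naturality_right, hk]
        refine Eq.trans h1 ?_
        rw [Adjunction.homEquiv_unit]
        exact (by simp : (0 : Z ⟶ (shiftFunctor D (1 : ℤ)).obj X) = _ ≫ (shiftFunctor D (1 : ℤ)).map 0)
      have hk' : k = 0 :=
        (hbij _ (P.le_shift (-1 : ℤ) _ hZ)).1 (hk0.trans Limits.zero_comp.symm)
      calc φ ≫ h = (shiftEquiv D (1 : ℤ)).symm.toAdjunction.homEquiv Z (R.obj X).obj k := hk.symm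
        _ = 0 := by
          rw [hk', Adjunction.homEquiv_unit]
          exact (by simp : _ ≫ (shiftFunctor D (1 : ℤ)).map 0 = (0 : Z ⟶ (shiftFunctor D (1 : ℤ)).obj (R.obj X).obj))
    obtain ⟨ψ, hψ⟩ : ∃ ψ : Z ⟶ X, φ = ψ ≫ g := Triangle.coyoneda_exact₃ _ hT φ h2
    obtain ⟨χ, hχ⟩ : ∃ χ : Z ⟶ (R.obj X).obj, χ ≫ f = ψ := (hbij Z hZ).2 ψ
    rw [hψ, ← hχ, Category.assoc, hfg, Limits.comp_zero]
  · intro hdec
    rw [isLeftAdjoint_iff_hasTerminal_costructuredArrow]
    intro X
    obtain ⟨A, B, f, g, h, hT, hA, hB⟩ := hdec X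
    have hex : ∀ (Z : D), P Z → ∀ ψ : Z ⟶ X, ∃ χ : Z ⟶ A, χ ≫ f = ψ := by
      intro Z hZ ψ
      obtain ⟨χ, hχ⟩ : ∃ χ : Z ⟶ A, ψ = χ ≫ f := Triangle.coyoneda_exact₂ _ hT ψ (hB _ hZ)
      exact ⟨χ, hχ.symm⟩
    have huniq : ∀ (Z : D), P Z → ∀ χ : Z ⟶ A, χ ≫ f = 0 → χ = 0 := by
      intro Z hZ χ hχ
      obtain ⟨ω, hω⟩ : ∃ ω : Z ⟶ (shiftFunctor D (-1 : ℤ)).obj B,
          χ = ω ≫ (Triangle.mk f g h).invRotate.mor₁ :=
        Triangle.coyoneda_exact₂ _ (inv_rot_of_distTriang _ hT) χ hχ
      have hB' : P.rightOrthogonal ((shiftFunctor D (-1 : ℤ)).obj B) :=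
        P.rightOrthogonal.le_shift (-1 : ℤ) _ hB
      have : ω = 0 := hB' ω hZ
      rw [hω, this, Limits.zero_comp]
    let A' : P.FullSubcategory := ⟨A, hA⟩
    let f' : P.ι.obj A' ⟶ X := f
    let T₀ : CostructuredArrow P.ι X := CostructuredArrow.mk f'
    have hterm : Limits.IsTerminal T₀ := by
      refine Limits.IsTerminal.ofUniqueHom
        (fun W => CostructuredArrow.homMk
          (ObjectProperty.homMk (Y := A') (hex W.left.obj W.left.property W.hom).choose)
          (show P.ι.map (ObjectProperty.homMk (Y := A')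
            (hex W.left.obj W.left.property W.hom).choose) ≫ T₀.hom = W.hom from
            (hex W.left.obj W.left.property W.hom).choose_spec)) ?_
      intro W m
      apply CostructuredArrow.ext
      apply ObjectProperty.hom_ext
      let mm : W.left.obj ⟶ A := m.left.hom
      have hm : mm ≫ f = W.hom := CostructuredArrow.w m
      have hc := (hex W.left.obj W.left.property W.hom).choose_spec
      have hd : (mm - (hex W.left.obj W.left.property W.hom).choose) ≫ f = 0 := by
        rw [Preadditive.sub_comp, hc, hm, sub_self]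
      have := huniq _ W.left.property _ hd
      exact sub_eq_zero.mp this
    exact hterm.hasTerminal

end Groth.Agent.S0490
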