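import Groth.Statements.S0492
import Mathlib

set_option autoImplicit false
universe u
open CategoryTheory
open CohSite

namespace Groth.Agent.S0492

section helpers
open CategoryTheory CategoryTheory.Limits Opposite

variable {C : Type u} [SmallCategory C] (J : GrothendieckTopology C)


theorem locSurj_of_epi {F G : Sheaf J AddCommGrpCat.{u}} (φ : F ⟶ G) [Epi φ] :
    Sheaf.IsLocallySurjective φ := (Sheaf.isLocallySurjective_iff_epi' _ φ).mpr inferInstance

theorem surj_of_epi_of_wc {U : C} (hU : CohSite.IsWeaklyContractible J U)
    {F G : Sheaf J AddCommGrpCat.{u}} (φ : F ⟶ G) [Epi φ] :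
    Function.Surjective (φ.hom.app (op U)) := by
  have h1 : Sheaf.IsLocallySurjective φ := locSurj_of_epi J φ
  have h2 : Epi ((sheafCompose J (forget AddCommGrpCat.{u})).map φ) := inferInstance
  exact hU _ _ _ h2


theorem main (B : Set C) (hB : ∀ U ∈ B, CohSite.IsWeaklyContractible J U)
    (hcov : ∀ V : C, ∃ (ι : Type u) (U : ι → C) (f : ∀ i, U i ⟶ V), (∀ i, U i ∈ B) ∧ Sieve.ofArrows U f ∈ J V) :
    AB4Star (Sheaf J AddCommGrpCat.{u}) := by
  refine ⟨fun ι => ?_⟩
  have : Functor.PreservesEpimorphisms (lim (J := Discrete ι) (C := Sheaf J AddCommGrpCat.{u})) := by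
    refine ⟨fun {F G} α hα => ?_⟩
    have hαi : ∀ i, Epi (α.app i) := fun i => inferInstance
    have : Sheaf.IsLocallySurjective (lim.map α) := by
      refine ⟨fun {V} s => ?_⟩
      obtain ⟨κ, U, f, hUB, hcover⟩ := hcov V
      refine J.superset_covering ?_ hcover
      rw [Sieve.ofArrows, Sieve.generate_le_iff]
      rintro W g ⟨j⟩
      -- need: f j ∈ imageSieve
      let E : Sheaf J AddCommGrpCat.{u} ⥤ Type u :=
        sheafToPresheaf J AddCommGrpCat.{u} ⋙ (evaluation Cᵒᵖ AddCommGrpCat.{u}).obj (op (U j)) ⋙
          forget AddCommGrpCat.{u}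
      have hF : IsLimit (E.mapCone (limit.cone F)) := isLimitOfPreserves E (limit.isLimit F)
      have hG : IsLimit (E.mapCone (limit.cone G)) := isLimitOfPreserves E (limit.isLimit G)
      have hsurj : ∀ i : Discrete ι, Function.Surjective ((α.app i).hom.app (op (U j))) :=
        fun i => surj_of_epi_of_wc J (hB _ (hUB j)) (α.app i)
      -- the restricted section
      set s' := ((lim.obj G).obj.map (f j).op) s with hs'
      choose t ht using fun i : Discrete ι =>
        hsurj i (((limit.π G i).hom.app (op (U j))) s')
      let x : (F ⋙ E).sections := ⟨fun i => t i, by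
        rintro ⟨i⟩ ⟨i'⟩ ⟨⟨h⟩⟩
        cases h
        simp⟩
      refine ⟨(Types.isLimitEquivSections hF).symm x, ?_⟩
      apply (Types.isLimitEquivSections hG).injective
      ext i
      simp only [Types.isLimitEquivSections_apply]
      have e1 : (E.mapCone (limit.cone F)).π.app i ((Types.isLimitEquivSections hF).symm x) = t i :=
        Types.isLimitEquivSections_symm_apply hF x i
      have e2 : lim.map α ≫ limit.π G i = limit.π F i ≫ α.app i := limMap_π α i
      have e3 := congrArg (fun φ => (E.map φ) ((Types.isLimitEquivSections hF).symm x)) e2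
      simp only [Functor.map_comp] at e3
      have e4 : (E.map (α.app i)) (t i) = (E.map (limit.π G i)) s' := ht i
      change (E.map (limit.π G i)) ((E.map (lim.map α)) ((Types.isLimitEquivSections hF).symm x)) =
        (E.map (limit.π G i)) s'
      rw [← e4, ← e1]
      exact e3
    infer_instance
  exact hasExactLimitsOfShape_of_preservesEpi _ _


end helpers

open CategoryTheory.Limits in
/-- Part (4), for sheaves of abelian groups: let B be a set of weakly contractible objects of a small
site such that every object admits a covering family by members of B. Then products in the category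
of abelian sheaves are exact (Grothendieck's AB4*). -/
theorem result {C : Type u} [SmallCategory C] (J : GrothendieckTopology C)
    (B : Set C) (hB : ∀ U ∈ B, CohSite.IsWeaklyContractible J U)
    (hcov : ∀ V : C, ∃ (ι : Type u) (U : ι → C) (f : ∀ i, U i ⟶ V), (∀ i, U i ∈ B) ∧ Sieve.ofArrows U f ∈ J V) :
    AB4Star (Sheaf J AddCommGrpCat.{u}) := by
  exact main J B hB hcov

end Groth.Agent.S0492
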