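import Groth.Statements.S0493
import Groth.Agent.Lib.Helper28.CechTop

set_option autoImplicit false
universe u
open CohTop

namespace Groth.Agent.S0493

open Groth.Agent.Lib.Helper28 Opposite CategoryTheory CategoryTheory.Limits Simplicial TopologicalSpace

open TopologicalSpace CategoryTheory.Limits in

/-- Let B be a basis of opens of X and Cov a class of families of opens such that (1) every family in
Cov has its union, its members and all finite intersections of members in B, (2) for U in B every
open covering of U is refined by a family in Cov with union U, and (3) the Cech cohomology of F in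
positive degrees vanishes for every family in Cov. Then H^(p+1)(U, F) = 0 for every U in B. -/
theorem result {X : TopCat.{u}} (F : CohTop.Ab X)
    (B : Set (Opens X)) (hB : Opens.IsBasis B) (Cov : ∀ (ι : Type u), (ι → Opens X) → Prop)
    (h1 : ∀ (ι : Type u) (V : ι → Opens X), Cov ι V →
      iSup V ∈ B ∧ ∀ (p : ℕ) (a : Fin (p + 1) → ι), (iInf fun k => V (a k)) ∈ B)
    (h2 : ∀ U ∈ B, ∀ (κ : Type u) (W : κ → Opens X), iSup W = U →
      ∃ (ι : Type u) (V : ι → Opens X), Cov ι V ∧ iSup V = U ∧ ∀ i, ∃ k, V i ≤ W k)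
    (h3 : ∀ (ι : Type u) (V : ι → Opens X), Cov ι V → ∀ p : ℕ, IsZero (CohTop.cechH F.obj V (p + 1)))
    (U : Opens X) (hU : U ∈ B) (p : ℕ) : Subsingleton (CohTop.HU F (p + 1) U) := by
  let Pr : CohTop.Ab X → Prop := fun F =>
    ∀ (ι : Type u) (V : ι → Opens X), Cov ι V → ∀ p : ℕ, IsZero (CohTop.cechH F.obj V (p + 1))
  have hinj : ∀ I : CohTop.Ab X, Injective I → Pr I := by
    intro I hI ι W _ p
    exact CechTop.isZero_cechH_of_injective I W p
  have hstep : ∀ S : ShortComplex (CohTop.Ab X), S.ShortExact → Pr S.X₁ → Pr S.X₂ →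
      (Pr S.X₃ ∧ ∀ U ∈ B, Function.Surjective (S.g.hom.app (op U))) := by
    intro S hS hP₁ hP₂
    have hsurj : ∀ U ∈ B, Function.Surjective (S.g.hom.app (op U)) := by
      intro U hU s
      have := hS.epi_g
      have hls : Sheaf.IsLocallySurjective S.g :=
        (Sheaf.isLocallySurjective_iff_epi' _ S.g).2 inferInstance
      have hcov := Presheaf.imageSieve_mem (Opens.grothendieckTopology X) S.g.hom s
      let κ : Type u := {V : Opens X // ∃ f : V ⟶ U, (Presheaf.imageSieve S.g.hom s).arrows f}
      let W : κ → Opens X := fun i => i.1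
      have hW : iSup W = U := by
        apply le_antisymm
        · exact iSup_le fun i => leOfHom i.2.choose
        · intro x hx
          obtain ⟨V', f, hf, hxV⟩ := hcov x hx
          exact Opens.mem_iSup.2 ⟨⟨V', f, hf⟩, hxV⟩
      obtain ⟨ι, V, hCov, hV, hVW⟩ := h2 U hU κ W hW
      refine CechTop.exists_section hS V hV (hP₁ ι V hCov 0) s fun i => ?_
      obtain ⟨k, hk⟩ := hVW i
      obtain ⟨f, hf⟩ := k.2
      obtain ⟨y, hy⟩ := (Presheaf.imageSieve S.g.hom s).downward_closed hf (homOfLE hk)
      exact ⟨_, y, hy⟩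
    refine ⟨?_, hsurj⟩
    intro ι V hCov p
    exact CechTop.isZero_cechH_X₃ hS V (fun n a => hsurj _ ((h1 ι V hCov).2 n a))
      (hP₁ ι V hCov) (hP₂ ι V hCov) p
  exact subsingleton_of_forall_eq 0 fun x =>
    Cartan.cartan (Opens.grothendieckTopology X) B Pr hinj hstep p F h3 U hU x

end Groth.Agent.S0493
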