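import Groth.Statements.S0494
import Groth.Agent.Lib.Helper53.LerayDeg
import Groth.Agent.Lib.Helper53.PushTheta

set_option autoImplicit false
universe u
open CohTop

namespace Groth.Agent.S0494

open Opposite in
/-- If H^p(Y, R^q f_* F) = 0 for all q and all p > 0, then H^q(X, F) ≅ Γ(Y, R^q f_* F) for every q
(existence of a group isomorphism). -/
theorem result {X Y : TopCat.{u}} (f : X ⟶ Y) (F : CohTop.Ab X)
    (h : ∀ p q : ℕ, Subsingleton (CohTop.H ((CohTop.Rpush f q).obj F) (p + 1))) (q : ℕ) :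
    Nonempty (CohTop.H F q ≃+ ((CohTop.Rpush f q).obj F).obj.obj (op ⊤)) := by
  open Groth.Agent.Lib.Helper53 CategoryTheory CategoryTheory.Limits Abelian in
  obtain ⟨e⟩ := LerayDeg.nonempty_ext_equiv_hom_rightDerived (CohTop.push f)
    (fun I hI => by haveI := hI; infer_instance) _ _ (pushTheta f)
    (fun φ g => pushTheta_naturality f φ g) F
    (fun q p x => @Subsingleton.elim _ (h p q) _ _) q
  exact ⟨e.trans (Ext.addEquiv₀.symm.trans (Sheaf.H.equiv₀ _ isTerminalTop))⟩

end Groth.Agent.S0494
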