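import Groth.Statements.S0495
import Mathlib.RingTheory.KrullDimension.Zero
import Mathlib.Dynamics.Newton
-- import your own Groth.Agent.* helpers here

set_option autoImplicit false
universe u
open Hensel

namespace Groth.Agent.S0495

/-- A local ring whose Krull dimension is zero is henselian. -/
theorem result (R : Type u) [CommRing R] [IsLocalRing R]
    (h : ringKrullDim R = 0) : HenselianLocalRing R := by
  have : Ring.KrullDimLE 0 R := (Ring.krullDimLE_iff).mpr (by simp [h])
  refine ⟨fun f _ a₀ h₁ h₂ => ?_⟩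
  have hn : IsNilpotent (Polynomial.aeval a₀ f) := by
    rw [Ring.KrullDimLE.isNilpotent_iff_mem_maximalIdeal]
    simpa [Polynomial.aeval_def] using h₁
  have hu : IsUnit (Polynomial.aeval a₀ (Polynomial.derivative f)) := by
    simpa [Polynomial.aeval_def] using h₂
  obtain ⟨r, ⟨hr₁, hr₂⟩, -⟩ := Polynomial.existsUnique_nilpotent_sub_and_aeval_eq_zero hn hu
  refine ⟨r, ?_, ?_⟩
  · simpa [Polynomial.IsRoot, Polynomial.aeval_def] using hr₂
  · rw [← Ring.KrullDimLE.isNilpotent_iff_mem_maximalIdeal, ← neg_sub, isNilpotent_neg_iff]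
    exact hr₁

end Groth.Agent.S0495
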