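import Groth.Statements.S0496
import Mathlib.RingTheory.AdjoinRoot
import Mathlib.RingTheory.Nakayama
import Mathlib.RingTheory.Polynomial.Basic
-- import your own Groth.Agent.* helpers here

set_option autoImplicit false
universe u
open Hensel

namespace Groth.Agent.S0496


open Polynomial in
theorem exists_X_sub_C_eq_mul {R : Type u} [CommRing R] [IsLocalRing R] (f g : R[X]) (hf : f.Monic)
    (hgf : g ∣ f) (a₀ : R)
    (hg : g.map (IsLocalRing.residue R) = X - C (IsLocalRing.residue R a₀)) :
    ∃ (a : R) (k : R[X]), X - C a = g * k := by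
  set I : Ideal R[X] := Ideal.span {g} with hI
  have hfI : Ideal.span {f} ≤ I := by
    rw [Ideal.span_le, Set.singleton_subset_iff]
    exact Ideal.mem_span_singleton.mpr hgf
  have hfin : Module.Finite R (R[X] ⧸ I) := by
    have : Module.Finite R (R[X] ⧸ Ideal.span {f}) := hf.finite_adjoinRoot
    exact Module.Finite.of_surjective (Ideal.Quotient.factorₐ R hfI).toLinearMap
      (Ideal.Quotient.factor_surjective hfI)
  set m := IsLocalRing.maximalIdeal R with hm
  have hmem : ∀ w : R[X], w ∈ Ideal.map C m →
      Ideal.Quotient.mk I w ∈ Ideal.map (algebraMap R (R[X] ⧸ I)) m := by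
    intro w hw
    have : Ideal.map (algebraMap R (R[X] ⧸ I)) m = Ideal.map (Ideal.Quotient.mk I) (Ideal.map C m) := by
      rw [Ideal.map_map]
      rfl
    rw [this]
    exact Ideal.mem_map_of_mem _ hw
  have hXa : Ideal.Quotient.mk I (X - C a₀) ∈ Ideal.map (algebraMap R (R[X] ⧸ I)) m := by
    have h1 : Ideal.Quotient.mk I (X - C a₀) = Ideal.Quotient.mk I (X - C a₀ - g) := by
      rw [map_sub _ (X - C a₀) g, Ideal.Quotient.eq_zero_iff_mem.mpr (Ideal.mem_span_singleton_self g),
        sub_zero]
    rw [h1]
    apply hmem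
    rw [Ideal.mem_map_C_iff]
    intro n
    rw [← IsLocalRing.residue_eq_zero_iff, ← Polynomial.coeff_map, Polynomial.map_sub, hg]
    simp
  have hle : (⊤ : Submodule R (R[X] ⧸ I)) ≤
      LinearMap.range (Algebra.linearMap R (R[X] ⧸ I)) ⊔ m • ⊤ := by
    rintro x -
    obtain ⟨p, rfl⟩ := Ideal.Quotient.mk_surjective x
    obtain ⟨q, hq⟩ := Polynomial.X_sub_C_dvd_sub_C_eval (p := p) (a := a₀)
    have hp : p = C (p.eval a₀) + (X - C a₀) * q := by rw [← hq]; ring
    rw [hp, map_add, map_mul]
    refine Submodule.add_mem_sup ⟨p.eval a₀, rfl⟩ ?_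
    rw [Ideal.smul_top_eq_map]
    exact Ideal.mul_mem_right _ _ hXa
  have htop := Submodule.le_of_le_smul_of_le_jacobson_bot (Module.Finite.fg_top)
    (IsLocalRing.maximalIdeal_le_jacobson _) hle
  obtain ⟨a, ha⟩ := htop (Submodule.mem_top (x := Ideal.Quotient.mk I X))
  have h2 : Ideal.Quotient.mk I (X - C a) = 0 := by
    rw [map_sub, ← ha, Algebra.linearMap_apply]
    exact sub_self _
  rw [Ideal.Quotient.eq_zero_iff_mem, hI, Ideal.mem_span_singleton] at h2
  obtain ⟨k, hk⟩ := h2
  exact ⟨a, k, hk⟩

/-- If every factorization of the reduction of a monic polynomial into two coprime factors over the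
residue field lifts to a factorization over the local ring, then the local ring is henselian. -/
theorem result (R : Type u) [CommRing R] [IsLocalRing R]
    (h : ∀ f : Polynomial R, f.Monic →
      ∀ g₀ h₀ : Polynomial (IsLocalRing.ResidueField R), IsCoprime g₀ h₀ →
      Polynomial.map (IsLocalRing.residue R) f = g₀ * h₀ →
      ∃ g h : Polynomial R, f = g * h ∧ Polynomial.map (IsLocalRing.residue R) g = g₀ ∧
        Polynomial.map (IsLocalRing.residue R) h = h₀) :
    HenselianLocalRing R := by
  refine ⟨fun f hf a₀ h₁ h₂ => ?_⟩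
  classical
  set res := IsLocalRing.residue R with hres
  have hroot : (f.map res).IsRoot (res a₀) := by
    rw [Polynomial.IsRoot, Polynomial.eval_map, Polynomial.eval₂_at_apply,
      IsLocalRing.residue_eq_zero_iff]
    exact h₁
  obtain ⟨h₀, hh₀⟩ := Polynomial.dvd_iff_isRoot.mpr hroot
  have hder : (Polynomial.derivative (f.map res)).eval (res a₀) ≠ 0 := by
    rw [Polynomial.derivative_map, Polynomial.eval_map, Polynomial.eval₂_at_apply]
    intro hcon
    rw [IsLocalRing.residue_eq_zero_iff] at hcon
    exact hcon h₂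
  have hh₀root : h₀.eval (res a₀) ≠ 0 := by
    intro hcon
    apply hder
    rw [hh₀, Polynomial.derivative_mul]
    simp [hcon]
  have hcop : IsCoprime (Polynomial.X - Polynomial.C (res a₀)) h₀ := by
    rw [(Polynomial.irreducible_X_sub_C (res a₀)).coprime_iff_not_dvd, Polynomial.dvd_iff_isRoot]
    exact hh₀root
  obtain ⟨g, h', hfgh, hg, hh'⟩ := h f hf _ _ hcop hh₀
  obtain ⟨a, k, hk⟩ := exists_X_sub_C_eq_mul f g hf ⟨h', hfgh⟩ a₀ hg
  have hkmap : Polynomial.X - Polynomial.C (res a) =
      (Polynomial.X - Polynomial.C (res a₀)) * k.map res := by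
    have := congrArg (Polynomial.map res) hk
    rw [Polynomial.map_mul, hg] at this
    simpa using this
  have haa₀ : res a = res a₀ := by
    have := congrArg (Polynomial.eval (res a₀)) hkmap
    simp only [Polynomial.eval_sub, Polynomial.eval_X, Polynomial.eval_C, Polynomial.eval_mul,
      sub_self, zero_mul] at this
    exact (sub_eq_zero.mp this).symm
  have hk1 : k.map res = 1 := by
    rw [haa₀] at hkmap
    have hne : (Polynomial.X - Polynomial.C (res a₀)) ≠ 0 := Polynomial.X_sub_C_ne_zero _
    have : (Polynomial.X - Polynomial.C (res a₀)) * (k.map res - 1) = 0 := by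
      rw [mul_sub, ← hkmap, mul_one, sub_self]
    rcases mul_eq_zero.mp this with h3 | h3
    · exact absurd h3 hne
    · exact sub_eq_zero.mp h3
  have hku : IsUnit (k.eval a) := by
    by_contra hcon
    have h3 : res (k.eval a) = 0 := (IsLocalRing.residue_eq_zero_iff _).mpr hcon
    rw [← Polynomial.eval₂_at_apply, ← Polynomial.eval_map, hk1, Polynomial.eval_one] at h3
    exact one_ne_zero h3
  have hga : g.eval a = 0 := by
    have := congrArg (Polynomial.eval a) hk
    simp only [Polynomial.eval_sub, Polynomial.eval_X, Polynomial.eval_C, Polynomial.eval_mul,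
      sub_self] at this
    exact hku.mul_left_eq_zero.mp this.symm
  refine ⟨a, ?_, ?_⟩
  · rw [Polynomial.IsRoot, hfgh, Polynomial.eval_mul, hga, zero_mul]
  · rw [← IsLocalRing.residue_eq_zero_iff, map_sub, ← hres, haa₀, sub_self]

end Groth.Agent.S0496
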