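import Groth.Statements.S0498
import Mathlib.Algebra.Polynomial.Inductions
import Mathlib.Algebra.Polynomial.Reverse
import Mathlib.Algebra.Polynomial.Taylor
import Mathlib.Tactic.LinearCombination
import Mathlib.Tactic.Ring
-- import your own Groth.Agent.* helpers here

set_option autoImplicit false
universe u
open Hensel

namespace Groth.Agent.S0498


open Polynomial in
theorem aux (R : Type u) [CommRing R] [HenselianLocalRing R] (f : Polynomial R) (b : R)
    (h₁ : f.eval b ∈ IsLocalRing.maximalIdeal R) (h₂ : IsUnit (f.derivative.eval b)) :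
    ∃ a : R, f.IsRoot a ∧ a - b ∈ IsLocalRing.maximalIdeal R := by
  set g := taylor b f with hg
  set c₀ := f.eval b with hc₀
  set c₁ := f.derivative.eval b with hc₁
  set q := divX (divX g) with hq
  have hg0 : g.coeff 0 = c₀ := taylor_coeff_zero _ _
  have hg1 : g.coeff 1 = c₁ := taylor_coeff_one _ _
  have hgq : g = q * X ^ 2 + C c₁ * X + C c₀ := by
    have e1 := divX_mul_X_add g
    have e2 := divX_mul_X_add (divX g)
    rw [coeff_divX, zero_add, hg1] at e2
    rw [hg0] at e1
    rw [← e1, ← e2]
    ring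
  set q' := q.comp (C c₀ * X) with hq'
  set N := q'.natDegree with hN
  set r := q'.reverse with hr
  set P : R[X] := X ^ (N + 2) + (C c₁ * X ^ (N + 1) + C c₀ * r) with hP
  have hPm : P.Monic := by
    apply monic_X_pow_add
    have hrdeg : r.natDegree ≤ N := reverse_natDegree_le q'
    have : (C c₁ * X ^ (N + 1) + C c₀ * r).natDegree < N + 2 := by
      refine lt_of_le_of_lt (natDegree_add_le _ _) ?_
      rw [max_lt_iff]
      constructor
      · exact lt_of_le_of_lt (natDegree_C_mul_X_pow_le _ _) (by omega)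
      · exact lt_of_le_of_lt (natDegree_C_mul_le _ _) (by omega)
    exact lt_of_le_of_lt degree_le_natDegree (by exact_mod_cast this)
  have hP0 : P.eval (-c₁) ∈ IsLocalRing.maximalIdeal R := by
    have : P.eval (-c₁) = c₀ * r.eval (-c₁) := by
      simp only [hP, eval_add, eval_mul, eval_pow, eval_X, eval_C]
      ring
    rw [this]
    exact Ideal.mul_mem_right _ _ h₁
  have hP1 : IsUnit (P.derivative.eval (-c₁)) := by
    have : P.derivative.eval (-c₁) = (-c₁) ^ (N + 1) + c₀ * r.derivative.eval (-c₁) := by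
      simp only [hP, derivative_add, derivative_mul, derivative_X_pow, derivative_C, eval_add,
        eval_mul, eval_pow, eval_X, eval_C, zero_mul, zero_add, Nat.add_sub_cancel]
      push_cast
      ring
    rw [this]
    by_contra hcon
    have hmem : (-c₁) ^ (N + 1) + c₀ * r.derivative.eval (-c₁) ∈ IsLocalRing.maximalIdeal R := hcon
    have h3 : (-c₁) ^ (N + 1) ∈ IsLocalRing.maximalIdeal R := by
      have := Ideal.sub_mem _ hmem (Ideal.mul_mem_right (r.derivative.eval (-c₁)) _ h₁)
      simpa using this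
    exact h3 ((h₂.neg).pow _)
  obtain ⟨s, hs, hs'⟩ := HenselianLocalRing.is_henselian P hPm (-c₁) hP0 hP1
  have hsu : IsUnit s := by
    by_contra hcon
    have hmem : s ∈ IsLocalRing.maximalIdeal R := hcon
    have : -c₁ ∈ IsLocalRing.maximalIdeal R := by
      have := Ideal.sub_mem _ hmem hs'
      simpa using this
    exact this h₂.neg
  obtain ⟨s, rfl⟩ := hsu
  set u : R := ↑s⁻¹ with hu
  have hsu1 : (s : R) * u = 1 := by simp [hu]
  have hrev : r.eval (s : R) * u ^ N = q.eval (c₀ * u) := by
    let _ : Invertible u := ⟨(s : R), hsu1, by rw [mul_comm]; exact hsu1⟩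
    have := eval₂_reverse_mul_pow (RingHom.id R) u q'
    have hinv : ⅟u = (s : R) := rfl
    rw [hinv] at this
    simp only [eval₂_id] at this
    rw [← hr, ← hN] at this
    rw [this, hq', eval_comp]
    simp
  refine ⟨c₀ * u + b, ?_, ?_⟩
  · have hroot : P.eval (s : R) = 0 := hs
    have e1 : f.eval (c₀ * u + b) = g.eval (c₀ * u) := (taylor_eval b f (c₀ * u)).symm
    rw [IsRoot, e1, hgq]
    simp only [eval_add, eval_mul, eval_pow, eval_X, eval_C]
    rw [← hrev]
    have e2 : P.eval (s : R) = (s : R) ^ (N + 2) + (c₁ * (s : R) ^ (N + 1) + c₀ * r.eval (s : R)) := by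
      simp only [hP, eval_add, eval_mul, eval_pow, eval_X, eval_C]
    rw [e2] at hroot
    have e3 : eval (↑s) r * u ^ N * (c₀ * u) ^ 2 + c₁ * (c₀ * u) + c₀ =
        c₀ * u ^ (N + 2) * ((s : R) ^ (N + 2) + (c₁ * (s : R) ^ (N + 1) + c₀ * r.eval (s : R))) := by
      have k1 : u ^ (N + 2) * (s : R) ^ (N + 2) = 1 := by rw [← mul_pow, mul_comm, hsu1, one_pow]
      have k2 : u ^ (N + 2) * (s : R) ^ (N + 1) = u := by
        rw [pow_succ u (N + 1), mul_assoc, mul_comm u, ← mul_assoc, ← mul_pow, mul_comm u, hsu1, one_pow, one_mul]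
      linear_combination (-c₀) * k1 - (c₁ * c₀) * k2
    rw [e3, hroot, mul_zero]
  · have : c₀ * u + b - b = c₀ * u := by ring
    rw [this]
    exact Ideal.mul_mem_right _ _ h₁

/-- Over a henselian local ring, a simple root in the residue field of the reduction of an arbitrary
polynomial (monic or not) lifts to a root in the ring. -/
theorem result (R : Type u) [CommRing R] [HenselianLocalRing R]
    (f : Polynomial R) (a₀ : IsLocalRing.ResidueField R)
    (h₁ : Polynomial.eval₂ (IsLocalRing.residue R) a₀ f = 0)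
    (h₂ : Polynomial.eval₂ (IsLocalRing.residue R) a₀ (Polynomial.derivative f) ≠ 0) :
    ∃ a : R, Polynomial.IsRoot f a ∧ IsLocalRing.residue R a = a₀ := by
  obtain ⟨b, rfl⟩ := IsLocalRing.residue_surjective a₀
  rw [Polynomial.eval₂_at_apply] at h₁ h₂
  have h₁' : f.eval b ∈ IsLocalRing.maximalIdeal R := by
    rwa [← IsLocalRing.residue_eq_zero_iff]
  have h₂' : IsUnit (f.derivative.eval b) := by
    by_contra hcon
    exact h₂ ((IsLocalRing.residue_eq_zero_iff _).mpr hcon)
  obtain ⟨a, ha, hab⟩ := aux R f b h₁' h₂'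
  refine ⟨a, ha, ?_⟩
  rw [← sub_eq_zero, ← map_sub, IsLocalRing.residue_eq_zero_iff]
  exact hab

end Groth.Agent.S0498
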