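import Groth.Statements.S0501
import Mathlib
import Groth.Agent.Lib.Helper9.HenselLocal

set_option autoImplicit false
universe u
open Hensel

namespace Groth.Agent.S0501

open TensorProduct IsLocalRing

/-- Let `S` be a henselian local ring over a ring `R`, let `A` be an étale `R`-algebra with a prime `q`,
and let `τ` be a ring map from the residue field of `q` to the residue field of `S` compatible with
the two structure maps from `R`. Then there is exactly one `R`-algebra map from `A` to `S` pulling
the maximal ideal back to `q` and inducing `τ`. -/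
theorem result (R : Type u) [CommRing R]
    (S : Type u) [CommRing S] [HenselianLocalRing S] [Algebra R S]
    (A : Type u) [CommRing A] [Algebra R A] [Algebra.Etale R A] (q : Ideal A) [q.IsPrime]
    (τ : q.ResidueField →+* IsLocalRing.ResidueField S)
    (hτ : τ.comp (algebraMap R q.ResidueField) = (IsLocalRing.residue S).comp (algebraMap R S)) :
    ∃! f : A →ₐ[R] S, Ideal.comap f.toRingHom (IsLocalRing.maximalIdeal S) = q ∧
      ∀ a : A, IsLocalRing.residue S (f a) = τ (algebraMap A q.ResidueField a) := by
  let θ : A →ₐ[R] ResidueField S :=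
    { toRingHom := τ.comp (algebraMap A q.ResidueField)
      commutes' := fun r => by
        change τ (algebraMap A q.ResidueField (algebraMap R A r)) = _
        rw [← IsScalarTower.algebraMap_apply R A q.ResidueField]
        exact RingHom.congr_fun hτ r }
  have hθ : ∀ a, θ a = τ (algebraMap A q.ResidueField a) := fun a => rfl
  let Ψ : S ⊗[R] A →ₐ[S] ResidueField S :=
    Algebra.TensorProduct.lift (Algebra.ofId S (ResidueField S)) θ fun _ _ => Commute.all _ _
  obtain ⟨t, ht⟩ := Groth.Agent.Lib.Helper9.exists_lift_of_etale Ψ
  let f : A →ₐ[R] S := (t.restrictScalars R).comp Algebra.TensorProduct.includeRight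
  have hf : ∀ a, residue S (f a) = τ (algebraMap A q.ResidueField a) := by
    intro a
    change residue S (t (1 ⊗ₜ a)) = _
    rw [ht]
    simp [Ψ, hθ]
  refine ⟨f, ⟨?_, hf⟩, ?_⟩
  · ext a
    rw [Ideal.mem_comap]
    change f a ∈ maximalIdeal S ↔ _
    rw [← IsLocalRing.residue_eq_zero_iff, hf, map_eq_zero_iff τ τ.injective,
      Ideal.algebraMap_residueField_eq_zero]
  · rintro f' ⟨-, hf'⟩
    apply Groth.Agent.Lib.Helper9.algHom_ext_of_residue_eq
    intro a
    rw [hf, hf']

end Groth.Agent.S0501
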