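import Groth.Statements.S0502
import Mathlib

set_option autoImplicit false
universe u
open Hensel

namespace Groth.Agent.S0502

open Polynomial IsLocalRing

/-- A local ring `R` is henselian as soon as every étale `R`-algebra having a prime over the maximal
ideal with trivial residue field extension admits an `R`-algebra retraction to `R`. -/
theorem result (R : Type u) [CommRing R] [IsLocalRing R]
    (h : ∀ (S : Type u) [CommRing S] [Algebra R S] [Algebra.Etale R S] (q : Ideal S) [q.IsPrime],
      q.LiesOver (IsLocalRing.maximalIdeal R) → Function.Surjective (algebraMap R q.ResidueField) →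
      Nonempty (S →ₐ[R] R)) :
    HenselianLocalRing R := by
  apply ((HenselianLocalRing.TFAE R).out 0 1).2
  intro f hf a₀ h₁ h₂
  -- reduction of f
  set fbar : (ResidueField R)[X] := f.map (algebraMap R (ResidueField R)) with hfbar
  have h₁' : fbar.IsRoot a₀ := by
    rw [IsRoot, hfbar, eval_map]
    exact h₁
  have h₂' : fbar.derivative.eval a₀ ≠ 0 := by
    rw [hfbar, derivative_map, eval_map]
    exact h₂
  set gbar : (ResidueField R)[X] := fbar /ₘ (X - C a₀) with hgbar
  have hfg : (X - C a₀) * gbar = fbar := mul_divByMonic_eq_iff_isRoot.2 h₁'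
  have hg₀ : gbar.eval a₀ ≠ 0 := by
    have : fbar.derivative.eval a₀ = gbar.eval a₀ := by
      rw [← hfg, derivative_mul]
      simp
    rwa [← this]
  obtain ⟨g₀, hg₀map⟩ := Polynomial.map_surjective (algebraMap R (ResidueField R))
    IsLocalRing.residue_surjective gbar
  let P : StandardEtalePair R := ⟨f, hf, derivative f * g₀, ⟨g₀, 0, 1, by ring⟩⟩
  have hmap : P.HasMap a₀ := by
    refine ⟨h₁, ?_⟩
    change IsUnit (aeval a₀ (derivative f * g₀))
    rw [map_mul, isUnit_iff_ne_zero]
    refine mul_ne_zero h₂ ?_
    rw [aeval_def, ← eval_map, hg₀map]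
    exact hg₀
  let φ : P.Ring →ₐ[R] ResidueField R := P.lift a₀ hmap
  have hφsurj : Function.Surjective φ := by
    intro x
    obtain ⟨r, rfl⟩ := IsLocalRing.residue_surjective x
    exact ⟨algebraMap R P.Ring r, φ.commutes r⟩
  let q : Ideal P.Ring := RingHom.ker φ.toRingHom
  have hqmax : q.IsMaximal := RingHom.ker_isMaximal_of_surjective φ.toRingHom hφsurj
  have hqover : q.LiesOver (maximalIdeal R) := by
    constructor
    ext r
    rw [Ideal.mem_comap]
    change _ ↔ φ (algebraMap R P.Ring r) = 0
    rw [φ.commutes]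
    exact (IsLocalRing.residue_eq_zero_iff r).symm
  have hsurj : Function.Surjective (algebraMap R q.ResidueField) := by
    intro x
    obtain ⟨s, rfl⟩ := Ideal.algebraMap_residueField_surjective q x
    obtain ⟨r, hr⟩ := IsLocalRing.residue_surjective (φ s)
    refine ⟨r, ?_⟩
    rw [IsScalarTower.algebraMap_apply R P.Ring q.ResidueField, ← sub_eq_zero, ← map_sub,
      Ideal.algebraMap_residueField_eq_zero]
    change φ (algebraMap R P.Ring r - s) = 0
    rw [map_sub, φ.commutes, sub_eq_zero]
    exact hr
  obtain ⟨τ⟩ := h P.Ring q hqover hsurj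
  have hτ : P.HasMap (τ P.X) := StandardEtalePair.hasMap_X.map τ
  refine ⟨τ P.X, ?_, ?_⟩
  · have := hτ.1
    rwa [coe_aeval_eq_eval] at this
  · have hunit : IsUnit (aeval (τ P.X) (derivative f * g₀)) := hτ.2
    rw [coe_aeval_eq_eval, eval_mul] at hunit
    have hunit₀ : IsUnit (g₀.eval (τ P.X)) := isUnit_of_mul_isUnit_right hunit
    change algebraMap R (ResidueField R) (τ P.X) = a₀
    have hne : gbar.eval (algebraMap R (ResidueField R) (τ P.X)) ≠ 0 := by
      rw [← hg₀map, eval_map_apply]
      exact (hunit₀.map (algebraMap R (ResidueField R))).ne_zero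
    have hzero : fbar.eval (algebraMap R (ResidueField R) (τ P.X)) = 0 := by
      rw [hfbar, eval_map_apply]
      have := hτ.1
      rw [coe_aeval_eq_eval] at this
      rw [this, map_zero]
    rw [← hfg, eval_mul, eval_sub, eval_X, eval_C] at hzero
    rcases mul_eq_zero.1 hzero with h0 | h0
    · exact sub_eq_zero.1 h0
    · exact absurd h0 hne

end Groth.Agent.S0502
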