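import Mathlib
import Groth.Statements.S0504
import Groth.Agent.Lib.Helper9.HenselSplit

set_option autoImplicit false
universe u
open Hensel

namespace Groth.Agent.S0504

open IsLocalRing Groth.Agent.Lib.Helper9

/-- A finite-type algebra `S` over a henselian local ring `R` contains an idempotent `e` such that
`S/(1-e)` is finitely generated as an `R`-module and `R → S/(e)` is quasi-finite at no prime lying
over the maximal ideal of `R`. -/
theorem result (R : Type u) [CommRing R] [HenselianLocalRing R]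
    (S : Type u) [CommRing S] [Algebra R S] [Algebra.FiniteType R S] :
    ∃ e : S, IsIdempotentElem e ∧ Module.Finite R (S ⧸ Ideal.span ({1 - e} : Set S)) ∧
      ∀ (q : Ideal (S ⧸ Ideal.span ({e} : Set S))) [q.IsPrime],
        q.LiesOver (IsLocalRing.maximalIdeal R) → ¬ Algebra.QuasiFiniteAt R q := by
  classical
  have hTfin := finite_quasiFiniteAt_primesOver (R := R) (S := S) (maximalIdeal R)
  set T : Set (Ideal S) := {q : Ideal S | ∃ (_ : q.IsPrime),
    q.LiesOver (maximalIdeal R) ∧ Algebra.QuasiFiniteAt R q} with hT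
  have hex : ∀ q : Ideal S, ∃ e : S, q ∈ T →
      IsIdempotentElem e ∧ e ∉ q ∧ Module.Finite R (Localization.Away e) := by
    intro q
    by_cases hq : q ∈ T
    · obtain ⟨h1, h2, h3⟩ := hq
      obtain ⟨e, he, heq, hfin, -⟩ := exists_idempotent_of_quasiFiniteAt (R := R) q
      exact ⟨e, fun _ => ⟨he, heq, hfin⟩⟩
    · exact ⟨0, fun h => absurd h hq⟩
  choose e he using hex
  obtain ⟨E, hE, hEfin, hEe, -⟩ := exists_idempotent_union (R := R) hTfin.toFinset e
    (fun q hq => (he q (hTfin.mem_toFinset.1 hq)).1)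
    (fun q hq => (he q (hTfin.mem_toFinset.1 hq)).2.2)
  refine ⟨E, hE, hEfin, ?_⟩
  intro q' hq'prime hq'm hqf
  set Q : Ideal S := q'.comap (Ideal.Quotient.mk (Ideal.span {E})) with hQ
  have hQprime : Q.IsPrime := Ideal.comap_isPrime _ _
  have hEQ : E ∈ Q := by
    rw [hQ, Ideal.mem_comap, Ideal.Quotient.eq_zero_iff_mem.2 (Ideal.mem_span_singleton_self E)]
    exact q'.zero_mem
  have hQm : Q.LiesOver (maximalIdeal R) := by
    constructor
    rw [hq'm.over, hQ, Ideal.under, Ideal.under, Ideal.comap_comap]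
    rfl
  have hQqf : Algebra.QuasiFiniteAt R Q := quasiFiniteAt_of_quotient_idempotent hE q' Q hQ
  have hQT : Q ∈ T := ⟨hQprime, hQm, hQqf⟩
  apply (he Q hQT).2.1
  rw [← hEe Q (hTfin.mem_toFinset.2 hQT)]
  exact Q.mul_mem_left _ hEQ

end Groth.Agent.S0504
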