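import Groth.Statements.S0513
import Groth.Agent.Lib.Helper87.HensProps
import Groth.Agent.Lib.Helper87.HensNoeth
import Groth.Agent.Lib.Helper87.HensDim
import Groth.Agent.S0565

set_option autoImplicit false
universe u
open Hensel

namespace Groth.Agent.S0513

/-- A Noetherian local ring is regular exactly when its henselization is a regular local ring. -/
theorem result (R : Type u) [CommRing R] [IsLocalRing R] (S : Type u) [CommRing S] [IsLocalRing S]
    [Algebra R S] [IsLocalHom (algebraMap R S)] [Hensel.IsHenselization R S] [IsNoetherianRing R] :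
    IsRegularLocalRing R ↔ IsRegularLocalRing S := by
  obtain ⟨e⟩ := Groth.Agent.Lib.Helper87.Hens.nonempty_algEquiv_Hh R S
  have hN : IsNoetherianRing S := by
    have := Groth.Agent.Lib.Helper87.Hens.Hh.isNoetherianRing R
    exact isNoetherianRing_of_ringEquiv _ e.symm.toRingEquiv
  have hdim : ringKrullDim S = ringKrullDim R := by
    rw [ringKrullDim_eq_of_ringEquiv e.toRingEquiv]
    exact Groth.Agent.Lib.Helper87.Hens.H.ringKrullDim_eq
  constructor
  · intro h
    apply IsRegularLocalRing.of_spanFinrank_maximalIdeal_le
    rw [hdim, ← Groth.Agent.Lib.Helper87.Hens.map_maximalIdeal_of_isHenselization R S,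
      ← h.spanFinrank_maximalIdeal]
    exact_mod_cast Ideal.spanFinrank_map_le_of_fg (algebraMap R S)
      (IsNoetherian.noetherian (IsLocalRing.maximalIdeal R))
  · intro h
    have := Groth.Agent.Lib.Helper87.Hens.flat_of_isHenselization R S
    exact Groth.Agent.S0565.result R S

end Groth.Agent.S0513
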