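import Mathlib
import Groth.Statements.S0516
import Groth.Agent.Lib.Helper9.HenselSplit
import Groth.Agent.S0503

set_option autoImplicit false
universe u
open Hensel

namespace Groth.Agent.S0516

open IsLocalRing Groth.Agent.Lib.Helper9

/-- An unramified algebra `S` (formally unramified of finite type) over a strictly henselian local ring
`R` is isomorphic over `R` to a product of finitely many quotient rings of `R` and an `R`-algebra in
which the maximal ideal of `R` generates the unit ideal. -/
theorem result (R : Type u) [CommRing R]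
    [HenselianLocalRing R] [IsSepClosed (IsLocalRing.ResidueField R)] (S : Type u) [CommRing S] [Algebra R S]
    [Algebra.Unramified R S] :
    ∃ (ι : Type u) (_ : Fintype ι) (A : ι → Type u) (_ : ∀ i, CommRing (A i))
      (_ : ∀ i, Algebra R (A i)) (B : Type u) (_ : CommRing B) (_ : Algebra R B),
      (∀ i, Function.Surjective (algebraMap R (A i))) ∧
      Ideal.map (algebraMap R B) (IsLocalRing.maximalIdeal R) = ⊤ ∧
      Nonempty (S ≃ₐ[R] ((∀ i, A i) × B)) := by
  obtain ⟨E, hE, hEfin, hEtop⟩ := Groth.Agent.S0503.result R S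
  set S₁ := S ⧸ Ideal.span ({1 - E} : Set S) with hS₁
  obtain ⟨n, e, he, hloc⟩ := exists_completeOrthogonalIdempotents_of_finite (R := R) S₁
  let A : Fin n → Type u := fun i => S₁ ⧸ Ideal.span {1 - e i}
  have hsurj : ∀ i, Function.Surjective (algebraMap R (A i)) := by
    intro i
    have : IsLocalRing (A i) := hloc i
    exact surjective_of_finite_unramified_of_isSepClosed
  let f₁ : S ≃ₐ[R] S₁ × (S ⧸ Ideal.span ({E} : Set S)) :=
    AlgEquiv.prodQuotientOfIsIdempotentElem R hE.one_sub hE (by ring) (by
      rw [sub_mul, one_mul, hE.eq, sub_self])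
  let f₂ : S₁ ≃ₐ[R] (∀ i, A i) :=
    AlgEquiv.ofBijective (AlgHom.pi (fun i => Ideal.Quotient.mkₐ R _)) he.bijective_pi
  let f₃ : (∀ i, A i) ≃ₐ[R] (∀ i : ULift.{u} (Fin n), A i.down) :=
    AlgEquiv.piCongrLeft' R A Equiv.ulift.symm
  refine ⟨ULift.{u} (Fin n), inferInstance, fun i => A i.down, fun i => inferInstance,
    fun i => inferInstance, S ⧸ Ideal.span ({E} : Set S), inferInstance, inferInstance,
    fun i => hsurj i.down, hEtop, ⟨?_⟩⟩
  exact f₁.trans (AlgEquiv.prodCongr (f₂.trans f₃) AlgEquiv.refl)

end Groth.Agent.S0516
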