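import Mathlib
import Groth.Statements.S0517
import Groth.Agent.Lib.Helper9.HenselSplit

set_option autoImplicit false
universe u
open Hensel

namespace Groth.Agent.S0517

open IsLocalRing Groth.Agent.Lib.Helper9

section aux

variable {R : Type u} [CommRing R] {n : ℕ} (P : Fin n → MvPolynomial (Fin n) R)

/-- The algebra map out of the quotient attached to a solution. -/
noncomputable def liftB {T : Type u} [CommRing T] [Algebra R T] (x : Fin n → T)
    (hx : ∀ i, MvPolynomial.aeval x (P i) = 0) :
    (MvPolynomial (Fin n) R ⧸ Ideal.span (Set.range P)) →ₐ[R] T :=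
  Ideal.Quotient.liftₐ _ (MvPolynomial.aeval x) (by
    intro p hp
    have : Ideal.span (Set.range P) ≤ RingHom.ker (MvPolynomial.aeval x : _ →ₐ[R] T).toRingHom := by
      rw [Ideal.span_le]
      rintro _ ⟨i, rfl⟩
      exact hx i
    exact this hp)

theorem liftB_mk {T : Type u} [CommRing T] [Algebra R T] (x : Fin n → T)
    (hx : ∀ i, MvPolynomial.aeval x (P i) = 0) (p : MvPolynomial (Fin n) R) :
    liftB P x hx (Ideal.Quotient.mk _ p) = MvPolynomial.aeval x p := rfl

theorem aeval_point {T : Type u} [CommRing T] [Algebra R T]
    (f : (MvPolynomial (Fin n) R ⧸ Ideal.span (Set.range P)) →ₐ[R] T)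
    (p : MvPolynomial (Fin n) R) :
    MvPolynomial.aeval (fun i => f (Ideal.Quotient.mk _ (MvPolynomial.X i))) p =
      f (Ideal.Quotient.mk _ p) := by
  have : MvPolynomial.aeval (fun i => f (Ideal.Quotient.mk _ (MvPolynomial.X i))) =
      f.comp (Ideal.Quotient.mkₐ R (Ideal.span (Set.range P))) := by
    apply MvPolynomial.algHom_ext
    intro i
    simp
  rw [this]
  rfl

theorem aeval_point_P {T : Type u} [CommRing T] [Algebra R T]
    (f : (MvPolynomial (Fin n) R ⧸ Ideal.span (Set.range P)) →ₐ[R] T) (i : Fin n) :
    MvPolynomial.aeval (fun j => f (Ideal.Quotient.mk _ (MvPolynomial.X j))) (P i) = 0 := by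
  have h0 : Ideal.Quotient.mk (Ideal.span (Set.range P)) (P i) = 0 :=
    Ideal.Quotient.eq_zero_iff_mem.2 (Ideal.subset_span (Set.mem_range_self i))
  rw [aeval_point, h0, map_zero]

end aux

/-- Given strictly henselian local rings `R` and `S`, a local ring map `φ` between them, and a square
system of `n` polynomial equations in `n` unknowns over `R` whose quotient algebra is étale over
`R`, applying `φ` coordinatewise matches the solutions of the system in `Rⁿ` bijectively with the
solutions of the transported system in `Sⁿ`. -/
theorem result (R : Type u) [CommRing R]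
    [HenselianLocalRing R] [IsSepClosed (IsLocalRing.ResidueField R)] (S : Type u) [CommRing S]
    [HenselianLocalRing S] [IsSepClosed (IsLocalRing.ResidueField S)] (φ : R →+* S) [IsLocalHom φ] (n : ℕ)
    (P : Fin n → MvPolynomial (Fin n) R)
    [Algebra.Etale R (MvPolynomial (Fin n) R ⧸ Ideal.span (Set.range P))] :
    Set.BijOn (fun r : Fin n → R => φ ∘ r)
      {r : Fin n → R | ∀ i, MvPolynomial.eval r (P i) = 0}
      {s : Fin n → S | ∀ i, MvPolynomial.eval s (MvPolynomial.map φ (P i)) = 0} := by
  let _ : Algebra R S := φ.toAlgebra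
  have hloc : IsLocalHom (algebraMap R S) := ‹IsLocalHom φ›
  have hevalS : ∀ (s : Fin n → S) (p : MvPolynomial (Fin n) R),
      MvPolynomial.eval s (MvPolynomial.map φ p) = MvPolynomial.aeval s p := by
    intro s p
    rw [MvPolynomial.eval_map, MvPolynomial.aeval_def]
    rfl
  have hevalR : ∀ (r : Fin n → R) (p : MvPolynomial (Fin n) R),
      MvPolynomial.eval r p = MvPolynomial.aeval r p := by
    intro r p
    rw [← MvPolynomial.coe_aeval_eq_eval]
    rfl
  have hφeval : ∀ (r : Fin n → R) (p : MvPolynomial (Fin n) R),
      MvPolynomial.aeval (φ ∘ r) p = φ (MvPolynomial.aeval r p) := by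
    intro r p
    have := MvPolynomial.aeval_algebraMap_apply (R := R) (A := R) (B := S) r p
    simpa [Function.comp_def, RingHom.algebraMap_toAlgebra] using this
  refine ⟨?_, ?_, ?_⟩
  · intro r hr i
    simp only [Set.mem_ofPred_eq] at hr
    rw [hevalS, hφeval, ← hevalR, hr i, map_zero]
  · intro r hr r' hr' hrr'
    simp only [Set.mem_ofPred_eq] at hr hr'
    have hrr'' : ∀ i, φ (r i) = φ (r' i) := fun i => congrFun hrr' i
    let f := liftB P r (fun i => by rw [← hevalR]; exact hr i)
    let f' := liftB P r' (fun i => by rw [← hevalR]; exact hr' i)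
    have hres : ∀ i, residue R (r i) = residue R (r' i) := by
      intro i
      rw [← sub_eq_zero, ← map_sub, residue_eq_zero_iff]
      have h0 : φ (r i - r' i) = 0 := by rw [map_sub, hrr'' i, sub_self]
      by_contra hne
      have hu : IsUnit (r i - r' i) := by
        rw [mem_maximalIdeal, mem_nonunits_iff, not_not] at hne
        exact hne
      have := hu.map φ
      rw [h0] at this
      exact not_isUnit_zero this
    have hff' : f = f' := by
      apply algHom_ext_of_residue_eq
      intro b
      obtain ⟨p, rfl⟩ := Ideal.Quotient.mk_surjective b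
      change residue R (MvPolynomial.aeval r p) = residue R (MvPolynomial.aeval r' p)
      have h1 := MvPolynomial.aeval_algebraMap_apply (R := R) (A := R) (B := ResidueField R) r p
      have h2 := MvPolynomial.aeval_algebraMap_apply (R := R) (A := R) (B := ResidueField R) r' p
      rw [ResidueField.algebraMap_eq] at h1 h2
      rw [← h1, ← h2]
      have : (residue R : R → ResidueField R) ∘ r = (residue R : R → ResidueField R) ∘ r' := by
        funext i
        exact hres i
      rw [this]
    funext i
    have := congrArg (fun h => h (Ideal.Quotient.mk _ (MvPolynomial.X i))) hff'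
    simpa [f, f', liftB_mk] using this
  · intro s hs
    simp only [Set.mem_ofPred_eq] at hs
    let g := liftB P s (fun i => by rw [← hevalS]; exact hs i)
    obtain ⟨t, ht⟩ := exists_algHom_comp_eq_of_isSepClosed g
    refine ⟨fun i => t (Ideal.Quotient.mk _ (MvPolynomial.X i)), ?_, ?_⟩
    · intro i
      rw [hevalR]
      exact aeval_point_P P t i
    · funext i
      have := congrArg (fun h => h (Ideal.Quotient.mk _ (MvPolynomial.X i))) ht
      simp only [AlgHom.comp_apply, g, liftB_mk, MvPolynomial.aeval_X] at this
      rw [← this]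
      rfl

end Groth.Agent.S0517
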