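import Mathlib
import Groth.Statements.S0519
import Groth.Agent.Lib.Helper9.HenselSplit
import Groth.Agent.S0505

set_option autoImplicit false
universe u
open Hensel

namespace Groth.Agent.S0519

open IsLocalRing TensorProduct Groth.Agent.Lib.Helper9

theorem mem_map_of_one_tmul_eq_zero {R : Type*} [CommRing R] [IsLocalRing R]
    {S : Type*} [CommRing S] [Algebra R S] (x : S)
    (hx : (1 : ResidueField R) ⊗ₜ[R] x = 0) :
    x ∈ (maximalIdeal R).map (algebraMap R S) := by
  have h1 : Algebra.TensorProduct.quotIdealMapEquivQuotTensor S (maximalIdeal R)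
      (Ideal.Quotient.mk _ x) = 0 := by
    rw [Algebra.TensorProduct.quotIdealMapEquivQuotTensor_mk]
    exact hx
  rw [EmbeddingLike.map_eq_zero_iff] at h1
  exact Ideal.Quotient.eq_zero_iff_mem.1 h1

theorem exists_one_tmul_eq {R : Type*} [CommRing R] [IsLocalRing R]
    {S : Type*} [CommRing S] [Algebra R S] (z : ResidueField R ⊗[R] S) :
    ∃ y : S, z = (1 : ResidueField R) ⊗ₜ[R] y := by
  induction z with
  | zero => exact ⟨0, by simp⟩
  | tmul a b =>
    obtain ⟨r, rfl⟩ := residue_surjective a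
    refine ⟨r • b, ?_⟩
    rw [TensorProduct.tmul_smul, TensorProduct.smul_tmul', Algebra.smul_def, mul_one]
    rfl
  | add x y hx hy =>
    obtain ⟨x', rfl⟩ := hx
    obtain ⟨y', rfl⟩ := hy
    exact ⟨x' + y', by rw [TensorProduct.tmul_add]⟩

theorem component_lift {R : Type u} [CommRing R] [HenselianLocalRing R]
    {A : Type u} [CommRing A] [Algebra R A] [Algebra.Etale R A]
    {S₂ : Type u} [CommRing S₂] [Algebra R S₂] [Module.Finite R S₂] [Algebra.FormallyUnramified R S₂]
    (I : Ideal S₂) [IsLocalRing (S₂ ⧸ I)]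
    (ψ₀ : A →ₐ[R] (ResidueField R ⊗[R] S₂)) :
    ∃ φ : A →ₐ[R] S₂ ⧸ I, ∀ (a : A) (y : S₂), ψ₀ a = (1 : ResidueField R) ⊗ₜ[R] y →
      Ideal.Quotient.mk I y - φ a ∈ (maximalIdeal R).map (algebraMap R (S₂ ⧸ I)) := by
  have : HenselianLocalRing (S₂ ⧸ I) := Groth.Agent.S0505.result R (S₂ ⧸ I)
  have : IsLocalHom (algebraMap R (S₂ ⧸ I)) := isLocalHom_of_isIntegral
  have : Algebra.FormallyUnramified R (S₂ ⧸ I) :=
    Algebra.FormallyUnramified.of_surjective (Ideal.Quotient.mkₐ R I) Ideal.Quotient.mk_surjective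
  let θ : ResidueField R ⊗[R] S₂ →ₐ[R] ResidueField (S₂ ⧸ I) :=
    Algebra.TensorProduct.lift (IsScalarTower.toAlgHom R (ResidueField R) (ResidueField (S₂ ⧸ I)))
      ((IsScalarTower.toAlgHom R (S₂ ⧸ I) (ResidueField (S₂ ⧸ I))).comp (Ideal.Quotient.mkₐ R I))
      (fun _ _ => Commute.all _ _)
  obtain ⟨φ, hφ⟩ := exists_lift_of_etale_of_algebra (θ.comp ψ₀)
  refine ⟨φ, fun a y hy => ?_⟩
  rw [Algebra.FormallyUnramified.map_maximalIdeal, ← residue_eq_zero_iff, map_sub, hφ,
    AlgHom.comp_apply, hy]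
  have : θ ((1 : ResidueField R) ⊗ₜ[R] y) = residue (S₂ ⧸ I) (Ideal.Quotient.mk I y) := by
    simp only [θ, Algebra.TensorProduct.lift_tmul, map_one, one_mul]
    rfl
  rw [this, sub_self]


theorem exists_lift_tensor {R : Type u} [CommRing R] [HenselianLocalRing R]
    {A : Type u} [CommRing A] [Algebra R A] [Algebra.Etale R A]
    {S₂ : Type u} [CommRing S₂] [Algebra R S₂] [Module.Finite R S₂] [Algebra.FormallyUnramified R S₂]
    (ψ₀ : A →ₐ[R] (ResidueField R ⊗[R] S₂)) :
    ∃ φ : A →ₐ[R] S₂, ∀ a, (1 : ResidueField R) ⊗ₜ[R] φ a = ψ₀ a := by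
  classical
  obtain ⟨n, e, he, hloc⟩ := exists_completeOrthogonalIdempotents_of_finite (R := R) S₂
  have hex : ∀ j : Fin n, ∃ φ : A →ₐ[R] S₂ ⧸ Ideal.span {1 - e j}, ∀ (a : A) (y : S₂),
      ψ₀ a = (1 : ResidueField R) ⊗ₜ[R] y → Ideal.Quotient.mk (Ideal.span {1 - e j}) y - φ a ∈
        (maximalIdeal R).map (algebraMap R (S₂ ⧸ Ideal.span {1 - e j})) := by
    intro j
    have := hloc j
    exact component_lift (Ideal.span {1 - e j}) ψ₀
  choose φj hφj using hex
  let E : S₂ ≃ₐ[R] (∀ j : Fin n, S₂ ⧸ Ideal.span {1 - e j}) :=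
    AlgEquiv.ofBijective (AlgHom.pi (fun j => Ideal.Quotient.mkₐ R _)) he.bijective_pi
  let φ : A →ₐ[R] S₂ := E.symm.toAlgHom.comp (AlgHom.pi φj)
  have hEφ : ∀ a j, Ideal.Quotient.mk (Ideal.span {1 - e j}) (φ a) = φj j a := by
    intro a j
    have : E (φ a) = fun j => φj j a := by
      simp only [φ, AlgHom.comp_apply]
      exact E.apply_symm_apply _
    exact congrFun this j
  refine ⟨φ, fun a => ?_⟩
  obtain ⟨y, hy⟩ := exists_one_tmul_eq (ψ₀ a)
  rw [hy, ← sub_eq_zero, ← TensorProduct.tmul_sub]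
  apply one_tmul_eq_zero_of_mem_map
  set x := φ a - y with hx
  set M := (maximalIdeal R).map (algebraMap R S₂) with hM
  have hcomp : ∀ j, e j * x ∈ M := by
    intro j
    have h1 := hφj j a y hy
    rw [← hEφ a j, ← map_sub] at h1
    have h2 : (maximalIdeal R).map (algebraMap R (S₂ ⧸ Ideal.span {1 - e j})) =
        M.map (Ideal.Quotient.mk (Ideal.span {1 - e j})) := by
      rw [hM, Ideal.map_map]
      rfl
    rw [h2] at h1
    obtain ⟨u, hu, huy⟩ := (Ideal.mem_map_iff_of_surjective _ Ideal.Quotient.mk_surjective).1 h1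
    rw [Ideal.Quotient.eq, Ideal.mem_span_singleton'] at huy
    obtain ⟨c, hc⟩ := huy
    have h3 : e j * (u - (y - φ a)) = 0 := by
      rw [← hc, mul_comm c, ← mul_assoc, mul_sub, mul_one, (he.idem j).eq, sub_self, zero_mul]
    have h4 : e j * x = - (e j * u) := by
      have : e j * x = e j * (u - (y - φ a)) - e j * u := by rw [hx]; ring
      rw [this, h3, zero_sub]
    rw [h4]
    exact M.neg_mem (M.mul_mem_left _ hu)
  have hsum : x = ∑ j, e j * x := by
    rw [← Finset.sum_mul, he.complete, one_mul]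
  rw [hsum]
  exact M.sum_mem (fun j _ => hcomp j)


/-- Over a henselian local ring `R` with residue field `κ`, base change to `κ` gives a bijection between
`R`-algebra maps of two finite étale `R`-algebras and `κ`-algebra maps of their base changes. -/
theorem result (R : Type u) [CommRing R]
    [HenselianLocalRing R] (S₁ S₂ : Type u) [CommRing S₁] [CommRing S₂] [Algebra R S₁]
    [Algebra R S₂] [Module.Finite R S₁] [Algebra.Etale R S₁] [Module.Finite R S₂]
    [Algebra.Etale R S₂] :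
    Function.Bijective (fun φ : S₁ →ₐ[R] S₂ =>
      Algebra.TensorProduct.map (AlgHom.id (IsLocalRing.ResidueField R) (IsLocalRing.ResidueField R)) φ) := by
  constructor
  · intro φ φ' h
    simp only at h
    apply algHom_ext_of_sub_mem_jacobson
    intro a
    apply map_maximalIdeal_le_jacobson (R := R)
    have h1 := congrArg (fun f => f ((1 : ResidueField R) ⊗ₜ[R] a)) h
    simp only [Algebra.TensorProduct.map_tmul, AlgHom.coe_id, id_eq] at h1
    have h2 : (1 : ResidueField R) ⊗ₜ[R] (φ a - φ' a) = 0 := by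
      rw [TensorProduct.tmul_sub, h1, sub_self]
    exact mem_map_of_one_tmul_eq_zero _ h2
  · intro ψ
    obtain ⟨φ, hφ⟩ := exists_lift_tensor
      ((ψ.restrictScalars R).comp (Algebra.TensorProduct.includeRight : S₁ →ₐ[R] _))
    refine ⟨φ, ?_⟩
    apply Algebra.TensorProduct.ext
    · ext
    · ext a
      simp only [AlgHom.comp_apply, AlgHom.restrictScalars_apply,
        Algebra.TensorProduct.includeRight_apply, Algebra.TensorProduct.map_tmul,
        AlgHom.coe_id, id_eq]
      exact hφ a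

end Groth.Agent.S0519
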