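import Groth.Statements.S0529
import Mathlib

set_option autoImplicit false
universe u
open Hensel

namespace Groth.Agent.S0529

open Polynomial

section aux
variable {J : Type u} {A : J → Type u} [∀ j, CommRing (A j)]

theorem mem_iInf_comap {I : ∀ j, Ideal (A j)} {x : ∀ j, A j} :
    x ∈ (⨅ j, Ideal.comap (Pi.evalRingHom A j) (I j)) ↔ ∀ j, x j ∈ I j := by
  simp [Ideal.mem_comap]

theorem eval_apply (F : (∀ j, A j)[X]) (a : ∀ j, A j) (i : J) :
    (F.eval a) i = (F.map (Pi.evalRingHom A i)).eval (a i) :=
  (Polynomial.eval_map_apply (Pi.evalRingHom A i) a).symm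

theorem exists_poly (n : ℕ) (P : ∀ i, (A i)[X]) (hP : ∀ i, (P i).natDegree ≤ n) :
    ∃ F : (∀ i, A i)[X], F.natDegree ≤ n ∧ ∀ i, F.map (Pi.evalRingHom A i) = P i := by
  refine ⟨∑ k ∈ Finset.range (n + 1), C (fun i => (P i).coeff k) * X ^ k, ?_, ?_⟩
  · refine Polynomial.natDegree_sum_le_of_forall_le _ _ fun k hk => ?_
    exact (Polynomial.natDegree_C_mul_X_pow_le _ _).trans (Nat.lt_succ_iff.1 (Finset.mem_range.1 hk))
  · intro i
    rw [Polynomial.map_sum]
    conv_rhs => rw [(P i).as_sum_range_C_mul_X_pow' (Nat.lt_succ_of_le (hP i))]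
    refine Finset.sum_congr rfl fun k _ => ?_
    rw [Polynomial.map_mul, Polynomial.map_C, Polynomial.map_pow, Polynomial.map_X]
    rfl

end aux

theorem mpr_dir (J : Type u) (A : J → Type u) [∀ j, CommRing (A j)]
    (I : ∀ j, Ideal (A j)) (h : ∀ j, HenselianRing (A j) (I j)) :
    HenselianRing (∀ j, A j) (⨅ j, Ideal.comap (Pi.evalRingHom A j) (I j)) := by
  refine ⟨?_, ?_⟩
  · intro x hx
    rw [mem_iInf_comap] at hx
    rw [Ideal.mem_jacobson_bot]
    intro y
    rw [Pi.isUnit_iff]
    intro j
    have := (h j).jac (hx j)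
    rw [Ideal.mem_jacobson_bot] at this
    exact this (y j)
  · intro F hF a₀ h₁ h₂
    rw [mem_iInf_comap] at h₁
    obtain ⟨b, hb⟩ := h₂.exists_right_inv
    obtain ⟨b, rfl⟩ := Ideal.Quotient.mk_surjective b
    rw [← map_mul, ← map_one (Ideal.Quotient.mk _), Ideal.Quotient.eq, mem_iInf_comap] at hb
    have key : ∀ j, ∃ a : A j, (F.map (Pi.evalRingHom A j)).IsRoot a ∧ a - a₀ j ∈ I j := by
      intro j
      refine (h j).is_henselian (F.map (Pi.evalRingHom A j)) (hF.map _) (a₀ j) ?_ ?_
      · rw [← eval_apply]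
        exact h₁ j
      · refine IsUnit.of_mul_eq_one (Ideal.Quotient.mk (I j) (b j)) ?_
        rw [← map_mul, ← map_one (Ideal.Quotient.mk (I j)), Ideal.Quotient.eq,
          Polynomial.derivative_map, ← eval_apply]
        exact hb j
    choose a ha ha' using key
    refine ⟨a, ?_, ?_⟩
    · rw [Polynomial.IsRoot]
      funext j
      rw [eval_apply]
      exact ha j
    · rw [mem_iInf_comap]
      exact ha'

theorem mp_dir (J : Type u) (A : J → Type u) [∀ j, CommRing (A j)]
    (I : ∀ j, Ideal (A j))
    (h : HenselianRing (∀ j, A j) (⨅ j, Ideal.comap (Pi.evalRingHom A j) (I j))) (j : J) :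
    HenselianRing (A j) (I j) := by
  classical
  have hjac : I j ≤ Ideal.jacobson ⊥ := by
    intro x hx
    rw [Ideal.mem_jacobson_bot]
    intro y
    have hX : Pi.single j x ∈ ⨅ j, Ideal.comap (Pi.evalRingHom A j) (I j) := by
      rw [mem_iInf_comap]
      intro i
      by_cases hij : i = j
      · subst hij
        simpa using hx
      · rw [Pi.single_eq_of_ne hij]
        exact (I i).zero_mem
    have := h.jac hX
    rw [Ideal.mem_jacobson_bot] at this
    have h2 := (Pi.isUnit_iff.1 (this (Pi.single j y))) j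
    simpa using h2
  refine ⟨hjac, ?_⟩
  intro f hf a₀ h₁ h₂
  rcases Nat.eq_zero_or_pos f.natDegree with hn | hn
  · have hf1 : f = 1 := hf.natDegree_eq_zero.1 hn
    rw [hf1, eval_one] at h₁
    have h1j : (1 : A j) ∈ Ideal.jacobson ⊥ := hjac h₁
    rw [Ideal.mem_jacobson_bot] at h1j
    have h0 := h1j (-1)
    have hsub : Subsingleton (A j) := by
      have : IsUnit (0 : A j) := by simpa using h0
      exact subsingleton_of_zero_eq_one (isUnit_zero_iff.1 this)
    exact ⟨a₀, Subsingleton.elim _ _, by rw [sub_self]; exact (I j).zero_mem⟩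
  · obtain ⟨b, hb⟩ := h₂.exists_right_inv
    obtain ⟨b, rfl⟩ := Ideal.Quotient.mk_surjective b
    rw [← map_mul, ← map_one (Ideal.Quotient.mk _), Ideal.Quotient.eq] at hb
    set n := f.natDegree with hn_def
    let P : ∀ i, (A i)[X] := Function.update (fun i => X ^ n - X ^ (n - 1)) j f
    have hPj : P j = f := Function.update_self ..
    have hPi : ∀ i, i ≠ j → P i = X ^ n - X ^ (n - 1) := by
      intro i hij
      simp only [P]
      rw [Function.update_of_ne hij]
    have hPdeg : ∀ i, (P i).natDegree ≤ n := by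
      intro i
      by_cases hij : i = j
      · subst hij
        rw [hPj]
      · rw [hPi i hij]
        have := Polynomial.natDegree_sub_le_of_le (Polynomial.natDegree_X_pow_le (R := A i) n)
          ((Polynomial.natDegree_X_pow_le (R := A i) (n - 1)).trans (Nat.sub_le _ _))
        simpa using this
    have hPcoeff : ∀ i, (P i).coeff n = 1 := by
      intro i
      by_cases hij : i = j
      · subst hij
        rw [hPj]
        exact hf.coeff_natDegree
      · rw [hPi i hij, Polynomial.coeff_sub, Polynomial.coeff_X_pow, Polynomial.coeff_X_pow,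
          if_pos rfl, if_neg (by omega), sub_zero]
    obtain ⟨F, hFdeg, hFmap⟩ := exists_poly n P hPdeg
    have hFm : F.Monic := by
      refine Polynomial.monic_of_natDegree_le_of_coeff_eq_one n hFdeg ?_
      funext i
      have : (F.coeff n) i = (F.map (Pi.evalRingHom A i)).coeff n := by
        rw [Polynomial.coeff_map]
        rfl
      rw [this, hFmap, hPcoeff]
      rfl
    let a₀' : ∀ i, A i := Function.update (fun i => (1 : A i)) j a₀
    let b' : ∀ i, A i := Function.update (fun i => (1 : A i)) j b
    have h₁' : F.eval a₀' ∈ ⨅ j, Ideal.comap (Pi.evalRingHom A j) (I j) := by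
      rw [mem_iInf_comap]
      intro i
      rw [eval_apply, hFmap]
      by_cases hij : i = j
      · subst hij
        rw [hPj]
        simpa [a₀'] using h₁
      · rw [hPi i hij]
        simp [a₀', Function.update_of_ne hij]
    have h₂' : IsUnit (Ideal.Quotient.mk (⨅ j, Ideal.comap (Pi.evalRingHom A j) (I j))
        (F.derivative.eval a₀')) := by
      refine IsUnit.of_mul_eq_one (Ideal.Quotient.mk _ b') ?_
      rw [← map_mul, ← map_one (Ideal.Quotient.mk _), Ideal.Quotient.eq, mem_iInf_comap]
      intro i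
      rw [Pi.sub_apply, Pi.mul_apply, eval_apply, ← Polynomial.derivative_map, hFmap]
      by_cases hij : i = j
      · subst hij
        rw [hPj]
        simpa [a₀', b'] using hb
      · rw [hPi i hij, Polynomial.derivative_sub, Polynomial.derivative_X_pow,
          Polynomial.derivative_X_pow]
        have : ((n - 1 : ℕ) : A i) = (n : A i) - 1 := by
          rw [Nat.cast_sub hn, Nat.cast_one]
        simp [a₀', b', Function.update_of_ne hij, this]
    obtain ⟨a, ha, ha'⟩ := h.is_henselian F hFm a₀' h₁' h₂'
    rw [mem_iInf_comap] at ha'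
    refine ⟨a j, ?_, ?_⟩
    · rw [Polynomial.IsRoot, ← hPj, ← hFmap, ← eval_apply, ha.eq_zero]
      rfl
    · have := ha' j
      simpa [a₀'] using this

/-- A product of rings, with the product ideal, is Henselian exactly when every factor is Henselian at
its ideal. -/
theorem result (J : Type u) (A : J → Type u) [∀ j, CommRing (A j)]
    (I : ∀ j, Ideal (A j)) :
    HenselianRing (∀ j, A j) (⨅ j, Ideal.comap (Pi.evalRingHom A j) (I j)) ↔
      ∀ j, HenselianRing (A j) (I j) :=
  ⟨fun h j => mp_dir J A I h j, fun h => mpr_dir J A I h⟩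

end Groth.Agent.S0529
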