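import Groth.Statements.S0530
import Mathlib

set_option autoImplicit false
universe u
open Hensel

namespace Groth.Agent.S0530

/-- If `A` is Henselian at `I` and `p` is a prime ideal of `A`, then the spectrum of `A/(p + I)` is
connected. -/
theorem result (A : Type u) [CommRing A] (I : Ideal A) [HenselianRing A I]
    (p : Ideal A) [p.IsPrime] : ConnectedSpace (PrimeSpectrum (A ⧸ p ⊔ I)) := by
  have hjac : I ≤ Ideal.jacobson ⊥ := HenselianRing.jac
  have hne : p ⊔ I ≠ ⊤ := by
    intro htop
    have h1 : (1 : A) ∈ p ⊔ I := by rw [htop]; trivial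
    obtain ⟨x, hx, y, hy, hxy⟩ := Submodule.mem_sup.1 h1
    have hyj := hjac hy
    rw [Ideal.mem_jacobson_bot] at hyj
    have hu := hyj (-1)
    have : y * -1 + 1 = x := by linear_combination -hxy
    rw [this] at hu
    exact ‹p.IsPrime›.ne_top (Ideal.eq_top_of_isUnit_mem _ hx hu)
  have hnt : Nontrivial (A ⧸ p ⊔ I) := Ideal.Quotient.nontrivial_iff.2 hne
  have hntA : Nontrivial A := (Ideal.Quotient.mk (p ⊔ I)).domain_nontrivial
  rw [connectedSpace_iff_clopen]
  refine ⟨inferInstance, ?_⟩
  intro s hs
  obtain ⟨e, he, rfl⟩ := PrimeSpectrum.isClopen_iff.1 hs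
  obtain ⟨e, rfl⟩ := Ideal.Quotient.mk_surjective e
  have hee : e * e - e ∈ p ⊔ I := by
    rw [← Ideal.Quotient.eq, map_mul]
    exact he
  obtain ⟨x, hx, i, hi, hxi⟩ := Submodule.mem_sup.1 hee
  -- the polynomial T^2 - T - i
  let f : Polynomial A := Polynomial.X ^ 2 - Polynomial.X - Polynomial.C i
  have hfm : f.Monic := by
    have : f = Polynomial.X ^ 2 - (Polynomial.X + Polynomial.C i) := by simp only [f]; ring
    rw [this]
    apply Polynomial.monic_X_pow_sub
    rw [Polynomial.degree_X_add_C]
    norm_num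
  have hf0 : f.eval 0 ∈ I := by
    simp only [f, Polynomial.eval_sub, Polynomial.eval_pow, Polynomial.eval_X, Polynomial.eval_C]
    simpa using hi
  have hf0' : IsUnit (Ideal.Quotient.mk I (f.derivative.eval 0)) := by
    have : f.derivative.eval 0 = -1 := by
      simp [f]
    rw [this, map_neg, map_one]
    exact isUnit_one.neg
  obtain ⟨a, ha, haI⟩ := HenselianRing.is_henselian f hfm 0 hf0 hf0'
  rw [sub_zero] at haI
  have hai : a * a - a = i := by
    have := ha
    simp only [f, Polynomial.IsRoot, Polynomial.eval_sub, Polynomial.eval_pow, Polynomial.eval_X,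
      Polynomial.eval_C] at this
    linear_combination this
  have hprod : (e - a) * (e - (1 - a)) ∈ p := by
    have : (e - a) * (e - (1 - a)) = x := by
      linear_combination hxi.symm - hai
    rw [this]; exact hx
  rcases ‹p.IsPrime›.mem_or_mem hprod with h | h
  · left
    have h0 : Ideal.Quotient.mk (p ⊔ I) e = 0 := by
      rw [Ideal.Quotient.eq_zero_iff_mem]
      have : e = (e - a) + a := by ring
      rw [this]
      exact Submodule.add_mem_sup h haI
    rw [h0, PrimeSpectrum.basicOpen_zero]
    rfl
  · right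
    have h1 : Ideal.Quotient.mk (p ⊔ I) e = 1 := by
      rw [← map_one (Ideal.Quotient.mk (p ⊔ I)), Ideal.Quotient.eq]
      have : e - 1 = (e - (1 - a)) + (-a) := by ring
      rw [this]
      exact Submodule.add_mem_sup h (I.neg_mem haI)
    rw [h1, PrimeSpectrum.basicOpen_one]
    rfl

end Groth.Agent.S0530
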