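import Groth.Statements.S0531
import Mathlib.Algebra.Polynomial.Div

set_option autoImplicit false
universe u
open Hensel

namespace Groth.Agent.S0531

open Polynomial in
theorem isUnit_of_isUnit_mk {A : Type u} [CommRing A] {I : Ideal A} (h : I ≤ Ideal.jacobson ⊥)
    {x : A} (hx : IsUnit (Ideal.Quotient.mk I x)) : IsUnit x := by
  haveI := isLocalHom_of_le_jacobson_bot I h
  exact isUnit_of_map_unit (Ideal.Quotient.mk I) x hx

theorem henselian_bot (A : Type u) [CommRing A] : HenselianRing A (⊥ : Ideal A) where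
  jac := bot_le
  is_henselian f _ a₀ h₁ _ := ⟨a₀, by simpa using h₁, by simp⟩

open Polynomial in
theorem henselian_sup {A : Type u} [CommRing A] {I J : Ideal A} (hI : HenselianRing A I)
    (hJ : HenselianRing A J) : HenselianRing A (I ⊔ J) where
  jac := sup_le hI.jac hJ.jac
  is_henselian f hf a₀ h₁ h₂ := by
    have hjac : I ⊔ J ≤ Ideal.jacobson ⊥ := sup_le hI.jac hJ.jac
    rcases subsingleton_or_nontrivial A with hA | hA
    · exact ⟨a₀, Subsingleton.elim _ _, by simp⟩
    have hu : IsUnit (f.derivative.eval a₀) := isUnit_of_isUnit_mk hjac h₂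
    have hdeg : f.natDegree ≠ 0 := by
      intro h0
      have hf1 : f = 1 := hf.natDegree_eq_zero.mp h0
      rw [hf1, eval_one] at h₁
      have h1 : (1 : A) ∈ Ideal.jacobson (⊥ : Ideal A) := hjac h₁
      rw [Ideal.mem_jacobson_bot] at h1
      have := h1 (-1)
      simp at this
    obtain ⟨i, hi, j, hj, hij⟩ := Submodule.mem_sup.mp h₁
    have hg : (f - C i).Monic := by
      apply hf.sub_of_left
      refine lt_of_le_of_lt degree_C_le ?_
      exact natDegree_pos_iff_degree_pos.mp (Nat.pos_of_ne_zero hdeg)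
    have hg1 : (f - C i).eval a₀ ∈ J := by
      rw [eval_sub, eval_C, ← hij]
      simpa using hj
    have hg2 : IsUnit (Ideal.Quotient.mk J ((f - C i).derivative.eval a₀)) := by
      rw [derivative_sub, derivative_C, sub_zero]
      exact hu.map _
    obtain ⟨a₁, ha₁, ha₁'⟩ := hJ.is_henselian (f - C i) hg a₀ hg1 hg2
    have hf1 : f.eval a₁ ∈ I := by
      have : (f - C i).eval a₁ = 0 := ha₁
      rw [eval_sub, eval_C, sub_eq_zero] at this
      rw [this]
      exact hi
    have hu1 : IsUnit (f.derivative.eval a₁) := by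
      apply isUnit_of_isUnit_mk hJ.jac
      have : Ideal.Quotient.mk J (f.derivative.eval a₁) =
          Ideal.Quotient.mk J (f.derivative.eval a₀) := by
        rw [Ideal.Quotient.eq]
        exact Ideal.mem_of_dvd _ (sub_dvd_eval_sub a₁ a₀ f.derivative) ha₁'
      rw [this]
      exact hu.map _
    obtain ⟨a₂, ha₂, ha₂'⟩ := hI.is_henselian f hf a₁ hf1 (hu1.map _)
    refine ⟨a₂, ha₂, ?_⟩
    have : a₂ - a₀ = (a₂ - a₁) + (a₁ - a₀) := by ring
    rw [this]
    exact Submodule.add_mem_sup ha₂' ha₁'

theorem henselian_finset_sup {A : Type u} [CommRing A] (s : Finset (Ideal A))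
    (hs : ∀ J ∈ s, HenselianRing A J) : HenselianRing A (s.sup id) := by
  classical
  induction s using Finset.induction_on with
  | empty => simpa using henselian_bot A
  | insert J s hJs ih =>
    rw [Finset.sup_insert]
    exact henselian_sup (hs J (Finset.mem_insert_self _ _))
      (ih fun K hK => hs K (Finset.mem_insert_of_mem hK))

/-- Every ring has a largest ideal at which it is Henselian. -/
theorem result (A : Type u) [CommRing A] :
    ∃ I : Ideal A, HenselianRing A I ∧ ∀ J : Ideal A, HenselianRing A J → J ≤ I := by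
  refine ⟨sSup {J : Ideal A | HenselianRing A J}, ?_, fun J hJ => le_sSup hJ⟩
  have hjac : sSup {J : Ideal A | HenselianRing A J} ≤ Ideal.jacobson ⊥ :=
    sSup_le fun J hJ => hJ.jac
  refine ⟨hjac, fun f hf a₀ h₁ h₂ => ?_⟩
  have hu : IsUnit (f.derivative.eval a₀) := isUnit_of_isUnit_mk hjac h₂
  obtain ⟨s, hs, hmem⟩ := (Submodule.mem_sSup_iff_exists_finset).mp h₁
  have hH : HenselianRing A (s.sup id) := henselian_finset_sup s fun J hJ => hs hJ
  have hle : s.sup id ≤ sSup {J : Ideal A | HenselianRing A J} :=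
    Finset.sup_le fun J hJ => le_sSup (hs hJ)
  have hmem' : f.eval a₀ ∈ s.sup id := by
    rw [Finset.sup_eq_iSup]
    simpa using hmem
  obtain ⟨a, ha, ha'⟩ := hH.is_henselian f hf a₀ hmem' (hu.map _)
  exact ⟨a, ha, hle ha'⟩

end Groth.Agent.S0531
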