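import Groth.Statements.S0532
-- import your own Groth.Agent.* helpers here
import Groth.Agent.Lib.Helper58.EtaleLiftQuot
import Groth.Agent.Lib.Helper58.HenselPairZMT

set_option autoImplicit false
universe u
open Hensel

namespace Groth.Agent.S0532

/-- quotient by the kernel, with the kernel given as an explicit ideal. -/
theorem nonempty_quotient_algEquiv {A : Type*} [CommRing A] {X C : Type*} [CommRing X] [CommRing C]
    [Algebra A X] [Algebra A C] (φ : X →ₐ[A] C) (hφ : Function.Surjective φ) (J : Ideal X)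
    (h1 : ∀ z, φ z = 0 → z ∈ J) (h2 : ∀ z ∈ J, φ z = 0) : Nonempty ((X ⧸ J) ≃ₐ[A] C) := by
  have hker : J = RingHom.ker φ := by
    ext z
    exact ⟨fun hz => h2 z hz, fun hz => h1 z hz⟩
  exact ⟨(Ideal.quotientEquivAlgOfEq A hker).trans (Ideal.quotientKerAlgEquivOfSurjective hφ)⟩

/-- If `A` is Henselian at `I`, every finite étale `A/I`-algebra is the base change of a finite étale
`A`-algebra. -/
theorem result (A : Type u) [CommRing A] (I : Ideal A) [HenselianRing A I]
    (C : Type u) [CommRing C] [Algebra (A ⧸ I) C] [Module.Finite (A ⧸ I) C] [Algebra.Etale (A ⧸ I) C] :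
    ∃ (B : Type u) (_ : CommRing B) (_ : Algebra A B), Module.Finite A B ∧ Algebra.Etale A B ∧
      Nonempty (TensorProduct A (A ⧸ I) B ≃ₐ[A ⧸ I] C) := by
  let _ : Algebra A C := ((algebraMap (A ⧸ I) C).comp (Ideal.Quotient.mk I)).toAlgebra
  have _ : IsScalarTower A (A ⧸ I) C := IsScalarTower.of_algebraMap_eq (fun _ => rfl)
  have hfinC : Module.Finite A C := Module.Finite.trans (A ⧸ I) C
  obtain ⟨E, _, _, hEt, π, hπsurj, hπker⟩ :=
    Groth.Agent.Lib.Helper58.EtaleLift.exists_etale_lift_quotient I C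
  have hIC : ∀ (X : Type u) [CommRing X] [Algebra A X] (φ : X →ₐ[A] C),
      ∀ z ∈ I.map (algebraMap A X), φ z = 0 := by
    intro X _ _ φ z hz
    have : I.map (algebraMap A X) ≤ RingHom.ker φ.toRingHom := by
      rw [Ideal.map_le_iff_le_comap]
      intro a ha
      rw [Ideal.mem_comap, RingHom.mem_ker]
      change φ (algebraMap A X a) = 0
      rw [AlgHom.commutes]
      change algebraMap (A ⧸ I) C (Ideal.Quotient.mk I a) = 0
      rw [Ideal.Quotient.eq_zero_iff_mem.mpr ha, map_zero]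
    exact this hz
  obtain ⟨e₀⟩ := nonempty_quotient_algEquiv π hπsurj (I.map (algebraMap A E)) hπker (hIC E π)
  have hfinQ : Module.Finite A (E ⧸ I.map (algebraMap A E)) :=
    Module.Finite.equiv e₀.symm.toLinearEquiv
  have hft : Algebra.FiniteType A E := inferInstance
  obtain ⟨e, he, he1, hfin⟩ :=
    Groth.Agent.Lib.Helper58.HenselPair.exists_idempotent_finite_quotient I E
  -- `B = E / (1 - e)` is étale
  have hloc : IsLocalization.Away e (E ⧸ Ideal.span {1 - e}) := by
    refine IsLocalization.away_of_isIdempotentElem he ?_ Ideal.Quotient.mk_surjective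
    exact Ideal.mk_ker
  have hEtq : Algebra.Etale E (E ⧸ Ideal.span {1 - e}) := Algebra.Etale.of_isLocalizationAway e
  have hEtB : Algebra.Etale A (E ⧸ Ideal.span {1 - e}) := Algebra.Etale.comp A E _
  -- the map `B → C`
  have hker : ∀ z ∈ Ideal.span {1 - e}, π z = 0 := by
    intro z hz
    obtain ⟨c, rfl⟩ := Ideal.mem_span_singleton'.mp hz
    rw [map_mul, hIC E π _ he1, mul_zero]
  let π₂ : (E ⧸ Ideal.span {1 - e}) →ₐ[A] C := Ideal.Quotient.liftₐ _ π hker
  have hπ₂surj : Function.Surjective π₂ := by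
    intro c
    obtain ⟨z, rfl⟩ := hπsurj c
    exact ⟨Ideal.Quotient.mk _ z, rfl⟩
  have hπ₂ker : ∀ b, π₂ b = 0 → b ∈ I.map (algebraMap A (E ⧸ Ideal.span {1 - e})) := by
    intro b hb
    obtain ⟨z, rfl⟩ := Ideal.Quotient.mk_surjective b
    have hz : π z = 0 := hb
    have := Ideal.mem_map_of_mem (Ideal.Quotient.mk (Ideal.span {1 - e})) (hπker z hz)
    rw [Ideal.map_map] at this
    exact this
  obtain ⟨e₂⟩ := nonempty_quotient_algEquiv π₂ hπ₂surj _ hπ₂ker (hIC _ π₂)
  refine ⟨E ⧸ Ideal.span {1 - e}, inferInstance, inferInstance, hfin, hEtB, ?_⟩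
  let e₂' : ((E ⧸ Ideal.span {1 - e}) ⧸ I.map (algebraMap A (E ⧸ Ideal.span {1 - e}))) ≃ₐ[A ⧸ I] C :=
    AlgEquiv.extendScalarsOfSurjective (Ideal.Quotient.mk_surjective (I := I)) e₂
  exact ⟨(Algebra.TensorProduct.quotIdealMapEquivQuotTensor (E ⧸ Ideal.span {1 - e}) I).symm.trans e₂'⟩

end Groth.Agent.S0532
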