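import Groth.Statements.S0533
-- import your own Groth.Agent.* helpers here
import Groth.Agent.Lib.Helper58.HenselPairIdem
import Groth.Agent.Lib.Helper58.HenselPairUniq

set_option autoImplicit false
universe u
open Hensel

namespace Groth.Agent.S0533

/-- If `A` is Henselian at `I`, base change to `A/I` gives a bijection between `A`-algebra maps of two
finite étale `A`-algebras and `A/I`-algebra maps of their reductions. -/
theorem result (A : Type u) [CommRing A] (I : Ideal A) [HenselianRing A I]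
    (B₁ B₂ : Type u) [CommRing B₁] [CommRing B₂] [Algebra A B₁] [Algebra A B₂]
    [Module.Finite A B₁] [Algebra.Etale A B₁] [Module.Finite A B₂] [Algebra.Etale A B₂] :
    Function.Bijective (fun φ : B₁ →ₐ[A] B₂ =>
      Algebra.TensorProduct.map (AlgHom.id (A ⧸ I) (A ⧸ I)) φ) := by
  classical
  have hint : Algebra.IsIntegral A B₂ := Algebra.IsIntegral.of_finite A B₂
  have hH₂ : HenselianRing B₂ (I.map (algebraMap A B₂)) :=
    Groth.Agent.Lib.Helper58.HenselPair.henselian_of_isIntegral (A := A) (I := I) B₂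
  let e₂ := Algebra.TensorProduct.quotIdealMapEquivQuotTensor B₂ I
  have he₂ : ∀ b : B₂, e₂ (Ideal.Quotient.mk _ b) = (1 : A ⧸ I) ⊗ₜ[A] b := fun b => rfl
  constructor
  · intro φ ψ h
    apply Groth.Agent.Lib.Helper58.HenselPair.algHom_ext_of_sub_mem_jacobson
      (I.map (algebraMap A B₂)) hH₂.jac
    intro s
    have h1 := DFunLike.congr_fun h ((1 : A ⧸ I) ⊗ₜ[A] s)
    simp only [Algebra.TensorProduct.map_tmul, AlgHom.coe_id, id_eq] at h1
    rw [← he₂, ← he₂] at h1
    exact Ideal.Quotient.eq.1 (e₂.injective h1)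
  · intro χ
    let σ : B₁ →ₐ[A] B₂ ⧸ I.map (algebraMap A B₂) :=
      ((e₂.symm : _ →ₐ[A ⧸ I] _).restrictScalars A).comp
        ((χ.restrictScalars A).comp Algebra.TensorProduct.includeRight)
    obtain ⟨τ, hτ⟩ := Groth.Agent.Lib.Helper58.HenselPair.exists_etale_lift_rel
      (I.map (algebraMap A B₂)) σ
    refine ⟨τ, ?_⟩
    apply Algebra.TensorProduct.ext'
    intro x b
    have hx : x ⊗ₜ[A] b = x • ((1 : A ⧸ I) ⊗ₜ[A] b) := by
      rw [TensorProduct.smul_tmul', smul_eq_mul, mul_one]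
    have h1 : Algebra.TensorProduct.map (AlgHom.id (A ⧸ I) (A ⧸ I)) τ ((1 : A ⧸ I) ⊗ₜ[A] b) =
        χ ((1 : A ⧸ I) ⊗ₜ[A] b) := by
      rw [Algebra.TensorProduct.map_tmul]
      have h2 := DFunLike.congr_fun hτ b
      change Ideal.Quotient.mk _ (τ b) = e₂.symm (χ ((1 : A ⧸ I) ⊗ₜ[A] b)) at h2
      have h3 := congrArg e₂ h2
      rw [he₂, AlgEquiv.apply_symm_apply] at h3
      exact h3
    change Algebra.TensorProduct.map (AlgHom.id (A ⧸ I) (A ⧸ I)) τ (x ⊗ₜ[A] b) = χ (x ⊗ₜ[A] b)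
    rw [hx, map_smul, map_smul, h1]

end Groth.Agent.S0533
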