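import Groth.Statements.S0534
-- import your own Groth.Agent.* helpers here
import Groth.Agent.Lib.Helper58.HenselPairIdemLift

set_option autoImplicit false
universe u
open Hensel

namespace Groth.Agent.S0534

/-- If `R` is Henselian at `I`, every finitely generated projective `R/I`-module is the base change of a
finitely generated projective `R`-module. -/
theorem result (R : Type u) [CommRing R] (I : Ideal R)
    [HenselianRing R I] (Q : Type u) [AddCommGroup Q] [Module (R ⧸ I) Q] [Module.Finite (R ⧸ I) Q]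
    [Module.Projective (R ⧸ I) Q] :
    ∃ (P : Type u) (_ : AddCommGroup P) (_ : Module R P), Module.Finite R P ∧ Module.Projective R P ∧
      Nonempty (TensorProduct R (R ⧸ I) P ≃ₗ[R ⧸ I] Q) := by
  classical
  rcases subsingleton_or_nontrivial (R ⧸ I) with hS | hS
  · have : Subsingleton Q := Module.subsingleton (R ⧸ I) Q
    have : Subsingleton (TensorProduct R (R ⧸ I) PUnit.{u+1}) := Module.subsingleton (R ⧸ I) _
    exact ⟨PUnit, inferInstance, inferInstance, inferInstance, inferInstance,
      ⟨LinearEquiv.ofSubsingleton _ _⟩⟩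
  obtain ⟨n, f, g, -, -, hfg⟩ := Module.Finite.exists_comp_eq_id_of_projective (R ⧸ I) Q
  let b := Pi.basisFun R (Fin n)
  let bS := Algebra.TensorProduct.basis (R ⧸ I) b
  let θ : TensorProduct R (R ⧸ I) (Fin n → R) ≃ₗ[R ⧸ I] (Fin n → R ⧸ I) := bS.equivFun
  let e' : Module.End (R ⧸ I) (TensorProduct R (R ⧸ I) (Fin n → R)) :=
    θ.symm.toLinearMap ∘ₗ g ∘ₗ f ∘ₗ θ.toLinearMap
  have hfg' : ∀ q, f (g q) = q := fun q => DFunLike.congr_fun hfg q
  have he'idem : IsIdempotentElem e' := by
    change e' * e' = e'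
    refine LinearMap.ext fun x => ?_
    simp only [e', Module.End.mul_apply, LinearMap.comp_apply, LinearEquiv.coe_coe,
      LinearEquiv.apply_symm_apply, hfg']
  -- lift the matrix
  let M := LinearMap.toMatrix bS bS e'
  have hM : ∀ i j, ∃ r : R, Ideal.Quotient.mk I r = M i j := fun i j =>
    Ideal.Quotient.mk_surjective _
  choose M₀ hM₀ using hM
  let a₀ : Module.End R (Fin n → R) := Matrix.toLin b b (Matrix.of M₀)
  let Φ := Module.End.baseChangeHom R (R ⧸ I) (Fin n → R)
  have hΦ : ∀ a : Module.End R (Fin n → R), Φ a = a.baseChange (R ⧸ I) := fun a => rfl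
  have ha₀ : Φ a₀ = e' := by
    rw [hΦ]
    apply (LinearMap.toMatrix bS bS).injective
    rw [LinearMap.toMatrix_baseChange, LinearMap.toMatrix_toLin]
    ext i j
    simp only [Matrix.map_apply, Matrix.of_apply]
    exact hM₀ i j
  -- the characteristic polynomial of `a₀² - a₀`
  let F₀ := (a₀ * a₀ - a₀).charpoly
  have hF₀map : F₀.map (Ideal.Quotient.mk I) =
      Polynomial.X ^ Module.finrank (R ⧸ I) (TensorProduct R (R ⧸ I) (Fin n → R)) := by
    have h1 : Φ (a₀ * a₀ - a₀) = 0 := by
      rw [map_sub, map_mul, ha₀, he'idem.eq, sub_self]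
    have h2 := LinearMap.charpoly_baseChange (A := R ⧸ I) (f := a₀ * a₀ - a₀)
    rw [← hΦ, h1, LinearMap.charpoly_zero] at h2
    exact h2.symm
  have hid : IsIdempotentElem (Φ a₀) := by rw [ha₀]; exact he'idem
  obtain ⟨ε, hε, hεΦ⟩ :=
    Groth.Agent.Lib.Helper58.HenselPair.exists_idempotent_lift_of_aeval_eq_zero
      (E := Module.End R (Fin n → R))
      (E' := Module.End (R ⧸ I) (TensorProduct R (R ⧸ I) (Fin n → R))) I Φ a₀
      hid F₀ (LinearMap.charpoly_monic _) _ hF₀map
      (LinearMap.aeval_self_charpoly _)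
  rw [ha₀] at hεΦ
  have hεε : ∀ x, ε (ε x) = ε x := fun x => by
    have := hε.eq
    exact DFunLike.congr_fun this x
  -- the projective module
  let P := LinearMap.range ε
  let incl : P →ₗ[R] (Fin n → R) := P.subtype
  let proj : (Fin n → R) →ₗ[R] P := ε.rangeRestrict
  have hpi : proj ∘ₗ incl = LinearMap.id := by
    refine LinearMap.ext fun z => ?_
    obtain ⟨x, y, rfl⟩ := z
    apply Subtype.ext
    change ε (ε y) = ε y
    exact hεε y
  have hip : incl ∘ₗ proj = ε := by
    ext x
    rfl
  have hproj : Module.Projective R P := Module.Projective.of_split incl proj hpi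
  have hfin : Module.Finite R P := Module.Finite.range ε
  refine ⟨P, inferInstance, inferInstance, hfin, hproj, ?_⟩
  -- the isomorphism
  let inclS := incl.baseChange (R ⧸ I)
  let projS := proj.baseChange (R ⧸ I)
  have h1 : projS ∘ₗ inclS = LinearMap.id := by
    rw [← LinearMap.baseChange_comp, hpi, LinearMap.baseChange_id]
  have h2 : inclS ∘ₗ projS = e' := by
    rw [← LinearMap.baseChange_comp, hip, ← hΦ, hεΦ]
  have h1' : ∀ x, projS (inclS x) = x := fun x => DFunLike.congr_fun h1 x
  have h2' : ∀ x, inclS (projS x) = θ.symm (g (f (θ x))) := fun x => DFunLike.congr_fun h2 x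
  let φ : TensorProduct R (R ⧸ I) P →ₗ[R ⧸ I] Q := f ∘ₗ θ.toLinearMap ∘ₗ inclS
  let ψ : Q →ₗ[R ⧸ I] TensorProduct R (R ⧸ I) P := projS ∘ₗ θ.symm.toLinearMap ∘ₗ g
  refine ⟨LinearEquiv.ofLinearMap φ ψ ?_ ?_⟩
  · refine LinearMap.ext fun q => ?_
    simp only [φ, ψ, LinearMap.comp_apply, LinearEquiv.coe_coe, LinearMap.id_apply, h2',
      LinearEquiv.apply_symm_apply, hfg']
  · apply LinearMap.ext
    intro x
    simp only [φ, ψ, LinearMap.comp_apply, LinearEquiv.coe_coe, LinearMap.id_apply]
    rw [← h2', h1', h1']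

end Groth.Agent.S0534
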