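import Groth.Statements.S0535
import Mathlib.RingTheory.Nakayama
import Mathlib.RingTheory.FiniteType
import Mathlib.LinearAlgebra.TensorProduct.Quotient
import Mathlib.Algebra.Module.Projective

set_option autoImplicit false
universe u
open Hensel

namespace Groth.Agent.S0535

open TensorProduct in
theorem exists_surjective {R : Type u} [CommRing R] (I : Ideal R) (hI : I ≤ Ideal.jacobson ⊥)
    {P₁ P₂ : Type u} [AddCommGroup P₁] [Module R P₁] [AddCommGroup P₂]
    [Module R P₂] [Module.Projective R P₁] [Module.Finite R P₂]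
    (e : TensorProduct R (R ⧸ I) P₁ ≃ₗ[R ⧸ I] TensorProduct R (R ⧸ I) P₂) :
    ∃ φ : P₁ →ₗ[R] P₂, Function.Surjective φ := by
  have hπ : ∀ (P : Type u) [AddCommGroup P] [Module R P],
      Function.Surjective (TensorProduct.mk R (R ⧸ I) P 1) := by
    intro P _ _ t
    obtain ⟨p, hp⟩ := Submodule.Quotient.mk_surjective _ (quotTensorEquivQuotSMul P I t)
    refine ⟨p, (quotTensorEquivQuotSMul P I).injective ?_⟩
    rw [← hp]
    simp
  obtain ⟨φ, hφ⟩ := Module.projective_lifting_property (TensorProduct.mk R (R ⧸ I) P₂ 1)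
    ((e.restrictScalars R).toLinearMap ∘ₗ TensorProduct.mk R (R ⧸ I) P₁ 1) (hπ P₂)
  refine ⟨φ, LinearMap.surjective_of_surjective_comp_mkQ φ I hI ?_⟩
  rw [← quotTensorEquivQuotSMul_comp_mk, LinearMap.comp_assoc, hφ]
  exact (quotTensorEquivQuotSMul P₂ I).surjective.comp ((e.surjective).comp (hπ P₁))

/-- If `R` is Henselian at `I` and two finitely generated projective `R`-modules become isomorphic after
base change to `R/I`, then they are isomorphic. -/
theorem result (R : Type u) [CommRing R] (I : Ideal R)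
    [HenselianRing R I] (P₁ P₂ : Type u) [AddCommGroup P₁] [Module R P₁] [AddCommGroup P₂]
    [Module R P₂] [Module.Finite R P₁] [Module.Projective R P₁] [Module.Finite R P₂]
    [Module.Projective R P₂]
    (e : TensorProduct R (R ⧸ I) P₁ ≃ₗ[R ⧸ I] TensorProduct R (R ⧸ I) P₂) :
    Nonempty (P₁ ≃ₗ[R] P₂) := by
  have hI : I ≤ Ideal.jacobson ⊥ := HenselianRing.jac
  obtain ⟨φ, hφ⟩ := exists_surjective I hI e
  obtain ⟨ψ, hψ⟩ := exists_surjective I hI e.symm
  have hinj : Function.Injective (ψ ∘ₗ φ) :=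
    OrzechProperty.injective_of_surjective_endomorphism _ (hψ.comp hφ)
  have hφi : Function.Injective φ := Function.Injective.of_comp hinj
  exact ⟨LinearEquiv.ofBijective φ ⟨hφi, hφ⟩⟩

end Groth.Agent.S0535
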