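import Groth.Statements.S0545
import Groth.Agent.Lib.Helper63.PrecompleteExt
import Mathlib.RingTheory.Henselian
import Mathlib.RingTheory.Jacobson.Ideal

set_option autoImplicit false
universe u
open CAlg

namespace Groth.Agent.S0545

open Groth.Agent.Lib.Helper63.PrecompleteExt

theorem le_jac (A : Type u) [CommRing A] (I J : Ideal A) (hI : I ≤ Ideal.jacobson ⊥)
    (hJ : Ideal.map (Ideal.Quotient.mk I) J ≤ Ideal.jacobson ⊥) : J ≤ Ideal.jacobson ⊥ := by
  intro a ha
  rw [Ideal.mem_jacobson_bot]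
  intro y
  have hloc := isLocalHom_of_le_jacobson_bot I hI
  apply hloc.map_nonunit
  have h1 : Ideal.Quotient.mk I a ∈ Ideal.jacobson (⊥ : Ideal (A ⧸ I)) :=
    hJ (Ideal.mem_map_of_mem _ ha)
  have h2 := Ideal.mem_jacobson_bot.mp h1 (Ideal.Quotient.mk I y)
  simpa using h2

/-- For a Noetherian ring `A` with two ideals `I` and `J`, completeness of `A` along `I` together with
completeness of the quotient `A/I` along the image of `J` forces completeness of `A` along `J`. -/
theorem result (A : Type u) [CommRing A] [IsNoetherianRing A]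
    (I J : Ideal A) [IsAdicComplete I A]
    [IsAdicComplete (Ideal.map (Ideal.Quotient.mk I) J) (A ⧸ I)] : IsAdicComplete J A := by
  have hIjac : I ≤ Ideal.jacobson ⊥ := IsAdicComplete.le_jacobson_bot I
  have hJjac : J ≤ Ideal.jacobson ⊥ :=
    le_jac A I J hIjac (IsAdicComplete.le_jacobson_bot _)
  have hH : IsHausdorff J A := IsHausdorff.of_le_jacobson J A hJjac
  have hPm : ∀ m, IsPrecomplete J (A ⧸ I ^ m) := by
    intro m
    apply isPrecomplete_of_pow_smul_eq_bot I J m
    rw [eq_bot_iff]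
    intro z hz
    rw [← Submodule.range_mkQ (I ^ m), ← Submodule.map_top, ← Submodule.map_smul''] at hz
    obtain ⟨w, hw, rfl⟩ := hz
    rw [smul_eq_mul, Ideal.mul_top] at hw
    rw [Submodule.mem_bot]
    exact (Submodule.Quotient.mk_eq_zero _).mpr hw
  have hHm : ∀ m, IsHausdorff J (A ⧸ I ^ m) := fun m => IsHausdorff.of_le_jacobson J _ hJjac
  have hHn : ∀ n, IsHausdorff I (A ⧸ J ^ n) := fun n => IsHausdorff.of_le_jacobson I _ hIjac
  refine { toIsHausdorff := hH, toIsPrecomplete := ⟨fun x hx => ?_⟩ }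
  have hlim : ∀ m, ∃ ym : A, ∀ n, x n - ym ∈ J ^ n ⊔ I ^ m := by
    intro m
    obtain ⟨ybar, hy⟩ := (hPm m).prec (f := fun n => (I ^ m).mkQ (x n)) (by
      intro k n hkn
      have := hx hkn
      rw [SModEq.sub_mem] at this ⊢
      rw [← map_sub, ← Submodule.range_mkQ (I ^ m), ← Submodule.map_top, ← Submodule.map_smul'']
      exact Submodule.mem_map_of_mem this)
    obtain ⟨ym, rfl⟩ := (I ^ m).mkQ_surjective ybar
    refine ⟨ym, fun n => ?_⟩
    have h1 := hy n
    rw [SModEq.sub_mem, ← map_sub, ← Submodule.range_mkQ (I ^ m), ← Submodule.map_top,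
      ← Submodule.map_smul''] at h1
    obtain ⟨w, hw, hwx⟩ := h1
    rw [smul_eq_mul, Ideal.mul_top] at hw
    have h2 : x n - ym - w ∈ I ^ m := by
      rw [← Submodule.Quotient.mk_eq_zero, Submodule.Quotient.mk_sub]
      exact sub_eq_zero.mpr hwx.symm
    have h3 : x n - ym = w + (x n - ym - w) := by abel
    rw [h3]
    exact Submodule.add_mem_sup hw h2
  choose ym hym using hlim
  have hcompat : ∀ m, ym (m + 1) - ym m ∈ I ^ m := by
    intro m
    have h1 : (I ^ m).mkQ (ym (m + 1) - ym m) = 0 := by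
      apply (hHm m).haus
      intro n
      rw [SModEq.zero, ← Submodule.range_mkQ (I ^ m), ← Submodule.map_top,
        ← Submodule.map_smul'']
      have h2 : ym (m + 1) - ym m ∈ J ^ n ⊔ I ^ m := by
        have h3 : ym (m + 1) - ym m = (x n - ym m) - (x n - ym (m + 1)) := by abel
        rw [h3]
        refine Submodule.sub_mem _ (hym m n) ?_
        have h5 : J ^ n ⊔ I ^ (m + 1) ≤ J ^ n ⊔ I ^ m :=
          sup_le_sup le_rfl (Ideal.pow_le_pow_right (Nat.le_succ m))
        exact h5 (hym (m + 1) n)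
      obtain ⟨w, hw, v, hv, hwv⟩ := Submodule.mem_sup.mp h2
      refine ⟨w, by rw [smul_eq_mul, Ideal.mul_top]; exact hw, ?_⟩
      rw [← hwv, map_add]
      have : (I ^ m).mkQ v = 0 := (Submodule.Quotient.mk_eq_zero _).mpr hv
      rw [this, add_zero]
    exact (Submodule.Quotient.mk_eq_zero _).mp h1
  obtain ⟨y, hy⟩ := IsPrecomplete.prec (I := I) (M := A) inferInstance (f := ym) (by
    apply (AdicCompletion.isAdicCauchy_iff I A _).mpr
    intro m
    rw [SModEq.sub_mem, smul_eq_mul, Ideal.mul_top]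
    have : ym m - ym (m + 1) = -(ym (m + 1) - ym m) := by abel
    rw [this]
    exact Ideal.neg_mem_iff _ |>.mpr (hcompat m))
  refine ⟨y, fun n => ?_⟩
  rw [SModEq.sub_mem, smul_eq_mul, Ideal.mul_top]
  have h1 : (J ^ n).mkQ (x n - y) = 0 := by
    apply (hHn n).haus
    intro m
    rw [SModEq.zero, ← Submodule.range_mkQ (J ^ n), ← Submodule.map_top,
      ← Submodule.map_smul'']
    have h2 : x n - y ∈ J ^ n ⊔ I ^ m := by
      have h3 : x n - y = (x n - ym m) + (ym m - y) := by abel
      rw [h3]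
      refine Submodule.add_mem _ (hym m n) ?_
      have h4 := hy m
      rw [SModEq.sub_mem, smul_eq_mul, Ideal.mul_top] at h4
      exact (le_sup_right : I ^ m ≤ J ^ n ⊔ I ^ m) h4
    obtain ⟨w, hw, v, hv, hwv⟩ := Submodule.mem_sup.mp h2
    refine ⟨v, by rw [smul_eq_mul, Ideal.mul_top]; exact hv, ?_⟩
    rw [← hwv, map_add]
    have : (J ^ n).mkQ w = 0 := (Submodule.Quotient.mk_eq_zero _).mpr hw
    rw [this, zero_add]
  exact (Submodule.Quotient.mk_eq_zero _).mp h1

end Groth.Agent.S0545
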