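import Mathlib
-- Template for statement S0550 (row 550; see the milestone table for weights).
-- Copy to Groth/Agent/S0550.lean and replace the sorry. The statement below is byte-identical to the frozen
-- statement CAlg.GrothFrozen.S0550 (Groth/Statements/S0550.lean; the theorem CAlg.flat_adicCompletion_finsupp);
-- the grader kernel-checks Groth.Agent.S0550.result against that frozen type. Keep the theorem IN THIS FILE
-- (a `result` declared elsewhere and merely imported here is not credited); helpers may live anywhere
-- under Groth/Agent/.
import Groth.Statements.S0550
import Groth.Agent.Lib.Helper24.DecayingCompl

set_option autoImplicit false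
universe u
open CAlg

namespace Groth.Agent.S0550

/-- Over a Noetherian ring `R` with an ideal `I`, the `I`-adic completion of a free module (on any index
set) is a flat `R`-module. -/
theorem result (R : Type u) [CommRing R] [IsNoetherianRing R]
    (I : Ideal R) (α : Type u) : Module.Flat R (AdicCompletion I (α →₀ R)) := by
  obtain ⟨e, -⟩ := Groth.Agent.Lib.Helper24.DecayingCompl.exists_equiv I α
  have := Groth.Agent.Lib.Helper24.DecayingCompl.flat_decaying_completion I α
  exact Module.Flat.of_linearEquiv e

end Groth.Agent.S0550
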