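import Groth.Statements.S6349
import Mathlib
import Groth.Agent.S6000

set_option autoImplicit false
universe u
open scoped TensorProduct
open CAlg

namespace Groth.Agent.S6349

open TensorProduct in
/-- naturality of `cancelBaseChange` in the first variable -/
theorem cancel_natural' {R : Type u} [CommRing R] (B : Type u) [CommRing B] [Algebra R B]
    (M : Type u) [AddCommGroup M] [Module R M]
    {N₁ N₂ : Type u} [AddCommGroup N₁] [Module R N₁] [Module B N₁] [IsScalarTower R B N₁]
    [AddCommGroup N₂] [Module R N₂] [Module B N₂] [IsScalarTower R B N₂]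
    (g : N₁ →ₗ[B] N₂) (z : N₁ ⊗[B] (B ⊗[R] M)) :
    (g.restrictScalars R).rTensor M (AlgebraTensorModule.cancelBaseChange R B B N₁ M z) =
      AlgebraTensorModule.cancelBaseChange R B B N₂ M (g.rTensor (B ⊗[R] M) z) := by
  induction z using TensorProduct.induction_on with
  | zero => simp
  | add x y hx hy => simp only [map_add, hx, hy]
  | tmul n w =>
    induction w using TensorProduct.induction_on with
    | zero => simp
    | add x y hx hy => simp only [tmul_add, map_add, hx, hy]
    | tmul r k => simp

open TensorProduct in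
/-- If `B ⊗ M` is flat over `B`, then `- ⊗_R M` preserves injective `B`-linear maps. -/
theorem rTensor_injective_of_flat_baseChange {R : Type u} [CommRing R] (B : Type u) [CommRing B]
    [Algebra R B] (M : Type u) [AddCommGroup M] [Module R M] [Module.Flat B (B ⊗[R] M)]
    {N₁ N₂ : Type u} [AddCommGroup N₁] [Module R N₁] [Module B N₁] [IsScalarTower R B N₁]
    [AddCommGroup N₂] [Module R N₂] [Module B N₂] [IsScalarTower R B N₂]
    (g : N₁ →ₗ[B] N₂) (hg : Function.Injective g) :
    Function.Injective ((g.restrictScalars R).rTensor M) := by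
  have key : Function.Injective (g.rTensor (B ⊗[R] M)) :=
    Module.Flat.rTensor_preserves_injective_linearMap g hg
  intro x y hxy
  have hx := cancel_natural' B M g ((AlgebraTensorModule.cancelBaseChange R B B N₁ M).symm x)
  have hy := cancel_natural' B M g ((AlgebraTensorModule.cancelBaseChange R B B N₁ M).symm y)
  rw [LinearEquiv.apply_symm_apply] at hx hy
  rw [hx, hy] at hxy
  have := key ((AlgebraTensorModule.cancelBaseChange R B B N₂ M).injective hxy)
  exact (AlgebraTensorModule.cancelBaseChange R B B N₁ M).symm.injective this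

open TensorProduct in
/-- converse direction: injectivity over `R` gives injectivity over `B`. -/
theorem rTensor_injective_of_restrict {R : Type u} [CommRing R] (B : Type u) [CommRing B]
    [Algebra R B] (M : Type u) [AddCommGroup M] [Module R M]
    {N₁ N₂ : Type u} [AddCommGroup N₁] [Module R N₁] [Module B N₁] [IsScalarTower R B N₁]
    [AddCommGroup N₂] [Module R N₂] [Module B N₂] [IsScalarTower R B N₂]
    (g : N₁ →ₗ[B] N₂) (hg : Function.Injective ((g.restrictScalars R).rTensor M)) :
    Function.Injective (g.rTensor (B ⊗[R] M)) := by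
  intro x y hxy
  apply (AlgebraTensorModule.cancelBaseChange R B B N₁ M).injective
  apply hg
  rw [cancel_natural', cancel_natural', hxy]

open TensorProduct in
theorem aux (R : Type u) [CommRing R] (I : Ideal R) (M : Type u)
    [AddCommGroup M] [Module R M] [Module.Flat (R ⧸ I) ((R ⧸ I) ⊗[R] M)]
    (htor : Function.Injective ((Submodule.subtype I).rTensor M)) (n : ℕ) :
    Module.Flat (R ⧸ I ^ n) ((R ⧸ I ^ n) ⊗[R] M) := by
  let π : (M →₀ R) →ₗ[R] M := Finsupp.linearCombination R id
  have hπ : Function.Surjective π := Finsupp.linearCombination_id_surjective R M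
  let K : Submodule R (M →₀ R) := LinearMap.ker π
  have hex : Function.Exact K.subtype π := LinearMap.exact_subtype_ker_map π
  have h0 := Groth.Agent.S6000.torFree_quot I K π hπ hex htor
  have hdev := Groth.Agent.S6000.devissage I K π hπ hex inferInstance h0 n
  rw [Module.Flat.iff_rTensor_injective']
  intro J
  apply rTensor_injective_of_restrict (R := R) (R ⧸ I ^ n) M J.subtype
  rw [← LinearMap.lTensor_inj_iff_rTensor_inj]
  refine lTensor_injective_of_exact_of_exact_of_rTensor_injective (R := R)
    (M₁ := K) (M₂ := M →₀ R) (M₃ := M)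
    (N₁ := J) (N₂ := R ⧸ I ^ n) (N₃ := (R ⧸ I ^ n) ⧸ J)
    (f₁ := K.subtype) (f₂ := π)
    (g₁ := J.subtype.restrictScalars R) (g₂ := (Submodule.mkQ J).restrictScalars R)
    hex hπ ?_ ?_ ?_ ?_
  · exact LinearMap.exact_subtype_mkQ J
  · exact Submodule.mkQ_surjective J
  · rw [← LinearMap.lTensor_inj_iff_rTensor_inj]
    apply hdev
    intro a ha x
    have h0' : algebraMap R (R ⧸ I ^ n) a = 0 := Ideal.Quotient.eq_zero_iff_mem.mpr ha
    rw [← algebraMap_smul (R ⧸ I ^ n) a x, h0', zero_smul]
  · exact Module.Flat.lTensor_preserves_injective_linearMap _ (Submodule.injective_subtype J)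

/-- Let I be an ideal of a commutative ring R and M an R-module such that M/IM is flat over R/I and
Tor_1^R(R/I, M) = 0, i.e. the map I ⊗_R M → M is injective. Then M/IⁿM is flat over R/Iⁿ for every n
≥ 1. (When I is nilpotent this yields flatness of M itself, a standard companion statement.) -/
theorem result (R : Type u) [CommRing R] (I : Ideal R) (M : Type u)
    [AddCommGroup M] [Module R M] [Module.Flat (R ⧸ I) ((R ⧸ I) ⊗[R] M)]
    (htor : Function.Injective ((Submodule.subtype I).rTensor M)) (n : ℕ) (hn : 1 ≤ n) :
    Module.Flat (R ⧸ I ^ n) ((R ⧸ I ^ n) ⊗[R] M) := by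
  exact aux R I M htor n

end Groth.Agent.S6349
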