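import Groth.Statements.S0552
import Groth.Agent.Lib.Helper87.CatenaryOrder
import Mathlib.RingTheory.Localization.Ideal
import Mathlib.RingTheory.Spectrum.Prime.RingHom

set_option autoImplicit false
universe u
open CAlg

namespace Groth.Agent.S0552

open Lib.Helper87

theorem isCatenary_iff (R : Type u) [CommRing R] : CAlg.IsCatenary R ↔ CatOrder (PrimeSpectrum R) :=
  Iff.rfl

theorem exists_of_le {R : Type u} [CommRing R] (m : Ideal R) [m.IsPrime] (y : PrimeSpectrum R)
    (hy : y.asIdeal ≤ m) :
    ∃ b : PrimeSpectrum (Localization.AtPrime m),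
      PrimeSpectrum.comap (algebraMap R (Localization.AtPrime m)) b = y := by
  have hd : Disjoint (m.primeCompl : Set R) (y.asIdeal : Set R) := by
    rw [Set.disjoint_left]
    intro x hx hxy
    exact hx (hy hxy)
  refine ⟨⟨Ideal.map (algebraMap R (Localization.AtPrime m)) y.asIdeal,
    IsLocalization.isPrime_of_isPrime_disjoint m.primeCompl _ _ y.2 hd⟩, ?_⟩
  ext1
  exact IsLocalization.under_map_of_isPrime_disjoint m.primeCompl (Localization.AtPrime m) y.2 hd

theorem lowerEmb_comap (R : Type u) [CommRing R] (m : Ideal R) [m.IsPrime] :
    LowerEmb (PrimeSpectrum.comap (algebraMap R (Localization.AtPrime m))) := by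
  refine ⟨?_, ?_⟩
  · intro a b
    constructor
    · intro h
      have h' : Ideal.comap (algebraMap R (Localization.AtPrime m)) a.asIdeal ≤
          Ideal.comap (algebraMap R (Localization.AtPrime m)) b.asIdeal := h
      have := Ideal.map_mono (f := algebraMap R (Localization.AtPrime m)) h'
      rw [IsLocalization.map_under m.primeCompl, IsLocalization.map_under m.primeCompl] at this
      exact this
    · intro h
      exact Ideal.comap_mono h
  · intro a y hy
    apply exists_of_le m y
    have h1 : y.asIdeal ≤ Ideal.comap (algebraMap R (Localization.AtPrime m)) a.asIdeal := hy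
    refine h1.trans ?_
    have h2 := IsLocalization.AtPrime.under_maximalIdeal (Localization.AtPrime m) m
    calc Ideal.comap (algebraMap R (Localization.AtPrime m)) a.asIdeal
        ≤ Ideal.comap (algebraMap R (Localization.AtPrime m))
            (IsLocalRing.maximalIdeal (Localization.AtPrime m)) :=
          Ideal.comap_mono (IsLocalRing.le_maximalIdeal a.2.ne_top)
      _ = m := h2

/-- A ring is catenary exactly when its localization at every maximal ideal is catenary. -/
theorem result (R : Type u) [CommRing R] :
    CAlg.IsCatenary R ↔ ∀ (m : Ideal R) [m.IsMaximal], CAlg.IsCatenary (Localization.AtPrime m) := by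
  rw [isCatenary_iff]
  constructor
  · intro h m hm
    rw [isCatenary_iff]
    exact h.of_lowerEmb (lowerEmb_comap R m)
  · intro h
    refine CatOrder.of_cover (ι := {m : Ideal R // m.IsMaximal})
      (fun m => haveI := m.2; PrimeSpectrum (Localization.AtPrime m.1))
      (fun m => haveI := m.2; PrimeSpectrum.comap (algebraMap R (Localization.AtPrime m.1)))
      (fun m => haveI := m.2; lowerEmb_comap R m.1) ?_ ?_
    · intro q
      obtain ⟨m, hm, hqm⟩ := Ideal.exists_le_maximal q.asIdeal q.2.ne_top
      have := hm
      obtain ⟨b, hb⟩ := exists_of_le m q hqm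
      exact ⟨⟨m, hm⟩, b, hb⟩
    · intro m
      have := m.2
      have := h m.1
      rw [isCatenary_iff] at this
      exact this

end Groth.Agent.S0552
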