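import Groth.Statements.S0572
import Mathlib
import Groth.Agent.Lib.Helper38.NormalLocus

set_option autoImplicit false
universe u
open CAlg

namespace Groth.Agent.S0572

/-- Let `R` be a Noetherian domain such that `R_f` is integrally closed for some nonzero `f`. Then the
set of primes `p` with `R_p` integrally closed is open in `Spec R`. -/
theorem result (R : Type u) [CommRing R] [IsDomain R] [IsNoetherianRing R] (f : R)
    (hf : f ≠ 0) (hn : IsIntegrallyClosed (Localization.Away f)) :
    IsOpen {p : PrimeSpectrum R | IsIntegrallyClosed (Localization.AtPrime p.asIdeal)} := by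
  classical
  open Groth.Agent.Lib.Helper38.NormalLocus in
  have hfM : Submonoid.powers f ≤ nonZeroDivisors R := by
    rw [Submonoid.powers_le, mem_nonZeroDivisors_iff_ne_zero]
    exact hf
  have hn' := (isIntegrallyClosed_iff_of_isLocalization (Submonoid.powers f) hfM
    (Localization.Away f) (FractionRing R)).mp hn
  have hcl := isClosed_nonnormal_locus (FractionRing R) f hf hn'
  have heq : {p : PrimeSpectrum R | IsIntegrallyClosed (Localization.AtPrime p.asIdeal)} =
      {p : PrimeSpectrum R | ∃ x : FractionRing R, IsIntegral R x ∧
        (1 : Submodule R (FractionRing R)).colon {x} ≤ p.asIdeal}ᶜ := by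
    ext p
    rw [Set.mem_compl_iff, Set.mem_ofPred_eq, Set.mem_ofPred_eq,
      isIntegrallyClosed_iff_of_isLocalization p.asIdeal.primeCompl
        p.asIdeal.primeCompl_le_nonZeroDivisors (Localization.AtPrime p.asIdeal) (FractionRing R)]
    constructor
    · rintro h ⟨x, hx, hxp⟩
      obtain ⟨m, hm, hmx⟩ := h x hx
      exact hm (hxp (Submodule.mem_colon_singleton.mpr hmx))
    · intro h x hx
      by_contra hcon
      push Not at hcon
      refine h ⟨x, hx, fun a ha => ?_⟩
      by_contra hap
      exact hcon a hap (Submodule.mem_colon_singleton.mp ha)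
  rw [heq]
  exact hcl.isOpen_compl

end Groth.Agent.S0572
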