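import Groth.Statements.S0574
import Mathlib
-- import your own Groth.Agent.* helpers here

set_option autoImplicit false
universe u
open CAlg

namespace Groth.Agent.S0574

/-- For Noetherian domains of characteristic zero the conditions N-1 and N-2 coincide. -/
theorem result (R : Type u) [CommRing R] [IsDomain R] [IsNoetherianRing R]
    [CharZero R] : CAlg.IsN1 R ↔ CAlg.IsN2 R := by
  constructor
  · intro h1 L _ _ _ _ hfin
    change Module.Finite R (integralClosure R (FractionRing R)) at h1
    haveI := h1
    haveI := hfin
    set K := FractionRing R with hK
    set R' := integralClosure R K with hR'
    haveI : CharZero K := (algebraMap R K).charZero_iff (IsFractionRing.injective R K) |>.1 inferInstance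
    haveI : IsFractionRing R' K := integralClosure.isFractionRing_of_finite_extension K K
    haveI : IsIntegrallyClosed R' := integralClosure.isIntegrallyClosedOfFiniteExtension K
    haveI : IsNoetherian R R' := isNoetherian_of_isNoetherianRing_of_finite R R'
    haveI : IsNoetherianRing R' := isNoetherian_of_tower R (inferInstance : IsNoetherian R R')
    haveI : IsScalarTower R' K L := IsScalarTower.of_algebraMap_eq (fun x => rfl)
    haveI : Algebra.IsSeparable K L := inferInstance
    have hfin' : Module.Finite R' (integralClosure R' L) :=
      IsIntegralClosure.finite R' K L (integralClosure R' L)
    haveI : IsScalarTower R R' L := IsScalarTower.of_algebraMap_eq (fun x => by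
      rw [IsScalarTower.algebraMap_apply R K L]; rfl)
    have hint : Algebra.IsIntegral R R' := inferInstance
    have hset : ∀ x : L, x ∈ integralClosure R L ↔ x ∈ integralClosure R' L := by
      intro x
      constructor
      · intro hx
        exact IsIntegral.tower_top hx
      · intro hx
        exact isIntegral_trans (R := R) (A := R') x hx
    have hfinR : Module.Finite R (integralClosure R' L) := Module.Finite.trans R' _
    let e : (integralClosure R' L) →ₗ[R] (integralClosure R L) :=
      { toFun := fun x => ⟨x.1, (hset x.1).2 x.2⟩
        map_add' := fun x y => rfl
        map_smul' := fun r x => by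
          apply Subtype.ext
          simp only [RingHom.id_apply]
          change ((r • x : integralClosure R' L) : L) = r • (x : L)
          rfl }
    have hsurj : Function.Surjective e := fun y => ⟨⟨y.1, (hset y.1).1 y.2⟩, rfl⟩
    exact Module.Finite.of_surjective e hsurj
  · intro h2
    exact h2 (FractionRing R) inferInstance

end Groth.Agent.S0574
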