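import Groth.Statements.S0577
import Groth.Agent.Lib.Helper38.AnalUnram

set_option autoImplicit false
universe u
open CAlg

namespace Groth.Agent.S0577

/-- Let `A` be a Noetherian local domain of prime characteristic `p` which is a Nagata ring. If `a ∈ A`
has a `p`-th root in the completion of `A`, then it has a `p`-th root in `A`. -/
theorem result (A : Type u) [CommRing A] [IsDomain A]
    [IsLocalRing A] (hA : CAlg.IsNagata A) (p : ℕ) [Fact p.Prime] [CharP A p] (a : A)
    (h : ∃ α : AdicCompletion (IsLocalRing.maximalIdeal A) A,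
      α ^ p = algebraMap A (AdicCompletion (IsLocalRing.maximalIdeal A) A) a) :
    ∃ b : A, b ^ p = a := by
  classical
  obtain ⟨α, hα⟩ := h
  have hp : p.Prime := Fact.out
  have hNoeth : IsNoetherianRing A := hA.1
  let m := IsLocalRing.maximalIdeal A
  let K := FractionRing A
  let L := AlgebraicClosure K
  obtain ⟨β, hβ⟩ := IsAlgClosed.exists_pow_nat_eq (algebraMap A L a) hp.pos
  have hβint : IsIntegral A β := IsIntegral.of_pow hp.pos (hβ ▸ isIntegral_algebraMap)
  let B : Subalgebra A L := Algebra.adjoin A {β}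
  have hfin : Module.Finite A B :=
    (Module.Finite.iff_fg (N := (Algebra.adjoin A {β}).toSubmodule)).mpr hβint.fg_adjoin_singleton
  have hinjAL : Function.Injective (algebraMap A L) := by
    rw [IsScalarTower.algebraMap_eq A K L]
    exact (algebraMap K L).injective.comp (IsFractionRing.injective A K)
  have hinjAB : Function.Injective (algebraMap A B) := by
    intro x y hxy
    apply hinjAL
    exact congrArg Subtype.val hxy
  let bβ : B := ⟨β, Algebra.subset_adjoin (Set.mem_singleton β)⟩
  have hbβ : bβ ^ p = algebraMap A B a := Subtype.ext hβ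
  let J : Ideal B := m.map (algebraMap A B)
  have hred : IsReduced (AdicCompletion J B) :=
    Groth.Agent.Lib.Helper38.AnalUnram.isReduced_adicCompletion_of_finite hA B J
  let φ : AdicCompletion m A →+* AdicCompletion J B :=
    Groth.Agent.Lib.Helper58.AdicFunct.adicMap m J (algebraMap A B) Ideal.le_comap_map
  have hφof : ∀ x : A, φ (algebraMap A (AdicCompletion m A) x) =
      AdicCompletion.of J B (algebraMap A B x) := fun x =>
    Groth.Agent.Lib.Helper58.AdicFunct.adicMap_of m J (algebraMap A B) Ideal.le_comap_map x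
  -- `φ α = of bβ`
  have heq : φ α = AdicCompletion.of J B bβ := by
    rcases subsingleton_or_nontrivial (AdicCompletion J B) with hs | hn
    · exact Subsingleton.elim _ _
    · have hp0 : ((p : ℕ) : AdicCompletion J B) = 0 := by
        have h1 : ((p : ℕ) : AdicCompletion J B) = φ ((p : ℕ) : AdicCompletion m A) := by
          rw [map_natCast]
        have h2 : ((p : ℕ) : AdicCompletion m A) =
            algebraMap A (AdicCompletion m A) ((p : ℕ) : A) := by rw [map_natCast]
        rw [h1, h2, CharP.cast_eq_zero A p, map_zero, map_zero]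
      have hchar : CharP (AdicCompletion J B) p := (CharP.charP_iff_prime_eq_zero hp).mpr hp0
      apply frobenius_inj (AdicCompletion J B) p
      rw [frobenius_def, frobenius_def, ← map_pow, hα, hφof]
      have : AdicCompletion.of J B bβ ^ p = AdicCompletion.of J B (bβ ^ p) := by
        have := map_pow (algebraMap B (AdicCompletion J B)) bβ p
        exact this.symm
      rw [this, hbβ]
  -- approximations
  have happrox : ∀ n : ℕ, ∃ x : A, bβ - algebraMap A B x ∈ J ^ n := by
    intro n
    obtain ⟨x, hx⟩ := Ideal.Quotient.mk_surjective (AdicCompletion.evalₐ m n α)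
    refine ⟨x, ?_⟩
    have h1 := Groth.Agent.Lib.Helper58.AdicFunct.evalₐ_adicMap m J (algebraMap A B)
      Ideal.le_comap_map n α
    rw [← hx, Ideal.quotientMap_mk] at h1
    have h2 : AdicCompletion.evalₐ J n (φ α) = Ideal.Quotient.mk (J ^ n) bβ := by
      rw [heq, AdicCompletion.evalₐ_of]
    rw [h2] at h1
    rw [← Ideal.Quotient.eq_zero_iff_mem, map_sub, h1, sub_self]
  -- Krull intersection on `B / A`
  let N : Submodule A B := LinearMap.range (Algebra.linearMap A B)
  have hkrull : (⨅ i : ℕ, m ^ i • ⊤ : Submodule A (B ⧸ N)) = ⊥ :=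
    Ideal.iInf_pow_smul_eq_bot_of_isLocalRing m (IsLocalRing.maximalIdeal.isMaximal A).ne_top
  have hmem : N.mkQ bβ ∈ (⨅ i : ℕ, m ^ i • ⊤ : Submodule A (B ⧸ N)) := by
    rw [Submodule.mem_iInf]
    intro n
    obtain ⟨x, hx⟩ := happrox n
    have h1 : N.mkQ bβ = N.mkQ (bβ - algebraMap A B x) := by
      rw [map_sub, sub_eq_self.mpr]
      rw [Submodule.mkQ_apply, Submodule.Quotient.mk_eq_zero]
      exact ⟨x, rfl⟩
    rw [h1]
    have h2 : bβ - algebraMap A B x ∈ (m ^ n • ⊤ : Submodule A B) := by
      rw [Ideal.smul_top_eq_map, Ideal.map_pow]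
      exact hx
    have h3 := Submodule.mem_map_of_mem (f := N.mkQ) h2
    rw [Submodule.map_smul''] at h3
    exact Submodule.smul_mono le_rfl le_top h3
  rw [hkrull, Submodule.mem_bot, Submodule.mkQ_apply, Submodule.Quotient.mk_eq_zero] at hmem
  obtain ⟨b, hb⟩ := hmem
  refine ⟨b, hinjAB ?_⟩
  rw [map_pow, ← hbβ]
  congr 1

end Groth.Agent.S0577
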