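import Groth.Statements.S0587
import Mathlib.LinearAlgebra.TensorProduct.Finiteness
import Mathlib.RingTheory.Finiteness.Basic

set_option autoImplicit false
universe u
open CAlg

namespace Groth.Agent.S0587

open TensorProduct

theorem exists_repr (R : Type u) [CommRing R] (M : Type u) [AddCommGroup M] [Module R M]
    {n : ℕ} (m : Fin n → M) (hm : Submodule.span R (Set.range m) = ⊤)
    (Q : Type u) [AddCommGroup Q] [Module R Q] (y : M ⊗[R] Q) :
    ∃ q : Fin n → Q, y = ∑ k, m k ⊗ₜ[R] q k := by
  induction y using TensorProduct.induction_on with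
  | zero => exact ⟨0, by simp⟩
  | tmul x q =>
    have hx : x ∈ Submodule.span R (Set.range m) := by rw [hm]; trivial
    obtain ⟨c, rfl⟩ := (Submodule.mem_span_range_iff_exists_fun R).mp hx
    refine ⟨fun k => c k • q, ?_⟩
    rw [TensorProduct.sum_tmul]
    apply Finset.sum_congr rfl
    intro k _
    rw [TensorProduct.smul_tmul]
  | add a b ha hb =>
    obtain ⟨qa, rfl⟩ := ha
    obtain ⟨qb, rfl⟩ := hb
    refine ⟨qa + qb, ?_⟩
    rw [← Finset.sum_add_distrib]
    apply Finset.sum_congr rfl
    intro k _
    rw [Pi.add_apply, TensorProduct.tmul_add]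

/-- A module `M` is finitely generated exactly when for every family of modules `(Qᵢ)` the natural map
from `M ⊗ ∏ Qᵢ` to `∏ (M ⊗ Qᵢ)` is surjective. -/
theorem result (R : Type u) [CommRing R] (M : Type u)
    [AddCommGroup M] [Module R M] :
    Module.Finite R M ↔ ∀ (ι : Type u) (Q : ι → Type u) [∀ i, AddCommGroup (Q i)]
      [∀ i, Module R (Q i)], Function.Surjective (TensorProduct.piRightHom R R M Q) := by
  constructor
  · intro hM ι Q _ _ y
    obtain ⟨n, m, hm⟩ := Module.Finite.exists_fin (R := R) (M := M)
    choose q hq using fun i => exists_repr R M m hm (Q i) (y i)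
    refine ⟨∑ k, m k ⊗ₜ[R] (fun i => q i k), ?_⟩
    rw [map_sum]
    ext i
    rw [Finset.sum_apply, hq i]
    rfl
  · intro H
    obtain ⟨t, ht⟩ := H M (fun _ => R) (fun x => x ⊗ₜ[R] (1 : R))
    obtain ⟨S, hS⟩ := TensorProduct.exists_finset t
    classical
    refine ⟨⟨S.image Prod.fst, ?_⟩⟩
    rw [eq_top_iff]
    intro x _
    have h1 := congrFun ht x
    rw [hS, map_sum, Finset.sum_apply] at h1
    have h2 := congrArg (TensorProduct.rid R M) h1
    rw [map_sum] at h2
    simp only [piRightHom_tmul, TensorProduct.rid_tmul, one_smul] at h2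
    rw [← h2]
    apply Submodule.sum_mem
    intro p hp
    apply Submodule.smul_mem
    apply Submodule.subset_span
    exact Finset.mem_coe.mpr (Finset.mem_image_of_mem _ hp)

end Groth.Agent.S0587
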