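import Groth.Statements.S0588
import Groth.Agent.S0587
import Mathlib.LinearAlgebra.TensorProduct.RightExactness
import Mathlib.RingTheory.Flat.Basic

set_option autoImplicit false
universe u
open CAlg

namespace Groth.Agent.S0588

open TensorProduct LinearMap

section

variable (R : Type u) [CommRing R]

theorem naturality {N N' : Type u} [AddCommGroup N] [Module R N] [AddCommGroup N'] [Module R N']
    (h : N →ₗ[R] N') {ι : Type u} (Q : ι → Type u) [∀ i, AddCommGroup (Q i)] [∀ i, Module R (Q i)]
    (t : N ⊗[R] (∀ i, Q i)) (i : ι) :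
    rTensor (Q i) h (piRightHom R R N Q t i) = piRightHom R R N' Q (rTensor (∀ i, Q i) h t) i := by
  induction t using TensorProduct.induction_on with
  | zero => simp
  | tmul x q => simp
  | add a b ha hb => simp only [map_add, Pi.add_apply, ha, hb]

noncomputable def psi (n : ℕ) (N : Type u) [AddCommGroup N] [Module R N] :
    (Fin n → R) ⊗[R] N ≃ₗ[R] (Fin n → N) :=
  (TensorProduct.comm R (Fin n → R) N).trans (TensorProduct.piScalarRight R R N (Fin n))

theorem psi_tmul (n : ℕ) (N : Type u) [AddCommGroup N] [Module R N] (v : Fin n → R) (x : N) (k : Fin n) :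
    psi R n N (v ⊗ₜ x) k = v k • x := by
  simp [psi]

theorem psi_nat (n : ℕ) {ι : Type u} (Q : ι → Type u) [∀ i, AddCommGroup (Q i)] [∀ i, Module R (Q i)]
    (t : (Fin n → R) ⊗[R] (∀ i, Q i)) (i : ι) (k : Fin n) :
    psi R n (Q i) (piRightHom R R (Fin n → R) Q t i) k = (psi R n (∀ i, Q i) t k) i := by
  induction t using TensorProduct.induction_on with
  | zero => simp
  | tmul v q => simp [psi_tmul]
  | add a b ha hb => simp only [map_add, Pi.add_apply, ha, hb]

theorem free_injective (n : ℕ) {ι : Type u} (Q : ι → Type u) [∀ i, AddCommGroup (Q i)]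
    [∀ i, Module R (Q i)] : Function.Injective (piRightHom R R (Fin n → R) Q) := by
  rw [injective_iff_map_eq_zero]
  intro t ht
  apply (psi R n (∀ i, Q i)).injective
  rw [map_zero]
  ext k i
  rw [← psi_nat, ht]
  simp

theorem free_surjective (n : ℕ) {ι : Type u} (Q : ι → Type u) [∀ i, AddCommGroup (Q i)]
    [∀ i, Module R (Q i)] : Function.Surjective (piRightHom R R (Fin n → R) Q) :=
  (Groth.Agent.S0587.result R (Fin n → R)).mp inferInstance ι Q

theorem finite_of_surj (K : Type u) [AddCommGroup K] [Module R K]
    (H : Function.Surjective (piRightHom R R K (fun _ : K => R))) : Module.Finite R K := by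
  obtain ⟨t, ht⟩ := H (fun x => x ⊗ₜ[R] (1 : R))
  obtain ⟨S, hS⟩ := TensorProduct.exists_finset t
  classical
  refine ⟨⟨S.image Prod.fst, ?_⟩⟩
  rw [eq_top_iff]
  intro x _
  have h1 := congrFun ht x
  rw [hS, map_sum, Finset.sum_apply] at h1
  have h2 := congrArg (TensorProduct.rid R K) h1
  rw [map_sum] at h2
  simp only [piRightHom_tmul, TensorProduct.rid_tmul, one_smul] at h2
  rw [← h2]
  apply Submodule.sum_mem
  intro p hp
  apply Submodule.smul_mem
  apply Submodule.subset_span
  exact Finset.mem_coe.mpr (Finset.mem_image_of_mem _ hp)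

theorem injective_of_fp (M : Type u) [AddCommGroup M] [Module R M] [Module.FinitePresentation R M]
    {ι : Type u} (Q : ι → Type u) [∀ i, AddCommGroup (Q i)] [∀ i, Module R (Q i)] :
    Function.Injective (piRightHom R R M Q) := by
  obtain ⟨n, m, f, g, hf, hfg⟩ := Module.FinitePresentation.exists_fin' R M
  rw [injective_iff_map_eq_zero]
  intro t ht
  obtain ⟨t', rfl⟩ := rTensor_surjective (∀ i, Q i) hf t
  have h1 : ∀ i, piRightHom R R (Fin n → R) Q t' i ∈ LinearMap.range (rTensor (Q i) g) := by
    intro i
    rw [← (rTensor_exact (Q i) hfg hf).linearMap_ker_eq, LinearMap.mem_ker, naturality, ht]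
    rfl
  choose z hz using h1
  obtain ⟨s, hs⟩ := free_surjective R m Q z
  have h2 : piRightHom R R (Fin n → R) Q (rTensor (∀ i, Q i) g s) = piRightHom R R (Fin n → R) Q t' := by
    ext1 i
    rw [← naturality, hs, hz]
  have h3 := free_injective R n Q h2
  rw [← h3, ← LinearMap.comp_apply, ← rTensor_comp]
  have : f ∘ₗ g = 0 := hfg.linearMap_comp_eq_zero
  rw [this, rTensor_zero, LinearMap.zero_apply]

theorem fp_of_bijective (M : Type u) [AddCommGroup M] [Module R M]
    (H : ∀ (ι : Type u) (Q : ι → Type u) [∀ i, AddCommGroup (Q i)]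
      [∀ i, Module R (Q i)], Function.Bijective (TensorProduct.piRightHom R R M Q)) :
    Module.FinitePresentation R M := by
  have hfin : Module.Finite R M :=
    (Groth.Agent.S0587.result R M).mpr (fun ι Q _ _ => (H ι Q).2)
  obtain ⟨n, f, hf⟩ := Module.Finite.exists_fin' R M
  apply Module.finitePresentation_of_surjective f hf
  let K := LinearMap.ker f
  have hex : Function.Exact K.subtype f := by
    intro x
    constructor
    · intro hx
      exact ⟨⟨x, hx⟩, rfl⟩
    · rintro ⟨y, rfl⟩
      exact y.2
  have hKfin : Module.Finite R K := by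
    apply finite_of_surj
    intro y
    let P := (K → R)
    let Q : K → Type u := fun _ => R
    let y' : ∀ i : K, (Fin n → R) ⊗[R] R := fun i => rTensor R K.subtype (y i)
    obtain ⟨t', ht'⟩ := free_surjective R n Q y'
    have h1 : piRightHom R R M Q (rTensor (∀ i, Q i) f t') = 0 := by
      ext1 i
      rw [← naturality, ht']
      show rTensor R f (rTensor R K.subtype (y i)) = 0
      rw [← LinearMap.comp_apply, ← rTensor_comp, hex.linearMap_comp_eq_zero, rTensor_zero,
        LinearMap.zero_apply]
    have h2 : rTensor (∀ i, Q i) f t' = 0 := (H K Q).1 (by rw [h1, map_zero])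
    have h3 : t' ∈ LinearMap.range (rTensor (∀ i, Q i) K.subtype) := by
      rw [← (rTensor_exact (∀ i, Q i) hex hf).linearMap_ker_eq, LinearMap.mem_ker, h2]
    obtain ⟨s, hs⟩ := h3
    refine ⟨s, ?_⟩
    ext1 i
    have hinj : Function.Injective (rTensor R K.subtype) :=
      Module.Flat.rTensor_preserves_injective_linearMap (M := R) K.subtype K.subtype_injective
    apply hinj
    have := naturality R K.subtype Q s i
    rw [this, hs, ht']
  exact (Module.Finite.iff_fg).mp hKfin

end

/-- A module `M` is finitely presented exactly when for every family of modules `(Qᵢ)` the natural map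
from `M ⊗ ∏ Qᵢ` to `∏ (M ⊗ Qᵢ)` is bijective. -/
theorem result (R : Type u) [CommRing R] (M : Type u)
    [AddCommGroup M] [Module R M] :
    Module.FinitePresentation R M ↔ ∀ (ι : Type u) (Q : ι → Type u) [∀ i, AddCommGroup (Q i)]
      [∀ i, Module R (Q i)], Function.Bijective (TensorProduct.piRightHom R R M Q) := by
  constructor
  · intro hM ι Q _ _
    exact ⟨injective_of_fp R M Q,
      (Groth.Agent.S0587.result R M).mp inferInstance ι Q⟩
  · intro H
    exact fp_of_bijective R M H

end Groth.Agent.S0588
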