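import Groth.Statements.S0597
-- import your own Groth.Agent.* helpers here
import Groth.Agent.S0595
import Groth.Agent.S0536
import Groth.Agent.S0543
import Groth.Agent.Lib.Helper83.ZarLaur2
import Groth.Agent.Lib.Helper76.ComplFacts

set_option autoImplicit false
universe u
open CAlg

namespace Groth.Agent.S0597

/-- Let `A` be Noetherian and Henselian at `I`, and suppose the map to the `I`-adic completion is
regular. Any solution in the completion of a finite system of polynomial equations over `A` can be
approximated to any `I`-adic order by a solution in `A`. -/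
theorem result (A : Type u) [CommRing A] [IsNoetherianRing A]
    (I : Ideal A) [HenselianRing A I] (hreg : CAlg.IsRegularHom A (AdicCompletion I A)) (n m : ℕ)
    (F : Fin m → MvPolynomial (Fin n) A) (a : Fin n → (AdicCompletion I A))
    (ha : ∀ j, MvPolynomial.eval a (MvPolynomial.map (algebraMap A (AdicCompletion I A)) (F j)) = 0) (N : ℕ) :
    ∃ b : Fin n → A, (∀ j, MvPolynomial.eval b (F j) = 0) ∧
      ∀ i, a i - algebraMap A (AdicCompletion I A) (b i) ∈ (I ^ N).map (algebraMap A (AdicCompletion I A)) := by
  classical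
  haveI : IsNoetherianRing (AdicCompletion I A) := Groth.Agent.S0543.result A I
  have hIfg : I.FG := (isNoetherianRing_iff_ideal_fg A).mp inferInstance I
  -- the finitely presented algebra of the system
  let K : Ideal (MvPolynomial (Fin n) A) := Ideal.span (Set.range F)
  let C := MvPolynomial (Fin n) A ⧸ K
  have hKfg : K.FG := Submodule.fg_span (Set.finite_range F)
  haveI : Algebra.FinitePresentation A C := Algebra.FinitePresentation.quotient hKfg
  have hav : ∀ x ∈ K, MvPolynomial.aeval a x = 0 := by
    intro x hx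
    have hle : K ≤ RingHom.ker (MvPolynomial.aeval a : MvPolynomial (Fin n) A →ₐ[A] _).toRingHom := by
      refine Ideal.span_le.mpr ?_
      rintro _ ⟨j, rfl⟩
      show MvPolynomial.aeval a (F j) = 0
      rw [MvPolynomial.aeval_def, MvPolynomial.eval₂_eq_eval_map]
      exact ha j
    exact hle hx
  let f : C →ₐ[A] AdicCompletion I A := Ideal.Quotient.liftₐ K (MvPolynomial.aeval a) hav
  obtain ⟨B, _, _, hsm, g, h, hgh⟩ :=
    Groth.Agent.S0595.result A (AdicCompletion I A) hreg C f
  -- henselian along `I ^ (N + 1)`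
  let J : Ideal A := I ^ (N + 1)
  haveI : HenselianRing A J :=
    Groth.Agent.Lib.Helper83.ZarLaur.henselian_of_pow_le I J 1 (by
      rw [pow_one]; exact Ideal.pow_le_self (Nat.succ_ne_zero N))
  let σ : B →ₐ[A] A ⧸ J := (AdicCompletion.evalₐ I (N + 1)).comp h
  obtain ⟨τ, hτ⟩ := Groth.Agent.S0536.result A B A J σ
  let ρ : MvPolynomial (Fin n) A →ₐ[A] A :=
    τ.comp (g.comp (Ideal.Quotient.mkₐ A K))
  refine ⟨fun i => ρ (MvPolynomial.X i), ?_, ?_⟩
  · intro j
    have h1 : ρ = MvPolynomial.aeval (fun i => ρ (MvPolynomial.X i)) := by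
      apply MvPolynomial.algHom_ext
      intro i
      simp
    have h2 : MvPolynomial.eval (fun i => ρ (MvPolynomial.X i)) (F j) = ρ (F j) := by
      conv_rhs => rw [h1]
      rfl
    rw [h2]
    have h3 : Ideal.Quotient.mkₐ A K (F j) = 0 := by
      show Ideal.Quotient.mk K (F j) = 0
      rw [Ideal.Quotient.eq_zero_iff_mem]
      exact Ideal.subset_span ⟨j, rfl⟩
    show τ (g (Ideal.Quotient.mkₐ A K (F j))) = 0
    rw [h3, map_zero, map_zero]
  · intro i
    have hker := Groth.Agent.Lib.Helper76.ComplFacts.ker_evalₐ I hIfg (N + 1)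
    have hmem : a i - algebraMap A (AdicCompletion I A) (ρ (MvPolynomial.X i)) ∈
        RingHom.ker (AdicCompletion.evalₐ I (N + 1) : AdicCompletion I A →+* A ⧸ I ^ (N + 1)) := by
      rw [RingHom.mem_ker, map_sub, sub_eq_zero]
      have e1 : a i = h (g (Ideal.Quotient.mkₐ A K (MvPolynomial.X i))) := by
        have := DFunLike.congr_fun hgh (Ideal.Quotient.mkₐ A K (MvPolynomial.X i))
        rw [AlgHom.comp_apply] at this
        rw [this]
        show a i = Ideal.Quotient.liftₐ K (MvPolynomial.aeval a) hav
          (Ideal.Quotient.mk K (MvPolynomial.X i))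
        rw [Ideal.Quotient.liftₐ_apply, Ideal.Quotient.lift_mk]
        simp
      have e2 : (AdicCompletion.evalₐ I (N + 1) : AdicCompletion I A →+* A ⧸ I ^ (N + 1))
          (h (g (Ideal.Quotient.mkₐ A K (MvPolynomial.X i))))
          = σ (g (Ideal.Quotient.mkₐ A K (MvPolynomial.X i))) := rfl
      have e3 := DFunLike.congr_fun hτ (g (Ideal.Quotient.mkₐ A K (MvPolynomial.X i)))
      rw [AlgHom.comp_apply] at e3
      rw [e1, e2, ← e3]
      show _ = (AdicCompletion.evalₐ I (N + 1))
        (algebraMap A (AdicCompletion I A) (τ (g (Ideal.Quotient.mkₐ A K (MvPolynomial.X i)))))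
      rw [AlgHom.commutes]
      rfl
    rw [hker, ← Ideal.map_pow] at hmem
    exact Ideal.map_mono (Ideal.pow_le_pow_right (Nat.le_succ N)) hmem

end Groth.Agent.S0597
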