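import Groth.Statements.S0605
import Groth.Agent.Lib.Helper77.RegularAB

set_option autoImplicit false
universe u
open CAlg

namespace Groth.Agent.S0605

section Aux
open IsLocalRing CategoryTheory LocCoh


theorem main (R : Type u) [CommRing R]
    [IsRegularLocalRing R] (M : Type u) [AddCommGroup M] [Module R M] [Module.Finite R M]
    (h : ((LocCoh.depth R M : ℕ∞) : WithBot ℕ∞) = ringKrullDim R) : Module.Free R M := by
  rcases subsingleton_or_nontrivial M with hs | hnt
  · exact Module.Free.of_subsingleton R M
  obtain ⟨e, hpd, hdim⟩ := Groth.Agent.Lib.Helper77.RegularAB.exists_pd_add_depth_eq_dim R M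
  obtain ⟨d, hd⟩ := Groth.Agent.Lib.Helper77.RegularAB.exists_ringKrullDim_eq R
  rw [hd] at h hdim
  have h1 : depth R M = (d : ℕ∞) := by exact_mod_cast h
  rw [h1] at hdim
  have h2 : d = e + d := by exact_mod_cast hdim
  have he : e = 0 := by omega
  subst he
  have hp : Projective (ModuleCat.of R M) := by
    have := (projectiveDimension_eq_zero_iff (ModuleCat.of R M)).mp (by rw [hpd]; rfl)
    exact this.1
  have hp' : Module.Projective R M := by
    rw [← IsProjective.iff_projective] at hp
    exact hp
  exact Module.free_of_flat_of_isLocalRing


end Aux

/-- Over a regular local ring, a finitely generated module whose depth equals the dimension of the ring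
(a maximal Cohen–Macaulay module) is free. -/
theorem result (R : Type u) [CommRing R]
    [IsRegularLocalRing R] (M : Type u) [AddCommGroup M] [Module R M] [Module.Finite R M]
    (h : ((LocCoh.depth R M : ℕ∞) : WithBot ℕ∞) = ringKrullDim R) : Module.Free R M := by
  exact main R M h

end Groth.Agent.S0605
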