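import Groth.Statements.S0608
import Mathlib
import Groth.Agent.Lib.Helper71.Rees

set_option autoImplicit false
universe u
open RRAlg

namespace Groth.Agent.S0608
open Groth.Agent.Lib.Helper71.Rees

theorem aeval_of_isHomogeneous {A : Type u} [CommRing A] {n : ℕ} (a : Fin n → A) (d : ℕ)
    (P : MvPolynomial (Fin n) A) (hP : P.IsHomogeneous d) :
    MvPolynomial.aeval (R := A) (fun i : Fin n => Polynomial.C (a i) * (Polynomial.X : Polynomial A)) P =
      Polynomial.C (MvPolynomial.eval a P) * Polynomial.X ^ d := by
  conv_lhs => rw [← P.support_sum_monomial_coeff]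
  conv_rhs => rw [← P.support_sum_monomial_coeff]
  rw [map_sum, map_sum, map_sum, Finset.sum_mul]
  refine Finset.sum_congr rfl fun e he => ?_
  have hdeg : e.degree = d := by
    rw [Finsupp.degree_eq_weight_one]
    exact hP (MvPolynomial.mem_support_iff.mp he)
  rw [MvPolynomial.aeval_monomial, MvPolynomial.eval_monomial, Polynomial.algebraMap_eq, map_mul,
    mul_assoc]
  congr 1
  rw [Finsupp.prod, Finsupp.prod, map_prod, ← hdeg, Finsupp.degree_apply, ← Finset.prod_pow_eq_pow_sum,
    ← Finset.prod_mul_distrib]
  refine Finset.prod_congr rfl fun i _ => ?_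
  rw [mul_pow, map_pow]


/-- Let a_1, …, a_n be a weakly regular sequence in a commutative ring A (each a_i is a non-zero-divisor
modulo (a_1, …, a_(i−1)); the a_i are allowed to generate the unit ideal). Then the kernel of the
A-algebra map A[X_1, …, X_n] → A[T] sending X_i to a_i·T, whose image is the Rees algebra of the
ideal (a_1, …, a_n), is the ideal generated by the elements a_i X_j − a_j X_i. (The published
statement assumes a regular sequence; only weak regularity is assumed here.) -/
theorem result {A : Type u} [CommRing A] {n : ℕ} (a : Fin n → A)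
    (ha : RingTheory.Sequence.IsWeaklyRegular A (List.ofFn a)) :
    RingHom.ker (MvPolynomial.aeval (R := A)
      (fun i : Fin n => Polynomial.C (a i) * (Polynomial.X : Polynomial A))) =
      Ideal.span {q : MvPolynomial (Fin n) A | ∃ i j : Fin n,
        q = MvPolynomial.C (a i) * MvPolynomial.X j - MvPolynomial.C (a j) * MvPolynomial.X i} := by
  have hcore := core_of_isWeaklyRegular a ha
  apply le_antisymm
  · intro P hP
    rw [RingHom.mem_ker] at hP
    have hcomp : ∀ d, MvPolynomial.eval a (MvPolynomial.homogeneousComponent d P) = 0 := by
      intro d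
      have h1 : MvPolynomial.aeval (R := A)
          (fun i : Fin n => Polynomial.C (a i) * (Polynomial.X : Polynomial A)) P =
          ∑ k ∈ Finset.range (P.totalDegree + 1),
            Polynomial.C (MvPolynomial.eval a (MvPolynomial.homogeneousComponent k P)) *
              Polynomial.X ^ k := by
        conv_lhs => rw [← MvPolynomial.sum_homogeneousComponent P]
        rw [map_sum]
        refine Finset.sum_congr rfl fun k _ => ?_
        exact aeval_of_isHomogeneous a k _ (MvPolynomial.homogeneousComponent_isHomogeneous k P)
      have h2 := congrArg (fun q => Polynomial.coeff q d) h1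
      simp only [hP, Polynomial.coeff_zero, Polynomial.finsetSum_coeff, Polynomial.coeff_C_mul,
        Polynomial.coeff_X_pow] at h2
      by_cases hd : d ∈ Finset.range (P.totalDegree + 1)
      · rw [Finset.sum_eq_single d] at h2
        · simpa using h2.symm
        · intro k _ hk
          rw [if_neg (Ne.symm hk), mul_zero]
        · intro h; exact absurd hd h
      · rw [Finset.mem_range, not_lt] at hd
        rw [MvPolynomial.homogeneousComponent_eq_zero _ _ (by omega), map_zero]
    rw [← MvPolynomial.sum_homogeneousComponent P]
    refine Ideal.sum_mem _ fun d _ => ?_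
    exact hcore d _ (MvPolynomial.homogeneousComponent_isHomogeneous d P) (hcomp d)
  · rw [Ideal.span_le]
    rintro _ ⟨i, j, rfl⟩
    simp only [SetLike.mem_coe, RingHom.mem_ker, map_sub, map_mul, MvPolynomial.aeval_C,
      MvPolynomial.aeval_X, Polynomial.algebraMap_eq]
    ring

end Groth.Agent.S0608
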