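import Groth.Statements.S0611
import Groth.Agent.S5802
import Groth.Agent.S5803
import Groth.Agent.S3824

set_option autoImplicit false
universe u
open RRAlg

namespace Groth.Agent.S0611

/-- In a Noetherian local ring, any minimal generating set of an ideal generated by a regular sequence
is again a regular sequence: if a₁, …, aₙ is a regular sequence and b₁, …, bₙ are n elements
generating the same ideal, then b₁, …, bₙ is a regular sequence. (A regular sequence of length n
generating an ideal I is a minimal generating set of I, so "minimal" amounts to "of length n".) -/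
theorem result {A : Type u} [CommRing A] [IsLocalRing A] [IsNoetherianRing A]
    {n : ℕ} (a b : Fin n → A) (ha : RingTheory.Sequence.IsRegular A (List.ofFn a))
    (hab : Ideal.span (Set.range a) = Ideal.span (Set.range b)) :
    RingTheory.Sequence.IsRegular A (List.ofFn b) := by
  have hqa : CAlgX.IsQuasiRegular a := Groth.Agent.S5802.result A n a ha.toIsWeaklyRegular
  have hqb : CAlgX.IsQuasiRegular b := Groth.Agent.S3824.result a b hqa hab.symm
  -- the ideal is proper
  have hlist : Ideal.ofList (List.ofFn a) = Ideal.span (Set.range a) := by
    unfold Ideal.ofList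
    congr 1
    ext x
    simp [List.mem_ofFn]
  have hne : Ideal.span (Set.range a) ≠ ⊤ := by
    intro htop
    apply ha.top_ne_smul
    rw [hlist, htop, smul_eq_mul, Ideal.mul_top]
  have hle : Ideal.span (Set.range b) ≤ IsLocalRing.maximalIdeal A := by
    rw [← hab]
    exact IsLocalRing.le_maximalIdeal hne
  have hbm : ∀ i, b i ∈ IsLocalRing.maximalIdeal A := fun i =>
    hle (Ideal.subset_span (Set.mem_range_self i))
  have hjac : ∀ i, b i ∈ Ring.jacobson A := by
    intro i
    rw [Ring.jacobson_eq_sInf_isMaximal]
    rw [Submodule.mem_sInf] 
    intro m hm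
    have : m = IsLocalRing.maximalIdeal A := IsLocalRing.eq_maximalIdeal hm
    rw [this]
    exact hbm i
  have hw := Groth.Agent.S5803.result A n b hjac hqb
  refine RingTheory.Sequence.IsRegular.of_isWeaklyRegular_of_mem_maximalIdeal A ?_ hw
  intro r hr
  rw [List.mem_ofFn] at hr
  obtain ⟨i, rfl⟩ := hr
  exact hbm i

end Groth.Agent.S0611
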