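import Groth.Statements.S0614
import Groth.Agent.Lib.Helper1.PGRMain

set_option autoImplicit false
universe u
open Neron

namespace Groth.Agent.S0614

/-- (c) (the base Dedekind scheme taken local): an elliptic curve E over the fraction field K of a
discrete valuation ring R has integral j-invariant if and only if it has potential good reduction
(stated here with a finite extension: there are a finite extension L of K and a discrete valuation
ring R_L of L dominating R over which a minimal Weierstrass equation of E_L has good reduction). -/
theorem result {R : Type u} [CommRing R] [IsDomain R]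
    [IsDiscreteValuationRing R] {K : Type u} [Field K] [Algebra R K] [IsFractionRing R K]
    (W : WeierstrassCurve K) [W.IsElliptic] :
    (∃ r : R, algebraMap R K r = W.j) ↔
      ∃ (L : Type u) (_ : Field L) (_ : Algebra K L) (_ : FiniteDimensional K L) (RL : Type u)
        (_ : CommRing RL) (_ : IsDomain RL) (_ : IsDiscreteValuationRing RL) (_ : Algebra RL L)
        (_ : IsFractionRing RL L) (φ : R →+* RL), IsLocalHom φ ∧
        (∀ r : R, algebraMap K L (algebraMap R K r) = algebraMap RL L (φ r)) ∧
        ((W.baseChange L).minimal RL).HasGoodReduction RL := by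
  constructor
  · rintro ⟨r, hr⟩
    obtain ⟨L, hF, hA, hfd, hL⟩ := Groth.Agent.Lib.Helper1.PGR.exists_ext (R := R) W
    obtain ⟨RL, h1, h2, h3, h4, h5, φ, hφ, hcomp, hgood⟩ :=
      Groth.Agent.Lib.Helper1.PGR.good_of_ext W r hr L hL
    exact ⟨L, hF, hA, hfd, RL, h1, h2, h3, h4, h5, φ, hφ, hcomp, hgood⟩
  · rintro ⟨L, hF, hA, hfd, RL, h1, h2, h3, h4, h5, φ, hφ, hcomp, hgood⟩
    exact Groth.Agent.Lib.Helper1.PGR.j_integral_of_good W φ hφ hcomp hgood

end Groth.Agent.S0614
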