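import Groth.Statements.S0615
import Mathlib
import Groth.Agent.Lib.Helper71.Rees

set_option autoImplicit false
universe u
open RRAlg

namespace Groth.Agent.S0615
open Groth.Agent.Lib.Helper71.Rees

theorem aeval_mul_of_isHomogeneous {A : Type u} [CommRing A] {R : Type*} [CommRing R] [Algebra A R]
    {σ : Type*} (g : σ → R) (t : R) (d : ℕ)
    (P : MvPolynomial σ A) (hP : P.IsHomogeneous d) :
    MvPolynomial.aeval (R := A) (fun j => t * g j) P = t ^ d * MvPolynomial.aeval (R := A) g P := by
  conv_lhs => rw [← P.support_sum_monomial_coeff]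
  conv_rhs => rw [← P.support_sum_monomial_coeff]
  rw [map_sum, map_sum, Finset.mul_sum]
  refine Finset.sum_congr rfl fun e he => ?_
  have hdeg : e.degree = d := by
    rw [Finsupp.degree_eq_weight_one]
    exact hP (MvPolynomial.mem_support_iff.mp he)
  rw [MvPolynomial.aeval_monomial, MvPolynomial.aeval_monomial, mul_left_comm]
  congr 1
  rw [Finsupp.prod, Finsupp.prod, ← hdeg, Finsupp.degree_apply, ← Finset.prod_pow_eq_pow_sum,
    ← Finset.prod_mul_distrib]
  refine Finset.prod_congr rfl fun i _ => ?_
  rw [mul_pow]

/-- homogenization -/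
theorem exists_homogenization {A : Type u} [CommRing A] {n : ℕ} (F : MvPolynomial (Fin n) A) :
    ∃ H : MvPolynomial (Fin (n + 1)) A, H.IsHomogeneous F.totalDegree ∧
      MvPolynomial.aeval (R := A) (Fin.cons 1 MvPolynomial.X : Fin (n + 1) → MvPolynomial (Fin n) A) H = F := by
  classical
  refine ⟨∑ α ∈ F.support, MvPolynomial.C (MvPolynomial.coeff α F) *
    MvPolynomial.X 0 ^ (F.totalDegree - α.degree) *
      MvPolynomial.rename Fin.succ (MvPolynomial.monomial α 1), ?_, ?_⟩
  · refine MvPolynomial.IsHomogeneous.sum _ _ _ fun α hα => ?_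
    have hle : α.degree ≤ F.totalDegree := by
      have := MvPolynomial.le_totalDegree hα
      rwa [Finsupp.degree_apply]
    have h1 : (MvPolynomial.monomial α (1 : A)).IsHomogeneous α.degree :=
      MvPolynomial.isHomogeneous_monomial 1 rfl
    have := (((MvPolynomial.isHomogeneous_X_pow (R := A) (0 : Fin (n + 1))
      (F.totalDegree - α.degree)).C_mul (MvPolynomial.coeff α F)).mul
      (h1.rename_isHomogeneous (f := Fin.succ)))
    rwa [show F.totalDegree - α.degree + α.degree = F.totalDegree by omega] at this
  · conv_rhs => rw [← F.support_sum_monomial_coeff]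
    rw [map_sum]
    refine Finset.sum_congr rfl fun α _ => ?_
    rw [map_mul, map_mul, map_pow, MvPolynomial.aeval_C, MvPolynomial.aeval_X, Fin.cons_zero,
      one_pow, mul_one, MvPolynomial.aeval_rename]
    have : (Fin.cons 1 MvPolynomial.X : Fin (n + 1) → MvPolynomial (Fin n) A) ∘ Fin.succ =
        MvPolynomial.X := by
      ext i; simp
    rw [this, MvPolynomial.aeval_X_left, AlgHom.id_apply, MvPolynomial.algebraMap_eq,
      MvPolynomial.C_mul_monomial, mul_one]


/-- Let A be a commutative ring and a_0, a_1, …, a_n a weakly regular sequence in A (for each i, a_i is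
a non-zero-divisor on A/(a_0, …, a_{i−1}); the sequence is indexed here by Fin (n+1)). Then the
kernel of the A-algebra homomorphism A[T_1, …, T_n] → A[1/a_0] sending T_i to a_i/a_0 is the ideal
generated by the elements a_0 T_i − a_i for 1 ≤ i ≤ n (a presentation of the affine blow-up algebra
A[a_1/a_0, …, a_n/a_0]). -/
theorem result {A : Type u} [CommRing A] {n : ℕ}
    (a : Fin (n + 1) → A) (ha : RingTheory.Sequence.IsWeaklyRegular A (List.ofFn a)) :
    RingHom.ker (MvPolynomial.aeval (R := A) (S₁ := Localization.Away (a 0))
      (fun i : Fin n => IsLocalization.mk' (Localization.Away (a 0)) (a i.succ)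
        (⟨a 0, Submonoid.mem_powers (a 0)⟩ : Submonoid.powers (a 0)))) =
      Ideal.span (Set.range fun i : Fin n =>
        MvPolynomial.C (a 0) * MvPolynomial.X i - MvPolynomial.C (a i.succ)) := by
  have hcore := core_of_isWeaklyRegular a ha
  have hreg : IsSMulRegular A (a 0) := by
    have hl : List.ofFn a = a 0 :: List.ofFn (fun i : Fin n => a i.succ) := List.ofFn_succ
    rw [hl, RingTheory.Sequence.isWeaklyRegular_cons_iff] at ha
    exact ha.1
  obtain ⟨u, hu⟩ : ∃ u : Fin n → Localization.Away (a 0), u =
      (fun i : Fin n => IsLocalization.mk' (Localization.Away (a 0)) (a i.succ)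
        (⟨a 0, Submonoid.mem_powers (a 0)⟩ : Submonoid.powers (a 0))) := ⟨_, rfl⟩
  rw [← hu]
  have hu_spec : ∀ i, algebraMap A (Localization.Away (a 0)) (a 0) * u i =
      algebraMap A (Localization.Away (a 0)) (a i.succ) := by
    intro i
    rw [hu]
    exact IsLocalization.mk'_spec' (Localization.Away (a 0)) (a i.succ)
      (⟨a 0, Submonoid.mem_powers (a 0)⟩ : Submonoid.powers (a 0))
  apply le_antisymm
  · intro F hF
    rw [RingHom.mem_ker] at hF
    obtain ⟨H, hHh, hHF⟩ := exists_homogenization F
    have h1 : algebraMap A (Localization.Away (a 0)) (MvPolynomial.eval a H) =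
        algebraMap A (Localization.Away (a 0)) (a 0) ^ F.totalDegree *
          MvPolynomial.aeval (R := A) u F := by
      have e1 : algebraMap A (Localization.Away (a 0)) (MvPolynomial.eval a H) =
          MvPolynomial.aeval (R := A) (fun j => algebraMap A (Localization.Away (a 0)) (a j)) H := by
        have : (algebraMap A (Localization.Away (a 0))).comp (MvPolynomial.eval a) =
            (MvPolynomial.aeval (R := A)
              (fun j => algebraMap A (Localization.Away (a 0)) (a j))).toRingHom := by
          apply MvPolynomial.ringHom_ext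
          · intro r; simp
          · intro i; simp
        exact DFunLike.congr_fun this H
      have e2 : (fun j => algebraMap A (Localization.Away (a 0)) (a j)) =
          fun j => algebraMap A (Localization.Away (a 0)) (a 0) *
            (Fin.cons 1 u : Fin (n + 1) → Localization.Away (a 0)) j := by
        funext j
        refine Fin.cases ?_ (fun i => ?_) j
        · simp
        · simp [hu_spec]
      have e3 : MvPolynomial.aeval (R := A) (Fin.cons 1 u : Fin (n + 1) → Localization.Away (a 0)) H =
          MvPolynomial.aeval (R := A) u F := by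
        rw [← hHF]
        have : (MvPolynomial.aeval (R := A) (Fin.cons 1 u : Fin (n + 1) → Localization.Away (a 0))) =
            (MvPolynomial.aeval (R := A) u).comp
              (MvPolynomial.aeval (R := A)
                (Fin.cons 1 MvPolynomial.X : Fin (n + 1) → MvPolynomial (Fin n) A)) := by
          apply MvPolynomial.algHom_ext
          intro j
          refine Fin.cases ?_ (fun i => ?_) j
          · simp
          · simp
        rw [this]; rfl
      rw [e1, e2, aeval_mul_of_isHomogeneous _ _ _ H hHh, e3]
    rw [hF, mul_zero] at h1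
    have h2 : MvPolynomial.eval a H = 0 := by
      obtain ⟨⟨_, k, rfl⟩, hk⟩ :=
        (IsLocalization.map_eq_zero_iff (Submonoid.powers (a 0)) _ _).mp h1
      apply hreg.pow k
      simpa using hk
    have h3 := hcore _ H hHh h2
    rw [← hHF]
    have h4 : JJ a ≤ Ideal.comap (MvPolynomial.aeval (R := A)
        (Fin.cons 1 MvPolynomial.X : Fin (n + 1) → MvPolynomial (Fin n) A))
        (Ideal.span (Set.range fun i : Fin n =>
          MvPolynomial.C (a 0) * MvPolynomial.X i - MvPolynomial.C (a i.succ))) := by
      have hgen : ∀ i : Fin n, MvPolynomial.C (a 0) * MvPolynomial.X i - MvPolynomial.C (a i.succ) ∈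
          Ideal.span (Set.range fun i : Fin n =>
            (MvPolynomial.C (a 0) * MvPolynomial.X i - MvPolynomial.C (a i.succ) :
              MvPolynomial (Fin n) A)) := fun i => Ideal.subset_span ⟨i, rfl⟩
      unfold JJ
      rw [Ideal.span_le]
      rintro _ ⟨i, j, rfl⟩
      rw [SetLike.mem_coe, Ideal.mem_comap, map_sub, map_mul, map_mul, MvPolynomial.aeval_C,
        MvPolynomial.aeval_C, MvPolynomial.aeval_X, MvPolynomial.aeval_X, MvPolynomial.algebraMap_eq]
      refine Fin.cases ?_ (fun i' => ?_) i <;> refine Fin.cases ?_ (fun j' => ?_) j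
      · simp
      · simpa using hgen j'
      · have := Ideal.neg_mem_iff _ |>.mpr (hgen i')
        simpa using this
      · have : MvPolynomial.C (a i'.succ) * (MvPolynomial.X j' : MvPolynomial (Fin n) A) -
            MvPolynomial.C (a j'.succ) * MvPolynomial.X i' =
            MvPolynomial.X i' * (MvPolynomial.C (a 0) * MvPolynomial.X j' - MvPolynomial.C (a j'.succ)) -
            MvPolynomial.X j' * (MvPolynomial.C (a 0) * MvPolynomial.X i' - MvPolynomial.C (a i'.succ)) := by
          ring
        simp only [Fin.cons_succ]
        rw [this]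
        exact Ideal.sub_mem _ (Ideal.mul_mem_left _ _ (hgen j')) (Ideal.mul_mem_left _ _ (hgen i'))
    exact h4 h3
  · rw [Ideal.span_le]
    rintro _ ⟨i, rfl⟩
    rw [SetLike.mem_coe, RingHom.mem_ker, map_sub, map_mul, MvPolynomial.aeval_C,
      MvPolynomial.aeval_C, MvPolynomial.aeval_X, hu_spec, sub_self]

end Groth.Agent.S0615
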