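import Groth.Statements.S6480
import Groth.Agent.S1833

set_option autoImplicit false
universe u
open CycAlg

namespace Groth.Agent.S6480

open Groth.Agent.Lib.Helper29.LengthFormula
open scoped Pointwise

section
variable {A : Type u} [CommRing A] [IsNoetherianRing A] [IsLocalRing A]

theorem krullDimLE_one_of_eq (hA : ringKrullDim A = 1) : Ring.KrullDimLE 1 A := by
  rw [Ring.krullDimLE_iff, hA]
  rfl

theorem eq_maximalIdeal_of_mem_of_nzd (hA : ringKrullDim A = 1) (a : A) (ha : a ∈ nonZeroDivisors A)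
    (p : Ideal A) [hp : p.IsPrime] (hap : a ∈ p) : p = IsLocalRing.maximalIdeal A := by
  have h1 := krullDimLE_one_of_eq hA
  rcases Ring.krullDimLE_one_iff.mp h1 p hp with h | h
  · exact absurd ha (notMem_nonZeroDivisors_of_mem_mem_minimalPrimes hap h)
  · exact IsLocalRing.eq_maximalIdeal h

theorem mem_minimalPrimes_iff_ne_maximalIdeal (hA : ringKrullDim A = 1) (p : Ideal A)
    [hp : p.IsPrime] : p ∈ minimalPrimes A ↔ p ≠ IsLocalRing.maximalIdeal A := by
  have h1 := krullDimLE_one_of_eq hA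
  constructor
  · rintro hmin rfl
    have hpos : (0 : WithBot ℕ∞) < ringKrullDim A := by rw [hA]; exact zero_lt_one
    unfold ringKrullDim at hpos
    obtain ⟨x, y, hxy⟩ := Order.krullDim_pos_iff.mp hpos
    have hxm : x.asIdeal ≤ IsLocalRing.maximalIdeal A := IsLocalRing.le_maximalIdeal x.2.ne_top
    have hym : y.asIdeal ≤ IsLocalRing.maximalIdeal A := IsLocalRing.le_maximalIdeal y.2.ne_top
    have hmx : IsLocalRing.maximalIdeal A ≤ x.asIdeal := hmin.2 ⟨x.2, bot_le⟩ hxm
    have hlt : x.asIdeal < y.asIdeal := hxy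
    exact absurd (hym.trans hmx) (not_le_of_gt hlt)
  · intro hne
    rcases Ring.krullDimLE_one_iff.mp h1 p hp with h | h
    · exact h
    · exact absurd (IsLocalRing.eq_maximalIdeal h) hne

variable {M : Type u} [AddCommGroup M] [Module A M]

theorem lsmul_injective_of_nzd (hMemb : ∀ p ∈ associatedPrimes A M, p ∈ minimalPrimes A) (a : A)
    (ha : a ∈ nonZeroDivisors A) : Function.Injective (LinearMap.lsmul A M a) := by
  rw [← LinearMap.ker_eq_bot, eq_bot_iff]
  intro m hm
  rw [Submodule.mem_bot]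
  by_contra hne
  obtain ⟨p, hp, hle⟩ := exists_le_isAssociatedPrime_of_isNoetherianRing A m hne
  have hmem : a ∈ p := hle (by
    rw [Submodule.mem_colon_singleton]
    exact hm)
  exact notMem_nonZeroDivisors_of_mem_mem_minimalPrimes hmem (hMemb p hp) ha

theorem supportDim_quot_le_zero [Module.Finite A M] (hA : ringKrullDim A = 1) (a : A)
    (ha : a ∈ nonZeroDivisors A) : Module.supportDim A (M ⧸ a • (⊤ : Submodule A M)) ≤ 0 := by
  unfold Module.supportDim
  have hsub : Subsingleton (Module.support A (M ⧸ a • (⊤ : Submodule A M))) := by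
    refine ⟨fun x y => ?_⟩
    have key : ∀ z : Module.support A (M ⧸ a • (⊤ : Submodule A M)),
        z.1.asIdeal = IsLocalRing.maximalIdeal A := by
      intro z
      have hz := Module.mem_support_iff_of_finite.mp z.2
      haveI := z.1.2
      apply eq_maximalIdeal_of_mem_of_nzd hA a ha
      apply hz
      rw [Module.mem_annihilator]
      intro q
      obtain ⟨m, rfl⟩ := Submodule.mkQ_surjective _ q
      rw [← map_smul, Submodule.mkQ_apply, Submodule.Quotient.mk_eq_zero]
      exact Submodule.smul_mem_pointwise_smul m a ⊤ trivial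
    apply Subtype.ext
    apply PrimeSpectrum.ext
    rw [key x, key y]
  exact Order.krullDim_nonpos_of_subsingleton

theorem length_quot_comap (b : A) (N : Submodule A M) (hN : N ≤ b • (⊤ : Submodule A M)) :
    Module.length A (M ⧸ N) =
      Module.length A (M ⧸ Submodule.comap (LinearMap.lsmul A M b) N) +
        Module.length A (M ⧸ b • (⊤ : Submodule A M)) := by
  refine Module.length_eq_add_of_exact
    (Submodule.mapQ (Submodule.comap (LinearMap.lsmul A M b) N) N (LinearMap.lsmul A M b) le_rfl)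
    (Submodule.factor hN) ?_ (Submodule.factor_surjective hN) ?_
  · rw [← LinearMap.ker_eq_bot, eq_bot_iff]
    intro q hq
    obtain ⟨m, rfl⟩ := Submodule.mkQ_surjective _ q
    rw [LinearMap.mem_ker, Submodule.mkQ_apply, Submodule.mapQ_apply,
      Submodule.Quotient.mk_eq_zero] at hq
    rw [Submodule.mem_bot, Submodule.mkQ_apply, Submodule.Quotient.mk_eq_zero]
    exact hq
  · intro q
    obtain ⟨m, rfl⟩ := Submodule.mkQ_surjective _ q
    rw [Submodule.factor_mk, Submodule.mkQ_apply, Submodule.mkQ_apply, Submodule.Quotient.mk_eq_zero]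
    constructor
    · intro hm
      obtain ⟨m', -, rfl⟩ := (Submodule.mem_smul_pointwise_iff_exists _ _ _).mp hm
      exact ⟨Submodule.Quotient.mk m', rfl⟩
    · rintro ⟨q', hq'⟩
      obtain ⟨m', rfl⟩ := Submodule.mkQ_surjective _ q'
      rw [Submodule.mkQ_apply, Submodule.mapQ_apply, Submodule.Quotient.eq] at hq'
      have h1 : b • m' - m ∈ b • (⊤ : Submodule A M) := hN hq'
      have h2 : b • m' ∈ b • (⊤ : Submodule A M) :=
        Submodule.smul_mem_pointwise_smul m' b ⊤ trivial
      have := Submodule.sub_mem _ h2 h1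
      rwa [sub_sub_cancel] at this

theorem length_quot_smul (x : A) (hx : Function.Injective (LinearMap.lsmul A M x))
    (N' : Submodule A M) :
    Module.length A (M ⧸ x • N') =
      Module.length A (M ⧸ N') + Module.length A (M ⧸ x • (⊤ : Submodule A M)) := by
  have hcomap : Submodule.comap (LinearMap.lsmul A M x) (x • N') = N' := by
    ext m
    rw [Submodule.mem_comap]
    constructor
    · intro h
      obtain ⟨n, hn, hnm⟩ := (Submodule.mem_smul_pointwise_iff_exists _ _ _).mp h
      have : n = m := hx hnm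
      rwa [← this]
    · intro h
      exact Submodule.smul_mem_pointwise_smul m x N' h
  have := length_quot_comap x (x • N') (smul_mono_right x le_top)
  rwa [hcomap] at this


theorem krullDimLE_one_quotient (hA : ringKrullDim A = 1) (q : Ideal A) :
    Ring.KrullDimLE 1 (A ⧸ q) := by
  rw [Ring.krullDimLE_iff]
  refine (ringKrullDim_quotient_le q).trans ?_
  rw [hA]
  rfl

theorem ord_quot_ne_top (hA : ringKrullDim A = 1) (q : Ideal A) [hq : q.IsPrime] (a : A)
    (ha : a ∉ q) : Ring.ord (A ⧸ q) (Ideal.Quotient.mk q a) ≠ ⊤ := by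
  haveI := krullDimLE_one_quotient hA q
  apply Ring.ord_ne_top
  rw [mem_nonZeroDivisors_iff_ne_zero]
  intro h
  exact ha (Ideal.Quotient.eq_zero_iff_mem.mp h)

theorem ordFrac_quot (hA : ringKrullDim A = 1) (q : Ideal A) [hq : q.IsPrime] (a b : A)
    (ha : a ∉ q) (hb : b ∉ q) :
    CycAlg.ordFrac (A ⧸ q) q.ResidueField
      (algebraMap A q.ResidueField a / algebraMap A q.ResidueField b) =
    ((Ring.ord (A ⧸ q) (Ideal.Quotient.mk q a)).toNat : ℤ) -
      ((Ring.ord (A ⧸ q) (Ideal.Quotient.mk q b)).toNat : ℤ) := by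
  haveI hK := krullDimLE_one_quotient hA q
  have hcond : IsNoetherianRing (A ⧸ q) ∧ Ring.KrullDimLE 1 (A ⧸ q) ∧ Nontrivial (A ⧸ q) ∧
      IsFractionRing (A ⧸ q) q.ResidueField := ⟨inferInstance, hK, inferInstance, inferInstance⟩
  unfold CycAlg.ordFrac
  rw [dif_pos hcond]
  have ha0 : Ideal.Quotient.mk q a ≠ 0 := fun h => ha (Ideal.Quotient.eq_zero_iff_mem.mp h)
  have hb0 : Ideal.Quotient.mk q b ≠ 0 := fun h => hb (Ideal.Quotient.eq_zero_iff_mem.mp h)
  have ha1 : Ideal.Quotient.mk q a ∈ nonZeroDivisors (A ⧸ q) :=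
    mem_nonZeroDivisors_iff_ne_zero.mpr ha0
  have hb1 : Ideal.Quotient.mk q b ∈ nonZeroDivisors (A ⧸ q) :=
    mem_nonZeroDivisors_iff_ne_zero.mpr hb0
  have e1 : algebraMap A q.ResidueField a =
      algebraMap (A ⧸ q) q.ResidueField (Ideal.Quotient.mk q a) := by
    rw [IsScalarTower.algebraMap_apply A (A ⧸ q) q.ResidueField]
    rfl
  have e2 : algebraMap A q.ResidueField b =
      algebraMap (A ⧸ q) q.ResidueField (Ideal.Quotient.mk q b) := by
    rw [IsScalarTower.algebraMap_apply A (A ⧸ q) q.ResidueField]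
    rfl
  have hna : Ring.ord (A ⧸ q) (Ideal.Quotient.mk q a) =
      ((Ring.ord (A ⧸ q) (Ideal.Quotient.mk q a)).toNat : ℕ∞) :=
    (ENat.coe_toNat (ord_quot_ne_top hA q a ha)).symm
  have hnb : Ring.ord (A ⧸ q) (Ideal.Quotient.mk q b) =
      ((Ring.ord (A ⧸ q) (Ideal.Quotient.mk q b)).toNat : ℕ∞) :=
    (ENat.coe_toNat (ord_quot_ne_top hA q b hb)).symm
  rw [e1, e2, map_div₀, Ring.ordFrac_eq_ord (A ⧸ q) ha0, Ring.ordFrac_eq_ord (A ⧸ q) hb0,
    Ring.ordMonoidWithZeroHom_eq_coe (A ⧸ q) ha1 hna,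
    Ring.ordMonoidWithZeroHom_eq_coe (A ⧸ q) hb1 hnb, ← WithZero.coe_div,
    WithZero.recZeroCoe_coe, toAdd_div, toAdd_ofAdd, toAdd_ofAdd]

theorem lam_ne_top_of_mem_minimalPrimes (M : Type u) [AddCommGroup M] [Module A M]
    [Module.Finite A M] (q : Ideal A) (hq : q ∈ minimalPrimes A) : lam M q ≠ ⊤ := by
  haveI hqp : q.IsPrime := hq.1.1
  rw [lam_of_isPrime, Module.length_ne_top_iff]
  have hdim : ringKrullDim (Localization.AtPrime q) = 0 := by
    rw [IsLocalization.AtPrime.ringKrullDim_eq_height q (Localization.AtPrime q)]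
    rw [Ideal.height_eq_zero_iff.mpr hq]
    rfl
  haveI : Ring.KrullDimLE 0 (Localization.AtPrime q) := by
    rw [Ring.krullDimLE_iff, hdim]
    rfl
  haveI : IsArtinianRing (Localization.AtPrime q) := isArtinianRing_iff_krullDimLE_zero.mpr ‹_›
  haveI : Module.Finite (Localization.AtPrime q) (LocalizedModule q.primeCompl M) :=
    Module.Finite.of_isLocalizedModule q.primeCompl (LocalizedModule.mkLinearMap q.primeCompl M)
  rw [isFiniteLength_iff_isNoetherian_isArtinian]
  exact ⟨inferInstance, inferInstance⟩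


end


/-- Let A be a Noetherian local ring of dimension 1, a, b ∈ A nonzerodivisors, A without embedded
primes, M a finite A-module without embedded associated primes and with Supp(M) = Spec(A). Put I =
{x ∈ A | x·(a/b) ∈ A}, and write 𝔮_1, …, 𝔮_t for the minimal prime ideals of A. The conclusion is
that M contains (a/b)IM, and that the difference length_A(M/(a/b)IM) minus length_A(M/IM) equals the
sum over i of length_{A_{𝔮_i}}(M_{𝔮_i}) multiplied by ord_{A/𝔮_i}(a/b). Encoding: I is the ideal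
quotient (bA : aA); '(a/b)IM ⊂ M' is aIM ⊆ bM; (a/b)IM is the submodule of m with bm ∈ aIM (b acts
injectively on M); ord_{A/𝔮}(a/b) is CycAlg.ordFrac on κ(𝔮) = Frac(A/𝔮); lengths are truncated to ℕ
(they are finite here). -/
theorem result {A : Type u} [CommRing A] [IsNoetherianRing A] [IsLocalRing A] (hA : ringKrullDim A = 1) {M : Type u} [AddCommGroup M] [Module A M] [Module.Finite A M] (a b : A) (ha : a ∈ nonZeroDivisors A) (hb : b ∈ nonZeroDivisors A) (hAemb : ∀ p ∈ associatedPrimes A A, p ∈ minimalPrimes A) (hMemb : ∀ p ∈ associatedPrimes A M, p ∈ minimalPrimes A) (hsupp : Module.support A M = Set.univ) (I : Ideal A) (hI : I = (Ideal.span {b}).colon (Ideal.span {a})) (P : Submodule A M) (hP : P = Submodule.comap (LinearMap.lsmul A M b) ((Ideal.span {a} * I) • (⊤ : Submodule A M))) : (Ideal.span {a} * I) • (⊤ : Submodule A M) ≤ LinearMap.range (LinearMap.lsmul A M b) ∧ ((Module.length A (M ⧸ P)).toNat : ℤ) - ((Module.length A (M ⧸ I • (⊤ : Submodule A M))).toNat : ℤ) = ∑ᶠ (q :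 PrimeSpectrum A) (_ : q.asIdeal ∈ minimalPrimes A), ((Module.length (Localization.AtPrime q.asIdeal) (LocalizedModule q.asIdeal.primeCompl M)).toNat : ℤ) * CycAlg.ordFrac (A ⧸ q.asIdeal) q.asIdeal.ResidueField (algebraMap A q.asIdeal.ResidueField a / algebraMap A q.asIdeal.ResidueField b) := by
  classical
  have hJb : Ideal.span {a} * I ≤ Ideal.span {b} := by
    rw [Ideal.mul_le]
    intro x hx i hi
    rw [hI] at hi
    have := (Submodule.mem_colon.mp hi) x hx
    rwa [smul_eq_mul, mul_comm] at this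
  have hNb : (Ideal.span {a} * I) • (⊤ : Submodule A M) ≤ b • (⊤ : Submodule A M) := by
    rw [Submodule.smul_le]
    intro r hr m _
    obtain ⟨c, rfl⟩ := Ideal.mem_span_singleton'.mp (hJb hr)
    rw [mul_comm, mul_smul]
    exact Submodule.smul_mem_pointwise_smul _ b ⊤ trivial
  have hrange : b • (⊤ : Submodule A M) = LinearMap.range (LinearMap.lsmul A M b) := by
    ext m
    rw [Submodule.mem_smul_pointwise_iff_exists, LinearMap.mem_range]
    simp
  refine ⟨hrange ▸ hNb, ?_⟩
  have hainj := lsmul_injective_of_nzd hMemb a ha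
  have hbinj := lsmul_injective_of_nzd hMemb b hb
  have hNa : (Ideal.span {a} * I) • (⊤ : Submodule A M) = a • (I • (⊤ : Submodule A M)) := by
    rw [Submodule.mul_smul, Submodule.ideal_span_singleton_smul]
  have e1 := length_quot_comap b _ hNb
  rw [← hP] at e1
  have e2 := length_quot_smul a hainj (I • (⊤ : Submodule A M))
  rw [← hNa] at e2
  have h1 : Module.supportDim A M ≤ 1 := (Module.supportDim_le_ringKrullDim A M).trans hA.le
  have sa := Groth.Agent.S1833.result A M a h1 (supportDim_quot_le_zero hA a ha)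
  have sb := Groth.Agent.S1833.result A M b h1 (supportDim_quot_le_zero hA b hb)
  rw [LinearMap.ker_eq_bot.mpr hainj, Module.length_bot, zero_add] at sa
  rw [LinearMap.ker_eq_bot.mpr hbinj, Module.length_bot, zero_add] at sb
  have hcond : ∀ p : PrimeSpectrum A,
      (p ∈ Module.support A M ∧ p.asIdeal ≠ IsLocalRing.maximalIdeal A) ↔
        p.asIdeal ∈ minimalPrimes A := by
    intro p
    haveI := p.2
    rw [hsupp, mem_minimalPrimes_iff_ne_maximalIdeal hA]
    simp
  simp only [hcond] at sa sb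
  set S : Set (PrimeSpectrum A) := {q | q.asIdeal ∈ minimalPrimes A} with hS
  have hSfin : S.Finite := by
    have := Ideal.finite_minimalPrimes_of_isNoetherianRing A (⊥ : Ideal A)
    exact Set.Finite.preimage (fun x _ y _ h => PrimeSpectrum.ext h) this
  set T := hSfin.toFinset with hT
  have hmemT : ∀ q, q ∈ T ↔ q.asIdeal ∈ minimalPrimes A := by
    intro q
    rw [hT, Set.Finite.mem_toFinset]
    rfl
  have toSum : ∀ {β : Type} [AddCommMonoid β] (F : PrimeSpectrum A → β),
      (∑ᶠ (q : PrimeSpectrum A) (_ : q.asIdeal ∈ minimalPrimes A), F q) = ∑ q ∈ T, F q := by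
    intro β _ F
    exact finsum_mem_eq_finite_toFinset_sum F hSfin
  rw [toSum] at sa sb ⊢
  let na : PrimeSpectrum A → ℕ := fun q => (Ring.ord (A ⧸ q.asIdeal) (Ideal.Quotient.mk q.asIdeal a)).toNat
  let nb : PrimeSpectrum A → ℕ := fun q => (Ring.ord (A ⧸ q.asIdeal) (Ideal.Quotient.mk q.asIdeal b)).toNat
  let l : PrimeSpectrum A → ℕ := fun q => (Module.length (Localization.AtPrime q.asIdeal)
    (LocalizedModule q.asIdeal.primeCompl M)).toNat
  have hnotmem : ∀ q ∈ T, ∀ x ∈ nonZeroDivisors A, x ∉ q.asIdeal := by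
    intro q hq x hx hxq
    exact notMem_nonZeroDivisors_of_mem_mem_minimalPrimes hxq ((hmemT q).mp hq) hx
  have hl : ∀ q ∈ T, Module.length (Localization.AtPrime q.asIdeal)
      (LocalizedModule q.asIdeal.primeCompl M) = (l q : ℕ∞) := by
    intro q hq
    haveI := q.2
    have := lam_ne_top_of_mem_minimalPrimes M q.asIdeal ((hmemT q).mp hq)
    rw [lam_of_isPrime] at this
    exact (ENat.coe_toNat this).symm
  have hsa : Module.length A (M ⧸ a • (⊤ : Submodule A M)) = ((∑ q ∈ T, na q * l q : ℕ) : ℕ∞) := by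
    rw [sa, Nat.cast_sum]
    apply Finset.sum_congr rfl
    intro q hq
    haveI := q.2
    rw [hl q hq, ← ENat.coe_toNat (ord_quot_ne_top hA q.asIdeal a (hnotmem q hq a ha)),
      Nat.cast_mul]
  have hsb : Module.length A (M ⧸ b • (⊤ : Submodule A M)) = ((∑ q ∈ T, nb q * l q : ℕ) : ℕ∞) := by
    rw [sb, Nat.cast_sum]
    apply Finset.sum_congr rfl
    intro q hq
    haveI := q.2
    rw [hl q hq, ← ENat.coe_toNat (ord_quot_ne_top hA q.asIdeal b (hnotmem q hq b hb)),
      Nat.cast_mul]
  have hbI : b • (⊤ : Submodule A M) ≤ I • (⊤ : Submodule A M) := by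
    intro m hm
    obtain ⟨m', -, rfl⟩ := (Submodule.mem_smul_pointwise_iff_exists _ _ _).mp hm
    refine Submodule.smul_mem_smul ?_ Submodule.mem_top
    rw [hI, Submodule.mem_colon]
    intro p hp
    rw [smul_eq_mul]
    exact Ideal.mul_mem_right _ _ (Ideal.subset_span rfl)
  have hIfin : Module.length A (M ⧸ I • (⊤ : Submodule A M)) ≠ ⊤ := by
    have hle := Module.length_le_of_surjective (Submodule.factor hbI) (Submodule.factor_surjective hbI)
    rw [hsb] at hle
    exact ne_top_of_le_ne_top (ENat.coe_ne_top _) hle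
  obtain ⟨I', hI'⟩ := ENat.ne_top_iff_exists.mp hIfin
  rw [← hI', hsa] at e2
  have hPfin : Module.length A (M ⧸ P) ≠ ⊤ := by
    have hle : Module.length A (M ⧸ P) ≤ Module.length A (M ⧸ P) +
      Module.length A (M ⧸ b • (⊤ : Submodule A M)) := le_self_add
    rw [← e1, e2] at hle
    refine ne_top_of_le_ne_top ?_ hle
    rw [← Nat.cast_add]
    exact ENat.coe_ne_top _
  obtain ⟨P', hP'⟩ := ENat.ne_top_iff_exists.mp hPfin
  rw [← hP', hsb, e2, ← Nat.cast_add, ← Nat.cast_add, Nat.cast_inj] at e1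
  rw [← hP', ← hI', ENat.toNat_coe, ENat.toNat_coe]
  have hfrac : ∀ q ∈ T, CycAlg.ordFrac (A ⧸ q.asIdeal) q.asIdeal.ResidueField
      (algebraMap A q.asIdeal.ResidueField a / algebraMap A q.asIdeal.ResidueField b) =
      (na q : ℤ) - (nb q : ℤ) := by
    intro q hq
    haveI := q.2
    exact ordFrac_quot hA q.asIdeal a b (hnotmem q hq a ha) (hnotmem q hq b hb)
  rw [Finset.sum_congr rfl (fun q hq => by rw [hfrac q hq])]
  have e3 : (P' : ℤ) - (I' : ℤ) = ((∑ q ∈ T, na q * l q : ℕ) : ℤ) - ((∑ q ∈ T, nb q * l q : ℕ) : ℤ) := by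
    have : ((I' + ∑ q ∈ T, na q * l q : ℕ) : ℤ) = ((P' + ∑ q ∈ T, nb q * l q : ℕ) : ℤ) := by
      rw [e1]
    push_cast at this ⊢
    linarith
  rw [e3]
  push_cast
  rw [← Finset.sum_sub_distrib]
  apply Finset.sum_congr rfl
  intro q _
  ring

end Groth.Agent.S6480
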