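import Groth.Statements.S0619
-- import your own Groth.Agent.* helpers here
import Groth.Agent.Lib.Helper34.Curve.Weil

set_option autoImplicit false
universe u
open AlgebraicGeometry CategoryTheory
open Zeta

namespace Groth.Agent.S0619

/-- For a geometrically connected smooth proper curve of genus g over a finite field k with q elements
and a finite extension k' of degree n, |#C(k') − (qⁿ + 1)| ≤ 2g·q^(n/2). -/
theorem result {k : Type u} [Field k] [Finite k] {C : Scheme.{u}}
    (f : C ⟶ Spec (CommRingCat.of k)) (hC : Curve.IsSmoothProperCurve k C f)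
    [GeometricallyIrreducible f] (g : ℕ)
    (hg : Nat.card (Coh.HH C (Coh.structureModule C) 1) = Nat.card k ^ g)
    (k' : Type u) [Field k'] [Algebra k k'] [Finite k'] :
    |(SgaExt.pointCount f k' : ℝ) - ((Nat.card k : ℝ) ^ Module.finrank k k' + 1)| ≤
      2 * g * (Nat.card k : ℝ) ^ ((Module.finrank k k' : ℝ) / 2) := by
  letI : C.Over (Spec (CommRingCat.of k)) := ⟨f⟩
  obtain ⟨hprop, hsm, hint, hdim⟩ := hC
  haveI : IsProper (C ↘ Spec (CommRingCat.of k)) := hprop
  haveI : Smooth (C ↘ Spec (CommRingCat.of k)) := hsm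
  haveI : IsIntegral C := hint
  haveI : GeometricallyIrreducible (C ↘ Spec (CommRingCat.of k)) := ‹GeometricallyIrreducible f›
  have hgen := Groth.Agent.Lib.Helper34.Curve.genus_eq k C hdim g hg
  subst hgen
  exact Groth.Agent.Lib.Helper34.Curve.hasseWeil_genus k C hdim k'

end Groth.Agent.S0619
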