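import Groth.Statements.S0622
import Groth.Agent.Lib.Helper4.PointULift
import Mathlib.Algebra.Category.Grp.AB
import Mathlib.Algebra.Homology.ShortComplex.Ab

set_option autoImplicit false
open CategoryTheory CategoryTheory.Limits AlgebraicGeometry Opposite
universe u
open EtCore

namespace Groth.Agent.S0622

theorem pfl {X : Scheme.{u}} {Ω : Type u} [Field Ω] [IsSepClosed Ω]
    (ξ : Spec (CommRingCat.of Ω) ⟶ X) : PreservesFiniteLimits (EtCoh.stalk ξ) :=
  Groth.Agent.Lib.Helper4.PointULift.preservesFiniteLimits_sheafFiber.{u, u + 1}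
    (Scheme.pointSmallEtale ξ) AddCommGrpCat.{u + 1}

/-- Exactness of a three-term complex of abelian etale sheaves can be tested on stalks at all geometric
points; likewise a morphism of abelian etale sheaves is a monomorphism, respectively an epimorphism,
exactly when every geometric stalk map is injective, respectively surjective. -/
theorem result {X : Scheme.{u}} (S : ShortComplex (EtCoh.Ab X)) {F G : EtCoh.Ab X} (a : F ⟶ G) :
    (S.Exact ↔ ∀ (Ω : Type u) [Field Ω] [IsSepClosed Ω] (ξ : Spec (CommRingCat.of Ω) ⟶ X),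
      (S.map (EtCoh.stalk ξ)).Exact) ∧
    (Mono a ↔ ∀ (Ω : Type u) [Field Ω] [IsSepClosed Ω] (ξ : Spec (CommRingCat.of Ω) ⟶ X),
      Function.Injective ((EtCoh.stalk ξ).map a)) ∧
    (Epi a ↔ ∀ (Ω : Type u) [Field Ω] [IsSepClosed Ω] (ξ : Spec (CommRingCat.of Ω) ⟶ X),
      Function.Surjective ((EtCoh.stalk ξ).map a)) := by
  have hP := Scheme.isConservativeFamilyOfPoints_pointSmallEtale' X
  have hfl : ∀ Φ : (ObjectProperty.ofObj (fun (s : X) ↦ Scheme.pointSmallEtale
      ((Scheme.SpecToEquivOfField (SeparableClosure (X.residueField s)) _).2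
        ⟨s, CommRingCat.ofHom (algebraMap (X.residueField s) _)⟩))).FullSubcategory,
      PreservesFiniteLimits (Φ.obj.sheafFiber (A := AddCommGrpCat.{u + 1})) := fun Φ =>
    Groth.Agent.Lib.Helper4.PointULift.preservesFiniteLimits_sheafFiber.{u, u + 1} Φ.obj
      AddCommGrpCat.{u + 1}
  refine ⟨⟨?_, ?_⟩, ⟨?_, ?_⟩, ⟨?_, ?_⟩⟩
  · intro h Ω _ _ ξ
    have := pfl ξ
    have := Functor.preservesHomologyOfExact (EtCoh.stalk ξ)
    exact h.map (EtCoh.stalk ξ)
  · intro h
    rw [Groth.Agent.Lib.Helper4.PointULift.exact_iff_sheafFiber.{u, u + 1} hP AddCommGrpCat.{u + 1} S]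
    rintro ⟨_, ⟨s⟩⟩
    exact h _ _
  · intro h Ω _ _ ξ
    have := pfl ξ
    have : Mono ((EtCoh.stalk ξ).map a) := inferInstance
    exact (AddCommGrpCat.mono_iff_injective _).1 this
  · intro h
    rw [Groth.Agent.Lib.Helper4.PointULift.mono_iff_sheafFiber.{u, u + 1} hP AddCommGrpCat.{u + 1} a]
    rintro ⟨_, ⟨s⟩⟩
    exact (AddCommGrpCat.mono_iff_injective _).2 (h _ _)
  · intro h Ω _ _ ξ
    have : Epi ((EtCoh.stalk ξ).map a) := inferInstance
    exact (AddCommGrpCat.epi_iff_surjective _).1 this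
  · intro h
    rw [Groth.Agent.Lib.Helper4.PointULift.epi_iff_sheafFiber.{u, u + 1} hP AddCommGrpCat.{u + 1} a]
    rintro ⟨_, ⟨s⟩⟩
    exact (AddCommGrpCat.epi_iff_surjective _).2 (h _ _)

end Groth.Agent.S0622
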