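import Groth.Statements.S0623
import Groth.Agent.Lib.Helper4.InjPull

set_option autoImplicit false
open CategoryTheory CategoryTheory.Limits AlgebraicGeometry Opposite
universe u
open EtCore

namespace Groth.Agent.S0623
open Groth.Agent.Lib.Helper4


/-- For a morphism f : X -> Y and an injective abelian sheaf I on the small etale site of X, the
pushforward f_* I is acyclic: its etale cohomology over any scheme V etale over Y (computed after
pulling back to V) vanishes in positive degrees, and for any g : Y -> Z the higher direct images R^q
g_* (f_* I) vanish for q > 0. Part (1) on Cech cohomology is not included. -/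
theorem result {X Y Z : Scheme.{u}} (f : X ⟶ Y) (g : Y ⟶ Z) (I : EtCoh.Ab X)
    [Injective I] (q : ℕ) (hq : 1 ≤ q) :
    (∀ V : Y.Etale, Subsingleton (EtCoh.H V.left ((EtCoh.pull V.hom).obj ((EtCoh.push f).obj I)) q)) ∧
    IsZero ((EtCoh.Rpush g q).obj ((EtCoh.push f).obj I)) := by
  have hJ : Injective ((EtCoh.push f).obj I) := InjPull.injective_push f I
  refine ⟨fun V => ?_, ?_⟩
  · have : Etale V.hom := V.prop
    have := InjPull.injective_pull V.hom ((EtCoh.push f).obj I)
    exact InjPull.subsingleton_H_of_injective _ _ q hq
  · obtain ⟨n, rfl⟩ : ∃ n, q = n + 1 := ⟨q - 1, by omega⟩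
    exact Functor.isZero_rightDerived_obj_injective_succ _ n _

end Groth.Agent.S0623
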