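import Groth.Statements.S0624
import Groth.Agent.S0089
import Groth.Agent.Lib.Helper57.SigmaOpens2

set_option autoImplicit false
open CategoryTheory CategoryTheory.Limits AlgebraicGeometry Opposite
universe u
open EtCore

namespace Groth.Agent.S0624

/-- Let X be an affine, integral and normal scheme with separably closed function field, Z -> X a closed
immersion and V -> Z etale with V affine. Then V splits, over Z, as the disjoint union of finitely
many open subschemes of Z. -/
theorem result {V Z X : Scheme.{u}} [IsAffine X] [IsIntegral X]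
    (hN : ∀ x : X, IsIntegrallyClosed (X.presheaf.stalk x)) [IsSepClosed X.functionField]
    (i : Z ⟶ X) [IsClosedImmersion i] (φ : V ⟶ Z) [AlgebraicGeometry.Etale φ] [IsAffine V] :
    ∃ (ι : Type u) (_ : Finite ι) (W : ι → Z.Opens) (e : (∐ fun k => (W k : Scheme.{u})) ≅ V),
      ∀ k, Sigma.ι (fun k => (W k : Scheme.{u})) k ≫ e.hom ≫ φ = (W k).ι := by
  haveI : CompactSpace V := inferInstance
  obtain ⟨U, _, g, ψ, hg, hψ, hcomm⟩ :=
    Groth.Agent.Lib.Helper57.SigmaOpens.exists_etale_lift_closedImmersion i φ
  haveI := hg
  haveI := hψ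
  obtain ⟨ι, V', e, he⟩ := Groth.Agent.S0089.result hN g
  exact Groth.Agent.Lib.Helper57.SigmaOpens.core i φ g ψ hcomm ι V' e he

end Groth.Agent.S0624
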