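import Groth.Statements.S0625
import Groth.Agent.S0624
import Groth.Agent.Lib.Helper57.SigmaOpens3

set_option autoImplicit false
open CategoryTheory CategoryTheory.Limits AlgebraicGeometry Opposite
universe u
open EtCore

namespace Groth.Agent.S0625

/-- Let X be an affine integral normal scheme whose function field is separably closed and Z -> X a
closed immersion. Every surjective finite etale morphism V -> Z has a section. -/
theorem result {V Z X : Scheme.{u}} [IsAffine X] [IsIntegral X]
    (hN : ∀ x : X, IsIntegrallyClosed (X.presheaf.stalk x)) [IsSepClosed X.functionField]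
    (i : Z ⟶ X) [IsClosedImmersion i] (φ : V ⟶ Z) [AlgebraicGeometry.Etale φ] [IsFinite φ] [Surjective φ] :
    ∃ s : Z ⟶ V, s ≫ φ = 𝟙 Z := by
  haveI : IsAffine Z := isAffine_of_isAffineHom i
  haveI : IsAffine V := isAffine_of_isAffineHom φ
  obtain ⟨ι, hfin, W, e, he⟩ := Groth.Agent.S0624.result hN i φ
  haveI := hfin
  have hα : ∀ k, (Sigma.ι (fun k => (W k : Scheme.{u})) k ≫ e.hom) ≫ φ = (W k).ι := fun k => by
    rw [Category.assoc]; exact he k
  have hW : ∀ k, ((W k : Z.Opens) : Set Z) =
      φ '' (Set.range (Sigma.ι (fun k => (W k : Scheme.{u})) k ≫ e.hom)) := by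
    intro k
    rw [← Set.range_comp]
    have h1 : Set.range (W k).ι = ((W k : Z.Opens) : Set Z) := Scheme.Opens.range_ι _
    rw [← h1, ← hα k]
    rfl
  have hclosed : ∀ k, IsClosed ((W k : Z.Opens) : Set Z) := by
    intro k
    rw [hW k]
    exact φ.isClosedMap _ (Groth.Agent.Lib.Helper57.SigmaOpens.sigma_iso_isClosed_range _ e k)
  have hcov : ⨆ k, W k = ⊤ := by
    rw [eq_top_iff]
    intro z _
    obtain ⟨v, hv⟩ := φ.surjective z
    obtain ⟨k, a, ha⟩ := Groth.Agent.Lib.Helper57.SigmaOpens.sigma_iso_cover _ e v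
    refine TopologicalSpace.Opens.mem_iSup.mpr ⟨k, ?_⟩
    change z ∈ ((W k : Z.Opens) : Set Z)
    rw [hW k]
    exact ⟨v, ⟨a, ha⟩, hv⟩
  exact Groth.Agent.Lib.Helper57.SigmaOpens.exists_section_of_clopen_cover φ W hclosed hcov _ hα

end Groth.Agent.S0625
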