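import Groth.Statements.S0628
import Groth.Agent.Lib.Helper57.SepPt

set_option autoImplicit false
open CategoryTheory CategoryTheory.Limits AlgebraicGeometry Opposite
universe u
open EtCore

namespace Groth.Agent.S0628

/-- Let f : X -> Y be a morphism of schemes with X integral and normal and with separably closed
function field. Then the higher direct images R^q f_* of a constant sheaf vanish for q > 0. -/
theorem result {X Y : Scheme.{u}} (f : X ⟶ Y) [IsIntegral X]
    (hN : ∀ x : X, IsIntegrallyClosed (X.presheaf.stalk x)) [IsSepClosed X.functionField]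
    (M : Type) [AddCommGroup M] (q : ℕ) (hq : 1 ≤ q) :
    IsZero ((EtCoh.Rpush f q).obj (EtCoh.const X M)) := by
  have hg : ∀ s : Spec (X.presheaf.stalk (genericPoint X)),
      X.fromSpecStalk (genericPoint X) s = genericPoint X := by
    intro s
    have h1 : X.fromSpecStalk (genericPoint X) s ∈ Set.range (X.fromSpecStalk (genericPoint X)) :=
      ⟨s, rfl⟩
    rw [Scheme.range_fromSpecStalk] at h1
    exact (Specializes.antisymm h1 (genericPoint_specializes _)).eq
  have h1 := Groth.Agent.Lib.Helper57.ConstUnit.isIso_unit_of_pointlike hN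
    (X.fromSpecStalk (genericPoint X)) hg (AddCommGrpCat.of (ULift.{u + 1} M))
  haveI : IsIso (Groth.Agent.Lib.Helper57.ConstUnit.φ (X.fromSpecStalk (genericPoint X))
      (AddCommGrpCat.of (ULift.{u + 1} M))) :=
    (Groth.Agent.Lib.Helper57.ConstUnit.isIso_unit_iff _ _).1 h1
  have e := asIso (Groth.Agent.Lib.Helper57.ConstUnit.φ (X.fromSpecStalk (genericPoint X))
      (AddCommGrpCat.of (ULift.{u + 1} M)))
  have hz := Groth.Agent.Lib.Helper57.SepPt.isZero_Rpush_push (K := X.functionField)
    (X.fromSpecStalk (genericPoint X)) f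
    (Groth.Agent.Lib.Helper57.ConstUnit.cSh _ (AddCommGrpCat.of (ULift.{u + 1} M))) q hq
  exact hz.of_iso ((EtCoh.Rpush f q).mapIso e)

end Groth.Agent.S0628
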