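import Groth.Statements.S6629
import Mathlib
import Groth.Agent.Lib.Helper79.EtSiteGlue

set_option autoImplicit false
open CategoryTheory CategoryTheory.Limits AlgebraicGeometry Opposite
universe u
open EtDesc

namespace Groth.Agent.S6629

open Groth.Agent.Lib.Helper79.EtSiteGlue

theorem iso_hom_inv_apply {A B : Scheme.{u}} (e : A ≅ B) (y : B) : e.hom (e.inv y) = y := by
  rw [← Scheme.Hom.comp_apply, Iso.inv_hom_id]; rfl

theorem iso_inv_hom_apply {A B : Scheme.{u}} (e : A ≅ B) (x : A) : e.inv (e.hom x) = x := by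
  rw [← Scheme.Hom.comp_apply, Iso.hom_inv_id]; rfl

section bc
variable {X Y : Scheme.{u}} (f : X ⟶ Y)

theorem bc_obj_left (V : Y.Etale) : ((EtCoh.bc f).obj V).left = pullback V.hom f := rfl

theorem bc_obj_hom (V : Y.Etale) : ((EtCoh.bc f).obj V).hom = pullback.snd V.hom f := rfl

theorem bc_map_left_fst {U V : Y.Etale} (g : V ⟶ U) :
    ((EtCoh.bc f).map g).left ≫ pullback.fst U.hom f = pullback.fst V.hom f ≫ g.left :=
  (EtCoh.isPullback_bc_map f g).w

set_option backward.isDefEq.respectTransparency false in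
set_option backward.isDefEq.respectTransparency.types false in
theorem bc_map_left_snd {U V : Y.Etale} (g : V ⟶ U) :
    ((EtCoh.bc f).map g).left ≫ pullback.snd U.hom f = pullback.snd V.hom f :=
  CategoryTheory.Over.w ((EtCoh.bc f).map g).toCommaMorphism

end bc

set_option backward.isDefEq.respectTransparency false in
set_option backward.isDefEq.respectTransparency.types false in
/-- the comparison of the two base change maps -/
theorem map_symm {X Y : Scheme.{u}} (f : X ⟶ Y) {V : Y.Etale} {V' : Scheme.{u}} (v' : V' ⟶ V.left)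
    [Etale v'] :
    pullback.map f (v' ≫ V.hom) f V.hom (𝟙 X) v' (𝟙 Y) (by simp) (by simp) ≫
        (pullbackSymmetry V.hom f).inv =
      (pullbackSymmetry (v' ≫ V.hom) f).inv ≫
        ((EtCoh.bc f).map (MorphismProperty.Over.homMk v' rfl trivial :
          Scheme.Etale.mk (v' ≫ V.hom) ⟶ V)).left := by
  apply pullback.hom_ext
  · have h1 := bc_map_left_fst f (MorphismProperty.Over.homMk v' rfl trivial :
      Scheme.Etale.mk (v' ≫ V.hom) ⟶ V)
    simp only [Category.assoc, pullbackSymmetry_inv_comp_fst, pullback.map, pullback.lift_snd]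
    erw [h1]
    rw [← Category.assoc]
    erw [pullbackSymmetry_inv_comp_fst]
    rfl
  · have h2 := bc_map_left_snd f (MorphismProperty.Over.homMk v' rfl trivial :
      Scheme.Etale.mk (v' ≫ V.hom) ⟶ V)
    simp only [Category.assoc, pullbackSymmetry_inv_comp_snd, pullback.map, pullback.lift_fst,
      Category.comp_id]
    erw [h2]
    erw [pullbackSymmetry_inv_comp_snd]

set_option backward.isDefEq.respectTransparency false in
set_option backward.isDefEq.respectTransparency.types false in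
theorem main_step {X Y : Scheme.{u}} (f : X ⟶ Y) {F G : EtDesc.Sh X} (a : F ⟶ G)
    (hFs : Presieve.IsSheaf X.smallEtaleTopology F.obj)
    (hGs : Presieve.IsSheaf X.smallEtaleTopology G.obj)
    {V : Y.Etale} (s : ((EtDesc.pushSh f).obj G).obj.obj (op V))
    (s₀ : G.obj.obj (op ((EtCoh.bc f).obj V))) (hs₀ : s₀ = s)
    (Z : ((EtCoh.bc f).obj V).left → X.Etale) (g : ∀ x, Z x ⟶ (EtCoh.bc f).obj V)
    (τ : ∀ x, F.obj.obj (op (Z x)))
    (hτ : ∀ x, a.hom.app (op (Z x)) (τ x) = G.obj.map (g x).op s₀)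
    {V' : Scheme.{u}} (v' : V' ⟶ V.left) [Etale v']
    {μ : Type u} (W : μ → (pullback f (v' ≫ V.hom)).Opens)
    (hd : ∀ b c, b ≠ c → Disjoint (W b) (W c)) (hW : (⨆ b, W b) = ⊤)
    (i : μ → ((EtCoh.bc f).obj V).left)
    (h : ∀ b, ((W b : (pullback f (v' ≫ V.hom)).Opens) : Scheme.{u}) ⟶ (Z (i b)).left)
    (hh : ∀ b, h b ≫ (g (i b)).left ≫ (pullbackSymmetry V.hom f).hom =
      (W b).ι ≫ pullback.map f (v' ≫ V.hom) f V.hom (𝟙 X) v' (𝟙 Y) (by simp) (by simp)) :
    Presheaf.imageSieve ((EtDesc.pushSh f).map a).hom s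
      (MorphismProperty.Over.homMk v' rfl trivial : Scheme.Etale.mk (v' ≫ V.hom) ⟶ V) := by
  subst hs₀
  set V'o : Y.Etale := Scheme.Etale.mk (v' ≫ V.hom) with hV'o
  set vj : V'o ⟶ V := MorphismProperty.Over.homMk v' rfl trivial with hvj
  set σ := pullbackSymmetry V.hom f with hσ
  set σj := pullbackSymmetry (v' ≫ V.hom) f with hσj
  -- the pieces as objects of the small etale site of `X`
  let Wo : μ → X.Etale := fun b => Scheme.Etale.mk ((W b).ι ≫ σj.inv ≫ ((EtCoh.bc f).obj V'o).hom)
  let ιW : ∀ b, Wo b ⟶ (EtCoh.bc f).obj V'o := fun b =>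
    MorphismProperty.Over.homMk ((W b).ι ≫ σj.inv) (by simp [Wo]) trivial
  have hZhom : ∀ x, (Z x).hom = (g x).left ≫ pullback.snd V.hom f := fun x =>
    (CategoryTheory.Over.w (g x).toCommaMorphism).symm
  have hhW : ∀ b, h b ≫ (Z (i b)).hom = (Wo b).hom := by
    intro b
    have e1 : pullback.snd V.hom f = σ.hom ≫ pullback.fst f V.hom := by
      rw [hσ, pullbackSymmetry_hom_comp_fst]
    have e2 := hh b
    change _ = (W b).ι ≫ σj.inv ≫ pullback.snd (v' ≫ V.hom) f
    have e2' := e2 =≫ pullback.fst f V.hom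
    simp only [Category.assoc] at e2'
    rw [hZhom, e1, e2', hσj, pullbackSymmetry_inv_comp_snd]
    simp only [pullback.map, pullback.lift_fst, Category.comp_id]
  let hW' : ∀ b, Wo b ⟶ Z (i b) := fun b => MorphismProperty.Over.homMk (h b) (hhW b) trivial
  have hkey : ∀ b, hW' b ≫ g (i b) = ιW b ≫ (EtCoh.bc f).map vj := by
    intro b
    apply MorphismProperty.Over.Hom.ext
    change h b ≫ (g (i b)).left = ((W b).ι ≫ σj.inv) ≫ ((EtCoh.bc f).map vj).left
    have e2 := hh b
    have e3 := map_symm f v'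
    rw [Category.assoc, ← e3, ← Category.assoc, ← e2]
    simp only [Category.assoc, Iso.hom_inv_id, Category.comp_id, hσ]
  -- gluing data
  have hmono : ∀ b, Mono (ιW b).left := by
    intro b
    change Mono ((W b).ι ≫ σj.inv)
    infer_instance
  have hpt : ∀ b (w : (W b : Scheme.{u})), σj.hom ((ιW b).left w) = (W b).ι w := by
    intro b w
    change σj.hom (((W b).ι ≫ σj.inv) w) = _
    rw [Scheme.Hom.comp_apply]
    exact iso_hom_inv_apply σj _
  have hdisj : ∀ b c, b ≠ c → Disjoint (Set.range (ιW b).left) (Set.range (ιW c).left) := by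
    intro b c hbc
    refine Set.disjoint_left.2 ?_
    rintro z ⟨x, rfl⟩ ⟨y, hy⟩
    have h1 : σj.hom ((ιW b).left x) ∈ W b := by
      rw [hpt]; exact x.2
    have h2 : σj.hom ((ιW b).left x) ∈ W c := by
      rw [← hy, hpt]; exact y.2
    exact (hd b c hbc).le_bot ⟨h1, h2⟩
  have hsurj : ∀ z : ((EtCoh.bc f).obj V'o).left, ∃ b, z ∈ Set.range (ιW b).left := by
    intro z
    have hz : σj.hom z ∈ (⨆ b, W b) := by rw [hW]; trivial
    obtain ⟨b, hb⟩ := TopologicalSpace.Opens.mem_iSup.1 hz
    refine ⟨b, ⟨σj.hom z, hb⟩, ?_⟩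
    change ((W b).ι ≫ σj.inv) ⟨σj.hom z, hb⟩ = z
    rw [Scheme.Hom.comp_apply]
    exact iso_inv_hom_apply σj z
  obtain ⟨t₀, ht₀, -⟩ := existsUnique_glue_of_disjoint' hFs ((EtCoh.bc f).obj V'o) Wo ιW hmono hdisj
    hsurj (fun b => F.obj.map (hW' b).op (τ (i b)))
  refine ⟨t₀, ?_⟩
  change a.hom.app (op ((EtCoh.bc f).obj V'o)) t₀ = G.obj.map ((EtCoh.bc f).map vj).op s₀
  refine eq_of_forall_map_eq hGs ((EtCoh.bc f).obj V'o) Wo ιW hsurj _ _ ?_
  intro b
  have n1 := FunctorToTypes.naturality a.hom (ιW b).op t₀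
  have n2 := FunctorToTypes.naturality a.hom (hW' b).op (τ (i b))
  rw [← n1, ht₀ b, n2, hτ (i b), ← CategoryTheory.FunctorToTypes.map_comp_apply G.obj,
    ← CategoryTheory.FunctorToTypes.map_comp_apply G.obj, ← op_comp, ← op_comp, hkey b]

/-- Let f : X ⟶ Y be a morphism of schemes satisfying condition (B) (for every etale V ⟶ Y and every
etale covering of X ×_Y V there is an etale covering of V by schemes V_j such that each X ×_Y V_j is
a disjoint union of open subschemes each mapping into X ×_Y V through a member of the given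
covering). Then the direct image of sheaves of sets on the small etale sites along f sends
epimorphisms to epimorphisms. -/
theorem result {X Y : Scheme.{u}} (f : X ⟶ Y) (hB : BigSite.PropB f) :
    (EtDesc.pushSh f).PreservesEpimorphisms := by
  refine ⟨fun {F G} a ha => ?_⟩
  rw [← Sheaf.isLocallySurjective_iff_epi] at ha ⊢
  refine ⟨fun {V} s => ?_⟩
  haveI : Presheaf.IsLocallySurjective X.smallEtaleTopology a.hom := ha
  have hFs : Presieve.IsSheaf X.smallEtaleTopology F.obj :=
    (isSheaf_iff_isSheaf_of_type _ _).1 F.property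
  have hGs : Presieve.IsSheaf X.smallEtaleTopology G.obj :=
    (isSheaf_iff_isSheaf_of_type _ _).1 G.property
  -- `s` as a section of `G` over the base change
  obtain ⟨s₀, hs₀⟩ : ∃ s₀ : G.obj.obj (op ((EtCoh.bc f).obj V)), s₀ = s := ⟨s, rfl⟩
  have hR : Presheaf.imageSieve a.hom s₀ ∈ X.smallEtaleTopology ((EtCoh.bc f).obj V) :=
    Presheaf.imageSieve_mem X.smallEtaleTopology a.hom s₀
  choose Z g hg hx using fun x => exists_arrow_of_mem hR x
  choose τ hτ using hg
  obtain ⟨κ, V', v', hv', hcov', H⟩ := hB V.left V.hom (↥((EtCoh.bc f).obj V).left)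
    (fun x => (Z x).left)
    (fun x => (g x).left ≫ (pullbackSymmetry V.hom f).hom) (fun x => inferInstance) (by
      intro y
      obtain ⟨z, hz⟩ := hx ((pullbackSymmetry V.hom f).inv y)
      refine ⟨(pullbackSymmetry V.hom f).inv y, z, ?_⟩
      rw [Scheme.Hom.comp_apply]
      erw [hz]
      exact iso_hom_inv_apply _ y)
  -- the covering of `V`
  haveI := hv'
  let V'o : κ → Y.Etale := fun j => Scheme.Etale.mk (v' j ≫ V.hom)
  let vj : ∀ j, V'o j ⟶ V := fun j => MorphismProperty.Over.homMk (v' j) rfl trivial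
  have hcovV : Sieve.ofArrows V'o vj ∈ Y.smallEtaleTopology V := ofArrows_mem vj hcov'
  refine Y.smallEtaleTopology.superset_covering ?_ hcovV
  rintro _ _ ⟨_, k, _, ⟨j⟩, rfl⟩
  refine Sieve.downward_closed _ ?_ k
  -- now produce a section of `F` over the base change of `V' j`
  obtain ⟨μ, W, hd, hW, hfac⟩ := H j
  choose i h hh using hfac
  exact main_step f a hFs hGs s s₀ hs₀ Z g τ hτ (v' j) W hd hW i h hh

end Groth.Agent.S6629
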