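import Groth.Statements.S6634
import Groth.Agent.S6629
import Groth.Agent.Lib.Helper57.PropB2

set_option autoImplicit false
open CategoryTheory CategoryTheory.Limits AlgebraicGeometry Opposite
universe u
open EtCore

namespace Groth.Agent.S6634

/-- For an integral morphism of schemes f : X ⟶ Y the direct image along f of abelian sheaves on the
small etale sites sends epimorphisms to epimorphisms. (The published statement also covers sheaves
of sets; this row treats abelian sheaves only.) -/
theorem result {X Y : Scheme.{u}} (f : X ⟶ Y) [IsIntegralHom f] :
    (EtCoh.push f).PreservesEpimorphisms := by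
  have hB := Groth.Agent.Lib.Helper57.PropA.propB_of_isIntegralHom f
  have hS := Groth.Agent.S6629.result f hB
  refine ⟨fun {F G} φ hφ => ?_⟩
  rw [← Sheaf.isLocallySurjective_iff_epi' AddCommGrpCat.{u+1}] at hφ ⊢
  let φ' := (sheafCompose X.smallEtaleTopology (forget AddCommGrpCat.{u+1})).map φ
  have h1 : Sheaf.IsLocallySurjective φ' := inferInstance
  have h2 : Epi φ' := inferInstance
  have h3 : Epi ((EtDesc.pushSh f).map φ') := inferInstance
  have h4 : Sheaf.IsLocallySurjective ((EtDesc.pushSh f).map φ') :=
    (Sheaf.isLocallySurjective_iff_epi _).mpr h3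
  exact (Presheaf.isLocallySurjective_iff_whisker_forget _ _).mpr h4

end Groth.Agent.S6634
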