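import Groth.Statements.S0630
import Groth.Agent.S6634

set_option autoImplicit false
open CategoryTheory CategoryTheory.Limits AlgebraicGeometry Opposite
universe u
open EtCore

namespace Groth.Agent.S0630

/-- For a morphism f that is integral and universally injective, the direct image functor f_* on abelian
sheaves on the small etale sites preserves finite colimits (so it is exact, being a right adjoint). -/
theorem result {X Y : Scheme.{u}} (f : X ⟶ Y) [IsIntegralHom f]
    [UniversallyInjective f] :
    PreservesFiniteColimits (EtCoh.push f) := by
  have hepi : (EtCoh.push f).PreservesEpimorphisms := Groth.Agent.S6634.result f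
  have hlim : PreservesFiniteLimits (EtCoh.push f) := by
    have : PreservesLimitsOfSize.{u + 1, u + 1} (EtCoh.push f) :=
      (EtCoh.pullPushAdj f).rightAdjoint_preservesLimits
    exact PreservesLimitsOfSize.preservesFiniteLimits _
  have h1 := ((Functor.preservesFiniteLimits_tfae (EtCoh.push f)).out 3 0).mp hlim
  refine ((Functor.preservesFiniteColimits_tfae (EtCoh.push f)).out 0 3).mp ?_
  intro S hS
  have := hS.epi_g
  exact ⟨(h1 S hS).1, inferInstance⟩

end Groth.Agent.S0630
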