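import Groth.Statements.S0631
import Groth.Agent.Lib.Helper57.IntRecoll

set_option autoImplicit false
open CategoryTheory CategoryTheory.Limits AlgebraicGeometry Opposite
universe u
open EtCore

namespace Groth.Agent.S0631

/-- For a morphism f : X -> Y that is integral and universally injective, the direct image f_* on
abelian etale sheaves is full and faithful, an abelian sheaf on Y lies in its essential image
exactly when its support is contained in the image of f, and the counit f^{-1} f_* F -> F is an
isomorphism for every F. -/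
theorem result {X Y : Scheme.{u}} (f : X ⟶ Y)
    [IsIntegralHom f] [UniversallyInjective f] :
    (EtCoh.push f).Full ∧ (EtCoh.push f).Faithful ∧
    (∀ G : EtCoh.Ab Y, (EtCoh.push f).essImage G ↔ EtPBC.supp G ⊆ Set.range f.base) ∧
    ∀ F : EtCoh.Ab X, IsIso ((EtCoh.pullPushAdj f).counit.app F) := by
  have hgood := Groth.Agent.Lib.Helper57.IntStalk.good_of_integral f
  have hcounit : IsIso (EtCoh.pullPushAdj f).counit :=
    Groth.Agent.Lib.Helper57.IntStalk.isIso_counit f hgood
  let ff := (EtCoh.pullPushAdj f).fullyFaithfulROfIsIsoCounit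
  refine ⟨ff.full, ff.faithful, fun G => ⟨?_, ?_⟩, fun F => inferInstance⟩
  · rintro ⟨F, ⟨e⟩⟩ x ⟨Ω, _, _, ξ, hr, hnz⟩
    by_contra hx
    have hd : Disjoint (Set.range ξ.base) (Set.range f.base) := by
      have hr' : Set.range ξ.base = {x} := hr
      rw [hr', Set.disjoint_singleton_left]
      exact hx
    have h2 := Groth.Agent.Lib.Helper57.IntStalk.isZero_stalk_push f
      f.isClosedMap.isClosed_range F ξ hd
    exact hnz (h2.of_iso ((EtCoh.stalk ξ).mapIso e.symm))
  · intro hG
    have := Groth.Agent.Lib.Helper57.IntStalk.isIso_unit_of_supp f G hG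
    exact ⟨(EtCoh.pull f).obj G, ⟨(asIso ((EtCoh.pullPushAdj f).unit.app G)).symm⟩⟩

end Groth.Agent.S0631
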