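import Groth.Statements.S0634
import Groth.Agent.Lib.Helper4.PushSupp
import Groth.Agent.Lib.Helper4.ComapCounit
import Groth.Agent.Lib.Helper4.EtStalkPull

set_option autoImplicit false
open CategoryTheory CategoryTheory.Limits AlgebraicGeometry Opposite
universe u
open EtCore

namespace Groth.Agent.S0634
open Groth.Agent.Lib.Helper4

theorem eq_zero_of_germ_eq_zero {T : Scheme.{u}} (G : EtCoh.Ab T) (V : T.Etale)
    (σ : EtCoh.sect G V)
    (h : ∀ (Ω : Type u) [Field Ω] [IsSepClosed Ω] (τ : Spec (CommRingCat.of Ω) ⟶ T)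
      (v : (Scheme.pointSmallEtale τ).fiber.obj V),
      (Scheme.pointSmallEtale τ).toPresheafFiber V v G.obj σ = 0) : σ = 0 := by
  have h1 := (PushSupp.map_eq_zero_iff G V σ V (𝟙 V)).2 (by
    rintro _ ⟨y, rfl⟩ hy
    change y ∈ EtShriek.sectSupp G V σ at hy
    let Ω := SeparableClosure (V.left.residueField y)
    let v₀ : Spec (CommRingCat.of Ω) ⟶ V.left :=
      Spec.map (CommRingCat.ofHom (algebraMap (V.left.residueField y) Ω)) ≫
        V.left.fromSpecResidueField y
    let pt : ↥(Spec (CommRingCat.of Ω)) := default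
    have hv : v₀.base pt = y := by
      change (V.left.fromSpecResidueField y).base _ = y
      exact Scheme.fromSpecResidueField_apply _ _
    let τ : Spec (CommRingCat.of Ω) ⟶ T := v₀ ≫ V.hom
    let v' : (Scheme.pointSmallEtale τ).fiber.obj V :=
      (Over.homMk v₀ rfl : Over.mk τ ⟶ (Scheme.Etale.forget T).obj V)
    obtain ⟨W, g, w, hw, hσ⟩ := (Groth.Agent.S0671.germ_eq_zero_iff G τ V v' σ).1 (h Ω τ v')
    let w' : Over.mk τ ⟶ (Scheme.Etale.forget T).obj W := w
    refine hy W g ⟨w'.left.base pt, ?_⟩ hσ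
    have h1 : w'.left ≫ g.left = v₀ := congrArg (fun k => CommaMorphism.left k) hw
    exact (congrArg (fun (f : Spec (CommRingCat.of Ω) ⟶ V.left) => f.base pt) h1).trans hv)
  rw [← h1]
  change σ = G.obj.map (𝟙 (op V)) σ
  rw [G.obj.map_id]
  rfl

theorem germ_unit_apply {T S : Scheme.{u}} (f : T ⟶ S) (F : EtCoh.Ab S)
    {Ω : Type u} [Field Ω] [IsSepClosed Ω] (τ : Spec (CommRingCat.of Ω) ⟶ T) (V : S.Etale)
    (v : (Scheme.pointSmallEtale τ).fiber.obj ((EtCoh.bc f).obj V)) (σ : EtCoh.sect F V) :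
    (Scheme.pointSmallEtale τ).toPresheafFiber ((EtCoh.bc f).obj V) v ((EtCoh.pull f).obj F).obj
        (((EtCoh.pullPushAdj f).unit.app F).hom.app (op V) σ) =
      ((Scheme.pointSmallEtale τ).sheafFiberComapIso (EtCoh.bc f) (EtCoh.coverPreserving_bc f)
          AddCommGrpCat.{u+1}).hom.app F
        ((EtStalkPull.comapPt f τ).toPresheafFiber V v F.obj σ) := by
  have h := ComapCounit.germ_unit (Scheme.pointSmallEtale τ) (EtCoh.bc f)
    (EtCoh.coverPreserving_bc f) AddCommGrpCat.{u+1} F V v
  exact ConcreteCategory.congr_hom h σ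

theorem fiber_top_subsingleton {T S : Scheme.{u}} (f : T ⟶ S)
    {Ω : Type u} [Field Ω] [IsSepClosed Ω] (τ : Spec (CommRingCat.of Ω) ⟶ T) :
    Subsingleton ((Scheme.pointSmallEtale τ).fiber.obj ((EtCoh.bc f).obj (EtCoh.top S))) := by
  constructor
  intro a b
  let a' : Over.mk τ ⟶ (Scheme.Etale.forget T).obj ((EtCoh.bc f).obj (EtCoh.top S)) := a
  let b' : Over.mk τ ⟶ (Scheme.Etale.forget T).obj ((EtCoh.bc f).obj (EtCoh.top S)) := b
  have ha : a'.left ≫ pullback.snd (𝟙 S) f = τ := Over.w a'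
  have hb : b'.left ≫ pullback.snd (𝟙 S) f = τ := Over.w b'
  have hab : a'.left = b'.left := by
    apply pullback.hom_ext
    · have e : pullback.fst (𝟙 S) f = pullback.snd (𝟙 S) f ≫ f :=
        (Category.comp_id _).symm.trans pullback.condition
      change a'.left ≫ pullback.fst (𝟙 S) f = b'.left ≫ pullback.fst (𝟙 S) f
      exact (congrArg (a'.left ≫ ·) e).trans ((Category.assoc _ _ _).symm.trans
        ((congrArg (· ≫ f) (ha.trans hb.symm)).trans ((Category.assoc _ _ _).trans
          (congrArg (b'.left ≫ ·) e.symm))))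
    · exact ha.trans hb.symm
  exact Over.OverMorphism.ext hab

theorem key {S : Scheme.{u}} (F : EtCoh.Ab S) (σ : EtCoh.sect F (EtCoh.top S)) (W : S.Opens)
    (hW : ∀ (V : S.Etale) (φ : V ⟶ EtCoh.top S),
      F.obj.map φ.op σ = 0 ↔ Set.range φ.left.base ⊆ (W : Set S))
    (T : Scheme.{u}) (f : T ⟶ S) :
    Set.range f.base ⊆ (W : Set S) ↔
      ((EtCoh.pullPushAdj f).unit.app F).hom.app (op (EtCoh.top S)) σ = 0 := by
  constructor
  · intro hsub
    apply eq_zero_of_germ_eq_zero ((EtCoh.pull f).obj F) ((EtCoh.bc f).obj (EtCoh.top S))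
    intro Ω _ _ τ v
    rw [germ_unit_apply f F τ (EtCoh.top S) v σ]
    have h0 : (EtStalkPull.comapPt f τ).toPresheafFiber (EtCoh.top S) v F.obj σ = 0 := by
      have h := (EtStalkPull.comapPt f τ).toPresheafFiber_eq_iff' (P := F.obj)
        (EtCoh.top S) v σ 0
      simp only [map_zero] at h
      rw [h]
      let V : S.Etale := Scheme.Etale.mk W.ι
      let φ : V ⟶ EtCoh.top S := MorphismProperty.Over.homMk W.ι (Category.comp_id _)
      have hφ : F.obj.map φ.op σ = 0 := (hW V φ).2 (by
        rintro _ ⟨y, rfl⟩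
        exact y.2)
      have hsub' : Set.range (τ ≫ f).base ⊆ Set.range W.ι.base := by
        rw [Scheme.Opens.range_ι]
        rintro _ ⟨a, rfl⟩
        exact hsub ⟨τ.base a, rfl⟩
      let l₀ : Spec (CommRingCat.of Ω) ⟶ W.toScheme := IsOpenImmersion.lift W.ι (τ ≫ f) hsub'
      have hl₀ : l₀ ≫ W.ι = τ ≫ f := IsOpenImmersion.lift_fac _ _ _
      let l : Spec (CommRingCat.of Ω) ⟶ pullback W.ι f := pullback.lift l₀ τ hl₀
      let w : (Scheme.pointSmallEtale τ).fiber.obj ((EtCoh.bc f).obj V) :=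
        (Over.homMk l (pullback.lift_snd _ _ _) :
          Over.mk τ ⟶ (Scheme.Etale.forget T).obj ((EtCoh.bc f).obj V))
      refine ⟨V, φ, w, ?_, hφ⟩
      exact Subsingleton.elim (h := fiber_top_subsingleton f τ) _ _
    rw [h0]
    exact map_zero _
  · intro h0 _ hy
    obtain ⟨y, rfl⟩ := hy
    let Ω := SeparableClosure (T.residueField y)
    let τ : Spec (CommRingCat.of Ω) ⟶ T :=
      Spec.map (CommRingCat.ofHom (algebraMap (T.residueField y) Ω)) ≫ T.fromSpecResidueField y
    let pt : ↥(Spec (CommRingCat.of Ω)) := default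
    have hτ : τ.base pt = y := by
      change (T.fromSpecResidueField y).base _ = y
      exact Scheme.fromSpecResidueField_apply _ _
    let l : Spec (CommRingCat.of Ω) ⟶ pullback (𝟙 S) f :=
      pullback.lift (τ ≫ f) τ (Category.comp_id _)
    let v : (Scheme.pointSmallEtale τ).fiber.obj ((EtCoh.bc f).obj (EtCoh.top S)) :=
      (Over.homMk l (pullback.lift_snd _ _ _) :
        Over.mk τ ⟶ (Scheme.Etale.forget T).obj ((EtCoh.bc f).obj (EtCoh.top S)))
    have h1 := germ_unit_apply f F τ (EtCoh.top S) v σ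
    rw [h0] at h1
    replace h1 := h1.symm.trans (map_zero _)
    let β := ((Scheme.pointSmallEtale τ).sheafFiberComapIso (EtCoh.bc f)
      (EtCoh.coverPreserving_bc f) AddCommGrpCat.{u+1})
    have h2 : (EtStalkPull.comapPt f τ).toPresheafFiber (EtCoh.top S) v F.obj σ = 0 := by
      have h3 := (congrArg (β.inv.app F) h1).trans (map_zero _)
      have h4 : β.inv.app F (β.hom.app F
          ((EtStalkPull.comapPt f τ).toPresheafFiber (EtCoh.top S) v F.obj σ)) =
          (EtStalkPull.comapPt f τ).toPresheafFiber (EtCoh.top S) v F.obj σ :=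
        ConcreteCategory.congr_hom (β.hom_inv_id_app F) _
      exact h4.symm.trans h3
    have h := (EtStalkPull.comapPt f τ).toPresheafFiber_eq_iff' (P := F.obj)
      (EtCoh.top S) v σ 0
    simp only [map_zero] at h
    obtain ⟨V, φ, w, hw, hφ⟩ := h.1 h2
    have hr := (hW V φ).1 hφ
    let w' : Over.mk τ ⟶ (Scheme.Etale.forget T).obj ((EtCoh.bc f).obj V) := w
    have hw' : w'.left ≫ pullback.snd V.hom f = τ := Over.w w'
    let φl : V.left ⟶ S := φ.left
    let vh : V.left ⟶ S := V.hom
    have hV : φl = vh := (Category.comp_id φl).symm.trans (MorphismProperty.Over.w φ)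
    let wl : Spec (CommRingCat.of Ω) ⟶ pullback vh f := w'.left
    have hwl : wl ≫ pullback.snd vh f = τ := hw'
    have e2 : wl ≫ pullback.fst vh f ≫ φl = τ ≫ f := by
      rw [hV, pullback.condition, ← Category.assoc, hwl]
    have e1 : φl.base ((wl ≫ pullback.fst vh f).base pt) = f.base y := by
      have e4 : (wl ≫ pullback.fst vh f ≫ φl).base pt = (τ ≫ f).base pt := by rw [e2]
      refine Eq.trans ?_ (e4.trans ?_)
      · rfl
      · change f.base (τ.base pt) = _
        rw [hτ]
    rw [← e1]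
    exact hr ⟨(wl ≫ pullback.fst vh f).base pt, rfl⟩


/-- For an abelian sheaf F on the small etale site of S and two global sections s, t there is an open W
of S such that a morphism f : T -> S has image inside W if and only if the pullbacks of s and t
along f (images under the adjunction unit, as sections of the pullback sheaf over T) coincide. -/
theorem result {S : Scheme.{u}} (F : EtCoh.Ab S) (s t : EtCoh.sect F (EtCoh.top S)) :
    ∃ W : S.Opens, ∀ (T : Scheme.{u}) (f : T ⟶ S),
      Set.range f.base ⊆ (W : Set S) ↔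
        ((EtCoh.pullPushAdj f).unit.app F).hom.app (op (EtCoh.top S)) s =
          ((EtCoh.pullPushAdj f).unit.app F).hom.app (op (EtCoh.top S)) t := by
  obtain ⟨W, hW⟩ := Groth.Agent.S0102.result F (EtCoh.top S) (s - t)
  refine ⟨W, fun T f => ?_⟩
  rw [key F (s - t) W hW T f, map_sub, sub_eq_zero]


end Groth.Agent.S0634
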