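import Groth.Statements.S0643
-- import your own Groth.Agent.* helpers here

set_option autoImplicit false
universe u
open EtCore

namespace Groth.Agent.S0643

open Polynomial in
/-- Let A be a ring, assumed nonzero here (the published statement does not say so; over the zero ring
no polynomial has positive degree in Lean's sense), and a, b elements generating the unit ideal such
that some positive power of a is congruent to 1 modulo b. Then there is a monic polynomial P of
positive degree over A such that in B = A[y]/(P) the element a - b y is a unit. -/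
theorem result (A : Type u) [CommRing A] [Nontrivial A] (a b : A) (hab : IsCoprime a b)
    (hroot : ∃ n : ℕ, 0 < n ∧ a ^ n - 1 ∈ Ideal.span ({b} : Set A)) :
    ∃ P : A[X], P.Monic ∧ 0 < P.natDegree ∧
      IsUnit (algebraMap A (AdjoinRoot P) a - algebraMap A (AdjoinRoot P) b * AdjoinRoot.root P) := by
  obtain ⟨n, hn, hmem⟩ := hroot
  obtain ⟨d, hd⟩ := Ideal.mem_span_singleton'.mp hmem
  obtain ⟨u, v, huv⟩ := hab
  obtain ⟨k, rfl⟩ : ∃ k, n = k + 1 := ⟨n - 1, by omega⟩
  set Q : A[X] := C d * (C u * X + C v) ^ k with hQ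
  have hQdeg : Q.degree < ((k + 1 : ℕ) : WithBot ℕ) := by
    have h1 : (C u * X + C v : A[X]).degree ≤ 1 := by
      refine (degree_add_le _ _).trans (max_le ?_ ?_)
      · exact (degree_C_mul_X_le u)
      · exact (degree_C_le).trans zero_le_one
    have h2 : ((C u * X + C v : A[X]) ^ k).degree ≤ k := by
      refine (degree_pow_le _ _).trans ?_
      calc k • (C u * X + C v : A[X]).degree ≤ k • (1 : WithBot ℕ) := nsmul_le_nsmul_right h1 k
        _ = (k : WithBot ℕ) := by simp
    have h3 : Q.degree ≤ k := by
      refine (degree_mul_le _ _).trans ?_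
      calc (C d).degree + ((C u * X + C v : A[X]) ^ k).degree ≤ 0 + (k : WithBot ℕ) :=
            add_le_add degree_C_le h2
        _ = k := zero_add _
    refine lt_of_le_of_lt h3 ?_
    exact_mod_cast Nat.lt_succ_self k
  have hmonic : (X ^ (k + 1) - Q).Monic := monic_X_pow_sub hQdeg
  refine ⟨X ^ (k + 1) - Q, hmonic, ?_, ?_⟩
  · have hdeg : (X ^ (k + 1) - Q).degree = ((k + 1 : ℕ) : WithBot ℕ) := by
      rw [degree_sub_eq_left_of_degree_lt (by rwa [degree_X_pow]), degree_X_pow]
    have := natDegree_eq_of_degree_eq_some hdeg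
    omega
  · set y := AdjoinRoot.root (X ^ (k + 1) - Q) with hy_def
    set φ := algebraMap A (AdjoinRoot (X ^ (k + 1) - Q)) with hφ
    have hy : y ^ (k + 1) = φ d * (φ u * y + φ v) ^ k := by
      have h0 := AdjoinRoot.eval₂_root (X ^ (k + 1) - Q)
      rw [eval₂_sub, sub_eq_zero] at h0
      simp only [hQ, eval₂_mul, eval₂_pow, eval₂_add, eval₂_C, eval₂_X] at h0
      rw [hφ, AdjoinRoot.algebraMap_eq]
      exact h0
    let G : (AdjoinRoot (X ^ (k + 1) - Q))[X] :=
      X ^ (k + 1) - C (φ b * φ d) * (C (φ u) * X + C (φ v * φ b)) ^ k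
    have h1 : G.eval (φ a) = 1 := by
      have e : a ^ (k + 1) - b * d * (u * a + v * b) ^ k = 1 := by
        rw [huv, one_pow, mul_one, mul_comm b d, hd]; ring
      have := congrArg φ e
      simpa [G] using this
    have h2 : G.eval (φ b * y) = 0 := by
      simp only [G, eval_sub, eval_pow, eval_X, eval_mul, eval_C, eval_add]
      have e : φ u * (φ b * y) + φ v * φ b = φ b * (φ u * y + φ v) := by ring
      rw [e, mul_pow, mul_pow, hy]
      ring
    have h3 := Polynomial.sub_dvd_eval_sub (φ a) (φ b * y) G
    rw [h1, h2, sub_zero] at h3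
    exact isUnit_of_dvd_one h3

end Groth.Agent.S0643
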