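import Groth.Statements.S0644
import Groth.Agent.S0102

set_option autoImplicit false
open CategoryTheory CategoryTheory.Limits AlgebraicGeometry Opposite
universe u
open EtCore

namespace Groth.Agent.S0644

noncomputable def bigOpen (S : Scheme.{u}) (F : Sheaf S.smallEtaleTopology (Type u)) : S.Opens :=
  ⟨⋃ (U : S.Etale) (_ : Nonempty (F.obj.obj (op U))), Set.range U.hom.base, by
    apply isOpen_iUnion
    intro U
    apply isOpen_iUnion
    intro _
    have : Etale U.hom := U.prop
    exact U.hom.isOpenMap.isOpen_range⟩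

theorem nonempty_iff (S : Scheme.{u}) (F : Sheaf S.smallEtaleTopology (Type u))
    (hF : ∀ U : S.Etale, Subsingleton (F.obj.obj (op U))) (U : S.Etale) :
    Nonempty (F.obj.obj (op U)) ↔ Set.range U.hom.base ⊆ (bigOpen S F : Set S) := by
  constructor
  · intro h x hx
    exact Set.mem_iUnion.2 ⟨U, Set.mem_iUnion.2 ⟨h, hx⟩⟩
  · intro hsub
    let R : Sieve U :=
      { arrows := fun T _ => Nonempty (F.obj.obj (op T))
        downward_closed := by
          rintro T T' g ⟨a⟩ k
          exact ⟨F.obj.map k.op a⟩ }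
    have hR : R ∈ S.smallEtaleTopology U := by
      apply Groth.Agent.S0102.mem_of_forall_exists
      intro x
      have hx : U.hom.base x ∈ (bigOpen S F : Set S) := hsub ⟨x, rfl⟩
      obtain ⟨V, hx⟩ := Set.mem_iUnion.1 hx
      obtain ⟨⟨a⟩, y, hy⟩ := Set.mem_iUnion.1 hx
      have : Etale U.hom := U.prop
      have : Etale V.hom := V.prop
      let T : S.Etale := Scheme.Etale.mk (pullback.fst U.hom V.hom ≫ U.hom)
      let k : T ⟶ U := MorphismProperty.Over.homMk (pullback.fst U.hom V.hom) rfl
      let k' : T ⟶ V := MorphismProperty.Over.homMk (pullback.snd U.hom V.hom)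
        pullback.condition.symm
      obtain ⟨z, hz1, hz2⟩ := Scheme.Pullback.exists_preimage_pullback (f := U.hom) (g := V.hom)
        x y hy.symm
      exact ⟨T, k, z, ⟨F.obj.map k'.op a⟩, hz1⟩
    have hsh : Presieve.IsSheaf S.smallEtaleTopology F.obj :=
      (isSheaf_iff_isSheaf_of_type _ _).1 F.cond
    let x : Presieve.FamilyOfElements F.obj R.arrows := fun T g hg => hg.some
    have hx : x.Compatible := by
      intro T₁ T₂ T₃ g₁ g₂ f₁ f₂ h₁ h₂ _
      exact Subsingleton.elim (h := hF T₃) _ _
    exact ⟨(hsh R hR).amalgamate x hx⟩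

theorem hom_nonempty_iff (S : Scheme.{u}) (W : S.Opens) (U : S.Etale) :
    Nonempty (U ⟶ Scheme.Etale.mk W.ι) ↔ Set.range U.hom.base ⊆ (W : Set S) := by
  constructor
  · rintro ⟨g⟩ _ ⟨x, rfl⟩
    have h : g.left ≫ W.ι = U.hom := MorphismProperty.Over.w g
    have h2 : (g.left ≫ W.ι).base x = U.hom.base x := by rw [h]
    rw [← h2]
    exact (g.left.base x).2
  · intro hsub
    have hsub' : Set.range U.hom.base ⊆ Set.range W.ι.base := by
      rw [Scheme.Opens.range_ι]
      exact hsub
    let uh : U.left ⟶ S := U.hom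
    let l : U.left ⟶ W.toScheme := IsOpenImmersion.lift W.ι uh hsub'
    have hl : l ≫ W.ι = uh := IsOpenImmersion.lift_fac W.ι uh hsub'
    exact ⟨MorphismProperty.Over.homMk l hl⟩

instance hom_subsingleton (S : Scheme.{u}) (W : S.Opens) (U : S.Etale) :
    Subsingleton (U ⟶ Scheme.Etale.mk W.ι) := by
  constructor
  intro g g'
  apply MorphismProperty.Over.Hom.ext
  have h : g.left ≫ W.ι = g'.left ≫ W.ι :=
    (MorphismProperty.Over.w g).trans (MorphismProperty.Over.w g').symm
  exact (cancel_mono W.ι).1 h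


/-- Let F be a sheaf of sets on the small etale site of S which is a subsheaf of the final sheaf, i.e.
every set of sections has at most one element. Then there is exactly one open W of S such that F is
isomorphic to the sheaf represented by W (viewed as a scheme etale over S). -/
theorem result (S : Scheme.{u}) (F : Sheaf S.smallEtaleTopology (Type u))
    (hF : ∀ U : S.Etale, Subsingleton (F.obj.obj (op U))) :
    ∃! W : S.Opens, Nonempty (F.obj ≅ yoneda.obj (Scheme.Etale.mk W.ι)) := by
  refine ⟨bigOpen S F, ?_, ?_⟩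
  · have hiff : ∀ U : S.Etale, Nonempty (F.obj.obj (op U)) ↔
        Nonempty (U ⟶ Scheme.Etale.mk (bigOpen S F).ι) := fun U =>
      (nonempty_iff S F hF U).trans (hom_nonempty_iff S (bigOpen S F) U).symm
    refine ⟨NatIso.ofComponents (fun U => Equiv.toIso
      (@equivOfSubsingletonOfSubsingleton _ _ (hF U.unop) (hom_subsingleton S _ U.unop)
        (fun a => ((hiff U.unop).1 ⟨a⟩).some) (fun b => ((hiff U.unop).2 ⟨b⟩).some))) ?_⟩
    intro U V f
    ext a
    exact Subsingleton.elim (h := hom_subsingleton S _ V.unop) _ _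
  · rintro W' ⟨e⟩
    have hiff' : ∀ U : S.Etale, Nonempty (F.obj.obj (op U)) ↔
        Set.range U.hom.base ⊆ (W' : Set S) := fun U =>
      ⟨fun ⟨a⟩ => (hom_nonempty_iff S W' U).1 ⟨e.hom.app (op U) a⟩,
        fun h => by
          obtain ⟨b⟩ := (hom_nonempty_iff S W' U).2 h
          exact ⟨e.inv.app (op U) b⟩⟩
    apply le_antisymm
    · intro x hx
      have h1 : Nonempty (F.obj.obj (op (Scheme.Etale.mk W'.ι))) :=
        (hiff' _).2 (by
          rintro _ ⟨y, rfl⟩
          exact y.2)
      have h2 := (nonempty_iff S F hF _).1 h1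
      exact h2 ⟨⟨x, hx⟩, rfl⟩
    · intro x hx
      have h1 : Nonempty (F.obj.obj (op (Scheme.Etale.mk (bigOpen S F).ι))) :=
        (nonempty_iff S F hF _).2 (by
          rintro _ ⟨y, rfl⟩
          exact y.2)
      have h2 := (hiff' _).1 h1
      exact h2 ⟨⟨x, hx⟩, rfl⟩


end Groth.Agent.S0644
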