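import Groth.Statements.S0653
import Groth.Agent.Lib.Helper4.PushSupp
import Groth.Agent.Lib.Helper4.ExtZeroOpen

set_option autoImplicit false
open CategoryTheory CategoryTheory.Limits AlgebraicGeometry Opposite
universe u
open EtCore

namespace Groth.Agent.S0653
open Groth.Agent.Lib.Helper4

/-- Consider a cartesian square U = X x_Y V with f : X -> Y finite, j : V -> Y an open immersion, j' : U
-> X and g : U -> V the projections. Then for every abelian sheaf F on the small etale site of U,
f_* j'_! F is isomorphic to j_! g_* F. (The source also asserts functoriality in F; only the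
objectwise isomorphism is stated.) (Continuity of the composition functor of etale sites, which
always holds, is carried as an instance hypothesis.) -/
theorem result {U X V Y : Scheme.{u}} (f : X ⟶ Y) [IsFinite f] (j : V ⟶ Y)
    [IsOpenImmersion j] [AlgebraicGeometry.Etale j] [EtShriek.JCont j] (j' : U ⟶ X) [IsOpenImmersion j']
    [AlgebraicGeometry.Etale j'] [EtShriek.JCont j'] (g : U ⟶ V) (h : IsPullback j' g f j) (F : EtCoh.Ab U) :
    Nonempty ((EtCoh.push f).obj ((EtShriek.extZero j').obj F) ≅ (EtShriek.extZero j).obj ((EtCoh.push g).obj F)) := by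
  have hunit : IsIso (EtShriek.extZeroAdj j').unit := EtRestr.isIso_extZeroAdj_unit j'
  have e : (EtShriek.restrAlong j).obj ((EtCoh.push f).obj ((EtShriek.extZero j').obj F)) ≅
      (EtCoh.push g).obj F :=
    (ExtZeroBC.rightIso j f j' g h).symm.app ((EtShriek.extZero j').obj F) ≪≫
      (EtCoh.push g).mapIso (asIso ((EtShriek.extZeroAdj j').unit.app F)).symm
  refine ExtZeroOpen.main j ((EtCoh.push g).obj F) _ ⟨e⟩ ?_
  intro Ω _ _ ξ hξ
  apply PushSupp.isZero_stalk_push_of_universallyClosed
  rintro x hx ⟨Ω', _, _, η, hη, hnz⟩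
  apply hnz
  apply ExtZeroOpen.isZero_stalk_extZero_of_not_mem j' F η
  rintro ⟨u, hu⟩
  have h1 : η.base default = x := by
    have : η.base default ∈ Set.range η := ⟨default, rfl⟩
    rw [hη] at this
    exact this
  have h2 : ξ.base default ∈ (Set.range j.base)ᶜ := hξ ⟨default, rfl⟩
  apply h2
  refine ⟨g.base u, ?_⟩
  have h3 : (g ≫ j).base u = (j' ≫ f).base u := by rw [h.w]
  refine h3.trans ?_
  change f.base (j'.base u) = _
  rw [hu, h1, hx]


end Groth.Agent.S0653
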