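import Groth.Statements.S0654
import Groth.Agent.Lib.Helper4.ClosedRecoll

set_option autoImplicit false
open CategoryTheory CategoryTheory.Limits AlgebraicGeometry Opposite
universe u
open EtCore

namespace Groth.Agent.S0654
open Groth.Agent.Lib.Helper4

theorem dichotomy {Z X : Scheme.{u}} (i : Z ⟶ X) [IsClosedImmersion i]
    (U : X.Opens) (hU : (U : Set X) = (Set.range i.base)ᶜ)
    {Ω : Type u} [Field Ω] [IsSepClosed Ω] (ξ : Spec (CommRingCat.of Ω) ⟶ X) :
    (∃ v : Spec (CommRingCat.of Ω) ⟶ U.toScheme, v ≫ U.ι = ξ ∧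
        Disjoint (Set.range ξ.base) (Set.range i.base)) ∨
    (∃ ζ : Spec (CommRingCat.of Ω) ⟶ Z, ζ ≫ i = ξ ∧ ξ.base default ∉ Set.range U.ι.base) := by
  let pt : ↥(Spec (CommRingCat.of Ω)) := default
  have hr : Set.range ξ.base = {ξ.base pt} := by
    ext y
    constructor
    · rintro ⟨a, rfl⟩
      rw [Subsingleton.elim (α := ↥(Spec (CommRingCat.of Ω))) a pt]
      rfl
    · rintro rfl
      exact ⟨pt, rfl⟩
  by_cases h : ξ.base pt ∈ (U : Set X)
  · left
    have hsub : Set.range ξ.base ⊆ Set.range U.ι.base := by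
      rw [hr, Scheme.Opens.range_ι]
      exact Set.singleton_subset_iff.2 h
    refine ⟨IsOpenImmersion.lift U.ι ξ hsub, IsOpenImmersion.lift_fac _ _ _, ?_⟩
    rw [hr, Set.disjoint_singleton_left]
    rw [hU] at h
    exact h
  · right
    rw [hU, Set.mem_compl_iff, not_not] at h
    have hsub : Set.range ξ.base ⊆ Set.range i.base := by
      rw [hr]
      exact Set.singleton_subset_iff.2 h
    obtain ⟨ζ, hζ⟩ := ClosedRecoll.exists_lift_geomPt i ξ hsub
    refine ⟨ζ, hζ, ?_⟩
    rw [Scheme.Opens.range_ι, hU]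
    exact fun hc => hc h


/-- Let i : Z -> X be a closed immersion and j : U -> X the open immersion of the complement of its
image. For every abelian sheaf F on the small etale site of X, the counit j_! (F|_U) -> F followed
by the unit F -> i_* i^{-1} F composes to zero and the resulting three-term sequence is short exact.
(Continuity of the composition functor of etale sites, which always holds, is carried as an instance
hypothesis.) -/
theorem result {Z X : Scheme.{u}} (i : Z ⟶ X) [IsClosedImmersion i]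
    (U : X.Opens) (hU : (U : Set X) = (Set.range i.base)ᶜ) [AlgebraicGeometry.Etale U.ι] [EtShriek.JCont U.ι]
    (F : EtCoh.Ab X) :
    ∃ w : (EtShriek.extZeroAdj U.ι).counit.app F ≫ (EtCoh.pullPushAdj i).unit.app F = 0,
      (ShortComplex.mk _ _ w).ShortExact := by
  have hw : (EtShriek.extZeroAdj U.ι).counit.app F ≫ (EtCoh.pullPushAdj i).unit.app F = 0 := by
    apply ClosedRecoll.eq_zero_of_stalk
    intro Ω _ _ ξ
    rcases dichotomy i U hU ξ with ⟨v, hv, hd⟩ | ⟨ζ, hζ, hn⟩
    · exact (Groth.Agent.S0069.result i _ ξ hd).eq_of_tgt _ _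
    · exact (ExtZeroOpen.isZero_stalk_extZero_of_not_mem U.ι _ ξ hn).eq_of_src _ _
  refine ⟨hw, ?_⟩
  have hmono : Mono ((EtShriek.extZeroAdj U.ι).counit.app F) := by
    rw [EtStalk.mono_iff_stalk]
    intro Ω _ _ ξ
    rcases dichotomy i U hU ξ with ⟨v, hv, hd⟩ | ⟨ζ, hζ, hn⟩
    · subst hv
      have := ExtZeroOpen.isIso_stalk_counit_of_lift U.ι F v
      infer_instance
    · exact (ExtZeroOpen.isZero_stalk_extZero_of_not_mem U.ι _ ξ hn).mono _
  have hepi : Epi ((EtCoh.pullPushAdj i).unit.app F) := by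
    rw [EtStalk.epi_iff_stalk]
    intro Ω _ _ ξ
    rcases dichotomy i U hU ξ with ⟨v, hv, hd⟩ | ⟨ζ, hζ, hn⟩
    · exact (Groth.Agent.S0069.result i _ ξ hd).epi _
    · subst hζ
      have := ClosedRecoll.isIso_stalk_unit i F ζ
      infer_instance
  have hex : (ShortComplex.mk _ _ hw).Exact := by
    rw [EtStalk.exact_iff_stalk]
    intro Ω _ _ ξ
    rcases dichotomy i U hU ξ with ⟨v, hv, hd⟩ | ⟨ζ, hζ, hn⟩
    · have hg : ((ShortComplex.mk _ _ hw).map (EtCoh.stalk ξ)).g = 0 :=
        (Groth.Agent.S0069.result i _ ξ hd).eq_of_tgt _ _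
      rw [ShortComplex.exact_iff_epi _ hg]
      subst hv
      have := ExtZeroOpen.isIso_stalk_counit_of_lift U.ι F v
      change Epi ((EtCoh.stalk (v ≫ U.ι)).map ((EtShriek.extZeroAdj U.ι).counit.app F))
      infer_instance
    · have hf : ((ShortComplex.mk _ _ hw).map (EtCoh.stalk ξ)).f = 0 :=
        (ExtZeroOpen.isZero_stalk_extZero_of_not_mem U.ι _ ξ hn).eq_of_src _ _
      rw [ShortComplex.exact_iff_mono _ hf]
      subst hζ
      have := ClosedRecoll.isIso_stalk_unit i F ζ
      change Mono ((EtCoh.stalk (ζ ≫ i)).map ((EtCoh.pullPushAdj i).unit.app F))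
      infer_instance
  exact ShortComplex.ShortExact.mk hex


end Groth.Agent.S0654
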