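import Groth.Statements.S0658


set_option autoImplicit false
open CategoryTheory CategoryTheory.Limits AlgebraicGeometry Opposite
universe u
open EtCore

namespace Groth.Agent.S0658

theorem etale_spec_field (k : Type u) [Field k] (K : Type u) [Field K] [Algebra k K]
    [FiniteDimensional k K] [Algebra.IsSeparable k K] :
    AlgebraicGeometry.Etale (Spec.map (CommRingCat.ofHom (algebraMap k K))) := by
  rw [HasRingHomProperty.Spec_iff (P := @AlgebraicGeometry.Etale)]
  have h : Algebra.Etale k K := by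
    rw [Algebra.Etale.iff_exists_algEquiv_prod]
    refine ⟨PUnit.{u+1}, inferInstance, fun _ => K, fun _ => inferInstance, fun _ => inferInstance,
      ?_, fun _ => ⟨inferInstance, inferInstance⟩⟩
    exact (AlgEquiv.funUnique k PUnit.{u+1} K).symm
  rw [CommRingCat.hom_ofHom, RingHom.etale_algebraMap]
  exact h


theorem local_decomp (k : Type u) [Field k] (U : Scheme.{u}) (φ : U ⟶ Spec (CommRingCat.of k))
    [AlgebraicGeometry.Etale φ] (x : U) :
    ∃ (K : Type u) (_ : Field K) (_ : Algebra k K) (_ : FiniteDimensional k K)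
      (_ : Algebra.IsSeparable k K) (ι : Spec (CommRingCat.of K) ⟶ U),
      IsOpenImmersion ι ∧ Set.range ι.base = {x} ∧
        ι ≫ φ = Spec.map (CommRingCat.ofHom (algebraMap k K)) := by
  obtain ⟨_, ⟨V, hV : IsAffineOpen V, rfl⟩, hxV, -⟩ :=
    U.isBasis_affineOpens.exists_subset_of_mem_open (Set.mem_univ x) isOpen_univ
  obtain ⟨f, hf⟩ : ∃ f : CommRingCat.of k ⟶ Γ(U, V), Spec.map f = hV.fromSpec ≫ φ :=
    ⟨Spec.preimage _, Spec.map_preimage _⟩
  have hEt : AlgebraicGeometry.Etale (Spec.map f) := by rw [hf]; infer_instance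
  rw [HasRingHomProperty.Spec_iff (P := @AlgebraicGeometry.Etale)] at hEt
  let : Algebra k Γ(U, V) := f.hom.toAlgebra
  have hEt' : Algebra.Etale k Γ(U, V) := by
    rw [← RingHom.etale_algebraMap]; exact hEt
  obtain ⟨I, hI, Ai, hfield, halg, e, hfs⟩ := (Algebra.Etale.iff_exists_algEquiv_prod k Γ(U, V)).mp hEt'
  have hx : x ∈ Set.range hV.fromSpec.base := by
    rw [hV.range_fromSpec]; exact hxV
  obtain ⟨y, hy⟩ := hx
  let E : Spec (CommRingCat.of (Π i, Ai i)) ⟶ Spec Γ(U, V) :=
    Spec.map (CommRingCat.ofHom e.toRingEquiv.toRingHom)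
  have hE : IsIso E := by
    have : IsIso (CommRingCat.ofHom e.toRingEquiv.toRingHom) :=
      (e.toRingEquiv.toCommRingCatIso).isIso_hom
    infer_instance
  obtain ⟨y', hy'⟩ : ∃ y', E.base y' = y := ⟨(inv E).base y, by
    rw [← Scheme.Hom.comp_apply]; simp⟩
  let R : I → CommRingCat.{u} := fun i => CommRingCat.of (Ai i)
  obtain ⟨z, hz⟩ : ∃ z, (sigmaSpec R).base z = y' := ⟨(inv (sigmaSpec R)).base y', by
    rw [← Scheme.Hom.comp_apply]; simp⟩
  obtain ⟨i, w, hw⟩ := (sigmaOpenCover (fun i => Spec (R i))).exists_eq z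
  have hfin := (hfs i).1
  have hsep := (hfs i).2
  refine ⟨Ai i, hfield i, halg i, hfin, hsep,
    Spec.map (CommRingCat.ofHom (Pi.evalRingHom (fun i => Ai i) i)) ≫ E ≫ hV.fromSpec, ?_, ?_, ?_⟩
  · infer_instance
  · have hsub : Subsingleton (Spec (CommRingCat.of (Ai i))) :=
      inferInstanceAs (Subsingleton (PrimeSpectrum (Ai i)))
    have hwx : (Spec.map (CommRingCat.ofHom (Pi.evalRingHom (fun i => Ai i) i)) ≫ E ≫
        hV.fromSpec).base w = x := by
      have h1 : (Spec.map (CommRingCat.ofHom (Pi.evalRingHom (fun i => Ai i) i))).base w = y' := by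
        have := ι_sigmaSpec R i
        rw [← hz, ← hw, ← this]
        rfl
      rw [Scheme.Hom.comp_apply, Scheme.Hom.comp_apply, h1, hy', hy]
    ext t
    constructor
    · rintro ⟨w', rfl⟩
      rw [Subsingleton.elim w' w, hwx]; rfl
    · rintro rfl
      exact ⟨w, hwx⟩
  · rw [Category.assoc, Category.assoc, ← hf, ← Spec.map_comp, ← Spec.map_comp]
    congr 1
    ext a
    change Pi.evalRingHom (fun i => Ai i) i (e (algebraMap k Γ(U, V) a)) = algebraMap k (Ai i) a
    rw [e.commutes]
    rfl



/-- Let k be a field and φ : U → Spec k a morphism of schemes. Then φ is étale if and only if U is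
isomorphic over k to a disjoint union ∐ Spec K_i with each K_i a finite separable field extension of
k. -/
theorem result (k : Type u) [Field k] (U : Scheme.{u}) (φ : U ⟶ Spec (CommRingCat.of k)) :
    AlgebraicGeometry.Etale φ ↔
      ∃ (ι : Type u) (K : ι → Type u) (_ : ∀ i, Field (K i)) (_ : ∀ i, Algebra k (K i))
        (_ : ∀ i, FiniteDimensional k (K i)) (_ : ∀ i, Algebra.IsSeparable k (K i))
        (e : (∐ fun i => Spec (CommRingCat.of (K i))) ≅ U),
        ∀ i, Sigma.ι (fun i => Spec (CommRingCat.of (K i))) i ≫ e.hom ≫ φ =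
          Spec.map (CommRingCat.ofHom (algebraMap k (K i))) := by
  constructor
  · intro hφ
    choose K hF hA hfd hsep ι hoi hrange hcomp using local_decomp k U φ
    have hdisj : Pairwise (Function.onFun Disjoint (fun x => Set.range (ι x).base)) := by
      intro x y hxy
      change Disjoint (Set.range (ι x).base) (Set.range (ι y).base)
      rw [hrange x, hrange y]
      exact Set.disjoint_singleton.mpr hxy
    have hOI : IsOpenImmersion (Sigma.desc ι) := isOpenImmersion_sigmaDesc _ _ hdisj
    have hiso : IsIso (Sigma.desc ι) := by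
      apply isIso_of_isOpenImmersion_of_opensRange_eq_top
      rw [eq_top_iff]
      intro x _
      have hx : x ∈ Set.range (ι x).base := by rw [hrange x]; rfl
      obtain ⟨w, hw⟩ := hx
      refine ⟨(Sigma.ι (fun x => Spec (CommRingCat.of (K x))) x).base w, ?_⟩
      rw [← Scheme.Hom.comp_apply, Sigma.ι_desc]
      exact hw
    refine ⟨U, K, hF, hA, hfd, hsep, asIso (Sigma.desc ι), fun x => ?_⟩
    rw [asIso_hom, Sigma.ι_desc_assoc]
    exact hcomp x
  · rintro ⟨ι, K, hF, hA, hfd, hsep, e, h⟩
    have h1 : AlgebraicGeometry.Etale (e.hom ≫ φ) := by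
      rw [IsZariskiLocalAtSource.iff_of_openCover (P := @AlgebraicGeometry.Etale)
        (sigmaOpenCover (fun i => Spec (CommRingCat.of (K i))))]
      intro i
      change AlgebraicGeometry.Etale (Sigma.ι (fun i => Spec (CommRingCat.of (K i))) i ≫ e.hom ≫ φ)
      rw [h i]
      exact etale_spec_field k (K i)
    have h2 : φ = e.inv ≫ e.hom ≫ φ := by simp
    rw [h2]
    infer_instance

end Groth.Agent.S0658
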