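import Groth.Statements.S0660
import Groth.Agent.Lib.Helper4.ClosedStalk
import Groth.Agent.Lib.Helper4.ExtZeroBC

set_option autoImplicit false
open CategoryTheory CategoryTheory.Limits AlgebraicGeometry Opposite
universe u
open EtCore

namespace Groth.Agent.S0660
open Groth.Agent.Lib.Helper4

theorem core {Z X UL UL' : Scheme.{u}} (i : Z ⟶ X) [IsClosedImmersion i] (uh : UL ⟶ X)
    (uh' : UL' ⟶ X) [Etale uh] [Etale uh']
    (hl : pullback uh i ⟶ pullback uh' i) (hh : hl ≫ pullback.snd uh' i = pullback.snd uh i) :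
    ∃ (O : (pullback uh uh').Opens)
      (α : pullback (O.ι ≫ pullback.fst uh uh' ≫ uh) i ⟶ pullback uh i)
      (β : pullback (O.ι ≫ pullback.fst uh uh' ≫ uh) i ⟶ pullback uh' i),
      α ≫ pullback.fst uh i =
        pullback.fst (O.ι ≫ pullback.fst uh uh' ≫ uh) i ≫ O.ι ≫ pullback.fst uh uh' ∧
      α ≫ pullback.snd uh i = pullback.snd (O.ι ≫ pullback.fst uh uh' ≫ uh) i ∧
      β ≫ pullback.fst uh' i =
        pullback.fst (O.ι ≫ pullback.fst uh uh' ≫ uh) i ≫ O.ι ≫ pullback.snd uh uh' ∧
      β ≫ pullback.snd uh' i = pullback.snd (O.ι ≫ pullback.fst uh uh' ≫ uh) i ∧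
      IsIso α ∧ α ≫ hl = β := by
  let pU := pullback.fst uh i
  let sU := pullback.snd uh i
  let pU' := pullback.fst uh' i
  let sU' := pullback.snd uh' i
  let PH := pullback.fst uh uh' ≫ uh
  let qP := pullback.fst PH i
  let sP := pullback.snd PH i
  let bp1 : pullback PH i ⟶ pullback uh i := pullback.lift (qP ≫ pullback.fst uh uh') sP (by
    rw [Category.assoc]; exact pullback.condition)
  let bp2 : pullback PH i ⟶ pullback uh' i := pullback.lift (qP ≫ pullback.snd uh uh') sP (by
    rw [Category.assoc, ← pullback.condition]; exact pullback.condition)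
  have b1f : bp1 ≫ pU = qP ≫ pullback.fst uh uh' := pullback.lift_fst _ _ _
  have b1s : bp1 ≫ sU = sP := pullback.lift_snd _ _ _
  have b2f : bp2 ≫ pU' = qP ≫ pullback.snd uh uh' := pullback.lift_fst _ _ _
  have b2s : bp2 ≫ sU' = sP := pullback.lift_snd _ _ _
  have c1 : pU ≫ uh = (hl ≫ pU') ≫ uh' := by
    rw [Category.assoc, pullback.condition, pullback.condition, ← Category.assoc, hh]
  let γ₀ : pullback uh i ⟶ pullback uh uh' := pullback.lift pU (hl ≫ pU') c1
  have c2 : γ₀ ≫ PH = sU ≫ i := by
    change pullback.lift pU (hl ≫ pU') c1 ≫ pullback.fst uh uh' ≫ uh = _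
    rw [pullback.lift_fst_assoc]
    exact pullback.condition
  let γ : pullback uh i ⟶ pullback PH i := pullback.lift γ₀ sU c2
  have γq : γ ≫ qP = γ₀ := pullback.lift_fst _ _ _
  have γs : γ ≫ sP = sU := pullback.lift_snd _ _ _
  have γ1 : γ ≫ bp1 = 𝟙 _ := by
    apply pullback.hom_ext
    · rw [Category.assoc, b1f, reassoc_of% γq, Category.id_comp]
      exact pullback.lift_fst _ _ _
    · rw [Category.assoc, b1s, γs, Category.id_comp]
  have γ2 : γ ≫ bp2 = hl := by
    apply pullback.hom_ext
    · rw [Category.assoc, b2f, reassoc_of% γq]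
      exact pullback.lift_snd _ _ _
    · rw [Category.assoc, b2s, γs]
      exact hh.symm
  let A : Over Z := Over.mk sP
  let B : Over Z := Over.mk sU'
  let f' : A ⟶ B := Over.homMk (bp1 ≫ hl) (by
    change (bp1 ≫ hl) ≫ sU' = sP
    rw [Category.assoc, hh, b1s])
  let g' : A ⟶ B := Over.homMk bp2 b2s
  have hB : Etale B.hom := inferInstanceAs (Etale (pullback.snd uh' i))
  have : IsOpenImmersion (pullback.diagonal B.hom) := inferInstance
  have hopen : IsOpenImmersion (equalizer.ι f' g').left :=
    Groth.Agent.S0063.isOpenImmersion_equalizer_ι_left f' g'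
  let e : (equalizer f' g').left ⟶ pullback PH i := (equalizer.ι f' g').left
  have he : e ≫ bp1 ≫ hl = e ≫ bp2 :=
    congrArg (fun k => CommaMorphism.left k) (equalizer.condition f' g')
  let K : Over Z := Over.mk sU
  let γk : K ⟶ A := Over.homMk γ γs
  have hγk : γk ≫ f' = γk ≫ g' := by
    ext1
    change γ ≫ bp1 ≫ hl = γ ≫ bp2
    rw [reassoc_of% γ1, γ2]
  let γ' : pullback uh i ⟶ (equalizer f' g').left := (equalizer.lift γk hγk).left
  have hγ' : γ' ≫ e = γ :=
    congrArg (fun k => CommaMorphism.left k) (equalizer.lift_ι γk hγk)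
  have he1 : e ≫ bp1 ≫ γ = e := by
    apply pullback.hom_ext
    · rw [Category.assoc, Category.assoc, γq]
      apply pullback.hom_ext
      · rw [Category.assoc, Category.assoc]
        change e ≫ bp1 ≫ pullback.lift pU (hl ≫ pU') c1 ≫ pullback.fst uh uh' = _
        rw [pullback.lift_fst, b1f, Category.assoc]
      · rw [Category.assoc, Category.assoc]
        change e ≫ bp1 ≫ pullback.lift pU (hl ≫ pU') c1 ≫ pullback.snd uh uh' = _
        rw [pullback.lift_snd, reassoc_of% he, b2f, Category.assoc]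
    · rw [Category.assoc, Category.assoc, γs, b1s]
  have hq : IsClosedImmersion qP := inferInstance
  obtain ⟨O, hO, hOe⟩ := qP.isClosedEmbedding.isInducing.isOpen_iff.1
    e.isOpenEmbedding.isOpen_range
  let O' : (pullback uh uh').Opens := ⟨O, hO⟩
  let WH := O'.ι ≫ PH
  let m : pullback WH i ⟶ pullback PH i :=
    pullback.lift (pullback.fst WH i ≫ O'.ι) (pullback.snd WH i) (by
      rw [Category.assoc]; exact pullback.condition)
  have mq : m ≫ qP = pullback.fst WH i ≫ O'.ι := pullback.lift_fst _ _ _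
  have ms : m ≫ sP = pullback.snd WH i := pullback.lift_snd _ _ _
  have hpb : IsPullback m (pullback.fst WH i) qP O'.ι := by
    refine IsPullback.of_right ?_ mq (IsPullback.of_hasPullback PH i).flip
    rw [ms]
    exact (IsPullback.of_hasPullback WH i).flip
  have hm_open : IsOpenImmersion m :=
    MorphismProperty.of_isPullback (P := @IsOpenImmersion) hpb.flip
      (inferInstanceAs (IsOpenImmersion O'.ι))
  have hrm : Set.range m.base = Set.range e.base := by
    rw [ClosedStalk.range_fst_of_isPullback hpb, ← hOe]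
    congr 1
    exact Scheme.Opens.range_ι O'
  let κ := IsOpenImmersion.isoOfRangeEq m e hrm
  have hκ : κ.hom ≫ e = m := IsOpenImmersion.isoOfRangeEq_hom_fac m e hrm
  have hκi : κ.inv ≫ m = e := IsOpenImmersion.isoOfRangeEq_inv_fac m e hrm
  refine ⟨O', m ≫ bp1, m ≫ bp2, ?_, ?_, ?_, ?_, ?_, ?_⟩
  · rw [Category.assoc, b1f, reassoc_of% mq]
  · rw [Category.assoc, b1s, ms]
  · rw [Category.assoc, b2f, reassoc_of% mq]
  · rw [Category.assoc, b2s, ms]
  · refine ⟨γ' ≫ κ.inv, ?_, ?_⟩
    · rw [← cancel_mono m]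
      rw [Category.assoc, Category.assoc, Category.assoc, hκi, hγ', Category.id_comp, ← hκ,
        Category.assoc, he1]
    · rw [Category.assoc, reassoc_of% hκi, reassoc_of% hγ', γ1]
  · rw [← hκ, Category.assoc, Category.assoc, Category.assoc, he]


/-- Let i : Z -> X be a closed immersion, U and U' schemes etale over X, and h a Z-morphism from U x_X Z
to U' x_X Z. Then there are an etale X-scheme W and X-morphisms a : W -> U, b : W -> U' such that
the base change of a to Z is an isomorphism and h is the base change of b composed with the inverse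
of the base change of a. -/
theorem result {Z X : Scheme.{u}} (i : Z ⟶ X) [IsClosedImmersion i] (U U' : X.Etale)
    (h : (EtCoh.bc i).obj U ⟶ (EtCoh.bc i).obj U') :
    ∃ (W : X.Etale) (a : W ⟶ U) (b : W ⟶ U'), IsIso ((EtCoh.bc i).map a) ∧ (EtCoh.bc i).map a ≫ h = (EtCoh.bc i).map b := by
  have : Etale U.hom := U.prop
  have : Etale U'.hom := U'.prop
  obtain ⟨O, α, β, hα1, hα2, hβ1, hβ2, hiso, hαβ⟩ :=
    core i U.hom U'.hom h.left (MorphismProperty.Over.w h)
  let W : X.Etale := Scheme.Etale.mk (O.ι ≫ pullback.fst U.hom U'.hom ≫ U.hom)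
  let a : W ⟶ U := MorphismProperty.Over.homMk (O.ι ≫ pullback.fst U.hom U'.hom)
    (Category.assoc _ _ _)
  let b : W ⟶ U' := MorphismProperty.Over.homMk (O.ι ≫ pullback.snd U.hom U'.hom)
    ((Category.assoc _ _ _).trans (congrArg (O.ι ≫ ·) pullback.condition.symm))
  have ha : ((EtCoh.bc i).map a).left = α := by
    apply pullback.hom_ext
    · exact (ExtZeroBC.bc_map_fst i a).trans hα1.symm
    · exact (ExtZeroBC.bc_map_snd i a).trans hα2.symm
  have hb : ((EtCoh.bc i).map b).left = β := by
    apply pullback.hom_ext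
    · exact (ExtZeroBC.bc_map_fst i b).trans hβ1.symm
    · exact (ExtZeroBC.bc_map_snd i b).trans hβ2.symm
  refine ⟨W, a, b, ?_, ?_⟩
  · have h2 : IsIso ((Over.forget Z).map
        ((MorphismProperty.Over.forget @Etale ⊤ Z).map ((EtCoh.bc i).map a))) := by
      change IsIso ((EtCoh.bc i).map a).left
      rw [ha]
      exact hiso
    have h3 : IsIso ((MorphismProperty.Over.forget @Etale ⊤ Z).map ((EtCoh.bc i).map a)) :=
      (isIso_iff_of_reflects_iso _ (Over.forget Z)).1 h2
    exact (isIso_iff_of_reflects_iso _ (MorphismProperty.Over.forget @Etale ⊤ Z)).1 h3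
  · apply MorphismProperty.Over.Hom.ext
    change ((EtCoh.bc i).map a).left ≫ h.left = ((EtCoh.bc i).map b).left
    rw [ha, hb]
    exact hαβ


end Groth.Agent.S0660
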