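import Groth.Statements.S0695
import Groth.Agent.Lib.Helper82.WLocUniv

set_option autoImplicit false
open CategoryTheory CategoryTheory.Limits AlgebraicGeometry Opposite Topology
universe u
open ProEtW

namespace Groth.Agent.S0695

/-- For every ring A there is a faithfully flat ind-Zariski A-algebra A_w with w-local spectrum such
that for every A-algebra B whose spectrum is w-local there is exactly one A-algebra map A_w -> B for
which Spec B -> Spec A_w is w-local. -/
theorem result (A : Type u) [CommRing A] :
    ∃ (Aw : Type u) (_ : CommRing Aw) (_ : Algebra A Aw),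
      Module.FaithfullyFlat A Aw ∧ EtPBC.IsIndZariski A Aw ∧ ProEtW.IsWLocal (PrimeSpectrum Aw) ∧
      ∀ (B : Type u) [CommRing B] [Algebra A B], ProEtW.IsWLocal (PrimeSpectrum B) →
        ∃! φ : Aw →ₐ[A] B, ProEtW.IsWLocalMap (PrimeSpectrum.comap φ.toRingHom) := by
  exact ⟨Groth.Agent.Lib.Helper82.WLoc.Aw A, inferInstance, inferInstance,
    Groth.Agent.Lib.Helper82.WLoc.faithfullyFlat_Aw,
    Groth.Agent.Lib.Helper82.WLoc.isIndZariski_Aw,
    Groth.Agent.Lib.Helper82.WLoc.isWLocal_Aw,
    fun B _ _ hB => Groth.Agent.Lib.Helper82.WLoc.existsUnique_wLocal_hom hB⟩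

end Groth.Agent.S0695
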