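import Groth.Statements.S0701
import Mathlib

set_option autoImplicit false
open CategoryTheory CategoryTheory.Limits AlgebraicGeometry Opposite Topology
universe u
open ProEtW

namespace Groth.Agent.S0701

theorem exists_mul_pow_eq_zero {B : Type u} [CommRing B]
    (h : ∀ q q' : PrimeSpectrum B, q ≤ q' → q = q') (p : PrimeSpectrum B) (f : B)
    (hf : f ∈ p.asIdeal) : ∃ s : B, s ∉ p.asIdeal ∧ ∃ n : ℕ, s * f ^ n = 0 := by
  have h0 : (0 : B) ∈ p.asIdeal.primeCompl ⊔ Submonoid.powers f := by
    by_contra h0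
    have hd : Disjoint ((⊥ : Ideal B) : Set B)
        ((p.asIdeal.primeCompl ⊔ Submonoid.powers f : Submonoid B) : Set B) := by
      rw [Set.disjoint_left]
      intro x hx hxS
      have : x = 0 := hx
      rw [this] at hxS
      exact h0 hxS
    obtain ⟨P, hP, -, hPd⟩ := Ideal.exists_le_prime_disjoint (⊥ : Ideal B) _ hd
    have hle : (⟨P, hP⟩ : PrimeSpectrum B) ≤ p := by
      intro x hx
      by_contra hxp
      have hxS : x ∈ p.asIdeal.primeCompl ⊔ Submonoid.powers f :=
        Submonoid.mem_sup_left hxp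
      exact Set.disjoint_left.mp hPd hx hxS
    have heq := h _ _ hle
    have hfP : f ∈ P := by
      have : f ∈ (⟨P, hP⟩ : PrimeSpectrum B).asIdeal := by rw [heq]; exact hf
      exact this
    exact Set.disjoint_left.mp hPd hfP (Submonoid.mem_sup_right (Submonoid.mem_powers f))
  obtain ⟨s, hs, _, ⟨n, rfl⟩, hsn⟩ := Submonoid.mem_sup.mp h0
  exact ⟨s, hs, n, hsn⟩

theorem isProfinite_of_no_specialization {B : Type u} [CommRing B]
    (h : ∀ q q' : PrimeSpectrum B, q ≤ q' → q = q') : ProEtW.IsProfinite (PrimeSpectrum B) := by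
  have hT2 : T2Space (PrimeSpectrum B) := by
    refine ⟨fun p q hpq => ?_⟩
    have hnle : ¬ p ≤ q := fun hle => hpq (h p q hle)
    obtain ⟨f, hfp, hfq⟩ := Set.not_subset.mp hnle
    obtain ⟨s, hs, n, hsn⟩ := exists_mul_pow_eq_zero h p f hfp
    refine ⟨PrimeSpectrum.basicOpen s, PrimeSpectrum.basicOpen f,
      (PrimeSpectrum.basicOpen s).isOpen, (PrimeSpectrum.basicOpen f).isOpen, hs, hfq, ?_⟩
    rw [Set.disjoint_left]
    intro x hxs hxf
    have h0 : s * f ^ n ∈ x.asIdeal := by rw [hsn]; exact x.asIdeal.zero_mem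
    rcases x.2.mem_or_mem h0 with h1 | h1
    · exact hxs h1
    · exact hxf (x.2.mem_of_pow_mem n h1)
  have hTS : TotallySeparatedSpace (PrimeSpectrum B) := by
    rw [totallySeparatedSpace_iff_exists_isClopen]
    intro x y hxy
    have hnle : ¬ y ≤ x := fun hle => hxy (h y x hle).symm
    obtain ⟨f, hfy, hfx⟩ := Set.not_subset.mp hnle
    refine ⟨PrimeSpectrum.basicOpen f, ⟨?_, (PrimeSpectrum.basicOpen f).isOpen⟩, hfx,
      fun hy => hy hfy⟩
    exact (PrimeSpectrum.isCompact_basicOpen f).isClosed
  exact ⟨inferInstance, hT2, inferInstance⟩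


/-- Let Spec A be profinite (quasi-compact, Hausdorff, totally disconnected) and A -> B a ring map such
that two distinct primes of B over the same prime of A are never comparable. Then Spec B is
profinite. -/
theorem result (A B : Type u) [CommRing A] [CommRing B]
    [Algebra A B] [T2Space (PrimeSpectrum A)] [TotallyDisconnectedSpace (PrimeSpectrum A)]
    (h : ∀ q q' : PrimeSpectrum B, q.asIdeal.comap (algebraMap A B) = q'.asIdeal.comap (algebraMap A B) →
      q.asIdeal ≤ q'.asIdeal → q = q') :
    ProEtW.IsProfinite (PrimeSpectrum B) := by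
  apply isProfinite_of_no_specialization
  intro q q' hle
  apply h q q' ?_ hle
  have hspec : PrimeSpectrum.comap (algebraMap A B) q ⤳ PrimeSpectrum.comap (algebraMap A B) q' :=
    ((PrimeSpectrum.le_iff_specializes q q').mp hle).map (PrimeSpectrum.continuous_comap (algebraMap A B))
  have := hspec.eq
  exact congrArg PrimeSpectrum.asIdeal this

end Groth.Agent.S0701
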