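import Groth.Statements.S0702
import Mathlib
import Groth.Agent.S0701

set_option autoImplicit false
open CategoryTheory CategoryTheory.Limits AlgebraicGeometry Opposite Topology
universe u
open ProEtW

namespace Groth.Agent.S0702

/-- Let Spec A be profinite and A -> B induce algebraic extensions of residue fields at all primes. Then
Spec B is profinite. -/
theorem result (A B : Type u) [CommRing A] [CommRing B]
    [Algebra A B] [T2Space (PrimeSpectrum A)] [TotallyDisconnectedSpace (PrimeSpectrum A)]
    (h : ProEtW.AlgebraicResidueExtensions A B) :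
    ProEtW.IsProfinite (PrimeSpectrum B) := by
  apply Groth.Agent.S0701.isProfinite_of_no_specialization
  intro q q' hle
  have hclosed : IsClosed ({PrimeSpectrum.comap (algebraMap A B) q} : Set (PrimeSpectrum A)) :=
    isClosed_singleton
  rw [PrimeSpectrum.isClosed_singleton_iff_isMaximal] at hclosed
  have hmax : (q.asIdeal.comap (algebraMap A B)).IsMaximal := hclosed
  have halg := h q.asIdeal
  have hF : IsField (A ⧸ q.asIdeal.comap (algebraMap A B)) :=
    (Ideal.Quotient.maximal_ideal_iff_isField_quotient _).mp hmax
  let _ := Ideal.Quotient.field (q.asIdeal.comap (algebraMap A B))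
  have hint : Algebra.IsIntegral (A ⧸ q.asIdeal.comap (algebraMap A B)) (B ⧸ q.asIdeal) :=
    Algebra.IsAlgebraic.isIntegral
  have hFB : IsField (B ⧸ q.asIdeal) := isField_of_isIntegral_of_isField' hF
  have hqmax : q.asIdeal.IsMaximal := Ideal.Quotient.maximal_of_isField _ hFB
  exact PrimeSpectrum.ext (hqmax.eq_of_le q'.2.ne_top hle)

end Groth.Agent.S0702
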