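import Groth.Statements.S0706
import Mathlib

set_option autoImplicit false
open CategoryTheory CategoryTheory.Limits AlgebraicGeometry Opposite Topology
universe u
open ProEtW

namespace Groth.Agent.S0706

/-- the multiplicative set of the elements `f ^ n + a` with `a ∈ I` -/
def mset {A : Type u} [CommRing A] (f : A) (I : Ideal A) : Submonoid A where
  carrier := {s | ∃ n : ℕ, ∃ a ∈ I, s = f ^ n + a}
  one_mem' := ⟨0, 0, I.zero_mem, by simp⟩
  mul_mem' := by
    rintro _ _ ⟨n, a, ha, rfl⟩ ⟨m, b, hb, rfl⟩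
    refine ⟨n + m, a * f ^ m + f ^ n * b + a * b, ?_, by ring⟩
    exact I.add_mem (I.add_mem (I.mul_mem_right _ ha) (I.mul_mem_left _ hb)) (I.mul_mem_left _ hb)


/-- Let f be an element and I an ideal of A, and Z the intersection of D(f) and V(I) in Spec A. There is
a multiplicative subset S of A for which the image of Spec(S^{-1}A) in Spec A consists precisely of
the points having a specialization in Z. -/
theorem result (A : Type u) [CommRing A] (f : A) (I : Ideal A) :
    ∃ S : Submonoid A,
      Set.range (PrimeSpectrum.comap (algebraMap A (Localization S))) =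
        {x | ∃ z : PrimeSpectrum A,
          z ∈ (PrimeSpectrum.basicOpen f : Set (PrimeSpectrum A)) ∩ PrimeSpectrum.zeroLocus I ∧ x ⤳ z} := by
  refine ⟨mset f I, ?_⟩
  rw [PrimeSpectrum.localization_comap_range (Localization (mset f I)) (mset f I)]
  ext x
  simp only [Set.mem_setOf_eq, Set.mem_inter_iff, SetLike.mem_coe, PrimeSpectrum.mem_basicOpen,
    PrimeSpectrum.mem_zeroLocus]
  constructor
  · intro hdis
    have hd : Disjoint ((x.asIdeal ⊔ I : Ideal A) : Set A) (Submonoid.powers f) := by
      rw [Set.disjoint_left]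
      rintro y hy ⟨n, rfl⟩
      obtain ⟨p, hp, a, ha, hpa⟩ := Submodule.mem_sup.mp hy
      have hmem : f ^ n + (-a) ∈ (mset f I : Set A) := ⟨n, -a, I.neg_mem ha, rfl⟩
      have hpx : f ^ n + (-a) ∈ (x.asIdeal : Set A) := by
        have hpa' : p + a = f ^ n := hpa
        have : f ^ n + (-a) = p := by rw [← hpa']; ring
        rw [this]
        exact hp
      exact Set.disjoint_left.mp hdis hmem hpx
    obtain ⟨q, hq, hle, hqd⟩ := Ideal.exists_le_prime_disjoint _ _ hd
    refine ⟨⟨q, hq⟩, ⟨?_, ?_⟩, ?_⟩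
    · intro hf
      exact Set.disjoint_left.mp hqd hf ⟨1, pow_one f⟩
    · exact fun a ha => hle (Ideal.mem_sup_right ha)
    · rw [← PrimeSpectrum.le_iff_specializes]
      exact fun a ha => hle (Ideal.mem_sup_left ha)
  · rintro ⟨z, ⟨hfz, hIz⟩, hxz⟩
    rw [← PrimeSpectrum.le_iff_specializes] at hxz
    rw [Set.disjoint_left]
    rintro _ ⟨n, a, ha, rfl⟩ hx
    have h1 : f ^ n + a ∈ z.asIdeal := hxz hx
    have h2 : a ∈ z.asIdeal := hIz ha
    have h3 : f ^ n ∈ z.asIdeal := by
      have := z.asIdeal.sub_mem h1 h2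
      simpa using this
    exact hfz (z.2.mem_of_pow_mem n h3)

end Groth.Agent.S0706
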