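import Groth.Statements.S0707
import Mathlib
import Groth.Agent.Lib.Helper93.WEtale

set_option autoImplicit false
open CategoryTheory CategoryTheory.Limits AlgebraicGeometry Opposite Topology
universe u
open ProEtW

namespace Groth.Agent.S0707

/-- Let A be w-contractible, E a finite set of elements of A with zero set Z in Spec A, and B a
localization of A at a multiplicative subset S such that the image of Spec B → Spec A is precisely
the set of points of Spec A specializing to some point of Z. Then B is w-contractible. -/
theorem result (A B : Type u) [CommRing A] [CommRing B]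
    [Algebra A B] (S : Submonoid A) [IsLocalization S B] (E : Finset A)
    (hB : Set.range (PrimeSpectrum.comap (algebraMap A B)) =
      {x | ∃ z : PrimeSpectrum A, z ∈ PrimeSpectrum.zeroLocus (R := A) E ∧ x ⤳ z})
    (hA : EtPBC.IsWContractible A) : EtPBC.IsWContractible B := by
  intro C _ _ hff hwe
  -- every element of `E` lies in the Jacobson radical of `B`
  have hJ : ∀ e ∈ E, algebraMap A B e ∈ Ideal.jacobson (⊥ : Ideal B) := by
    intro e he
    rw [Ideal.jacobson, Ideal.mem_sInf]
    rintro m ⟨-, hm⟩
    have hmp : m.IsPrime := hm.isPrime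
    have hx : PrimeSpectrum.comap (algebraMap A B) ⟨m, hmp⟩ ∈
        Set.range (PrimeSpectrum.comap (algebraMap A B)) := ⟨_, rfl⟩
    rw [hB] at hx
    obtain ⟨z, hz, hxz⟩ := hx
    have hz' : z ∈ Set.range (PrimeSpectrum.comap (algebraMap A B)) := by
      rw [hB]
      exact ⟨z, hz, specializes_rfl⟩
    obtain ⟨q, rfl⟩ := hz'
    rw [← PrimeSpectrum.le_iff_specializes, ← PrimeSpectrum.asIdeal_le_asIdeal] at hxz
    have hle : m ≤ q.asIdeal := by
      have := Ideal.map_mono (f := algebraMap A B) hxz
      simpa [IsLocalization.map_under S B] using this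
    have hmq : m = q.asIdeal := hm.eq_of_le q.isPrime.ne_top hle
    have : e ∈ (PrimeSpectrum.comap (algebraMap A B) q).asIdeal := by
      rw [PrimeSpectrum.mem_zeroLocus] at hz
      exact hz he
    rw [hmq]
    simpa using this
  letI algAC : Algebra A C := ((algebraMap B C).comp (algebraMap A B)).toAlgebra
  haveI : IsScalarTower A B C := IsScalarTower.of_algebraMap_eq' rfl
  haveI : Algebra.WeaklyEtale A B := Groth.Agent.Lib.Helper93.WEtale.weaklyEtale_of_isLocalization S
  haveI : Algebra.WeaklyEtale A C := Algebra.WeaklyEtale.trans A B C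
  have hcov : ∀ p : PrimeSpectrum A, p ∈ Set.range (PrimeSpectrum.comap (algebraMap A C)) ∨
      ∃ e ∈ E, e ∉ p.asIdeal := by
    intro p
    by_cases hp : p ∈ PrimeSpectrum.zeroLocus (R := A) E
    · left
      have : p ∈ Set.range (PrimeSpectrum.comap (algebraMap A B)) := by
        rw [hB]; exact ⟨p, hp, specializes_rfl⟩
      obtain ⟨q, rfl⟩ := this
      obtain ⟨q', rfl⟩ := PrimeSpectrum.comap_surjective_of_faithfullyFlat (A := B) (B := C) q
      refine ⟨q', ?_⟩
      ext x
      simp [IsScalarTower.algebraMap_apply A B C]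
    · right
      rw [PrimeSpectrum.mem_zeroLocus, Set.not_subset] at hp
      obtain ⟨e, he, hep⟩ := hp
      exact ⟨e, he, hep⟩
  obtain ⟨ψ⟩ := Groth.Agent.Lib.Helper93.WEtale.exists_algHom_of_cover (B := B) hA E hJ C hcov
  have hψ : (ψ : C →+* B).comp (algebraMap B C) = RingHom.id B := by
    apply IsLocalization.ringHom_ext S
    ext a
    simp [← IsScalarTower.algebraMap_apply A B C]
  exact ⟨{ (ψ : C →+* B) with commutes' := fun b => congrArg (fun f => f b) hψ }⟩

end Groth.Agent.S0707
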