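import Groth.Statements.S0708
import Mathlib
import Groth.Agent.Lib.Helper93.WEtale
import Groth.Agent.Lib.Helper93.EtDescent

set_option autoImplicit false
open CategoryTheory CategoryTheory.Limits AlgebraicGeometry Opposite Topology
universe u
open ProEtW
open Groth.Agent.Lib.Helper93 TensorProduct

namespace Groth.Agent.S0708

/-- Let A be a ring all of whose faithfully flat etale algebras have retractions, I an ideal with zero
set Z, and B a localization of A at a multiplicative subset such that the image of Spec B → Spec A
is precisely the set of points of Spec A specializing to some point of Z. Then every faithfully flat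
etale B-algebra has a retraction. -/
theorem result (A B : Type u) [CommRing A] [CommRing B]
    [Algebra A B] (S : Submonoid A) [IsLocalization S B] (I : Ideal A)
    (hB : Set.range (PrimeSpectrum.comap (algebraMap A B)) =
      {x | ∃ z : PrimeSpectrum A, z ∈ PrimeSpectrum.zeroLocus (R := A) I ∧ x ⤳ z})
    (hA : ProEtW.HasEtaleRetractions A) : ProEtW.HasEtaleRetractions B := by
  intro C _ _ hff het
  have hJ : ∀ a ∈ (I : Set A), algebraMap A B a ∈ Ideal.jacobson (⊥ : Ideal B) :=
    WEtale.algebraMap_mem_jacobson_of_range_eq S (I : Set A) hB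
  letI algAC : Algebra A C := ((algebraMap B C).comp (algebraMap A B)).toAlgebra
  haveI : IsScalarTower A B C := IsScalarTower.of_algebraMap_eq' rfl
  haveI : Algebra.FinitePresentation B C := het.finitePresentation
  obtain ⟨C₀, _, _, hfp, ⟨e⟩⟩ := EtDescent.exists_model_of_isLocalization (A := A) (B := B) S C
  let e' : C₀ ⊗[A] B ≃ₐ[A] C :=
    (Algebra.TensorProduct.comm A C₀ B).trans (e.restrictScalars A)
  haveI : Algebra.FormallyEtale A B := .of_isLocalization S
  haveI : Algebra.FormallyEtale A C := .comp A B C
  haveI : Algebra.FormallyEtale A (C₀ ⊗[A] B) := .of_equiv e'.symm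
  obtain ⟨s, hs, hEt⟩ := EtDescent.exists_etale_away (B := B) S C₀
  set t := algebraMap A C₀ s with ht
  let g : C₀ →ₐ[A] C := e'.toAlgHom.comp Algebra.TensorProduct.includeLeft
  have hg : ∀ y : Submonoid.powers t, IsUnit (g y) := by
    rintro ⟨_, n, rfl⟩
    simp only [map_pow]
    apply IsUnit.pow
    rw [ht, AlgHom.commutes, IsScalarTower.algebraMap_apply A B C]
    exact (IsLocalization.map_units B ⟨s, hs⟩).map _
  let γ : Localization.Away t →ₐ[A] C := IsLocalization.liftAlgHom hg
  have himg : ∀ q : PrimeSpectrum B, PrimeSpectrum.comap (algebraMap A B) q ∈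
      Set.range (PrimeSpectrum.comap (algebraMap A (Localization.Away t))) := by
    intro q
    obtain ⟨q', rfl⟩ := PrimeSpectrum.comap_surjective_of_faithfullyFlat (A := B) (B := C) q
    refine ⟨PrimeSpectrum.comap γ.toRingHom q', ?_⟩
    ext x
    simp [IsScalarTower.algebraMap_apply A B C]
  have hopenmap : IsOpenMap (PrimeSpectrum.comap (algebraMap A (Localization.Away t))) :=
    PrimeSpectrum.isOpenMap_comap_of_hasGoingDown_of_finitePresentation
  set U' := Set.range (PrimeSpectrum.comap (algebraMap A (Localization.Away t))) with hU'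
  have hU'open : IsOpen U' := hopenmap.isOpen_range
  set J := PrimeSpectrum.vanishingIdeal U'ᶜ with hJdef
  have hJ' : PrimeSpectrum.zeroLocus (J : Set A) = U'ᶜ := by
    rw [hJdef, PrimeSpectrum.zeroLocus_vanishingIdeal_eq_closure, hU'open.isClosed_compl.closure_eq]
  have hZ : PrimeSpectrum.zeroLocus (I : Set A) ⊆ U' := by
    intro z hz
    have : z ∈ Set.range (PrimeSpectrum.comap (algebraMap A B)) := by
      rw [hB]; exact ⟨z, hz, specializes_rfl⟩
    obtain ⟨q, rfl⟩ := this
    exact himg q
  have hIJ : I ⊔ J = ⊤ := by
    rw [← PrimeSpectrum.zeroLocus_empty_iff_eq_top, PrimeSpectrum.zeroLocus_sup, hJ']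
    ext z
    simp only [Set.mem_inter_iff, Set.mem_compl_iff, Set.mem_empty_iff_false, iff_false, not_and,
      not_not]
    exact fun hz => hZ hz
  obtain ⟨f, hf, g', hg', hfg⟩ := Submodule.mem_sup.mp ((Ideal.eq_top_iff_one _).mp hIJ)
  haveI : Algebra.Etale A (Localization.Away t × Localization.Away f) := EtDescent.etale_prod
  have hsurj : Function.Surjective
      (PrimeSpectrum.comap (algebraMap A (Localization.Away t × Localization.Away f))) := by
    intro p
    by_cases hfp : f ∈ p.asIdeal
    · have hgp : g' ∉ p.asIdeal := fun h =>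
        p.isPrime.ne_top ((Ideal.eq_top_iff_one _).mpr (hfg ▸ add_mem hfp h))
      have : p ∈ U' := by
        by_contra hp
        have : p ∈ PrimeSpectrum.zeroLocus (J : Set A) := by rw [hJ']; exact hp
        exact hgp (this hg')
      exact WEtale.range_comap_prod_left _ _ p this
    · refine WEtale.range_comap_prod_right _ _ p ?_
      rw [PrimeSpectrum.localization_away_comap_range (Localization.Away f) f]
      exact hfp
  have hff' : Module.FaithfullyFlat A (Localization.Away t × Localization.Away f) :=
    Module.FaithfullyFlat.of_comap_surjective hsurj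
  obtain ⟨ρ⟩ := hA (Localization.Away t × Localization.Away f) hff' inferInstance
  obtain ⟨ψ⟩ := WEtale.algHom_of_prod_away (B := B) (Localization.Away t) f (hJ f hf)
    ((Algebra.ofId A B).comp ρ)
  let ψ₀ : C₀ →ₐ[A] B := ψ.comp (IsScalarTower.toAlgHom A C₀ (Localization.Away t))
  let Φ : B ⊗[A] C₀ →ₐ[B] B :=
    Algebra.TensorProduct.lift (AlgHom.id B B) ψ₀ (fun _ _ => Commute.all _ _)
  exact ⟨Φ.comp e.symm.toAlgHom⟩

end Groth.Agent.S0708
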