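import Groth.Statements.S0728
import Groth.Agent.Lib.Helper4.Excision

set_option autoImplicit false
open CategoryTheory CategoryTheory.Limits AlgebraicGeometry Opposite
universe u
open EtShriek

namespace Groth.Agent.S0728
open Groth.Agent.Lib.Helper4 Groth.Agent.Lib.Helper4.Excision

theorem isSheaf_forget {X : Scheme.{u}} (F : EtCoh.Ab X) :
    Presieve.IsSheaf X.smallEtaleTopology (F.obj ⋙ forget AddCommGrpCat.{u + 1}) := by
  rw [← isSheaf_iff_isSheaf_of_type]
  exact (Presheaf.isSheaf_iff_isSheaf_forget _ _ _).1 F.cond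

theorem sectSupp_subset_iff {X : Scheme.{u}} (F : EtCoh.Ab X) (U : X.Etale) (Z : Set ↥U.left)
    (hZ : IsClosed Z) (s : EtCoh.sect F U) :
    EtShriek.sectSupp F U s ⊆ Z ↔ F.obj.map (openι U ⟨Zᶜ, hZ.isOpen_compl⟩).op s = 0 := by
  let V : U.left.Opens := ⟨Zᶜ, hZ.isOpen_compl⟩
  constructor
  · intro h
    have hx : ∀ x : V, ∃ (W : X.Etale) (g : W ⟶ U), (∃ w : W.left, g.left.base w = x.1) ∧
        F.obj.map g.op s = 0 := by
      intro x
      have : x.1 ∉ EtShriek.sectSupp F U s := fun hmem => x.2 (h hmem)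
      simp only [EtShriek.sectSupp, Set.mem_setOf_eq, not_forall, not_not] at this
      obtain ⟨W, g, hw, hs⟩ := this
      exact ⟨W, g, hw, hs⟩
    choose Wx gx hwx hsx using hx
    have hr : ∀ x : V, Set.range (openι (Wx x) ((gx x).left ⁻¹ᵁ V) ≫ gx x).left ⊆
        Set.range (openι U V).left := by
      rintro x _ ⟨z, rfl⟩
      refine ⟨⟨(gx x).left z.1, z.2⟩, rfl⟩
    choose kx hkx using fun x => exists_lift _ (openι U V) (hr x)
    refine eq_of_forall_map_eq (isSheaf_forget F) (openObj U V)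
      (fun x : V => openObj (Wx x) ((gx x).left ⁻¹ᵁ V)) kx ?_ _ _ ?_
    · intro x'
      obtain ⟨w, hw⟩ := hwx x'
      have hwV : w ∈ (gx x').left ⁻¹ᵁ V := by
        change (gx x').left.base w ∈ V
        rw [hw]
        exact x'.2
      refine ⟨x', ⟨⟨w, hwV⟩, ?_⟩⟩
      have hinj : Function.Injective (Scheme.Opens.ι V) := (Scheme.Opens.ι V).isOpenEmbedding.injective
      apply hinj
      have h1 := congrArg (fun k => k.left ⟨w, hwV⟩) (hkx x')
      refine Eq.trans h1 ?_
      exact hw
    · intro x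
      change F.obj.map (kx x).op (F.obj.map (openι U V).op s) = F.obj.map (kx x).op 0
      rw [← ConcreteCategory.comp_apply, ← Functor.map_comp, ← op_comp, hkx x, op_comp,
        Functor.map_comp, ConcreteCategory.comp_apply, hsx x, map_zero, map_zero]
  · intro h x hx
    by_contra hxZ
    exact hx (openObj U V) (openι U V) ⟨⟨x, hxZ⟩, rfl⟩ h


/-- In the case where the inverse image of Z is Z' (so that the bijection is restriction): let phi : U'
-> U be a morphism of the small etale site of X and Z a closed subset of U such that phi restricted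
to the inverse image Z' of Z is a bijection onto Z inducing isomorphisms of residue fields (so Z' ->
U is a closed immersion with image Z, for the reduced structures). Then restriction along phi is a
bijection from the sections of F over U supported in Z to the sections of F over U' supported in Z'. -/
theorem result {X : Scheme.{u}} (F : EtCoh.Ab X) {U U' : X.Etale}
    (φ : U' ⟶ U) (Z : Set ↥U.left) (hZ : IsClosed Z)
    (hbij : Set.BijOn φ.left.base (φ.left.base ⁻¹' Z) Z)
    (hres : ∀ x ∈ φ.left.base ⁻¹' Z, Function.Bijective (φ.left.residueFieldMap x)) :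
    Set.BijOn (F.obj.map φ.op) {s | EtShriek.sectSupp F U s ⊆ Z}
      {s' | EtShriek.sectSupp F U' s' ⊆ φ.left.base ⁻¹' Z} := by
  have hZ' : IsClosed (φ.left.base ⁻¹' Z) := hZ.preimage φ.left.continuous
  let V : U.left.Opens := ⟨Zᶜ, hZ.isOpen_compl⟩
  let V' : U'.left.Opens := ⟨(φ.left.base ⁻¹' Z)ᶜ, hZ'.isOpen_compl⟩
  have hrV : Set.range (openι U V).left = Zᶜ := Scheme.Opens.range_ι V
  have hrV' : Set.range (openι U' V').left = (φ.left.base ⁻¹' Z)ᶜ := Scheme.Opens.range_ι V'
  have hr : Set.range (openι U' V' ≫ φ).left ⊆ Set.range (openι U V).left := by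
    rintro _ ⟨z, rfl⟩
    rw [hrV]
    exact z.2
  obtain ⟨ψ, hψ⟩ := exists_lift (openι U' V' ≫ φ) (openι U V) hr
  have hP := isSheaf_forget F
  have hV' : φ.left ⁻¹' Set.range (openι U V).left ⊆ Set.range (openι U' V').left := by
    rw [hrV, hrV']
    intro x hx
    exact hx
  have hinj : Set.InjOn φ.left (Set.range (openι U' V').left)ᶜ := by
    rw [hrV', compl_compl]
    exact hbij.injOn
  have hsurj : (Set.range (openι U V).left)ᶜ ⊆ Set.range φ.left := by
    rw [hrV, compl_compl]
    intro x hx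
    obtain ⟨y, -, hy⟩ := hbij.surjOn hx
    exact ⟨y, hy⟩
  have hκ : ∀ a ∉ Set.range (openι U' V').left,
      Function.Surjective (φ.left.residueFieldMap a) := by
    intro a ha
    rw [hrV', Set.notMem_compl_iff] at ha
    exact (hres a ha).2
  have key := fun (s' : EtCoh.sect F U') (hs' : F.obj.map (openι U' V').op s' = 0) =>
    existsUnique_glue (P := F.obj ⋙ forget AddCommGrpCat.{u + 1}) hP φ (openι U V)
      (openι U' V') ψ hψ.symm hV' (0 : EtCoh.sect F (openObj U V)) s'
      (by
        change F.obj.map ψ.op 0 = F.obj.map (openι U' V').op s'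
        rw [hs', map_zero]) hinj hsurj hκ
  have hmaps : ∀ s : EtCoh.sect F U, F.obj.map (openι U V).op s = 0 →
      F.obj.map (openι U' V').op (F.obj.map φ.op s) = 0 := by
    intro s hs
    rw [← ConcreteCategory.comp_apply, ← Functor.map_comp, ← op_comp, ← hψ, op_comp,
      Functor.map_comp, ConcreteCategory.comp_apply, hs, map_zero]
  refine ⟨?_, ?_, ?_⟩
  · intro s hs
    rw [Set.mem_setOf_eq, sectSupp_subset_iff F U Z hZ] at hs
    rw [Set.mem_setOf_eq, sectSupp_subset_iff F U' _ hZ']
    exact hmaps s hs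
  · intro s₁ hs₁ s₂ hs₂ h12
    rw [Set.mem_setOf_eq, sectSupp_subset_iff F U Z hZ] at hs₁ hs₂
    obtain ⟨s, -, huniq⟩ := key (F.obj.map φ.op s₁) (hmaps s₁ hs₁)
    rw [huniq s₁ ⟨hs₁, rfl⟩, huniq s₂ ⟨hs₂, h12.symm⟩]
  · intro s' hs'
    rw [Set.mem_setOf_eq, sectSupp_subset_iff F U' _ hZ'] at hs'
    obtain ⟨s, ⟨h1, h2⟩, -⟩ := key s' hs'
    refine ⟨s, ?_, h2⟩
    rw [Set.mem_setOf_eq, sectSupp_subset_iff F U Z hZ]
    exact h1

end Groth.Agent.S0728
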