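import Groth.Statements.S0743
-- import your own Groth.Agent.* helpers here

set_option autoImplicit false
open CategoryTheory CategoryTheory.Limits AlgebraicGeometry Opposite
universe u
open ProEtS

namespace Groth.Agent.S0743

set_option backward.isDefEq.respectTransparency.types false in
noncomputable def eFG {U X : Scheme.{u}} (j : U ⟶ X) [Etale j] :
    EtShriek.compEtale j ⋙ ProEtS.eps X ≅ ProEtS.eps U ⋙ ProEtS.compP j :=
  NatIso.ofComponents (fun V => Iso.refl _) (by intros; rfl)

set_option backward.isDefEq.respectTransparency.types false in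
/-- For an etale morphism j : U -> X and an abelian sheaf G on U_et, eps^{-1} (j_! G) and j_! (eps^{-1}
G) are isomorphic as abelian sheaves on X_proet (existence of an isomorphism; continuity binders
assumed). -/
theorem result {U X : Scheme.{u}} (j : U ⟶ X) [Etale j] [EtShriek.JCont j]
    [ProEtS.JPCont j] [ProEtS.EpsCont U] [ProEtS.EpsCont X] (G : EtCoh.Ab U) :
    Nonempty ((ProEtS.epsPull X).obj ((EtShriek.extZero j).obj G) ≅
      (ProEtS.extZeroP j).obj ((ProEtS.epsPull U).obj G)) := by
  haveI : (EtShriek.compEtale j ⋙ ProEtS.eps X).IsContinuous U.smallEtaleTopology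
      (Scheme.ProEt.topology X) :=
    Functor.isContinuous_comp _ _ _ X.smallEtaleTopology _
  haveI : (ProEtS.eps U ⋙ ProEtS.compP j).IsContinuous U.smallEtaleTopology
      (Scheme.ProEt.topology X) :=
    Functor.isContinuous_comp _ _ _ (Scheme.ProEt.topology U) _
  let r : ProEtS.epsPush X ⋙ EtShriek.restrAlong j ≅ ProEtS.restrP j ⋙ ProEtS.epsPush U :=
    Functor.sheafPushforwardContinuousComp' (eFG j) AddCommGrpCat.{u + 1} U.smallEtaleTopology
      X.smallEtaleTopology (Scheme.ProEt.topology X) ≪≫
    (Functor.sheafPushforwardContinuousComp _ _ AddCommGrpCat.{u + 1} U.smallEtaleTopology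
      (Scheme.ProEt.topology U) (Scheme.ProEt.topology X)).symm
  let adj1 := (EtShriek.extZeroAdj j).comp (ProEtS.epsAdj X)
  let adj2 := (ProEtS.epsAdj U).comp (ProEtS.extZeroPAdj j)
  exact ⟨(Adjunction.natIsoOfRightAdjointNatIso adj1 adj2 r).app G⟩

end Groth.Agent.S0743
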