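import Groth.Statements.S0754
import Groth.Agent.S12237
import Groth.Agent.S0736
import Groth.Agent.S1412

set_option autoImplicit false
open CategoryTheory CategoryTheory.Limits AlgebraicGeometry Opposite
universe u
open ProEtS

namespace Groth.Agent.S0754

/-- For a point x of a scheme X and a strict henselization R of the local ring of X at x, the canonical
morphism Spec R -> X is weakly etale, so that Spec R is an object of the small pro-etale site of X. -/
theorem result (X : Scheme.{u}) (x : ↥X) (R : Type u) [CommRing R]
    [IsLocalRing R] [Algebra (X.presheaf.stalk x) R] [IsLocalHom (algebraMap (X.presheaf.stalk x) R)]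
    [Hensel.IsStrictHenselization (X.presheaf.stalk x) R] :
    WeaklyEtale (Hens2.specOf X x R) := by
  have hw : Algebra.WeaklyEtale (X.presheaf.stalk x) R :=
    Groth.Agent.S0736.result _ _ (Groth.Agent.S12237.result _ _)
  haveI : Mono (X.fromSpecStalk x) := inferInstance
  haveI : Flat (X.fromSpecStalk x) := Groth.Agent.S1412.flat_fromSpecStalk X x
  haveI : WeaklyEtale (X.fromSpecStalk x) := Groth.Agent.S1412.weaklyEtale_of_flat_mono _
  haveI : WeaklyEtale (Spec.map (CommRingCat.ofHom (algebraMap (X.presheaf.stalk x) R))) := by
    rw [Groth.Agent.S1412.weaklyEtale_SpecMap_iff]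
    refine ⟨?_, ?_⟩
    · exact (RingHom.flat_algebraMap_iff).mpr hw.flat
    · have h := Algebra.WeaklyEtale.flat_lmul' (X.presheaf.stalk x) R
      have e : (CommRingCat.Hom.hom (CommRingCat.ofHom
          (algebraMap (X.presheaf.stalk x) R))).toAlgebra =
          (inferInstance : Algebra (X.presheaf.stalk x) R) :=
        Algebra.algebra_ext _ _ (fun r => rfl)
      rw [e]
      exact h
  exact inferInstanceAs (WeaklyEtale (Spec.map (CommRingCat.ofHom
    (algebraMap (X.presheaf.stalk x) R)) ≫ X.fromSpecStalk x))

end Groth.Agent.S0754
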