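import Groth.Statements.S0781
import Mathlib

set_option autoImplicit false
open CategoryTheory CategoryTheory.Limits AlgebraicGeometry Opposite
universe u
open Desc

namespace Groth.Agent.S0781

section helpers

/-- Two morphisms into an unramified `S`-scheme agreeing after precomposition with a surjection
are equal. -/
theorem eq_of_surjective_comp {S U₁ U₂ W : Scheme.{u}} (s₁ : U₁ ⟶ S) (s₂ : U₂ ⟶ S)
    [FormallyUnramified s₂] [LocallyOfFiniteType s₂]
    (a b : U₁ ⟶ U₂) (ha : a ≫ s₂ = s₁) (hb : b ≫ s₂ = s₁)
    (π : W ⟶ U₁) [Surjective π] (h : π ≫ a = π ≫ b) : a = b := by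
  let g : U₁ ⟶ pullback s₂ s₂ := pullback.lift a b (by rw [ha, hb])
  have hg1 : g ≫ pullback.fst s₂ s₂ = a := pullback.lift_fst _ _ _
  have hg2 : g ≫ pullback.snd s₂ s₂ = b := pullback.lift_snd _ _ _
  let Δ : U₂ ⟶ pullback s₂ s₂ := pullback.diagonal s₂
  have hΔ1 : Δ ≫ pullback.fst s₂ s₂ = 𝟙 _ := pullback.diagonal_fst _
  have hΔ2 : Δ ≫ pullback.snd s₂ s₂ = 𝟙 _ := pullback.diagonal_snd _
  let e : pullback g Δ ⟶ U₁ := pullback.fst g Δ
  have he_oi : IsOpenImmersion e := inferInstance
  let l : W ⟶ pullback g Δ := pullback.lift π (π ≫ a) (by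
    apply pullback.hom_ext
    · rw [Category.assoc, Category.assoc, hg1, hΔ1, Category.comp_id]
    · rw [Category.assoc, Category.assoc, hg2, hΔ2, Category.comp_id, h])
  have hl : l ≫ e = π := pullback.lift_fst _ _ _
  have he_surj : Surjective e := by
    constructor
    intro x
    obtain ⟨w, rfl⟩ := π.surjective x
    refine ⟨l w, ?_⟩
    rw [← Scheme.Hom.comp_apply, hl]
  have he_iso : IsIso e := (isIso_iff_isOpenImmersion_and_surjective e).mpr ⟨he_oi, he_surj⟩
  have h1 : e ≫ a = pullback.snd g Δ := by
    have : e ≫ g = pullback.snd g Δ ≫ Δ := pullback.condition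
    have := congrArg (fun φ => φ ≫ pullback.fst s₂ s₂) this
    simp only [Category.assoc, hg1, hΔ1, Category.comp_id] at this
    exact this
  have h2 : e ≫ b = pullback.snd g Δ := by
    have : e ≫ g = pullback.snd g Δ ≫ Δ := pullback.condition
    have := congrArg (fun φ => φ ≫ pullback.snd s₂ s₂) this
    simp only [Category.assoc, hg2, hΔ2, Category.comp_id] at this
    exact this
  exact (cancel_epi e).mp (h1.trans h2.symm)



end helpers

/-- If p : X → S is a surjective morphism of schemes, then for schemes U₁, U₂ étale over S, two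
S-morphisms U₁ → U₂ whose base changes to X agree, as morphisms of canonical descent data relative
to p, are equal; that is, the canonical-descent-datum functor is faithful on schemes étale over S.
(Descent data are taken in functor-of-points form, equivalent by the Yoneda lemma to an isomorphism
over X ×_S X satisfying the cocycle condition.) -/
theorem result {X S : Scheme.{u}} (p : X ⟶ S) [Surjective p] (U₁ U₂ : Over S)
    [Etale U₁.hom] [Etale U₂.hom] : Function.Injective ((Desc.toDD p).map : (U₁ ⟶ U₂) → _) := by
  intro a b hab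
  have h1 : ((toDD p).map a).hom.left = ((toDD p).map b).hom.left := by rw [hab]
  have e1 : ((toDD p).map a).hom.left ≫ pullback.snd p U₂.hom =
      pullback.snd p U₁.hom ≫ a.left := pullback.lift_snd _ _ _
  have e2 : ((toDD p).map b).hom.left ≫ pullback.snd p U₂.hom =
      pullback.snd p U₁.hom ≫ b.left := pullback.lift_snd _ _ _
  have h2 : pullback.snd p U₁.hom ≫ a.left = pullback.snd p U₁.hom ≫ b.left := by
    rw [← e1, ← e2, h1]
  have hsurj : Surjective (pullback.snd p U₁.hom) := inferInstance
  apply Over.OverMorphism.ext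
  exact eq_of_surjective_comp U₁.hom U₂.hom a.left b.left (Over.w a) (Over.w b)
    (pullback.snd p U₁.hom) h2

end Groth.Agent.S0781
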