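import Groth.Statements.S0782
import Mathlib
import Groth.Agent.Lib.Helper81.EtDescent

set_option autoImplicit false
open CategoryTheory CategoryTheory.Limits AlgebraicGeometry Opposite
universe u
open Desc

namespace Groth.Agent.S0782


set_option linter.style.haveILetI false

open Groth.Agent.Lib.Helper81 Groth.Agent.Lib.Helper80 Groth.Agent.Lib.Helper81.EtDescent TopologicalSpace

section Main

/-! The following two results are adapted from `Groth.Agent.Lib.Helper81.EtDescent`
(`isOpen_range_graphMap`, `exists_unique_desc`): the proofs there use the universal submersiveness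
of `π` only through its surjectivity and the quotient property of one base change. -/

variable {X' X Y S : Scheme.{u}} (π : X' ⟶ X) (p : X ⟶ S) (q : Y ⟶ S) (F : X' ⟶ Y)
  (hF : F ≫ q = π ≫ p) (hcoc : pullback.fst π π ≫ F = pullback.snd π π ≫ F)

include hcoc in
theorem isOpen_range_graphMap' (hω : Topology.IsQuotientMap (pullback.fst (pullback.fst p q) π))
    [IsOpenImmersion (pullback.diagonal q)] :
    IsOpen (Set.range (graphMap π p q F hF)) := by
  have he : (pullback.fst (pullback.fst p q) π ≫ pullback.snd p q) ≫ q =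
      (pullback.snd (pullback.fst p q) π ≫ F) ≫ q := by
    rw [Category.assoc, Category.assoc, hF, ← pullback.condition (f := p) (g := q),
      ← Category.assoc, ← Category.assoc, pullback.condition (f := pullback.fst p q) (g := π)]
  obtain ⟨R, hR1, hR2, -⟩ := exists_opens_eqLocus q _ _ he
  rw [← hω.isOpen_preimage]
  convert R.isOpen using 1
  ext w
  constructor
  · rintro ⟨x'₁, hx'₁⟩
    let ζ := (pullback (pullback.fst p q) π).fromSpecResidueField w
    have hzw : ∀ t, ζ t = w := fun t => Scheme.fromSpecResidueField_apply _ t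
    haveI : Nonempty (Spec ((pullback (pullback.fst p q) π).residueField w)) :=
      (inferInstance : Nonempty (PrimeSpectrum ((pullback (pullback.fst p q) π).residueField w)))
    haveI : Nonempty ↥(pullback (graphMap π p q F hF) (ζ ≫ pullback.fst (pullback.fst p q) π)) := by
      refine nonempty_pullback_of_mem_range _ _ (fun t => ⟨x'₁, ?_⟩)
      rw [hx'₁, Scheme.Hom.comp_apply, hzw]
    obtain ⟨b, c, hbc⟩ : ∃ (b : pullback (graphMap π p q F hF)
        (ζ ≫ pullback.fst (pullback.fst p q) π) ⟶ X')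
        (c : pullback (graphMap π p q F hF) (ζ ≫ pullback.fst (pullback.fst p q) π) ⟶ _),
        b ≫ graphMap π p q F hF = c ≫ ζ ≫ pullback.fst (pullback.fst p q) π :=
      ⟨pullback.fst _ _, pullback.snd _ _, pullback.condition⟩
    have h1 : b ≫ π = (c ≫ ζ ≫ pullback.snd (pullback.fst p q) π) ≫ π := by
      calc b ≫ π = (b ≫ graphMap π p q F hF) ≫ pullback.fst p q := by
            rw [Category.assoc, graphMap_fst]
        _ = (c ≫ ζ ≫ pullback.fst (pullback.fst p q) π) ≫ pullback.fst p q := by rw [hbc]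
        _ = c ≫ ζ ≫ (pullback.fst (pullback.fst p q) π ≫ pullback.fst p q) := by
            simp only [Category.assoc]
        _ = c ≫ ζ ≫ (pullback.snd (pullback.fst p q) π ≫ π) := by
            rw [pullback.condition (f := pullback.fst p q) (g := π)]
        _ = (c ≫ ζ ≫ pullback.snd (pullback.fst p q) π) ≫ π := by simp only [Category.assoc]
    have h2 := comp_eq_of_comp_eq π F hcoc _ _ h1
    have h3 : (c ≫ ζ) ≫ pullback.fst (pullback.fst p q) π ≫ pullback.snd p q =
        (c ≫ ζ) ≫ pullback.snd (pullback.fst p q) π ≫ F := by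
      calc (c ≫ ζ) ≫ pullback.fst (pullback.fst p q) π ≫ pullback.snd p q
          = (c ≫ ζ ≫ pullback.fst (pullback.fst p q) π) ≫ pullback.snd p q := by
            simp only [Category.assoc]
        _ = (b ≫ graphMap π p q F hF) ≫ pullback.snd p q := by rw [hbc]
        _ = b ≫ F := by rw [Category.assoc, graphMap_snd]
        _ = (c ≫ ζ ≫ pullback.snd (pullback.fst p q) π) ≫ F := h2
        _ = (c ≫ ζ) ≫ pullback.snd (pullback.fst p q) π ≫ F := by simp only [Category.assoc]
    have h4 := hR2 (c ≫ ζ) h3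
    obtain ⟨t⟩ : Nonempty ↥(pullback (graphMap π p q F hF)
      (ζ ≫ pullback.fst (pullback.fst p q) π)) := inferInstance
    have : w = (c ≫ ζ) t := by rw [Scheme.Hom.comp_apply, hzw]
    rw [this]
    exact h4 ⟨t, rfl⟩
  · intro hw
    let ζ := (pullback (pullback.fst p q) π).fromSpecResidueField w
    have hzw : ∀ t, ζ t = w := fun t => Scheme.fromSpecResidueField_apply _ t
    have hr : Set.range ζ ⊆ Set.range R.ι := by
      rintro _ ⟨t, rfl⟩
      rw [hzw, Scheme.Opens.range_ι]
      exact hw
    let l := IsOpenImmersion.lift R.ι ζ hr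
    have hl : l ≫ R.ι = ζ := IsOpenImmersion.lift_fac _ _ _
    have h1 : ζ ≫ pullback.fst (pullback.fst p q) π ≫ pullback.snd p q =
        ζ ≫ pullback.snd (pullback.fst p q) π ≫ F := by
      rw [← hl, Category.assoc, Category.assoc, hR1]
    have h2 : ζ ≫ pullback.fst (pullback.fst p q) π =
        (ζ ≫ pullback.snd (pullback.fst p q) π) ≫ graphMap π p q F hF := by
      apply pullback.hom_ext
      · simp only [Category.assoc, graphMap_fst]
        rw [pullback.condition (f := pullback.fst p q) (g := π)]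
      · simp only [Category.assoc, graphMap_snd]
        exact h1
    obtain ⟨t⟩ : Nonempty (Spec ((pullback (pullback.fst p q) π).residueField w)) :=
      (inferInstance : Nonempty (PrimeSpectrum ((pullback (pullback.fst p q) π).residueField w)))
    refine ⟨(ζ ≫ pullback.snd (pullback.fst p q) π) t, ?_⟩
    rw [← Scheme.Hom.comp_apply, ← h2, Scheme.Hom.comp_apply, hzw]

include hF hcoc in
theorem exists_unique_desc' (hsurj : Function.Surjective π)
    (hω : Topology.IsQuotientMap (pullback.fst (pullback.fst p q) π)) [Etale q] :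
    ∃! u : X ⟶ Y, u ≫ q = p ∧ π ≫ u = F := by
  refine existsUnique_of_exists_of_unique ?_ (fun u₁ u₂ h₁ h₂ =>
    eq_of_comp_eq_of_surjective π hsurj q u₁ u₂ (h₁.1.trans h₂.1.symm) (h₁.2.trans h₂.2.symm))
  let Γ : (pullback p q).Opens := ⟨Set.range (graphMap π p q F hF),
    isOpen_range_graphMap' π p q F hF hcoc hω⟩
  have hΓ : Set.range (graphMap π p q F hF) ⊆ Set.range Γ.ι := by
    rw [Scheme.Opens.range_ι]; exact subset_rfl
  obtain ⟨φ₀, hφ₀⟩ : ∃ φ₀ : X' ⟶ Γ, φ₀ ≫ Γ.ι = graphMap π p q F hF :=
    ⟨IsOpenImmersion.lift Γ.ι (graphMap π p q F hF) hΓ, IsOpenImmersion.lift_fac _ _ _⟩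
  obtain ⟨h, hh⟩ : ∃ h : (Γ : Scheme) ⟶ X, h = Γ.ι ≫ pullback.fst p q := ⟨_, rfl⟩
  haveI : Etale h := by rw [hh]; infer_instance
  have hφh : φ₀ ≫ h = π := by rw [hh, ← Category.assoc, hφ₀, graphMap_fst]
  have hs : Surjective h := ⟨fun x => by
    obtain ⟨x', rfl⟩ := hsurj x
    exact ⟨φ₀ x', by rw [← Scheme.Hom.comp_apply, hφh]⟩⟩
  have hui : UniversallyInjective h := by
    have h01 := (tfae_universallyInjective h).out 0 1
    refine h01.mpr ?_
    intro K _ a₁ a₂ ha
    have ha : a₁ ≫ h = a₂ ≫ h := ha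
    have hz : ∀ (a : Spec (CommRingCat.of K) ⟶ Γ) (t), (a ≫ Γ.ι) t ∈
        Set.range (graphMap π p q F hF) := by
      intro a t
      have : (a ≫ Γ.ι) t ∈ Set.range Γ.ι := ⟨a t, rfl⟩
      rw [Scheme.Opens.range_ι] at this
      exact this
    haveI : Nonempty (Spec (CommRingCat.of K)) := (inferInstance : Nonempty (PrimeSpectrum K))
    haveI : Subsingleton (Spec (CommRingCat.of K)) :=
      (inferInstance : Subsingleton (PrimeSpectrum K))
    haveI := nonempty_pullback_of_mem_range (graphMap π p q F hF) (a₁ ≫ Γ.ι) (hz a₁)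
    haveI := nonempty_pullback_of_mem_range (graphMap π p q F hF) (a₂ ≫ Γ.ι) (hz a₂)
    haveI := nonempty_pullback_of_subsingleton
      (pullback.snd (graphMap π p q F hF) (a₁ ≫ Γ.ι))
      (pullback.snd (graphMap π p q F hF) (a₂ ≫ Γ.ι))
    obtain ⟨T, _, b₁, b₂, c, hb₁, hb₂⟩ : ∃ (T : Scheme.{u}) (_ : Nonempty T) (b₁ b₂ : T ⟶ X')
        (c : T ⟶ Spec (CommRingCat.of K)),
        b₁ ≫ graphMap π p q F hF = c ≫ a₁ ≫ Γ.ι ∧ b₂ ≫ graphMap π p q F hF = c ≫ a₂ ≫ Γ.ι := by
      refine ⟨pullback (pullback.snd (graphMap π p q F hF) (a₁ ≫ Γ.ι))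
        (pullback.snd (graphMap π p q F hF) (a₂ ≫ Γ.ι)), inferInstance,
        pullback.fst _ _ ≫ pullback.fst _ _, pullback.snd _ _ ≫ pullback.fst _ _,
        pullback.fst _ _ ≫ pullback.snd _ _, ?_, ?_⟩
      · rw [Category.assoc, Category.assoc, pullback.condition]
      · rw [Category.assoc, pullback.condition, ← Category.assoc, ← pullback.condition,
          Category.assoc]
    have h1 : b₁ ≫ π = b₂ ≫ π := by
      calc b₁ ≫ π = (b₁ ≫ graphMap π p q F hF) ≫ pullback.fst p q := by
            rw [Category.assoc, graphMap_fst]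
        _ = c ≫ a₁ ≫ h := by rw [hb₁, hh]; simp only [Category.assoc]
        _ = c ≫ a₂ ≫ h := by rw [ha]
        _ = (b₂ ≫ graphMap π p q F hF) ≫ pullback.fst p q := by
            rw [hb₂, hh]; simp only [Category.assoc]
        _ = b₂ ≫ π := by rw [Category.assoc, graphMap_fst]
    have h2 := comp_eq_of_comp_eq π F hcoc b₁ b₂ h1
    have h3 : c ≫ (a₁ ≫ Γ.ι) = c ≫ (a₂ ≫ Γ.ι) := by
      apply pullback.hom_ext
      · have : ∀ a : Spec (CommRingCat.of K) ⟶ Γ, (c ≫ a ≫ Γ.ι) ≫ pullback.fst p q = c ≫ a ≫ h := by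
          intro a; rw [hh]; simp only [Category.assoc]
        rw [this, this, ha]
      · rw [← hb₁, ← hb₂, Category.assoc, Category.assoc, graphMap_snd, h2]
    haveI := KTrans.epi_of_field K c
    have h4 : a₁ ≫ Γ.ι = a₂ ≫ Γ.ι := (cancel_epi c).mp h3
    exact (cancel_mono Γ.ι).mp h4
  haveI : IsIso h := isIso_of_etale_of_universallyInjective_of_surjective h hui hs
  refine ⟨inv h ≫ Γ.ι ≫ pullback.snd p q, ?_, ?_⟩
  · rw [Category.assoc, Category.assoc, ← pullback.condition, ← Category.assoc Γ.ι, ← hh,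
      IsIso.inv_hom_id_assoc]
  · rw [← hφh, Category.assoc, IsIso.hom_inv_id_assoc, ← Category.assoc, hφ₀, graphMap_snd]


end Main

/-- Let p : X ⟶ S be a morphism such that for every scheme U étale over S the projection X ×_S U ⟶ U is
a quotient map of topological spaces (submersive; U = S is allowed). Then for U₁, U₂ étale over S,
every morphism between their canonical descent data relative to p comes from an S-morphism U₁ ⟶ U₂:
the canonical-descent-datum functor is full on schemes étale over S (injectivity of this assignment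
is a companion statement). (Descent data are taken in functor-of-points form, equivalent by the
Yoneda lemma to the usual form of an isomorphism over X ×_S X satisfying the cocycle condition.) -/
theorem result {X S : Scheme.{u}} (p : X ⟶ S)
    (hp : ∀ U : Over S, Etale U.hom → Topology.IsQuotientMap (pullback.snd p U.hom).base) (U₁ U₂ : Over S)
    [Etale U₁.hom] [Etale U₂.hom] : Function.Surjective ((Desc.toDD p).map : (U₁ ⟶ U₂) → _) := by
  intro φ
  let π : pullback p U₁.hom ⟶ U₁.left := pullback.snd p U₁.hom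
  let h : pullback p U₁.hom ⟶ pullback p U₂.hom := φ.hom.left
  have hh : h ≫ pullback.fst p U₂.hom = pullback.fst p U₁.hom := Over.w φ.hom
  let F : pullback p U₁.hom ⟶ U₂.left := h ≫ pullback.snd p U₂.hom
  have hF : F ≫ U₂.hom = π ≫ U₁.hom := by
    simp only [F, π, Category.assoc]
    rw [← pullback.condition, reassoc_of% hh, pullback.condition]
  -- cocycle condition
  have hcoc : pullback.fst π π ≫ F = pullback.snd π π ≫ F := by
    let a := pullback.fst π π
    let c := pullback.snd π π
    let x₀ : pullback π π ⟶ X := a ≫ pullback.fst p U₁.hom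
    let x₁ : pullback π π ⟶ X := c ≫ pullback.fst p U₁.hom
    have hac : a ≫ π = c ≫ π := pullback.condition
    have hx : x₀ ≫ p = x₁ ≫ p := by
      simp only [x₀, x₁, Category.assoc]
      rw [pullback.condition]
      exact (reassoc_of% hac) U₁.hom
    let v : Lifts ((toDD p).obj U₁).obj x₀ := ⟨a, rfl⟩
    let w : Lifts ((toDD p).obj U₂).obj x₀ := ⟨a ≫ h, by
      change (a ≫ h) ≫ pullback.fst p U₂.hom = x₀
      rw [Category.assoc, hh]⟩
    have hcomm := φ.comm x₀ x₁ hx v w rfl
    have hv : (((toDD p).obj U₁).φ x₀ x₁ hx v).1 = c := by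
      change (canMap p U₁ x₀ x₁ hx v).1 = c
      rw [canMap_val]
      apply pullback.hom_ext
      · rw [pullback.lift_fst]
      · rw [pullback.lift_snd]
        exact hac
    have hw : (((toDD p).obj U₂).φ x₀ x₁ hx w).1 ≫ pullback.snd p U₂.hom =
        a ≫ h ≫ pullback.snd p U₂.hom := by
      change (canMap p U₂ x₀ x₁ hx w).1 ≫ pullback.snd p U₂.hom = _
      rw [canMap_val, pullback.lift_snd]
      exact Category.assoc _ _ _
    have h3 : (((toDD p).obj U₂).φ x₀ x₁ hx w).1 ≫ pullback.snd p U₂.hom =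
        (c ≫ h) ≫ pullback.snd p U₂.hom := by rw [hcomm, hv]; rfl
    rw [hw] at h3
    change a ≫ h ≫ pullback.snd p U₂.hom = c ≫ h ≫ pullback.snd p U₂.hom
    rw [h3, Category.assoc]
  -- surjectivity and the quotient property
  let W : Over S := Over.mk (pullback.fst U₁.hom U₂.hom ≫ U₁.hom)
  haveI : Etale W.hom := inferInstanceAs (Etale (pullback.fst U₁.hom U₂.hom ≫ U₁.hom))
  have hsurj : Function.Surjective π := (hp U₁ inferInstance).surjective
  let g' : pullback U₁.hom U₂.hom ⟶ U₁.left := pullback.fst U₁.hom U₂.hom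
  have hω : Topology.IsQuotientMap (pullback.fst g' π) := by
    have h1 : Topology.IsQuotientMap (pullback.snd p W.hom) := hp W inferInstance
    let e₁ := pullbackSymmetry g' π
    let e₂ := pullbackLeftPullbackSndIso p U₁.hom g'
    have hfac : pullback.fst g' π = (e₁.hom ≫ e₂.hom) ≫ pullback.snd p (g' ≫ U₁.hom) := by
      simp only [e₁, e₂, Category.assoc, pullbackLeftPullbackSndIso_hom_snd]
      exact (pullbackSymmetry_hom_comp_snd g' π).symm
    rw [hfac]
    have h2 : Topology.IsQuotientMap (e₁.hom ≫ e₂.hom) :=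
      (e₁ ≪≫ e₂).hom.homeomorph.isQuotientMap
    exact h1.comp h2
  obtain ⟨u, ⟨hu1, hu2⟩, -⟩ := exists_unique_desc' π U₁.hom U₂.hom F hF hcoc hsurj hω
  have key : pullback.map p U₁.hom p U₂.hom (𝟙 X) u (𝟙 S) (by simp) (by simp [hu1]) = h := by
    apply pullback.hom_ext
    · rw [pullback.lift_fst, hh, Category.comp_id]
    · rw [pullback.lift_snd]
      exact hu2
  refine ⟨Over.homMk u hu1, ?_⟩
  apply SchDD.hom_ext
  apply Over.OverMorphism.ext
  exact key

end Groth.Agent.S0782
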