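import Groth.Statements.S0785
import Groth.Agent.Lib.Helper77.DepthBaseChange
import Mathlib.RingTheory.Smooth.Flat
import Mathlib.RingTheory.Unramified.LocalRing
import Mathlib.RingTheory.EssentialFiniteness
import Mathlib.RingTheory.Etale.Basic
import Mathlib.RingTheory.Unramified.Basic
import Mathlib.RingTheory.Flat.Localization
import Mathlib.RingTheory.Flat.FaithfullyFlat.Algebra

set_option autoImplicit false
universe u
open Desc

namespace Groth.Agent.S0785

/-- Let A → B be a local homomorphism of Noetherian local rings which is etale in the sense that B is
the localization at a prime of an etale A-algebra. Then A and B have the same depth. -/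
theorem result (A B : Type u) [CommRing A] [CommRing B] [IsLocalRing A] [IsLocalRing B]
    [IsNoetherianRing A] [IsNoetherianRing B] [Algebra A B] [IsLocalHom (algebraMap A B)]
    (E : Type u) [CommRing E] [Algebra A E] [Algebra.Etale A E] (P : Ideal E) [P.IsPrime]
    [Algebra E B] [IsScalarTower A E B] [IsLocalization.AtPrime B P] :
    LocCoh.depth A A = LocCoh.depth B B := by
  have hEB : Module.Flat E B := IsLocalization.flat B P.primeCompl
  have hAE : Module.Flat A E := inferInstance
  have hAB : Module.Flat A B := Module.Flat.trans A E B
  have hff : Module.FaithfullyFlat A B := Module.FaithfullyFlat.of_flat_of_isLocalHom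
  have hunr : Algebra.FormallyUnramified E B :=
    Algebra.FormallyUnramified.of_isLocalization P.primeCompl
  have hunr' : Algebra.FormallyUnramified A B := Algebra.FormallyUnramified.comp A E B
  have hess : Algebra.EssFiniteType E B := Algebra.EssFiniteType.of_isLocalization B P.primeCompl
  have hess' : Algebra.EssFiniteType A B := Algebra.EssFiniteType.comp A E B
  have hm : (IsLocalRing.maximalIdeal A).map (algebraMap A B) = IsLocalRing.maximalIdeal B :=
    Algebra.FormallyUnramified.map_maximalIdeal
  unfold LocCoh.depth
  rw [← hm]
  exact (Groth.Agent.Lib.Helper77.DepthBaseChange.idealDepth_eq_of_faithfullyFlat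
    (IsLocalRing.maximalIdeal A) A B (Algebra.linearMap A B) (IsBaseChange.linearMap A B)).symm

end Groth.Agent.S0785
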