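import Groth.Statements.S0792
import Groth.Agent.Lib.Helper21.ClImmUnit3
import Groth.Agent.Lib.Helper21.AnnIdeal
import Groth.Agent.Lib.Helper21.ClImmSupport
import Groth.Agent.Lib.Helper21.ProperOver
import Groth.Agent.Lib.Helper21.CohPullback

set_option autoImplicit false
universe u
open Coherent

namespace Groth.Agent.S0792

open CategoryTheory AlgebraicGeometry in
/-- Let f : X → S be locally of finite type and F a quasi-coherent O_X-module of finite type. The
support of F is proper over S if and only if there are a closed subscheme i : Z → X with Z proper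
over S and a quasi-coherent O_Z-module G of finite type with i_* G isomorphic to F. (The published
statement also gives a further equivalent condition, that the scheme-theoretic support of F is
proper over S; it is not used here.) -/
theorem result {X S : Scheme.{u}} (f : X ⟶ S) [LocallyOfFiniteType f]
    (F : X.Modules) (hq : Coh.IsQCoh F) (hft : CohB1.IsFT F) :
    ClSub.IsProperOver f (CohB1.support F) ↔
      ∃ (Z : Scheme.{u}) (i : Z ⟶ X), IsClosedImmersion i ∧ IsProper (i ≫ f) ∧
        ∃ G : Z.Modules, Coh.IsQCoh G ∧ CohB1.IsFT G ∧
          Nonempty ((Scheme.Modules.pushforward i).obj G ≅ F) := by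
  haveI : F.IsQuasicoherent := hq
  constructor
  · intro h
    let J := Groth.Agent.Lib.Helper21.AnnIdeal.annIdeal F hft
    have hrange : Set.range J.subschemeι = CohB1.support F := by
      rw [Scheme.IdealSheafData.range_subschemeι]
      exact Groth.Agent.Lib.Helper21.AnnIdeal.support_annIdeal F hft
    have hk : ClSub.KilledByIdeal J.subschemeι.ker F := by
      rw [Scheme.IdealSheafData.ker_subschemeι]
      exact Groth.Agent.Lib.Helper21.AnnIdeal.killedByIdeal_annIdeal F hft
    refine ⟨J.subscheme, J.subschemeι, inferInstance,
      (Groth.Agent.Lib.Helper21.ProperOver.isProperOver_iff_of_range_eq f J.subschemeι _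
        hrange).mp h,
      (Scheme.Modules.pullback J.subschemeι).obj F, inferInstance,
      Groth.Agent.Lib.Helper21.CohPullback.isFiniteType_pullback J.subschemeι F hft,
      ⟨Groth.Agent.Lib.Helper21.ClImmUnit.pushforwardPullbackIso J.subschemeι F hk⟩⟩
  · rintro ⟨Z, i, hi, hp, G, hG, hGft, ⟨e⟩⟩
    have h1 : ClSub.IsProperOver f (Set.range i) :=
      (Groth.Agent.Lib.Helper21.ProperOver.isProperOver_iff_of_range_eq f i _ rfl).mpr hp
    refine Groth.Agent.Lib.Helper21.ProperOver.isProperOver_of_subset f h1
      (Groth.Agent.Lib.Helper21.CohSupport.isClosed_support F hft) ?_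
    rw [← Groth.Agent.Lib.Helper21.ClImmSupport.support_eq_of_iso e]
    exact Groth.Agent.Lib.Helper21.ClImmSupport.support_pushforward_subset_range i
      i.isClosedEmbedding.isClosed_range G

end Groth.Agent.S0792
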