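import Groth.Statements.S0797
import Groth.Agent.S0544
import Mathlib.RingTheory.AdicCompletion.Exactness
import Mathlib.RingTheory.Nakayama
import Mathlib.RingTheory.Ideal.Operations

set_option autoImplicit false
universe u
open Formal2

namespace Groth.Agent.S0797

theorem isPrecomplete_of_surjective {R : Type*} [CommRing R] (I : Ideal R) {N M : Type*}
    [AddCommGroup N] [Module R N] [AddCommGroup M] [Module R M] (f : N →ₗ[R] M)
    (hf : Function.Surjective f) [IsPrecomplete I N] : IsPrecomplete I M := by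
  rw [← AdicCompletion.of_surjective_iff]
  intro y
  obtain ⟨z, hz⟩ := AdicCompletion.map_surjective I hf y
  obtain ⟨x, hx⟩ := AdicCompletion.of_surjective I N z
  exact ⟨f x, by rw [← AdicCompletion.map_of, hx, hz]⟩

theorem isPrecomplete_of_finite {R : Type u} [CommRing R] (I : Ideal R) [IsPrecomplete I R]
    (M : Type*) [AddCommGroup M] [Module R M] [Module.Finite R M] : IsPrecomplete I M := by
  classical
  obtain ⟨n, f, hf⟩ := Module.Finite.exists_fin' R M
  have := Groth.Agent.S0544.isPrecomplete_pi I (ι := Fin n)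
  exact isPrecomplete_of_surjective I f hf

theorem exists_compatible {M : ℕ → Type u} (f : ∀ n, M (n + 1) → M n)
    (hf : ∀ n, Function.Surjective (f n)) (n : ℕ) (m : M n) :
    ∃ x : ∀ k, M k, (∀ k, f k (x (k + 1)) = x k) ∧ x n = m := by
  induction n generalizing M with
  | zero =>
    refine ⟨fun k => Nat.rec m (fun k y => (hf k y).choose) k, fun k => ?_, rfl⟩
    exact (hf k _).choose_spec
  | succ n ih =>
    obtain ⟨x', hx', hm⟩ := ih (M := fun k => M (k + 1)) (fun k => f (k + 1))
      (fun k => hf (k + 1)) m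
    refine ⟨fun k => Nat.casesOn k (f 0 (x' 0)) (fun k => x' k), fun k => ?_, hm⟩
    cases k with
    | zero => rfl
    | succ k => exact hx' k

section

variable {A : Type u} [CommRing A] (I : Ideal A) {M : ℕ → Type u} [∀ n, AddCommGroup (M n)]
  [∀ n, Module A (M n)] (f : ∀ n, M (n + 1) →ₗ[A] M n) (L : Submodule A (∀ n, M n))

def pr (n : ℕ) : L →ₗ[A] M n := (LinearMap.proj n).comp L.subtype

def P : ℕ → Submodule A L
  | 0 => ⊤
  | (k + 1) => LinearMap.ker (pr L k)

variable {L} {f}

theorem f_pr (hL : ∀ x ∈ L, ∀ n, f n (x (n + 1)) = x n) (n : ℕ) (x : L) :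
    f n (pr L (n + 1) x) = pr L n x := hL x.1 x.2 n

theorem P_anti (hL : ∀ x ∈ L, ∀ n, f n (x (n + 1)) = x n) (a : ℕ) : P L (a + 1) ≤ P L a := by
  cases a with
  | zero => exact le_top
  | succ a =>
    intro x hx
    change pr L (a + 1) x = 0 at hx
    change pr L a x = 0
    rw [← f_pr hL, hx, map_zero]

theorem P_anti' (hL : ∀ x ∈ L, ∀ n, f n (x (n + 1)) = x n) {a b : ℕ} (hab : a ≤ b) :
    P L b ≤ P L a := by
  induction b, hab using Nat.le_induction with
  | base => exact le_rfl
  | succ b _ ih => exact (P_anti hL b).trans ih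

theorem smul_le_ker (hk : ∀ n, I ^ (n + 1) • (⊤ : Submodule A (M n)) = ⊥) (N : Submodule A L)
    {i m : ℕ} (him : i + 1 ≤ m) : I ^ m • N ≤ LinearMap.ker (pr L i) := by
  rw [← Submodule.map_le_iff_le_comap.trans (by rfl : _ ↔ I ^ m • N ≤ LinearMap.ker (pr L i)),
    Submodule.map_smul'']
  calc I ^ m • Submodule.map (pr L i) N ≤ I ^ (i + 1) • (⊤ : Submodule A (M i)) :=
        Submodule.smul_mono (Ideal.pow_le_pow_right him) le_top
    _ = ⊥ := hk i

theorem key (hL : ∀ x ∈ L, ∀ n, f n (x (n + 1)) = x n)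
    (hk : ∀ n, I ^ (n + 1) • (⊤ : Submodule A (M n)) = ⊥)
    (hker : ∀ n, LinearMap.ker (f n) = I ^ (n + 1) • (⊤ : Submodule A (M (n + 1))))
    (N : Submodule A L) (hN : ∀ n, Submodule.map (pr L n) N = ⊤)
    (hprec : ∀ s : ℕ → L, (∀ j, s j ∈ N) → (∀ j, s (j + 1) - s j ∈ I ^ j • N) →
      ∃ t ∈ N, ∀ j, t - s j ∈ I ^ j • N)
    (k : ℕ) (x : L) (hx : x ∈ P L k) : x ∈ I ^ k • N := by
  have step0 : ∀ k (x : L), x ∈ P L k → ∃ y ∈ I ^ k • N, x - y ∈ P L (k + 1) := by
    intro k x hx
    cases k with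
    | zero =>
      have : pr L 0 x ∈ Submodule.map (pr L 0) N := by rw [hN 0]; exact Submodule.mem_top
      obtain ⟨y, hy, hyx⟩ := this
      refine ⟨y, by simpa using hy, ?_⟩
      change pr L 0 (x - y) = 0
      rw [map_sub, hyx, sub_self]
    | succ k =>
      change pr L k x = 0 at hx
      have h1 : pr L (k + 1) x ∈ LinearMap.ker (f k) := by
        rw [LinearMap.mem_ker, f_pr hL, hx]
      rw [hker k, ← hN (k + 1), ← Submodule.map_smul''] at h1
      obtain ⟨y, hy, hyx⟩ := h1
      refine ⟨y, hy, ?_⟩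
      change pr L (k + 1) (x - y) = 0
      rw [map_sub, hyx, sub_self]
  have step : ∀ j (s : L), x - s ∈ P L (k + j) →
      ∃ s' : L, s' - s ∈ I ^ (k + j) • N ∧ x - s' ∈ P L (k + (j + 1)) := by
    intro j s hs
    obtain ⟨y, hy, hxy⟩ := step0 (k + j) (x - s) hs
    refine ⟨s + y, by simpa using hy, ?_⟩
    have : x - (s + y) = x - s - y := by abel
    rw [this]
    exact hxy
  let S : ∀ j, {s : L // x - s ∈ P L (k + j)} := fun j =>
    Nat.rec ⟨0, by simpa using hx⟩
      (fun j s => ⟨(step j s.1 s.2).choose, (step j s.1 s.2).choose_spec.2⟩) j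
  have hS : ∀ j, (S (j + 1)).1 - (S j).1 ∈ I ^ (k + j) • N :=
    fun j => (step j (S j).1 (S j).2).choose_spec.1
  have hSk : ∀ j, (S j).1 ∈ I ^ k • N := by
    intro j
    induction j with
    | zero => exact Submodule.zero_mem _
    | succ j ih =>
      have h1 : (S (j + 1)).1 - (S j).1 ∈ I ^ k • N :=
        Submodule.smul_mono_left (Ideal.pow_le_pow_right (Nat.le_add_right k j)) (hS j)
      have : (S (j + 1)).1 = ((S (j + 1)).1 - (S j).1) + (S j).1 := by abel
      rw [this]
      exact Submodule.add_mem _ h1 ih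
  have hSN : ∀ j, (S j).1 ∈ N := fun j => Submodule.smul_le_right (hSk j)
  obtain ⟨t, htN, ht⟩ := hprec (fun j => (S j).1) hSN (fun j =>
    Submodule.smul_mono_left (Ideal.pow_le_pow_right (Nat.le_add_left j k)) (hS j))
  have hxt : x = t := by
    apply Subtype.ext
    funext i
    have h1 : x - (S (i + 1)).1 ∈ LinearMap.ker (pr L i) :=
      P_anti' hL (by omega : i + 1 ≤ k + (i + 1)) (S (i + 1)).2
    have h2 : t - (S (i + 1)).1 ∈ LinearMap.ker (pr L i) :=
      smul_le_ker I hk N le_rfl (ht (i + 1))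
    have h3 : x - t ∈ LinearMap.ker (pr L i) := by
      have : x - t = (x - (S (i + 1)).1) - (t - (S (i + 1)).1) := by abel
      rw [this]
      exact Submodule.sub_mem _ h1 h2
    have h4 : pr L i x - pr L i t = 0 := by rw [← map_sub]; exact h3
    exact sub_eq_zero.mp h4
  rw [hxt]
  have : t = (t - (S k).1) + (S k).1 := by abel
  rw [this]
  exact Submodule.add_mem _ (ht k) (hSk k)

theorem hprec_of_fg [IsPrecomplete I A] (N : Submodule A L) (hfg : N.FG) :
    ∀ s : ℕ → L, (∀ j, s j ∈ N) → (∀ j, s (j + 1) - s j ∈ I ^ j • N) →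
      ∃ t ∈ N, ∀ j, t - s j ∈ I ^ j • N := by
  intro s hs hdiff
  have hfin : Module.Finite A N := Module.Finite.iff_fg.mpr hfg
  have hpre : IsPrecomplete I N := isPrecomplete_of_finite I N
  obtain ⟨t, ht⟩ := hpre.prec (f := fun j => (⟨s j, hs j⟩ : N)) (by
    apply (AdicCompletion.isAdicCauchy_iff I N _).mpr
    intro n
    rw [SModEq.sub_mem, Submodule.mem_smul_top_iff]
    have : ((⟨s n, hs n⟩ - ⟨s (n + 1), hs (n + 1)⟩ : N) : L) = -(s (n + 1) - s n) := by
      simp
    rw [this]
    exact Submodule.neg_mem _ (hdiff n))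
  refine ⟨t.1, t.2, fun j => ?_⟩
  have h := ht j
  rw [SModEq.sub_mem, Submodule.mem_smul_top_iff] at h
  have : t.1 - s j = -((⟨s j, hs j⟩ - t : N) : L) := by simp
  rw [this]
  exact Submodule.neg_mem _ h

end

/-- The module-theoretic heart, over a base that is already complete (so that the completion of A is A).
Let A be Noetherian and I-adically complete, and let (M_n, f_n : M_{n+1} → M_n) be an inverse system
of finite A-modules with M_n annihilated by I^(n+1) and f_n surjective with kernel I^(n+1) M_{n+1}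
(indices shifted by one). Then the A-module of compatible sequences is finitely generated, each
projection to M_n is surjective, and its kernel is I^(n+1) times the module of compatible sequences. -/
theorem result (A : Type u) [CommRing A] [IsNoetherianRing A] (I : Ideal A)
    [IsAdicComplete I A] (M : ℕ → Type u) [∀ n, AddCommGroup (M n)] [∀ n, Module A (M n)]
    [∀ n, Module.Finite A (M n)] (f : ∀ n, M (n + 1) →ₗ[A] M n) (hf : ∀ n, Function.Surjective (f n))
    (hk : ∀ n, I ^ (n + 1) • (⊤ : Submodule A (M n)) = ⊥)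
    (hker : ∀ n, LinearMap.ker (f n) = I ^ (n + 1) • (⊤ : Submodule A (M (n + 1))))
    (L : Submodule A (∀ n, M n)) (hL : ∀ x : ∀ n, M n, x ∈ L ↔ ∀ n, f n (x (n + 1)) = x n) :
    Module.Finite A L ∧ ∀ n, Function.Surjective ((LinearMap.proj n).comp L.subtype : L →ₗ[A] M n) ∧
      LinearMap.ker ((LinearMap.proj n).comp L.subtype : L →ₗ[A] M n) = I ^ (n + 1) • (⊤ : Submodule A L) := by
  have hL' : ∀ x ∈ L, ∀ n, f n (x (n + 1)) = x n := fun x hx => (hL x).mp hx
  have hsurj : ∀ n, Function.Surjective (pr L n) := by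
    intro n m
    obtain ⟨x, hx, hm⟩ := exists_compatible (fun n => f n) hf n m
    exact ⟨⟨x, (hL x).mpr hx⟩, hm⟩
  have hjac : I ≤ Ideal.jacobson ⊥ := IsAdicComplete.le_jacobson_bot I
  obtain ⟨S0, hS0⟩ := (Module.Finite.fg_top : (⊤ : Submodule A (M 0)).FG)
  choose lift hlift using hsurj 0
  let N : Submodule A L := Submodule.span A (lift '' (S0 : Set (M 0)))
  have hNfg : N.FG := Submodule.fg_span (S0.finite_toSet.image _)
  have hN : ∀ n, Submodule.map (pr L n) N = ⊤ := by
    intro n
    induction n with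
    | zero =>
      rw [Submodule.map_span, ← Set.image_comp, ← hS0]
      congr 1
      ext y
      simp [hlift]
    | succ n ih =>
      rw [eq_top_iff]
      refine Submodule.le_of_le_smul_of_le_jacobson_bot Module.Finite.fg_top hjac ?_
      intro y _
      have h1 : f n y ∈ Submodule.map (pr L n) N := by rw [ih]; exact Submodule.mem_top
      obtain ⟨z, hz, hzy⟩ := h1
      have h2 : y - pr L (n + 1) z ∈ LinearMap.ker (f n) := by
        rw [LinearMap.mem_ker, map_sub, f_pr hL', hzy, sub_self]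
      rw [hker n] at h2
      have h3 : y - pr L (n + 1) z ∈ I • (⊤ : Submodule A (M (n + 1))) :=
        Submodule.smul_mono_left (Ideal.pow_le_self (Nat.succ_ne_zero n)) h2
      have : y = pr L (n + 1) z + (y - pr L (n + 1) z) := by abel
      rw [this]
      exact Submodule.add_mem_sup (Submodule.mem_map_of_mem hz) h3
  have hNtop : N = ⊤ := by
    rw [eq_top_iff]
    intro x _
    have := key I hL' hk hker N hN (hprec_of_fg I N hNfg) 0 x Submodule.mem_top
    simpa using this
  have hfin : Module.Finite A L := ⟨by rw [← hNtop]; exact hNfg⟩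
  refine ⟨hfin, fun n => ⟨hsurj n, ?_⟩⟩
  apply le_antisymm
  · intro x hx
    have htop : ∀ n, Submodule.map (pr L n) (⊤ : Submodule A L) = ⊤ := fun n => by
      rw [Submodule.map_top, LinearMap.range_eq_top]
      exact hsurj n
    exact key I hL' hk hker ⊤ htop (hprec_of_fg I ⊤ Module.Finite.fg_top) (n + 1) x hx
  · exact smul_le_ker I hk ⊤ le_rfl

end Groth.Agent.S0797
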