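import Groth.Statements.S0800
import Groth.Agent.S0855
import Groth.Agent.S0862
import Groth.Agent.S0468

set_option autoImplicit false
universe u
open Coherent

namespace Groth.Agent.S0800

section

open CategoryTheory CategoryTheory.Limits TopologicalSpace Opposite

variable {X : TopCat.{u}}

/-- compact quasi-separated opens -/
def B : Set (Opens X) := {V | IsCompact (V : Set X) ∧ IsQuasiSeparated (V : Set X)}

lemma isCompact_inf_finset_inf (V : Opens X) (hV : IsQuasiSeparated (V : Set X)) {κ : Type*}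
    (f : κ → Opens X) (hfV : ∀ k, f k ≤ V) (hf : ∀ k, IsCompact (f k : Set X)) (s : Finset κ) :
    ∀ V₀ : Opens X, V₀ ≤ V → IsCompact (V₀ : Set X) →
      IsCompact ((V₀ ⊓ s.inf f : Opens X) : Set X) := by
  classical
  induction s using Finset.induction with
  | empty =>
    intro V₀ _ h
    rwa [Finset.inf_empty, inf_top_eq]
  | insert a s _ ih =>
    intro V₀ h0 h
    rw [Finset.inf_insert, ← inf_assoc]
    apply ih _ (inf_le_left.trans h0)
    rw [Opens.coe_inf]
    exact hV _ _ h0 V₀.2 h (hfV a) (f a).2 (hf a)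

lemma isCompact_iInf_fin (V : Opens X) (hV : IsQuasiSeparated (V : Set X)) {n : ℕ}
    (f : Fin (n + 1) → Opens X) (hfV : ∀ k, f k ≤ V)
    (hf : ∀ k, IsCompact (f k : Set X)) : IsCompact ((⨅ k, f k : Opens X) : Set X) := by
  have e : (⨅ k, f k) = f 0 ⊓ Finset.univ.inf f := by
    rw [Finset.inf_univ_eq_iInf]
    exact (inf_eq_right.2 (iInf_le f 0)).symm
  rw [e]
  exact isCompact_inf_finset_inf V hV f hfV hf _ _ (hfV 0) (hf 0)

/-- finite families of compact opens covering a compact quasi-separated open -/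
def Cov (V : Opens X) (κ : Type u) (Y : κ → Over V) : Prop :=
  Finite κ ∧ V ∈ B ∧ (∀ i, IsCompact ((Y i).left : Set X)) ∧ V ≤ ⨆ i, (Y i).left

lemma cov_h1 (V : Opens X) (κ : Type u) (Y : κ → Over V)
    (h : Cov V κ Y) : Finite κ ∧ V ∈ (B : Set (Opens X)) ∧
      Sieve.ofArrows (fun i => (Y i).left) (fun i => (Y i).hom) ∈
        Opens.grothendieckTopology X V ∧
      ∀ (p : ℕ) (a : Fin (p + 1) → κ),
        (∏ᶜ fun k => Y (a k)).left ∈ (B : Set (Opens X)) := by
  obtain ⟨hfin, hV, hY, hcov⟩ := h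
  refine ⟨hfin, hV, ?_, ?_⟩
  · intro x hx
    obtain ⟨i, hi⟩ := Opens.mem_iSup.1 (hcov hx)
    exact ⟨(Y i).left, (Y i).hom, Sieve.ofArrows_mk _ _ i, hi⟩
  · intro p a
    have hle : (∏ᶜ fun k => Y (a k)).left ≤ V := leOfHom (∏ᶜ fun k => Y (a k)).hom
    refine ⟨?_, hV.2.of_subset hle⟩
    change IsCompact (((∏ᶜ fun k => Y (a k)).left : Opens X) : Set X)
    rw [Groth.Agent.S0468.prod_left_eq_iInf]
    exact isCompact_iInf_fin V hV.2 _ (fun k => leOfHom (Y (a k)).hom) (fun k => hY (a k))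

lemma cov_h2 [PrespectralSpace X] (V : Opens X) (hV : V ∈ (B : Set (Opens X)))
    (T : Sieve V) (hT : T ∈ Opens.grothendieckTopology X V) :
    ∃ (κ : Type u) (Y : κ → Over V), Cov V κ Y ∧ ∀ i, T.arrows (Y i).hom := by
  have hpt : ∀ x : V, ∃ W : Opens X, ∃ hWV : W ≤ V, IsCompact (W : Set X) ∧ (x : X) ∈ W ∧
      T.arrows (homOfLE hWV) := by
    intro x
    obtain ⟨W₀, f, hf, hxW₀⟩ := hT x.1 x.2
    obtain ⟨W, ⟨hWo, hWc⟩, hxW, hWW₀⟩ :=
      (PrespectralSpace.isTopologicalBasis (X := X)).exists_subset_of_mem_open hxW₀ W₀.2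
    have hle : (⟨W, hWo⟩ : Opens X) ≤ W₀ := hWW₀
    refine ⟨⟨W, hWo⟩, hle.trans (leOfHom f), hWc, hxW, ?_⟩
    have := T.downward_closed hf (homOfLE hle)
    have e : homOfLE hle ≫ f = homOfLE (hle.trans (leOfHom f)) := Subsingleton.elim _ _
    rwa [e] at this
  choose W hWV hWc hxW hWT using hpt
  obtain ⟨t, ht⟩ := hV.1.elim_finite_subcover (fun x : V => ((W x : Opens X) : Set X))
    (fun x => (W x).2) (fun x hx => Set.mem_iUnion.2 ⟨⟨x, hx⟩, hxW ⟨x, hx⟩⟩)
  refine ⟨↥t, fun i => Over.mk (homOfLE (hWV i.1)), ⟨inferInstance, hV, fun i => hWc i.1, ?_⟩,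
    fun i => hWT i.1⟩
  intro x hx
  obtain ⟨i, hi, hxi⟩ := Set.mem_iUnion₂.1 (ht hx)
  exact Opens.mem_iSup.2 ⟨⟨i, hi⟩, hxi⟩

end

open CategoryTheory CategoryTheory.Limits AlgebraicGeometry in
/-- Let f : X → S be quasi-compact and quasi-separated. Then for every p the higher direct image functor
R^p f_* on abelian sheaves (on the underlying spaces) preserves filtered colimits. -/
theorem result {X S : Scheme.{u}} (f : X ⟶ S) [QuasiCompact f]
    [QuasiSeparated f] (p : ℕ) (J : Type u) [SmallCategory J] [IsFiltered J] :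
    PreservesColimitsOfShape J (Coh.RpushAb f p) := by
  constructor
  intro F
  show PreservesColimit F (CohTop.Rpush f.base p)
  apply Groth.Agent.S0855.result f.base F p
  refine TopologicalSpace.Opens.isBasis_iff_nbhd.2 ?_
  intro U x hx
  obtain ⟨_, ⟨V, hV, rfl⟩, hxV, hVU⟩ :=
    S.isBasis_affineOpens.exists_subset_of_mem_open hx U.2
  refine ⟨V, ?_, hxV, hVU⟩
  have hV' : IsAffineOpen V := hV
  have hB : (TopologicalSpace.Opens.map f.base).obj V ∈
      (B : Set (TopologicalSpace.Opens X.toTopCat)) :=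
    ⟨f.isCompact_preimage hV'.isCompact, f.isQuasiSeparated_preimage hV'.isQuasiSeparated⟩
  haveI : PrespectralSpace ↑X.toTopCat := inferInstanceAs (PrespectralSpace X)
  exact Groth.Agent.S0862.result (Opens.grothendieckTopology X.toTopCat)
    B Cov cov_h1 (fun W hW T hT => cov_h2 W hW T hT)
    ((TopologicalSpace.Opens.map f.base).obj V) hB p J F

end Groth.Agent.S0800
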