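import Groth.Statements.S0815
import Groth.Agent.Lib.Helper92.FaltingsCd

set_option autoImplicit false
universe u
open Formal2

namespace Groth.Agent.S0815

open Groth.Agent.Lib.Helper92 Groth.Agent.Lib.Helper92.ConnDimRing IsLocalRing
open Groth.Agent.Lib.Helper48 PrimeSpectrum

theorem not_add_one_le_add_one (x c : WithBot ℕ∞) (h : x < c) : ¬ (c + 1 ≤ x + 1) := by
  induction x using WithBot.recBotCoe with
  | bot =>
    intro hle
    rw [WithBot.bot_add, le_bot_iff, WithBot.add_eq_bot] at hle
    rcases hle with hle | hle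
    · rw [hle] at h; exact lt_irrefl _ h
    · exact absurd hle (by simp)
  | coe m =>
    induction c using WithBot.recBotCoe with
    | bot => exact absurd h (not_lt_bot)
    | coe n =>
      have h1 : m < n := by exact_mod_cast h
      intro hle
      have h2 : n + 1 ≤ m + 1 := by exact_mod_cast hle
      induction m using ENat.recTopCoe with
      | top => exact absurd h1 (not_top_lt)
      | coe m =>
        induction n using ENat.recTopCoe with
        | top =>
          have : (⊤ : ℕ∞) ≤ ((m + 1 : ℕ) : ℕ∞) := by simpa using h2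
          exact absurd this (by simp)
        | coe n =>
          have h1' : m < n := by exact_mod_cast h1
          have h2' : n + 1 ≤ m + 1 := by exact_mod_cast h2
          omega

theorem exists_subdim_eq (A : Type u) [CommRing A] [Nontrivial A] :
    ∃ p ∈ minimalPrimes A, LocCoh.subdim (PrimeSpectrum A) = ringKrullDim (A ⧸ p) := by
  unfold LocCoh.subdim
  rw [iInf_subtype']
  obtain ⟨m, hm⟩ := Ideal.exists_maximal A
  obtain ⟨p₀, hp₀, -⟩ := Ideal.exists_minimalPrimes_le (I := (⊥ : Ideal A)) (J := m) bot_le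
  haveI : Nonempty {C : Set (PrimeSpectrum A) // C ∈ irreducibleComponents (PrimeSpectrum A)} := by
    refine ⟨⟨zeroLocus (p₀ : Set A), ?_⟩⟩
    rw [← zeroLocus_minimalPrimes]
    exact ⟨p₀, hp₀, rfl⟩
  obtain ⟨⟨C, hC⟩, hCd⟩ := ciInf_mem
    (fun C : {C : Set (PrimeSpectrum A) // C ∈ irreducibleComponents (PrimeSpectrum A)} =>
      topologicalKrullDim (C : Set (PrimeSpectrum A)))
  rw [← zeroLocus_minimalPrimes] at hC
  obtain ⟨p, hp, rfl⟩ := hC
  refine ⟨p, hp, ?_⟩
  rw [← hCd]
  exact Groth.Agent.S11680.dim_zeroLocus A p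

open CategoryTheory AlgebraicGeometry in
/-- Let (A, 𝔪) be a complete Noetherian local ring, I a proper ideal, e a bound for the cohomological
dimension of I, and Z ⊆ V(I) a closed subset of Spec A. Assume that dim Z + e + 1 < dim A/𝔭 for
every minimal prime 𝔭 of A, and that dim Z + e < dim Z' for every closed subset Z' of Spec A whose
complement is not connected (the empty complement counts as not connected). Then V(I) ∖ Z is
connected, in particular nonempty. -/
theorem result (A : Type u) [CommRing A] [IsNoetherianRing A] [IsLocalRing A]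
    [IsAdicComplete (IsLocalRing.maximalIdeal A) A] (I : Ideal A) (hI : I ≠ ⊤) (e : ℕ) (he : LocCoh.CdLE A I e)
    (Z : Set (PrimeSpectrum A)) (hZ : IsClosed Z) (hZI : Z ⊆ PrimeSpectrum.zeroLocus (I : Set A))
    (hdim : ∀ p ∈ minimalPrimes A, topologicalKrullDim Z + ((e + 1 : ℕ) : WithBot ℕ∞) < ringKrullDim (A ⧸ p))
    (hc : ∀ Z' : Set (PrimeSpectrum A), IsClosed Z' → ¬ _root_.IsConnected Z'ᶜ →
      topologicalKrullDim Z + ((e : ℕ) : WithBot ℕ∞) < topologicalKrullDim Z') :
    _root_.IsConnected (PrimeSpectrum.zeroLocus (I : Set A) \ Z) := by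
  classical
  have hxc : topologicalKrullDim Z + ((e : ℕ) : WithBot ℕ∞) < LocCoh.connDim (PrimeSpectrum A) := by
    obtain ⟨Z', hZ'c, hZ'n, hZ'd⟩ := Groth.Agent.S11670.exists_candidate (PrimeSpectrum A)
    rw [hZ'd]
    exact hc Z' hZ'c hZ'n
  have hxs : topologicalKrullDim Z + ((e : ℕ) : WithBot ℕ∞) + 1 <
      LocCoh.subdim (PrimeSpectrum A) := by
    obtain ⟨p, hp, hpd⟩ := exists_subdim_eq A
    rw [hpd]
    have := hdim p hp
    rwa [Nat.cast_add, Nat.cast_one, ← add_assoc] at this
  have hmain := FaltingsCd.connDim_quotient_ge_of_cdLE A I hI e he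
  -- the embedding
  have hemb := isClosedEmbedding_comap_of_surjective (A ⧸ I) (Ideal.Quotient.mk I)
    Ideal.Quotient.mk_surjective
  have hrange := range_comap_of_surjective (A ⧸ I) (Ideal.Quotient.mk I)
    Ideal.Quotient.mk_surjective
  rw [Ideal.mk_ker] at hrange
  set φ : PrimeSpectrum (A ⧸ I) → PrimeSpectrum A := PrimeSpectrum.comap (Ideal.Quotient.mk I)
    with hφ
  set Z₀ : Set (PrimeSpectrum (A ⧸ I)) := φ ⁻¹' Z with hZ₀
  have hZ₀c : IsClosed Z₀ := hZ.preimage hemb.continuous
  have hsub : Z ⊆ Set.range φ := by rw [hrange]; exact hZI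
  have hdimZ : topologicalKrullDim Z₀ = topologicalKrullDim Z := by
    have e' := hemb.isEmbedding.homeomorphOfSubsetRange hsub
    exact IsHomeomorph.topologicalKrullDim_eq e' e'.isHomeomorph
  have hconn : IsConnected Z₀ᶜ := by
    by_contra hcon
    have h1 : LocCoh.connDim (PrimeSpectrum (A ⧸ I)) ≤ topologicalKrullDim Z := by
      rw [← hdimZ]
      exact connDim_le_of Z₀ hZ₀c hcon
    have h2 : min (LocCoh.connDim (PrimeSpectrum A) + 1) (LocCoh.subdim (PrimeSpectrum A)) ≤
        topologicalKrullDim Z + ((e : ℕ) : WithBot ℕ∞) + 1 :=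
      hmain.trans (add_le_add_left (add_le_add_left h1 _) _)
    rcases min_le_iff.1 h2 with h3 | h3
    · exact not_add_one_le_add_one _ _ hxc h3
    · exact absurd (lt_of_lt_of_le hxs h3) (lt_irrefl _)
  have himg : φ '' Z₀ᶜ = PrimeSpectrum.zeroLocus (I : Set A) \ Z := by
    rw [hZ₀, ← Set.preimage_compl, Set.image_preimage_eq_inter_range, hrange, Set.inter_comm]
    rfl
  rw [← himg]
  exact hconn.image φ hemb.continuous.continuousOn

end Groth.Agent.S0815
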