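import Groth.Statements.S0818
import Groth.Agent.Lib.Helper21.Devissage
import Groth.Agent.Lib.Helper21.IntegralSub

set_option autoImplicit false
universe u
open Coherent

namespace Groth.Agent.S0818

open CategoryTheory AlgebraicGeometry in
/-- Let X be a nonempty Noetherian scheme and P an isomorphism-invariant property of O_X-modules such
that (1) in every short exact sequence of coherent O_X-modules, if two of the three terms satisfy P
then so does the third, and (2) for every integral scheme Z and closed immersion i : Z → X, with ξ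
the generic point of Z, there is a coherent O_X-module G satisfying P whose support is exactly i(Z)
and whose stalk at i(ξ) is isomorphic, as a module over the local ring O_{X,i(ξ)}, to the residue
field of that local ring. Then every coherent O_X-module satisfies P. (The published statement
leaves the nonemptiness of X implicit; it is needed to handle the zero module and is assumed
explicitly here.) -/
theorem result (X : Scheme.{u}) [IsNoetherian X] [Nonempty X]
    (P : X.Modules → Prop) (hP : ∀ M N : X.Modules, Nonempty (M ≅ N) → P M → P N)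
    (h₁ : ∀ S : ShortComplex X.Modules, S.ShortExact → Coh.IsCoh S.X₁ → Coh.IsCoh S.X₂ → Coh.IsCoh S.X₃ →
      (P S.X₁ → P S.X₂ → P S.X₃) ∧ (P S.X₁ → P S.X₃ → P S.X₂) ∧ (P S.X₂ → P S.X₃ → P S.X₁))
    (h₂ : ∀ (Z : Scheme.{u}) (i : Z ⟶ X) [IsClosedImmersion i] [IsIntegral Z],
      ∃ G : X.Modules, Coh.IsCoh G ∧ CohB1.support G = Set.range ⇑i ∧
        Nonempty (↑(G.presheaf.stalk (i (genericPoint Z))) ≃ₗ[X.presheaf.stalk (i (genericPoint Z))]
          IsLocalRing.ResidueField (X.presheaf.stalk (i (genericPoint Z)))) ∧ P G)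
    (M : X.Modules) (hM : Coh.IsCoh M) : P M := by
  -- `P` holds for zero modules
  have hzero : ∀ M : X.Modules, CategoryTheory.Limits.IsZero M → P M := by
    intro M0 hM0
    obtain ⟨x⟩ := ‹Nonempty X›
    obtain ⟨Z, i, hcl, hint, -⟩ :=
      Groth.Agent.Lib.Helper21.IntegralSub.exists_integral_closedImmersion
        (closure {x}) isClosed_closure isIrreducible_singleton.closure
    obtain ⟨G, hG, -, -, hPG⟩ := h₂ Z i
    exact (h₁ _ (Groth.Agent.Lib.Helper21.Devissage.shortExact_id_zero G M0 hM0) hG hG
      (Groth.Agent.Lib.Helper21.Devissage.isCoh_of_isZero hM0)).1 hPG hPG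
  refine Groth.Agent.Lib.Helper21.Devissage.noetherian_induction Set.univ P hP hzero
    (fun S hS h1 h2 h3 _ p1 p3 => (h₁ S hS h1 h2 h3).2.1 p1 p3) ?_ M hM (Set.subset_univ _)
  intro Z₀ hZ₀ hirr _ IH F hF hFs
  obtain ⟨Z, i, hcl, hint, hrange⟩ :=
    Groth.Agent.Lib.Helper21.IntegralSub.exists_integral_closedImmersion Z₀ hZ₀ hirr
  obtain ⟨G, hG, hGs, ⟨e⟩, hPG⟩ := h₂ Z i
  have hξ : closure {i (genericPoint Z)} = Z₀ :=
    (Groth.Agent.Lib.Helper21.IntegralSub.closure_genericPoint_image i).trans hrange
  refine Groth.Agent.Lib.Helper21.Devissage.two_of_three_step Z₀ P hP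
    (fun S hS h1 h2 h3 _ => h₁ S hS h1 h2 h3) (i (genericPoint Z)) hξ ?_ G hG
    (by rw [hGs, hrange]) ?_ hPG F hF hFs
  · intro F' hF' hs' hnot
    refine IH F' hF' hs' (fun h => hnot ?_)
    rw [h, ← hξ]
    exact subset_closure rfl
  · exact IsSimpleModule.congr e

end Groth.Agent.S0818
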