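import Groth.Statements.S0819
import Groth.Agent.Lib.Helper21.ClImmDev

set_option autoImplicit false
universe u
open Coherent

namespace Groth.Agent.S0819

open CategoryTheory AlgebraicGeometry in
/-- Let X be a Noetherian scheme, Z₀ ⊆ X an irreducible closed subset with generic point ξ, and P an
isomorphism-invariant property of O_X-modules such that: (1) in every short exact sequence of
coherent modules supported in Z₀, P for two of the terms implies P for the third; (2) P holds for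
i_* I whenever i : Z → X is an integral closed subscheme with i(Z) a proper subset of Z₀ and I ⊆ O_Z
is a quasi-coherent ideal sheaf; (3) there is a coherent G with support exactly Z₀, stalk at ξ
isomorphic to the residue field over the local ring, and P(G). Then P holds for every coherent
module whose support is contained in Z₀. -/
theorem result (X : Scheme.{u}) [IsNoetherian X]
    (Z₀ : Set X) (hZ₀ : IsClosed Z₀) (hirr : IsIrreducible Z₀) (ξ : X) (hξ : ξ ∈ Z₀ ∧ closure {ξ} = Z₀)
    (P : X.Modules → Prop) (hP : ∀ M N : X.Modules, Nonempty (M ≅ N) → P M → P N)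
    (h₁ : ∀ S : ShortComplex X.Modules, S.ShortExact → Coh.IsCoh S.X₁ → Coh.IsCoh S.X₂ → Coh.IsCoh S.X₃ →
      CohB1.support S.X₂ ⊆ Z₀ →
      (P S.X₁ → P S.X₂ → P S.X₃) ∧ (P S.X₁ → P S.X₃ → P S.X₂) ∧ (P S.X₂ → P S.X₃ → P S.X₁))
    (h₂ : ∀ (Z : Scheme.{u}) (i : Z ⟶ X), IsClosedImmersion i → IsIntegral Z →
      Set.range ⇑i ⊆ Z₀ → Set.range ⇑i ≠ Z₀ →
      ∀ (I : Z.Modules) (ι : I ⟶ Coh.structureModule Z), Mono ι → Coh.IsQCoh I →
        P ((Coh.push i).obj I))
    (h₃ : ∃ G : X.Modules, Coh.IsCoh G ∧ CohB1.support G = Z₀ ∧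
      Nonempty (↑(G.presheaf.stalk ξ) ≃ₗ[X.presheaf.stalk ξ] IsLocalRing.ResidueField (X.presheaf.stalk ξ)) ∧ P G)
    (M : X.Modules) (hM : Coh.IsCoh M) (hsupp : CohB1.support M ⊆ Z₀) : P M := by
  obtain ⟨G, hG, hGs, ⟨e⟩, hPG⟩ := h₃
  -- `P` holds for zero modules
  have hzero : ∀ M0 : X.Modules, CategoryTheory.Limits.IsZero M0 → P M0 := by
    intro M0 hM0
    exact (h₁ _ (Groth.Agent.Lib.Helper21.Devissage.shortExact_id_zero G M0 hM0) hG hG
      (Groth.Agent.Lib.Helper21.Devissage.isCoh_of_isZero hM0) hGs.le).1 hPG hPG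
  refine Groth.Agent.Lib.Helper21.Devissage.two_of_three_step Z₀ P hP h₁ ξ hξ.2 ?_ G hG hGs.le
    (IsSimpleModule.congr e) hPG M hM hsupp
  intro F hF hFs hnot
  have hcl : IsClosed (CohB1.support F) :=
    Groth.Agent.Lib.Helper21.Devissage.isClosed_support_of_isCoh hF
  refine Groth.Agent.Lib.Helper21.ClImmDev.ext_devissage (CohB1.support F) P hP hzero
    (fun S hS h1 h2 h3 h4 p1 p3 => (h₁ S hS h1 h2 h3 (h4.trans hFs)).2.1 p1 p3) ?_ F hF le_rfl
  intro Z i hcli hint hr I ι hι hI
  refine h₂ Z i hcli hint (hr.trans hFs) (fun h => hnot ?_) I ι hι hI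
  apply hr
  rw [h]
  exact hξ.1

end Groth.Agent.S0819
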