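import Groth.Statements.S0825
import Groth.Agent.Lib.Helper92.LocCohDTExact

set_option autoImplicit false
universe u
open scoped BigOperators
open LocCoh

namespace Groth.Agent.S0825

open Groth.Agent.Lib.Helper92.IdealTransform Groth.Agent.Lib.Helper92.LC
open CategoryTheory CategoryTheory.Limits Opposite

variable {R : Type u} [CommRing R]

lemma exists_sum_of_cdLE [IsNoetherianRing R] (I : Ideal R) (hcd : LocCoh.CdLE R I 1)
    (r : ℕ) (a : Fin r → R) (ha : Ideal.span (Set.range a) = I) (y : LocCoh.DT I R) :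
    ∃ (n : ℕ) (g : Fin r → (↥(I ^ n) →ₗ[R] R)), y = mkL I R n (∑ j : Fin r, a j • g j) := by
  have haI : ∀ j, a j ∈ I := fun j => by rw [← ha]; exact Submodule.subset_span ⟨j, rfl⟩
  -- the surjection `π : R^r → I`
  let π : (Fin r → R) →ₗ[R] ↥I :=
    (Fintype.linearCombination R a).codRestrict I (fun v => by
      rw [Fintype.linearCombination_apply]
      exact Submodule.sum_mem _ fun j _ => Submodule.smul_mem _ _ (haI j))
  have hπ : Function.Surjective π := by
    rintro ⟨x, hx⟩
    have hx' : x ∈ Submodule.span R (Set.range a) := by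
      have : Ideal.span (Set.range a) = Submodule.span R (Set.range a) := rfl
      rw [← this, ha]; exact hx
    obtain ⟨v, hv⟩ := (Submodule.mem_span_range_iff_exists_fun R).1 hx'
    refine ⟨v, Subtype.ext ?_⟩
    change Fintype.linearCombination R a v = x
    rw [Fintype.linearCombination_apply]
    exact hv
  let S : ShortComplex (ModuleCat.{u} R) :=
    ModuleCat.shortComplexOfCompEqZero (LinearMap.ker π).subtype π (by
      apply LinearMap.ext
      intro x
      exact x.2)
  have hS : S.ShortExact :=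
    ModuleCat.shortComplex_shortExact _ (LinearMap.exact_subtype_ker_map π)
      (Submodule.subtype_injective _) hπ
  have hsurj : Function.Surjective ((idealTransform I).map S.g).hom :=
    DT_map_g_surjective I hS (hcd _ 2 (by omega))
  -- `D_I(I) → D_I(R)` is bijective
  have hbij : Function.Bijective (mapL I I.subtype) := by
    refine map_bijective_of_torsion I I.subtype ?_ ?_
    · rw [Submodule.ker_subtype]; exact bot_le
    · intro z
      obtain ⟨x, rfl⟩ := Submodule.Quotient.mk_surjective _ z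
      refine ⟨1, fun b hb => ?_⟩
      rw [← Submodule.Quotient.mk_smul, Submodule.Quotient.mk_eq_zero]
      rw [pow_one] at hb
      exact ⟨⟨b • x, I.mul_mem_right x hb⟩, rfl⟩
  obtain ⟨y', rfl⟩ := hbij.2 y
  obtain ⟨z, rfl⟩ := hsurj y'
  obtain ⟨n, G, rfl⟩ := exists_repL I (Fin r → R) z
  have e1 : ((idealTransform I).map S.g).hom (mkL I (Fin r → R) n G) = mkL I I n (π ∘ₗ G) :=
    map_mkL I (Fin r → R) π n G
  rw [e1]
  unfold mapL
  rw [map_mkL]
  have e2 : I.subtype ∘ₗ π ∘ₗ G = ∑ j : Fin r, a j • (LinearMap.proj j ∘ₗ G) := by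
    ext x
    simp only [LinearMap.comp_apply, LinearMap.sum_apply, LinearMap.smul_apply, LinearMap.proj_apply]
    change Fintype.linearCombination R a (G x) = _
    rw [Fintype.linearCombination_apply]
    simp [mul_comm]
  rw [e2]
  exact ⟨n, fun j => LinearMap.proj j ∘ₗ G, rfl⟩


/-- Let A be a Noetherian ring and I the ideal generated by f_1, …, f_r, with cohomological dimension
exactly 1. Then there are c ≥ 1 and A-linear maps φ_j : I^c → A such that x = Σ_j f_j φ_j(x) for
every x ∈ I^c. -/
theorem result (A : Type u) [CommRing A] [IsNoetherianRing A] (r : ℕ) (f : Fin r → A)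
    (h₁ : LocCoh.CdLE A (Ideal.span (Set.range f)) 1) (h₀ : ¬ LocCoh.CdLE A (Ideal.span (Set.range f)) 0) :
    ∃ (c : ℕ) (φ : Fin r → (↥(Ideal.span (Set.range f) ^ (c + 1)) →ₗ[A] A)),
      ∀ x : ↥(Ideal.span (Set.range f) ^ (c + 1)), (x : A) = ∑ j, f j * φ j x := by
  obtain ⟨n, g, hg⟩ := exists_sum_of_cdLE (Ideal.span (Set.range f)) h₁ r f rfl
    (toDT (Ideal.span (Set.range f)) A (1 : A))
  rw [toDT_eq (Ideal.span (Set.range f)) A 1 n, mkL_eq_mkL_iff] at hg
  obtain ⟨m, hm1, hm2, hres⟩ := hg
  have hmc : n ≤ m + 1 := hm1.trans (Nat.le_succ m)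
  refine ⟨m, fun j => res (Ideal.span (Set.range f)) A hmc (g j), ?_⟩
  intro x
  have hx' : (x : A) ∈ Ideal.span (Set.range f) ^ m := Ideal.pow_le_pow_right (Nat.le_succ m) x.2
  have := LinearMap.congr_fun hres ⟨x.1, hx'⟩
  simp only [res_apply, smulMap_apply, smul_eq_mul, mul_one, LinearMap.sum_apply,
    LinearMap.smul_apply] at this
  rw [this]
  rfl

end Groth.Agent.S0825
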