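import Groth.Statements.S0826
import Groth.Agent.Lib.Helper53.SchemeTower

set_option autoImplicit false
universe u
open Formal2

namespace Groth.Agent.S0826

open CategoryTheory CategoryTheory.Limits AlgebraicGeometry in
/-- Part (2), for the ideal sheaf generated by an ideal I of a base ring A. Let X be a scheme over Spec
A and (G_n) an inverse system of quasi-coherent O_X-modules with G_n killed by I^(n+1) and G_n =
G_{n+1}/I^(n+1)G_{n+1} (indices shifted by one). Then the limit O_X-module lim G_n has vanishing
cohomology in positive degrees over every affine open of X. -/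
theorem result (A : Type u) [CommRing A] (I : Ideal A) (X : Scheme.{u})
    [X.Over (Spec (CommRingCat.of A))] (G : ℕᵒᵖ ⥤ X.Modules) (hG : Formal2.IsQCohFormal I G)
    (U : X.Opens) (hU : IsAffineOpen U) (p : ℕ) (hp : 0 < p) :
    Subsingleton (Coh.HHon X (limit G) U p) := by
  obtain ⟨hq, -, hcok⟩ := hG
  let G' : ℕᵒᵖ ⥤ SheafOfModules.{u} X.ringCatSheaf := G
  have hepi : ∀ n, Epi (G'.map (homOfLE (Nat.le_succ n)).op) := by
    intro n
    obtain ⟨h, hiso⟩ := hcok n
    have h1 : cokernel.π (Formal.smulFamily (I ^ (n + 1)) (G.obj (Opposite.op (n + 1)))) ≫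
        cokernel.desc _ _ h = G.map (homOfLE (Nat.le_succ n)).op := cokernel.π_desc _ _ h
    have h2 : Epi (G.map (homOfLE (Nat.le_succ n)).op) := by
      rw [← h1]
      have hE : Epi (cokernel.desc _ _ h) := @IsIso.epi_of_iso _ _ _ _ _ hiso
      have hP : Epi (cokernel.π (Formal.smulFamily (I ^ (n + 1))
          (G.obj (Opposite.op (n + 1))))) := coequalizer.π_epi
      exact @epi_comp _ _ _ _ _ _ hP _ hE
    exact h2
  exact Groth.Agent.Lib.Helper53.SchemeTower.subsingleton_HHon_limit G' (fun n => hq n) hepi U hU p hp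

end Groth.Agent.S0826
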