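import Groth.Statements.S0828
import Groth.Agent.Lib.Helper15.RegCMFree

set_option autoImplicit false
universe u
open Coherent

namespace Groth.Agent.S0828

open CategoryTheory AlgebraicGeometry in
/-- Let X be a regular scheme (locally Noetherian with regular local rings) and F a coherent O_X-module.
Then F has support all of X and Cohen–Macaulay stalks if and only if F is finite locally free of
positive rank near every point. -/
theorem result (X : Scheme.{u}) [IsLocallyNoetherian X]
    (hreg : ∀ x : X, IsRegularLocalRing (X.presheaf.stalk x)) (F : X.Modules) (hF : Coh.IsCoh F) :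
    (CohB1.support F = Set.univ ∧
        ∀ x : X, LocCoh.IsCohenMacaulayModule (X.presheaf.stalk x) ↑(F.presheaf.stalk x)) ↔
      ∀ x : X, ∃ (U : X.Opens) (n : ℕ), x ∈ U ∧ 0 < n ∧
        Nonempty (F.restrict U.ι ≅ FlatMod.freeMod (↑U) n) := by
  haveI : F.IsQuasicoherent := hF.1
  haveI hft : SheafOfModules.IsFiniteType (R := X.ringCatSheaf) F := hF.2
  constructor
  · rintro ⟨hsupp, hCM⟩ x
    haveI : IsRegularLocalRing (X.presheaf.stalk x) := hreg x
    haveI := Groth.Agent.Lib.Helper64.FinTypeStalk.finite_stalk F hF.2 x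
    have hne : ¬ Subsingleton (F.presheaf.stalk x) := by
      have : x ∈ CohB1.support F := by rw [hsupp]; trivial
      exact this
    haveI : Nontrivial (F.presheaf.stalk x) := not_subsingleton_iff_nontrivial.1 hne
    have hfree : Module.Free (X.presheaf.stalk x) (F.presheaf.stalk x) :=
      Groth.Agent.Lib.Helper15.RegCMFree.free_of_cm _ _
        (Groth.Agent.Lib.Helper15.RegCMFree.support_stalk_eq_univ F hsupp x) (hCM x)
    obtain ⟨U, hU, hxU, -⟩ := exists_isAffineOpen_mem_and_subset (U := (⊤ : X.Opens))
      (x := x) trivial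
    haveI : IsNoetherianRing Γ(X, U) := IsLocallyNoetherian.component_noetherian ⟨U, hU⟩
    haveI : Module.Finite Γ(X, U) Γ(F, U) :=
      Groth.Agent.Lib.Helper2.FinTypeAff.finite_sections F hU
    haveI : Module.FinitePresentation Γ(X, U) Γ(F, U) := Module.finitePresentation_of_finite _ _
    obtain ⟨V, n, hxV, hiso⟩ :=
      Groth.Agent.Lib.Helper22.FibreFree.exists_open_iso_freeMod_of_stalk_free' F hU x hxU hfree
    refine ⟨V, n, hxV, ?_, hiso⟩
    by_contra h0
    have hn : n = 0 := by omega
    subst hn
    exact hne (Groth.Agent.Lib.Helper15.RegCMFree.subsingleton_stalk_of_iso_freeMod_zero F x hxV hiso)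
  · intro h
    have hne : ∀ x : X, ¬ Subsingleton (F.presheaf.stalk x) := by
      intro x
      obtain ⟨U, n, hxU, hn, hiso⟩ := h x
      exact Groth.Agent.Lib.Helper15.RegCMFree.nontrivial_stalk_of_iso_freeMod_pos F x hxU hn hiso
    refine ⟨Set.eq_univ_iff_forall.2 fun x => hne x, fun x => ?_⟩
    obtain ⟨U, n, hxU, hn, hiso⟩ := h x
    haveI : IsRegularLocalRing (X.presheaf.stalk x) := hreg x
    haveI := Groth.Agent.Lib.Helper64.FinTypeStalk.finite_stalk F hF.2 x
    haveI : Nontrivial (F.presheaf.stalk x) := not_subsingleton_iff_nontrivial.1 (hne x)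
    haveI : Module.Free (X.presheaf.stalk x) (F.presheaf.stalk x) :=
      Groth.Agent.Lib.Helper22.FibreFree.free_stalk_of_iso_freeMod F x hxU hiso
    exact Groth.Agent.Lib.Helper15.RegCMFree.cm_of_free _ _

end Groth.Agent.S0828
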