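import Groth.Statements.S0852
import Groth.Agent.Lib.Helper40.AdicSys
import Groth.Agent.Lib.Helper40.PushColim
import Groth.Agent.Lib.Helper40.QCohCoprod
import Groth.Agent.Lib.Helper42.CechRes1
import Groth.Agent.Lib.Helper21.QCohSections
import Groth.Agent.Lib.Helper21.QCohKernel
import Groth.Agent.Lib.Helper55.CohFormal
import Groth.Agent.Lib.Helper48.Conormal1

set_option autoImplicit false
universe u
open Formal2

namespace Groth.Agent.S0852

open CategoryTheory CategoryTheory.Limits AlgebraicGeometry Opposite TopologicalSpace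
open Groth.Agent.Lib.Helper40
open Groth.Agent.Lib.Helper40.PushColim (secF preservesColimit_secF)

variable {A : Type u} [CommRing A] {X : Scheme.{u}} [X.Over (Spec (CommRingCat.of A))]

/-- the ring map `A → Γ(X,U)` -/
noncomputable def ρ (U : X.Opens) : A →+* Γ(X, U) :=
  RingHom.comp (show Coh.Γtop X →+* Γ(X, U) from Coh.resTop X (op U))
    (Coh.toGlobal (X ↘ Spec (CommRingCat.of A)))

/-- the `A`-module structure on sections -/
@[reducible] noncomputable def modA (M : X.Modules) (U : X.Opens) : Module A (Γ(M, U)) :=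
  Module.compHom _ (ρ (A := A) U)

theorem smulMod_app (M : X.Modules) (a : A) (U : X.Opens) (x : Γ(M, U)) :
    (Formal.smulMod A M a).app U x = (ρ U a) • x := rfl

theorem smulFamily_ι_app (J : Ideal A) (M : X.Modules) (a : J) (U : X.Opens) (x : Γ(M, U)) :
    (Formal.smulFamily J M).app U ((Sigma.ι (fun _ : J => M) a).app U x) = (ρ U (a : A)) • x := by
  have h : Sigma.ι (fun _ : J => M) a ≫ Formal.smulFamily J M = Formal.smulMod A M (a : A) := by
    simp [Formal.smulFamily]
  rw [← smulMod_app, ← h]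
  rfl

/-- legs of a cocone in `Ab` as additive maps -/
def leg {J : Type u} [SmallCategory J] {K : J ⥤ Ab.{u}} (c : Cocone K) (j : J) : K.obj j →+ c.pt :=
  (c.ι.app j).hom

/-- a colimit cocone in `Ab` is generated by the images of its legs -/
theorem mem_closure_of_isColimit {J : Type u} [SmallCategory J] {K : J ⥤ Ab.{u}} (c : Cocone K)
    (hc : IsColimit c) (x : c.pt) :
    x ∈ AddSubgroup.closure (⋃ j, Set.range (leg c j)) := by
  set H := AddSubgroup.closure (⋃ j, Set.range (leg c j)) with hH
  let q : c.pt ⟶ AddCommGrpCat.of (c.pt ⧸ H) := AddCommGrpCat.ofHom (QuotientAddGroup.mk' H)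
  have hq : q = 0 := by
    apply hc.hom_ext
    intro j
    rw [comp_zero]
    ext y
    change QuotientAddGroup.mk' H (c.ι.app j y) = 0
    rw [QuotientAddGroup.mk'_apply, QuotientAddGroup.eq_zero_iff]
    exact AddSubgroup.subset_closure (Set.mem_iUnion.mpr ⟨j, ⟨y, rfl⟩⟩)
  have := ConcreteCategory.congr_hom hq x
  change QuotientAddGroup.mk' H x = 0 at this
  rwa [QuotientAddGroup.mk'_apply, QuotientAddGroup.eq_zero_iff] at this

open Groth.Agent.Lib.Helper21.QCohSections (app_surjective_of_epi sections_exact)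

/-- sections of the kernel of the cokernel map: `ker(t_U) ⊆ J • Γ(G',U)` -/
theorem ker_le (J : Ideal A) {G' G'' : X.Modules} [G'.IsQuasicoherent] [G''.IsQuasicoherent]
    (t : G' ⟶ G'') (h : Formal.smulFamily J G' ≫ t = 0) (hiso : IsIso (cokernel.desc _ _ h))
    {U : X.Opens} (hU : IsAffineOpen U) (x : Γ(G', U)) (hx : t.app U x = 0) :
    letI := modA (A := A) G' U
    x ∈ J • (⊤ : Submodule A (Γ(G', U))) := by
  letI := modA (A := A) G' U
  -- t is epi
  have hepi : Epi t := by
    have : cokernel.π (Formal.smulFamily J G') ≫ cokernel.desc _ _ h = t := cokernel.π_desc _ _ _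
    rw [← this]; infer_instance
  let S : ShortComplex X.Modules := ShortComplex.mk _ _ h
  have hS : S.Exact := (ShortComplex.exact_iff_mono_cokernel_desc S).mpr
    (inferInstanceAs (Mono (cokernel.desc _ _ h)))
  have hlift : Epi (kernel.lift S.g S.f S.zero) := (ShortComplex.exact_iff_epi_kernel_lift S).mp hS
  haveI : (∐ fun _ : J => G').IsQuasicoherent := QCohCoprod.isQuasicoherent_sigma _
  haveI : (kernel t).IsQuasicoherent := Groth.Agent.Lib.Helper21.QCohKernel.isQuasicoherent_kernel t
  have hsurj : Function.Surjective ((kernel.lift t (Formal.smulFamily J G') h).app U) :=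
    app_surjective_of_epi (kernel.lift t (Formal.smulFamily J G') h) hU
  -- kernel sections
  let E : ShortComplex X.Modules := ShortComplex.mk (kernel.ι t) t (kernel.condition t)
  have hE : E.ShortExact := by
    refine ShortComplex.ShortExact.mk' ?_ (inferInstanceAs (Mono (kernel.ι t))) hepi
    exact ShortComplex.exact_of_f_is_kernel E (kernelIsKernel t)
  obtain ⟨k, hk⟩ := (sections_exact E hE U x).mp hx
  obtain ⟨z, hz⟩ := hsurj k
  have hxz : x = (Formal.smulFamily J G').app U z := by
    rw [← hk, ← hz]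
    have : kernel.lift t (Formal.smulFamily J G') h ≫ kernel.ι t = Formal.smulFamily J G' :=
      kernel.lift_ι _ _ _
    exact (congrArg (fun φ => (Scheme.Modules.Hom.app φ U) z) this)
  rw [hxz]
  -- z is in the closure of the images of the legs
  haveI := preservesColimit_secF hU (Discrete.functor fun _ : J => G')
    (fun _ => inferInstanceAs (G'.IsQuasicoherent))
  have hc := isColimitOfPreserves (secF U) (colimit.isColimit (Discrete.functor fun _ : J => G'))
  have hz' := mem_closure_of_isColimit _ hc z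
  refine AddSubgroup.closure_induction (p := fun z _ =>
      (Formal.smulFamily J G').app U z ∈ J • (⊤ : Submodule A (Γ(G', U)))) ?_ ?_ ?_ ?_ hz'
  · intro w hw
    obtain ⟨⟨a⟩, y, rfl⟩ := Set.mem_iUnion.mp hw
    have := smulFamily_ι_app J G' a U y
    change (Formal.smulFamily J G').app U ((Sigma.ι (fun _ : J => G') a).app U y) ∈ _
    rw [this]
    exact Submodule.smul_mem_smul (N := (⊤ : Submodule A (Γ(G', U)))) a.2
      (@Submodule.mem_top A (Γ(G', U)) _ _ _ y)
  · rw [map_zero]; exact Submodule.zero_mem _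
  · intro a b _ _ ha hb
    rw [map_add]; exact Submodule.add_mem _ ha hb
  · intro a _ ha
    rw [map_neg]; exact Submodule.neg_mem _ ha

section Lim
variable (G : ℕᵒᵖ ⥤ X.Modules) (U : X.Opens)

instance : PreservesLimitsOfSize.{u, u} (secF U) := by
  unfold secF
  haveI : PreservesLimitsOfSize.{u, u} ((evaluation (Opens ↥X)ᵒᵖ Ab.{u}).obj (op U)) :=
    inferInstance
  exact comp_preservesLimits _ _

instance : PreservesLimitsOfSize.{0, 0} (secF U) :=
  preservesSmallestLimits_of_preservesLimits.{u, u} (secF U)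

theorem hom_eq {j j' : ℕᵒᵖ} (f : j ⟶ j') : f = (homOfLE (leOfHom f.unop)).op := by
  apply Quiver.Hom.unop_inj; exact Subsingleton.elim _ _

theorem lim_ext (x y : Γ(limit G, U))
    (h : ∀ m, (limit.π G (op m)).app U x = (limit.π G (op m)).app U y) : x = y := by
  have hc := isLimitOfPreserves (secF U) (limit.isLimit G)
  exact Concrete.isLimit_ext _ hc x y (fun j => h j.unop)

theorem lim_exists (x : ∀ m, Γ(G.obj (op m), U))
    (hx : ∀ m k (h : m ≤ k), (G.map (homOfLE h).op).app U (x k) = x m) :
    ∃ z : Γ(limit G, U), ∀ m, (limit.π G (op m)).app U z = x m := by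
  have hc := isLimitOfPreserves (secF U) (limit.isLimit G)
  have hc' := isLimitOfPreserves (forget Ab.{u}) hc
  let e := Types.isLimitEquivSections hc'
  let sec : ((G ⋙ secF U) ⋙ forget Ab.{u}).sections := ⟨fun j => x j.unop, by
    intro j j' f
    have := hx j'.unop j.unop (leOfHom f.unop)
    rw [hom_eq f]
    exact this⟩
  refine ⟨e.symm sec, fun m => ?_⟩
  exact Types.isLimitEquivSections_symm_apply hc' sec (op m)

end Lim


/-- sections of the system as `A`-modules -/
def Sec (G : ℕᵒᵖ ⥤ X.Modules) (U : X.Opens) (m : ℕ) : Type u := Γ(G.obj (op m), U)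

noncomputable instance (G : ℕᵒᵖ ⥤ X.Modules) (U : X.Opens) (m : ℕ) : AddCommGroup (Sec G U m) :=
  inferInstanceAs (AddCommGroup Γ(G.obj (op m), U))

noncomputable instance (G : ℕᵒᵖ ⥤ X.Modules) (U : X.Opens) (m : ℕ) : Module A (Sec G U m) :=
  modA (A := A) (G.obj (op m)) U

/-- transition maps on sections -/
noncomputable def trL (G : ℕᵒᵖ ⥤ X.Modules) (U : X.Opens) (m k : ℕ) (h : m ≤ k) :
    Sec G U k →ₗ[A] Sec G U m where
  toFun x := (G.map (homOfLE h).op).app U x
  map_add' x y := map_add _ x y
  map_smul' a x := Scheme.Modules.Hom.app_smul (G.map (homOfLE h).op) (ρ U a) x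

theorem trL_id (G : ℕᵒᵖ ⥤ X.Modules) (U : X.Opens) (m : ℕ) (x : Sec G U m) :
    trL (A := A) G U m m le_rfl x = x := by
  change (G.map (homOfLE le_rfl).op).app U x = x
  have : (homOfLE (le_refl m)).op = 𝟙 (op m) := rfl
  rw [this, G.map_id]
  rfl

theorem trL_comp (G : ℕᵒᵖ ⥤ X.Modules) (U : X.Opens) (m k l : ℕ) (h1 : m ≤ k) (h2 : k ≤ l)
    (x : Sec G U l) :
    trL (A := A) G U m k h1 (trL (A := A) G U k l h2 x) = trL (A := A) G U m l (h1.trans h2) x := by
  change (G.map (homOfLE h1).op).app U ((G.map (homOfLE h2).op).app U x) =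
    (G.map (homOfLE (h1.trans h2)).op).app U x
  have : (homOfLE (h1.trans h2)).op = (homOfLE h2).op ≫ (homOfLE h1).op := rfl
  rw [this, G.map_comp]
  rfl

open CategoryTheory CategoryTheory.Limits AlgebraicGeometry Opposite in
/-- Part (4), for the ideal sheaf generated by a finitely generated ideal I of a base ring A. Let X be a
scheme over Spec A and (G_n) an inverse system of quasi-coherent O_X-modules with G_n killed by
I^(n+1) and G_n = G_{n+1}/I^(n+1)G_{n+1} (indices shifted by one), and let F = lim G_n in the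
category of O_X-modules. Then each projection F → G_n identifies G_n with F/I^(n+1)F. -/
theorem result (A : Type u) [CommRing A] (I : Ideal A) (hI : I.FG) (X : Scheme.{u})
    [X.Over (Spec (CommRingCat.of A))] (G : ℕᵒᵖ ⥤ X.Modules) (hG : Formal2.IsQCohFormal I G) (n : ℕ) :
    ∃ h : Formal.smulFamily (I ^ (n + 1)) (limit G) ≫ limit.π G (op n) = 0,
      IsIso (cokernel.desc _ _ h) := by
  obtain ⟨hqc, hkill, hcok⟩ := hG
  haveI : ∀ m, (G.obj (op m)).IsQuasicoherent := hqc
  have h : Formal.smulFamily (I ^ (n + 1)) (limit G) ≫ limit.π G (op n) = 0 :=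
    Groth.Agent.Lib.Helper55.CohFormal.smulFamily_comp_eq_zero (hkill n) _
  refine ⟨h, ?_⟩
  have hsurj : ∀ (U : X.Opens), IsAffineOpen U → ∀ m,
      Function.Surjective (trL (A := A) G U m (m + 1) (Nat.le_succ m)) := by
    intro U hU m
    obtain ⟨h0, hiso⟩ := hcok m
    have hepi : Epi (G.map (homOfLE (Nat.le_succ m)).op) := by
      have : cokernel.π _ ≫ cokernel.desc _ _ h0 = G.map (homOfLE (Nat.le_succ m)).op :=
        cokernel.π_desc _ _ _
      rw [← this]
      haveI hE : Epi (cokernel.desc _ _ h0) := @IsIso.epi_of_iso _ _ _ _ _ hiso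
      exact epi_comp _ _
    exact app_surjective_of_epi (G.map (homOfLE (Nat.le_succ m)).op) hU
  have hker : ∀ (U : X.Opens), IsAffineOpen U → ∀ m (x : Sec G U (m + 1)),
      trL (A := A) G U m (m + 1) (Nat.le_succ m) x = 0 →
        x ∈ I ^ (m + 1) • (⊤ : Submodule A (Sec G U (m + 1))) := by
    intro U hU m x hx
    obtain ⟨h0, hiso⟩ := hcok m
    exact ker_le (I ^ (m + 1)) _ h0 hiso hU x hx
  have hkl : ∀ (U : X.Opens) m, ∀ a ∈ I ^ (m + 1), ∀ x : Sec G U m, a • x = 0 := by
    intro U m a ha x
    have := hkill m a ha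
    have hx' : ∀ y : Γ(G.obj (op m), U), (ρ U a) • y = 0 := fun y => by
      rw [← smulMod_app, this]; rfl
    exact hx' x
  have hepi : Epi (limit.π G (op n)) := by
    apply Groth.Agent.Lib.Helper48.Conormal.epi_of_locally_surjective
    intro U t x hx
    obtain ⟨_, ⟨W, hW, rfl⟩, hxW, hWU⟩ :=
      X.isBasis_affineOpens.exists_subset_of_mem_open hx U.2
    refine ⟨W, hWU, hxW, ?_⟩
    obtain ⟨fam, hfam, hfn⟩ := AdicSys.exists_family (tr := trL (A := A) G W) (trL_id G W)
      (trL_comp G W) (hsurj W hW) n ((G.obj (op n)).presheaf.map (homOfLE hWU).op t)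
    obtain ⟨z, hz⟩ := lim_exists G W fam hfam
    exact ⟨z, (hz n).trans hfn⟩
  have hexact : (ShortComplex.mk _ _ h).Exact := by
    apply Groth.Agent.Lib.Helper42.CechRes1.exact_of_basis _ {V | IsAffineOpen V}
    · intro x W hx
      obtain ⟨_, ⟨V, hV, rfl⟩, hxV, hVW⟩ :=
        X.isBasis_affineOpens.exists_subset_of_mem_open hx W.2
      exact ⟨V, hV, hxV, hVW⟩
    · intro V hV z hz
      let xf : ∀ m, Sec G V m := fun m => (limit.π G (op m)).app V z
      have hxf : ∀ m k (hmk : m ≤ k), trL (A := A) G V m k hmk (xf k) = xf m := by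
        intro m k hmk
        have := limit.w G (homOfLE hmk).op
        exact congrArg (fun φ => (Scheme.Modules.Hom.app φ V) z) this
      obtain ⟨r, g, Y, hg, hY, hsum⟩ := AdicSys.exists_decomp I (trL_comp G V) (hsurj V hV)
        (hkl V) (hker V hV) hI n xf hxf hz
      choose Z hZ using fun j => lim_exists G V (Y j) (hY j)
      refine ⟨∑ j, (Sigma.ι (fun _ : ↥(I ^ (n + 1)) => limit G) ⟨g j, hg j⟩).app V (Z j), ?_⟩
      rw [map_sum]
      apply lim_ext
      intro m
      rw [map_sum]
      simp only [smulFamily_ι_app]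
      have : ∀ j, (limit.π G (op m)).app V (ρ V (g j) • Z j) = g j • Y j m := by
        intro j
        rw [Scheme.Modules.Hom.app_smul, hZ]; rfl
      simp only [this]
      exact (hsum m).symm
  have hmono : Mono (cokernel.desc _ _ h) :=
    (ShortComplex.exact_iff_mono_cokernel_desc _).mp hexact
  have hepi' : Epi (cokernel.desc _ _ h) := epi_of_epi_fac (cokernel.π_desc _ _ h)
  exact isIso_of_mono_of_epi _

end Groth.Agent.S0852
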