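import Groth.Statements.S0833
import Groth.Agent.Lib.Helper69.ARHomU
import Groth.Agent.Lib.Helper66.ARHomE
import Groth.Agent.Lib.Helper14.LogSub
import Groth.Agent.Lib.Helper40.FormalRestrict
import Groth.Agent.S0852
import Groth.Agent.Lib.Lead.CohAff3
import Groth.Agent.Lib.Helper21.QCohSections

set_option autoImplicit false
universe u
open Formal2

namespace Groth.Agent.S0833

open CategoryTheory CategoryTheory.Limits AlgebraicGeometry Opposite TopologicalSpace
open Groth.Agent.S0852 (ρ modA smulMod_app ker_le)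
open Groth.Agent.Lib.Helper40.FormalRestrict
open Groth.Agent.Lib.Helper21.QCohSections (appL appL_apply app_surjective_of_epi)

section Aux
variable {A : Type u} [CommRing A] {X : Scheme.{u}} [X.Over (Spec (CommRingCat.of A))]

theorem hom_app_map {M N : X.Modules} (φ : M ⟶ N) {U V : X.Opens} (h : V ≤ U) (s : Γ(M, U)) :
    φ.app V (M.presheaf.map (homOfLE h).op s) = N.presheaf.map (homOfLE h).op (φ.app U s) :=
  congr($((Scheme.Modules.Hom.mapPresheaf φ).naturality (homOfLE h).op) s)

theorem map_ρ {U V : X.Opens} (i : V ≤ U) (a : A) :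
    X.presheaf.map (homOfLE i).op (ρ (A := A) U a) = ρ (A := A) V a :=
  Coh.resTop_comp (op U) (op V) (homOfLE i).op _

theorem smul_eq_zero_of_mem_map {M : X.Modules} (K : Ideal A) (hK : Formal.KilledBy K M)
    (U : X.Opens) (a : Γ(X, U)) (ha : a ∈ K.map (ρ (A := A) U)) (m : Γ(M, U)) : a • m = 0 := by
  have h : K.map (ρ (A := A) U) ≤ Module.annihilator Γ(X, U) Γ(M, U) := by
    rw [Ideal.map_le_iff_le_comap]
    intro a' ha'
    rw [Ideal.mem_comap, Module.mem_annihilator]
    intro m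
    rw [← smulMod_app, hK a' ha']
    rfl
  exact Module.mem_annihilator.mp (h ha) m

theorem mem_map_smul_top {M : X.Modules} (K : Ideal A) (U : X.Opens) (y : Γ(M, U))
    (hy : letI := modA (A := A) M U; y ∈ K • (⊤ : Submodule A (Γ(M, U)))) :
    y ∈ (K.map (ρ (A := A) U)) • (⊤ : Submodule Γ(X, U) Γ(M, U)) := by
  letI := modA (A := A) M U
  refine Submodule.smul_induction_on hy ?_ ?_
  · intro a ha x _
    exact Submodule.smul_mem_smul (Ideal.mem_map_of_mem _ ha) Submodule.mem_top
  · intro x y hx hy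
    exact add_mem hx hy

end Aux

section Main
open Groth.Agent.Lib.Helper40.FormalUP Groth.Agent.Lib.Helper69.ARHomU Groth.Agent.Lib.Helper66.ARHomE

variable {A : Type u} [CommRing A] (I : Ideal A) {X : Scheme.{u}} [X.Over (Spec (CommRingCat.of A))]
  [IsNoetherian X] (F G : X.Modules)

theorem hker_U (hG : Coh.IsCoh G) {U : X.Opens} (hU : IsAffineOpen U) (n : ℕ) (y : Γ(G, U))
    (hy : (Formal.modPowπ I (n + 1) G).app U y = 0) :
    y ∈ (I.map (ρ (A := A) U)) ^ (n + 1) • (⊤ : Submodule Γ(X, U) Γ(G, U)) := by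
  haveI : G.IsQuasicoherent := hG.1
  haveI : (Formal.modPow I (n + 1) G).IsQuasicoherent := (isCoh_modPow I (n + 1) G hG).1
  obtain ⟨h, hiso⟩ := (isQuot_iff _ _).mp (isQuot_π (I ^ (n + 1)) G)
  have h1 := ker_le (I ^ (n + 1)) (Formal.modPowπ I (n + 1) G) h hiso hU y hy
  have h2 := mem_map_smul_top (I ^ (n + 1)) U y h1
  rwa [Ideal.map_pow] at h2

theorem killed_U (M : X.Modules) (c : ℕ) (hM : Formal.KilledBy (I ^ c) M) (U : X.Opens)
    (a : Γ(X, U)) (ha : a ∈ (I.map (ρ (A := A) U)) ^ c) (m : Γ(M, U)) : a • m = 0 := by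
  rw [← Ideal.map_pow] at ha
  exact smul_eq_zero_of_mem_map (I ^ c) hM U a ha m

variable (hF : Coh.IsCoh F) (hG : Coh.IsCoh G) (c : ℕ)
  (hc : Formal.KilledBy (I ^ c) F ∨ Formal.KilledBy (I ^ c) G)
  (β : ∀ n, F ⟶ Formal.modPow I (n + 1) G)
  (hβ : ∀ n, β (n + 1) ≫ Formal.modPowTrans I (n + 1) G = β n)

include hG hc hβ in
theorem exists_local {U : X.Opens} (hU : IsAffineOpen U) :
    ∃ φ : Γ(F, U) →ₗ[Γ(X, U)] Γ(G, U), ∀ (n : ℕ) (m : Γ(F, U)),
      (Formal.modPowπ I (n + 1) G).app U (φ m) = (β n).app U m := by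
  haveI : IsNoetherianRing Γ(X, U) := IsLocallyNoetherian.component_noetherian ⟨U, hU⟩
  haveI : G.IsQuasicoherent := hG.1
  haveI : Module.Finite Γ(X, U) Γ(G, U) :=
    Groth.Agent.Lib.Lead.CohAff.finite_sections_of_isFiniteType G hG.2 hU
  refine exists_lift (I.map (ρ (A := A) U)) (fun n => Γ(Formal.modPow I (n + 1) G, U))
    (fun n => appL (Formal.modPowπ I (n + 1) G) U) ?_ ?_ ?_
    (fun n => appL (Formal.modPowTrans I (n + 1) G) U) ?_
    (fun n => appL (β n) U) ?_ c ?_
  · intro n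
    haveI : (Formal.modPow I (n + 1) G).IsQuasicoherent := (isCoh_modPow I (n + 1) G hG).1
    exact app_surjective_of_epi (Formal.modPowπ I (n + 1) G) hU
  · intro n y hy
    exact hker_U I G hG hU n y hy
  · intro n a ha q
    exact killed_U I _ (n + 1) (killedBy_modPow I (n + 1) G) U a ha q
  · intro n y
    have := congrArg (fun φ => Scheme.Modules.Hom.app φ U y) (Formal.modPowπ_trans I (n + 1) G)
    exact this
  · intro n m
    have := congrArg (fun φ => Scheme.Modules.Hom.app φ U m) (hβ n)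
    exact this
  · rcases hc with h | h
    · exact Or.inl (fun a ha m => killed_U I F c h U a ha m)
    · exact Or.inr (fun a ha y => killed_U I G c h U a ha y)

/-- killing transported along restriction -/
theorem killed_res (c : ℕ) {U U' : X.Opens} (i : U' ≤ U) (z : Γ(G, U))
    (hz : ∀ a' ∈ I ^ c, (ρ (A := A) U a') • z = 0)
    (a : Γ(X, U')) (ha : a ∈ (I.map (ρ (A := A) U')) ^ c) :
    a • G.presheaf.map (homOfLE i).op z = 0 := by
  rw [← Ideal.map_pow] at ha
  have h : (I ^ c).map (ρ (A := A) U') ≤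
      LinearMap.ker (LinearMap.toSpanSingleton Γ(X, U') Γ(G, U')
        (G.presheaf.map (homOfLE i).op z)) := by
    rw [Ideal.map_le_iff_le_comap]
    intro a' ha'
    rw [Ideal.mem_comap, LinearMap.mem_ker, LinearMap.toSpanSingleton_apply, ← map_ρ i a',
      ← Scheme.Modules.map_smul, hz a' ha', map_zero]
  have := h ha
  rwa [LinearMap.mem_ker, LinearMap.toSpanSingleton_apply] at this

include hc in
theorem killed_lin {U : X.Opens} (φ : Γ(F, U) →ₗ[Γ(X, U)] Γ(G, U)) (m : Γ(F, U))
    (a : Γ(X, U)) (ha : a ∈ (I.map (ρ (A := A) U)) ^ c) : a • φ m = 0 := by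
  rcases hc with h | h
  · rw [← map_smul, killed_U I F c h U a ha m, map_zero]
  · exact killed_U I G c h U a ha _

include hG in
theorem unique_aux {U : X.Opens} (hU : IsAffineOpen U) (y₁ y₂ : Γ(G, U))
    (h₁ : ∀ a ∈ (I.map (ρ (A := A) U)) ^ c, a • y₁ = 0)
    (h₂ : ∀ a ∈ (I.map (ρ (A := A) U)) ^ c, a • y₂ = 0)
    (heq : ∀ n, (Formal.modPowπ I (n + 1) G).app U y₁ = (Formal.modPowπ I (n + 1) G).app U y₂) :
    y₁ = y₂ := by
  haveI : IsNoetherianRing Γ(X, U) := IsLocallyNoetherian.component_noetherian ⟨U, hU⟩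
  haveI : G.IsQuasicoherent := hG.1
  haveI : Module.Finite Γ(X, U) Γ(G, U) :=
    Groth.Agent.Lib.Lead.CohAff.finite_sections_of_isFiniteType G hG.2 hU
  rw [← sub_eq_zero]
  refine eq_zero_of_killed_of_forall_mem (I.map (ρ (A := A) U)) c (y₁ - y₂) ?_ ?_
  · intro a ha
    rw [smul_sub, h₁ a ha, h₂ a ha, sub_zero]
  · intro n
    refine hker_U I G hG hU n _ ?_
    rw [map_sub, heq n, sub_self]

include hG hc hβ in
theorem exists_unique_hom :
    ∃! κ : F ⟶ G, ∀ n, β n = κ ≫ Formal.modPowπ I (n + 1) G := by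
  choose Φ hΦ using fun (U : X.Opens) (hU : IsAffineOpen U) =>
    exists_local I F G hG c hc β hβ hU
  have hbasis : Opens.IsBasis
      (Set.range (Subtype.val : {U : X.Opens // IsAffineOpen U} → X.Opens)) := by
    have h := X.isBasis_affineOpens
    have e : (Set.range (Subtype.val : {U : X.Opens // IsAffineOpen U} → X.Opens)) =
        X.affineOpens := Subtype.range_coe_subtype
    rw [e]
    exact h
  have hkΦ : ∀ (U : X.Opens) (hU : IsAffineOpen U) (m : Γ(F, U)),
      ∀ a ∈ (I.map (ρ (A := A) U)) ^ c, a • Φ U hU m = 0 :=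
    fun U hU m a ha => killed_lin I F G c hc (Φ U hU) m a ha
  have hres : ∀ (U U' : X.Opens) (hU : IsAffineOpen U) (hU' : IsAffineOpen U') (i : U' ≤ U)
      (s : Γ(F, U)),
      (Φ U' hU').toAddMonoidHom (F.presheaf.map (homOfLE i).op s) =
        G.presheaf.map (homOfLE i).op ((Φ U hU).toAddMonoidHom s) := by
    intro U U' hU hU' i s
    change Φ U' hU' (F.presheaf.map (homOfLE i).op s) = G.presheaf.map (homOfLE i).op (Φ U hU s)
    refine unique_aux I G hG c hU' _ _ ?_ ?_ ?_
    · intro a ha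
      exact hkΦ U' hU' _ a ha
    · intro a ha
      refine killed_res I G c i (Φ U hU s) ?_ a ha
      intro a' ha'
      refine hkΦ U hU s _ ?_
      rw [← Ideal.map_pow]
      exact Ideal.mem_map_of_mem _ ha'
    · intro n
      rw [hΦ U' hU' n, hom_app_map, hom_app_map, hΦ U hU n s]

  have hsmul : ∀ (U : X.Opens) (hU : IsAffineOpen U) (r : Γ(X, U)) (s : Γ(F, U)),
      (Φ U hU).toAddMonoidHom (r • s) = r • (Φ U hU).toAddMonoidHom s :=
    fun U hU r s => (Φ U hU).map_smul r s
  obtain ⟨κ, hκ⟩ := Groth.Agent.Lib.Helper14.LogSub.exists_hom_of_basis F G IsAffineOpen hbasis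
    (fun U hU => (Φ U hU).toAddMonoidHom) hres hsmul
  · -- the glued map works
    have hκβ : ∀ n, β n = κ ≫ Formal.modPowπ I (n + 1) G := by
      intro n
      refine Groth.Agent.Lib.Helper14.LogSub.hom_ext_of_basis _ _ _ (X.isBasis_affineOpens) ?_
      intro U hU s
      have h1 : (κ ≫ Formal.modPowπ I (n + 1) G).app U s =
          (Formal.modPowπ I (n + 1) G).app U (κ.app U s) := rfl
      rw [h1, hκ U hU s]
      exact (hΦ U hU n s).symm
    refine ⟨κ, hκβ, ?_⟩
    intro κ' hκ'
    refine Groth.Agent.Lib.Helper14.LogSub.hom_ext_of_basis _ _ _ (X.isBasis_affineOpens) ?_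
    intro U hU s
    refine unique_aux I G hG c hU _ _ ?_ ?_ ?_
    · intro a ha
      exact killed_lin I F G c hc (appL κ' U) s a ha
    · intro a ha
      rw [hκ U hU s]
      exact hkΦ U hU s a ha
    · intro n
      have h1 : (Formal.modPowπ I (n + 1) G).app U (κ'.app U s) =
          (κ' ≫ Formal.modPowπ I (n + 1) G).app U s := rfl
      have h2 : (Formal.modPowπ I (n + 1) G).app U (κ.app U s) =
          (κ ≫ Formal.modPowπ I (n + 1) G).app U s := rfl
      rw [h1, h2, ← hκ' n, ← hκβ n]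

end Main

open CategoryTheory AlgebraicGeometry Opposite in
/-- The assertion on homomorphisms, for the ideal sheaf I·O_X of an ideal I of a base ring A. Let X be a
Noetherian scheme over Spec A and F, G coherent O_X-modules one of which is annihilated by a power
of I. Then every map of systems (F/I^nF) → (G/I^nG) is induced by exactly one map F → G. (The
assertion on Ext groups is not stated.) -/
theorem result (A : Type u) [CommRing A] (I : Ideal A) (X : Scheme.{u})
    [X.Over (Spec (CommRingCat.of A))] [IsNoetherian X] (F G : X.Modules) (hF : Coh.IsCoh F) (hG : Coh.IsCoh G)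
    (hc : ∃ c : ℕ, Formal.KilledBy (I ^ c) F ∨ Formal.KilledBy (I ^ c) G)
    (ψ : Formal.completion I F ⟶ Formal.completion I G) :
    ∃! φ : F ⟶ G, ∀ n : ℕ, Formal.modPowπ I (n + 1) F ≫ ψ.app (op n) = φ ≫ Formal.modPowπ I (n + 1) G := by
  obtain ⟨c, hc⟩ := hc
  refine exists_unique_hom I F G hG c hc
    (fun n => Formal.modPowπ I (n + 1) F ≫ ψ.app (op n)) ?_
  intro n
  have hnat := ψ.naturality (homOfLE (Nat.le_succ n)).op
  rw [completion_map_succ, completion_map_succ] at hnat
  have hnat' : ψ.app (op (n + 1)) ≫ Formal.modPowTrans I (n + 1) G =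
      Formal.modPowTrans I (n + 1) F ≫ ψ.app (op n) := hnat.symm
  have h2 : Formal.modPowπ I (n + 1 + 1) F ≫ (Formal.modPowTrans I (n + 1) F ≫ ψ.app (op n)) =
      Formal.modPowπ I (n + 1) F ≫ ψ.app (op n) := by
    rw [← Category.assoc, Formal.modPowπ_trans]
  calc (Formal.modPowπ I (n + 1 + 1) F ≫ ψ.app (op (n + 1))) ≫ Formal.modPowTrans I (n + 1) G
      = Formal.modPowπ I (n + 1 + 1) F ≫ (ψ.app (op (n + 1)) ≫ Formal.modPowTrans I (n + 1) G) :=
        Category.assoc _ _ _
    _ = Formal.modPowπ I (n + 1 + 1) F ≫ (Formal.modPowTrans I (n + 1) F ≫ ψ.app (op n)) :=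
        congrArg _ hnat'
    _ = _ := h2

end Groth.Agent.S0833
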