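import Groth.Statements.S0835
import Groth.Agent.Lib.Helper40.FormalUP
import Groth.Agent.Lib.Helper55.CohFormal
import Groth.Agent.Lib.Lead.PullbackAff4
import Groth.Agent.Lib.Helper21.CohPullback

set_option autoImplicit false
universe u
open Formal2

namespace Groth.Agent.S0835

open CategoryTheory CategoryTheory.Limits AlgebraicGeometry Opposite
open Groth.Agent.Lib.Helper40.FormalUP
open Groth.Agent.Lib.Helper93.SmulMod

variable {A : Type u} [CommRing A] {X Y : Scheme.{u}} [X.Over (Spec (CommRingCat.of A))]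
  [Y.Over (Spec (CommRingCat.of A))]

theorem toGlobal_comp (f : X ⟶ Y)
    (hf : f ≫ (Y ↘ Spec (CommRingCat.of A)) = X ↘ Spec (CommRingCat.of A)) (a : A) :
    f.appTop.hom (Coh.toGlobal (Y ↘ Spec (CommRingCat.of A)) a) =
      Coh.toGlobal (X ↘ Spec (CommRingCat.of A)) a := by
  unfold Coh.toGlobal
  rw [← hf, Scheme.Hom.comp_appTop]
  rfl

theorem pushforward_smulMod (f : X ⟶ Y)
    (hf : f ≫ (Y ↘ Spec (CommRingCat.of A)) = X ↘ Spec (CommRingCat.of A)) (N : X.Modules) (a : A) :
    (Scheme.Modules.pushforward f).map (Formal.smulMod A N a) =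
      Formal.smulMod A ((Scheme.Modules.pushforward f).obj N) a := by
  apply SheafOfModules.hom_ext
  apply PresheafOfModules.hom_ext
  intro U
  ext m
  obtain ⟨U⟩ := U
  let m' : ↑(N.val.obj (op (f ⁻¹ᵁ U))) := m
  have hL : (ModuleCat.Hom.hom (((Scheme.Modules.pushforward f).map (Formal.smulMod A N a)).val.app (op U))) m =
      Coh.resTop X (op (f ⁻¹ᵁ U)) (Coh.toGlobal (X ↘ Spec (CommRingCat.of A)) a) • m' := rfl
  have hR : (ModuleCat.Hom.hom ((Formal.smulMod A ((Scheme.Modules.pushforward f).obj N) a).val.app (op U))) m =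
      (show ↑(X.ringCatSheaf.obj.obj (op (f ⁻¹ᵁ U))) from
        (f.app U).hom (Coh.resTop Y (op U) (Coh.toGlobal (Y ↘ Spec (CommRingCat.of A)) a))) • m' := rfl
  rw [hL, hR]
  congr 1
  rw [← toGlobal_comp f hf]
  have := ConcreteCategory.congr_hom (f.naturality (homOfLE (le_top (a := U))).op)
    (Coh.toGlobal (Y ↘ Spec (CommRingCat.of A)) a)
  exact this.symm

theorem pullback_smulMod (f : X ⟶ Y)
    (hf : f ≫ (Y ↘ Spec (CommRingCat.of A)) = X ↘ Spec (CommRingCat.of A)) (M : Y.Modules) (a : A) :
    (Scheme.Modules.pullback f).map (Formal.smulMod A M a) =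
      Formal.smulMod A ((Scheme.Modules.pullback f).obj M) a := by
  apply ((Scheme.Modules.pullbackPushforwardAdjunction f).homEquiv _ _).injective
  rw [Adjunction.homEquiv_unit, Adjunction.homEquiv_unit, pushforward_smulMod f hf]
  have h2 := smulMod_naturality (A := A)
    ((Scheme.Modules.pullbackPushforwardAdjunction f).unit.app M) a
  exact (((Scheme.Modules.pullbackPushforwardAdjunction f).unit.naturality
    (Formal.smulMod A M a)).symm.trans h2)

theorem killedBy_pullback (f : X ⟶ Y)
    (hf : f ≫ (Y ↘ Spec (CommRingCat.of A)) = X ↘ Spec (CommRingCat.of A)) {J : Ideal A}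
    {M : Y.Modules} (hM : Formal.KilledBy J M) :
    Formal.KilledBy J ((Scheme.Modules.pullback f).obj M) := by
  intro a ha
  rw [← pullback_smulMod f hf, hM a ha, Functor.map_zero]

theorem isQuot_pullback (f : X ⟶ Y)
    (hf : f ≫ (Y ↘ Spec (CommRingCat.of A)) = X ↘ Spec (CommRingCat.of A)) {J : Ideal A}
    {M N : Y.Modules} {t : M ⟶ N} (ht : IsQuot J t) :
    IsQuot J ((Scheme.Modules.pullback f).map t) where
  epi := by haveI := ht.epi; infer_instance
  kill a ha := by
    rw [← pullback_smulMod f hf, ← Functor.map_comp, ht.kill a ha, Functor.map_zero]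
  fac {T} g hg := by
    let adj := Scheme.Modules.pullbackPushforwardAdjunction f
    have h1 : ∀ a ∈ J, Formal.smulMod A M a ≫ adj.homEquiv _ _ g = 0 := by
      intro a ha
      rw [← adj.homEquiv_naturality_left, pullback_smulMod f hf, hg a ha, Adjunction.homEquiv_unit,
        Functor.map_zero, comp_zero]
    obtain ⟨g', hg'⟩ := ht.fac _ h1
    refine ⟨(adj.homEquiv _ _).symm g', ?_⟩
    rw [← adj.homEquiv_naturality_left_symm, hg', Equiv.symm_apply_apply]

open CategoryTheory AlgebraicGeometry in
/-- First assertion, for ideal sheaves generated by an ideal I of a base ring A. Let f : X → Y be a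
morphism of Noetherian schemes over Spec A and (G_n) a coherent formal module for I on Y. Then the
componentwise pullback (f^* G_n) is a coherent formal module for I on X. (Exactness properties of
this functor are not stated.) -/
theorem result (A : Type u) [CommRing A] (I : Ideal A) (X Y : Scheme.{u})
    [X.Over (Spec (CommRingCat.of A))] [Y.Over (Spec (CommRingCat.of A))] [IsNoetherian X] [IsNoetherian Y]
    (f : X ⟶ Y) (hf : f ≫ (Y ↘ Spec (CommRingCat.of A)) = X ↘ Spec (CommRingCat.of A))
    (G : ℕᵒᵖ ⥤ Y.Modules) (hG : Formal.IsCohFormal I G) :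
    Formal.IsCohFormal I (G ⋙ Scheme.Modules.pullback f) := by
  obtain ⟨hcoh, hkill, hcok⟩ := hG
  refine ⟨fun n => ?_, fun n => killedBy_pullback f hf (hkill n), fun n => ?_⟩
  · obtain ⟨hq, hft⟩ := hcoh n
    haveI : (G.obj (op n)).IsQuasicoherent := hq
    exact ⟨inferInstanceAs ((Scheme.Modules.pullback f).obj (G.obj (op n))).IsQuasicoherent,
      Groth.Agent.Lib.Helper21.CohPullback.isFiniteType_pullback f _ hft⟩
  · obtain ⟨h0, hiso⟩ := hcok n
    exact (isQuot_iff _ _).mp (isQuot_pullback f hf (isQuot_of_isIso_desc h0 hiso))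

end Groth.Agent.S0835
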