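import Groth.Statements.S0866
import Mathlib.Topology.Sheaves.Skyscraper
import Mathlib.Topology.Sheaves.SheafCondition.PairwiseIntersections
-- import your own Groth.Agent.* helpers here

set_option autoImplicit false
universe u
open CategoryTheory
open CohTop

namespace Groth.Agent.S0866

section aux
open TopologicalSpace Opposite CategoryTheory.Limits TopCat

/-- every abelian sheaf on a discrete space is flasque -/
lemma isFlasque_of_discrete {T : Type u}
    (G : TopCat.Sheaf AddCommGrpCat.{u} (TopCat.discrete.obj T)) :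
    TopCat.Sheaf.IsFlasque G := by
  constructor
  intro U V i
  let W : Opens (TopCat.discrete.obj T) := ⟨U.unop.1 \ V.unop.1, isOpen_discrete _⟩
  have hVU : V.unop ≤ U.unop := i.unop.le
  have hdisj : V.unop ⊓ W = ⊥ := by
    ext x
    simp [W]
  have hsup : V.unop ⊔ W = U.unop := by
    ext x
    simp only [Opens.coe_sup, Opens.coe_mk, Set.mem_union, SetLike.mem_coe, Set.mem_sdiff, W]
    constructor
    · rintro (h | ⟨h, _⟩)
      · exact hVU h
      · exact h
    · intro h
      by_cases hx : x ∈ V.unop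
      · exact Or.inl hx
      · exact Or.inr ⟨h, hx⟩
  have hlim := TopCat.Sheaf.isProductOfDisjoint G V.unop W hdisj
  let σ : G.obj.obj (op V.unop) ⟶ G.obj.obj (op (V.unop ⊔ W)) :=
    hlim.lift (BinaryFan.mk (𝟙 _) 0)
  have hσ : σ ≫ G.obj.map (homOfLE le_sup_left : V.unop ⟶ V.unop ⊔ W).op = 𝟙 _ :=
    hlim.fac (BinaryFan.mk (𝟙 _) 0) ⟨WalkingPair.left⟩
  have hepi : Epi (G.obj.map (homOfLE le_sup_left : V.unop ⟶ V.unop ⊔ W).op) :=
    (IsSplitEpi.mk' ⟨σ, hσ⟩).epi
  have hfac : G.obj.map i = G.obj.map (homOfLE hsup.le : V.unop ⊔ W ⟶ U.unop).op ≫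
      G.obj.map (homOfLE le_sup_left : V.unop ⟶ V.unop ⊔ W).op := by
    rw [← G.obj.map_comp]
    congr 1
  rw [hfac]
  have : IsIso (G.obj.map (homOfLE hsup.le : V.unop ⊔ W ⟶ U.unop).op) := by
    have : IsIso (homOfLE hsup.le : V.unop ⊔ W ⟶ U.unop) :=
      ⟨⟨homOfLE hsup.ge, Subsingleton.elim _ _, Subsingleton.elim _ _⟩⟩
    infer_instance
  exact epi_comp _ _

open Classical in
/-- the unit `F ⟶ f_* f^{-1} F` is a monomorphism on the stalk at `f y`. -/
lemma mono_stalk_unit {X Y : TopCat.{u}} (f : Y ⟶ X) (F : TopCat.Sheaf AddCommGrpCat.{u} X)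
    (y : Y) :
    Mono ((TopCat.Presheaf.stalkFunctor AddCommGrpCat.{u} (f y)).map
      ((TopCat.Sheaf.pullbackPushforwardAdjunction AddCommGrpCat.{u} f).unit.app F).hom) := by
  let adj := TopCat.Sheaf.pullbackPushforwardAdjunction AddCommGrpCat.{u} f
  let sadj := stalkSkyscraperSheafAdjunction (C := AddCommGrpCat.{u}) (f y)
  let A : AddCommGrpCat.{u} := (TopCat.Presheaf.stalkFunctor AddCommGrpCat.{u} (f y)).obj F.obj
  let S' : TopCat.Sheaf AddCommGrpCat.{u} Y := skyscraperSheaf y A
  let φ' : F ⟶ (TopCat.Sheaf.pushforward AddCommGrpCat.{u} f).obj S' := sadj.unit.app F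
  let ψ : (TopCat.Sheaf.pullback AddCommGrpCat.{u} f).obj F ⟶ S' := (adj.homEquiv F S').symm φ'
  have h1 : adj.unit.app F ≫ (TopCat.Sheaf.pushforward AddCommGrpCat.{u} f).map ψ = φ' :=
    (adj.homEquiv_unit ..).symm.trans (Equiv.apply_symm_apply _ _)
  let ρ : (TopCat.Sheaf.pushforward AddCommGrpCat.{u} f).obj
      ((TopCat.Sheaf.pullback AddCommGrpCat.{u} f).obj F) ⟶ (skyscraperSheafFunctor (f y)).obj A :=
    (TopCat.Sheaf.pushforward AddCommGrpCat.{u} f).map ψ
  have h1' : adj.unit.app F ≫ ρ = sadj.unit.app F := h1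
  have h3 := sadj.homEquiv_naturality_left_symm (adj.unit.app F) ρ
  have h4 : (sadj.homEquiv F A).symm (sadj.unit.app F) = 𝟙 _ := by
    rw [Adjunction.homEquiv_counit]
    exact sadj.left_triangle_components F
  have h2 : (TopCat.Presheaf.stalkFunctor AddCommGrpCat.{u} (f y)).map (adj.unit.app F).hom ≫
      (sadj.homEquiv _ A).symm ρ = 𝟙 _ := by
    refine Eq.trans ?_ h4
    refine Eq.trans h3.symm ?_
    exact congrArg _ h1'
  exact mono_of_mono_fac h2

end aux

/-- The first step of the Godement resolution, for abelian sheaves: let f : X_disc -> X be the identity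
map from X with the discrete topology. For an abelian sheaf F on X, the adjunction unit F -> f_*
f^{-1} F is a monomorphism and f_* f^{-1} F is a flasque sheaf. (The source builds the whole
functorial flasque resolution by iterating f_* f^{-1} and proves it is a stalkwise homotopy
equivalence; only this first step is asserted here.) -/
theorem result {X : TopCat.{u}} (F : CohTop.Ab X) :
    Mono ((TopCat.Sheaf.pullbackPushforwardAdjunction AddCommGrpCat.{u}
      (TopCat.adj₁.counit.app X)).unit.app F) ∧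
    TopCat.Sheaf.IsFlasque ((CohTop.push (TopCat.adj₁.counit.app X)).obj
      ((CohTop.pull (TopCat.adj₁.counit.app X)).obj F)) := by
  refine ⟨?_, ?_⟩
  · have hst : ∀ x : X, Mono ((TopCat.Presheaf.stalkFunctor AddCommGrpCat.{u} x).map
        ((TopCat.Sheaf.pullbackPushforwardAdjunction AddCommGrpCat.{u}
          (TopCat.adj₁.counit.app X)).unit.app F).hom) :=
      fun x => mono_stalk_unit (TopCat.adj₁.counit.app X) F x
    exact TopCat.Presheaf.mono_of_stalk_mono _
  · have := isFlasque_of_discrete ((CohTop.pull (TopCat.adj₁.counit.app X)).obj F)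
    exact TopCat.Sheaf.IsFlasque.pushforward_isFlasque _ _

end Groth.Agent.S0866
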