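import Groth.Statements.S0869
import Groth.Agent.Lib.Helper53.RlimHq

set_option autoImplicit false
universe u
open CategoryTheory
open CohTop

namespace Groth.Agent.S0869

open TopologicalSpace Opposite CategoryTheory.Limits in
/-- Let (K_n) be an inverse system in the derived category of abelian sheaves on X with a derived limit
L, and B a basis of opens such that for U in B and all q: H^p(U, H^q(K_n)) = 0 for p > 0, and the
inverse system of sections H^q(K_n)(U) has vanishing R^1 lim. Then H^q(L) is isomorphic to lim_n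
H^q(K_n) for every q. -/
theorem result {X : TopCat.{u}} [HasDerivedCategory.{u} (CohTop.Ab X)]
    (K : ℕ → DerivedCategory (CohTop.Ab X)) (t : ∀ n, K (n + 1) ⟶ K n) [HasProduct K]
    (L : DerivedCategory (CohTop.Ab X)) (hL : DCoh.IsRlim K t L)
    (B : Set (Opens X)) (hB : Opens.IsBasis B)
    (h1 : ∀ U ∈ B, ∀ (p : ℕ) (q : ℤ) (n : ℕ), Subsingleton (CohTop.HU (CohCx.HD (K n) q) (p + 1) U))
    (h2 : ∀ U ∈ B, ∀ (q : ℤ), CohCx.LimOneIsZero (fun n => (CohCx.HD (K n) q).obj.obj (op U))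
      (fun n => (((DerivedCategory.homologyFunctor (CohTop.Ab X) q).map (t n)).hom.app (op U)).hom))
    (q : ℤ) :
    Nonempty (CohCx.HD L q ≅ limit (CohCx.opSequence (fun n => CohCx.HD (K n) q)
      (fun n => (DerivedCategory.homologyFunctor (CohTop.Ab X) q).map (t n)))) := by
  open Groth.Agent.Lib.Helper53.RlimHq Groth.Agent.Lib.Helper53.AcycSite in
  have hB' : ∀ U : Opens X, ∃ (ι : Type u) (Y : ι → Opens X) (f : ∀ i, Y i ⟶ U),
      Sieve.ofArrows Y f ∈ Opens.grothendieckTopology X U ∧ ∀ i, Y i ∈ B := by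
    intro U
    refine ⟨{V : Opens X // V ∈ B ∧ V ≤ U}, fun V => V.1, fun V => homOfLE V.2.2, ?_, fun V => V.2.1⟩
    intro x hx
    obtain ⟨V, hVB, hxV, hVU⟩ := (Opens.isBasis_iff_nbhd.1 hB) hx
    exact ⟨V, homOfLE hVU, ⟨_, 𝟙 _, _, Presieve.ofArrows.mk (⟨V, hVB, hVU⟩ : {V : Opens X // V ∈ B ∧ V ≤ U}), by simp⟩, hxV⟩
  obtain ⟨a, c, hc⟩ := hL
  have ha : Pi.lift (fun n => a ≫ Pi.π K n) = a := by
    apply Limits.Pi.hom_ext
    intro n
    rw [Pi.lift_π]
  have hL' : CohCx.IsRlimVia K t L (fun n => a ≫ Pi.π K n) := ⟨c, by rw [ha]; exact hc⟩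
  have hbij : ∀ W ∈ B, ∀ (n : ℕ) (m : ℤ),
      Function.Bijective (Groth.Agent.Lib.Helper53.DerLocSite.kU
        (J := Opens.grothendieckTopology X) (K n) m W) :=
    fun W hW n m => kU_bijective (J := Opens.grothendieckTopology X) (K n) B hB'
      (fun U hU p q => h1 U hU p q n) W hW m
  haveI := isIso_Φ (J := Opens.grothendieckTopology X) K t L _ q hL' B hB' hbij h2
  exact ⟨asIso (Φ (J := Opens.grothendieckTopology X) K t L _ q hL')⟩

end Groth.Agent.S0869
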