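import Groth.Statements.S0871
import Groth.Agent.Lib.Helper4.DerivedAdj
import Groth.Agent.Lib.Helper53.RestrInj
import Mathlib.CategoryTheory.Adjunction.Additive

set_option autoImplicit false
universe u
open CategoryTheory
open CohTop

namespace Groth.Agent.S0871
open Groth.Agent.Lib.Helper4 Groth.Agent.Lib.Helper53 TopologicalSpace CategoryTheory.Limits Opposite

section
variable {C : Type*} [Category C] [Preadditive C]

def preAddEquiv {X Y : C} (e : X ≅ Y) (Z : C) : (Y ⟶ Z) ≃+ (X ⟶ Z) where
  toFun f := e.hom ≫ f
  invFun g := e.inv ≫ g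
  left_inv f := by simp
  right_inv g := by simp
  map_add' f g := by simp

def postAddEquiv {X Y : C} (e : X ≅ Y) (Z : C) : (Z ⟶ X) ≃+ (Z ⟶ Y) where
  toFun f := f ≫ e.hom
  invFun g := g ≫ e.inv
  left_inv f := by simp
  right_inv g := by simp
  map_add' f g := by simp

end

section
variable {X : TopCat.{u}} (U : Opens X)

noncomputable def theta (M : CohTop.Ab X) :
    ((extZero U).obj (freeSheaf (⊤ : Opens (TopCat.of U))) ⟶ M) ≃ (freeSheaf U ⟶ M) :=
  ((extZeroAdj U).homEquiv _ M).trans
    ((freeSheafHomEquiv ⊤ ((CohTop.restrFunctor U).obj M)).trans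
      ((secEquiv U M).symm.toEquiv.trans (freeSheafHomEquiv U M).symm))

lemma theta_naturality {M N : CohTop.Ab X} (φ : M ⟶ N)
    (f : (extZero U).obj (freeSheaf (⊤ : Opens (TopCat.of U))) ⟶ M) :
    theta U N (f ≫ φ) = theta U M f ≫ φ := by
  apply (freeSheafHomEquiv U N).injective
  rw [freeSheafHomEquiv_naturality_right]
  simp only [theta, Equiv.trans_apply, Equiv.apply_symm_apply]
  rw [Adjunction.homEquiv_naturality_right, freeSheafHomEquiv_naturality_right]
  apply (secEquiv U N).injective
  rw [secEquiv_naturality]
  simp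

noncomputable def extZeroFreeIso :
    (extZero U).obj (freeSheaf (⊤ : Opens (TopCat.of U))) ≅ freeSheaf U where
  hom := (theta U _).symm (𝟙 _)
  inv := theta U _ (𝟙 _)
  hom_inv_id := by
    apply (theta U _).injective
    rw [theta_naturality, Equiv.apply_symm_apply, Category.id_comp]
  inv_hom_id := by
    rw [← theta_naturality, Category.id_comp, Equiv.apply_symm_apply]

end


open TopologicalSpace CategoryTheory.Limits in
/-- For an object K of the derived category of abelian sheaves on X and an open U, H^p(U, K) is
isomorphic to H^p(U, K|_U), where K|_U is the image of K under the functor on derived categories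
induced by the (exact) restriction to U. Exactness of restriction is assumed through instance
arguments (true, but not recorded by Mathlib in this generality). -/
theorem result {X : TopCat.{u}} (U : Opens X)
    [HasDerivedCategory.{u} (CohTop.Ab X)] [HasDerivedCategory.{u} (CohTop.Ab (TopCat.of U))]
    [PreservesFiniteLimits (CohTop.restrFunctor U)] [PreservesFiniteColimits (CohTop.restrFunctor U)]
    (K : DerivedCategory (CohTop.Ab X)) (p : ℤ) :
    Nonempty (CohCx.HDU K p U ≃+ CohCx.HDU ((CohTop.restrFunctor U).mapDerivedCategory.obj K) p ⊤) := by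
  let adj := DerivedAdj.derAdj (extZeroAdj U)
  let A : CohTop.Ab (TopCat.of U) := freeSheaf (⊤ : Opens (TopCat.of U))
  let e1 : (DerivedCategory.singleFunctor (CohTop.Ab X) 0).obj ((extZero U).obj A) ≅
      (DerivedCategory.singleFunctor (CohTop.Ab X) 0).obj (freeSheaf U) :=
    (DerivedCategory.singleFunctor (CohTop.Ab X) 0).mapIso (extZeroFreeIso U)
  let e2 : (extZero U).mapDerivedCategory.obj
      ((DerivedCategory.singleFunctor (CohTop.Ab (TopCat.of U)) 0).obj A) ≅
      (DerivedCategory.singleFunctor (CohTop.Ab X) 0).obj ((extZero U).obj A) :=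
    ((extZero U).mapDerivedCategorySingleFunctor 0).app A
  let e3 : (CohTop.restrFunctor U).mapDerivedCategory.obj
      ((shiftFunctor (DerivedCategory (CohTop.Ab X)) p).obj K) ≅
      (shiftFunctor (DerivedCategory (CohTop.Ab (TopCat.of U))) p).obj
        ((CohTop.restrFunctor U).mapDerivedCategory.obj K) :=
    ((CohTop.restrFunctor U).mapDerivedCategory.commShiftIso p).app K
  exact ⟨(((preAddEquiv e1 _).trans (preAddEquiv e2 _)).trans (adj.homAddEquiv _ _)).trans
    (postAddEquiv e3 _)⟩

end Groth.Agent.S0871
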