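import Groth.Statements.S0873
import Groth.Agent.Lib.Helper26.FunctorMV
import Groth.Agent.Lib.Helper53.Flasque
import Groth.Agent.Lib.Helper53.SheafExact
import Groth.Agent.S0047

set_option autoImplicit false
universe u
open CategoryTheory
open CohTop

namespace Groth.Agent.S0873

open CategoryTheory CategoryTheory.Limits TopologicalSpace Opposite
open Groth.Agent.Lib.Helper26.FunctorMV

lemma comm {X Y : TopCat.{u}} (f : X ⟶ Y) (U V : Opens X) :
    CohCx.pushToRestrPush f U ≫ CohCx.restrPushToRestrPush f (inf_le_left : U ⊓ V ≤ U) =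
      CohCx.pushToRestrPush f V ≫ CohCx.restrPushToRestrPush f (inf_le_right : U ⊓ V ≤ V) := by
  ext F : 2
  ext : 2
  funext W
  change F.obj.map _ ≫ F.obj.map _ = F.obj.map _ ≫ F.obj.map _
  rw [← F.obj.map_comp, ← F.obj.map_comp]
  rfl

section sheaf

variable {Y : TopCat.{u}}

lemma biprod_total_apply {B₁ B₂ : CohTop.Ab Y} (W : Opens Y) (x : (B₁ ⊞ B₂).obj.obj (op W)) :
    (biprod.inl : B₁ ⟶ B₁ ⊞ B₂).hom.app (op W) ((biprod.fst : B₁ ⊞ B₂ ⟶ B₁).hom.app (op W) x) +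
      (biprod.inr : B₂ ⟶ B₁ ⊞ B₂).hom.app (op W) ((biprod.snd : B₁ ⊞ B₂ ⟶ B₂).hom.app (op W) x) = x := by
  have total : (biprod.fst : B₁ ⊞ B₂ ⟶ B₁) ≫ biprod.inl + biprod.snd ≫ biprod.inr = 𝟙 (B₁ ⊞ B₂) :=
    biprod.total
  exact congrArg (fun φ : B₁ ⊞ B₂ ⟶ B₁ ⊞ B₂ => φ.hom.app (op W) x) total

lemma biprod_ext_sections {B₁ B₂ : CohTop.Ab Y} (W : Opens Y) (x y : (B₁ ⊞ B₂).obj.obj (op W))
    (h1 : (biprod.fst : B₁ ⊞ B₂ ⟶ B₁).hom.app (op W) x = (biprod.fst : B₁ ⊞ B₂ ⟶ B₁).hom.app (op W) y)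
    (h2 : (biprod.snd : B₁ ⊞ B₂ ⟶ B₂).hom.app (op W) x = (biprod.snd : B₁ ⊞ B₂ ⟶ B₂).hom.app (op W) y) :
    x = y := by
  rw [← biprod_total_apply W x, ← biprod_total_apply W y, h1, h2]

lemma mono_of_sections {A B : CohTop.Ab Y} (φ : A ⟶ B)
    (h : ∀ (W : Opens Y) (s : A.obj.obj (op W)), φ.hom.app (op W) s = 0 → s = 0) : Mono φ := by
  have h0 : ∀ W : (Opens Y)ᵒᵖ, Mono (φ.hom.app W) := by
    intro W
    rw [AddCommGrpCat.mono_iff_injective, injective_iff_map_eq_zero]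
    intro s hs
    exact h W.unop s hs
  have h1 : Mono φ.hom := NatTrans.mono_of_mono_app (α := φ.hom)
  exact Sheaf.Hom.mono_of_presheaf_mono _ _ φ

lemma epi_of_sections {A B : CohTop.Ab Y} (φ : A ⟶ B)
    (h : ∀ (W : Opens Y) (t : B.obj.obj (op W)), ∃ s : A.obj.obj (op W), φ.hom.app (op W) s = t) :
    Epi φ := by
  rw [← CategoryTheory.Sheaf.isLocallySurjective_iff_epi']
  change TopCat.Presheaf.IsLocallySurjective φ.hom
  rw [TopCat.Presheaf.isLocallySurjective_iff]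
  intro U t x hx
  obtain ⟨s, hs⟩ := h U t
  refine ⟨U, le_rfl, ⟨s, ?_⟩, hx⟩
  rw [hs]
  change t = B.obj.map (𝟙 (op U)) t
  rw [CategoryTheory.Functor.map_id]
  rfl

lemma shortExact_of_sections {A B₁ B₂ C : CohTop.Ab Y} (a₁ : A ⟶ B₁) (a₂ : A ⟶ B₂)
    (b₁ : B₁ ⟶ C) (b₂ : B₂ ⟶ C)
    (w : biprod.lift a₁ a₂ ≫ biprod.desc b₁ (-b₂) = 0)
    (h1 : ∀ (W : Opens Y) (s : A.obj.obj (op W)),
      a₁.hom.app (op W) s = 0 → a₂.hom.app (op W) s = 0 → s = 0)
    (h2 : ∀ (W : Opens Y) (s₁ : B₁.obj.obj (op W)) (s₂ : B₂.obj.obj (op W)),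
      b₁.hom.app (op W) s₁ = b₂.hom.app (op W) s₂ →
        ∃ t : A.obj.obj (op W), a₁.hom.app (op W) t = s₁ ∧ a₂.hom.app (op W) t = s₂)
    (h3 : ∀ (W : Opens Y) (c : C.obj.obj (op W)), ∃ s₁ : B₁.obj.obj (op W),
      b₁.hom.app (op W) s₁ = c) :
    (ShortComplex.mk _ _ w).ShortExact := by
  have lift_fst : ∀ (W : Opens Y) (s : A.obj.obj (op W)),
      (biprod.fst : B₁ ⊞ B₂ ⟶ B₁).hom.app (op W) ((biprod.lift a₁ a₂).hom.app (op W) s) =
        a₁.hom.app (op W) s := fun W s =>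
    congrArg (fun φ : A ⟶ B₁ => φ.hom.app (op W) s) (biprod.lift_fst a₁ a₂)
  have lift_snd : ∀ (W : Opens Y) (s : A.obj.obj (op W)),
      (biprod.snd : B₁ ⊞ B₂ ⟶ B₂).hom.app (op W) ((biprod.lift a₁ a₂).hom.app (op W) s) =
        a₂.hom.app (op W) s := fun W s =>
    congrArg (fun φ : A ⟶ B₂ => φ.hom.app (op W) s) (biprod.lift_snd a₁ a₂)
  have inl_desc : ∀ (W : Opens Y) (s : B₁.obj.obj (op W)),
      (biprod.desc b₁ (-b₂)).hom.app (op W) ((biprod.inl : B₁ ⟶ B₁ ⊞ B₂).hom.app (op W) s) =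
        b₁.hom.app (op W) s := fun W s =>
    congrArg (fun φ : B₁ ⟶ C => φ.hom.app (op W) s) (biprod.inl_desc b₁ (-b₂))
  have inr_desc : ∀ (W : Opens Y) (s : B₂.obj.obj (op W)),
      (biprod.desc b₁ (-b₂)).hom.app (op W) ((biprod.inr : B₂ ⟶ B₁ ⊞ B₂).hom.app (op W) s) =
        -(b₂.hom.app (op W) s) := fun W s =>
    congrArg (fun φ : B₂ ⟶ C => φ.hom.app (op W) s) (biprod.inr_desc b₁ (-b₂))
  refine ShortComplex.ShortExact.mk' ?_ ?_ ?_
  · apply Groth.Agent.Lib.Helper53.exact_of_sections_exact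
    intro W s hs
    change (biprod.desc b₁ (-b₂)).hom.app (op W) s = 0 at hs
    rw [← biprod_total_apply W s, map_add, inl_desc, inr_desc, add_neg_eq_zero] at hs
    obtain ⟨t, ht1, ht2⟩ := h2 W _ _ hs
    refine ⟨t, ?_⟩
    apply biprod_ext_sections
    · exact (lift_fst W t).trans ht1
    · exact (lift_snd W t).trans ht2
  · apply mono_of_sections
    intro W s hs
    change (biprod.lift a₁ a₂).hom.app (op W) s = 0 at hs
    apply h1 W s
    · rw [← lift_fst, hs, map_zero]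
    · rw [← lift_snd, hs, map_zero]
  · have : Epi b₁ := epi_of_sections b₁ h3
    exact epi_of_epi_fac (biprod.inl_desc b₁ (-b₂))

end sheaf

/-- the open `U ∩ f⁻¹ W` in the form in which it appears in the sections of `(f|_U)_* (F|_U)` -/
noncomputable abbrev so {X Y : TopCat.{u}} (f : X ⟶ Y) (U : Opens X) (W : Opens Y) : Opens X :=
  U.isOpenEmbedding.isOpenMap.functor.obj ((Opens.map (CohCx.incl U ≫ f)).obj W)

lemma mem_so {X Y : TopCat.{u}} (f : X ⟶ Y) (U : Opens X) (W : Opens Y) (x : X) :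
    x ∈ so f U W ↔ x ∈ U ∧ f x ∈ W := by
  constructor
  · rintro ⟨y, hy, rfl⟩
    exact ⟨y.2, hy⟩
  · rintro ⟨hx, hfx⟩
    exact ⟨⟨x, hx⟩, hfx, rfl⟩

lemma so_le {X Y : TopCat.{u}} (f : X ⟶ Y) (U : Opens X) (W : Opens Y) :
    so f U W ≤ (Opens.map f).obj W := fun x hx => ((mem_so f U W x).1 hx).2

lemma so_mono {X Y : TopCat.{u}} (f : X ⟶ Y) {U V : Opens X} (h : V ≤ U) (W : Opens Y) :
    so f V W ≤ so f U W := fun x hx =>
  (mem_so f U W x).2 ⟨h ((mem_so f V W x).1 hx).1, ((mem_so f V W x).1 hx).2⟩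

lemma le_so_sup {X Y : TopCat.{u}} (f : X ⟶ Y) (U V : Opens X) (hUV : U ⊔ V = ⊤) (W : Opens Y) :
    (Opens.map f).obj W ≤ so f U W ⊔ so f V W := by
  intro x hx
  have hx' : x ∈ U ⊔ V := by rw [hUV]; trivial
  rcases hx' with h | h
  · exact Or.inl ((mem_so f U W x).2 ⟨h, hx⟩)
  · exact Or.inr ((mem_so f V W x).2 ⟨h, hx⟩)

lemma so_inf_le {X Y : TopCat.{u}} (f : X ⟶ Y) (U V : Opens X) (W : Opens Y) :
    so f U W ⊓ so f V W ≤ so f (U ⊓ V) W := by
  rintro x ⟨h1, h2⟩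
  exact (mem_so f (U ⊓ V) W x).2
    ⟨⟨((mem_so f U W x).1 h1).1, ((mem_so f V W x).1 h2).1⟩, ((mem_so f U W x).1 h1).2⟩

lemma a_app {X Y : TopCat.{u}} (f : X ⟶ Y) (U : Opens X) (F : CohTop.Ab X) (W : Opens Y) :
    ((CohCx.pushToRestrPush f U).app F).hom.app (op W) =
      F.obj.map (homOfLE (so_le f U W)).op := rfl

lemma b_app {X Y : TopCat.{u}} (f : X ⟶ Y) {U V : Opens X} (h : V ≤ U) (F : CohTop.Ab X)
    (W : Opens Y) :
    ((CohCx.restrPushToRestrPush f h).app F).hom.app (op W) =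
      F.obj.map (homOfLE (so_mono f h W)).op := rfl

lemma res_res {X : TopCat.{u}} (P : (Opens X)ᵒᵖ ⥤ AddCommGrpCat.{u}) {A B C : Opens X}
    (h1 : B ≤ A) (h2 : C ≤ B) (s : P.obj (op A)) :
    P.map (homOfLE h2).op (P.map (homOfLE h1).op s) = P.map (homOfLE (h2.trans h1)).op s := by
  rw [← ConcreteCategory.comp_apply, ← Functor.map_comp]
  rfl

theorem mvExact {X Y : TopCat.{u}} (f : X ⟶ Y) (U V : Opens X) (hUV : U ⊔ V = ⊤) :
    MVExact (CohCx.pushToRestrPush f U) (CohCx.pushToRestrPush f V)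
      (CohCx.restrPushToRestrPush f (inf_le_left : U ⊓ V ≤ U))
      (CohCx.restrPushToRestrPush f (inf_le_right : U ⊓ V ≤ V)) where
  comm := comm f U V
  shortExact I _ := by
    have hfl : TopCat.Sheaf.IsFlasque I := Groth.Agent.Lib.Helper53.isFlasque_of_injective I
    apply shortExact_of_sections
    · intro W s hs1 hs2
      rw [a_app] at hs1 hs2
      refine TopCat.Sheaf.eq_of_locally_eq₂ I (homOfLE (so_le f U W)) (homOfLE (so_le f V W))
        (le_so_sup f U V hUV W) s 0 ?_ ?_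
      · rw [map_zero]; exact hs1
      · rw [map_zero]; exact hs2
    · intro W s₁ s₂ h12
      rw [b_app, b_app] at h12
      have hab : I.obj.map (homOfLE (inf_le_left : so f U W ⊓ so f V W ≤ so f U W)).op s₁ =
          I.obj.map (homOfLE (inf_le_right : so f U W ⊓ so f V W ≤ so f V W)).op s₂ := by
        have := congrArg (I.obj.map (homOfLE (so_inf_le f U V W)).op) h12
        exact (res_res I.obj _ _ s₁).symm.trans (this.trans (res_res I.obj _ _ s₂))
      obtain ⟨t, ht1, ht2⟩ := Groth.Agent.S0047.glue_two I (so f U W) (so f V W)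
        ((Opens.map f).obj W) (so_le f U W) (so_le f V W) (le_so_sup f U V hUV W) s₁ s₂ hab
      exact ⟨t, ht1, ht2⟩
    · intro W c
      rw [b_app]
      have := hfl.epi (homOfLE (so_mono f (inf_le_left : U ⊓ V ≤ U) W)).op
      exact (AddCommGrpCat.epi_iff_surjective _).1 this c



open TopologicalSpace CategoryTheory.Limits in
/-- Let f : X -> Y be continuous, X = U ∪ V an open covering, and a, b, c the restrictions of f to U, V,
U ∩ V. For an abelian sheaf F there are connecting maps making the long sequence 0 -> f_* F ->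
a_*(F|_U) ⊕ b_*(F|_V) -> c_*(F|_{U ∩ V}) -> R^1 f_* F -> R^1 a_*(F|_U) ⊕ R^1 b_*(F|_V) -> ... exact,
where the unnamed maps are induced (sum, resp. difference) by restriction of sections and R^n
a_*(F|_U) denotes the n-th right derived functor of F ↦ a_*(F|_U) (and similarly for b, c).
Functoriality in F is not asserted. -/
theorem result {X Y : TopCat.{u}} (f : X ⟶ Y) (U V : Opens X) (hUV : U ⊔ V = ⊤)
    (F : CohTop.Ab X) :
    ∃ δ : ∀ n : ℕ, (CohCx.RpushOn f (U ⊓ V) n).obj F ⟶ (CohTop.Rpush f (n + 1)).obj F,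
      Mono (biprod.lift ((NatTrans.rightDerived (CohCx.pushToRestrPush f U) 0).app F)
        ((NatTrans.rightDerived (CohCx.pushToRestrPush f V) 0).app F)) ∧
      ∀ n : ℕ,
        (ComposableArrows.mk₂
          (biprod.lift ((NatTrans.rightDerived (CohCx.pushToRestrPush f U) n).app F)
            ((NatTrans.rightDerived (CohCx.pushToRestrPush f V) n).app F))
          (biprod.desc
            ((NatTrans.rightDerived (CohCx.restrPushToRestrPush f (inf_le_left : U ⊓ V ≤ U)) n).app F)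
            (-((NatTrans.rightDerived (CohCx.restrPushToRestrPush f (inf_le_right : U ⊓ V ≤ V)) n).app F)))).Exact ∧
        (ComposableArrows.mk₂
          (biprod.desc
            ((NatTrans.rightDerived (CohCx.restrPushToRestrPush f (inf_le_left : U ⊓ V ≤ U)) n).app F)
            (-((NatTrans.rightDerived (CohCx.restrPushToRestrPush f (inf_le_right : U ⊓ V ≤ V)) n).app F)))
          (δ n)).Exact ∧
        (ComposableArrows.mk₂ (δ n)
          (biprod.lift ((NatTrans.rightDerived (CohCx.pushToRestrPush f U) (n + 1)).app F)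
            ((NatTrans.rightDerived (CohCx.pushToRestrPush f V) (n + 1)).app F))).Exact := by
  have h := mvExact f U V hUV
  exact ⟨fun n => δ h F n, mono_lift h F, fun n => ⟨exact₂ h F n, exact₃ h F n, exact₁ h F n⟩⟩

end Groth.Agent.S0873
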