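import Groth.Statements.S0874
import Groth.Agent.Lib.Helper53.RlimInj

set_option autoImplicit false
universe u
open CategoryTheory
open CohTop

namespace Groth.Agent.S0874

open TopologicalSpace CategoryTheory.Limits in
/-- Let (K_n) be an inverse system in D(Ab X), the derived category of sheaves of abelian groups on X,
with derived limit L (through maps a_n : L -> K_n), x a point and m an integer. Suppose there are an
index n(x) and a fundamental system of open neighbourhoods U of x such that (1) the inverse system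
H^{m-1}(U, K_n) has vanishing R^1 lim and (2) for every n >= n(x), the transition map from H^m(U,
K_n) to H^m(U, K_{n(x)}) is one-to-one. Then a_{n(x)} induces an injection of stalks at x, from
H^m(L) into H^m(K_{n(x)}). -/
theorem result {X : TopCat.{u}} [HasDerivedCategory.{u} (CohTop.Ab X)]
    (K : ℕ → DerivedCategory (CohTop.Ab X)) (t : ∀ n, K (n + 1) ⟶ K n) [HasProduct K]
    (L : DerivedCategory (CohTop.Ab X)) (a : ∀ n, L ⟶ K n) (hL : CohCx.IsRlimVia K t L a)
    (x : X) (m : ℤ) (nx : ℕ)
    (h : ∀ V : Opens X, x ∈ V → ∃ U : Opens X, x ∈ U ∧ U ≤ V ∧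
      CohCx.LimOneIsZero (fun n => CohCx.HDU (K n) (m - 1) U)
        (fun n => Preadditive.rightComp _ ((shiftFunctor _ (m - 1)).map (t n))) ∧
      ∀ k : ℕ, Function.Injective
        (Preadditive.rightComp _ ((shiftFunctor _ m).map (CohCx.transition K t nx k)) :
          CohCx.HDU (K (nx + k)) m U → CohCx.HDU (K nx) m U)) :
    Function.Injective ((TopCat.Presheaf.stalkFunctor AddCommGrpCat.{u} x).map
      ((DerivedCategory.homologyFunctor (CohTop.Ab X) m).map (a nx)).hom) := by
  open Groth.Agent.Lib.Helper53.RlimInj in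
  let F : TopCat.Presheaf AddCommGrpCat.{u} X := (CohCx.HD L m).obj
  let G : TopCat.Presheaf AddCommGrpCat.{u} X := (CohCx.HD (K nx) m).obj
  let τ : F ⟶ G := ((DerivedCategory.homologyFunctor (CohTop.Ab X) m).map (a nx)).hom
  have key : ∀ γ : ToType (TopCat.Presheaf.stalk F x),
      (TopCat.Presheaf.stalkFunctor AddCommGrpCat.{u} x).map τ γ = 0 → γ = 0 := by
    intro γ hγ
    obtain ⟨V, hxV, σ, rfl⟩ := TopCat.Presheaf.exists_germ_eq F γ
    rw [TopCat.Presheaf.stalkFunctor_map_germ_apply] at hγ
    have h0 : G.germ V x hxV (τ.app (Opposite.op V) σ) = G.germ V x hxV 0 :=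
      hγ.trans (map_zero _).symm
    obtain ⟨W, hxW, iU, iV, hW⟩ := TopCat.Presheaf.germ_eq G x hxV hxV _ _ h0
    rw [map_zero] at hW
    let σ' := F.map iU.op σ
    have hσ' : τ.app (Opposite.op W) σ' = 0 := by
      have hn := ConcreteCategory.congr_hom (τ.naturality iU.op) σ
      simp only [ConcreteCategory.comp_apply] at hn
      exact hn.trans hW
    obtain ⟨S₀, hS₀, hcore⟩ := core K t L a hL W m nx σ' hσ'
    obtain ⟨U', f', hf', hxU'⟩ := hS₀ x hxW
    obtain ⟨U, hxU, hUU', hc⟩ := h U' hxU'
    have h1 := hcore (homOfLE hUU' ≫ f') (S₀.downward_closed hf' _) hc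
    have h2 : F.germ V x hxV σ = F.germ U x hxU (F.map (homOfLE hUU' ≫ f').op σ') := by
      rw [TopCat.Presheaf.germ_res_apply, TopCat.Presheaf.germ_res_apply]
    rw [h2, h1, map_zero]
  intro γ γ' hγ
  have := key (γ - γ') (by rw [map_sub, hγ, sub_self])
  exact sub_eq_zero.1 this

end Groth.Agent.S0874
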