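import Groth.Statements.S0875
import Groth.Agent.Lib.Helper53.TruncTowerSite
import Groth.Agent.S0874

set_option autoImplicit false
universe u
open CategoryTheory
open CohTop

namespace Groth.Agent.S0875

open TopologicalSpace CategoryTheory.Limits in
/-- Let E be an object of the derived category of abelian sheaves on X. Assume every point x has a
function p(x, -) and a fundamental system of open neighbourhoods U with H^p(U, H^{m-p}(E)) = 0 for
all m and all p > p(x, m). Then E is a derived limit of the tower of its truncations τ_{≥ -n} E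
through the canonical maps E -> τ_{≥ -n} E (equivalently, E -> R lim τ_{≥ -n} E is an isomorphism).
The existence of the countable product of the truncations is assumed. -/
theorem result {X : TopCat.{u}}
    [HasDerivedCategory.{u} (CohTop.Ab X)] (E : DerivedCategory (CohTop.Ab X))
    [HasProduct (CohCx.truncTower E)]
    (h : ∀ x : X, ∃ p : ℤ → ℤ, ∀ V : Opens X, x ∈ V → ∃ U : Opens X, x ∈ U ∧ U ≤ V ∧
      ∀ (m : ℤ) (k : ℕ), p m < k → Subsingleton (CohTop.HU (CohCx.HD E (m - k)) k U)) :
    CohCx.IsRlimVia (CohCx.truncTower E) (CohCx.truncTowerMap E) E (CohCx.toTruncTower E) := by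
  open Groth.Agent.Lib.Helper53.TruncTowerSite in
  refine isRlimVia_of_epi E ?_
  intro L a hL q α hα
  rw [← CategoryTheory.Sheaf.isLocallySurjective_iff_epi']
  change TopCat.Presheaf.IsLocallySurjective α.hom
  rw [TopCat.Presheaf.locally_surjective_iff_surjective_on_stalks]
  intro x
  obtain ⟨p, hp⟩ := h x
  let n₀ : ℕ := Int.toNat (max (-q) (p q - q))
  have hinj := Groth.Agent.S0874.result (CohCx.truncTower E) (CohCx.truncTowerMap E) L a hL x q n₀ (by
    intro V hxV
    obtain ⟨U, hxU, hUV, hvan⟩ := hp V hxV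
    exact ⟨U, hxU, hUV, cond_of_vanishing E U p hvan q n₀ (by omega)⟩)
  haveI hι : IsIso ((DerivedCategory.homologyFunctor (CohTop.Ab X) q).map (CohCx.toTruncTower E n₀)) :=
    Groth.Agent.Lib.Helper53.TruncTower.isIso_homology_toTruncTower E n₀ q (by omega)
  let Sx := TopCat.Presheaf.stalkFunctor AddCommGrpCat.{u} x
  let β := (DerivedCategory.homologyFunctor (CohTop.Ab X) q).map (a n₀)
  let ι := (DerivedCategory.homologyFunctor (CohTop.Ab X) q).map (CohCx.toTruncTower E n₀)
  have hcomp : Sx.map α.hom ≫ Sx.map β.hom = Sx.map ι.hom := by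
    rw [← Functor.map_comp]
    exact congrArg (fun z => Sx.map z.hom) (hα n₀)
  intro γ
  let ρ := Sx.map (inv ι).hom (Sx.map β.hom γ)
  refine ⟨ρ, ?_⟩
  apply hinj
  have h1 : Sx.map β.hom (Sx.map α.hom ρ) = Sx.map ι.hom ρ := by
    have := ConcreteCategory.congr_hom hcomp ρ
    simpa only [ConcreteCategory.comp_apply] using this
  refine h1.trans ?_
  have h2 : Sx.map (inv ι).hom ≫ Sx.map ι.hom = 𝟙 _ := by
    rw [← Functor.map_comp]
    have : (inv ι).hom ≫ ι.hom = 𝟙 _ := by
      have := congrArg (fun z => z.hom) (IsIso.inv_hom_id ι)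
      exact this
    rw [this, CategoryTheory.Functor.map_id]
  have h3 := ConcreteCategory.congr_hom h2 (Sx.map β.hom γ)
  rw [ConcreteCategory.comp_apply] at h3
  exact h3

end Groth.Agent.S0875
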