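import Groth.Statements.S0883
import Groth.Agent.Lib.Helper13.HDUPush2
import Mathlib.Algebra.Homology.DerivedCategory.DerivabilityStructureInjectives

set_option autoImplicit false
universe u
open CategoryTheory
open CohTop

namespace Groth.Agent.S0883

open TopologicalSpace in
/-- Part (1) (abelian sheaves; the assertion about Rf_* K is not included): given a continuous map f : X
-> Y, a basis B of opens of Y and an object K of the derived category of abelian sheaves on X such
that H^i(f^{-1}V, K) = 0 for all i < 0 and V in B. Then H^i(f^{-1}V, K) = 0 for i < 0 and every open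
V of Y, and the presheaf V ↦ H^0(f^{-1}V, K) is a sheaf on Y. -/
theorem result {X Y : TopCat.{u}} (f : X ⟶ Y)
    [HasDerivedCategory.{u} (CohTop.Ab X)] (B : Set (Opens Y)) (hB : Opens.IsBasis B)
    (K : DerivedCategory (CohTop.Ab X))
    (h : ∀ V ∈ B, ∀ i : ℤ, i < 0 → Subsingleton (CohCx.HDU K i ((Opens.map f).obj V))) :
    (∀ (V : Opens Y) (i : ℤ), i < 0 → Subsingleton (CohCx.HDU K i ((Opens.map f).obj V))) ∧
    Presheaf.IsSheaf (Opens.grothendieckTopology Y) ((Opens.map f).op ⋙ CohCx.HDUPresheaf K 0) := by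
  classical
  letI : HasDerivedCategory.{u} (CohTop.Ab Y) :=
    Groth.Agent.Lib.Helper13.DerSmall.hasDerivedCategorySmall _
  obtain ⟨I, hI, ⟨e⟩⟩ := Groth.Agent.Lib.Helper13.KInjDerAdj.exists_kInj K
  haveI := hI
  let G : CochainComplex (CohTop.Ab Y) ℤ :=
    ((CohTop.push f).mapHomologicalComplex (ComplexShape.up ℤ)).obj I
  haveI : CochainComplex.IsKInjective G := Groth.Agent.Lib.Helper13.HDUSect.isKInjective_push f I
  -- comparison of presheaves
  let isoA : ∀ n : ℤ, (Opens.map f).op ⋙ CohCx.HDUPresheaf K n ≅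
      (Opens.map f).op ⋙ CohCx.HDUPresheaf (DerivedCategory.Q.obj I) n := fun n =>
    Functor.isoWhiskerLeft (Opens.map f).op
      (Functor.isoWhiskerLeft _ (preadditiveYoneda.mapIso ((shiftFunctor _ n).mapIso e.symm)))
  have hsub : ∀ V ∈ B, ∀ i : ℤ, i < 0 → Subsingleton
      (((Opens.map f).op ⋙ CohCx.HDUPresheaf (DerivedCategory.Q.obj I) i).obj (Opposite.op V)) := by
    intro V hV i hi
    have h0 : Subsingleton (((Opens.map f).op ⋙ CohCx.HDUPresheaf K i).obj (Opposite.op V)) :=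
      h V hV i hi
    exact (((isoA i).app (Opposite.op V)).addCommGroupIsoToAddEquiv.symm.toEquiv).subsingleton
  -- `Q G` is in degrees `≥ 0`
  have hGE : (DerivedCategory.Q.obj G).IsGE 0 := by
    rw [DerivedCategory.isGE_iff]
    intro i hi
    obtain ⟨e1⟩ := Groth.Agent.Lib.Helper13.HDUSect.sheafify_push_iso_homology f I i
    have hz := Groth.Agent.Lib.Helper13.HDUSect.isZero_sheafify_of_basis _ B hB
      (fun V hV => hsub V hV i hi)
    exact Limits.IsZero.of_iso (Limits.IsZero.of_iso hz e1.symm)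
      ((DerivedCategory.homologyFunctorFactors _ i).app G)
  obtain ⟨M, hM, ⟨eM⟩⟩ := DerivedCategory.exists_iso_Q_obj_of_isGE (DerivedCategory.Q.obj G) 0
  haveI := hM
  obtain ⟨L, hL, j, hj⟩ := CochainComplex.Plus.exists_quasiIso_injective
    (⟨M, 0, hM⟩ : CochainComplex.Plus (CohTop.Ab Y)) 0
  let J' : CochainComplex (CohTop.Ab Y) ℤ :=
    ((InjectiveObject.ι (CohTop.Ab Y)).mapHomologicalComplex (.up ℤ)).obj L.obj
  haveI : CochainComplex.IsKInjective J' := inferInstance
  haveI : J'.IsStrictlyGE 0 := by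
    rw [CochainComplex.isStrictlyGE_mapHomologicalComplex_obj_iff _ (InjectiveObject.ι _)]
    exact hL
  let jh : M ⟶ J' := j.hom
  have hq : QuasiIso jh := hj
  haveI : IsIso (DerivedCategory.Q.map jh) := by
    rw [DerivedCategory.isIso_Q_map_iff_quasiIso]; exact hq
  let eGJ : DerivedCategory.Q.obj G ≅ DerivedCategory.Q.obj J' :=
    eM ≪≫ asIso (DerivedCategory.Q.map jh)
  let isoC : ∀ n : ℤ, CohCx.HDUPresheaf (DerivedCategory.Q.obj G) n ≅
      CohCx.HDUPresheaf (DerivedCategory.Q.obj J') n := fun n =>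
    Functor.isoWhiskerLeft _ (preadditiveYoneda.mapIso ((shiftFunctor _ n).mapIso eGJ))
  have isoB : ∀ n : ℤ, Nonempty ((Opens.map f).op ⋙ CohCx.HDUPresheaf (DerivedCategory.Q.obj I) n ≅
      CohCx.HDUPresheaf (DerivedCategory.Q.obj G) n) := fun n =>
    Groth.Agent.Lib.Helper13.HDUSect.push_presheaf_iso f I n
  refine ⟨fun V i hi => ?_, ?_⟩
  · obtain ⟨eB⟩ := isoB i
    have h1 := Groth.Agent.Lib.Helper13.HDUSect.subsingleton_HDU_of_isStrictlyGE J' i hi V
    have h2 : Subsingleton ((CohCx.HDUPresheaf (DerivedCategory.Q.obj J') i).obj (Opposite.op V)) := h1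
    exact ((((isoA i ≪≫ eB ≪≫ isoC i).app (Opposite.op V)).addCommGroupIsoToAddEquiv.toEquiv)).subsingleton
  · obtain ⟨eB⟩ := isoB 0
    exact (Presheaf.isSheaf_of_iso_iff (isoA 0 ≪≫ eB ≪≫ isoC 0)).2
      (Groth.Agent.Lib.Helper13.HDUSect.isSheaf_HDUPresheaf_zero J')

end Groth.Agent.S0883
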