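import Groth.Statements.S0889
import Groth.Agent.Lib.Helper2.DCohPC

set_option autoImplicit false
universe u
open CategoryTheory
attribute [local instance] HasDerivedCategory.standard
open DCoh

namespace Groth.Agent.S0889

open AlgebraicGeometry CategoryTheory.Pretriangulated in

open AlgebraicGeometry CategoryTheory.Pretriangulated in
/-- Pseudo-coherence in a distinguished triangle K -> L -> M -> K[1] of D(O_X). Part (1): M inherits
m-pseudo-coherence from (m+1)-pseudo-coherence of K together with m-pseudo-coherence of L. Part (2):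
L inherits m-pseudo-coherence from K and M. Part (3): K inherits (m+1)-pseudo-coherence from
(m+1)-pseudo-coherence of L together with m-pseudo-coherence of M. -/
theorem result {X : Scheme.{u}} (m : ℤ) (T : Triangle (DCoh.D X))
    (hT : T ∈ distinguishedTriangles) :
    (DCoh.IsPseudoCoherentD (m + 1) T.obj₁ → DCoh.IsPseudoCoherentD m T.obj₂ → DCoh.IsPseudoCoherentD m T.obj₃) ∧
    (DCoh.IsPseudoCoherentD m T.obj₁ → DCoh.IsPseudoCoherentD m T.obj₃ → DCoh.IsPseudoCoherentD m T.obj₂) ∧
    (DCoh.IsPseudoCoherentD (m + 1) T.obj₂ → DCoh.IsPseudoCoherentD m T.obj₃ →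
      DCoh.IsPseudoCoherentD (m + 1) T.obj₁) := by
  simp only [Groth.Agent.Lib.Helper2.DCohPC.isPseudoCoherentD_iff]
  exact ⟨Groth.Agent.Lib.Helper2.DCohPC.isPseudoCoherentD_obj₃ T hT m,
    Groth.Agent.Lib.Helper2.DCohPC.isPseudoCoherentD_obj₂ T hT m,
    Groth.Agent.Lib.Helper2.DCohPC.isPseudoCoherentD_obj₁ T hT m⟩

end Groth.Agent.S0889
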