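import Groth.Statements.S0891
import Groth.Agent.S11156
import Groth.Agent.Lib.Helper60.TensorMod
import Groth.Agent.Lib.Helper60.TensorRestrict
import Groth.Agent.Lib.Helper42.TensorColim
import Groth.Agent.Lib.Helper26.ExtZeroSch

set_option autoImplicit false
universe u
open CategoryTheory
open Coh

namespace Groth.Agent.S0891


section Aux
open CategoryTheory CategoryTheory.Limits AlgebraicGeometry Scheme.Modules
open Groth.Agent.Lib.Helper60.TensorLib Groth.Agent.Lib.Helper60.TensorRestrict
open Groth.Agent.Lib.Helper42.TensorColim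

variable {X : Scheme.{u}}

/-- `M ↦ M ⊗ N`. -/
noncomputable def tR (N : X.Modules) : X.Modules ⥤ X.Modules := tensR X.sheaf N

lemma tR_obj (N M : X.Modules) : (tR N).obj M = CohB1.tensorMod M N := rfl

instance (N : X.Modules) : PreservesFiniteColimits (tR N) := by
  have : PreservesColimitsOfSize.{u, u} (tR N) :=
    inferInstanceAs (PreservesColimitsOfSize.{u, u} (tensR X.sheaf N))
  exact PreservesColimitsOfSize.preservesFiniteColimits _

/-- `O^n ⊗ N ≅ N^n` (as a coproduct). -/
noncomputable def freeTensorIso (n : ℕ) (N : X.Modules) :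
    CohB1.tensorMod (FlatMod.freeMod X n) N ≅ ∐ fun _ : Fin n => N :=
  PreservesCoproduct.iso (tR N) (fun _ : Fin n => Coh.structureModule X) ≪≫
    Sigma.mapIso (fun _ => (nonempty_tensorMod_unit_left N).some)

theorem injective_tensor_finLocFree (I E : X.Modules) [Injective I]
    (hE : FlatMod.IsFinLocFree E) : Injective (CohB1.tensorMod E I) := by
  apply Groth.Agent.S11156.result
  intro x
  obtain ⟨U, n, hxU, ⟨e⟩⟩ := hE x
  refine ⟨U, hxU, ?_⟩
  have hI : Injective ((restrictFunctor U.ι).obj I) :=
    Groth.Agent.Lib.Helper26.ExtZeroSch.injective_restrict U I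
  have i1 : (restrictFunctor U.ι).obj (CohB1.tensorMod E I) ≅
      CohB1.tensorMod (E.restrict U.ι) (I.restrict U.ι) := restrictTensorIso U.ι E I
  have i2 := tensorModCongrLeft e (I.restrict U.ι)
  have i3 := freeTensorIso n (I.restrict U.ι)
  have : HasFiniteBiproducts (U : Scheme.{u}).Modules :=
    HasFiniteBiproducts.of_hasFiniteCoproducts
  have : Injective (⨁ fun _ : Fin n => I.restrict U.ι) := by
    have : ∀ _ : Fin n, Injective (I.restrict U.ι) := fun _ => hI
    infer_instance
  exact Injective.of_iso (i1 ≪≫ i2 ≪≫ i3 ≪≫ (biproduct.isoCoproduct _).symm).symm this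

end Aux


open AlgebraicGeometry in
/-- On a scheme X, let I be an injective 𝒪_X-module and E a finite locally free 𝒪_X-module. Then E ⊗ I
is an injective 𝒪_X-module. (The published statement is for ringed spaces; it is stated here for
schemes.) -/
theorem result {X : Scheme.{u}} (I E : X.Modules) [Injective I]
    (hE : FlatMod.IsFinLocFree E) : Injective (CohB1.tensorMod E I) := by
  exact injective_tensor_finLocFree I E hE

end Groth.Agent.S0891
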