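import Groth.Statements.S0892
import Groth.Agent.Lib.Helper15.LocFreeLocus

set_option autoImplicit false
universe u
open CategoryTheory
attribute [local instance] HasDerivedCategory.standard
open DCoh

namespace Groth.Agent.S0892

open AlgebraicGeometry in
/-- Let X be a scheme and E a perfect object of D(O_X). Then the set U of points x such that for every i
the stalk H^i(E)_x is a finite free O_{X,x}-module is open, all cohomology sheaves H^i(E) are finite
locally free over U, and every open W over which all H^i(E) are finite locally free is contained in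
U. (Stated for schemes; the published statement is for ringed spaces all of whose stalks of the
structure sheaf are local rings.) -/
theorem result {X : Scheme.{u}} (E : DCoh.D X) (hE : DCoh.IsPerfect E) :
    ∃ U : X.Opens,
      (U : Set X) = {x : X | ∀ i : ℤ, Module.Free (X.presheaf.stalk x) ((DCoh.HD E i).presheaf.stalk x) ∧
        Module.Finite (X.presheaf.stalk x) ((DCoh.HD E i).presheaf.stalk x)} ∧
      (∀ i : ℤ, FlatMod.IsFinLocFree ((DCoh.HD E i).restrict U.ι)) ∧
      ∀ W : X.Opens, (∀ i : ℤ, FlatMod.IsFinLocFree ((DCoh.HD E i).restrict W.ι)) → W ≤ U := by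
  classical
  have hq : ∀ i, (DCoh.HD E i).IsQuasicoherent :=
    Groth.Agent.Lib.Helper15.LocFreeLocus.isQuasicoherent_HD_of_isPerfect E hE
  let S : Set X.Opens := {W | ∀ i : ℤ, Groth.Agent.Lib.Helper15.LocFreeLocus.LF (DCoh.HD E i) W}
  refine ⟨sSup S, ?_, ?_, ?_⟩
  · ext x
    constructor
    · intro hx
      obtain ⟨W, hWS, hxW⟩ := TopologicalSpace.Opens.mem_sSup.1 hx
      intro i
      haveI := hq i
      exact (hWS i).stalk x hxW
    · intro hx
      obtain ⟨W, hxW, hW⟩ :=
        Groth.Agent.Lib.Helper15.LocFreeLocus.exists_LF_HD_of_free_stalks E hE x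
          (fun i => (hx i).1)
      exact TopologicalSpace.Opens.mem_sSup.2 ⟨W, hW, hxW⟩
  · intro i
    haveI := hq i
    apply Groth.Agent.Lib.Helper15.LocFreeLocus.isFinLocFree_of_forall_LF
    intro z
    obtain ⟨W, hWS, hzW⟩ := TopologicalSpace.Opens.mem_sSup.1 z.2
    exact ⟨(sSup S).ι ⁻¹ᵁ W, hzW, (hWS i).restrict⟩
  · intro W hW
    refine le_sSup ?_
    intro i
    haveI := hq i
    exact Groth.Agent.Lib.Helper15.LocFreeLocus.LF.of_isFinLocFree_restrict (hW i)

end Groth.Agent.S0892
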