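import Groth.Statements.S0898
-- import your own Groth.Agent.* helpers here

set_option autoImplicit false
universe u
open CategoryTheory
open Hyper

namespace Groth.Agent.S0898

section aux
open CategoryTheory.Limits

variable {C : Type u} [SmallCategory C] (J : GrothendieckTopology C)

lemma isSRCovering_iff {K L : FormalCoproduct.{u} C} (f : K ⟶ L) :
    Hyper.IsSRCovering J f ↔ ∀ j : L.I, Sieve.ofArrows
      (fun i : {i : K.I // f.f i = j} => K.obj i.1)
      (fun i => f.φ i.1 ≫ eqToHom (congrArg L.obj i.2)) ∈ J (L.obj j) := Iff.rfl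

lemma comp_cov {K L M : FormalCoproduct.{u} C} (f : K ⟶ L) (g : L ⟶ M)
    (hf : Hyper.IsSRCovering J f) (hg : Hyper.IsSRCovering J g) :
    Hyper.IsSRCovering J (f ≫ g) := by
  intro m
  refine J.transitive (hg m) _ ?_
  intro Y h hh
  obtain ⟨⟨j, hj⟩, a, rfl⟩ := (Sieve.mem_ofArrows_iff _ _ h).1 hh
  refine J.superset_covering ?_ (J.pullback_stable a (hf j))
  intro Z b hb
  obtain ⟨⟨i, hi⟩, c, hc⟩ := (Sieve.mem_ofArrows_iff _ _ _).1 hb
  refine (Sieve.mem_ofArrows_iff _ _ _).2 ⟨⟨i, ?_⟩, c, ?_⟩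
  · change g.f (f.f i) = m
    rw [hi, hj]
  · subst hi
    subst hj
    simp only [eqToHom_refl, Category.comp_id] at hc ⊢
    change b ≫ a ≫ g.φ (f.f i) = c ≫ f.φ i ≫ g.φ (f.f i)
    rw [← Category.assoc, hc, Category.assoc]

lemma iso_cov {K L : FormalCoproduct.{u} C} (e : K ≅ L) :
    Hyper.IsSRCovering J e.hom := by
  intro j
  have h := (FormalCoproduct.hom_ext_iff' (e.inv ≫ e.hom) (𝟙 L)).1 e.inv_hom_id j
  obtain ⟨h1, h2⟩ := h
  change e.hom.f (e.inv.f j) = j at h1
  convert J.top_mem (L.obj j)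
  rw [← Sieve.id_mem_iff_eq_top]
  refine (Sieve.mem_ofArrows_iff _ _ _).2 ⟨⟨e.inv.f j, h1⟩, e.inv.φ j, ?_⟩
  change 𝟙 (L.obj j) = e.inv.φ j ≫ e.hom.φ (e.inv.f j) ≫ eqToHom _
  rw [← Category.assoc]
  exact h2.symm

variable [HasPullbacks C]

/-- the componentwise pullback cones -/
noncomputable def pb {K L L' : FormalCoproduct.{u} C} (f : K ⟶ L) (g : L' ⟶ L)
    (i : Function.Pullback g.f f.f) :
    PullbackCone (g.φ i.1.1 ≫ eqToHom (by rw [i.2])) (f.φ i.1.2) :=
  PullbackCone.mk (pullback.fst _ _) (pullback.snd _ _) pullback.condition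

noncomputable def hpb {K L L' : FormalCoproduct.{u} C} (f : K ⟶ L) (g : L' ⟶ L)
    (i : Function.Pullback g.f f.f) : IsLimit (pb f g i) :=
  pullbackIsPullback _ _

lemma pullbackCone_fst_cov {K L L' : FormalCoproduct.{u} C} (f : K ⟶ L) (g : L' ⟶ L)
    (hf : Hyper.IsSRCovering J f) :
    Hyper.IsSRCovering J (FormalCoproduct.pullbackCone g f (pb f g)).fst := by
  intro j'
  refine J.superset_covering ?_ (J.pullback_stable (g.φ j') (hf (g.f j')))
  intro Y a ha
  obtain ⟨⟨k, hk⟩, b, hb⟩ := (Sieve.mem_ofArrows_iff _ _ _).1 ha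
  let i : Function.Pullback g.f f.f := ⟨(j', k), hk.symm⟩
  have hcond : a ≫ (g.φ i.1.1 ≫ eqToHom (by rw [i.2])) = b ≫ f.φ i.1.2 := by
    change a ≫ g.φ j' ≫ eqToHom _ = b ≫ f.φ k
    rw [← Category.assoc, hb]
    simp
  refine (Sieve.mem_ofArrows_iff _ _ _).2 ⟨⟨i, rfl⟩, pullback.lift a b hcond, ?_⟩
  change a = pullback.lift a b hcond ≫ pullback.fst _ _ ≫ eqToHom _
  rw [eqToHom_refl, Category.comp_id, pullback.lift_fst]

end aux

open CategoryTheory.Limits in
/-- Parts (1) and (2), about covering morphisms between semi-representable objects (formal coproducts)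
of a site: (1) the composite of two covering morphisms is a covering, and (2) for a site with fibre
products, the base change of a covering K -> L along any L' -> L (which exists) is a covering L' x_L
K -> L'. -/
theorem result {C : Type u} [SmallCategory C] (J : GrothendieckTopology C) :
    (∀ {K L M : FormalCoproduct.{u} C} (f : K ⟶ L) (g : L ⟶ M),
      Hyper.IsSRCovering J f → Hyper.IsSRCovering J g → Hyper.IsSRCovering J (f ≫ g)) ∧
    (∀ [HasPullbacks C] {K L L' : FormalCoproduct.{u} C} (f : K ⟶ L) (g : L' ⟶ L),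
      Hyper.IsSRCovering J f → HasPullback g f ∧ ∀ [HasPullback g f], Hyper.IsSRCovering J (pullback.fst g f)) := by
  refine ⟨fun f g hf hg => comp_cov J f g hf hg, ?_⟩
  intro _ K L L' f g hf
  have hlim := FormalCoproduct.isLimitPullbackCone g f (pb f g) (hpb f g)
  refine ⟨⟨⟨⟨_, hlim⟩⟩⟩, ?_⟩
  intro _
  let e := (limit.isLimit (cospan g f)).conePointUniqueUpToIso hlim
  have he : pullback.fst g f = e.hom ≫ (FormalCoproduct.pullbackCone g f (pb f g)).fst :=
    ((limit.isLimit (cospan g f)).conePointUniqueUpToIso_hom_comp hlim WalkingCospan.left).symm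
  rw [he]
  exact comp_cov J _ _ (iso_cov J e) (pullbackCone_fst_cov J f g hf)

end Groth.Agent.S0898
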