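import Groth.Statements.S0901
import Groth.Agent.Lib.Helper28.AuxSpace

set_option autoImplicit false
universe u
open CategoryTheory
open CohTop

namespace Groth.Agent.S0901

open TopologicalSpace Opposite CategoryTheory.Limits in
/-- Let F be an abelian sheaf on X and U_i a family of opens with union U. Assume that for every union
U' of opens of the form U_{i_0} ∩ ... ∩ U_{i_p} the restriction map F(U) -> F(U') is surjective.
Then the Cech cohomology of F with respect to the family vanishes in all positive degrees. -/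
theorem result {X : TopCat.{u}} (F : CohTop.Ab X)
    {ι : Type u} (U : ι → Opens X)
    (h : ∀ (κ : Type u) (a : κ → Σ p : ℕ, Fin (p + 1) → ι),
      Function.Surjective (F.obj.map (homOfLE
        (iSup_le fun k => (iInf_le _ ⟨0, Nat.succ_pos _⟩).trans (le_iSup U ((a k).2 ⟨0, Nat.succ_pos _⟩)) :
          (⨆ k, ⨅ j, U ((a k).2 j)) ≤ iSup U)).op)) (p : ℕ) :
    IsZero (CohTop.cechH F.obj U (p + 1)) := by
  open Groth.Agent.Lib.Helper28 in
  have : TopCat.Sheaf.IsFlasque (AuxSpace.G U F) := AuxSpace.isFlasque_G U F h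
  have h0 : IsZero (CohTop.cechH (AuxSpace.G U F).obj (AuxSpace.Vb (ι := ι)) (p + 1)) :=
    Groth.Agent.S0455.result (AuxSpace.G U F) (AuxSpace.Vb (ι := ι)) p
  have e := Groth.Agent.Lib.Helper28.CechBC2.cochainIso (AuxSpace.φ U) (AuxSpace.Vb (ι := ι)) F.obj
  have hU : (fun i => (AuxSpace.φ U).obj (AuxSpace.Vb i)) = U := funext (AuxSpace.φobj_Vb U)
  rw [hU] at e
  exact IsZero.of_iso h0
    ((HomologicalComplex.homologyFunctor _ _ (p + 1)).mapIso e.symm)

end Groth.Agent.S0901
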