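import Groth.Statements.S0905
import Mathlib.CategoryTheory.Sites.EpiMono
import Mathlib.Algebra.Homology.ShortComplex.ExactFunctor
import Mathlib.Algebra.Homology.DerivedCategory.Ext.EnoughProjectives
-- import your own Groth.Agent.* helpers here

set_option autoImplicit false
universe u
open CategoryTheory
open CohSite

namespace Groth.Agent.S0905

section aux
open Opposite CategoryTheory.Limits

variable {C : Type u} [SmallCategory C] (J : GrothendieckTopology C)

lemma surj_of_epi (U : C) (hU : CohSite.IsWeaklyContractible J U)
    {F G : Sheaf J AddCommGrpCat.{u}} (e : F ⟶ G) [Epi e] :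
    Function.Surjective (e.hom.app (op U)) := by
  have hls : Sheaf.IsLocallySurjective e := (Sheaf.isLocallySurjective_iff_epi' (φ := e)).2 inferInstance
  have : Epi ((sheafCompose J (forget AddCommGrpCat.{u})).map e) := inferInstance
  exact hU _ _ ((sheafCompose J (forget AddCommGrpCat.{u})).map e) this

/-- the adjunction between presheaves of sets and abelian sheaves -/
noncomputable def adj :
    (Functor.whiskeringRight Cᵒᵖ _ _).obj AddCommGrpCat.free.{u} ⋙
      presheafToSheaf J AddCommGrpCat.{u} ⊣
    sheafToPresheaf J AddCommGrpCat.{u} ⋙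
      (Functor.whiskeringRight Cᵒᵖ _ _).obj (forget AddCommGrpCat.{u}) :=
  (Adjunction.whiskerRight Cᵒᵖ AddCommGrpCat.adj.{u}).comp
    (sheafificationAdjunction J AddCommGrpCat.{u})

lemma projective_free (U : C) (hU : CohSite.IsWeaklyContractible J U) :
    Projective ((yoneda ⋙ (Functor.whiskeringRight _ _ _).obj
      AddCommGrpCat.free.{u} ⋙ presheafToSheaf J AddCommGrpCat.{u}).obj U) := by
  constructor
  intro E X f e he
  let φ := (adj J).homEquiv (yoneda.obj U) X f
  obtain ⟨t, ht⟩ := surj_of_epi J U hU e (yonedaEquiv φ)
  refine ⟨((adj J).homEquiv (yoneda.obj U) E).symm (yonedaEquiv.symm t), ?_⟩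
  apply ((adj J).homEquiv (yoneda.obj U) X).injective
  rw [Adjunction.homEquiv_naturality_right, Equiv.apply_symm_apply]
  apply yonedaEquiv.injective
  rw [yonedaEquiv_comp, Equiv.apply_symm_apply]
  exact ht

end aux

open Opposite CategoryTheory.Limits in
/-- Parts (1) and (2), for a weakly contractible object U of a site (one over which every epimorphism of
sheaves of sets is surjective on sections): (1) the functor F ↦ F(U) from abelian sheaves to abelian
groups preserves finite colimits (it is exact, finite limits being automatic), and (2) H^p(U, F) = 0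
for every abelian sheaf F and every p > 0. (Part (3) about torsors is not included.) -/
theorem result {C : Type u} [SmallCategory C] (J : GrothendieckTopology C)
    (U : C) (hU : CohSite.IsWeaklyContractible J U) :
    PreservesFiniteColimits (sheafToPresheaf J AddCommGrpCat.{u} ⋙ (evaluation Cᵒᵖ AddCommGrpCat.{u}).obj (op U)) ∧
    ∀ (F : Sheaf J AddCommGrpCat.{u}) (p : ℕ), Subsingleton (CohSite.HU F (p + 1) U) := by
  refine ⟨?_, ?_⟩
  · rw [Functor.preservesFiniteColimits_iff_forall_exact_map_and_epi]
    intro S hS
    refine ⟨?_, ?_⟩
    · exact ((Functor.preservesFiniteLimits_iff_forall_exact_map_and_mono _).1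
        inferInstance S hS).1
    · have := hS.epi_g
      rw [AddCommGrpCat.epi_iff_surjective]
      exact surj_of_epi J U hU S.g
  · intro F p
    exact @CategoryTheory.Abelian.Ext.subsingleton_of_projective _ _ _ _
      ((yoneda ⋙ (Functor.whiskeringRight _ _ _).obj
        AddCommGrpCat.free.{u} ⋙ presheafToSheaf J AddCommGrpCat.{u}).obj U) F
      (projective_free J U hU) p

end Groth.Agent.S0905
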