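import Groth.Statements.S0912
import Groth.Agent.Lib.Helper12.LTK5

set_option autoImplicit false
universe u
open CategoryTheory
attribute [local instance] HasDerivedCategory.standard
open DCoh

namespace Groth.Agent.S0912

open AlgebraicGeometry in
theorem result {X : Scheme.{u}} (E : DCoh.D X) (a b : ℤ) (hab : a ≤ b)
    (hL : ∀ G : X.Modules, DCoh.HasLTensorMod G) :
    DCoh.HasTorAmplitudeIn a b E ↔ DCoh.HasFlatAmplitudeIn a b E := by
  exact ⟨Groth.Agent.Lib.Helper12.LTK.hasFlatAmplitudeIn_of_torAmp E a b hab hL,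
    Groth.Agent.Lib.Helper12.LTK.hasTorAmplitudeIn_of_flatAmp E a b⟩

end Groth.Agent.S0912
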