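import Groth.Statements.S0915
import Groth.Agent.Lib.Helper12.LTK3

set_option autoImplicit false
universe u
open CategoryTheory
attribute [local instance] HasDerivedCategory.standard
open DCoh

namespace Groth.Agent.S0915

open AlgebraicGeometry CategoryTheory.Limits in
theorem result {X : Scheme.{u}} (K L : DCoh.D X) [HasBinaryBiproduct K L] (a b : ℤ)
    (h : DCoh.HasFlatAmplitudeIn a b (K ⊞ L)) : DCoh.HasTorAmplitudeIn a b K ∧ DCoh.HasTorAmplitudeIn a b L := by
  have h1 := Groth.Agent.Lib.Helper12.LTK.hasTorAmplitudeIn_of_flatAmp (K ⊞ L) a b h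
  exact ⟨Groth.Agent.Lib.Helper12.LTK.hasTorAmplitudeIn_of_retract
      CategoryTheory.Limits.biprod.inl CategoryTheory.Limits.biprod.fst
      CategoryTheory.Limits.biprod.inl_fst a b h1,
    Groth.Agent.Lib.Helper12.LTK.hasTorAmplitudeIn_of_retract
      CategoryTheory.Limits.biprod.inr CategoryTheory.Limits.biprod.snd
      CategoryTheory.Limits.biprod.inr_snd a b h1⟩

end Groth.Agent.S0915
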