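import Groth.Statements.S0916
import Groth.Agent.Lib.Helper12.LTK4

set_option autoImplicit false
universe u
open CategoryTheory
attribute [local instance] HasDerivedCategory.standard
open DCoh

namespace Groth.Agent.S0916

open AlgebraicGeometry CategoryTheory.Limits in
theorem result {X : Scheme.{u}} (F : X.Modules) (hL : ∀ G : X.Modules, DCoh.HasLTensorMod G) :
    FlatMod.IsFlat F ↔ ∀ (G : X.Modules) [DCoh.HasLTensorMod G],
      IsZero (DCoh.HD ((DCoh.LTensorMod G).obj (DCoh.inD X F)) (-1)) := by
  constructor
  · intro hF G _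
    exact Groth.Agent.Lib.Helper12.LTK.hasTorAmplitudeIn_inD_of_flat F hF G (-1) (Or.inl (by norm_num))
  · intro h
    exact Groth.Agent.Lib.Helper12.LTK.flat_of_tor_one_vanishes F hL h

end Groth.Agent.S0916
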