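import Groth.Statements.S0917
import Groth.Agent.Lib.Helper13.CoproductExact
import Mathlib.Algebra.Homology.HomotopyCategory.Pretriangulated
import Mathlib.Algebra.Homology.HomotopyCategory.Acyclic
import Mathlib.Algebra.Homology.Localization
import Mathlib.CategoryTheory.Abelian.GrothendieckCategory.Basic

set_option autoImplicit false
universe v u
open CategoryTheory
open CohDer

namespace Groth.Agent.S0917

open CategoryTheory.Limits CochainComplex Pretriangulated

section

variable {A : Type u} [Category.{v} A] [Abelian A]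

/-- the inclusion into the cone of a morphism with acyclic source is a quasi-isomorphism -/
lemma quasiIso_inr_of_acyclic {K L : CochainComplex A ℤ} (φ : K ⟶ L) (hK : K.Acyclic) :
    QuasiIso (mappingCone.inr φ) := by
  have h1 := HomotopyCategory.quotient_map_mem_quasiIso_iff (mappingCone.inr φ)
  rw [HomologicalComplex.mem_quasiIso_iff] at h1
  rw [← h1, HomotopyCategory.quasiIso_eq_trW_subcategoryAcyclic]
  have hT := rot_of_distTriang _ (HomotopyCategory.mappingCone_triangleh_distinguished φ)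
  exact ⟨_, _, _, hT, (HomotopyCategory.subcategoryAcyclic A).le_shift (1 : ℤ) _
    ((HomotopyCategory.quotient_obj_mem_subcategoryAcyclic_iff_acyclic K).2 hK)⟩

lemma mono_inr_f {K L : CochainComplex A ℤ} (φ : K ⟶ L) (n : ℤ) :
    Mono ((mappingCone.inr φ).f n) :=
  mono_of_mono_fac (mappingCone.inr_f_snd_v φ n)

lemma map_congr {K₁ L₁ K₂ L₂ : CochainComplex A ℤ} (φ₁ : K₁ ⟶ L₁) (φ₂ : K₂ ⟶ L₂)
    (a a' : K₁ ⟶ K₂) (b b' : L₁ ⟶ L₂) (comm : φ₁ ≫ b = a ≫ φ₂) (ha : a = a') (hb : b = b') :
    mappingCone.map φ₁ φ₂ a b comm = mappingCone.map φ₁ φ₂ a' b' (by rw [← ha, ← hb, comm]) := by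
  subst ha hb
  rfl

end

variable {A : Type u} [Category.{v} A] [Abelian A]
    [IsGrothendieckAbelian.{v} A] {ι : Type v} (K : ι → CochainComplex A ℤ)

/-- index type -/
abbrev Idx (M : CochainComplex A ℤ) : Type v := Σ i : ι, (K i ⟶ M)

/-- source coproduct -/
noncomputable abbrev src (M : CochainComplex A ℤ) : CochainComplex A ℤ :=
  ∐ (fun p : Idx K M => K p.1)

/-- evaluation -/
noncomputable def ev (M : CochainComplex A ℤ) : src K M ⟶ M :=
  Sigma.desc (fun p => p.2)

/-- functoriality of the source -/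
noncomputable def srcMap {M M' : CochainComplex A ℤ} (g : M ⟶ M') : src K M ⟶ src K M' :=
  Sigma.desc (fun p => Sigma.ι (fun q : Idx K M' => K q.1) ⟨p.1, p.2 ≫ g⟩)

/-- inclusion of a summand -/
noncomputable def inc {M : CochainComplex A ℤ} (i : ι) (w : K i ⟶ M) : K i ⟶ src K M :=
  Sigma.ι (fun p : Idx K M => K p.1) ⟨i, w⟩

lemma src_hom_ext {M Z : CochainComplex A ℤ} {f g : src K M ⟶ Z}
    (h : ∀ (i : ι) (w : K i ⟶ M), inc K i w ≫ f = inc K i w ≫ g) : f = g := by
  apply Sigma.hom_ext
  rintro ⟨i, w⟩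
  exact h i w

lemma inc_ev {M : CochainComplex A ℤ} (i : ι) (w : K i ⟶ M) :
    inc K i w ≫ ev K M = w := by
  simp [ev, inc]

lemma inc_srcMap {M M' : CochainComplex A ℤ} (g : M ⟶ M') (i : ι) (w : K i ⟶ M) :
    inc K i w ≫ srcMap K g = inc K i (w ≫ g) := by
  simp [srcMap, inc]

lemma srcMap_ev {M M' : CochainComplex A ℤ} (g : M ⟶ M') :
    ev K M ≫ g = srcMap K g ≫ ev K M' := by
  apply src_hom_ext
  intro i w
  rw [reassoc_of% (inc_ev K i w), reassoc_of% (inc_srcMap K g i w), inc_ev]

lemma srcMap_id (M : CochainComplex A ℤ) : srcMap K (𝟙 M) = 𝟙 _ := by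
  apply src_hom_ext
  intro i w
  rw [inc_srcMap, Category.comp_id, Category.comp_id]

lemma srcMap_comp {M M' M'' : CochainComplex A ℤ} (g : M ⟶ M') (g' : M' ⟶ M'') :
    srcMap K (g ≫ g') = srcMap K g ≫ srcMap K g' := by
  apply src_hom_ext
  intro i w
  rw [inc_srcMap, reassoc_of% (inc_srcMap K g i w), inc_srcMap, Category.assoc]

/-- the functor -/
noncomputable def N : CochainComplex A ℤ ⥤ CochainComplex A ℤ where
  obj M := mappingCone (ev K M)
  map {M M'} g := mappingCone.map (ev K M) (ev K M') (srcMap K g) g (srcMap_ev K g)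
  map_id M := by
    rw [map_congr _ _ _ _ _ _ _ (srcMap_id K M) rfl]
    exact mappingCone.map_id _
  map_comp {M M' M''} g g' := by
    rw [map_congr _ _ _ _ _ _ _ (srcMap_comp K g g') rfl]
    exact mappingCone.map_comp _ _ _ _ _ _ _ _ _

/-- the natural transformation -/
noncomputable def j : 𝟭 _ ⟶ N K where
  app M := mappingCone.inr (ev K M)
  naturality {M M'} g := by
    dsimp [N, mappingCone.map]
    simp

lemma acyclic_src (hK : ∀ i (n : ℤ), Limits.IsZero ((K i).homology n)) (M : CochainComplex A ℤ) :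
    (src K M).Acyclic := by
  intro n
  apply Groth.Agent.Lib.Helper13.exactAt_sigma
  intro p
  rw [HomologicalComplex.exactAt_iff_isZero_homology]
  exact hK p.1 n

theorem aux (hK : ∀ i (n : ℤ), Limits.IsZero ((K i).homology n)) :
    ∃ (N : CochainComplex A ℤ ⥤ CochainComplex A ℤ) (j : 𝟭 _ ⟶ N),
      ∀ M : CochainComplex A ℤ, (∀ n : ℤ, Mono ((j.app M).f n)) ∧ QuasiIso (j.app M) ∧
        ∀ (i : ι) (w : K i ⟶ M), Nonempty (Homotopy (w ≫ j.app M) 0) := by
  refine ⟨N K, j K, fun M => ⟨fun n => mono_inr_f _ n,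
    quasiIso_inr_of_acyclic _ (acyclic_src K hK M), fun i w => ?_⟩⟩
  have h : w = inc K i w ≫ ev K M := (inc_ev K i w).symm
  have H : Homotopy (ev K M ≫ mappingCone.inr (ev K M)) 0 :=
    HomologicalComplex.homotopyCofiber.inrCompHomotopy (ev K M) (fun n => ⟨n - 1, by simp⟩)
  refine ⟨(Homotopy.ofEq ?_).trans ((H.compLeft (inc K i w)).trans
    (Homotopy.ofEq comp_zero))⟩
  change w ≫ mappingCone.inr (ev K M) = _
  rw [← Category.assoc, ← h]

/-- In a Grothendieck abelian category A, given a small family (K_i) of acyclic cochain complexes, there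
are an endofunctor N of the category of cochain complexes and a natural transformation j from the
identity to N such that for every complex M: each component of j_M is a monomorphism, j_M is a
quasi-isomorphism, and for every i and every morphism w : K_i -> M the composite w ≫ j_M is
homotopic to zero. -/
theorem result {A : Type u} [Category.{v} A] [Abelian A]
    [IsGrothendieckAbelian.{v} A] {ι : Type v} (K : ι → CochainComplex A ℤ)
    (hK : ∀ i (n : ℤ), Limits.IsZero ((K i).homology n)) :
    ∃ (N : CochainComplex A ℤ ⥤ CochainComplex A ℤ) (j : 𝟭 _ ⟶ N),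
      ∀ M : CochainComplex A ℤ, (∀ n : ℤ, Mono ((j.app M).f n)) ∧ QuasiIso (j.app M) ∧
        ∀ (i : ι) (w : K i ⟶ M), Nonempty (Homotopy (w ≫ j.app M) 0) := by
  exact aux K hK

end Groth.Agent.S0917
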