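import Groth.Statements.S0918
import Groth.Agent.Lib.Helper13.InjHull

set_option autoImplicit false
universe v u
open CategoryTheory
open CohDer

namespace Groth.Agent.S0918

open CategoryTheory.Limits CochainComplex Pretriangulated HomComplex
open Groth.Agent.Lib.Helper13.InjHull

section construction

variable {A : Type u} [Category.{v} A] [Abelian A] (J : A ⥤ A) (η : 𝟭 A ⟶ J)

lemma mono_jApp_f (hη : ∀ X, Mono (η.app X)) (M : CochainComplex A ℤ) (n : ℤ) :
    Mono ((jApp J η M).f n) := by
  have h : (jApp J η M).f n ≫ (Nfst J η M).f n = (iota J η M).f n := by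
    rw [← HomologicalComplex.comp_f, jApp_fst]
  have := mono_iota_f J η hη M n
  rw [← h] at this
  exact mono_of_mono _ ((Nfst J η M).f n)

lemma mono_jApp (hη : ∀ X, Mono (η.app X)) (M : CochainComplex A ℤ) :
    Mono (jApp J η M) :=
  have := mono_jApp_f J η hη M
  HomologicalComplex.mono_of_mono_f _ inferInstance

lemma factor_jApp (hJ : ∀ X, Injective (J.obj X)) (M : CochainComplex A ℤ) (n : ℤ) :
    ∃ (I : A) (_ : Injective I) (a : M.X n ⟶ I) (b : I ⟶ ((N J η).obj M).X n),
      Mono b ∧ a ≫ b = (jApp J η M).f n := by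
  have hp : IsPullback ((Nfst J η M).f n) ((Nsnd J η M).f n) ((piApp J η M).f n)
      ((rhoApp J η M).f n) :=
    (N_isPullback J η M).map (HomologicalComplex.eval A (ComplexShape.up ℤ) n)
  let s : ((Qf J η).obj M).X n ⟶ (coconeId.obj ((Qf J η).obj M)).X n :=
    (mappingCocone.inl (𝟙 ((Qf J η).obj M))).v n n (add_zero n)
  have hs : s ≫ (rhoApp J η M).f n = 𝟙 _ := mappingCocone.inl_v_fst_f _ _
  let b := hp.lift (𝟙 _) ((piApp J η M).f n ≫ s) (by rw [Category.assoc, hs]; simp)
  refine ⟨_, injective_C_X J hJ M n, (iota J η M).f n, b, ?_, ?_⟩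
  · exact mono_of_mono_fac (hp.lift_fst _ _ _)
  · apply hp.hom_ext
    · rw [Category.assoc, hp.lift_fst, Category.comp_id, ← HomologicalComplex.comp_f, jApp_fst]
    · rw [Category.assoc, hp.lift_snd, ← HomologicalComplex.comp_f_assoc, iota_piApp,
        ← HomologicalComplex.comp_f, jApp_snd]
      simp

noncomputable def isLimit_jApp (hη : ∀ X, Mono (η.app X)) (M : CochainComplex A ℤ) :
    IsLimit (KernelFork.ofι (jApp J η M) (jApp_snd J η M)) := by
  have hmono := mono_iota J η hη M
  have hx : ∀ {T : CochainComplex A ℤ} (x : T ⟶ (N J η).obj M) (_ : x ≫ Nsnd J η M = 0),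
      (x ≫ Nfst J η M) ≫ cokernel.π (iota J η M) = 0 := fun x h => by
    change (x ≫ Nfst J η M) ≫ piApp J η M = 0
    rw [Category.assoc, N_condition, reassoc_of% h, zero_comp]
  refine KernelFork.IsLimit.ofι _ _
    (fun x h => Abelian.monoLift (iota J η M) (x ≫ Nfst J η M) (hx x h)) ?_ ?_
  · intro T x h
    apply N_hom_ext
    · rw [Category.assoc, jApp_fst, Abelian.monoLift_comp]
    · rw [Category.assoc, jApp_snd, comp_zero, h]
  · intro T x h m hm
    rw [← cancel_mono (iota J η M), Abelian.monoLift_comp, ← hm, Category.assoc, jApp_fst]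

lemma quasiIso_jApp (hη : ∀ X, Mono (η.app X)) (M : CochainComplex A ℤ) :
    QuasiIso (jApp J η M) := by
  let _ := HasDerivedCategory.standard A
  let S : ShortComplex (CochainComplex A ℤ) :=
    ShortComplex.mk (jApp J η M) (Nsnd J η M) (jApp_snd J η M)
  have hS : S.ShortExact := by
    have h1 : Mono S.f := mono_jApp J η hη M
    have h2 : Epi S.g := Abelian.epi_pullback_of_epi_f (piApp J η M) (rhoApp J η M)
    exact ShortComplex.ShortExact.mk'
      (ShortComplex.exact_of_f_is_kernel _ (isLimit_jApp J η hη M)) h1 h2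
  have hT := DerivedCategory.triangleOfSES_distinguished hS
  have hz : IsZero (DerivedCategory.Q.obj (coconeId.obj ((Qf J η).obj M))) :=
    isZero_Q_coconeId _
  have : IsIso (DerivedCategory.Q.map (jApp J η M)) :=
    (Triangle.isZero₃_iff_isIso₁ _ hT).1 hz
  exact (DerivedCategory.isIso_Q_map_iff_quasiIso _ (jApp J η M)).1 this

end construction

/-- Let A be a Grothendieck abelian category. There are an endofunctor N of the category of cochain
complexes and a natural transformation j from the identity to N such that for every complex M: j_M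
is a termwise monomorphism and a quasi-isomorphism, and for every n the map M^n -> N(M)^n factors
through a monomorphism I -> N(M)^n from an injective object I. -/
theorem result {A : Type u} [Category.{v} A] [Abelian A]
    [IsGrothendieckAbelian.{v} A] :
    ∃ (N : CochainComplex A ℤ ⥤ CochainComplex A ℤ) (j : 𝟭 _ ⟶ N),
      ∀ M : CochainComplex A ℤ, (∀ n : ℤ, Mono ((j.app M).f n)) ∧ QuasiIso (j.app M) ∧
        ∀ n : ℤ, ∃ (I : A) (_ : Injective I) (a : M.X n ⟶ I) (b : I ⟶ (N.obj M).X n),
          Mono b ∧ a ≫ b = (j.app M).f n := by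
  have hη : ∀ X, Mono ((Groth.Agent.Lib.Helper13.injUnit A).app X) := fun X => inferInstance
  have hJ : ∀ X, Injective ((Groth.Agent.Lib.Helper13.injFunctor A).obj X) :=
    fun X => inferInstance
  exact ⟨N (Groth.Agent.Lib.Helper13.injFunctor A) (Groth.Agent.Lib.Helper13.injUnit A),
    jNat _ _, fun M => ⟨fun n => mono_jApp_f _ _ hη M n, quasiIso_jApp _ _ hη M,
      fun n => factor_jApp _ _ hJ M n⟩⟩

end Groth.Agent.S0918
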