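import Groth.Statements.S0919
import Mathlib.CategoryTheory.Adjunction.AdjointFunctorTheorems
import Mathlib.CategoryTheory.Abelian.Subobject
import Mathlib.CategoryTheory.Abelian.GrothendieckCategory.Basic

set_option autoImplicit false
universe v u
open CategoryTheory
open CohDer

namespace Groth.Agent.S0919

open CategoryTheory.Limits Opposite

/-- a right adjoint to types is representable -/
lemma isRepresentable_of_isRightAdjoint {A : Type u} [Category.{v} A]
    (F : Aᵒᵖ ⥤ Type v) [F.IsRightAdjoint] : F.IsRepresentable := by
  let L := F.leftAdjoint
  let adj : L ⊣ F := Adjunction.ofIsRightAdjoint F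
  refine ⟨(L.obj PUnit).unop, ⟨?_⟩⟩
  exact
    { homEquiv := fun {X} =>
        (opEquiv (L.obj PUnit) (op X)).symm.trans
          ((adj.homEquiv PUnit (op X)).trans
            (TypeCat.homEquiv.trans (Equiv.punitArrowEquiv _)))
      homEquiv_comp := by
        intro X X' f g
        simp only [Equiv.trans_apply]
        have := adj.homEquiv_naturality_right ((opEquiv (L.obj PUnit) (op X')).symm g) f.op
        have h2 : (opEquiv (L.obj PUnit) (op X)).symm (f ≫ g) =
            (opEquiv (L.obj PUnit) (op X')).symm g ≫ f.op := rfl
        rw [h2, this]
        rfl }

open CategoryTheory.Limits in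
/-- Let A be a Grothendieck abelian category and F a contravariant functor from A to sets (a functor on
the opposite category). Then F is representable if and only if F turns all small colimits of A into
limits, i.e. preserves small limits as a functor on the opposite category. -/
theorem result {A : Type u} [Category.{v} A] [Abelian A]
    [IsGrothendieckAbelian.{v} A] (F : Aᵒᵖ ⥤ Type v) :
    F.IsRepresentable ↔ PreservesLimitsOfSize.{v, v} F := by
  constructor
  · intro h
    have e : F ≅ yoneda.obj F.reprX := (F.reprW).symm
    exact preservesLimits_of_natIso e.symm
  · intro h
    have hsep : ObjectProperty.IsCoseparating (ObjectProperty.singleton (separator A)).op := by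
      rw [ObjectProperty.isCoseparating_op_iff]
      exact isSeparator_separator A
    have : F.IsRightAdjoint := isRightAdjoint_of_preservesLimits_of_isCoseparating hsep F
    exact isRepresentable_of_isRightAdjoint F

end Groth.Agent.S0919
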