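import Groth.Statements.S0920
import Groth.Agent.Lib.Helper2.LpullStalk
import Groth.Agent.Lib.Helper12.LTK3

set_option autoImplicit false
universe u
open CategoryTheory
attribute [local instance] HasDerivedCategory.standard
open DCoh

namespace Groth.Agent.S0920

open AlgebraicGeometry Groth.Agent.Lib.Helper2.Lpull Groth.Agent.Lib.Helper12

theorem flat_extendScalars {A B : Type u} [CommRing A] [CommRing B] (φ : A →+* B)
    (M : ModuleCat.{u} A) (h : Module.Flat A M) :
    Module.Flat B ((ModuleCat.extendScalars.{u, u, u} φ).obj M) := by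
  letI := φ.toAlgebra
  exact inferInstanceAs (Module.Flat B (TensorProduct A B M))

/-- the pullback of a flat module is flat -/
theorem isFlat_pullback {X Y : Scheme.{u}} (f : X ⟶ Y) (M : Y.Modules) (hM : FlatMod.IsFlat M) :
    FlatMod.IsFlat ((Scheme.Modules.pullback f).obj M) := by
  intro x
  have h1 : Module.Flat (Y.presheaf.stalk (f.base x)) ((DerSch.stalkFunctor Y (f.base x)).obj M) :=
    hM (f.base x)
  have h2 := flat_extendScalars (f.stalkMap x).hom _ h1
  have e := (Sky.stalkPullbackIso f x).app M
  change Module.Flat (X.presheaf.stalk x)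
    ((DerSch.stalkFunctor X x).obj ((Scheme.Modules.pullback f).obj M))
  haveI : Module.Flat (X.presheaf.stalk x)
      ((ModuleCat.extendScalars.{u, u, u} (f.stalkMap x).hom).obj
        ((DerSch.stalkFunctor Y (f.base x)).obj M)) := h2
  exact Module.Flat.of_linearEquiv (M := ((ModuleCat.extendScalars.{u, u, u} (f.stalkMap x).hom).obj
        ((DerSch.stalkFunctor Y (f.base x)).obj M))) e.toLinearEquiv


open AlgebraicGeometry in
/-- For f : X -> Y and E in D(O_Y) represented by a complex of flat modules vanishing outside [a, b],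
the derived pullback Lf^* E (under its existence binder) has tor-amplitude in [a, b]. -/
theorem result {X Y : Scheme.{u}} (f : X ⟶ Y) [DCoh.HasLpull f] (E : DCoh.D Y) (a b : ℤ)
    (hE : DCoh.HasFlatAmplitudeIn a b E) : DCoh.HasTorAmplitudeIn a b ((DCoh.Lpull f).obj E) := by
  obtain ⟨F, hv, hfl, ⟨e⟩⟩ := hE
  apply LTK.hasTorAmplitudeIn_of_flatAmp
  refine ⟨(pbCx f).obj F, ?_, ?_, ⟨?_⟩⟩
  · intro i hi
    exact Functor.map_isZero (Scheme.Modules.pullback f) (hv i hi)
  · intro i
    exact isFlat_pullback f _ (hfl i)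
  · exact (lpIso f F (LTK.isKFlat_of_vanishesOutside F a b hv hfl)).symm ≪≫
      (DCoh.Lpull f).mapIso e

end Groth.Agent.S0920
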