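import Groth.Statements.S0921
import Groth.Agent.Lib.Helper2.LpullRes
import Groth.Agent.Lib.Helper2.DCohFlat
import Groth.Agent.Lib.Helper7.FinLocFreePullback
import Groth.Agent.Lib.Helper12.LTK3

set_option autoImplicit false
universe u
open CategoryTheory
attribute [local instance] HasDerivedCategory.standard
open DCoh

namespace Groth.Agent.S0921

open AlgebraicGeometry CategoryTheory.Limits Groth.Agent.Lib.Helper2.Lpull Groth.Agent.Lib.Helper12
open Groth.Agent.Lib.Helper2.DCohBase Groth.Agent.Lib.Helper2.DCohPerf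

/-- a strictly perfect complex is K-flat -/
theorem isKFlat_of_isStrictlyPerfect {X : Scheme.{u}} (P : CochainComplex X.Modules ℤ)
    (hP : DCoh.IsStrictlyPerfect P) : DCoh.IsKFlat P := by
  obtain ⟨⟨a, b, hv⟩, hfl⟩ := hP
  exact LTK.isKFlat_of_vanishesOutside P a b hv
    (fun i => Groth.Agent.Lib.Helper2.DCohFlat.isFlat_of_isFinLocFree _ (hfl i))

/-- the pullback of a strictly perfect complex is strictly perfect -/
theorem isStrictlyPerfect_pbCx {X Y : Scheme.{u}} (f : X ⟶ Y) (P : CochainComplex Y.Modules ℤ)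
    (hP : DCoh.IsStrictlyPerfect P) : DCoh.IsStrictlyPerfect ((pbCx f).obj P) := by
  obtain ⟨⟨a, b, hv⟩, hfl⟩ := hP
  refine ⟨⟨a, b, fun i hi => Functor.map_isZero (Scheme.Modules.pullback f) (hv i hi)⟩, fun i => ?_⟩
  exact Groth.Agent.Lib.Helper7.FinLocFree.isFinLocFree_pullback f (hfl i)

theorem perfAt_lpull {X Y : Scheme.{u}} (f : X ⟶ Y) [DCoh.HasLpull f] (E : DCoh.D Y) (x : X)
    (hE : PerfAt E (f x)) : PerfAt ((DCoh.Lpull f).obj E) x := by
  obtain ⟨U, j, hj, hx, P, hP, ⟨e⟩⟩ := hE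
  haveI := hj
  haveI : DCoh.HasLpull (pullback.snd f j) := hasLpull _
  obtain ⟨ε⟩ := nonempty_resD_lpull_iso f j (pullback.fst f j) (pullback.snd f j)
    pullback.condition E
  refine ⟨pullback f j, pullback.fst f j, inferInstance, ?_, (pbCx (pullback.snd f j)).obj P,
    isStrictlyPerfect_pbCx _ P hP, ⟨?_⟩⟩
  · rw [IsOpenImmersion.range_pullbackFst j f]
    exact hx
  · exact ε ≪≫ (DCoh.Lpull (pullback.snd f j)).mapIso e ≪≫
      lpIso (pullback.snd f j) P (isKFlat_of_isStrictlyPerfect P hP)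


open AlgebraicGeometry in
/-- For f : X -> Y and a perfect object E of D(O_Y), the derived pullback Lf^* E (under its existence
binder) is perfect. -/
theorem result {X Y : Scheme.{u}} (f : X ⟶ Y) [DCoh.HasLpull f] (E : DCoh.D Y)
    (hE : DCoh.IsPerfect E) : DCoh.IsPerfect ((DCoh.Lpull f).obj E) := by
  rw [isPerfect_iff] at hE ⊢
  exact fun x => perfAt_lpull f E x (hE (f x))

end Groth.Agent.S0921
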