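import Groth.Statements.S0923
import Groth.Agent.Lib.Helper2.DCohBase

set_option autoImplicit false
universe u
open CategoryTheory
attribute [local instance] HasDerivedCategory.standard
open DCoh

namespace Groth.Agent.S0923

open Groth.Agent.Lib.Helper2.DCohBase in
open AlgebraicGeometry CategoryTheory.Limits in

open Groth.Agent.Lib.Helper2.DCohBase in
open AlgebraicGeometry CategoryTheory.Limits in
/-- On a scheme X, an object E of D(𝒪_X) is perfect if and only if every point has an open neighbourhood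
V such that the restriction to V of any complex representing E is isomorphic in D(𝒪_V) to a bounded
complex each of whose terms is isomorphic to a finite free 𝒪_V-module. (The published statement is
for ringed spaces whose stalks are local rings and lists further equivalent conditions; here X is a
scheme and only this equivalence is stated.) -/
theorem result {X : Scheme.{u}} (E : DCoh.D X) :
    DCoh.IsPerfect E ↔ ∀ x : X, ∃ V : X.Opens, x ∈ V ∧
      ∀ F : CochainComplex X.Modules ℤ, Nonempty (DCoh.toD X F ≅ E) →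
        ∃ (P : CochainComplex (V : Scheme.{u}).Modules ℤ) (a b : ℤ), DCoh.VanishesOutside P a b ∧
          (∀ i : ℤ, ∃ n : ℕ, Nonempty (P.X i ≅ FlatMod.freeMod (V : Scheme.{u}) n)) ∧
          Nonempty (DerivedCategory.Q.obj ((DCoh.restrictCx V).obj F) ≅ DerivedCategory.Q.obj P) := by
  constructor
  · intro hE x
    obtain ⟨V, hxV, hV⟩ := hE x
    obtain ⟨F₀, ⟨e₀⟩⟩ := exists_rep E
    obtain ⟨E', hE', ⟨ε⟩⟩ := hV F₀ ⟨e₀⟩
    obtain ⟨W, hxW, hfree⟩ := exists_free_nhd E' hE' ⟨x, hxV⟩
    obtain ⟨⟨a, b, hab⟩, -⟩ := hE'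
    let j : (W : Scheme.{u}) ⟶ X := W.ι ≫ V.ι
    refine ⟨j.opensRange, ⟨⟨⟨x, hxV⟩, hxW⟩, rfl⟩, fun F ⟨e⟩ => ?_⟩
    let ε' : DerivedCategory.Q.obj ((resCx V.ι).obj F) ≅ DerivedCategory.Q.obj E' :=
      resQIso V.ι (e ≪≫ e₀.symm) ≪≫ ε
    refine ⟨(resCx j.isoOpensRange.inv).obj ((resCx W.ι).obj E'), a, b, ?_, ?_,
      ⟨packIso j (shrinkIso V.ι W.ι ε')⟩⟩
    · intro i hi
      exact (Scheme.Modules.restrictFunctor _).map_isZero
        ((Scheme.Modules.restrictFunctor _).map_isZero (hab i hi))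
    · intro i
      obtain ⟨n, hn⟩ := hfree i
      exact ⟨n, nonempty_iso_freeMod_restrict _ hn⟩
  · intro h x
    obtain ⟨V, hxV, hV⟩ := h x
    refine ⟨V, hxV, fun F hF => ?_⟩
    obtain ⟨P, a, b, hab, hfree, hiso⟩ := hV F hF
    exact ⟨P, ⟨⟨a, b, hab⟩, fun i => by
      obtain ⟨n, hn⟩ := hfree i
      exact isFinLocFree_of_iso_freeMod hn⟩, hiso⟩

end Groth.Agent.S0923
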