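import Groth.Statements.S0924
import Groth.Agent.Lib.Helper2.DCohSummand

set_option autoImplicit false
universe u
open CategoryTheory
attribute [local instance] HasDerivedCategory.standard
open DCoh

namespace Groth.Agent.S0924

open Groth.Agent.Lib.Helper2.DCohSummand Groth.Agent.Lib.Helper2.DCohPerf in
open AlgebraicGeometry CategoryTheory.Limits in

open AlgebraicGeometry CategoryTheory.Limits in
/-- Perfectness of objects of D(O_X) passes to direct summands: K and L are perfect as soon as K ⊕ L is. -/
theorem result {X : Scheme.{u}} (K L : DCoh.D X) [HasBinaryBiproduct K L]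
    (h : DCoh.IsPerfect (K ⊞ L)) : DCoh.IsPerfect K ∧ DCoh.IsPerfect L := by
  refine ⟨isPerfect_biprod_left K L h, ?_⟩
  exact isPerfect_biprod_left L K (isPerfect_of_iso (biprod.braiding K L) h)

end Groth.Agent.S0924
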