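import Groth.Statements.S0925
import Groth.Agent.Lib.Helper26.ClosedEmbSh

set_option autoImplicit false
universe u
open CategoryTheory
open CohTop

namespace Groth.Agent.S0925

open TopologicalSpace in
/-- For an open U of X with closed complement Z and an injective abelian sheaf I on X, the sheaf H_Z(I),
the sheaf on Z of sections of I supported in Z (pullback to Z of the kernel of I -> j_* j^{-1} I, j
: U -> X), is an injective abelian sheaf on Z. -/
theorem result {X : TopCat.{u}} (U : Opens X) (I : CohTop.Ab X) [Injective I] :
    Injective (CohCx.HZ U I) := by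
  have hj : Topology.IsOpenEmbedding (CohCx.incl U) := U.isOpen.isOpenEmbedding_subtypeVal
  have hcl : IsClosed ((U : Set X)ᶜ) := U.isOpen.isClosed_compl
  have hi : Topology.IsClosedEmbedding (CohCx.inclCompl U) := hcl.isClosedEmbedding_subtypeVal
  have hc : Set.range (CohCx.inclCompl U) = (Set.range (CohCx.incl U))ᶜ := by
    have h1 : Set.range (CohCx.inclCompl U) = ((U : Set X)ᶜ) := Subtype.range_coe
    have h2 : Set.range (CohCx.incl U) = (U : Set X) := Subtype.range_coe
    rw [h1, h2]
  exact @Groth.Agent.Lib.Helper26.ClosedEmbSh.injective_pull_kernel_unit _ _ _ (CohCx.incl U)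
    (CohCx.inclCompl U) hj hi hc I ‹Injective I›

end Groth.Agent.S0925
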