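import Groth.Statements.S0927
import Groth.Agent.Lib.Helper26.ProjFormula2
import Groth.Agent.Lib.Helper12.FlatBridge
import Groth.Agent.Lib.Helper2.DCohFlat
import Groth.Agent.S0891
import Groth.Agent.Lib.Helper26.DegComposite
import Groth.Agent.Lib.Helper26.DerivedExactComp
import Groth.Agent.Lib.Helper7.FinLocFreePullback

set_option autoImplicit false
universe u
open CategoryTheory
open Coh

namespace Groth.Agent.S0927


section Aux
open CategoryTheory CategoryTheory.Limits AlgebraicGeometry Scheme.Modules
open Groth.Agent.Lib.Helper26 Groth.Agent.Lib.Helper26.ProjFormula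

variable {X Y : Scheme.{u}}

/-- braiding of the tensor product of modules -/
noncomputable def braidIso (M N : X.Modules) : CohB1.tensorMod M N ≅ CohB1.tensorMod N M :=
  (Groth.Agent.Lib.Helper42.Flat.tensLRIso X.sheaf M).app N

instance tR_additive (N : X.Modules) : (tR N).Additive :=
  inferInstanceAs (Groth.Agent.Lib.Helper42.TensorColim.tensR X.sheaf N).Additive

lemma tR_exact (N : X.Modules) (hN : FlatMod.IsFinLocFree N) :
    PreservesFiniteLimits (tR N) ∧ PreservesFiniteColimits (tR N) :=
  Groth.Agent.Lib.Helper12.FlatBridge.isFlat_of_flatMod N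
    (Groth.Agent.Lib.Helper2.DCohFlat.isFlat_of_isFinLocFree N hN)

lemma injective_tR (N I : X.Modules) [Injective I] (hN : FlatMod.IsFinLocFree N) :
    Injective ((tR N).obj I) :=
  have := Groth.Agent.S0891.result I N hN
  Injective.of_iso (braidIso N I) this

theorem main (f : X ⟶ Y) [HasInjectiveResolutions X.Modules]
    (F : X.Modules) (E : Y.Modules) (hE : FlatMod.IsFinLocFree E) (q : ℕ) :
    Nonempty (CohB1.tensorMod E ((Coh.Rpush f q).obj F) ≅
      (Coh.Rpush f q).obj (CohB1.tensorMod ((Scheme.Modules.pullback f).obj E) F)) := by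
  have hE' : FlatMod.IsFinLocFree ((Scheme.Modules.pullback f).obj E) :=
    Groth.Agent.Lib.Helper7.FinLocFree.isFinLocFree_pullback f hE
  obtain ⟨hl, hc⟩ := tR_exact E hE
  obtain ⟨hl', hc'⟩ := tR_exact ((Scheme.Modules.pullback f).obj E) hE'
  have hei := QCohRpush.enoughInjectives_modules X
  obtain ⟨e1⟩ := DerivedExactComp.nonempty_rightDerived_comp_exact_iso (pushforward f) (tR E) F q
  let e2 := (DegComposite.rightDerivedMapIso (projIso f E hE) q).app F
  obtain ⟨e3⟩ := DegComposite.nonempty_iso (tR ((Scheme.Modules.pullback f).obj E)) (pushforward f)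
    (fun I _ n => by
      have := injective_tR ((Scheme.Modules.pullback f).obj E) I hE'
      exact Functor.isZero_rightDerived_obj_injective_succ (pushforward f) n _)
    F (fun n => DerivedExactComp.isZero_rightDerived_succ_of_exact
      (tR ((Scheme.Modules.pullback f).obj E)) F n) q
  exact ⟨braidIso E _ ≪≫ e1.symm ≪≫ e2 ≪≫ e3 ≪≫
    (Coh.Rpush f q).mapIso (braidIso F ((Scheme.Modules.pullback f).obj E))⟩

end Aux


open AlgebraicGeometry CategoryTheory.Limits in
/-- Projection formula, for schemes and one degree at a time: let f : X → Y be a morphism of schemes, F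
an O_X-module and E a finite locally free O_Y-module. Then for every q the O_Y-module E ⊗ R^q f_* F
is isomorphic to R^q f_* (f^* E ⊗ F). The higher direct images are the right derived functors of
f_*, under the instance argument recording that O_X-modules have injective resolutions. (The
published statement treats ringed spaces and also gives a version for bounded-below complexes.) -/
theorem result {X Y : Scheme.{u}} (f : X ⟶ Y) [HasInjectiveResolutions X.Modules]
    (F : X.Modules) (E : Y.Modules) (hE : FlatMod.IsFinLocFree E) (q : ℕ) :
    Nonempty (CohB1.tensorMod E ((Coh.Rpush f q).obj F) ≅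
      (Coh.Rpush f q).obj (CohB1.tensorMod ((Scheme.Modules.pullback f).obj E) F)) := by
  exact main f F E hE q

end Groth.Agent.S0927
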