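import Groth.Statements.S0996
import Groth.Agent.Lib.Helper68.LerayAcyclic

set_option autoImplicit false
universe w w' v v' u u'
open CategoryTheory CategoryTheory.Limits
open CohDer

namespace Groth.Agent.S0996

/-- Leray's acyclicity lemma. Let F : C ⥤ D be a left exact additive functor between abelian categories,
with C having enough injectives. If K is a bounded below cochain complex in C all of whose terms are
right F-acyclic (RⁱF(Kᵐ) = 0 for i > 0), then the canonical map F(K) → RF(K) in the bounded below
derived category D⁺(D) is an isomorphism. -/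
theorem result {C : Type u} [Category.{v} C] [Abelian C] [HasDerivedCategory.{w} C] [EnoughInjectives C]
    {D : Type u'} [Category.{v'} D] [Abelian D] [HasDerivedCategory.{w'} D]
    (F : C ⥤ D) [F.Additive] [PreservesFiniteLimits F] (K : CochainComplex.Plus C)
    (hK : ∀ (m : ℤ) (i : ℕ), 0 < i → IsZero ((F.rightDerived i).obj (K.obj.X m))) :
    IsIso (F.rightDerivedFunctorPlusUnit.app ((HomotopyCategory.Plus.quotient C).obj K)) := by
  obtain ⟨n, hn⟩ := K.property
  have : K.obj.IsStrictlyGE n := hn
  obtain ⟨L, hL, i, hi⟩ := CochainComplex.Plus.exists_quasiIso_injective K n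
  have hi' : QuasiIso i.hom := hi
  -- `F(i)` is a quasi-isomorphism
  have hFi : QuasiIso ((F.mapHomologicalComplex (ComplexShape.up ℤ)).map i.hom) := by
    have : (((InjectiveObject.ι C).mapCochainComplexPlus.obj L).obj).IsStrictlyGE n :=
      inferInstanceAs (CochainComplex.IsStrictlyGE
        (((InjectiveObject.ι C).mapHomologicalComplex _).obj L.obj) n)
    refine Groth.Agent.Lib.Helper68.LerayAcyclic.quasiIso_map F i.hom hi' n n hK ?_
    intro m j hj
    obtain ⟨j, rfl⟩ : ∃ k, j = k + 1 := ⟨j - 1, by lia⟩
    have : Injective ((((InjectiveObject.ι C).mapCochainComplexPlus.obj L).obj).X m) :=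
      (L.obj.X m).property
    exact Functor.isZero_rightDerived_obj_injective_succ F j _
  let f := (HomotopyCategory.Plus.quotient C).map i
  have h3 : IsIso ((F.mapHomotopyCategoryPlus ⋙ DerivedCategory.Plus.Qh).map f) := by
    refine Localization.inverts DerivedCategory.Plus.Qh (HomotopyCategory.Plus.quasiIso D) _ ?_
    rw [HomotopyCategory.Plus.quasiIso_iff]
    change HomotopyCategory.quasiIso D _ ((HomotopyCategory.quotient _ _).map
      ((F.mapHomologicalComplex (ComplexShape.up ℤ)).map i.hom))
    rw [HomotopyCategory.quotient_map_mem_quasiIso_iff]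
    exact hFi
  have h2 : IsIso ((DerivedCategory.Plus.Qh ⋙ F.rightDerivedFunctorPlus).map f) := by
    have : IsIso (DerivedCategory.Plus.Qh.map f) := by
      refine Localization.inverts DerivedCategory.Plus.Qh (HomotopyCategory.Plus.quasiIso C) _ ?_
      rw [HomotopyCategory.Plus.quasiIso_iff]
      change HomotopyCategory.quasiIso C _ ((HomotopyCategory.quotient _ _).map i.hom)
      rw [HomotopyCategory.quotient_map_mem_quasiIso_iff]
      exact hi'
    dsimp only [Functor.comp_map]
    infer_instance
  have nat := F.rightDerivedFunctorPlusUnit.naturality f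
  have h4 : IsIso (F.rightDerivedFunctorPlusUnit.app ((HomotopyCategory.Plus.quotient C).obj K) ≫
      (DerivedCategory.Plus.Qh ⋙ F.rightDerivedFunctorPlus).map f) := by
    rw [← nat]
    infer_instance
  exact IsIso.of_isIso_comp_right _ ((DerivedCategory.Plus.Qh ⋙ F.rightDerivedFunctorPlus).map f)

end Groth.Agent.S0996
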