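import Groth.Statements.S0930
import Groth.Agent.S12541
import Groth.Agent.S0904

set_option autoImplicit false
universe u
open CategoryTheory
attribute [local instance] HasDerivedCategory.standard
open CohTop

namespace Groth.Agent.S0930

instance {X Y : TopCat.{u}} (f : X ⟶ Y) : Limits.PreservesFiniteLimits (CohTop.push f) := by
  have : Limits.PreservesLimitsOfSize.{0, 0} (CohTop.push f) :=
    (TopCat.Sheaf.pullbackPushforwardAdjunction AddCommGrpCat.{u} f).rightAdjoint_preservesLimits
  exact Limits.PreservesLimitsOfSize.preservesFiniteLimits _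

/-- For continuous maps f : X -> Y and g : Y -> Z, the composite of the right derived functors Rf_* :
D^+(X) -> D^+(Y) and Rg_* : D^+(Y) -> D^+(Z) is isomorphic to R(g ∘ f)_* (existence of an
isomorphism of functors between bounded below derived categories). -/
theorem result {X Y Z : TopCat.{u}} (f : X ⟶ Y) (g : Y ⟶ Z) :
    Nonempty ((CohTop.push f).rightDerivedFunctorPlus ⋙ (CohTop.push g).rightDerivedFunctorPlus ≅
      (CohTop.push (f ≫ g)).rightDerivedFunctorPlus) := by
  have h := Groth.Agent.S12541.result (CohTop.push f) (CohTop.push g) (by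
    intro I hI
    have hJ : Injective ((CohTop.push f).obj I) := Groth.Agent.S0904.result f I
    have : ∀ n : ℤ, Injective (((HomotopyCategory.Plus.singleFunctor (CohTop.Ab Y) 0).obj
        ((CohTop.push f).obj I)).obj.as.X n) := by
      intro n
      change Injective (((HomologicalComplex.single _ (ComplexShape.up ℤ) 0).obj
        ((CohTop.push f).obj I)).X n)
      by_cases hn : n = 0
      · subst hn
        exact Injective.of_iso
          (HomologicalComplex.singleObjXSelf (ComplexShape.up ℤ) 0 ((CohTop.push f).obj I)).symm hJ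
      · exact (HomologicalComplex.isZero_single_obj_X _ _ _ _ hn).injective
    infer_instance)
  have key : ∀ (α : (CohTop.push f ⋙ CohTop.push g).mapHomotopyCategoryPlus ⋙
      DerivedCategory.Plus.Qh ⟶ DerivedCategory.Plus.Qh ⋙
        ((CohTop.push f).rightDerivedFunctorPlus ⋙ (CohTop.push g).rightDerivedFunctorPlus)),
      ((CohTop.push f).rightDerivedFunctorPlus ⋙
        (CohTop.push g).rightDerivedFunctorPlus).IsRightDerivedFunctor α
        (HomotopyCategory.Plus.quasiIso (CohTop.Ab X)) →
      Nonempty ((CohTop.push f).rightDerivedFunctorPlus ⋙ (CohTop.push g).rightDerivedFunctorPlus ≅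
        (CohTop.push (f ≫ g)).rightDerivedFunctorPlus) := fun α hα =>
    ⟨Functor.rightDerivedNatIso _ _ α (CohTop.push (f ≫ g)).rightDerivedFunctorPlusUnit
      (HomotopyCategory.Plus.quasiIso (CohTop.Ab X))
      (show (CohTop.push f ⋙ CohTop.push g).mapHomotopyCategoryPlus ⋙ DerivedCategory.Plus.Qh ≅
        (CohTop.push (f ≫ g)).mapHomotopyCategoryPlus ⋙ DerivedCategory.Plus.Qh from Iso.refl _)⟩
  exact key _ h

end Groth.Agent.S0930
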