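import Groth.Statements.S0931
import Groth.Agent.Lib.Helper13.HDUSheafify
import Groth.Agent.Lib.Helper13.KInjDerAdj

set_option autoImplicit false
universe u
open CategoryTheory
open CohSite

namespace Groth.Agent.S0931

section Helpers
open Groth.Agent.Lib.Helper13.HDUSect in
lemma main_kinj {C : Type u} [SmallCategory C] {J : GrothendieckTopology C}
    [HasDerivedCategory.{u} (Sheaf J AddCommGrpCat.{u})]
    (L : CochainComplex (Sheaf J AddCommGrpCat.{u}) ℤ) [L.IsKInjective] (q : ℤ) :
    Nonempty ((presheafToSheaf J AddCommGrpCat.{u}).obj (CohCx.HDUPresheaf (DerivedCategory.Q.obj L) q) ≅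
      L.homology q) :=
  sheafify_iso_homology L q _ (theta L q)
    (fun U => thetaHom_surjective L q U.unop)
    (fun U s => thetaHom_eq_zero_iff L q U.unop s)

end Helpers

/-- Let K be an object of the derived category of abelian sheaves on a site and q an integer. Then the
sheafification of the presheaf U ↦ H^q(U, K) is isomorphic to the q-th cohomology sheaf H^q(K). -/
theorem result {C : Type u} [SmallCategory C] {J : GrothendieckTopology C}
    [HasDerivedCategory.{u} (Sheaf J AddCommGrpCat.{u})] (K : DerivedCategory (Sheaf J AddCommGrpCat.{u}))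
    (q : ℤ) :
    Nonempty ((presheafToSheaf J AddCommGrpCat.{u}).obj (CohCx.HDUPresheaf K q) ≅ CohCx.HD K q) := by
  obtain ⟨L, hL, ⟨e⟩⟩ := Groth.Agent.Lib.Helper13.KInjDerAdj.exists_kInj K
  obtain ⟨e1⟩ := main_kinj L q
  let e2 : CohCx.HDUPresheaf K q ≅ CohCx.HDUPresheaf (DerivedCategory.Q.obj L) q :=
    Functor.isoWhiskerLeft _ (preadditiveYoneda.mapIso ((shiftFunctor _ q).mapIso e.symm))
  let e3 : CohCx.HD K q ≅ L.homology q :=
    (DerivedCategory.homologyFunctor _ q).mapIso e.symm ≪≫
      (DerivedCategory.homologyFunctorFactors _ q).app L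
  exact ⟨(presheafToSheaf J AddCommGrpCat.{u}).mapIso e2 ≪≫ e1 ≪≫ e3.symm⟩

end Groth.Agent.S0931
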