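import Groth.Statements.S0935
import Groth.Agent.Lib.Helper12.AdjLR2
import Groth.Agent.Lib.Helper12.TriDer
import Groth.Agent.Lib.Helper2.LpullStalk

set_option autoImplicit false
universe u
open CategoryTheory
attribute [local instance] HasDerivedCategory.standard
open DCoh

namespace Groth.Agent.S0935

open AlgebraicGeometry CategoryTheory.Limits in
theorem result {X Y : Scheme.{u}} (f : X ⟶ Y) [DCoh.HasRpush f]
    (K : ℕ → DCoh.D X) (t : ∀ n, K (n + 1) ⟶ K n) [HasProduct K] [HasProduct fun n => (DCoh.Rpush f).obj (K n)]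
    (L : DCoh.D X) (hL : DCoh.IsRlim K t L) :
    DCoh.IsRlim (fun n => (DCoh.Rpush f).obj (K n)) (fun n => (DCoh.Rpush f).map (t n)) ((DCoh.Rpush f).obj L) := by
  obtain ⟨a, c, h⟩ := hL
  have hLp : DCoh.HasLpull f := Groth.Agent.Lib.Helper2.Lpull.hasLpull f
  have adj := Groth.Agent.Lib.Helper12.AdjLR.adjLR f
  have hlim : PreservesLimitsOfSize.{0, 0} (DCoh.Rpush f) := adj.rightAdjoint_preservesLimits
  have hra : (DCoh.Rpush f).IsRightAdjoint := adj.isRightAdjoint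
  have hadd : (DCoh.Rpush f).Additive := Functor.additive_of_preserves_binary_products _
  obtain ⟨c₀, hc₀⟩ := Groth.Agent.Lib.Helper12.TriDer.exists_distinguished_map (DCoh.pushKh f)
    (DCoh.Rpush f) ((DCoh.pushKh f).totalRightDerivedUnit DerivedCategory.Qh
      (HomotopyCategory.quasiIso X.Modules (ComplexShape.up ℤ))) _ h
  let κ : (DCoh.Rpush f).obj (∏ᶜ K) ≅ ∏ᶜ fun n => (DCoh.Rpush f).obj (K n) :=
    PreservesProduct.iso (DCoh.Rpush f) K
  have hκ : ∀ n, κ.hom ≫ Pi.π (fun n => (DCoh.Rpush f).obj (K n)) n =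
      (DCoh.Rpush f).map (Pi.π K n) := fun n => by
    simp [κ, PreservesProduct.iso_hom]
  refine ⟨(DCoh.Rpush f).map a ≫ κ.hom, κ.inv ≫ c₀, ?_⟩
  refine Pretriangulated.isomorphic_distinguished _ hc₀ _
    (Pretriangulated.Triangle.isoMk _ _ (Iso.refl _) κ.symm κ.symm ?_ ?_ ?_)
  · change ((DCoh.Rpush f).map a ≫ κ.hom) ≫ κ.inv = 𝟙 _ ≫ (DCoh.Rpush f).map a
    rw [Category.assoc, Iso.hom_inv_id, Category.comp_id, Category.id_comp]
  · change (Pi.lift fun n => Pi.π (fun n => (DCoh.Rpush f).obj (K n)) n -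
        Pi.π (fun n => (DCoh.Rpush f).obj (K n)) (n + 1) ≫ (DCoh.Rpush f).map (t n)) ≫ κ.inv =
      κ.inv ≫ (DCoh.Rpush f).map (Pi.lift fun n => Pi.π K n - Pi.π K (n + 1) ≫ t n)
    rw [← cancel_epi κ.hom, Iso.hom_inv_id_assoc, ← cancel_mono κ.hom, Category.assoc,
      Category.assoc, Iso.inv_hom_id, Category.comp_id]
    apply Pi.hom_ext
    intro n
    rw [Category.assoc, Pi.lift_π, Preadditive.comp_sub, ← Category.assoc κ.hom, hκ, hκ,
      Category.assoc, hκ]
    simp only [← Functor.map_comp, Pi.lift_π, Functor.map_sub]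
  · change (κ.inv ≫ c₀) ≫ (𝟙 _)⟦(1 : ℤ)⟧' = κ.inv ≫ c₀
    rw [CategoryTheory.Functor.map_id, Category.comp_id]

end Groth.Agent.S0935
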