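import Groth.Statements.S0938
import Groth.Agent.S0934
import Mathlib.CategoryTheory.Idempotents.Basic
import Mathlib.RingTheory.Finiteness.Projective

set_option autoImplicit false
universe u
open CategoryTheory
open Coh

namespace Groth.Agent.S0938

section
open AlgebraicGeometry CategoryTheory.Limits Opposite TopologicalSpace
open AlgebraicGeometry.Scheme.Modules

variable {X : Scheme.{u}}

/-- global sections functor -/
noncomputable def Γf (X : Scheme.{u}) : X.Modules ⥤ ModuleCat.{u} Γ(X, ⊤) where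
  obj M := ModuleCat.of Γ(X, ⊤) Γ(M, ⊤)
  map φ := ModuleCat.ofHom
    { toFun := fun s => φ.app ⊤ s
      map_add' := fun a b => map_add _ a b
      map_smul' := fun r a => Scheme.Modules.Hom.app_smul φ r a }
  map_id M := by ext; rfl
  map_comp f g := by ext; rfl

instance : (Γf X).Additive where
  map_add := by intros; ext; rfl

/-- the unit section of the structure module -/
noncomputable def one (X : Scheme.{u}) : Γ(structureModule X, ⊤) := (1 : Γ(X, ⊤))

/-- a section of the structure module regarded as a function -/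
noncomputable def toFn (a : Γ(structureModule X, ⊤)) : Γ(X, ⊤) := a

theorem smul_one (a : Γ(structureModule X, ⊤)) : toFn a • one X = a := by
  change (toFn a) * (1 : Γ(X, ⊤)) = toFn a
  exact mul_one _

theorem toFn_smul_one (a : Γ(X, ⊤)) : toFn (a • one X) = a := by
  change a * (1 : Γ(X, ⊤)) = a
  exact mul_one _

theorem toFn_zero : toFn (0 : Γ(structureModule X, ⊤)) = 0 := rfl

theorem unit_hom_ext {N : X.Modules} (f g : structureModule X ⟶ N)
    (h : f.app ⊤ (one X) = g.app ⊤ (one X)) : f = g := by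
  apply (SheafOfModules.unitHomEquiv N).injective
  apply Groth.Agent.S0934.sections_ext_top
  exact h

theorem exists_unit_hom {N : X.Modules} (t : Γ(N, ⊤)) :
    ∃ f : structureModule X ⟶ N, f.app ⊤ (one X) = t := by
  refine ⟨(SheafOfModules.unitHomEquiv N).symm (Groth.Agent.S0934.secOfTop N t), ?_⟩
  have h := SheafOfModules.unitHomEquiv_apply_coe N
    ((SheafOfModules.unitHomEquiv N).symm (Groth.Agent.S0934.secOfTop N t)) (op ⊤)
  rw [Equiv.apply_symm_apply, Groth.Agent.S0934.secOfTop_val_top] at h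
  exact h.symm

variable (n : ℕ)

/-- the inclusions of the free module -/
noncomputable def inc (k : Fin n) : structureModule X ⟶ FlatMod.freeMod X n :=
  Sigma.ι (fun _ : Fin n => structureModule X) k

/-- the projections of the free module -/
noncomputable def prj (k : Fin n) : FlatMod.freeMod X n ⟶ structureModule X :=
  Sigma.desc (fun j : Fin n => if j = k then 𝟙 _ else 0)

theorem inc_prj (j k : Fin n) :
    inc (X := X) n j ≫ prj n k = if j = k then 𝟙 _ else 0 := by
  simp only [inc, prj, colimit.ι_desc, Cofan.mk_ι_app]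

theorem total : ∑ k : Fin n, prj (X := X) n k ≫ inc n k = 𝟙 _ := by
  apply Sigma.hom_ext
  intro j
  change inc n j ≫ _ = inc n j ≫ _
  rw [Preadditive.comp_sum, Category.comp_id]
  rw [Finset.sum_eq_single j]
  · rw [← Category.assoc, inc_prj, if_pos rfl, Category.id_comp]
  · intro k _ hk
    rw [← Category.assoc, inc_prj, if_neg (Ne.symm hk), zero_comp]
  · intro h
    exact absurd (Finset.mem_univ j) h

/-- the basis sections -/
noncomputable def bas (k : Fin n) : Γ(FlatMod.freeMod X n, ⊤) := (inc n k).app ⊤ (one X)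

/-- the coordinates -/
noncomputable def coord (k : Fin n) (s : Γ(FlatMod.freeMod X n, ⊤)) : Γ(X, ⊤) :=
  toFn ((prj n k).app ⊤ s)

theorem coord_bas (j k : Fin n) : coord (X := X) n j (bas n k) = if k = j then 1 else 0 := by
  change toFn ((inc n k ≫ prj n j).app ⊤ (one X)) = _
  rw [inc_prj]
  split_ifs
  · rfl
  · rfl

theorem toFn_zero_app (k : Fin n) : coord (X := X) n k 0 = 0 := by
  change toFn ((prj n k).app ⊤ 0) = 0
  rw [map_zero]
  rfl

theorem coord_add (k : Fin n) (s t : Γ(FlatMod.freeMod X n, ⊤)) :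
    coord n k (s + t) = coord n k s + coord n k t := by
  change toFn ((prj n k).app ⊤ (s + t)) = _
  rw [map_add]
  rfl

theorem coord_smul (k : Fin n) (a : Γ(X, ⊤)) (s : Γ(FlatMod.freeMod X n, ⊤)) :
    coord n k (a • s) = a * coord n k s := by
  change toFn ((prj n k).app ⊤ (a • s)) = _
  rw [Hom.app_smul]
  rfl

theorem expand (s : Γ(FlatMod.freeMod X n, ⊤)) : s = ∑ k : Fin n, coord n k s • bas n k := by
  have h1 : (Γf X).map (∑ k : Fin n, prj (X := X) n k ≫ inc n k) = 𝟙 _ := by
    rw [total, CategoryTheory.Functor.map_id]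
  rw [Functor.map_sum] at h1
  have h2 := congrArg (fun φ => φ.hom s) h1
  simp only [ModuleCat.hom_sum, LinearMap.sum_apply] at h2
  change _ = s at h2
  refine h2.symm.trans ?_
  apply Finset.sum_congr rfl
  intro k _
  change (inc n k).app ⊤ ((prj n k).app ⊤ s) = coord n k s • (inc n k).app ⊤ (one X)
  rw [← Hom.app_smul]
  congr 1
  exact (smul_one _).symm

theorem free_hom_ext {N : X.Modules} (α β : FlatMod.freeMod X n ⟶ N)
    (h : ∀ k, α.app ⊤ (bas n k) = β.app ⊤ (bas n k)) : α = β := by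
  apply Sigma.hom_ext
  intro k
  apply unit_hom_ext
  exact h k

theorem exists_free_hom {N : X.Modules} (t : Fin n → Γ(N, ⊤)) :
    ∃ β : FlatMod.freeMod X n ⟶ N, ∀ k, β.app ⊤ (bas n k) = t k := by
  choose f hf using fun k => exists_unit_hom (t k)
  refine ⟨Sigma.desc f, fun k => ?_⟩
  change (inc n k ≫ Sigma.desc f).app ⊤ (one X) = _
  rw [inc, Sigma.ι_desc]
  exact hf k

theorem app_sum {M N : X.Modules} (φ : M ⟶ N) {ι : Type*} (s : Finset ι) (f : ι → Γ(M, ⊤)) :
    φ.app ⊤ (∑ k ∈ s, f k) = ∑ k ∈ s, φ.app ⊤ (f k) :=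
  map_sum (φ.app ⊤).hom f s

theorem faithful_aux {M N : X.Modules} (i : M ⟶ FlatMod.freeMod X n)
    (r : FlatMod.freeMod X n ⟶ M) (hir : i ≫ r = 𝟙 M) (φ ψ : M ⟶ N)
    (h : ∀ m : Γ(M, ⊤), φ.app ⊤ m = ψ.app ⊤ m) : φ = ψ := by
  have h1 : r ≫ φ = r ≫ ψ := by
    apply free_hom_ext
    intro k
    exact h _
  calc φ = (i ≫ r) ≫ φ := by rw [hir, Category.id_comp]
    _ = (i ≫ r) ≫ ψ := by rw [Category.assoc, h1, ← Category.assoc]
    _ = ψ := by rw [hir, Category.id_comp]

theorem full_aux {M N : X.Modules} (i : M ⟶ FlatMod.freeMod X n)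
    (r : FlatMod.freeMod X n ⟶ M) (hir : i ≫ r = 𝟙 M)
    (g : Γ(M, ⊤) →ₗ[Γ(X, ⊤)] Γ(N, ⊤)) :
    ∃ φ : M ⟶ N, ∀ m : Γ(M, ⊤), φ.app ⊤ m = g m := by
  obtain ⟨β, hβ⟩ := exists_free_hom n (fun k => g (r.app ⊤ (bas n k)))
  refine ⟨i ≫ β, fun m => ?_⟩
  change β.app ⊤ (i.app ⊤ m) = g m
  have hm : m = r.app ⊤ (i.app ⊤ m) := by
    change m = (i ≫ r).app ⊤ m
    rw [hir]
    rfl
  conv_rhs => rw [hm, expand n (i.app ⊤ m)]
  conv_lhs => rw [expand n (i.app ⊤ m)]
  rw [app_sum, app_sum, map_sum]
  apply Finset.sum_congr rfl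
  intro k _
  rw [Hom.app_smul, Hom.app_smul, LinearMap.map_smul, hβ]


/-- the property of being a retract of a finite free module -/
def PP (X : Scheme.{u}) : ObjectProperty X.Modules := fun M =>
  ∃ (n : ℕ) (i : M ⟶ FlatMod.freeMod X n) (r : FlatMod.freeMod X n ⟶ M), i ≫ r = 𝟙 M

/-- the property of being finite projective -/
def QQ (X : Scheme.{u}) : ObjectProperty (ModuleCat.{u} Γ(X, ⊤)) := fun N =>
  Module.Finite (Γ(X, ⊤)) N ∧ Module.Projective (Γ(X, ⊤)) N

/-- the linear equivalence of sections of the free module with functions -/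
noncomputable def coordEquiv : Γ(FlatMod.freeMod X n, ⊤) ≃ₗ[Γ(X, ⊤)] (Fin n → Γ(X, ⊤)) where
  toFun s k := coord n k s
  map_add' s t := by
    funext k
    exact coord_add n k s t
  map_smul' a s := by
    funext k
    exact coord_smul n k a s
  invFun a := ∑ k : Fin n, a k • bas n k
  left_inv s := (expand n s).symm
  right_inv a := by
    funext j
    have h : ∀ (t : Finset (Fin n)), coord n j (∑ k ∈ t, a k • bas n k) =
        ∑ k ∈ t, a k * (if k = j then 1 else 0) := by
      intro t
      induction t using Finset.induction_on with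
      | empty =>
        rw [Finset.sum_empty, Finset.sum_empty]
        exact toFn_zero_app n j
      | insert b t hb ih =>
        rw [Finset.sum_insert hb, Finset.sum_insert hb, coord_add, ih, coord_smul, coord_bas]
    change coord n j (∑ k : Fin n, a k • bas n k) = a j
    rw [h]
    simp

theorem QQ_of_PP (M : X.Modules) (hM : PP X M) : QQ X ((Γf X).obj M) := by
  obtain ⟨n, i, r, hir⟩ := hM
  let i' : Γ(M, ⊤) →ₗ[Γ(X, ⊤)] Γ(FlatMod.freeMod X n, ⊤) := ((Γf X).map i).hom
  let r' : Γ(FlatMod.freeMod X n, ⊤) →ₗ[Γ(X, ⊤)] Γ(M, ⊤) := ((Γf X).map r).hom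
  have hri : ∀ m, r' (i' m) = m := by
    intro m
    change (i ≫ r).app ⊤ m = m
    rw [hir]
    rfl
  have hfin : Module.Finite Γ(X, ⊤) Γ(FlatMod.freeMod X n, ⊤) :=
    Module.Finite.equiv (coordEquiv n).symm
  have hfree : Module.Free Γ(X, ⊤) Γ(FlatMod.freeMod X n, ⊤) :=
    Module.Free.of_equiv (coordEquiv n).symm
  constructor
  · exact Module.Finite.of_surjective r' (fun m => ⟨i' m, hri m⟩)
  · exact Module.Projective.of_split i' r' (LinearMap.ext hri)

/-- the functor of the statement -/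
noncomputable def GG (X : Scheme.{u}) : (PP X).FullSubcategory ⥤ (QQ X).FullSubcategory :=
  (QQ X).lift ((PP X).ι ⋙ Γf X) (fun M => QQ_of_PP M.obj M.property)

instance : ((PP X).ι ⋙ Γf X).Faithful where
  map_injective := by
    intro M N φ ψ h
    obtain ⟨n, i, r, hir⟩ := M.property
    apply ObjectProperty.hom_ext
    apply faithful_aux n i r hir
    intro m
    exact congrArg (fun f => f.hom m) h

instance : ((PP X).ι ⋙ Γf X).Full where
  map_surjective := by
    intro M N g
    obtain ⟨n, i, r, hir⟩ := M.property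
    obtain ⟨φ, hφ⟩ := full_aux n i r hir (N := N.obj) g.hom
    refine ⟨ObjectProperty.homMk φ, ?_⟩
    ext m
    exact hφ m

theorem freeMod_PP : PP X (FlatMod.freeMod X n) := ⟨n, 𝟙 _, 𝟙 _, Category.id_comp _⟩

instance : (GG X).EssSurj where
  mem_essImage := by
    intro P
    obtain ⟨hfin, hproj⟩ := P.property
    obtain ⟨n, f, g, -, -, hfg⟩ := Module.Finite.exists_comp_eq_id_of_projective Γ(X, ⊤) P.obj
    let i₁ : P.obj →ₗ[Γ(X, ⊤)] Γ(FlatMod.freeMod X n, ⊤) := (coordEquiv n).symm.toLinearMap ∘ₗ g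
    let r₁ : Γ(FlatMod.freeMod X n, ⊤) →ₗ[Γ(X, ⊤)] P.obj := f ∘ₗ (coordEquiv n).toLinearMap
    have hri : ∀ p, r₁ (i₁ p) = p := by
      intro p
      change f ((coordEquiv n) ((coordEquiv n).symm (g p))) = p
      rw [LinearEquiv.apply_symm_apply]
      exact congrArg (fun h => h p) hfg
    obtain ⟨ε, hε⟩ := full_aux n (𝟙 _) (𝟙 _) (Category.id_comp _)
      (N := FlatMod.freeMod X n) (i₁ ∘ₗ r₁)
    have hεε : ε ≫ ε = ε := by
      apply faithful_aux n (𝟙 _) (𝟙 _) (Category.id_comp _)
      intro s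
      change ε.app ⊤ (ε.app ⊤ s) = ε.app ⊤ s
      rw [hε, hε]
      change i₁ (r₁ (i₁ (r₁ s))) = i₁ (r₁ s)
      rw [hri]
    obtain ⟨M, i, e, hie, hei⟩ := IsIdempotentComplete.idempotents_split _ ε hεε
    have hM : PP X M := ⟨n, i, e, hie⟩
    have h1 : ∀ m : Γ(M, ⊤), e.app ⊤ (i.app ⊤ m) = m := by
      intro m
      change (i ≫ e).app ⊤ m = m
      rw [hie]
      rfl
    have h2 : ∀ s : Γ(FlatMod.freeMod X n, ⊤), i.app ⊤ (e.app ⊤ s) = i₁ (r₁ s) := by
      intro s
      change (e ≫ i).app ⊤ s = _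
      rw [hei, hε]
      rfl
    let E : Γ(M, ⊤) ≃ₗ[Γ(X, ⊤)] P.obj :=
      { toFun := fun m => r₁ (i.app ⊤ m)
        map_add' := fun a b => by rw [map_add, map_add]
        map_smul' := fun a b => by rw [Hom.app_smul, LinearMap.map_smul]; rfl
        invFun := fun p => e.app ⊤ (i₁ p)
        left_inv := fun m => by
          change e.app ⊤ (i₁ (r₁ (i.app ⊤ m))) = m
          rw [← h2, h1, h1]
        right_inv := fun p => by
          change r₁ (i.app ⊤ (e.app ⊤ (i₁ p))) = p
          rw [h2, hri, hri] }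
    refine ⟨⟨M, hM⟩, ⟨ObjectProperty.isoMk _ ?_⟩⟩
    exact E.toModuleIso

instance : (GG X).Faithful := by
  unfold GG
  infer_instance

instance : (GG X).Full := by
  unfold GG
  infer_instance

instance : (GG X).IsEquivalence where

end

open AlgebraicGeometry CategoryTheory.Limits in

open AlgebraicGeometry CategoryTheory.Limits in
/-- For a scheme X with R = Γ(X, O_X), the full subcategory of O_X-modules which are retracts of a
finite free O_X-module is equivalent to the full subcategory of R-modules which are finite and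
projective (existence of an equivalence of categories). The published statement is for ringed
spaces; stated here for schemes. -/
theorem result {X : Scheme.{u}} :
    Nonempty ((ObjectProperty.FullSubcategory fun M : X.Modules =>
        ∃ (n : ℕ) (i : M ⟶ FlatMod.freeMod X n) (r : FlatMod.freeMod X n ⟶ M), i ≫ r = 𝟙 M) ≌
      (ObjectProperty.FullSubcategory fun N : ModuleCat.{u} (Γ(X, ⊤)) =>
        Module.Finite (Γ(X, ⊤)) N ∧ Module.Projective (Γ(X, ⊤)) N)) := by
  exact ⟨(GG X).asEquivalence⟩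

end Groth.Agent.S0938
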