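import Groth.Statements.S0943
import Groth.Agent.Lib.Helper10.RlimTri
-- import your own Groth.Agent.* helpers here

set_option autoImplicit false
universe u
open CategoryTheory
open CohSite

namespace Groth.Agent.S0943

section aux
open CategoryTheory.Limits Pretriangulated

universe v' u'

variable {T : Type u'} [Category.{v'} T] [Preadditive T] [HasZeroObject T] [HasShift T ℤ]
  [∀ n : ℤ, (shiftFunctor T n).Additive] [Pretriangulated T]

theorem general (K : ℕ → T) (t : ∀ n, K (n + 1) ⟶ K n) [HasProduct K] (L : T) (a : ∀ n, L ⟶ K n)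
    (c : ∏ᶜ K ⟶ L⟦(1 : ℤ)⟧)
    (hT : Triangle.mk (Pi.lift a) (Pi.lift fun n => Pi.π K n - Pi.π K (n + 1) ≫ t n) c ∈
      distinguishedTriangles) (A₀ : T) (m : ℤ) :
    (∀ x : ∀ n, A₀ ⟶ (K n)⟦m⟧,
      (∀ n, x (n + 1) ≫ (t n)⟦m⟧' = x n) →
      ∃ y : A₀ ⟶ L⟦m⟧, ∀ n, y ≫ (a n)⟦m⟧' = x n) ∧
    (Function.Surjective (fun (d : ∀ n, A₀ ⟶ (K n)⟦m - 1⟧) (n : ℕ) =>
        d n - d (n + 1) ≫ (t n)⟦m - 1⟧') →
      ∀ y : A₀ ⟶ L⟦m⟧, (∀ n, y ≫ (a n)⟦m⟧' = 0) → y = 0) := by
  let e : A₀ ≅ (A₀⟦-m⟧)⟦m⟧ :=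
    ((shiftFunctorCompIsoId T (-m) m
      (by omega)).app A₀).symm
  refine ⟨?_, ?_⟩
  · intro x hx
    have hx' : ∀ n, ∃ x' : A₀⟦-m⟧ ⟶ K n, x'⟦m⟧' = e.inv ≫ x n :=
      fun n => (shiftFunctor _ m).map_surjective _
    choose x' hx' using hx'
    have hcompat : ∀ n, x' (n + 1) ≫ t n = x' n := by
      intro n
      apply (shiftFunctor _ m).map_injective
      rw [Functor.map_comp, hx', hx', Category.assoc, hx n]
    obtain ⟨y', hy'⟩ := Groth.Agent.Lib.Helper10.RlimTri.exists_lift K t L a c hT x' hcompat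
    refine ⟨e.hom ≫ y'⟦m⟧', fun n => ?_⟩
    rw [Category.assoc, ← Functor.map_comp, hy', hx', e.hom_inv_id_assoc]
  · intro hlim y hy
    obtain ⟨y', hy'⟩ := (shiftFunctor _ m).map_surjective (e.inv ≫ y)
    have hy'a : ∀ n, y' ≫ a n = 0 := by
      intro n
      apply (shiftFunctor _ m).map_injective
      rw [Functor.map_comp, hy', Category.assoc, hy n, comp_zero, Functor.map_zero]
    have hy'α : y' ≫ Pi.lift a = 0 := by
      apply Pi.hom_ext
      intro n
      rw [Category.assoc, Pi.lift_π, hy'a, zero_comp]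
    have hsurj : Function.Surjective
        (fun (b : ∀ n, (A₀⟦-m⟧)⟦(1 : ℤ)⟧ ⟶ K n) (n : ℕ) => b n - b (n + 1) ≫ t n) := by
      let e' : A₀ ≅ ((A₀⟦-m⟧)⟦(1 : ℤ)⟧)⟦m - 1⟧ :=
        e ≪≫ (shiftFunctorAdd' T 1 (m - 1) m
          (by omega)).app _
      intro b
      obtain ⟨d, hd⟩ := hlim (fun n => e'.hom ≫ (b n)⟦m - 1⟧')
      have hd' : ∀ n, ∃ d' : (A₀⟦-m⟧)⟦(1 : ℤ)⟧ ⟶ K n, d'⟦m - 1⟧' = e'.inv ≫ d n :=
        fun n => (shiftFunctor _ (m - 1)).map_surjective _
      choose d' hd' using hd'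
      refine ⟨d', funext fun n => ?_⟩
      apply (shiftFunctor _ (m - 1)).map_injective
      rw [← cancel_epi e'.hom]
      have h1 := congrFun hd n
      simp only [Functor.map_sub, Functor.map_comp, hd', Preadditive.comp_sub,
        e'.hom_inv_id_assoc, Category.assoc]
      exact h1
    have hf := Groth.Agent.Lib.Helper10.RlimTri.eq_zero_of_limOne K t L a c hT hsurj
      (y'⟦(1 : ℤ)⟧') (by rw [← Functor.map_comp, hy'α, Functor.map_zero])
    have hy'0 : y' = 0 := (shiftFunctor _ (1 : ℤ)).map_injective (by rw [hf, Functor.map_zero])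
    have hyy : y = e.hom ≫ y'⟦m⟧' := by rw [hy', e.hom_inv_id_assoc]
    rw [hyy, hy'0, Functor.map_zero, comp_zero]

end aux


open CategoryTheory.Limits in
/-- Abelian sheaves; the short exact sequence 0 -> R^1 lim H^{m-1}(U, K_n) -> H^m(U, R lim K_n) -> lim
H^m(U, K_n) -> 0 rendered by two consequences: let (K_n) be an inverse system in the derived
category of abelian sheaves on a site with a derived limit L through maps a_n : L -> K_n, U an
object and m an integer. Then every compatible family of classes in the H^m(U, K_n) lifts to H^m(U,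
L), and if the system H^{m-1}(U, K_n) has vanishing R^1 lim the lift is unique (a class with zero
images is zero). -/
theorem result {C : Type u} [SmallCategory C] {J : GrothendieckTopology C}
    [HasDerivedCategory.{u} (Sheaf J AddCommGrpCat.{u})]
    (K : ℕ → DerivedCategory (Sheaf J AddCommGrpCat.{u})) (t : ∀ n, K (n + 1) ⟶ K n) [HasProduct K]
    (L : DerivedCategory (Sheaf J AddCommGrpCat.{u})) (a : ∀ n, L ⟶ K n) (hL : CohCx.IsRlimVia K t L a)
    (U : C) (m : ℤ) :
    (∀ x : ∀ n, CohCx.HDU (K n) m U,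
      (∀ n, x (n + 1) ≫ (shiftFunctor _ m).map (t n) = x n) →
      ∃ y : CohCx.HDU L m U, ∀ n, y ≫ (shiftFunctor _ m).map (a n) = x n) ∧
    (CohCx.LimOneIsZero (fun n => CohCx.HDU (K n) (m - 1) U)
        (fun n => Preadditive.rightComp _ ((shiftFunctor _ (m - 1)).map (t n))) →
      ∀ y : CohCx.HDU L m U, (∀ n, y ≫ (shiftFunctor _ m).map (a n) = 0) → y = 0) := by
  obtain ⟨c, hT⟩ := hL
  exact general K t L a c hT _ m

end Groth.Agent.S0943
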