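import Groth.Statements.S0947
import Groth.Agent.Lib.Helper68.SpecColim

set_option autoImplicit false
universe u
open CategoryTheory
open CohTop

namespace Groth.Agent.S0947

open TopologicalSpace Opposite CategoryTheory.Limits in
/-- Let X be a spectral space, F an abelian sheaf on X, E ⊆ X a quasi-compact subset and W the set of
points of X specializing to some point of E. Then for every p the group H^p(W, F|_W) (cohomology of
the pullback of F to the subspace W) is isomorphic to the colimit of the groups H^p(U, F) over the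
quasi-compact open neighbourhoods U of E (existence of an isomorphism). -/
theorem result {X : TopCat.{u}} [SpectralSpace X] (E : Set X)
    (hE : IsCompact E) (F : CohTop.Ab X) (p : ℕ) :
    Nonempty ((colimit (ObjectProperty.ι (fun U : (Opens X)ᵒᵖ => E ⊆ (U.unop : Set X) ∧ IsCompact (U.unop : Set X)) ⋙
        (Sheaf.cohomologyPresheafFunctor (Opens.grothendieckTopology X) p).obj F) : AddCommGrpCat.{u}) ≃+
      CohTop.H ((CohTop.pull (TopCat.ofHom ⟨Subtype.val, continuous_subtype_val⟩ :
        TopCat.of {x : X | ∃ e ∈ E, e ∈ closure {x}} ⟶ X)).obj F) p) := by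
  have hW : IsCompact (Groth.Agent.Lib.Helper68.SpecPatch.gens E) :=
    Groth.Agent.Lib.Helper68.SpecPatch.isCompact_gens hE
  have hgen := Groth.Agent.Lib.Helper68.SpecPatch.genStable_gens E
  exact Groth.Agent.Lib.Helper68.SpecColim.nonempty_addEquiv
    (Groth.Agent.Lib.Helper68.SpecPatch.gens E) hW hgen
    (fun U : (Opens X)ᵒᵖ => E ⊆ (U.unop : Set X) ∧ IsCompact (U.unop : Set X))
    (fun U => ⟨fun h => ⟨Groth.Agent.Lib.Helper68.SpecPatch.gens_subset_of_isOpen U.isOpen h.1, h.2⟩,
      fun h => ⟨(Groth.Agent.Lib.Helper68.SpecPatch.subset_gens E).trans h.1, h.2⟩⟩) F p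

end Groth.Agent.S0947
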