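import Groth.Statements.S0949
import Groth.Agent.Lib.Helper12.KFlat5

set_option autoImplicit false
universe u
open CategoryTheory
attribute [local instance] HasDerivedCategory.standard
open DCoh

namespace Groth.Agent.S0949

open AlgebraicGeometry in
theorem result {X : Scheme.{u}} (K : CochainComplex X.Modules ℤ) (hK : DCoh.IsKFlat K)
    {F G : CochainComplex X.Modules ℤ} (f : F ⟶ G) [QuasiIso f] :
    QuasiIso ((DCoh.tensorCx.map f).app K) := by
  have hK' : ModSite.IsKFlat (O := X.sheaf) K := hK
  exact @Groth.Agent.Lib.Helper12.KFlat.quasiIso_tensor_right _ _ _ X.sheaf K hK' F G f ‹QuasiIso f›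

end Groth.Agent.S0949
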