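import Groth.Statements.S0950
import Groth.Agent.Lib.Helper12.KFlat15

set_option autoImplicit false
universe u
open CategoryTheory
attribute [local instance] HasDerivedCategory.standard
open DCoh

namespace Groth.Agent.S0950

open AlgebraicGeometry in
theorem result {X : Scheme.{u}} {P Q : CochainComplex X.Modules ℤ} (α : P ⟶ Q)
    [QuasiIso α] (hP : DCoh.IsKFlat P) (hQ : DCoh.IsKFlat Q) (F : CochainComplex X.Modules ℤ) :
    QuasiIso ((DCoh.tensorCx.obj F).map α) := by
  have hP' : ModSite.IsKFlat (O := X.sheaf) P := hP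
  have hQ' : ModSite.IsKFlat (O := X.sheaf) Q := hQ
  exact @Groth.Agent.Lib.Helper12.KFlat.quasiIso_tensor_left _ _ _ X.sheaf F P Q α ‹QuasiIso α› hP' hQ'

end Groth.Agent.S0950
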