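import Groth.Statements.S0953
import Groth.Agent.Lib.Helper12.KFlat4
import Groth.Agent.Lib.Helper12.FlatBridge

set_option autoImplicit false
universe u
open CategoryTheory
attribute [local instance] HasDerivedCategory.standard
open DCoh

namespace Groth.Agent.S0953

open AlgebraicGeometry in
theorem result {X : Scheme.{u}} (K : CochainComplex X.Modules ℤ) (b : ℤ) (hb : K.IsStrictlyLE b)
    (hflat : ∀ n : ℤ, FlatMod.IsFlat (K.X n)) : DCoh.IsKFlat K := by
  have h := Groth.Agent.Lib.Helper12.KFlat.isKFlat_of_bounded_above (O := X.sheaf) K b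
    (fun n hn => CochainComplex.isZero_of_isStrictlyLE K b n hn)
    (fun n => Groth.Agent.Lib.Helper12.FlatBridge.isFlat_of_flatMod _ (hflat n))
  exact h

end Groth.Agent.S0953
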