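import Groth.Statements.S0957
import Groth.Agent.S9057
import Groth.Agent.Lib.Helper12.FlatBridge

set_option autoImplicit false
universe u
open CategoryTheory
attribute [local instance] HasDerivedCategory.standard
open DCoh

namespace Groth.Agent.S0957

open AlgebraicGeometry in
theorem result {X : Scheme.{u}} (S : ShortComplex (CochainComplex X.Modules ℤ))
    (hS : S.ShortExact) (h3 : ∀ n : ℤ, FlatMod.IsFlat (S.X₃.X n)) :
    (DCoh.IsKFlat S.X₁ → DCoh.IsKFlat S.X₂ → DCoh.IsKFlat S.X₃) ∧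
    (DCoh.IsKFlat S.X₁ → DCoh.IsKFlat S.X₃ → DCoh.IsKFlat S.X₂) ∧
    (DCoh.IsKFlat S.X₂ → DCoh.IsKFlat S.X₃ → DCoh.IsKFlat S.X₁) := by
  have h := Groth.Agent.S9057.result X.sheaf S hS
    (fun n => Groth.Agent.Lib.Helper12.FlatBridge.isFlat_of_flatMod _ (h3 n))
  exact h

end Groth.Agent.S0957
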