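import Groth.Statements.S0958
import Groth.Agent.Lib.Helper12.KFlat13
import Groth.Agent.Lib.Helper12.FlatBridge2

set_option autoImplicit false
universe u
open CategoryTheory
attribute [local instance] HasDerivedCategory.standard
open DCoh

namespace Groth.Agent.S0958

open AlgebraicGeometry in
theorem result {X : Scheme.{u}} {K L : CochainComplex X.Modules ℤ} (a : K ⟶ L) (hK : DCoh.IsKFlat K) :
    ∃ (N : CochainComplex X.Modules ℤ) (b : K ⟶ N) (c : N ⟶ L), DCoh.IsKFlat N ∧ QuasiIso c ∧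
      Nonempty (Homotopy a (b ≫ c)) ∧ ((∀ n : ℤ, FlatMod.IsFlat (K.X n)) → ∀ n : ℤ, FlatMod.IsFlat (N.X n)) := by
  have hK' : ModSite.IsKFlat (O := X.sheaf) K := hK
  obtain ⟨N, b, c, h1, h2, h3, h4⟩ :=
    Groth.Agent.Lib.Helper12.KFlat.exists_factor_isKFlat (O := X.sheaf) a hK'
  exact ⟨N, b, c, h1, h2, ⟨Homotopy.ofEq h3.symm⟩, fun h n =>
    Groth.Agent.Lib.Helper12.FlatBridge.flatMod_of_isFlat _
      (h4 (fun m => Groth.Agent.Lib.Helper12.FlatBridge.isFlat_of_flatMod _ (h m)) n)⟩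

end Groth.Agent.S0958
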