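import Groth.Statements.S0968
import Groth.Agent.Lib.Helper12.LTK2

set_option autoImplicit false
universe u
open CategoryTheory
attribute [local instance] HasDerivedCategory.standard
open DCoh

namespace Groth.Agent.S0968

open AlgebraicGeometry CategoryTheory.Limits in
theorem result {X : Scheme.{u}} (E : CochainComplex X.Modules ℤ) (n : ℤ) (hn : E.IsStrictlyLE n)
    (hflat : ∀ i : ℤ, FlatMod.IsFlat (E.X i)) (hL : ∀ G : X.Modules, DCoh.HasLTensorMod G) (a b : ℤ)
    (hE : DCoh.HasTorAmplitudeIn a b (DCoh.toD X E)) :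
    FlatMod.IsFlat (cokernel (E.d (a - 1) a)) := by
  have hK : DCoh.IsKFlat E := Groth.Agent.Lib.Helper12.LTK.isKFlat_of_bddAbove_flat E n
    (fun m hm => E.isZero_of_isStrictlyLE n m hm) hflat
  refine Groth.Agent.Lib.Helper12.LTK.flat_cokernel_of_vanishing E a (hflat a) (fun G => ?_)
  have := hL G
  exact Groth.Agent.Lib.Helper12.LTK.isZero_homology_twX_of_torAmp E hK G a b hE (a - 1)
    (Or.inl (by omega))

end Groth.Agent.S0968
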