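import Groth.Statements.S0973
import Mathlib
import Groth.Agent.Lib.Helper86.SplitD

set_option autoImplicit false
universe w v u
open CategoryTheory CategoryTheory.Limits
open CohDer

namespace Groth.Agent.S0973

open DerivedCategory Groth.Agent.Lib.Helper86.SplitD

/-- Let K be an object of the derived category of an abelian category with cohomology concentrated in
degrees a, …, b. Suppose that for all i > j and p ≥ 2 every morphism H^i(K) ⟶ H^j(K)[p] in the
derived category (an element of Ext^p) vanishes. Then K splits: it is isomorphic to ⨁_{a ≤ i ≤ b}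
Hⁱ(K)[-i]. -/
theorem result {A : Type u} [Category.{v} A] [Abelian A] [HasDerivedCategory.{w} A]
    (K : DerivedCategory A) (a b : ℤ) [K.IsGE a] [K.IsLE b]
    (hExt : ∀ (i j : ℤ) (p : ℕ), j < i → 2 ≤ p →
      ∀ f : (DerivedCategory.singleFunctor A 0).obj ((DerivedCategory.homologyFunctor A i).obj K) ⟶
        ((DerivedCategory.singleFunctor A 0).obj ((DerivedCategory.homologyFunctor A j).obj K))⟦(p : ℤ)⟧, f = 0)
    [HasBiproduct (fun i : Finset.Icc a b => (DerivedCategory.singleFunctor A (i : ℤ)).obj ((DerivedCategory.homologyFunctor A (i : ℤ)).obj K))] :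
    Nonempty (K ≅ ⨁ (fun i : Finset.Icc a b => (DerivedCategory.singleFunctor A (i : ℤ)).obj ((DerivedCategory.homologyFunctor A (i : ℤ)).obj K))) := by
  have H : ∀ (i j : ℤ), j < i → ∀ (M N : A), Nonempty (M ≅ (homologyFunctor A i).obj K) →
      Nonempty (N ≅ (homologyFunctor A j).obj K) →
      ∀ f : (singleFunctor A i).obj M ⟶ ((singleFunctor A j).obj N)⟦(1 : ℤ)⟧, f = 0 := by
    rintro i j hij M N ⟨eM⟩ ⟨eN⟩ f
    have h0 : ∀ f' : (singleFunctor A i).obj ((homologyFunctor A i).obj K) ⟶
        ((singleFunctor A j).obj ((homologyFunctor A j).obj K))⟦(1 : ℤ)⟧, f' = 0 :=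
      hom_single_shift_one_eq_zero _ _ i j (i - j + 1).toNat (by lia)
        (hExt i j _ hij (by lia))
    have h1 := h0 ((singleFunctor A i).map eM.inv ≫ f ≫ ((singleFunctor A j).map eN.hom)⟦(1 : ℤ)⟧')
    have e1 : IsIso ((singleFunctor A i).map eM.inv) := inferInstance
    have e2 : IsIso (((singleFunctor A j).map eN.hom)⟦(1 : ℤ)⟧') := inferInstance
    rw [← cancel_epi ((singleFunctor A i).map eM.inv),
      ← cancel_mono (((singleFunctor A j).map eN.hom)⟦(1 : ℤ)⟧'), Category.assoc, h1, comp_zero,
      zero_comp]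
  choose s hs using fun i : Finset.Icc a b =>
    exists_section K a (i : ℤ) (fun j hj => H i j hj)
  have hiso : IsIso (biproduct.desc s) := by
    refine isIso_biproduct_desc (fun i : Finset.Icc a b => (i : ℤ)) Subtype.val_injective _ ?_
      K s hs ?_
    · intro j n hn
      rcases lt_or_gt_of_ne hn with h | h
      · exact isZero_of_isGE _ (j : ℤ) n h
      · exact isZero_of_isLE _ (j : ℤ) n h
    · intro n hn
      by_cases h1 : n < a
      · exact isZero_of_isGE K a n h1
      · by_cases h2 : b < n
        · exact isZero_of_isLE K b n h2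
        · exact absurd rfl (hn ⟨n, Finset.mem_Icc.2 ⟨by lia, by lia⟩⟩)
  exact ⟨(asIso (biproduct.desc s)).symm⟩

end Groth.Agent.S0973
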