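import Groth.Statements.S0976
import Mathlib.CategoryTheory.Triangulated.Orthogonal
import Mathlib.CategoryTheory.Triangulated.Subcategory

set_option autoImplicit false
universe v u
open CategoryTheory
open CohDer

namespace Groth.Agent.S0976

open CategoryTheory.Pretriangulated CategoryTheory.Limits CategoryTheory.Triangulated ZeroObject

section

variable {D : Type u} [Category.{v} D] [Preadditive D] [Limits.HasZeroObject D] [HasShift D ℤ]
    [∀ n : ℤ, (shiftFunctor D n).Additive] [Pretriangulated D] [IsTriangulated D]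
    (P : ObjectProperty D) [P.IsTriangulated]

/-- the class of decomposable objects -/
def Q : ObjectProperty D :=
  fun X : D => ∃ (A B : D) (f : A ⟶ X) (g : X ⟶ B) (h : B ⟶ (shiftFunctor D (1 : ℤ)).obj A),
      Triangle.mk f g h ∈ distinguishedTriangles ∧ P A ∧ P.rightOrthogonal B

omit [IsTriangulated D] in
lemma Q_shift (X : D) (hX : Q P X) (n : ℤ) : Q P (X⟦n⟧) := by
  obtain ⟨A, B, f, g, h, hT, hA, hB⟩ := hX
  have hT' := Triangle.shift_distinguished _ hT n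
  exact ⟨A⟦n⟧, B⟦n⟧, _, _, _, hT', P.le_shift n _ hA, P.rightOrthogonal.le_shift n _ hB⟩

omit [IsTriangulated D] in
lemma Q_zero : ∃ Z : D, IsZero Z ∧ Q P Z := by
  obtain ⟨Z, hZ, hPZ⟩ := ObjectProperty.ContainsZero.exists_zero (P := P)
  refine ⟨Z, hZ, Z, 0, 𝟙 Z, 0, 0, contractible_distinguished Z, hPZ, ?_⟩
  intro Y f _
  exact (isZero_zero D).eq_of_tgt _ _

omit [IsTriangulated D] in
lemma dist_of_iso₁ {A A' X B : D} (e : A ≅ A') (f : A ⟶ X) (g : X ⟶ B) (h : B ⟶ A⟦(1 : ℤ)⟧)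
    (hT : Triangle.mk f g h ∈ distTriang D) :
    Triangle.mk (e.inv ≫ f) g (h ≫ e.hom⟦(1 : ℤ)⟧') ∈ distTriang D := by
  refine isomorphic_distinguished _ hT _ ?_
  refine Triangle.isoMk _ _ e.symm (Iso.refl _) (Iso.refl _) ?_ ?_ ?_
  · change (e.inv ≫ f) ≫ 𝟙 X = e.inv ≫ f
    simp
  · change g ≫ 𝟙 B = 𝟙 X ≫ g
    simp
  · change (h ≫ (shiftFunctor D (1 : ℤ)).map e.hom) ≫ (shiftFunctor D (1 : ℤ)).map e.inv = 𝟙 B ≫ h
    rw [Category.assoc, ← Functor.map_comp, e.hom_inv_id, CategoryTheory.Functor.map_id,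
      Category.comp_id, Category.id_comp]

lemma Q_ext (X₃' X₁ X₂ : D) (φ : X₃' ⟶ X₁) (u : X₁ ⟶ X₂) (ψ : X₂ ⟶ X₃'⟦(1 : ℤ)⟧)
    (hT : Triangle.mk φ u ψ ∈ distTriang D) (h₃ : Q P X₃') (h₁ : Q P X₁) : Q P X₂ := by
  obtain ⟨A₃, B₃, a₃, b₃, c₃, hT₃, hA₃, hB₃⟩ := h₃
  obtain ⟨A₁, B₁, a₁, b₁, c₁, hT₁, hA₁, hB₁⟩ := h₁
  -- step 1
  have hz : (a₃ ≫ φ) ≫ b₁ = 0 := hB₁ _ hA₃
  obtain ⟨ψ₀, hψ₀⟩ : ∃ ψ₀ : A₃ ⟶ A₁, a₃ ≫ φ = ψ₀ ≫ a₁ :=
    Triangle.coyoneda_exact₂ _ hT₁ (a₃ ≫ φ) hz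
  -- step 2
  obtain ⟨A₂, i₂, p₂, hA₂T⟩ := distinguished_cocone_triangle ψ₀
  have hA₂ : P.isoClosure A₂ := P.ext_of_isTriangulatedClosed₃' _ hA₂T hA₃ hA₁
  -- step 3
  obtain ⟨M, j, q, hMT⟩ := distinguished_cocone_triangle (a₃ ≫ φ)
  -- step 4
  have o₁ := someOctahedron hψ₀.symm hA₂T hT₁ hMT
  -- step 5
  have o₂ := someOctahedron (rfl : a₃ ≫ φ = a₃ ≫ φ) hT₃ hT hMT
  have hrot := rot_of_distTriang _ o₂.mem
  -- step 6
  obtain ⟨B₂, k, l, hB₂T⟩ := distinguished_cocone_triangle (o₁.m₁ ≫ o₂.m₃)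
  have o₃ := someOctahedron (rfl : o₁.m₁ ≫ o₂.m₃ = o₁.m₁ ≫ o₂.m₃) o₁.mem hrot hB₂T
  have hB₂ : P.rightOrthogonal B₂ := by
    have := P.rightOrthogonal.ext_of_isTriangulatedClosed₂ _ o₃.mem hB₁
      (P.rightOrthogonal.le_shift (1 : ℤ) _ hB₃)
    exact this
  obtain ⟨A₂', hA₂', ⟨e⟩⟩ := hA₂
  refine ⟨A₂', B₂, e.inv ≫ o₁.m₁ ≫ o₂.m₃, k, l ≫ e.hom⟦(1 : ℤ)⟧', ?_, hA₂', hB₂⟩
  exact dist_of_iso₁ e _ _ _ hB₂T

end

open CategoryTheory.Pretriangulated in
/-- Let P be a triangulated subcategory of a triangulated category D (an object property containing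
zero, stable under shifts, closed under extensions). Consider the class of objects X sitting in a
distinguished triangle A → X → B → A[1] with P A and B right orthogonal to P. This class is again
stable under shifts and closed under extensions, i.e. satisfies two-out-of-three in distinguished
triangles. -/
theorem result {D : Type u} [Category.{v} D] [Preadditive D] [Limits.HasZeroObject D] [HasShift D ℤ]
    [∀ n : ℤ, (shiftFunctor D n).Additive] [Pretriangulated D] [IsTriangulated D]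
    (P : ObjectProperty D) [P.IsTriangulated] :
    ObjectProperty.IsTriangulated (fun X : D => ∃ (A B : D) (f : A ⟶ X) (g : X ⟶ B) (h : B ⟶ (shiftFunctor D (1 : ℤ)).obj A),
      Triangle.mk f g h ∈ distinguishedTriangles ∧ P A ∧ P.rightOrthogonal B) := by
  change ObjectProperty.IsTriangulated (Q P)
  have h1 : (Q P).ContainsZero := ⟨Q_zero P⟩
  have h2 : (Q P).IsStableUnderShift ℤ := ⟨fun n => ⟨fun X hX => Q_shift P X hX n⟩⟩
  have h3 : (Q P).IsTriangulatedClosed₂ := ⟨fun T hT h₁ h₃ => by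
    refine ObjectProperty.le_isoClosure _ _ ?_
    exact Q_ext P _ _ _ _ _ _ (inv_rot_of_distTriang _ hT) (Q_shift P _ h₃ (-1)) h₁⟩
  exact { }

end Groth.Agent.S0976
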