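import Groth.Statements.S0982
import Mathlib
import Groth.Agent.Lib.Helper86.TruncD

set_option autoImplicit false
universe w v u
open CategoryTheory CategoryTheory.Limits
open CohDer

namespace Groth.Agent.S0982

open DerivedCategory Groth.Agent.Lib.Helper86.TruncD

/-- `H^n(Q f) = 0` when `H^n(f) = 0`. -/
lemma homologyFunctor_map_Q_eq_zero {A : Type u} [Category.{v} A] [Abelian A]
    [HasDerivedCategory.{w} A] {K L : CochainComplex A ℤ} (f : K ⟶ L) (n : ℤ)
    (hf : HomologicalComplex.homologyMap f n = 0) :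
    (homologyFunctor A n).map (Q.map f) = 0 := by
  have h := homologyFunctorFactors_hom_naturality (C := A) f n
  rw [hf] at h
  have h' : (homologyFunctor A n).map (Q.map f) ≫ (homologyFunctorFactors A n).hom.app L = 0 :=
    h.trans comp_zero
  rw [← cancel_mono ((homologyFunctorFactors A n).hom.app L), h', zero_comp]

/-- Let K : ℕ ⥤ CochainComplex A ℤ be a sequence of cochain maps K₀ → K₁ → K₂ → … in an abelian category
with Hⁱ(K₀) = 0 for i > 0 and such that for every j < n the map H⁻ʲ(Kⱼ) → H⁻ʲ(Kⱼ₊₁) is zero. Then in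
the derived category the composite K₀ → Kₙ factors through the canonical truncation τ_{≤ -n}Kₙ → Kₙ. -/
theorem result {A : Type u} [Category.{v} A] [Abelian A] [HasDerivedCategory.{w} A]
    (K : ℕ ⥤ CochainComplex A ℤ) (n : ℕ)
    (h0 : ∀ i : ℤ, 0 < i → IsZero ((K.obj 0).homology i))
    (hz : ∀ j : ℕ, j < n → HomologicalComplex.homologyMap (K.map (homOfLE (Nat.le_succ j))) (-(j : ℤ)) = 0) :
    ∃ φ : DerivedCategory.Q.obj (K.obj 0) ⟶ DerivedCategory.Q.obj ((K.obj n).truncLE (-(n : ℤ))),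
      φ ≫ DerivedCategory.Q.map ((K.obj n).ιTruncLE (-(n : ℤ))) = DerivedCategory.Q.map (K.map (homOfLE (Nat.zero_le n))) := by
  have hle : (Q.obj (K.obj 0)).IsLE 0 := by
    rw [isLE_Q_obj_iff, CochainComplex.isLE_iff]
    intro i hi
    rw [HomologicalComplex.exactAt_iff_isZero_homology]
    exact h0 i hi
  induction n with
  | zero =>
    have : (Q.obj (K.obj 0)).IsLE (-((0 : ℕ) : ℤ)) := by simpa using hle
    exact exists_lift_Q_truncLE (-((0 : ℕ) : ℤ)) (K.obj 0) (Q.map (K.map (homOfLE (Nat.zero_le 0))))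
  | succ n ih =>
    obtain ⟨φ, hφ⟩ := ih (fun j hj => hz j (Nat.lt_succ_of_lt hj))
    -- the map X := Q(τ≤-n K_n) ⟶ Q(K_{n+1})
    set f : Q.obj ((K.obj n).truncLE (-(n : ℤ))) ⟶ Q.obj (K.obj (n + 1)) :=
      Q.map ((K.obj n).ιTruncLE (-(n : ℤ))) ≫ Q.map (K.map (homOfLE (Nat.le_succ n))) with hfdef
    have hf0 : (homologyFunctor A (-(n : ℤ))).map f = 0 := by
      rw [hfdef, Functor.map_comp,
        homologyFunctor_map_Q_eq_zero _ _ (hz n (Nat.lt_succ_self n)), comp_zero]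
    obtain ⟨g, hg⟩ := exists_lift_truncLT (-(n : ℤ)) f hf0
    have hle' : ((TStructure.t.truncLT (-(n : ℤ))).obj (Q.obj (K.obj (n + 1)))).IsLE
        (-((n + 1 : ℕ) : ℤ)) :=
      TStructure.t.isLE_truncLT_obj _ _ _ (by push_cast; lia)
    obtain ⟨ψ, hψ⟩ := exists_lift_Q_truncLE (-((n + 1 : ℕ) : ℤ)) (K.obj (n + 1))
      ((TStructure.t.truncLTι (-(n : ℤ))).app (Q.obj (K.obj (n + 1))))
    refine ⟨φ ≫ g ≫ ψ, ?_⟩
    rw [Category.assoc, Category.assoc, hψ, hg, hfdef, ← Category.assoc, hφ, ← Q.map_comp,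
      ← K.map_comp]
    rfl

end Groth.Agent.S0982
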