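import Groth.Statements.S0984
import Groth.Agent.Lib.Helper89.Tower

set_option autoImplicit false
universe v u
open CategoryTheory
open DerLim

namespace Groth.Agent.S0984

open CategoryTheory.Limits CategoryTheory.Pretriangulated in
/-- Let D be a triangulated category with all small direct sums and E a small family of compact objects
which generates D. Every object X of D is a homotopy colimit of a sequential system X₀ → X₁ → X₂ → …
in which X₀ is a direct sum of shifts of members of E and each transition map Xₙ → Xₙ₊₁ sits in a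
distinguished triangle Yₙ → Xₙ → Xₙ₊₁ → Yₙ[1] with Yₙ a direct sum of shifts of members of E. -/
theorem result {D : Type u} [Category.{v} D] [Preadditive D] [Limits.HasZeroObject D] [HasShift D ℤ]
    [∀ n : ℤ, (shiftFunctor D n).Additive] [Pretriangulated D] [IsTriangulated D] [HasCoproducts.{v} D]
    [HasColimitsOfShape (Discrete ℕ) D]
    {ι : Type v} (E : ι → D) (hc : ∀ i, CohDer.IsCompactObject (E i)) (hg : CohDer.Generates E) (X : D) :
    ∃ (K : ℕ → D) (f : ∀ n, K n ⟶ K (n + 1)) (i : ∀ n, K n ⟶ X),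
      DerLim.IsHocolim K f X i ∧
      (∃ (κ : Type v) (a : κ → ι) (m : κ → ℤ), Nonempty (K 0 ≅ ∐ (fun k => (shiftFunctor D (m k)).obj (E (a k))))) ∧
      ∀ n, ∃ (κ : Type v) (a : κ → ι) (m : κ → ℤ) (y : (∐ fun k => (shiftFunctor D (m k)).obj (E (a k))) ⟶ K n)
        (z : K (n + 1) ⟶ (shiftFunctor D (1 : ℤ)).obj (∐ fun k => (shiftFunctor D (m k)).obj (E (a k)))),
        Triangle.mk y (f n) z ∈ distinguishedTriangles := by
  let G : ι × ℤ → D := fun p => (E p.1)⟦p.2⟧
  have hG : ∀ p, CohDer.IsCompactObject (G p) := fun p => Groth.Agent.Lib.Helper40.Cpt.isCompact_shift (hc p.1) p.2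
  obtain ⟨K, f, t, hft, h0, hstep, P1, P2⟩ := Helper89.Tower.exists_tower G X
  obtain ⟨L, ιL, hL⟩ := Helper89.Tower.exists_hocolim K f
  obtain ⟨τ, hτ⟩ := Helper89.Tower.exists_hocolim_map K f t hft L ιL hL
  have hbij := fun p => Helper89.Tower.hocolim_map_bijective G hG K f t P1 P2 L ιL hL τ hτ p
  haveI : IsIso τ := Helper89.Tower.isIso_of_bijective_on_shifts E hg τ
    (fun i m g => (hbij (i, m)).1 g) (fun i m g' h => (hbij (i, m)).2 g' h)
  refine ⟨K, f, t, ?_, ?_, ?_⟩
  · obtain ⟨c, hc⟩ := hL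
    refine ⟨inv τ ≫ c, isomorphic_distinguished _ hc _ ?_⟩
    refine Triangle.isoMk _ _ (Iso.refl _) (Iso.refl _) (asIso τ).symm ?_ ?_ ?_
    · exact (Category.comp_id _).trans (Category.id_comp _).symm
    · have : Sigma.desc t = Sigma.desc ιL ≫ τ := by
        apply Sigma.hom_ext
        intro n
        rw [Sigma.ι_desc, Sigma.ι_desc_assoc, hτ]
      change Sigma.desc t ≫ inv τ = 𝟙 _ ≫ Sigma.desc ιL
      rw [this, Category.assoc, IsIso.hom_inv_id, Category.comp_id, Category.id_comp]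
    · change (inv τ ≫ c) ≫ (𝟙 _)⟦(1 : ℤ)⟧' = inv τ ≫ c
      rw [CategoryTheory.Functor.map_id, Category.comp_id]
  · obtain ⟨A, k, ⟨e⟩⟩ := h0
    exact ⟨A, fun a => (k a).1, fun a => (k a).2, ⟨e⟩⟩
  · intro n
    obtain ⟨A, k, y, z, hT⟩ := hstep n
    exact ⟨A, fun a => (k a).1, fun a => (k a).2, y, z, hT⟩

end Groth.Agent.S0984
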