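import Groth.Statements.S0989
-- import your own Groth.Agent.* helpers here

set_option autoImplicit false
universe w v u
open CategoryTheory CategoryTheory.Limits
open CohDer

namespace Groth.Agent.S0989


section aux
variable {A : Type u} [Category.{v} A] [Abelian A]

omit [Abelian A] in
theorem prop_of_isZero (P : ObjectProperty A) [P.IsClosedUnderIsomorphisms]
    (h0 : ∃ Z : A, IsZero Z ∧ P Z) (X : A) (hX : IsZero X) : P X := by
  obtain ⟨Z, hZ, hPZ⟩ := h0
  exact P.prop_of_iso (hZ.iso hX) hPZ

theorem prop_of_retract' (P : ObjectProperty A) [P.IsClosedUnderIsomorphisms]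
    (h0 : ∃ Z : A, IsZero Z ∧ P Z)
    (hP : ∀ S : ComposableArrows A 4, S.Exact → P (S.obj 0) → P (S.obj 1) → P (S.obj 3) →
      P (S.obj 4) → P (S.obj 2))
    {X Y : A} (r : Retract X Y) (hY : P Y) : P X := by
  obtain ⟨Z, hZ, hPZ⟩ := h0
  have hw : r.i ≫ (𝟙 Y - r.r ≫ r.i) = 0 := by
    rw [Preadditive.comp_sub, Category.comp_id, ← Category.assoc, r.retract, Category.id_comp,
      sub_self]
  have e1 : (ShortComplex.mk (0 : Z ⟶ Z) (0 : Z ⟶ X) zero_comp).Exact :=
    ShortComplex.exact_of_isZero_X₂ _ hZ
  have e2 : (ShortComplex.mk (0 : Z ⟶ X) r.i zero_comp).Exact := by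
    rw [ShortComplex.exact_iff_mono _ rfl]
    dsimp
    infer_instance
  have e3 : (ShortComplex.mk r.i (𝟙 Y - r.r ≫ r.i) hw).Exact := by
    apply ShortComplex.exact_of_f_is_kernel
    refine KernelFork.IsLimit.ofι _ _ (fun k _ => k ≫ r.r) ?_ ?_
    · intro W k hk
      dsimp at k hk ⊢
      rw [Preadditive.comp_sub, Category.comp_id, sub_eq_zero] at hk
      rw [Category.assoc]
      exact hk.symm
    · intro W k hk m hm
      dsimp at k hk m hm ⊢
      rw [← hm, Category.assoc, r.retract, Category.comp_id]
  have hex : (ComposableArrows.mk₄ (0 : Z ⟶ Z) (0 : Z ⟶ X) r.i (𝟙 Y - r.r ≫ r.i)).Exact :=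
    ComposableArrows.exact_of_δ₀ e1.exact_toComposableArrows
      (ComposableArrows.exact_of_δ₀ e2.exact_toComposableArrows e3.exact_toComposableArrows)
  exact hP _ hex hPZ hPZ hY hY

end aux

/-- Let P be a weak Serre class in an abelian category A: P is closed under isomorphisms, holds for a
zero object, and whenever X₀ → X₁ → X₂ → X₃ → X₄ is exact with P holding for X₀, X₁, X₃, X₄ it holds
for X₂. Then the class of objects of the derived category all of whose cohomology objects satisfy P
is a triangulated subcategory (contains zero, stable under shifts, closed under extensions) which is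
moreover closed under retracts (saturated). -/
theorem result {A : Type u} [Category.{v} A] [Abelian A] [HasDerivedCategory.{w} A]
    (P : ObjectProperty A) [P.IsClosedUnderIsomorphisms] (h0 : ∃ Z : A, IsZero Z ∧ P Z)
    (hP : ∀ S : ComposableArrows A 4, S.Exact → P (S.obj 0) → P (S.obj 1) → P (S.obj 3) → P (S.obj 4) → P (S.obj 2)) :
    ObjectProperty.IsTriangulated (fun X : DerivedCategory A => ∀ n : ℤ, P ((DerivedCategory.homologyFunctor A n).obj X)) ∧
    ObjectProperty.IsStableUnderRetracts (fun X : DerivedCategory A => ∀ n : ℤ, P ((DerivedCategory.homologyFunctor A n).obj X)) := by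
  refine ⟨?_, ?_⟩
  · refine { toContainsZero := ?_, toIsStableUnderShift := ?_, toIsTriangulatedClosed₂ := ?_ }
    · obtain ⟨Z, hZ⟩ := HasZeroObject.zero (C := DerivedCategory A)
      refine ⟨⟨Z, hZ, ?_⟩⟩
      intro n
      apply prop_of_isZero P h0
      exact (DerivedCategory.homologyFunctor A n).map_isZero hZ
    · refine ⟨fun a => ⟨?_⟩⟩
      intro X hX n
      have e : (DerivedCategory.homologyFunctor A n).obj (X⟦a⟧) ≅
          (DerivedCategory.homologyFunctor A (a + n)).obj X :=
        ((DerivedCategory.homologyFunctor A 0).shiftIso a n (a + n) rfl).app X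
      exact P.prop_of_iso e.symm (hX (a + n))
    · refine ⟨fun T hT h₁ h₃ => ?_⟩
      apply ObjectProperty.le_isoClosure
      intro n
      let F := DerivedCategory.homologyFunctor A 0
      have ex1 := F.homologySequence_exact₁ T hT (n - 1) n (by omega)
      have ex2 := F.homologySequence_exact₂ T hT n
      have ex3 := F.homologySequence_exact₃ T hT n (n + 1) rfl
      have hex : (ComposableArrows.mk₄ (F.homologySequenceδ T (n - 1) n (by omega))
          ((F.shift n).map T.mor₁) ((F.shift n).map T.mor₂)
          (F.homologySequenceδ T n (n + 1) rfl)).Exact :=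
        ComposableArrows.exact_of_δ₀ ex1.exact_toComposableArrows
          (ComposableArrows.exact_of_δ₀ ex2.exact_toComposableArrows
            ex3.exact_toComposableArrows)
      exact hP _ hex (h₃ (n - 1)) (h₁ n) (h₃ n) (h₁ (n + 1))
  · refine ⟨fun {X Y} r hY => ?_⟩
    intro n
    exact prop_of_retract' P h0 hP (r.map (DerivedCategory.homologyFunctor A n)) (hY n)

end Groth.Agent.S0989
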