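import Groth.Statements.S10000
import Groth.Agent.Lib.Helper23.CardEmb
import Groth.Agent.Lib.Helper4.EtPt
import Groth.Agent.Lib.Helper37.AlgSpPoints
import Groth.Agent.Lib.Helper36.AlgSpCharts

set_option autoImplicit false
universe u
open CategoryTheory CategoryTheory.Limits AlgebraicGeometry
open AlgSp

namespace Groth.Agent.S10000

open Groth.Agent.Lib.Helper23.CardEmb Groth.Agent.Lib.Helper4
open Groth.Agent.Lib.Helper36.AlgSpCharts Groth.Agent.Lib.Helper37.AlgSpPoints

/-- For a morphism X ⟶ Y of algebraic spaces and an algebraically closed field k over S that is large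
compared with X, X(k) surjects onto |X| ×_{|Y|} Y(k): every pair of a point x of |X| and a k-valued
point of Y with the same image in |Y| comes from a k-valued point of X. (The published statement
measures largeness by a cardinal attached to X that bounds the residue fields of an etale atlas;
this row asks directly that every residue field of one surjective etale chart U of X have
cardinality smaller than that of k, which is how the bound enters the argument.) -/
theorem result {S : Scheme.{u}} {X Y : AlgSp.Space S} (f : X ⟶ Y)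
    {U : Over S} (a : (AlgSp.yon S).obj U ⟶ X.obj) (ha : AlgSp.RepWith @Etale a) (has : AlgSp.RepWith @Surjective a)
    (ybar : AlgSp.FieldPt Y.obj) (hy : ybar.IsGeometric)
    (hk : ∀ u : ↥U.left, Cardinal.mk ↥(U.left.residueField u) < Cardinal.mk ybar.K)
    (x : AlgSp.Points X.obj) (hx : AlgSp.Points.map f.hom x = AlgSp.Points.mk ybar) :
    ∃ xbar : (AlgSp.yon S).obj ybar.pt ⟶ X.obj, xbar ≫ f.hom = ybar.toHom ∧
      AlgSp.Points.ofPt xbar (IsLocalRing.closedPoint ybar.K) = x := by
  classical
  have hY : IsAlgSpace Y.obj := Y.property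
  obtain ⟨V, b, hbe, hbs⟩ := hY.atlas
  obtain ⟨u, rfl⟩ := ofPt_surjective a has x
  have : IsAlgClosed ybar.K := hy
  -- lift ybar to V
  let V' := hbe.1.pullback ybar.toHom
  let snd : V' ⟶ ybar.pt := hbe.1.snd ybar.toHom
  let fst' : V' ⟶ V := hbe.1.fst' ybar.toHom
  have sqV : IsPullback ((yon S).map fst') ((yon S).map snd) b ybar.toHom :=
    hbe.1.isPullback' ybar.toHom
  have het : Etale snd.left := hbe.2 ybar.toHom _ snd sqV
  have hsurj : Surjective snd.left := hbs.2 ybar.toHom _ snd sqV
  obtain ⟨w, -⟩ := hsurj.surj (default : ↥(Spec (CommRingCat.of ybar.K)))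
  obtain ⟨l, hl, -⟩ := EtPt.exists_section_of_etale_surjective ybar hy snd het w
  have hvt : (yon S).map (l ≫ fst') ≫ b = ybar.toHom := by
    rw [Functor.map_comp, Category.assoc, sqV.w, ← Category.assoc, ← Functor.map_comp, hl,
      CategoryTheory.Functor.map_id, Category.id_comp]
  -- the fibre product of the two charts over Y
  obtain ⟨Q, q1, q2, sq⟩ := exists_isPullback_yon (a ≫ f.hom) b hbe.rep
  have hq1 : Etale q1.left := prop_fst_of_isPullback sq hbe
  have hpt : Points.ofPt (a ≫ f.hom) u =
      Points.ofPt b ((l ≫ fst').left (default : ↥(Spec (CommRingCat.of ybar.K)))) := by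
    rw [← Points.map_ofPt, hx, ← ofPt_map_comp (l ≫ fst') b, hvt, Points.ofPt_toHom]
  obtain ⟨q, hq1u, hq2v⟩ := (ofPt_eq_ofPt_iff sq u _).1 hpt
  have hcard : Cardinal.mk ↥(Q.left.residueField q) < Cardinal.mk ybar.K :=
    card_residueField_lt_of_etale q1.left q (by rw [hq1u]; exact hk u)
  obtain ⟨ρ, hρ, hρq⟩ := exists_fac_of_card_lt q2.left (l ≫ fst').left q hq2v hcard
  have hw : ρ ≫ Q.hom = ybar.pt.hom := by
    rw [← Over.w q2, ← Category.assoc, hρ, Over.w (l ≫ fst')]
  have hρ' : Over.homMk ρ hw ≫ q2 = l ≫ fst' := Over.OverMorphism.ext hρ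
  refine ⟨(yon S).map (Over.homMk ρ hw ≫ q1) ≫ a, ?_, ?_⟩
  · rw [Category.assoc, Functor.map_comp, Category.assoc, sq.w, ← Category.assoc,
      ← Functor.map_comp, hρ', hvt]
  · rw [ofPt_map_comp]
    congr 1
    rw [← hq1u, ← hρq]
    have h1 : IsLocalRing.closedPoint ybar.K = (default : ↥(Spec (CommRingCat.of ybar.K))) :=
      Subsingleton.elim _ _
    rw [h1]
    rfl

end Groth.Agent.S10000
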