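import Groth.Statements.S10008
import Groth.Agent.Lib.Helper23.LimAffRep2
import Groth.Agent.Lib.Helper37.AlgSpPoints
import Mathlib.AlgebraicGeometry.AffineTransitionLimit

set_option autoImplicit false
universe u
open CategoryTheory CategoryTheory.Limits AlgebraicGeometry
open AlgSp

namespace Groth.Agent.S10008

open Groth.Agent.Lib.Helper23.LimAffRep Groth.Agent.Lib.Helper37.AlgSpPoints

/-- Let `X` be the limit, in fppf sheaves over `S`, of a cofiltered system `(X_i)` of algebraic spaces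
over `S` whose transition maps are affine. If every `X_i` is quasi-compact and has at least one
point, then `X` has a point. -/
theorem result (S : Scheme.{u}) {I : Type u} [SmallCategory I] [IsCofiltered I]
    (D : I ⥤ AlgSp.Sp S) (hD : ∀ i, AlgSp.IsAlgSpace (D.obj i))
    (hDa : ∀ (i j : I) (φ : i ⟶ j), AlgSp.IsAffineMor (D.map φ))
    (c : Cone D) (hc : IsLimit c)
    (hqc : ∀ i, AlgSp.IsQuasiCompactSp (D.obj i)) (hne : ∀ i, Nonempty (AlgSp.Points (D.obj i))) :
    Nonempty (AlgSp.Points c.pt) := by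
  classical
  obtain ⟨i₀⟩ : Nonempty I := IsCofiltered.nonempty
  obtain ⟨U₀, a₀, ha₀e, ha₀s, hU₀c⟩ := hqc i₀
  have : CompactSpace ↥U₀.left := hU₀c
  let 𝒰 : U₀.left.OpenCover := U₀.left.affineCover.finiteSubcover
  let Z : 𝒰.I₀ → Over S := fun k => Over.mk (𝒰.f k ≫ U₀.hom)
  let ι : ∀ k, Z k ⟶ U₀ := fun k => Over.homMk (𝒰.f k) rfl
  let g : ∀ k, (yon S).obj (Z k) ⟶ D.obj i₀ := fun k => (yon S).map (ι k) ≫ a₀
  have hZ : ∀ k, IsAffine (Z k).left := fun k => inferInstanceAs (IsAffine (Spec _))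
  let K : 𝒰.I₀ → Set (Points (D.obj i₀)) := fun k => Set.range (Points.ofPt (g k))
  let T : Over i₀ → Set (Points (D.obj i₀)) := fun X => Set.range (Points.map (D.map X.hom))
  have hK : ∀ t : Points (D.obj i₀), ∃ k, t ∈ K k := by
    intro t
    obtain ⟨u, rfl⟩ := ofPt_surjective a₀ ha₀s t
    obtain ⟨k, z, hz⟩ := 𝒰.exists_eq u
    refine ⟨k, z, ?_⟩
    change Points.ofPt ((yon S).map (ι k) ≫ a₀) z = _
    rw [ofPt_map_comp]
    exact congrArg _ hz
  have hkey : ∃ k, ∀ X : Over i₀, (K k ∩ T X).Nonempty := by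
    by_contra hcon
    push Not at hcon
    choose Xk hXk using hcon
    obtain ⟨X₁, hX₁⟩ := IsCofiltered.inf_objs_exists (Finset.univ.image Xk)
    obtain ⟨x⟩ := hne X₁.left
    obtain ⟨k, hk⟩ := hK (Points.map (D.map X₁.hom) x)
    obtain ⟨f⟩ := hX₁ (Finset.mem_image_of_mem Xk (Finset.mem_univ k))
    have hT : Points.map (D.map X₁.hom) x ∈ T (Xk k) := by
      refine ⟨Points.map (D.map f.left) x, ?_⟩
      rw [← Points.map_comp, ← D.map_comp, Over.w f]
    exact (Set.not_nonempty_iff_eq_empty.2 (hXk k)) ⟨_, hk, hT⟩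
  obtain ⟨k, hk⟩ := hkey
  obtain ⟨G', c', hG', ⟨hc'⟩, haff, iW, fst, sq⟩ := exists_affine_limit_baseChange D hDa c hc i₀
    (hZ k) (g k) (fun W => Nonempty ↥W.left) (by
      intro X W iW fst sq hW
      obtain ⟨t, ⟨z, hz⟩, ⟨x, hx⟩⟩ := hk X
      obtain ⟨p, -, -⟩ := points_exists_of_isPullback sq.flip (Points.ofScheme (Z k) z) x (by
        rw [← Points.ofPt_eq_map_ofScheme, hx]
        exact hz)
      exact ⟨(Points.schemeHomeo W).symm p⟩)
  haveI : ∀ X, IsAffine ((G' ⋙ Over.forget S).obj X) := fun X => (hG' X).1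
  haveI : ∀ X, Nonempty ↥((G' ⋙ Over.forget S).obj X) := fun X => (hG' X).2
  have hne' : Nonempty ↥((Over.forget S).mapCone c').pt :=
    Scheme.nonempty_of_isLimit (G' ⋙ Over.forget S) _ hc'
  obtain ⟨w⟩ := hne'
  exact ⟨Points.ofPt fst w⟩

end Groth.Agent.S10008
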