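import Groth.Statements.S10009
import Groth.Agent.Lib.Helper23.LimStageChart
import Groth.Agent.Lib.Helper23.LocPLft
import Groth.Agent.Lib.Helper23.AlgSpMor6
import Groth.Agent.Lib.Helper23.ClosedDescent2
import Groth.Agent.Lib.Helper50.LimDesc

set_option autoImplicit false
universe u
open CategoryTheory CategoryTheory.Limits AlgebraicGeometry
open AlgSp

namespace Groth.Agent.S10009

open Groth.Agent.Lib.Helper23.LimStageChart Groth.Agent.Lib.Helper23.LocPLft Groth.Agent.Lib.Helper23.AlgSpMor Groth.Agent.Lib.Helper23.ClosedDescent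

/-- Let `B` be an algebraic space over the scheme `S` and `X` the limit, in fppf sheaves, of a
cofiltered system `(X_i)` of quasi-compact algebraic spaces over `B` whose transition maps are
affine; let `y : Y ⟶ X` be a closed immersion from an algebraic space `Y` whose structure map to `B`
is locally of finite type. Then, for all `i` mapping to some `i₀`, the composite `Y ⟶ X ⟶ X_i` is a
closed immersion. -/
theorem result (S : Scheme.{u}) {I : Type u} [SmallCategory I] [IsCofiltered I]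
    (B : AlgSp.Space S) (D : I ⥤ AlgSp.Sp S) (hD : ∀ i, AlgSp.IsAlgSpace (D.obj i))
    (t : D ⟶ (Functor.const I).obj B.obj)
    (hDa : ∀ (i j : I) (φ : i ⟶ j), AlgSp.IsAffineMor (D.map φ))
    (c : Cone D) (hc : IsLimit c)
    (hqc : ∀ i, AlgSp.IsQuasiCompactSp (D.obj i))
    (Y : AlgSp.Space S) (y : Y.obj ⟶ c.pt) (hy : AlgSp.RepWith @IsClosedImmersion y) (i₁ : I)
    (hYB : AlgSp.LocP @LocallyOfFiniteType (y ≫ c.π.app i₁ ≫ t.app i₁)) :
    ∃ i₀ : I, ∀ (i : I) (_ : i ⟶ i₀), AlgSp.RepWith @IsClosedImmersion (y ≫ c.π.app i) := by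
  obtain ⟨U₁, a₁, hU₁, ha₁e, ha₁s⟩ := exists_affine_chart_of_isQuasiCompactSp (hqc i₁)
  obtain ⟨G', c', fstW, iW, aU, iU, hWaff, haff, ⟨hc'⟩, sqW, sqU, hfst, hsnd⟩ :=
    exists_stage_charts D hDa c hc i₁ hU₁ a₁
  let Z : Over S := hy.rep.pullback aU
  let iZ : Z ⟶ c'.pt := hy.rep.snd aU
  have sqZ : IsPullback (hy.rep.fst aU) ((yon S).map iZ) y aU := hy.rep.isPullback _
  have hiZ : IsClosedImmersion iZ.left := hy.property _ _ _ sqZ
  have sqZ1 : IsPullback (hy.rep.fst aU) ((yon S).map iZ ≫ (yon S).map iU) (y ≫ c.π.app i₁) a₁ :=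
    sqZ.paste_vert sqU
  have hfstZe : RepWith @Etale (hy.rep.fst aU) := MorphismProperty.of_isPullback sqZ1.flip ha₁e
  have hlft : LocallyOfFiniteType (iZ ≫ iU).left := by
    refine lft_of_locP B.property.atlas (y ≫ c.π.app i₁ ≫ t.app i₁) hYB (iZ ≫ iU)
      (hy.rep.fst aU) hfstZe (a₁ ≫ t.app i₁) ?_
    have := sqZ1.w
    rw [Functor.map_comp]
    calc hy.rep.fst aU ≫ y ≫ c.π.app i₁ ≫ t.app i₁
        = (hy.rep.fst aU ≫ y ≫ c.π.app i₁) ≫ t.app i₁ := by simp only [Category.assoc]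
      _ = (((yon S).map iZ ≫ (yon S).map iU) ≫ a₁) ≫ t.app i₁ := by rw [this]
      _ = ((yon S).map iZ ≫ (yon S).map iU) ≫ a₁ ≫ t.app i₁ := by simp only [Category.assoc]
  let D' : Over i₁ ⥤ Scheme.{u} := G' ⋙ Over.forget S
  haveI : ∀ j, IsAffine (D'.obj j) := hWaff
  haveI : ∀ (i j : Over i₁) (f : i ⟶ j), IsAffineHom (D'.map f) := fun i j f => inferInstance
  let j₁ : Over i₁ := Over.mk (𝟙 i₁)
  haveI : CompactSpace ↥(D'.obj j₁) := inferInstance
  obtain ⟨hZ, hhZ⟩ : ∃ hZ : Z.left ⟶ ((Over.forget S).mapCone c').pt, hZ = iZ.left := ⟨_, rfl⟩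
  haveI : IsClosedImmersion hZ := hhZ ▸ hiZ
  haveI : LocallyOfFiniteType (hZ ≫ ((Over.forget S).mapCone c').π.app j₁ ≫ (iW j₁).left) := by
    rw [hhZ]
    have h0 : (iZ ≫ iU).left = iZ.left ≫ (c'.π.app j₁).left ≫ (iW j₁).left := by
      rw [← hsnd j₁]
      rfl
    rw [h0] at hlft
    exact hlft
  obtain ⟨j, f, hj⟩ := Groth.Agent.Lib.Helper50.exists_forall_isClosedImmersion_comp_π D'
    ((Over.forget S).mapCone c') hc' j₁ (iW j₁).left hZ
  rw [hhZ] at hj
  refine ⟨j.left, fun i ψ => ?_⟩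
  let k : Over i₁ := Over.mk (ψ ≫ j.hom)
  let g : k ⟶ j := Over.homMk ψ rfl
  have hk : IsClosedImmersion (iZ ≫ c'.π.app k).left := hj k g
  have sqbig : IsPullback aU ((yon S).map (c'.π.app k) ≫ (yon S).map (iW k))
      (c.π.app i ≫ D.map k.hom) a₁ := by
    have h1 : (yon S).map (c'.π.app k) ≫ (yon S).map (iW k) = (yon S).map iU := by
      rw [← Functor.map_comp, hsnd k]
    have h2 : c.π.app i ≫ D.map k.hom = c.π.app i₁ := c.w k.hom
    rw [h1, h2]
    exact sqU
  have sqk : IsPullback aU ((yon S).map (c'.π.app k)) (c.π.app i) (fstW k) :=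
    IsPullback.of_bot sqbig (hfst k).symm (sqW k)
  have sqZk : IsPullback (hy.rep.fst aU) ((yon S).map iZ ≫ (yon S).map (c'.π.app k))
      (y ≫ c.π.app i) (fstW k) := sqZ.paste_vert sqk
  have hfstWe : RepWith @Etale (fstW k) := MorphismProperty.of_isPullback (sqW k).flip ha₁e
  have hfstWs : RepWith @Surjective (fstW k) := MorphismProperty.of_isPullback (sqW k).flip ha₁s
  refine repWith_isClosedImmersion_of_etale_cover (y ≫ c.π.app i) (fstW k) hfstWe hfstWs sqZk ?_
  rw [← Functor.map_comp]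
  exact (repWith_yon_map_iff _ _).2 hk

end Groth.Agent.S10009
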