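import Groth.Statements.S10010
import Groth.Agent.Lib.Helper23.LimStageChart
import Groth.Agent.Lib.Helper23.LocPLft
import Groth.Agent.Lib.Helper23.LimImm
import Groth.Agent.Lib.Helper23.ImmOpenChart
import Groth.Agent.Lib.Helper23.ChartCovering
import Groth.Agent.Lib.Helper23.AlgSpQc2
import Groth.Agent.Lib.Helper23.AlgSpMor7

set_option autoImplicit false
universe u
open CategoryTheory CategoryTheory.Limits AlgebraicGeometry
open AlgSp

namespace Groth.Agent.S10010

open Groth.Agent.Lib.Helper23.LimStageChart Groth.Agent.Lib.Helper23.LocPLft Groth.Agent.Lib.Helper23.AlgSpMor Groth.Agent.Lib.Helper23.ImmOpenChart Groth.Agent.Lib.Helper23.ChartCovering Groth.Agent.Lib.Helper37.AlgSpPoints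

/-- Let `S` be a quasi-separated scheme, `B` an algebraic space over `S`, and `X` the limit, in fppf
sheaves, of a cofiltered system `(X_i)` of algebraic spaces over `B`, each quasi-separated over `S`,
whose transition maps are affine; let `y : Y ⟶ X` be an immersion from a quasi-compact algebraic
space `Y` whose structure map to `B` is locally of finite type. Then, for all `i` mapping to some
`i₀`, the composite `Y ⟶ X ⟶ X_i` is an immersion. (The published statement allows any base scheme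
and uses absolute quasi-separatedness; this row assumes the base quasi-separated, over which
quasi-separatedness relative to the base is the absolute notion.) -/
theorem result (S : Scheme.{u}) [QuasiSeparatedSpace S] {I : Type u} [SmallCategory I] [IsCofiltered I]
    (B : AlgSp.Space S) (D : I ⥤ AlgSp.Sp S) (hD : ∀ i, AlgSp.IsAlgSpace (D.obj i))
    (t : D ⟶ (Functor.const I).obj B.obj)
    (hDa : ∀ (i j : I) (φ : i ⟶ j), AlgSp.IsAffineMor (D.map φ))
    (c : Cone D) (hc : IsLimit c)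
    (hqs : ∀ i, AlgSp.IsQuasiSeparatedSp (D.obj i))
    (Y : AlgSp.Space S) (hYqc : AlgSp.IsQuasiCompactSp Y.obj) (y : Y.obj ⟶ c.pt) (hy : AlgSp.RepWith @IsImmersion y) (i₁ : I)
    (hYB : AlgSp.LocP @LocallyOfFiniteType (y ≫ c.π.app i₁ ≫ t.app i₁)) :
    ∃ i₀ : I, ∀ (i : I) (_ : i ⟶ i₀), AlgSp.RepWith @IsImmersion (y ≫ c.π.app i) := by
  obtain ⟨U₁, a₁, hU₁, ha₁e, hrange₁⟩ :=
    exists_affine_chart_covering (hD i₁) hYqc (y ≫ c.π.app i₁)
  obtain ⟨G', c', fstW, iW, aU, iU, hWaff, haff, ⟨hc'⟩, sqW, sqU, hfst, hsnd⟩ :=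
    exists_stage_charts D hDa c hc i₁ hU₁ a₁
  let Z : Over S := hy.rep.pullback aU
  let iZ : Z ⟶ c'.pt := hy.rep.snd aU
  have sqZ : IsPullback (hy.rep.fst aU) ((yon S).map iZ) y aU := hy.rep.isPullback _
  have hiZ : IsImmersion iZ.left := hy.property _ _ _ sqZ
  have sqZ1 : IsPullback (hy.rep.fst aU) ((yon S).map iZ ≫ (yon S).map iU) (y ≫ c.π.app i₁) a₁ :=
    sqZ.paste_vert sqU
  have hfstZe : RepWith @Etale (hy.rep.fst aU) := MorphismProperty.of_isPullback sqZ1.flip ha₁e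
  have hlft : LocallyOfFiniteType (iZ ≫ iU).left := by
    refine lft_of_locP B.property.atlas (y ≫ c.π.app i₁ ≫ t.app i₁) hYB (iZ ≫ iU)
      (hy.rep.fst aU) hfstZe (a₁ ≫ t.app i₁) ?_
    have := sqZ1.w
    rw [Functor.map_comp]
    calc hy.rep.fst aU ≫ y ≫ c.π.app i₁ ≫ t.app i₁
        = (hy.rep.fst aU ≫ y ≫ c.π.app i₁) ≫ t.app i₁ := by simp only [Category.assoc]
      _ = (((yon S).map iZ ≫ (yon S).map iU) ≫ a₁) ≫ t.app i₁ := by rw [this]
      _ = ((yon S).map iZ ≫ (yon S).map iU) ≫ a₁ ≫ t.app i₁ := by simp only [Category.assoc]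
  haveI : IsAffine U₁.left := hU₁
  have hqcm : IsQuasiCompactMor a₁ :=
    isQuasiCompactMor_of_isQuasiCompactSp_of_isQuasiSeparatedSp (IsAlgSpace.yon_obj U₁) a₁
      (isQuasiCompactSp_yon U₁) (hqs i₁)
  have hZqc : IsQuasiCompactSp ((yon S).obj Z) :=
    hqcm Y.property hYqc (y ≫ c.π.app i₁) _ _ sqZ1.flip
  haveI : CompactSpace ↥Z.left := compactSpace_of_isQuasiCompactSp_yon Z hZqc
  let D' : Over i₁ ⥤ Scheme.{u} := G' ⋙ Over.forget S
  haveI : ∀ j, IsAffine (D'.obj j) := hWaff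
  haveI : ∀ (i j : Over i₁) (f : i ⟶ j), IsAffineHom (D'.map f) := fun i j f => inferInstance
  let j₁ : Over i₁ := Over.mk (𝟙 i₁)
  haveI : CompactSpace ↥(D'.obj j₁) := inferInstance
  obtain ⟨hZ, hhZ⟩ : ∃ hZ : Z.left ⟶ ((Over.forget S).mapCone c').pt, hZ = iZ.left := ⟨_, rfl⟩
  haveI : IsImmersion hZ := hhZ ▸ hiZ
  haveI : LocallyOfFiniteType (hZ ≫ ((Over.forget S).mapCone c').π.app j₁ ≫ (iW j₁).left) := by
    rw [hhZ]
    have h0 : (iZ ≫ iU).left = iZ.left ≫ (c'.π.app j₁).left ≫ (iW j₁).left := by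
      rw [← hsnd j₁]
      rfl
    rw [h0] at hlft
    exact hlft
  obtain ⟨j, f, hj⟩ := Groth.Agent.Lib.Helper23.LimImm.exists_forall_isImmersion_comp_π D'
    ((Over.forget S).mapCone c') hc' j₁ (iW j₁).left hZ
  rw [hhZ] at hj
  refine ⟨j.left, fun i ψ => ?_⟩
  let k : Over i₁ := Over.mk (ψ ≫ j.hom)
  let g : k ⟶ j := Over.homMk ψ rfl
  have hk : IsImmersion (iZ ≫ c'.π.app k).left := hj k g
  have sqbig : IsPullback aU ((yon S).map (c'.π.app k) ≫ (yon S).map (iW k))
      (c.π.app i ≫ D.map k.hom) a₁ := by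
    have h1 : (yon S).map (c'.π.app k) ≫ (yon S).map (iW k) = (yon S).map iU := by
      rw [← Functor.map_comp, hsnd k]
    have h2 : c.π.app i ≫ D.map k.hom = c.π.app i₁ := c.w k.hom
    rw [h1, h2]
    exact sqU
  have sqk : IsPullback aU ((yon S).map (c'.π.app k)) (c.π.app i) (fstW k) :=
    IsPullback.of_bot sqbig (hfst k).symm (sqW k)
  have sqZk : IsPullback (hy.rep.fst aU) ((yon S).map iZ ≫ (yon S).map (c'.π.app k))
      (y ≫ c.π.app i) (fstW k) := sqZ.paste_vert sqk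
  have hfstWe : RepWith @Etale (fstW k) := MorphismProperty.of_isPullback (sqW k).flip ha₁e
  refine repWith_isImmersion_of_etale_chart (y ≫ c.π.app i) (fstW k) hfstWe sqZk ?_ ?_
  · rw [← Functor.map_comp]
    exact (repWith_yon_map_iff _ _).2 hk
  · rintro _ ⟨x, rfl⟩
    have h1 : Points.map (D.map k.hom) (Points.map (y ≫ c.π.app i) x) =
        Points.map (y ≫ c.π.app i₁) x := by
      rw [← Points.map_comp, Category.assoc]
      have h2 : c.π.app i ≫ D.map k.hom = c.π.app i₁ := c.w k.hom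
      rw [h2]
    obtain ⟨u₁, hu₁⟩ := hrange₁ ⟨x, rfl⟩
    have h3 : Points.map (D.map k.hom) (Points.map (y ≫ c.π.app i) x) =
        Points.map a₁ (Points.ofScheme U₁ u₁) := by
      rw [h1, ← hu₁, Points.ofPt_eq_map_ofScheme]
    obtain ⟨w, hw1, hw2⟩ := points_exists_of_isPullback (sqW k)
      (Points.map (y ≫ c.π.app i) x) (Points.ofScheme U₁ u₁) h3
    exact range_map_yon_subset (fstW k) ⟨w, hw1⟩

end Groth.Agent.S10010
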