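import Groth.Statements.S10011
import Groth.Agent.Lib.Helper23.LimStageChart2
import Groth.Agent.Lib.Helper23.LocPLfp
import Groth.Agent.Lib.Helper23.LimIsoClosed
import Groth.Agent.Lib.Helper23.AlgSpMor6
import Groth.Agent.Lib.Helper23.AlgSpCancel
import Groth.Agent.Lib.Helper79.AlgSpAffine

set_option autoImplicit false
universe u
open CategoryTheory CategoryTheory.Limits AlgebraicGeometry
open AlgSp

namespace Groth.Agent.S10011

open Groth.Agent.Lib.Helper23.LimStageChart2 Groth.Agent.Lib.Helper23.LocPLfp Groth.Agent.Lib.Helper23.AlgSpMor Groth.Agent.Lib.Helper23.LimIsoClosed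

/-- Let `B` be an algebraic space over `S` and `X` the limit in fppf sheaves of a cofiltered system
`(X_i)` of quasi-compact algebraic spaces over `B`, each locally of finite type over `B`, whose
transition morphisms are closed immersions. If `X ⟶ B` is locally of finite presentation, then the
projection `X ⟶ X_i` is an isomorphism for all `i` mapping to some `i₀`. -/
theorem result (S : Scheme.{u}) {I : Type u} [SmallCategory I] [IsCofiltered I]
    (B : AlgSp.Space S) (D : I ⥤ AlgSp.Sp S) (hD : ∀ i, AlgSp.IsAlgSpace (D.obj i))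
    (t : D ⟶ (Functor.const I).obj B.obj)
    (hDc : ∀ (i j : I) (φ : i ⟶ j), AlgSp.RepWith @IsClosedImmersion (D.map φ))
    (c : Cone D) (hc : IsLimit c)
    (hqc : ∀ i, AlgSp.IsQuasiCompactSp (D.obj i)) (hft : ∀ i, AlgSp.LocP @LocallyOfFiniteType (t.app i)) (i₁ : I)
    (hX : AlgSp.LocP @LocallyOfFinitePresentation (c.π.app i₁ ≫ t.app i₁)) :
    ∃ i₀ : I, ∀ (i : I) (_ : i ⟶ i₀), IsIso (c.π.app i) := by
  have hDa : ∀ (i j : I) (φ : i ⟶ j), IsAffineMor (D.map φ) := fun i j φ =>
    Groth.Agent.Lib.Helper79.AlgSpAffine.isAffineMor_of_repWith_isClosedImmersion (hDc i j φ)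
  obtain ⟨U₁, a₁, hU₁, ha₁e, ha₁s⟩ := exists_affine_chart_of_isQuasiCompactSp (hqc i₁)
  obtain ⟨G', c', fstW, iW, aU, iU, hWaff, haff, ⟨hc'⟩, sqW, sqU, hfst, hsnd, hnatW, -⟩ :=
    exists_stage_charts_nat D hDa c hc i₁ hU₁ a₁
  have haUe : RepWith @Etale aU := MorphismProperty.of_isPullback sqU.flip ha₁e
  have hlfp : LocallyOfFinitePresentation iU.left :=
    lfp_of_locP B.property.atlas (c.π.app i₁ ≫ t.app i₁) hX (t.app i₁) (hft i₁) iU aU haUe a₁ ha₁e
      (by rw [← Category.assoc, sqU.w, Category.assoc])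
  have hiWcl : ∀ j, IsClosedImmersion (iW j).left := fun j =>
    (hDc _ _ j.hom).property _ _ _ (sqW j)
  let D' : Over i₁ ⥤ Scheme.{u} := G' ⋙ Over.forget S
  haveI : ∀ j, IsAffine (D'.obj j) := hWaff
  haveI : ∀ (i j : Over i₁) (f : i ⟶ j), IsClosedImmersion (D'.map f) := by
    intro i j f
    have h1 : (G'.map f).left ≫ (iW j).left = (iW i).left :=
      congrArg CommaMorphism.left (hnatW i j f)
    haveI := hiWcl j
    haveI : IsClosedImmersion ((G'.map f).left ≫ (iW j).left) := by
      rw [h1]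
      exact hiWcl i
    exact IsClosedImmersion.of_comp (G'.map f).left (iW j).left
  let j₁ : Over i₁ := Over.mk (𝟙 i₁)
  haveI : LocallyOfFinitePresentation (((Over.forget S).mapCone c').π.app j₁) := by
    have h1 : (c'.π.app j₁).left ≫ (iW j₁).left = iU.left :=
      congrArg CommaMorphism.left (hsnd j₁)
    haveI : LocallyOfFinitePresentation ((c'.π.app j₁).left ≫ (iW j₁).left) := by
      rw [h1]
      exact hlfp
    haveI := hiWcl j₁
    exact Groth.Agent.Lib.Helper50.locallyOfFinitePresentation_of_comp (c'.π.app j₁).left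
      (iW j₁).left
  obtain ⟨j, f, hj⟩ := exists_forall_isIso_π D' ((Over.forget S).mapCone c') hc' j₁
  refine ⟨j.left, fun i ψ => ?_⟩
  let k : Over i₁ := Over.mk (ψ ≫ j.hom)
  let g : k ⟶ j := Over.homMk ψ rfl
  have hk : IsIso (c'.π.app k).left := hj k g
  have hk' : IsIso (c'.π.app k) := by
    have : IsIso ((Over.forget S).map (c'.π.app k)) := hk
    exact isIso_of_reflects_iso (c'.π.app k) (Over.forget S)
  have sqbig : IsPullback aU ((yon S).map (c'.π.app k) ≫ (yon S).map (iW k))
      (c.π.app i ≫ D.map k.hom) a₁ := by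
    have h1 : (yon S).map (c'.π.app k) ≫ (yon S).map (iW k) = (yon S).map iU := by
      rw [← Functor.map_comp, hsnd k]
    have h2 : c.π.app i ≫ D.map k.hom = c.π.app i₁ := c.w k.hom
    rw [h1, h2]
    exact sqU
  have sqk : IsPullback aU ((yon S).map (c'.π.app k)) (c.π.app i) (fstW k) :=
    IsPullback.of_bot sqbig (hfst k).symm (sqW k)
  have hfstWe : RepWith @Etale (fstW k) := MorphismProperty.of_isPullback (sqW k).flip ha₁e
  have hfstWs : RepWith @Surjective (fstW k) := MorphismProperty.of_isPullback (sqW k).flip ha₁s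
  haveI : IsIso ((yon S).map (c'.π.app k)) := inferInstance
  exact isIso_of_etale_cover (c.π.app i) (fstW k) hfstWe hfstWs sqk

end Groth.Agent.S10011
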