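import Groth.Statements.S10012
import Groth.Agent.Lib.Helper23.LimPull
import Groth.Agent.Lib.Helper23.LocPLft
import Groth.Agent.Lib.Helper23.AlgSpDiag5
import Groth.Agent.Lib.Helper23.AlgSpQc2
import Groth.Agent.Lib.Helper30.EtLocalInst
import Groth.Agent.Lib.Helper46.LocPChart
import Groth.Agent.S10011
import Mathlib.CategoryTheory.Limits.Connected
import Mathlib.CategoryTheory.Filtered.Connected

set_option autoImplicit false
set_option backward.isDefEq.respectTransparency false
universe u
open CategoryTheory CategoryTheory.Limits AlgebraicGeometry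
open AlgSp

namespace Groth.Agent.S10012

open Groth.Agent.Lib.Helper23.AlgSpMor Groth.Agent.Lib.Helper46.LocPChart Groth.Agent.Lib.Helper46
  Groth.Agent.Lib.Helper30.EtLocalInst Groth.Agent.Lib.Helper23.LimPull
  Groth.Agent.Lib.Helper23.LocPLft Groth.Agent.Lib.Helper36.AlgSpCharts

set_option backward.isDefEq.respectTransparency false in
theorem isSeparatedMor_of_isAffineMor {S : Scheme.{u}} {X Y : AlgSp.Sp S} (hX : AlgSp.IsAlgSpace X)
    (f : X ⟶ Y) (hf : AlgSp.IsAffineMor f) : AlgSp.IsSeparatedMor f := by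
  rw [(separation_iff_affine_base_change hX f).1]
  intro Z hZ g P fst snd sq
  obtain ⟨W, i, fstW, sqW, hW⟩ := hf hZ g
  have he : (sq.isoIsPullback _ _ sqW).hom ≫ (AlgSp.yon S).map i = snd :=
    IsPullback.isoIsPullback_hom_snd _ _ sq sqW
  rw [← he]
  haveI : IsAffine W.left := hW
  haveI : IsAffine Z.left := hZ
  have h1 : AlgSp.IsSeparatedMor ((AlgSp.yon S).map i) :=
    (AlgSp.isSeparatedMor_yon_map_iff i).2 inferInstance
  exact (MorphismProperty.cancel_left_of_respectsIso
    (P := (AlgSp.RepWith (S := S) @IsClosedImmersion).diagonal) (sq.isoIsPullback _ _ sqW).hom _).2 h1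

set_option backward.isDefEq.respectTransparency false in
theorem trans_closed {S : Scheme.{u}} {Yy Xi Xj : AlgSp.Sp S} (a : Yy ⟶ Xi) (φ' : Xi ⟶ Xj)
    (b : Yy ⟶ Xj) (h : a ≫ φ' = b) (hsep : AlgSp.IsSeparatedMor φ')
    (m : pullback a a ⟶ pullback b b) (hm1 : m ≫ pullback.fst b b = pullback.fst a a)
    (hm2 : m ≫ pullback.snd b b = pullback.snd a a) : AlgSp.RepWith @IsClosedImmersion m := by
  subst h
  have hpb := pullback_map_diagonal_isPullback a a φ'
  have hm : m = pullback.map a a (a ≫ φ') (a ≫ φ') (𝟙 _) (𝟙 _) φ' (Category.id_comp _).symm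
      (Category.id_comp _).symm := by
    apply pullback.hom_ext
    · rw [hm1, pullback.lift_fst, Category.comp_id]
    · rw [hm2, pullback.lift_snd, Category.comp_id]
  rw [hm]
  exact MorphismProperty.of_isPullback hpb hsep

theorem locP_lfp_of_isIso {S : Scheme.{u}} {X Y : AlgSp.Sp S} (f : X ⟶ Y) [IsIso f] :
    AlgSp.LocP @LocallyOfFinitePresentation f := by
  intro U V a b h ha hb comm
  have h1 : AlgSp.RepWith @Etale (a ≫ f) :=
    ((AlgSp.RepWith @Etale).cancel_right_of_respectsIso a f).2 ha
  haveI : Etale h.left := etale_of_comp_eq (a ≫ f) b h h1 hb comm.symm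
  infer_instance

/-- Let `S` be a quasi-separated scheme, `B` an algebraic space over `S`, and `X` the limit, in fppf
sheaves, of a cofiltered system `(X_i)` of algebraic spaces over `B`, each quasi-separated over `S`,
whose transition maps are affine; let `y : Y ⟶ X` be a monomorphism from a quasi-compact algebraic
space `Y` whose structure map to `B` is locally of finite type. Then, for all `i` mapping to some
`i₀`, the composite `Y ⟶ X ⟶ X_i` is a monomorphism. (The published statement allows any base scheme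
and uses absolute quasi-separatedness; this row assumes the base quasi-separated, over which
quasi-separatedness relative to the base is the absolute notion.) -/
theorem result (S : Scheme.{u}) [QuasiSeparatedSpace S] {I : Type u} [SmallCategory I] [IsCofiltered I]
    (B : AlgSp.Space S) (D : I ⥤ AlgSp.Sp S) (hD : ∀ i, AlgSp.IsAlgSpace (D.obj i))
    (t : D ⟶ (Functor.const I).obj B.obj)
    (hDa : ∀ (i j : I) (φ : i ⟶ j), AlgSp.IsAffineMor (D.map φ))
    (c : Cone D) (hc : IsLimit c)
    (hqs : ∀ i, AlgSp.IsQuasiSeparatedSp (D.obj i))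
    (Y : AlgSp.Space S) (hYqc : AlgSp.IsQuasiCompactSp Y.obj) (y : Y.obj ⟶ c.pt) [Mono y] (i₁ : I)
    (hYB : AlgSp.LocP @LocallyOfFiniteType (y ≫ c.π.app i₁ ≫ t.app i₁)) :
    ∃ i₀ : I, ∀ (i : I) (_ : i ⟶ i₀), Mono (y ≫ c.π.app i) := by
  let DX : I ⥤ AlgSp.Sp S := (Functor.const I).obj Y.obj
  let τ : DX ⟶ D :=
    { app := fun i => y ≫ c.π.app i
      naturality := by
        intro i j φ
        change 𝟙 _ ≫ (y ≫ c.π.app j) = (y ≫ c.π.app i) ≫ D.map φ
        rw [Category.id_comp, Category.assoc, c.w] }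
  let cX : Cone DX := constCone I Y.obj
  have hconn : IsConnected I := IsCofiltered.isConnected I
  have hcX : IsLimit cX := isLimitConstCone I Y.obj
  have hg : ∀ i, y ≫ c.π.app i = cX.π.app i ≫ τ.app i := fun i => (Category.id_comp _).symm
  obtain ⟨hlim⟩ := isLimitPullCone τ cX hcX c y hg y hc
  let t' : pullDiag τ c y ⟶ (Functor.const I).obj Y.obj :=
    { app := fun i => psnd τ c y i
      naturality := by
        intro i j φ
        change (pullDiag τ c y).map φ ≫ psnd τ c y j = psnd τ c y i ≫ 𝟙 _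
        rw [Category.comp_id, map_psnd] }
  have hZ : ∀ i, AlgSp.IsAlgSpace ((pullDiag τ c y).obj i) := fun i =>
    isAlgSpace_of_isPullback Y.property Y.property (hD i).diag
      (IsPullback.of_hasPullback (y ≫ c.π.app i) (y ≫ c.π.app i))
  have hDc : ∀ (i j : I) (φ : i ⟶ j), AlgSp.RepWith @IsClosedImmersion ((pullDiag τ c y).map φ) :=
    fun i j φ => trans_closed (y ≫ c.π.app i) (D.map φ) (y ≫ c.π.app j)
      (by rw [Category.assoc, c.w]) (isSeparatedMor_of_isAffineMor (hD i) _ (hDa i j φ))
      ((pullDiag τ c y).map φ) ((map_pfst τ c y φ).trans (Category.comp_id _)) (map_psnd τ c y φ)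
  have hqcZ : ∀ i, AlgSp.IsQuasiCompactSp ((pullDiag τ c y).obj i) := fun i =>
    (isQuasiCompactMor_of_isQuasiCompactSp_of_isQuasiSeparatedSp Y.property (y ≫ c.π.app i) hYqc
      (hqs i)) Y.property hYqc (y ≫ c.π.app i) _ _
      (IsPullback.of_hasPullback (y ≫ c.π.app i) (y ≫ c.π.app i))
  have hπt : ∀ i, c.π.app i ≫ t.app i = c.π.app i₁ ≫ t.app i₁ := by
    have key : ∀ {a b : I} (φ : a ⟶ b), c.π.app a ≫ t.app a = c.π.app b ≫ t.app b := by
      intro a b φ
      have h1 := t.naturality φ
      have h2 : D.map φ ≫ t.app b = t.app a := by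
        rw [h1]; exact Category.comp_id _
      rw [← h2, ← Category.assoc, c.w]
    intro i
    rw [← key (IsCofiltered.minToLeft i i₁), ← key (IsCofiltered.minToRight i i₁)]
  have hlftY : ∀ i, AlgSp.LocP @LocallyOfFiniteType (y ≫ c.π.app i) := by
    intro i U V a b h ha hb comm
    refine lft_of_locP B.property.atlas (y ≫ c.π.app i₁ ≫ t.app i₁) hYB h a ha (b ≫ t.app i) ?_
    rw [← hπt i, ← Category.assoc, ← Category.assoc, ← Category.assoc, ← comm]
    simp only [Category.assoc]
  have hftZ : ∀ i, AlgSp.LocP @LocallyOfFiniteType (t'.app i) := fun i =>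
    locP_of_isPullback etLocal_lft Y.property (hD i) (hZ i) Y.property
      (IsPullback.of_hasPullback (y ≫ c.π.app i) (y ≫ c.π.app i)) (hlftY i)
  have hsndiso : IsIso (pullback.snd y y) := inferInstance
  have hXl : AlgSp.LocP @LocallyOfFinitePresentation
      ((pullCone τ cX c y hg y).π.app i₁ ≫ t'.app i₁) := by
    have e : (pullCone τ cX c y hg y).π.app i₁ ≫ t'.app i₁ = pullback.snd y y :=
      pullCone_psnd τ cX c y hg y i₁
    rw [e]
    exact locP_lfp_of_isIso _
  obtain ⟨i₀, hi₀⟩ := Groth.Agent.S10011.result S Y (pullDiag τ c y) hZ t' hDc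
    (pullCone τ cX c y hg y) hlim hqcZ hftZ i₁ hXl
  refine ⟨i₀, fun i ψ => ?_⟩
  haveI := hi₀ i ψ
  have hdiag : pullback.diagonal (y ≫ c.π.app i) =
      pullback.diagonal y ≫ (pullCone τ cX c y hg y).π.app i := by
    apply pullback.hom_ext
    · rw [pullback.diagonal_fst, Category.assoc]
      have := pullCone_pfst τ cX c y hg y i
      change _ = pullback.diagonal y ≫ ((pullCone τ cX c y hg y).π.app i ≫ pfst τ c y i)
      rw [this]
      change _ = pullback.diagonal y ≫ (pullback.fst y y ≫ 𝟙 _)
      rw [Category.comp_id, pullback.diagonal_fst]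
    · rw [pullback.diagonal_snd, Category.assoc]
      have := pullCone_psnd τ cX c y hg y i
      change _ = pullback.diagonal y ≫ ((pullCone τ cX c y hg y).π.app i ≫ psnd τ c y i)
      rw [this]
      change _ = pullback.diagonal y ≫ pullback.snd y y
      rw [pullback.diagonal_snd]
  have hiso : IsIso (pullback.diagonal (y ≫ c.π.app i)) := by
    rw [hdiag]
    infer_instance
  exact (pullback.isIso_diagonal_iff _).1 hiso

end Groth.Agent.S10012
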