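import Groth.Statements.S10018
import Groth.Agent.Lib.Helper23.LimDescFin
import Groth.Agent.Lib.Helper23.LimDescQT
import Groth.Agent.Lib.Helper23.LimDescIso
import Groth.Agent.Lib.Helper23.LimSpace
import Groth.Agent.Lib.Helper23.AlgSpDiag3
import Groth.Agent.Lib.Helper23.AlgSpProper2
import Groth.Agent.Lib.Helper79.AlgSpAffine
import Groth.Agent.Lib.Helper30.EtLocalInst
import Groth.Agent.S10020
import Groth.Agent.S10260
import Groth.Agent.S9194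
import Groth.Agent.S10267

set_option autoImplicit false
universe u
open CategoryTheory CategoryTheory.Limits AlgebraicGeometry
open AlgSp

namespace Groth.Agent.S10018

open Groth.Agent.Lib.Helper23.AlgSpMor Groth.Agent.Lib.Helper46.LocPChart Groth.Agent.Lib.Helper46
  Groth.Agent.Lib.Helper30.EtLocalInst Groth.Agent.Lib.Helper23.LimDescFin
  Groth.Agent.Lib.Helper79.AlgSpAffine Groth.Agent.Lib.Helper36.AlgSpCharts
  Groth.Agent.Lib.Helper23.LimDescIso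

theorem rebase {C : Type*} [Category C] {X₀ Y₀ B₀ B₁ Y₁ X₁ Bi Yi Xi : C} {f₀ : X₀ ⟶ Y₀}
    {b₀ : Y₀ ⟶ B₀} {m₁ : B₁ ⟶ B₀} {pY₁ : Y₁ ⟶ Y₀} {b₁ : Y₁ ⟶ B₁}
    (sqY₁ : IsPullback pY₁ b₁ b₀ m₁) {pX₁ : X₁ ⟶ X₀} {f₁ : X₁ ⟶ Y₁}
    (sqX₁ : IsPullback pX₁ f₁ f₀ pY₁) {m : Bi ⟶ B₁} {pYi : Yi ⟶ Y₀} {qYi : Yi ⟶ Bi}
    (sq1 : IsPullback pYi qYi b₀ (m ≫ m₁)) {pXi : Xi ⟶ X₀} {fi : Xi ⟶ Yi}
    (sq2 : IsPullback pXi fi f₀ pYi) :
    ∃ (t : Yi ⟶ Y₁) (s : Xi ⟶ X₁), IsPullback t qYi b₁ m ∧ IsPullback s fi f₁ t := by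
  obtain ⟨t, et, et2⟩ := sqY₁.exists_lift pYi (qYi ≫ m) (by rw [sq1.w, Category.assoc])
  obtain ⟨s, es, es2⟩ := sqX₁.exists_lift pXi (fi ≫ t) (by rw [sq2.w, Category.assoc, et])
  refine ⟨t, s, ?_, ?_⟩
  · refine IsPullback.of_right ?_ et2 sqY₁
    rw [et]; exact sq1
  · refine IsPullback.of_right ?_ es2 sqX₁
    rw [es, et]; exact sq2

set_option backward.isDefEq.respectTransparency false in
theorem locP_of_repWith' {S : Scheme.{u}} {P Q : MorphismProperty Scheme.{u}} (hQ : EtLocal Q)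
    (hPQ : ∀ ⦃A B : Scheme.{u}⦄ (g : A ⟶ B), P g → Q g) {X Y : AlgSp.Sp S} (f : X ⟶ Y)
    (hf : AlgSp.RepWith P f) : AlgSp.LocP Q f := by
  intro U V a b h ha hb comm
  have sq := hf.rep.isPullback b
  have hQs : Q (hf.rep.snd b).left := hPQ _ (hf.property b _ _ sq)
  obtain ⟨k', hk1, hk2⟩ := sq.exists_lift a ((AlgSp.yon S).map h) comm
  obtain ⟨k, rfl⟩ := (AlgSp.yon S).map_surjective k'
  have hfst'e : AlgSp.RepWith @Etale (hf.rep.fst b) := MorphismProperty.of_isPullback sq.flip hb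
  have hk : Etale k.left := etale_of_comp_eq a (hf.rep.fst b) k ha hfst'e hk1
  have e : h = k ≫ hf.rep.snd b := (AlgSp.yon S).map_injective (by
    rw [Functor.map_comp]; exact hk2.symm)
  rw [e, Over.comp_left]
  exact hQ.precomp _ _ hk hQs

theorem bcStable_sep {S : Scheme.{u}} : BCStable (S := S) AlgSp.IsSeparatedMor := by
  intro A B A' B' hA hB hA' hB' f g fst f' sq hf
  exact isSeparatedMor_of_isPullback sq hf

theorem bcStable_locP {S : Scheme.{u}} {Q : MorphismProperty Scheme.{u}} (hQ : EtLocal Q) :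
    BCStable (S := S) (AlgSp.LocP Q) := by
  intro A B A' B' hA hB hA' hB' f g fst f' sq hf
  exact locP_of_isPullback hQ hA hB hA' hB' sq hf

/-- Let `S` be a quasi-separated scheme and `B` the limit, in fppf sheaves over `S`, of a cofiltered
system `(B_i)` of algebraic spaces over `S` whose transition maps are affine; fix an index `i₀` such
that `B_{i₀}` is quasi-compact and quasi-separated over `S`, and a morphism `f₀ : X₀ ⟶ Y₀` of
algebraic spaces over `B_{i₀}` whose source and target are quasi-compact and quasi-separated over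
`S`. Write `f_i` (for `i` mapping to `i₀`) and `f` for the base changes of `f₀` to `B_i` and to `B`,
given by pullback squares. If `f` is finite and `f₀` locally of finite type, then for some `i`
mapping to `i₀` every such base change `f_i` is finite. (The published statement allows any base
scheme and uses absolute quasi-separatedness; this row assumes the base quasi-separated, over which
quasi-separatedness relative to the base is the absolute notion.) -/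
theorem result (S : Scheme.{u}) [QuasiSeparatedSpace S] {I : Type u} [SmallCategory I] [IsCofiltered I]
    (D : I ⥤ AlgSp.Sp S) (hD : ∀ i, AlgSp.IsAlgSpace (D.obj i))
    (hDa : ∀ (i j : I) (φ : i ⟶ j), AlgSp.IsAffineMor (D.map φ))
    (c : Cone D) (hc : IsLimit c) (i₀ : I)
    (hBqc : AlgSp.IsQuasiCompactSp (D.obj i₀)) (hBqs : AlgSp.IsQuasiSeparatedSp (D.obj i₀))
    (X₀ Y₀ : AlgSp.Space S) (f₀ : X₀.obj ⟶ Y₀.obj) (b₀ : Y₀.obj ⟶ D.obj i₀)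
    (hXqc : AlgSp.IsQuasiCompactSp X₀.obj) (hXqs : AlgSp.IsQuasiSeparatedSp X₀.obj)
    (hYqc : AlgSp.IsQuasiCompactSp Y₀.obj) (hYqs : AlgSp.IsQuasiSeparatedSp Y₀.obj)
    (X Y : AlgSp.Sp S) (f : X ⟶ Y) (pY : Y ⟶ Y₀.obj) (qY : Y ⟶ c.pt)
    (hY : IsPullback pY qY b₀ (c.π.app i₀)) (pX : X ⟶ X₀.obj) (hX : IsPullback pX f f₀ pY)
    (hf : AlgSp.IsFiniteMor f) (hf₀ : AlgSp.LocP @LocallyOfFiniteType f₀) :
    ∃ (i : I) (φ : i ⟶ i₀), ∀ (Xi Yi : AlgSp.Sp S) (fi : Xi ⟶ Yi) (pYi : Yi ⟶ Y₀.obj) (qYi : Yi ⟶ D.obj i)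
      (_ : IsPullback pYi qYi b₀ (D.map φ)) (pXi : Xi ⟶ X₀.obj) (_ : IsPullback pXi fi f₀ pYi),
      AlgSp.IsFiniteMor fi := by
  have hBa : AlgSp.IsAlgSpace c.pt := Groth.Agent.Lib.Helper23.LimSpace.isAlgSpace_limit D hD hDa c hc
  have hYa : AlgSp.IsAlgSpace Y := isAlgSpace_of_isPullback Y₀.property hBa (hD i₀).diag hY
  have hXa : AlgSp.IsAlgSpace X := isAlgSpace_of_isPullback X₀.property hYa Y₀.property.diag hX
  have hfrep : AlgSp.RepWith @IsFinite f :=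
    ((Groth.Agent.S10267.result (X := ⟨X, hXa⟩) (Y := ⟨Y, hYa⟩) (ObjectProperty.homMk f)).2).1 hf
  have hsep : AlgSp.IsSeparatedMor f :=
    repWith_diagonal_of_repWith (Q := @IsClosedImmersion) (Q' := @IsFinite)
      (fun _ _ g hg => by
        have : IsFinite g := hg
        exact IsSeparated.isClosedImmersion_diagonal) f hfrep
  have hlqf : AlgSp.LocP (@LocallyQuasiFinite ⊓ @LocallyOfFiniteType) f :=
    locP_of_repWith' etLocal_lqf (fun _ _ g hg => by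
      have : IsFinite g := hg
      exact ⟨inferInstance, inferInstance⟩) f hfrep
  obtain ⟨ia, φa, ha⟩ := Groth.Agent.S10020.result S D hD hDa c hc i₀ hBqc hBqs X₀ Y₀ f₀ b₀ hXqc hXqs
    hYqc hYqs X Y f pY qY hY pX hX hsep
  have hst : Groth.Agent.Lib.Helper23.LimDescQT.StageDescends
      (@LocallyQuasiFinite ⊓ @LocallyOfFiniteType : MorphismProperty Scheme.{u}) := by
    intro I _ _ D c hc _ i₀ _ _ X₀ Y₀ f₀ g₀ _ _ _ _ hlft X Y f g qY qX hY hX hf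
    haveI : LocallyQuasiFinite f := hf.1
    obtain ⟨i, φ, Xi, Yi, fi, gi, pY, pX, s1, s2, hq⟩ :=
      Groth.Agent.S9194.result D c hc i₀ f₀ g₀ f g qY qX hY hX
    exact ⟨i, φ, Xi, Yi, fi, gi, pY, pX, s1, s2, hq,
      MorphismProperty.of_isPullback (P := @LocallyOfFiniteType) s2 hlft⟩
  obtain ⟨ib, φb, hb⟩ := Groth.Agent.Lib.Helper23.LimDescQT.descend_locP etLocal_lqf hst D hDa c hc i₀
    X₀ Y₀ f₀ b₀ hXqc hYqc hYqs X Y f pY qY hY pX hX hlqf hf₀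
  obtain ⟨i₁, ψa, ψb, eab⟩ := IsCofiltered.cospan φa φb
  have ha' := persist bcStable_sep D hD φa ψa X₀ Y₀ f₀ b₀ ha
  have hb' := persist (bcStable_locP etLocal_lqf) D hD φb ψb X₀ Y₀ f₀ b₀ hb
  rw [← eab] at hb'
  obtain ⟨φ₁, hφ₁⟩ : ∃ φ₁ : i₁ ⟶ i₀, φ₁ = ψa ≫ φa := ⟨_, rfl⟩
  rw [← hφ₁] at ha' hb'
  have sqY₁ := IsPullback.of_hasPullback b₀ (D.map φ₁)
  have sqX₁ := IsPullback.of_hasPullback f₀ (pullback.fst b₀ (D.map φ₁))
  have hsep₁ : AlgSp.IsSeparatedMor (pullback.snd f₀ (pullback.fst b₀ (D.map φ₁))) :=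
    ha' _ _ _ _ _ sqY₁ _ sqX₁
  have hlqf₁ : AlgSp.LocP (@LocallyQuasiFinite ⊓ @LocallyOfFiniteType)
      (pullback.snd f₀ (pullback.fst b₀ (D.map φ₁))) := hb' _ _ _ _ _ sqY₁ _ sqX₁
  have hY₁ : AlgSp.IsAlgSpace (pullback b₀ (D.map φ₁)) :=
    isAlgSpace_of_isPullback Y₀.property (hD i₁) (hD i₀).diag sqY₁
  have hX₁ : AlgSp.IsAlgSpace (pullback f₀ (pullback.fst b₀ (D.map φ₁))) :=
    isAlgSpace_of_isPullback X₀.property hY₁ Y₀.property.diag sqX₁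
  have hlft₁ : AlgSp.LocP @LocallyOfFiniteType (pullback.snd f₀ (pullback.fst b₀ (D.map φ₁))) :=
    locP_of_isPullback etLocal_lft X₀.property Y₀.property hX₁ hY₁ sqX₁ hf₀
  have hrep₁ : AlgSp.Representable (pullback.snd f₀ (pullback.fst b₀ (D.map φ₁))) :=
    Groth.Agent.S10260.result (X := ⟨_, hX₁⟩) (Y := ⟨_, hY₁⟩)
      (ObjectProperty.homMk (pullback.snd f₀ (pullback.fst b₀ (D.map φ₁)))) hlqf₁ hsep₁
  obtain ⟨V₀, v₀, hV₀, hv₀e, hv₀s⟩ := exists_affine_chart_of_isQuasiCompactSp hYqc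
  have hpY₁a : AlgSp.IsAffineMor (pullback.fst b₀ (D.map φ₁)) :=
    isAffineMor_of_isPullback sqY₁.flip (hDa _ _ φ₁)
  obtain ⟨V₁, iV, v₁, sqV₁, hV₁⟩ := hpY₁a hV₀ v₀
  have hv₁e : AlgSp.RepWith @Etale v₁ := MorphismProperty.of_isPullback sqV₁.flip hv₀e
  have hv₁s : AlgSp.RepWith @Surjective v₁ := MorphismProperty.of_isPullback sqV₁.flip hv₀s
  let U₁ : Over S := hrep₁.pullback v₁
  let f₁' : U₁ ⟶ V₁ := hrep₁.snd v₁
  obtain ⟨ξ₁, hξ₁⟩ : ∃ ξ₁ : (AlgSp.yon S).obj U₁ ⟶ pullback f₀ (pullback.fst b₀ (D.map φ₁)),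
    ξ₁ = hrep₁.fst v₁ := ⟨_, rfl⟩
  have sqP₁ : IsPullback ξ₁ ((AlgSp.yon S).map f₁') (pullback.snd f₀ (pullback.fst b₀ (D.map φ₁))) v₁ :=
    hξ₁ ▸ hrep₁.isPullback v₁
  have hqcm : AlgSp.IsQuasiCompactMor f₀ :=
    isQuasiCompactMor_of_isQuasiCompactSp_of_isQuasiSeparatedSp X₀.property f₀ hXqc hYqs
  have hqcm₁ : AlgSp.IsQuasiCompactMor (pullback.snd f₀ (pullback.fst b₀ (D.map φ₁))) :=
    fun Z Z' hZ hZq g fst snd sq => hqcm hZ hZq (g ≫ _) (fst ≫ _) snd (sq.paste_horiz sqX₁)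
  haveI : IsAffine V₁.left := hV₁
  have hU₁qc : AlgSp.IsQuasiCompactSp ((AlgSp.yon S).obj U₁) :=
    hqcm₁ (AlgSp.IsAlgSpace.yon_obj V₁) (isQuasiCompactSp_yon V₁) v₁ _ _ sqP₁
  haveI : CompactSpace ↥U₁.left := compactSpace_of_isQuasiCompactSp_yon U₁ hU₁qc
  have hV₁qs : AlgSp.IsQuasiSeparatedSp ((AlgSp.yon S).obj V₁) :=
    (AlgSp.repWith_diag_yon_iff @QuasiCompact V₁).2 inferInstance
  have sqbig := sqP₁.paste_horiz sqX₁
  have hU₁qs : AlgSp.IsQuasiSeparatedSp ((AlgSp.yon S).obj U₁) :=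
    isQuasiSeparatedSp_of_isPullback sqbig hXqs hV₁qs
  haveI : QuasiSeparated U₁.hom := ⟨(AlgSp.repWith_diag_yon_iff @QuasiCompact U₁).1 hU₁qs⟩
  haveI : QuasiSeparatedSpace ↥U₁.left := quasiSeparatedSpace_of_quasiSeparated U₁.hom
  have hξ₁e : AlgSp.RepWith @Etale ξ₁ := MorphismProperty.of_isPullback sqP₁.flip hv₁e
  haveI : LocallyOfFiniteType f₁'.left := hlft₁ ξ₁ v₁ f₁' hξ₁e hv₁e sqP₁.w
  have hY2 : IsPullback pY qY b₀ (c.π.app i₁ ≫ D.map φ₁) := by rw [c.w]; exact hY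
  obtain ⟨tY, tX, hY', hX'⟩ := rebase sqY₁ sqX₁ hY2 hX
  obtain ⟨i, φ, h⟩ := descend_finite_of_chart D hDa c hc i₁ hX₁ hY₁ hD _ _ hV₁ v₁ hv₁e hv₁s ξ₁ f₁'
    sqP₁ X Y f tY qY hY' tX hX' hfrep
  refine ⟨i, φ ≫ φ₁, fun Xi Yi fi pYi qYi sq1 pXi sq2 => ?_⟩
  have sq1b : IsPullback pYi qYi b₀ (D.map φ ≫ D.map φ₁) := by rw [← D.map_comp]; exact sq1
  obtain ⟨t, s, sq1', sq2'⟩ := rebase sqY₁ sqX₁ sq1b sq2
  exact h Xi Yi fi t qYi sq1' s sq2'

end Groth.Agent.S10018
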