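import Groth.Statements.S10021
import Groth.Agent.Lib.Helper23.LimDescIso
import Groth.Agent.S10013
import Groth.Agent.S10015
import Groth.Agent.S10016

set_option autoImplicit false
universe u
open CategoryTheory CategoryTheory.Limits AlgebraicGeometry
open AlgSp

namespace Groth.Agent.S10021

open Groth.Agent.Lib.Helper23.LimDescIso

/-- Let `S` be a quasi-separated scheme and `B` the limit, in fppf sheaves over `S`, of a cofiltered
system `(B_i)` of algebraic spaces over `S` whose transition maps are affine; fix an index `i₀` such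
that `B_{i₀}` is quasi-compact and quasi-separated over `S`, and a morphism `f₀ : X₀ ⟶ Y₀` of
algebraic spaces over `B_{i₀}` whose source and target are quasi-compact and quasi-separated over
`S`. Write `f_i` (for `i` mapping to `i₀`) and `f` for the base changes of `f₀` to `B_i` and to `B`,
given by pullback squares. If `f` is an isomorphism and `f₀` locally of finite presentation, then
for some `i` mapping to `i₀` every such base change `f_i` is an isomorphism. (The published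
statement allows any base scheme and uses absolute quasi-separatedness; this row assumes the base
quasi-separated, over which quasi-separatedness relative to the base is the absolute notion.) -/
theorem result (S : Scheme.{u}) [QuasiSeparatedSpace S] {I : Type u} [SmallCategory I] [IsCofiltered I]
    (D : I ⥤ AlgSp.Sp S) (hD : ∀ i, AlgSp.IsAlgSpace (D.obj i))
    (hDa : ∀ (i j : I) (φ : i ⟶ j), AlgSp.IsAffineMor (D.map φ))
    (c : Cone D) (hc : IsLimit c) (i₀ : I)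
    (hBqc : AlgSp.IsQuasiCompactSp (D.obj i₀)) (hBqs : AlgSp.IsQuasiSeparatedSp (D.obj i₀))
    (X₀ Y₀ : AlgSp.Space S) (f₀ : X₀.obj ⟶ Y₀.obj) (b₀ : Y₀.obj ⟶ D.obj i₀)
    (hXqc : AlgSp.IsQuasiCompactSp X₀.obj) (hXqs : AlgSp.IsQuasiSeparatedSp X₀.obj)
    (hYqc : AlgSp.IsQuasiCompactSp Y₀.obj) (hYqs : AlgSp.IsQuasiSeparatedSp Y₀.obj)
    (X Y : AlgSp.Sp S) (f : X ⟶ Y) (pY : Y ⟶ Y₀.obj) (qY : Y ⟶ c.pt)
    (hY : IsPullback pY qY b₀ (c.π.app i₀)) (pX : X ⟶ X₀.obj) (hX : IsPullback pX f f₀ pY)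
    [IsIso f] (hf₀ : AlgSp.LocP @LocallyOfFinitePresentation f₀) :
    ∃ (i : I) (φ : i ⟶ i₀), ∀ (Xi Yi : AlgSp.Sp S) (fi : Xi ⟶ Yi) (pYi : Yi ⟶ Y₀.obj) (qYi : Yi ⟶ D.obj i)
      (_ : IsPullback pYi qYi b₀ (D.map φ)) (pXi : Xi ⟶ X₀.obj) (_ : IsPullback pXi fi f₀ pYi),
      IsIso fi := by
  have hlft : AlgSp.LocP @LocallyOfFiniteType f₀ := fun U V a b h ha hb w => by
    haveI := hf₀ a b h ha hb w
    infer_instance
  obtain ⟨i₁, φ₁, h₁⟩ := Groth.Agent.S10013.result S D hD hDa c hc i₀ hBqc hBqs X₀ Y₀ f₀ b₀ hXqc hXqs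
    hYqc hYqs X Y f pY qY hY pX hX (isEtaleMor_of_isIso f) hf₀
  obtain ⟨i₂, φ₂, h₂⟩ := Groth.Agent.S10015.result S D hD hDa c hc i₀ hBqc hBqs X₀ Y₀ f₀ b₀ hXqc hXqs
    hYqc hYqs X Y f pY qY hY pX hX (isSurjectiveMor_of_isIso f) hf₀
  obtain ⟨i₃, φ₃, h₃⟩ := Groth.Agent.S10016.result S D hD hDa c hc i₀ hBqc hBqs X₀ Y₀ f₀ b₀ hXqc hXqs
    hYqc hYqs X Y f pY qY hY pX hX (isUnivInjectiveMor_of_isIso f) hlft
  obtain ⟨j, ψ₁, ψ₂, e12⟩ := IsCofiltered.cospan φ₁ φ₂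
  obtain ⟨k, χ₁, χ₃, e13⟩ := IsCofiltered.cospan (ψ₁ ≫ φ₁) φ₃
  have h₁' := persist bcStable_etale D hD φ₁ (χ₁ ≫ ψ₁) X₀ Y₀ f₀ b₀ h₁
  have h₂' := persist bcStable_surjective D hD φ₂ (χ₁ ≫ ψ₂) X₀ Y₀ f₀ b₀ h₂
  have h₃' := persist bcStable_univInjective D hD φ₃ χ₃ X₀ Y₀ f₀ b₀ h₃
  have e2 : (χ₁ ≫ ψ₂) ≫ φ₂ = (χ₁ ≫ ψ₁) ≫ φ₁ := by
    rw [Category.assoc, Category.assoc, e12]
  have e3 : χ₃ ≫ φ₃ = (χ₁ ≫ ψ₁) ≫ φ₁ := by
    rw [Category.assoc, e13]
  rw [e2] at h₂'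
  rw [e3] at h₃'
  refine ⟨k, (χ₁ ≫ ψ₁) ≫ φ₁, fun Xi Yi fi pYi qYi sq1 pXi sq2 => ?_⟩
  have hYi : AlgSp.IsAlgSpace Yi :=
    Groth.Agent.Lib.Helper23.AlgSpMor.isAlgSpace_of_isPullback Y₀.property (hD k) (hD i₀).diag sq1
  have hXi : AlgSp.IsAlgSpace Xi :=
    Groth.Agent.Lib.Helper23.AlgSpMor.isAlgSpace_of_isPullback X₀.property hYi Y₀.property.diag sq2
  have hqcm : AlgSp.IsQuasiCompactMor f₀ :=
    Groth.Agent.Lib.Helper23.AlgSpMor.isQuasiCompactMor_of_isQuasiCompactSp_of_isQuasiSeparatedSp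
      X₀.property f₀ hXqc hYqs
  have hqci : AlgSp.IsQuasiCompactMor fi := fun Z Z' hZ hZq g fst snd sq =>
    hqcm hZ hZq (g ≫ pYi) (fst ≫ pXi) snd (sq.paste_horiz sq2)
  exact isIso_of_etale_surjective_univInjective hXi hYi fi hqci
    (h₁' Xi Yi fi pYi qYi sq1 pXi sq2) (h₂' Xi Yi fi pYi qYi sq1 pXi sq2)
    (h₃' Xi Yi fi pYi qYi sq1 pXi sq2)

end Groth.Agent.S10021
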