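import Groth.Statements.S10019
import Groth.Agent.Lib.Helper23.LimDescRep2
import Groth.Agent.Lib.Helper23.SchImage
import Groth.Agent.Lib.Helper79.AlgSpAffine
import Groth.Agent.Lib.Helper30.EtLocalInst
import Groth.Agent.S10022
import Groth.Agent.S10613

set_option autoImplicit false
universe u
open CategoryTheory CategoryTheory.Limits AlgebraicGeometry
open AlgSp

namespace Groth.Agent.S10019

open Groth.Agent.Lib.Helper23.AlgSpMor Groth.Agent.Lib.Helper46.LocPChart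
  Groth.Agent.Lib.Helper30.EtLocalInst Groth.Agent.Lib.Helper23.LimDescRep2
  Groth.Agent.Lib.Helper79.AlgSpAffine

theorem rebase {C : Type*} [Category C] {X₀ Y₀ B₀ B₁ Y₁ X₁ Bi Yi Xi : C} {f₀ : X₀ ⟶ Y₀}
    {b₀ : Y₀ ⟶ B₀} {m₁ : B₁ ⟶ B₀} {pY₁ : Y₁ ⟶ Y₀} {b₁ : Y₁ ⟶ B₁}
    (sqY₁ : IsPullback pY₁ b₁ b₀ m₁) {pX₁ : X₁ ⟶ X₀} {f₁ : X₁ ⟶ Y₁}
    (sqX₁ : IsPullback pX₁ f₁ f₀ pY₁) {m : Bi ⟶ B₁} {pYi : Yi ⟶ Y₀} {qYi : Yi ⟶ Bi}
    (sq1 : IsPullback pYi qYi b₀ (m ≫ m₁)) {pXi : Xi ⟶ X₀} {fi : Xi ⟶ Yi}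
    (sq2 : IsPullback pXi fi f₀ pYi) :
    ∃ (t : Yi ⟶ Y₁) (s : Xi ⟶ X₁), IsPullback t qYi b₁ m ∧ IsPullback s fi f₁ t := by
  obtain ⟨t, et, et2⟩ := sqY₁.exists_lift pYi (qYi ≫ m) (by rw [sq1.w, Category.assoc])
  obtain ⟨s, es, es2⟩ := sqX₁.exists_lift pXi (fi ≫ t) (by rw [sq2.w, Category.assoc, et])
  refine ⟨t, s, ?_, ?_⟩
  · refine IsPullback.of_right ?_ et2 sqY₁
    rw [et]; exact sq1
  · refine IsPullback.of_right ?_ es2 sqX₁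
    rw [es, et]; exact sq2

/-- Let `S` be a quasi-separated scheme and `B` the limit, in fppf sheaves over `S`, of a cofiltered
system `(B_i)` of algebraic spaces over `S` whose transition maps are affine; fix an index `i₀` such
that `B_{i₀}` is quasi-compact and quasi-separated over `S`, and a morphism `f₀ : X₀ ⟶ Y₀` of
algebraic spaces over `B_{i₀}` whose source and target are quasi-compact and quasi-separated over
`S`. Write `f_i` (for `i` mapping to `i₀`) and `f` for the base changes of `f₀` to `B_i` and to `B`,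
given by pullback squares. If `f` is a closed immersion and `f₀` locally of finite type, then for
some `i` mapping to `i₀` every such base change `f_i` is a closed immersion. (The published
statement allows any base scheme and uses absolute quasi-separatedness; this row assumes the base
quasi-separated, over which quasi-separatedness relative to the base is the absolute notion.) -/
theorem result (S : Scheme.{u}) [QuasiSeparatedSpace S] {I : Type u} [SmallCategory I] [IsCofiltered I]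
    (D : I ⥤ AlgSp.Sp S) (hD : ∀ i, AlgSp.IsAlgSpace (D.obj i))
    (hDa : ∀ (i j : I) (φ : i ⟶ j), AlgSp.IsAffineMor (D.map φ))
    (c : Cone D) (hc : IsLimit c) (i₀ : I)
    (hBqc : AlgSp.IsQuasiCompactSp (D.obj i₀)) (hBqs : AlgSp.IsQuasiSeparatedSp (D.obj i₀))
    (X₀ Y₀ : AlgSp.Space S) (f₀ : X₀.obj ⟶ Y₀.obj) (b₀ : Y₀.obj ⟶ D.obj i₀)
    (hXqc : AlgSp.IsQuasiCompactSp X₀.obj) (hXqs : AlgSp.IsQuasiSeparatedSp X₀.obj)
    (hYqc : AlgSp.IsQuasiCompactSp Y₀.obj) (hYqs : AlgSp.IsQuasiSeparatedSp Y₀.obj)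
    (X Y : AlgSp.Sp S) (f : X ⟶ Y) (pY : Y ⟶ Y₀.obj) (qY : Y ⟶ c.pt)
    (hY : IsPullback pY qY b₀ (c.π.app i₀)) (pX : X ⟶ X₀.obj) (hX : IsPullback pX f f₀ pY)
    (hf : AlgSp.RepWith @IsClosedImmersion f) (hf₀ : AlgSp.LocP @LocallyOfFiniteType f₀) :
    ∃ (i : I) (φ : i ⟶ i₀), ∀ (Xi Yi : AlgSp.Sp S) (fi : Xi ⟶ Yi) (pYi : Yi ⟶ Y₀.obj) (qYi : Yi ⟶ D.obj i)
      (_ : IsPullback pYi qYi b₀ (D.map φ)) (pXi : Xi ⟶ X₀.obj) (_ : IsPullback pXi fi f₀ pYi),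
      AlgSp.RepWith @IsClosedImmersion fi := by
  haveI : Mono f := Groth.Agent.Lib.Helper23.ClosedDescent.mono_of_repWith_isClosedImmersion f hf
  obtain ⟨i₁, φ₁, hmono⟩ := Groth.Agent.S10022.result S D hD hDa c hc i₀ hBqc hBqs X₀ Y₀ f₀ b₀
    hXqc hXqs hYqc hYqs X Y f pY qY hY pX hX hf₀
  have sqY₁ := IsPullback.of_hasPullback b₀ (D.map φ₁)
  have sqX₁ := IsPullback.of_hasPullback f₀ (pullback.fst b₀ (D.map φ₁))
  haveI hm₁ : Mono (pullback.snd f₀ (pullback.fst b₀ (D.map φ₁))) :=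
    hmono _ _ _ _ _ sqY₁ _ sqX₁
  have hY₁ : AlgSp.IsAlgSpace (pullback b₀ (D.map φ₁)) :=
    isAlgSpace_of_isPullback Y₀.property (hD i₁) (hD i₀).diag sqY₁
  have hX₁ : AlgSp.IsAlgSpace (pullback f₀ (pullback.fst b₀ (D.map φ₁))) :=
    isAlgSpace_of_isPullback X₀.property hY₁ Y₀.property.diag sqX₁
  have hlft₁ : AlgSp.LocP @LocallyOfFiniteType (pullback.snd f₀ (pullback.fst b₀ (D.map φ₁))) :=
    locP_of_isPullback etLocal_lft X₀.property Y₀.property hX₁ hY₁ sqX₁ hf₀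
  have hrep₁ : AlgSp.Representable (pullback.snd f₀ (pullback.fst b₀ (D.map φ₁))) :=
    ((Groth.Agent.S10613.result (X := ⟨_, hX₁⟩) (Y := ⟨_, hY₁⟩)
      (ObjectProperty.homMk (pullback.snd f₀ (pullback.fst b₀ (D.map φ₁))))).2.2.2
        ⟨hlft₁, hm₁⟩).1
  obtain ⟨V₀, v₀, hV₀, hv₀e, hv₀s⟩ := exists_affine_chart_of_isQuasiCompactSp hYqc
  have hpY₁a : AlgSp.IsAffineMor (pullback.fst b₀ (D.map φ₁)) :=
    isAffineMor_of_isPullback sqY₁.flip (hDa _ _ φ₁)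
  obtain ⟨V₁, iV, v₁, sqV₁, hV₁⟩ := hpY₁a hV₀ v₀
  have hv₁e : AlgSp.RepWith @Etale v₁ := MorphismProperty.of_isPullback sqV₁.flip hv₀e
  have hv₁s : AlgSp.RepWith @Surjective v₁ := MorphismProperty.of_isPullback sqV₁.flip hv₀s
  let U₁ : Over S := hrep₁.pullback v₁
  let f₁' : U₁ ⟶ V₁ := hrep₁.snd v₁
  obtain ⟨ξ₁, hξ₁⟩ : ∃ ξ₁ : (AlgSp.yon S).obj U₁ ⟶ pullback f₀ (pullback.fst b₀ (D.map φ₁)),
    ξ₁ = hrep₁.fst v₁ := ⟨_, rfl⟩
  have sqP₁ : IsPullback ξ₁ ((AlgSp.yon S).map f₁') (pullback.snd f₀ (pullback.fst b₀ (D.map φ₁))) v₁ :=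
    hξ₁ ▸ hrep₁.isPullback v₁
  have hqcm : AlgSp.IsQuasiCompactMor f₀ :=
    isQuasiCompactMor_of_isQuasiCompactSp_of_isQuasiSeparatedSp X₀.property f₀ hXqc hYqs
  have hqcm₁ : AlgSp.IsQuasiCompactMor (pullback.snd f₀ (pullback.fst b₀ (D.map φ₁))) :=
    fun Z Z' hZ hZq g fst snd sq => hqcm hZ hZq (g ≫ _) (fst ≫ _) snd (sq.paste_horiz sqX₁)
  haveI : IsAffine V₁.left := hV₁
  have hU₁qc : AlgSp.IsQuasiCompactSp ((AlgSp.yon S).obj U₁) :=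
    hqcm₁ (AlgSp.IsAlgSpace.yon_obj V₁) (isQuasiCompactSp_yon V₁) v₁ _ _ sqP₁
  haveI : CompactSpace ↥U₁.left := compactSpace_of_isQuasiCompactSp_yon U₁ hU₁qc
  have hV₁qs : AlgSp.IsQuasiSeparatedSp ((AlgSp.yon S).obj V₁) :=
    (AlgSp.repWith_diag_yon_iff @QuasiCompact V₁).2 inferInstance
  have sqbig := sqP₁.paste_horiz sqX₁
  have hU₁qs : AlgSp.IsQuasiSeparatedSp ((AlgSp.yon S).obj U₁) :=
    isQuasiSeparatedSp_of_isPullback sqbig hXqs hV₁qs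
  haveI : QuasiSeparated U₁.hom := ⟨(AlgSp.repWith_diag_yon_iff @QuasiCompact U₁).1 hU₁qs⟩
  haveI : QuasiSeparatedSpace ↥U₁.left := quasiSeparatedSpace_of_quasiSeparated U₁.hom
  have hξ₁e : AlgSp.RepWith @Etale ξ₁ := MorphismProperty.of_isPullback sqP₁.flip hv₁e
  haveI : LocallyOfFiniteType f₁'.left := hlft₁ ξ₁ v₁ f₁' hξ₁e hv₁e sqP₁.w
  have hY2 : IsPullback pY qY b₀ (c.π.app i₁ ≫ D.map φ₁) := by rw [c.w]; exact hY
  obtain ⟨tY, tX, hY', hX'⟩ := rebase sqY₁ sqX₁ hY2 hX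
  obtain ⟨i, φ, h⟩ := descend_closedImmersion_of_chart D hDa c hc i₁ _ _ hV₁ v₁ hv₁e hv₁s ξ₁ f₁'
    sqP₁ X Y f tY qY hY' tX hX' hf
  refine ⟨i, φ ≫ φ₁, fun Xi Yi fi pYi qYi sq1 pXi sq2 => ?_⟩
  have sq1b : IsPullback pYi qYi b₀ (D.map φ ≫ D.map φ₁) := by rw [← D.map_comp]; exact sq1
  obtain ⟨t, s, sq1', sq2'⟩ := rebase sqY₁ sqX₁ sq1b sq2
  exact h Xi Yi fi t qYi sq1' s sq2'

end Groth.Agent.S10019
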