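import Groth.Statements.S10067
import Groth.Agent.Lib.Helper28.RelLim

set_option autoImplicit false
universe u
open CategoryTheory CategoryTheory.Limits AlgebraicGeometry
open AlgSp

namespace Groth.Agent.S10067

open Groth.Agent.Lib.Helper28.RelLim Opposite

/-- A transformation `a : F ⟶ G` of presheaves of sets on schemes over `S` is relatively limit
preserving if and only if, for every directed limit `T = lim T_i` of affine schemes over `S` (with
`T` affine), the square formed by `colim F(T_i) → F(T)`, `colim G(T_i) → G(T)` and the two maps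
induced by `a` is cartesian in sets. -/
theorem result (S : Scheme.{u}) {F G : AlgSp.PSp S} (a : F ⟶ G) :
    AlgSp.IsRelLimitPreserving a ↔
      ∀ ⦃I : Type u⦄ [SmallCategory I] [IsCofiltered I] (D : I ⥤ Over S) (c : Cone D),
        IsLimit ((Over.forget S).mapCone c) → (∀ i, IsAffine (D.obj i).left) → IsAffine c.pt.left →
          IsPullback (colimMap (Functor.whiskerLeft D.op a)) (colimit.desc (D.op ⋙ F) (F.mapCocone c.op))
            (colimit.desc (D.op ⋙ G) (G.mapCocone c.op)) (a.app (Opposite.op c.pt)) := by
  constructor
  · intro h I _ _ D c hc hD hT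
    rw [isPullback_colimit_iff]
    have hK : ∀ (i : I) (y : G.obj (op (D.obj i))),
        KInj a (D.obj i) y (resD D i) (resC D c i) ∧ KSurj a (D.obj i) y (resD D i) (resC D c i) := by
      intro i y
      rw [← isColimit_fiberFun_iff]
      exact h (D.obj i) y (resD D i) (resC D c i) (resIsLimit D c i hc) (fun o => hD o.left) hT
    exact ⟨fun i x x' h1 h2 => rInj_of_K a D c i (fun y => (hK i y).1) x x' h1 h2,
      fun i y ξ hξ => rSurj_of_K a D c i (fun y => (hK i y).2) y ξ hξ⟩
  · intro h T₀ y₀ I _ _ D' c' hc' hD' hT'
    rw [isColimit_fiberFun_iff]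
    have := h (D' ⋙ Over.map T₀.hom) ((Over.map T₀.hom).mapCone c') hc' (fun i => hD' i) hT'
    rw [isPullback_colimit_iff] at this
    exact K_of_R a T₀ y₀ D' c' this.1 this.2

end Groth.Agent.S10067
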