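import Groth.Statements.S10025
import Groth.Agent.S10067

set_option autoImplicit false
universe u
open CategoryTheory CategoryTheory.Limits AlgebraicGeometry
open AlgSp

namespace Groth.Agent.S10025

open Opposite

lemma colimMap_comp {S : Scheme.{u}} {F G H : AlgSp.PSp S} (a : F ⟶ G) (b : G ⟶ H)
    {I : Type u} [SmallCategory I] (D : I ⥤ Over S) :
    colimMap (Functor.whiskerLeft D.op (a ≫ b)) =
      colimMap (Functor.whiskerLeft D.op a) ≫ colimMap (Functor.whiskerLeft D.op b) := by
  apply colimit.hom_ext
  intro j
  simp

/-- The composite of two relatively limit preserving transformations of presheaves of sets on schemes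
over `S` is relatively limit preserving. -/
theorem result (S : Scheme.{u}) {F G H : AlgSp.PSp S} (a : F ⟶ G) (b : G ⟶ H)
    (ha : AlgSp.IsRelLimitPreserving a) (hb : AlgSp.IsRelLimitPreserving b) :
    AlgSp.IsRelLimitPreserving (a ≫ b) := by
  rw [Groth.Agent.S10067.result] at ha hb ⊢
  intro I _ _ D c hc hD hT
  have h := (ha D c hc hD hT).paste_horiz (hb D c hc hD hT)
  rw [colimMap_comp]
  exact h

end Groth.Agent.S10025
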