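import Groth.Statements.S10026
import Groth.Agent.S10067

set_option autoImplicit false
universe u
open CategoryTheory CategoryTheory.Limits AlgebraicGeometry
open AlgSp

namespace Groth.Agent.S10026

open Opposite

lemma colimMap_comp {S : Scheme.{u}} {F G H : AlgSp.PSp S} (a : F ⟶ G) (b : G ⟶ H)
    {I : Type u} [SmallCategory I] (D : I ⥤ Over S) :
    colimMap (Functor.whiskerLeft D.op (a ≫ b)) =
      colimMap (Functor.whiskerLeft D.op a) ≫ colimMap (Functor.whiskerLeft D.op b) := by
  apply colimit.hom_ext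
  intro j
  simp

lemma colimMap_desc {S : Scheme.{u}} {F G : AlgSp.PSp S} (a : F ⟶ G)
    {I : Type u} [SmallCategory I] (D : I ⥤ Over S) (c : Cone D) :
    colimMap (Functor.whiskerLeft D.op a) ≫ colimit.desc (D.op ⋙ G) (G.mapCocone c.op) =
      colimit.desc (D.op ⋙ F) (F.mapCocone c.op) ≫ a.app (op c.pt) := by
  apply colimit.hom_ext
  intro j
  simp

/-- Let `a : F ⟶ G`, `b : G ⟶ H` be transformations of presheaves of sets on schemes over `S`. If `a ≫
b` and `b` are relatively limit preserving, then so is `a`. -/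
theorem result (S : Scheme.{u}) {F G H : AlgSp.PSp S} (a : F ⟶ G) (b : G ⟶ H)
    (hab : AlgSp.IsRelLimitPreserving (a ≫ b)) (hb : AlgSp.IsRelLimitPreserving b) :
    AlgSp.IsRelLimitPreserving a := by
  rw [Groth.Agent.S10067.result] at hab hb ⊢
  intro I _ _ D c hc hD hT
  have h1 := hab D c hc hD hT
  rw [colimMap_comp] at h1
  exact IsPullback.of_right h1 (colimMap_desc a D c) (hb D c hc hD hT)

end Groth.Agent.S10026
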