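import Groth.Statements.S10027
import Groth.Agent.S10025
import Groth.Agent.S10026

set_option autoImplicit false
universe u
open CategoryTheory CategoryTheory.Limits AlgebraicGeometry
open AlgSp

namespace Groth.Agent.S10027

open Opposite Groth.Agent.Lib.Helper28.RelLim

lemma sq_app {S : Scheme.{u}} {F G H P : AlgSp.PSp S} {a : F ⟶ G} {b : H ⟶ G} {fst : P ⟶ F}
    {snd : P ⟶ H} (sq : IsPullback fst snd a b) (Z : (Over S)ᵒᵖ) :
    IsPullback (fst.app Z) (snd.app Z) (a.app Z) (b.app Z) :=
  sq.map ((evaluation (Over S)ᵒᵖ (Type (u + 1))).obj Z)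

theorem baseChange (S : Scheme.{u}) {F G H P : AlgSp.PSp S}
    (a : F ⟶ G) (b : H ⟶ G) (fst : P ⟶ F) (snd : P ⟶ H) (hP : IsPullback fst snd a b)
    (ha : AlgSp.IsRelLimitPreserving a) : AlgSp.IsRelLimitPreserving snd := by
  rw [Groth.Agent.S10067.result] at ha ⊢
  intro I _ _ D c hc hD hT
  have h := ha D c hc hD hT
  rw [isPullback_colimit_iff] at h ⊢
  obtain ⟨hinj, hsurj⟩ := h
  refine ⟨?_, ?_⟩
  · intro i p p' h1 h2
    have hw : ∀ q : P.obj (op (D.obj i)), a.app _ (fst.app _ q) = b.app _ (snd.app _ q) :=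
      fun q => ConcreteCategory.congr_hom (sq_app hP (op (D.obj i))).w q
    obtain ⟨k, f, hf⟩ := hinj i (fst.app _ p) (fst.app _ p')
      (by rw [← NatTrans.naturality_apply, ← NatTrans.naturality_apply, h1])
      (by rw [hw, hw, h2])
    refine ⟨k, f, ?_⟩
    apply Types.ext_of_isPullback (sq_app hP (op (D.obj k)))
    · rw [NatTrans.naturality_apply, NatTrans.naturality_apply]
      exact hf
    · rw [NatTrans.naturality_apply, NatTrans.naturality_apply, h2]
  · intro i h π hπ
    have hw : a.app _ (fst.app _ π) = b.app _ (snd.app _ π) :=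
      ConcreteCategory.congr_hom (sq_app hP (op c.pt)).w π
    obtain ⟨k, f, x, hx1, hx2⟩ := hsurj i (b.app _ h) (fst.app _ π)
      (by rw [hw, hπ, NatTrans.naturality_apply])
    obtain ⟨p, hp1, hp2⟩ := Types.exists_of_isPullback (sq_app hP (op (D.obj k))) x
      (H.map (D.map f).op h) (by rw [hx2, NatTrans.naturality_apply])
    refine ⟨k, f, p, ?_, hp2⟩
    apply Types.ext_of_isPullback (sq_app hP (op c.pt))
    · rw [NatTrans.naturality_apply, hp1, hx1]
    · rw [NatTrans.naturality_apply, hp2, hπ, map_π]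

/-- Let `a : F ⟶ G`, `b : H ⟶ G`, `c : G ⟶ E` be transformations of presheaves of sets on schemes over
`S` and `P` a fibre product `F ×_G H`. If `c`, `a ≫ c` and `b ≫ c` are relatively limit preserving,
then so is `P ⟶ E`. -/
theorem result (S : Scheme.{u}) {E F G H P : AlgSp.PSp S}
    (a : F ⟶ G) (b : H ⟶ G) (c : G ⟶ E) (fst : P ⟶ F) (snd : P ⟶ H) (hP : IsPullback fst snd a b)
    (hc : AlgSp.IsRelLimitPreserving c) (hac : AlgSp.IsRelLimitPreserving (a ≫ c))
    (hbc : AlgSp.IsRelLimitPreserving (b ≫ c)) :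
    AlgSp.IsRelLimitPreserving (fst ≫ a ≫ c) := by
  have ha : AlgSp.IsRelLimitPreserving a := Groth.Agent.S10026.result S a c hac hc
  have hsnd : AlgSp.IsRelLimitPreserving snd := baseChange S a b fst snd hP ha
  have := Groth.Agent.S10025.result S snd (b ≫ c) hsnd hbc
  rwa [← hP.w_assoc] at this

end Groth.Agent.S10027
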