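import Groth.Statements.S10589
-- import your own Groth.Agent.* helpers here
import Groth.Agent.S10587
import Groth.Agent.Lib.Helper37.DiagChart
import Groth.Agent.Lib.Helper23.AlgSpMor7
import Groth.Agent.Lib.Helper23.AlgSpProper

set_option autoImplicit false
universe u
open CategoryTheory CategoryTheory.Limits AlgebraicGeometry
open AlgSp

namespace Groth.Agent.S10589

open Groth.Agent.Lib.Helper36.Thickening Groth.Agent.Lib.Helper23.AlgSpMor
open Groth.Agent.Lib.Helper36.AlgSpCharts

variable {S : Scheme.{u}}

instance : (AlgSp.thick : MorphismProperty Scheme.{u}).IsStableUnderBaseChange := by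
  unfold AlgSp.thick; infer_instance

instance : (AlgSp.thick : MorphismProperty Scheme.{u}).IsMultiplicative := by
  unfold AlgSp.thick; infer_instance

theorem isThickMor_comp {A B C : Sp S} (a : A ⟶ B) (b : B ⟶ C) (ha : IsThickMor a)
    (hb : IsThickMor b) : IsThickMor (a ≫ b) :=
  (repWith_isMultiplicative (S := S) AlgSp.thick).comp_mem _ _ ha hb

/-- The map of fibre squares `X ×_Y X ⟶ X' ×_{Y'} X'` induced by a morphism of thickenings is a
thickening. -/
theorem exists_diag_thick {X X' Y Y' : Sp S} (i : X ⟶ X') (j : Y ⟶ Y') (f : X ⟶ Y) (f' : X' ⟶ Y')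
    (hi : IsThickMor i) (hj : IsThickMor j) (w : i ≫ f' = f ≫ j) :
    ∃ c : pullback f f ⟶ pullback f' f', IsThickMor c ∧
      c ≫ pullback.fst f' f' = pullback.fst f f ≫ i ∧
      c ≫ pullback.snd f' f' = pullback.snd f f ≫ i := by
  have := mono_of_isThickMor j hj
  have sqZ : IsPullback f (𝟙 X) j (f ≫ j) :=
    (Groth.Agent.Lib.Helper5.LargestOpenSp.isPullback_of_factor j (f ≫ j) f rfl).flip
  obtain ⟨iA, hiA, eA2, eA1⟩ := exists_thick_lift i j f f' hi w sqZ
    (IsPullback.of_hasPullback f f) (IsPullback.of_hasPullback f' (f ≫ j))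
  have sqZ' : IsPullback f' (𝟙 X') (𝟙 Y') f' :=
    IsPullback.of_vert_isIso ⟨by rw [Category.id_comp, Category.comp_id]⟩
  obtain ⟨iB, hiB, eB2, eB1⟩ := exists_thick_lift i (𝟙 Y') (f ≫ j) f' hi
    (by rw [Category.comp_id, w]) sqZ'
    (IsPullback.of_hasPullback f' (f ≫ j)).flip (IsPullback.of_hasPullback f' f').flip
  refine ⟨iA ≫ iB, isThickMor_comp _ _ hiA hiB, ?_, ?_⟩
  · rw [Category.assoc, eB2, Category.comp_id, eA1]
  · rw [Category.assoc, eB1, ← Category.assoc, eA2, Category.comp_id]

theorem diag_isPullback {X X' Y Y' : Sp S} (i : X ⟶ X') [Mono i] (f : X ⟶ Y) (f' : X' ⟶ Y')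
    (c : pullback f f ⟶ pullback f' f')
    (h1 : c ≫ pullback.fst f' f' = pullback.fst f f ≫ i)
    (h2 : c ≫ pullback.snd f' f' = pullback.snd f f ≫ i) :
    IsPullback (pullback.diagonal f) i c (pullback.diagonal f') := by
  have hw : pullback.diagonal f ≫ c = i ≫ pullback.diagonal f' := by
    apply pullback.hom_ext
    · rw [Category.assoc, h1, pullback.diagonal_fst_assoc, Category.assoc, pullback.diagonal_fst,
        Category.comp_id]
    · rw [Category.assoc, h2, pullback.diagonal_snd_assoc, Category.assoc, pullback.diagonal_snd,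
        Category.comp_id]
  have key : ∀ s : PullbackCone c (pullback.diagonal f'),
      s.fst ≫ pullback.fst f f = s.fst ≫ pullback.snd f f ∧
      (s.fst ≫ pullback.fst f f) ≫ i = s.snd := by
    intro s
    have e1 : (s.fst ≫ pullback.fst f f) ≫ i = s.snd := by
      rw [Category.assoc, ← h1, ← Category.assoc, s.condition, Category.assoc,
        pullback.diagonal_fst, Category.comp_id]
    have e2 : (s.fst ≫ pullback.snd f f) ≫ i = s.snd := by
      rw [Category.assoc, ← h2, ← Category.assoc, s.condition, Category.assoc,
        pullback.diagonal_snd, Category.comp_id]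
    exact ⟨(cancel_mono i).1 (e1.trans e2.symm), e1⟩
  refine IsPullback.of_isLimit' ⟨hw⟩ (PullbackCone.IsLimit.mk _
    (fun s => s.fst ≫ pullback.fst f f) (fun s => ?_) (fun s => (key s).2) (fun s m hm _ => ?_))
  · apply pullback.hom_ext
    · rw [Category.assoc, pullback.diagonal_fst, Category.comp_id]
    · rw [Category.assoc, pullback.diagonal_snd, Category.comp_id, (key s).1]
  · rw [← hm, Category.assoc, pullback.diagonal_fst, Category.comp_id]

theorem mono_left_of_mono_yon_map {U V : Over S} (g : U ⟶ V) [Mono ((yon S).map g)] :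
    Mono g.left := by
  have : Mono g := (yon S).mono_of_mono_map ‹_›
  infer_instance

/-- Consider a morphism (f, f') from the thickening X ⊂ X' to the thickening Y ⊂ Y' of algebraic spaces
over S, meaning: i : X ⟶ X' and j : Y ⟶ Y' are thickenings (representable, every base change to a
scheme a surjective closed immersion) and i ≫ f' = f ≫ j. Then f is separated if and only if f' is
separated, and f is quasi-separated if and only if f' is quasi-separated. -/
theorem result {S : Scheme.{u}} {X X' Y Y' : AlgSp.Space S} (i : X ⟶ X') (j : Y ⟶ Y')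
    (f : X ⟶ Y) (f' : X' ⟶ Y')
    (hi : AlgSp.IsThickMor i.hom)
    (hj : AlgSp.IsThickMor j.hom) (w : i ≫ f' = f ≫ j) :
    (AlgSp.IsSeparatedMor f.hom ↔ AlgSp.IsSeparatedMor f'.hom) ∧
    (AlgSp.IsQuasiSeparatedMor f.hom ↔ AlgSp.IsQuasiSeparatedMor f'.hom) := by
  have w' : i.hom ≫ f'.hom = f.hom ≫ j.hom := congrArg (fun k => k.hom) w
  obtain ⟨c, hc, h1, h2⟩ := exists_diag_thick i.hom j.hom f.hom f'.hom hi hj w'
  have := mono_of_isThickMor i.hom hi
  have sq := diag_isPullback i.hom f.hom f'.hom c h1 h2
  have hD : IsAlgSpace (pullback f.hom f.hom) :=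
    isAlgSpace_of_isPullback X.property X.property Y.property.diag (IsPullback.of_hasPullback _ _)
  have hD' : IsAlgSpace (pullback f'.hom f'.hom) :=
    isAlgSpace_of_isPullback X'.property X'.property Y'.property.diag
      (IsPullback.of_hasPullback _ _)
  have hrep : Representable (pullback.diagonal f.hom) := representable_diagonal _ X.property.diag
  have hrep' : Representable (pullback.diagonal f'.hom) :=
    representable_diagonal _ X'.property.diag
  have hqc := Groth.Agent.S10587.qc_iff X.property X'.property hD hD' i.hom c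
    (pullback.diagonal f.hom) (pullback.diagonal f'.hom) hi hc sq.w.symm
  have hcl := Groth.Agent.S10587.univSp_iff _ Groth.Agent.S10587.homeoInv_closed X'.property hD hD'
    i.hom c (pullback.diagonal f.hom) (pullback.diagonal f'.hom) hi hc sq.w.symm
  constructor
  · constructor
    · intro h
      have h' : RepWith @IsClosedImmersion (pullback.diagonal f.hom) := h
      have hq' : RepWith @QuasiCompact (pullback.diagonal f'.hom) :=
        repWith_quasiCompact_of_isQuasiCompactMor _ hrep'
          (hqc.1 (isQuasiCompactMor_of_repWith _ (repWith_quasiCompact_of_isClosedImmersion _ h')))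
      have hu' : RepWith @UniversallyClosed (pullback.diagonal f'.hom) :=
        repWith_universallyClosed_of_isUnivClosedMor _ hrep'
          (hcl.1 (isUnivClosedMor_of_repWith _
            (repWith_universallyClosed_of_isClosedImmersion _ h')))
      have hl' : RepWith @LocallyOfFiniteType (pullback.diagonal f'.hom) :=
        Groth.Agent.Lib.Helper37.DiagChart.repWith_locallyOfFiniteType_diagonal X'.property
          Y'.property f'.hom
      change RepWith @IsClosedImmersion (pullback.diagonal f'.hom)
      refine ⟨hrep', fun U V g fst snd sqg => ?_⟩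
      change IsClosedImmersion snd.left
      have hm : Mono ((yon S).map snd) := by
        have : Mono (pullback.diagonal f'.hom) := inferInstance
        exact sqg.mono_snd_of_mono
      have : Mono snd.left := mono_left_of_mono_yon_map snd
      have : QuasiCompact snd.left := hq'.2 g fst snd sqg
      have : UniversallyClosed snd.left := hu'.2 g fst snd sqg
      have : LocallyOfFiniteType snd.left := hl'.2 g fst snd sqg
      have : IsSeparated snd.left := inferInstance
      have : IsProper snd.left := {}
      exact (IsClosedImmersion.iff_isProper_and_mono _).2 ⟨inferInstance, inferInstance⟩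
    · intro h
      exact (RepWith (S := S) @IsClosedImmersion).of_isPullback sq.flip h
  · constructor
    · intro h
      exact repWith_quasiCompact_of_isQuasiCompactMor _ hrep'
        (hqc.1 (isQuasiCompactMor_of_repWith _ h))
    · intro h
      exact repWith_quasiCompact_of_isQuasiCompactMor _ hrep
        (hqc.2 (isQuasiCompactMor_of_repWith _ h))

end Groth.Agent.S10589
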