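import Groth.Statements.S10312
-- import your own Groth.Agent.* helpers here
import Groth.Agent.Lib.Helper36.UnramBC
import Groth.Agent.Lib.Helper36.QFLocus
import Groth.Agent.Lib.Helper36.CartesianCharts
import Groth.Agent.Lib.Helper46.LocPChart
import Groth.Agent.Lib.Helper30.EtLocalInst
import Groth.Agent.Lib.Helper23.AlgSpMor4

set_option autoImplicit false
universe u
open CategoryTheory CategoryTheory.Limits AlgebraicGeometry
open AlgSp

namespace Groth.Agent.S10312

open Groth.Agent.Lib.Helper36.AlgSpCharts Groth.Agent.Lib.Helper36.AlgSpChartDiag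
  Groth.Agent.Lib.Helper36.AlgSpHasAtMor Groth.Agent.Lib.Helper37.AlgSpPoints
  Groth.Agent.Lib.Helper36.CartesianCharts Groth.Agent.Lib.Helper36.UnramBC

/-- The germ property "locally of finite type and unramified near the point". -/
abbrev QU : ∀ (U V : Scheme.{u}), (U ⟶ V) → ↥U → Prop :=
  fun U _ h u => ∃ W : U.Opens, u ∈ W ∧ LocallyOfFiniteType (W.ι ≫ h) ∧ FormallyUnramified (W.ι ≫ h)

theorem isEtaleLocalGermMor_QU : IsEtaleLocalGermMor QU.{u} :=
  isEtaleLocalGermMor_nbhd Groth.Agent.Lib.Helper30.EtLocalInst.etLocal_unramified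

theorem hasAtMor_QU_iff_of_chart {S : Scheme.{u}} {X Y : AlgSp.Space S} (f : X ⟶ Y) {U V : Over S}
    (a : (yon S).obj U ⟶ X.obj) (b : (yon S).obj V ⟶ Y.obj) (h : U ⟶ V) (ha : RepWith @Etale a)
    (hb : RepWith @Etale b) (w : a ≫ f.hom = (yon S).map h ≫ b) (u : ↥U.left) :
    HasAtMor QU f.hom (Points.ofPt a u) ↔ QU U.left V.left h.left u := by
  constructor
  · intro hx
    exact (hasAtMor_iff_forall_chart isEtaleLocalGermMor_QU f _).1 hx U V a b h u ha hb w rfl
  · intro hq
    exact ⟨U, V, a, b, h, u, ha, hb, w, rfl, hq⟩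

theorem QU_iff_of_isPullback {U U' V V' : Scheme.{u}} (h : U ⟶ V) (h' : U' ⟶ V') (α : U' ⟶ U)
    (β : V' ⟶ V) (sq : IsPullback α h' h β) [LocallyOfFiniteType h] (u' : ↥U') :
    QU U' V' h' u' ↔ QU U V h (α u') := by
  constructor
  · rintro ⟨W', hW', -, hu⟩
    obtain ⟨W, hW, hWu⟩ := unramified_nbhd_descent h h' α β sq u' W' hW' hu
    exact ⟨W, hW, inferInstance, hWu⟩
  · intro H
    exact nbhd_of_isPullback (P := @LocallyOfFiniteType ⊓ @FormallyUnramified) h h' α β sq u' H

/-- For X -> Y over Z with X -> Z locally of finite type, the locus where X -> Y is unramified is an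
open subset of |X| whose formation commutes with base change along any Z' -> Z. -/
theorem result {S : Scheme.{u}} {X Y Z Z' Y' X' : AlgSp.Space S} (f : X ⟶ Y)
    (p : X ⟶ Z) (q : Y ⟶ Z) (comm : f ≫ q = p) (hp : AlgSp.LocP @LocallyOfFiniteType p.hom) (g : Z' ⟶ Z)
    (a : Y' ⟶ Y) (q' : Y' ⟶ Z') (sq1 : IsPullback a.hom q'.hom q.hom g.hom)
    (b : X' ⟶ X) (f' : X' ⟶ Y') (sq2 : IsPullback b.hom f'.hom f.hom a.hom) :
    IsOpen {x : AlgSp.Points X.obj | AlgSp.HasAtMor (fun U _ h u => ∃ W : U.Opens, u ∈ W ∧ LocallyOfFiniteType (W.ι ≫ h) ∧ FormallyUnramified (W.ι ≫ h)) f.hom x} ∧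
    {x' : AlgSp.Points X'.obj | AlgSp.HasAtMor (fun U _ h u => ∃ W : U.Opens, u ∈ W ∧ LocallyOfFiniteType (W.ι ≫ h) ∧ FormallyUnramified (W.ι ≫ h)) f'.hom x'} =
      AlgSp.Points.map b.hom ⁻¹' {x : AlgSp.Points X.obj | AlgSp.HasAtMor (fun U _ h u => ∃ W : U.Opens, u ∈ W ∧ LocallyOfFiniteType (W.ι ≫ h) ∧ FormallyUnramified (W.ι ≫ h)) f.hom x} := by
  constructor
  · rw [isOpen_iff_forall_mem_open]
    rintro x ⟨U, V, a0, b0, h, u, hae, hbe, w, hu, W, huW, hPW⟩
    refine ⟨Points.ofPt a0 '' (W : Set ↥U.left), ?_, isOpenMap_ofPt a0 hae _ W.2, ⟨u, huW, hu⟩⟩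
    rintro _ ⟨u1, hu1, rfl⟩
    exact ⟨U, V, a0, b0, h, u1, hae, hbe, w, rfl, W, hu1, hPW⟩
  · -- f is locally of finite type
    have hf : LocP @LocallyOfFiniteType f.hom := by
      have hpq : p.hom = f.hom ≫ q.hom := by rw [← comm]; rfl
      obtain ⟨T, c, hce, hcs⟩ := Z.property.atlas
      obtain ⟨V, b0, k, d1, -, -, -, -, hbe, comm1, hbs⟩ :=
        Groth.Agent.Lib.Helper46.LocPChart.exists_chart Y.property Z.property.diag q.hom c hce
      obtain ⟨U, a0, h, d2, -, -, -, -, hae, comm2, has⟩ :=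
        Groth.Agent.Lib.Helper46.LocPChart.exists_chart X.property Y.property.diag f.hom b0 hbe
      refine Groth.Agent.Lib.Helper46.LocPChart.locP_of_chart
        Groth.Agent.Lib.Helper30.EtLocalInst.etLocal_lft f.hom a0 b0 h hae (has (hbs hcs)) hbe comm2 ?_
      have hpk : LocallyOfFiniteType (h ≫ k).left := hp a0 c (h ≫ k) hae hce (by
        rw [hpq, ← Category.assoc, comm2, Category.assoc, comm1, Functor.map_comp, Category.assoc])
      rw [Over.comp_left] at hpk
      exact locallyOfFiniteType_of_comp h.left k.left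
    ext x'
    obtain ⟨U₀, p₀, hpe, hps⟩ := X.property.atlas
    obtain ⟨V, bV, hbe, hbs⟩ := Y.property.atlas
    have hYV : IsAlgSpace (pullback a.hom bV) :=
      Groth.Agent.Lib.Helper23.AlgSpMor.isAlgSpace_of_isPullback Y'.property (IsAlgSpace.yon_obj V)
        Y.property.diag (IsPullback.of_hasPullback a.hom bV)
    obtain ⟨V'', c, hce, hcs⟩ := hYV.atlas
    obtain ⟨β, hβ⟩ := (yon S).map_surjective (c ≫ pullback.snd a.hom bV)
    have hfst_e : RepWith @Etale (pullback.fst a.hom bV) :=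
      MorphismProperty.pullback_fst (P := RepWith @Etale) a.hom bV hbe
    have hfst_s : RepWith @Surjective (pullback.fst a.hom bV) :=
      MorphismProperty.pullback_fst (P := RepWith @Surjective) a.hom bV hbs
    have hb''e : RepWith @Etale (c ≫ pullback.fst a.hom bV) :=
      (RepWith @Etale).comp_mem _ _ hce hfst_e
    have hb''s : RepWith @Surjective (c ≫ pullback.fst a.hom bV) :=
      (RepWith @Surjective).comp_mem _ _ hcs hfst_s
    have hcomp : (c ≫ pullback.fst a.hom bV) ≫ a.hom = (yon S).map β ≫ bV := by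
      rw [hβ, Category.assoc, Category.assoc, pullback.condition]
    obtain ⟨W, U'', p1, h, α, h'', a'', sqW, sqS, ha1, ha2, hP⟩ :=
      exists_cartesian_charts f.hom a.hom b.hom f'.hom sq2 p₀ bV (c ≫ pullback.fst a.hom bV) β hcomp
        hbe.rep
    have hae : RepWith @Etale ((yon S).map p1 ≫ p₀) :=
      repWith_yon_map_comp p1 (prop_fst_of_isPullback sqW hbe) p₀ hpe
    have weq : ((yon S).map p1 ≫ p₀) ≫ f.hom = (yon S).map h ≫ bV := by
      rw [Category.assoc]; exact sqW.w
    have ha''e : RepWith @Etale a'' := hP @Etale hpe hb''e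
    have ha''s : RepWith @Surjective a'' := hP @Surjective hps hb''s
    obtain ⟨u'', rfl⟩ := ofPt_surjective a'' ha''s x'
    have : LocallyOfFiniteType h.left := hf _ bV h hae hbe weq
    change HasAtMor QU f'.hom (Points.ofPt a'' u'') ↔
      HasAtMor QU f.hom (Points.map b.hom (Points.ofPt a'' u''))
    rw [hasAtMor_QU_iff_of_chart f' a'' _ h'' ha''e hb''e ha2 u'',
      QU_iff_of_isPullback h.left h''.left α.left β.left sqS u'',
      ← hasAtMor_QU_iff_of_chart f _ bV h hae hbe weq (α.left u''),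
      ← ofPt_map_comp, ← ha1, ← Points.map_ofPt]

end Groth.Agent.S10312
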