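import Groth.Statements.S10639
-- import your own Groth.Agent.* helpers here
import Groth.Agent.S10312
import Groth.Agent.Lib.Helper36.OpenSubLift

set_option autoImplicit false
universe u
open CategoryTheory CategoryTheory.Limits AlgebraicGeometry
open AlgSp

namespace Groth.Agent.S10639

open Groth.Agent.Lib.Helper36.AlgSpCharts Groth.Agent.Lib.Helper36.AlgSpChartDiag
  Groth.Agent.Lib.Helper36.AlgSpHasAtMor Groth.Agent.Lib.Helper37.AlgSpPoints
  Groth.Agent.Lib.Helper36.OpenSubspace Groth.Agent.S10312

/-- Chart-wise unramifiedness is the same as unramifiedness at every point. -/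
theorem locP_unram_iff_forall_hasAtMor {S : Scheme.{u}} {X Y : AlgSp.Space S} (f : X ⟶ Y) :
    LocP (@LocallyOfFiniteType ⊓ @FormallyUnramified) f.hom ↔
      ∀ x : Points X.obj, HasAtMor QU f.hom x := by
  constructor
  · intro hf x
    obtain ⟨W, V, a, b, h, w, hae, has, hbe, hbs, weq, hw, hv⟩ := exists_chart_diagram_at f x
    have hh := hf a b h hae hbe weq
    refine ⟨W, V, a, b, h, w, hae, hbe, weq, hw, ⊤, trivial, ?_, ?_⟩
    · have : LocallyOfFiniteType h.left := hh.1
      infer_instance
    · have : FormallyUnramified h.left := hh.2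
      exact MorphismProperty.comp_mem _ _ _ inferInstance hh.2
  · intro H U V a b h hae hbe weq
    have key : ∀ u : ↥U.left, QU U.left V.left h.left u := fun u =>
      (hasAtMor_QU_iff_of_chart f a b h hae hbe weq u).1 (H _)
    choose W hW1 hW2 hW3 using key
    have hsup : iSup W = ⊤ := by
      rw [eq_top_iff]
      intro u _
      exact TopologicalSpace.Opens.mem_iSup.2 ⟨u, hW1 u⟩
    exact ⟨IsZariskiLocalAtSource.of_iSup_eq_top W hsup hW2,
      IsZariskiLocalAtSource.of_iSup_eq_top W hsup hW3⟩

/-- For morphisms f : X ⟶ Y, p : X ⟶ Z and q : Y ⟶ Z of algebraic spaces over S with f ≫ q = p, where p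
is closed (the map on points is closed) and locally of finite type, there is an open subspace W of Z
with the following property: a morphism of algebraic spaces g : Z' ⟶ Z factors through W exactly
when the base change X' ⟶ Y' of f along g is unramified (locally of finite type and formally
unramified, etale locally on source and target). Here the base change of f along g is any f' : X' ⟶
Y' obtained from pullback squares Y' = Y ×_Z Z' and X' = X ×_Y Y' of algebraic spaces over S, and W
⊂ Z is given as a representable open immersion w : W ⟶ Z. -/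
theorem result {S : Scheme.{u}} {X Y Z : AlgSp.Space S}
    (f : X ⟶ Y) (p : X ⟶ Z) (q : Y ⟶ Z) (hc : f ≫ q = p)
    (hp1 : AlgSp.LocP @LocallyOfFiniteType p.hom) (hp2 : AlgSp.IsClosedMor p.hom) :
    ∃ (W : AlgSp.Space S) (w : W ⟶ Z), AlgSp.RepWith @IsOpenImmersion w.hom ∧
      ∀ (Z' : AlgSp.Space S) (g : Z' ⟶ Z),
        (∃ k : Z' ⟶ W, k ≫ w = g) ↔
          ∀ (Y' : AlgSp.Space S) (gY : Y' ⟶ Y) (q' : Y' ⟶ Z'),
            IsPullback gY.hom q'.hom q.hom g.hom →
            ∀ (X' : AlgSp.Space S) (gX : X' ⟶ X) (f' : X' ⟶ Y'),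
              IsPullback gX.hom f'.hom f.hom gY.hom →
                AlgSp.LocP (@LocallyOfFiniteType ⊓ @FormallyUnramified) f'.hom := by
  -- the unramified locus of f
  set T : Set (Points X.obj) := {x | HasAtMor QU f.hom x} with hT
  have hTopen : IsOpen T :=
    (Groth.Agent.S10312.result f p q hc hp1 (𝟙 Z) (𝟙 Y) q
      (IsPullback.of_horiz_isIso ⟨by simp⟩) (𝟙 X) f (IsPullback.of_horiz_isIso ⟨by simp⟩)).1
  set WZ : Set (Points Z.obj) := (Points.map p.hom '' Tᶜ)ᶜ with hWZ
  have hWZopen : IsOpen WZ := (hp2 _ hTopen.isClosed_compl).isOpen_compl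
  refine ⟨⟨openSub Z.obj WZ, isAlgSpace_openSub Z.obj Z.property _ hWZopen⟩,
    ObjectProperty.homMk (openSubι Z.obj WZ), repWith_isOpenImmersion_openSubι Z.obj _ hWZopen, ?_⟩
  intro Z' g
  have hpq : p.hom = f.hom ≫ q.hom := by rw [← hc]; rfl
  constructor
  · rintro ⟨k, rfl⟩ Y' gY q' sq1 X' gX f' sq2
    rw [locP_unram_iff_forall_hasAtMor]
    intro x'
    have hbc := (Groth.Agent.S10312.result f p q hc hp1 (k ≫ ObjectProperty.homMk (openSubι Z.obj WZ))
      gY q' sq1 gX f' sq2).2
    have hmem : Points.map gX.hom x' ∈ T := by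
      by_contra hn
      have h1 : Points.map p.hom (Points.map gX.hom x') ∈ WZ := by
        have h2 : Points.map p.hom (Points.map gX.hom x') =
            Points.map (k.hom ≫ openSubι Z.obj WZ) (Points.map q'.hom (Points.map f'.hom x')) := by
          rw [hpq, ← Points.map_comp, ← Points.map_comp, ← Points.map_comp, ← Category.assoc,
            sq2.w, Category.assoc]
          change _ = Points.map (f'.hom ≫ q'.hom ≫ (k ≫ ObjectProperty.homMk (openSubι Z.obj WZ)).hom) x'
          rw [← sq1.w]
        rw [h2]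
        exact range_subset_of_comp_openSubι WZ k.hom ⟨_, rfl⟩
      exact h1 ⟨_, hn, rfl⟩
    have : x' ∈ Points.map gX.hom ⁻¹' T := hmem
    rw [hT, ← hbc] at this
    exact this
  · intro H
    have hrange : Set.range (Points.map g.hom) ⊆ WZ := by
      rintro _ ⟨z', rfl⟩ ⟨x, hxT, hx⟩
      -- the fibre products
      let Y' : AlgSp.Space S := ⟨pullback q.hom g.hom,
        Groth.Agent.Lib.Helper23.AlgSpMor.isAlgSpace_of_isPullback Y.property Z'.property
          Z.property.diag (IsPullback.of_hasPullback q.hom g.hom)⟩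
      let gY : Y' ⟶ Y := ObjectProperty.homMk (pullback.fst q.hom g.hom)
      let q' : Y' ⟶ Z' := ObjectProperty.homMk (pullback.snd q.hom g.hom)
      have sq1 : IsPullback gY.hom q'.hom q.hom g.hom := IsPullback.of_hasPullback q.hom g.hom
      let X' : AlgSp.Space S := ⟨pullback f.hom gY.hom,
        Groth.Agent.Lib.Helper23.AlgSpMor.isAlgSpace_of_isPullback X.property Y'.property
          Y.property.diag (IsPullback.of_hasPullback f.hom gY.hom)⟩
      let gX : X' ⟶ X := ObjectProperty.homMk (pullback.fst f.hom gY.hom)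
      let f' : X' ⟶ Y' := ObjectProperty.homMk (pullback.snd f.hom gY.hom)
      have sq2 : IsPullback gX.hom f'.hom f.hom gY.hom := IsPullback.of_hasPullback f.hom gY.hom
      have e1 : Points.map q.hom (Points.map f.hom x) = Points.map g.hom z' := by
        rw [← Points.map_comp, ← hpq]; exact hx
      obtain ⟨y', hy'1, hy'2⟩ := points_exists_of_isPullback sq1 (Points.map f.hom x) z' e1
      obtain ⟨x', hx'1, hx'2⟩ := points_exists_of_isPullback sq2 x y' hy'1.symm
      have hLoc := H Y' gY q' sq1 X' gX f' sq2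
      have hx' : HasAtMor QU f'.hom x' := (locP_unram_iff_forall_hasAtMor f').1 hLoc x'
      have hbc := (Groth.Agent.S10312.result f p q hc hp1 g gY q' sq1 gX f' sq2).2
      have : x' ∈ Points.map gX.hom ⁻¹' T := by
        rw [hT, ← hbc]; exact hx'
      exact hxT (hx'1 ▸ this)
    obtain ⟨k, hk⟩ := exists_lift_openSub_of_range g.hom WZ hrange
    exact ⟨ObjectProperty.homMk k, ObjectProperty.hom_ext _ hk⟩

end Groth.Agent.S10639
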