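import Groth.Statements.S10593
-- import your own Groth.Agent.* helpers here
import Groth.Agent.S10639
import Groth.Agent.S10313
import Groth.Agent.Lib.Helper37.UnivTop

set_option autoImplicit false
universe u
open CategoryTheory CategoryTheory.Limits AlgebraicGeometry
open AlgSp

namespace Groth.Agent.S10593

open Groth.Agent.Lib.Helper36.AlgSpCharts Groth.Agent.Lib.Helper36.AlgSpChartDiag
  Groth.Agent.Lib.Helper36.AlgSpHasAtMor Groth.Agent.Lib.Helper37.AlgSpPoints
  Groth.Agent.Lib.Helper36.QFLocus Groth.Agent.Lib.Helper36.QuasiFiniteAt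
  Groth.Agent.S10312 Groth.Agent.S10639

/-- Chart-wise local quasi-finiteness is membership of every point in the quasi-finite locus. -/
theorem locP_lqf_iff_forall_mem_qfLocus {S : Scheme.{u}} {X Y : AlgSp.Space S} (f : X ⟶ Y)
    (hf : LocP @LocallyOfFiniteType f.hom) :
    LocP (@LocallyQuasiFinite ⊓ @LocallyOfFiniteType) f.hom ↔ ∀ x : Points X.obj, x ∈ qfLocus f := by
  constructor
  · intro H x
    obtain ⟨W, V, a, b, h, w, hae, has, hbe, hbs, weq, hw, hv⟩ := exists_chart_diagram_at f x
    have hh := H a b h hae hbe weq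
    have : LocallyOfFiniteType h.left := hh.2
    have : LocallyQuasiFinite h.left := hh.1
    rw [← hw, mem_qfLocus_iff_of_chart f hf a b h hae hbe weq w]
    exact Scheme.Hom.quasiFiniteAt _ _
  · intro H U V a b h hae hbe weq
    have hlft : LocallyOfFiniteType h.left := hf a b h hae hbe weq
    refine ⟨?_, hlft⟩
    have key : ∀ u : ↥U.left, ∃ W : U.left.Opens, u ∈ W ∧ LocallyQuasiFinite (W.ι ≫ h.left) ∧
        LocallyOfFiniteType (W.ι ≫ h.left) := fun u =>
      (exists_opens_lqf_iff_quasiFiniteAt h.left u).2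
        ((mem_qfLocus_iff_of_chart f hf a b h hae hbe weq u).1 (H _))
    choose W hW1 hW2 hW3 using key
    have hsup : iSup W = ⊤ := by
      rw [eq_top_iff]
      intro u _
      exact TopologicalSpace.Opens.mem_iSup.2 ⟨u, hW1 u⟩
    exact IsZariskiLocalAtSource.of_iSup_eq_top W hsup hW2

/-- The unramified locus commutes with base change (for `f` locally of finite type). -/
theorem hasAtMor_QU_iff_of_isPullback {S : Scheme.{u}} {X Y Y' X' : AlgSp.Space S} (f : X ⟶ Y)
    (hf : LocP @LocallyOfFiniteType f.hom) (a : Y' ⟶ Y) (b : X' ⟶ X) (f' : X' ⟶ Y')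
    (sq : IsPullback b.hom f'.hom f.hom a.hom) (x' : Points X'.obj) :
    HasAtMor QU f'.hom x' ↔ HasAtMor QU f.hom (Points.map b.hom x') := by
  have h := (Groth.Agent.S10312.result f f (𝟙 Y) (Category.comp_id f) hf a a (𝟙 Y')
    (IsPullback.of_vert_isIso ⟨by simp⟩) b f' sq).2
  exact Set.ext_iff.1 h x'

/-- Consider a morphism (f, f') from the thickening X ⊂ X' to the thickening Y ⊂ Y' of algebraic spaces
over S, meaning: i : X ⟶ X' and j : Y ⟶ Y' are thickenings (representable, every base change to a
scheme a surjective closed immersion) and i ≫ f' = f ≫ j. Assume moreover that the square is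
cartesian (X = Y ×_{Y'} X') and that f and f' are locally of finite type. Then f is locally
quasi-finite, resp. unramified, if and only if f' is (etale-local sense, both notions including
locally of finite type). -/
theorem result {S : Scheme.{u}} {X X' Y Y' : AlgSp.Space S} (i : X ⟶ X') (j : Y ⟶ Y')
    (f : X ⟶ Y) (f' : X' ⟶ Y')
    (hi : AlgSp.IsThickMor i.hom)
    (hj : AlgSp.IsThickMor j.hom) (w : i ≫ f' = f ≫ j)
    (hcart : IsPullback i.hom f.hom f'.hom j.hom)
    (hft : AlgSp.LocP @LocallyOfFiniteType f.hom) (hft' : AlgSp.LocP @LocallyOfFiniteType f'.hom) :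
    (AlgSp.LocP (@LocallyQuasiFinite ⊓ @LocallyOfFiniteType) f.hom ↔
      AlgSp.LocP (@LocallyQuasiFinite ⊓ @LocallyOfFiniteType) f'.hom) ∧
    (AlgSp.LocP (@LocallyOfFiniteType ⊓ @FormallyUnramified) f.hom ↔
      AlgSp.LocP (@LocallyOfFiniteType ⊓ @FormallyUnramified) f'.hom) := by
  have hi' := (repWith_iff AlgSp.thick i.hom).1 hi
  have his : RepWith @Surjective i.hom :=
    (repWith_iff _ _).2 ⟨hi'.1, fun _ _ g fst snd sq => (hi'.2 g fst snd sq).2⟩
  have hsurj : Function.Surjective (Points.map i.hom) :=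
    Groth.Agent.Lib.Helper37.UnivTop.surjective_points_of_repWith i.hom his
  constructor
  · rw [locP_lqf_iff_forall_mem_qfLocus f hft, locP_lqf_iff_forall_mem_qfLocus f' hft']
    constructor
    · intro H x'
      obtain ⟨x, rfl⟩ := hsurj x'
      exact (Groth.Agent.S10313.mem_qfLocus_iff_of_isPullback f' hft' j i f hcart hft x).1 (H x)
    · intro H x
      exact (Groth.Agent.S10313.mem_qfLocus_iff_of_isPullback f' hft' j i f hcart hft x).2 (H _)
  · rw [locP_unram_iff_forall_hasAtMor f, locP_unram_iff_forall_hasAtMor f']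
    constructor
    · intro H x'
      obtain ⟨x, rfl⟩ := hsurj x'
      exact (hasAtMor_QU_iff_of_isPullback f' hft' j i f hcart x).1 (H x)
    · intro H x
      exact (hasAtMor_QU_iff_of_isPullback f' hft' j i f hcart x).2 (H _)

end Groth.Agent.S10593
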