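import Groth.Statements.S10614
import Groth.Agent.S10613
import Groth.Agent.Lib.Helper23.ProperClosed2
import Groth.Agent.Lib.Helper17.DiagLft

set_option autoImplicit false
universe u
open CategoryTheory CategoryTheory.Limits AlgebraicGeometry
open AlgSp

namespace Groth.Agent.S10614

/-- For a morphism f : X ⟶ Y of algebraic spaces over S, being a closed immersion (representable by
closed immersions) is equivalent to each of: (a) universally closed plus unramified plus
monomorphism; (b) universally closed plus unramified plus universally injective; (c) a universally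
closed monomorphism that is locally of finite type; (d) universally closed, universally injective,
locally of finite type and formally unramified (lifting sense). (Unramified is the etale-local
condition locally of finite type and formally unramified on charts; monomorphisms are taken in fppf
sheaves.) -/
theorem result {S : Scheme.{u}} {X Y : AlgSp.Space S} (f : X ⟶ Y) :
    (AlgSp.RepWith @IsClosedImmersion f.hom ↔
      (AlgSp.IsUnivClosedMor f.hom ∧ AlgSp.LocP (@LocallyOfFiniteType ⊓ @FormallyUnramified) f.hom ∧ Mono f.hom)) ∧
    (AlgSp.RepWith @IsClosedImmersion f.hom ↔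
      (AlgSp.IsUnivClosedMor f.hom ∧ AlgSp.LocP (@LocallyOfFiniteType ⊓ @FormallyUnramified) f.hom ∧ AlgSp.IsUnivInjectiveMor f.hom)) ∧
    (AlgSp.RepWith @IsClosedImmersion f.hom ↔
      (AlgSp.IsUnivClosedMor f.hom ∧ AlgSp.LocP @LocallyOfFiniteType f.hom ∧ Mono f.hom)) ∧
    (AlgSp.RepWith @IsClosedImmersion f.hom ↔
      (AlgSp.IsUnivClosedMor f.hom ∧ AlgSp.IsUnivInjectiveMor f.hom ∧ AlgSp.LocP @LocallyOfFiniteType f.hom ∧
        AlgSp.IsFormallyUnramifiedMor f.hom)) := by

  obtain ⟨e1, e2, e3, himp⟩ := Groth.Agent.S10613.result f
  have key : RepWith @IsClosedImmersion f.hom ↔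
      (IsUnivClosedMor f.hom ∧ LocP @LocallyOfFiniteType f.hom ∧ Mono f.hom) := by
    constructor
    · intro hf
      exact ⟨Groth.Agent.Lib.Helper23.ClosedDescent.isUnivClosedMor_of_repWith_isClosedImmersion f.hom hf,
        Groth.Agent.Lib.Helper23.ClosedDescent.locP_lft_of_repWith_isClosedImmersion X.property Y.property
          f.hom hf,
        Groth.Agent.Lib.Helper23.ClosedDescent.mono_of_repWith_isClosedImmersion f.hom hf⟩
    · rintro ⟨huc, hlft, hm⟩
      obtain ⟨hrep, hsep, hlqf⟩ := himp ⟨hlft, hm⟩
      refine ⟨hrep, fun U V t fst g sq => ?_⟩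
      change IsClosedImmersion g.left
      have hmono : Mono ((yon S).map g) :=
        (MorphismProperty.monomorphisms (Sp S)).of_isPullback sq hm
      haveI : Mono g := (yon S).mono_of_mono_map hmono
      haveI : Mono g.left := inferInstance
      haveI huc' : UniversallyClosed g.left :=
        (Groth.Agent.Lib.Helper23.AlgSpMor.repWith_universallyClosed_of_isUnivClosedMor f.hom hrep
          huc).property t fst g sq
      haveI hlft' : LocallyOfFiniteType g.left :=
        locP_yon_map (Groth.Agent.Lib.Helper17.DL.lft_bc X.property Y.property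
          (IsAlgSpace.yon_obj V) (IsAlgSpace.yon_obj U) f.hom t ((yon S).map g) fst sq hlft)
      haveI : IsProper g.left := {}
      exact (IsClosedImmersion.iff_isProper_and_mono _).2 ⟨inferInstance, inferInstance⟩
  exact ⟨key.trans (and_congr Iff.rfl e2.symm), key.trans (and_congr Iff.rfl (e2.symm.trans e1)),
    key, key.trans (and_congr Iff.rfl (e2.symm.trans e3))⟩

end Groth.Agent.S10614
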