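import Groth.Statements.S10649
import Groth.Agent.Lib.Helper23.SLQSplit5
import Groth.Agent.S10271

set_option autoImplicit false
universe u
open CategoryTheory CategoryTheory.Limits AlgebraicGeometry
open AlgSp

namespace Groth.Agent.S10649

open Groth.Agent.Lib.Helper23.SLQSplit

/-- The following conditions on a morphism f : X ⟶ Y of algebraic spaces over S are equivalent: (1)
finiteness of f; (2) f is locally quasi-finite as well as proper (locally quasi-finite and locally
of finite type etale locally); (3) f is proper and for every field k and every k-point Spec k ⟶ Y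
the fibre X_k (any pullback of f along it in fppf sheaves) has discrete space of points; (4) f is
universally closed, separated and locally of finite type, and every such fibre X_k has discrete
space of points. -/
theorem result {S : Scheme.{u}} {X Y : AlgSp.Space S} (f : X ⟶ Y) :
    [AlgSp.IsFiniteMor f.hom,
      AlgSp.IsProperMor f.hom ∧ AlgSp.LocP (@LocallyQuasiFinite ⊓ @LocallyOfFiniteType) f.hom,
      AlgSp.IsProperMor f.hom ∧
        ∀ (k : AlgSp.FieldPt Y.obj) (Xk : AlgSp.Sp S) (fst : Xk ⟶ X.obj) (snd : Xk ⟶ (AlgSp.yon S).obj k.pt),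
          IsPullback fst snd f.hom k.toHom → DiscreteTopology (AlgSp.Points Xk),
      AlgSp.IsUnivClosedMor f.hom ∧ AlgSp.IsSeparatedMor f.hom ∧ AlgSp.LocP @LocallyOfFiniteType f.hom ∧
        ∀ (k : AlgSp.FieldPt Y.obj) (Xk : AlgSp.Sp S) (fst : Xk ⟶ X.obj) (snd : Xk ⟶ (AlgSp.yon S).obj k.pt),
          IsPullback fst snd f.hom k.toHom → DiscreteTopology (AlgSp.Points Xk)].TFAE := by
  tfae_have 1 → 2 := by
    intro hf
    have hprop := ((Groth.Agent.S10271.result f).1 hf).2
    have hrep : RepWith @IsFinite f.hom := by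
      refine Groth.Agent.Lib.Helper5.LocalRep.repWith_of_affine_test @IsFinite f.hom ?_
      intro Z hZ g
      obtain ⟨W, i, fst, sq, -, hi⟩ := hf hZ g
      exact ⟨W, i, fst, sq, hi⟩
    refine ⟨hprop, Groth.Agent.S9961.locP_of_repWith
      Groth.Agent.Lib.Helper30.EtLocalInst.etLocal_lqf ?_ Y.property f.hom hrep⟩
    intro A B g hg
    haveI : IsFinite g := hg
    exact ⟨inferInstance, inferInstance⟩
  tfae_have 2 → 3 := by
    rintro ⟨hp, hq⟩
    exact ⟨hp, fun k Xk fst snd sq =>
      discreteTopology_points_fibre_of_lqf f hp.1 hq k Xk fst snd sq⟩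
  tfae_have 3 → 4 := by
    rintro ⟨⟨hsep, ⟨hlft, -⟩, huc⟩, hd⟩
    exact ⟨huc, hsep, hlft, hd⟩
  tfae_have 4 → 1 := by
    rintro ⟨huc, hsep, hlft, hd⟩
    have hqs : IsQuasiSeparatedMor f.hom :=
      Groth.Agent.Lib.Helper23.AlgSpMor.repWith_quasiCompact_of_isClosedImmersion _ hsep
    exact isFiniteMor_of_sep_uc_lqf f hsep huc (locP_lqf_of_discrete_fibres f hlft hqs hd)
  tfae_finish

end Groth.Agent.S10649
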