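import Groth.Statements.S10594
import Groth.Agent.Lib.Helper23.DeformImm
import Groth.Agent.S10587
import Groth.Agent.S10589
import Groth.Agent.S10593
import Groth.Agent.S10649
import Groth.Agent.S10614

set_option autoImplicit false
universe u
open CategoryTheory CategoryTheory.Limits AlgebraicGeometry
open AlgSp

namespace Groth.Agent.S10594

/-- Consider a morphism (f, f') from the thickening X ⊂ X' to the thickening Y ⊂ Y' of algebraic spaces
over S, meaning: i : X ⟶ X' and j : Y ⟶ Y' are thickenings (representable, every base change to a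
scheme a surjective closed immersion) and i ≫ f' = f ≫ j. Assume moreover that the square is
cartesian (X = Y ×_{Y'} X') and that f and f' are locally of finite type. Then f is finite, resp. a
closed immersion, resp. an immersion, resp. proper, if and only if f' is (immersions of algebraic
spaces being the representable ones). -/
theorem result {S : Scheme.{u}} {X X' Y Y' : AlgSp.Space S} (i : X ⟶ X') (j : Y ⟶ Y')
    (f : X ⟶ Y) (f' : X' ⟶ Y')
    (hi : AlgSp.IsThickMor i.hom)
    (hj : AlgSp.IsThickMor j.hom) (w : i ≫ f' = f ≫ j)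
    (hcart : IsPullback i.hom f.hom f'.hom j.hom)
    (hft : AlgSp.LocP @LocallyOfFiniteType f.hom) (hft' : AlgSp.LocP @LocallyOfFiniteType f'.hom) :
    (AlgSp.IsFiniteMor f.hom ↔ AlgSp.IsFiniteMor f'.hom) ∧
    (AlgSp.RepWith @IsClosedImmersion f.hom ↔ AlgSp.RepWith @IsClosedImmersion f'.hom) ∧
    (AlgSp.RepWith @IsImmersion f.hom ↔ AlgSp.RepWith @IsImmersion f'.hom) ∧
    (AlgSp.IsProperMor f.hom ↔ AlgSp.IsProperMor f'.hom) := by
  obtain ⟨-, hqc, huc, hui, -⟩ := Groth.Agent.S10587.result i j f f' hi hj w
  obtain ⟨hsep, -⟩ := Groth.Agent.S10589.result i j f f' hi hj w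
  obtain ⟨hlqf, hunr⟩ := Groth.Agent.S10593.result i j f f' hi hj w hcart hft hft'
  have hlft : LocP @LocallyOfFiniteType f.hom ↔ LocP @LocallyOfFiniteType f'.hom :=
    ⟨fun _ => hft', fun _ => hft⟩
  have hproper : IsProperMor f.hom ↔ IsProperMor f'.hom :=
    and_congr hsep (and_congr (and_congr hlft hqc) huc)
  have hfin : IsFiniteMor f.hom ↔ IsFiniteMor f'.hom := by
    have h1 := (Groth.Agent.S10649.result f).out 0 1
    have h2 := (Groth.Agent.S10649.result f').out 0 1
    rw [h1, h2]
    exact and_congr hproper hlqf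
  have hCIgen : ∀ {U U' : AlgSp.Space S} (jU : U ⟶ U') (l : X ⟶ U) (l' : X' ⟶ U'),
      IsThickMor jU.hom → i ≫ l' = l ≫ jU → IsPullback i.hom l.hom l'.hom jU.hom →
      LocP @LocallyOfFiniteType l.hom → LocP @LocallyOfFiniteType l'.hom →
      (RepWith @IsClosedImmersion l.hom ↔ RepWith @IsClosedImmersion l'.hom) := by
    intro U U' jU l l' hjU wl sq h1 h2
    obtain ⟨-, -, huc, hui, -⟩ := Groth.Agent.S10587.result i jU l l' hi hjU wl
    obtain ⟨-, hunr⟩ := Groth.Agent.S10593.result i jU l l' hi hjU wl sq h1 h2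
    rw [(Groth.Agent.S10614.result l).2.1, (Groth.Agent.S10614.result l').2.1]
    exact and_congr huc (and_congr hunr hui)
  exact ⟨hfin, hCIgen j f f' hj w hcart hft hft',
    ⟨Groth.Agent.Lib.Helper23.DeformImm.immersion_deform i j f f' hi hj w hcart hft'
      (fun jU l l' a b c d e => (hCIgen jU l l' a b c d e).1),
      fun h => MorphismProperty.of_isPullback (P := RepWith @IsImmersion) hcart h⟩, hproper⟩

end Groth.Agent.S10594
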