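import Groth.Statements.S10047
import Groth.Agent.S10594
import Groth.Agent.Lib.Helper23.ThickFP
import Groth.Agent.Lib.Helper23.AlgSpMor
import Groth.Agent.Lib.Helper23.AlgSpMor4
import Groth.Agent.Lib.Helper23.ProperClosed2
import Groth.Agent.Lib.Helper36.Thickening
import Groth.Agent.Lib.Helper36.ThickFT

set_option autoImplicit false
universe u
open CategoryTheory CategoryTheory.Limits AlgebraicGeometry
open AlgSp

namespace Groth.Agent.S10047

/-- Let `f : X ⟶ B` and `g : B' ⟶ B` be morphisms of algebraic spaces over `S` with `g` a closed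
immersion inducing a bijection on points, and suppose the base change `X ×_B B' ⟶ B'` is a closed
immersion. If `f` is of finite type or `g` is of finite presentation, then `f` is a closed
immersion. -/
theorem result (S : Scheme.{u}) {X B B' : AlgSp.Space S}
    (f : X ⟶ B) (g : B' ⟶ B) (hg : AlgSp.RepWith @IsClosedImmersion g.hom)
    (hbij : Function.Bijective (AlgSp.Points.map g.hom))
    (X' : AlgSp.Sp S) (fst : X' ⟶ X.obj) (snd : X' ⟶ B'.obj) (hX' : IsPullback fst snd f.hom g.hom)
    (hsnd : AlgSp.RepWith @IsClosedImmersion snd)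
    (hor : AlgSp.IsFiniteTypeMor f.hom ∨ AlgSp.IsFinitePresentationMor g.hom) :
    AlgSp.RepWith @IsClosedImmersion f.hom := by
  have hs' := Groth.Agent.Lib.Helper23.AlgSpMor.repWith_surjective_of_isSurjectiveMor g.hom hg.rep
    hbij.2
  have hgth : IsThickMor g.hom :=
    ⟨hg.rep, fun U V u a w sq => ⟨hg.property u a w sq, hs'.property u a w sq⟩⟩
  have hX'sp : IsAlgSpace X' :=
    Groth.Agent.Lib.Helper23.AlgSpMor.isAlgSpace_of_isPullback X.property B'.property
      B.property.diag hX'
  let X'' : AlgSp.Space S := ⟨X', hX'sp⟩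
  let i : X'' ⟶ X := ObjectProperty.homMk fst
  let sndm : X'' ⟶ B' := ObjectProperty.homMk snd
  have hith : IsThickMor i.hom :=
    Groth.Agent.Lib.Helper36.Thickening.isThickMor_of_isPullback hX'.flip hgth
  have w : i ≫ f = sndm ≫ g := ObjectProperty.hom_ext _ hX'.w
  have hcart : IsPullback i.hom sndm.hom f.hom g.hom := hX'
  have hsndlft : LocP @LocallyOfFiniteType sndm.hom :=
    Groth.Agent.Lib.Helper23.ClosedDescent.locP_lft_of_repWith_isClosedImmersion hX'sp B'.property snd
      hsnd
  have hflft : LocP @LocallyOfFiniteType f.hom := by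
    rcases hor with h1 | h2
    · exact h1.1
    · intro U V a b h ha hb e
      obtain ⟨U₀, V₀, a₀, b₀, h₀, iU, jV, hae, hbe, comm, sqa, sqb, sqk, hthU, hthV⟩ :=
        Groth.Agent.Lib.Helper36.ThickFT.exists_pullback_chart_diagram i.hom g.hom sndm.hom f.hom
          hith hgth hcart a b h ha hb e
      haveI : LocallyOfFiniteType h₀.left := hsndlft a₀ b₀ h₀ hae hbe comm
      haveI : LocallyOfFinitePresentation jV.left := h2.1 b₀ b jV hbe hb sqb.w
      haveI : IsClosedImmersion jV.left := hthV.1
      haveI : Surjective jV.left := hthV.2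
      exact Groth.Agent.Lib.Helper23.ThickFP.locallyOfFiniteType_of_isPullback_of_lfp sqk
  exact ((Groth.Agent.S10594.result i g sndm f hith hgth w hcart hsndlft hflft).2.1).1 hsnd

end Groth.Agent.S10047
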