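import Groth.Statements.S10053
import Groth.Agent.Lib.Helper23.AlgSpUnivClosedAn2
import Groth.Agent.Lib.Helper23.AlgSpClosed2
import Groth.Agent.Lib.Helper30.EtLocalInst
import Groth.Agent.Lib.Helper46.LocPChart

set_option autoImplicit false
universe u
open CategoryTheory CategoryTheory.Limits AlgebraicGeometry
open AlgSp

namespace Groth.Agent.S10053

open Groth.Agent.Lib.Helper23.AlgSpMor

/-- For a quasi-compact morphism `f : X ⟶ Y` of algebraic spaces over `S` these conditions are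
equivalent: (1) `f` is universally closed; (2) for every `Z ⟶ Y` locally of finite presentation,
with `Z` an algebraic space, the map `|X ×_Y Z| → |Z|` is closed; (3) for some scheme `V` with a
surjective etale morphism `V ⟶ Y`, the maps `|X ×_Y 𝐀^n_V| → |𝐀^n_V|` are closed for all `n`. Stated
as (1) ↔ (2) and (1) ↔ (3). -/
theorem result (S : Scheme.{u}) {X Y : AlgSp.Space S} (f : X ⟶ Y)
    (hqc : AlgSp.IsQuasiCompactMor f.hom) :
    (AlgSp.IsUnivClosedMor f.hom ↔
      ∀ (Z : AlgSp.Space S) (g : Z ⟶ Y), AlgSp.LocP @LocallyOfFinitePresentation g.hom →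
        ∀ (P : AlgSp.Sp S) (fst : P ⟶ X.obj) (snd : P ⟶ Z.obj), IsPullback fst snd f.hom g.hom →
          IsClosedMap (AlgSp.Points.map snd)) ∧
    (AlgSp.IsUnivClosedMor f.hom ↔
      ∃ (V : Over S) (p : (AlgSp.yon S).obj V ⟶ Y.obj), AlgSp.RepWith @Etale p ∧ AlgSp.RepWith @Surjective p ∧
        ∀ (n : ℕ) (P : AlgSp.Sp S) (fst : P ⟶ X.obj)
          (snd : P ⟶ (AlgSp.yon S).obj (Over.mk ((𝔸(ULift.{u} (Fin n); V.left) ↘ V.left) ≫ V.hom))),
          IsPullback fst snd f.hom ((AlgSp.yon S).map (Over.homMk (𝔸(ULift.{u} (Fin n); V.left) ↘ V.left)) ≫ p) →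
            IsClosedMap (AlgSp.Points.map snd)) := by
  have hX : IsAlgSpace X.obj := X.property
  have hY : IsAlgSpace Y.obj := Y.property
  have key31 : ∀ (V : Over S) (p : (yon S).obj V ⟶ Y.obj), RepWith @Etale p →
      RepWith @Surjective p → (∀ n : ℕ, ClosedOver f.hom ((yon S).map (affSpπ V n) ≫ p)) →
      IsUnivClosedMor f.hom := by
    intro V p hpe hps H3
    have sq : IsPullback (pullback.fst f.hom p) (pullback.snd f.hom p) f.hom p :=
      IsPullback.of_hasPullback _ _
    refine isUnivClosedMor_of_etale_cover hY (IsAlgSpace.yon_obj V) f.hom p hpe hps sq ?_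
    rw [isUnivClosedMor_iff_affine]
    intro Z _ g P fst snd sqZ
    obtain ⟨τ, rfl⟩ := (yon S).map_surjective g
    have h := closedOver_of_affSp hX hY f.hom hqc p H3 τ
    exact (closedOver_iff_of_isPullback (sqZ.paste_horiz sq)).1 h
  refine ⟨⟨fun h Z g _ P fst snd sq => h Z.property g.hom fst snd sq, fun H2 => ?_⟩,
    ⟨fun h => ?_, fun H3 => ?_⟩⟩
  · obtain ⟨V, p, hpe, hps⟩ := hY.atlas
    refine key31 V p hpe hps fun n => ?_
    have hl : LocP @LocallyOfFinitePresentation ((yon S).map (affSpπ V n) ≫ p) := by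
      refine Groth.Agent.Lib.Helper46.LocPChart.locP_of_chart Groth.Agent.Lib.Helper30.EtLocalInst.etLocal_lfp
        ((yon S).map (affSpπ V n) ≫ p) (𝟙 _) p (affSpπ V n)
        (repWith_id _ _) (repWith_id _ _) hpe (by simp) ?_
      change LocallyOfFinitePresentation (𝔸(ULift.{u} (Fin n); V.left) ↘ V.left)
      infer_instance
    exact H2 ⟨(yon S).obj (affSp V n), IsAlgSpace.yon_obj _⟩
      (ObjectProperty.homMk ((yon S).map (affSpπ V n) ≫ p)) hl _ _ _
      (IsPullback.of_hasPullback _ _)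
  · obtain ⟨V, p, hpe, hps⟩ := hY.atlas
    exact ⟨V, p, hpe, hps, fun n P fst snd sq => h (IsAlgSpace.yon_obj _) _ fst snd sq⟩
  · obtain ⟨V, p, hpe, hps, H⟩ := H3
    exact key31 V p hpe hps fun n => H n _ _ _ (IsPullback.of_hasPullback _ _)

end Groth.Agent.S10053
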