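import Groth.Statements.S10055
import Groth.Agent.Lib.Helper23.LimAffRep3
import Groth.Agent.Lib.Helper23.LimPull
import Groth.Agent.Lib.Helper5.LocalRep
import Mathlib.AlgebraicGeometry.AffineTransitionLimit
import Mathlib.AlgebraicGeometry.Morphisms.ClosedImmersion

set_option autoImplicit false
universe u
open CategoryTheory CategoryTheory.Limits AlgebraicGeometry
open AlgSp

namespace Groth.Agent.S10055

open Groth.Agent.Lib.Helper23.LimAffRep Groth.Agent.Lib.Helper23.LimPull

/-- Let `(X_i) ⟶ (Y_i)` be a morphism of cofiltered systems of algebraic spaces over `S`, both with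
affine transition morphisms, with every `X_i ⟶ Y_i` a closed immersion. Then the induced morphism of
limits (in fppf sheaves) `lim X_i ⟶ lim Y_i` is a closed immersion. -/
theorem result (S : Scheme.{u}) {I : Type u} [SmallCategory I] [IsCofiltered I]
    (DX DY : I ⥤ AlgSp.Sp S) (hDX : ∀ i, AlgSp.IsAlgSpace (DX.obj i)) (hDY : ∀ i, AlgSp.IsAlgSpace (DY.obj i))
    (hXa : ∀ (i j : I) (φ : i ⟶ j), AlgSp.IsAffineMor (DX.map φ)) (hYa : ∀ (i j : I) (φ : i ⟶ j), AlgSp.IsAffineMor (DY.map φ))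
    (τ : DX ⟶ DY) (hτ : ∀ i, AlgSp.RepWith @IsClosedImmersion (τ.app i))
    (cX : Cone DX) (hcX : IsLimit cX) (cY : Cone DY) (hcY : IsLimit cY)
    (g : cX.pt ⟶ cY.pt) (hg : ∀ i, g ≫ cY.π.app i = cX.π.app i ≫ τ.app i) :
    AlgSp.RepWith @IsClosedImmersion g := by
  refine Groth.Agent.Lib.Helper5.LocalRep.repWith_of_affine_test @IsClosedImmersion g ?_
  intro Z hZ h
  haveI : IsAffine Z.left := hZ
  let W : I → Over S := fun i => (hτ i).rep.pullback (h ≫ cY.π.app i)
  let iW : ∀ i, W i ⟶ Z := fun i => (hτ i).rep.snd (h ≫ cY.π.app i)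
  have sq : ∀ i, IsPullback ((hτ i).rep.fst (h ≫ cY.π.app i)) ((yon S).map (iW i)) (τ.app i)
      (h ≫ cY.π.app i) := fun i => (hτ i).rep.isPullback _
  have hci : ∀ i, IsClosedImmersion (iW i).left := fun i => (hτ i).property_snd _
  have hWaff : ∀ i, IsAffine (W i).left := fun i => by
    haveI := hci i
    exact (IsClosedImmersion.isAffine_surjective_of_isAffine (f := (iW i).left)).1
  let e : ∀ i, (yon S).obj (W i) ≅ (pullDiag τ cY h).obj i := fun i => (sq i).isoPullback
  have he : ∀ i, (e i).hom ≫ psnd τ cY h i = (yon S).map (iW i) :=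
    fun i => (sq i).isoPullback_hom_snd
  obtain ⟨hlim⟩ := isLimitPullCone τ cX hcX cY g hg h hcY
  have hconn : IsConnected I := IsCofiltered.isConnected I
  obtain ⟨c', κ, ⟨hc'⟩, haff, hκ⟩ := exists_limit_of_rep (pullDiag τ cY h) W e hWaff _ hlim
  obtain ⟨iW', hiW'⟩ := (yon S).map_surjective (κ.hom ≫ csnd τ cX cY g hg h)
  have hcompat : ∀ i, c'.π.app i ≫ iW i = iW' := by
    intro i
    apply (yon S).map_injective
    have h1 : (yon S).map (c'.π.app i ≫ iW i) =
        (yon S).map (c'.π.app i) ≫ (e i).hom ≫ psnd τ cY h i :=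
      ((yon S).map_comp _ _).trans (congrArg (fun m => (yon S).map (c'.π.app i) ≫ m) (he i).symm)
    have h2 : (yon S).map (c'.π.app i) ≫ (e i).hom ≫ psnd τ cY h i = (yon S).map iW' :=
      calc (yon S).map (c'.π.app i) ≫ (e i).hom ≫ psnd τ cY h i
          = ((yon S).map (c'.π.app i) ≫ (e i).hom) ≫ psnd τ cY h i := (Category.assoc _ _ _).symm
        _ = (κ.hom ≫ (pullCone τ cX cY g hg h).π.app i) ≫ psnd τ cY h i :=
            congrArg (fun m => m ≫ psnd τ cY h i) (hκ i).symm
        _ = κ.hom ≫ ((pullCone τ cX cY g hg h).π.app i ≫ psnd τ cY h i) := Category.assoc _ _ _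
        _ = κ.hom ≫ csnd τ cX cY g hg h :=
            congrArg (fun m => κ.hom ≫ m) (pullCone_psnd τ cX cY g hg h i)
        _ = (yon S).map iW' := hiW'.symm
    exact h1.trans h2
  refine ⟨c'.pt, iW', κ.hom ≫ cfst τ cX cY g hg h, ?_, ?_⟩
  · refine IsPullback.of_iso_pullback ⟨?_⟩ κ rfl ?_
    · rw [hiW', Category.assoc, Category.assoc, ccond]
    · rw [hiW']
      rfl
  · haveI : IsAffine c'.pt.left := haff
    refine IsClosedImmersion.of_surjective_of_isAffine iW'.left ?_
    intro s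
    haveI : ∀ i, IsAffine ((liftDiag (pullDiag τ cY h) W e ⋙ Over.forget S).obj i) := hWaff
    obtain ⟨i, t, ht⟩ := exists_appTop_π_eq_of_isAffine_of_isLimit
      (liftDiag (pullDiag τ cY h) W e ⋙ Over.forget S) ((Over.forget S).mapCone c') hc' s
    haveI := hci i
    obtain ⟨a, ha⟩ := (IsClosedImmersion.isAffine_surjective_of_isAffine (f := (iW i).left)).2 t
    refine ⟨a, ?_⟩
    rw [← ht, ← ha, ← hcompat i]
    change ((c'.π.app i).left ≫ (iW i).left).appTop a = _
    rw [Scheme.Hom.comp_appTop]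
    rfl

end Groth.Agent.S10055
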