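import Groth.Statements.S10056
import Groth.Agent.Lib.Helper23.LimChart
import Groth.Agent.Lib.Helper23.LimRed
import Groth.Agent.Lib.Helper46.RedDescent

set_option autoImplicit false
universe u
open CategoryTheory CategoryTheory.Limits AlgebraicGeometry
open AlgSp

namespace Groth.Agent.S10056

open Groth.Agent.Lib.Helper23.LimChart Groth.Agent.Lib.Helper23.LimRed
open Groth.Agent.Lib.Helper46.RedDescent

/-- Let `X` be the limit, in fppf sheaves over `S`, of a cofiltered system `(X_i)` of algebraic spaces
over `S` whose transition maps are affine. If each `X_i` is reduced, then `X` is reduced. (The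
published statement does not restate that the transition morphisms are affine; the limit it refers
to is formed under that assumption, which this row states.) -/
theorem result (S : Scheme.{u}) {I : Type u} [SmallCategory I] [IsCofiltered I]
    (D : I ⥤ AlgSp.Sp S) (hD : ∀ i, AlgSp.IsAlgSpace (D.obj i))
    (hDa : ∀ (i j : I) (φ : i ⟶ j), AlgSp.IsAffineMor (D.map φ))
    (c : Cone D) (hc : IsLimit c)
    (hred : ∀ i, AlgSp.IsReducedSp (D.obj i)) : AlgSp.IsReducedSp c.pt := by
  obtain ⟨i₀⟩ : Nonempty I := IsCofiltered.nonempty
  obtain ⟨U₀, a₀, ha₀e, ha₀s, hU₀r⟩ := hred i₀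
  obtain ⟨U, a, q, sqU, hcov⟩ := exists_chart_cover D hDa c hc i₀ a₀
    (fun W => IsReduced W.left) (by
      intro Z ιZ hιZ hZ X W iW fst sq hW
      have hg : RepWith @Etale ((yon S).map ιZ ≫ a₀) :=
        (RepWith @Etale).comp_mem _ _ ((repWith_yon_map_iff @Etale ιZ).2 inferInstance) ha₀e
      have hfst : RepWith @Etale fst :=
        MorphismProperty.of_isPullback (P := RepWith @Etale) sq.flip hg
      exact isReduced_of_etale_chart (hred X.left) fst hfst)
  have hae : RepWith @Etale a :=
    MorphismProperty.of_isPullback (P := RepWith @Etale) sqU.flip ha₀e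
  have has : RepWith @Surjective a :=
    MorphismProperty.of_isPullback (P := RepWith @Surjective) sqU.flip ha₀s
  refine ⟨U, a, hae, has, ?_⟩
  have : ∀ u : ↥U.left, _root_.IsReduced ↥(U.left.presheaf.stalk u) := by
    intro u
    obtain ⟨L, j, hj, ⟨l, rfl⟩, G', c', rfl, hG', ⟨hc'⟩, haff⟩ := hcov u
    have hLred : IsReduced c'.pt.left := by
      haveI : ∀ X, IsAffine ((G' ⋙ Over.forget S).obj X) := fun X => (hG' X).1
      haveI : IsAffine ((Over.forget S).mapCone c').pt := haff
      exact isReduced_of_isLimit_of_isAffine (G' ⋙ Over.forget S) _ hc' (fun X => (hG' X).2)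
    have h2 : IsIso (j.left.stalkMap l) := inferInstance
    exact isReduced_of_injective (j.left.stalkMap l).hom
      (ConcreteCategory.bijective_of_isIso (j.left.stalkMap l)).injective
  exact isReduced_of_isReduced_stalk _

end Groth.Agent.S10056
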