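import Groth.Statements.S1006
import Groth.Agent.Lib.Helper2.DCohCoh

set_option autoImplicit false
universe u
open CategoryTheory CategoryTheory.Limits AlgebraicGeometry
attribute [local instance] HasDerivedCategory.standard
open Perf

namespace Groth.Agent.S1006

open Groth.Agent.Lib.Helper2.DCohBase Groth.Agent.Lib.Helper2.DCohHom
open Groth.Agent.Lib.Helper2.DCohCoh Groth.Agent.Lib.Lead.PullbackAff in

/-- On a Noetherian scheme X every perfect object of D(O_X) has coherent cohomology sheaves and is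
bounded. -/
theorem result (X : Scheme.{u}) [IsNoetherian X] (E : DCoh.D X) (hE : DCoh.IsPerfect E) :
    DCoh.IsCohD E ∧ ∃ a b : ℤ, E.IsGE a ∧ E.IsLE b := by
  obtain ⟨F₀, ⟨e₀⟩⟩ := exists_rep E
  choose V hxV hV using hE
  have key : ∀ x : X, ∃ (E' : CochainComplex ((V x : X.Opens) : Scheme.{u}).Modules ℤ),
      DCoh.IsStrictlyPerfect E' ∧
      Nonempty (DerivedCategory.Q.obj ((resCx (V x).ι).obj F₀) ≅ DerivedCategory.Q.obj E') :=
    fun x => hV x F₀ ⟨e₀⟩
  choose E' hE' hε using key
  have ε : ∀ (x : X) (i : ℤ), (Scheme.Modules.restrictFunctor (V x).ι).obj (DCoh.HD E i) ≅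
      (E' x).homology i := fun x i =>
    homRestrictIso E F₀ e₀ (V x).ι i ≪≫
      (DerivedCategory.homologyFunctor _ i).mapIso (hε x).some ≪≫
      (DerivedCategory.homologyFunctorFactors _ i).app (E' x)
  have hcov : TopologicalSpace.IsOpenCover V := by
    change ⨆ x, V x = ⊤
    exact top_le_iff.1 fun x _ => TopologicalSpace.Opens.mem_iSup.2 ⟨x, hxV x⟩
  refine ⟨fun i => ⟨?_, ?_⟩, ?_⟩
  · refine Groth.Agent.Lib.Helper40.QCohCoprod.isQuasicoherent_of_isOpenCover _ V hcov
      (fun x => ?_)
    haveI := isQuasicoherent_homology_of_isStrictlyPerfect (E' x) (hE' x) i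
    exact isQuasicoherent_of_iso (ε x i).symm
  · refine isFiniteType_of_locally _ (fun x => ⟨V x, hxV x, ?_⟩)
    haveI := isQuasicoherent_homology_of_isStrictlyPerfect (E' x) (hE' x) i
    exact isFiniteType_of_iso (ε x i).symm (isCoh_homology_of_isStrictlyPerfect (E' x) (hE' x) i).2
  · -- boundedness
    have hb : ∀ x : X, ∃ a b : ℤ, DCoh.VanishesOutside (E' x) a b := fun x => (hE' x).1
    choose a' b' hab using hb
    obtain ⟨t, ht⟩ := isCompact_univ.elim_finite_subcover (fun x : X => ((V x : X.Opens) : Set X))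
      (fun x => (V x).2) (fun x _ => Set.mem_iUnion.2 ⟨x, hxV x⟩)
    obtain ⟨b, hb⟩ := (t.image b').exists_le
    obtain ⟨na, hna⟩ := (t.image (fun x => - a' x)).exists_le
    have hzero : ∀ i : ℤ, (i < -na ∨ b < i) → IsZero (DCoh.HD E i) := by
      intro i hi
      refine isZero_of_locally _ (fun y => ?_)
      have hy : y ∈ ⋃ x ∈ t, ((V x : X.Opens) : Set X) := ht (Set.mem_univ y)
      simp only [Set.mem_iUnion] at hy
      obtain ⟨x, hxt, hyx⟩ := hy
      refine ⟨V x, hyx, IsZero.of_iso ?_ (ε x i)⟩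
      have h1 : b' x ≤ b := hb _ (Finset.mem_image_of_mem _ hxt)
      have h2 : - a' x ≤ na := hna _ (Finset.mem_image_of_mem (fun x => - a' x) hxt)
      have h3 : IsZero ((E' x).X i) := hab x i (by omega)
      exact ShortComplex.isZero_homology_of_isZero_X₂ _ h3
    refine ⟨-na, b, ?_, ?_⟩
    · rw [DerivedCategory.isGE_iff]
      intro i hi
      exact hzero i (Or.inl hi)
    · rw [DerivedCategory.isLE_iff]
      intro i hi
      exact hzero i (Or.inr hi)

end Groth.Agent.S1006
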