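import Groth.Statements.S1007
import Groth.Agent.Lib.Helper53.ModLoc
import Groth.Agent.Lib.Helper53.LocRlim
import Groth.Agent.Lib.Helper53.ModGroth
import Groth.Agent.Lib.Helper26.AffineVanishing

set_option autoImplicit false
universe u
open CategoryTheory CategoryTheory.Limits AlgebraicGeometry
attribute [local instance] HasDerivedCategory.standard
open Perf

namespace Groth.Agent.S1007

/-- Let X be a scheme and E an object of D(O_X) with quasi-coherent cohomology sheaves. Then the
canonical map from E to the derived limit of its truncations τ_{≥ -n}E is an isomorphism; concretely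
(granted the countable product of the truncations exists in D(O_X), which holds): the map E ⟶ ∏
τ_{≥-n}E with components the truncation morphisms, followed by 'identity minus transition', extends
to a distinguished triangle E ⟶ ∏ τ_{≥-n}E ⟶ ∏ τ_{≥-n}E ⟶ E[1]. -/
theorem result (X : Scheme.{u}) (E : DCoh.D X) (hE : DCoh.IsQCohD E)
    [HasProduct (fun n : ℕ => ((DerivedCategory.TStructure.t : CategoryTheory.Triangulated.TStructure (DCoh.D X)).truncGE (-(n : ℤ))).obj E)] :
    ∃ c : (∏ᶜ fun n : ℕ => ((DerivedCategory.TStructure.t : CategoryTheory.Triangulated.TStructure (DCoh.D X)).truncGE (-(n : ℤ))).obj E) ⟶ E⟦(1 : ℤ)⟧,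
      CategoryTheory.Pretriangulated.Triangle.mk
        (Pi.lift fun n : ℕ => ((DerivedCategory.TStructure.t : CategoryTheory.Triangulated.TStructure (DCoh.D X)).truncGEπ (-(n : ℤ))).app E)
        (Pi.lift fun n : ℕ => Pi.π (fun n : ℕ => ((DerivedCategory.TStructure.t : CategoryTheory.Triangulated.TStructure (DCoh.D X)).truncGE (-(n : ℤ))).obj E) n -
          Pi.π (fun n : ℕ => ((DerivedCategory.TStructure.t : CategoryTheory.Triangulated.TStructure (DCoh.D X)).truncGE (-(n : ℤ))).obj E) (n + 1) ≫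
            ((DerivedCategory.TStructure.t : CategoryTheory.Triangulated.TStructure (DCoh.D X)).natTransTruncGEOfLE (-((n + 1 : ℕ) : ℤ)) (-(n : ℤ)) (Int.neg_le_neg (Int.ofNat_le.mpr (Nat.le_succ n)))).app E)
        c ∈ CategoryTheory.Pretriangulated.distinguishedTriangles := by
  haveI : IsGrothendieckAbelian.{u} (SheafOfModules.{u} X.ringCatSheaf) :=
    Groth.Agent.Lib.Helper53.ModGroth.isGrothendieckAbelian (Opens.grothendieckTopology X) X.ringCatSheaf
  haveI : HasExt.{u} (SheafOfModules.{u} X.ringCatSheaf) := hasExt_of_enoughInjectives _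
  have key := @Groth.Agent.Lib.Helper53.LocRlim.isRlimVia_truncTower _ _ _ _ _ _ _
    (Groth.Agent.Lib.Helper53.ModLoc.modLocData (Opens.grothendieckTopology X) X.ringCatSheaf) _
    E ‹HasProduct _› {U : X.Opens | IsAffineOpen U} ?_ ?_
  · exact key
  · intro U
    refine ⟨{W : X.Opens // IsAffineOpen W ∧ W ≤ U}, fun W => W.1, fun W => homOfLE W.2.2, ?_,
      fun W => W.2.1⟩
    rw [Opens.mem_grothendieckTopology]
    intro x hx
    obtain ⟨W, hW, hxW, hWU⟩ := TopologicalSpace.Opens.isBasis_iff_nbhd.mp X.isBasis_affineOpens hx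
    exact ⟨W, homOfLE hWU, ⟨_, 𝟙 _, _, ⟨(⟨W, hW, hWU⟩ : {W : X.Opens // IsAffineOpen W ∧ W ≤ U})⟩,
      by simp⟩, hxW⟩
  · intro V hV
    refine ⟨fun _ => 0, fun T hT => ?_⟩
    refine ⟨{W : X.Opens // IsAffineOpen W ∧ ∃ f : W ⟶ V, T.arrows f}, fun W => W.1,
      fun W => W.2.2.choose, fun W => W.2.2.choose_spec, ?_, ?_⟩
    · rw [Opens.mem_grothendieckTopology] at hT ⊢
      intro x hx
      obtain ⟨V', f, hf, hxV'⟩ := hT x hx
      obtain ⟨W, hW, hxW, hWV'⟩ :=
        TopologicalSpace.Opens.isBasis_iff_nbhd.mp X.isBasis_affineOpens hxV'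
      have hTW : T.arrows (homOfLE hWV' ≫ f) := T.downward_closed hf _
      exact ⟨W, homOfLE hWV' ≫ f, ⟨_, 𝟙 _, _,
        ⟨(⟨W, hW, _, hTW⟩ : {W : X.Opens // IsAffineOpen W ∧ ∃ f : W ⟶ V, T.arrows f})⟩,
        Subsingleton.elim _ _⟩, hxW⟩
    · intro W m k hk
      have hk0 : (0 : ℤ) < k := hk
      obtain ⟨k', rfl⟩ : ∃ k', k = k' + 1 := ⟨k - 1, by omega⟩
      haveI hq : Coh.IsQCoh (DCoh.HD E (m - ((k' + 1 : ℕ) : ℤ))) := hE _
      exact Groth.Agent.Lib.Helper53.ModLoc.subsingleton_ext_Tm (Opens.grothendieckTopology X)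
        X.ringCatSheaf W.1 _ (k' + 1)
        (@Groth.Agent.Lib.Helper26.AffineVanishing.subsingleton_HU_succ X
          (DCoh.HD E (m - ((k' + 1 : ℕ) : ℤ))) hq k' W.1 W.2.1)

end Groth.Agent.S1007
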