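import Groth.Statements.S10090
import Groth.Agent.S9874

set_option autoImplicit false
universe u
open CategoryTheory CategoryTheory.Limits AlgebraicGeometry
open AlgSp

namespace Groth.Agent.S10090

section
universe v' u'
variable {𝒞 : Type u'} [Category.{v'} 𝒞] [HasPullbacks 𝒞]

lemma isPullback_of_diagonal {F G Y F' V : 𝒞} {a : F ⟶ G}
    {ξ : Y ⟶ pullback a a} {fst : F' ⟶ F} {snd : F' ⟶ Y}
    (sq : IsPullback fst snd (pullback.diagonal a) ξ)
    {fV : V ⟶ F} {sV : V ⟶ Y} (sqV : IsPullback fV sV a (ξ ≫ pullback.fst a a ≫ a)) :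
    ∃ (σ₁ σ₂ : Y ⟶ V), IsPullback snd snd σ₁ σ₂ := by
  have w₁ : (ξ ≫ pullback.fst a a) ≫ a = 𝟙 Y ≫ ξ ≫ pullback.fst a a ≫ a := by simp
  have w₂ : (ξ ≫ pullback.snd a a) ≫ a = 𝟙 Y ≫ ξ ≫ pullback.fst a a ≫ a := by
    simp [pullback.condition]
  have e₁ : snd ≫ ξ ≫ pullback.fst a a = fst := by
    rw [← sq.w_assoc]; simp
  have e₂ : snd ≫ ξ ≫ pullback.snd a a = fst := by
    rw [← sq.w_assoc]; simp
  refine ⟨sqV.lift _ _ w₁, sqV.lift _ _ w₂, ⟨?_⟩, ⟨PullbackCone.IsLimit.mk _ ?_ ?_ ?_ ?_⟩⟩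
  · apply sqV.hom_ext
    · simp [e₁, e₂]
    · simp
  · intro c
    have hc := c.condition
    have hc1 : c.fst = c.snd := by
      have := congrArg (· ≫ sV) hc
      simpa using this
    have hc2 : c.fst ≫ ξ ≫ pullback.fst a a = c.snd ≫ ξ ≫ pullback.snd a a := by
      have := congrArg (· ≫ fV) hc
      simpa using this
    refine sq.lift (c.fst ≫ ξ ≫ pullback.fst a a) c.fst ?_
    apply pullback.hom_ext
    · simp
    · simp only [Category.assoc, pullback.diagonal_snd, Category.comp_id]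
      exact hc2.trans (by rw [hc1])
  · intro c
    simp
  · intro c
    have hc1 : c.fst = c.snd := by
      have := congrArg (· ≫ sV) c.condition
      simpa using this
    simp [hc1]
  · intro c m h₁ h₂
    apply sq.hom_ext
    · simp [← h₁, e₁]
    · simp [← h₁]

end

/-- Let `a : F ⟶ G` be a map of presheaves of sets on schemes over `S` which is representable by
algebraic spaces. Then the relative diagonal `F ⟶ F ×_G F` is representable by algebraic spaces. -/
theorem result (S : Scheme.{u}) (F G : AlgSp.PSp S) (a : F ⟶ G)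
    (ha : AlgSp.RepBySp a) : AlgSp.RepBySp (pullback.diagonal a) := by
  intro U ξ F' fst snd sq
  have sqV := IsPullback.of_hasPullback a (ξ ≫ pullback.fst a a ≫ a)
  obtain ⟨hsV, hAV⟩ := ha _ _ _ sqV
  obtain ⟨σ₁, σ₂, hp⟩ := isPullback_of_diagonal sq sqV
  have hF' : Presheaf.IsSheaf (AlgSp.J S) F' :=
    AlgSp.isSheaf_of_isPullback (F := (AlgSp.yon S).obj U) (G := ⟨_, hsV⟩)
      (H := (AlgSp.yon S).obj U) hp
  refine ⟨hF', ?_⟩
  let X : AlgSp.Space S := ⟨(AlgSp.yon S).obj U, AlgSp.IsAlgSpace.yon_obj U⟩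
  exact Groth.Agent.S9874.result S ⟨_, hsV⟩ hAV.diag X X
    (ObjectProperty.homMk σ₁) (ObjectProperty.homMk σ₂) ⟨F', hF'⟩
    (ObjectProperty.homMk snd) (ObjectProperty.homMk snd)
    (IsPullback.of_map_of_faithful (sheafToPresheaf (AlgSp.J S) (Type (u + 1))) hp)

end Groth.Agent.S10090
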