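import Groth.Statements.S10094
import Groth.Agent.S9874

set_option autoImplicit false
universe u
open CategoryTheory CategoryTheory.Limits AlgebraicGeometry
open AlgSp

namespace Groth.Agent.S10094

section
universe v' u'
variable {𝒞 : Type u'} [Category.{v'} 𝒞] [HasBinaryProducts 𝒞]

lemma isPullback_of_prod {F₁ G₁ F₂ G₂ Y F' P₁ P₂ : 𝒞} {a₁ : F₁ ⟶ G₁} {a₂ : F₂ ⟶ G₂}
    {ξ : Y ⟶ G₁ ⨯ G₂} {fst : F' ⟶ F₁ ⨯ F₂} {snd : F' ⟶ Y}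
    (sq : IsPullback fst snd (prod.map a₁ a₂) ξ)
    {f₁ : P₁ ⟶ F₁} {s₁ : P₁ ⟶ Y} (sq₁ : IsPullback f₁ s₁ a₁ (ξ ≫ prod.fst))
    {f₂ : P₂ ⟶ F₂} {s₂ : P₂ ⟶ Y} (sq₂ : IsPullback f₂ s₂ a₂ (ξ ≫ prod.snd)) :
    ∃ (p₁ : F' ⟶ P₁) (p₂ : F' ⟶ P₂), IsPullback p₁ p₂ s₁ s₂ := by
  have w₁ : (fst ≫ prod.fst) ≫ a₁ = snd ≫ ξ ≫ prod.fst := by
    have := congrArg (· ≫ prod.fst) sq.w
    simpa using this
  have w₂ : (fst ≫ prod.snd) ≫ a₂ = snd ≫ ξ ≫ prod.snd := by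
    have := congrArg (· ≫ prod.snd) sq.w
    simpa using this
  refine ⟨sq₁.lift _ _ w₁, sq₂.lift _ _ w₂, ⟨by simp⟩, ⟨PullbackCone.IsLimit.mk _ ?_ ?_ ?_ ?_⟩⟩
  · intro c
    refine sq.lift (prod.lift (c.fst ≫ f₁) (c.snd ≫ f₂)) (c.fst ≫ s₁) ?_
    apply Limits.prod.hom_ext
    · simp only [Category.assoc, prod.map_fst, prod.lift_fst_assoc]
      rw [sq₁.w]
    · simp only [Category.assoc, prod.map_snd, prod.lift_snd_assoc]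
      rw [sq₂.w, c.condition_assoc]
  · intro c
    apply sq₁.hom_ext
    · simp [prod.lift_fst]
    · simp
  · intro c
    apply sq₂.hom_ext
    · simp [prod.lift_snd]
    · simp [c.condition]
  · intro c m h₁ h₂
    apply sq.hom_ext
    · apply Limits.prod.hom_ext
      · simp [← h₁, prod.lift_fst]
      · simp [← h₂, prod.lift_snd]
    · simp [← h₁]

end

/-- If `a₁ : F₁ ⟶ G₁` and `a₂ : F₂ ⟶ G₂` are maps of presheaves of sets on schemes over `S`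
representable by algebraic spaces, then so is `a₁ × a₂ : F₁ × F₂ ⟶ G₁ × G₂`. -/
theorem result (S : Scheme.{u}) (F₁ G₁ F₂ G₂ : AlgSp.PSp S) (a₁ : F₁ ⟶ G₁) (a₂ : F₂ ⟶ G₂)
    (h₁ : AlgSp.RepBySp a₁) (h₂ : AlgSp.RepBySp a₂) : AlgSp.RepBySp (prod.map a₁ a₂) := by
  intro U ξ F' fst snd sq
  have sq₁ := IsPullback.of_hasPullback a₁ (ξ ≫ prod.fst)
  have sq₂ := IsPullback.of_hasPullback a₂ (ξ ≫ prod.snd)
  obtain ⟨hs₁, hA₁⟩ := h₁ _ _ _ sq₁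
  obtain ⟨hs₂, hA₂⟩ := h₂ _ _ _ sq₂
  obtain ⟨p₁, p₂, hp⟩ := isPullback_of_prod sq sq₁ sq₂
  have hF' : Presheaf.IsSheaf (AlgSp.J S) F' :=
    AlgSp.isSheaf_of_isPullback (F := ⟨_, hs₁⟩) (G := (AlgSp.yon S).obj U) (H := ⟨_, hs₂⟩) hp
  refine ⟨hF', ?_⟩
  let X₁ : AlgSp.Space S := ⟨⟨_, hs₁⟩, hA₁⟩
  let X₂ : AlgSp.Space S := ⟨⟨_, hs₂⟩, hA₂⟩
  exact Groth.Agent.S9874.result S ((AlgSp.yon S).obj U) (AlgSp.IsAlgSpace.yon_obj U).diag X₁ X₂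
    (ObjectProperty.homMk (pullback.snd a₁ (ξ ≫ prod.fst)))
    (ObjectProperty.homMk (pullback.snd a₂ (ξ ≫ prod.snd))) ⟨F', hF'⟩
    (ObjectProperty.homMk p₁) (ObjectProperty.homMk p₂)
    (IsPullback.of_map_of_faithful (sheafToPresheaf (AlgSp.J S) (Type (u + 1))) hp)

end Groth.Agent.S10094
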