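import Groth.Statements.S10095
import Groth.Agent.S10092

set_option autoImplicit false
universe u
open CategoryTheory CategoryTheory.Limits AlgebraicGeometry
open AlgSp

namespace Groth.Agent.S10095

section
universe v' u'
variable {𝒞 : Type u'} [Category.{v'} 𝒞] [HasPullbacks 𝒞]

lemma isPullback_diag {F G H Y F' X : 𝒞} {a : F ⟶ G} {b : G ⟶ H} {ξ : Y ⟶ G}
    {fst : F' ⟶ F} {snd : F' ⟶ Y} (sq : IsPullback fst snd a ξ)
    {p₁ : X ⟶ F} {p₂ : X ⟶ Y} (sqX : IsPullback p₁ p₂ (a ≫ b) (ξ ≫ b)) :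
    ∃ (θ : X ⟶ pullback b b) (v : F' ⟶ X), IsPullback v (fst ≫ a) θ (pullback.diagonal b) := by
  have hθ : (p₁ ≫ a) ≫ b = (p₂ ≫ ξ) ≫ b := by simpa using sqX.w
  have hv : fst ≫ a ≫ b = snd ≫ ξ ≫ b := by rw [sq.w_assoc]
  refine ⟨pullback.lift (p₁ ≫ a) (p₂ ≫ ξ) hθ, sqX.lift fst snd hv, ⟨?_⟩,
    ⟨PullbackCone.IsLimit.mk _ ?_ ?_ ?_ ?_⟩⟩
  · apply pullback.hom_ext
    · simp only [Category.assoc, pullback.lift_fst, pullback.diagonal_fst, Category.comp_id]
      rw [IsPullback.lift_fst_assoc]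
    · simp only [Category.assoc, pullback.lift_snd, pullback.diagonal_snd, Category.comp_id]
      rw [IsPullback.lift_snd_assoc, sq.w]
  · intro c
    have h1 : c.fst ≫ p₁ ≫ a = c.snd := by
      have := congrArg (· ≫ pullback.fst b b) c.condition
      simpa only [Category.assoc, pullback.lift_fst, pullback.diagonal_fst, Category.comp_id]
        using this
    have h2 : c.fst ≫ p₂ ≫ ξ = c.snd := by
      have := congrArg (· ≫ pullback.snd b b) c.condition
      simpa only [Category.assoc, pullback.lift_snd, pullback.diagonal_snd, Category.comp_id]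
        using this
    exact sq.lift (c.fst ≫ p₁) (c.fst ≫ p₂) (by simp [h1, h2])
  · intro c
    apply sqX.hom_ext
    · simp
    · simp
  · intro c
    have h1 : c.fst ≫ p₁ ≫ a = c.snd := by
      have := congrArg (· ≫ pullback.fst b b) c.condition
      simpa only [Category.assoc, pullback.lift_fst, pullback.diagonal_fst, Category.comp_id]
        using this
    simp [h1]
  · intro c m h₁ h₂
    apply sq.hom_ext
    · simp [← h₁]
    · simp [← h₁]

end

/-- Let `a : F ⟶ G` and `b : G ⟶ H` be maps of presheaves of sets on schemes over `S`. If both the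
diagonal `G ⟶ G ×_H G` and the composite `a ≫ b` are representable by algebraic spaces, then so is
`a`. -/
theorem result (S : Scheme.{u}) (F G H : AlgSp.PSp S) (a : F ⟶ G) (b : G ⟶ H)
    (hΔ : AlgSp.RepBySp (pullback.diagonal b)) (hab : AlgSp.RepBySp (a ≫ b)) : AlgSp.RepBySp a := by
  intro U ξ F' fst snd sq
  have sqX := IsPullback.of_hasPullback (a ≫ b) (ξ ≫ b)
  obtain ⟨hs, hA⟩ := hab (ξ ≫ b) _ _ sqX
  let X : AlgSp.Space S := ⟨⟨pullback (a ≫ b) (ξ ≫ b), hs⟩, hA⟩
  obtain ⟨θ, v, h⟩ := isPullback_diag sq sqX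
  exact Groth.Agent.S10092.result S G (pullback b b) (pullback.diagonal b) hΔ X θ F' v (fst ≫ a) h

end Groth.Agent.S10095
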