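import Groth.Statements.S10096
import Groth.Agent.Lib.Helper37.AlgSpPoints
import Mathlib.CategoryTheory.Sites.LocallySurjective
import Mathlib.CategoryTheory.Sites.PrecoverageToGrothendieck
import Mathlib.AlgebraicGeometry.Sites.BigZariski
import Mathlib.AlgebraicGeometry.Morphisms.Etale

set_option autoImplicit false
universe u
open CategoryTheory CategoryTheory.Limits AlgebraicGeometry
open AlgSp

namespace Groth.Agent.S10096

open Groth.Agent.Lib.Helper37.AlgSpPoints Opposite

/-- Let `a : F ⟶ G` be a map of fppf sheaves of sets over `S` that is flat, surjective, locally of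
finite presentation and representable by algebraic spaces (every base change `h_U ×_G F ⟶ h_U` to a
scheme is such a morphism of algebraic spaces). Then `a` is surjective as a map of sheaves (an
epimorphism of fppf sheaves). -/
theorem result (S : Scheme.{u}) (F G : AlgSp.Sp S) (a : F ⟶ G)
    (ha : AlgSp.RepBySpWith (AlgSp.IsSurjectiveMor ⊓ AlgSp.LocP @Flat ⊓ AlgSp.LocP @LocallyOfFinitePresentation) a.hom) :
    Epi a := by
  have : MorphismProperty.ContainsIdentities (@Etale.{u}) :=
    MorphismProperty.IsMultiplicative.toContainsIdentities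
  rw [repBySpWith_hom_iff] at ha
  suffices h : Sheaf.IsLocallySurjective a from inferInstance
  refine ⟨fun {U} s => ?_⟩
  set ξ : (yon S).obj U ⟶ G := (GrothendieckTopology.uliftYonedaEquiv.{u + 1} (J S) (X := U) (F := G)).symm s
    with hξ
  obtain ⟨hF', ⟨hsurj, hflat⟩, hlfp⟩ := ha ξ (pullback.fst a ξ) (pullback.snd a ξ)
    (IsPullback.of_hasPullback a ξ)
  obtain ⟨W, p, hpE, hpS⟩ := hF'.atlas
  obtain ⟨g, hg⟩ := (yon S).map_surjective (p ≫ pullback.snd a ξ)
  have hgflat : Flat g.left :=
    hflat p (𝟙 _) g hpE (repWith_id @Etale U) (by rw [hg, Category.comp_id])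
  have hglfp : LocallyOfFinitePresentation g.left :=
    hlfp p (𝟙 _) g hpE (repWith_id @Etale U) (by rw [hg, Category.comp_id])
  have hgsurj : Surjective g.left := by
    refine ⟨fun u => ?_⟩
    obtain ⟨x, hx⟩ := hsurj (Points.ofScheme U u)
    obtain ⟨w, rfl⟩ := ofPt_surjective p hpS x
    refine ⟨w, ?_⟩
    rw [Points.map_ofPt, ← hg, ofPt_yon_map] at hx
    exact (Points.schemeEquiv U).injective hx
  have himg : Presheaf.imageSieve a.hom s g := by
    refine ⟨GrothendieckTopology.uliftYonedaEquiv.{u + 1} (J S) (p ≫ pullback.fst a ξ), ?_⟩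
    rw [← GrothendieckTopology.uliftYonedaEquiv_comp, Category.assoc, pullback.condition,
      ← Category.assoc, ← hg, ← GrothendieckTopology.uliftYonedaEquiv_naturality, hξ,
      Equiv.apply_symm_apply]
  have hcov : (Sieve.overEquiv U).symm (Sieve.generate (Presieve.singleton g.left)) ∈ J S U := by
    refine GrothendieckTopology.overEquiv_symm_mem_over _ U _
      (Precoverage.generate_mem_toGrothendieck ?_)
    exact (Scheme.singleton_mem_precoverage_iff (P := @Flat ⊓ @LocallyOfFinitePresentation) g.left).2
      ⟨hgsurj.1, hgflat, hglfp⟩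
  refine GrothendieckTopology.superset_covering _ ?_ hcov
  intro Z f hf
  rw [Sieve.overEquiv_symm_iff] at hf
  obtain ⟨Y, h, k, ⟨⟩, hk⟩ := hf
  have hw : h ≫ W.hom = Z.hom := by
    rw [← Over.w g, ← Category.assoc, hk, Over.w f]
  have hfe : f = Over.homMk h hw ≫ g := by
    ext
    simpa using hk.symm
  rw [hfe]
  exact (Presheaf.imageSieve a.hom s).downward_closed himg _

end Groth.Agent.S10096
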