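import Groth.Statements.S10100
import Groth.Agent.Lib.Helper23.SLQMain
import Groth.Agent.Lib.Helper30.AlgSpDiag
import Groth.Agent.Lib.Helper17.DiagMono

set_option autoImplicit false
universe u
open CategoryTheory CategoryTheory.Limits AlgebraicGeometry
open AlgSp

namespace Groth.Agent.S10100

/-- Let `F` be a presheaf of sets on schemes over `S`, `X` a scheme over `S` and `h_X ⟶ F` a map which
is representable by algebraic spaces and locally quasi-finite. Then `h_X ⟶ F` is representable by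
schemes. -/
theorem result (S : Scheme.{u}) (F : AlgSp.PSp S) (X : Over S)
    (p : (AlgSp.pyon S).obj X ⟶ F)
    (hp : AlgSp.RepBySpWith (AlgSp.LocP (@LocallyQuasiFinite ⊓ @LocallyOfFiniteType)) p) :
    (AlgSp.pyon S).relativelyRepresentable p := by
  intro U ξ
  have sq : IsPullback (pullback.fst p ξ) (pullback.snd p ξ) p ξ := IsPullback.of_hasPullback _ _
  obtain ⟨hsh, hAlg, hqf⟩ := hp ξ _ _ sq
  obtain ⟨P, hP⟩ : ∃ P : Sp S, P = ⟨pullback p ξ, hsh⟩ := ⟨_, rfl⟩
  subst hP
  let fst' : (⟨pullback p ξ, hsh⟩ : Sp S) ⟶ (yon S).obj X := ObjectProperty.homMk (pullback.fst p ξ)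
  let snd' : (⟨pullback p ξ, hsh⟩ : Sp S) ⟶ (yon S).obj U := ObjectProperty.homMk (pullback.snd p ξ)
  have hlim := Groth.Agent.Lib.Helper30.AlgSpDiag.isLimitYonProd X U
  let f : (⟨pullback p ξ, hsh⟩ : Sp S) ⟶ (yon S).obj (X ⨯ U) :=
    hlim.lift (BinaryFan.mk fst' snd')
  have hf1 : f ≫ (yon S).map (prod.fst : X ⨯ U ⟶ X) = fst' :=
    hlim.fac (BinaryFan.mk fst' snd') ⟨WalkingPair.left⟩
  have hf2 : f ≫ (yon S).map (prod.snd : X ⨯ U ⟶ U) = snd' :=
    hlim.fac (BinaryFan.mk fst' snd') ⟨WalkingPair.right⟩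
  have hmono : Mono f := by
    constructor
    intro Z a b hab
    have h1 : a ≫ fst' = b ≫ fst' := by rw [← hf1, ← Category.assoc, hab, Category.assoc]
    have h2 : a ≫ snd' = b ≫ snd' := by rw [← hf2, ← Category.assoc, hab, Category.assoc]
    ext1
    apply pullback.hom_ext
    · exact congrArg (fun m => m.hom) h1
    · exact congrArg (fun m => m.hom) h2
  have hsep : IsSeparatedMor f := Groth.Agent.Lib.Helper17.DM.isSeparatedMor_of_mono f
  have hqf' : LocP (@LocallyQuasiFinite ⊓ @LocallyOfFiniteType) f := by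
    intro U' V' a b k ha hb comm
    have h1 : a ≫ snd' = (yon S).map (k ≫ ((yon S).preimage (b ≫ (yon S).map prod.snd))) ≫
        𝟙 ((yon S).obj U) := by
      rw [Category.comp_id, Functor.map_comp, Functor.map_preimage, ← Category.assoc, ← comm,
        Category.assoc, hf2]
    have h2 := hqf a (𝟙 _) _ ha ((RepWith @Etale).id_mem _) h1
    rw [Over.comp_left] at h2
    exact ⟨@LocallyQuasiFinite.of_comp _ _ _ _ _ h2.1, @locallyOfFiniteType_of_comp _ _ _ _ _ h2.2⟩
  have hrep := Groth.Agent.Lib.Helper23.SLQ.isRepresentable_of_sep_lqf hAlg f hsep hqf'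
  obtain ⟨V, ⟨e⟩⟩ := Groth.Agent.Lib.Helper23.SLQ.exists_iso_of_isRepresentable hrep
  obtain ⟨q, hq⟩ := (yon S).map_surjective (e.hom ≫ snd')
  refine ⟨V, q, (e.hom ≫ fst').hom, ?_⟩
  let e' : (pyon S).obj V ≅ pullback p ξ := (sheafToPresheaf (J S) (Type (u + 1))).mapIso e
  have he' : e'.hom = e.hom.hom := rfl
  have hq' : (pyon S).map q = e'.hom ≫ pullback.snd p ξ := by
    have := congrArg (fun m => m.hom) hq
    rw [he']
    exact this
  rw [hq']
  refine IsPullback.of_iso sq e'.symm (Iso.refl _) (Iso.refl _) (Iso.refl _) ?_ ?_ ?_ ?_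
  · rw [Iso.symm_hom, Iso.refl_hom, Category.comp_id, Iso.eq_inv_comp, he']
    rfl
  · rw [Iso.symm_hom, Iso.refl_hom, Category.comp_id, Iso.eq_inv_comp]
  · simp
  · simp

end Groth.Agent.S10100
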