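import Groth.Statements.S10107
import Groth.Agent.Lib.Helper5.QuotFlat

set_option autoImplicit false
universe u
open CategoryTheory CategoryTheory.Limits AlgebraicGeometry
open AlgSp

namespace Groth.Agent.S10107

/-- Let `F = U/R` be an algebraic space which is the fppf quotient of a groupoid in algebraic spaces
`(U, R, s, t, c)` over `S` with `s, t` flat and locally of finite presentation and `j = (t, s)` an
equivalence relation (equivalently, the composition being determined by it, of an equivalence
relation `s, t : R ⟶ U` of algebraic spaces with these properties). Then `U ⟶ F` is surjective, flat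
and locally of finite presentation. -/
theorem result (S : Scheme.{u}) (R U : AlgSp.Sp S)
    (hR : AlgSp.IsAlgSpace R) (hU : AlgSp.IsAlgSpace U) (s t : R ⟶ U) (hj : AlgSp.IsEqvRelSp s t)
    (hs : AlgSp.LocP @Flat s ∧ AlgSp.LocP @LocallyOfFinitePresentation s)
    (ht : AlgSp.LocP @Flat t ∧ AlgSp.LocP @LocallyOfFinitePresentation t)
    (hF : AlgSp.IsAlgSpace (AlgSp.quotSp s t)) :
    AlgSp.IsSurjectiveMor (AlgSp.quotSpπ s t) ∧ AlgSp.LocP @Flat (AlgSp.quotSpπ s t) ∧
      AlgSp.LocP @LocallyOfFinitePresentation (AlgSp.quotSpπ s t) := by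
  exact ⟨Groth.Agent.Lib.Helper5.QuotFlat.isSurjectiveMor_quotSpπ s t,
    Groth.Agent.Lib.Helper5.QuotFlat.locP_quotSpπ Groth.Agent.Lib.Helper46.etLocal_flat hR hU s t
      hj hs.1 hF,
    Groth.Agent.Lib.Helper5.QuotFlat.locP_quotSpπ
      Groth.Agent.Lib.Helper30.EtLocalInst.etLocal_lfp hR hU s t hj hs.2 hF⟩

end Groth.Agent.S10107
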