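import Groth.Statements.S10108
import Groth.Agent.Lib.Helper23.SLQBoot2
import Groth.Agent.Lib.Helper17.ChartTools

set_option autoImplicit false
universe u
open CategoryTheory CategoryTheory.Limits AlgebraicGeometry
open AlgSp

namespace Groth.Agent.S10108

/-- A presheaf of sets on schemes over `S` which is a sheaf for the etale topology, has diagonal
representable by schemes, and receives a representable surjective etale map from a scheme over `S`,
is an algebraic space (in particular an fppf sheaf): algebraic spaces defined with the etale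
topology are the same as with the fppf topology. -/
theorem result (S : Scheme.{u}) (F : AlgSp.PSp S)
    (h1 : Presheaf.IsSheaf (QuotSh.J Scheme.etalePrecoverage S) F)
    (h2 : (AlgSp.pyon S).relativelyRepresentable (Limits.diag F))
    (U : Over S) (p : (AlgSp.pyon S).obj U ⟶ F)
    (h3 : (MorphismProperty.inverseImage @Etale (Over.forget S)).relative (AlgSp.pyon S) p ∧
      (MorphismProperty.inverseImage @Surjective (Over.forget S)).relative (AlgSp.pyon S) p) :
    AlgSp.IsAlgSpaceP F := by
  refine Groth.Agent.Lib.Helper23.SLQ.isAlgSpaceP_of_etale_sheaf h1 (IsAlgSpace.yon_obj U) p ?_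
  intro T ξ F' fst snd sq
  have sq' := h3.1.rep.isPullback ξ
  have hve : Etale (h3.1.rep.snd ξ).left := h3.1.property_snd ξ
  have hvs : Surjective (h3.1.rep.snd ξ).left := h3.2.property_snd ξ
  obtain ⟨V, v, fst', hV⟩ : ∃ (V : Over S) (v : V ⟶ T) (fst' : (pyon S).obj V ⟶ (pyon S).obj U),
      IsPullback fst' ((pyon S).map v) p ξ ∧ Etale v.left ∧ Surjective v.left :=
    ⟨_, _, _, sq', hve, hvs⟩
  obtain ⟨sqV, hve', hvs'⟩ := hV
  let e : F' ≅ (pyon S).obj V := sq.isoIsPullback _ _ sqV
  have he : e.hom ≫ (pyon S).map v = snd := sq.isoIsPullback_hom_snd _ _ sqV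
  have hF' : Presheaf.IsSheaf (J S) F' :=
    (Presheaf.isSheaf_of_iso_iff e).2 ((yon S).obj V).property
  let eSp : (⟨F', hF'⟩ : Sp S) ≅ (yon S).obj V :=
    (fullyFaithfulSheafToPresheaf (J S) _).preimageIso (X := (⟨F', hF'⟩ : Sp S))
      (Y := (yon S).obj V) e
  have heSp : (ObjectProperty.homMk snd : (⟨F', hF'⟩ : Sp S) ⟶ (yon S).obj T) =
      eSp.hom ≫ (yon S).map v := by
    ext1
    exact he.symm
  refine ⟨hF', (IsAlgSpace.yon_obj V).of_iso eSp.symm, ?_, ?_⟩
  · rw [heSp]
    exact Groth.Agent.Lib.Helper23.AlgSpMor.isSurjectiveMor_comp _ _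
      (Groth.Agent.Lib.Helper23.AlgSpMor.isSurjectiveMor_of_isIso _)
      (Groth.Agent.Lib.Helper17.CT.isSurjectiveMor_yon_map v hvs'.surj)
  · rw [heSp]
    intro W φ hφ
    rw [← Category.assoc]
    exact (isEtaleMor_yon_map_iff v).2 hve' (φ ≫ eSp.hom)
      (MorphismProperty.RespectsIso.postcomp _ _ _ hφ)

end Groth.Agent.S10108
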