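import Groth.Statements.S10113
import Groth.Agent.Lib.Helper5.SheafQuot

set_option autoImplicit false
universe u
open CategoryTheory CategoryTheory.Limits AlgebraicGeometry
open AlgSp

namespace Groth.Agent.S10113

/-- Let `s, t : R ⟶ U` be a pre-relation of algebraic spaces, `M` an algebraic space and `U ⟶ M` a
morphism which coequalizes `s, t`, is a surjection of sheaves, and for which `(t, s) : R ⟶ U ×_M U`
is a surjection of sheaves. Then the induced map `U/R ⟶ M` is an isomorphism: `M` represents the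
quotient sheaf. -/
theorem result (S : Scheme.{u}) (R U M : AlgSp.Sp S)
    (hR : AlgSp.IsAlgSpace R) (hU : AlgSp.IsAlgSpace U) (hM : AlgSp.IsAlgSpace M) (s t : R ⟶ U)
    (q : U ⟶ M) (w : s ≫ q = t ≫ q) [Epi q] [Epi (pullback.lift t s w.symm : R ⟶ pullback q q)] :
    IsIso (AlgSp.quotSpDesc q w) := by
  have hd : quotSpπ s t ≫ quotSpDesc q w = q := coequalizer.π_desc _ _
  haveI : Epi (quotSpDesc q w) := epi_of_epi_fac hd
  haveI : Epi (quotSpπ s t) := coequalizer.π_epi
  haveI : Mono (quotSpDesc q w) := by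
    apply Groth.Agent.Lib.Helper5.SheafQuot.mono_of_yon_cancel
    intro T x y hxy
    obtain ⟨R₁, hR₁, h1⟩ :=
      Groth.Agent.Lib.Helper5.SheafQuot.exists_local_lift_of_epi (quotSpπ s t) x
    obtain ⟨R₂, hR₂, h2⟩ :=
      Groth.Agent.Lib.Helper5.SheafQuot.exists_local_lift_of_epi (quotSpπ s t) y
    refine Groth.Agent.Lib.Helper5.SheafQuot.eq_of_locally_eq x y (R₁ ⊓ R₂)
      ((J S).intersection_covering hR₁ hR₂) ?_
    rintro T' φ ⟨hφ1, hφ2⟩
    obtain ⟨a, ha⟩ := h1 φ hφ1
    obtain ⟨b, hb⟩ := h2 φ hφ2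
    have hab : a ≫ q = b ≫ q := by
      rw [← hd, ← Category.assoc, ha, ← Category.assoc, hb, Category.assoc, hxy, Category.assoc]
    obtain ⟨R₃, hR₃, h3⟩ := Groth.Agent.Lib.Helper5.SheafQuot.exists_local_lift_of_epi
      (pullback.lift t s w.symm : R ⟶ pullback q q) (pullback.lift a b hab)
    refine Groth.Agent.Lib.Helper5.SheafQuot.eq_of_locally_eq _ _ R₃ hR₃ ?_
    intro T'' ψ hψ
    obtain ⟨r, hr⟩ := h3 ψ hψ
    have hr1 : r ≫ t = (yon S).map ψ ≫ a := by
      have := congrArg (· ≫ pullback.fst q q) hr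
      simpa only [Category.assoc, pullback.lift_fst] using this
    have hr2 : r ≫ s = (yon S).map ψ ≫ b := by
      have := congrArg (· ≫ pullback.snd q q) hr
      simpa only [Category.assoc, pullback.lift_snd] using this
    rw [← ha, ← hb, ← Category.assoc, ← Category.assoc, ← hr1, ← hr2, Category.assoc,
      Category.assoc, quotSp_condition]
  exact isIso_of_mono_of_epi _

end Groth.Agent.S10113
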