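import Groth.Statements.S10114
import Groth.Agent.Lib.Helper5.SheafQuot

set_option autoImplicit false
universe u
open CategoryTheory CategoryTheory.Limits AlgebraicGeometry
open AlgSp

namespace Groth.Agent.S10114

/-- Let `s, t : R ⟶ U` be a pre-equivalence relation of algebraic spaces, `g : U' ⟶ U` a morphism of
algebraic spaces and `s', t' : R' ⟶ U'` the restriction of the pre-relation along `g` (so `R' = (U'
× U') ×_{U × U} R`). Then the induced map of quotient sheaves `U'/R' ⟶ U/R` is injective, and it is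
an isomorphism when `g` is a surjection of sheaves. -/
theorem result (S : Scheme.{u}) (R U R' U' : AlgSp.Sp S)
    (hR : AlgSp.IsAlgSpace R) (hU : AlgSp.IsAlgSpace U) (hR' : AlgSp.IsAlgSpace R') (hU' : AlgSp.IsAlgSpace U')
    (s t : R ⟶ U) (hpre : AlgSp.IsPreEqvRelSp s t) (g : U' ⟶ U) (s' t' : R' ⟶ U') (r : R' ⟶ R)
    (hsq : IsPullback (prod.lift t' s') r (prod.map g g) (prod.lift t s))
    (ψ : AlgSp.quotSp s' t' ⟶ AlgSp.quotSp s t) (hψ : AlgSp.quotSpπ s' t' ≫ ψ = g ≫ AlgSp.quotSpπ s t) :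
    Mono ψ ∧ (Epi g → IsIso ψ) := by
  haveI : Epi (quotSpπ s t) := coequalizer.π_epi
  haveI : Epi (quotSpπ s' t') := coequalizer.π_epi
  have hmono : Mono ψ := by
    apply Groth.Agent.Lib.Helper5.SheafQuot.mono_of_yon_cancel
    intro T x y hxy
    obtain ⟨R₁, hR₁, h1⟩ :=
      Groth.Agent.Lib.Helper5.SheafQuot.exists_local_lift_of_epi (quotSpπ s' t') x
    obtain ⟨R₂, hR₂, h2⟩ :=
      Groth.Agent.Lib.Helper5.SheafQuot.exists_local_lift_of_epi (quotSpπ s' t') y
    refine Groth.Agent.Lib.Helper5.SheafQuot.eq_of_locally_eq x y (R₁ ⊓ R₂)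
      ((J S).intersection_covering hR₁ hR₂) ?_
    rintro T' φ ⟨hφ1, hφ2⟩
    obtain ⟨a, ha⟩ := h1 φ hφ1
    obtain ⟨b, hb⟩ := h2 φ hφ2
    have hab : (a ≫ g) ≫ quotSpπ s t = (b ≫ g) ≫ quotSpπ s t := by
      rw [Category.assoc, Category.assoc, ← hψ, ← Category.assoc, ha, ← Category.assoc, hb,
        Category.assoc, hxy, Category.assoc]
    obtain ⟨R₃, hR₃, h3⟩ :=
      Groth.Agent.Lib.Helper5.SheafQuot.exists_rel_of_quotSpπ_eq s t hpre (a ≫ g) (b ≫ g) hab
    refine Groth.Agent.Lib.Helper5.SheafQuot.eq_of_locally_eq _ _ R₃ hR₃ ?_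
    intro T'' χ hχ
    obtain ⟨ρ, hρ1, hρ2⟩ := h3 χ hχ
    obtain ⟨ρ', hρ'1, -⟩ := hsq.exists_lift
      (prod.lift ((yon S).map χ ≫ a) ((yon S).map χ ≫ b)) ρ (by
        rw [prod.lift_map, prod.comp_lift, hρ1, hρ2, Category.assoc, Category.assoc])
    have e1 : ρ' ≫ t' = (yon S).map χ ≫ a := by
      have := congrArg (· ≫ prod.fst) hρ'1
      simpa only [Category.assoc, prod.lift_fst] using this
    have e2 : ρ' ≫ s' = (yon S).map χ ≫ b := by
      have := congrArg (· ≫ prod.snd) hρ'1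
      simpa only [Category.assoc, prod.lift_snd] using this
    rw [← ha, ← hb, ← Category.assoc, ← Category.assoc, ← e1, ← e2, Category.assoc,
      Category.assoc, quotSp_condition]
  refine ⟨hmono, fun hg => ?_⟩
  haveI := hg
  haveI : Epi (quotSpπ s' t' ≫ ψ) := by rw [hψ]; infer_instance
  haveI : Epi ψ := epi_of_epi (quotSpπ s' t') ψ
  exact isIso_of_mono_of_epi _

end Groth.Agent.S10114
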