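import Groth.Statements.S10115
import Groth.Agent.Lib.Helper5.SheafQuot

set_option autoImplicit false
universe u
open CategoryTheory CategoryTheory.Limits AlgebraicGeometry
open AlgSp AlgSp.GroupoidSp

namespace Groth.Agent.S10115

/-- For a groupoid `(U, R, s, t, c)` in algebraic spaces over `B`, let `(U', R', s', t', c')` be its
restriction along a morphism `g : U' ⟶ U` over `B`. Then `U'/R' ⟶ U/R` is injective; if the
composite `h : U' ×_{g, U, t} R ⟶ R ⟶ U` of the projection with `s` is a surjection of fppf sheaves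
(for instance if `g` is), then it is bijective. -/
theorem result (S : Scheme.{u}) (B : AlgSp.Sp S) (hB : AlgSp.IsAlgSpace B)
    (G G' : AlgSp.GroupoidSp B) (hU : AlgSp.IsAlgSpace G.U) (hR : AlgSp.IsAlgSpace G.R)
    (hU' : AlgSp.IsAlgSpace G'.U) (hR' : AlgSp.IsAlgSpace G'.R) (φ : AlgSp.GroupoidSp.Hom G' G)
    (hφ : φ.IsRestriction) (ψ : G'.quot ⟶ G.quot) (hψ : G'.quotπ ≫ ψ = φ.fU ≫ G.quotπ) :
    Mono ψ ∧ (Epi (pullback.snd φ.fU G.t ≫ G.s) → IsIso ψ) := by
  have hpre : IsPreEqvRelSp G.s G.t := by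
    intro T
    refine ⟨fun a => ⟨a ≫ G.e, ?_, ?_⟩, ?_, ?_⟩
    · rw [Category.assoc, G.e_t, Category.comp_id]
    · rw [Category.assoc, G.e_s, Category.comp_id]
    · rintro a b ⟨r, h1, h2⟩
      exact ⟨r ≫ G.i, by rw [Category.assoc, G.i_t, h2], by rw [Category.assoc, G.i_s, h1]⟩
    · rintro a b c ⟨r1, h1, h2⟩ ⟨r2, h3, h4⟩
      have h : r1 ≫ G.s = r2 ≫ G.t := h2.trans h3.symm
      exact ⟨pullback.lift r1 r2 h ≫ G.c, by rw [G.comp_t, h1], by rw [G.comp_s, h4]⟩
  change quotSp G'.s G'.t ⟶ quotSp G.s G.t at ψ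
  change quotSpπ G'.s G'.t ≫ ψ = φ.fU ≫ quotSpπ G.s G.t at hψ
  haveI : Epi (quotSpπ G.s G.t) := coequalizer.π_epi
  haveI : Epi (quotSpπ G'.s G'.t) := coequalizer.π_epi
  have hmono : Mono ψ := by
    apply Groth.Agent.Lib.Helper5.SheafQuot.mono_of_yon_cancel
    intro T x y hxy
    obtain ⟨R₁, hR₁, h1⟩ :=
      Groth.Agent.Lib.Helper5.SheafQuot.exists_local_lift_of_epi (quotSpπ G'.s G'.t) x
    obtain ⟨R₂, hR₂, h2⟩ :=
      Groth.Agent.Lib.Helper5.SheafQuot.exists_local_lift_of_epi (quotSpπ G'.s G'.t) y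
    refine Groth.Agent.Lib.Helper5.SheafQuot.eq_of_locally_eq x y (R₁ ⊓ R₂)
      ((J S).intersection_covering hR₁ hR₂) ?_
    rintro T' χ₀ ⟨hφ1, hφ2⟩
    obtain ⟨a, ha⟩ := h1 χ₀ hφ1
    obtain ⟨b, hb⟩ := h2 χ₀ hφ2
    have hab : (a ≫ φ.fU) ≫ quotSpπ G.s G.t = (b ≫ φ.fU) ≫ quotSpπ G.s G.t := by
      rw [Category.assoc, Category.assoc, ← hψ, ← Category.assoc, ha, ← Category.assoc, hb,
        Category.assoc, hxy, Category.assoc]
    obtain ⟨R₃, hR₃, h3⟩ :=
      Groth.Agent.Lib.Helper5.SheafQuot.exists_rel_of_quotSpπ_eq G.s G.t hpre (a ≫ φ.fU)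
        (b ≫ φ.fU) hab
    refine Groth.Agent.Lib.Helper5.SheafQuot.eq_of_locally_eq _ _ R₃ hR₃ ?_
    intro T'' χ hχ
    obtain ⟨ρ, hρ1, hρ2⟩ := h3 χ hχ
    have hpU : ((yon S).map χ ≫ a) ≫ G'.pU = ((yon S).map χ ≫ b) ≫ G'.pU := by
      rw [← φ.fU_over, ← Category.assoc, ← Category.assoc, Category.assoc _ a, ← hρ1,
        Category.assoc _ b, ← hρ2, Category.assoc, Category.assoc, G.t_over, G.s_over]
    obtain ⟨ρ', -, hρ'2⟩ := hφ.exists_lift ρ
      (pullback.lift ((yon S).map χ ≫ a) ((yon S).map χ ≫ b) hpU) (by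
        apply pullback.hom_ext
        · rw [Category.assoc, G.j_fst, hρ1]
          unfold GroupoidSp.Hom.prodMap
          rw [Category.assoc, pullback.lift_fst, pullback.lift_fst_assoc, Category.assoc]
        · rw [Category.assoc, G.j_snd, hρ2]
          unfold GroupoidSp.Hom.prodMap
          rw [Category.assoc, pullback.lift_snd, pullback.lift_snd_assoc, Category.assoc])
    have e1 : ρ' ≫ G'.t = (yon S).map χ ≫ a := by
      have := congrArg (· ≫ pullback.fst _ _) hρ'2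
      simpa only [Category.assoc, pullback.lift_fst, GroupoidSp.j_fst] using this
    have e2 : ρ' ≫ G'.s = (yon S).map χ ≫ b := by
      have := congrArg (· ≫ pullback.snd _ _) hρ'2
      simpa only [Category.assoc, pullback.lift_snd, GroupoidSp.j_snd] using this
    rw [← ha, ← hb, ← Category.assoc, ← Category.assoc, ← e1, ← e2, Category.assoc,
      Category.assoc, quotSp_condition]
  refine ⟨hmono, fun hg => ?_⟩
  haveI := hg
  haveI := hmono
  have key : (pullback.fst φ.fU G.t ≫ quotSpπ G'.s G'.t) ≫ ψ =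
      (pullback.snd φ.fU G.t ≫ G.s) ≫ quotSpπ G.s G.t := by
    rw [Category.assoc, hψ, ← Category.assoc, pullback.condition, Category.assoc,
      Category.assoc, quotSp_condition]
  haveI : Epi ((pullback.fst φ.fU G.t ≫ quotSpπ G'.s G'.t) ≫ ψ) := by rw [key]; infer_instance
  have hepi : Epi ψ := epi_of_epi (pullback.fst φ.fU G.t ≫ quotSpπ G'.s G'.t) ψ
  exact @isIso_of_mono_of_epi _ _ _ _ _ ψ hmono hepi

end Groth.Agent.S10115
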