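import Groth.Statements.S10121
import Groth.Agent.Lib.Helper23.AlgSpInj2

set_option autoImplicit false
universe u
open CategoryTheory CategoryTheory.Limits AlgebraicGeometry
open AlgSp

namespace Groth.Agent.S10121

open Groth.Agent.Lib.Helper23.AlgSpMor

/-- For a pre-equivalence relation `s, t : R ⟶ U` of algebraic spaces, the relation on points of `U`
given by `x ∼ y` when some point `r` of `R` has `t(r) = x` and `s(r) = y` is an equivalence relation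
on `|U|`. -/
theorem result (S : Scheme.{u}) (R U : AlgSp.Sp S)
    (hR : AlgSp.IsAlgSpace R) (hU : AlgSp.IsAlgSpace U) (s t : R ⟶ U) (h : AlgSp.IsPreEqvRelSp s t) :
    _root_.Equivalence (fun x y : AlgSp.Points U =>
      ∃ r : AlgSp.Points R, AlgSp.Points.map t r = x ∧ AlgSp.Points.map s r = y) := by
  have key : ∀ {K : Type u} [Field K] (str : Spec (CommRingCat.of K) ⟶ S)
      (ρ : (yon S).obj (Over.mk str) ⟶ R) {Ω : Type u} [Field Ω] (w : Spec (CommRingCat.of Ω) ⟶ S)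
      (a : Over.mk w ⟶ Over.mk str) (f : R ⟶ U),
      Points.mk (fieldPtOfHom w (((yon S).map a ≫ ρ) ≫ f)) = Points.mk (fieldPtOfHom str (ρ ≫ f)) := by
    intro K _ str ρ Ω _ w a f
    rw [mk_fieldPtOfHom_eq_iff]
    exact ⟨Ω, inferInstance, w, 𝟙 _, a, by simp⟩
  refine ⟨fun x => ?_, ?_, ?_⟩
  · obtain ⟨K, _, str, hx, rfl⟩ := exists_eq_mk_fieldPtOfHom x
    obtain ⟨ρ, h1, h2⟩ := (h (Over.mk str)).refl hx
    refine ⟨Points.mk (fieldPtOfHom str ρ), ?_, ?_⟩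
    · rw [map_mk_fieldPtOfHom, h1]
    · rw [map_mk_fieldPtOfHom, h2]
  · rintro x y ⟨r, rfl, rfl⟩
    obtain ⟨K, _, str, ρ, rfl⟩ := exists_eq_mk_fieldPtOfHom r
    obtain ⟨ρ', h1, h2⟩ := (h (Over.mk str)).symm ⟨ρ, rfl, rfl⟩
    refine ⟨Points.mk (fieldPtOfHom str ρ'), ?_, ?_⟩
    · rw [map_mk_fieldPtOfHom, map_mk_fieldPtOfHom, h1]
    · rw [map_mk_fieldPtOfHom, map_mk_fieldPtOfHom, h2]
  · rintro x y z ⟨r₁, rfl, rfl⟩ ⟨r₂, h₂, rfl⟩
    obtain ⟨K₁, _, str₁, ρ₁, rfl⟩ := exists_eq_mk_fieldPtOfHom r₁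
    obtain ⟨K₂, _, str₂, ρ₂, rfl⟩ := exists_eq_mk_fieldPtOfHom r₂
    rw [map_mk_fieldPtOfHom, map_mk_fieldPtOfHom, mk_fieldPtOfHom_eq_iff] at h₂
    obtain ⟨Ω, _, w, b, a, hab⟩ := h₂
    obtain ⟨ρ₃, h1, h2⟩ := (h (Over.mk w)).trans
      ⟨(yon S).map a ≫ ρ₁, rfl, rfl⟩ ⟨(yon S).map b ≫ ρ₂, by
        rw [Category.assoc, Category.assoc]; exact hab, rfl⟩
    refine ⟨Points.mk (fieldPtOfHom w ρ₃), ?_, ?_⟩
    · rw [map_mk_fieldPtOfHom, map_mk_fieldPtOfHom, h1]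
      exact key str₁ ρ₁ w a t
    · rw [map_mk_fieldPtOfHom, map_mk_fieldPtOfHom, h2]
      exact key str₂ ρ₂ w b s

end Groth.Agent.S10121
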