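import Groth.Statements.S10122
import Groth.Agent.Lib.Helper5.GroupoidSep
import Groth.Agent.Lib.Helper23.AlgSpMor7
import Groth.Agent.Lib.Helper23.AlgSpProper2

set_option autoImplicit false
universe u
open CategoryTheory CategoryTheory.Limits AlgebraicGeometry
open AlgSp AlgSp.GroupoidSp

namespace Groth.Agent.S10122

/-- Let `(U, R, s, t, c)` be a groupoid in algebraic spaces over `B` with stabilizer `G ⟶ U` and unit
section `e : U ⟶ G`. Then (1) `j : R ⟶ U ×_B U` is separated iff `G ⟶ U` is separated iff `e` is a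
closed immersion; (3) `j` is quasi-separated iff `G ⟶ U` is quasi-separated iff `e` is
quasi-compact; (2) if `j` or `G ⟶ U` is locally separated then `e` is an immersion. The unit section
is written as any morphism `U ⟶ G` lifting the identity `e : U ⟶ R` of the groupoid. (The published
part (2) is a three-way equivalence; this row states only that `j` locally separated, or `G ⟶ U`
locally separated, implies that `e` is an immersion.) -/
theorem result (S : Scheme.{u}) (B : AlgSp.Sp S) (hB : AlgSp.IsAlgSpace B)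
    (G : AlgSp.GroupoidSp B) (hU : AlgSp.IsAlgSpace G.U) (hR : AlgSp.IsAlgSpace G.R)
    (eG : G.U ⟶ G.stabilizer) (heG : eG ≫ G.stabilizerι = G.e) :
    ((AlgSp.IsSeparatedMor G.j ↔ AlgSp.IsSeparatedMor G.stabilizerToU) ∧
        (AlgSp.IsSeparatedMor G.j ↔ AlgSp.RepWith @IsClosedImmersion eG)) ∧
      ((AlgSp.IsQuasiSeparatedMor G.j ↔ AlgSp.IsQuasiSeparatedMor G.stabilizerToU) ∧
        (AlgSp.IsQuasiSeparatedMor G.j ↔ AlgSp.IsQuasiCompactMor eG)) ∧
      ((AlgSp.IsLocallySeparatedMor G.j → AlgSp.RepWith @IsImmersion eG) ∧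
        (AlgSp.IsLocallySeparatedMor G.stabilizerToU → AlgSp.RepWith @IsImmersion eG)) := by
  have hπ := Groth.Agent.Lib.Helper5.GroupoidSep.unit_stabilizerToU G eG heG
  have sqStab : IsPullback G.stabilizerι G.stabilizerToU G.j G.diag := IsPullback.of_hasPullback _ _
  have sqC := Groth.Agent.Lib.Helper5.GroupoidSep.isPullback_diagonal_j G eG heG
  have A : ∀ (P : MorphismProperty Scheme.{u}), (RepWith (S := S) P).diagonal G.j →
      (RepWith (S := S) P).diagonal G.stabilizerToU :=
    fun P h => MorphismProperty.of_isPullback (P := (RepWith (S := S) P).diagonal) sqStab h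
  have Bm : ∀ (P : MorphismProperty Scheme.{u}), (RepWith (S := S) P).diagonal G.stabilizerToU →
      RepWith P eG :=
    fun P h => Groth.Agent.Lib.Helper5.GroupoidSep.of_section (RepWith (S := S) P) G.stabilizerToU eG hπ h
  have Cm : ∀ (P : MorphismProperty Scheme.{u}), RepWith P eG → (RepWith (S := S) P).diagonal G.j :=
    fun P h => MorphismProperty.of_isPullback (P := RepWith (S := S) P) sqC h
  refine ⟨⟨⟨A _, fun h => Cm _ (Bm _ h)⟩, ⟨fun h => Bm _ (A _ h), Cm _⟩⟩,
    ⟨⟨A _, fun h => Cm _ (Bm _ h)⟩, ⟨fun h => ?_, fun h => ?_⟩⟩, ⟨fun h => Bm _ (A _ h), Bm _⟩⟩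
  · exact Groth.Agent.Lib.Helper23.AlgSpMor.isQuasiCompactMor_of_repWith _ (Bm _ (A _ h))
  · have h1 : IsQuasiCompactMor (pullback.diagonal G.j) :=
      Groth.Agent.Lib.Helper23.AlgSpMor.isQuasiCompactMor_of_isPullback sqC h
    exact Groth.Agent.Lib.Helper23.AlgSpMor.repWith_quasiCompact_of_isQuasiCompactMor _
      (Groth.Agent.Lib.Helper5.GroupoidSep.representable_diagonal_j G hR) h1

end Groth.Agent.S10122
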