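import Groth.Statements.S10124
import Groth.Agent.Lib.Helper5.GroupoidAlg

set_option autoImplicit false
universe u
open CategoryTheory CategoryTheory.Limits AlgebraicGeometry
open AlgSp AlgSp.GroupoidSp

namespace Groth.Agent.S10124

/-- Let `(U, R, s, t, c)` be a groupoid in algebraic spaces over `B`, `K` a field and `r, r' : Spec K ⟶
R` with `t ∘ r = t ∘ r'`; put `u = s ∘ r`, `u' = s ∘ r'`. Then the fibres `Spec K ×_{u, U, s} R` and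
`Spec K ×_{u', U, s} R` are isomorphic as spaces over `Spec K` (existence of an isomorphism over
`Spec K`). -/
theorem result (S : Scheme.{u}) (B : AlgSp.Sp S) (hB : AlgSp.IsAlgSpace B)
    (G : AlgSp.GroupoidSp B) (hU : AlgSp.IsAlgSpace G.U) (hR : AlgSp.IsAlgSpace G.R)
    (K : Type u) [Field K] (σ : Spec (CommRingCat.of K) ⟶ S)
    (r r' : (AlgSp.yon S).obj (Over.mk σ) ⟶ G.R) (h : r ≫ G.t = r' ≫ G.t) :
    Nonempty (Over.mk (pullback.fst (r ≫ G.s) G.s) ≅ Over.mk (pullback.fst (r' ≫ G.s) G.s)) := by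
  have hδ0 : (r ≫ G.i) ≫ G.s = r' ≫ G.t := by rw [Category.assoc, G.i_s, h]
  set δ := Groth.Agent.Lib.Helper5.GroupoidAlg.comp G (r ≫ G.i) r' hδ0 with hδ
  have hδs : δ ≫ G.s = r' ≫ G.s := Groth.Agent.Lib.Helper5.GroupoidAlg.comp_s G _ _ _
  have hδt : δ ≫ G.t = r ≫ G.s := by
    rw [hδ, Groth.Agent.Lib.Helper5.GroupoidAlg.comp_t, Category.assoc, G.i_t]
  -- notation for the two fibres
  set f1 := pullback.fst (r ≫ G.s) G.s with hf1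
  set s1 := pullback.snd (r ≫ G.s) G.s with hs1
  set f2 := pullback.fst (r' ≫ G.s) G.s with hf2
  set s2 := pullback.snd (r' ≫ G.s) G.s with hs2
  have c1 : f1 ≫ r ≫ G.s = s1 ≫ G.s := pullback.condition
  have c2 : f2 ≫ r' ≫ G.s = s2 ≫ G.s := pullback.condition
  have hΦ0 : s1 ≫ G.s = (f1 ≫ δ) ≫ G.t := by rw [Category.assoc, hδt, c1]
  let Φ : pullback (r ≫ G.s) G.s ⟶ pullback (r' ≫ G.s) G.s :=
    pullback.lift f1 (Groth.Agent.Lib.Helper5.GroupoidAlg.comp G s1 (f1 ≫ δ) hΦ0) (by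
      rw [Groth.Agent.Lib.Helper5.GroupoidAlg.comp_s, Category.assoc, hδs])
  have hΨ0 : s2 ≫ G.s = ((f2 ≫ δ) ≫ G.i) ≫ G.t := by
    rw [Category.assoc, G.i_t, Category.assoc, hδs, c2]
  let Ψ : pullback (r' ≫ G.s) G.s ⟶ pullback (r ≫ G.s) G.s :=
    pullback.lift f2 (Groth.Agent.Lib.Helper5.GroupoidAlg.comp G s2 ((f2 ≫ δ) ≫ G.i) hΨ0) (by
      rw [Groth.Agent.Lib.Helper5.GroupoidAlg.comp_s, Category.assoc, G.i_s, Category.assoc, hδt])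
  have hΦ1 : Φ ≫ f2 = f1 := pullback.lift_fst _ _ _
  have hΦ2 : Φ ≫ s2 = Groth.Agent.Lib.Helper5.GroupoidAlg.comp G s1 (f1 ≫ δ) hΦ0 :=
    pullback.lift_snd _ _ _
  have hΨ1 : Ψ ≫ f1 = f2 := pullback.lift_fst _ _ _
  have hΨ2 : Ψ ≫ s1 = Groth.Agent.Lib.Helper5.GroupoidAlg.comp G s2 ((f2 ≫ δ) ≫ G.i) hΨ0 :=
    pullback.lift_snd _ _ _
  have hΦΨ : Φ ≫ Ψ = 𝟙 _ := by
    apply pullback.hom_ext
    · change (Φ ≫ Ψ) ≫ f1 = 𝟙 _ ≫ f1
      rw [Category.assoc, hΨ1, hΦ1, Category.id_comp]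
    · change (Φ ≫ Ψ) ≫ s1 = 𝟙 _ ≫ s1
      rw [Category.assoc, hΨ2, Groth.Agent.Lib.Helper5.GroupoidAlg.precomp, Category.id_comp]
      refine (Groth.Agent.Lib.Helper5.GroupoidAlg.comp_congr G hΦ2
        (by rw [← Category.assoc, ← Category.assoc, hΦ1]) _).trans ?_
      exact Groth.Agent.Lib.Helper5.GroupoidAlg.comp_comp_inv G s1 (f1 ≫ δ) hΦ0
  have hΨΦ : Ψ ≫ Φ = 𝟙 _ := by
    apply pullback.hom_ext
    · change (Ψ ≫ Φ) ≫ f2 = 𝟙 _ ≫ f2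
      rw [Category.assoc, hΦ1, hΨ1, Category.id_comp]
    · change (Ψ ≫ Φ) ≫ s2 = 𝟙 _ ≫ s2
      rw [Category.assoc, hΦ2, Groth.Agent.Lib.Helper5.GroupoidAlg.precomp, Category.id_comp]
      refine (Groth.Agent.Lib.Helper5.GroupoidAlg.comp_congr G hΨ2
        (by rw [← Category.assoc, hΨ1]) _).trans ?_
      exact Groth.Agent.Lib.Helper5.GroupoidAlg.comp_inv_comp G s2 (f2 ≫ δ)
        (by rw [Category.assoc, hδs, c2])
  exact ⟨Over.isoMk ⟨Φ, Ψ, hΦΨ, hΨΦ⟩ hΦ1⟩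

end Groth.Agent.S10124
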