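import Groth.Statements.S10125
import Groth.Agent.Lib.Helper5.FieldBase

set_option autoImplicit false
universe u
open CategoryTheory CategoryTheory.Limits AlgebraicGeometry MonoidalCategory MonObj
open AlgSp

namespace Groth.Agent.S10125

/-- For a group algebraic space `G` over a field `k`, the multiplication `m` of `G`, a morphism `G ×_k G
⟶ G`, is both flat and universally open. (The published situation allows any base scheme `S` with
`k` a field over `S`; this row takes `S = Spec k`.) -/
theorem result (k : Type u) [Field k]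
    (G : Over ((AlgSp.yon (Spec (CommRingCat.of k))).obj (Over.mk (𝟙 _)))) [GrpObj G]
    (hG : AlgSp.IsAlgSpace G.left) :
    AlgSp.LocP @Flat (μ[G]).left ∧ AlgSp.IsUnivOpenMor (μ[G]).left := by
  have sq0 := (Groth.Agent.Lib.Helper5.FieldBase.isPullback_mul G).map (Over.forget _)
  have h1 : (Over.forget _).map (CartesianMonoidalCategory.toUnit G) = G.hom := by simp
  rw [h1] at sq0
  have sq : IsPullback (CartesianMonoidalCategory.snd G G).left (μ[G]).left G.hom G.hom := sq0.flip
  have hB : IsAlgSpace ((AlgSp.yon (Spec (CommRingCat.of k))).obj (Over.mk (𝟙 _))) :=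
    IsAlgSpace.yon_obj _
  have hP : IsAlgSpace (G ⊗ G).left :=
    Groth.Agent.Lib.Helper23.AlgSpMor.isAlgSpace_of_isPullback hG hG hB.diag sq
  constructor
  · exact Groth.Agent.Lib.Helper46.LocPChart.locP_of_isPullback Groth.Agent.Lib.Helper46.etLocal_flat
      hG hB hP hG sq
      (Groth.Agent.Lib.Helper5.FieldBase.locP_flat_to_field (𝟙 _) _)
  · exact Groth.Agent.Lib.Helper5.FieldBase.isUnivOpenMor_of_isPullback sq
      (Groth.Agent.Lib.Helper23.AlgSpMor.isUnivOpenMor_to_field hG (𝟙 _) _)

end Groth.Agent.S10125
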