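import Groth.Statements.S10129
import Groth.Agent.Lib.Helper30.DenseEq

set_option autoImplicit false
universe u
open CategoryTheory CategoryTheory.Limits AlgebraicGeometry
open AlgSp

namespace Groth.Agent.S10129

open Groth.Agent.Lib.Helper30.DenseEq Groth.Agent.Lib.Helper30.AlgSpAtlas Groth.Agent.Lib.Helper23.AlgSpMor
  Groth.Agent.Lib.Helper46 Groth.Agent.Lib.Helper46.LocPChart

/-- Consider morphisms `g : X ⟶ Z` and `f : X ⟶ Y` of algebraic spaces over `B`, with `Y ⟶ B` separated
and `g` surjective, flat and locally of finite presentation, and let `V ⊂ Z` be a scheme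
theoretically dense open subspace with `V ⟶ Z` quasi-compact such that `f` restricted to `g⁻¹(V)`
factors through `g⁻¹(V) ⟶ V`. Then `f` factors through `g`. (The published statement does not ask
the open immersion `V ⟶ Z` to be quasi-compact; the published proof pulls the scheme theoretic
density of `V` back along a flat morphism by a lemma that requires it, so this row assumes it.) -/
theorem result (S : Scheme.{u}) (B : AlgSp.Sp S) (hB : AlgSp.IsAlgSpace B)
    (X Y Z : AlgSp.Space S) (pX : X.obj ⟶ B) (pY : Y.obj ⟶ B) (pZ : Z.obj ⟶ B)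
    (f : X.obj ⟶ Y.obj) (g : X.obj ⟶ Z.obj) (hf : f ≫ pY = pX) (hg : g ≫ pZ = pX)
    (hY : AlgSp.IsSeparatedMor pY)
    (hgs : AlgSp.IsSurjectiveMor g) (hgf : AlgSp.LocP @Flat g) (hgp : AlgSp.LocP @LocallyOfFinitePresentation g)
    (V : AlgSp.Sp S) (v : V ⟶ Z.obj) (hv : AlgSp.IsSchDense v) (hvq : AlgSp.IsQuasiCompactMor v)
    (hfac : ∃ φ : V ⟶ Y.obj, pullback.fst g v ≫ f = pullback.snd g v ≫ φ) :
    ∃ h : Z.obj ⟶ Y.obj, g ≫ h = f := by
  have hX := X.property
  have hZ := Z.property
  have hepi : Epi g := epi_of_surjective_flat_lfp hX hZ g hgs hgf hgp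
  have sqR := IsPullback.of_hasPullback g g
  have hR : AlgSp.IsAlgSpace (pullback g g) := isAlgSpace_of_isPullback hX hX hZ.diag sqR
  have hpr2 : AlgSp.LocP @Flat (pullback.snd g g) :=
    locP_of_isPullback etLocal_flat hX hZ hR hX sqR hgf
  have hcomp : AlgSp.LocP @Flat (pullback.snd g g ≫ g) :=
    locP_comp etLocal_flat hR hX hZ _ _ hpr2 hgf
  have sqV := IsPullback.of_hasPullback v (pullback.snd g g ≫ g)
  have hdense : AlgSp.IsSchDense (pullback.snd v (pullback.snd g g ≫ g)) :=
    isSchDense_of_isPullback_of_flat hR _ hcomp v hv hvq _ _ sqV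
  obtain ⟨φ, hφ⟩ := hfac
  have hfg : (pullback.fst g g ≫ f) ≫ pY = (pullback.snd g g ≫ f) ≫ pY := by
    rw [Category.assoc, Category.assoc, hf, ← hg, ← Category.assoc, ← Category.assoc,
      pullback.condition]
  have key : ∀ (a : pullback v (pullback.snd g g ≫ g) ⟶ X.obj),
      a ≫ g = pullback.fst v (pullback.snd g g ≫ g) ≫ v →
      a ≫ f = pullback.fst v (pullback.snd g g ≫ g) ≫ φ := by
    intro a ha
    have h1 : pullback.lift a (pullback.fst v (pullback.snd g g ≫ g)) ha ≫ pullback.fst g v = a :=
      pullback.lift_fst _ _ _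
    have h2 : pullback.lift a (pullback.fst v (pullback.snd g g ≫ g)) ha ≫ pullback.snd g v =
        pullback.fst v (pullback.snd g g ≫ g) := pullback.lift_snd _ _ _
    rw [← h1, Category.assoc, hφ, ← Category.assoc, h2]
  have heq : pullback.snd v (pullback.snd g g ≫ g) ≫ pullback.fst g g ≫ f =
      pullback.snd v (pullback.snd g g ≫ g) ≫ pullback.snd g g ≫ f := by
    rw [← Category.assoc, ← Category.assoc,
      key (pullback.snd v (pullback.snd g g ≫ g) ≫ pullback.fst g g) (by
        rw [Category.assoc, pullback.condition, pullback.condition (f := v)]),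
      key (pullback.snd v (pullback.snd g g ≫ g) ≫ pullback.snd g g) (by
        rw [Category.assoc, pullback.condition (f := v)])]
  have hEq := eq_of_eq_on_isSchDense pY hY _ _ hfg _ hdense heq
  exact exists_desc_of_epi g sqR f hEq

end Groth.Agent.S10129
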