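import Groth.Statements.S10130
import Groth.Agent.S10194
import Groth.Agent.Lib.Helper37.AlgSpPoints

set_option autoImplicit false
universe u
open CategoryTheory CategoryTheory.Limits AlgebraicGeometry
open AlgSp AlgSp.GroupoidSp

namespace Groth.Agent.S10130

/-- Let `(U, R, s, t, c)` be a groupoid in algebraic spaces over `B` with `s, t` open. For every open
subspace `W ⊂ U`, the open subspace `s(t⁻¹(W))` of `U` is `R`-invariant. -/
theorem result (S : Scheme.{u}) (B : AlgSp.Sp S) (hB : AlgSp.IsAlgSpace B)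
    (G : AlgSp.GroupoidSp B) (hU : AlgSp.IsAlgSpace G.U) (hR : AlgSp.IsAlgSpace G.R)
    (hs : AlgSp.IsOpenMor G.s) (ht : AlgSp.IsOpenMor G.t)
    (W W' : AlgSp.Sp S) (w : W ⟶ G.U) (w' : W' ⟶ G.U)
    (hw : AlgSp.RepWith @IsOpenImmersion w) (hw' : AlgSp.RepWith @IsOpenImmersion w')
    (himg : Set.range (AlgSp.Points.map w') =
      AlgSp.Points.map G.s '' (AlgSp.Points.map G.t ⁻¹' Set.range (AlgSp.Points.map w))) :
    G.IsInvariant w' := by
  -- pointwise criterion for factoring through `w'`
  have crit : ∀ ⦃T : Over S⦄ (x : (yon S).obj T ⟶ G.U),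
      (∃ a : (yon S).obj T ⟶ W', a ≫ w' = x) ↔
        ∀ pt : T.left, Points.ofPt x pt ∈ Set.range (Points.map w') := by
    intro T x
    constructor
    · rintro ⟨a, rfl⟩ pt
      exact ⟨Points.ofPt a pt, Points.map_ofPt a w' pt⟩
    · intro h
      exact (Groth.Agent.S10194.exists_unique_lift w' hw' x h).exists
  have hcfst : G.c ≫ G.t = pullback.fst G.s G.t ≫ G.t := by
    have := G.comp_t (pullback.fst G.s G.t) (pullback.snd G.s G.t) pullback.condition
    rwa [pullback.lift_fst_snd, Category.id_comp] at this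
  have hcsnd : G.c ≫ G.s = pullback.snd G.s G.t ≫ G.s := by
    have := G.comp_s (pullback.fst G.s G.t) (pullback.snd G.s G.t) pullback.condition
    rwa [pullback.lift_fst_snd, Category.id_comp] at this
  -- composing points of `R`
  have comp : ∀ ρ' ρ : Points G.R, Points.map G.s ρ' = Points.map G.t ρ →
      ∃ ρ'' : Points G.R, Points.map G.t ρ'' = Points.map G.t ρ' ∧
        Points.map G.s ρ'' = Points.map G.s ρ := by
    intro ρ' ρ h
    obtain ⟨p, hp1, hp2⟩ := Groth.Agent.Lib.Helper37.AlgSpPoints.points_exists_of_isPullback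
      (IsPullback.of_hasPullback G.s G.t) ρ' ρ h
    refine ⟨Points.map G.c p, ?_, ?_⟩
    · rw [← Points.map_comp, hcfst, Points.map_comp, hp1]
    · rw [← Points.map_comp, hcsnd, Points.map_comp, hp2]
  have key : ∀ ρ : Points G.R, Points.map G.t ρ ∈ Set.range (Points.map w') ↔
      Points.map G.s ρ ∈ Set.range (Points.map w') := by
    intro ρ
    rw [himg]
    constructor
    · rintro ⟨ρ', hρ'B, hρ'⟩
      obtain ⟨ρ'', h1, h2⟩ := comp ρ' ρ hρ'
      exact ⟨ρ'', by rw [Set.mem_preimage, h1]; exact hρ'B, h2⟩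
    · rintro ⟨ρ', hρ'B, hρ'⟩
      have hi : Points.map G.s ρ' = Points.map G.t (Points.map G.i ρ) := by
        rw [← Points.map_comp, G.i_t, hρ']
      obtain ⟨ρ'', h1, h2⟩ := comp ρ' (Points.map G.i ρ) hi
      refine ⟨ρ'', by rw [Set.mem_preimage, h1]; exact hρ'B, ?_⟩
      rw [h2, ← Points.map_comp, G.i_s]
  intro T r
  rw [crit, crit]
  constructor
  · intro h pt
    have := (key (Points.ofPt r pt)).1 (by rw [Points.map_ofPt]; exact h pt)
    rwa [Points.map_ofPt] at this
  · intro h pt
    have := (key (Points.ofPt r pt)).2 (by rw [Points.map_ofPt]; exact h pt)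
    rwa [Points.map_ofPt] at this

end Groth.Agent.S10130
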