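import Groth.Statements.S10131
import Groth.Agent.S10130
import Groth.Agent.Lib.Helper5.LargestOpenSp
import Groth.Agent.Lib.Helper23.AlgSpMor3

set_option autoImplicit false
universe u
open CategoryTheory CategoryTheory.Limits AlgebraicGeometry
open AlgSp AlgSp.GroupoidSp
open Groth.Agent.Lib.Helper36.OpenSubspace Groth.Agent.Lib.Helper23.AlgSpMor
  Groth.Agent.Lib.Helper37.AlgSpPoints Groth.Agent.Lib.Helper5.LargestOpenSp

namespace Groth.Agent.S10131

/-- Let `(U, R, s, t, c)` be a groupoid in algebraic spaces over `B` with `s, t` open and quasi-compact.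
Then `U` has an open covering by `R`-invariant quasi-compact open subspaces. -/
theorem result (S : Scheme.{u}) (B : AlgSp.Sp S) (hB : AlgSp.IsAlgSpace B)
    (G : AlgSp.GroupoidSp B) (hU : AlgSp.IsAlgSpace G.U) (hR : AlgSp.IsAlgSpace G.R)
    (hs : AlgSp.IsOpenMor G.s ∧ AlgSp.IsQuasiCompactMor G.s) (ht : AlgSp.IsOpenMor G.t ∧ AlgSp.IsQuasiCompactMor G.t)
    (x : AlgSp.Points G.U) :
    ∃ (W : AlgSp.Sp S) (w : W ⟶ G.U), AlgSp.RepWith @IsOpenImmersion w ∧ G.IsInvariant w ∧
      AlgSp.IsQuasiCompactSp W ∧ x ∈ Set.range (AlgSp.Points.map w) := by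
  obtain ⟨V, p, hpe, hps⟩ := hU.atlas
  obtain ⟨v, rfl⟩ := ofPt_surjective p hps x
  obtain ⟨_, ⟨V₀, hV₀, rfl⟩, hvV₀, -⟩ :=
    V.left.isBasis_affineOpens.exists_subset_of_mem_open (Set.mem_univ v) isOpen_univ
  set W₀ : Set (Points G.U) := Points.ofPt p '' (V₀ : Set V.left) with hW₀def
  have hW₀ : IsOpen W₀ := isOpenMap_ofPt p hpe _ V₀.2
  have hWalg := isAlgSpace_openSub G.U hU W₀ hW₀
  have mem_of : ∀ (A : Set (Points G.U)) (y : Points (openSub G.U A)),
      Points.map (openSubι G.U A) y ∈ A := fun A y => by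
    have h : Points.map (openSubι G.U A) y ∈ Set.range (Points.map (openSubι G.U A)) := ⟨y, rfl⟩
    rwa [range_map_openSubι] at h
  -- `W = openSub G.U W₀` is quasi-compact
  have hWqc : IsQuasiCompactSp (openSub G.U W₀) := by
    have hq : ∀ t : ↥(overOpens V V₀).left,
        Points.ofPt ((yon S).map (overOpensι V V₀) ≫ p) t ∈ W₀ := fun t =>
      ⟨Scheme.Opens.ι V₀ t, t.2, (ofPt_overOpensι_comp V V₀ p t).symm⟩
    obtain ⟨q', hq'⟩ := exists_lift_openSub G.U W₀ _ hq
    haveI : CompactSpace ↥(overOpens V V₀).left := isCompact_iff_compactSpace.mp hV₀.isCompact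
    refine isQuasiCompactSp_of_isSurjectiveMor q' hWalg ?_ (isQuasiCompactSp_yon _)
    intro y
    obtain ⟨v₀, hv₀, hv₀y⟩ := mem_of W₀ y
    have hv₀' : v₀ ∈ Set.range (Scheme.Opens.ι V₀) := by
      rw [Scheme.Opens.range_ι]; exact hv₀
    obtain ⟨t, rfl⟩ := hv₀'
    refine ⟨Points.ofScheme (overOpens V V₀) t, injective_map_of_mono (openSubι G.U W₀) ?_⟩
    rw [map_ofScheme, Points.map_ofPt, hq', ofPt_overOpensι_comp]
    exact hv₀y
  -- the invariant open
  set W₁ : Set (Points G.U) := Points.map G.s '' (Points.map G.t ⁻¹' W₀) with hW₁def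
  have hW₁ : IsOpen W₁ := hs.1 _ (hW₀.preimage (Points.continuous_map G.t))
  refine ⟨openSub G.U W₁, openSubι G.U W₁, repWith_isOpenImmersion_openSubι G.U W₁ hW₁, ?_, ?_, ?_⟩
  · refine Groth.Agent.S10130.result S B hB G hU hR hs.1 ht.1 _ _ (openSubι G.U W₀) (openSubι G.U W₁)
      (repWith_isOpenImmersion_openSubι G.U W₀ hW₀) (repWith_isOpenImmersion_openSubι G.U W₁ hW₁) ?_
    rw [range_map_openSubι, range_map_openSubι]
  · -- quasi-compactness
    have hWalg₁ := isAlgSpace_openSub G.U hU W₁ hW₁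
    have hPqc : IsQuasiCompactSp (pullback G.t (openSubι G.U W₀)) :=
      ht.2 hWalg hWqc (openSubι G.U W₀) (pullback.fst _ _) (pullback.snd _ _)
        (IsPullback.of_hasPullback _ _)
    -- the map P → R → U factors through W₁
    have hrange : Set.range (Points.map (pullback.fst G.t (openSubι G.U W₀) ≫ G.s)) ⊆
        Set.range (Points.map (openSubι G.U W₁)) := by
      rw [range_map_openSubι]
      rintro _ ⟨z, rfl⟩
      rw [Points.map_comp]
      refine ⟨Points.map (pullback.fst _ _) z, ?_, rfl⟩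
      rw [Set.mem_preimage, ← Points.map_comp, pullback.condition, Points.map_comp]
      exact mem_of W₀ _
    obtain ⟨m, hm⟩ := Groth.Agent.S10194.exists_factor (openSubι G.U W₁)
      (repWith_isOpenImmersion_openSubι G.U W₁ hW₁) _ hrange
    refine isQuasiCompactSp_of_isSurjectiveMor m hWalg₁ ?_ hPqc
    intro y
    obtain ⟨ρ, hρ, hρy⟩ := mem_of W₁ y
    have hρ' : Points.map G.t ρ ∈ Set.range (Points.map (openSubι G.U W₀)) := by
      rw [range_map_openSubι]; exact hρ
    obtain ⟨w₀, hw₀⟩ := hρ'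
    obtain ⟨z, hz1, hz2⟩ := points_exists_of_isPullback
      (IsPullback.of_hasPullback G.t (openSubι G.U W₀)).flip w₀ ρ hw₀
    refine ⟨z, injective_map_of_mono (openSubι G.U W₁) ?_⟩
    rw [← Points.map_comp, hm, Points.map_comp, hz2, hρy]
  · rw [range_map_openSubι]
    refine ⟨Points.map G.e (Points.ofPt p v), ?_, ?_⟩
    · rw [Set.mem_preimage, ← Points.map_comp, G.e_t, Points.map_id]
      exact ⟨v, hvV₀, rfl⟩
    · rw [← Points.map_comp, G.e_s, Points.map_id]

end Groth.Agent.S10131
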