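import Groth.Statements.S10132
import Groth.Agent.Lib.Helper5.FieldBase
import Groth.Agent.S9961

set_option autoImplicit false
universe u
open CategoryTheory CategoryTheory.Limits AlgebraicGeometry
open AlgSp AlgSp.GroupoidSp

namespace Groth.Agent.S10132

/-- Let `(U, R, s, t, c)` be a groupoid in algebraic spaces over `B` whose object space is `U = Spec k`,
let `k ⊂ k'` be a field extension and `(U', R', s', t', c')` the restriction along `Spec k' ⟶ Spec
k`. Then `s, t, s', t'`, `Spec k' ⟶ Spec k` and `R' ⟶ R` are surjective, flat and universally open,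
and `R' ⟶ R` is moreover affine. (The published statement lists every arrow of the restriction
diagram; this row omits the six arrows through `R ×_{s,U} U'` and `U' ×_{U,t} R`, each a base change
of `s`, `t` or `Spec k' ⟶ Spec k`.) -/
theorem result (S : Scheme.{u}) (B : AlgSp.Sp S) (hB : AlgSp.IsAlgSpace B)
    (G G' : AlgSp.GroupoidSp B) (hR : AlgSp.IsAlgSpace G.R) (hR' : AlgSp.IsAlgSpace G'.R)
    (k k' : Type u) [Field k] [Field k'] [Algebra k k'] (σ : Spec (CommRingCat.of k) ⟶ S)
    (eU : G.U ≅ ((AlgSp.yon S).obj (Over.mk σ)))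
    (eU' : G'.U ≅ ((AlgSp.yon S).obj (Over.mk (Spec.map (CommRingCat.ofHom (algebraMap k k')) ≫ σ))))
    (φ : AlgSp.GroupoidSp.Hom G' G) (hφ : φ.IsRestriction)
    (hfU : φ.fU = eU'.hom ≫ (AlgSp.yon S).map (Over.homMk (Spec.map (CommRingCat.ofHom (algebraMap k k'))) rfl :
      Over.mk (Spec.map (CommRingCat.ofHom (algebraMap k k')) ≫ σ) ⟶ Over.mk σ) ≫ eU.inv) :
    (∀ f ∈ [G.s, G.t], AlgSp.IsSurjectiveMor f ∧ AlgSp.LocP @Flat f ∧ AlgSp.IsUnivOpenMor f) ∧
      (∀ f ∈ [G'.s, G'.t], AlgSp.IsSurjectiveMor f ∧ AlgSp.LocP @Flat f ∧ AlgSp.IsUnivOpenMor f) ∧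
      (AlgSp.IsSurjectiveMor φ.fU ∧ AlgSp.LocP @Flat φ.fU ∧ AlgSp.IsUnivOpenMor φ.fU) ∧
      (AlgSp.IsSurjectiveMor φ.fR ∧ AlgSp.LocP @Flat φ.fR ∧ AlgSp.IsUnivOpenMor φ.fR ∧ AlgSp.IsAffineMor φ.fR) := by
  have hU : IsAlgSpace G.U := (IsAlgSpace.yon_obj (Over.mk σ)).of_iso eU.symm
  -- the scheme morphism Spec k' ⟶ Spec k
  set m₀ : Over.mk (Spec.map (CommRingCat.ofHom (algebraMap k k')) ≫ σ) ⟶ Over.mk σ :=
    Over.homMk (Spec.map (CommRingCat.ofHom (algebraMap k k'))) rfl with hm₀
  have hsub : Subsingleton ↥(Spec (CommRingCat.of k)) := inferInstanceAs (Subsingleton (PrimeSpectrum k))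
  have hne : Nonempty ↥(Spec (CommRingCat.of k')) := inferInstanceAs (Nonempty (PrimeSpectrum k'))
  have hsurj : Surjective m₀.left := by
    change Surjective (Spec.map (CommRingCat.ofHom (algebraMap k k')))
    exact ⟨fun x => ⟨hne.some, Subsingleton.elim _ _⟩⟩
  have hflat : Flat m₀.left := by
    change Flat (Spec.map (CommRingCat.ofHom (algebraMap k k')))
    infer_instance
  have hopen : UniversallyOpen m₀.left := by
    change UniversallyOpen (Spec.map (CommRingCat.ofHom (algebraMap k k')))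
    infer_instance
  have haff : IsAffineHom m₀.left := by
    change IsAffineHom (Spec.map (CommRingCat.ofHom (algebraMap k k')))
    infer_instance
  -- `fU` is representable with each of these properties
  have hrep : ∀ (P : MorphismProperty Scheme.{u}) [P.IsStableUnderBaseChange], P m₀.left →
      RepWith P φ.fU := by
    intro P _ hP
    rw [hfU]
    have h1 : RepWith P ((AlgSp.yon S).map m₀) := (repWith_yon_map_iff P m₀).2 hP
    exact MorphismProperty.RespectsIso.precomp _ eU'.hom _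
      (MorphismProperty.RespectsIso.postcomp _ eU.inv _ h1)
  have hrepR : ∀ (P : MorphismProperty Scheme.{u}) [P.IsStableUnderBaseChange] [P.IsMultiplicative],
      P m₀.left → RepWith P φ.fR := by
    intro P _ _ hP
    have h1 := hrep P hP
    have h2 : RepWith P φ.prodMap :=
      MorphismProperty.pullbackMap (P := RepWith (S := S) P) h1 h1 φ.fU_over.symm φ.fU_over.symm
    exact MorphismProperty.of_isPullback (P := RepWith (S := S) P) hφ.flip h2
  refine ⟨Groth.Agent.Lib.Helper5.FieldBase.source_target_props G hR σ eU,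
    Groth.Agent.Lib.Helper5.FieldBase.source_target_props G' hR' _ eU', ⟨?_, ?_, ?_⟩, ⟨?_, ?_, ?_, ?_⟩⟩
  · exact Groth.Agent.Lib.Helper23.AlgSpMor.isSurjectiveMor_of_repWith_surjective _ (hrep _ hsurj)
  · exact Groth.Agent.S9961.locP_of_repWith Groth.Agent.Lib.Helper46.etLocal_flat le_rfl hU _
      (hrep _ hflat)
  · exact Groth.Agent.Lib.Helper23.AlgSpMor.isUnivOpenMor_of_repWith _ (hrep _ hopen)
  · exact Groth.Agent.Lib.Helper23.AlgSpMor.isSurjectiveMor_of_repWith_surjective _ (hrepR _ hsurj)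
  · exact Groth.Agent.S9961.locP_of_repWith Groth.Agent.Lib.Helper46.etLocal_flat le_rfl hR _
      (hrepR _ hflat)
  · exact Groth.Agent.Lib.Helper23.AlgSpMor.isUnivOpenMor_of_repWith _ (hrepR _ hopen)
  · have hf := hrepR _ haff
    intro Z hZ z
    refine ⟨_, hf.rep.snd z, hf.rep.fst z, hf.rep.isPullback z, ?_⟩
    haveI : IsAffineHom (hf.rep.snd z).left := hf.property_snd z
    haveI := hZ
    exact isAffine_of_isAffineHom (hf.rep.snd z).left

end Groth.Agent.S10132
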