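import Groth.Statements.S10135
-- import your own Groth.Agent.* helpers here
import Groth.Agent.Lib.Helper36.GrpLocus2
import Groth.Agent.Lib.Helper36.FibreDimSp

set_option autoImplicit false
universe u
open CategoryTheory CategoryTheory.Limits AlgebraicGeometry
open AlgSp AlgSp.GroupoidSp

namespace Groth.Agent.S10135

open Groth.Agent.Lib.Helper36.GrpLocus Groth.Agent.Lib.Helper36.AlgSpHasAtMor
  Groth.Agent.Lib.Helper37.AlgSpPoints Groth.Agent.Lib.Helper36.FibreDimSp

/-- If all étale charts of an algebraic space have local dimension `d` at all points, the space has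
dimension `d`, attained at every point. -/
theorem hasAt_localDim_eq_dim_of_const {S : Scheme.{u}} {F : AlgSp.Sp S} (hF : IsAlgSpace F)
    (d : WithBot ℕ∞)
    (H : ∀ (V : Over S) (a : (yon S).obj V ⟶ F), RepWith @Etale a → ∀ v : ↥V.left,
      FlatMor.localDim ↥V.left v = d) (x : Points F) :
    AlgSp.dim F = d ∧ AlgSp.HasAt (fun V v => FlatMor.localDim ↥V v = AlgSp.dim F) F x := by
  obtain ⟨V0, a0, hae0, has0⟩ := hF.atlas
  obtain ⟨v0, hv0⟩ := ofPt_surjective a0 has0 x
  have hdim : AlgSp.dim F = d := by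
    apply le_antisymm
    · unfold AlgSp.dim
      refine iSup_le fun V => iSup_le fun a => iSup_le fun hae => ?_
      apply topologicalKrullDim_le_of_forall_localDim_le
      intro v
      exact le_of_eq (H V a hae v)
    · calc d = FlatMor.localDim ↥V0.left v0 := (H V0 a0 hae0 v0).symm
        _ ≤ topologicalKrullDim ↥V0.left := Groth.Agent.Lib.Helper84.localDim_le_dim v0
        _ ≤ AlgSp.dim F := by
            unfold AlgSp.dim
            exact le_iSup_of_le V0 (le_iSup_of_le a0 (le_iSup_of_le hae0 le_rfl))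
  exact ⟨hdim, V0, a0, v0, hae0, hv0, (H V0 a0 hae0 v0).trans hdim.symm⟩

theorem subsingleton_points_of_iso {S : Scheme.{u}} {U : AlgSp.Sp S} (k : Type u) [Field k]
    (σ : Spec (CommRingCat.of k) ⟶ S) (eU : U ≅ (AlgSp.yon S).obj (Over.mk σ)) :
    Subsingleton (AlgSp.Points U) := by
  refine ⟨fun z1 z2 => ?_⟩
  have h : Points.map eU.hom z1 = Points.map eU.hom z2 := by
    rw [← Points.ofScheme_toScheme _ (Points.map eU.hom z1),
      ← Points.ofScheme_toScheme _ (Points.map eU.hom z2)]
    congr 1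
    exact Subsingleton.elim (α := PrimeSpectrum k) _ _
  have := congrArg (Points.map eU.inv) h
  rwa [← Points.map_comp, ← Points.map_comp, eU.hom_inv_id, Points.map_id, Points.map_id] at this

/-- Homogeneity for groupoids: a base-change compatible pointwise property of the source map holds at
`r` iff it holds at the identity `e(t(r))`. -/
theorem hasAtMor_iff_identity {S : Scheme.{u}} {B : AlgSp.Sp S} (G : AlgSp.GroupoidSp B)
    {Q : ∀ (U V : Scheme.{u}), (U ⟶ V) → ↥U → Prop} (hQ : BC (S := S) Q)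
    (hR : AlgSp.IsAlgSpace G.R) (hU : AlgSp.IsAlgSpace G.U)
    (hs : AlgSp.LocP @LocallyOfFiniteType G.s) (r : AlgSp.Points G.R) :
    HasAtMor Q G.s r ↔ HasAtMor Q G.s (Points.map G.e (Points.map G.t r)) := by
  let XR : Space S := ⟨G.R, hR⟩
  let XU : Space S := ⟨G.U, hU⟩
  let XP : Space S := ⟨pullback G.s G.t,
    Groth.Agent.Lib.Helper23.AlgSpMor.isAlgSpace_of_isPullback hR hR hU.diag
      (IsPullback.of_hasPullback G.s G.t)⟩
  let sm : XR ⟶ XU := ObjectProperty.homMk G.s
  let tm : XR ⟶ XU := ObjectProperty.homMk G.t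
  let pr1 : XP ⟶ XR := ObjectProperty.homMk (pullback.fst G.s G.t)
  let pr2 : XP ⟶ XR := ObjectProperty.homMk (pullback.snd G.s G.t)
  let cm : XP ⟶ XR := ObjectProperty.homMk G.c
  let l : G.R ⟶ pullback G.s G.t := pullback.lift (𝟙 G.R) (𝟙 G.R ≫ G.i)
    (by rw [Category.assoc, G.i_t])
  let p : Points XP.obj := Points.map l r
  have bc1 := hQ sm hs tm pr1 pr2 (IsPullback.of_hasPullback G.s G.t) p
  have bc2 := hQ sm hs sm cm pr2 (Groth.Agent.Lib.Helper5.FieldBase.isPullback_c G) p
  have e1 : Points.map pr1.hom p = r := by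
    show Points.map (pullback.fst G.s G.t) (Points.map l r) = r
    rw [← Points.map_comp, pullback.lift_fst, Points.map_id]
  have e2 : Points.map cm.hom p = Points.map G.e (Points.map G.t r) := by
    show Points.map G.c (Points.map l r) = _
    rw [← Points.map_comp, G.comp_i (𝟙 G.R), Category.id_comp, Points.map_comp]
  rw [e1] at bc1
  rw [e2] at bc2
  exact bc1.symm.trans bc2

/-- For a groupoid in algebraic spaces `(U, R, s, t, c)` over `B` with `U = Spec k` and `s, t` locally
of finite type, `dim_r(R) = dim(R)` for every point `r` of `R`. -/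
theorem result (S : Scheme.{u}) (B : AlgSp.Sp S) (hB : AlgSp.IsAlgSpace B)
    (G : AlgSp.GroupoidSp B) (hR : AlgSp.IsAlgSpace G.R) (k : Type u) [Field k]
    (σ : Spec (CommRingCat.of k) ⟶ S) (eU : G.U ≅ (AlgSp.yon S).obj (Over.mk σ))
    (hs : AlgSp.LocP @LocallyOfFiniteType G.s) (ht : AlgSp.LocP @LocallyOfFiniteType G.t) (r : AlgSp.Points G.R) :
    AlgSp.HasAt (fun V v => FlatMor.localDim ↥V v = AlgSp.dim G.R) G.R r := by
  have hU : IsAlgSpace G.U := (IsAlgSpace.yon_obj (Over.mk σ)).of_iso eU.symm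
  have hsub := subsingleton_points_of_iso k σ eU
  let XR : Space S := ⟨G.R, hR⟩
  let XU : Space S := ⟨G.U, hU⟩
  let sm : XR ⟶ XU := ObjectProperty.homMk G.s
  have hbe : RepWith @Etale eU.inv := by
    have := MorphismProperty.RespectsIso.postcomp (RepWith (S := S) @Etale) eU.inv (𝟙 _)
      (repWith_id @Etale _)
    rwa [Category.id_comp] at this
  have hloc : ∀ (V : Over S) (a : (yon S).obj V ⟶ G.R) (_ : RepWith @Etale a) (v : ↥V.left)
      (d : WithBot ℕ∞),
      HasAtMor (fun _ _ h u => FlatMor.fibreDimAt h u = d) G.s (Points.ofPt a v) ↔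
        FlatMor.localDim ↥V.left v = d := by
    intro V a hae v d
    obtain ⟨h, hh⟩ := (yon S).map_surjective (a ≫ G.s ≫ eU.hom)
    have e : FlatMor.fibreDimAt h.left v = FlatMor.localDim ↥V.left v :=
      fibreDimAt_eq_localDim_of_field k h.left v
    have hd : a ≫ G.s = (yon S).map h ≫ eU.inv := by
      rw [hh, Category.assoc, Category.assoc, eU.hom_inv_id, Category.comp_id]
    constructor
    · intro H
      have := (hasAtMor_iff_forall_chart (isEtaleLocalGermMor_fibreDimAt (· = d)) sm _).1 H V _ a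
        eU.inv h v hae hbe hd rfl
      rw [← e]; exact this
    · intro H
      exact ⟨V, _, a, eU.inv, h, v, hae, hbe, hd, rfl, e.trans H⟩
  obtain ⟨V0, a0, hae0, has0⟩ := hR.atlas
  obtain ⟨v0, hv0⟩ := ofPt_surjective a0 has0 r
  have hconst : ∀ r' : Points G.R,
      HasAtMor (fun _ _ h u => FlatMor.fibreDimAt h u = FlatMor.localDim ↥V0.left v0) G.s r' := by
    intro r'
    rw [hasAtMor_iff_identity G (bc_fibreDimAt _) hR hU hs r']
    have : Points.map G.t r' = Points.map G.t r := Subsingleton.elim _ _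
    rw [this, ← hasAtMor_iff_identity G (bc_fibreDimAt _) hR hU hs r, ← hv0]
    exact (hloc V0 a0 hae0 v0 _).2 rfl
  exact (hasAt_localDim_eq_dim_of_const hR (FlatMor.localDim ↥V0.left v0)
    (fun V a hae v => (hloc V a hae v _).1 (hconst _)) r).2

end Groth.Agent.S10135
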