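import Groth.Statements.S10136
-- import your own Groth.Agent.* helpers here
import Groth.Agent.Lib.Helper36.GrpLocus2
import Groth.Agent.Lib.Helper36.FibreDimSp

set_option autoImplicit false
universe u
open CategoryTheory CategoryTheory.Limits AlgebraicGeometry MonoidalCategory MonObj
open AlgSp

namespace Groth.Agent.S10136

open Groth.Agent.Lib.Helper36.GrpLocus Groth.Agent.Lib.Helper36.AlgSpHasAtMor
  Groth.Agent.Lib.Helper37.AlgSpPoints Groth.Agent.Lib.Helper36.FibreDimSp

theorem subsingleton_points (k : Type u) [Field k] :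
    Subsingleton (AlgSp.Points ((AlgSp.yon (Spec (CommRingCat.of k))).obj (Over.mk (𝟙 _)))) := by
  refine ⟨fun z1 z2 => ?_⟩
  rw [← Points.ofScheme_toScheme _ z1, ← Points.ofScheme_toScheme _ z2]
  congr 1
  exact Subsingleton.elim (α := PrimeSpectrum k) _ _

/-- For a group algebraic space `G` locally of finite type over a field `k`, `dim_g(G) = dim(G)` for
every point `g` of `G`. (The published situation allows any base scheme `S` with `k` a field over
`S`; this row takes `S = Spec k`.) -/
theorem result (k : Type u) [Field k]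
    (G : Over ((AlgSp.yon (Spec (CommRingCat.of k))).obj (Over.mk (𝟙 _)))) [GrpObj G] (hG : AlgSp.IsAlgSpace G.left)
    (hlft : AlgSp.LocP @LocallyOfFiniteType G.hom) (g : AlgSp.Points G.left) :
    AlgSp.HasAt (fun V v => FlatMor.localDim ↥V v = AlgSp.dim G.left) G.left g := by
  have hB : IsAlgSpace ((AlgSp.yon (Spec (CommRingCat.of k))).obj (Over.mk (𝟙 _))) :=
    IsAlgSpace.yon_obj _
  have hT : IsTerminal ((yon (Spec (CommRingCat.of k))).obj (Over.mk (𝟙 (Spec (CommRingCat.of k))))) :=
    IsTerminal.isTerminalObj (yon (Spec (CommRingCat.of k))) _ Over.mkIdTerminal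
  have hsub := subsingleton_points k
  let XG : Space (Spec (CommRingCat.of k)) := ⟨G.left, hG⟩
  let YB : Space (Spec (CommRingCat.of k)) := ⟨_, hB⟩
  let fG : XG ⟶ YB := ObjectProperty.homMk G.hom
  have hloc : ∀ (V : Over (Spec (CommRingCat.of k))) (a : (yon _).obj V ⟶ G.left)
      (_ : RepWith @Etale a) (v : ↥V.left) (d : WithBot ℕ∞),
      HasAtMor (fun _ _ h u => FlatMor.fibreDimAt h u = d) G.hom (Points.ofPt a v) ↔
        FlatMor.localDim ↥V.left v = d := by
    intro V a hae v d
    let h : V ⟶ Over.mk (𝟙 (Spec (CommRingCat.of k))) := Over.homMk V.hom (by simp)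
    have e : FlatMor.fibreDimAt h.left v = FlatMor.localDim ↥V.left v :=
      fibreDimAt_eq_localDim_of_field k h.left v
    have hd : a ≫ G.hom = (yon _).map h ≫ 𝟙 _ := hT.hom_ext _ _
    constructor
    · intro H
      have := (hasAtMor_iff_forall_chart (isEtaleLocalGermMor_fibreDimAt (· = d)) fG _).1 H V _ a
        (𝟙 _) h v hae (repWith_id @Etale _) hd rfl
      rw [← e]; exact this
    · intro H
      exact ⟨V, _, a, 𝟙 _, h, v, hae, repWith_id @Etale _, hd, rfl, e.trans H⟩
  obtain ⟨V0, a0, hae0, has0⟩ := hG.atlas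
  obtain ⟨v0, hv0⟩ := ofPt_surjective a0 has0 g
  have hconst : ∀ g' : Points G.left,
      HasAtMor (fun _ _ h u => FlatMor.fibreDimAt h u = FlatMor.localDim ↥V0.left v0) G.hom g' := by
    intro g'
    rw [hasAtMor_iff_unit_of_bc (bc_fibreDimAt _) G hB hG hlft g']
    have : Points.map G.hom g' = Points.map G.hom g := Subsingleton.elim _ _
    rw [this, ← hasAtMor_iff_unit_of_bc (bc_fibreDimAt _) G hB hG hlft g, ← hv0]
    exact (hloc V0 a0 hae0 v0 _).2 rfl
  have hdim : AlgSp.dim G.left = FlatMor.localDim ↥V0.left v0 := by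
    apply le_antisymm
    · unfold AlgSp.dim
      refine iSup_le fun V => iSup_le fun a => iSup_le fun hae => ?_
      apply topologicalKrullDim_le_of_forall_localDim_le
      intro v
      exact le_of_eq ((hloc V a hae v _).1 (hconst _))
    · calc FlatMor.localDim ↥V0.left v0 ≤ topologicalKrullDim ↥V0.left :=
            Groth.Agent.Lib.Helper84.localDim_le_dim v0
        _ ≤ AlgSp.dim G.left := by
            unfold AlgSp.dim
            exact le_iSup_of_le V0 (le_iSup_of_le a0 (le_iSup_of_le hae0 le_rfl))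
  exact ⟨V0, a0, v0, hae0, hv0, hdim.symm⟩

end Groth.Agent.S10136
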