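import Groth.Statements.S10141
import Groth.Agent.Lib.Helper5.QuotOpenPre

set_option autoImplicit false
universe u
open CategoryTheory CategoryTheory.Limits AlgebraicGeometry
open AlgSp

namespace Groth.Agent.S10141

/-- Let `(U, R, s, t, c)` be a groupoid scheme over `S` and `g : U' ⟶ U` a morphism such that the
composite `h : U' ×_{g, U, t} R ⟶ R ⟶ U` of the projection with `s` has open image `W ⊂ U` and `h :
U' ×_{g, U, t} R ⟶ W` is a surjection of fppf sheaves. Then for the restriction `R' = R|_{U'}` the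
map of fppf quotient sheaves `U'/R' ⟶ U/R` is representable and an open immersion. -/
theorem result (S : Scheme.{u}) (G : Grpd.GroupoidScheme S)
    (U' : Scheme.{u}) (g : U' ⟶ G.U) (W : G.U.Opens)
    (hW : (W : Set ↥G.U) = Set.range ⇑(pullback.snd g G.t ≫ G.s))
    (hlift : pullback g G.t ⟶ ↑W) (hh : hlift ≫ W.ι = pullback.snd g G.t ≫ G.s)
    (hsurj : Sheaf.IsLocallySurjective ((AlgSp.yon S).map
      (Over.homMk hlift ((Category.assoc _ _ _).symm.trans (congrArg (· ≫ G.pU) hh)) :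
        Over.mk ((pullback.snd g G.t ≫ G.s) ≫ G.pU) ⟶ Over.mk (W.ι ≫ G.pU))))
    (R' : Over S) (s' t' : R' ⟶ Over.mk (g ≫ G.pU)) (r : R' ⟶ Over.mk G.pR)
    (hsq : IsPullback (prod.lift t' s') r
      (prod.map (Over.homMk g rfl : Over.mk (g ≫ G.pU) ⟶ Over.mk G.pU) (Over.homMk g rfl : Over.mk (g ≫ G.pU) ⟶ Over.mk G.pU))
      (prod.lift (Over.homMk G.t G.t_over : Over.mk G.pR ⟶ Over.mk G.pU) (Over.homMk G.s G.s_over : Over.mk G.pR ⟶ Over.mk G.pU)))
    (ψ : QuotSh.quot Scheme.fppfPrecoverage s' t' ⟶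
      QuotSh.quot Scheme.fppfPrecoverage (Over.homMk G.s G.s_over : Over.mk G.pR ⟶ Over.mk G.pU) (Over.homMk G.t G.t_over : Over.mk G.pR ⟶ Over.mk G.pU))
    (hψ : QuotSh.quotπ Scheme.fppfPrecoverage s' t' ≫ ψ =
      QuotSh.repMap Scheme.fppfPrecoverage (Over.homMk g rfl : Over.mk (g ≫ G.pU) ⟶ Over.mk G.pU) ≫ QuotSh.quotπ Scheme.fppfPrecoverage _ _) :
    AlgSp.RepWith @IsOpenImmersion ψ := by
  let ιW : Over.mk (W.ι ≫ G.pU) ⟶ Over.mk G.pU := Over.homMk W.ι rfl
  refine Groth.Agent.Lib.Helper5.QuotOpenPre.repWith_isOpenImmersion_of_restriction_pre hsq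
    (Groth.Agent.Lib.Helper5.QuotOpenPre.preEqv_of_groupoid G) ιW
    (by change IsOpenImmersion W.ι; infer_instance) ?_ ?_ ψ
    (Groth.Agent.Lib.Helper5.QuotOpen.quotπ'_comp _ _ _ s' t' ψ hψ)
  · -- range
    intro T a ρ hρ
    have hc : a.left ≫ g = ρ.left ≫ G.t := by
      have := congrArg (fun k => k.left) hρ
      simpa only [Over.comp_left, Over.homMk_left] using this.symm
    rintro _ ⟨x, rfl⟩
    have h1 : (ρ ≫ (Over.homMk G.s G.s_over : Over.mk G.pR ⟶ Over.mk G.pU)).left =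
        pullback.lift a.left ρ.left hc ≫ pullback.snd g G.t ≫ G.s := by
      rw [← Category.assoc, pullback.lift_snd]
      rfl
    change _ ∈ Set.range ⇑W.ι
    rw [Scheme.Opens.range_ι, hW, h1]
    exact ⟨pullback.lift a.left ρ.left hc x, rfl⟩
  · -- local lifting
    haveI : Epi ((AlgSp.yon S).map
      (Over.homMk hlift ((Category.assoc _ _ _).symm.trans (congrArg (· ≫ G.pU) hh)) :
        Over.mk ((pullback.snd g G.t ≫ G.s) ≫ G.pU) ⟶ Over.mk (W.ι ≫ G.pU))) :=
      (Sheaf.isLocallySurjective_iff_epi _).1 hsurj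
    obtain ⟨R₀, hR₀, hl⟩ := Groth.Agent.Lib.Helper5.SheafQuot.exists_local_lift_of_epi ((AlgSp.yon S).map
      (Over.homMk hlift ((Category.assoc _ _ _).symm.trans (congrArg (· ≫ G.pU) hh)) :
        Over.mk ((pullback.snd g G.t ≫ G.s) ≫ G.pU) ⟶ Over.mk (W.ι ≫ G.pU))) (𝟙 _)
    refine ⟨R₀, hR₀, ?_⟩
    intro T' f hf
    obtain ⟨x, hx⟩ := hl f hf
    obtain ⟨x₀, rfl⟩ := (AlgSp.yon S).map_surjective x
    rw [Category.comp_id, ← Functor.map_comp] at hx
    have hx' := (AlgSp.yon S).map_injective hx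
    have hx'' : x₀.left ≫ hlift = f.left := by
      have := congrArg (fun k => k.left) hx'
      simpa only [Over.comp_left, Over.homMk_left] using this
    have hw := Over.w x₀
    refine ⟨Over.homMk (x₀.left ≫ pullback.fst g G.t) ?_, Over.homMk (x₀.left ≫ pullback.snd g G.t) ?_, ?_, ?_⟩
    · change (x₀.left ≫ pullback.fst g G.t) ≫ g ≫ G.pU = T'.hom
      rw [← hw]
      change _ = x₀.left ≫ (pullback.snd g G.t ≫ G.s) ≫ G.pU
      rw [Category.assoc, ← Category.assoc (pullback.fst g G.t), pullback.condition]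
      simp only [Category.assoc, G.s_over, G.t_over]
    · change (x₀.left ≫ pullback.snd g G.t) ≫ G.pR = T'.hom
      rw [← hw]
      change _ = x₀.left ≫ (pullback.snd g G.t ≫ G.s) ≫ G.pU
      simp only [Category.assoc, G.s_over]
    · apply Over.OverMorphism.ext
      simp only [Over.comp_left, Over.homMk_left, Category.assoc, pullback.condition]
    · apply Over.OverMorphism.ext
      simp only [Over.comp_left, Over.homMk_left, Category.assoc]
      rw [← hx'']
      change _ = (x₀.left ≫ hlift) ≫ W.ι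
      exact (congrArg (fun z => x₀.left ≫ z) hh.symm).trans (Category.assoc _ _ _).symm

end Groth.Agent.S10141
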