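import Groth.Statements.S10142
import Groth.Agent.Lib.Helper5.GroupoidAlg

set_option autoImplicit false
universe u
open CategoryTheory CategoryTheory.Limits AlgebraicGeometry
open AlgSp AlgSp.GroupoidSp

namespace Groth.Agent.S10142

/-- For a groupoid in algebraic spaces `(U, R, s, t, c, e, i)` over `B`: the square with sides `c : R
×_{s,U,t} R ⟶ R`, `pr_1 : R ×_{s,U,t} R ⟶ R`, `s` and `s` is cartesian, and the morphism `R
×_{t,U,t} R ⟶ R ×_{s,U,t} R`, `(α, β) ↦ (α, i(α) ∘ β)`, is an isomorphism whose composite with `c`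
is the second projection `pr_1 : R ×_{t,U,t} R ⟶ R`. (The published statement also lists the square
formed by `pr_0`, `pr_1`, `s`, `t`, which is cartesian by definition of the fibre product.) -/
theorem result (S : Scheme.{u}) (B : AlgSp.Sp S) (hB : AlgSp.IsAlgSpace B)
    (G : AlgSp.GroupoidSp B) (hU : AlgSp.IsAlgSpace G.U) (hR : AlgSp.IsAlgSpace G.R) :
    IsPullback G.c (pullback.snd G.s G.t) G.s G.s ∧
      ∀ φ : pullback G.t G.t ⟶ pullback G.s G.t,
        φ ≫ pullback.fst G.s G.t = pullback.fst G.t G.t →
        φ ≫ pullback.snd G.s G.t =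
          pullback.lift (pullback.fst G.t G.t ≫ G.i) (pullback.snd G.t G.t)
            ((Category.assoc _ _ _).trans ((congrArg (pullback.fst G.t G.t ≫ ·) G.i_s).trans pullback.condition)) ≫ G.c →
        IsIso φ ∧ φ ≫ G.c = pullback.snd G.t G.t := by
  have hmc : ∀ {T : Sp S} (m : T ⟶ pullback G.s G.t),
      m ≫ G.c = Groth.Agent.Lib.Helper5.GroupoidAlg.comp G (m ≫ pullback.fst _ _)
        (m ≫ pullback.snd _ _) (by rw [Category.assoc, pullback.condition, Category.assoc]) := by
    intro T m
    unfold Groth.Agent.Lib.Helper5.GroupoidAlg.comp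
    congr 1
    apply pullback.hom_ext
    · rw [pullback.lift_fst]
    · rw [pullback.lift_snd]
  constructor
  · have hcsnd : G.c ≫ G.s = pullback.snd G.s G.t ≫ G.s := by
      have := G.comp_s (pullback.fst G.s G.t) (pullback.snd G.s G.t) pullback.condition
      rwa [pullback.lift_fst_snd, Category.id_comp] at this
    refine ⟨⟨hcsnd⟩, ⟨PullbackCone.IsLimit.mk _
      (fun sc => pullback.lift
        (Groth.Agent.Lib.Helper5.GroupoidAlg.comp G sc.fst (sc.snd ≫ G.i)
          (by rw [Category.assoc, G.i_t]; exact sc.condition)) sc.snd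
        (by rw [Groth.Agent.Lib.Helper5.GroupoidAlg.comp_s, Category.assoc, G.i_s]))
      (fun sc => ?_) (fun sc => ?_) (fun sc m h1 h2 => ?_)⟩⟩
    · rw [hmc]
      refine (Groth.Agent.Lib.Helper5.GroupoidAlg.comp_congr G (pullback.lift_fst _ _ _)
        (pullback.lift_snd _ _ _) _).trans ?_
      exact Groth.Agent.Lib.Helper5.GroupoidAlg.comp_inv_comp G sc.fst sc.snd sc.condition
    · exact pullback.lift_snd _ _ _
    · apply pullback.hom_ext
      · rw [pullback.lift_fst]
        have e1 : sc.fst = Groth.Agent.Lib.Helper5.GroupoidAlg.comp G (m ≫ pullback.fst _ _)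
            (m ≫ pullback.snd _ _)
            (by rw [Category.assoc, pullback.condition, Category.assoc]) := by
          rw [← h1]; exact hmc m
        have e2 := Groth.Agent.Lib.Helper5.GroupoidAlg.comp_comp_inv G (m ≫ pullback.fst _ _)
            (m ≫ pullback.snd _ _) (by rw [Category.assoc, pullback.condition, Category.assoc])
        rw [← e2]
        exact (Groth.Agent.Lib.Helper5.GroupoidAlg.comp_congr G e1 (by rw [← h2]) _).symm
      · rw [pullback.lift_snd]; exact h2
  · intro φ h1 h2
    have h2' : φ ≫ pullback.snd G.s G.t = Groth.Agent.Lib.Helper5.GroupoidAlg.comp G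
        (pullback.fst G.t G.t ≫ G.i) (pullback.snd G.t G.t)
        (by rw [Category.assoc, G.i_s]; exact pullback.condition) := h2
    have hφc : φ ≫ G.c = pullback.snd G.t G.t := by
      rw [hmc]
      refine (Groth.Agent.Lib.Helper5.GroupoidAlg.comp_congr G h1 h2' _).trans ?_
      exact Groth.Agent.Lib.Helper5.GroupoidAlg.comp_inv_comp' G _ _ pullback.condition
    refine ⟨?_, hφc⟩
    let ψ : pullback G.s G.t ⟶ pullback G.t G.t :=
      pullback.lift (pullback.fst G.s G.t)
        (Groth.Agent.Lib.Helper5.GroupoidAlg.comp G (pullback.fst G.s G.t) (pullback.snd G.s G.t)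
          pullback.condition)
        (by rw [Groth.Agent.Lib.Helper5.GroupoidAlg.comp_t])
    have hψ1 : ψ ≫ pullback.fst G.t G.t = pullback.fst G.s G.t := pullback.lift_fst _ _ _
    have hψ2 : ψ ≫ pullback.snd G.t G.t = Groth.Agent.Lib.Helper5.GroupoidAlg.comp G
        (pullback.fst G.s G.t) (pullback.snd G.s G.t) pullback.condition :=
      pullback.lift_snd _ _ _
    refine ⟨ψ, ?_, ?_⟩
    · apply pullback.hom_ext
      · rw [Category.assoc, hψ1, h1, Category.id_comp]
      · rw [Category.assoc, hψ2, Groth.Agent.Lib.Helper5.GroupoidAlg.precomp, Category.id_comp]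
        refine (Groth.Agent.Lib.Helper5.GroupoidAlg.comp_congr G h1 h2' _).trans ?_
        exact Groth.Agent.Lib.Helper5.GroupoidAlg.comp_inv_comp' G _ _ pullback.condition
    · apply pullback.hom_ext
      · rw [Category.assoc, h1, hψ1, Category.id_comp]
      · rw [Category.assoc, h2', Groth.Agent.Lib.Helper5.GroupoidAlg.precomp, Category.id_comp]
        refine (Groth.Agent.Lib.Helper5.GroupoidAlg.comp_congr G
          (by rw [← Category.assoc, hψ1]) hψ2 _).trans ?_
        exact Groth.Agent.Lib.Helper5.GroupoidAlg.inv_comp_comp G _ _ pullback.condition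

end Groth.Agent.S10142
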