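import Groth.Statements.S10144
-- import your own Groth.Agent.* helpers here
import Groth.Agent.Lib.Helper36.GrpLocus

set_option autoImplicit false
universe u
open CategoryTheory CategoryTheory.Limits AlgebraicGeometry MonoidalCategory MonObj
open AlgSp

namespace Groth.Agent.S10144

open Groth.Agent.Lib.Helper36.GrpLocus Groth.Agent.Lib.Helper36.OpenSubspace

theorem aux {P : MorphismProperty Scheme.{u}} (S : Scheme.{u}) (hP : Good (S := S) P)
    (B : AlgSp.Sp S) (hB : AlgSp.IsAlgSpace B)
    (G : Over B) [GrpObj G] (hG : AlgSp.IsAlgSpace G.left)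
    (hlft : AlgSp.LocP @LocallyOfFiniteType G.hom) :
    ∃ (W : AlgSp.Sp S) (w : W ⟶ B), AlgSp.RepWith @IsOpenImmersion w ∧
      (∀ (W' : AlgSp.Sp S) (w' : W' ⟶ B), AlgSp.RepWith @IsOpenImmersion w' →
        (AlgSp.LocP P (pullback.snd G.hom w') ↔ ∃ k : W' ⟶ W, k ≫ w = w')) ∧
      (∀ (B' : AlgSp.Sp S), AlgSp.IsAlgSpace B' → ∀ (f : B' ⟶ B) (W'' : AlgSp.Sp S) (w'' : W'' ⟶ B'),
        AlgSp.RepWith @IsOpenImmersion w'' →
        (AlgSp.LocP P (pullback.snd (pullback.snd G.hom f) w'') ↔
          ∃ k : W'' ⟶ pullback w f, k ≫ pullback.snd w f = w'')) := by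
  have hL : IsOpen (unitLocus G P) := isOpen_unitLocus G hP hB hG hlft
  refine ⟨openSub B (unitLocus G P), openSubι B (unitLocus G P),
    repWith_isOpenImmersion_openSubι B _ hL, ?_, ?_⟩
  · intro W' w' hw'
    have hW' : IsAlgSpace W' :=
      Groth.Agent.Lib.Helper23.ClosedDescent.isAlgSpace_of_representable w' hw'.rep hB
    rw [locP_iff_range_subset G hP hB hG hlft hW' w' (pullback.fst G.hom w')
      (pullback.snd G.hom w') (IsPullback.of_hasPullback _ _)]
    constructor
    · intro h
      exact exists_lift_openSub_of_range w' _ h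
    · rintro ⟨k, rfl⟩
      exact range_subset_of_comp_openSubι _ k
  · intro B' hB' f W'' w'' hw''
    have hW'' : IsAlgSpace W'' :=
      Groth.Agent.Lib.Helper23.ClosedDescent.isAlgSpace_of_representable w'' hw''.rep hB'
    have sq : IsPullback (pullback.fst (pullback.snd G.hom f) w'' ≫ pullback.fst G.hom f)
        (pullback.snd (pullback.snd G.hom f) w'') G.hom (w'' ≫ f) :=
      (IsPullback.of_hasPullback _ _).paste_horiz (IsPullback.of_hasPullback _ _)
    rw [locP_iff_range_subset G hP hB hG hlft hW'' (w'' ≫ f) _ _ sq]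
    constructor
    · intro h
      obtain ⟨l, hl⟩ := exists_lift_openSub_of_range (w'' ≫ f) _ h
      exact ⟨pullback.lift l w'' hl, pullback.lift_snd _ _ _⟩
    · rintro ⟨k, hk⟩
      have e : w'' ≫ f = (k ≫ pullback.fst (openSubι B (unitLocus G P)) f) ≫
          openSubι B (unitLocus G P) := by
        rw [← hk, Category.assoc, Category.assoc, pullback.condition]
      rw [e]
      exact range_subset_of_comp_openSubι _ _

/-- Let `G` be a group algebraic space over an algebraic space `B` with `G ⟶ B` locally of finite type.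
Then there is a largest open subspace `W ⊂ B` such that `G_W ⟶ W` is locally quasi-finite, and its
formation commutes with base change along any morphism of algebraic spaces `B' ⟶ B`. -/
theorem result (S : Scheme.{u}) (B : AlgSp.Sp S) (hB : AlgSp.IsAlgSpace B)
    (G : Over B) [GrpObj G] (hG : AlgSp.IsAlgSpace G.left) (hlft : AlgSp.LocP @LocallyOfFiniteType G.hom) :
    ∃ (W : AlgSp.Sp S) (w : W ⟶ B), AlgSp.RepWith @IsOpenImmersion w ∧
      (∀ (W' : AlgSp.Sp S) (w' : W' ⟶ B), AlgSp.RepWith @IsOpenImmersion w' →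
        (AlgSp.LocP (@LocallyQuasiFinite ⊓ @LocallyOfFiniteType) (pullback.snd G.hom w') ↔ ∃ k : W' ⟶ W, k ≫ w = w')) ∧
      (∀ (B' : AlgSp.Sp S), AlgSp.IsAlgSpace B' → ∀ (f : B' ⟶ B) (W'' : AlgSp.Sp S) (w'' : W'' ⟶ B'),
        AlgSp.RepWith @IsOpenImmersion w'' →
        (AlgSp.LocP (@LocallyQuasiFinite ⊓ @LocallyOfFiniteType) (pullback.snd (pullback.snd G.hom f) w'') ↔
          ∃ k : W'' ⟶ pullback w f, k ≫ pullback.snd w f = w'')) := by
  exact aux S good_lqf B hB G hG hlft

end Groth.Agent.S10144
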