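import Groth.Statements.S10145
-- import your own Groth.Agent.* helpers here

set_option autoImplicit false
universe u
open CategoryTheory CategoryTheory.Limits AlgebraicGeometry
open AlgSp AlgSp.GroupoidSp

namespace Groth.Agent.S10145

section Aux

variable {S : Scheme.{u}} {B : AlgSp.Sp S} (G : AlgSp.GroupoidSp B)

/-- Composition of `T`-valued arrows. -/
noncomputable def cmp {T : AlgSp.Sp S} (α β : T ⟶ G.R) (h : α ≫ G.s = β ≫ G.t) : T ⟶ G.R :=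
  pullback.lift α β h ≫ G.c

theorem cmp_congr {T : AlgSp.Sp S} {α α' β β' : T ⟶ G.R} (hα : α = α') (hβ : β = β')
    (h : α ≫ G.s = β ≫ G.t) (h' : α' ≫ G.s = β' ≫ G.t) : cmp G α β h = cmp G α' β' h' := by
  subst hα hβ
  rfl

theorem precomp_cmp {T T' : AlgSp.Sp S} (γ : T' ⟶ T) (α β : T ⟶ G.R) (h : α ≫ G.s = β ≫ G.t) :
    γ ≫ cmp G α β h = cmp G (γ ≫ α) (γ ≫ β)
      (by rw [Category.assoc, Category.assoc, h]) := by
  unfold cmp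
  rw [← Category.assoc]
  congr 1
  apply pullback.hom_ext
  · rw [Category.assoc, pullback.lift_fst, pullback.lift_fst]
  · rw [Category.assoc, pullback.lift_snd, pullback.lift_snd]

theorem cmp_s {T : AlgSp.Sp S} (α β : T ⟶ G.R) (h : α ≫ G.s = β ≫ G.t) :
    cmp G α β h ≫ G.s = β ≫ G.s := G.comp_s α β h

theorem cmp_t {T : AlgSp.Sp S} (α β : T ⟶ G.R) (h : α ≫ G.s = β ≫ G.t) :
    cmp G α β h ≫ G.t = α ≫ G.t := G.comp_t α β h

theorem cmp_assoc {T : AlgSp.Sp S} (α β γ : T ⟶ G.R) (h₁ : α ≫ G.s = β ≫ G.t)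
    (h₂ : β ≫ G.s = γ ≫ G.t) :
    cmp G (cmp G α β h₁) γ ((cmp_s G α β h₁).trans h₂) =
      cmp G α (cmp G β γ h₂) (h₁.trans (cmp_t G β γ h₂).symm) := G.assoc α β γ h₁ h₂

/-- Left translation by a section `a` of `s`. -/
theorem translation {U' : AlgSp.Sp S} (hU : U' = G.U) (a : G.U ⟶ G.R) (ha : a ≫ G.s = 𝟙 G.U)
    [IsIso (a ≫ G.t)] (h : (G.t ≫ a) ≫ G.s = 𝟙 G.R ≫ G.t) :
    IsIso (cmp G (G.t ≫ a) (𝟙 G.R) h) ∧ G.e ≫ cmp G (G.t ≫ a) (𝟙 G.R) h = a := by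
  have hτ : a ≫ G.t ≫ inv (a ≫ G.t) = 𝟙 G.U := by
    rw [← Category.assoc, IsIso.hom_inv_id]
  have hτ' : inv (a ≫ G.t) ≫ a ≫ G.t = 𝟙 G.U := IsIso.inv_hom_id _
  -- the inverse translation
  have h' : (G.t ≫ inv (a ≫ G.t) ≫ a ≫ G.i) ≫ G.s = 𝟙 G.R ≫ G.t := by
    simp only [Category.assoc, G.i_s, hτ', Category.comp_id, Category.id_comp]
  have hte : ∀ (hh : (G.t ≫ G.e) ≫ G.s = 𝟙 G.R ≫ G.t), cmp G (G.t ≫ G.e) (𝟙 G.R) hh = 𝟙 G.R := by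
    intro hh
    have := G.e_comp (𝟙 G.R)
    rw [cmp_congr G (Category.id_comp _).symm rfl hh
      (by rw [Category.assoc, Category.assoc, G.e_s, Category.comp_id])]
    exact this
  refine ⟨⟨⟨cmp G (G.t ≫ inv (a ≫ G.t) ≫ a ≫ G.i) (𝟙 G.R) h', ?_, ?_⟩⟩, ?_⟩
  · -- L ≫ L' = 𝟙
    rw [precomp_cmp]
    have hLt : cmp G (G.t ≫ a) (𝟙 G.R) h ≫ G.t = G.t ≫ a ≫ G.t := by
      rw [cmp_t, Category.assoc]
    have e1 : cmp G (G.t ≫ a) (𝟙 G.R) h ≫ G.t ≫ inv (a ≫ G.t) ≫ a ≫ G.i = (G.t ≫ a) ≫ G.i := by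
      rw [← Category.assoc, hLt]
      simp only [Category.assoc]
      rw [reassoc_of% hτ]
    have hh1 : ((G.t ≫ a) ≫ G.i) ≫ G.s = (G.t ≫ a) ≫ G.t := by
      rw [Category.assoc, G.i_s]
    rw [cmp_congr G e1 (Category.comp_id _) _
      (hh1.trans (cmp_t G (G.t ≫ a) (𝟙 G.R) h).symm)]
    rw [← cmp_assoc G ((G.t ≫ a) ≫ G.i) (G.t ≫ a) (𝟙 G.R) hh1 h]
    have e2 : cmp G ((G.t ≫ a) ≫ G.i) (G.t ≫ a) hh1 = G.t ≫ G.e := by
      have := G.i_comp (G.t ≫ a)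
      unfold cmp
      rw [this]
      simp only [Category.assoc]
      rw [reassoc_of% ha]
    rw [cmp_congr G e2 rfl _ (by simp [G.e_s])]
    exact hte _
  · -- L' ≫ L = 𝟙
    rw [precomp_cmp]
    have hLt : cmp G (G.t ≫ inv (a ≫ G.t) ≫ a ≫ G.i) (𝟙 G.R) h' ≫ G.t = G.t ≫ inv (a ≫ G.t) := by
      rw [cmp_t]
      simp only [Category.assoc, G.i_t, ha, Category.comp_id]
    have e1 : cmp G (G.t ≫ inv (a ≫ G.t) ≫ a ≫ G.i) (𝟙 G.R) h' ≫ G.t ≫ a =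
        G.t ≫ inv (a ≫ G.t) ≫ a := by
      rw [← Category.assoc, hLt, Category.assoc]
    have e3 : G.t ≫ inv (a ≫ G.t) ≫ a ≫ G.i = (G.t ≫ inv (a ≫ G.t) ≫ a) ≫ G.i := by
      simp only [Category.assoc]
    have hh1 : (G.t ≫ inv (a ≫ G.t) ≫ a) ≫ G.s = ((G.t ≫ inv (a ≫ G.t) ≫ a) ≫ G.i) ≫ G.t := by
      rw [Category.assoc _ G.i, G.i_t]
    have hh2 : ((G.t ≫ inv (a ≫ G.t) ≫ a) ≫ G.i) ≫ G.s = 𝟙 G.R ≫ G.t := by
      rw [← e3]; exact h'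
    rw [cmp_congr G e1 (((Category.comp_id _).trans (cmp_congr G e3 rfl h' hh2)))
      _ (hh1.trans (cmp_t G _ (𝟙 G.R) hh2).symm)]
    rw [← cmp_assoc G (G.t ≫ inv (a ≫ G.t) ≫ a) ((G.t ≫ inv (a ≫ G.t) ≫ a) ≫ G.i) (𝟙 G.R) hh1 hh2]
    have e2 : cmp G (G.t ≫ inv (a ≫ G.t) ≫ a) ((G.t ≫ inv (a ≫ G.t) ≫ a) ≫ G.i) hh1 = G.t ≫ G.e := by
      have := G.comp_i (G.t ≫ inv (a ≫ G.t) ≫ a)
      unfold cmp
      rw [this]
      simp only [Category.assoc]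
      rw [reassoc_of% hτ']
    rw [cmp_congr G e2 rfl _ (by simp [G.e_s])]
    exact hte _
  · rw [precomp_cmp]
    have e1 : G.e ≫ G.t ≫ a = a := by rw [reassoc_of% G.e_t]
    have e2 : G.e ≫ 𝟙 G.R = a ≫ G.s ≫ G.e := by rw [reassoc_of% ha, Category.comp_id]
    rw [cmp_congr G e1 e2 _
      (by rw [Category.assoc, Category.assoc, G.e_t, Category.comp_id])]
    exact G.comp_e a

end Aux

/-- Let `(U, R, s, t, c)` be a groupoid in algebraic spaces over `B` whose object space is `U = Spec k`,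
and let `r : Spec k ⟶ R` be such that `s ∘ r` and `t ∘ r` are automorphisms of `Spec k`; write `a =
r ∘ (s ∘ r)⁻¹`, so that `s ∘ a = id` and `t ∘ a` is an automorphism. Then `R ⟶ R`, `f ↦ c(a ∘ t ∘ f,
f)`, is an automorphism of `R` mapping `e` to `a` (the point `r`). -/
theorem result (S : Scheme.{u}) (B : AlgSp.Sp S) (hB : AlgSp.IsAlgSpace B)
    (G : AlgSp.GroupoidSp B) (hR : AlgSp.IsAlgSpace G.R) (k : Type u) [Field k]
    (σ : Spec (CommRingCat.of k) ⟶ S) (eU : G.U ≅ (AlgSp.yon S).obj (Over.mk σ))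
    (a : G.U ⟶ G.R) (ha : a ≫ G.s = 𝟙 G.U) [IsIso (a ≫ G.t)] :
    IsIso (pullback.lift (G.t ≫ a) (𝟙 G.R) (((Category.assoc _ _ _).trans (congrArg (G.t ≫ ·) ha)).trans ((Category.comp_id _).trans (Category.id_comp _).symm)) ≫ G.c) ∧
      G.e ≫ (pullback.lift (G.t ≫ a) (𝟙 G.R) (((Category.assoc _ _ _).trans (congrArg (G.t ≫ ·) ha)).trans ((Category.comp_id _).trans (Category.id_comp _).symm)) ≫ G.c) = a := by
  exact translation G rfl a ha _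

end Groth.Agent.S10145
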