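import Groth.Statements.S10146
import Groth.Agent.Lib.Helper30.AlgClosedIso
import Groth.Agent.Lib.Helper37.AlgSpPoints
import Groth.Prelude.Def_AlgSpDec

set_option autoImplicit false
universe u
open CategoryTheory CategoryTheory.Limits AlgebraicGeometry
open AlgSp AlgSp.GroupoidSp

namespace Groth.Agent.S10146

/-- Let `(U, R, s, t, c)` be a groupoid in algebraic spaces over `B` whose object space is `U = Spec k`.
For every point `r` of `R` there are an algebraically closed field extension `k'` of `k` and, on the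
restriction `(U', R', s', t', c')` along `Spec k' ⟶ Spec k`, a morphism `r' : Spec k' ⟶ R'` mapping
to `r` in `R` such that `s' ∘ r'` and `t' ∘ r'` are automorphisms of `Spec k'`. -/
theorem result (S : Scheme.{u}) (B : AlgSp.Sp S) (hB : AlgSp.IsAlgSpace B)
    (G : AlgSp.GroupoidSp B) (hR : AlgSp.IsAlgSpace G.R) (k : Type u) [Field k]
    (σ : Spec (CommRingCat.of k) ⟶ S) (eU : G.U ≅ (AlgSp.yon S).obj (Over.mk σ)) (r : AlgSp.Points G.R) :
    ∃ (k' : Type u) (_ : Field k') (_ : Algebra k k'), IsAlgClosed k' ∧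
      ∀ (G' : AlgSp.GroupoidSp B) (φ : AlgSp.GroupoidSp.Hom G' G), φ.IsRestriction → AlgSp.IsAlgSpace G'.R →
        ∀ (eU' : G'.U ≅ (AlgSp.yon S).obj (Over.mk (Spec.map (CommRingCat.ofHom (algebraMap k k')) ≫ σ))),
          φ.fU = eU'.hom ≫ (AlgSp.yon S).map (Over.homMk (Spec.map (CommRingCat.ofHom (algebraMap k k'))) rfl :
            Over.mk (Spec.map (CommRingCat.ofHom (algebraMap k k')) ≫ σ) ⟶ Over.mk σ) ≫ eU.inv →
          ∃ r' : G'.U ⟶ G'.R, (∀ x : AlgSp.Points G'.U, AlgSp.Points.map (r' ≫ φ.fR) x = r) ∧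
            IsIso (r' ≫ G'.s) ∧ IsIso (r' ≫ G'.t) := by
  obtain ⟨ρ, rfl⟩ := AlgSp.Points.mk_surjective r
  obtain ⟨ms, hms⟩ := (AlgSp.yon S).map_surjective (ρ.toHom ≫ G.s ≫ eU.hom)
  obtain ⟨mt, hmt⟩ := (AlgSp.yon S).map_surjective (ρ.toHom ≫ G.t ≫ eU.hom)
  obtain ⟨k', _, _, ι, α, hα⟩ := Groth.Agent.Lib.Helper30.AlgClosedIso.exists_algClosed_aut
    (Spec.preimage ms.left).hom (Spec.preimage mt.left).hom
  letI : Algebra k k' := (ι.comp (Spec.preimage ms.left).hom).toAlgebra
  refine ⟨k', inferInstance, inferInstance, inferInstance, ?_⟩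
  intro G' φ hres hR' eU' hφ
  -- scheme-level facts
  have hcan : Spec.map (CommRingCat.ofHom (algebraMap k k')) =
      Spec.map (CommRingCat.ofHom ι) ≫ ms.left := by
    conv_rhs => rw [← Spec.map_preimage ms.left]
    rw [← Spec.map_comp]
    rfl
  have hA : Spec.map (CommRingCat.ofHom (α : k' →+* k')) ≫
      Spec.map (CommRingCat.ofHom (algebraMap k k')) =
      Spec.map (CommRingCat.ofHom ι) ≫ mt.left := by
    conv_rhs => rw [← Spec.map_preimage mt.left]
    rw [← Spec.map_comp, ← Spec.map_comp]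
    congr 1
    ext x
    exact hα x
  have hsw : ms.left ≫ σ = ρ.str := Over.w ms
  have htw : mt.left ≫ σ = ρ.str := Over.w mt
  have hqw : Spec.map (CommRingCat.ofHom ι) ≫ ρ.str =
      Spec.map (CommRingCat.ofHom (algebraMap k k')) ≫ σ := by
    rw [hcan, Category.assoc, hsw]
  let T' : Over S := Over.mk (Spec.map (CommRingCat.ofHom (algebraMap k k')) ≫ σ)
  let q : T' ⟶ ρ.pt := Over.homMk (Spec.map (CommRingCat.ofHom ι)) hqw
  let can : T' ⟶ Over.mk σ := Over.homMk (Spec.map (CommRingCat.ofHom (algebraMap k k'))) rfl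
  have hAw : Spec.map (CommRingCat.ofHom (α : k' →+* k')) ≫ T'.hom = T'.hom := by
    change _ ≫ _ ≫ σ = _ ≫ σ
    rw [← Category.assoc, hA, Category.assoc, htw, hqw]
  let A : T' ⟶ T' := Over.homMk (Spec.map (CommRingCat.ofHom (α : k' →+* k'))) hAw
  have hcan' : can = q ≫ ms := Over.OverMorphism.ext hcan
  have hA' : A ≫ can = q ≫ mt := Over.OverMorphism.ext hA
  have hAiso : IsIso A := by
    have : IsIso A.left := by
      change IsIso (Spec.map (CommRingCat.ofHom (α : k' →+* k')))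
      have : IsIso (CommRingCat.ofHom (α : k' →+* k')) :=
        (α.toCommRingCatIso).isIso_hom
      infer_instance
    haveI : IsIso ((Over.forget S).map A) := this
    exact isIso_of_reflects_iso A (Over.forget S)
  -- sheaf-level facts
  change φ.fU = eU'.hom ≫ (AlgSp.yon S).map can ≫ eU.inv at hφ
  obtain ⟨ρ'', hρ''⟩ : ∃ ρ'' : G'.U ⟶ G.R, ρ'' = eU'.hom ≫ (AlgSp.yon S).map q ≫ ρ.toHom :=
    ⟨_, rfl⟩
  obtain ⟨a', ha'⟩ : ∃ a' : G'.U ⟶ G'.U, a' = eU'.hom ≫ (AlgSp.yon S).map A ≫ eU'.inv :=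
    ⟨_, rfl⟩
  have ha'iso : IsIso a' := by
    rw [ha']
    infer_instance
  have hfs : φ.fU = ρ'' ≫ G.s := by
    rw [hφ, hρ'']
    have : ρ.toHom ≫ G.s = (AlgSp.yon S).map ms ≫ eU.inv := by
      rw [hms]; simp
    simp only [Category.assoc]
    rw [this, hcan', Functor.map_comp]
    simp only [Category.assoc]
  have hft : a' ≫ φ.fU = ρ'' ≫ G.t := by
    rw [hφ, hρ'', ha']
    have : ρ.toHom ≫ G.t = (AlgSp.yon S).map mt ≫ eU.inv := by
      rw [hmt]; simp
    simp only [Category.assoc, Iso.inv_hom_id_assoc]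
    rw [this, ← Functor.map_comp_assoc, hA', Functor.map_comp]
    simp only [Category.assoc]
  have hpair : a' ≫ G'.pU = 𝟙 G'.U ≫ G'.pU := by
    rw [Category.id_comp, ← φ.fU_over, ← Category.assoc, hft, hfs, Category.assoc, Category.assoc,
      G.t_over, G.s_over]
  have hw : ρ'' ≫ G.j = pullback.lift a' (𝟙 G'.U) hpair ≫ φ.prodMap := by
    apply pullback.hom_ext
    · rw [Category.assoc, GroupoidSp.j_fst]
      unfold GroupoidSp.Hom.prodMap
      rw [Category.assoc, pullback.lift_fst, ← Category.assoc, pullback.lift_fst, hft]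
    · rw [Category.assoc, GroupoidSp.j_snd]
      unfold GroupoidSp.Hom.prodMap
      rw [Category.assoc, pullback.lift_snd, ← Category.assoc, pullback.lift_snd, Category.id_comp,
        hfs]
  refine ⟨hres.lift ρ'' (pullback.lift a' (𝟙 G'.U) hpair) hw, ?_, ?_, ?_⟩
  · intro x
    rw [hres.lift_fst, hρ'', AlgSp.Points.map_comp]
    generalize AlgSp.Points.map eU'.hom x = y
    rw [← AlgSp.Points.ofScheme_toScheme T' y, ← AlgSp.Points.ofPt_eq_map_ofScheme,
      Groth.Agent.Lib.Helper37.AlgSpPoints.ofPt_map_comp, AlgSp.Points.ofPt_toHom]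
  · have : hres.lift ρ'' (pullback.lift a' (𝟙 G'.U) hpair) hw ≫ G'.s = 𝟙 G'.U := by
      rw [← GroupoidSp.j_snd, ← Category.assoc, hres.lift_snd, pullback.lift_snd]
    rw [this]
    infer_instance
  · have : hres.lift ρ'' (pullback.lift a' (𝟙 G'.U) hpair) hw ≫ G'.t = a' := by
      rw [← GroupoidSp.j_fst, ← Category.assoc, hres.lift_snd, pullback.lift_fst]
    rw [this]
    exact ha'iso

end Groth.Agent.S10146
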