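import Groth.Statements.S10148
import Groth.Agent.Lib.Helper70.LinTop2
import Mathlib.RingTheory.Henselian
import Mathlib.Topology.Algebra.Polynomial

set_option autoImplicit false
universe u
open LinTop

namespace Groth.Agent.S10148

open Polynomial Topology Filter Groth.Agent.Lib.Helper70.LinTopLib

open scoped Ring in
theorem newton_seq {R : Type u} [CommRing R] (I : Ideal R) (hjac : I ≤ Ideal.jacobson ⊥)
    (f : R[X]) (a₀ : R) (h₁ : f.eval a₀ ∈ I)
    (h₂ : IsUnit (Ideal.Quotient.mk I (f.derivative.eval a₀))) :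
    ∃ c : ℕ → R, c 0 = a₀ ∧ (∀ n, c n - a₀ ∈ I) ∧
      (∀ n, f.eval (c n) ∈ (Ideal.span {f.eval a₀}) ^ (n + 1)) ∧
      (∀ n, c (n + 1) - c n ∈ (Ideal.span {f.eval a₀}) ^ (n + 1)) := by
  classical
  set P : Ideal R := Ideal.span {f.eval a₀} with hP
  let f' := derivative f
  let c : ℕ → R := fun n => Nat.recOn n a₀ fun _ b => b - f.eval b * (f'.eval b)⁻¹ʳ
  have hc : ∀ n, c (n + 1) = c n - f.eval (c n) * (f'.eval (c n))⁻¹ʳ := by
    intro n
    simp only [c]
  have hc_mod : ∀ n, c n ≡ a₀ [SMOD I] := by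
    intro n
    induction n with
    | zero => rfl
    | succ n ih => ?_
    rw [hc, sub_eq_add_neg, ← add_zero a₀]
    refine ih.add ?_
    rw [SModEq.zero, Ideal.neg_mem_iff]
    refine I.mul_mem_right _ ?_
    rw [← SModEq.zero] at h₁ ⊢
    exact (ih.eval f).trans h₁
  have hf'c : ∀ n, IsUnit (f'.eval (c n)) := by
    intro n
    have := isLocalHom_of_le_jacobson_bot I hjac
    apply IsUnit.of_map (Ideal.Quotient.mk I)
    convert! h₂ using 1
    exact SModEq.def.mp ((hc_mod n).eval _)
  have hfcI : ∀ n, f.eval (c n) ∈ P ^ (n + 1) := by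
    intro n
    induction n with
    | zero =>
      rw [zero_add, pow_one]
      exact Ideal.subset_span rfl
    | succ n ih => ?_
    rw [← taylor_eval_sub (c n), hc, sub_eq_add_neg, sub_eq_add_neg,
      add_neg_cancel_comm]
    rw [eval_eq_sum, sum_over_range' _ _ _ (lt_add_of_pos_right _ zero_lt_two), ←
      Finset.sum_range_add_sum_Ico _ (Nat.le_add_left _ _)]
    swap
    · intro i
      rw [zero_mul]
    refine Ideal.add_mem _ ?_ ?_
    · rw [← one_add_one_eq_two, Finset.sum_range_succ, Finset.range_one, Finset.sum_singleton,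
        taylor_coeff_zero, taylor_coeff_one, pow_zero, pow_one, mul_one, mul_neg,
        mul_left_comm, Ring.mul_inverse_cancel _ (hf'c n), mul_one, add_neg_cancel]
      exact Ideal.zero_mem _
    · refine Submodule.sum_mem _ ?_
      simp only [Finset.mem_Ico]
      rintro i ⟨h2i, _⟩
      have aux : n + 2 ≤ i * (n + 1) := by trans 2 * (n + 1) <;> nlinarith only [h2i]
      refine Ideal.mul_mem_left _ _ (Ideal.pow_le_pow_right aux ?_)
      rw [pow_mul']
      exact Ideal.pow_mem_pow ((Ideal.neg_mem_iff _).2 <| Ideal.mul_mem_right _ _ ih) _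
  refine ⟨c, rfl, ?_, hfcI, ?_⟩
  · intro n
    exact (SModEq.sub_mem).1 (hc_mod n)
  · intro n
    rw [hc, sub_sub_cancel_left, Ideal.neg_mem_iff]
    exact Ideal.mul_mem_right _ _ (hfcI n)

section Top

set_option linter.unusedSectionVars false

variable {A : Type u} [CommRing A] [UniformSpace A] [IsUniformAddGroup A] [IsTopologicalRing A]
  [IsLinearTopology A A] [T2Space A] [CompleteSpace A]

theorem tendsto_zero_of_mem_span_pow (t : A) (ht : IsTopologicallyNilpotent t) (d : ℕ → A)
    (hd : ∀ n, d n ∈ (Ideal.span {t}) ^ (n + 1)) : Tendsto d atTop (𝓝 0) := by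
  rw [(IsLinearTopology.hasBasis_open_ideal (R := A)).tendsto_right_iff]
  intro K hK
  obtain ⟨m, hm⟩ := (isTopologicallyNilpotent_iff.1 ht) K hK
  rw [Filter.eventually_atTop]
  refine ⟨m, fun n hn => ?_⟩
  have h1 : (Ideal.span {t}) ^ (n + 1) ≤ K := by
    rw [Ideal.span_singleton_pow, Ideal.span_singleton_le_iff_mem]
    obtain ⟨k, rfl⟩ := Nat.exists_eq_add_of_le hn
    rw [show m + k + 1 = m + (k + 1) by ring, pow_add]
    exact K.mul_mem_right _ hm
  exact h1 (hd n)

theorem isUnit_one_add (t : A) (ht : IsTopologicallyNilpotent t) : IsUnit (1 + t) := by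
  have hnt : IsTopologicallyNilpotent (-t) := by
    have := ht.mul_left (-1)
    simpa using this
  let s : ℕ → A := fun n => ∑ k ∈ Finset.range n, (-t) ^ k
  have hs : ∀ n, s (n + 1) - s n = (-t) ^ n := by
    intro n
    simp only [s, Finset.sum_range_succ, add_sub_cancel_left]
  obtain ⟨b, hb⟩ := exists_tendsto_of_sub_tendsto_zero s (by simp only [hs]; exact hnt)
  have h1 : ∀ n, s n * (1 + t) = 1 - (-t) ^ n := by
    intro n
    have := geom_sum_mul_neg (-t) n
    rw [sub_neg_eq_add] at this
    exact this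
  have h2 : Tendsto (fun n => s n * (1 + t)) atTop (𝓝 (b * (1 + t))) :=
    hb.mul_const _
  have h3 : Tendsto (fun n => s n * (1 + t)) atTop (𝓝 1) := by
    have : Tendsto (fun n => (1 : A) - (-t) ^ n) atTop (𝓝 (1 - 0)) :=
      tendsto_const_nhds.sub hnt
    rw [sub_zero] at this
    simpa only [h1] using this
  have h4 : b * (1 + t) = 1 := tendsto_nhds_unique h2 h3
  exact IsUnit.of_mul_eq_one _ (by rw [mul_comm]; exact h4)

theorem henselian_of_weakIdeal (I : Ideal A) (hIo : IsOpen (I : Set A))
    (hIn : ∀ f ∈ I, IsTopologicallyNilpotent f) : HenselianRing A I := by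
  have hjac : I ≤ Ideal.jacobson ⊥ := by
    intro x hx
    rw [Ideal.mem_jacobson_bot]
    intro y
    rw [add_comm]
    exact isUnit_one_add _ (hIn _ (I.mul_mem_right y hx))
  refine ⟨hjac, ?_⟩
  intro f _ a₀ h₁ h₂
  obtain ⟨c, hc0, hcI, hfc, hcc⟩ := newton_seq I hjac f a₀ h₁ h₂
  have ht := hIn _ h₁
  obtain ⟨a, ha⟩ := exists_tendsto_of_sub_tendsto_zero c
    (tendsto_zero_of_mem_span_pow _ ht _ hcc)
  refine ⟨a, ?_, ?_⟩
  · have h1 : Tendsto (fun n => f.eval (c n)) atTop (𝓝 (f.eval a)) :=
      (f.continuous.tendsto a).comp ha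
    have h2 : Tendsto (fun n => f.eval (c n)) atTop (𝓝 0) :=
      tendsto_zero_of_mem_span_pow _ ht _ hfc
    exact tendsto_nhds_unique h1 h2
  · have h1 : Tendsto (fun n => c n - a₀) atTop (𝓝 (a - a₀)) := ha.sub_const a₀
    exact (isClosed_of_isOpen_ideal I hIo).mem_of_tendsto h1 (Filter.Eventually.of_forall hcI)

end Top

/-- Let A be a weakly admissible topological ring (linearly topologized, Hausdorff and complete, having
a weak ideal of definition) and let I be a weak ideal of definition of A, that is, an open ideal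
consisting of topologically nilpotent elements. Then (A, I) is a henselian pair. -/
theorem result
    (A : Type u) [CommRing A] [UniformSpace A] [IsUniformAddGroup A] [IsTopologicalRing A]
    (hA : LinTop.IsWeaklyAdmissible A) (I : Ideal A) (hI : LinTop.IsWeakIdealOfDefinition A I) :
    HenselianRing A I := by
  obtain ⟨⟨hlin, -⟩, hT2, hC⟩ := hA
  exact henselian_of_weakIdeal I hI.1 hI.2

end Groth.Agent.S10148
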