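import Groth.Statements.S10151
import Groth.Agent.Lib.Helper70.LinTop

set_option autoImplicit false
universe u v w
open LinTop

namespace Groth.Agent.S10151

/-- Given linearly topologized rings A, B, C and continuous ring maps ψ : B → C and φ : A → B, tautness
of the composite A → C implies that ψ is taut. -/
theorem result
    (A : Type u) [CommRing A] [TopologicalSpace A] [IsTopologicalRing A] [IsLinearTopology A A]
    (B : Type v) [CommRing B] [TopologicalSpace B] [IsTopologicalRing B] [IsLinearTopology B B]
    (C : Type w) [CommRing C] [TopologicalSpace C] [IsTopologicalRing C] [IsLinearTopology C C]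
    (φ : A →+* B) (ψ : B →+* C) (hφ : Continuous φ) (hψ : Continuous ψ)
    (h : LinTop.IsTaut (ψ.comp φ)) : LinTop.IsTaut ψ := by
  open Groth.Agent.Lib.Helper70.LinTopLib in
  refine ⟨hψ, ?_, ?_⟩
  · intro J hJ
    have hI : IsOpen (((J.comap φ : Ideal A)) : Set A) := isOpen_comap φ hφ J hJ
    have h1 := h.2.1 _ hI
    have hle : ((J.comap φ).map (ψ.comp φ)) ≤ J.map ψ := by
      rw [← Ideal.map_map]
      exact Ideal.map_mono Ideal.map_comap_le
    have h2 : (((J.comap φ).map (ψ.comp φ)).closure : Ideal C) ≤ (J.map ψ).closure := by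
      intro x hx
      exact closure_mono (show ((((J.comap φ).map (ψ.comp φ)) : Ideal C) : Set C) ⊆ _ from hle) hx
    have h3 : IsOpen (((J.map ψ).closure : Ideal C) : Set C) := by
      refine isOpen_of_le h2 ?_
      rw [Ideal.coe_closure]
      exact h1
    rw [Ideal.coe_closure] at h3
    exact h3
  · intro U hU
    obtain ⟨K, hK, hKU⟩ := exists_open_ideal_subset hU
    exact ⟨K.comap ψ, isOpen_comap ψ hψ K hK,
      (closure_map_subset_of_le_comap ψ hK le_rfl).trans hKU⟩

end Groth.Agent.S10151
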