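import Groth.Statements.S10154
import Groth.Agent.Lib.Helper70.LinTop

set_option autoImplicit false
universe u v
open LinTop

namespace Groth.Agent.S10154

/-- Let φ : A → B be a taut homomorphism of linearly topologized rings. If A is pre-admissible, then B
is pre-admissible. -/
theorem result
    (A : Type u) [CommRing A] [TopologicalSpace A] [IsTopologicalRing A] [IsLinearTopology A A]
    (B : Type v) [CommRing B] [TopologicalSpace B] [IsTopologicalRing B] [IsLinearTopology B B]
    (φ : A →+* B) (hφ : LinTop.IsTaut φ) (hA : LinTop.IsPreadmissible A) :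
    LinTop.IsPreadmissible B := by
  open Groth.Agent.Lib.Helper70.LinTopLib in
  obtain ⟨-, I, hIo, hIn⟩ := hA
  refine ⟨inferInstance, (I.map φ).closure, ?_, ?_⟩
  · rw [Ideal.coe_closure]
    exact hφ.2.1 I hIo
  · intro U hU
    obtain ⟨I', hI'o, hI'U⟩ := hφ.2.2 U hU
    obtain ⟨n, hn, hnI'⟩ := hIn (I' : Set A) (mem_nhds_zero_of_isOpen_ideal I' hI'o)
    refine ⟨n, hn, subset_trans ?_ hI'U⟩
    have h1 : (I.map φ).closure ^ n ≤ ((I.map φ) ^ n).closure := closure_pow_le _ n
    have h2 : ((I.map φ) ^ n).closure ≤ (I'.map φ).closure := by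
      apply closure_mono_ideal
      rw [← Ideal.map_pow]
      exact Ideal.map_mono (show I ^ n ≤ I' from hnI')
    have h3 := le_trans h1 h2
    intro x hx
    have := h3 hx
    rw [← Ideal.coe_closure]
    exact this

end Groth.Agent.S10154
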