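import Groth.Statements.S10156
import Mathlib.Topology.Algebra.OpenSubgroup

set_option autoImplicit false
universe u v w
open LinTop

namespace Groth.Agent.S10156

/-- Given pre-adic rings A, B, C and continuous ring maps ψ : B → C and φ : A → B, adicness of the
composite A → C implies that ψ is adic. -/
theorem result
    (A : Type u) [CommRing A] [TopologicalSpace A] [IsTopologicalRing A] (hA : LinTop.IsPreadic A)
    (B : Type v) [CommRing B] [TopologicalSpace B] [IsTopologicalRing B] (hB : LinTop.IsPreadic B)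
    (C : Type w) [CommRing C] [TopologicalSpace C] [IsTopologicalRing C] (hC : LinTop.IsPreadic C)
    (φ : A →+* B) (ψ : B →+* C) (hφ : Continuous φ) (hψ : Continuous ψ)
    (h : LinTop.IsAdicHom (ψ.comp φ)) : LinTop.IsAdicHom ψ := by
  obtain ⟨I, hI, hIC⟩ := h
  obtain ⟨J, hJ⟩ := hB
  rw [isAdic_iff] at hIC hJ
  obtain ⟨hKopen, hKnhds⟩ := hIC
  obtain ⟨hJopen, hJnhds⟩ := hJ
  have hJ1 : IsOpen (J : Set B) := by
    have := hJopen 1
    rwa [pow_one] at this
  have hJdef : IsIdealOfDefinition B J := by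
    refine ⟨hJ1, fun U hU => ?_⟩
    obtain ⟨n, hn⟩ := hJnhds U hU
    refine ⟨n + 1, Nat.succ_pos n, fun x hx => hn ?_⟩
    exact Ideal.pow_le_pow_right (Nat.le_succ n) hx
  refine ⟨J, hJdef, ?_⟩
  obtain ⟨n, hn0, hn⟩ := hI.2 (φ ⁻¹' (J : Set B)) ((hJ1.preimage hφ).mem_nhds (by simp))
  have h1 : (I.map (ψ.comp φ)) ^ n ≤ J.map ψ := by
    rw [← Ideal.map_pow, ← Ideal.map_map]
    apply Ideal.map_mono
    rw [Ideal.map_le_iff_le_comap]
    exact fun x hx => hn hx
  have hK1 : IsOpen ((I.map (ψ.comp φ) : Ideal C) : Set C) := by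
    have := hKopen 1
    rwa [pow_one] at this
  obtain ⟨m, hm⟩ := hJnhds (ψ ⁻¹' ((I.map (ψ.comp φ) : Ideal C) : Set C))
    ((hK1.preimage hψ).mem_nhds (by simp))
  have h2 : (J.map ψ) ^ m ≤ I.map (ψ.comp φ) := by
    rw [← Ideal.map_pow, Ideal.map_le_iff_le_comap]
    exact fun x hx => hm hx
  rw [isAdic_iff]
  refine ⟨fun k => ?_, fun s hs => ?_⟩
  · have hle : (I.map (ψ.comp φ)) ^ (n * k) ≤ (J.map ψ) ^ k := by
      rw [pow_mul]
      exact Ideal.pow_right_mono h1 k
    exact Ideal.isOpen_of_isOpen_subideal hle (hKopen (n * k))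
  · obtain ⟨a, ha⟩ := hKnhds s hs
    refine ⟨m * a, ?_⟩
    have hle : (J.map ψ) ^ (m * a) ≤ (I.map (ψ.comp φ)) ^ a := by
      rw [pow_mul]
      exact Ideal.pow_right_mono h2 a
    exact fun x hx => ha (hle hx)

end Groth.Agent.S10156
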