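import Groth.Statements.S10157
import Groth.Agent.Lib.Helper70.LinTop

set_option autoImplicit false
universe u v
open LinTop

namespace Groth.Agent.S10157

open Groth.Agent.Lib.Helper70.LinTopLib

/-- A continuous adic homomorphism φ : A → B between pre-adic topological rings is taut. -/
theorem result
    (A : Type u) [CommRing A] [TopologicalSpace A] [IsTopologicalRing A] (hA : LinTop.IsPreadic A)
    (B : Type v) [CommRing B] [TopologicalSpace B] [IsTopologicalRing B] (hB : LinTop.IsPreadic B)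
    (φ : A →+* B) (hφ : Continuous φ) (h : LinTop.IsAdicHom φ) : LinTop.IsTaut φ := by

  obtain ⟨I, hI, hIB⟩ := h
  obtain ⟨I₀, hI₀⟩ := hA
  rw [isAdic_iff] at hIB hI₀
  obtain ⟨hBopen, hBnhds⟩ := hIB
  obtain ⟨hAopen, hAnhds⟩ := hI₀
  have hIpow : ∀ n : ℕ, IsOpen ((I ^ n : Ideal A) : Set A) := by
    intro n
    obtain ⟨m, hm⟩ := hAnhds (I : Set A) (hI.1.mem_nhds I.zero_mem)
    have hle : I₀ ^ (m * n) ≤ I ^ n := by
      rw [pow_mul]
      exact Ideal.pow_right_mono (fun x hx => hm hx) n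
    exact isOpen_of_le hle (hAopen (m * n))
  refine ⟨hφ, fun I' hI' => ?_, fun U hU => ?_⟩
  · obtain ⟨n, -, hn⟩ := hI.2 (I' : Set A) (hI'.mem_nhds I'.zero_mem)
    have hle : (I.map φ) ^ n ≤ I'.map φ := by
      rw [← Ideal.map_pow]
      exact Ideal.map_mono (fun x hx => hn hx)
    have ho : IsOpen ((I'.map φ : Ideal B) : Set B) := isOpen_of_le hle (hBopen n)
    rw [(isClosed_of_isOpen_ideal _ ho).closure_eq]
    exact ho
  · obtain ⟨n, hn⟩ := hBnhds U hU
    refine ⟨I ^ n, hIpow n, ?_⟩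
    rw [Ideal.map_pow, (isClosed_of_isOpen_ideal _ (hBopen n)).closure_eq]
    exact hn

end Groth.Agent.S10157
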