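import Groth.Statements.S10163
import Groth.Agent.Lib.Helper63.Taut
import Groth.Agent.Lib.Helper70.LinTop2
import Mathlib.RingTheory.Finiteness.Ideal

set_option autoImplicit false
universe u
open LinTop

namespace Groth.Agent.S10163

open Filter Topology Groth.Agent.Lib.Helper70.LinTopLib Groth.Agent.Lib.Helper63.Taut

theorem closure_pow_subset
    (A : Type u) [CommRing A] [UniformSpace A] [IsUniformAddGroup A] [IsTopologicalRing A]
    [IsLinearTopology A A] [T2Space A] [CompleteSpace A]
    (I : Ideal A) (hfg : I.FG) (hopen : ∀ n : ℕ, IsOpen (closure ((I ^ n : Ideal A) : Set A)))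
    (hbasis : ∀ U ∈ nhds (0 : A), ∃ n : ℕ, closure ((I ^ n : Ideal A) : Set A) ⊆ U) (n : ℕ) :
    closure ((I ^ n : Ideal A) : Set A) ⊆ ((I ^ n : Ideal A) : Set A) := by
  obtain ⟨s, g, hg⟩ := Submodule.fg_iff_exists_fin_generating_family.1 (hfg.pow (n := n))
  let F : ℕ → Ideal A := fun k => (I ^ k).closure
  have hFo : ∀ k, IsOpen (F k : Set A) := by
    intro k
    change IsOpen (((I ^ k).closure : Ideal A) : Set A)
    rw [Ideal.coe_closure]
    exact hopen k
  have hFanti : Antitone F := fun a b hab => closure_mono_ideal (Ideal.pow_le_pow_right hab)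
  have hFbasis : ∀ U ∈ 𝓝 (0 : A), ∃ k, (F k : Set A) ⊆ U := by
    intro U hU
    obtain ⟨k, hk⟩ := hbasis U hU
    refine ⟨k, ?_⟩
    change (((I ^ k).closure : Ideal A) : Set A) ⊆ U
    rw [Ideal.coe_closure]
    exact hk
  have hclaim : ∀ k : ℕ, ∀ x ∈ F (n + k), ∃ c : Fin s → A, (∀ j, c j ∈ I ^ k) ∧
      x - ∑ j, c j * g j ∈ F (n + k + 1) := by
    intro k x hx
    have hx' : x ∈ closure ((I ^ (n + k) : Ideal A) : Set A) := by
      rw [← Ideal.coe_closure]
      exact hx
    obtain ⟨y, hy, hxy⟩ :=
      exists_sub_mem_of_mem_closure (I ^ (n + k)) (F (n + k + 1)) (hFo _) x hx'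
    have hy' : y ∈ I ^ k • Submodule.span A (Set.range g) := by
      rw [hg, smul_eq_mul, ← pow_add, add_comm]
      exact hy
    obtain ⟨a, ha, hsum⟩ := (Submodule.mem_ideal_smul_span_iff_exists_sum (I ^ k) g y).1 hy'
    refine ⟨a, ha, ?_⟩
    have : ∑ j, a j * g j = y := by
      rw [← hsum, Finsupp.sum_fintype a (fun i c => c • g i) (fun i => zero_smul A (g i))]
      simp only [smul_eq_mul]
    rw [this]
    exact hxy
  intro x hx
  choose! pick hpick_mem hpick_sub using hclaim
  let r : ℕ → A := fun k => Nat.rec x (fun k rk => rk - ∑ j, pick k rk j * g j) k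
  have hr0 : r 0 = x := rfl
  have hrs : ∀ k, r (k + 1) = r k - ∑ j, pick k (r k) j * g j := fun k => rfl
  have hrmem : ∀ k, r k ∈ F (n + k) := by
    intro k
    induction k with
    | zero =>
      rw [hr0]
      change x ∈ (I ^ n).closure
      rw [← SetLike.mem_coe, Ideal.coe_closure]
      exact hx
    | succ k ih =>
      rw [hrs]
      exact hpick_sub k (r k) ih
  let d : ℕ → Fin s → A := fun k => pick k (r k)
  have hdmem : ∀ k j, d k j ∈ I ^ k := fun k j => hpick_mem k (r k) (hrmem k) j
  let S : ℕ → Fin s → A := fun K j => ∑ k ∈ Finset.range K, d k j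
  have hSsucc : ∀ K j, S (K + 1) j - S K j = d K j := by
    intro K j
    simp only [S, Finset.sum_range_succ, add_sub_cancel_left]
  have hxS : ∀ K, x - ∑ j, S K j * g j = r K := by
    intro K
    induction K with
    | zero => simp [S, hr0]
    | succ K ih =>
      have h1 : ∀ j, S (K + 1) j = S K j + d K j := fun j => by rw [← hSsucc K j]; ring
      have h2 : ∑ j, S (K + 1) j * g j = ∑ j, S K j * g j + ∑ j, d K j * g j := by
        simp only [h1, add_mul, Finset.sum_add_distrib]
      have h3 : ∑ j, pick K (r K) j * g j = ∑ j, d K j * g j := rfl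
      rw [hrs, h2, h3, ← ih]
      ring
  have hlim : ∀ j, ∃ a, Tendsto (fun K => S K j) atTop (𝓝 a) := by
    intro j
    apply exists_tendsto_of_sub_tendsto_zero
    have : Tendsto (fun k => d k j) atTop (𝓝 0) :=
      tendsto_zero_of_mem hFanti hFbasis (fun k => d k j) 0
        (fun k => by rw [zero_add]; exact le_closure_ideal _ (hdmem k j))
    simpa only [hSsucc] using this
  choose a ha using hlim
  have h1 : Tendsto (fun K => x - ∑ j, S K j * g j) atTop (𝓝 (x - ∑ j, a j * g j)) :=
    tendsto_const_nhds.sub (tendsto_finsetSum _ (fun j _ => (ha j).mul_const (g j)))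
  have h2 : Tendsto (fun K => x - ∑ j, S K j * g j) atTop (𝓝 0) := by
    simp only [hxS]
    exact tendsto_zero_of_mem hFanti hFbasis r n hrmem
  have hx0 : x - ∑ j, a j * g j = 0 := tendsto_nhds_unique h1 h2
  have hxe : x = ∑ j, a j * g j := sub_eq_zero.1 hx0
  rw [hxe]
  refine (I ^ n).sum_mem (fun j _ => (I ^ n).mul_mem_left _ ?_)
  rw [← hg]
  exact Submodule.subset_span ⟨j, rfl⟩

/-- Let A be Hausdorff, complete and linearly topologized, and I a finitely generated ideal whose powers
I^n all have open closures, these closures forming a basis of neighbourhoods of 0. Then A carries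
the I-adic topology; in particular A is adic with I as a finitely generated ideal of definition. -/
theorem result
    (A : Type u) [CommRing A] [UniformSpace A] [IsUniformAddGroup A] [IsTopologicalRing A] [IsLinearTopology A A] [T2Space A] [CompleteSpace A]
    (I : Ideal A) (hfg : I.FG) (hopen : ∀ n : ℕ, IsOpen (closure ((I ^ n : Ideal A) : Set A)))
    (hbasis : ∀ U ∈ nhds (0 : A), ∃ n : ℕ, closure ((I ^ n : Ideal A) : Set A) ⊆ U) :
    IsAdic I := by

  have heq : ∀ n : ℕ, ((I ^ n : Ideal A) : Set A) = closure ((I ^ n : Ideal A) : Set A) :=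
    fun n => subset_antisymm subset_closure (closure_pow_subset A I hfg hopen hbasis n)
  rw [isAdic_iff]
  refine ⟨fun n => ?_, fun U hU => ?_⟩
  · rw [heq n]
    exact hopen n
  · obtain ⟨n, hn⟩ := hbasis U hU
    exact ⟨n, subset_trans subset_closure hn⟩

end Groth.Agent.S10163
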