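import Groth.Statements.S10158
import Groth.Agent.S10163

set_option autoImplicit false
universe u v
open LinTop

namespace Groth.Agent.S10158

open Groth.Agent.Lib.Helper70.LinTopLib

/-- Let φ : A → B be a taut homomorphism of linearly topologized rings. Assume A is pre-adic with a
finitely generated ideal of definition I and B is Hausdorff and complete. Then the topology of B is
the φ(I)B-adic topology; in particular B is adic with a finitely generated ideal of definition and φ
is adic. -/
theorem result
    (A : Type u) [CommRing A] [TopologicalSpace A] [IsTopologicalRing A] (hA : LinTop.IsPreadic A)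
    (I : Ideal A) (hI : LinTop.IsIdealOfDefinition A I) (hfg : I.FG)
    (B : Type v) [CommRing B] [UniformSpace B] [IsUniformAddGroup B] [IsTopologicalRing B]
    [IsLinearTopology B B] [T2Space B] [CompleteSpace B]
    (φ : A →+* B) (hφ : LinTop.IsTaut φ) :
    IsAdic (I.map φ) := by

  obtain ⟨I₀, hI₀⟩ := hA
  rw [isAdic_iff] at hI₀
  obtain ⟨hAopen, hAnhds⟩ := hI₀
  have hIpow : ∀ n : ℕ, IsOpen ((I ^ n : Ideal A) : Set A) := by
    intro n
    obtain ⟨m, hm⟩ := hAnhds (I : Set A) (hI.1.mem_nhds I.zero_mem)
    have hle : I₀ ^ (m * n) ≤ I ^ n := by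
      rw [pow_mul]
      exact Ideal.pow_right_mono (fun x hx => hm hx) n
    exact isOpen_of_le hle (hAopen (m * n))
  apply Groth.Agent.S10163.result B (I.map φ) (hfg.map φ)
  · intro n
    rw [← Ideal.map_pow]
    exact hφ.2.1 _ (hIpow n)
  · intro U hU
    obtain ⟨I', hI', hI'U⟩ := hφ.2.2 U hU
    obtain ⟨n, -, hn⟩ := hI.2 (I' : Set A) (hI'.mem_nhds I'.zero_mem)
    refine ⟨n, subset_trans ?_ hI'U⟩
    rw [← Ideal.map_pow]
    exact closure_mono (Ideal.map_mono (fun x hx => hn hx))

end Groth.Agent.S10158
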