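import Groth.Statements.S10159
import Groth.Agent.Lib.Helper63.Taut
import Mathlib.Tactic.TFAE

set_option autoImplicit false
universe u
open LinTop

namespace Groth.Agent.S10159

open Groth.Agent.Lib.Helper70.LinTopLib Groth.Agent.Lib.Helper63.Taut

theorem isTaut_of_isAdic_source {A' : Type u} [CommRing A'] [TopologicalSpace A']
    [IsTopologicalRing A'] {A : Type u} [CommRing A] [TopologicalSpace A] [IsTopologicalRing A]
    (φ : A' →+* A) (I₀ : Ideal A') (hadic : IsAdic I₀)
    (hopen : ∀ n : ℕ, IsOpen (closure (((I₀ ^ n).map φ : Ideal A) : Set A)))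
    (hbasis : ∀ U ∈ nhds (0 : A), ∃ n : ℕ, closure (((I₀ ^ n).map φ : Ideal A) : Set A) ⊆ U) :
    LinTop.IsTaut φ := by
  rw [isAdic_iff] at hadic
  obtain ⟨hpo, hpb⟩ := hadic
  refine ⟨?_, fun I' hI' => ?_, fun U hU => ?_⟩
  · have hc : ContinuousAt φ.toAddMonoidHom 0 := by
      intro U hU
      have hU' : U ∈ nhds (0 : A) := by
        have h0 : φ.toAddMonoidHom 0 = 0 := map_zero _
        rwa [h0] at hU
      obtain ⟨n, hn⟩ := hbasis U hU'
      rw [Filter.mem_map]
      refine Filter.mem_of_superset ((hpo n).mem_nhds (I₀ ^ n).zero_mem) ?_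
      intro x hx
      exact hn (subset_closure (Ideal.mem_map_of_mem φ hx))
    exact continuous_of_continuousAt_zero φ.toAddMonoidHom hc
  · obtain ⟨n, hn⟩ := hpb (I' : Set A') (hI'.mem_nhds I'.zero_mem)
    have hL : IsOpen ((((I₀ ^ n).map φ).closure : Ideal A) : Set A) := by
      rw [Ideal.coe_closure]
      exact hopen n
    refine isOpen_closure_of_le hL ?_
    rw [Ideal.coe_closure]
    exact closure_mono (Ideal.map_mono (fun x hx => hn hx))
  · obtain ⟨n, hn⟩ := hbasis U hU
    exact ⟨I₀ ^ n, hpo n, hn⟩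

/-- For a ring A carrying a linear topology, the following four conditions are equivalent: (1) A is
weakly pre-adic; (2) there exist a pre-adic topological ring A' and a taut continuous ring
homomorphism A' → A (A' is taken in the universe of A, which suffices since A with an adic topology
serves); (3) A has an ideal of definition, and for at least one ideal of definition I every closure
cl(I^n) with n ≥ 1 is open; (4) A has an ideal of definition, and for each of its ideals of
definition I every closure cl(I^n) with n ≥ 1 is open. -/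
theorem result
    (A : Type u) [CommRing A] [TopologicalSpace A] [IsTopologicalRing A] [IsLinearTopology A A] :
    List.TFAE [LinTop.IsWeaklyPreadic A,
      ∃ (A' : Type u) (_ : CommRing A') (_ : TopologicalSpace A') (_ : IsTopologicalRing A')
        (φ : A' →+* A), LinTop.IsPreadic A' ∧ LinTop.IsTaut φ,
      LinTop.IsPreadmissible A ∧ ∃ I : Ideal A, LinTop.IsIdealOfDefinition A I ∧
        ∀ n : ℕ, 0 < n → IsOpen (closure ((I ^ n : Ideal A) : Set A)),
      LinTop.IsPreadmissible A ∧ ∀ I : Ideal A, LinTop.IsIdealOfDefinition A I →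
        ∀ n : ℕ, 0 < n → IsOpen (closure ((I ^ n : Ideal A) : Set A))] := by

  tfae_have 1 → 4 := by
    rintro ⟨-, I₀, hopen, hbasis⟩
    have hK : IsOpen ((I₀.closure : Ideal A) : Set A) := by
      rw [Ideal.coe_closure]
      have := hopen 1
      rwa [pow_one] at this
    refine ⟨⟨inferInstance, I₀.closure, hK, fun U hU => ?_⟩, fun I hI n _ => ?_⟩
    · obtain ⟨n, hn⟩ := hbasis U hU
      refine ⟨n + 1, Nat.succ_pos n, fun x hx => hn ?_⟩
      have h1 : I₀.closure ^ (n + 1) ≤ I₀.closure ^ n := Ideal.pow_le_pow_right (Nat.le_succ n)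
      have h2 := closure_pow_le I₀ n (h1 hx)
      rw [← Ideal.coe_closure]
      exact h2
    · obtain ⟨m, hm⟩ := hbasis (I : Set A) (hI.1.mem_nhds I.zero_mem)
      have hL : IsOpen (((I₀ ^ (m * n)).closure : Ideal A) : Set A) := by
        rw [Ideal.coe_closure]
        exact hopen (m * n)
      refine isOpen_closure_of_le hL ?_
      rw [Ideal.coe_closure]
      apply closure_mono
      have hle : I₀ ^ m ≤ I := fun x hx => hm (subset_closure hx)
      have : I₀ ^ (m * n) ≤ I ^ n := by
        rw [pow_mul]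
        exact Ideal.pow_right_mono hle n
      exact this
  tfae_have 4 → 3 := by
    rintro ⟨hpre, h⟩
    obtain ⟨I, hI⟩ := hpre.2
    exact ⟨hpre, I, hI, h I hI⟩
  tfae_have 3 → 1 := by
    rintro ⟨-, I, hI, hopen⟩
    refine ⟨inferInstance, I, fun n => ?_, fun U hU => ?_⟩
    · rcases Nat.eq_zero_or_pos n with rfl | hn
      · rw [pow_zero, Ideal.one_eq_top, Submodule.top_coe, closure_univ]
        exact isOpen_univ
      · exact hopen n hn
    · obtain ⟨I', hI', hI'U⟩ := exists_open_ideal_subset hU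
      obtain ⟨n, -, hn⟩ := hI.2 (I' : Set A) (hI'.mem_nhds I'.zero_mem)
      refine ⟨n, subset_trans ?_ hI'U⟩
      exact closure_minimal hn (isClosed_of_isOpen_ideal I' hI')
  tfae_have 1 → 2 := by
    rintro ⟨-, I₀, hopen, hbasis⟩
    refine ⟨A, inferInstance, I₀.adicTopology, (Ideal.nonarchimedean I₀).toIsTopologicalRing,
      RingHom.id A, ⟨I₀, rfl⟩, ?_⟩
    refine @isTaut_of_isAdic_source A _ I₀.adicTopology
      (Ideal.nonarchimedean I₀).toIsTopologicalRing A _ _ _ (RingHom.id A) I₀ rfl ?_ ?_
    · intro n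
      rw [Ideal.map_id]
      exact hopen n
    · intro U hU
      obtain ⟨n, hn⟩ := hbasis U hU
      refine ⟨n, ?_⟩
      rw [Ideal.map_id]
      exact hn
  tfae_have 2 → 1 := by
    rintro ⟨A', _, _, _, φ, ⟨I', hI'⟩, hφ⟩
    rw [isAdic_iff] at hI'
    obtain ⟨hpo, hpb⟩ := hI'
    refine ⟨inferInstance, I'.map φ, fun n => ?_, fun U hU => ?_⟩
    · rw [← Ideal.map_pow]
      exact hφ.2.1 _ (hpo n)
    · obtain ⟨I'', hI'', hI''U⟩ := hφ.2.2 U hU
      obtain ⟨n, hn⟩ := hpb (I'' : Set A') (hI''.mem_nhds I''.zero_mem)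
      refine ⟨n, subset_trans ?_ hI''U⟩
      rw [← Ideal.map_pow]
      exact closure_mono (Ideal.map_mono (fun x hx => hn hx))
  tfae_finish

end Groth.Agent.S10159
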