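import Groth.Statements.S10165
import Groth.Agent.Lib.Helper63.Taut

set_option autoImplicit false
universe u v
open LinTop

namespace Groth.Agent.S10165

open Groth.Agent.Lib.Helper70.LinTopLib Groth.Agent.Lib.Helper63.Taut

/-- Let φ : A → B be a taut homomorphism of linearly topologized rings. If A is weakly pre-adic, then B
is weakly pre-adic. -/
theorem result
    (A : Type u) [CommRing A] [TopologicalSpace A] [IsTopologicalRing A] [IsLinearTopology A A]
    (B : Type v) [CommRing B] [TopologicalSpace B] [IsTopologicalRing B] [IsLinearTopology B B]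
    (φ : A →+* B) (hφ : LinTop.IsTaut φ) (hA : LinTop.IsWeaklyPreadic A) :
    LinTop.IsWeaklyPreadic B := by

  obtain ⟨-, I, hopen, hbasis⟩ := hA
  refine ⟨inferInstance, I.map φ, fun n => ?_, fun U hU => ?_⟩
  · have h1 : IsOpen (((I ^ n).closure : Ideal A) : Set A) := by
      rw [Ideal.coe_closure]
      exact hopen n
    have h2 := hφ.2.1 _ h1
    rw [closure_map_closure φ hφ.1, Ideal.map_pow] at h2
    exact h2
  · obtain ⟨I', hI', hI'U⟩ := hφ.2.2 U hU
    obtain ⟨n, hn⟩ := hbasis (I' : Set A) (hI'.mem_nhds I'.zero_mem)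
    refine ⟨n, subset_trans ?_ hI'U⟩
    rw [← Ideal.map_pow]
    apply closure_mono
    apply Ideal.map_mono
    exact fun x hx => hn (subset_closure hx)

end Groth.Agent.S10165
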