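import Groth.Statements.S10164
import Groth.Agent.S10163

set_option autoImplicit false
universe u
open LinTop

namespace Groth.Agent.S10164

open Groth.Agent.Lib.Helper70.LinTopLib Groth.Agent.Lib.Helper63.Taut

/-- Let A be weakly adic and I an ideal of definition of A with I/I₂ finitely generated, where I₂
denotes the closure of I^2 (here: I maps onto a finitely generated ideal of A/I₂). Then A is adic,
and some finitely generated ideal of A is an ideal of definition. -/
theorem result
    (A : Type u) [CommRing A] [UniformSpace A] [IsUniformAddGroup A] [IsTopologicalRing A] (hA : LinTop.IsWeaklyAdic A)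
    (I : Ideal A) (hI : LinTop.IsIdealOfDefinition A I)
    (hfg : (I.map (Ideal.Quotient.mk ((I ^ 2).closure))).FG) :
    LinTop.IsAdicRing A ∧ ∃ J : Ideal A, LinTop.IsIdealOfDefinition A J ∧ J.FG := by

  obtain ⟨⟨hlin, I₀, hopen₀, hbasis₀⟩, hT2, hC⟩ := hA
  have hopenI : ∀ n : ℕ, IsOpen ((((I ^ n).closure : Ideal A)) : Set A) := by
    intro n
    obtain ⟨m, hm⟩ := hbasis₀ (I : Set A) (hI.1.mem_nhds I.zero_mem)
    have hL : IsOpen (((I₀ ^ (m * n)).closure : Ideal A) : Set A) := by
      rw [Ideal.coe_closure]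
      exact hopen₀ (m * n)
    have hle : I₀ ^ m ≤ I := fun x hx => hm (subset_closure hx)
    have h2 : I₀ ^ (m * n) ≤ I ^ n := by
      rw [pow_mul]
      exact Ideal.pow_right_mono hle n
    exact isOpen_of_le (closure_mono_ideal h2) hL
  have hbasisI : ∀ U ∈ nhds (0 : A), ∃ n : ℕ, ((((I ^ n).closure : Ideal A)) : Set A) ⊆ U := by
    intro U hU
    obtain ⟨I', hI', hI'U⟩ := exists_open_ideal_subset hU
    obtain ⟨n, -, hn⟩ := hI.2 (I' : Set A) (hI'.mem_nhds I'.zero_mem)
    refine ⟨n, subset_trans ?_ hI'U⟩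
    rw [Ideal.coe_closure]
    exact closure_minimal hn (isClosed_of_isOpen_ideal I' hI')
  obtain ⟨t, s, hs⟩ := Submodule.fg_iff_exists_fin_generating_family.1 hfg
  have hlift : ∀ i : Fin t, ∃ a ∈ I, Ideal.Quotient.mk ((I ^ 2).closure) a = s i := by
    intro i
    have hsi : s i ∈ I.map (Ideal.Quotient.mk ((I ^ 2).closure)) := by
      rw [← hs]
      exact Submodule.subset_span ⟨i, rfl⟩
    exact (Ideal.mem_map_iff_of_surjective _ Ideal.Quotient.mk_surjective).1 hsi
  choose a haI has using hlift
  have hJfg : (Ideal.span (Set.range a)).FG := Submodule.fg_span (Set.finite_range a)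
  have hJI : Ideal.span (Set.range a) ≤ I := by
    rw [Ideal.span_le]
    rintro _ ⟨i, rfl⟩
    exact haI i
  have hmapJ : (Ideal.span (Set.range a)).map (Ideal.Quotient.mk ((I ^ 2).closure)) =
      I.map (Ideal.Quotient.mk ((I ^ 2).closure)) := by
    rw [Ideal.map_span, ← Set.range_comp]
    have : (⇑(Ideal.Quotient.mk ((I ^ 2).closure)) ∘ a) = s := funext has
    rw [this]
    exact hs
  have hI2 : I ≤ Ideal.span (Set.range a) ⊔ (I ^ 2).closure := by
    intro x hx
    have h1 : Ideal.Quotient.mk ((I ^ 2).closure) x ∈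
        (Ideal.span (Set.range a)).map (Ideal.Quotient.mk ((I ^ 2).closure)) := by
      rw [hmapJ]
      exact Ideal.mem_map_of_mem _ hx
    obtain ⟨y, hy, hyx⟩ := (Ideal.mem_map_iff_of_surjective _ Ideal.Quotient.mk_surjective).1 h1
    have h2 : x - y ∈ (I ^ 2).closure := by
      rw [← Ideal.Quotient.eq_zero_iff_mem, map_sub, hyx, sub_self]
    have : x = y + (x - y) := by ring
    rw [this]
    exact Ideal.add_mem _ (Ideal.mem_sup_left hy) (Ideal.mem_sup_right h2)
  have hIk : ∀ k : ℕ, I ≤ Ideal.span (Set.range a) ⊔ (I ^ (k + 2)).closure := by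
    intro k
    induction k with
    | zero => exact hI2
    | succ k ih =>
      have h1 : I ^ 2 ≤ Ideal.span (Set.range a) ⊔ (I ^ (k + 1 + 2)).closure := by
        rw [pow_two]
        refine (Ideal.mul_mono_left ih).trans ?_
        rw [Ideal.sup_mul]
        refine sup_le_sup Ideal.mul_le_left ?_
        have h3 : (I ^ (k + 2)).closure * I ≤ (I ^ (k + 2)).closure * I.closure :=
          Ideal.mul_mono_right (le_closure_ideal I)
        refine h3.trans ((closure_mul_closure_le _ _).trans ?_)
        rw [← pow_succ]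
      have h2 : (I ^ 2).closure ≤ Ideal.span (Set.range a) ⊔ (I ^ (k + 1 + 2)).closure := by
        have hcl : IsClosed (((Ideal.span (Set.range a) ⊔ (I ^ (k + 1 + 2)).closure : Ideal A)) :
            Set A) :=
          isClosed_of_isOpen_ideal _ (isOpen_sup_right _ _ (hopenI (k + 1 + 2)))
        intro x hx
        rw [← SetLike.mem_coe, Ideal.coe_closure] at hx
        exact closure_minimal h1 hcl hx
      exact hI2.trans (sup_le le_sup_left h2)
  have hIJ : I ≤ (Ideal.span (Set.range a)).closure := by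
    intro x hx
    rw [← SetLike.mem_coe, Ideal.coe_closure]
    apply mem_closure_of_forall_mem_sup
    intro I' hI'
    obtain ⟨k, hk⟩ := hbasisI (I' : Set A) (hI'.mem_nhds I'.zero_mem)
    have h1 : (I ^ (k + 2)).closure ≤ I' :=
      (closure_mono_ideal (Ideal.pow_le_pow_right (Nat.le_add_right k 2))).trans
        (fun y hy => hk hy)
    exact sup_le_sup_left h1 _ (hIk k hx)
  have hIJn : ∀ n : ℕ, (I ^ n).closure ≤ ((Ideal.span (Set.range a)) ^ n).closure := by
    intro n
    have h1 : I ^ n ≤ ((Ideal.span (Set.range a)) ^ n).closure :=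
      (Ideal.pow_right_mono hIJ n).trans (closure_pow_le _ n)
    have h2 := closure_mono_ideal h1
    rwa [closure_closure_ideal] at h2
  have hopen : ∀ n : ℕ, IsOpen (closure (((Ideal.span (Set.range a)) ^ n : Ideal A) : Set A)) := by
    intro n
    rw [← Ideal.coe_closure]
    exact isOpen_of_le (hIJn n) (hopenI n)
  have hbasis : ∀ U ∈ nhds (0 : A), ∃ n : ℕ,
      closure (((Ideal.span (Set.range a)) ^ n : Ideal A) : Set A) ⊆ U := by
    intro U hU
    obtain ⟨n, hn⟩ := hbasisI U hU
    refine ⟨n, subset_trans ?_ hn⟩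
    rw [Ideal.coe_closure]
    exact closure_mono (Ideal.pow_right_mono hJI n)
  have hadic : IsAdic (Ideal.span (Set.range a)) :=
    Groth.Agent.S10163.result A _ hJfg hopen hbasis
  refine ⟨⟨⟨_, hadic⟩, hT2, hC⟩, Ideal.span (Set.range a), ?_, hJfg⟩
  rw [isAdic_iff] at hadic
  obtain ⟨hLo, hLb⟩ := hadic
  refine ⟨by simpa using hLo 1, fun U hU => ?_⟩
  obtain ⟨n, hn⟩ := hLb U hU
  exact ⟨n + 1, Nat.succ_pos n, fun x hx => hn (Ideal.pow_le_pow_right (Nat.le_succ n) hx)⟩

end Groth.Agent.S10164
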