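import Groth.Statements.S10166
import Groth.Agent.Lib.Helper63.Taut

set_option autoImplicit false
universe u v
open LinTop

namespace Groth.Agent.S10166

open Groth.Agent.Lib.Helper70.LinTopLib Groth.Agent.Lib.Helper63.Taut

/-- Let φ : A → B be a taut homomorphism of linearly topologized rings such that for every open ideal I
of A, with J the closure of φ(I)B, the induced map A/I → B/J is faithfully flat. If B has a
countable fundamental system of open ideals, then so does A. -/
theorem result
    (A : Type u) [CommRing A] [TopologicalSpace A] [IsTopologicalRing A] [IsLinearTopology A A]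
    (B : Type v) [CommRing B] [TopologicalSpace B] [IsTopologicalRing B] [IsLinearTopology B B]
    (φ : A →+* B) (hφ : LinTop.IsTautFFlat φ) (hB : (nhds (0 : B)).IsCountablyGenerated) :
    (nhds (0 : A)).IsCountablyGenerated := by

  obtain ⟨x, hx⟩ := (nhds (0 : B)).exists_antitone_basis
  have hch : ∀ n : ℕ, ∃ I : Ideal A, IsOpen (I : Set A) ∧
      closure ((I.map φ : Ideal B) : Set B) ⊆ x n :=
    fun n => hφ.1.2.2 (x n) (hx.toHasBasis.mem_of_mem trivial)
  choose I hIo hIx using hch
  have hB : (nhds (0 : A)).HasBasis (fun _ : ℕ => True) (fun n => (I n : Set A)) := by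
    constructor
    intro U
    constructor
    · intro hU
      obtain ⟨I', hI', hI'U⟩ := exists_open_ideal_subset hU
      have h1 : closure ((I'.map φ : Ideal B) : Set B) ∈ nhds (0 : B) :=
        (hφ.1.2.1 I' hI').mem_nhds (subset_closure (I'.map φ).zero_mem)
      obtain ⟨n, -, hn⟩ := hx.toHasBasis.mem_iff.1 h1
      refine ⟨n, trivial, subset_trans ?_ hI'U⟩
      apply le_of_closure_map_subset φ hφ I' (I n) hI'
      exact subset_trans subset_closure (subset_trans (hIx n) hn)
    · rintro ⟨n, -, hn⟩
      exact Filter.mem_of_superset ((hIo n).mem_nhds (I n).zero_mem) hn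
  exact hB.isCountablyGenerated

end Groth.Agent.S10166
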