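import Groth.Statements.S10167
import Groth.Agent.Lib.Helper63.Taut

set_option autoImplicit false
universe u v
open LinTop

namespace Groth.Agent.S10167

open Groth.Agent.Lib.Helper70.LinTopLib Groth.Agent.Lib.Helper63.Taut

/-- Let φ : A → B be a taut homomorphism of linearly topologized rings such that for every open ideal I
of A the induced ring map A/I → B/J, where J denotes the closure of φ(I)B, is faithfully flat. If B
has a weak ideal of definition (B is weakly pre-admissible), then so does A. -/
theorem result
    (A : Type u) [CommRing A] [TopologicalSpace A] [IsTopologicalRing A] [IsLinearTopology A A]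
    (B : Type v) [CommRing B] [TopologicalSpace B] [IsTopologicalRing B] [IsLinearTopology B B]
    (φ : A →+* B) (hφ : LinTop.IsTautFFlat φ) (hB : LinTop.IsWeaklyPreadmissible B) :
    LinTop.IsWeaklyPreadmissible A := by

  obtain ⟨-, K, hKo, hKn⟩ := hB
  obtain ⟨I, hIo, hIK⟩ := hφ.1.2.2 (K : Set B) (hKo.mem_nhds K.zero_mem)
  refine ⟨inferInstance, I, hIo, fun f hf => ?_⟩
  rw [isTopologicallyNilpotent_iff]
  intro I' hI'
  have hφf : IsTopologicallyNilpotent (φ f) :=
    hKn _ (hIK (subset_closure (Ideal.mem_map_of_mem φ hf)))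
  have h1 : closure ((I'.map φ : Ideal B) : Set B) ∈ nhds (0 : B) :=
    (hφ.1.2.1 I' hI').mem_nhds (subset_closure (I'.map φ).zero_mem)
  obtain ⟨n, hn⟩ := hφf.exists_pow_mem_of_mem_nhds h1
  refine ⟨n, mem_of_map_mem_closure φ hφ I' hI' ?_⟩
  rw [map_pow]
  exact hn

end Groth.Agent.S10167
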