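import Groth.Statements.S10168
import Groth.Agent.Lib.Helper63.Taut

set_option autoImplicit false
universe u v
open LinTop

namespace Groth.Agent.S10168

open Groth.Agent.Lib.Helper70.LinTopLib Groth.Agent.Lib.Helper63.Taut

/-- Let φ : A → B be a taut homomorphism of linearly topologized rings such that for every open ideal I
of A, with J the closure of φ(I)B, the induced map A/I → B/J is faithfully flat. If B is
pre-admissible, then A is pre-admissible. -/
theorem result
    (A : Type u) [CommRing A] [TopologicalSpace A] [IsTopologicalRing A] [IsLinearTopology A A]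
    (B : Type v) [CommRing B] [TopologicalSpace B] [IsTopologicalRing B] [IsLinearTopology B B]
    (φ : A →+* B) (hφ : LinTop.IsTautFFlat φ) (hB : LinTop.IsPreadmissible B) :
    LinTop.IsPreadmissible A := by

  obtain ⟨-, K, hKo, hKn⟩ := hB
  obtain ⟨I, hIo, hIK⟩ := hφ.1.2.2 (K : Set B) (hKo.mem_nhds K.zero_mem)
  refine ⟨inferInstance, I, hIo, fun U hU => ?_⟩
  obtain ⟨I', hI', hI'U⟩ := exists_open_ideal_subset hU
  have h1 : closure ((I'.map φ : Ideal B) : Set B) ∈ nhds (0 : B) :=
    (hφ.1.2.1 I' hI').mem_nhds (subset_closure (I'.map φ).zero_mem)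
  obtain ⟨n, hn0, hn⟩ := hKn _ h1
  refine ⟨n, hn0, subset_trans ?_ hI'U⟩
  apply le_of_closure_map_subset φ hφ I' (I ^ n) hI'
  refine subset_trans ?_ hn
  rw [Ideal.map_pow]
  have hle : I.map φ ≤ K := fun y hy => hIK (subset_closure hy)
  exact Ideal.pow_right_mono hle n

end Groth.Agent.S10168
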