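import Groth.Statements.S10169
import Groth.Agent.Lib.Helper63.Taut

set_option autoImplicit false
universe u v
open LinTop

namespace Groth.Agent.S10169

open Groth.Agent.Lib.Helper70.LinTopLib Groth.Agent.Lib.Helper63.Taut

/-- Let φ : A → B be a taut homomorphism of linearly topologized rings such that for every open ideal I
of A the induced ring map A/I → B/J, where J denotes the closure of φ(I)B, is faithfully flat. Weak
pre-adicness then descends: when B is weakly pre-adic, A is as well. -/
theorem result
    (A : Type u) [CommRing A] [TopologicalSpace A] [IsTopologicalRing A] [IsLinearTopology A A]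
    (B : Type v) [CommRing B] [TopologicalSpace B] [IsTopologicalRing B] [IsLinearTopology B B]
    (φ : A →+* B) (hφ : LinTop.IsTautFFlat φ) (hB : LinTop.IsWeaklyPreadic B) :
    LinTop.IsWeaklyPreadic A := by

  obtain ⟨-, J, hJo, hJb⟩ := hB
  have hJ1 : closure ((J : Ideal B) : Set B) ∈ nhds (0 : B) := by
    have := hJo 1
    rw [pow_one] at this
    exact this.mem_nhds (subset_closure J.zero_mem)
  obtain ⟨I, hIo, hIJ⟩ := hφ.1.2.2 _ hJ1
  have hIB : closure ((I.map φ : Ideal B) : Set B) ∈ nhds (0 : B) :=
    (hφ.1.2.1 I hIo).mem_nhds (subset_closure (I.map φ).zero_mem)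
  obtain ⟨m, hm⟩ := hJb _ hIB
  have hIJ' : I.map φ ≤ J.closure := by
    intro y hy
    have := hIJ (subset_closure hy)
    rw [← Ideal.coe_closure] at this
    exact this
  have hm' : J ^ m ≤ (I.map φ).closure := by
    intro y hy
    have := hm (subset_closure hy)
    rw [← Ideal.coe_closure] at this
    exact this
  refine ⟨inferInstance, I, fun n => ?_, fun U hU => ?_⟩
  · have hLB : IsOpen ((((I ^ n).map φ).closure : Ideal B) : Set B) := by
      have h1 : (J ^ (m * n)).closure ≤ ((I ^ n).map φ).closure := by
        have h2 : J ^ (m * n) ≤ ((I ^ n).map φ).closure := by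
          rw [pow_mul, Ideal.map_pow]
          exact (Ideal.pow_right_mono hm' n).trans (closure_pow_le _ n)
        have h3 := closure_mono_ideal h2
        rwa [closure_closure_ideal] at h3
      refine isOpen_of_le h1 ?_
      rw [Ideal.coe_closure]
      exact hJo (m * n)
    have hL : IsOpen (((((I ^ n).map φ).closure).comap φ : Ideal A) : Set A) :=
      isOpen_comap φ hφ.1.1 _ hLB
    refine isOpen_closure_of_le hL ?_
    intro x hx
    apply mem_closure_of_forall_mem_sup
    intro I' hI'
    apply mem_of_map_mem_closure φ hφ _ (isOpen_sup_right (I ^ n) I' hI')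
    have hx' : φ x ∈ closure (((I ^ n).map φ : Ideal B) : Set B) := by
      rw [← Ideal.coe_closure]
      exact hx
    exact closure_mono (Ideal.map_mono le_sup_left) hx'
  · obtain ⟨I', hI', hI'U⟩ := exists_open_ideal_subset hU
    have h1 : closure ((I'.map φ : Ideal B) : Set B) ∈ nhds (0 : B) :=
      (hφ.1.2.1 I' hI').mem_nhds (subset_closure (I'.map φ).zero_mem)
    obtain ⟨k, hk⟩ := hJb _ h1
    refine ⟨k, subset_trans ?_ hI'U⟩
    refine closure_minimal ?_ (isClosed_of_isOpen_ideal I' hI')
    apply le_of_closure_map_subset φ hφ I' (I ^ k) hI'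
    refine subset_trans ?_ hk
    rw [Ideal.map_pow, ← Ideal.coe_closure]
    exact (Ideal.pow_right_mono hIJ' k).trans (closure_pow_le _ k)

end Groth.Agent.S10169
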