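import Groth.Statements.S10170
import Groth.Agent.S10163
import Groth.Agent.S2275
import Mathlib.RingTheory.Finiteness.Basic

set_option autoImplicit false
universe u v
open LinTop

namespace Groth.Agent.S10170

open Groth.Agent.Lib.Helper70.LinTopLib Groth.Agent.Lib.Helper63.Taut

theorem exists_fg_le_of_mem_map {A : Type u} [CommRing A] {B : Type v} [CommRing B]
    (φ : A →+* B) (I : Ideal A) (b : B) (hb : b ∈ I.map φ) :
    ∃ K : Ideal A, K.FG ∧ K ≤ I ∧ b ∈ K.map φ := by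
  refine Submodule.span_induction
    (p := fun b _ => ∃ K : Ideal A, K.FG ∧ K ≤ I ∧ b ∈ K.map φ) ?_ ?_ ?_ ?_ hb
  · rintro _ ⟨a, ha, rfl⟩
    refine ⟨Ideal.span {a}, ⟨{a}, by simp⟩, ?_, ?_⟩
    · rw [Ideal.span_le]
      intro x hx
      rw [Set.mem_singleton_iff] at hx
      rw [hx]
      exact ha
    · exact Ideal.mem_map_of_mem φ (Ideal.subset_span rfl)
  · exact ⟨⊥, Submodule.fg_bot, bot_le, Ideal.zero_mem _⟩
  · rintro x y - - ⟨K₁, h1, h2, h3⟩ ⟨K₂, h4, h5, h6⟩
    exact ⟨K₁ ⊔ K₂, Submodule.FG.sup h1 h4, sup_le h2 h5,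
      Ideal.add_mem _ (Ideal.map_mono le_sup_left h3) (Ideal.map_mono le_sup_right h6)⟩
  · rintro r x - ⟨K, h1, h2, h3⟩
    exact ⟨K, h1, h2, Ideal.mul_mem_left _ r h3⟩

theorem exists_fg_le_of_le_sup {A : Type u} [CommRing A] {B : Type v} [CommRing B]
    (φ : A →+* B) (I : Ideal A) (K M : Ideal B) (hK : K.FG) (h : K ≤ I.map φ ⊔ M) :
    ∃ L : Ideal A, L.FG ∧ L ≤ I ∧ K ≤ L.map φ ⊔ M := by
  obtain ⟨t, g, hg⟩ := Submodule.fg_iff_exists_fin_generating_family.1 hK
  have h1 : ∀ i : Fin t, ∃ L : Ideal A, L.FG ∧ L ≤ I ∧ g i ∈ L.map φ ⊔ M := by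
    intro i
    have hgi : g i ∈ I.map φ ⊔ M := h (by rw [← hg]; exact Submodule.subset_span ⟨i, rfl⟩)
    obtain ⟨u, hu, v, hv, huv⟩ := Submodule.mem_sup.1 hgi
    obtain ⟨L, hL1, hL2, hL3⟩ := exists_fg_le_of_mem_map φ I u hu
    refine ⟨L, hL1, hL2, ?_⟩
    rw [← huv]
    exact Ideal.add_mem _ (Ideal.mem_sup_left hL3) (Ideal.mem_sup_right hv)
  choose L hL1 hL2 hL3 using h1
  refine ⟨⨆ i, L i, Submodule.fg_iSup L hL1, iSup_le hL2, ?_⟩
  rw [← hg, Submodule.span_le]
  rintro _ ⟨i, rfl⟩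
  exact sup_le_sup_right (Ideal.map_mono (le_iSup L i)) M (hL3 i)

theorem pow_le_map_sup_pow {B : Type v} [CommRing B] (J K : Ideal B) (m : ℕ)
    (h : J ^ m ≤ K ⊔ J ^ (m + 1)) (k : ℕ) : J ^ m ≤ K ⊔ J ^ (m + (k + 1)) := by
  induction k with
  | zero => exact h
  | succ k ih =>
    refine ih.trans (sup_le le_sup_left ?_)
    have h1 : J ^ (m + (k + 1)) = J ^ (k + 1) * J ^ m := by rw [← pow_add, add_comm]
    rw [h1]
    refine (Ideal.mul_mono_right h).trans ?_
    rw [Ideal.mul_sup]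
    refine sup_le (Ideal.mul_le_right.trans le_sup_left) ?_
    have h2 : J ^ (k + 1) * J ^ (m + 1) = J ^ (m + (k + 1 + 1)) := by
      rw [← pow_add]
      congr 1
      omega
    rw [h2]
    exact le_sup_right

/-- Let φ : A → B be a taut homomorphism of linearly topologized rings such that for every open ideal I
of A the induced ring map A/I → B/J, where J denotes the closure of φ(I)B, is faithfully flat.
Suppose A is Hausdorff and complete, and B is adic with some finitely generated ideal of definition.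
Then A is adic, and some finitely generated ideal of A is an ideal of definition. -/
theorem result
    (A : Type u) [CommRing A] [UniformSpace A] [IsUniformAddGroup A] [IsTopologicalRing A] [IsLinearTopology A A] [T2Space A] [CompleteSpace A]
    (B : Type v) [CommRing B] [UniformSpace B] [IsUniformAddGroup B] [IsTopologicalRing B] (hB : LinTop.IsAdicRing B)
    (hJ : ∃ J : Ideal B, LinTop.IsIdealOfDefinition B J ∧ J.FG)
    (φ : A →+* B) (hφ : LinTop.IsTautFFlat φ) :
    LinTop.IsAdicRing A ∧ ∃ I : Ideal A, LinTop.IsIdealOfDefinition A I ∧ I.FG := by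

  obtain ⟨J, hJdef, hJfg⟩ := hJ
  have hJadic : IsAdic J := Groth.Agent.S2275.result B hB.1 J hJdef
  have hlinB : IsLinearTopology B B :=
    IsLinearTopology.mk_of_hasBasis B (S := Ideal B) hJadic.hasBasis_nhds_zero
  have hJadic' := hJadic
  rw [isAdic_iff] at hJadic'
  obtain ⟨hJo, hJb⟩ := hJadic'
  obtain ⟨I, hIo, hIJ⟩ := hφ.1.2.2 (J : Set B) (hJdef.1.mem_nhds J.zero_mem)
  have hIJ' : I.map φ ≤ J := fun y hy => hIJ (subset_closure hy)
  have hIB : closure ((I.map φ : Ideal B) : Set B) ∈ nhds (0 : B) :=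
    (hφ.1.2.1 I hIo).mem_nhds (subset_closure (I.map φ).zero_mem)
  obtain ⟨m, hm⟩ := hJb _ hIB
  have hm1 : J ^ m ≤ I.map φ ⊔ J ^ (m + 1) :=
    fun y hy => closure_subset_sup (I.map φ) (J ^ (m + 1)) (hJo (m + 1)) (hm hy)
  obtain ⟨L, hLfg, hLI, hLm⟩ :=
    exists_fg_le_of_le_sup φ I (J ^ m) (J ^ (m + 1)) (hJfg.pow) hm1
  have hLcl : J ^ m ≤ (L.map φ).closure := by
    intro x hx
    rw [← SetLike.mem_coe, Ideal.coe_closure]
    apply mem_closure_of_forall_mem_sup
    intro I' hI'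
    obtain ⟨k, hk⟩ := hJb (I' : Set B) (hI'.mem_nhds I'.zero_mem)
    have h1 := pow_le_map_sup_pow J (L.map φ) m hLm k hx
    have h2 : J ^ (m + (k + 1)) ≤ I' :=
      (Ideal.pow_le_pow_right (by omega : k ≤ m + (k + 1))).trans (fun y hy => hk hy)
    exact sup_le_sup_left h2 _ h1
  have hopen : ∀ n : ℕ, IsOpen (closure ((L ^ n : Ideal A) : Set A)) := by
    intro n
    have hLB : IsOpen ((((L ^ n).map φ).closure : Ideal B) : Set B) := by
      have h1 : J ^ (m * n) ≤ ((L ^ n).map φ).closure := by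
        rw [pow_mul, Ideal.map_pow]
        exact (Ideal.pow_right_mono hLcl n).trans (closure_pow_le _ n)
      exact isOpen_of_le h1 (hJo (m * n))
    have hL : IsOpen (((((L ^ n).map φ).closure).comap φ : Ideal A) : Set A) :=
      isOpen_comap φ hφ.1.1 _ hLB
    refine isOpen_closure_of_le hL ?_
    intro x hx
    apply mem_closure_of_forall_mem_sup
    intro I' hI'
    apply mem_of_map_mem_closure φ hφ _ (isOpen_sup_right (L ^ n) I' hI')
    have hx' : φ x ∈ closure (((L ^ n).map φ : Ideal B) : Set B) := by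
      rw [← Ideal.coe_closure]
      exact hx
    exact closure_mono (Ideal.map_mono le_sup_left) hx'
  have hbasis : ∀ U ∈ nhds (0 : A), ∃ n : ℕ, closure ((L ^ n : Ideal A) : Set A) ⊆ U := by
    intro U hU
    obtain ⟨I', hI', hI'U⟩ := exists_open_ideal_subset hU
    have h1 : closure ((I'.map φ : Ideal B) : Set B) ∈ nhds (0 : B) :=
      (hφ.1.2.1 I' hI').mem_nhds (subset_closure (I'.map φ).zero_mem)
    obtain ⟨k, hk⟩ := hJb _ h1
    refine ⟨k, subset_trans ?_ hI'U⟩
    refine closure_minimal ?_ (isClosed_of_isOpen_ideal I' hI')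
    apply le_of_closure_map_subset φ hφ I' (L ^ k) hI'
    refine subset_trans ?_ hk
    rw [Ideal.map_pow]
    exact Ideal.pow_right_mono ((Ideal.map_mono hLI).trans hIJ') k
  have hadic : IsAdic L := Groth.Agent.S10163.result A L hLfg hopen hbasis
  refine ⟨⟨⟨L, hadic⟩, inferInstance, inferInstance⟩, L, ?_, hLfg⟩
  rw [isAdic_iff] at hadic
  obtain ⟨hLo, hLb⟩ := hadic
  refine ⟨by simpa using hLo 1, fun U hU => ?_⟩
  obtain ⟨n, hn⟩ := hLb U hU
  exact ⟨n + 1, Nat.succ_pos n, fun x hx => hn (Ideal.pow_le_pow_right (Nat.le_succ n) hx)⟩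

end Groth.Agent.S10170
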