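import Groth.Statements.S10171
-- import your own Groth.Agent.* helpers here

set_option autoImplicit false
universe u v
open LinTop

namespace Groth.Agent.S10171

/-- Let M be a linearly topologized module over a ring R and N a submodule. Write M^ for the separated
completion of M and (M/N)^ for that of M/N (quotient topology, additive uniform structure). Then the
kernel of the induced map M^ → (M/N)^ is the closure of the image of N in M^; that closure is the
completion of N, so this is the exactness of 0 → N^ → M^ → (M/N)^ at M^. -/
theorem result
    {R : Type u} [Ring R] {M : Type v} [AddCommGroup M] [Module R M] [UniformSpace M]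
    [IsUniformAddGroup M] [IsLinearTopology R M] (N : Submodule R M) :
    (@UniformSpace.Completion.map M _ (M ⧸ N.toAddSubgroup)
        (IsTopologicalAddGroup.rightUniformSpace (M ⧸ N.toAddSubgroup))
        (QuotientAddGroup.mk' N.toAddSubgroup)) ⁻¹' {0} =
      closure (Set.range (fun n : N => ((n : M) : UniformSpace.Completion M))) := by
  let uQ : UniformSpace (M ⧸ N.toAddSubgroup) :=
    IsTopologicalAddGroup.rightUniformSpace (M ⧸ N.toAddSubgroup)
  have : IsUniformAddGroup (M ⧸ N.toAddSubgroup) := isUniformAddGroup_of_addCommGroup
  have hπc : Continuous (QuotientAddGroup.mk' N.toAddSubgroup) := QuotientAddGroup.continuous_mk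
  have hπo : IsOpenMap (QuotientAddGroup.mk' N.toAddSubgroup) := QuotientAddGroup.isOpenMap_coe
  have hπu : UniformContinuous (QuotientAddGroup.mk' N.toAddSubgroup) :=
    uniformContinuous_of_continuousAt_zero _ hπc.continuousAt
  apply Set.Subset.antisymm
  · intro x hx
    have hx0 : UniformSpace.Completion.map (QuotientAddGroup.mk' N.toAddSubgroup) x = 0 := hx
    rw [mem_closure_iff_nhds]
    intro t ht
    have hT0 : {w : UniformSpace.Completion M | x + w ∈ t} ∈ nhds (0 : UniformSpace.Completion M) := by
      have hc : ContinuousAt (fun w : UniformSpace.Completion M => x + w) 0 :=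
        (continuous_const.add continuous_id).continuousAt
      have h : t ∈ nhds (x + 0) := by rwa [add_zero]
      exact hc h
    obtain ⟨W', hW', hW'sub⟩ := exists_nhds_half_neg hT0
    have hU : (fun m : M => (m : UniformSpace.Completion M)) ⁻¹' W' ∈ nhds (0 : M) := by
      apply (UniformSpace.Completion.continuous_coe M).continuousAt
      rwa [UniformSpace.Completion.coe_zero]
    have hπU : (QuotientAddGroup.mk' N.toAddSubgroup) ''
        ((fun m : M => (m : UniformSpace.Completion M)) ⁻¹' W') ∈
        nhds (0 : M ⧸ N.toAddSubgroup) := by
      have := hπo.image_mem_nhds hU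
      rwa [map_zero] at this
    rw [UniformSpace.Completion.isDenseInducing_coe.nhds_eq_comap (0 : M ⧸ N.toAddSubgroup)] at hπU
    obtain ⟨V, hV, hVsub⟩ := Filter.mem_comap.mp hπU
    have h1 : {y : UniformSpace.Completion M | y - x ∈ W'} ∈ nhds x := by
      have hc : ContinuousAt (fun y : UniformSpace.Completion M => y - x) x :=
        (continuous_id.sub continuous_const).continuousAt
      apply hc
      simpa using hW'
    have h2 : (UniformSpace.Completion.map (QuotientAddGroup.mk' N.toAddSubgroup)) ⁻¹' V ∈ nhds x := by
      apply UniformSpace.Completion.continuous_map.continuousAt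
      rw [hx0]
      exact hV
    obtain ⟨m, hm1, hm2⟩ := UniformSpace.Completion.denseRange_coe.mem_nhds (Filter.inter_mem h1 h2)
    rw [Set.mem_preimage, UniformSpace.Completion.map_coe hπu] at hm2
    obtain ⟨u, hu, hum⟩ := hVsub hm2
    have hn : m - u ∈ N := by
      have h3 : (QuotientAddGroup.mk' N.toAddSubgroup) (m - u) = 0 := by
        rw [map_sub, hum, sub_self]
      rw [QuotientAddGroup.mk'_apply, QuotientAddGroup.eq_zero_iff] at h3
      exact h3
    refine ⟨((m - u : M) : UniformSpace.Completion M), ?_, ⟨⟨m - u, hn⟩, rfl⟩⟩
    have h4 : ((m : UniformSpace.Completion M) - x) - (u : UniformSpace.Completion M) ∈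
        {w : UniformSpace.Completion M | x + w ∈ t} := hW'sub _ hm1 _ hu
    have h5 : ((m - u : M) : UniformSpace.Completion M) =
        x + (((m : UniformSpace.Completion M) - x) - (u : UniformSpace.Completion M)) := by
      rw [UniformSpace.Completion.coe_sub]
      abel
    rw [h5]
    exact h4
  · apply closure_minimal
    · rintro _ ⟨n, rfl⟩
      change UniformSpace.Completion.map (QuotientAddGroup.mk' N.toAddSubgroup) ((n : M) : UniformSpace.Completion M) = 0
      rw [UniformSpace.Completion.map_coe hπu]
      have : (QuotientAddGroup.mk' N.toAddSubgroup) (n : M) = 0 := by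
        rw [QuotientAddGroup.mk'_apply, QuotientAddGroup.eq_zero_iff]
        exact n.2
      rw [this]
      rfl
    · exact isClosed_singleton.preimage UniformSpace.Completion.continuous_map

end Groth.Agent.S10171
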