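import Groth.Statements.S10172
import Mathlib.Topology.Algebra.IsUniformGroup.Basic
import Mathlib.Topology.Algebra.OpenSubgroup
import Mathlib.LinearAlgebra.Span.Basic

set_option autoImplicit false
universe u v
open LinTop

namespace Groth.Agent.S10172

/-- Let M be a linearly topologized module over a ring R having a countable fundamental system of
neighbourhoods of 0, and N a submodule. With M^ and (M/N)^ the separated completions of M and of M/N
(quotient topology, additive uniform structure), the induced map M^ → (M/N)^ is surjective and open
(so, its kernel being the completion of N, the sequence 0 → N^ → M^ → (M/N)^ → 0 is exact). -/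
theorem result
    {R : Type u} [Ring R] {M : Type v} [AddCommGroup M] [Module R M] [UniformSpace M]
    [IsUniformAddGroup M] [IsLinearTopology R M] (hc : (nhds (0 : M)).IsCountablyGenerated)
    (N : Submodule R M) :
    Function.Surjective (@UniformSpace.Completion.map M _ (M ⧸ N.toAddSubgroup)
        (IsTopologicalAddGroup.rightUniformSpace (M ⧸ N.toAddSubgroup))
        (QuotientAddGroup.mk' N.toAddSubgroup)) ∧
      IsOpenMap (@UniformSpace.Completion.map M _ (M ⧸ N.toAddSubgroup)
        (IsTopologicalAddGroup.rightUniformSpace (M ⧸ N.toAddSubgroup))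
        (QuotientAddGroup.mk' N.toAddSubgroup)) := by
  let uQ : UniformSpace (M ⧸ N.toAddSubgroup) :=
    IsTopologicalAddGroup.rightUniformSpace (M ⧸ N.toAddSubgroup)
  have : IsUniformAddGroup (M ⧸ N.toAddSubgroup) := isUniformAddGroup_of_addCommGroup
  have hπc : Continuous (QuotientAddGroup.mk' N.toAddSubgroup) := QuotientAddGroup.continuous_mk
  have hπo : IsOpenMap (QuotientAddGroup.mk' N.toAddSubgroup) := QuotientAddGroup.isOpenMap_coe
  have hπu : UniformContinuous (QuotientAddGroup.mk' N.toAddSubgroup) :=
    uniformContinuous_of_continuousAt_zero _ hπc.continuousAt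
  -- the completion G of M is first countable
  have hG1 : (nhds (0 : UniformSpace.Completion M)).IsCountablyGenerated := by
    obtain ⟨s, hs⟩ := (nhds (0 : M)).exists_antitone_basis
    have hb := hs.toHasBasis.hasBasis_of_isDenseInducing
      (UniformSpace.Completion.isDenseInducing_coe (α := M))
    rw [UniformSpace.Completion.coe_zero] at hb
    exact hb.isCountablyGenerated
  have hG2 : (uniformity (UniformSpace.Completion M)).IsCountablyGenerated :=
    IsUniformAddGroup.uniformity_countably_generated
  have hG3 : FirstCountableTopology (UniformSpace.Completion M) := inferInstance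
  let ι : M →+ UniformSpace.Completion M := UniformSpace.Completion.toCompl
  have hιc : Continuous ι := UniformSpace.Completion.continuous_coe M
  let Nbar : AddSubgroup (UniformSpace.Completion M) :=
    (N.toAddSubgroup.map ι).topologicalClosure
  have hNbar : IsClosed (Nbar : Set (UniformSpace.Completion M)) :=
    AddSubgroup.isClosed_topologicalClosure _
  let uQc : UniformSpace (UniformSpace.Completion M ⧸ Nbar) :=
    IsTopologicalAddGroup.rightUniformSpace (UniformSpace.Completion M ⧸ Nbar)
  have : IsUniformAddGroup (UniformSpace.Completion M ⧸ Nbar) := isUniformAddGroup_of_addCommGroup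
  have hcompl : CompleteSpace (UniformSpace.Completion M ⧸ Nbar) :=
    QuotientAddGroup.completeSpace_right (UniformSpace.Completion M) Nbar
  have hT2 : T2Space (UniformSpace.Completion M ⧸ Nbar) := inferInstance
  have hpo : IsOpenMap (QuotientAddGroup.mk' Nbar) := QuotientAddGroup.isOpenMap_coe
  have hpc : Continuous (QuotientAddGroup.mk' Nbar) := QuotientAddGroup.continuous_mk
  have hle : N.toAddSubgroup ≤ Nbar.comap ι := by
    intro n hn
    exact AddSubgroup.le_topologicalClosure _ ⟨n, hn, rfl⟩
  let g : (M ⧸ N.toAddSubgroup) →+ (UniformSpace.Completion M ⧸ Nbar) :=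
    QuotientAddGroup.map N.toAddSubgroup Nbar ι hle
  have hgπ : ∀ m : M, g (QuotientAddGroup.mk' N.toAddSubgroup m) =
      QuotientAddGroup.mk' Nbar (ι m) := fun m => rfl
  have hgc : Continuous g := by
    refine (QuotientAddGroup.isQuotientMap_mk N.toAddSubgroup).continuous_iff.mpr ?_
    exact hpc.comp hιc
  have hgi : Topology.IsInducing g := by
    rw [IsTopologicalAddGroup.isInducing_iff_nhds_zero]
    apply le_antisymm
    · have h0 := hgc.tendsto 0
      rw [map_zero] at h0
      exact Filter.map_le_iff_le_comap.mp h0
    · intro S hS
      have hS' : (QuotientAddGroup.mk' N.toAddSubgroup) ⁻¹' S ∈ nhds (0 : M) := by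
        apply hπc.continuousAt
        simpa using hS
      obtain ⟨U, hUo, hUS⟩ := (IsLinearTopology.hasBasis_open_submodule R).mem_iff.mp hS'
      have hW : (QuotientAddGroup.mk' Nbar) '' (closure (ι '' (U : Set M))) ∈
          nhds (0 : UniformSpace.Completion M ⧸ Nbar) := by
        have h1 : closure (ι '' (U : Set M)) ∈ nhds (ι 0) :=
          (UniformSpace.Completion.isDenseInducing_coe (α := M)).closure_image_mem_nhds
            (hUo.mem_nhds U.zero_mem)
        have h2 := hpo.image_mem_nhds h1
        simpa using h2
      refine Filter.mem_comap.mpr ⟨_, hW, ?_⟩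
      intro q hq
      obtain ⟨m, rfl⟩ := QuotientAddGroup.mk'_surjective _ q
      obtain ⟨c, hc, hcm⟩ := hq
      rw [hgπ] at hcm
      have hdiff : ι m - c ∈ Nbar := by
        have h3 : QuotientAddGroup.mk' Nbar (ι m - c) = 0 := by
          rw [map_sub, hcm, sub_self]
        rw [QuotientAddGroup.mk'_apply, QuotientAddGroup.eq_zero_iff] at h3
        exact h3
      let S' : AddSubgroup M := (U ⊔ N).toAddSubgroup
      have hS'open : IsOpen (S' : Set M) :=
        AddSubgroup.isOpen_mono (H₁ := U.toAddSubgroup) (H₂ := S')
          (Submodule.toAddSubgroup_mono le_sup_left) hUo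
      have hS'closed : IsClosed (S' : Set M) := AddSubgroup.isClosed_of_isOpen _ hS'open
      let T : AddSubgroup (UniformSpace.Completion M) := (S'.map ι).topologicalClosure
      have hcT : c ∈ T := by
        have h4 : ι '' (U : Set M) ⊆ ((S'.map ι : AddSubgroup _) : Set (UniformSpace.Completion M)) := by
          rintro _ ⟨u, hu, rfl⟩
          exact ⟨u, (le_sup_left : U ≤ U ⊔ N) hu, rfl⟩
        exact closure_mono h4 hc
      have hdT : ι m - c ∈ T := by
        have h5 : N.toAddSubgroup.map ι ≤ S'.map ι :=
          AddSubgroup.map_mono (Submodule.toAddSubgroup_mono le_sup_right)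
        exact AddSubgroup.topologicalClosure_mono h5 hdiff
      have hmT : ι m ∈ T := by
        have h6 := T.add_mem hcT hdT
        simpa using h6
      have hmS' : m ∈ S' := by
        have h7 : m ∈ closure (S' : Set M) := by
          rw [(UniformSpace.Completion.isDenseInducing_coe (α := M)).isInducing.closure_eq_preimage_closure_image]
          exact hmT
        rwa [hS'closed.closure_eq] at h7
      obtain ⟨u, hu, n, hn, hun⟩ := Submodule.mem_sup.mp hmS'
      have h8 : QuotientAddGroup.mk' N.toAddSubgroup m = QuotientAddGroup.mk' N.toAddSubgroup u := by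
        rw [← hun, map_add]
        have h9 : QuotientAddGroup.mk' N.toAddSubgroup n = 0 := by
          rw [QuotientAddGroup.mk'_apply, QuotientAddGroup.eq_zero_iff]
          exact hn
        rw [h9, add_zero]
      rw [h8]
      exact hUS hu
  have hgu : IsUniformInducing g := AddMonoidHom.isUniformInducing_of_isInducing hgi
  have hghat : IsUniformInducing (UniformSpace.Completion.extension g) :=
    UniformSpace.Completion.isUniformInducing_extension hgu
  have hghat_inj : Function.Injective (UniformSpace.Completion.extension g) := hghat.injective
  have hcomp : ∀ x : UniformSpace.Completion M,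
      UniformSpace.Completion.extension g
        (UniformSpace.Completion.map (QuotientAddGroup.mk' N.toAddSubgroup) x) =
        QuotientAddGroup.mk' Nbar x := by
    intro x
    induction x using UniformSpace.Completion.induction_on with
    | hp =>
      exact isClosed_eq (UniformSpace.Completion.continuous_extension.comp
        UniformSpace.Completion.continuous_map) hpc
    | ih m =>
      rw [UniformSpace.Completion.map_coe hπu,
        UniformSpace.Completion.extension_coe hgu.uniformContinuous]
      exact hgπ m
  refine ⟨?_, ?_⟩
  · intro y
    obtain ⟨x, hx⟩ := QuotientAddGroup.mk'_surjective Nbar (UniformSpace.Completion.extension g y)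
    exact ⟨x, hghat_inj (by rw [hcomp, hx])⟩
  · intro O hO
    have himg : UniformSpace.Completion.map (QuotientAddGroup.mk' N.toAddSubgroup) '' O =
        (UniformSpace.Completion.extension g) ⁻¹' ((QuotientAddGroup.mk' Nbar) '' O) := by
      ext y
      constructor
      · rintro ⟨x, hx, rfl⟩
        exact ⟨x, hx, (hcomp x).symm⟩
      · rintro ⟨x, hx, hxy⟩
        exact ⟨x, hx, hghat_inj (by rw [hcomp, hxy])⟩
    rw [himg]
    exact (hpo O hO).preimage hghat.uniformContinuous.continuous

end Groth.Agent.S10172
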