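import Groth.Statements.S10173
import Mathlib.Topology.Algebra.UniformMulAction
import Mathlib.Topology.Algebra.InfiniteSum.Nonarchimedean
import Mathlib.Topology.Algebra.InfiniteSum.Module
import Mathlib.Topology.Algebra.Module.Basic
import Mathlib.Topology.Algebra.OpenSubgroup

set_option autoImplicit false
universe u v
open LinTop

namespace Groth.Agent.S10173

open Topology Filter UniformSpace

section
variable {R : Type u} [CommRing R] (I : Ideal R) {M : Type v} [AddCommGroup M] [Module R M]
  [UniformSpace M] [IsUniformAddGroup M] [UniformContinuousConstSMul R M]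

noncomputable def ιL : M →ₗ[R] Completion M where
  toFun := (↑)
  map_add' := Completion.coe_add
  map_smul' := fun c m => Completion.coe_smul c m

theorem ιL_apply (m : M) : (ιL (R := R) m : Completion M) = (m : Completion M) := rfl

noncomputable def V (M' : Submodule R M) (k : ℕ) : Submodule R (Completion M) :=
  ((I ^ k • M').map (ιL (R := R))).topologicalClosure

theorem mem_smul_iff_of_span {N : Type*} [AddCommGroup N] [Module R N] {s : ℕ} (b : Fin s → R)
    (J : Ideal R) (hb : Ideal.span (Set.range b) = J) (P : Submodule R N) (x : N) :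
    x ∈ J • P ↔ ∃ y : Fin s → N, (∀ j, y j ∈ P) ∧ x = ∑ j, b j • y j := by
  constructor
  · intro hx
    refine Submodule.smul_induction_on hx ?_ ?_
    · intro r hr n hn
      rw [← hb] at hr
      obtain ⟨c, rfl⟩ := (Ideal.mem_span_range_iff_exists_fun).mp hr
      refine ⟨fun j => c j • n, fun j => P.smul_mem _ hn, ?_⟩
      rw [Finset.sum_smul]
      apply Finset.sum_congr rfl
      intro j _
      rw [smul_smul, mul_comm]
    · rintro x y ⟨y1, hy1, rfl⟩ ⟨y2, hy2, rfl⟩
      refine ⟨fun j => y1 j + y2 j, fun j => P.add_mem (hy1 j) (hy2 j), ?_⟩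
      rw [← Finset.sum_add_distrib]
      apply Finset.sum_congr rfl
      intro j _
      rw [smul_add]
  · rintro ⟨y, hy, rfl⟩
    apply Submodule.sum_mem
    intro j _
    apply Submodule.smul_mem_smul _ (hy j)
    rw [← hb]
    exact Ideal.subset_span ⟨j, rfl⟩


variable (M' : Submodule R M)

theorem V_coe (k : ℕ) : (V I M' k : Set (Completion M)) =
    closure (((↑) : M → Completion M) '' ((I ^ k • M' : Submodule R M) : Set M)) := by
  rw [V, Submodule.topologicalClosure_coe, Submodule.map_coe]
  rfl

theorem coe_mem_V (k : ℕ) (m : M) (hm : m ∈ I ^ k • M') : (m : Completion M) ∈ V I M' k := by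
  change (m : Completion M) ∈ (V I M' k : Set (Completion M))
  rw [V_coe]
  exact subset_closure ⟨m, hm, rfl⟩

theorem V_mem_nhds (hopen : ∀ n : ℕ, IsOpen ((I ^ n • M' : Submodule R M) : Set M)) (k : ℕ) :
    (V I M' k : Set (Completion M)) ∈ 𝓝 (0 : Completion M) := by
  rw [V_coe]
  have h1 : ((I ^ k • M' : Submodule R M) : Set M) ∈ 𝓝 (0 : M) :=
    (hopen k).mem_nhds (Submodule.zero_mem _)
  have := Completion.isDenseInducing_coe.closure_image_mem_nhds h1
  rwa [Completion.coe_zero] at this

theorem V_isOpen (hopen : ∀ n : ℕ, IsOpen ((I ^ n • M' : Submodule R M) : Set M)) (k : ℕ) :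
    IsOpen (V I M' k : Set (Completion M)) :=
  AddSubgroup.isOpen_of_mem_nhds (V I M' k).toAddSubgroup (V_mem_nhds I M' hopen k)

theorem V_basis
    (hbasis : ∀ U ∈ nhds (0 : M), ∃ n : ℕ, ((I ^ n • M' : Submodule R M) : Set M) ⊆ U)
    (U : Set (Completion M)) (hU : U ∈ 𝓝 (0 : Completion M)) :
    ∃ k : ℕ, (V I M' k : Set (Completion M)) ⊆ U := by
  obtain ⟨C, ⟨hC0, hCcl⟩, hCU⟩ := (closed_nhds_basis (0 : Completion M)).mem_iff.mp hU
  have h1 : ((↑) : M → Completion M) ⁻¹' C ∈ 𝓝 (0 : M) := by
    apply (Completion.continuous_coe M).continuousAt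
    rwa [Completion.coe_zero]
  obtain ⟨k, hk⟩ := hbasis _ h1
  refine ⟨k, ?_⟩
  rw [V_coe]
  refine (closure_minimal ?_ hCcl).trans hCU
  rintro _ ⟨m, hm, rfl⟩
  exact hk hm

theorem V_anti {k l : ℕ} (h : k ≤ l) : V I M' l ≤ V I M' k := by
  apply Submodule.topologicalClosure_mono
  apply Submodule.map_mono
  exact Submodule.smul_mono_left (Ideal.pow_le_pow_right h)

theorem smul_V_le (n k : ℕ) : I ^ n • V I M' k ≤ V I M' (n + k) := by
  rw [Submodule.smul_le]
  intro r hr v hv
  have hcl : IsClosed {v : Completion M | r • v ∈ (V I M' (n + k) : Set (Completion M))} := by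
    apply IsClosed.preimage (continuous_const_smul r)
    exact Submodule.isClosed_topologicalClosure _
  have hsub : (((↑) : M → Completion M) '' ((I ^ k • M' : Submodule R M) : Set M)) ⊆
      {v : Completion M | r • v ∈ (V I M' (n + k) : Set (Completion M))} := by
    rintro _ ⟨m, hm, rfl⟩
    change r • (m : Completion M) ∈ V I M' (n + k)
    rw [← Completion.coe_smul]
    apply coe_mem_V
    rw [pow_add, Submodule.mul_smul]
    exact Submodule.smul_mem_smul hr hm
  have hv' : v ∈ (V I M' k : Set (Completion M)) := hv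
  rw [V_coe] at hv'
  exact closure_minimal hsub hcl hv'


theorem V_le_smul (hI : I.FG)
    (hopen : ∀ n : ℕ, IsOpen ((I ^ n • M' : Submodule R M) : Set M))
    (hbasis : ∀ U ∈ nhds (0 : M), ∃ n : ℕ, ((I ^ n • M' : Submodule R M) : Set M) ⊆ U)
    (n : ℕ) : V I M' n ≤ I ^ n • V I M' 0 := by
  classical
  intro x hx
  obtain ⟨s, b, hb⟩ := Submodule.fg_iff_exists_fin_generating_family.mp (Ideal.FG.pow hI (n := n))
  have hna : NonarchimedeanAddGroup (Completion M) :=
    { is_nonarchimedean := by
        intro U hU
        obtain ⟨k, hk⟩ := V_basis I M' hbasis U hU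
        exact ⟨⟨(V I M' k).toAddSubgroup, V_isOpen I M' hopen k⟩, hk⟩ }
  have hstep : ∀ (k : ℕ) (r : Completion M), r ∈ V I M' (n + k) →
      ∃ y : Fin s → M, (∀ j, y j ∈ I ^ k • M') ∧
        r - ((∑ j, b j • y j : M) : Completion M) ∈ V I M' (n + k + 1) := by
    intro k r hr
    have hr' : r ∈ (V I M' (n + k) : Set (Completion M)) := hr
    rw [V_coe, mem_closure_iff_nhds] at hr'
    have hnb : (fun e => r - e) ⁻¹' (V I M' (n + k + 1) : Set (Completion M)) ∈ 𝓝 r := by
      have hc : Continuous (fun e : Completion M => r - e) := continuous_const.sub continuous_id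
      apply hc.continuousAt
      change (V I M' (n + k + 1) : Set (Completion M)) ∈ 𝓝 (r - r)
      rw [sub_self]
      exact V_mem_nhds I M' hopen (n + k + 1)
    obtain ⟨_, hw1, ⟨w, hw, rfl⟩⟩ := hr' _ hnb
    have hw' : w ∈ I ^ n • (I ^ k • M') := by
      rw [← Submodule.mul_smul, ← pow_add]
      exact hw
    obtain ⟨y, hy, rfl⟩ := (mem_smul_iff_of_span b (I ^ n) hb (I ^ k • M') w).mp hw'
    exact ⟨y, hy, hw1⟩
  choose! Y hY1 hY2 using hstep
  let rseq : ℕ → Completion M := fun k =>
    Nat.rec x (fun k prev => prev - ((∑ j, b j • Y k prev j : M) : Completion M)) k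
  have hr0 : rseq 0 = x := rfl
  have hrs : ∀ k, rseq (k + 1) = rseq k - ((∑ j, b j • Y k (rseq k) j : M) : Completion M) :=
    fun k => rfl
  have hrmem : ∀ k, rseq k ∈ V I M' (n + k) := by
    intro k
    induction k with
    | zero => exact hx
    | succ k ih =>
      rw [hrs]
      exact hY2 k (rseq k) ih
  let u : Fin s → ℕ → Completion M := fun j k => ((Y k (rseq k) j : M) : Completion M)
  have hu : ∀ j k, u j k ∈ V I M' k := fun j k => coe_mem_V I M' k _ (hY1 k (rseq k) (hrmem k) j)
  have htend : ∀ (f : ℕ → Completion M), (∀ k, f k ∈ V I M' k) → Tendsto f atTop (𝓝 0) := by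
    intro f hf
    rw [tendsto_def]
    intro U hU
    obtain ⟨k0, hk0⟩ := V_basis I M' hbasis U hU
    rw [mem_atTop_sets]
    exact ⟨k0, fun k hk => hk0 (V_anti I M' hk (hf k))⟩
  have hsum : ∀ j, Summable (u j) := by
    intro j
    apply NonarchimedeanAddGroup.summable_of_tendsto_cofinite_zero
    rw [Nat.cofinite_eq_atTop]
    exact htend _ (hu j)
  have hz : ∀ j, (∑' k, u j k) ∈ V I M' 0 := by
    intro j
    have h1 := (hsum j).hasSum.tendsto_sum_nat
    have hcl : IsClosed (V I M' 0 : Set (Completion M)) := Submodule.isClosed_topologicalClosure _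
    apply hcl.mem_of_tendsto h1
    apply Filter.Eventually.of_forall
    intro K
    apply Submodule.sum_mem
    intro k _
    exact V_anti I M' (Nat.zero_le k) (hu j k)
  have hw : ∀ k, ((∑ j, b j • Y k (rseq k) j : M) : Completion M) = ∑ j, b j • u j k := by
    intro k
    change ιL (R := R) (∑ j, b j • Y k (rseq k) j) = _
    rw [map_sum]
    apply Finset.sum_congr rfl
    intro j _
    rw [map_smul]
    rfl
  have hpartial : ∀ K, ∑ k ∈ Finset.range K, (∑ j, b j • u j k) = x - rseq K := by
    intro K
    induction K with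
    | zero => rw [Finset.sum_range_zero, hr0, sub_self]
    | succ K ih =>
      rw [Finset.sum_range_succ, ih, hrs, hw]
      abel
  have hhas : HasSum (fun k => ∑ j, b j • u j k) (∑ j, b j • ∑' k, u j k) :=
    hasSum_sum fun j _ => (hsum j).hasSum.const_smul (b j)
  have hlim1 := hhas.tendsto_sum_nat
  have hlim2 : Tendsto (fun K => ∑ k ∈ Finset.range K, (∑ j, b j • u j k)) atTop (𝓝 x) := by
    simp only [hpartial]
    have h0 : Tendsto rseq atTop (𝓝 0) :=
      htend rseq (fun k => V_anti I M' (Nat.le_add_left k n) (hrmem k))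
    have := (tendsto_const_nhds (x := x)).sub h0
    rwa [sub_zero] at this
  have hx_eq : x = ∑ j, b j • ∑' k, u j k := tendsto_nhds_unique hlim2 hlim1
  rw [hx_eq]
  apply Submodule.sum_mem
  intro j _
  apply Submodule.smul_mem_smul _ (hz j)
  rw [← hb]
  exact Ideal.subset_span ⟨j, rfl⟩


end

/-- Let R be a commutative ring, I a finitely generated ideal and M a topological R-module (additive
uniform structure, each scalar acting uniformly continuously) having an open submodule M' whose
topology is the I-adic one, i.e. the I^n M' are open in M and form a fundamental system of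
neighbourhoods of 0. Then the separated completion M^ has an open submodule whose topology is I-adic
in the same sense, and for every n ≥ 1 the map M → M^/I^n M^ is surjective with kernel I^n M,
identifying M^/I^n M^ with M/I^n M. -/
theorem result
    {R : Type u} [CommRing R] (I : Ideal R) (hI : I.FG)
    {M : Type v} [AddCommGroup M] [Module R M] [UniformSpace M] [IsUniformAddGroup M]
    [UniformContinuousConstSMul R M]
    (M' : Submodule R M) (hopen : ∀ n : ℕ, IsOpen ((I ^ n • M' : Submodule R M) : Set M))
    (hbasis : ∀ U ∈ nhds (0 : M), ∃ n : ℕ, ((I ^ n • M' : Submodule R M) : Set M) ⊆ U) :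
    (∃ M'' : Submodule R (UniformSpace.Completion M),
        (∀ n : ℕ, IsOpen ((I ^ n • M'' : Submodule R (UniformSpace.Completion M)) :
          Set (UniformSpace.Completion M))) ∧
        ∀ U ∈ nhds (0 : UniformSpace.Completion M), ∃ n : ℕ,
          ((I ^ n • M'' : Submodule R (UniformSpace.Completion M)) :
            Set (UniformSpace.Completion M)) ⊆ U) ∧
      ∀ n : ℕ, 0 < n →
        Function.Surjective ((QuotientAddGroup.mk' (I ^ n • ⊤ : Submodule R (UniformSpace.Completion M)).toAddSubgroup).comp
          (UniformSpace.Completion.toCompl : M →+ UniformSpace.Completion M)) ∧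
        ((QuotientAddGroup.mk' (I ^ n • ⊤ : Submodule R (UniformSpace.Completion M)).toAddSubgroup).comp
          (UniformSpace.Completion.toCompl : M →+ UniformSpace.Completion M)).ker = (I ^ n • ⊤ : Submodule R M).toAddSubgroup := by
  have hVn : ∀ n, I ^ n • V I M' 0 = V I M' n := by
    intro n
    apply le_antisymm
    · have := smul_V_le I M' n 0
      rwa [add_zero] at this
    · exact V_le_smul I M' hI hopen hbasis n
  have hdense : ∀ (k : ℕ) (e : Completion M), ∃ m : M, (m : Completion M) - e ∈ V I M' k := by
    intro k e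
    have hc : Continuous (fun z : Completion M => z - e) := continuous_id.sub continuous_const
    have ho : IsOpen ((fun z : Completion M => z - e) ⁻¹' (V I M' k : Set (Completion M))) :=
      (V_isOpen I M' hopen k).preimage hc
    have hne : ((fun z : Completion M => z - e) ⁻¹' (V I M' k : Set (Completion M))).Nonempty := by
      refine ⟨e, ?_⟩
      change e - e ∈ V I M' k
      rw [sub_self]
      exact Submodule.zero_mem _
    obtain ⟨m, hm⟩ := Completion.denseRange_coe.exists_mem_open ho hne
    exact ⟨m, hm⟩
  refine ⟨⟨V I M' 0, fun n => ?_, fun U hU => ?_⟩, fun n _ => ⟨?_, ?_⟩⟩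
  · rw [hVn]
    exact V_isOpen I M' hopen n
  · obtain ⟨k, hk⟩ := V_basis I M' hbasis U hU
    exact ⟨k, by rw [hVn]; exact hk⟩
  · intro e
    obtain ⟨e', rfl⟩ := QuotientAddGroup.mk'_surjective _ e
    obtain ⟨m, hm⟩ := hdense n e'
    refine ⟨m, ?_⟩
    change QuotientAddGroup.mk' _ (m : Completion M) = QuotientAddGroup.mk' _ e'
    rw [QuotientAddGroup.mk'_eq_mk']
    refine ⟨e' - (m : Completion M), ?_, by abel⟩
    have h1 : (m : Completion M) - e' ∈ I ^ n • (⊤ : Submodule R (Completion M)) := by
      have h2 : (m : Completion M) - e' ∈ I ^ n • V I M' 0 := by rw [hVn]; exact hm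
      exact Submodule.smul_mono le_rfl le_top h2
    have h3 := Submodule.neg_mem _ h1
    rwa [neg_sub] at h3
  · ext m
    rw [AddMonoidHom.mem_ker, AddMonoidHom.comp_apply, QuotientAddGroup.mk'_apply,
      QuotientAddGroup.eq_zero_iff]
    change (m : Completion M) ∈ I ^ n • (⊤ : Submodule R (Completion M)) ↔
      m ∈ I ^ n • (⊤ : Submodule R M)
    constructor
    · intro hm
      have hle : I ^ n • (⊤ : Submodule R (Completion M)) ≤
          (I ^ n • (⊤ : Submodule R M)).map (ιL (R := R)) ⊔ V I M' n := by
        rw [Submodule.smul_le]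
        intro r hr e _
        obtain ⟨m', hm'⟩ := hdense 0 e
        have h1 : r • e = ιL (R := R) (r • m') - r • ((m' : Completion M) - e) := by
          rw [map_smul, ιL_apply, smul_sub]
          abel
        rw [h1]
        apply Submodule.sub_mem
        · exact Submodule.mem_sup_left
            (Submodule.mem_map_of_mem (Submodule.smul_mem_smul hr Submodule.mem_top))
        · apply Submodule.mem_sup_right
          rw [← hVn]
          exact Submodule.smul_mem_smul hr hm'
      obtain ⟨_, ⟨y, hy, rfl⟩, v, hv, hyv⟩ := Submodule.mem_sup.mp (hle hm)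
      have h2 : ((m - y : M) : Completion M) ∈ (V I M' n : Set (Completion M)) := by
        have : ((m - y : M) : Completion M) = v := by
          rw [Completion.coe_sub, ← hyv, ιL_apply]
          abel
        rw [this]
        exact hv
      rw [V_coe] at h2
      have h3 : (m - y) ∈ closure ((I ^ n • M' : Submodule R M) : Set M) := by
        rw [(Completion.isUniformInducing_coe M).isInducing.closure_eq_preimage_closure_image]
        exact h2
      have hclosed : IsClosed ((I ^ n • M' : Submodule R M) : Set M) :=
        AddSubgroup.isClosed_of_isOpen (I ^ n • M' : Submodule R M).toAddSubgroup (hopen n)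
      rw [hclosed.closure_eq] at h3
      have h4 : m = y + (m - y) := by abel
      rw [h4]
      exact Submodule.add_mem _ hy (Submodule.smul_mono le_rfl le_top h3)
    · intro hm
      have h1 : (I ^ n • (⊤ : Submodule R M)).map (ιL (R := R)) ≤
          I ^ n • (⊤ : Submodule R (Completion M)) := by
        rw [Submodule.map_smul'']
        exact Submodule.smul_mono le_rfl le_top
      exact h1 (Submodule.mem_map_of_mem hm)

end Groth.Agent.S10173
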