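import Groth.Statements.S10180
-- import your own Groth.Agent.* helpers here

set_option autoImplicit false
universe u
open CategoryTheory CategoryTheory.Limits AlgebraicGeometry Topology TopologicalSpace
open AlgSp

namespace Groth.Agent.S10180

/-- An algebraic space X over a scheme S is quasi-compact if and only if there exist an affine scheme U
over S and a representable etale, representable surjective map h_U ⟶ X. -/
theorem result {S : Scheme.{u}} (X : AlgSp.Space S) :
    AlgSp.IsQuasiCompactSp X.obj ↔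
      ∃ (U : Over S) (p : (AlgSp.yon S).obj U ⟶ X.obj),
        IsAffine U.left ∧ AlgSp.RepWith @Etale p ∧ AlgSp.RepWith @Surjective p := by
  constructor
  · rintro ⟨U, p, hpe, hps, hU⟩
    have : CompactSpace ↥U.left := hU
    let 𝒰 := U.left.affineCover.finiteSubcover
    have hfin : Finite 𝒰.I₀ := Finite.of_fintype _
    have haff : ∀ i, IsAffine (𝒰.X i) := fun i => by
      dsimp [𝒰]; infer_instance
    let g : (∐ 𝒰.X) ⟶ U.left := Sigma.desc 𝒰.f
    have hg1 : Etale g := IsZariskiLocalAtSource.sigmaDesc (P := @Etale) (fun i => inferInstance)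
    have hg2 : Surjective g := by
      refine ⟨fun x => ?_⟩
      obtain ⟨i, y, rfl⟩ := 𝒰.exists_eq x
      exact ⟨Sigma.ι 𝒰.X i y, by simp [g, ← Scheme.Hom.comp_apply]⟩
    let U' : Over S := Over.mk (g ≫ U.hom)
    let φ : U' ⟶ U := Over.homMk g rfl
    refine ⟨U', (AlgSp.yon S).map φ ≫ p, ?_, ?_, ?_⟩
    · change IsAffine (∐ 𝒰.X)
      infer_instance
    · exact (AlgSp.RepWith @Etale).comp_mem _ _ ((AlgSp.repWith_yon_map_iff _ φ).2 hg1) hpe
    · exact (AlgSp.RepWith @Surjective).comp_mem _ _ ((AlgSp.repWith_yon_map_iff _ φ).2 hg2) hps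
  · rintro ⟨U, p, hU, hpe, hps⟩
    exact ⟨U, p, hpe, hps, inferInstance⟩

end Groth.Agent.S10180
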