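import Groth.Statements.S10181
-- import your own Groth.Agent.* helpers here

set_option autoImplicit false
universe u
open CategoryTheory CategoryTheory.Limits AlgebraicGeometry Topology TopologicalSpace
open AlgSp

namespace Groth.Agent.S10181

/-- Let X be an algebraic space over a scheme S and a : h_U ⟶ X a representable etale map from a scheme
U over S whose underlying scheme is separated. Then a is (representable and) separated, and the
scheme R = U ×_X U representing the fibre product h_U ×_X h_U is separated. -/
theorem result {S : Scheme.{u}} (X : AlgSp.Space S) {U : Over S}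
    (a : (AlgSp.yon S).obj U ⟶ X.obj) (ha : AlgSp.RepWith @Etale a) [U.left.IsSeparated] :
    AlgSp.RepWith @IsSeparated a ∧
      ∀ (R : Over S) (s t : R ⟶ U), IsPullback ((AlgSp.yon S).map t) ((AlgSp.yon S).map s) a a →
        R.left.IsSeparated := by
  have key : ∀ ⦃T V : Over S⦄ (g : (AlgSp.yon S).obj T ⟶ X.obj) (fst : (AlgSp.yon S).obj V ⟶ (AlgSp.yon S).obj U)
      (snd : V ⟶ T), IsPullback fst ((AlgSp.yon S).map snd) a g → IsSeparated snd.left := by
    intro T V g fst snd hsq
    obtain ⟨fst', rfl⟩ := (AlgSp.yon S).map_surjective fst
    have hw : snd.left ≫ T.hom = fst'.left ≫ U.hom := (Over.w snd).trans (Over.w fst').symm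
    let j : V.left ⟶ pullback T.hom U.hom := pullback.lift snd.left fst'.left hw
    have hj : Mono j := by
      refine ⟨fun {W} x y hxy => ?_⟩
      have h1 : x ≫ snd.left = y ≫ snd.left := by
        have := congrArg (· ≫ pullback.fst T.hom U.hom) hxy
        simp only [Category.assoc] at this
        erw [pullback.lift_fst] at this
        exact this
      have h2 : x ≫ fst'.left = y ≫ fst'.left := by
        have := congrArg (· ≫ pullback.snd T.hom U.hom) hxy
        simp only [Category.assoc] at this
        erw [pullback.lift_snd] at this
        exact this
      have h3 : y ≫ V.hom = x ≫ V.hom := by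
        rw [← Over.w snd, ← Category.assoc, ← Category.assoc, h1]
      let x' : Over.mk (x ≫ V.hom) ⟶ V := Over.homMk x rfl
      let y' : Over.mk (x ≫ V.hom) ⟶ V := Over.homMk y h3
      have h4 : x' = y' := by
        apply (AlgSp.yon S).map_injective
        apply hsq.hom_ext
        · rw [← Functor.map_comp, ← Functor.map_comp]
          congr 1
          exact Over.OverMorphism.ext h2
        · rw [← Functor.map_comp, ← Functor.map_comp]
          congr 1
          exact Over.OverMorphism.ext h1
      exact congrArg (fun z => z.left) h4
    have hU : IsSeparated U.hom := inferInstance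
    have : snd.left = j ≫ pullback.fst T.hom U.hom := (pullback.lift_fst _ _ _).symm
    rw [this]
    infer_instance
  refine ⟨⟨ha.rep, key⟩, fun R s t hR => ?_⟩
  have hs : IsSeparated s.left := key a _ s hR
  refine ⟨?_⟩
  have : terminal.from R.left = s.left ≫ terminal.from U.left := Subsingleton.elim _ _
  rw [this]
  infer_instance

end Groth.Agent.S10181
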