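import Groth.Statements.S10182
import Groth.Agent.S10184
import Groth.Agent.Lib.Helper30.CompactOpenSurj

set_option autoImplicit false
universe u
open CategoryTheory CategoryTheory.Limits AlgebraicGeometry Topology TopologicalSpace
open AlgSp

namespace Groth.Agent.S10182

/-- Let X be an algebraic space over a scheme S, U a scheme over S whose underlying scheme is
quasi-separated, p : h_U ⟶ X representable etale and surjective, and R a scheme over S with h_R =
h_U ×_X h_U. If one of the two projections R ⟶ U is quasi-compact, then X is quasi-separated over S.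
(The published statement concludes absolute quasi-separatedness, i.e. over the integers; this row
concludes quasi-separatedness of the diagonal over S, which the same argument gives and which the
absolute notion implies.) -/
theorem result {S : Scheme.{u}} (X : AlgSp.Space S) {R U : Over S}
    (p : (AlgSp.yon S).obj U ⟶ X.obj) (hp : AlgSp.RepWith @Etale p) (hs : AlgSp.RepWith @Surjective p)
    [QuasiSeparatedSpace ↥U.left] (s t : R ⟶ U)
    (hR : IsPullback ((AlgSp.yon S).map t) ((AlgSp.yon S).map s) p p) [QuasiCompact t.left] :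
    AlgSp.IsQuasiSeparatedSp X.obj := by
  apply Groth.Agent.S10184.result X
  intro T1 T2 P a b fst snd hT1 hT2 hP
  haveI := hT1
  haveI := hT2
  -- the charts over `T1`, `T2`
  have sq1 := hp.rep.isPullback' a
  have sq2 := hp.rep.isPullback' b
  have hα1e : Etale (hp.rep.snd a).left := hp.property_snd a
  have hα1s : Surjective (hp.rep.snd a).left := hs.property a _ _ (hp.rep.isPullback a)
  have hα2e : Etale (hp.rep.snd b).left := hp.property_snd b
  have hα2s : Surjective (hp.rep.snd b).left := hs.property b _ _ (hp.rep.isPullback b)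
  obtain ⟨K1, hK1c, hK1s⟩ := Groth.Agent.Lib.Helper30.exists_compact_open_surj
    (hp.rep.snd a).left (hp.rep.snd a).left.isOpenMap hα1s.surj
  obtain ⟨K2, hK2c, hK2s⟩ := Groth.Agent.Lib.Helper30.exists_compact_open_surj
    (hp.rep.snd b).left (hp.rep.snd b).left.isOpenMap hα2s.surj
  let K1' : Over S := Over.mk (K1.ι ≫ (hp.rep.pullback a).hom)
  let K2' : Over S := Over.mk (K2.ι ≫ (hp.rep.pullback b).hom)
  let κ1 : K1' ⟶ hp.rep.pullback a := Over.homMk K1.ι rfl
  let κ2 : K2' ⟶ hp.rep.pullback b := Over.homMk K2.ι rfl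
  let α1 : K1' ⟶ T1 := κ1 ≫ hp.rep.snd a
  let β1 : K1' ⟶ U := κ1 ≫ hp.rep.fst' a
  let α2 : K2' ⟶ T2 := κ2 ≫ hp.rep.snd b
  let β2 : K2' ⟶ U := κ2 ≫ hp.rep.fst' b
  have hab1 : (AlgSp.yon S).map α1 ≫ a = (AlgSp.yon S).map β1 ≫ p := by
    simp only [α1, β1, Functor.map_comp, Category.assoc, sq1.w]
  have hab2 : (AlgSp.yon S).map α2 ≫ b = (AlgSp.yon S).map β2 ≫ p := by
    simp only [α2, β2, Functor.map_comp, Category.assoc, sq2.w]
  have hK1compact : CompactSpace ↥K1'.left := isCompact_iff_compactSpace.mp hK1c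
  have hK2compact : CompactSpace ↥K2'.left := isCompact_iff_compactSpace.mp hK2c
  have hα1surj : Surjective α1.left := ⟨fun z => by
    obtain ⟨y, hy, rfl⟩ := hK1s z
    exact ⟨⟨y, hy⟩, rfl⟩⟩
  have hα2surj : Surjective α2.left := ⟨fun z => by
    obtain ⟨y, hy, rfl⟩ := hK2s z
    exact ⟨⟨y, hy⟩, rfl⟩⟩
  -- `Q1 = P ×_{T1} K1`, `Q2 = Q1 ×_{T2} K2`
  have hQ1 := IsPullback.of_hasPullback fst α1
  have hQ2 := IsPullback.of_hasPullback (pullback.fst fst α1 ≫ snd) α2
  have hs1 : Surjective (pullback.fst fst α1).left :=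
    MorphismProperty.of_isPullback (P := @Surjective) (hQ1.map (Over.forget S)).flip hα1surj
  have hs2 : Surjective (pullback.fst (pullback.fst fst α1 ≫ snd) α2).left :=
    MorphismProperty.of_isPullback (P := @Surjective) (hQ2.map (Over.forget S)).flip hα2surj
  -- `Q2` represents `h_{K1} ×_X h_{K2}`
  have hQ1' : IsPullback ((AlgSp.yon S).map (pullback.snd fst α1))
      ((AlgSp.yon S).map (pullback.fst fst α1) ≫ (AlgSp.yon S).map snd)
      ((AlgSp.yon S).map α1 ≫ a) b :=
    (hQ1.map (AlgSp.yon S)).flip.paste_vert hP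
  have hQ2' : IsPullback
      ((AlgSp.yon S).map (pullback.fst (pullback.fst fst α1 ≫ snd) α2) ≫
        (AlgSp.yon S).map (pullback.snd fst α1))
      ((AlgSp.yon S).map (pullback.snd (pullback.fst fst α1 ≫ snd) α2))
      ((AlgSp.yon S).map α1 ≫ a) ((AlgSp.yon S).map α2 ≫ b) := by
    have h1 := hQ2.map (AlgSp.yon S)
    rw [Functor.map_comp] at h1
    exact h1.paste_horiz hQ1'
  rw [hab1, hab2] at hQ2'
  -- `M1 = K1 ×_U R`, `M2 = M1 ×_U K2`
  have hM1 := IsPullback.of_hasPullback β1 t
  have hM2 := IsPullback.of_hasPullback (pullback.snd β1 t ≫ s) β2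
  have hM1' : IsPullback ((AlgSp.yon S).map (pullback.fst β1 t))
      ((AlgSp.yon S).map (pullback.snd β1 t) ≫ (AlgSp.yon S).map s)
      ((AlgSp.yon S).map β1 ≫ p) p :=
    (hM1.map (AlgSp.yon S)).paste_vert hR
  have hM2' : IsPullback
      ((AlgSp.yon S).map (pullback.fst (pullback.snd β1 t ≫ s) β2) ≫
        (AlgSp.yon S).map (pullback.fst β1 t))
      ((AlgSp.yon S).map (pullback.snd (pullback.snd β1 t ≫ s) β2))
      ((AlgSp.yon S).map β1 ≫ p) ((AlgSp.yon S).map β2 ≫ p) := by
    have h1 := hM2.map (AlgSp.yon S)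
    rw [Functor.map_comp] at h1
    exact h1.paste_horiz hM1'
  -- compactness of `M2`
  have hqc1 : QuasiCompact (pullback.fst β1 t).left :=
    MorphismProperty.of_isPullback (P := @QuasiCompact) (hM1.map (Over.forget S)).flip
      (inferInstance : QuasiCompact t.left)
  have hM1c : CompactSpace ↥(pullback β1 t).left :=
    QuasiCompact.compactSpace_of_compactSpace (pullback.fst β1 t).left
  have hβ2 : QuasiCompact β2.left := inferInstance
  have hqc2 : QuasiCompact (pullback.fst (pullback.snd β1 t ≫ s) β2).left :=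
    MorphismProperty.of_isPullback (P := @QuasiCompact) (hM2.map (Over.forget S)).flip hβ2
  have hM2c : CompactSpace ↥(pullback (pullback.snd β1 t ≫ s) β2).left :=
    QuasiCompact.compactSpace_of_compactSpace (pullback.fst (pullback.snd β1 t ≫ s) β2).left
  -- compare
  let e := (AlgSp.yon S).preimageIso (hQ2'.isoIsPullback _ _ hM2')
  have hQ2c : CompactSpace ↥(pullback (pullback.fst fst α1 ≫ snd) α2).left :=
    @QuasiCompact.compactSpace_of_compactSpace _ _ ((Over.forget S).mapIso e).hom
      inferInstance hM2c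
  have hsurj : Function.Surjective
      ((pullback.fst (pullback.fst fst α1 ≫ snd) α2).left ≫ (pullback.fst fst α1).left) := by
    intro x
    obtain ⟨y, rfl⟩ := hs1.surj x
    obtain ⟨z, rfl⟩ := hs2.surj y
    exact ⟨z, Scheme.Hom.comp_apply _ _ _⟩
  exact hsurj.compactSpace
    ((pullback.fst (pullback.fst fst α1 ≫ snd) α2).left ≫ (pullback.fst fst α1).left).continuous

end Groth.Agent.S10182
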