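import Groth.Statements.S10186
import Groth.Agent.Lib.Helper30.AlgSpDiag
import Groth.Agent.Lib.Helper30.AffineProd

set_option autoImplicit false
universe u
open CategoryTheory CategoryTheory.Limits AlgebraicGeometry Topology TopologicalSpace
open AlgSp

namespace Groth.Agent.S10186

/-- Let X be an algebraic space over a scheme S such that for all affine schemes U, V over S mapping to
X and every scheme P over S representing h_U ×_X h_V, the scheme P is affine and the ring map from
the tensor product over the integers of the global sections of U and V to the global sections of P,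
induced by the two projections, is surjective. Then X is separated over S. (The published statement
concerns absolute separatedness, over the integers, which this hypothesis also gives and which
implies separatedness over S.) -/
theorem result {S : Scheme.{u}} (X : AlgSp.Space S)
    (h : ∀ (U V P : Over S) (a : (AlgSp.yon S).obj U ⟶ X.obj) (b : (AlgSp.yon S).obj V ⟶ X.obj)
      (fst : P ⟶ U) (snd : P ⟶ V),
      IsAffine U.left → IsAffine V.left →
      IsPullback ((AlgSp.yon S).map fst) ((AlgSp.yon S).map snd) a b →
        IsAffine P.left ∧ Function.Surjective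
          (Algebra.TensorProduct.productMap fst.left.appTop.hom.toIntAlgHom snd.left.appTop.hom.toIntAlgHom)) :
    AlgSp.IsSeparatedSp X.obj := by
  -- the affine case
  have affine_case : ∀ (T W : Over S) (g : (AlgSp.yon S).obj T ⟶ X.obj ⨯ X.obj)
      (fst : (AlgSp.yon S).obj W ⟶ X.obj) (snd : W ⟶ T), IsAffine T.left →
      IsPullback fst ((AlgSp.yon S).map snd) (Limits.diag X.obj) g → IsClosedImmersion snd.left := by
    intro T W g fst snd hT hsq
    have hrep := X.property.representable_from_yon (g ≫ prod.fst)
    have hP : IsPullback ((AlgSp.yon S).map (hrep.fst' (g ≫ prod.snd)))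
        ((AlgSp.yon S).map (hrep.snd (g ≫ prod.snd))) (g ≫ prod.fst) (g ≫ prod.snd) :=
      hrep.isPullback' _
    have hPa := h T T _ _ _ _ _ hT hT hP
    have hw : (hrep.fst' (g ≫ prod.snd)).left ≫ (T.hom ≫ terminal.from S) =
        (hrep.snd (g ≫ prod.snd)).left ≫ (T.hom ≫ terminal.from S) := Subsingleton.elim _ _
    have hj' : IsClosedImmersion (pullback.lift (hrep.fst' (g ≫ prod.snd)).left
        (hrep.snd (g ≫ prod.snd)).left hw) :=
      (Groth.Agent.Lib.Helper30.AffineProd.isClosedImmersion_lift_iff _ _ _ _ hw).2 hPa
    have hj : pullback.lift (hrep.fst' (g ≫ prod.snd)).left (hrep.snd (g ≫ prod.snd)).left hw =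
        (prod.lift (hrep.fst' (g ≫ prod.snd)) (hrep.snd (g ≫ prod.snd))).left ≫
          (Over.prodLeftIsoPullback T T).hom ≫ pullback.mapDesc T.hom T.hom (terminal.from S) := by
      apply pullback.hom_ext
      · rw [pullback.lift_fst]
        simp only [Category.assoc, pullback.mapDesc, pullback.lift_fst, Category.comp_id]
        rw [Over.prodLeftIsoPullback_hom_fst, ← Over.comp_left, Limits.prod.lift_fst]
      · rw [pullback.lift_snd]
        simp only [Category.assoc, pullback.mapDesc, pullback.lift_snd, Category.comp_id]
        rw [Over.prodLeftIsoPullback_hom_snd, ← Over.comp_left, Limits.prod.lift_snd]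
    have hm : IsClosedImmersion
        (prod.lift (hrep.fst' (g ≫ prod.snd)) (hrep.snd (g ≫ prod.snd))).left := by
      rw [hj] at hj'
      exact IsClosedImmersion.of_comp _
        ((Over.prodLeftIsoPullback T T).hom ≫ pullback.mapDesc T.hom T.hom (terminal.from S))
    have hW₂ := IsPullback.of_hasPullback
      (prod.lift (hrep.fst' (g ≫ prod.snd)) (hrep.snd (g ≫ prod.snd))) (Limits.diag T)
    have hsq₂ := Groth.Agent.Lib.Helper30.AlgSpDiag.isPullback_diag_of_pullback g hP hW₂
    have hsnd : IsClosedImmersion (pullback.snd
        (prod.lift (hrep.fst' (g ≫ prod.snd)) (hrep.snd (g ≫ prod.snd))) (Limits.diag T)).left :=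
      MorphismProperty.of_isPullback (P := @IsClosedImmersion) (hW₂.map (Over.forget S)) hm
    have hi := hsq.isoIsPullback_hom_snd _ _ hsq₂
    have he : ((AlgSp.yon S).preimageIso (hsq.isoIsPullback _ _ hsq₂)).hom ≫ pullback.snd
        (prod.lift (hrep.fst' (g ≫ prod.snd)) (hrep.snd (g ≫ prod.snd))) (Limits.diag T) = snd := by
      apply (AlgSp.yon S).map_injective
      rw [Functor.map_comp, Functor.preimageIso_hom, Functor.map_preimage]
      exact hi
    rw [← he, Over.comp_left]
    infer_instance
  refine ⟨X.property.diag, fun T W g fst snd hsq => ?_⟩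
  change IsClosedImmersion snd.left
  rw [IsZariskiLocalAtTarget.iff_of_iSup_eq_top (P := @IsClosedImmersion)
    (fun V : T.left.affineOpens => (V : T.left.Opens)) (iSup_affineOpens_eq_top _)]
  rintro ⟨V, hV⟩
  let T' : Over S := Over.mk (V.ι ≫ T.hom)
  let W' : Over S := Over.mk ((snd.left ⁻¹ᵁ V).ι ≫ W.hom)
  let ιT : T' ⟶ T := Over.homMk V.ι rfl
  let ιW : W' ⟶ W := Over.homMk (snd.left ⁻¹ᵁ V).ι rfl
  have hw : (snd.left ∣_ V) ≫ V.ι ≫ T.hom = (snd.left ⁻¹ᵁ V).ι ≫ W.hom := by
    rw [← Category.assoc, morphismRestrict_ι, Category.assoc, Over.w snd]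
  let snd' : W' ⟶ T' := Over.homMk (snd.left ∣_ V) hw
  have hres : IsPullback ιW snd' snd ιT := by
    have h0 : IsPullback snd' ιW ιT snd :=
      IsPullback.of_map (Over.forget S)
        (Over.OverMorphism.ext (morphismRestrict_ι snd.left V))
        (isPullback_morphismRestrict snd.left V)
    exact h0.flip
  have hpaste := (hres.map (AlgSp.yon S)).paste_horiz hsq
  exact affine_case T' W' _ _ snd' hV hpaste

end Groth.Agent.S10186
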