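import Groth.Statements.S10189
import Groth.Agent.Lib.Helper30.LocConstr
import Groth.Agent.Lib.Helper37.AlgSpPoints

set_option autoImplicit false
universe u
open CategoryTheory CategoryTheory.Limits AlgebraicGeometry Topology TopologicalSpace
open AlgSp

namespace Groth.Agent.S10189

/-- Let X be an algebraic space over a scheme S and E a subset of |X|. If the inverse image of E under
some representable etale surjective map h_U ⟶ X from a scheme U is a locally constructible subset of
U, then its inverse image under every representable etale map h_V ⟶ X from a scheme V is locally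
constructible in V. -/
theorem result {S : Scheme.{u}} (X : AlgSp.Space S)
    (E : Set (AlgSp.Points X.obj)) {U : Over S} (p : (AlgSp.yon S).obj U ⟶ X.obj)
    (hp : AlgSp.RepWith @Etale p) (hs : AlgSp.RepWith @Surjective p)
    (hE : IsLocallyConstructible (AlgSp.Points.ofPt p ⁻¹' E))
    {V : Over S} (a : (AlgSp.yon S).obj V ⟶ X.obj) (ha : AlgSp.RepWith @Etale a) :
    IsLocallyConstructible (AlgSp.Points.ofPt a ⁻¹' E) := by
  have hsq := hp.rep.isPullback' a
  have hpre : (hp.rep.snd a).left ⁻¹' (AlgSp.Points.ofPt a ⁻¹' E) =
      (hp.rep.fst' a).left ⁻¹' (AlgSp.Points.ofPt p ⁻¹' E) := by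
    ext w
    simp only [Set.mem_preimage]
    rw [← Groth.Agent.Lib.Helper37.AlgSpPoints.ofPt_map_comp (hp.rep.snd a) a w,
      ← Groth.Agent.Lib.Helper37.AlgSpPoints.ofPt_map_comp (hp.rep.fst' a) p w, hsq.w]
  have h1 : IsLocallyConstructible ((hp.rep.snd a).left ⁻¹' (AlgSp.Points.ofPt a ⁻¹' E)) := by
    rw [hpre]
    exact Groth.Agent.Lib.Helper30.isLocallyConstructible_preimage _ hE
  haveI : Etale (hp.rep.snd a).left := hp.property_snd a
  have hsurj : Surjective (hp.rep.snd a).left := hs.property a _ _ hsq
  exact Groth.Agent.Lib.Helper30.isLocallyConstructible_of_preimage (hp.rep.snd a).left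
    hsurj.surj h1

end Groth.Agent.S10189
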