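import Groth.Statements.S10190
import Groth.Agent.Lib.Helper37.AlgSpPoints
import Mathlib

set_option autoImplicit false
universe u
open CategoryTheory CategoryTheory.Limits AlgebraicGeometry Topology TopologicalSpace
open AlgSp

namespace Groth.Agent.S10190

open Groth.Agent.Lib.Helper37.AlgSpPoints

theorem exists_dim_zero {U : Scheme.{u}} (O : Set U) (hO : IsOpen O) (hne : O.Nonempty) :
    ∃ u ∈ O, ringKrullDim ↥(U.presheaf.stalk u) = 0 := by
  obtain ⟨x, hx⟩ := hne
  obtain ⟨_, ⟨V, hV', rfl⟩, hxV, hVO⟩ := U.isBasis_affineOpens.exists_subset_of_mem_open hx hO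
  have hV : IsAffineOpen V := hV'
  let P := hV.primeIdealOf ⟨x, hxV⟩
  obtain ⟨p, hp, -⟩ := Ideal.exists_minimalPrimes_le (I := ⊥) (J := P.asIdeal) bot_le
  have hpp : p.IsPrime := hp.1.1
  let y : PrimeSpectrum Γ(U, V) := ⟨p, hpp⟩
  have hy : hV.fromSpec y ∈ V := by
    have : hV.fromSpec y ∈ Set.range hV.fromSpec := ⟨y, rfl⟩
    rw [hV.range_fromSpec] at this
    exact this
  refine ⟨hV.fromSpec y, hVO hy, ?_⟩
  have hloc := hV.isLocalization_stalk' y hy
  have h1 := @IsLocalization.AtPrime.ringKrullDim_eq_height _ _ y.asIdeal _ _ _ (_) hloc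
  have h2 : y.asIdeal.height = 0 := Ideal.height_eq_zero_iff.mpr hp
  rw [h2] at h1
  exact h1

/-- For an algebraic space X over a scheme S, the set of codimension 0 points of X (points x of |X| such
that, for some representable etale h_U ⟶ X from a scheme U and some point u of U mapping to x, the
local ring of U at u has dimension 0) is dense in |X|. -/
theorem result {S : Scheme.{u}} (X : AlgSp.Space S) :
    Dense {x : AlgSp.Points X.obj |
      AlgSp.HasAt (fun U u => ringKrullDim ↥(U.presheaf.stalk u) = 0) X.obj x} := by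
  rw [dense_iff_inter_open]
  intro W hW hne
  obtain ⟨U, a, ha, has⟩ := X.property.atlas
  obtain ⟨x, hx⟩ := hne
  obtain ⟨u₀, rfl⟩ := ofPt_surjective a has x
  obtain ⟨u, hu, hdim⟩ := exists_dim_zero (Points.ofPt a ⁻¹' W) (hW.preimage (Points.continuous_ofPt a)) ⟨u₀, hx⟩
  exact ⟨Points.ofPt a u, hu, U, a, u, ha, rfl, hdim⟩

end Groth.Agent.S10190
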