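import Groth.Statements.S10193
import Groth.Agent.Lib.Helper23.AlgSpCancel
import Groth.Agent.Lib.Helper23.AlgSpMor
import Groth.Agent.Lib.Helper37.AlgSpPoints

set_option autoImplicit false
universe u
open CategoryTheory CategoryTheory.Limits AlgebraicGeometry Topology TopologicalSpace
open AlgSp

namespace Groth.Agent.S10193

/-- Let X, Y be algebraic spaces over a scheme S, i : Z ⟶ X a closed subspace (a morphism representable
by closed immersions) and assume Y is reduced. Then a morphism f : Y ⟶ X factors through Z if and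
only if |f|(|Y|) is contained in |Z|. -/
theorem result {S : Scheme.{u}} {X Y Z : AlgSp.Space S}
    (i : Z ⟶ X) (hi : AlgSp.RepWith @IsClosedImmersion i.hom) (hY : AlgSp.IsReducedSp Y.obj) (f : Y ⟶ X) :
    (∃ g : Y ⟶ Z, g ≫ i = f) ↔
      Set.range (AlgSp.Points.map f.hom) ⊆ Set.range (AlgSp.Points.map i.hom) := by
  constructor
  · rintro ⟨g, rfl⟩ _ ⟨y, rfl⟩
    exact ⟨Points.map g.hom y, by
      change Points.map i.hom (Points.map g.hom y) = Points.map (g.hom ≫ i.hom) y
      rw [Points.map_comp]⟩
  · intro hsub
    have sqP := IsPullback.of_hasPullback i.hom f.hom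
    have hsnd : RepWith @IsClosedImmersion (pullback.snd i.hom f.hom) :=
      (RepWith @IsClosedImmersion).of_isPullback sqP hi
    have hsurj : IsSurjectiveMor (pullback.snd i.hom f.hom) := by
      intro y
      obtain ⟨z, hz⟩ := hsub ⟨y, rfl⟩
      obtain ⟨p, hp, -⟩ := Groth.Agent.Lib.Helper37.AlgSpPoints.points_exists_of_isPullback
        sqP.flip y z hz.symm
      exact ⟨p, hp⟩
    have hsnds : RepWith @Surjective (pullback.snd i.hom f.hom) :=
      Groth.Agent.Lib.Helper23.AlgSpMor.repWith_surjective_of_isSurjectiveMor _ hsnd.rep hsurj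
    obtain ⟨V, b, hbe, hbs, hVred⟩ := hY
    have sqV := hsnd.rep.isPullback b
    haveI : IsClosedImmersion (hsnd.rep.snd b).left := hsnd.property_snd b
    haveI : Surjective (hsnd.rep.snd b).left := hsnds.property (b) _ _ sqV
    haveI : IsReduced V.left := hVred
    haveI : IsIso (hsnd.rep.snd b).left :=
      isIso_of_isClosedImmersion_of_surjective (hsnd.rep.snd b).left
    haveI : IsIso ((Over.forget S).map (hsnd.rep.snd b)) := by
      change IsIso (hsnd.rep.snd b).left
      infer_instance
    haveI : IsIso (hsnd.rep.snd b) := isIso_of_reflects_iso _ (Over.forget S)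
    haveI : IsIso ((yon S).map (hsnd.rep.snd b)) := inferInstance
    haveI : IsIso (pullback.snd i.hom f.hom) :=
      Groth.Agent.Lib.Helper23.AlgSpMor.isIso_of_etale_cover _ b hbe hbs sqV
    refine ⟨ObjectProperty.homMk (inv (pullback.snd i.hom f.hom) ≫ pullback.fst i.hom f.hom),
      ObjectProperty.hom_ext _ ?_⟩
    change (inv (pullback.snd i.hom f.hom) ≫ pullback.fst i.hom f.hom) ≫ i.hom = f.hom
    rw [Category.assoc, pullback.condition, IsIso.inv_hom_id_assoc]

end Groth.Agent.S10193
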