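import Groth.Statements.S10196
-- import your own Groth.Agent.* helpers here
import Groth.Agent.S10194
import Groth.Agent.Lib.Helper62.AlgSpMono
import Groth.Agent.Lib.Helper23.AlgSpInj2
import Groth.Agent.Lib.Helper36.AlgSpCharts

set_option autoImplicit false
universe u
open CategoryTheory CategoryTheory.Limits AlgebraicGeometry Topology TopologicalSpace
open AlgSp

namespace Groth.Agent.S10196

open Groth.Agent.Lib.Helper37.AlgSpPoints Groth.Agent.Lib.Helper23.AlgSpMor
  Groth.Agent.Lib.Helper36.AlgSpCharts

/-- A chart `a : h_U ⟶ F` together with a representing scheme `R` of `h_U ×_F h_U` is a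
presentation as soon as `a` is étale and surjective. -/
theorem isPresentation_of_isPullback {S : Scheme.{u}} {F : Sp S} {R U : Over S} (s t : R ⟶ U)
    (a : (yon S).obj U ⟶ F) (hae : RepWith @Etale a) (has : RepWith @Surjective a)
    (sq : IsPullback ((yon S).map t) ((yon S).map s) a a) : IsPresentation s t a := by
  refine ⟨⟨⟨?_, ?_⟩, ?_, ?_⟩, hae, has, sq⟩
  · intro T r r' h1 h2
    apply (yon S).map_injective
    apply sq.hom_ext
    · rw [← Functor.map_comp, ← Functor.map_comp, h1]
    · rw [← Functor.map_comp, ← Functor.map_comp, h2]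
  · intro T
    have key : ∀ x y : T ⟶ U, (∃ r : T ⟶ R, r ≫ t = x ∧ r ≫ s = y) ↔
        (yon S).map x ≫ a = (yon S).map y ≫ a := by
      intro x y
      constructor
      · rintro ⟨r, rfl, rfl⟩
        rw [Functor.map_comp, Functor.map_comp, Category.assoc, Category.assoc, sq.w]
      · intro h
        obtain ⟨r', h1, h2⟩ := sq.exists_lift _ _ h
        obtain ⟨r, rfl⟩ := (yon S).map_surjective r'
        rw [← Functor.map_comp] at h1 h2
        exact ⟨r, (yon S).map_injective h1, (yon S).map_injective h2⟩
    refine ⟨fun x => (key x x).2 rfl, fun {x y} h => (key y x).2 ((key x y).1 h).symm,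
      fun {x y z} h1 h2 => (key x z).2 (((key x y).1 h1).trans ((key y z).1 h2))⟩
  · exact prop_snd_of_isPullback sq hae
  · exact prop_fst_of_isPullback sq hae

/-- Let X be an algebraic space over a scheme S, a : h_U ⟶ X a representable etale map from a scheme U
over S, and X' ⟶ X the open subspace whose image in |X| is the (open) image of U. Then a factors
through a representable etale and surjective a' : h_U ⟶ X', and if R is a scheme over S with h_R =
h_U ×_X h_U then also h_R = h_U ×_{X'} h_U and (U, R, a') is a presentation of X'. -/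
theorem result {S : Scheme.{u}} {X X' : AlgSp.Space S} {U : Over S}
    (a : (AlgSp.yon S).obj U ⟶ X.obj) (ha : AlgSp.RepWith @Etale a)
    (j : X' ⟶ X) (hj : AlgSp.RepWith @IsOpenImmersion j.hom)
    (himage : Set.range (AlgSp.Points.map j.hom) = Set.range (AlgSp.Points.ofPt a)) :
    ∃ a' : (AlgSp.yon S).obj U ⟶ X'.obj, a' ≫ j.hom = a ∧ AlgSp.RepWith @Etale a' ∧ AlgSp.RepWith @Surjective a' ∧
      ∀ (R : Over S) (s t : R ⟶ U), IsPullback ((AlgSp.yon S).map t) ((AlgSp.yon S).map s) a a →
        AlgSp.IsPresentation s t a' := by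
  have hmono : Mono j.hom :=
    Groth.Agent.Lib.Helper62.mono_of_repWith @IsOpenImmersion
      (fun g hg => by have : IsOpenImmersion g := hg; infer_instance) j.hom hj
  obtain ⟨a', ha', -⟩ := Groth.Agent.S10194.exists_unique_lift j.hom hj a (fun t => by
    rw [himage]; exact ⟨t, rfl⟩)
  have hae : RepWith @Etale a' := repWith_of_comp_mono @Etale a' j.hom (by rw [ha']; exact ha)
  have hinj : Function.Injective (Points.map j.hom) :=
    injective_points_of_kInj j.hom (fun K _ str x y hxy => (cancel_mono j.hom).1 hxy)
  have has : RepWith @Surjective a' := by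
    refine repWith_surjective_of_ofPt_surjective a' hae.rep fun x' => ?_
    have : Points.map j.hom x' ∈ Set.range (Points.ofPt a) := by
      rw [← himage]; exact ⟨x', rfl⟩
    obtain ⟨u, hu⟩ := this
    refine ⟨u, hinj ?_⟩
    rw [Points.map_ofPt, ha', hu]
  refine ⟨a', ha', hae, has, fun R s t sq => ?_⟩
  refine isPresentation_of_isPullback s t a' hae has ?_
  refine Groth.Agent.Lib.Helper23.AlgSpMor.isPullback_of_comp_mono j.hom ?_
  rw [ha']
  exact sq

end Groth.Agent.S10196
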