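import Groth.Statements.S10197
import Groth.Agent.Lib.Helper23.SLQMain
import Groth.Agent.Lib.Helper36.OpenImmIso
import Groth.Agent.Lib.Helper37.AlgSpPoints

set_option autoImplicit false
universe u
open CategoryTheory CategoryTheory.Limits AlgebraicGeometry Topology TopologicalSpace
open AlgSp

namespace Groth.Agent.S10197

open Groth.Agent.Lib.Helper36.OpenSubspace

/-- An algebraic space X over a scheme S has a largest open subspace which is a scheme: there is an open
subspace X' ⟶ X whose underlying sheaf is representable by a scheme over S, through which every open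
subspace of X with representable underlying sheaf factors. -/
theorem result {S : Scheme.{u}} (X : AlgSp.Space S) :
    ∃ (X' : AlgSp.Space S) (j : X' ⟶ X), AlgSp.RepWith @IsOpenImmersion j.hom ∧ X'.obj.obj.IsRepresentable ∧
      ∀ (X'' : AlgSp.Space S) (j'' : X'' ⟶ X), AlgSp.RepWith @IsOpenImmersion j''.hom →
        X''.obj.obj.IsRepresentable → ∃ k : X'' ⟶ X', k ≫ j = j'' := by
  classical
  obtain ⟨U, a, hae, has⟩ := X.property.atlas
  have hsurj := Groth.Agent.Lib.Helper37.AlgSpPoints.ofPt_surjective a has
  let Q : ↥U.left → Set (Points X.obj) → Prop := fun u W =>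
    IsOpen W ∧ Points.ofPt a u ∈ W ∧ (openSub X.obj W).obj.IsRepresentable
  let ι : Type u := {u : ↥U.left // ∃ W, Q u W}
  let Wi : ι → Set (Points X.obj) := fun i => i.2.choose
  have hWi : ∀ i : ι, Q i.1 (Wi i) := fun i => i.2.choose_spec
  let W : Set (Points X.obj) := ⋃ i, Wi i
  have hW : IsOpen W := isOpen_iUnion fun i => (hWi i).1
  have hιW : RepWith @IsOpenImmersion (openSubι X.obj W) :=
    repWith_isOpenImmersion_openSubι X.obj W hW
  have hX' : IsAlgSpace (openSub X.obj W) := isAlgSpace_openSub X.obj X.property W hW
  refine ⟨⟨openSub X.obj W, hX'⟩, ObjectProperty.homMk (openSubι X.obj W), hιW, ?_, ?_⟩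
  · -- representability
    show (openSub X.obj W).obj.IsRepresentable
    refine Groth.Agent.Lib.Helper23.SLQGlue.isRepresentable_of_local
      (fun i : ι => Points.map (openSubι X.obj W) ⁻¹' (Wi i))
      (fun i => (hWi i).1.preimage (Points.continuous_map _)) ?_ ?_
    · intro i
      have h1 : RepWith @IsOpenImmersion
          (openSubι (openSub X.obj W) (Points.map (openSubι X.obj W) ⁻¹' (Wi i)) ≫
            openSubι X.obj W) :=
        (RepWith @IsOpenImmersion).comp_mem _ _
          (repWith_isOpenImmersion_openSubι _ _
            ((hWi i).1.preimage (Points.continuous_map _))) hιW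
      have h2 := repWith_isOpenImmersion_openSubι X.obj (Wi i) (hWi i).1
      have hr : Set.range (Points.map
          (openSubι (openSub X.obj W) (Points.map (openSubι X.obj W) ⁻¹' (Wi i)) ≫
            openSubι X.obj W)) = Set.range (Points.map (openSubι X.obj (Wi i))) := by
        rw [range_map_openSubι]
        ext x
        constructor
        · rintro ⟨z, rfl⟩
          rw [Points.map_comp]
          have hz : Points.map (openSubι (openSub X.obj W)
              (Points.map (openSubι X.obj W) ⁻¹' (Wi i))) z ∈
              Set.range (Points.map (openSubι (openSub X.obj W)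
                (Points.map (openSubι X.obj W) ⁻¹' (Wi i)))) := ⟨z, rfl⟩
          rw [range_map_openSubι] at hz
          exact hz
        · intro hx
          have hxW : x ∈ W := Set.mem_iUnion.2 ⟨i, hx⟩
          rw [← range_map_openSubι X.obj W] at hxW
          obtain ⟨y, rfl⟩ := hxW
          have hy : y ∈ Points.map (openSubι X.obj W) ⁻¹' (Wi i) := hx
          rw [← range_map_openSubι (openSub X.obj W)
            (Points.map (openSubι X.obj W) ⁻¹' (Wi i))] at hy
          obtain ⟨z, rfl⟩ := hy
          exact ⟨z, by rw [Points.map_comp]⟩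
      obtain ⟨e, -⟩ := exists_iso_of_range_eq _ _ h1 h2 hr
      exact Groth.Agent.Lib.Helper23.SLQ.isRepresentable_of_iso' e.symm (hWi i).2.2
    · intro x
      have hx : Points.map (openSubι X.obj W) x ∈ Set.range (Points.map (openSubι X.obj W)) :=
        ⟨x, rfl⟩
      rw [range_map_openSubι] at hx
      obtain ⟨i, hi⟩ := Set.mem_iUnion.1 hx
      exact ⟨i, hi⟩
  · -- maximality
    intro X'' j'' hj'' hrep
    have hopen : IsOpen (Set.range (Points.map j''.hom)) :=
      (Groth.Agent.Lib.Helper23.AlgSpMor.isOpenMap_points_of_repWith_etale j''.hom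
        (Groth.Agent.Lib.Helper23.SLQ.repWith_etale_of_isOpenImmersion hj'')).isOpen_range
    obtain ⟨e, -⟩ := exists_iso_openSub j''.hom hj''
    have hrep' : (openSub X.obj (Set.range (Points.map j''.hom))).obj.IsRepresentable :=
      Groth.Agent.Lib.Helper23.SLQ.isRepresentable_of_iso' e hrep
    have hsub : Set.range (Points.map j''.hom) ⊆ Set.range (Points.map (openSubι X.obj W)) := by
      rw [range_map_openSubι]
      intro x hx
      obtain ⟨u, rfl⟩ := hsurj x
      exact Set.mem_iUnion.2 ⟨⟨u, _, hopen, hx, hrep'⟩, (hWi ⟨u, _, hopen, hx, hrep'⟩).2.1⟩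
    obtain ⟨k, hk⟩ := exists_lift_of_openImm (openSubι X.obj W) hιW j''.hom hsub
    exact ⟨ObjectProperty.homMk k, by ext1; exact hk⟩

end Groth.Agent.S10197
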