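import Groth.Statements.S10198
import Groth.Agent.Lib.Helper37.ZarQcCharts
import Groth.Agent.Lib.Helper23.DiagKernelPair
import Groth.Agent.S0079
import Groth.Agent.Lib.Helper5.FppfLocal
import Groth.Agent.Lib.Helper23.AlgSpMor2

set_option autoImplicit false
universe u
open CategoryTheory CategoryTheory.Limits AlgebraicGeometry Topology TopologicalSpace
open AlgSp

namespace Groth.Agent.S10198

open Groth.Agent.Lib.Helper36.AlgSpCharts Groth.Agent.Lib.Helper36.OpenSubspace
open Groth.Agent.Lib.Helper37.AlgSpPoints Groth.Agent.Lib.Helper37.ClosedPoint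
open Groth.Agent.Lib.Helper23.AlgSpMor Groth.Agent.Lib.Helper23.DiagKernelPair
open Groth.Agent.Lib.Helper5 Groth.Agent.Lib.Helper5.AtlasDiag

lemma isAffine_prod_left {S : Scheme.{u}} (V : Over S) [IsAffine V.left] (S₀ : S.Opens)
    (hS₀ : IsAffineOpen S₀) (h : ∀ x, V.hom x ∈ S₀) : IsAffine (V ⨯ V).left := by
  haveI : IsAffine ↑S₀ := hS₀
  let g : V.left ⟶ ↑S₀ := IsOpenImmersion.lift S₀.ι V.hom (by
    rintro _ ⟨x, rfl⟩
    rw [Scheme.Opens.range_ι]
    exact h x)
  have hg : g ≫ S₀.ι = V.hom := IsOpenImmersion.lift_fac _ _ _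
  have sq : IsPullback (pullback.fst g g) (pullback.snd g g) V.hom V.hom := by
    have := isPullback_comp_mono S₀.ι (IsPullback.of_hasPullback g g)
    rwa [hg] at this
  let e : (V ⨯ V).left ≅ pullback g g := Over.prodLeftIsoPullback V V ≪≫ sq.isoPullback.symm
  exact IsAffine.of_isIso e.hom

/-- (1) if and only if (3): for an algebraic space X over a scheme S, X is Zariski locally
quasi-separated over S (it has a Zariski covering by open subspaces whose diagonals over S are
quasi-compact) if and only if X has a Zariski covering by open subspaces each of which admits a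
quasi-compact, etale, surjective map from an affine scheme. Since the second condition does not
mention S, being Zariski locally quasi-separated does not depend on the base. -/
theorem result {S : Scheme.{u}} (X : AlgSp.Space S) :
    (∃ (ι : Type u) (Xi : ι → AlgSp.Space S) (j : ∀ i, Xi i ⟶ X),
        AlgSp.IsZarCover (fun i => (Xi i).obj) (fun i => (j i).hom) ∧ ∀ i, AlgSp.IsQuasiSeparatedSp (Xi i).obj) ↔
      (∃ (ι : Type u) (Xi : ι → AlgSp.Space S) (j : ∀ i, Xi i ⟶ X),
        AlgSp.IsZarCover (fun i => (Xi i).obj) (fun i => (j i).hom) ∧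
          ∀ i, ∃ (U : Over S) (p : (AlgSp.yon S).obj U ⟶ (Xi i).obj), IsAffine U.left ∧
            AlgSp.RepWith @QuasiCompact p ∧ AlgSp.RepWith @Etale p ∧ AlgSp.RepWith @Surjective p) := by
  constructor
  · rintro ⟨ι, Xi, j, ⟨hjo', hjs'⟩, hqs⟩
    have hjo : ∀ i, RepWith @IsOpenImmersion (j i).hom := hjo'
    have hjs : ∀ x : Points X.obj, ∃ i, x ∈ Set.range (Points.map (j i).hom) := hjs'
    have hjm : ∀ i, Mono (j i).hom := fun i =>
      Groth.Agent.Lib.Helper62.mono_of_repWith @IsOpenImmersion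
        (fun f hf => by have := hf; infer_instance) _ (hjo i)
    have hat : ∀ i, ∃ (U : Over S) (a : (yon S).obj U ⟶ (Xi i).obj),
        RepWith @Etale a ∧ RepWith @Surjective a := fun i => (Xi i).property.atlas
    choose U a hae has using hat
    let κ := Σ i : ι, {W : (U i).left.Opens // IsAffineOpen W ∧
      ∃ S₀ : S.Opens, IsAffineOpen S₀ ∧ W ≤ (U i).hom ⁻¹ᵁ S₀}
    let Wk : κ → Over S := fun k => overOpens (U k.1) k.2.1
    let b : ∀ k : κ, (yon S).obj (Wk k) ⟶ (Xi k.1).obj := fun k =>
      (yon S).map (overOpensι (U k.1) k.2.1) ≫ a k.1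
    let φ : ∀ k : κ, (yon S).obj (Wk k) ⟶ X.obj := fun k => b k ≫ (j k.1).hom
    have hbe : ∀ k, RepWith @Etale (b k) := fun k =>
      (RepWith @Etale).comp_mem _ _ (repWith_etale_overOpensι _ _) (hae k.1)
    have hφ : ∀ k, RepWith @Etale (φ k) := fun k =>
      (RepWith @Etale).comp_mem _ _ (hbe k) (MorphismProperty.relative_monotone (fun _ _ g hg => by
        have : IsOpenImmersion g.left := hg
        exact (inferInstance : Etale g.left)) _ (hjo k.1))
    have hsurj : ∀ x : Points X.obj, ∃ (k : κ) (v : ↥(Wk k).left), Points.ofPt (φ k) v = x := by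
      intro x
      obtain ⟨i, xi, rfl⟩ := hjs x
      obtain ⟨u, rfl⟩ := ofPt_surjective (a i) (has i) xi
      obtain ⟨S₀, hS₀, hs⟩ : ∃ S₀ : S.Opens, IsAffineOpen S₀ ∧ (U i).hom u ∈ S₀ := by
        obtain ⟨_, ⟨S₀, hS₀, rfl⟩, hs, -⟩ := S.isBasis_affineOpens.exists_subset_of_mem_open
          (Set.mem_univ ((U i).hom u)) isOpen_univ
        exact ⟨S₀, hS₀, hs⟩
      obtain ⟨W, hW, hu, hle⟩ : ∃ W : (U i).left.Opens, IsAffineOpen W ∧ u ∈ W ∧
          W ≤ (U i).hom ⁻¹ᵁ S₀ := by
        obtain ⟨_, ⟨W, hW, rfl⟩, hu, hle⟩ :=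
          (U i).left.isBasis_affineOpens.exists_subset_of_mem_open
            (show u ∈ (((U i).hom ⁻¹ᵁ S₀ : (U i).left.Opens) : Set _) from hs)
            ((U i).hom ⁻¹ᵁ S₀).isOpen
        exact ⟨W, hW, hu, hle⟩
      refine ⟨⟨i, W, hW, S₀, hS₀, hle⟩, ⟨u, hu⟩, ?_⟩
      show Points.ofPt (((yon S).map (overOpensι (U i) W) ≫ a i) ≫ (j i).hom) _ = _
      rw [← Points.map_ofPt, ofPt_overOpensι_comp]
      rfl
    have hqc : ∀ (k : κ) (R : Over S) (s t : R ⟶ Wk k),
        IsPullback ((yon S).map t) ((yon S).map s) (φ k) (φ k) → QuasiCompact s.left := by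
      intro k R s t sq
      haveI := hjm k.1
      have sq' : IsPullback ((yon S).map t) ((yon S).map s) (b k) (b k) :=
        Groth.Agent.Lib.Helper23.AlgSpMor.isPullback_of_comp_mono (j k.1).hom sq
      haveI hjj : QuasiCompact (jj s t).left :=
        prop_jj_of_repWith_diag (b k) s t sq' @QuasiCompact (hqs k.1)
      haveI : IsAffine (Wk k).left := k.2.2.1
      obtain ⟨S₀, hS₀, hle⟩ := k.2.2.2
      haveI : IsAffine (Wk k ⨯ Wk k).left :=
        isAffine_prod_left (Wk k) S₀ hS₀ fun x => hle x.2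
      haveI : CompactSpace R.left := QuasiCompact.compactSpace_of_compactSpace (jj s t).left
      infer_instance
    have hWo : ∀ k, IsOpen (Set.range (Points.ofPt (φ k))) := fun k => by
      rw [← Set.image_univ]
      exact isOpenMap_ofPt (φ k) (hφ k) _ isOpen_univ
    have hlift : ∀ k, ∃ g' : (yon S).obj (Wk k) ⟶ openSub X.obj (Set.range (Points.ofPt (φ k))),
        g' ≫ openSubι X.obj (Set.range (Points.ofPt (φ k))) = φ k := fun k =>
      exists_lift_openSub X.obj _ (φ k) fun t => ⟨t, rfl⟩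
    choose a' ha' using hlift
    have hae' : ∀ k, RepWith @Etale (a' k) := fun k =>
      Groth.Agent.Lib.Helper23.AlgSpMor.repWith_of_comp_mono @Etale (a' k)
        (openSubι X.obj (Set.range (Points.ofPt (φ k)))) (by rw [ha' k]; exact hφ k)
    have hinj : ∀ k, Function.Injective
        (Points.map (openSubι X.obj (Set.range (Points.ofPt (φ k))))) := fun k =>
      Groth.Agent.Lib.Helper23.AlgSpMor.injective_points_of_kInj _
        (fun K _ str a b h => (cancel_mono _).1 h)
    have has' : ∀ k, RepWith @Surjective (a' k) := fun k => by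
      refine repWith_surjective_of_ofPt_surjective (a' k) (hae' k).rep fun y => ?_
      have hy : Points.map (openSubι X.obj (Set.range (Points.ofPt (φ k)))) y ∈
          Set.range (Points.ofPt (φ k)) :=
        (range_map_openSubι X.obj (Set.range (Points.ofPt (φ k)))).subset ⟨y, rfl⟩
      obtain ⟨v, hv⟩ := hy
      refine ⟨v, hinj k ?_⟩
      rw [Points.map_ofPt, ha' k, hv]
    refine ⟨κ, fun k => ⟨openSub X.obj (Set.range (Points.ofPt (φ k))),
        isAlgSpace_openSub X.obj X.property _ (hWo k)⟩,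
      fun k => ObjectProperty.homMk (openSubι X.obj (Set.range (Points.ofPt (φ k)))),
      ⟨fun k => repWith_isOpenImmersion_openSubι X.obj _ (hWo k), fun x => ?_⟩,
      fun k => ⟨Wk k, a' k, k.2.2.1, ?_, hae' k, has' k⟩⟩
    · obtain ⟨k, v, rfl⟩ := hsurj x
      refine ⟨k, ?_⟩
      exact (range_map_openSubι X.obj (Set.range (Points.ofPt (φ k)))).superset ⟨v, rfl⟩
    · refine repWith_of_atlas (P := @QuasiCompact) (a' k) (hae' k).rep (a' k) (hae' k) (has' k) ?_
      have sq := (hae' k).rep.isPullback' (a' k)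
      have sq' := Groth.Agent.Lib.Helper23.AlgSpMor.isPullback_comp_mono
        (openSubι X.obj (Set.range (Points.ofPt (φ k)))) sq
      rw [ha' k] at sq'
      exact hqc k _ _ _ sq'
  · rintro ⟨ι, Xi, j, hcov, h⟩
    refine ⟨ι, Xi, j, hcov, fun i => ?_⟩
    obtain ⟨U, p, hU, hqc, het, hsu⟩ := h i
    haveI := hU
    haveI : Epi p := Groth.Agent.Lib.Helper30.AlgSpAtlas.epi_of_atlas p het hsu
    obtain ⟨R, s, t, hk, -, -⟩ := Groth.Agent.Lib.Helper30.AlgSpAtlas.exists_kernelPair p het
    haveI := Groth.Agent.S0079.result.{u}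
    haveI : MorphismProperty.IsLocalAtTarget (@QuasiCompact : MorphismProperty Scheme.{u})
        Scheme.fppfPrecoverage.{u} := isLocalAtTarget_fppf _
    refine repWith_diag_of_kernelPair p s t hk.flip (Xi i).property.diag @QuasiCompact ?_
    haveI : QuasiCompact t.left := hqc.property p _ t hk
    haveI : QuasiSeparated (prod.fst : U ⨯ U ⟶ U).left := by
      rw [← Over.prodLeftIsoPullback_hom_fst]
      infer_instance
    haveI : QuasiCompact ((jj s t).left ≫ (prod.fst : U ⨯ U ⟶ U).left) := by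
      rw [← Over.comp_left, prod.lift_fst]; infer_instance
    exact QuasiCompact.of_comp _ (prod.fst : U ⨯ U ⟶ U).left

end Groth.Agent.S10198
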