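import Groth.Statements.S10200
import Groth.Agent.Lib.Helper30.Codim0b
import Groth.Agent.Lib.Helper37.QsCodim
import Groth.Agent.Lib.Helper37.ZarQsSober

set_option autoImplicit false
universe u
open CategoryTheory CategoryTheory.Limits AlgebraicGeometry Topology TopologicalSpace
open AlgSp

namespace Groth.Agent.S10200

open Groth.Agent.Lib.Helper30.DecentOpenScheme Groth.Agent.Lib.Helper36.OpenSubspace
  Groth.Agent.Lib.Helper30.SchemLoc2 Groth.Agent.Lib.Helper37.AlgSpPoints
  Groth.Agent.Lib.Helper37.AlgSpFibres Groth.Agent.Lib.Helper30.Codim0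
  Groth.Agent.Lib.Helper37.QsSober Groth.Agent.Lib.Helper30.DecentSober
  Groth.Agent.Lib.Helper36.AlgSpCharts

set_option backward.isDefEq.respectTransparency.types false in
/-- Let X be an algebraic space over a scheme S that is Zariski locally quasi-separated over S (for
example quasi-separated over S). Then there is a dense open subspace of X which is a scheme; more
precisely there is an open subspace X' ⟶ X with representable underlying sheaf such that |X'| is
dense in |X| and contains every codimension 0 point of X (every point under which some etale chart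
has a zero-dimensional local ring). -/
theorem result {S : Scheme.{u}} (X : AlgSp.Space S)
    (hX : ∃ (ι : Type u) (Xi : ι → AlgSp.Space S) (j : ∀ i, Xi i ⟶ X),
        AlgSp.IsZarCover (fun i => (Xi i).obj) (fun i => (j i).hom) ∧ ∀ i, AlgSp.IsQuasiSeparatedSp (Xi i).obj) :
    ∃ (X' : AlgSp.Space S) (j : X' ⟶ X), AlgSp.RepWith @IsOpenImmersion j.hom ∧ X'.obj.obj.IsRepresentable ∧
      Dense (Set.range (AlgSp.Points.map j.hom)) ∧
      ∀ x : AlgSp.Points X.obj, AlgSp.HasAt (fun U u => ringKrullDim ↥(U.presheaf.stalk u) = 0) X.obj x →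
        x ∈ Set.range (AlgSp.Points.map j.hom) := by
  obtain ⟨ι, Xi, j, ⟨hjo', hjs'⟩, hqs⟩ := hX
  have hjo : ∀ i, RepWith @IsOpenImmersion (j i).hom := hjo'
  have hjs : ∀ x : Points X.obj, ∃ i, x ∈ Set.range (Points.map (j i).hom) := hjs'
  have hjm : ∀ i, Mono (j i).hom := fun i =>
    Groth.Agent.Lib.Helper62.mono_of_repWith @IsOpenImmersion
      (fun f hf => by have := hf; infer_instance) _ (hjo i)
  have hje : ∀ i, RepWith @Etale (j i).hom := fun i =>
    MorphismProperty.relative_monotone (fun _ _ g hg => by
      have : IsOpenImmersion g.left := hg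
      exact (inferInstance : Etale g.left)) _ (hjo i)
  -- key: charts with quasi-compact kernel pair
  have key : ∀ x : Points X.obj, ∃ (V : Over S) (a : (yon S).obj V ⟶ X.obj) (v : ↥V.left),
      IsAffine V.left ∧ RepWith @Etale a ∧ Points.ofPt a v = x ∧
      ∀ (R : Over S) (s t : R ⟶ V), IsPullback ((yon S).map s) ((yon S).map t) a a →
        CompactSpace ↥R.left := by
    intro x
    obtain ⟨i, xi, rfl⟩ := hjs x
    obtain ⟨U, p, hpe, hps⟩ := (Xi i).property.atlas
    obtain ⟨u, rfl⟩ := ofPt_surjective p hps xi
    obtain ⟨V, S₀, hV, hS₀, huV, hrange⟩ := exists_affineOpen_over_affineOpen U u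
    have hb : RepWith @Etale ((yon S).map (openι U V) ≫ p) := repWith_etale_restrict p hpe V
    have ha : RepWith @Etale (((yon S).map (openι U V) ≫ p) ≫ (j i).hom) :=
      (RepWith @Etale).comp_mem _ _ hb (hje i)
    refine ⟨openOver U V, _, ⟨u, huV⟩, hV, ha, ?_, ?_⟩
    · change Points.map (j i).hom (Points.ofPt ((yon S).map (openι U V) ≫ p) ⟨u, huV⟩) = _
      rw [ofPt_restrict]
    · intro R s t hR
      have := hjm i
      have sq' := Groth.Agent.Lib.Helper23.AlgSpMor.isPullback_of_comp_mono (j i).hom hR
      have : CompactSpace ↥(openOver U V).left := isCompact_iff_compactSpace.1 hV.isCompact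
      have : CompactSpace ↥(pullback (openOver U V).hom (openOver U V).hom) :=
        compactSpace_pullback_of_factor _ _ S₀ hS₀ hrange hrange
      exact compactSpace_pullback_of_isQuasiSeparatedSp' (hqs i) _ _ _ _ sq'
  have hW := isOpen_schematicLocus X.obj
  refine ⟨⟨openSub X.obj (schematicLocus X.obj),
    isAlgSpace_openSub X.obj X.property _ hW⟩,
    ObjectProperty.homMk (openSubι X.obj (schematicLocus X.obj)),
    repWith_isOpenImmersion_openSubι X.obj _ hW, isRepresentable_schematicLocus X, ?_, ?_⟩
  · change Dense (Set.range (Points.map (openSubι X.obj (schematicLocus X.obj))))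
    rw [range_map_openSubι]
    apply dense_schematicLocus_of_charts
    intro x
    obtain ⟨V, a, v, hV, ha, hx, hc⟩ := key x
    refine ⟨V, a, v, hV, ha, hx, ?_⟩
    intro R s t hR y
    have := hc R s t hR
    have hs : Etale s.left := prop_fst_of_isPullback hR ha
    obtain ⟨N, hN⟩ := exists_bound_Vd_of_mono (s := s) s.left (𝟙 _) (Category.id_comp _)
    exact ⟨N, fun d hd => hN y d hd⟩
  · intro x hx
    change x ∈ Set.range (Points.map (openSubι X.obj (schematicLocus X.obj)))
    rw [range_map_openSubι]
    obtain ⟨U', a', u', ha', rfl, hdim⟩ := hx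
    rw [ringKrullDim_stalk_eq_zero_iff] at hdim
    obtain ⟨V, a, v, hV, ha, hx, hc⟩ := key (Points.ofPt a' u')
    have hmin := minimal_of_chart a a' ha ha' v u' hx hdim
    have hR := ha.rep.isPullback' a
    have := hc _ _ _ hR
    rw [← hx]
    exact mem_schematicLocus_of_minimal X ha hR v hmin

end Groth.Agent.S10200
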