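import Groth.Statements.S10203
import Groth.Agent.S10202
import Groth.Agent.Lib.Helper37.AlgSpPoints
import Mathlib

set_option autoImplicit false
universe u
open CategoryTheory CategoryTheory.Limits AlgebraicGeometry Topology TopologicalSpace
open AlgSp

namespace Groth.Agent.S10203

open Groth.Agent.Lib.Helper37.AlgSpPoints

/-- If X is a quasi-compact, locally Noetherian algebraic space over a scheme S, then |X| is a
Noetherian topological space. -/
theorem result {S : Scheme.{u}} (X : AlgSp.Space S)
    (hqc : AlgSp.IsQuasiCompactSp X.obj) (hX : AlgSp.IsLocNoethSp X.obj) :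
    NoetherianSpace (AlgSp.Points X.obj) := by
  obtain ⟨U, p, hp, hps, hU⟩ := hqc
  have hcomp : CompactSpace (Points X.obj) := by
    constructor
    have : (Set.univ : Set (Points X.obj)) = Points.ofPt p '' Set.univ := by
      rw [Set.image_univ, Set.range_eq_univ.mpr (ofPt_surjective p hps)]
    rw [this]
    exact isCompact_univ.image (Points.continuous_ofPt p)
  choose W hWo hxW hWN using Groth.Agent.S10202.result X hX
  obtain ⟨t, ht⟩ := isCompact_univ.elim_finite_subcover W hWo (fun x _ => Set.mem_iUnion.2 ⟨x, hxW x⟩)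
  rw [← noetherian_univ_iff]
  have h2 : (Set.univ : Set (Points X.obj)) = ⋃ i : t, W i.1 := by
    apply Set.Subset.antisymm
    · intro x hx
      obtain ⟨i, hi⟩ := Set.mem_iUnion.1 (ht hx)
      obtain ⟨hit, hxi⟩ := Set.mem_iUnion.1 hi
      exact Set.mem_iUnion.2 ⟨⟨i, hit⟩, hxi⟩
    · exact Set.subset_univ _
  rw [h2]
  exact NoetherianSpace.iUnion _

end Groth.Agent.S10203
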