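import Groth.Statements.S10204
import Groth.Agent.Lib.Helper30.Codim0b
import Groth.Agent.Lib.Helper37.QsCodim

set_option autoImplicit false
universe u
open CategoryTheory CategoryTheory.Limits AlgebraicGeometry Topology TopologicalSpace
open AlgSp

namespace Groth.Agent.S10204

open Groth.Agent.Lib.Helper30.DecentOpenScheme Groth.Agent.Lib.Helper36.OpenSubspace
  Groth.Agent.Lib.Helper30.SchemLoc2 Groth.Agent.Lib.Helper37.AlgSpPoints
  Groth.Agent.Lib.Helper37.AlgSpFibres Groth.Agent.Lib.Helper30.Codim0
  Groth.Agent.Lib.Helper37.QsSober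

/-- Let X be an algebraic space over a scheme S that admits a map h_U ⟶ X from a quasi-separated scheme
U which is representable finite, etale and surjective. Then X contains an open subspace X' ⟶ X that
is a scheme (its underlying sheaf is representable), whose points form a dense subset of |X| that
includes every codimension 0 point of X (every point x of |X| such that some etale chart h_V ⟶ X and
some point v of V over x have a zero-dimensional local ring O_{V,v}). -/
theorem result {S : Scheme.{u}} (X : AlgSp.Space S) {U : Over S}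
    (a : (AlgSp.yon S).obj U ⟶ X.obj) (hf : AlgSp.RepWith @IsFinite a) (he : AlgSp.RepWith @Etale a)
    (hs : AlgSp.RepWith @Surjective a) [QuasiSeparatedSpace ↥U.left] :
    ∃ (X' : AlgSp.Space S) (j : X' ⟶ X), AlgSp.RepWith @IsOpenImmersion j.hom ∧ X'.obj.obj.IsRepresentable ∧
      Dense (Set.range (AlgSp.Points.map j.hom)) ∧
      ∀ x : AlgSp.Points X.obj, AlgSp.HasAt (fun U u => ringKrullDim ↥(U.presheaf.stalk u) = 0) X.obj x →
        x ∈ Set.range (AlgSp.Points.map j.hom) := by
  have hW := isOpen_schematicLocus X.obj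
  refine ⟨⟨openSub X.obj (schematicLocus X.obj),
    isAlgSpace_openSub X.obj X.property _ hW⟩,
    ObjectProperty.homMk (openSubι X.obj (schematicLocus X.obj)),
    repWith_isOpenImmersion_openSubι X.obj _ hW, isRepresentable_schematicLocus X, ?_, ?_⟩
  · change Dense (Set.range (Points.map (openSubι X.obj (schematicLocus X.obj))))
    rw [range_map_openSubι]
    apply dense_schematicLocus_of_charts
    intro x
    obtain ⟨u, rfl⟩ := ofPt_surjective a hs x
    obtain ⟨_, ⟨V₀, hV₀, rfl⟩, huV₀, -⟩ :=
      U.left.isBasis_affineOpens.exists_subset_of_mem_open (Set.mem_univ u) isOpen_univ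
    refine ⟨openOver U V₀, (yon S).map (openι U V₀) ≫ a, ⟨u, huV₀⟩, hV₀,
      repWith_etale_restrict a he V₀, ofPt_restrict a V₀ ⟨u, huV₀⟩, ?_⟩
    intro R s t hR y
    obtain ⟨N, hN⟩ := exists_bound_of_finite_atlas a hf he V₀ hV₀ s t hR
    exact ⟨N, fun d hd => hN y d hd⟩
  · intro x hx
    change x ∈ Set.range (Points.map (openSubι X.obj (schematicLocus X.obj)))
    rw [range_map_openSubι]
    obtain ⟨U', a', u', ha', rfl, hdim⟩ := hx
    rw [ringKrullDim_stalk_eq_zero_iff] at hdim
    obtain ⟨u, hu⟩ := ofPt_surjective a hs (Points.ofPt a' u')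
    have hmin := minimal_of_chart a a' he ha' u u' hu hdim
    obtain ⟨_, ⟨V₀, hV₀, rfl⟩, huV₀, -⟩ :=
      U.left.isBasis_affineOpens.exists_subset_of_mem_open (Set.mem_univ u) isOpen_univ
    have hVaff : IsAffine (openOver U V₀).left := hV₀
    have heV := repWith_etale_restrict a he V₀
    have hR := heV.rep.isPullback' ((yon S).map (openι U V₀) ≫ a)
    have hcpt := compactSpace_of_finite_atlas a hf V₀ hV₀ _ _ hR
    have hminV : ∀ v' : ↥(openOver U V₀).left, v' ⤳ (⟨u, huV₀⟩ : ↥(openOver U V₀).left) →
        v' = ⟨u, huV₀⟩ := by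
      intro v' hv'
      have h1 : (Scheme.Opens.ι V₀) v' ⤳ (Scheme.Opens.ι V₀) (⟨u, huV₀⟩ : ↥(Scheme.Opens.toScheme V₀)) :=
        hv'.map (Scheme.Opens.ι V₀).continuous
      exact (Scheme.Opens.ι V₀).injective (hmin _ h1)
    have := mem_schematicLocus_of_minimal X heV hR (⟨u, huV₀⟩ : ↥(openOver U V₀).left) hminV
    rw [ofPt_restrict a V₀ ⟨u, huV₀⟩, hu] at this
    exact this

end Groth.Agent.S10204
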