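import Groth.Statements.S10212
import Groth.Agent.Lib.Helper30.EtaleSourceLFP
import Groth.Agent.Lib.Helper36.AlgSpCharts

set_option autoImplicit false
universe u
open CategoryTheory CategoryTheory.Limits AlgebraicGeometry Topology TopologicalSpace
open AlgSp

namespace Groth.Agent.S10212

/-- Let X be an algebraic space over a scheme S, χ : U ⟶ U' a surjective etale morphism of schemes over
S and φ' : h_{U'} ⟶ X a map such that the composite h_χ ≫ φ' : h_U ⟶ X is (representable and) etale.
Then φ' is etale. -/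
theorem result {S : Scheme.{u}} (X : AlgSp.Space S) {U U' : Over S}
    (χ : U ⟶ U') [Etale χ.left] [Surjective χ.left] (φ' : (AlgSp.yon S).obj U' ⟶ X.obj)
    (h : AlgSp.RepWith @Etale ((AlgSp.yon S).map χ ≫ φ')) :
    AlgSp.RepWith @Etale φ' := by
  have hrep : AlgSp.Representable φ' := X.property.representable_from_yon φ'
  refine ⟨hrep, ?_⟩
  intro T V g fst snd sq
  obtain ⟨v, rfl⟩ := (AlgSp.yon S).map_surjective fst
  obtain ⟨W, p1, p2, sqW⟩ := Groth.Agent.Lib.Helper36.AlgSpCharts.exists_isPullback_yon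
    ((AlgSp.yon S).map χ) ((AlgSp.yon S).map v) (AlgSp.representable_yon_map v)
  have hp2e : Etale p2.left := Groth.Agent.Lib.Helper36.AlgSpCharts.prop_snd_of_isPullback sqW
    ((AlgSp.repWith_yon_map_iff _ _).2 ‹Etale χ.left›)
  have hp2s : Surjective p2.left := Groth.Agent.Lib.Helper36.AlgSpCharts.prop_snd_of_isPullback sqW
    ((AlgSp.repWith_yon_map_iff _ _).2 ‹Surjective χ.left›)
  have big : IsPullback ((AlgSp.yon S).map p1) ((AlgSp.yon S).map (p2 ≫ snd))
      ((AlgSp.yon S).map χ ≫ φ') g := by
    rw [Functor.map_comp]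
    exact sqW.paste_vert sq
  have hcomp : Etale (p2 ≫ snd).left := h.property g ((AlgSp.yon S).map p1) (p2 ≫ snd) big
  rw [Over.comp_left] at hcomp
  exact Groth.Agent.Lib.Helper30.EtaleSource.etale_of_etale_surjective_comp p2.left snd.left

end Groth.Agent.S10212
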