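import Groth.Statements.S10208
import Groth.Agent.S10212

set_option autoImplicit false
universe u
open CategoryTheory CategoryTheory.Limits AlgebraicGeometry Topology TopologicalSpace
open AlgSp

namespace Groth.Agent.S10208

/-- Let f : X ⟶ Y be a morphism of algebraic spaces over a scheme S. Suppose there is a commutative
square with a : h_U ⟶ X representable etale and surjective, b : h_V ⟶ Y representable etale, and an
etale morphism of schemes h : U ⟶ V over S with a ≫ f = h_h ≫ b. Then f is etale. -/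
theorem result {S : Scheme.{u}} {X Y : AlgSp.Space S} (f : X ⟶ Y) {U V : Over S}
    (a : (AlgSp.yon S).obj U ⟶ X.obj) (ha : AlgSp.RepWith @Etale a) (has : AlgSp.RepWith @Surjective a)
    (b : (AlgSp.yon S).obj V ⟶ Y.obj) (hb : AlgSp.RepWith @Etale b) (h : U ⟶ V) [Etale h.left]
    (w : a ≫ f.hom = (AlgSp.yon S).map h ≫ b) :
    AlgSp.IsEtaleMor f.hom := by
  intro W φ hφ
  obtain ⟨W', p1, p2, sq⟩ :=
    Groth.Agent.Lib.Helper36.AlgSpCharts.exists_isPullback_yon φ a ha.rep
  have hp1e : Etale p1.left := Groth.Agent.Lib.Helper36.AlgSpCharts.prop_fst_of_isPullback sq ha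
  have hp1s : Surjective p1.left :=
    Groth.Agent.Lib.Helper36.AlgSpCharts.prop_fst_of_isPullback sq has
  have hp2e : Etale p2.left := Groth.Agent.Lib.Helper36.AlgSpCharts.prop_snd_of_isPullback sq hφ
  refine Groth.Agent.S10212.result Y p1 (φ ≫ f.hom) ?_
  have e1 : (AlgSp.yon S).map p1 ≫ φ ≫ f.hom = (AlgSp.yon S).map (p2 ≫ h) ≫ b := by
    rw [← Category.assoc, sq.w, Category.assoc, w, Functor.map_comp, Category.assoc]
  rw [e1]
  refine (AlgSp.RepWith @Etale).comp_mem _ _ ((AlgSp.repWith_yon_map_iff _ _).2 ?_) hb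
  rw [Over.comp_left]
  infer_instance

end Groth.Agent.S10208
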