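import Groth.Statements.S10209
import Groth.Agent.Lib.Helper30.AlgSpEtaleMor

set_option autoImplicit false
universe u
open CategoryTheory CategoryTheory.Limits AlgebraicGeometry Topology TopologicalSpace
open AlgSp

namespace Groth.Agent.S10209

/-- Etaleness of morphisms of algebraic spaces is preserved by every base change: let f : X ⟶ Y and g :
Z ⟶ Y be morphisms of algebraic spaces over a scheme S and P an algebraic space with morphisms P ⟶ Z
and P ⟶ X making the square of underlying sheaves cartesian (P = Z ×_Y X). If f is etale (every
composite of f with a representable etale map h_U ⟶ X from a scheme U is representable etale), then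
the projection P ⟶ Z is etale. -/
theorem result {S : Scheme.{u}} {X Y Z P : AlgSp.Space S} (f : X ⟶ Y) (g : Z ⟶ Y)
    (fst : P ⟶ Z) (snd : P ⟶ X) (h : IsPullback fst.hom snd.hom g.hom f.hom) (hf : AlgSp.IsEtaleMor f.hom) :
    AlgSp.IsEtaleMor fst.hom := by
  refine Groth.Agent.Lib.Helper30.AlgSpEtaleMor.isEtaleMor_of_locP_etale Z.property _ ?_
  exact Groth.Agent.Lib.Helper46.LocPChart.locP_of_isPullback
    Groth.Agent.Lib.Helper30.EtLocalInst.etLocal_etale X.property Y.property P.property Z.property
    h.flip (Groth.Agent.Lib.Helper30.AlgSpEtaleMor.locP_etale_of_isEtaleMor _ hf)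

end Groth.Agent.S10209
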