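import Groth.Statements.S10213
import Mathlib

set_option autoImplicit false
universe u
open CategoryTheory CategoryTheory.Limits AlgebraicGeometry Topology TopologicalSpace
open AlgSp

namespace Groth.Agent.S10213

/-- For an algebraic space X over a scheme S there is a surjective etale map h_U ⟶ X where U is a
disjoint union of affine schemes, each of which maps into an affine open of S. -/
theorem result {S : Scheme.{u}} (X : AlgSp.Space S) :
    ∃ (ι : Type u) (V : ι → Scheme.{u}) (_ : ∀ i, IsAffine (V i)) (q : (∐ V) ⟶ S)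
      (p : (AlgSp.yon S).obj (Over.mk q) ⟶ X.obj),
      AlgSp.RepWith @Etale p ∧ AlgSp.RepWith @Surjective p ∧
        ∀ i, ∃ W : S.Opens, IsAffineOpen W ∧ ∀ v : ↥(V i), (Sigma.ι V i ≫ q) v ∈ W := by
  obtain ⟨U, a, ha, has⟩ := X.property.atlas
  have h1 : ∀ x : U.left, ∃ W : S.Opens, IsAffineOpen W ∧ U.hom x ∈ W := by
    intro x
    obtain ⟨_, ⟨W, hW, rfl⟩, hxW, -⟩ := S.isBasis_affineOpens.exists_subset_of_mem_open
      (Set.mem_univ (U.hom x)) isOpen_univ
    exact ⟨W, hW, hxW⟩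
  choose W hW hxW using h1
  have h2 : ∀ x : U.left, ∃ Vo : U.left.Opens, IsAffineOpen Vo ∧ x ∈ Vo ∧ Vo ≤ U.hom ⁻¹ᵁ (W x) := by
    intro x
    obtain ⟨_, ⟨Vo, hVo, rfl⟩, hxV, hVW⟩ := U.left.isBasis_affineOpens.exists_subset_of_mem_open
      (show x ∈ ((U.hom ⁻¹ᵁ (W x) : U.left.Opens) : Set U.left) from hxW x) (U.hom ⁻¹ᵁ (W x)).2
    exact ⟨Vo, hVo, hxV, hVW⟩
  choose Vo hVo hxVo hVoW using h2
  let V : U.left → Scheme.{u} := fun x => (Vo x : Scheme.{u})
  have hVaff : ∀ x, IsAffine (V x) := fun x => hVo x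
  let d : (∐ V) ⟶ U.left := Sigma.desc (fun x => (Vo x).ι)
  let q : (∐ V) ⟶ S := d ≫ U.hom
  let χ : Over.mk q ⟶ U := Over.homMk d rfl
  have hdE : Etale d := IsZariskiLocalAtSource.sigmaDesc (fun x => inferInstance)
  have hdS : Surjective d := by
    constructor
    intro u
    let v : ↥(V u) := (⟨u, hxVo u⟩ : ↥(Vo u))
    refine ⟨Sigma.ι V u v, ?_⟩
    have h3 : (Sigma.ι V u ≫ d) v = u := by
      simp only [d]
      rw [Sigma.ι_desc]
      rfl
    rw [Scheme.Hom.comp_apply] at h3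
    exact h3
  refine ⟨U.left, V, hVaff, q, (AlgSp.yon S).map χ ≫ a, ?_, ?_, ?_⟩
  · exact (AlgSp.RepWith @Etale).comp_mem _ _ ((AlgSp.repWith_yon_map_iff _ χ).2 hdE) ha
  · exact (AlgSp.RepWith @Surjective).comp_mem _ _ ((AlgSp.repWith_yon_map_iff _ χ).2 hdS) has
  · intro i
    refine ⟨W i, hW i, fun v => ?_⟩
    have : Sigma.ι V i ≫ q = (Vo i).ι ≫ U.hom := by
      simp only [q, d]
      rw [← Category.assoc, Sigma.ι_desc]
    rw [this, Scheme.Hom.comp_apply]
    exact hVoW i (show (Vo i).ι v ∈ Vo i from v.2)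

end Groth.Agent.S10213
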