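import Groth.Statements.S10214
-- import your own Groth.Agent.* helpers here
import Groth.Agent.S10196
import Groth.Agent.Lib.Helper36.OpenSubspace

set_option autoImplicit false
universe u
open CategoryTheory CategoryTheory.Limits AlgebraicGeometry Topology TopologicalSpace
open AlgSp

namespace Groth.Agent.S10214

open Groth.Agent.Lib.Helper37.AlgSpPoints Groth.Agent.Lib.Helper23.AlgSpMor
  Groth.Agent.Lib.Helper36.OpenSubspace

/-- Every algebraic space X over a scheme S has a Zariski covering by open subspaces X_i such that each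
X_i has a surjective etale map from an affine scheme; moreover the affine schemes may be taken to
map into affine opens of S. -/
theorem result {S : Scheme.{u}} (X : AlgSp.Space S) :
    ∃ (ι : Type u) (Xi : ι → AlgSp.Space S) (j : ∀ i, Xi i ⟶ X),
      AlgSp.IsZarCover (fun i => (Xi i).obj) (fun i => (j i).hom) ∧
        ∀ i, ∃ (U : Over S) (p : (AlgSp.yon S).obj U ⟶ (Xi i).obj), IsAffine U.left ∧
          AlgSp.RepWith @Etale p ∧ AlgSp.RepWith @Surjective p ∧
          ∃ W : S.Opens, IsAffineOpen W ∧ ∀ v : ↥U.left, U.hom v ∈ W := by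
  obtain ⟨U, a, hae, has⟩ := X.property.atlas
  -- for each point of the atlas choose affine opens
  have hchoose : ∀ u : ↥U.left, ∃ (W : S.Opens) (V : U.left.Opens), IsAffineOpen W ∧ IsAffineOpen V ∧
      u ∈ V ∧ V ≤ U.hom ⁻¹ᵁ W := by
    intro u
    obtain ⟨W, hW, huW, -⟩ := exists_isAffineOpen_mem_and_subset (X := S) (x := U.hom u) (U := ⊤) trivial
    obtain ⟨V, hV, huV, hVW⟩ := exists_isAffineOpen_mem_and_subset (X := U.left) (x := u)
      (U := U.hom ⁻¹ᵁ W) huW
    exact ⟨W, V, hW, hV, huV, hVW⟩
  choose W V hW hV huV hVW using hchoose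
  let Wset : ↥U.left → Set (Points X.obj) := fun u => Points.ofPt a '' (V u : Set ↥U.left)
  have hWset : ∀ u, IsOpen (Wset u) := fun u => isOpenMap_ofPt a hae _ (V u).isOpen
  let Xi : ↥U.left → AlgSp.Space S := fun u =>
    ⟨openSub X.obj (Wset u), isAlgSpace_openSub X.obj X.property (Wset u) (hWset u)⟩
  let j : ∀ u, Xi u ⟶ X := fun u => ObjectProperty.homMk (openSubι X.obj (Wset u))
  refine ⟨↥U.left, Xi, j, ⟨fun u => repWith_isOpenImmersion_openSubι X.obj (Wset u) (hWset u),
    fun x => ?_⟩, fun u => ?_⟩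
  · obtain ⟨u, rfl⟩ := ofPt_surjective a has x
    refine ⟨u, ?_⟩
    show Points.ofPt a u ∈ Set.range (Points.map (openSubι X.obj (Wset u)))
    rw [range_map_openSubι]
    exact ⟨u, huV u, rfl⟩
  · have hae' : RepWith @Etale ((yon S).map (overOpensι U (V u)) ≫ a) :=
      (RepWith @Etale).comp_mem _ _ (repWith_etale_overOpensι U (V u)) hae
    have himage : Set.range (Points.map (j u).hom) =
        Set.range (Points.ofPt ((yon S).map (overOpensι U (V u)) ≫ a)) := by
      show Set.range (Points.map (openSubι X.obj (Wset u))) = _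
      rw [range_map_openSubι]
      ext x
      constructor
      · rintro ⟨v, hv, rfl⟩
        exact ⟨⟨v, hv⟩, ofPt_overOpensι_comp U (V u) a _⟩
      · rintro ⟨v, rfl⟩
        exact ⟨v.1, v.2, (ofPt_overOpensι_comp U (V u) a v).symm⟩
    obtain ⟨a', -, ha'e, ha's, -⟩ := Groth.Agent.S10196.result (X := X) (X' := Xi u)
      ((yon S).map (overOpensι U (V u)) ≫ a) hae' (j u)
      (repWith_isOpenImmersion_openSubι X.obj (Wset u) (hWset u)) himage
    refine ⟨overOpens U (V u), a', hV u, ha'e, ha's, W u, hW u, fun v => ?_⟩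
    exact hVW u v.2

end Groth.Agent.S10214
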