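import Groth.Statements.S10215
import Groth.Agent.Lib.Helper37.AlgSpDecent

set_option autoImplicit false
universe u
open CategoryTheory CategoryTheory.Limits AlgebraicGeometry Topology TopologicalSpace
open AlgSp

namespace Groth.Agent.S10215

/-- Let X be an algebraic space over a scheme S and p : Spec K ⟶ X, q : Spec L ⟶ X morphisms from
spectra of fields over S which determine the same point of |X|, with p a monomorphism. Then q
factors uniquely through p. -/
theorem result {S : Scheme.{u}} (X : AlgSp.Space S) (p q : AlgSp.FieldPt X.obj)
    (h : AlgSp.Points.mk p = AlgSp.Points.mk q) [Mono p.toHom] :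
    ∃! c : q.pt ⟶ p.pt, (AlgSp.yon S).map c ≫ p.toHom = q.toHom := by
  obtain ⟨c, hc⟩ := Groth.Agent.Lib.Helper37.AlgSpDecent.exists_factor_of_mono_fieldPt p q h
    inferInstance (X.property.representable_from_yon p.toHom)
  refine ⟨c, hc, fun c' hc' => ?_⟩
  apply (AlgSp.yon S).map_injective
  rw [← cancel_mono p.toHom, hc, hc']

end Groth.Agent.S10215
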