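import Groth.Statements.S10216
import Groth.Agent.Lib.Helper37.AlgSpPoints
import Groth.Agent.Lib.Helper4.EtPt

set_option autoImplicit false
universe u
open CategoryTheory CategoryTheory.Limits AlgebraicGeometry Topology TopologicalSpace
open AlgSp

namespace Groth.Agent.S10216

open Groth.Agent.Lib

set_option backward.isDefEq.respectTransparency false in
/-- Let φ : U ⟶ X be an etale morphism of algebraic spaces over a scheme S, take a geometric point x̄ :
Spec k ⟶ X of X whose image in |X| is x, and let u ∈ |U| with φ(u) = x. Then there is a geometric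
point ū : Spec k ⟶ U (with the same field k) lying over u and with φ ∘ ū = x̄. -/
theorem result {S : Scheme.{u}} {U X : AlgSp.Space S} (φ : U ⟶ X)
    (hφ : AlgSp.IsEtaleMor φ.hom) (xbar : AlgSp.FieldPt X.obj) (hx : xbar.IsGeometric)
    (u : AlgSp.Points U.obj) (hu : AlgSp.Points.map φ.hom u = AlgSp.Points.mk xbar) :
    ∃ ubar : (AlgSp.yon S).obj xbar.pt ⟶ U.obj,
      ubar ≫ φ.hom = xbar.toHom ∧ AlgSp.Points.ofPt ubar (IsLocalRing.closedPoint xbar.K) = u := by
  obtain ⟨V, b, hbE, hbS⟩ := U.property.atlas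
  obtain ⟨v, hv⟩ := Helper37.AlgSpPoints.ofPt_surjective b hbS u
  have hcomp : RepWith @Etale (b ≫ φ.hom) := hφ b hbE
  have sq := hcomp.1.isPullback' xbar.toHom
  have het : Etale (hcomp.1.snd xbar.toHom).left := hcomp.property_snd xbar.toHom
  have e : Points.ofPt (b ≫ φ.hom) v = Points.ofPt xbar.toHom (IsLocalRing.closedPoint xbar.K) := by
    rw [← Points.map_ofPt, hv, hu, Points.ofPt_toHom]
  obtain ⟨r, hr1, hr2⟩ := (Helper37.AlgSpPoints.ofPt_eq_ofPt_iff sq v (IsLocalRing.closedPoint xbar.K)).1 e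
  obtain ⟨l, hl, hlv⟩ := Helper4.EtPt.exists_section_of_etale_surjective xbar hx
    (hcomp.1.snd xbar.toHom) het r
  refine ⟨(yon S).map (l ≫ hcomp.1.fst' xbar.toHom) ≫ b, ?_, ?_⟩
  · rw [Category.assoc, Functor.map_comp, Category.assoc, sq.w, ← Category.assoc, ← Functor.map_comp,
      hl, CategoryTheory.Functor.map_id, Category.id_comp]
  · rw [Helper37.AlgSpPoints.ofPt_map_comp, Over.comp_left, Scheme.Hom.comp_apply]
    have h1 : l.left (IsLocalRing.closedPoint xbar.K) = r := by
      rw [← hlv]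
      congr 1
      exact Subsingleton.elim (α := ↥(Spec (CommRingCat.of xbar.K))) _ _
    rw [h1, hr1, hv]

end Groth.Agent.S10216
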