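import Groth.Statements.S10219
import Groth.Agent.Lib.Helper4.EtPt
import Mathlib.Algebra.Category.Grp.AB
import Mathlib.CategoryTheory.Abelian.GrothendieckAxioms.Types

set_option autoImplicit false
universe u
open CategoryTheory CategoryTheory.Limits AlgebraicGeometry Topology TopologicalSpace
open AlgSp

namespace Groth.Agent.S10219

/-- For an algebraic space X over a scheme S and a geometric point x̄ of X, the stalk functors F ↦ F_x̄
on sheaves of sets and on abelian sheaves on the small etale site of X are exact (they preserve
finite limits and finite colimits). -/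
theorem result {S : Scheme.{u}} (X : AlgSp.Space S) (p : AlgSp.FieldPt X.obj) (hp : p.IsGeometric) :
    (PreservesFiniteLimits (AlgSp.stalkEtFunctor (Type (u + 1)) p) ∧
      PreservesFiniteColimits (AlgSp.stalkEtFunctor (Type (u + 1)) p)) ∧
    (PreservesFiniteLimits (AlgSp.stalkEtFunctor AddCommGrpCat.{u + 1} p) ∧
      PreservesFiniteColimits (AlgSp.stalkEtFunctor AddCommGrpCat.{u + 1} p)) :=
  ⟨⟨Groth.Agent.Lib.Helper4.EtPt.preservesFiniteLimits_stalkEtFunctor p X.property hp _,
    Groth.Agent.Lib.Helper4.EtPt.preservesFiniteColimits_stalkEtFunctor p X.property hp _⟩,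
   ⟨Groth.Agent.Lib.Helper4.EtPt.preservesFiniteLimits_stalkEtFunctor p X.property hp _,
    Groth.Agent.Lib.Helper4.EtPt.preservesFiniteColimits_stalkEtFunctor p X.property hp _⟩⟩

end Groth.Agent.S10219
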