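import Groth.Statements.S10223
import Groth.Agent.Lib.Helper4.StrictHens
import Groth.Agent.Lib.Helper4.StrictHensAlgSp

set_option autoImplicit false
universe u
open CategoryTheory CategoryTheory.Limits AlgebraicGeometry Topology TopologicalSpace
open AlgSp

namespace Groth.Agent.S10223
open Groth.Agent.Lib.Helper4 Polynomial Opposite

theorem eval₂_up {A B : Type u} [CommRing A] [CommRing B] (θ : A →+* B)
    (P : (ULift.{u + 1} A)[X]) (r : B) :
    P.eval₂ (((ULift.ringEquiv.{u, u + 1} (R := B)).symm.toRingHom.comp θ).comp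
      (ULift.ringEquiv.{u, u + 1} (R := A)).toRingHom) (ULift.up r) =
      ULift.up ((P.map (ULift.ringEquiv.{u, u + 1} (R := A)).toRingHom).eval₂ θ r) := by
  rw [Polynomial.eval₂_map]
  exact (Polynomial.hom_eval₂ P (θ.comp (ULift.ringEquiv.{u, u + 1} (R := A)).toRingHom)
    (ULift.ringEquiv.{u, u + 1} (R := B)).symm.toRingHom r).symm

section
variable {S : Scheme.{u}} {X : AlgSp.Sp S} (p : AlgSp.FieldPt X)

noncomputable def φ (N : EtNbhd p) : Γ(N.1.obj.left.left, ⊤) →+* p.K :=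
  (N.2.1.left.appTop ≫ (Scheme.ΓSpecIso (CommRingCat.of p.K)).hom).hom

theorem φ_map {N N' : EtNbhd p} (f : N ⟶ N') (s : Γ(N'.1.obj.left.left, ⊤)) :
    φ p N (f.1.hom.left.left.appTop.hom s) = φ p N' s := by
  have h : N.2.1 ≫ f.1.hom.left = N'.2.1 := congrArg Subtype.val f.2
  have h' : N.2.1.left ≫ f.1.hom.left.left = N'.2.1.left := congrArg CommaMorphism.left h
  unfold φ
  rw [← h', Scheme.Hom.comp_appTop, Category.assoc]
  rfl

noncomputable def cocone : Cocone (stalkEtDiagram p (OEt X)) where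
  pt := CommRingCat.of (ULift.{u + 1} p.K)
  ι :=
    { app := fun N => CommRingCat.ofHom
        ((ULift.ringEquiv.symm.toRingHom.comp (φ p N.unop)).comp ULift.ringEquiv.toRingHom)
      naturality := by
        intro N N' f
        ext s
        apply ULift.ext
        exact φ_map p f.unop s.down }

noncomputable def ε : (OEtStalk p : Type (u + 1)) →+* p.K :=
  ULift.ringEquiv.toRingHom.comp (colimit.desc (stalkEtDiagram p (OEt X)) (cocone p)).hom

theorem ε_ι (N : EtNbhd p) (s : (OEt X).obj.obj (op N.1)) :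
    ε p ((colimit.ι (stalkEtDiagram p (OEt X)) (op N)).hom s) = φ p N s.down := by
  have := colimit.ι_desc (cocone p) (op N)
  have h2 := congrArg (fun f => (CommRingCat.Hom.hom f) s) this
  exact congrArg ULift.down h2

theorem ε_comp_ι (N : EtNbhd p) :
    (ε p).comp (colimit.ι (stalkEtDiagram p (OEt X)) (op N)).hom =
      (φ p N).comp (ULift.ringEquiv.{u, u + 1} (R := Γ(N.1.obj.left.left, ⊤))).toRingHom := by
  ext s
  exact ε_ι p N s

theorem map_eq {N N' : EtNbhd p} (f : N ⟶ N') :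
    ((stalkEtDiagram p (OEt X)).map f.op).hom =
      ((ULift.ringEquiv.{u, u + 1} (R := Γ(N.1.obj.left.left, ⊤))).symm.toRingHom.comp
        f.1.hom.left.left.appTop.hom).comp
        (ULift.ringEquiv.{u, u + 1} (R := Γ(N'.1.obj.left.left, ⊤))).toRingHom := by
  ext s
  rfl

theorem H1aux (N : EtNbhd p) (s : Γ(N.1.obj.left.left, ⊤)) (hs : φ p N s ≠ 0) :
    ∃ (N' : EtNbhd p) (f : N' ⟶ N), IsUnit (f.1.hom.left.left.appTop.hom s) := by
  let P₀ : StandardEtalePair Γ(N.1.obj.left.left, ⊤) :=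
    ⟨Polynomial.X, Polynomial.monic_X, Polynomial.C s, ⟨Polynomial.C s, 0, 1, by simp⟩⟩
  obtain ⟨T, g, t, r, ht, -, hu, -⟩ := StrictHensAlgSp.exists_etNbhd p N.1 N.2 P₀ 0
    (Polynomial.eval₂_X _ _)
    (by rw [show P₀.g = Polynomial.C s from rfl, Polynomial.eval₂_C]; exact hs)
  refine ⟨⟨T, t⟩, ⟨g, ht⟩, ?_⟩
  rw [show P₀.g = Polynomial.C s from rfl, Polynomial.eval₂_C] at hu
  exact hu

theorem H2aux (N : EtNbhd p) (P₀ : Γ(N.1.obj.left.left, ⊤)[X])
    (ω : p.K) (hm : P₀.Monic) (h0 : P₀.eval₂ (φ p N) ω = 0)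
    (h1 : P₀.derivative.eval₂ (φ p N) ω ≠ 0) :
    ∃ (N' : EtNbhd p) (f : N' ⟶ N) (r : Γ(N'.1.obj.left.left, ⊤)),
      P₀.eval₂ f.1.hom.left.left.appTop.hom r = 0 ∧ φ p N' r = ω := by
  let Q : StandardEtalePair Γ(N.1.obj.left.left, ⊤) :=
    ⟨P₀, hm, P₀.derivative, ⟨1, 0, 1, by simp⟩⟩
  obtain ⟨T, g, t, r, ht, hr, -, hω⟩ := StrictHensAlgSp.exists_etNbhd p N.1 N.2 Q ω h0 h1
  exact ⟨⟨T, t⟩, ⟨g, ht⟩, r, hr, hω⟩

end


/-- Let X be an algebraic space over a scheme S and x̄ a geometric point of X. Then the etale local ring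
of X at x̄ (the stalk at x̄ of the structure sheaf of the small etale site) is a strictly henselian
local ring. (The published statement identifies this ring with the strict henselisation of the local
ring of any etale neighbourhood (U, ū) at the image point of ū; this row records the resulting
property of the ring, not the identification.) -/
theorem result {S : Scheme.{u}} (X : AlgSp.Space S) (p : AlgSp.FieldPt X.obj)
    (hp : p.IsGeometric) :
    IsLocalRing ↥(AlgSp.OEtStalk p) ∧ EtCoh.IsStrictlyHenselianLocalRing ↥(AlgSp.OEtStalk p) := by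
  have hcof : IsCofiltered (EtNbhd p) := EtPt.isCofiltered_etNbhd p X.property hp
  have : IsAlgClosed p.K := hp
  let D := stalkEtDiagram p (OEt X.obj)
  let c := colimit.cocone D
  have hc : IsColimit c := colimit.isColimit D
  have hpres : PreservesFilteredColimitsOfSize.{u, u + 1} (forget CommRingCat.{u + 1}) :=
    preservesFilteredColimitsOfSize_of_univLE.{u + 1, u + 1, u, u + 1} _
  have hpres' : PreservesColimit D (forget CommRingCat.{u + 1}) := inferInstance
  have H1 : ∀ (j : (EtNbhd p)ᵒᵖ) (s : D.obj j), ε p ((c.ι.app j).hom s) ≠ 0 →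
      ∃ (j' : (EtNbhd p)ᵒᵖ) (f : j ⟶ j'), IsUnit ((D.map f).hom s) := by
    rintro ⟨N⟩ s hs
    have hs' : φ p N s.down ≠ 0 := by
      rw [← ε_ι]
      exact hs
    obtain ⟨N', f, hu⟩ := H1aux p N s.down hs'
    refine ⟨op N', f.op, ?_⟩
    exact hu.map (ULift.ringEquiv.{u, u + 1} (R := Γ(N'.1.obj.left.left, ⊤))).symm.toRingHom
  have H2 : ∀ (j : (EtNbhd p)ᵒᵖ) (P₀ : (D.obj j : Type (u + 1))[X]) (ω : p.K), P₀.Monic →
      P₀.eval₂ ((ε p).comp (c.ι.app j).hom) ω = 0 →
      P₀.derivative.eval₂ ((ε p).comp (c.ι.app j).hom) ω ≠ 0 →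
      ∃ (j' : (EtNbhd p)ᵒᵖ) (f : j ⟶ j') (r : D.obj j'), P₀.eval₂ (D.map f).hom r = 0 ∧
        ε p ((c.ι.app j').hom r) = ω := by
    rintro ⟨N⟩ P₀ ω hm h0 h1
    let e := (ULift.ringEquiv.{u, u + 1} (R := Γ(N.1.obj.left.left, ⊤))).toRingHom
    have e1 : (ε p).comp (c.ι.app (op N)).hom = (φ p N).comp e := ε_comp_ι p N
    rw [e1] at h0 h1
    have h0' : (P₀.map e).eval₂ (φ p N) ω = 0 := by
      rw [Polynomial.eval₂_map]
      exact h0
    have h1' : (P₀.map e).derivative.eval₂ (φ p N) ω ≠ 0 := by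
      rw [Polynomial.derivative_map, Polynomial.eval₂_map]
      exact h1
    obtain ⟨N', f, r, hr, hω⟩ := H2aux p N (P₀.map e) ω (hm.map e) h0' h1'
    refine ⟨op N', f.op, ULift.up r, ?_, ?_⟩
    · rw [map_eq p f]
      refine (eval₂_up _ P₀ r).trans ?_
      exact congrArg ULift.up hr
    · exact (ε_ι p N' (ULift.up r)).trans hω
  have hU := StrictHens.hU_of_colimit D c hc (ε p) H1
  have hK := StrictHens.hK_of_colimit D c hc (ε p) H2
  have hH : HenselianLocalRing (AlgSp.OEtStalk p) := StrictHens.henselianLocalRing (ε p) hU hK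
  exact ⟨hH.toIsLocalRing, hH, StrictHens.isSepClosed_residueField (ε p) hU hK⟩

end Groth.Agent.S10223
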