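import Groth.Statements.S10225
import Groth.Agent.Lib.Helper23.ColimRed
import Groth.Agent.Lib.Helper23.EtStalkGerm
import Groth.Agent.Lib.Helper36.ReducedGerm

set_option autoImplicit false
universe u
open CategoryTheory CategoryTheory.Limits AlgebraicGeometry Topology TopologicalSpace
open AlgSp

namespace Groth.Agent.S10225

open Groth.Agent.Lib.Helper4 Groth.Agent.Lib.Helper23 Groth.Agent.Lib.Helper23.EtStalkGerm Groth.Agent.Lib.Helper36.AlgSpHasAt Opposite

/-- Let X be an algebraic space over a scheme S and x̄ a geometric point of X lying over x ∈ |X|. Then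
the local ring of X at x is reduced (for some etale chart h_U ⟶ X and some point u of U over x, the
local ring of U at u is reduced) if and only if the etale local ring of X at x̄ is reduced; in
particular the latter does not depend on the choice of x̄ over x. -/
theorem result {S : Scheme.{u}} (X : AlgSp.Space S) (p : AlgSp.FieldPt X.obj) (hp : p.IsGeometric) :
    AlgSp.HasAt (fun U u => _root_.IsReduced ↥(U.presheaf.stalk u)) X.obj (AlgSp.Points.mk p) ↔
      _root_.IsReduced ↥(AlgSp.OEtStalk p) := by
  have hcof : IsCofiltered (EtNbhd p) := EtPt.isCofiltered_etNbhd p X.property hp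
  let D := stalkEtDiagram p (OEt X.obj)
  let c := colimit.cocone D
  have hc : IsColimit c := colimit.isColimit D
  have hpres : PreservesFilteredColimitsOfSize.{u, u + 1} (forget CommRingCat.{u + 1}) :=
    preservesFilteredColimitsOfSize_of_univLE.{u + 1, u + 1, u, u + 1} _
  have hpres' : PreservesColimit D (forget CommRingCat.{u + 1}) := inferInstance
  have hred := ColimRed.isReduced_iff D c hc
  change _ ↔ _root_.IsReduced ↥c.pt
  rw [hred, hasAt_iff_forall_chart isEtaleLocalGerm_isReduced_stalk X.property.atlas]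
  constructor
  · rintro h ⟨N⟩ s hs
    have hsd : IsNilpotent s.down :=
      hs.map (ULift.ringEquiv.{u, u + 1} (R := Γ(N.1.obj.left.left, ⊤))).toRingHom
    have hR := h N.1.obj.left N.1.obj.hom (pnt p N) N.1.property (ofPt_pnt p N)
    have hg : N.1.obj.left.left.presheaf.germ ⊤ (pnt p N) trivial s.down = 0 :=
      hR.eq_zero _ (hsd.map (N.1.obj.left.left.presheaf.germ ⊤ (pnt p N) trivial).hom)
    obtain ⟨N', f, hf⟩ := exists_map_eq_zero_of_germ_eq_zero p N s.down hg
    refine ⟨op N', f.op, ?_⟩
    exact congrArg ULift.up hf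
  · intro h
    have H : ∀ (N : EtNbhd p) (s : Γ(N.1.obj.left.left, ⊤)), IsNilpotent s →
        ∃ (N' : EtNbhd p) (f : N' ⟶ N), f.1.hom.left.left.appTop.hom s = 0 := by
      intro N s hs
      obtain ⟨⟨N'⟩, f, hf⟩ := h (op N) (ULift.up s)
        (hs.map (ULift.ringEquiv.{u, u + 1} (R := Γ(N.1.obj.left.left, ⊤))).symm.toRingHom)
      exact ⟨N', f.unop, congrArg ULift.down hf⟩
    intro U a u ha hu
    obtain ⟨N⟩ := IsCofiltered.nonempty (C := EtNbhd p)
    have hN := isReduced_stalk_of_forall p N H
    exact (germ_iff_of_ofPt_eq isEtaleLocalGerm_isReduced_stalk N.1.obj.hom a N.1.property ha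
      (pnt p N) u ((ofPt_pnt p N).trans hu.symm)).1 hN

end Groth.Agent.S10225
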