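import Groth.Statements.S10228
-- import your own Groth.Agent.* helpers here
import Groth.Agent.Lib.Helper5.AlgSpCoprod2

set_option autoImplicit false
universe u
open CategoryTheory CategoryTheory.Limits AlgebraicGeometry Topology TopologicalSpace
open AlgSp

namespace Groth.Agent.S10228

open Groth.Agent.Lib.Helper5

theorem compactSpace_sigma {ι : Type u} [Finite ι] (f : ι → Scheme.{u}) [∀ i, CompactSpace (f i)] :
    CompactSpace ↥(∐ f) := by
  rw [← isCompact_univ_iff]
  have : (Set.univ : Set ↥(∐ f)) = ⋃ i, Set.range (Sigma.ι f i) := by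
    ext x
    simp only [Set.mem_univ, Set.mem_iUnion, Set.mem_range, true_iff]
    obtain ⟨i, y, hy⟩ := (sigmaOpenCover f).exists_eq x
    exact ⟨i, y, hy⟩
  rw [this]
  exact isCompact_iUnion fun i => isCompact_range (Sigma.ι f i).continuous

/-- An algebraic space that is the coproduct of finitely many quasi-compact algebraic spaces is
quasi-compact: if X_i (i in a finite type) are quasi-compact algebraic spaces over a scheme S and
the underlying sheaf of the algebraic space X is a coproduct of the underlying sheaves of the X_i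
(given by a colimit cofan of fppf sheaves whose cone point is the sheaf of X), then X is
quasi-compact. -/
theorem result {S : Scheme.{u}} {ι : Type u} [Finite ι] (Xi : ι → AlgSp.Space S)
    (X : AlgSp.Space S) (c : Cofan fun i => (Xi i).obj) (hc : IsColimit c) (hX : c.pt = X.obj)
    (hqc : ∀ i, AlgSp.IsQuasiCompactSp (Xi i).obj) :
    AlgSp.IsQuasiCompactSp X.obj := by
  rw [← hX]
  choose U p he hs hcpt using hqc
  let F : ι → Sp S := fun i => (Xi i).obj
  have hrep : ∀ ⦃T : Over S⦄ (g : (yon S).obj T ⟶ c.pt), Representable g :=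
    fun T g => representable_from_yon_of_cofan F c hc (fun i => (Xi i).property) g
  let cU : Cofan (fun i => (yon S).obj (U i)) :=
    Cofan.mk ((yon S).obj (sigmaOver U)) fun i => (yon S).map (sigmaOverι U i)
  have hcU : IsColimit cU := isColimitYonSigmaOver U
  let pp : (yon S).obj (sigmaOver U) ⟶ c.pt :=
    Cofan.IsColimit.desc hcU (fun i => p i ≫ c.inj i)
  have hpp : ∀ i, (yon S).map (sigmaOverι U i) ≫ pp = p i ≫ c.inj i :=
    fun i => Cofan.IsColimit.fac hcU (fun i => p i ≫ c.inj i) i
  refine ⟨sigmaOver U, pp, repWith_desc_of_cofan F c hc @Etale U p he pp hpp (hrep pp),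
    repWith_desc_of_cofan F c hc @Surjective U p hs pp hpp (hrep pp), ?_⟩
  change CompactSpace ↥(∐ fun i => (U i).left)
  exact compactSpace_sigma _

end Groth.Agent.S10228
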