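import Groth.Statements.S1023
import Groth.Agent.Lib.Helper15.DCohLocal

set_option autoImplicit false
universe u
open CategoryTheory CategoryTheory.Limits AlgebraicGeometry
attribute [local instance] HasDerivedCategory.standard
open Perf

namespace Groth.Agent.S1023

open CategoryTheory.Pretriangulated

/-- maps from a shift of an object bounded above to an object bounded below vanish -/
theorem shift_hom_eq_zero {X : Scheme.{u}} (P Y : DCoh.D X) (b' c i : ℤ) (hP : P.IsLE b')
    (hY : Y.IsGE c) (h : b' + i < c) (φ : P⟦-i⟧ ⟶ Y) : φ = 0 := by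
  have h1 : (P⟦-i⟧).IsLE (b' + i) :=
    DerivedCategory.TStructure.t.isLE_shift P b' (-i) (b' + i) (by omega)
  exact DerivedCategory.TStructure.t.zero_of_isLE_of_isGE φ (b' + i) c h h1 hY


/-- Let the scheme X be quasi-compact and quasi-separated, P a perfect object of D(O_X), E ∈ D_QCoh(O_X)
and a ∈ ℤ. Then the morphisms P[-i] ⟶ E vanish for all sufficiently negative i if and only if the
morphisms P[-i] ⟶ τ_{≤ a}E vanish for all sufficiently negative i. -/
theorem result (X : Scheme.{u}) [CompactSpace ↥X] [QuasiSeparatedSpace ↥X]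
    (P : DCoh.D X) (hP : DCoh.IsPerfect P) (E : DCoh.D X) (hE : DCoh.IsQCohD E) (a : ℤ) :
    (∃ N : ℤ, ∀ i : ℤ, i ≤ N → ∀ φ : P⟦-i⟧ ⟶ E, φ = 0) ↔
    (∃ N : ℤ, ∀ i : ℤ, i ≤ N → ∀ φ : P⟦-i⟧ ⟶ ((DerivedCategory.TStructure.t : CategoryTheory.Triangulated.TStructure (DCoh.D X)).truncLE a).obj E, φ = 0) := by
  obtain ⟨a', b', hb⟩ := Groth.Agent.Lib.Helper15.DCohLocal.exists_bounds_of_isPerfect P hP
  have hPle : P.IsLE b' := (DerivedCategory.isLE_iff P b').2 (fun i hi => hb i (Or.inr hi))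
  let t : CategoryTheory.Triangulated.TStructure (DCoh.D X) := DerivedCategory.TStructure.t
  let T := (t.triangleLEGE a (a + 1) rfl).obj E
  have hT : T ∈ distTriang _ := t.triangleLEGE_distinguished a (a + 1) rfl E
  have hT' : T.invRotate ∈ distTriang _ := inv_rot_of_distTriang T hT
  have h3 : T.obj₃.IsGE (a + 1) := by
    change t.IsGE ((t.truncGE (a + 1)).obj E) (a + 1)
    infer_instance
  have h3' : (T.obj₃⟦(-1 : ℤ)⟧).IsGE (a + 2) :=
    t.isGE_shift T.obj₃ (a + 1) (-1) (a + 2) (by omega)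
  constructor
  · rintro ⟨N, hN⟩
    refine ⟨min N (a - b'), fun i hi φ => ?_⟩
    have hi1 : i ≤ N := le_trans hi (min_le_left _ _)
    have hi2 : i ≤ a - b' := le_trans hi (min_le_right _ _)
    have h0 : φ ≫ T.invRotate.mor₂ = 0 := hN i hi1 (φ ≫ T.mor₁)
    obtain ⟨g, hg⟩ := Triangle.coyoneda_exact₂ T.invRotate hT' φ h0
    have hg0 : g = 0 := shift_hom_eq_zero P _ b' (a + 2) i hPle h3' (by omega) g
    rw [hg, hg0]
    exact zero_comp
  · rintro ⟨N, hN⟩
    refine ⟨min N (a - b'), fun i hi φ => ?_⟩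
    have hi1 : i ≤ N := le_trans hi (min_le_left _ _)
    have hi2 : i ≤ a - b' := le_trans hi (min_le_right _ _)
    have h0 : φ ≫ T.mor₂ = 0 := shift_hom_eq_zero P _ b' (a + 1) i hPle h3 (by omega) _
    obtain ⟨g, hg⟩ := Triangle.coyoneda_exact₂ T hT φ h0
    have hg0 : g = 0 := hN i hi1 g
    rw [hg, hg0]
    exact zero_comp

end Groth.Agent.S1023
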