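import Groth.Statements.S10230
-- import your own Groth.Agent.* helpers here
import Groth.Agent.Lib.Helper37.AlgSpFibres

set_option autoImplicit false
universe u
open CategoryTheory CategoryTheory.Limits AlgebraicGeometry Topology TopologicalSpace
open AlgSp

namespace Groth.Agent.S10230

open Groth.Agent.Lib.Helper37.AlgSpPoints Groth.Agent.Lib.Helper37.AlgSpFibres

/-- Let X be an algebraic space over a scheme S and F a subsheaf of the final object of the small etale
topos of X, i.e. a sheaf of sets all of whose section sets have at most one element. Then there is a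
unique open W of |X| with F = h_W: for every U etale over X, F(U) is nonempty if and only if U ⟶ X
maps |U| into W. -/
theorem result {S : Scheme.{u}} (X : AlgSp.Space S)
    (F : AlgSp.EtSh X.obj (Type (u + 1))) (hF : ∀ E : AlgSp.EtOver X.obj, Subsingleton (F.obj.obj (Opposite.op E))) :
    ∃! W : Set (AlgSp.Points X.obj), IsOpen W ∧
      ∀ E : AlgSp.EtOver X.obj, Nonempty (F.obj.obj (Opposite.op E)) ↔ Set.range (AlgSp.Points.ofPt E.obj.hom) ⊆ W := by
  let 𝓘 := {Ei : EtOver X.obj // Nonempty (F.obj.obj (Opposite.op Ei))}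
  let W : Set (Points X.obj) := ⋃ i : 𝓘, Set.range (Points.ofPt i.1.obj.hom)
  have hWopen : IsOpen W := isOpen_iUnion fun i => (isOpenMap_ofPt _ i.1.property).isOpen_range
  have hsheaf : Presieve.IsSheaf (etTop X.obj) F.obj := (isSheaf_iff_isSheaf_of_type _ _).1 F.property
  have key : ∀ E : EtOver X.obj, Nonempty (F.obj.obj (Opposite.op E)) ↔
      Set.range (Points.ofPt E.obj.hom) ⊆ W := by
    intro E
    constructor
    · intro hE
      exact Set.subset_iUnion (fun i : 𝓘 => Set.range (Points.ofPt i.1.obj.hom)) ⟨E, hE⟩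
    · intro hsub
      let Y : 𝓘 → EtOver X.obj := fun i => EtOver.prodObj E i.1
      let π : ∀ i, Y i ⟶ E := fun i => EtOver.prodFst E i.1
      have hcov : Sieve.ofArrows Y π ∈ etTop X.obj E := by
        refine ofArrows_mem_etTop Y π fun x => ?_
        have hx : Points.ofPt E.obj.hom x ∈ W := hsub ⟨x, rfl⟩
        obtain ⟨i, y, hy⟩ := Set.mem_iUnion.1 hx
        have sq := i.1.property.1.isPullback' E.obj.hom
        obtain ⟨r, -, hr⟩ := (ofPt_eq_ofPt_iff sq y x).1 hy
        exact ⟨i, r, hr⟩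
      have hne : ∀ ⦃Z : EtOver X.obj⦄ (g : Z ⟶ E), (Sieve.ofArrows Y π).arrows g →
          Nonempty (F.obj.obj (Opposite.op Z)) := by
        rintro Z g ⟨Z', k, g', ⟨i⟩, rfl⟩
        obtain ⟨s⟩ := i.2
        exact ⟨F.obj.map k.op (F.obj.map (EtOver.prodSnd E i.1).op s)⟩
      let x : Presieve.FamilyOfElements F.obj (Sieve.ofArrows Y π).arrows :=
        fun Z g hg => Classical.choice (hne g hg)
      have hx : x.Compatible := by
        intro Z₁ Z₂ Z' g₁ g₂ f₁ f₂ h₁ h₂ _
        exact (hF Z').elim _ _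
      obtain ⟨t, -, -⟩ := hsheaf _ hcov x hx
      exact ⟨t⟩
  refine ⟨W, ⟨hWopen, key⟩, ?_⟩
  rintro W' ⟨hW'open, hW'⟩
  apply Set.Subset.antisymm
  · intro x hx
    obtain ⟨U, p, hpe, hps⟩ := X.property.atlas
    obtain ⟨u, rfl⟩ := ofPt_surjective p hps x
    let U₀ : U.left.Opens := ⟨Points.ofPt p ⁻¹' W', hW'open.preimage (Points.continuous_ofPt p)⟩
    let E' : EtOver X.obj := EtOver.mk ((yon S).map (openι U U₀) ≫ p) (repWith_etale_restrict p hpe U₀)
    have hE' : Set.range (Points.ofPt E'.obj.hom) ⊆ W' := by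
      rintro _ ⟨v, rfl⟩
      change Points.ofPt ((yon S).map (openι U U₀) ≫ p) v ∈ W'
      rw [ofPt_restrict]
      exact v.2
    have h1 := (key E').1 ((hW' E').2 hE')
    apply h1
    refine ⟨(⟨u, hx⟩ : ↥U₀), ?_⟩
    change Points.ofPt ((yon S).map (openι U U₀) ≫ p) _ = _
    rw [ofPt_restrict]
  · refine Set.iUnion_subset fun i => ?_
    exact (hW' i.1).1 i.2

end Groth.Agent.S10230
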