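import Groth.Statements.S10233
import Groth.Agent.Lib.Helper23.ImmQuot

set_option autoImplicit false
universe u
open CategoryTheory CategoryTheory.Limits AlgebraicGeometry Topology TopologicalSpace
open AlgSp

namespace Groth.Agent.S10233

/-- Let X be an algebraic space over a scheme S with a presentation (U, R, s, t, p), and let i' : Z' ⟶ U
be an immersion of schemes that is R-invariant, meaning that one locally closed subscheme R' of R is
at the same time the inverse image of Z' under s and under t. Then Z' descends to a locally closed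
subspace of X: there is a morphism of algebraic spaces i : Z ⟶ X representable by immersions
together with a map h_{Z'} ⟶ Z making h_{Z'} the fibre product Z ×_X h_U; moreover i is a closed
(resp. open) immersion when i' is. -/
theorem result {S : Scheme.{u}} (X : AlgSp.Space S) {R U : Over S} (s t : R ⟶ U)
    (p : (AlgSp.yon S).obj U ⟶ X.obj) (hp : AlgSp.IsPresentation s t p)
    {Z' R' : Scheme.{u}} (i' : Z' ⟶ U.left) [IsImmersion i'] (k : R' ⟶ R.left) (s' t' : R' ⟶ Z')
    (hs : IsPullback k s' s.left i') (ht : IsPullback k t' t.left i') :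
    ∃ (Z : AlgSp.Space S) (i : Z ⟶ X) (q : (AlgSp.yon S).obj (Over.mk (i' ≫ U.hom)) ⟶ Z.obj),
      AlgSp.RepWith @IsImmersion i.hom ∧
      IsPullback q ((AlgSp.yon S).map (Over.homMk i' rfl : Over.mk (i' ≫ U.hom) ⟶ U)) i.hom p ∧
      (IsClosedImmersion i' → AlgSp.RepWith @IsClosedImmersion i.hom) ∧
      (IsOpenImmersion i' → AlgSp.RepWith @IsOpenImmersion i.hom) := by
  have hT' : ∀ {A B : Over S} (c : A ⟶ B), c.left ≫ B.hom = A.hom := fun c => Over.w c
  let Z'o : Over S := Over.mk (i' ≫ U.hom)
  let i'o : Z'o ⟶ U := Over.homMk i' rfl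
  let R'o : Over S := Over.mk (k ≫ R.hom)
  let ko : R'o ⟶ R := Over.homMk k rfl
  let s'o : R'o ⟶ Z'o := Over.homMk s' (by
    change s' ≫ i' ≫ U.hom = k ≫ R.hom
    rw [← Category.assoc, ← hs.w, Category.assoc, Over.w s])
  let t'o : R'o ⟶ Z'o := Over.homMk t' (by
    change t' ≫ i' ≫ U.hom = k ≫ R.hom
    rw [← Category.assoc, ← ht.w, Category.assoc, Over.w t])
  have hso : IsPullback ko s'o s i'o :=
    IsPullback.of_map (Over.forget S) (Over.OverMorphism.ext hs.w) hs
  have hto : ko ≫ t = t'o ≫ i'o := by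
    ext1
    exact ht.w
  haveI : Mono i'o := by
    haveI : Mono i'o.left := inferInstanceAs (Mono i')
    exact Over.mono_of_mono_left _
  have sqZ := Groth.Agent.Lib.Helper23.ClosedDescent.isPullback_image_of_invariant s t p
    hp.isPullback i'o ko s'o t'o hso hto
  have key : ∀ (Q : MorphismProperty Scheme.{u}),
      (Q = @IsClosedImmersion ∨ Q = @IsOpenImmersion ∨ Q = @IsImmersion) → Q i' →
      AlgSp.RepWith Q (Sheaf.imageι ((AlgSp.yon S).map i'o ≫ p)) := by
    intro Q hQ hQi
    have hbc : Q.IsStableUnderBaseChange := by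
      rcases hQ with rfl | rfl | rfl <;> infer_instance
    exact Groth.Agent.Lib.Helper23.ClosedDescent.repWith_immersions_of_etale_cover Q hQ _ p
      hp.etale hp.surjective sqZ ((AlgSp.repWith_yon_map_iff Q i'o).2 hQi)
  have hm := key @IsImmersion (Or.inr (Or.inr rfl)) inferInstance
  have hZ : AlgSp.IsAlgSpace (Sheaf.image ((AlgSp.yon S).map i'o ≫ p)) :=
    Groth.Agent.Lib.Helper23.ClosedDescent.isAlgSpace_of_representable _ hm.rep X.property
  exact ⟨⟨_, hZ⟩, ObjectProperty.homMk (Sheaf.imageι ((AlgSp.yon S).map i'o ≫ p)),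
    Sheaf.toImage ((AlgSp.yon S).map i'o ≫ p), hm, sqZ,
    fun h => key @IsClosedImmersion (Or.inl rfl) h,
    fun h => key @IsOpenImmersion (Or.inr (Or.inl rfl)) h⟩

end Groth.Agent.S10233
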