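import Groth.Statements.S10235
import Mathlib
import Groth.Agent.Lib.Helper61.GQ12
import Groth.Agent.S7488

set_option autoImplicit false
universe u
open CategoryTheory CategoryTheory.Limits AlgebraicGeometry Topology TopologicalSpace
open AlgSp

namespace Groth.Agent.S10235
open CategoryTheory CategoryTheory.Limits AlgebraicGeometry Grpd
set_option backward.isDefEq.respectTransparency.types false
set_option maxHeartbeats 400000
open Groth.Agent.Lib.Helper61.GQ Groth.Agent.Lib.Helper5.QuotShK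

theorem mono_j_of_isEqvRel {S : Scheme.{u}} (G : Grpd.GroupoidScheme S)
    (heq : AlgSp.IsEqvRel (Over.homMk G.s G.s_over : Over.mk G.pR ⟶ Over.mk G.pU)
      (Over.homMk G.t G.t_over : Over.mk G.pR ⟶ Over.mk G.pU)) : Mono G.j := by
  constructor
  intro T x y h
  have ht : x ≫ G.t = y ≫ G.t := by
    have := congrArg (fun φ => φ ≫ pullback.fst _ _) h
    simp only [Grpd.GroupoidScheme.j, Category.assoc, pullback.lift_fst] at this
    exact this
  have hs : x ≫ G.s = y ≫ G.s := by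
    have := congrArg (fun φ => φ ≫ pullback.snd _ _) h
    simp only [Grpd.GroupoidScheme.j, Category.assoc, pullback.lift_snd] at this
    exact this
  have hxy : x ≫ G.pR = y ≫ G.pR := by
    rw [← G.s_over, ← Category.assoc, hs, Category.assoc]
  let x' : Over.mk (x ≫ G.pR) ⟶ Over.mk G.pR := Over.homMk x rfl
  let y' : Over.mk (x ≫ G.pR) ⟶ Over.mk G.pR := Over.homMk y hxy.symm
  have := heq.injective (Over.mk (x ≫ G.pR)) x' y' (by ext1; exact ht) (by ext1; exact hs)
  exact congrArg (fun φ => φ.left) this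

theorem hcov_of_closed {S : Scheme.{u}} (G : Grpd.GroupoidScheme S)
    [IsFinite G.s] [Flat G.s] [LocallyOfFinitePresentation G.s]
    (h3 : ∀ Z : Set ↥G.U, IsClosed Z → Z.Nonempty →
      ∃ u ∈ Z, ∃ W : G.U.Opens, IsAffineOpen W ∧ ∀ r : ↥G.R, G.s r = u → G.t r ∈ W) :
    ∀ x : G.U, ∃ a : J G, x ∈ a.W := by
  haveI := isFinite_t G
  haveI := flat_t G
  haveI := lfp_t G
  by_contra hne
  push Not at hne
  obtain ⟨x, hx⟩ := hne
  set W₀ : G.U.Opens := ⨆ a : J G, a.W with hW₀
  have hxW : x ∈ ((W₀ : Set G.U))ᶜ := by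
    intro hx'
    obtain ⟨a, ha⟩ := TopologicalSpace.Opens.mem_iSup.mp hx'
    exact hx a ha
  obtain ⟨u, hu, W, hW, hWu⟩ := h3 _ W₀.isOpen.isClosed_compl ⟨x, hxW⟩
  obtain ⟨W', hW'a, huW', hW'inv⟩ := Groth.Agent.S1881.main S G u W hW hWu
  exact hu (TopologicalSpace.Opens.mem_iSup.mpr ⟨⟨W', hW'inv, hW'a⟩, huW'⟩)

theorem main {S : Scheme.{u}} (G : Grpd.GroupoidScheme S)
    (hs : Mor2.IsFinLocFree G.s) (ht : Mor2.IsFinLocFree G.t)
    (heq : AlgSp.IsEqvRel (Over.homMk G.s G.s_over : Over.mk G.pR ⟶ Over.mk G.pU) (Over.homMk G.t G.t_over : Over.mk G.pR ⟶ Over.mk G.pU))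
    (h3 : ∀ Z : Set ↥G.U, IsClosed Z → Z.Nonempty →
      ∃ u ∈ Z, ∃ W : G.U.Opens, IsAffineOpen W ∧ ∀ r : ↥G.R, G.s r = u → G.t r ∈ W) :
    ∃ (M : Over S) (m : Over.mk G.pU ⟶ M), Mor2.IsFinLocFree m.left ∧ IsPullback G.t G.s m.left m.left ∧
      QuotSh.IsQuotient Scheme.fppfPrecoverage (Over.homMk G.s G.s_over : Over.mk G.pR ⟶ Over.mk G.pU) (Over.homMk G.t G.t_over : Over.mk G.pR ⟶ Over.mk G.pU) m := by
  obtain ⟨h1, h2, h3'⟩ := hs
  haveI := h1
  haveI := h2
  haveI := h3'
  haveI := mono_j_of_isEqvRel G heq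
  have hcov := hcov_of_closed G h3
  have hpU : G.s ≫ G.pU = G.t ≫ G.pU := G.s_over.trans G.t_over.symm
  have hfin := isFinite_q hcov
  have hflat := flat_q hcov
  have hlfp := lfp_q hcov
  haveI := isIso_ψ hcov (s_q hcov).symm
  have hp : IsPullback G.t G.s (q hcov) (q hcov) :=
    IsPullback.of_iso_pullback ⟨(s_q hcov).symm⟩ (asIso (pullback.lift G.t G.s (s_q hcov).symm))
      (pullback.lift_fst _ _ _) (pullback.lift_snd _ _ _)
  let m : Over.mk G.pU ⟶ Over.mk (desc hcov G.pU hpU) := Over.homMk (q hcov) (q_desc hcov G.pU hpU)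
  refine ⟨Over.mk (desc hcov G.pU hpU), m, ⟨hfin, hflat, hlfp⟩, hp, ?_⟩
  haveI : Flat m.left := hflat
  haveI : Surjective m.left := ⟨q_surjective hcov⟩
  haveI : LocallyOfFinitePresentation m.left := hlfp
  haveI := Groth.Agent.S7488.epi_yonK_map_of_fppf m
  have hk : IsKernelPair m (Over.homMk G.s G.s_over : Over.mk G.pR ⟶ Over.mk G.pU)
      (Over.homMk G.t G.t_over : Over.mk G.pR ⟶ Over.mk G.pU) := by
    refine IsPullback.of_map (Over.forget S) ?_ ?_
    · ext1
      exact hp.flip.w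
    · exact hp.flip
  exact isQuotient_of_isKernelPair_of_epi Scheme.fppfPrecoverage _ _ m hk

end Groth.Agent.S10235

namespace Groth.Agent.S10235

/-- Let (U, R, s, t, c) be a groupoid scheme over a scheme S whose source and target maps s, t : R ⟶ U
are finite locally free and whose map j = (t, s) is an equivalence relation, and suppose that in
each nonempty closed subset of U one can find a point u such that some affine open of U contains the
whole equivalence class t(s⁻¹{u}) of u. Then there are a scheme M over S and a finite locally free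
morphism U ⟶ M over S such that the square with the two maps t, s : R ⟶ U over U ⟶ M is cartesian (R
= U ×_M U) and U ⟶ M exhibits h_M as the quotient of h_U by the pair h_R ⇉ h_U in the category of
fppf sheaves. -/
theorem result {S : Scheme.{u}} (G : Grpd.GroupoidScheme S)
    (hs : Mor2.IsFinLocFree G.s) (ht : Mor2.IsFinLocFree G.t)
    (heq : AlgSp.IsEqvRel (Over.homMk G.s G.s_over : Over.mk G.pR ⟶ Over.mk G.pU) (Over.homMk G.t G.t_over : Over.mk G.pR ⟶ Over.mk G.pU))
    (h3 : ∀ Z : Set ↥G.U, IsClosed Z → Z.Nonempty →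
      ∃ u ∈ Z, ∃ W : G.U.Opens, IsAffineOpen W ∧ ∀ r : ↥G.R, G.s r = u → G.t r ∈ W) :
    ∃ (M : Over S) (m : Over.mk G.pU ⟶ M), Mor2.IsFinLocFree m.left ∧ IsPullback G.t G.s m.left m.left ∧
      QuotSh.IsQuotient Scheme.fppfPrecoverage (Over.homMk G.s G.s_over : Over.mk G.pR ⟶ Over.mk G.pU) (Over.homMk G.t G.t_over : Over.mk G.pR ⟶ Over.mk G.pU) m := by
  exact main G hs ht heq h3

end Groth.Agent.S10235
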