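import Groth.Statements.S10236
import Mathlib
import Groth.Agent.Lib.Helper5.QuotShK

set_option autoImplicit false
universe u
open CategoryTheory CategoryTheory.Limits AlgebraicGeometry Topology TopologicalSpace
open AlgSp

namespace Groth.Agent.S10236
open CategoryTheory CategoryTheory.Limits AlgebraicGeometry
set_option backward.isDefEq.respectTransparency.types false
set_option maxHeartbeats 400000
open Groth.Agent.Lib.Helper5.QuotShK

instance lfp_mult : MorphismProperty.IsMultiplicative (@LocallyOfFinitePresentation.{u}) where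
  id_mem _ := inferInstance
  comp_mem _ _ hf hg := by haveI := hf; haveI := hg; infer_instance

/-- an epimorphism of fppf sheaves between representables is surjective on points -/
theorem surjective_of_epi_yonK {S : Scheme.{u}} {U M : Over S} (m : U ⟶ M)
    [Epi ((yonK Scheme.fppfPrecoverage S).map m)] : Function.Surjective m.left := by
  intro y
  let T : Over S := Over.mk (M.left.fromSpecResidueField y ≫ M.hom)
  let y₀ : T ⟶ M := Over.homMk (M.left.fromSpecResidueField y) rfl
  obtain ⟨R₀, hR₀, hl⟩ := exists_local_lift_of_epi ((yonK Scheme.fppfPrecoverage S).map m)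
    ((yonK Scheme.fppfPrecoverage S).map y₀)
  rw [GrothendieckTopology.mem_over_iff] at hR₀
  have hR₀' : Sieve.overEquiv T R₀ ∈
      Scheme.grothendieckTopology (@Flat ⊓ @LocallyOfFinitePresentation) T.left := hR₀
  obtain ⟨𝒰, h𝒰⟩ := Scheme.exists_cover_of_mem_grothendieckTopology hR₀'
  obtain ⟨pt⟩ : Nonempty T.left := inferInstanceAs (Nonempty (Spec (M.left.residueField y)))
  obtain ⟨i, z, hz⟩ := 𝒰.exists_eq pt
  have hi : Sieve.overEquiv T R₀ (𝒰.f i) := h𝒰 _ _ (Presieve.ofArrows.mk i)
  rw [Sieve.overEquiv_iff] at hi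
  obtain ⟨x, hx⟩ := hl _ hi
  obtain ⟨x₀, rfl⟩ := (yonK Scheme.fppfPrecoverage S).map_surjective x
  rw [← Functor.map_comp, ← Functor.map_comp] at hx
  have hx' := (yonK Scheme.fppfPrecoverage S).map_injective hx
  refine ⟨x₀.left z, ?_⟩
  have h1 := congrArg (fun φ => φ.left z) hx'
  simp only [Over.comp_left, Scheme.Hom.comp_apply] at h1
  rw [h1]
  exact Scheme.fromSpecResidueField_apply _ _

/-- quasi-separatedness descends along surjective quasi-compact morphisms (topological form) -/
theorem quasiSeparatedSpace_of_surjective {X Y : Scheme.{u}} (f : X ⟶ Y) [QuasiCompact f]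
    (hf : Function.Surjective f) [QuasiSeparatedSpace X] : QuasiSeparatedSpace Y := by
  constructor
  intro A B hA hA' hB hB'
  have h1 : IsCompact (f ⁻¹' A ∩ f ⁻¹' B) :=
    QuasiSeparatedSpace.inter_isCompact _ _ (hA.preimage f.continuous)
      (QuasiCompact.isCompact_preimage A hA hA') (hB.preimage f.continuous)
      (QuasiCompact.isCompact_preimage B hB hB')
  have h2 : A ∩ B = f '' (f ⁻¹' A ∩ f ⁻¹' B) := by
    rw [← Set.preimage_inter, Set.image_preimage_eq _ hf]
  rw [h2]
  exact h1.image f.continuous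

theorem quasiSeparated_of_comp_surjective {X Y S : Scheme.{u}} (f : X ⟶ Y) (p : Y ⟶ S)
    [QuasiCompact f] (hf : Function.Surjective f) [QuasiSeparated (f ≫ p)] : QuasiSeparated p := by
  rw [HasAffineProperty.eq_targetAffineLocally (P := @QuasiSeparated)]
  intro V
  have h0 : QuasiSeparated (f ≫ p) := inferInstance
  rw [HasAffineProperty.eq_targetAffineLocally (P := @QuasiSeparated)] at h0
  have h := h0 V
  haveI : QuasiSeparatedSpace ((f ⁻¹ᵁ (p ⁻¹ᵁ V.1) : X.Opens) : Scheme.{u}) := h
  haveI : QuasiCompact (f ∣_ (p ⁻¹ᵁ V.1)) :=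
    IsZariskiLocalAtTarget.restrict (P := @QuasiCompact) inferInstance _
  refine quasiSeparatedSpace_of_surjective (f ∣_ (p ⁻¹ᵁ V.1)) ?_
  rintro ⟨y, hy⟩
  obtain ⟨x, rfl⟩ := hf y
  refine ⟨⟨x, hy⟩, ?_⟩
  apply Subtype.ext
  exact morphismRestrict_base_coe f (p ⁻¹ᵁ V.1) ⟨x, hy⟩

theorem isSeparated_of_comp_surjective {X Y S : Scheme.{u}} (f : X ⟶ Y) (p : Y ⟶ S)
    [IsFinite f] (hf : Function.Surjective f) [IsSeparated (f ≫ p)] : IsSeparated p := by
  constructor
  apply IsClosedImmersion.of_isPreimmersion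
  set c := pullback.map (f ≫ p) (f ≫ p) p p f f (𝟙 S) (Category.comp_id _) (Category.comp_id _)
    with hc
  have hcfin : IsFinite c :=
    MorphismProperty.pullbackMap (P := @IsFinite) (f := f ≫ p) (g := f ≫ p) (f' := p) (g' := p)
      (inferInstance : IsFinite f) (inferInstance : IsFinite f) rfl rfl
  have hcsurj : Surjective c :=
    MorphismProperty.pullbackMap (P := @Surjective) (f := f ≫ p) (g := f ≫ p) (f' := p) (g' := p)
      (⟨hf⟩ : Surjective f) (⟨hf⟩ : Surjective f) rfl rfl
  have hquot : Topology.IsQuotientMap c :=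
    c.isClosedMap.isQuotientMap c.continuous c.surjective
  rw [← hquot.isClosed_preimage]
  have hpb := pullback_map_diagonal_isPullback f f p
  have h1 := Scheme.image_preimage_eq_of_isPullback hpb Set.univ
  rw [Set.preimage_univ, Set.image_univ, Set.image_univ] at h1
  rw [← h1]
  set k := pullback.map f f (f ≫ p) (f ≫ p) (𝟙 X) (𝟙 X) p (Category.id_comp _).symm
    (Category.id_comp _).symm with hk
  haveI : IsFinite (k ≫ pullback.snd (f ≫ p) (f ≫ p)) := by
    have : k ≫ pullback.snd (f ≫ p) (f ≫ p) = pullback.snd f f := by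
      rw [hk, pullback.lift_snd, Category.comp_id]
    rw [this]
    infer_instance
  haveI : IsFinite k := IsFinite.of_comp k (pullback.snd (f ≫ p) (f ≫ p))
  have := k.isClosedMap _ isClosed_univ
  rwa [Set.image_univ] at this

theorem main {S : Scheme.{u}} (G : Grpd.GroupoidScheme S)
    (hs : Mor2.IsFinLocFree G.s) (ht : Mor2.IsFinLocFree G.t)
    (heq : AlgSp.IsEqvRel (Over.homMk G.s G.s_over : Over.mk G.pR ⟶ Over.mk G.pU) (Over.homMk G.t G.t_over : Over.mk G.pR ⟶ Over.mk G.pU))
    (h3 : ∀ Z : Set ↥G.U, IsClosed Z → Z.Nonempty →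
      ∃ u ∈ Z, ∃ W : G.U.Opens, IsAffineOpen W ∧ ∀ r : ↥G.R, G.s r = u → G.t r ∈ W)
    (M : Over S) (m : Over.mk G.pU ⟶ M) (hm : Mor2.IsFinLocFree m.left) (hR : IsPullback G.t G.s m.left m.left)
    (hq : QuotSh.IsQuotient Scheme.fppfPrecoverage (Over.homMk G.s G.s_over : Over.mk G.pR ⟶ Over.mk G.pU) (Over.homMk G.t G.t_over : Over.mk G.pR ⟶ Over.mk G.pU) m) :
    (QuasiSeparated G.pU → QuasiSeparated M.hom) ∧ (QuasiSeparatedSpace ↥G.U → QuasiSeparatedSpace ↥M.left) ∧
      (IsSeparated G.pU → IsSeparated M.hom) ∧ (G.U.IsSeparated → M.left.IsSeparated) := by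
  obtain ⟨hfin, -, -⟩ := hm
  haveI := hfin
  haveI := (isKernelPair_of_isQuotient Scheme.fppfPrecoverage _ _ heq m hq).2
  have hsurj : Function.Surjective m.left := surjective_of_epi_yonK m
  have hw : m.left ≫ M.hom = G.pU := Over.w m
  refine ⟨fun h => ?_, fun h => ?_, fun h => ?_, fun h => ?_⟩
  · haveI : QuasiSeparated (m.left ≫ M.hom) := by rw [hw]; exact h
    exact quasiSeparated_of_comp_surjective m.left M.hom hsurj
  · haveI : QuasiSeparatedSpace ↥(Over.mk G.pU).left := h
    exact quasiSeparatedSpace_of_surjective m.left hsurj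
  · haveI : IsSeparated (m.left ≫ M.hom) := by rw [hw]; exact h
    exact isSeparated_of_comp_surjective m.left M.hom hsurj
  · haveI : IsSeparated (m.left ≫ terminal.from M.left) := by
      rw [terminal.comp_from]
      exact h.1
    exact ⟨isSeparated_of_comp_surjective m.left (terminal.from M.left) hsurj⟩

end Groth.Agent.S10236

namespace Groth.Agent.S10236

/-- Let (U, R, s, t, c) be a groupoid scheme over a scheme S with s, t finite locally free and j = (t,
s) an equivalence relation, such that in each nonempty closed subset of U some point has its whole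
equivalence class inside an affine open of U; let U ⟶ M be a finite locally free morphism over S
with R = U ×_M U (the square with t, s cartesian) such that h_M is the quotient of h_U by h_R ⇉ h_U
in fppf sheaves. Then (1) if U ⟶ S is quasi-separated so is M ⟶ S; (2) if U is quasi-separated so is
M; (3) if U ⟶ S is separated so is M ⟶ S; (4) if U is separated so is M. -/
theorem result {S : Scheme.{u}} (G : Grpd.GroupoidScheme S)
    (hs : Mor2.IsFinLocFree G.s) (ht : Mor2.IsFinLocFree G.t)
    (heq : AlgSp.IsEqvRel (Over.homMk G.s G.s_over : Over.mk G.pR ⟶ Over.mk G.pU) (Over.homMk G.t G.t_over : Over.mk G.pR ⟶ Over.mk G.pU))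
    (h3 : ∀ Z : Set ↥G.U, IsClosed Z → Z.Nonempty →
      ∃ u ∈ Z, ∃ W : G.U.Opens, IsAffineOpen W ∧ ∀ r : ↥G.R, G.s r = u → G.t r ∈ W)
    (M : Over S) (m : Over.mk G.pU ⟶ M) (hm : Mor2.IsFinLocFree m.left) (hR : IsPullback G.t G.s m.left m.left)
    (hq : QuotSh.IsQuotient Scheme.fppfPrecoverage (Over.homMk G.s G.s_over : Over.mk G.pR ⟶ Over.mk G.pU) (Over.homMk G.t G.t_over : Over.mk G.pR ⟶ Over.mk G.pU) m) :
    (QuasiSeparated G.pU → QuasiSeparated M.hom) ∧ (QuasiSeparatedSpace ↥G.U → QuasiSeparatedSpace ↥M.left) ∧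
      (IsSeparated G.pU → IsSeparated M.hom) ∧ (G.U.IsSeparated → M.left.IsSeparated) := by
  exact main G hs ht heq h3 M m hm hR hq

end Groth.Agent.S10236
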