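import Groth.Statements.S10242
-- import your own Groth.Agent.* helpers here
import Groth.Agent.S10222

set_option autoImplicit false
universe u
open CategoryTheory CategoryTheory.Limits AlgebraicGeometry Topology TopologicalSpace
open AlgSp

namespace Groth.Agent.S10242

open Groth.Agent.Lib.Helper36.AlgSpHasAt Groth.Agent.Lib.Helper37.AlgSpPoints Opposite

/-- every object of the small etale site of a reduced algebraic space is a reduced scheme -/
theorem isReduced_of_etOver {S : Scheme.{u}} (X : AlgSp.Space S) (hX : AlgSp.IsReducedSp X.obj)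
    (E : AlgSp.EtOver X.obj) : IsReduced E.obj.left.left := by
  have h := (Groth.Agent.S10222.result X).1 hX
  have : ∀ e : ↥E.obj.left.left, _root_.IsReduced ↥(E.obj.left.left.presheaf.stalk e) := by
    intro e
    exact (hasAt_iff_forall_chart isEtaleLocalGerm_isReduced_stalk X.property.atlas
      (Points.ofPt E.obj.hom e)).1 (h _) E.obj.left E.obj.hom e E.property rfl
  exact isReduced_of_isReduced_stalk E.obj.left.left

theorem limit_ext' {S : Scheme.{u}} (X : AlgSp.Space S)
    (x y : ↥(AlgSp.gsectEt (AlgSp.OEt X.obj)))
    (h : ∀ E : AlgSp.EtOver X.obj, (limit.π (AlgSp.OEt X.obj).obj (op E)) x =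
      (limit.π (AlgSp.OEt X.obj).obj (op E)) y) : x = y := by
  apply Concrete.limit_ext
  rintro ⟨E⟩
  exact h E

/-- Let X be a reduced algebraic space over a scheme S. Then the ring of global sections of the
structure sheaf of X (on the small etale site) is reduced, and if a global section f satisfies X =
V(f), meaning that its restriction to every scheme U etale over X has empty non-vanishing locus
D(f|_U), then f = 0. -/
theorem result {S : Scheme.{u}} (X : AlgSp.Space S) (hX : AlgSp.IsReducedSp X.obj) :
    _root_.IsReduced ↥(AlgSp.gsectEt (AlgSp.OEt X.obj)) ∧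
      ∀ f : ↥(AlgSp.gsectEt (AlgSp.OEt X.obj)),
        (∀ E : AlgSp.EtOver X.obj,
            E.obj.left.left.basicOpen ((limit.π (AlgSp.OEt X.obj).obj (Opposite.op E)) f).down = ⊥) →
          f = 0 := by
  constructor
  · constructor
    rintro x ⟨n, hn⟩
    apply limit_ext' X
    intro E
    rw [map_zero]
    have hE := isReduced_of_etOver X hX E
    have h1 : ((limit.π (AlgSp.OEt X.obj).obj (op E)) x) ^ n = 0 := by
      rw [← map_pow, hn, map_zero]
    have h2 : (((limit.π (AlgSp.OEt X.obj).obj (op E)) x).down) ^ n = 0 := congrArg ULift.down h1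
    have hΓ : _root_.IsReduced ↑Γ(E.obj.left.left, ⊤) := inferInstance
    have h3 : ((limit.π (AlgSp.OEt X.obj).obj (op E)) x).down = 0 :=
      hΓ.eq_zero _ ⟨n, h2⟩
    exact ULift.ext _ _ h3
  · intro f hf
    apply limit_ext' X
    intro E
    rw [map_zero]
    have hE := isReduced_of_etOver X hX E
    have h3 : ((limit.π (AlgSp.OEt X.obj).obj (op E)) f).down = 0 :=
      (@basicOpen_eq_bot_iff E.obj.left.left hE ⊤ _).1 (hf E)
    exact ULift.ext _ _ h3

end Groth.Agent.S10242
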