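import Groth.Statements.S10243
import Groth.Agent.Lib.Helper30.EtNbhdSmall

set_option autoImplicit false
universe u
open CategoryTheory CategoryTheory.Limits AlgebraicGeometry Topology TopologicalSpace
open AlgSp

namespace Groth.Agent.S10243

open Groth.Agent.Lib

set_option backward.isDefEq.respectTransparency false in
/-- Let X be an algebraic space over a scheme S and x̄ a geometric point of X. The functor u : X_etale →
Sets sending U to the set of lifts of x̄ to U (the geometric points of U over x̄) defines a point of
the site X_etale; its associated stalk functor is F ↦ F_x̄. Here a point of the site is a fibre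
functor whose category of elements is cofiltered and initially small and which is jointly surjective
on covering sieves. -/
theorem result {S : Scheme.{u}} (X : AlgSp.Space S) (p : AlgSp.FieldPt X.obj)
    (hp : p.IsGeometric) :
    ∃ P : GrothendieckTopology.Point.{u} (AlgSp.etTop X.obj), P.fiber = AlgSp.FieldPt.liftsTo p := by
  have hcof : IsCofiltered (FieldPt.liftsTo p).Elements :=
    Helper4.EtPt.isCofiltered_etNbhd p X.property hp
  have hsmall : InitiallySmall.{u} (FieldPt.liftsTo p).Elements := Groth.Agent.Lib.Helper30.EtNbhdSmall.initiallySmall_etNbhd X p hp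
  refine ⟨{ fiber := FieldPt.liftsTo p, isCofiltered := hcof, initiallySmall := hsmall,
            jointly_surjective := ?_ }, rfl⟩
  intro E R hR x
  obtain ⟨R', hR', hle⟩ := Precoverage.mem_toGrothendieck_iff_of_isStableUnderComposition.1 hR
  obtain ⟨ι, Ui, g, rfl⟩ := R'.exists_eq_ofArrows
  obtain ⟨i, ui, hi⟩ := Helper4.EtPt.exists_lift_of_mem_etPre p hp ⟨E, x⟩ Ui g hR'
  exact ⟨Ui i, g i, hle _ _ (Presieve.ofArrows.mk i), ui, hi⟩

end Groth.Agent.S10243
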