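import Groth.Statements.S10244
import Groth.Agent.Lib.Helper37.AlgSpPoints

set_option autoImplicit false
universe u
open CategoryTheory CategoryTheory.Limits AlgebraicGeometry Topology TopologicalSpace
open AlgSp

namespace Groth.Agent.S10244

open Groth.Agent.Lib.Helper37.AlgSpPoints

/-- Let X be an algebraic space over a scheme S and X_i ⟶ X a family of open subspaces. Then the X_i
form a Zariski covering of X in the sense that for every scheme T and every h_T ⟶ X the open
subschemes T ×_X X_i cover T, if and only if |X| is the union of the |X_i|. -/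
theorem result {S : Scheme.{u}} (X : AlgSp.Space S) {ι : Type u} (Xi : ι → AlgSp.Space S)
    (j : ∀ i, Xi i ⟶ X) (hj : ∀ i, AlgSp.RepWith @IsOpenImmersion (j i).hom) :
    AlgSp.IsZarCover (fun i => (Xi i).obj) (fun i => (j i).hom) ↔
      ∀ (T : Over S) (g : (AlgSp.yon S).obj T ⟶ X.obj) (t : ↥T.left),
        ∃ (i : ι) (P : Over S) (fst : (AlgSp.yon S).obj P ⟶ (Xi i).obj) (snd : P ⟶ T),
          IsPullback fst ((AlgSp.yon S).map snd) (j i).hom g ∧ t ∈ Set.range snd.left := by
  constructor
  · rintro ⟨-, hsurj⟩ T g t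
    obtain ⟨i, xi, hxi⟩ := hsurj (Points.ofPt g t)
    have sq := (hj i).rep.isPullback g
    rw [Points.ofPt_eq_map_ofScheme] at hxi
    obtain ⟨r, -, hr2⟩ := points_exists_of_isPullback sq xi (Points.ofScheme T t) hxi
    refine ⟨i, _, _, _, sq, Points.toScheme _ r, ?_⟩
    apply (Points.schemeEquiv T).injective
    change Points.ofScheme T _ = Points.ofScheme T t
    rw [← hr2, ← ofPt_yon_map, ← Points.ofScheme_toScheme _ r, Points.toScheme_ofScheme,
      Points.ofPt_eq_map_ofScheme]
  · intro h
    refine ⟨hj, fun x => ?_⟩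
    obtain ⟨p, s, rfl⟩ := exists_ofPt_toHom x
    obtain ⟨i, P, fst, snd, sq, r, hr⟩ := h p.pt p.toHom s
    refine ⟨i, Points.ofPt fst r, ?_⟩
    rw [Points.map_ofPt, sq.w, ofPt_map_comp, hr]

end Groth.Agent.S10244
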