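import Groth.Statements.S10245
import Mathlib
import Groth.Agent.S10235
import Groth.Agent.S10236
import Groth.Agent.Lib.Helper19.Grp.ActionPts
import Groth.Agent.Lib.Helper73.EqvSlice.GrpdOfEqvRel

set_option autoImplicit false
universe u
open CategoryTheory CategoryTheory.Limits MonoidalCategory CartesianMonoidalCategory MonObj AlgebraicGeometry Topology TopologicalSpace
open AlgSp

namespace Groth.Agent.S10245
open CategoryTheory CategoryTheory.Limits MonoidalCategory CartesianMonoidalCategory MonObj AlgebraicGeometry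
set_option backward.isDefEq.respectTransparency.types false
set_option maxHeartbeats 400000
open Groth.Agent.Lib.Helper61.GQ Groth.Agent.Lib.Helper19.ActionPts Groth.Agent.Lib.Helper73.EqvGrpd
  Groth.Agent.Lib.Helper5.QuotShK

variable {S : Scheme.{u}} {G X : Over S} [GrpObj G] (a : AlgGrp.Action G X)

theorem isEqvRel_of_free
    (hfree : ∀ (T : Over S) (g : T ⟶ G) (x : T ⟶ X), lift g x ≫ a.act = x → g = toUnit T ≫ η[G]) :
    AlgSp.IsEqvRel (snd G X) a.act := by
  constructor
  · intro T r r' ht hs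
    have hr : r = lift (r ≫ fst G X) (r ≫ snd G X) := by
      apply CartesianMonoidalCategory.hom_ext
      · rw [lift_fst]
      · rw [lift_snd]
    have hr' : r' = lift (r' ≫ fst G X) (r ≫ snd G X) := by
      apply CartesianMonoidalCategory.hom_ext
      · rw [lift_fst]
      · rw [lift_snd, hs]
    have h1 : lift (r ≫ fst G X) (r ≫ snd G X) ≫ a.act =
        lift (r' ≫ fst G X) (r ≫ snd G X) ≫ a.act := by
      rw [← hr, ← hr']; exact ht
    have h2 : lift ((r' ≫ fst G X)⁻¹ * (r ≫ fst G X)) (r ≫ snd G X) ≫ a.act = r ≫ snd G X := by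
      rw [mul_act', h1, ← mul_act', inv_mul_cancel, Hom.one_def]
      exact one_act' a _
    have h3 := hfree T _ _ h2
    have h4 : (r' ≫ fst G X)⁻¹ * (r ≫ fst G X) = 1 := h3.trans (Hom.one_def).symm
    have h5 : r' ≫ fst G X = r ≫ fst G X := inv_mul_eq_one.mp h4
    rw [hr, hr', h5]
  · intro T
    refine ⟨fun x => ⟨lift (toUnit T ≫ η[G]) x, one_act' a x, lift_snd _ _⟩, ?_, ?_⟩
    · rintro x y ⟨r, h1, h2⟩
      obtain ⟨g, rfl⟩ : ∃ g, r = lift g y := ⟨r ≫ fst G X, by
        apply CartesianMonoidalCategory.hom_ext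
        · rw [lift_fst]
        · rw [lift_snd, h2]⟩
      refine ⟨lift g⁻¹ x, ?_, lift_snd _ _⟩
      rw [← h1, ← mul_act', inv_mul_cancel, Hom.one_def]
      exact one_act' a _
    · rintro x y z ⟨r, h1, h2⟩ ⟨r', h3, h4⟩
      obtain ⟨g, rfl⟩ : ∃ g, r = lift g y := ⟨r ≫ fst G X, by
        apply CartesianMonoidalCategory.hom_ext
        · rw [lift_fst]
        · rw [lift_snd, h2]⟩
      obtain ⟨g', rfl⟩ : ∃ g', r' = lift g' z := ⟨r' ≫ fst G X, by
        apply CartesianMonoidalCategory.hom_ext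
        · rw [lift_fst]
        · rw [lift_snd, h4]⟩
      refine ⟨lift (g * g') z, ?_, lift_snd _ _⟩
      rw [mul_act', h3, h1]

section Orbits

variable {S : Scheme.{u}} (𝒢 : Grpd.GroupoidScheme S)

theorem orbit_affineHom [IsAffineHom 𝒢.pU] (x : 𝒢.U) :
    ∃ V : 𝒢.U.Opens, IsAffineOpen V ∧ ∀ r : 𝒢.R, 𝒢.s r = x → 𝒢.t r ∈ V := by
  obtain ⟨_, ⟨S₀, hS₀, rfl⟩, hy, -⟩ :=
    S.isBasis_affineOpens.exists_subset_of_mem_open (Set.mem_univ (𝒢.pU x)) isOpen_univ
  refine ⟨𝒢.pU ⁻¹ᵁ S₀, hS₀.preimage 𝒢.pU, fun r hr => ?_⟩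
  show 𝒢.pU (𝒢.t r) ∈ S₀
  rw [← Scheme.Hom.comp_apply, 𝒢.t_over, ← 𝒢.s_over, Scheme.Hom.comp_apply, hr]
  exact hy

theorem orbit_quasiAffine [IsFinite 𝒢.s] (R : CommRingCat.{u}) (i : 𝒢.U ⟶ Spec R)
    [IsOpenImmersion i] (x : 𝒢.U) :
    ∃ V : 𝒢.U.Opens, IsAffineOpen V ∧ ∀ r : 𝒢.R, 𝒢.s r = x → 𝒢.t r ∈ V := by
  set O : Set (Spec R) := i '' (𝒢.t '' (𝒢.s ⁻¹' {x})) with hO
  have hOfin : O.Finite := ((𝒢.s.finite_preimage_singleton x).image _).image _
  obtain ⟨f, hf1, hf2⟩ := Groth.Agent.S1881.exists_basicOpen_of_finite (isAffineOpen_top (Spec R))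
    i.opensRange O hOfin (fun _ _ => trivial) (by
      rintro _ ⟨y, -, rfl⟩
      exact ⟨y, rfl⟩)
  refine ⟨i ⁻¹ᵁ ((Spec R).basicOpen f),
    ((isAffineOpen_top (Spec R)).basicOpen f).preimage_of_isOpenImmersion i hf1, fun r hr => ?_⟩
  exact hf2 ⟨𝒢.t r, ⟨r, hr, rfl⟩, rfl⟩

theorem orbit_radicial [UniversallyInjective 𝒢.s] (x : 𝒢.U) :
    ∃ V : 𝒢.U.Opens, IsAffineOpen V ∧ ∀ r : 𝒢.R, 𝒢.s r = x → 𝒢.t r ∈ V := by
  obtain ⟨_, ⟨V, hV, rfl⟩, hy, -⟩ :=
    𝒢.U.isBasis_affineOpens.exists_subset_of_mem_open (Set.mem_univ x) isOpen_univ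
  refine ⟨V, hV, fun r hr => ?_⟩
  obtain ⟨h1, h2⟩ := Groth.Agent.S1881.pt_e (G := 𝒢) x
  have : r = 𝒢.e x := 𝒢.s.injective (hr.trans h1.symm)
  rw [this, h2]
  exact hy

end Orbits

theorem main {S : Scheme.{u}} (G X : Over S) [GrpObj G]
    (a : AlgGrp.Action G X) (hG : Mor2.IsFinLocFree G.hom)
    (hfree : ∀ (T : Over S) (g : T ⟶ G) (x : T ⟶ X), lift g x ≫ a.act = x → g = toUnit T ≫ η[G])
    (h3 : IsAffineHom X.hom ∨ (∃ (R : CommRingCat.{u}) (i : X.left ⟶ Spec R), IsOpenImmersion i) ∨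
      UniversallyInjective G.hom) :
    ∃ (M : Over S) (q : X ⟶ M), QuotSh.IsQuotient Scheme.fppfPrecoverage (snd G X) a.act q ∧
      IsPullback a.act.left (snd G X).left q.left q.left ∧
      NonAbH1.IsLocallyTrivialFor Scheme.fppfPrecoverage (Over.mk q.left) := by
  have heq := isEqvRel_of_free a hfree
  obtain ⟨hG1, hG2, hG3⟩ := hG
  haveI := hG1
  haveI := hG2
  haveI := hG3
  have hsfin : IsFinite (grpd heq).s := by
    show IsFinite (snd G X).left
    rw [Over.snd_left]; infer_instance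
  have hsflat : Flat (grpd heq).s := by
    show Flat (snd G X).left
    rw [Over.snd_left]; infer_instance
  have hslfp : LocallyOfFinitePresentation (grpd heq).s := by
    show LocallyOfFinitePresentation (snd G X).left
    rw [Over.snd_left]; infer_instance
  haveI := hsfin
  haveI := hsflat
  haveI := hslfp
  have hs : Mor2.IsFinLocFree (grpd heq).s := ⟨hsfin, hsflat, hslfp⟩
  have ht : Mor2.IsFinLocFree (grpd heq).t :=
    ⟨isFinite_t (grpd heq), flat_t (grpd heq), lfp_t (grpd heq)⟩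
  have haff : ∀ x : (grpd heq).U, ∃ V : (grpd heq).U.Opens, IsAffineOpen V ∧
      ∀ r : (grpd heq).R, (grpd heq).s r = x → (grpd heq).t r ∈ V := by
    intro x
    rcases h3 with h | ⟨R, i, hi⟩ | h
    · haveI : IsAffineHom (grpd heq).pU := h
      exact orbit_affineHom (grpd heq) x
    · haveI : IsOpenImmersion (show (grpd heq).U ⟶ Spec R from i) := hi
      exact orbit_quasiAffine (grpd heq) R i x
    · haveI : UniversallyInjective (grpd heq).s := by
        show UniversallyInjective (snd G X).left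
        rw [Over.snd_left]
        exact MorphismProperty.pullback_snd (P := @UniversallyInjective) _ _ h
      exact orbit_radicial (grpd heq) x
  have h3' : ∀ Z : Set ↥(grpd heq).U, IsClosed Z → Z.Nonempty →
      ∃ u ∈ Z, ∃ W : (grpd heq).U.Opens, IsAffineOpen W ∧
        ∀ r : ↥(grpd heq).R, (grpd heq).s r = u → (grpd heq).t r ∈ W := by
    rintro Z - ⟨z, hz⟩
    obtain ⟨W, hW, hWz⟩ := haff z
    exact ⟨z, hz, W, hW, hWz⟩
  obtain ⟨M, m, hm, hpb, hquot⟩ := Groth.Agent.S10235.main (grpd heq) hs ht heq h3'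
  have hepi := (isKernelPair_of_isQuotient Scheme.fppfPrecoverage _ _ heq m hquot).2
  have hsurj : Function.Surjective m.left :=
    @Groth.Agent.S10236.surjective_of_epi_yonK _ _ _ m hepi
  refine ⟨M, m, hquot, hpb, ?_⟩
  obtain ⟨-, hmflat, hmlfp⟩ := hm
  haveI : Flat m.left := hmflat
  haveI : LocallyOfFinitePresentation m.left := hmlfp
  haveI : Surjective m.left := ⟨hsurj⟩
  refine ⟨Presieve.singleton m.left, Scheme.Hom.singleton_mem_fppfPrecoverage m.left, ?_⟩
  rintro S' f ⟨⟩
  exact ⟨𝟙 _, Category.id_comp _⟩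

end Groth.Agent.S10245

namespace Groth.Agent.S10245

/-- Let G ⟶ S be a finite locally free group scheme over a scheme S acting on a scheme X over S by a : G
×_S X ⟶ X, freely on T-valued points for every S-scheme T. Assume one of the following: the
structure morphism X ⟶ S is affine; X admits an open immersion into some affine scheme; G ⟶ S is
radicial (universally injective). Then the fppf quotient sheaf X/G is a scheme M: there is q : X ⟶ M
over S exhibiting h_M as the quotient of h_X by the projection and the action G ×_S X ⇉ X in fppf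
sheaves; moreover the square formed by the action, the projection and q is cartesian (G ×_S X ≅ X
×_M X) and X ⟶ M has sections fppf locally on M, so that X ⟶ X/G is an fppf G-torsor. (The published
statement also allows X ⟶ S quasi-affine, projective or quasi-projective, or X an open subscheme of
Proj of a graded ring; those cases are not covered by this row.) -/
theorem result {S : Scheme.{u}} (G X : Over S) [GrpObj G]
    (a : AlgGrp.Action G X) (hG : Mor2.IsFinLocFree G.hom)
    (hfree : ∀ (T : Over S) (g : T ⟶ G) (x : T ⟶ X), lift g x ≫ a.act = x → g = toUnit T ≫ η[G])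
    (h3 : IsAffineHom X.hom ∨ (∃ (R : CommRingCat.{u}) (i : X.left ⟶ Spec R), IsOpenImmersion i) ∨
      UniversallyInjective G.hom) :
    ∃ (M : Over S) (q : X ⟶ M), QuotSh.IsQuotient Scheme.fppfPrecoverage (snd G X) a.act q ∧
      IsPullback a.act.left (snd G X).left q.left q.left ∧
      NonAbH1.IsLocallyTrivialFor Scheme.fppfPrecoverage (Over.mk q.left) := by
  exact main G X a hG hfree h3

end Groth.Agent.S10245
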