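import Groth.Statements.S10246
import Groth.Agent.Lib.Helper30.AlgSpAtlas
import Groth.Agent.Lib.Helper30.ClosedPushoutGlobal

set_option autoImplicit false
universe u
open CategoryTheory CategoryTheory.Limits AlgebraicGeometry Topology TopologicalSpace
open AlgSp

namespace Groth.Agent.S10246

open Groth.Agent.Lib.Helper30.AlgSpAtlas Groth.Agent.Lib.Helper30.ClosedPushoutSp

theorem exists_hom_appTop {Y T : Scheme.{u}} [IsAffine T] (ρ : Γ(T, ⊤) ⟶ Γ(Y, ⊤)) :
    ∃ g : Y ⟶ T, g.appTop = ρ := by
  refine ⟨Y.toSpecΓ ≫ Spec.map ρ ≫ T.isoSpec.inv, ?_⟩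
  have h0 : T.isoSpec.hom.appTop = (Scheme.ΓSpecIso Γ(T, ⊤)).hom := T.toSpecΓ_appTop
  have h1 : T.isoSpec.inv.appTop = (Scheme.ΓSpecIso Γ(T, ⊤)).inv := by
    have h2 : T.isoSpec.inv.appTop ≫ T.isoSpec.hom.appTop = 𝟙 _ := by
      rw [← Scheme.Hom.comp_appTop, Iso.hom_inv_id]
      rfl
    rw [h0] at h2
    rw [← cancel_mono (Scheme.ΓSpecIso Γ(T, ⊤)).hom, h2, Iso.inv_hom_id]
  rw [Scheme.Hom.comp_appTop, Scheme.Hom.comp_appTop, h1, Scheme.toSpecΓ_appTop,
    Category.assoc, Scheme.ΓSpecIso_naturality, Iso.inv_hom_id_assoc]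

section

set_option backward.isDefEq.respectTransparency false

variable {S : Scheme.{u}} (X : AlgSp.Space S) (T : Over S)
  (φ : Γ(T.left, ⊤) →+* ↥(AlgSp.gsectEt (AlgSp.OEt X.obj)))

/-- The ring map `Γ(T) → Γ(E, O_E)` induced by `φ`. -/
noncomputable def rho (E : EtOver X.obj) : Γ(T.left, ⊤) →+* Γ(E.obj.left.left, ⊤) :=
  (ULift.ringEquiv : ULift.{u + 1} Γ(E.obj.left.left, ⊤) ≃+* Γ(E.obj.left.left, ⊤)).toRingHom.comp
    (((limit.π (OEt X.obj).obj (Opposite.op E)).hom :
      ↥(gsectEt (OEt X.obj)) →+* ULift.{u + 1} Γ(E.obj.left.left, ⊤)).comp φ)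

theorem rho_apply (E : EtOver X.obj) (r : Γ(T.left, ⊤)) :
    rho X T φ E r = ((limit.π (OEt X.obj).obj (Opposite.op E)) (φ r)).down := rfl

theorem rho_comp {E' E : EtOver X.obj} (m : E' ⟶ E) (r : Γ(T.left, ⊤)) :
    rho X T φ E' r = m.hom.left.left.appTop.hom (rho X T φ E r) := by
  rw [rho_apply, rho_apply]
  have h := limit.w (OEt X.obj).obj m.op
  have h2 := congrArg (fun k => (k.hom (φ r)).down) h
  exact h2.symm

variable (hS : IsTerminal S) [IsAffine T.left]

/-- The morphism `E ⟶ T` over `S` induced by `φ`. -/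
noncomputable def chartHom (E : EtOver X.obj) : E.obj.left ⟶ T :=
  Over.homMk (exists_hom_appTop (CommRingCat.ofHom (rho X T φ E))).choose (hS.hom_ext _ _)

theorem chartHom_appTop (E : EtOver X.obj) :
    (chartHom X T φ hS E).left.appTop = CommRingCat.ofHom (rho X T φ E) :=
  (exists_hom_appTop (CommRingCat.ofHom (rho X T φ E))).choose_spec

theorem chartHom_comp {E' E : EtOver X.obj} (m : E' ⟶ E) :
    m.hom.left ≫ chartHom X T φ hS E = chartHom X T φ hS E' := by
  apply Over.OverMorphism.ext
  apply ext_of_isAffine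
  rw [Over.comp_left, Scheme.Hom.comp_appTop, chartHom_appTop, chartHom_appTop]
  ext r
  exact (rho_comp X T φ m r).symm

/-- A morphism to `h_T` is determined by its effect on global functions. -/
theorem hom_ext_appTop {Y : Over S} (x y : (yon S).obj Y ⟶ (yon S).obj T)
    (h : ((yon S).preimage x).left.appTop = ((yon S).preimage y).left.appTop) : x = y := by
  have : (yon S).preimage x = (yon S).preimage y := by
    apply Over.OverMorphism.ext
    exact ext_of_isAffine h
  rw [← (yon S).map_preimage x, ← (yon S).map_preimage y, this]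

end

set_option backward.isDefEq.respectTransparency false in
/-- Let X be an algebraic space over a terminal base scheme (so that morphisms over the base are all
morphisms) and T an affine scheme. Then f ↦ f♯ is a bijection from morphisms X ⟶ T to ring maps Γ(T,
O_T) ⟶ Γ(X, O_X), where Γ(X, O_X) is the ring of global sections of the structure sheaf on the small
etale site and f♯ is characterised by: for every scheme U etale over X, following f♯ by the
restriction Γ(X, O_X) ⟶ Γ(U, O_U) gives the map on global sections of the induced morphism U ⟶ T. -/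
theorem result {S : Scheme.{u}} (hS : IsTerminal S) (X : AlgSp.Space S)
    (T : Over S) [IsAffine T.left] (φ : Γ(T.left, ⊤) →+* ↥(AlgSp.gsectEt (AlgSp.OEt X.obj))) :
    ∃! f : X.obj ⟶ (AlgSp.yon S).obj T,
      ∀ (E : AlgSp.EtOver X.obj) (r : Γ(T.left, ⊤)),
        ((limit.π (AlgSp.OEt X.obj).obj (Opposite.op E)) (φ r)).down =
          ((AlgSp.yon S).preimage (E.obj.hom ≫ f)).left.appTop r := by
  obtain ⟨A, a, haE, haS⟩ := X.property.atlas
  have hepi : Epi a := epi_of_atlas a haE haS
  obtain ⟨R, s, t, hpb, hsE, htE⟩ := exists_kernelPair a haE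
  let EA : EtOver X.obj := EtOver.mk a haE
  let ER : EtOver X.obj := EtOver.mk ((yon S).map s ≫ a) (repWith_etale_map_comp a haE s hsE)
  let ms : ER ⟶ EA := EtOver.homMk s rfl
  let mt : ER ⟶ EA := EtOver.homMk t hpb.w.symm
  let xA : (yon S).obj A ⟶ (yon S).obj T := (yon S).map (chartHom X T φ hS EA)
  have hst : (yon S).map s ≫ xA = (yon S).map t ≫ xA := by
    change (yon S).map s ≫ (yon S).map _ = (yon S).map t ≫ (yon S).map _
    rw [← Functor.map_comp, ← Functor.map_comp]
    congr 1
    exact (chartHom_comp X T φ hS ms).trans (chartHom_comp X T φ hS mt).symm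
  obtain ⟨f, hf⟩ := exists_desc_of_epi a hpb xA hst
  have key : ∀ E : EtOver X.obj, E.obj.hom ≫ f = (yon S).map (chartHom X T φ hS E) := by
    intro E
    have h1 : (yon S).map (EtOver.prodFst E EA).hom.left ≫ E.obj.hom ≫ f =
        (yon S).map (EtOver.prodFst E EA).hom.left ≫ (yon S).map (chartHom X T φ hS E) := by
      rw [← Category.assoc, EtOver.w, ← EtOver.w (EtOver.prodSnd E EA), Category.assoc]
      change _ ≫ a ≫ f = _
      rw [hf]
      change (yon S).map _ ≫ (yon S).map _ = _
      rw [← Functor.map_comp, ← Functor.map_comp, chartHom_comp, chartHom_comp]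
    have hsurj : Surjective (haS.rep.snd E.obj.hom).left := haS.property_snd E.obj.hom
    refine hom_ext_of_etale_cover (fun _ : PUnit.{u + 1} => (EtOver.prodObj E EA).obj.left)
      (fun _ => (EtOver.prodFst E EA).hom.left) (fun _ => EtOver.etale_left _) ?_ _ _ (fun _ => h1)
    intro z
    obtain ⟨y, hy⟩ := hsurj.surj z
    exact ⟨PUnit.unit, y, hy⟩
  refine ⟨f, ?_, ?_⟩
  · intro E r
    rw [key E, (yon S).preimage_map, chartHom_appTop]
    rfl
  · intro f' hf'
    rw [← cancel_epi a, hf]
    apply hom_ext_appTop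
    change ((yon S).preimage (EA.obj.hom ≫ f')).left.appTop = ((yon S).preimage ((yon S).map _)).left.appTop
    rw [(yon S).preimage_map, chartHom_appTop]
    ext r
    exact (hf' EA r).symm

end Groth.Agent.S10246
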