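import Groth.Statements.S10247
-- import your own Groth.Agent.* helpers here
import Groth.Agent.Lib.Helper36.AlgSpChartDiag

set_option autoImplicit false
universe u
open CategoryTheory CategoryTheory.Limits AlgebraicGeometry Topology TopologicalSpace
open AlgSp

namespace Groth.Agent.S10247

open Groth.Agent.Lib.Helper36.AlgSpChartDiag Opposite

theorem isUnit_of_basicOpen_eq_top {Y : Scheme.{u}} (s : Γ(Y, ⊤)) (h : Y.basicOpen s = ⊤) :
    IsUnit s := by
  apply RingedSpace.isUnit_of_isUnit_germ Y.toRingedSpace ⊤ s
  intro x hx
  have : x ∈ Y.basicOpen s := by rw [h]; trivial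
  exact (Y.mem_basicOpen s x hx).1 this

theorem isUnit_ι_appTop {Y : Scheme.{u}} (f : Γ(Y, ⊤)) :
    IsUnit ((Y.basicOpen f).ι.appTop.hom f) := by
  apply isUnit_of_basicOpen_eq_top
  rw [← Scheme.preimage_basicOpen_top, Scheme.Opens.ι_preimage_self]

variable {S : Scheme.{u}} {X : Sp S}

/-- An open subscheme of an object of the small etale site, as an object of that site. -/
noncomputable def openObj (E : EtOver X) (W : E.obj.left.left.Opens) : EtOver X :=
  EtOver.mk (U := Over.mk (W.ι ≫ E.obj.left.hom))
    ((yon S).map (Over.homMk (U := Over.mk (W.ι ≫ E.obj.left.hom)) (V := E.obj.left) W.ι rfl) ≫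
      E.obj.hom)
    (repWith_yon_map_comp (Over.homMk (U := Over.mk (W.ι ≫ E.obj.left.hom)) (V := E.obj.left) W.ι rfl)
      (by change Etale W.ι; infer_instance) E.obj.hom E.property)

noncomputable def openHom (E : EtOver X) (W : E.obj.left.left.Opens) : openObj E W ⟶ E :=
  EtOver.homMk (Over.homMk (U := Over.mk (W.ι ≫ E.obj.left.hom)) (V := E.obj.left) W.ι rfl) rfl

theorem openHom_left (E : EtOver X) (W : E.obj.left.left.Opens) :
    (openHom E W).hom.left.left = W.ι := rfl

/-- Let X be an algebraic space over a scheme S. Together with its structure sheaf O_X, the small etale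
site of X is a locally ringed site: for every scheme U etale over X and every global function f on U
there is a covering sieve of U in the small etale site along each of whose arrows f or 1 - f pulls
back to a unit, and whenever 0 = 1 holds in the ring of global functions of U the empty sieve covers
U. -/
theorem result {S : Scheme.{u}} (X : AlgSp.Space S) :
    ModSite.IsLocallyRinged (AlgSp.etTop X.obj) (AlgSp.OEt X.obj) := by
  constructor
  · intro E f
    let Y := E.obj.left.left
    let f₀ : Γ(Y, ⊤) := f.down
    let Ws : Bool → Y.Opens := fun b => if b then Y.basicOpen f₀ else Y.basicOpen (1 - f₀)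
    refine ⟨Sieve.ofArrows (fun b => openObj E (Ws b)) (fun b => openHom E (Ws b)), ?_, ?_⟩
    · apply ofArrows_mem_etTop
      intro x
      by_cases hx : x ∈ Y.basicOpen f₀
      · refine ⟨true, ?_⟩
        rw [openHom_left]
        exact (Scheme.Opens.range_ι (Y.basicOpen f₀)).symm ▸ hx
      · refine ⟨false, ?_⟩
        rw [openHom_left]
        refine (Scheme.Opens.range_ι (Y.basicOpen (1 - f₀))).symm ▸ ?_
        change x ∈ Y.basicOpen (1 - f₀)
        rw [Y.mem_basicOpen_top] at hx ⊢
        rw [map_sub, map_one]
        have := IsLocalRing.isUnit_or_isUnit_of_add_one (a := Y.presheaf.germ ⊤ x trivial f₀)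
          (b := 1 - Y.presheaf.germ ⊤ x trivial f₀) (by ring)
        exact this.resolve_left hx
    · intro V g hg
      obtain ⟨b, a, rfl⟩ := (Sieve.mem_ofArrows_iff _ _ _).1 hg
      have hmap : ∀ (r : (OEt X.obj).obj.obj (op E)), IsUnit ((Ws b).ι.appTop.hom r.down) →
          IsUnit (((OEt X.obj).obj.map (a ≫ openHom E (Ws b)).op).hom r) := by
        intro r hr
        rw [op_comp, Functor.map_comp, CommRingCat.hom_comp, RingHom.comp_apply]
        refine IsUnit.map _ ?_
        have : ((OEt X.obj).obj.map (openHom E (Ws b)).op).hom r =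
            ULift.up ((Ws b).ι.appTop.hom r.down) := rfl
        rw [this]
        exact hr.map (ULift.ringEquiv.{u, u + 1}).symm.toRingHom
      cases b with
      | true =>
        left
        exact hmap f (isUnit_ι_appTop f₀)
      | false =>
        right
        exact hmap (1 - f) (isUnit_ι_appTop (1 - f₀))
  · intro E h01
    have h01' : (0 : Γ(E.obj.left.left, ⊤)) = 1 := congrArg ULift.down h01
    have hempty : IsEmpty ↥E.obj.left.left := by
      constructor
      intro x
      have : Nontrivial (E.obj.left.left.presheaf.stalk x) := inferInstance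
      have h2 := congrArg (E.obj.left.left.presheaf.germ ⊤ x trivial).hom h01'
      rw [map_zero, map_one] at h2
      exact zero_ne_one h2
    have := ofArrows_mem_etTop (E := E) (ι := PEmpty.{1}) (fun i => i.elim) (fun i => i.elim)
      (fun x => (hempty.false x).elim)
    convert this
    ext V g
    simp only [Sieve.bot_apply, false_iff]
    rintro ⟨_, _, _, ⟨i⟩, _⟩
    exact i.elim

end Groth.Agent.S10247
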