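import Groth.Statements.S10250
import Groth.Agent.Lib.Helper37.AlgSpDecent
import Groth.Agent.Lib.Helper73.SpecLift

set_option autoImplicit false
universe u
open CategoryTheory CategoryTheory.Limits AlgebraicGeometry Topology TopologicalSpace
open AlgSp

namespace Groth.Agent.S10250

/-- Let f : X ⟶ Y be an etale and surjective morphism of algebraic spaces over a scheme S. Then X and Y
have the same dimension (the dimension of an algebraic space being the supremum of the Krull
dimensions of the schemes etale over it). -/
theorem result {S : Scheme.{u}} {X Y : AlgSp.Space S} (f : X ⟶ Y)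
    (hf : AlgSp.IsEtaleMor f.hom) (hs : AlgSp.IsSurjectiveMor f.hom) :
    AlgSp.dim X.obj = AlgSp.dim Y.obj := by
  open Groth.Agent.Lib.Helper37.AlgSpPoints in
  apply le_antisymm
  · refine iSup_le fun U => iSup_le fun a => iSup_le fun ha => ?_
    exact le_iSup_of_le U (le_iSup_of_le (a ≫ f.hom) (le_iSup_of_le (hf a ha) le_rfl))
  · refine iSup_le fun V => iSup_le fun b => iSup_le fun hb => ?_
    obtain ⟨U₀, p, hpe, hps⟩ := X.property.atlas
    have hq : AlgSp.RepWith @Etale (p ≫ f.hom) := hf p hpe
    have hqs : AlgSp.RepWith @Surjective (p ≫ f.hom) := by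
      refine repWith_surjective_of_ofPt_surjective _ hq.rep fun y => ?_
      obtain ⟨x, rfl⟩ := hs y
      obtain ⟨u, rfl⟩ := ofPt_surjective p hps x
      exact ⟨u, (AlgSp.Points.map_ofPt p f.hom u).symm⟩
    -- W = U₀ ×_Y V
    have sq := hq.rep.isPullback' b
    have h1 : Etale (hq.rep.snd b).left := hq.property_snd b
    have h2 : Surjective (hq.rep.snd b).left := hqs.property _ _ _ (hq.rep.isPullback b)
    have h3 : Etale (hq.rep.fst' b).left := hb.property (p ≫ f.hom) _ _ sq.flip
    have hW : AlgSp.RepWith @Etale ((AlgSp.yon S).map (hq.rep.fst' b) ≫ p) :=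
      (AlgSp.RepWith @Etale).comp_mem _ _ ((AlgSp.repWith_yon_map_iff @Etale _).2 h3) hpe
    have hflat : Flat (hq.rep.snd b).left := inferInstance
    calc topologicalKrullDim ↥V.left
        ≤ topologicalKrullDim ↥(hq.rep.pullback b).left :=
          Groth.Agent.Lib.Helper73.topologicalKrullDim_le_of_generalizingMap h2.surj
            (fun x y' h => Flat.generalizingMap (hq.rep.snd b).left h)
      _ ≤ AlgSp.dim X.obj :=
          le_iSup_of_le _ (le_iSup_of_le _ (le_iSup_of_le hW le_rfl))

end Groth.Agent.S10250
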