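import Groth.Statements.S10254
import Groth.Agent.Lib.Helper37.AlgSpPoints
import Groth.Agent.Lib.Helper4.EtPt

set_option autoImplicit false
universe u
open CategoryTheory CategoryTheory.Limits AlgebraicGeometry Topology TopologicalSpace
open AlgSp

namespace Groth.Agent.S10254

open Groth.Agent.Lib

set_option backward.isDefEq.respectTransparency false in
/-- On the small etale site with scheme objects: let X be an algebraic space over a scheme S, F an
abelian sheaf on the small etale site of X, U an object of that site and σ ∈ F(U). Then there is an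
open subset W of U such that: for every morphism φ : V ⟶ U of the site, σ|_V = 0 if and only if φ
maps V into W (in particular W is the largest open subscheme of U on which σ restricts to zero); and
for every geometric point x̄ of X and every lift ū of x̄ to U, the image of σ in the stalk F_x̄
through the etale neighbourhood (U, ū) vanishes if and only if the point of U under ū lies in W.
(The published statement is for abelian sheaves on the site of algebraic spaces etale over X; this
row is its restriction to the site of schemes etale over X, where V ranges over schemes.) -/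
theorem result {S : Scheme.{u}} (X : AlgSp.Space S) (F : AlgSp.AbEt X.obj)
    (U : AlgSp.EtOver X.obj) (σ : ↥(F.obj.obj (Opposite.op U))) :
    ∃ W : TopologicalSpace.Opens ↥U.obj.left.left,
      (∀ (V : AlgSp.EtOver X.obj) (φ : V ⟶ U),
          (F.obj.map φ.op).hom σ = 0 ↔ Set.range (fun v => φ.hom.left.left v) ⊆ (W : Set ↥U.obj.left.left)) ∧
      (∀ p : AlgSp.FieldPt X.obj, p.IsGeometric → ∀ l : (AlgSp.FieldPt.liftsTo p).obj U,
          (AlgSp.stalkEtι p F ⟨U, l⟩).hom σ = 0 ↔ l.1.left (IsLocalRing.closedPoint p.K) ∈ W) := by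
  have hpres : PreservesFilteredColimitsOfSize.{u, u + 1} (forget AddCommGrpCat.{u + 1}) :=
    preservesFilteredColimitsOfSize_shrink.{u + 1, u + 1, u, u + 1} _
  have hsep : Presheaf.IsSeparated (etTop X.obj) F.obj := Sheaf.isSeparated F
  let Wset : Set ↥U.obj.left.left :=
    {u | ∃ (V : EtOver X.obj) (φ : V ⟶ U), (F.obj.map φ.op).hom σ = 0 ∧
      u ∈ Set.range (fun v => φ.hom.left.left v)}
  have hWopen : IsOpen Wset := by
    rw [isOpen_iff_forall_mem_open]
    rintro u ⟨V, φ, h0, hu⟩
    have hφ : Etale φ.hom.left.left := EtOver.etale_left _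
    exact ⟨Set.range φ.hom.left.left, fun u' hu' => ⟨V, φ, h0, hu'⟩,
      φ.hom.left.left.isOpenMap.isOpen_range, hu⟩
  -- key: membership in W for the image of a lift gives vanishing germ data
  have key : ∀ (p : FieldPt X.obj) (hp : p.IsGeometric) (l : (FieldPt.liftsTo p).obj U),
      l.1.left (IsLocalRing.closedPoint p.K) ∈ Wset →
      ∃ (V' : EtOver X.obj) (φ' : V' ⟶ U) (l' : (FieldPt.liftsTo p).obj V'),
        (F.obj.map φ'.op).hom σ = 0 ∧ (FieldPt.liftsTo p).map φ' l' = l := by
    rintro p hp l ⟨V', φ', h0, v', hv'⟩
    have hy : φ'.hom.left.left v' = l.1.left (default : ↥(Spec (CommRingCat.of p.K))) := by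
      have hy2 : φ'.hom.left.left v' = l.1.left (IsLocalRing.closedPoint p.K) := hv'
      rw [hy2]
      congr 1
      exact Subsingleton.elim (α := ↥(Spec (CommRingCat.of p.K))) _ _
    obtain ⟨l', hl', -⟩ := Helper4.EtPt.exists_lift_of_mem_range p hp φ' l v' hy
    exact ⟨V', φ', l', h0, hl'⟩
  refine ⟨⟨Wset, hWopen⟩, ?_, ?_⟩
  · intro V φ
    constructor
    · rintro h0 _ ⟨v, rfl⟩
      exact ⟨V, φ, h0, v, rfl⟩
    · intro hsub
      let R : Sieve V :=
        { arrows := fun V'' ψ => (F.obj.map (ψ ≫ φ).op).hom σ = 0
          downward_closed := by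
            intro Y Z f hf g
            change (F.obj.map ((g ≫ f) ≫ φ).op).hom σ = 0
            rw [Category.assoc, op_comp, Functor.map_comp]
            change (F.obj.map g.op).hom ((F.obj.map (f ≫ φ).op).hom σ) = 0
            rw [hf, map_zero] }
      have hR : R ∈ etTop X.obj V := by
        apply Helper4.EtPt.mem_etTop_of_forall_lifts
        intro q hq x
        have hx : ((FieldPt.liftsTo q).map φ x).1.left (IsLocalRing.closedPoint q.K) ∈ Wset := by
          apply hsub
          refine ⟨x.1.left (IsLocalRing.closedPoint q.K), ?_⟩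
          rw [FieldPt.liftsTo_map_coe]
          rfl
        obtain ⟨V', φ', l', h0, hl'⟩ := key q hq _ hx
        obtain ⟨w, hw1, hw2⟩ := Helper4.EtPt.exists_lift_pullback q φ φ' x l' hl'.symm
        refine ⟨EtOver.pullbackObj φ φ', EtOver.pullbackFst φ φ', ?_, w, hw1⟩
        change (F.obj.map (EtOver.pullbackFst φ φ' ≫ φ).op).hom σ = 0
        rw [EtOver.pullback_condition, op_comp, Functor.map_comp]
        change (F.obj.map (EtOver.pullbackSnd φ φ').op).hom ((F.obj.map φ'.op).hom σ) = 0
        rw [h0, map_zero]
      refine hsep V R hR _ _ ?_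
      intro Y f hf
      have h1 : (F.obj.map f.op) ((F.obj.map φ.op).hom σ) = (F.obj.map (f ≫ φ).op).hom σ := by
        rw [op_comp, Functor.map_comp]
        rfl
      rw [h1, hf]
      exact (map_zero _).symm
  · intro p hp l
    have hcof : IsCofiltered (EtNbhd p) := Helper4.EtPt.isCofiltered_etNbhd p X.property hp
    have hfil : IsFiltered (EtNbhd p)ᵒᵖ := inferInstance
    constructor
    · intro h0
      let N : EtNbhd p := ⟨U, l⟩
      have e : (colimit.ι (stalkEtDiagram p F) (Opposite.op N)).hom σ =
          (colimit.ι (stalkEtDiagram p F) (Opposite.op N)).hom 0 := by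
        rw [map_zero]
        exact h0
      obtain ⟨⟨N'⟩, f, g, hfg⟩ := Concrete.colimit_exists_of_rep_eq (stalkEtDiagram p F)
        (i := Opposite.op N) (j := Opposite.op N) σ (0 : ↥(F.obj.obj (Opposite.op U))) e
      have h0' : (F.obj.map f.unop.1.op).hom σ = 0 := by
        have : (stalkEtDiagram p F).map g (0 : ↥((stalkEtDiagram p F).obj (Opposite.op N))) = 0 := map_zero _
        exact hfg.trans this
      refine ⟨N'.1, f.unop.1, h0', N'.2.1.left (IsLocalRing.closedPoint p.K), ?_⟩
      have h2 : N'.2.1 ≫ f.unop.1.hom.left = N.2.1 := congrArg Subtype.val f.unop.2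
      have h3 := congrArg (fun k => k.left (IsLocalRing.closedPoint p.K)) h2
      simp only [Over.comp_left, Scheme.Hom.comp_apply] at h3
      exact h3
    · intro hl
      obtain ⟨V', φ', l', h0, hl'⟩ := key p hp l hl
      let N : EtNbhd p := ⟨U, l⟩
      let N' : EtNbhd p := ⟨V', l'⟩
      let m : N' ⟶ N := ⟨φ', hl'⟩
      have hw := colimit.w (stalkEtDiagram p F) m.op
      change (colimit.ι (stalkEtDiagram p F) (Opposite.op N)).hom σ = 0
      rw [← hw]
      change (colimit.ι (stalkEtDiagram p F) (Opposite.op N')).hom ((F.obj.map φ'.op).hom σ) = 0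
      rw [h0, map_zero]

end Groth.Agent.S10254
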