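import Groth.Statements.S10256
import Groth.Agent.Lib.Helper37.AlgSpPoints
import Groth.Agent.Lib.Helper4.EtPt

set_option autoImplicit false
universe u
open CategoryTheory CategoryTheory.Limits AlgebraicGeometry Topology TopologicalSpace
open AlgSp

namespace Groth.Agent.S10256

open Groth.Agent.Lib

set_option backward.isDefEq.respectTransparency false in
/-- Let X be an algebraic space over a scheme S, F an abelian sheaf on the small etale site of X and x ∈
|X|. Then x lies in the support of F, in the sense that the stalk F_x̄ is nonzero for some geometric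
point x̄ over x, if and only if x is the image of a point u of some U etale over X lying in the
support of some section σ ∈ F(U), i.e. such that σ does not restrict to zero on any V ⟶ U whose
image contains u. (The published definition of the support allows any, equivalently some, geometric
point over x; this row uses the existential form and does not assert that the two readings agree.) -/
theorem result {S : Scheme.{u}} (X : AlgSp.Space S) (F : AlgSp.AbEt X.obj)
    (x : AlgSp.Points X.obj) :
    (∃ p : AlgSp.FieldPt X.obj, p.IsGeometric ∧ AlgSp.Points.mk p = x ∧ ¬ IsZero (AlgSp.stalkEt p F)) ↔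
      ∃ (U : AlgSp.EtOver X.obj) (σ : ↥(F.obj.obj (Opposite.op U))) (u : ↥U.obj.left.left),
        AlgSp.Points.ofPt U.obj.hom u = x ∧
          ∀ (V : AlgSp.EtOver X.obj) (φ : V ⟶ U), (F.obj.map φ.op).hom σ = 0 →
            u ∉ Set.range (fun v => φ.hom.left.left v) := by
  have hpres : PreservesFilteredColimitsOfSize.{u, u + 1} (forget AddCommGrpCat.{u + 1}) :=
    preservesFilteredColimitsOfSize_shrink.{u + 1, u + 1, u, u + 1} _
  constructor
  · rintro ⟨p, hp, hpx, hnz⟩
    have hcof : IsCofiltered (EtNbhd p) := Helper4.EtPt.isCofiltered_etNbhd p X.property hp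
    have hfil : IsFiltered (EtNbhd p)ᵒᵖ := inferInstance
    have hnsub : ¬ Subsingleton ↥(stalkEt p F) := fun h =>
      hnz (AddCommGrpCat.isZero_iff_subsingleton.2 h)
    rw [not_subsingleton_iff_nontrivial] at hnsub
    obtain ⟨g, hg⟩ := exists_ne (0 : ↥(stalkEt p F))
    obtain ⟨⟨N⟩, σ, hσ⟩ := Concrete.colimit_exists_rep (stalkEtDiagram p F) g
    refine ⟨N.1, σ, N.2.1.left (IsLocalRing.closedPoint p.K), ?_, ?_⟩
    · rw [← Helper37.AlgSpPoints.ofPt_map_comp, N.2.2, Points.ofPt_toHom, hpx]
    · rintro V φ hφσ ⟨y, hy⟩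
      have hy' : φ.hom.left.left y = N.2.1.left (default : ↥(Spec (CommRingCat.of p.K))) := by
        have hy2 : φ.hom.left.left y = N.2.1.left (IsLocalRing.closedPoint p.K) := hy
        rw [hy2]
        congr 1
        exact Subsingleton.elim (α := ↥(Spec (CommRingCat.of p.K))) _ _
      obtain ⟨ũ, hũ, -⟩ := Helper4.EtPt.exists_lift_of_mem_range p hp φ N.2 y hy'
      let N' : EtNbhd p := ⟨V, ũ⟩
      let m : N' ⟶ N := ⟨φ, hũ⟩
      apply hg
      have hw := colimit.w (stalkEtDiagram p F) m.op
      rw [← hσ, ← hw]
      change (colimit.ι (stalkEtDiagram p F) (Opposite.op N')).hom ((F.obj.map φ.op).hom σ) = 0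
      rw [hφσ, map_zero]
  · rintro ⟨U, σ, u, hu, h⟩
    let p : FieldPt X.obj := Helper4.EtPt.geomPt U u
    have hp : p.IsGeometric := Helper4.EtPt.geomPt_isGeometric U u
    have hcof : IsCofiltered (EtNbhd p) := Helper4.EtPt.isCofiltered_etNbhd p X.property hp
    have hfil : IsFiltered (EtNbhd p)ᵒᵖ := inferInstance
    refine ⟨p, hp, ?_, ?_⟩
    · rw [← Points.ofPt_toHom p (IsLocalRing.closedPoint p.K), ← (Helper4.EtPt.geomPtLift U u).2,
        Helper37.AlgSpPoints.ofPt_map_comp, Helper4.EtPt.geomPtLift_apply, hu]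
    · intro hz
      have hsub : Subsingleton ↥(stalkEt p F) := AddCommGrpCat.isZero_iff_subsingleton.1 hz
      let N : EtNbhd p := ⟨U, Helper4.EtPt.geomPtLift U u⟩
      have e : (colimit.ι (stalkEtDiagram p F) (Opposite.op N)).hom σ =
          (colimit.ι (stalkEtDiagram p F) (Opposite.op N)).hom 0 :=
        Subsingleton.elim _ _
      obtain ⟨⟨N'⟩, f, g, hfg⟩ := Concrete.colimit_exists_of_rep_eq (stalkEtDiagram p F)
        (i := Opposite.op N) (j := Opposite.op N) σ (0 : ↥(F.obj.obj (Opposite.op U))) e
      have h0 : (F.obj.map f.unop.1.op).hom σ = 0 := by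
        have : (stalkEtDiagram p F).map g (0 : ↥((stalkEtDiagram p F).obj (Opposite.op N))) = 0 := map_zero _
        exact hfg.trans this
      apply h N'.1 f.unop.1 h0
      refine ⟨N'.2.1.left (IsLocalRing.closedPoint p.K), ?_⟩
      have h2 : N'.2.1 ≫ f.unop.1.hom.left = N.2.1 := congrArg Subtype.val f.unop.2
      have h3 := congrArg (fun k => k.left (IsLocalRing.closedPoint p.K)) h2
      simp only [Over.comp_left, Scheme.Hom.comp_apply] at h3
      exact h3.trans (Helper4.EtPt.geomPtLift_apply U u _)

end Groth.Agent.S10256
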