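import Groth.Statements.S10257
import Groth.Agent.Lib.Helper37.AlgSpPoints
import Groth.Agent.Lib.Helper4.EtPt

set_option autoImplicit false
universe u
open CategoryTheory CategoryTheory.Limits AlgebraicGeometry Topology TopologicalSpace
open AlgSp

namespace Groth.Agent.S10257

open Groth.Agent.Lib

set_option backward.isDefEq.respectTransparency false in
theorem exists_lift_of_mk_eq {S : Scheme.{u}} {X : Sp S} (q : FieldPt X) (hq : q.IsGeometric)
    (E : EtOver X) (e : ↥E.obj.left.left)
    (h : Points.mk q = Points.ofPt E.obj.hom e) :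
    ∃ ũ : (FieldPt.liftsTo q).obj E, ũ.1.left (IsLocalRing.closedPoint q.K) = e := by
  have hE : RepWith @Etale E.obj.hom := E.property
  have sq := hE.1.isPullback' q.toHom
  have het : Etale (hE.1.snd q.toHom).left := hE.property_snd q.toHom
  have e' : Points.ofPt E.obj.hom e = Points.ofPt q.toHom (IsLocalRing.closedPoint q.K) := by
    rw [Points.ofPt_toHom, h]
  obtain ⟨r, hr1, hr2⟩ :=
    (Helper37.AlgSpPoints.ofPt_eq_ofPt_iff sq e (IsLocalRing.closedPoint q.K)).1 e'
  obtain ⟨l, hl, hlv⟩ := Helper4.EtPt.exists_section_of_etale_surjective q hq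
    (hE.1.snd q.toHom) het r
  refine ⟨⟨l ≫ hE.1.fst' q.toHom, ?_⟩, ?_⟩
  · rw [Functor.map_comp, Category.assoc, sq.w, ← Category.assoc, ← Functor.map_comp,
      hl, CategoryTheory.Functor.map_id, Category.id_comp]
  · change (l ≫ hE.1.fst' q.toHom).left (IsLocalRing.closedPoint q.K) = e
    rw [Over.comp_left, Scheme.Hom.comp_apply]
    have h1 : l.left (IsLocalRing.closedPoint q.K) = r := by
      rw [← hlv]
      congr 1
      exact Subsingleton.elim (α := ↥(Spec (CommRingCat.of q.K))) _ _
    rw [h1, hr1]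

set_option backward.isDefEq.respectTransparency false in
/-- Let X be an algebraic space over a scheme S and O' a sheaf of commutative rings on the small etale
site of X. Then the support of O', the set of points x ∈ |X| such that the stalk O'_x̄ is not the
zero ring for some geometric point x̄ over x, is closed in |X|. (The published definition of the
support allows any, equivalently some, geometric point over x; this row uses the existential form
and does not assert that the two readings agree.) -/
theorem result {S : Scheme.{u}} (X : AlgSp.Space S)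
    (O' : AlgSp.EtSh X.obj CommRingCat.{u + 1}) :
    IsClosed {x : AlgSp.Points X.obj |
      ∃ p : AlgSp.FieldPt X.obj, p.IsGeometric ∧ AlgSp.Points.mk p = x ∧ Nontrivial ↥(AlgSp.stalkEt p O')} := by
  have hpres : PreservesFilteredColimitsOfSize.{u, u + 1} (forget CommRingCat.{u + 1}) :=
    preservesFilteredColimitsOfSize_shrink.{u + 1, u + 1, u, u + 1} _
  obtain ⟨A, a, haE, haS⟩ := X.property.atlas
  rw [← isOpen_compl_iff, ← (Helper37.AlgSpPoints.isQuotientMap_ofPt a haE haS).isOpen_preimage,
    isOpen_iff_forall_mem_open]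
  intro a₀ ha₀
  let E : EtOver X.obj := EtOver.mk a haE
  let p : FieldPt X.obj := Helper4.EtPt.geomPt E a₀
  have hp : p.IsGeometric := Helper4.EtPt.geomPt_isGeometric E a₀
  have hcof : IsCofiltered (EtNbhd p) := Helper4.EtPt.isCofiltered_etNbhd p X.property hp
  have hfil : IsFiltered (EtNbhd p)ᵒᵖ := inferInstance
  have hpx : Points.mk p = Points.ofPt a a₀ := by
    rw [← Points.ofPt_toHom p (IsLocalRing.closedPoint p.K), ← (Helper4.EtPt.geomPtLift E a₀).2,
        Helper37.AlgSpPoints.ofPt_map_comp, Helper4.EtPt.geomPtLift_apply]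
    rfl
  have htriv : ¬ Nontrivial ↥(stalkEt p O') := fun hn => ha₀ ⟨p, hp, hpx, hn⟩
  rw [not_nontrivial_iff_subsingleton] at htriv
  let N : EtNbhd p := ⟨E, Helper4.EtPt.geomPtLift E a₀⟩
  have e : (colimit.ι (stalkEtDiagram p O') (Opposite.op N)).hom (1 : ↥(O'.obj.obj (Opposite.op E))) =
      (colimit.ι (stalkEtDiagram p O') (Opposite.op N)).hom 0 := Subsingleton.elim _ _
  obtain ⟨⟨N'⟩, f, g, hfg⟩ := Concrete.colimit_exists_of_rep_eq (stalkEtDiagram p O')
        (i := Opposite.op N) (j := Opposite.op N) (1 : ↥(O'.obj.obj (Opposite.op E)))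
        (0 : ↥(O'.obj.obj (Opposite.op E))) e
  have h10 : (1 : ↥(O'.obj.obj (Opposite.op N'.1))) = 0 := by
    have h1 : (stalkEtDiagram p O').map f (1 : ↥((stalkEtDiagram p O').obj (Opposite.op N))) = 1 :=
      map_one _
    have h2 : (stalkEtDiagram p O').map g (0 : ↥((stalkEtDiagram p O').obj (Opposite.op N))) = 0 :=
      map_zero _
    exact h1.symm.trans (hfg.trans h2)
  have hφ : Etale f.unop.1.hom.left.left := EtOver.etale_left _
  refine ⟨Set.range f.unop.1.hom.left.left, ?_, ?_, ?_⟩
  · rintro a₁ ⟨y, rfl⟩ ⟨q, hq, hqx, hn⟩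
    have hy : Points.ofPt a (f.unop.1.hom.left.left y) = Points.ofPt N'.1.obj.hom y := by
      have hw : (yon S).map f.unop.1.hom.left ≫ a = N'.1.obj.hom := EtOver.w f.unop.1
      rw [← hw, Helper37.AlgSpPoints.ofPt_map_comp]
    obtain ⟨ũ, hũ⟩ := exists_lift_of_mk_eq q hq N'.1 y (hqx.trans hy)
    let M : EtNbhd q := ⟨N'.1, ũ⟩
    have h1 : (1 : ↥(stalkEt q O')) = 0 := by
      have := congrArg (colimit.ι (stalkEtDiagram q O') (Opposite.op M)).hom h10
      rw [map_one, map_zero] at this
      exact this
    exact one_ne_zero h1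
  · exact f.unop.1.hom.left.left.isOpenMap.isOpen_range
  · refine ⟨N'.2.1.left (IsLocalRing.closedPoint p.K), ?_⟩
    have h2 : N'.2.1 ≫ f.unop.1.hom.left = N.2.1 := congrArg Subtype.val f.unop.2
    have h3 := congrArg (fun k => k.left (IsLocalRing.closedPoint p.K)) h2
    simp only [Over.comp_left, Scheme.Hom.comp_apply] at h3
    exact h3.trans (Helper4.EtPt.geomPtLift_apply E a₀ _)

end Groth.Agent.S10257
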