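import Groth.Statements.S10263
-- import your own Groth.Agent.* helpers here
import Groth.Agent.Lib.Helper36.AlgSpCharts

set_option autoImplicit false
universe u
open CategoryTheory CategoryTheory.Limits AlgebraicGeometry
open AlgSp

namespace Groth.Agent.S10263

open Groth.Agent.Lib.Helper36.AlgSpCharts

/-- If the composite X -> Y -> Z is unramified then X -> Y is unramified. -/
theorem result {S : Scheme.{u}} {X Y Z : AlgSp.Space S} (f : X ⟶ Y) (g : Y ⟶ Z)
    (h : AlgSp.LocP (@LocallyOfFiniteType ⊓ @FormallyUnramified) (f ≫ g).hom) :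
    AlgSp.LocP (@LocallyOfFiniteType ⊓ @FormallyUnramified) f.hom := by
  intro U V a b k ha hb w
  obtain ⟨W, c, hce, hcs⟩ := Z.property.atlas
  obtain ⟨W1, p1, p2, sq⟩ := exists_isPullback_yon (b ≫ g.hom) c hce.rep
  have hp1e : Etale p1.left := prop_fst_of_isPullback sq hce
  have hp1s : Surjective p1.left := prop_fst_of_isPullback sq hcs
  -- the scheme-level pullback
  have sq2 := IsPullback.of_hasPullback k p1
  have sq2' : IsPullback (pullback.fst k p1).left (pullback.snd k p1).left k.left p1.left :=
    sq2.map (Over.forget S)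
  have hq1 : Etale (pullback.fst k p1).left := MorphismProperty.of_isPullback sq2'.flip hp1e
  have ha' : RepWith @Etale ((yon S).map (pullback.fst k p1) ≫ a) :=
    MorphismProperty.comp_mem _ _ _ ((repWith_yon_map_iff _ _).2 hq1) ha
  have key := h ((yon S).map (pullback.fst k p1) ≫ a) c (pullback.snd k p1 ≫ p2) ha' hce (by
    change _ ≫ f.hom ≫ g.hom = _
    rw [Category.assoc, reassoc_of% w, ← Functor.map_comp_assoc, sq2.w, Functor.map_comp_assoc,
      sq.w, Functor.map_comp_assoc])
  rw [Over.comp_left] at key
  have h1 : LocallyOfFiniteType (pullback.snd k p1).left :=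
    have := key.1
    locallyOfFiniteType_of_comp (pullback.snd k p1).left p2.left
  have h2 : FormallyUnramified (pullback.snd k p1).left :=
    have := key.2
    FormallyUnramified.of_comp (pullback.snd k p1).left p2.left
  exact MorphismProperty.of_isPullback_of_descendsAlong
    (P := @LocallyOfFiniteType ⊓ @FormallyUnramified)
    (Q := @Surjective ⊓ @Flat ⊓ @LocallyOfFinitePresentation) sq2'.flip
    ⟨⟨hp1s, inferInstance⟩, inferInstance⟩ ⟨h1, h2⟩

end Groth.Agent.S10263
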