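import Groth.Statements.S10264
-- import your own Groth.Agent.* helpers here
import Groth.Agent.Lib.Helper36.AlgSpCharts

set_option autoImplicit false
universe u
open CategoryTheory CategoryTheory.Limits AlgebraicGeometry
open AlgSp

namespace Groth.Agent.S10264

open Groth.Agent.Lib.Helper36.AlgSpCharts

/-- An immersion of algebraic spaces is unramified. -/
theorem result {S : Scheme.{u}} {X Y : AlgSp.Space S} (i : X ⟶ Y)
    (hi : AlgSp.RepWith @IsImmersion i.hom) :
    AlgSp.LocP (@LocallyOfFiniteType ⊓ @FormallyUnramified) i.hom := by
  intro U V a b h ha hb w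
  have sq := hi.rep.isPullback b
  have hj : IsImmersion (hi.rep.snd b).left := hi.property_snd b
  have ht : RepWith @Etale (hi.rep.fst b) :=
    MorphismProperty.of_isPullback sq.flip hb
  obtain ⟨k', hk1, hk2⟩ := sq.exists_lift a ((yon S).map h) w
  obtain ⟨k, rfl⟩ := (yon S).map_surjective k'
  have hk : Etale k.left := etale_of_comp_eq a (hi.rep.fst b) k ha ht hk1
  have e : k ≫ hi.rep.snd b = h := (yon S).map_injective (by simpa using hk2)
  rw [← e, Over.comp_left]
  have : FormallyUnramified (hi.rep.snd b).left := inferInstance
  have hku : FormallyUnramified k.left := inferInstance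
  exact ⟨inferInstance, MorphismProperty.comp_mem _ _ _ hku this⟩

end Groth.Agent.S10264
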