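import Groth.Statements.S10266
-- import your own Groth.Agent.* helpers here
import Groth.Agent.Lib.Helper36.AlgSpCharts

set_option autoImplicit false
universe u
open CategoryTheory CategoryTheory.Limits AlgebraicGeometry
open AlgSp

namespace Groth.Agent.S10266

open Groth.Agent.Lib.Helper36.AlgSpCharts

/-- A morphism of algebraic spaces that is locally of finite presentation, flat and unramified is etale. -/
theorem result {S : Scheme.{u}} {X Y : AlgSp.Space S} (f : X ⟶ Y)
    (h1 : AlgSp.LocP @LocallyOfFinitePresentation f.hom) (h2 : AlgSp.LocP @Flat f.hom)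
    (h3 : AlgSp.LocP (@LocallyOfFiniteType ⊓ @FormallyUnramified) f.hom) :
    AlgSp.IsEtaleMor f.hom := by
  have h : LocP @Etale f.hom := by
    intro U V a b k ha hb w
    have := h1 a b k ha hb w
    have := h2 a b k ha hb w
    have := (h3 a b k ha hb w).2
    exact Etale.of_formallyUnramified_of_flat _
  intro U φ hφ
  exact repWith_comp_of_locP Y.property f.hom h φ hφ

end Groth.Agent.S10266
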