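import Groth.Statements.S10269
import Groth.Agent.Lib.Helper30.EtLocalInst
import Groth.Agent.Lib.Helper46.LocPChart

set_option autoImplicit false
universe u
open CategoryTheory CategoryTheory.Limits AlgebraicGeometry
open AlgSp

namespace Groth.Agent.S10269

/-- A finite morphism of algebraic spaces is integral; an integral morphism locally of finite type is
finite. -/
theorem result {S : Scheme.{u}} {X Y : AlgSp.Space S} (f : X ⟶ Y) :
    (AlgSp.IsFiniteMor f.hom → AlgSp.IsIntegralMor f.hom) ∧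
    (AlgSp.IsIntegralMor f.hom → AlgSp.LocP @LocallyOfFiniteType f.hom → AlgSp.IsFiniteMor f.hom) := by
  refine ⟨fun hf Z hZ g => ?_, fun hf hlft Z hZ g => ?_⟩
  · obtain ⟨W, i, fst, sq, hW, hfin⟩ := hf hZ g
    exact ⟨W, i, fst, sq, hW, inferInstance⟩
  · obtain ⟨W, i, fst, sq, hW, hint⟩ := hf hZ g
    refine ⟨W, i, fst, sq, hW, ?_⟩
    rw [IsFinite.iff_isIntegralHom_and_locallyOfFiniteType]
    refine ⟨hint, ?_⟩
    exact Groth.Agent.Lib.Helper46.LocPChart.locP_fibre
      Groth.Agent.Lib.Helper30.EtLocalInst.etLocal_lft X.property Y.property f.hom hlft g fst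
      ((AlgSp.yon S).map i) sq (𝟙 _) (AlgSp.repWith_id _ W) i (by simp)

end Groth.Agent.S10269
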