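import Groth.Statements.S10270
import Groth.Agent.Lib.Helper12.AlgSpPoints2
import Mathlib.AlgebraicGeometry.Morphisms.Integral
import Mathlib.CategoryTheory.Limits.Constructions.Over.Connected

set_option autoImplicit false
universe u
open CategoryTheory CategoryTheory.Limits AlgebraicGeometry
open AlgSp

namespace Groth.Agent.S10270

open Groth.Agent.Lib.Helper12.AlgSpPoints

theorem isClosedMap_of_yon {S : Scheme.{u}} {T T' : Over S} (φ : T ⟶ T')
    (h : IsClosedMap (Points.map ((yon S).map φ))) : IsClosedMap φ.left := by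
  have : (fun t => φ.left t) = (Points.schemeHomeo T').symm ∘ Points.map ((yon S).map φ) ∘
      (Points.schemeHomeo T) := by
    funext t
    simp only [Function.comp_apply, Points.map_yon_map_apply, Homeomorph.symm_apply_apply]
  change IsClosedMap (fun t => φ.left t)
  rw [this]
  exact ((Points.schemeHomeo T').symm.isClosedMap).comp (h.comp (Points.schemeHomeo T).isClosedMap)

theorem univClosed_of_isUnivClosedMor {S : Scheme.{u}} {F G : Sp S} (f : F ⟶ G)
    (huc : IsUnivClosedMor f) {W Z : Over S} (i : W ⟶ Z) (fst : (yon S).obj W ⟶ F)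
    (g : (yon S).obj Z ⟶ G) (sq : IsPullback fst ((yon S).map i) f g) : UniversallyClosed i.left := by
  constructor
  intro X' Y' i₁ i₂ f' sq'
  let Y'o : Over S := Over.mk (i₂ ≫ Z.hom)
  let X'o : Over S := Over.mk (f' ≫ i₂ ≫ Z.hom)
  let f'o : X'o ⟶ Y'o := Over.homMk f' rfl
  let i₂o : Y'o ⟶ Z := Over.homMk i₂ rfl
  have hw : i₁ ≫ W.hom = f' ≫ i₂ ≫ Z.hom := by
    rw [← Over.w i, ← Category.assoc, ← sq'.w, Category.assoc]
  let i₁o : X'o ⟶ W := Over.homMk i₁ hw
  have sqO : IsPullback f'o i₁o i₂o i := by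
    apply IsPullback.of_map (Over.forget S)
    · ext
      exact sq'.w
    · exact sq'
  have sqY := (sqO.map (yon S)).flip
  have hp := sqY.paste_horiz sq
  have := huc (IsAlgSpace.yon_obj Y'o) _ _ _ hp
  exact isClosedMap_of_yon f'o this

theorem result {S : Scheme.{u}} {X Y : AlgSp.Space S} (f : X ⟶ Y) :
    AlgSp.IsIntegralMor f.hom ↔ (AlgSp.IsAffineMor f.hom ∧ AlgSp.IsUnivClosedMor f.hom) := by
  constructor
  · intro hint
    refine ⟨?_, ?_⟩
    · intro Z hZ g
      obtain ⟨W, i, fst, sq, hW, _⟩ := hint hZ g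
      exact ⟨W, i, fst, sq, hW⟩
    · intro Z Z' hZ g fst snd sq
      apply Points.isClosedMap_of_affine_charts
      intro V hV h
      obtain ⟨W, i, fstW, sqW, hWaff, hi⟩ := hint hV (h ≫ g)
      have hcomm : fstW ≫ f.hom = ((yon S).map i ≫ h) ≫ g := by rw [sqW.w, Category.assoc]
      refine ⟨W, i, sq.lift fstW ((yon S).map i ≫ h) hcomm, ?_, ?_⟩
      · refine IsPullback.of_right ?_ (sq.lift_snd _ _ _) sq
        rw [sq.lift_fst]
        exact sqW
      · exact i.left.isClosedMap
  · rintro ⟨haff, huc⟩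
    intro Z hZ g
    obtain ⟨W, i, fst, sq, hW⟩ := haff hZ g
    refine ⟨W, i, fst, sq, hW, ?_⟩
    rw [IsIntegralHom.iff_universallyClosed_and_isAffineHom]
    exact ⟨univClosed_of_isUnivClosedMor f.hom huc i fst g sq, inferInstance⟩

end Groth.Agent.S10270
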