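import Groth.Statements.S10272
import Mathlib.AlgebraicGeometry.Morphisms.Finite
import Mathlib.AlgebraicGeometry.Morphisms.Integral

set_option autoImplicit false
universe u
open CategoryTheory CategoryTheory.Limits AlgebraicGeometry
open AlgSp

namespace Groth.Agent.S10272

universe v w

theorem isPullback_of_diagonal {C : Type w} [Category.{v} C] [HasPullbacks C] {X Y Z T W W' : C}
    (f : X ⟶ Y) (g : Y ⟶ Z) (h : T ⟶ Y) (i : W ⟶ T) (fstW : W ⟶ X)
    (sqW : IsPullback fstW i (f ≫ g) (h ≫ g)) (j : W' ⟶ W) (fst' : W' ⟶ Y)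
    (hd : (fstW ≫ f) ≫ g = (i ≫ h) ≫ g)
    (sq' : IsPullback fst' j (pullback.diagonal g) (pullback.lift (fstW ≫ f) (i ≫ h) hd)) :
    IsPullback (j ≫ fstW) (j ≫ i) f h := by
  have hfst' : fst' = j ≫ fstW ≫ f := by
    have := congrArg (· ≫ pullback.fst g g) sq'.w
    simp only [Category.assoc, pullback.diagonal_fst, Category.comp_id, pullback.lift_fst] at this
    exact this
  have hj : j ≫ fstW ≫ f = j ≫ i ≫ h := by
    have := congrArg (· ≫ pullback.snd g g) sq'.w
    simp only [Category.assoc, pullback.diagonal_snd, Category.comp_id, pullback.lift_snd] at this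
    rw [← hfst', this]
  refine ⟨⟨by simp only [Category.assoc]; exact hj⟩, ⟨?_⟩⟩
  refine PullbackCone.IsLimit.mk _ (fun s => sq'.lift (sqW.lift s.fst s.snd (by
      simp only [← Category.assoc, s.condition]) ≫ fstW ≫ f)
      (sqW.lift s.fst s.snd (by simp only [← Category.assoc, s.condition])) ?_) ?_ ?_ ?_
  · apply pullback.hom_ext
    · simp only [Category.assoc, pullback.diagonal_fst, Category.comp_id, pullback.lift_fst]
    · simp only [Category.assoc, pullback.diagonal_snd, Category.comp_id, pullback.lift_snd]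
      rw [← Category.assoc, sqW.lift_fst, ← Category.assoc, sqW.lift_snd, s.condition]
  · intro s
    rw [← Category.assoc, sq'.lift_snd, sqW.lift_fst]
  · intro s
    rw [← Category.assoc, sq'.lift_snd, sqW.lift_snd]
  · intro s m h1 h2
    apply sq'.hom_ext
    · rw [sq'.lift_fst, hfst']
      have : m ≫ j = sqW.lift s.fst s.snd (by simp only [← Category.assoc, s.condition]) := by
        apply sqW.hom_ext
        · rw [sqW.lift_fst, Category.assoc, h1]
        · rw [sqW.lift_snd, Category.assoc, h2]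
      rw [← this]
      simp only [Category.assoc]
    · rw [sq'.lift_snd]
      apply sqW.hom_ext
      · rw [sqW.lift_fst, Category.assoc, h1]
      · rw [sqW.lift_snd, Category.assoc, h2]

theorem result {S : Scheme.{u}} {X Y Z : AlgSp.Space S} (f : X ⟶ Y) (g : Y ⟶ Z)
    (hg : AlgSp.IsSeparatedMor g.hom) :
    (AlgSp.IsFiniteMor (f ≫ g).hom → AlgSp.IsFiniteMor f.hom) ∧
    (AlgSp.IsIntegralMor (f ≫ g).hom → AlgSp.IsIntegralMor f.hom) := by
  have key : ∀ (T : Over S) (h : (yon S).obj T ⟶ Y.obj) (W : Over S) (i : W ⟶ T)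
      (fstW : (yon S).obj W ⟶ X.obj), IsPullback fstW ((yon S).map i) (f ≫ g).hom (h ≫ g.hom) →
      ∃ (W' : Over S) (j : W' ⟶ W), IsClosedImmersion j.left ∧
        IsPullback ((yon S).map j ≫ fstW) ((yon S).map (j ≫ i)) f.hom h := by
    intro T h W i fstW sqW
    have sqW' : IsPullback fstW ((yon S).map i) (f.hom ≫ g.hom) (h ≫ g.hom) := sqW
    have hd : (fstW ≫ f.hom) ≫ g.hom = ((yon S).map i ≫ h) ≫ g.hom := by
      simp only [Category.assoc]; exact sqW'.w
    obtain ⟨W', j, fst', sq'⟩ := hg.1 (pullback.lift (fstW ≫ f.hom) ((yon S).map i ≫ h) hd)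
    refine ⟨W', j, hg.2 _ _ _ sq', ?_⟩
    rw [Functor.map_comp]
    exact isPullback_of_diagonal f.hom g.hom h ((yon S).map i) fstW sqW' ((yon S).map j) fst' hd sq'
  constructor
  · intro hfin T hT h
    obtain ⟨W, i, fstW, sqW, hWaff, hifin⟩ := hfin hT (h ≫ g.hom)
    obtain ⟨W', j, hj, sq⟩ := key T h W i fstW sqW
    refine ⟨W', j ≫ i, _, sq, ?_, ?_⟩
    · exact isAffine_of_isAffineHom j.left
    · change IsFinite (j.left ≫ i.left)
      infer_instance
  · intro hint T hT h
    obtain ⟨W, i, fstW, sqW, hWaff, hiint⟩ := hint hT (h ≫ g.hom)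
    obtain ⟨W', j, hj, sq⟩ := key T h W i fstW sqW
    refine ⟨W', j ≫ i, _, sq, ?_, ?_⟩
    · exact isAffine_of_isAffineHom j.left
    · change IsIntegralHom (j.left ≫ i.left)
      infer_instance

end Groth.Agent.S10272
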