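import Groth.Statements.S10275
-- import your own Groth.Agent.* helpers here
import Groth.Agent.Lib.Helper30.EtLocalInst
import Groth.Agent.Lib.Helper46.LocPChart
import Groth.Agent.Lib.Helper23.AlgSpClosed5
import Groth.Agent.Lib.Helper37.ValuativeClosed

set_option autoImplicit false
universe u
open CategoryTheory CategoryTheory.Limits AlgebraicGeometry
open AlgSp

namespace Groth.Agent.S10275

/-- Separatedness is stable under base change (sheaf level). -/
theorem isSeparatedMor_of_isPullback {S : Scheme.{u}} {X Y Y' X' : AlgSp.Sp S} {f : X ⟶ Y}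
    {g : Y' ⟶ Y} {fst : X' ⟶ X} {f' : X' ⟶ Y'} (sq : IsPullback fst f' f g)
    (hf : AlgSp.IsSeparatedMor f) : AlgSp.IsSeparatedMor f' := by
  have : (RepWith (S := S) @IsClosedImmersion).RespectsIso :=
    MorphismProperty.IsStableUnderBaseChange.respectsIso
  exact MorphismProperty.of_isPullback (P := (RepWith (S := S) @IsClosedImmersion).diagonal)
    sq hf

/-- Properness is stable under base change (unbundled form). -/
theorem isProperMor_of_isPullback {S : Scheme.{u}} {X Y Y' X' : AlgSp.Sp S}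
    (hX : IsAlgSpace X) (hY : IsAlgSpace Y) (hX' : IsAlgSpace X') (hY' : IsAlgSpace Y')
    {f : X ⟶ Y} {g : Y' ⟶ Y}
    {fst : X' ⟶ X} {f' : X' ⟶ Y'} (sq : IsPullback fst f' f g) (hf : AlgSp.IsProperMor f) :
    AlgSp.IsProperMor f' := by
  obtain ⟨h1, ⟨h2, h3⟩, h4⟩ := hf
  refine ⟨isSeparatedMor_of_isPullback sq h1, ⟨?_, ?_⟩, ?_⟩
  · exact Groth.Agent.Lib.Helper46.LocPChart.locP_of_isPullback
      Groth.Agent.Lib.Helper30.EtLocalInst.etLocal_lft hX hY hX' hY' sq h2
  · exact Groth.Agent.Lib.Helper37.ValuativeClosed.isQuasiCompactMor_of_isPullback sq h3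
  · exact Groth.Agent.Lib.Helper23.AlgSpMor.isUnivClosedMor_of_isPullback sq h4

/-- A base change of a proper morphism of algebraic spaces is proper. -/
theorem result {S : Scheme.{u}} {X Y Y' X' : AlgSp.Space S} (f : X ⟶ Y) (g : Y' ⟶ Y)
    (fst : X' ⟶ X) (f' : X' ⟶ Y') (sq : IsPullback fst.hom f'.hom f.hom g.hom) (hf : AlgSp.IsProperMor f.hom) :
    AlgSp.IsProperMor f'.hom := by
  exact isProperMor_of_isPullback X.property Y.property X'.property Y'.property sq hf

end Groth.Agent.S10275
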