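import Groth.Statements.S10273
-- import your own Groth.Agent.* helpers here
import Groth.Agent.S10275
import Groth.Agent.Lib.Helper23.AlgSpMor6

set_option autoImplicit false
universe u
open CategoryTheory CategoryTheory.Limits AlgebraicGeometry
open AlgSp

namespace Groth.Agent.S10273

open Groth.Agent.Lib.Helper23.AlgSpMor

/-- Properness can be tested after base change to affine schemes (unbundled form). -/
theorem isProperMor_iff_affine {S : Scheme.{u}} {X Y : AlgSp.Sp S} (hX : IsAlgSpace X)
    (hY : IsAlgSpace Y) (f : X ⟶ Y) :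
    AlgSp.IsProperMor f ↔
      ∀ (Z : Over S), IsAffine Z.left → ∀ (g : (AlgSp.yon S).obj Z ⟶ Y) (P : AlgSp.Sp S) (fst : P ⟶ X)
        (snd : P ⟶ (AlgSp.yon S).obj Z), IsPullback fst snd f g → AlgSp.IsProperMor snd := by
  constructor
  · intro hf Z hZ g P fst snd sq
    have hP : IsAlgSpace P := isAlgSpace_of_isPullback hX (IsAlgSpace.yon_obj Z) hY.diag sq
    exact Groth.Agent.S10275.isProperMor_of_isPullback hX hY hP (IsAlgSpace.yon_obj Z) sq hf
  · intro H
    refine ⟨?_, ⟨?_, ?_⟩, ?_⟩
    · exact (separation_iff_affine_base_change hX f).1.2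
        fun Z hZ g P fst snd sq => (H Z hZ g P fst snd sq).1
    · exact Groth.Agent.Lib.Helper46.LocPChart.locP_of_affine
        Groth.Agent.Lib.Helper30.EtLocalInst.etLocal_lft hX hY f
        fun Z hZ gz => (H Z hZ gz _ _ _ (IsPullback.of_hasPullback f gz)).2.1.1
    · refine (isQuasiCompactMor_iff_affine hX hY f).2 fun Z hZ g P fst snd sq => ?_
      have hq := (H Z hZ g P fst snd sq).2.1.2
      exact hq (IsAlgSpace.yon_obj Z) (isQuasiCompactSp_yon_of_isAffine Z) (𝟙 _) (𝟙 P) snd
        IsPullback.of_id_fst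
    · refine (isUnivClosedMor_iff_affine f).2 fun Z hZ g P fst snd sq => ?_
      have hc := (H Z hZ g P fst snd sq).2.2
      exact hc (IsAlgSpace.yon_obj Z) (𝟙 _) (𝟙 P) snd IsPullback.of_id_fst

/-- (1) ⇔ (3): properness of a morphism of algebraic spaces can be tested after base change to affine
schemes over the target. -/
theorem result {S : Scheme.{u}} {X Y : AlgSp.Space S} (f : X ⟶ Y) :
    AlgSp.IsProperMor f.hom ↔
      ∀ (Z : Over S), IsAffine Z.left → ∀ (g : (AlgSp.yon S).obj Z ⟶ Y.obj) (P : AlgSp.Sp S) (fst : P ⟶ X.obj)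
        (snd : P ⟶ (AlgSp.yon S).obj Z), IsPullback fst snd f.hom g → AlgSp.IsProperMor snd := by
  exact isProperMor_iff_affine X.property Y.property f.hom

end Groth.Agent.S10273
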