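import Groth.Statements.S10274
-- import your own Groth.Agent.* helpers here
import Groth.Agent.S10275
import Groth.Agent.Lib.Helper23.AlgSpMor9
import Groth.Agent.Lib.Helper23.AlgSpClosed5

set_option autoImplicit false
universe u
open CategoryTheory CategoryTheory.Limits AlgebraicGeometry
open AlgSp

namespace Groth.Agent.S10274

open Groth.Agent.Lib.Helper23.AlgSpMor

/-- A representable étale morphism of sheaves is universally open. -/
theorem isUnivOpenMor_of_repWith_etale {S : Scheme.{u}} {X Y : AlgSp.Sp S} (p : X ⟶ Y)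
    (hp : RepWith @Etale p) : IsUnivOpenMor p :=
  isUnivOpenMor_of_repWith p
    (MorphismProperty.relative_monotone (fun _ _ g hg => by
      have : Etale g.left := hg
      exact (inferInstance : UniversallyOpen g.left)) _ hp)

/-- Properness descends along a surjective étale base change from a scheme (unbundled form). -/
theorem isProperMor_of_etale_cover {S : Scheme.{u}} {X Y : AlgSp.Sp S} (hX : IsAlgSpace X)
    (hY : IsAlgSpace Y) (f : X ⟶ Y) (V : Over S)
    (p : (AlgSp.yon S).obj V ⟶ Y) (hp : AlgSp.RepWith @Etale p) (hps : AlgSp.RepWith @Surjective p)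
    {P : AlgSp.Sp S} (fst : P ⟶ X) (snd : P ⟶ (AlgSp.yon S).obj V) (sq : IsPullback fst snd f p)
    (h : AlgSp.IsProperMor snd) : AlgSp.IsProperMor f := by
  have hV : IsAlgSpace ((AlgSp.yon S).obj V) := IsAlgSpace.yon_obj V
  have hP : IsAlgSpace P := isAlgSpace_of_isPullback hX hV hY.diag sq
  obtain ⟨h1, ⟨h2, h3⟩, h4⟩ := h
  refine ⟨?_, ⟨?_, ?_⟩, ?_⟩
  · exact (separation_of_etale_cover hX f p hp hps sq).1 h1
  · -- one chart suffices
    obtain ⟨U, d, hde, hds⟩ := hP.atlas
    obtain ⟨k, hk⟩ := (yon S).map_surjective (d ≫ snd)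
    have hfe : RepWith @Etale fst := (RepWith @Etale).of_isPullback sq.flip hp
    have hfs : RepWith @Surjective fst := (RepWith @Surjective).of_isPullback sq.flip hps
    have hae : RepWith @Etale (d ≫ fst) := (RepWith @Etale).comp_mem _ _ hde hfe
    have has : RepWith @Surjective (d ≫ fst) := (RepWith @Surjective).comp_mem _ _ hds hfs
    have comm : (d ≫ fst) ≫ f = (yon S).map k ≫ p := by
      rw [Category.assoc, sq.w, ← Category.assoc, hk]
    have hid : RepWith @Etale (𝟙 ((yon S).obj V)) := (RepWith @Etale).id_mem _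
    have hh : LocallyOfFiniteType k.left :=
      h2 d (𝟙 _) k hde hid (by rw [Category.comp_id, hk])
    exact Groth.Agent.Lib.Helper46.LocPChart.locP_of_chart
      Groth.Agent.Lib.Helper30.EtLocalInst.etLocal_lft f (d ≫ fst) p k hae has hp comm hh
  · exact isQuasiCompactMor_of_univOpen_surjective_base_change hX hY hV f p fst snd sq
      (isUnivOpenMor_of_repWith_etale p hp) (isSurjectiveMor_of_repWith_surjective p hps) h3
  · exact isUnivClosedMor_of_etale_cover hY hV f p hp hps sq h4

/-- (4) ⇒ (1): properness of a morphism of algebraic spaces descends along a surjective etale base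
change from a scheme. -/
theorem result {S : Scheme.{u}} {X Y : AlgSp.Space S} (f : X ⟶ Y) (V : Over S)
    (p : (AlgSp.yon S).obj V ⟶ Y.obj) (hp : AlgSp.RepWith @Etale p) (hps : AlgSp.RepWith @Surjective p)
    {P : AlgSp.Sp S} (fst : P ⟶ X.obj) (snd : P ⟶ (AlgSp.yon S).obj V) (sq : IsPullback fst snd f.hom p)
    (h : AlgSp.IsProperMor snd) : AlgSp.IsProperMor f.hom := by
  exact isProperMor_of_etale_cover X.property Y.property f.hom V p hp hps fst snd sq h

end Groth.Agent.S10274
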