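import Groth.Statements.S10276
-- import your own Groth.Agent.* helpers here
import Groth.Agent.Lib.Helper30.EtLocalInst
import Groth.Agent.Lib.Helper46.LocPChart
import Groth.Agent.Lib.Helper23.AlgSpClosed5

set_option autoImplicit false
universe u
open CategoryTheory CategoryTheory.Limits AlgebraicGeometry
open AlgSp

namespace Groth.Agent.S10276

/-- Separatedness is stable under composition (sheaf level). -/
theorem isSeparatedMor_comp {S : Scheme.{u}} {X Y Z : AlgSp.Sp S} (f : X ⟶ Y) (g : Y ⟶ Z)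
    (hf : AlgSp.IsSeparatedMor f) (hg : AlgSp.IsSeparatedMor g) : AlgSp.IsSeparatedMor (f ≫ g) := by
  have : (RepWith (S := S) @IsClosedImmersion).RespectsIso :=
    MorphismProperty.IsStableUnderBaseChange.respectsIso
  exact MorphismProperty.comp_mem (W := (RepWith (S := S) @IsClosedImmersion).diagonal) f g hf hg

/-- Properness is stable under composition (unbundled form). -/
theorem isProperMor_comp {S : Scheme.{u}} {X Y Z : AlgSp.Sp S}
    (hX : IsAlgSpace X) (hY : IsAlgSpace Y) (hZ : IsAlgSpace Z) (f : X ⟶ Y) (g : Y ⟶ Z)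
    (hf : AlgSp.IsProperMor f) (hg : AlgSp.IsProperMor g) : AlgSp.IsProperMor (f ≫ g) := by
  obtain ⟨f1, ⟨f2, f3⟩, f4⟩ := hf
  obtain ⟨g1, ⟨g2, g3⟩, g4⟩ := hg
  refine ⟨isSeparatedMor_comp f g f1 g1, ⟨?_, ?_⟩, ?_⟩
  · exact Groth.Agent.Lib.Helper46.LocPChart.locP_comp
      Groth.Agent.Lib.Helper30.EtLocalInst.etLocal_lft hX hY hZ f g f2 g2
  · exact Groth.Agent.Lib.Helper23.AlgSpMor.isQuasiCompactMor_comp hY hZ.diag f g f3 g3
  · exact Groth.Agent.Lib.Helper23.AlgSpMor.isUnivClosedMor_comp hY hZ.diag f g f4 g4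

/-- A composition of proper morphisms of algebraic spaces is proper. -/
theorem result {S : Scheme.{u}} {X Y Z : AlgSp.Space S} (f : X ⟶ Y) (g : Y ⟶ Z)
    (hf : AlgSp.IsProperMor f.hom) (hg : AlgSp.IsProperMor g.hom) : AlgSp.IsProperMor (f ≫ g).hom := by
  exact isProperMor_comp X.property Y.property Z.property f.hom g.hom hf hg

end Groth.Agent.S10276
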