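import Groth.Statements.S10278
import Groth.Agent.Lib.Helper23.AlgSpProper

set_option autoImplicit false
universe u
open CategoryTheory CategoryTheory.Limits AlgebraicGeometry
open AlgSp

namespace Groth.Agent.S10278

/-- Over a separated Y -> B, a morphism X -> Y from a space universally closed (resp. proper) over B is
universally closed with closed image (resp. proper). -/
theorem result {S : Scheme.{u}} {X Y B : AlgSp.Space S} (f : X ⟶ Y) (p : X ⟶ B)
    (q : Y ⟶ B) (comm : f ≫ q = p) (hq : AlgSp.IsSeparatedMor q.hom) :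
    (AlgSp.IsUnivClosedMor p.hom →
      AlgSp.IsUnivClosedMor f.hom ∧ IsClosed (Set.range (AlgSp.Points.map f.hom))) ∧
    (AlgSp.IsProperMor p.hom → AlgSp.IsProperMor f.hom) := by
  subst comm
  have huc : AlgSp.IsUnivClosedMor (f.hom ≫ q.hom) → AlgSp.IsUnivClosedMor f.hom := fun hp =>
    Groth.Agent.Lib.Helper23.AlgSpMor.isUnivClosedMor_of_comp_of_isSeparatedMor X.property
      Y.property B.property.diag f.hom q.hom hp hq
  refine ⟨fun hp => ⟨huc hp, ?_⟩, fun hp => ⟨?_, ⟨?_, ?_⟩, huc hp.2.2⟩⟩
  · rw [← Set.image_univ]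
    exact Groth.Agent.Lib.Helper23.AlgSpMor.isClosedMap_points_of_isUnivClosedMor Y.property f.hom
      (huc hp) _ isClosed_univ
  · exact Groth.Agent.Lib.Helper23.AlgSpMor.repWith_diagonal_of_comp _ f.hom q.hom hp.1
  · exact Groth.Agent.S9952.result f q hp.2.1.1
  · exact Groth.Agent.Lib.Helper23.AlgSpMor.isQuasiCompactMor_of_comp_of_isQuasiSeparatedMor
      X.property B.property.diag f.hom q.hom hp.2.1.2
      (Groth.Agent.Lib.Helper23.AlgSpMor.repWith_quasiCompact_of_isClosedImmersion _ hq)

end Groth.Agent.S10278
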