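import Groth.Statements.S10279
import Groth.Agent.Lib.Helper12.AlgSpPoints

set_option autoImplicit false
universe u
open CategoryTheory CategoryTheory.Limits AlgebraicGeometry
open AlgSp

namespace Groth.Agent.S10279

open Groth.Agent.Lib.Helper12.AlgSpPoints

theorem result {S : Scheme.{u}} {X Y B : AlgSp.Space S} (f : X ⟶ Y) (p : X ⟶ B)
    (q : Y ⟶ B) (comm : f ≫ q = p) (hp : AlgSp.IsUnivClosedMor p.hom) (hf : AlgSp.IsSurjectiveMor f.hom) :
    AlgSp.IsUnivClosedMor q.hom := by
  intro Z Z' hZ g fst snd sq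
  have sq' := IsPullback.of_hasPullback f.hom fst
  have hpaste := sq'.paste_vert sq
  have hcomm : f.hom ≫ q.hom = p.hom := by rw [← comm]; rfl
  rw [hcomm] at hpaste
  have hclosed : IsClosedMap (Points.map (pullback.snd f.hom fst ≫ snd)) := hp hZ g _ _ hpaste
  have hsurj : Function.Surjective (Points.map (pullback.snd f.hom fst)) := by
    intro z'
    obtain ⟨x, hx⟩ := hf (Points.map fst z')
    obtain ⟨w, _, hw⟩ := Points.exists_of_isPullback sq' x z' hx
    exact ⟨w, hw⟩
  intro T hT
  have : Points.map snd '' T =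
      Points.map (pullback.snd f.hom fst ≫ snd) '' (Points.map (pullback.snd f.hom fst) ⁻¹' T) := by
    ext y
    constructor
    · rintro ⟨t, ht, rfl⟩
      obtain ⟨w, rfl⟩ := hsurj t
      exact ⟨w, ht, Points.map_comp _ _ _⟩
    · rintro ⟨w, hw, rfl⟩
      exact ⟨_, hw, (Points.map_comp _ _ _).symm⟩
  rw [this]
  exact hclosed _ (hT.preimage (Points.continuous_map _))

end Groth.Agent.S10279
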