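import Groth.Statements.S10280
import Groth.Agent.Lib.Helper23.AlgSpProper

set_option autoImplicit false
universe u
open CategoryTheory CategoryTheory.Limits AlgebraicGeometry
open AlgSp

namespace Groth.Agent.S10280

/-- F is separated if and only if its diagonal is universally closed, if and only if its diagonal is
proper. -/
theorem result {S : Scheme.{u}} {X Y : AlgSp.Space S} (f : X ⟶ Y) :
    (AlgSp.IsSeparatedMor f.hom ↔ AlgSp.IsUnivClosedMor (pullback.diagonal f.hom)) ∧
    (AlgSp.IsSeparatedMor f.hom ↔ AlgSp.IsProperMor (pullback.diagonal f.hom)) := by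
  have hXX : AlgSp.IsAlgSpace (pullback f.hom f.hom) :=
    Groth.Agent.Lib.Helper23.AlgSpMor.isAlgSpace_of_isPullback X.property X.property
      Y.property.diag (IsPullback.of_hasPullback f.hom f.hom)
  have h1 : AlgSp.IsSeparatedMor f.hom → AlgSp.IsProperMor (pullback.diagonal f.hom) := fun h =>
    Groth.Agent.Lib.Helper23.AlgSpMor.isProperMor_of_repWith_isClosedImmersion X.property hXX _ h
  have h2 : AlgSp.IsUnivClosedMor (pullback.diagonal f.hom) → AlgSp.IsSeparatedMor f.hom :=
    Groth.Agent.Lib.Helper23.AlgSpMor.isSeparatedMor_of_isUnivClosedMor_diagonal X.property f.hom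
  exact ⟨⟨fun h => (h1 h).2.2, h2⟩, ⟨h1, fun h => h2 h.2.2⟩⟩

end Groth.Agent.S10280
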