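import Groth.Statements.S10281
import Groth.Agent.Lib.Helper23.SchImageQc5
import Groth.Agent.Lib.Helper23.ProperClosed3

set_option autoImplicit false
universe u
open CategoryTheory CategoryTheory.Limits AlgebraicGeometry
open AlgSp

namespace Groth.Agent.S10281

open AlgSp Groth.Agent.Lib.Helper23.AlgSpMor Groth.Agent.Lib.Helper23.ClosedDescent Groth.Agent.Lib.Helper23.SchImageQc

/-- The scheme theoretic image of a space proper over B in a space separated and locally of finite type
over B is proper over B, and the source surjects onto it. -/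
theorem result {S : Scheme.{u}} {X Y Z B : AlgSp.Space S} (h : X ⟶ Y) (f : X ⟶ B)
    (g : Y ⟶ B) (comm : h ≫ g = f) (hf : AlgSp.IsProperMor f.hom) (hg : AlgSp.IsSeparatedMor g.hom)
    (hg' : AlgSp.LocP @LocallyOfFiniteType g.hom) (i : Z ⟶ Y) (hZ : AlgSp.IsSchImage h.hom i.hom)
    (h' : X ⟶ Z) (fac : h' ≫ i = h) :
    AlgSp.IsProperMor (i ≫ g).hom ∧ AlgSp.IsSurjectiveMor h'.hom := by
  have hX := X.property
  have hY := Y.property
  have hZa := Z.property
  have hB := B.property
  have hcomm : h.hom ≫ g.hom = f.hom := congrArg (fun m => m.hom) comm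
  have hfac : h'.hom ≫ i.hom = h.hom := congrArg (fun m => m.hom) fac
  have hcl := hZ.1
  have : Mono i.hom := mono_of_repWith_isClosedImmersion i.hom hcl
  have hhuc : IsUnivClosedMor h.hom :=
    isUnivClosedMor_of_comp_of_isSeparatedMor hX hY hB.diag h.hom g.hom (by rw [hcomm]; exact hf.2.2) hg
  have hhqc : IsQuasiCompactMor h.hom := isQuasiCompactMor_of_isUnivClosedMor hX hY h.hom hhuc
  have hdense := range_subset_closure_of_isSchImage hX hY hZa h.hom hhqc i.hom hZ
  have hclosed : IsClosed (Set.range (Points.map h.hom)) :=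
    (isClosedMap_points_of_isUnivClosedMor hY h.hom hhuc).isClosed_range
  rw [hclosed.closure_eq] at hdense
  have hsurj : IsSurjectiveMor h'.hom := by
    intro z
    obtain ⟨x, hx⟩ := hdense ⟨z, rfl⟩
    refine ⟨x, ?_⟩
    apply Groth.Agent.Lib.Helper5.LargestOpenSp.injective_map_of_mono i.hom
    rw [← hx, ← hfac, Points.map_comp]
  have hcomp : h'.hom ≫ (i.hom ≫ g.hom) = f.hom := by rw [← Category.assoc, hfac, hcomm]
  refine ⟨⟨?_, ⟨?_, ?_⟩, ?_⟩, hsurj⟩
  · exact isSeparatedMor_comp i.hom g.hom (isSeparatedMor_of_repWith_isClosedImmersion hZa hY i.hom hcl) hg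
  · exact Groth.Agent.Lib.Helper46.LocPChart.locP_comp
      Groth.Agent.Lib.Helper30.EtLocalInst.etLocal_lft hZa hY hB i.hom g.hom
      (locP_lft_of_repWith_isClosedImmersion hZa hY i.hom hcl) hg'
  · exact isQuasiCompactMor_of_surjective_triangle hZa hB.diag h'.hom (i.hom ≫ g.hom) hsurj
      (by rw [hcomp]; exact hf.2.1.2)
  · exact isUnivClosedMor_of_comp_surjective h'.hom (i.hom ≫ g.hom) hsurj
      (by rw [hcomp]; exact hf.2.2)

end Groth.Agent.S10281
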