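import Groth.Statements.S10287

set_option autoImplicit false
universe u
open CategoryTheory CategoryTheory.Limits AlgebraicGeometry
open AlgSp

namespace Groth.Agent.S10287

/-- The existence and uniqueness parts of the valuative criterion are stable under composition. -/
theorem result {S : Scheme.{u}} {X Y Z : AlgSp.Space S} (f : X ⟶ Y) (g : Y ⟶ Z) :
    (AlgSp.ExistVC f.hom → AlgSp.ExistVC g.hom → AlgSp.ExistVC (f ≫ g).hom) ∧
    (AlgSp.UniqVC f.hom → AlgSp.UniqVC g.hom → AlgSp.UniqVC (f ≫ g).hom) := by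
  constructor
  · intro hf hg sq
    let vg : AlgSp.ValSq g.hom :=
      { A := sq.A, K := sq.K, str := sq.str, top := sq.top ≫ f.hom, bot := sq.bot,
        comm := by
          have := sq.comm
          change sq.top ≫ f.hom ≫ g.hom = _ at this
          rw [Category.assoc, this] }
    obtain ⟨e1, l1, h11, h12⟩ := hg vg
    let vf : AlgSp.ValSq f.hom :=
      { A := e1.A', K := e1.K', str := Spec.map (CommRingCat.ofHom e1.φ) ≫ sq.str,
        top := (AlgSp.yon S).map (Over.homMk (Spec.map (CommRingCat.ofHom e1.ψ)) (by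
          change Spec.map _ ≫ Spec.map _ ≫ _ = Spec.map _ ≫ Spec.map _ ≫ _
          rw [← Spec.map_comp_assoc, ← Spec.map_comp_assoc, ← CommRingCat.ofHom_comp,
            ← CommRingCat.ofHom_comp, e1.comm]) : e1.ptK' ⟶ sq.ptK) ≫ sq.top,
        bot := l1,
        comm := by
          rw [Category.assoc]
          exact h11.symm }
    obtain ⟨e2, l2, h21, h22⟩ := hf vf
    have hloc1 : IsLocalHom e1.φ := e1.isLocalHom
    have hloc2 : IsLocalHom e2.φ := e2.isLocalHom
    let e : sq.DomExt :=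
      { A' := e2.A', K' := e2.K', φ := e2.φ.comp e1.φ, ψ := e2.ψ.comp e1.ψ,
        comm := by
          rw [← RingHom.comp_assoc, e2.comm, RingHom.comp_assoc, e1.comm, RingHom.comp_assoc]
        isLocalHom := RingHom.isLocalHom_comp _ _ }
    have hw : Spec.map (CommRingCat.ofHom (e2.φ.comp e1.φ)) =
        Spec.map (CommRingCat.ofHom e2.φ) ≫ Spec.map (CommRingCat.ofHom e1.φ) := by
      rw [← Spec.map_comp, ← CommRingCat.ofHom_comp]
    let ι : e.ptA' ⟶ e2.ptA' := Over.homMk (𝟙 _) (by
      change 𝟙 _ ≫ Spec.map _ ≫ Spec.map _ ≫ _ = Spec.map _ ≫ _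
      rw [Category.id_comp, hw, Category.assoc])
    let ιK : e.ptK' ⟶ e2.ptK' := Over.homMk (𝟙 _) (by
      change 𝟙 _ ≫ Spec.map _ ≫ Spec.map _ ≫ Spec.map _ ≫ _ = Spec.map _ ≫ Spec.map _ ≫ _
      rw [Category.id_comp, hw, Category.assoc])
    refine ⟨e, (AlgSp.yon S).map ι ≫ l2, ?_, ?_⟩
    · have h1 : (Over.homMk (Spec.map (CommRingCat.ofHom (algebraMap e.A' e.K'))) rfl :
          e.ptK' ⟶ e.ptA') ≫ ι = ιK ≫ (Over.homMk (Spec.map (CommRingCat.ofHom
            (algebraMap e2.A' e2.K'))) rfl : e2.ptK' ⟶ e2.ptA') := by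
        ext
        change Spec.map _ ≫ 𝟙 _ = 𝟙 _ ≫ Spec.map _
        rw [Category.comp_id, Category.id_comp]
      rw [← Category.assoc, ← Functor.map_comp, h1, Functor.map_comp, Category.assoc, h21]
      change _ ≫ _ ≫ _ ≫ sq.top = _
      rw [← Category.assoc, ← Category.assoc, ← Functor.map_comp, ← Functor.map_comp]
      congr 2
      ext
      change (𝟙 _ ≫ Spec.map _) ≫ Spec.map _ = Spec.map _
      rw [Category.id_comp, ← Spec.map_comp, ← CommRingCat.ofHom_comp]
    · change (_ ≫ l2) ≫ f.hom ≫ g.hom = _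
      rw [Category.assoc, ← Category.assoc l2, h22]
      change _ ≫ (_ ≫ l1) ≫ g.hom = _
      rw [Category.assoc, h12, ← Category.assoc, ← Category.assoc, ← Functor.map_comp,
        ← Functor.map_comp]
      congr 2
      ext
      change (𝟙 _ ≫ Spec.map _) ≫ Spec.map _ = Spec.map _
      rw [Category.id_comp, ← Spec.map_comp, ← CommRingCat.ofHom_comp]
  · intro hf hg sq l l' h1 h2 h3 h4
    change l ≫ f.hom ≫ g.hom = _ at h2
    change l' ≫ f.hom ≫ g.hom = _ at h4
    let vg : AlgSp.ValSq g.hom :=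
      { A := sq.A, K := sq.K, str := sq.str, top := sq.top ≫ f.hom, bot := sq.bot,
        comm := by
          have := sq.comm
          change sq.top ≫ f.hom ≫ g.hom = _ at this
          rw [Category.assoc, this] }
    have key : l ≫ f.hom = l' ≫ f.hom := hg vg (l ≫ f.hom) (l' ≫ f.hom)
      (by change _ ≫ _ ≫ _ = sq.top ≫ f.hom; rw [← Category.assoc, h1])
      (by change (_ ≫ _) ≫ _ = sq.bot; rw [Category.assoc, h2])
      (by change _ ≫ _ ≫ _ = sq.top ≫ f.hom; rw [← Category.assoc, h3])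
      (by change (_ ≫ _) ≫ _ = sq.bot; rw [Category.assoc, h4])
    let vf : AlgSp.ValSq f.hom :=
      { A := sq.A, K := sq.K, str := sq.str, top := sq.top, bot := l ≫ f.hom,
        comm := by rw [← Category.assoc, h1] }
    exact hf vf l l' h1 rfl h3 key.symm

end Groth.Agent.S10287
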