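import Groth.Statements.S10545
import Groth.Agent.Lib.Helper23.AffDescLocal
import Groth.Agent.S0084
import Groth.Agent.Lib.Helper5.LocalRep
import Groth.Agent.Lib.Helper46.EtLocal

set_option autoImplicit false
universe u
open CategoryTheory CategoryTheory.Limits AlgebraicGeometry
open AlgSp

namespace Groth.Agent.S10545

/-- The property of morphisms of algebraic spaces over S given by f is finite locally free
(representable by finite, flat, locally finitely presented morphisms of schemes) is fpqc local on
the base: for an fpqc covering of an algebraic space Y by algebraic spaces Y_i, a morphism f : X ⟶ Y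
of algebraic spaces and cartesian squares X_i = Y_i ×_Y X, f has the property if and only if every
X_i ⟶ Y_i has it. -/
theorem result (S : Scheme.{u}) :
    AlgSp.IsLocalOnBase (AlgSp.IsFpqcCover (S := S)) AlgSp.IsFinLocFreeMor := by
  intro ι Y Yi g hY hYi hcov X f hX Xi p q hXi hsq
  constructor
  · intro hf i
    exact (RepWith finLocFree).of_isPullback (hsq i) hf
  · intro hp
    have heq : (finLocFree.{u}) = (@IsFinite ⊓ @Flat ⊓ @LocallyOfFinitePresentation :
        MorphismProperty Scheme.{u}) := by
      ext A B h
      constructor
      · rintro ⟨h1, h2, h3⟩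
        exact ⟨⟨h1, h2⟩, h3⟩
      · rintro ⟨⟨h1, h2⟩, h3⟩
        exact ⟨h1, h2, h3⟩
    haveI := Groth.Agent.S0084.result.{u}
    haveI : IsZariskiLocalAtTarget (finLocFree.{u}) := by rw [heq]; infer_instance
    haveI : (finLocFree.{u}).DescendsAlong
        (@Surjective ⊓ @Flat ⊓ @QuasiCompact : MorphismProperty Scheme.{u}) := by
      rw [heq]; infer_instance
    refine Groth.Agent.Lib.Helper5.LocalRep.repWith_of_affine_test finLocFree f ?_
    intro Z hZ gZ
    exact Groth.Agent.Lib.Helper23.AffDesc.exists_isPullback_of_fpqc finLocFree
      (fun _ _ f hf => by haveI : IsFinite f := hf.1; infer_instance) Yi g hY hcov f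
      hX Xi p q hsq (fun k Z' hZ' g' => by
        have hk := hp k
        exact ⟨hk.rep.pullback g', hk.rep.snd g', hk.rep.fst g', hk.rep.isPullback g',
          hk.property_snd g'⟩) hZ gZ

end Groth.Agent.S10545
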