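import Groth.Statements.S10294
import Groth.Agent.Lib.Helper5.LocalRep
import Groth.Agent.Lib.Helper46.LocPChart
import Groth.Agent.Lib.Helper30.EtLocalInst
import Groth.Agent.Lib.Helper23.AlgSpNoeth
import Groth.Agent.S9961

set_option autoImplicit false
universe u
open CategoryTheory CategoryTheory.Limits AlgebraicGeometry
open AlgSp

namespace Groth.Agent.S10294

/-- Finite locally free is the same as finite, flat and locally of finite presentation; over a locally
Noetherian target it is the same as finite and flat. -/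
theorem result {S : Scheme.{u}} {X Y : AlgSp.Space S} (f : X ⟶ Y) :
    (AlgSp.IsFinLocFreeMor f.hom ↔
      (AlgSp.IsFiniteMor f.hom ∧ AlgSp.LocP @Flat f.hom ∧ AlgSp.LocP @LocallyOfFinitePresentation f.hom)) ∧
    (AlgSp.IsLocNoethSp Y.obj →
      (AlgSp.IsFinLocFreeMor f.hom ↔ (AlgSp.IsFiniteMor f.hom ∧ AlgSp.LocP @Flat f.hom))) := by
  have hflatL := Groth.Agent.Lib.Helper46.etLocal_flat.{u}
  have hlfpL := Groth.Agent.Lib.Helper30.EtLocalInst.etLocal_lfp.{u}
  -- forward direction
  have fwd : AlgSp.IsFinLocFreeMor f.hom →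
      (AlgSp.IsFiniteMor f.hom ∧ AlgSp.LocP @Flat f.hom ∧
        AlgSp.LocP @LocallyOfFinitePresentation f.hom) := by
    intro hf
    refine ⟨fun Z hZ g => ?_, ?_, ?_⟩
    · obtain ⟨h1, -, -⟩ := hf.property_snd g
      haveI : IsFinite (hf.rep.snd g).left := h1
      haveI := hZ
      exact ⟨hf.rep.pullback g, hf.rep.snd g, hf.rep.fst g, hf.rep.isPullback g,
        isAffine_of_isAffineHom (hf.rep.snd g).left, h1⟩
    · exact Groth.Agent.S9961.locP_of_repWith hflatL (P := AlgSp.finLocFree)
        (fun _ _ _ h => h.2.1) Y.property f.hom hf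
    · exact Groth.Agent.S9961.locP_of_repWith hlfpL (P := AlgSp.finLocFree)
        (fun _ _ _ h => h.2.2) Y.property f.hom hf
  -- backward direction
  have bwd : AlgSp.IsFiniteMor f.hom → AlgSp.LocP @Flat f.hom →
      AlgSp.LocP @LocallyOfFinitePresentation f.hom → AlgSp.IsFinLocFreeMor f.hom := by
    intro hfin hflat hlfp
    have hrep : RepWith @IsFinite f.hom :=
      Groth.Agent.Lib.Helper5.LocalRep.repWith_of_affine_test @IsFinite f.hom (by
        intro Z hZ g
        obtain ⟨W, i, fst, sq, -, hi⟩ := hfin hZ g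
        exact ⟨W, i, fst, sq, hi⟩)
    have hri : (AlgSp.finLocFree.{u}).RespectsIso :=
      MorphismProperty.IsStableUnderBaseChange.respectsIso
    apply MorphismProperty.relative.of_exists
    intro T g
    have sq := hrep.rep.isPullback g
    refine ⟨hrep.rep.pullback g, hrep.rep.fst g, hrep.rep.snd g, sq, hrep.property_snd g, ?_, ?_⟩
    · exact Groth.Agent.Lib.Helper46.LocPChart.locP_fibre hflatL X.property Y.property f.hom hflat g
        (hrep.rep.fst g) ((yon S).map (hrep.rep.snd g)) sq (𝟙 _)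
        (AlgSp.repWith_id @Etale _) (hrep.rep.snd g) (Category.id_comp _).symm
    · exact Groth.Agent.Lib.Helper46.LocPChart.locP_fibre hlfpL X.property Y.property f.hom hlfp g
        (hrep.rep.fst g) ((yon S).map (hrep.rep.snd g)) sq (𝟙 _)
        (AlgSp.repWith_id @Etale _) (hrep.rep.snd g) (Category.id_comp _).symm
  refine ⟨⟨fwd, fun h => bwd h.1 h.2.1 h.2.2⟩, fun hN => ⟨fun h => ⟨(fwd h).1, (fwd h).2.1⟩,
    fun h => bwd h.1 h.2 ?_⟩⟩
  -- lfp from finite over a locally Noetherian base
  obtain ⟨hfin, hflat⟩ := h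
  have hrep : RepWith @IsFinite f.hom :=
    Groth.Agent.Lib.Helper5.LocalRep.repWith_of_affine_test @IsFinite f.hom (by
      intro Z hZ g
      obtain ⟨W, i, fst, sq, -, hi⟩ := hfin hZ g
      exact ⟨W, i, fst, sq, hi⟩)
  obtain ⟨V, b, hbe, hbs⟩ := Y.property.atlas
  have sq := hrep.rep.isPullback b
  have hae : RepWith @Etale (hrep.rep.fst b) := (RepWith @Etale).of_isPullback sq.flip hbe
  have has : RepWith @Surjective (hrep.rep.fst b) :=
    (RepWith @Surjective).of_isPullback sq.flip hbs
  haveI : IsLocallyNoetherian V.left :=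
    Groth.Agent.Lib.Helper23.AlgSpMor.isLocallyNoetherian_of_etale_chart hN b hbe
  haveI : IsFinite (hrep.rep.snd b).left := hrep.property_snd b
  refine Groth.Agent.Lib.Helper46.LocPChart.locP_of_chart hlfpL f.hom (hrep.rep.fst b) b
    (hrep.rep.snd b) hae has hbe sq.w ?_
  exact LocallyOfFinitePresentation.iff_locallyOfFiniteType.2 inferInstance

end Groth.Agent.S10294
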