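import Groth.Statements.S10296
import Groth.Agent.S10272
import Groth.Agent.S10267
import Groth.Agent.Lib.Helper23.AlgSpDiag3

set_option autoImplicit false
universe u
open CategoryTheory CategoryTheory.Limits AlgebraicGeometry
open AlgSp

namespace Groth.Agent.S10296



/-- The induced morphism from the normalization of X in Y to any integral Z -> X through which Y -> X
factors is the normalization of Z in Y. -/
theorem result {S : Scheme.{u}} {Y X X' Z : AlgSp.Space S} (f : Y ⟶ X)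
    (hqc : AlgSp.IsQuasiCompactMor f.hom) (hqs : AlgSp.IsQuasiSeparatedMor f.hom) (ν : X' ⟶ X) (f' : Y ⟶ X')
    (hn : AlgSp.IsRelNormalization f.hom ν.hom f'.hom) (π : Z ⟶ X) (hπ : AlgSp.IsIntegralMor π.hom) (g : Y ⟶ Z)
    (hg : g ≫ π = f) (h : X' ⟶ Z) (h1 : f' ≫ h = g) (h2 : h ≫ π = ν) :
    AlgSp.IsRelNormalization g.hom h.hom f'.hom := by
  have hπR : AlgSp.RepWith @IsIntegralHom π.hom := (Groth.Agent.S10267.result π).1.1 hπ
  have hπsep : AlgSp.IsSeparatedMor π.hom := by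
    refine (Groth.Agent.Lib.Helper23.AlgSpMor.isSeparatedMor_iff_repWith π.hom hπR.1).2 ?_
    refine ⟨hπR.1, fun U V a fst snd sq => ?_⟩
    have hi : IsIntegralHom snd.left := hπR.2 a fst snd sq
    change IsSeparated snd.left
    infer_instance
  have hh : AlgSp.IsIntegralMor h.hom := by
    apply (Groth.Agent.S10272.result h π hπsep).2
    rw [h2]; exact hn.2.1
  have h1' : f'.hom ≫ h.hom = g.hom := congrArg (·.hom) h1
  have h2' : h.hom ≫ π.hom = ν.hom := congrArg (·.hom) h2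
  have hg' : g.hom ≫ π.hom = f.hom := congrArg (·.hom) hg
  refine ⟨h1', hh, ?_⟩
  intro W hW ρ k hρ hk
  let W' : AlgSp.Space S := ⟨W, hW⟩
  let ρ' : W' ⟶ Z := ObjectProperty.homMk ρ
  have hρR : AlgSp.RepWith @IsIntegralHom ρ := (Groth.Agent.S10267.result ρ').1.1 hρ
  haveI := AlgSp.repWith_isMultiplicative (S := S) @IsIntegralHom
  have hρπ : AlgSp.IsIntegralMor (ρ ≫ π.hom) :=
    (Groth.Agent.S10267.result (ρ' ≫ π)).1.2
      (MorphismProperty.comp_mem (AlgSp.RepWith (S := S) @IsIntegralHom) _ _ hρR hπR)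
  obtain ⟨h', ⟨hh'1, hh'2⟩, huniq⟩ := hn.2.2 hW (ρ ≫ π.hom) k hρπ
    (by rw [← Category.assoc, hk, hg'])
  obtain ⟨h0, _, huniq0⟩ := hn.2.2 Z.property π.hom g.hom hπ hg'
  have e1 : h' ≫ ρ = h.hom := by
    rw [huniq0 (h' ≫ ρ) ⟨by rw [← Category.assoc, hh'1, hk], by rw [Category.assoc, hh'2]⟩,
      huniq0 h.hom ⟨h1', h2'⟩]
  refine ⟨h', ⟨hh'1, e1⟩, ?_⟩
  rintro h'' ⟨a1, a2⟩
  exact huniq h'' ⟨a1, by rw [← Category.assoc, a2, h2']⟩

end Groth.Agent.S10296
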