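import Groth.Statements.S10298
import Groth.Agent.S10267

set_option autoImplicit false
universe u
open CategoryTheory CategoryTheory.Limits AlgebraicGeometry
open AlgSp

namespace Groth.Agent.S10298



/-- For a quasi-compact quasi-separated morphism of schemes, the relative normalization of schemes is
the normalization in the sense of algebraic spaces. -/
theorem result {S : Scheme.{u}} {V U N : Over S} (g : V ⟶ U)
    [QuasiCompact g.left] [QuasiSeparated g.left] (f' : V ⟶ N) (ν : N ⟶ U)
    (e : N.left ≅ g.left.normalization) (he1 : f'.left ≫ e.hom = g.left.toNormalization)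
    (he2 : e.hom ≫ g.left.fromNormalization = ν.left) :
    AlgSp.IsRelNormalization ((AlgSp.yon S).map g) ((AlgSp.yon S).map ν) ((AlgSp.yon S).map f') := by
  have hfν : f' ≫ ν = g := by
    apply Over.OverMorphism.ext
    change f'.left ≫ ν.left = g.left
    rw [← he2, ← Category.assoc, he1, Scheme.Hom.toNormalization_fromNormalization]
  have hνint : IsIntegralHom ν.left := by
    rw [← he2]; infer_instance
  have hνI : AlgSp.IsIntegralMor ((AlgSp.yon S).map ν) :=
    (Groth.Agent.S10267.result ((AlgSp.ofScheme S).map ν)).1.2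
      ((AlgSp.repWith_yon_map_iff _ ν).2 hνint)
  refine ⟨by rw [← Functor.map_comp, hfν], hνI, ?_⟩
  intro Z hZ π k hπ hk
  let Z' : AlgSp.Space S := ⟨Z, hZ⟩
  let π' : Z' ⟶ (AlgSp.ofScheme S).obj U := ObjectProperty.homMk π
  have hπR : AlgSp.RepWith @IsIntegralHom π := (Groth.Agent.S10267.result π').1.1 hπ
  -- Z is representable
  have sq := hπR.rep.isPullback (𝟙 ((AlgSp.yon S).obj U))
  have hfst : IsIso (hπR.rep.fst (𝟙 ((AlgSp.yon S).obj U))) := sq.isIso_fst_of_isIso
  set T : Over S := hπR.rep.pullback (𝟙 ((AlgSp.yon S).obj U)) with hT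
  set fst := hπR.rep.fst (𝟙 ((AlgSp.yon S).obj U)) with hfstdef
  set snd : T ⟶ U := hπR.rep.snd (𝟙 ((AlgSp.yon S).obj U)) with hsnddef
  have hsnd : IsIntegralHom snd.left := hπR.property_snd _
  have hw : fst ≫ π = (AlgSp.yon S).map snd := by
    have := sq.w; rwa [Category.comp_id] at this
  -- k lifts
  obtain ⟨k₀, hk₀⟩ := (AlgSp.yon S).map_surjective (k ≫ inv fst)
  have hk₀' : (AlgSp.yon S).map k₀ ≫ fst = k := by rw [hk₀, Category.assoc, IsIso.inv_hom_id, Category.comp_id]
  have hk₀snd : k₀ ≫ snd = g := by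
    apply (AlgSp.yon S).map_injective
    rw [Functor.map_comp, ← hw, ← Category.assoc, hk₀', hk]
  have hk₀left : g.left = k₀.left ≫ snd.left := by
    rw [← hk₀snd]; rfl
  let d := g.left.normalizationDesc k₀.left snd.left hk₀left
  have hd1 : g.left.toNormalization ≫ d = k₀.left := Scheme.Hom.toNormalization_normalizationDesc _ _ _ _
  have hd2 : d ≫ snd.left = g.left.fromNormalization := Scheme.Hom.normalizationDesc_comp _ _ _ _
  let h₀ : N ⟶ T := Over.homMk (e.hom ≫ d) (by
    have h1 : T.hom = snd.left ≫ U.hom := (Over.w snd).symm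
    have h2 : N.hom = ν.left ≫ U.hom := (Over.w ν).symm
    rw [h1, h2, Category.assoc, ← Category.assoc d, hd2, ← Category.assoc, he2])
  have hh₀1 : f' ≫ h₀ = k₀ := by
    apply Over.OverMorphism.ext
    change f'.left ≫ e.hom ≫ d = k₀.left
    rw [← Category.assoc, he1, hd1]
  have hh₀2 : h₀ ≫ snd = ν := by
    apply Over.OverMorphism.ext
    change (e.hom ≫ d) ≫ snd.left = ν.left
    rw [Category.assoc, hd2, he2]
  refine ⟨(AlgSp.yon S).map h₀ ≫ fst, ⟨?_, ?_⟩, ?_⟩
  · rw [← Category.assoc, ← Functor.map_comp, hh₀1, hk₀']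
  · rw [Category.assoc, hw, ← Functor.map_comp, hh₀2]
  · rintro h' ⟨a1, a2⟩
    obtain ⟨h₁, hh₁⟩ := (AlgSp.yon S).map_surjective (h' ≫ inv fst)
    have hh₁' : (AlgSp.yon S).map h₁ ≫ fst = h' := by
      rw [hh₁, Category.assoc, IsIso.inv_hom_id, Category.comp_id]
    rw [← hh₁']
    congr 2
    have b1 : f' ≫ h₁ = k₀ := by
      apply (AlgSp.yon S).map_injective
      rw [Functor.map_comp, hk₀, hh₁, ← Category.assoc, a1]
    have b2 : h₁ ≫ snd = ν := by
      apply (AlgSp.yon S).map_injective
      rw [Functor.map_comp, ← hw, ← Category.assoc, hh₁', a2]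
    apply Over.OverMorphism.ext
    change h₁.left = e.hom ≫ d
    rw [← cancel_epi e.inv, Iso.inv_hom_id_assoc]
    have : IsAffineHom snd.left := inferInstance
    refine Scheme.Hom.normalization.hom_ext (f := g.left) _ _ snd.left ?_ ?_ hd2
    · rw [hd1, ← he1, Category.assoc, Iso.hom_inv_id_assoc]
      exact congrArg (·.left) b1
    · rw [Category.assoc, show h₁.left ≫ snd.left = ν.left from congrArg (·.left) b2, ← he2,
        Iso.inv_hom_id_assoc]

end Groth.Agent.S10298
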