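import Groth.Statements.S10302
-- import your own Groth.Agent.* helpers here
import Groth.Agent.Lib.Helper36.AlgSpChartDiag

set_option autoImplicit false
universe u
open CategoryTheory CategoryTheory.Limits AlgebraicGeometry
open AlgSp

namespace Groth.Agent.S10302

open Groth.Agent.Lib.Helper36.AlgSpChartDiag Groth.Agent.Lib.Helper36.AlgSpHasAt
  Groth.Agent.Lib.Helper36

/-- Flat morphisms do not decrease the dimension of local rings. -/
theorem ringKrullDim_stalk_le_of_flat {W V : Scheme.{u}} (h : W ⟶ V) [Flat h] (w : ↥W) :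
    ringKrullDim ↥(V.presheaf.stalk (h w)) ≤ ringKrullDim ↥(W.presheaf.stalk w) := by
  algebraize [(h.stalkMap w).hom]
  have : IsLocalHom (algebraMap (V.presheaf.stalk (h w)) (W.presheaf.stalk w)) :=
    inferInstanceAs <| IsLocalHom (h.stalkMap w).hom
  have : Module.Flat (V.presheaf.stalk (h w)) (W.presheaf.stalk w) := Flat.stalkMap h w
  exact EtaleLocalDim.ringKrullDim_le_of_flat_of_isLocalHom _ _

/-- A flat morphism of algebraic spaces maps points of codimension 0 to points of codimension 0. -/
theorem result {S : Scheme.{u}} {X Y : AlgSp.Space S} (f : X ⟶ Y) (hf : AlgSp.LocP @Flat f.hom)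
    (x : AlgSp.Points X.obj) (hx : AlgSp.HasAt (fun U u => ringKrullDim ↥(U.presheaf.stalk u) = 0) X.obj x) :
    AlgSp.HasAt (fun U u => ringKrullDim ↥(U.presheaf.stalk u) = 0) Y.obj (AlgSp.Points.map f.hom x) := by
  obtain ⟨W, V, a, b, h, w, hae, has, hbe, hbs, weq, hw, hv⟩ := exists_chart_diagram_at f x
  have hq : Flat h.left := hf a b h hae hbe weq
  have h1 := (hasAt_iff_forall_chart (isEtaleLocalGerm_ringKrullDim 0) (atlas' X) x).1 hx W a w hae hw
  refine ⟨V, b, h.left w, hbe, hv, ?_⟩
  refine le_antisymm ?_ ringKrullDim_nonneg_of_nontrivial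
  rw [← h1]
  exact ringKrullDim_stalk_le_of_flat h.left w

end Groth.Agent.S10302
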