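import Groth.Statements.S10303
-- import your own Groth.Agent.* helpers here
import Groth.Agent.Lib.Helper36.FinIrr
import Groth.Agent.Lib.Helper36.AlgSpChartDiag

set_option autoImplicit false
universe u
open CategoryTheory CategoryTheory.Limits AlgebraicGeometry
open AlgSp

namespace Groth.Agent.S10303

open Groth.Agent.Lib.Helper36.AlgSpCharts Groth.Agent.Lib.Helper36.AlgSpChartDiag
  Groth.Agent.Lib.Helper36.FinIrr

/-- If Y has an etale surjective chart whose quasi-compact opens have finitely many irreducible
components and f : X -> Y is flat and locally of finite type, then X has such a chart too. -/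
theorem result {S : Scheme.{u}} {X Y : AlgSp.Space S} (f : X ⟶ Y)
    (hf : AlgSp.LocP @Flat f.hom) (hf' : AlgSp.LocP @LocallyOfFiniteType f.hom)
    (hY : AlgSp.EtaleLocally (fun U => ∀ W : U.Opens, IsCompact (W : Set ↥U) → (irreducibleComponents ↥W).Finite) Y.obj) :
    AlgSp.EtaleLocally (fun U => ∀ W : U.Opens, IsCompact (W : Set ↥U) → (irreducibleComponents ↥W).Finite) X.obj := by
  obtain ⟨V, b, hbe, hbs, hV⟩ := hY
  have hV' : LocFinIrr V.left := hV
  obtain ⟨U, p, hpe, hps⟩ := X.property.atlas
  obtain ⟨W, p1, h, h1, h2, sq⟩ := exists_chart_diagram_of_charts f.hom p b hbe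
  have hae : RepWith @Etale ((yon S).map p1 ≫ p) := repWith_yon_map_comp p1 h1 p hpe
  have has : RepWith @Surjective ((yon S).map p1 ≫ p) := repWith_yon_map_comp p1 (h2 hbs) p hps
  have weq : ((yon S).map p1 ≫ p) ≫ f.hom = (yon S).map h ≫ b := by
    rw [Category.assoc]
    exact sq.w
  have : Flat h.left := hf _ b h hae hbe weq
  have : LocallyOfFiniteType h.left := hf' _ b h hae hbe weq
  exact ⟨W, _, hae, has, locFinIrr_of_flat h.left hV'⟩

end Groth.Agent.S10303
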