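import Groth.Statements.S10304
-- import your own Groth.Agent.* helpers here
import Groth.Agent.Lib.Helper36.FinIrr
import Groth.Agent.Lib.Helper36.AlgSpChartDiag
import Groth.Agent.Lib.Helper36.AlgSpHasAt
import Groth.Agent.Lib.Helper36.Codim0
import Groth.Agent.Lib.Helper37.AlgSpFibres

set_option autoImplicit false
universe u
open CategoryTheory CategoryTheory.Limits AlgebraicGeometry
open AlgSp

namespace Groth.Agent.S10304

open Groth.Agent.Lib.Helper36.AlgSpCharts Groth.Agent.Lib.Helper36.AlgSpChartDiag
  Groth.Agent.Lib.Helper36.FinIrr Groth.Agent.Lib.Helper36.AlgSpHasAt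
  Groth.Agent.Lib.Helper36.Codim0 Groth.Agent.Lib.Helper37.AlgSpFibres
  Groth.Agent.Lib.Helper37.AlgSpPoints

/-- A space with a continuous surjection from a space with finitely many irreducible components
has finitely many irreducible components. -/
theorem finite_irreducibleComponents_of_surjective {A B : Type*} [TopologicalSpace A]
    [TopologicalSpace B] (f : A → B) (hf : Continuous f) (hs : Function.Surjective f)
    (hA : (irreducibleComponents A).Finite) : (irreducibleComponents B).Finite :=
  finite_irreducibleComponents_of_cover (ι := Unit) (Y := fun _ => A) (fun _ => f) (fun _ => hf)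
    (fun _ => hA) (fun x => ⟨(), subset_closure (hs x)⟩)

/-- A compact scheme whose quasi-compact opens have finitely many irreducible components has
finitely many irreducible components. -/
theorem finite_irreducibleComponents_of_compact {V : Scheme.{u}} [CompactSpace ↥V]
    (hV : LocFinIrr V) : (irreducibleComponents ↥V).Finite := by
  have h := hV ⊤ (by simpa using isCompact_univ)
  exact finite_irreducibleComponents_of_surjective (fun z : ↥(⊤ : V.Opens) => z.1)
    continuous_subtype_val (fun x => ⟨⟨x, trivial⟩, rfl⟩) h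

/-- If one etale surjective chart is `LocFinIrr` then all etale charts are. -/
theorem locFinIrr_of_chart {S : Scheme.{u}} {F : Sp S} {U V : Over S}
    (a : (yon S).obj U ⟶ F) (b : (yon S).obj V ⟶ F) (hae : RepWith @Etale a)
    (hbe : RepWith @Etale b) (hbs : RepWith @Surjective b) (hV : LocFinIrr V.left) :
    LocFinIrr U.left := by
  obtain ⟨W, p1, p2, sq⟩ := exists_isPullback_yon a b hbe.rep
  have h1 : Etale p1.left := prop_fst_of_isPullback sq hbe
  have h1s : Surjective p1.left := prop_fst_of_isPullback sq hbs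
  have h2 : Etale p2.left := prop_snd_of_isPullback sq hae
  have hW : LocFinIrr W.left := locFinIrr_of_flat p2.left hV
  exact locFinIrr_of_surjective p1.left p1.left.isOpenMap hW

/-- Equivalent forms of the condition that the schemes etale over X have locally finitely many
irreducible components: one etale surjective chart, every etale chart, finiteness of codimension-0
points of quasi-compact spaces etale over X, finiteness of irreducible components of such spaces. -/
theorem result {S : Scheme.{u}} (X : AlgSp.Space S) :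
    (AlgSp.EtaleLocally (fun U => ∀ W : U.Opens, IsCompact (W : Set ↥U) → (irreducibleComponents ↥W).Finite) X.obj ↔
      ∀ (U : Over S) (a : (AlgSp.yon S).obj U ⟶ X.obj), AlgSp.RepWith @Etale a →
        ∀ W : U.left.Opens, IsCompact (W : Set ↥U.left) → (irreducibleComponents ↥W).Finite) ∧
    (AlgSp.EtaleLocally (fun U => ∀ W : U.Opens, IsCompact (W : Set ↥U) → (irreducibleComponents ↥W).Finite) X.obj ↔
      ∀ (Y : AlgSp.Space S) (g : Y ⟶ X), AlgSp.IsEtaleMor g.hom → AlgSp.IsQuasiCompactSp Y.obj →
        {y : AlgSp.Points Y.obj |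
          AlgSp.HasAt (fun U u => ringKrullDim ↥(U.presheaf.stalk u) = 0) Y.obj y}.Finite) ∧
    (AlgSp.EtaleLocally (fun U => ∀ W : U.Opens, IsCompact (W : Set ↥U) → (irreducibleComponents ↥W).Finite) X.obj ↔
      ∀ (Y : AlgSp.Space S) (g : Y ⟶ X), AlgSp.IsEtaleMor g.hom → AlgSp.IsQuasiCompactSp Y.obj →
        (irreducibleComponents (AlgSp.Points Y.obj)).Finite) := by
  -- (1), forward direction
  have hall : AlgSp.EtaleLocally (fun U => ∀ W : U.Opens, IsCompact (W : Set ↥U) →
      (irreducibleComponents ↥W).Finite) X.obj →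
      ∀ (U : Over S) (a : (AlgSp.yon S).obj U ⟶ X.obj), AlgSp.RepWith @Etale a →
        LocFinIrr U.left := by
    rintro ⟨V, b, hbe, hbs, hV⟩ U a hae
    exact locFinIrr_of_chart a b hae hbe hbs hV
  -- compact charts of quasi-compact spaces etale over `X`
  have hqc : AlgSp.EtaleLocally (fun U => ∀ W : U.Opens, IsCompact (W : Set ↥U) →
      (irreducibleComponents ↥W).Finite) X.obj →
      ∀ (Y : AlgSp.Space S) (g : Y ⟶ X), AlgSp.IsEtaleMor g.hom → AlgSp.IsQuasiCompactSp Y.obj →
        ∃ (V' : Over S) (b' : (yon S).obj V' ⟶ Y.obj), RepWith @Etale b' ∧ RepWith @Surjective b' ∧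
          (irreducibleComponents ↥V'.left).Finite := by
    rintro hX Y g hg ⟨V', b', hb'e, hb's, hc⟩
    have hc' : CompactSpace ↥V'.left := hc
    have hV' : LocFinIrr V'.left := hall hX V' (b' ≫ g.hom) (hg b' hb'e)
    exact ⟨V', b', hb'e, hb's, finite_irreducibleComponents_of_compact hV'⟩
  -- the test space attached to a quasi-compact open of an atlas
  obtain ⟨V, b, hbe, hbs⟩ := X.property.atlas
  have htest : ∀ W : V.left.Opens, IsCompact (W : Set ↥V.left) →
      ∃ (Y : AlgSp.Space S) (g : Y ⟶ X), AlgSp.IsEtaleMor g.hom ∧ AlgSp.IsQuasiCompactSp Y.obj ∧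
        Y.obj = (yon S).obj (openOver V W) := by
    intro W hW
    refine ⟨⟨(yon S).obj (openOver V W), IsAlgSpace.yon_obj _⟩,
      ObjectProperty.homMk ((yon S).map (openι V W) ≫ b), ?_, ?_, rfl⟩
    · intro U φ hφ
      rw [ObjectProperty.homMk_hom]
      exact (RepWith @Etale).comp_mem _ _ hφ (repWith_etale_restrict b hbe W)
    · have : CompactSpace ↥W := isCompact_iff_compactSpace.1 hW
      exact ⟨openOver V W, 𝟙 _, repWith_id @Etale _, repWith_id @Surjective _, this⟩
  refine ⟨⟨fun h U a ha => hall h U a ha, fun h => ⟨V, b, hbe, hbs, h V b hbe⟩⟩,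
    ⟨fun h Y g hg hY => ?_, fun h => ⟨V, b, hbe, hbs, fun W hW => ?_⟩⟩,
    ⟨fun h Y g hg hY => ?_, fun h => ⟨V, b, hbe, hbs, fun W hW => ?_⟩⟩⟩
  · -- (2) forward
    obtain ⟨V', b', hb'e, hb's, hfin⟩ := hqc h Y g hg hY
    have hmax := finite_isMaxPt hfin
    refine (hmax.image (Points.ofPt b')).subset ?_
    rintro y ⟨U₁, a₁, u₁, ha₁, rfl, hd⟩
    obtain ⟨v, hv⟩ := ofPt_surjective b' hb's (Points.ofPt a₁ u₁)
    have hdv : ringKrullDim ↥(V'.left.presheaf.stalk v) = 0 :=
      (germ_iff_of_ofPt_eq (isEtaleLocalGerm_ringKrullDim 0) a₁ b' ha₁ hb'e u₁ v hv.symm).1 hd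
    exact ⟨v, fun v' hs => eq_of_specializes_of_dim_zero hs hdv, hv⟩
  · -- (2) backward
    obtain ⟨Y, g, hg, hY, hYobj⟩ := htest W hW
    have hfin := h Y g hg hY
    obtain ⟨Yo, hYp⟩ := Y
    change Yo = _ at hYobj
    subst hYobj
    have hmax : {w : ↥W | IsMaxPt w}.Finite := by
      refine (hfin.preimage ((Points.schemeEquiv (openOver V W)).injective.injOn)).subset ?_
      intro w hw
      obtain ⟨ξ, hξ, hdim⟩ := exists_generic_specializes (U := (openOver V W).left) w
      have : ξ = w := hw ξ hξ
      subst this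
      exact ⟨openOver V W, 𝟙 _, ξ, repWith_id @Etale _, rfl, hdim⟩
    have : QuasiSober ↥W := W.2.isOpenEmbedding_subtypeVal.quasiSober
    exact finite_irreducibleComponents_of_finite_isMaxPt hmax
  · -- (3) forward
    obtain ⟨V', b', hb'e, hb's, hfin⟩ := hqc h Y g hg hY
    exact finite_irreducibleComponents_of_surjective (Points.ofPt b') (Points.continuous_ofPt b')
      (ofPt_surjective b' hb's) hfin
  · -- (3) backward
    obtain ⟨Y, g, hg, hY, hYobj⟩ := htest W hW
    have hfin := h Y g hg hY
    obtain ⟨Yo, hYp⟩ := Y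
    change Yo = _ at hYobj
    subst hYobj
    exact finite_irreducibleComponents_of_surjective (Points.schemeHomeo (openOver V W)).symm
      (Points.schemeHomeo (openOver V W)).symm.continuous
      (Points.schemeHomeo (openOver V W)).symm.surjective hfin

end Groth.Agent.S10304
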