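import Groth.Statements.S9429
import Mathlib
import Groth.Agent.Lib.Helper73.DimFT.Basic
-- import your own Groth.Agent.* helpers here

set_option autoImplicit false
universe u
open Synt

namespace Groth.Agent.S9429

set_option linter.style.haveILetI false

/-- A quasi-finite algebra does not increase Krull dimension (helper36). -/
theorem ringKrullDim_le_of_quasiFinite (A B : Type*) [CommRing A] [CommRing B] [Algebra A B]
    [Algebra.QuasiFinite A B] : ringKrullDim B ≤ ringKrullDim A := by
  refine Order.krullDim_le_of_strictMono (PrimeSpectrum.comap (algebraMap A B)) ?_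
  intro P Q hPQ
  refine lt_of_le_of_ne (Ideal.comap_mono (f := algebraMap A B) hPQ.le) ?_
  intro h
  apply hPQ.ne
  ext1
  exact Algebra.QuasiFinite.eq_of_le_of_under_eq (R := A) P.asIdeal Q.asIdeal hPQ.le
    (congrArg PrimeSpectrum.asIdeal h)

/-- contraction of a maximal ideal of a finite type `k`-algebra is maximal. -/
theorem isMaximal_under_of_finiteType (k A B : Type*) [Field k] [CommRing A] [CommRing B]
    [Algebra k A] [Algebra k B] [Algebra A B] [IsScalarTower k A B] [Algebra.FiniteType k B]
    (m : Ideal B) [m.IsMaximal] : (m.under A).IsMaximal := by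
  letI : Field (B ⧸ m) := Ideal.Quotient.field m
  haveI : Module.Finite k (B ⧸ m) := finite_of_finite_type_of_isJacobsonRing k (B ⧸ m)
  haveI : Algebra.IsIntegral k (B ⧸ m) := inferInstance
  have hinj : Function.Injective (algebraMap (A ⧸ m.under A) (B ⧸ m)) :=
    FaithfulSMul.algebraMap_injective _ _
  haveI : Algebra.IsIntegral k (A ⧸ m.under A) :=
    Algebra.IsIntegral.of_injective (IsScalarTower.toAlgHom k (A ⧸ m.under A) (B ⧸ m)) hinj
  apply Ideal.Quotient.maximal_of_isField
  exact isField_of_isIntegral_of_isField' (R := k) (Field.toIsField k)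

/-- A nonzero algebra étale over a polynomial ring in `d` variables over a field has Krull
dimension `d`. -/
theorem ringKrullDim_eq_of_etale (k B : Type u) [Field k] [CommRing B] [Algebra k B] [Nontrivial B]
    (d : ℕ) (g : MvPolynomial (Fin d) k →ₐ[k] B) (hg : g.toRingHom.Etale) :
    ringKrullDim B = d := by
  letI : Algebra (MvPolynomial (Fin d) k) B := g.toRingHom.toAlgebra
  haveI : IsScalarTower k (MvPolynomial (Fin d) k) B := .of_algebraMap_eq' g.comp_algebraMap.symm
  haveI : Algebra.Etale (MvPolynomial (Fin d) k) B := hg
  haveI : Algebra.FiniteType k B :=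
    Algebra.FiniteType.trans (S := MvPolynomial (Fin d) k) inferInstance inferInstance
  apply le_antisymm
  · calc ringKrullDim B ≤ ringKrullDim (MvPolynomial (Fin d) k) := ringKrullDim_le_of_quasiFinite _ B
      _ = d := Groth.Agent.Lib.Helper73.ringKrullDim_mvPolynomial_field k d
  · obtain ⟨m, hm⟩ := Ideal.exists_maximal B
    haveI := isMaximal_under_of_finiteType k (MvPolynomial (Fin d) k) B m
    have h1 : (m.under (MvPolynomial (Fin d) k)).height = d :=
      Groth.Agent.Lib.Helper73.height_eq_of_isMaximal_mvPolynomial k d _
    haveI : IsNoetherianRing B := Algebra.FiniteType.isNoetherianRing k B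
    have h2 := Ideal.height_eq_height_add_of_liesOver_of_hasGoingDown
      (m.under (MvPolynomial (Fin d) k)) m
    have h3 : (m.under (MvPolynomial (Fin d) k)).height ≤ m.height := by
      rw [h2]; exact le_self_add
    have h4 : (m.height : WithBot ℕ∞) ≤ ringKrullDim B :=
      Ideal.height_le_ringKrullDim_of_ne_top hm.ne_top
    rw [h1] at h3
    calc ((d : ℕ) : WithBot ℕ∞) ≤ (m.height : WithBot ℕ∞) := by exact_mod_cast h3
      _ ≤ ringKrullDim B := h4

/-- A standard smooth algebra over a field is a global complete intersection. -/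
theorem isGlobalCI_of_isStandardSmooth (k B : Type u) [Field k] [CommRing B] [Algebra k B]
    [Algebra.IsStandardSmooth k B] : Synt.IsGlobalCI k B := by
  by_cases hB : Subsingleton B
  · exact Or.inl hB
  haveI : Nontrivial B := not_subsingleton_iff_nontrivial.mp hB
  right
  obtain ⟨ι, σ, _, _, ⟨P₀⟩⟩ := Algebra.IsStandardSmooth.out (R := k) (S := B)
  let P := P₀.reindex (Finite.equivFin ι).symm (Finite.equivFin σ).symm
  have hcn : Nat.card σ ≤ Nat.card ι := Nat.card_le_card_of_injective P₀.map P₀.map_inj
  have hdim : P.dimension = Nat.card ι - Nat.card σ := by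
    simp [Algebra.Presentation.dimension]
  haveI : Algebra.IsStandardSmoothOfRelativeDimension (Nat.card ι - Nat.card σ) k B :=
    ⟨_, _, inferInstance, inferInstance, P, hdim⟩
  obtain ⟨g, hg⟩ := Algebra.IsStandardSmoothOfRelativeDimension.exists_etale_mvPolynomial
    (Nat.card ι - Nat.card σ) k B
  refine ⟨Nat.card ι, Nat.card σ, hcn, IsScalarTower.toAlgHom k P.Ring B, P.relation,
    P.algebraMap_surjective, ?_, ringKrullDim_eq_of_etale k B _ g hg⟩
  exact P.span_range_relation_eq_ker.symm


/-- A smooth algebra over a field k is a local complete intersection over k (finite type, and locally on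
Spec S by principal opens a global complete intersection). -/
theorem result (k : Type u) [Field k] (S : Type u) [CommRing S] [Algebra k S]
    [Algebra.Smooth k S] : Synt.IsLCIOver k S := by
  refine ⟨inferInstance, fun p => ?_⟩
  haveI : Algebra.IsSmoothAt k p.asIdeal := inferInstance
  obtain ⟨g, hg, hstd⟩ := Algebra.IsSmoothAt.exists_notMem_isStandardSmooth k p.asIdeal
  exact ⟨g, hg, isGlobalCI_of_isStandardSmooth k _⟩


end Groth.Agent.S9429
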