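import Groth.Statements.S10310
-- import your own Groth.Agent.* helpers here
import Groth.Agent.Lib.Helper36.AlgSpHasAtMor
import Groth.Agent.Lib.Helper36.FibreDimZero

set_option autoImplicit false
universe u
open CategoryTheory CategoryTheory.Limits AlgebraicGeometry
open AlgSp

namespace Groth.Agent.S10310

open Groth.Agent.Lib.Helper36.AlgSpChartDiag Groth.Agent.Lib.Helper36.AlgSpHasAtMor
  Groth.Agent.Lib.Helper36.FibreDimZero

/-- A morphism locally of finite type is locally quasi-finite if and only if it has relative dimension 0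
at every point. -/
theorem result {S : Scheme.{u}} {X Y : AlgSp.Space S} (f : X ⟶ Y)
    (hf : AlgSp.LocP @LocallyOfFiniteType f.hom) :
    AlgSp.LocP (@LocallyQuasiFinite ⊓ @LocallyOfFiniteType) f.hom ↔
      ∀ x : AlgSp.Points X.obj, AlgSp.HasAtMor (fun _ _ h u => FlatMor.fibreDimAt h u = 0) f.hom x := by
  constructor
  · intro H x
    obtain ⟨W, V, a, b, h, w, hae, has, hbe, hbs, weq, hw, hv⟩ := exists_chart_diagram_at f x
    have hq := H a b h hae hbe weq
    have : LocallyOfFiniteType h.left := hq.2
    exact ⟨W, V, a, b, h, w, hae, hbe, weq, hw,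
      (locallyQuasiFinite_iff_fibreDimAt_eq_zero h.left).1 hq.1 w⟩
  · intro H U V a b h ha hb w
    have hlft : LocallyOfFiniteType h.left := hf a b h ha hb w
    refine ⟨(locallyQuasiFinite_iff_fibreDimAt_eq_zero h.left).2 fun u => ?_, hlft⟩
    exact (hasAtMor_iff_forall_chart (isEtaleLocalGermMor_fibreDimAt (· = 0)) f _).1
      (H (Points.ofPt a u)) U V a b h u ha hb w rfl

end Groth.Agent.S10310
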