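import Groth.Statements.S10314
import Groth.Agent.Lib.Helper22.AlgSpDim
import Groth.Agent.Lib.Helper36.AlgSpChartDiag

set_option autoImplicit false
universe u
open CategoryTheory CategoryTheory.Limits AlgebraicGeometry
open AlgSp

namespace Groth.Agent.S10314

/-- For a flat morphism locally of finite type of relative dimension d between locally Noetherian
algebraic spaces, the dimension of X at a point equals the dimension of Y at the image point plus d. -/
theorem result {S : Scheme.{u}} {X Y : AlgSp.Space S} (f : X ⟶ Y)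
    (hX : AlgSp.IsLocNoethSp X.obj) (hY : AlgSp.IsLocNoethSp Y.obj) (hf : AlgSp.LocP @Flat f.hom)
    (hf' : AlgSp.LocP @LocallyOfFiniteType f.hom) (d : ℕ)
    (hd : ∀ x : AlgSp.Points X.obj, AlgSp.HasAtMor (fun _ _ h u => FlatMor.fibreDimAt h u = (d : WithBot ℕ∞)) f.hom x)
    (x : AlgSp.Points X.obj) (dX dY : WithBot ℕ∞) (hx : AlgSp.HasAt (fun U u => FlatMor.localDim ↥U u = dX) X.obj x)
    (hy : AlgSp.HasAt (fun U u => FlatMor.localDim ↥U u = dY) Y.obj (AlgSp.Points.map f.hom x)) :
    dX = dY + (d : WithBot ℕ∞) := by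
  open Groth.Agent.Lib.Helper36.AlgSpChartDiag Groth.Agent.Lib.Helper36.AlgSpHasAtMor
    Groth.Agent.Lib.Helper36.AlgSpHasAt Groth.Agent.Lib.Helper37.AlgSpPoints
    Groth.Agent.Lib.Helper73 in
  obtain ⟨V, b, hbe, hbs, hVN⟩ := id hY
  obtain ⟨W, a, h, w, hae, has, weq, hw, hv⟩ :=
    exists_chart_diagram_at_of_chart f.hom b hbe hbs x
  haveI : IsLocallyNoetherian V.left := hVN
  haveI : Flat h.left := hf a b h hae hbe weq
  haveI : LocallyOfFiniteType h.left := hf' a b h hae hbe weq
  haveI : IsLocallyNoetherian W.left := LocallyOfFiniteType.isLocallyNoetherian h.left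
  have hfd : ∀ w' : W.left, FlatMor.fibreDimAt h.left w' = (d : WithBot ℕ∞) := fun w' =>
    (hasAtMor_iff_forall_chart (isEtaleLocalGermMor_fibreDimAt (· = (d : WithBot ℕ∞))) f _).1
      (hd (Points.ofPt a w')) W V a b h w' hae hbe weq rfl
  have hrel := Groth.Agent.Lib.Helper22.AlgSpDim.hasRelDim_of_forall_fibreDimAt_eq h.left d hfd
  have key := localDim_eq_add_of_hasRelDim h.left d hrel w
  have h1 : FlatMor.localDim ↥W.left w = dX :=
    (hasAt_iff_forall_chart (isEtaleLocalGerm_localDim dX) (atlas' X) x).1 hx W a w hae hw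
  have h2 : FlatMor.localDim ↥V.left (h.left w) = dY :=
    (hasAt_iff_forall_chart (isEtaleLocalGerm_localDim dY) (atlas' Y) _).1 hy V b (h.left w) hbe hv
  rw [← h1, ← h2]
  exact key

end Groth.Agent.S10314
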