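import Groth.Statements.S10315
import Groth.Agent.Lib.Helper22.SmoothDim
import Groth.Agent.Lib.Helper36.AlgSpHasAtMor
import Groth.Agent.Lib.Helper36.AlgSpHasAt
import Groth.Agent.Lib.Helper36.AlgSpChartDiag

set_option autoImplicit false
universe u
open CategoryTheory CategoryTheory.Limits AlgebraicGeometry
open AlgSp

namespace Groth.Agent.S10315

/-- For a smooth morphism of locally Noetherian algebraic spaces, the dimension of X at x is the
dimension of Y at the image of x plus the relative dimension of f at x. -/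
theorem result {S : Scheme.{u}} {X Y : AlgSp.Space S} (f : X ⟶ Y)
    (hX : AlgSp.IsLocNoethSp X.obj) (hY : AlgSp.IsLocNoethSp Y.obj) (hf : AlgSp.LocP @Smooth f.hom)
    (x : AlgSp.Points X.obj) (d dX dY : WithBot ℕ∞)
    (hd : AlgSp.HasAtMor (fun _ _ h u => FlatMor.fibreDimAt h u = d) f.hom x)
    (hx : AlgSp.HasAt (fun U u => FlatMor.localDim ↥U u = dX) X.obj x)
    (hy : AlgSp.HasAt (fun U u => FlatMor.localDim ↥U u = dY) Y.obj (AlgSp.Points.map f.hom x)) :
    dX = dY + d := by
  open Groth.Agent.Lib.Helper36.AlgSpChartDiag Groth.Agent.Lib.Helper36.AlgSpHasAtMor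
    Groth.Agent.Lib.Helper36.AlgSpHasAt Groth.Agent.Lib.Helper37.AlgSpPoints
    Groth.Agent.Lib.Helper73 in
  obtain ⟨V, b, hbe, hbs, hVN⟩ := id hY
  obtain ⟨W, a, h, w, hae, has, weq, hw, hv⟩ :=
    exists_chart_diagram_at_of_chart f.hom b hbe hbs x
  haveI : IsLocallyNoetherian V.left := hVN
  haveI : Smooth h.left := hf a b h hae hbe weq
  have hfd : FlatMor.fibreDimAt h.left w = d :=
    (hasAtMor_iff_forall_chart (isEtaleLocalGermMor_fibreDimAt (· = d)) f x).1 hd W V a b h w
      hae hbe weq hw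
  have key := Groth.Agent.Lib.Helper22.SmoothDim.localDim_eq_add_fibreDimAt_of_smooth h.left w
  have h1 : FlatMor.localDim ↥W.left w = dX :=
    (hasAt_iff_forall_chart (isEtaleLocalGerm_localDim dX) (atlas' X) x).1 hx W a w hae hw
  have h2 : FlatMor.localDim ↥V.left (h.left w) = dY :=
    (hasAt_iff_forall_chart (isEtaleLocalGerm_localDim dY) (atlas' Y) _).1 hy V b (h.left w) hbe hv
  rw [← h1, ← h2, ← hfd]
  exact key

end Groth.Agent.S10315
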