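import Groth.Statements.S10316
-- import your own Groth.Agent.* helpers here
import Groth.Agent.Lib.Helper36.ResTrdeg

set_option autoImplicit false
universe u
open CategoryTheory CategoryTheory.Limits AlgebraicGeometry
open AlgSp

namespace Groth.Agent.S10316

open Groth.Agent.Lib.Helper36.AlgSpChartDiag Groth.Agent.Lib.Helper36.AlgSpHasAtMor
  Groth.Agent.Lib.Helper36.ResTrdeg

/-- For X -> Y locally quasi-finite and Y -> Z locally of finite type, the transcendence degree of x
over Z equals that of its image y over Z. -/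
theorem result {S : Scheme.{u}} {X Y Z : AlgSp.Space S} (f : X ⟶ Y) (g : Y ⟶ Z)
    (hf : AlgSp.LocP (@LocallyQuasiFinite ⊓ @LocallyOfFiniteType) f.hom) (hg : AlgSp.LocP @LocallyOfFiniteType g.hom)
    (x : AlgSp.Points X.obj) (r : Cardinal.{u}) :
    AlgSp.HasAtMor (fun _ _ h u => Dual3.resTrdeg h u = r) (f ≫ g).hom x ↔
      AlgSp.HasAtMor (fun _ _ h u => Dual3.resTrdeg h u = r) g.hom (AlgSp.Points.map f.hom x) := by
  obtain ⟨W, V, T, a, b, c, h, k, w, hae, has, hbe, hbs, hce, hcs, wh, wk, hw, hv⟩ :=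
    exists_chart_diagram_comp_at f g x
  have hq : LocallyQuasiFinite h.left := (hf a b h hae hbe wh).1
  have wc : a ≫ (f ≫ g).hom = (yon S).map (h ≫ k) ≫ c := by
    change a ≫ f.hom ≫ g.hom = _
    rw [← Category.assoc, wh, Category.assoc, wk, Functor.map_comp, Category.assoc]
  have key : Dual3.resTrdeg (h ≫ k).left w = Dual3.resTrdeg k.left (h.left w) := by
    show Dual3.resTrdeg (h.left ≫ k.left) w = _
    rw [resTrdeg_comp, resTrdeg_eq_zero_of_locallyQuasiFinite h.left w, add_zero]
  constructor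
  · intro H
    have e := (hasAtMor_iff_forall_chart (isEtaleLocalGermMor_resTrdeg (· = r)) (f ≫ g) x).1 H
      W T a c (h ≫ k) w hae hce wc hw
    exact ⟨V, T, b, c, k, h.left w, hbe, hce, wk, hv, key.symm.trans e⟩
  · intro H
    have e := (hasAtMor_iff_forall_chart (isEtaleLocalGermMor_resTrdeg (· = r)) g _).1 H
      V T b c k (h.left w) hbe hce wk hv
    exact ⟨W, T, a, c, h ≫ k, w, hae, hce, wc, hw, key.trans e⟩

end Groth.Agent.S10316
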