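import Groth.Statements.S10318
-- import your own Groth.Agent.* helpers here
import Groth.Agent.Lib.Helper36.ResTrdeg
import Groth.Agent.Lib.Helper36.AlgSpChartDiag

set_option autoImplicit false
universe u
open CategoryTheory CategoryTheory.Limits AlgebraicGeometry
open AlgSp

namespace Groth.Agent.S10318

open Groth.Agent.Lib.Helper36.AlgSpChartDiag
  Groth.Agent.Lib.Helper36.ResTrdeg Groth.Agent.Lib.Helper36 Groth.Agent.Lib.Helper37.AlgSpPoints

/-- A point of a locally quasi-finite scheme over a closed point is closed. -/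
theorem isClosed_singleton_of_locallyQuasiFinite {W U : Scheme.{u}} (p : W ⟶ U)
    [LocallyQuasiFinite p] (w : ↥W) (h : IsClosed ({p w} : Set ↥U)) :
    IsClosed ({w} : Set ↥W) := by
  rw [← closure_subset_iff_isClosed]
  intro z hz
  have hsp : w ⤳ z := specializes_iff_mem_closure.2 hz
  have h1 : p w ⤳ p z := hsp.map p.continuous
  have h2 : p z ∈ closure ({p w} : Set ↥U) := specializes_iff_mem_closure.1 h1
  rw [h.closure_eq] at h2
  have h3 : p z = p w := h2
  have hd := p.isDiscrete_preimage_singleton (p w)
  have := hd.eq_of_specializes hsp (by simp) (by simpa using h3)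
  rw [Set.mem_singleton_iff]
  exact this.symm

/-- At a closed point of a scheme locally of finite type over another, the residue field extension
is algebraic. -/
theorem resTrdeg_eq_zero_of_isClosed {W V : Scheme.{u}} (h : W ⟶ V) [LocallyOfFiniteType h]
    (w : ↥W) (hw : IsClosed ({w} : Set ↥W)) : Dual3.resTrdeg h w = 0 := by
  have := isClosed_singleton_iff_isClosedImmersion.mp hw
  have h1 : LocallyOfFiniteType (W.fromSpecResidueField w ≫ h) := inferInstance
  rw [← Scheme.Hom.SpecMap_residueFieldMap_fromSpecResidueField] at h1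
  have h2 : LocallyOfFiniteType (Spec.map (h.residueFieldMap w)) :=
    locallyOfFiniteType_of_comp _ (V.fromSpecResidueField (h w))
  have h3 : RingHom.FiniteType (h.residueFieldMap w).hom := HasRingHomProperty.Spec_iff.mp h2
  unfold Dual3.resTrdeg
  let _ := (h.residueFieldMap w).hom.toAlgebra
  have h4 : Algebra.FiniteType (V.residueField (h w)) (W.residueField w) := h3
  have : Module.Finite (V.residueField (h w)) (W.residueField w) :=
    finite_of_finite_type_of_isJacobsonRing _ _
  have : Algebra.IsAlgebraic (V.residueField (h w)) (W.residueField w) :=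
    Algebra.IsAlgebraic.of_finite _ _
  exact trdeg_eq_zero

/-- Over a Jacobson algebraic space, a finite type point of a space locally of finite type over it has
transcendence degree 0 over its image. -/
theorem result {S : Scheme.{u}} {X Y : AlgSp.Space S} (f : X ⟶ Y)
    (hf : AlgSp.LocP @LocallyOfFiniteType f.hom) (hY : AlgSp.EtaleLocally (fun U => JacobsonSpace ↥U) Y.obj)
    (x : AlgSp.Points X.obj) (hx : AlgSp.HasAt (fun U u => IsClosed ({u} : Set ↥U)) X.obj x) :
    AlgSp.HasAtMor (fun _ _ h u => Dual3.resTrdeg h u = 0) f.hom x := by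
  obtain ⟨U0, a0, u0, ha0, hu0, hcl⟩ := hx
  obtain ⟨V, b, hbe, hbs⟩ := Y.property.atlas
  obtain ⟨W, p1, h, h1, h2, sq⟩ := exists_chart_diagram_of_charts f.hom a0 b hbe
  have hsurj : Surjective p1.left := h2 hbs
  obtain ⟨w, hw⟩ := hsurj.surj u0
  have hae : RepWith @Etale ((yon S).map p1 ≫ a0) := repWith_yon_map_comp p1 h1 a0 ha0
  have weq : ((yon S).map p1 ≫ a0) ≫ f.hom = (yon S).map h ≫ b := by
    rw [Category.assoc]; exact sq.w
  have : LocallyOfFiniteType h.left := hf _ b h hae hbe weq
  have : Etale p1.left := h1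
  have : LocallyQuasiFinite p1.left := locallyQuasiFinite_of_etale p1.left
  have hwc : IsClosed ({w} : Set ↥W.left) :=
    isClosed_singleton_of_locallyQuasiFinite p1.left w (by rw [hw]; exact hcl)
  refine ⟨W, V, (yon S).map p1 ≫ a0, b, h, w, hae, hbe, weq, ?_, resTrdeg_eq_zero_of_isClosed h.left w hwc⟩
  rw [ofPt_map_comp, hw, hu0]

end Groth.Agent.S10318
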