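import Groth.Statements.S10319
-- import your own Groth.Agent.* helpers here
import Groth.Agent.Lib.Helper36.ResTrdeg

set_option autoImplicit false
universe u
open CategoryTheory CategoryTheory.Limits AlgebraicGeometry
open AlgSp

namespace Groth.Agent.S10319

open Groth.Agent.Lib.Helper36.AlgSpChartDiag Groth.Agent.Lib.Helper36.AlgSpHasAtMor
  Groth.Agent.Lib.Helper36.ResTrdeg

/-- Transcendence degrees at a point add up along a composition of morphisms locally of finite type. -/
theorem result {S : Scheme.{u}} {X Y Z : AlgSp.Space S} (f : X ⟶ Y) (g : Y ⟶ Z)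
    (hf : AlgSp.LocP @LocallyOfFiniteType f.hom) (hg : AlgSp.LocP @LocallyOfFiniteType g.hom)
    (x : AlgSp.Points X.obj) (r₁ r₂ : Cardinal.{u})
    (h1 : AlgSp.HasAtMor (fun _ _ h u => Dual3.resTrdeg h u = r₁) f.hom x)
    (h2 : AlgSp.HasAtMor (fun _ _ h u => Dual3.resTrdeg h u = r₂) g.hom (AlgSp.Points.map f.hom x)) :
    AlgSp.HasAtMor (fun _ _ h u => Dual3.resTrdeg h u = r₁ + r₂) (f ≫ g).hom x := by
  obtain ⟨W, V, T, a, b, c, h, k, w, hae, has, hbe, hbs, hce, hcs, wh, wk, hw, hv⟩ :=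
    exists_chart_diagram_comp_at f g x
  have e1 := (hasAtMor_iff_forall_chart (isEtaleLocalGermMor_resTrdeg (· = r₁)) f x).1 h1
    W V a b h w hae hbe wh hw
  have e2 := (hasAtMor_iff_forall_chart (isEtaleLocalGermMor_resTrdeg (· = r₂)) g _).1 h2
    V T b c k (h.left w) hbe hce wk hv
  refine ⟨W, T, a, c, h ≫ k, w, hae, hce, ?_, hw, ?_⟩
  · change a ≫ f.hom ≫ g.hom = _
    rw [← Category.assoc, wh, Category.assoc, wk, Functor.map_comp, Category.assoc]
  · show Dual3.resTrdeg (h.left ≫ k.left) w = r₁ + r₂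
    rw [resTrdeg_comp, e1, e2, add_comm]

end Groth.Agent.S10319
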