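import Groth.Statements.S1032
import Mathlib.Algebra.Homology.DerivedCategory.KInjective
import Mathlib.CategoryTheory.Functor.Derived.PointwiseRightDerived

set_option autoImplicit false
universe w v v' u u'
open CategoryTheory CategoryTheory.Limits
open CohDer

namespace Groth.Agent.S1032

section Helpers
variable {A : Type u} [Category.{v} A] [Abelian A] [HasDerivedCategory.{w} A]

/-- For a K-injective complex `I`, the identity costructured arrow over `Qh.obj I` is terminal. -/
noncomputable def isTerminalMkId (I : CochainComplex A ℤ) [I.IsKInjective] :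
    IsTerminal (CostructuredArrow.mk (S := (DerivedCategory.Qh (C := A)))
      (𝟙 (DerivedCategory.Qh.obj ((HomotopyCategory.quotient A (ComplexShape.up ℤ)).obj I)))) := by
  refine IsTerminal.ofUniqueHom
    (fun c => CostructuredArrow.homMk
      ((Equiv.ofBijective _ (CochainComplex.IsKInjective.Qh_map_bijective c.left I)).symm c.hom) ?_) ?_
  · dsimp
    rw [Category.comp_id]
    exact (Equiv.ofBijective _ (CochainComplex.IsKInjective.Qh_map_bijective c.left I)).apply_symm_apply c.hom
  · intro c m
    ext
    apply (CochainComplex.IsKInjective.Qh_map_bijective c.left I).injective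
    have h1 := CostructuredArrow.w m
    dsimp at h1 ⊢
    rw [Category.comp_id] at h1
    rw [h1]
    exact ((Equiv.ofBijective _ (CochainComplex.IsKInjective.Qh_map_bijective c.left I)).apply_symm_apply c.hom).symm

variable {D' : Type u'} [Category.{v'} D']

lemma hasPointwiseAt_of_isKInjective (F : HomotopyCategory A (ComplexShape.up ℤ) ⥤ D')
    (I : CochainComplex A ℤ) [I.IsKInjective] :
    F.HasPointwiseRightDerivedFunctorAt (HomotopyCategory.quasiIso A (ComplexShape.up ℤ))
      ((HomotopyCategory.quotient A (ComplexShape.up ℤ)).obj I) := by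
  rw [Functor.hasPointwiseRightDerivedFunctorAt_iff F DerivedCategory.Qh]
  exact ⟨⟨_, colimitOfDiagramTerminal (isTerminalMkId I) _⟩⟩

lemma hasPointwise
    (hKinj : ∀ K : CochainComplex A ℤ, ∃ (I : CochainComplex A ℤ) (f : K ⟶ I), I.IsKInjective ∧ QuasiIso f)
    (F : HomotopyCategory A (ComplexShape.up ℤ) ⥤ D') :
    F.HasPointwiseRightDerivedFunctor (HomotopyCategory.quasiIso A (ComplexShape.up ℤ)) := by
  intro K
  obtain ⟨K, rfl⟩ := HomotopyCategory.quotient_obj_surjective K
  obtain ⟨I, f, hI, hf⟩ := hKinj K
  rw [Functor.hasPointwiseRightDerivedFunctorAt_iff_of_mem F _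
    ((HomotopyCategory.quotient A (ComplexShape.up ℤ)).map f)
    (by rw [HomotopyCategory.quotient_map_mem_quasiIso_iff]; exact hf)]
  exact hasPointwiseAt_of_isKInjective F I

lemma isIso_unit
    (hKinj : ∀ K : CochainComplex A ℤ, ∃ (I : CochainComplex A ℤ) (f : K ⟶ I), I.IsKInjective ∧ QuasiIso f)
    (F : HomotopyCategory A (ComplexShape.up ℤ) ⥤ D')
    [F.HasRightDerivedFunctor (HomotopyCategory.quasiIso A (ComplexShape.up ℤ))]
    (I : CochainComplex A ℤ) [I.IsKInjective] :
    IsIso ((F.totalRightDerivedUnit DerivedCategory.Qh (HomotopyCategory.quasiIso A (ComplexShape.up ℤ))).app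
        ((HomotopyCategory.quotient A (ComplexShape.up ℤ)).obj I)) := by
  have := hasPointwise hKinj F
  let h := Functor.isPointwiseLeftKanExtensionOfHasPointwiseRightDerivedFunctor
    (F.totalRightDerived DerivedCategory.Qh (HomotopyCategory.quasiIso A (ComplexShape.up ℤ)))
    (F.totalRightDerivedUnit DerivedCategory.Qh (HomotopyCategory.quasiIso A (ComplexShape.up ℤ)))
    (HomotopyCategory.quasiIso A (ComplexShape.up ℤ))
  have := (h (DerivedCategory.Qh.obj ((HomotopyCategory.quotient A (ComplexShape.up ℤ)).obj I))).isIso_ι_app_of_isTerminal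
    _ (isTerminalMkId I)
  have e : ((Functor.LeftExtension.mk
      (F.totalRightDerived DerivedCategory.Qh (HomotopyCategory.quasiIso A (ComplexShape.up ℤ)))
      (F.totalRightDerivedUnit DerivedCategory.Qh
        (HomotopyCategory.quasiIso A (ComplexShape.up ℤ)))).coconeAt
      (DerivedCategory.Qh.obj ((HomotopyCategory.quotient A (ComplexShape.up ℤ)).obj I))).ι.app
        (CostructuredArrow.mk
          (𝟙 (DerivedCategory.Qh.obj ((HomotopyCategory.quotient A (ComplexShape.up ℤ)).obj I)))) =
      (F.totalRightDerivedUnit DerivedCategory.Qh (HomotopyCategory.quasiIso A (ComplexShape.up ℤ))).app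
        ((HomotopyCategory.quotient A (ComplexShape.up ℤ)).obj I) := by
    change (F.totalRightDerivedUnit DerivedCategory.Qh (HomotopyCategory.quasiIso A (ComplexShape.up ℤ))).app
        ((HomotopyCategory.quotient A (ComplexShape.up ℤ)).obj I) ≫
      (F.totalRightDerived DerivedCategory.Qh (HomotopyCategory.quasiIso A (ComplexShape.up ℤ))).map
        (𝟙 _) = _
    rw [CategoryTheory.Functor.map_id]
    exact Category.comp_id _
  rw [← e]
  exact this

end Helpers


/-- Let A be an abelian category in which every cochain complex admits a quasi-isomorphism to a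
K-injective complex, and let F be an exact functor from the homotopy category K(A) to a
pretriangulated category. Then F has a right derived functor RF with respect to quasi-isomorphisms
(defined on D(A)), and the canonical map F(I) ⟶ RF(I) is an isomorphism for every K-injective
complex I. -/
theorem result {A : Type u} [Category.{v} A] [Abelian A] [HasDerivedCategory.{w} A]
    (hKinj : ∀ K : CochainComplex A ℤ, ∃ (I : CochainComplex A ℤ) (f : K ⟶ I), I.IsKInjective ∧ QuasiIso f)
    {D' : Type u'} [Category.{v'} D'] [Preadditive D'] [Limits.HasZeroObject D'] [HasShift D' ℤ]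
    [∀ n : ℤ, (shiftFunctor D' n).Additive] [Pretriangulated D']
    [IsTriangulated D']
    (F : HomotopyCategory A (ComplexShape.up ℤ) ⥤ D') [F.CommShift ℤ] [F.IsTriangulated] :
    F.HasRightDerivedFunctor (HomotopyCategory.quasiIso A (ComplexShape.up ℤ)) ∧
    ∀ [F.HasRightDerivedFunctor (HomotopyCategory.quasiIso A (ComplexShape.up ℤ))] (I : CochainComplex A ℤ), I.IsKInjective →
      IsIso ((F.totalRightDerivedUnit DerivedCategory.Qh (HomotopyCategory.quasiIso A (ComplexShape.up ℤ))).app
        ((HomotopyCategory.quotient A (ComplexShape.up ℤ)).obj I)) := by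
  refine ⟨?_, ?_⟩
  · have := hasPointwise hKinj F
    infer_instance
  · intro _ I hI
    exact isIso_unit hKinj F I

end Groth.Agent.S1032
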