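import Groth.Statements.S10320
-- import your own Groth.Agent.* helpers here
import Groth.Agent.Lib.Helper36.ResTrdeg
import Groth.Agent.Lib.Helper73.DimFormula.Fiber

set_option autoImplicit false
universe u
open CategoryTheory CategoryTheory.Limits AlgebraicGeometry
open AlgSp

namespace Groth.Agent.S10320

open Groth.Agent.Lib.Helper36.AlgSpChartDiag Groth.Agent.Lib.Helper36.AlgSpHasAtMor
  Groth.Agent.Lib.Helper36.ResTrdeg Groth.Agent.Lib.Helper36

/-- Scheme-level formula: fibre dimension = dimension of the local ring of the fibre + transcendence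
degree of the residue field extension. -/
theorem fibreDimAt_eq_add {U V : Scheme.{u}} (h : U ⟶ V) [LocallyOfFiniteType h] (u : ↥U) :
    FlatMor.fibreDimAt h u =
      ringKrullDim ↥((h.fiber (h u)).presheaf.stalk (h.asFiber u)) +
        ((Cardinal.toENat (Dual3.resTrdeg h u) : ℕ∞) : WithBot ℕ∞) := by
  have h1 := Groth.Agent.Lib.Helper73.localDim_eq (k := V.residueField (h u))
    (h.fiberToSpecResidueField (h u)) (h.asFiber u)
  have h2 := Groth.Agent.Lib.Helper73.resTrdeg_eq_natCast h u
  have h3 : Dual3.resTrdeg h u = Groth.Agent.Lib.Helper73.resTrdeg h u := rfl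
  unfold FlatMor.fibreDimAt
  rw [h1, h3, h2]
  simp

theorem isEtaleLocalGermMor_fibreStalkDim (e : WithBot ℕ∞) :
    IsEtaleLocalGermMor (fun _ _ h u =>
      ringKrullDim ↥((h.fiber (h u)).presheaf.stalk (h.asFiber u)) = e) := by
  intro U U' V V' h h' a b _ _ comm u'
  have hv : b (h' u') = h (a u') := by
    rw [← Scheme.Hom.comp_apply, comm, Scheme.Hom.comp_apply]
  have := FibreEtale.ringKrullDim_stalk_fiber_eq h h' a b comm (h' u') (h (a u')) hv
    (h'.asFiber u') (h.asFiber (a u'))
    (by rw [Scheme.Hom.fiberι_asFiber, Scheme.Hom.fiberι_asFiber])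
  show ringKrullDim ↥((h.fiber (h (a u'))).presheaf.stalk (h.asFiber (a u'))) = e ↔
    ringKrullDim ↥((h'.fiber (h' u')).presheaf.stalk (h'.asFiber u')) = e
  rw [this]

/-- For f locally of finite type, the relative dimension of f at x equals the dimension of the local
ring of the fibre at x plus the transcendence degree of x over its image. -/
theorem result {S : Scheme.{u}} {X Y : AlgSp.Space S} (f : X ⟶ Y)
    (hf : AlgSp.LocP @LocallyOfFiniteType f.hom) (x : AlgSp.Points X.obj) (d e : WithBot ℕ∞) (r : Cardinal.{u})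
    (hd : AlgSp.HasAtMor (fun _ _ h u => FlatMor.fibreDimAt h u = d) f.hom x)
    (he : AlgSp.HasAtMor (fun _ _ h u => ringKrullDim ↥((h.fiber (h u)).presheaf.stalk (h.asFiber u)) = e) f.hom x)
    (hr : AlgSp.HasAtMor (fun _ _ h u => Dual3.resTrdeg h u = r) f.hom x) :
    d = e + ((Cardinal.toENat r : ℕ∞) : WithBot ℕ∞) := by
  obtain ⟨W, V, a, b, h, w, hae, has, hbe, hbs, weq, hw, hv⟩ := exists_chart_diagram_at f x
  have : LocallyOfFiniteType h.left := hf a b h hae hbe weq
  have e1 := (hasAtMor_iff_forall_chart (isEtaleLocalGermMor_fibreDimAt (· = d)) f x).1 hd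
    W V a b h w hae hbe weq hw
  have e2 := (hasAtMor_iff_forall_chart (isEtaleLocalGermMor_fibreStalkDim e) f x).1 he
    W V a b h w hae hbe weq hw
  have e3 := (hasAtMor_iff_forall_chart (isEtaleLocalGermMor_resTrdeg (· = r)) f x).1 hr
    W V a b h w hae hbe weq hw
  have := fibreDimAt_eq_add h.left w
  rw [← e1, ← e2, ← e3]
  exact this

end Groth.Agent.S10320
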