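import Groth.Statements.S10321
import Groth.Agent.Lib.Helper23.SLQMain
import Groth.Agent.Lib.Helper23.AlgSpQc2

set_option autoImplicit false
universe u
open CategoryTheory CategoryTheory.Limits AlgebraicGeometry
open AlgSp

namespace Groth.Agent.S10321

open Groth.Agent.Lib.Helper23.AlgSpMor

/-- Let X be separated and locally quasi-finite over an affine scheme T, let T' -> T be etale with T'
affine, and let V' be an open subspace of T' ×_T X that is quasi-affine over T'. Then V' maps onto a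
quasi-compact open subspace of X that is itself a scheme. -/
theorem result {S : Scheme.{u}} {T T' : Over S} [IsAffine T.left]
    [IsAffine T'.left] (e : T' ⟶ T) [Etale e.left] {X P V' : AlgSp.Space S} (f : X ⟶ (AlgSp.ofScheme S).obj T)
    (hsep : AlgSp.IsSeparatedMor f.hom) (hqf : AlgSp.LocP (@LocallyQuasiFinite ⊓ @LocallyOfFiniteType) f.hom)
    (p1 : P ⟶ (AlgSp.ofScheme S).obj T') (p2 : P ⟶ X)
    (sq : IsPullback p2.hom p1.hom f.hom ((AlgSp.yon S).map e)) (j : V' ⟶ P)
    (hj : AlgSp.RepWith @IsOpenImmersion j.hom) (hqa : AlgSp.IsQuasiAffineMor (j ≫ p1).hom) :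
    ∃ (W : Over S) (i : (AlgSp.yon S).obj W ⟶ X.obj), AlgSp.RepWith @IsOpenImmersion i ∧ CompactSpace ↥W.left ∧
      Set.range (AlgSp.Points.map i) = Set.range (AlgSp.Points.map (j ≫ p2).hom) := by
  have hrepX := Groth.Agent.Lib.Helper23.SLQ.isRepresentable_of_sep_lqf X.property f.hom hsep hqf
  obtain ⟨Z, ⟨eZ⟩⟩ := Groth.Agent.Lib.Helper23.SLQ.exists_iso_of_isRepresentable hrepX
  obtain ⟨W₀, i₀, fst₀, sq₀, hW₀⟩ := hqa (Z := T') inferInstance (𝟙 _)
  haveI : IsIso fst₀ := sq₀.isIso_fst_of_isIso (IsIso.id _)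
  haveI : CompactSpace ↥W₀.left := hW₀.toCompactSpace
  -- the morphism `W₀ ⟶ Z`
  obtain ⟨m, hm⟩ := (yon S).map_surjective (fst₀ ≫ (j ≫ p2).hom ≫ eZ.inv)
  have hm' : (yon S).map m ≫ eZ.hom = fst₀ ≫ (j ≫ p2).hom := by
    rw [hm, Category.assoc, Category.assoc, Iso.inv_hom_id, Category.comp_id]
  have hp2 : RepWith @Etale p2.hom :=
    (MorphismProperty.relative_isStableUnderBaseChange _).of_isPullback sq.flip
      ((repWith_yon_map_iff @Etale e).2 inferInstance)
  have hje : RepWith @Etale j.hom :=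
    Groth.Agent.Lib.Helper23.SLQ.repWith_etale_of_isOpenImmersion hj
  have hjp2 : RepWith @Etale (j ≫ p2).hom := Groth.Agent.Lib.Helper23.SLQ.repWith_etale_comp hje hp2
  have hme : RepWith @Etale ((yon S).map m) := by
    rw [hm]
    exact MorphismProperty.RespectsIso.precomp _ _ _
      (MorphismProperty.RespectsIso.postcomp _ _ _ hjp2)
  haveI hmet : Etale m.left := (repWith_yon_map_iff @Etale m).1 hme
  let O : Z.left.Opens := ⟨Set.range m.left, m.left.isOpenMap.isOpen_range⟩
  have hOc : IsCompact (O : Set ↥Z.left) := isCompact_range m.left.continuous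
  refine ⟨overOpens Z O, (yon S).map (overOpensι Z O) ≫ eZ.hom, ?_, ?_, ?_⟩
  · refine MorphismProperty.RespectsIso.postcomp _ _ _ ?_
    exact (repWith_yon_map_iff @IsOpenImmersion _).2 (by
      change IsOpenImmersion O.ι
      infer_instance)
  · exact isCompact_iff_compactSpace.mp hOc
  · have hsurj : Function.Surjective (Points.map fst₀) :=
      Groth.Agent.Lib.Helper23.AlgSpMor.isSurjectiveMor_of_isIso fst₀
    have h1 : Set.range (Points.map (j ≫ p2).hom) =
        Set.range (Points.map (fst₀ ≫ (j ≫ p2).hom)) := by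
      have : Points.map (fst₀ ≫ (j ≫ p2).hom) = Points.map (j ≫ p2).hom ∘ Points.map fst₀ := by
        funext x
        exact Points.map_comp _ _ x
      rw [this, Set.range_comp, hsurj.range_eq, Set.image_univ]
    rw [h1, ← hm', Groth.Agent.Lib.Helper23.SLQ.range_map_eq_range_ofPt,
      Groth.Agent.Lib.Helper23.SLQ.range_map_eq_range_ofPt]
    ext x
    constructor
    · rintro ⟨y, rfl⟩
      rw [Groth.Agent.Lib.Helper37.AlgSpPoints.ofPt_map_comp]
      obtain ⟨w, hw⟩ : (O.ι y) ∈ Set.range m.left := by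
        have := y.2
        simpa using this
      exact ⟨w, by rw [Groth.Agent.Lib.Helper37.AlgSpPoints.ofPt_map_comp, hw]; rfl⟩
    · rintro ⟨w, rfl⟩
      rw [Groth.Agent.Lib.Helper37.AlgSpPoints.ofPt_map_comp]
      refine ⟨⟨m.left w, ⟨w, rfl⟩⟩, ?_⟩
      rw [Groth.Agent.Lib.Helper37.AlgSpPoints.ofPt_map_comp]
      rfl

end Groth.Agent.S10321
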