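import Groth.Statements.S10323
-- import your own Groth.Agent.* helpers here
import Groth.Agent.Lib.Helper36.ResTrdeg
import Groth.Agent.Lib.Helper73.DimFormula.SchemeLocal

set_option autoImplicit false
universe u
open CategoryTheory CategoryTheory.Limits AlgebraicGeometry
open AlgSp

namespace Groth.Agent.S10323

open Groth.Agent.Lib.Helper36.AlgSpChartDiag Groth.Agent.Lib.Helper36.AlgSpHasAtMor
  Groth.Agent.Lib.Helper36.AlgSpHasAt
  Groth.Agent.Lib.Helper36.ResTrdeg Groth.Agent.Lib.Helper36 Groth.Agent.Lib.Helper37.AlgSpPoints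

/-- The local ring at the generic point of an irreducible component has dimension zero. -/
theorem ringKrullDim_stalk_eq_zero_of_mem_irreducibleComponents {X : Scheme.{u}} (ξ : ↥X)
    (hξ : closure {ξ} ∈ irreducibleComponents ↥X) :
    ringKrullDim ↥(X.presheaf.stalk ξ) = 0 := by
  rw [ringKrullDim_stalk_eq_coheight]
  have : Order.coheight ξ = 0 := by
    rw [Order.coheight_eq_zero]
    intro η hη
    have h1 : η ⤳ ξ := hη
    have h2 : closure {ξ} ⊆ closure {η} := h1.closure_subset
    have h3 : closure {η} ⊆ closure {ξ} := hξ.le_of_ge isIrreducible_singleton.closure h2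
    show ξ ⤳ η
    exact specializes_iff_mem_closure.2 (h3 (subset_closure rfl))
  rw [this]; rfl

/-- Scheme-level dimension inequality in `WithBot ℕ∞`. -/
theorem dim_inequality {W V : Scheme.{u}} [IsLocallyNoetherian V] (h : W ⟶ V)
    [LocallyOfFiniteType h] (w : ↥W) :
    ∃ ξ : ↥W, closure {ξ} ∈ irreducibleComponents ↥W ∧ ξ ⤳ w ∧
      ringKrullDim ↥(W.presheaf.stalk w) +
          ((Cardinal.toENat (Dual3.resTrdeg h w) : ℕ∞) : WithBot ℕ∞) ≤
        ringKrullDim ↥(V.presheaf.stalk (h w)) +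
          ((Cardinal.toENat (Dual3.resTrdeg h ξ) : ℕ∞) : WithBot ℕ∞) := by
  obtain ⟨ξ, hξ, hsp, a, b, ha, hb, hle⟩ :=
    Groth.Agent.Lib.Helper73.exists_generic_stalk_dim_add_trdeg_le h w
  refine ⟨ξ, hξ, hsp, ?_⟩
  have hle' : (a : Cardinal.{u}) + Dual3.resTrdeg h w ≤ (b : Cardinal.{u}) + Dual3.resTrdeg h ξ :=
    hle
  have h2 := OrderHomClass.mono Cardinal.toENat hle'
  rw [map_add, map_add, map_natCast, map_natCast] at h2
  rw [ha, hb]
  exact_mod_cast h2

/-- For Y locally Noetherian and f locally of finite type, the dimension of the local ring of X at x is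
at most the dimension of the local ring of Y at the image point plus E minus the transcendence
degree of x over its image, where E bounds the transcendence degrees of the codimension-0 points
specializing to x. -/
theorem result {S : Scheme.{u}} {X Y : AlgSp.Space S} (f : X ⟶ Y)
    (hY : AlgSp.IsLocNoethSp Y.obj) (hf : AlgSp.LocP @LocallyOfFiniteType f.hom) (x : AlgSp.Points X.obj)
    (E : Cardinal.{u})
    (hE : ∀ ξ : AlgSp.Points X.obj, ξ ⤳ x → AlgSp.HasAt (fun U u => ringKrullDim ↥(U.presheaf.stalk u) = 0) X.obj ξ →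
      ∀ s : Cardinal.{u}, AlgSp.HasAtMor (fun _ _ h u => Dual3.resTrdeg h u = s) f.hom ξ → s ≤ E)
    (a b : WithBot ℕ∞) (r : Cardinal.{u})
    (ha : AlgSp.HasAt (fun U u => ringKrullDim ↥(U.presheaf.stalk u) = a) X.obj x)
    (hb : AlgSp.HasAt (fun U u => ringKrullDim ↥(U.presheaf.stalk u) = b) Y.obj (AlgSp.Points.map f.hom x))
    (hr : AlgSp.HasAtMor (fun _ _ h u => Dual3.resTrdeg h u = r) f.hom x) :
    a + ((Cardinal.toENat r : ℕ∞) : WithBot ℕ∞) ≤ b + ((Cardinal.toENat E : ℕ∞) : WithBot ℕ∞) := by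
  obtain ⟨V, bb, hbe, hbs, hVN⟩ := hY
  obtain ⟨W, aa, h, w, hae, has, weq, hw, hv⟩ :=
    exists_chart_diagram_at_of_chart f.hom bb hbe hbs x
  have : IsLocallyNoetherian V.left := hVN
  have : LocallyOfFiniteType h.left := hf aa bb h hae hbe weq
  have e1 := (hasAt_iff_forall_chart (isEtaleLocalGerm_ringKrullDim a) (atlas' X) x).1 ha W aa w hae hw
  have e2 := (hasAt_iff_forall_chart (isEtaleLocalGerm_ringKrullDim b) (atlas' Y) _).1 hb V bb
    (h.left w) hbe hv
  have e3 := (hasAtMor_iff_forall_chart (isEtaleLocalGermMor_resTrdeg (· = r)) f x).1 hr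
    W V aa bb h w hae hbe weq hw
  obtain ⟨ξ, hξ, hsp, hle⟩ := dim_inequality h.left w
  have hs : Dual3.resTrdeg h.left ξ ≤ E := by
    refine hE (Points.ofPt aa ξ) ?_ ⟨W, aa, ξ, hae, rfl,
      ringKrullDim_stalk_eq_zero_of_mem_irreducibleComponents ξ hξ⟩ _
      ⟨W, V, aa, bb, h, ξ, hae, hbe, weq, rfl, rfl⟩
    rw [← hw]
    exact hsp.map (Points.continuous_ofPt aa)
  rw [← e1, ← e2, ← e3]
  refine hle.trans ?_
  gcongr
  exact_mod_cast OrderHomClass.mono Cardinal.toENat hs

end Groth.Agent.S10323
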