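import Groth.Statements.S10324
-- import your own Groth.Agent.* helpers here
import Groth.Agent.S10323

set_option autoImplicit false
universe u
open CategoryTheory CategoryTheory.Limits AlgebraicGeometry
open AlgSp

namespace Groth.Agent.S10324

open Groth.Agent.Lib.Helper36.AlgSpChartDiag Groth.Agent.Lib.Helper36.AlgSpHasAtMor
  Groth.Agent.Lib.Helper36.AlgSpHasAt
  Groth.Agent.Lib.Helper36.ResTrdeg Groth.Agent.Lib.Helper36 Groth.Agent.Lib.Helper37.AlgSpPoints

/-- For Y locally Noetherian and f : X -> Y locally of finite type, dim X ≤ dim Y + E where E bounds the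
transcendence degrees over Y of the codimension-0 points of X. -/
theorem result {S : Scheme.{u}} {X Y : AlgSp.Space S} (f : X ⟶ Y)
    (hY : AlgSp.IsLocNoethSp Y.obj) (hf : AlgSp.LocP @LocallyOfFiniteType f.hom) (E : Cardinal.{u})
    (hE : ∀ ξ : AlgSp.Points X.obj, AlgSp.HasAt (fun U u => ringKrullDim ↥(U.presheaf.stalk u) = 0) X.obj ξ → ∀ s : Cardinal.{u}, AlgSp.HasAtMor (fun _ _ h u => Dual3.resTrdeg h u = s) f.hom ξ → s ≤ E) :
    AlgSp.dim X.obj ≤ AlgSp.dim Y.obj + ((Cardinal.toENat E : ℕ∞) : WithBot ℕ∞) := by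
  unfold AlgSp.dim
  refine iSup_le fun U => iSup_le fun a => iSup_le fun hae => ?_
  rw [Groth.Agent.Lib.Helper73.topologicalKrullDim_eq_iSup_stalk]
  refine iSup_le fun u => ?_
  obtain ⟨V, bb, hbe, hbs, hVN⟩ := id hY
  obtain ⟨v, hv⟩ := ofPt_surjective bb hbs (Points.map f.hom (Points.ofPt a u))
  obtain ⟨W', V', aa', bb', h', w', hae', has', hbe', hbs', weq', hw', hv'⟩ :=
    exists_chart_diagram_at f (Points.ofPt a u)
  have key := Groth.Agent.S10323.result f hY hf (Points.ofPt a u) E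
    (fun ξ _ h0 s hs => hE ξ h0 s hs)
    (ringKrullDim ↥(U.left.presheaf.stalk u)) (ringKrullDim ↥(V.left.presheaf.stalk v))
    (Dual3.resTrdeg h'.left w')
    ⟨U, a, u, hae, rfl, rfl⟩ ⟨V, bb, v, hbe, hv, rfl⟩
    ⟨W', V', aa', bb', h', w', hae', hbe', weq', hw', rfl⟩
  have h1 : ringKrullDim ↥(V.left.presheaf.stalk v) ≤
      ⨆ (U : Over S) (a : (yon S).obj U ⟶ Y.obj) (_ : RepWith @Etale a),
        topologicalKrullDim ↥U.left :=
    le_trans (Groth.Agent.Lib.Helper73.ringKrullDim_stalk_le_topologicalKrullDim V.left v)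
      (le_iSup_of_le V (le_iSup_of_le bb (le_iSup_of_le hbe le_rfl)))
  calc ringKrullDim ↥(U.left.presheaf.stalk u)
      ≤ ringKrullDim ↥(U.left.presheaf.stalk u) +
          ((Cardinal.toENat (Dual3.resTrdeg h'.left w') : ℕ∞) : WithBot ℕ∞) := by
        exact le_add_of_nonneg_right (by exact_mod_cast (zero_le : (0 : ℕ∞) ≤ _))
    _ ≤ _ := key
    _ ≤ _ := by gcongr

end Groth.Agent.S10324
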