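import Groth.Statements.S10325
import Groth.Agent.Lib.Helper30.FiniteCoprod
import Groth.Agent.Lib.Helper5.AlgSpCoprod
import Groth.Agent.Lib.Helper5.SheafVK

set_option autoImplicit false
universe u
open CategoryTheory CategoryTheory.Limits AlgebraicGeometry
open AlgSp

namespace Groth.Agent.S10325

open Groth.Agent.Lib Groth.Agent.Lib.Helper30

/-- A finite disjoint union of algebraic spaces finite over Y is finite over Y. -/
theorem result {S : Scheme.{u}} {n : ℕ} (X : Fin n → AlgSp.Space S) (Y : AlgSp.Space S)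
    (g : ∀ i, X i ⟶ Y) (hg : ∀ i, AlgSp.IsFiniteMor (g i).hom) (c : Cofan fun i => (X i).obj) (hc : IsColimit c)
    (d : c.pt ⟶ Y.obj) (hd : ∀ i, c.inj i ≫ d = (g i).hom) : AlgSp.IsFiniteMor d := by
  intro Z hZ g
  choose W ι fst hpb hWaff hfin using fun i => hg i hZ g
  let Wt : Over S := Helper5.sigmaOver W
  let it : Wt ⟶ Z := Over.homMk (Sigma.desc fun i => (ι i).left) (by
    apply Sigma.hom_ext
    intro i
    change Sigma.ι _ i ≫ Sigma.desc _ ≫ Z.hom = Sigma.ι _ i ≫ Sigma.desc _
    rw [← Category.assoc, Sigma.ι_desc, Sigma.ι_desc]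
    exact Over.w (ι i))
  have hit : ∀ i, Helper5.sigmaOverι W i ≫ it = ι i := fun i => by
    ext1
    change Sigma.ι _ i ≫ Sigma.desc _ = _
    rw [Sigma.ι_desc]
  let cW : Cofan fun i => (yon S).obj (W i) :=
    Cofan.mk ((yon S).obj Wt) fun i => (yon S).map (Helper5.sigmaOverι W i)
  have hcW : IsColimit cW := Helper5.isColimitYonSigmaOver W
  let q : (yon S).obj Wt ⟶ c.pt := Cofan.IsColimit.desc hcW (fun i => fst i ≫ c.inj i)
  have hq : ∀ i, (yon S).map (Helper5.sigmaOverι W i) ≫ q = fst i ≫ c.inj i :=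
    fun i => Cofan.IsColimit.fac hcW _ i
  have hcomm : q ≫ d = (yon S).map it ≫ g := by
    apply Cofan.IsColimit.hom_ext hcW
    intro i
    change (yon S).map (Helper5.sigmaOverι W i) ≫ q ≫ d =
      (yon S).map (Helper5.sigmaOverι W i) ≫ (yon S).map it ≫ g
    rw [← Category.assoc, hq, Category.assoc, hd, (hpb i).w, ← Category.assoc, ← Functor.map_comp, hit]
  -- the abstract pullback and the comparison map
  let k : (yon S).obj Wt ⟶ pullback d g := pullback.lift q ((yon S).map it) hcomm
  have hk1 : k ≫ pullback.fst d g = q := pullback.lift_fst _ _ _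
  have hk2 : k ≫ pullback.snd d g = (yon S).map it := pullback.lift_snd _ _ _
  let cP : Cofan fun i => (yon S).obj (W i) :=
    Cofan.mk (pullback d g) fun i => (yon S).map (Helper5.sigmaOverι W i) ≫ k
  have hsqP : ∀ i, IsPullback (cP.inj i) (fst i) (pullback.fst d g) (c.inj i) := by
    intro i
    have hbot : IsPullback (pullback.fst d g) (pullback.snd d g) d g := IsPullback.of_hasPullback d g
    have hbig : IsPullback (fst i) (cP.inj i ≫ pullback.snd d g) (c.inj i ≫ d) g := by
      have e1 : cP.inj i ≫ pullback.snd d g = (yon S).map (ι i) := by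
        change ((yon S).map (Helper5.sigmaOverι W i) ≫ k) ≫ pullback.snd d g = _
        rw [Category.assoc, hk2, ← Functor.map_comp, hit]
      rw [e1, hd]
      exact hpb i
    refine (IsPullback.of_bot hbig ?_ hbot).flip
    change fst i ≫ c.inj i = ((yon S).map (Helper5.sigmaOverι W i) ≫ k) ≫ pullback.fst d g
    rw [Category.assoc, hk1, hq]
  have hcP : Nonempty (IsColimit cP) :=
    (Helper5.cofan_sheaf_vanKampen (J S) c hc cP fst (pullback.fst d g) (fun i => (hsqP i).w.symm)).2 hsqP
  obtain ⟨hcP⟩ := hcP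
  let e : (yon S).obj Wt ≅ pullback d g := hcW.coconePointUniqueUpToIso hcP
  have he : e.hom = k := by
    apply Cofan.IsColimit.hom_ext hcW
    intro i
    exact hcW.comp_coconePointUniqueUpToIso_hom hcP ⟨i⟩
  have hfinite : IsFinite it.left := by
    have := FiniteCoprod.isFinite_desc_fin n (fun i => (W i).left) Z.left (fun i => (ι i).left) hfin
      (Cofan.mk _ (Sigma.ι fun i => (W i).left)) (coproductIsCoproduct _)
    exact this
  refine ⟨Wt, it, q, ?_, ?_, hfinite⟩
  · exact IsPullback.of_iso_pullback ⟨hcomm⟩ e (by rw [he, hk1]) (by rw [he, hk2])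
  · have := hZ
    exact isAffine_of_isAffineHom it.left

end Groth.Agent.S10325
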