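import Groth.Statements.S10326
-- import your own Groth.Agent.* helpers here
import Groth.Agent.Lib.Helper36.AlgSpChartDiag
import Mathlib.AlgebraicGeometry.Morphisms.UniversallyOpen
import Mathlib.AlgebraicGeometry.Noetherian

set_option autoImplicit false
universe u
open CategoryTheory CategoryTheory.Limits AlgebraicGeometry
open AlgSp

namespace Groth.Agent.S10326

open Groth.Agent.Lib.Helper36.AlgSpCharts Groth.Agent.Lib.Helper36.AlgSpChartDiag
  TopologicalSpace

/-- A quasi-compact open subset of the target of an etale surjective morphism from a locally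
Noetherian scheme is a Noetherian space. -/
theorem noetherianSpace_of_etale_surjective {P U : Scheme.{u}} (π : P ⟶ U) [Etale π]
    [Surjective π] [IsLocallyNoetherian P] (W : U.Opens) (hW : IsCompact (W : Set ↥U)) :
    NoetherianSpace ↥W := by
  have hchoice : ∀ w : ↥W, ∃ A : P.Opens, IsAffineOpen A ∧ (A : Set ↥P) ⊆ π ⁻¹' (W : Set ↥U) ∧
      w.1 ∈ π '' (A : Set ↥P) := by
    intro w
    obtain ⟨p, hp⟩ := π.surjective w.1
    have hpW : p ∈ π ⁻¹' (W : Set ↥U) := by
      change π p ∈ W
      rw [hp]; exact w.2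
    obtain ⟨_, ⟨A, hA, rfl⟩, hpA, hAW⟩ := P.isBasis_affineOpens.exists_subset_of_mem_open hpW
      (W.2.preimage π.continuous)
    exact ⟨A, hA, hAW, p, hpA, hp⟩
  choose A hA hAW hwA using hchoice
  obtain ⟨t, ht⟩ := hW.elim_finite_subcover (fun w : ↥W => π '' (A w : Set ↥P))
    (fun w => π.isOpenMap _ (A w).2) (fun w hw => Set.mem_iUnion.2 ⟨⟨w, hw⟩, hwA ⟨w, hw⟩⟩)
  have hN : ∀ w : ↥W, NoetherianSpace ↥(π '' (A w : Set ↥P)) := by
    intro w
    have : IsNoetherianRing Γ(P, A w) := IsLocallyNoetherian.component_noetherian ⟨A w, hA w⟩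
    have : NoetherianSpace ↥(A w) := noetherianSpace_of_isAffineOpen (A w) (hA w)
    have h1 := NoetherianSpace.range (fun x : ↥(A w) => π x.1)
      (π.continuous.comp continuous_subtype_val)
    have e : Set.range (fun x : ↥(A w) => π x.1) = π '' (A w : Set ↥P) := by
      ext y
      simp only [Set.mem_range, Subtype.exists, Set.mem_image, SetLike.mem_coe, exists_prop]
    rwa [e] at h1
  have hWeq : (W : Set ↥U) = ⋃ w : ↥(t : Set ↥W), π '' (A w.1 : Set ↥P) := by
    apply Set.Subset.antisymm
    · intro y hy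
      obtain ⟨w, hw, hyw⟩ := Set.mem_iUnion₂.1 (ht hy)
      exact Set.mem_iUnion.2 ⟨⟨w, hw⟩, hyw⟩
    · intro y hy
      obtain ⟨w, p, hp, rfl⟩ := Set.mem_iUnion.1 hy
      exact hAW w.1 hp
  have : ∀ w : ↥(t : Set ↥W), NoetherianSpace ↥(π '' (A w.1 : Set ↥P)) := fun w => hN w.1
  have hfin : Finite ↥(t : Set ↥W) := t.finite_toSet.to_subtype
  have hU := NoetherianSpace.iUnion (fun w : ↥(t : Set ↥W) => π '' (A w.1 : Set ↥P))
  rw [← hWeq] at hU
  exact hU

/-- Every scheme etale over a locally Noetherian algebraic space has quasi-compact opens with finitely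
many irreducible components. -/
theorem result {S : Scheme.{u}} (X : AlgSp.Space S)
    (hX : AlgSp.IsLocNoethSp X.obj) (U : Over S) (a : (AlgSp.yon S).obj U ⟶ X.obj) (ha : AlgSp.RepWith @Etale a)
    (W : U.left.Opens) (hW : IsCompact (W : Set ↥U.left)) : (irreducibleComponents ↥W).Finite := by
  obtain ⟨V, b, hbe, hbs, hV⟩ := hX
  have hV' : IsLocallyNoetherian V.left := hV
  obtain ⟨P, p1, p2, sq⟩ := exists_isPullback_yon a b hbe.rep
  have h1 : Etale p1.left := prop_fst_of_isPullback sq hbe
  have h1s : Surjective p1.left := prop_fst_of_isPullback sq hbs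
  have h2 : Etale p2.left := prop_snd_of_isPullback sq ha
  have hP : IsLocallyNoetherian P.left := LocallyOfFiniteType.isLocallyNoetherian p2.left
  have := noetherianSpace_of_etale_surjective p1.left W hW
  exact NoetherianSpace.finite_irreducibleComponents

end Groth.Agent.S10326
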