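import Groth.Statements.S10327
import Groth.Agent.Lib.Helper23.AlgSpDomExt
import Groth.Agent.S10288
import Groth.Agent.S10289
import Groth.Agent.S10290
import Groth.Agent.S10291

set_option autoImplicit false
universe u
open CategoryTheory CategoryTheory.Limits AlgebraicGeometry
open AlgSp

namespace Groth.Agent.S10327

/-- For f quasi-compact and quasi-separated, f is separated and universally closed if and only if the
valuative criterion holds, if and only if every valuative square has a unique lift. -/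
theorem result {S : Scheme.{u}} {X Y : AlgSp.Space S} (f : X ⟶ Y)
    (hqc : AlgSp.IsQuasiCompactMor f.hom) (hqs : AlgSp.IsQuasiSeparatedMor f.hom) :
    ((AlgSp.IsSeparatedMor f.hom ∧ AlgSp.IsUnivClosedMor f.hom) ↔ AlgSp.VC f.hom) ∧
    ((AlgSp.IsSeparatedMor f.hom ∧ AlgSp.IsUnivClosedMor f.hom) ↔
      (AlgSp.UniqVC f.hom ∧ AlgSp.ExistVCStrict f.hom)) := by
  have hstrict : AlgSp.IsSeparatedMor f.hom → AlgSp.ExistVC f.hom → AlgSp.ExistVCStrict f.hom := by
    intro hs h sq
    obtain ⟨e, he⟩ := h sq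
    exact Groth.Agent.Lib.Helper23.AlgSpMor.hasLift_of_domExt_of_separated X.property Y.property
      f.hom hs sq e he
  have hext : AlgSp.ExistVCStrict f.hom → AlgSp.ExistVC f.hom := fun h sq =>
    Groth.Agent.Lib.Helper23.AlgSpMor.hasLiftExt_of_hasLift sq (h sq)
  refine ⟨⟨?_, ?_⟩, ⟨?_, ?_⟩⟩
  · rintro ⟨hs, hc⟩
    exact ⟨Groth.Agent.S10290.result f hs, Groth.Agent.S10289.result f hqs hc⟩
  · rintro ⟨hu, he⟩
    exact ⟨Groth.Agent.S10291.result f hqs hu, Groth.Agent.S10288.result f hqc he⟩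
  · rintro ⟨hs, hc⟩
    exact ⟨Groth.Agent.S10290.result f hs, hstrict hs (Groth.Agent.S10289.result f hqs hc)⟩
  · rintro ⟨hu, he⟩
    exact ⟨Groth.Agent.S10291.result f hqs hu, Groth.Agent.S10288.result f hqc (hext he)⟩

end Groth.Agent.S10327
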