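import Groth.Statements.S10328
import Groth.Agent.Lib.Helper22.AlgSpDim
import Groth.Agent.Lib.Helper36.AlgSpChartDiag

set_option autoImplicit false
universe u
open CategoryTheory CategoryTheory.Limits AlgebraicGeometry
open AlgSp

namespace Groth.Agent.S10328

/-- The relative dimension of a composite at a point is at most the sum of the relative dimensions, with
equality when the first morphism is flat at the point. (The published part (2) allows more generally
flatness of a fibre of X -> Y over a field point of Z; only the case f flat at x is stated.) -/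
theorem result {S : Scheme.{u}} {X Y Z : AlgSp.Space S} (f : X ⟶ Y) (g : Y ⟶ Z)
    (hf : AlgSp.LocP @LocallyOfFiniteType f.hom) (hg : AlgSp.LocP @LocallyOfFiniteType g.hom)
    (x : AlgSp.Points X.obj) (a b : WithBot ℕ∞)
    (ha : AlgSp.HasAtMor (fun _ _ h u => FlatMor.fibreDimAt h u = a) f.hom x)
    (hb : AlgSp.HasAtMor (fun _ _ h u => FlatMor.fibreDimAt h u = b) g.hom (AlgSp.Points.map f.hom x)) :
    AlgSp.HasAtMor (fun _ _ h u => FlatMor.fibreDimAt h u ≤ a + b) (f ≫ g).hom x ∧
    (AlgSp.IsFlatAtMor f.hom x → AlgSp.HasAtMor (fun _ _ h u => FlatMor.fibreDimAt h u = a + b) (f ≫ g).hom x) := by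
  open Groth.Agent.Lib.Helper36.AlgSpChartDiag Groth.Agent.Lib.Helper36.AlgSpHasAtMor
    Groth.Agent.Lib.Helper36.AlgSpHasAt Groth.Agent.Lib.Helper37.AlgSpPoints
    Groth.Agent.Lib.Helper73 in
  obtain ⟨W, V, T, p, q, r, h, k, w, hpe, hps, hqe, hqs, hre, hrs, w1, w2, hw, hv⟩ :=
    exists_chart_diagram_comp_at f g x
  haveI : LocallyOfFiniteType h.left := hf p q h hpe hqe w1
  haveI : LocallyOfFiniteType k.left := hg q r k hqe hre w2
  have e1 : FlatMor.fibreDimAt h.left w = a :=
    (hasAtMor_iff_forall_chart (isEtaleLocalGermMor_fibreDimAt (· = a)) f x).1 ha W V p q h w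
      hpe hqe w1 hw
  have e2 : FlatMor.fibreDimAt k.left (h.left w) = b :=
    (hasAtMor_iff_forall_chart (isEtaleLocalGermMor_fibreDimAt (· = b)) g _).1 hb V T q r k
      (h.left w) hqe hre w2 hv
  have w3 : p ≫ (f ≫ g).hom = (yon S).map (h ≫ k) ≫ r := by
    change p ≫ f.hom ≫ g.hom = _
    rw [← Category.assoc, w1, Category.assoc, w2, Functor.map_comp, Category.assoc]
  refine ⟨⟨W, T, p, r, h ≫ k, w, hpe, hre, w3, hw, ?_⟩,
    fun hfl => ⟨W, T, p, r, h ≫ k, w, hpe, hre, w3, hw, ?_⟩⟩
  · change FlatMor.fibreDimAt (h.left ≫ k.left) w ≤ a + b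
    rw [← e1, ← e2]
    exact fibreDimAt_comp_le_add h.left k.left w
  · change FlatMor.fibreDimAt (h.left ≫ k.left) w = a + b
    rw [← e1, ← e2]
    exact fibreDimAt_comp_eq_add h.left k.left w (hfl p q h w hpe hqe w1 hw)

end Groth.Agent.S10328
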