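import Groth.Statements.S10329
-- import your own Groth.Agent.* helpers here
import Groth.Agent.Lib.Helper36.QFLocus

set_option autoImplicit false
universe u
open CategoryTheory CategoryTheory.Limits AlgebraicGeometry
open AlgSp

namespace Groth.Agent.S10329

open Groth.Agent.Lib.Helper36.AlgSpCharts Groth.Agent.Lib.Helper36.AlgSpChartDiag
  Groth.Agent.Lib.Helper36.AlgSpHasAtMor Groth.Agent.Lib.Helper36.QuasiFiniteAt
  Groth.Agent.Lib.Helper36.OpenSubspace Groth.Agent.Lib.Helper37.AlgSpPoints
  Groth.Agent.Lib.Helper36.QFLocus Groth.Agent.Lib.Helper36.CartesianCharts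
  Groth.Agent.Lib.Helper36.AlgSpHasAt Groth.Agent.Lib.Helper36.FibreDimZero

/-- A point of the fibre over a field point at which the fibre has dimension zero maps into the
quasi-finite locus. -/
theorem map_mem_qfLocus {S : Scheme.{u}} {X Y : AlgSp.Space S} {F : AlgSp.Sp S} (f : X ⟶ Y)
    (hf : AlgSp.LocP @LocallyOfFiniteType f.hom) (k : Type u) [Field k] (str : Spec (.of k) ⟶ S)
    (y : (AlgSp.yon S).obj (Over.mk str) ⟶ Y.obj) (p : F ⟶ X.obj)
    (q : F ⟶ (AlgSp.yon S).obj (Over.mk str))
    (sq : IsPullback p q f.hom y) (z : AlgSp.Points F)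
    (hz : AlgSp.HasAt (fun U u => FlatMor.localDim ↥U u = 0) F z) :
    AlgSp.Points.map p z ∈ qfLocus f := by
  obtain ⟨U₀, p₀, hpe, hps⟩ := X.property.atlas
  obtain ⟨V, bV, hbe, hbs⟩ := Y.property.atlas
  obtain ⟨T, t2, t1, sqT⟩ := exists_isPullback_yon y bV hbe.rep
  have ht2e : Etale t2.left := prop_fst_of_isPullback sqT hbe
  have ht2s : Surjective t2.left := prop_fst_of_isPullback sqT hbs
  obtain ⟨W, U'', p1, h, α, h'', a'', sqW, sqS, ha1, ha2, hP⟩ :=
    exists_cartesian_charts f.hom y p q sq p₀ bV ((yon S).map t2) t1 sqT.w hbe.rep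
  have hae : RepWith @Etale ((yon S).map p1 ≫ p₀) :=
    repWith_yon_map_comp p1 (prop_fst_of_isPullback sqW hbe) p₀ hpe
  have weq : ((yon S).map p1 ≫ p₀) ≫ f.hom = (yon S).map h ≫ bV := by
    rw [Category.assoc]; exact sqW.w
  have ha''e : RepWith @Etale a'' := hP @Etale hpe ((repWith_yon_map_iff _ _).2 ht2e)
  have ha''s : RepWith @Surjective a'' := hP @Surjective hps ((repWith_yon_map_iff _ _).2 ht2s)
  obtain ⟨u'', hu''⟩ := ofPt_surjective a'' ha''s z
  -- local dimension zero at u''
  have hdim : FlatMor.localDim ↥U''.left u'' = 0 := by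
    obtain ⟨U1, a1, u1, ha1e, hu1, hq1⟩ := hz
    exact (germ_iff_of_ofPt_eq (isEtaleLocalGerm_localDim 0) a'' a1 ha''e ha1e u'' u1
      (hu''.trans hu1.symm)).2 hq1
  have : LocallyOfFiniteType h.left := hf _ bV h hae hbe weq
  have : LocallyOfFiniteType h''.left :=
    MorphismProperty.of_isPullback (P := @LocallyOfFiniteType) sqS ‹_›
  have hT : IsLocallyNoetherian T.left := by
    have : LocallyOfFiniteType t2.left := inferInstance
    exact LocallyOfFiniteType.isLocallyNoetherian (Y := Spec (.of k)) t2.left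
  have hU'' : IsLocallyNoetherian U''.left := LocallyOfFiniteType.isLocallyNoetherian h''.left
  have hopen : IsOpen ({u''} : Set ↥U''.left) := isOpen_singleton_of_localDim_eq_zero u'' hdim
  have hq'' : h''.left.QuasiFiniteAt u'' := quasiFiniteAt_of_isOpen_singleton h''.left u'' hopen
  have hq : h.left.QuasiFiniteAt (α.left u'') :=
    quasiFiniteAt_of_isPullback h.left h''.left α.left t1.left sqS u'' hq''
  have hmem := (mem_qfLocus_iff_of_chart f hf _ bV h hae hbe weq (α.left u'')).2 hq
  rw [← ofPt_map_comp, ← ha1, ← Points.map_ofPt, hu''] at hmem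
  exact hmem

/-- If the fibre of a morphism locally of finite type has dimension 0 at a point, then the morphism is
locally quasi-finite on some open subspace containing the image of that point. -/
theorem result {S : Scheme.{u}} {X Y F : AlgSp.Space S} (f : X ⟶ Y)
    (hf : AlgSp.LocP @LocallyOfFiniteType f.hom) (k : Type u) [Field k] (str : Spec (.of k) ⟶ S)
    (y : (AlgSp.yon S).obj (Over.mk str) ⟶ Y.obj) (p : F ⟶ X) (q : F.obj ⟶ (AlgSp.yon S).obj (Over.mk str))
    (sq : IsPullback p.hom q f.hom y) (z : AlgSp.Points F.obj)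
    (hz : AlgSp.HasAt (fun U u => FlatMor.localDim ↥U u = 0) F.obj z) :
    ∃ (X' : AlgSp.Space S) (j : X' ⟶ X), AlgSp.RepWith @IsOpenImmersion j.hom ∧
      AlgSp.Points.map p.hom z ∈ Set.range (AlgSp.Points.map j.hom) ∧
      AlgSp.LocP (@LocallyQuasiFinite ⊓ @LocallyOfFiniteType) (j ≫ f).hom := by
  have hW := isOpen_qfLocus f hf
  refine ⟨⟨openSub X.obj (qfLocus f), isAlgSpace_openSub X.obj X.property _ hW⟩,
    ObjectProperty.homMk (openSubι X.obj (qfLocus f)),
    repWith_isOpenImmersion_openSubι X.obj _ hW, ?_, locP_lqf_openSub f hf⟩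
  show Points.map p.hom z ∈ Set.range (Points.map (openSubι X.obj (qfLocus f)))
  rw [range_map_openSubι]
  exact map_mem_qfLocus f hf k str y p.hom q sq z hz

end Groth.Agent.S10329
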