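import Groth.Statements.S1033
import Mathlib.Algebra.Homology.DerivedCategory.Fractions
import Mathlib.Algebra.Homology.DerivedCategory.Ext.ExactSequences
import Mathlib.Algebra.Homology.SingleHomology
import Mathlib.Algebra.Homology.DerivedCategory.TStructure

set_option autoImplicit false
universe w v u
open CategoryTheory CategoryTheory.Abelian
open CohDer

namespace Groth.Agent.S1033

open DerivedCategory HomologicalComplex Limits in
lemma eff_complex {A : Type u} [Category.{v} A] [Abelian A] [HasDerivedCategory.{w} A]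
    (X : A) (L : CochainComplex A ℤ) [L.IsStrictlyLE (-1)]
    (f : Q.obj ((HomologicalComplex.single A (ComplexShape.up ℤ) 0).obj X) ⟶ Q.obj L) :
    ∃ (X' : A) (π : X' ⟶ X), Epi π ∧
      Q.map ((HomologicalComplex.single A (ComplexShape.up ℤ) 0).map π) ≫ f = 0 := by
  obtain ⟨K, hK, s, hs, g, rfl⟩ := right_fac_of_isStrictlyLE f 0
  let ι : (HomologicalComplex.single A (ComplexShape.up ℤ) 0).obj (K.X 0) ⟶ K :=
    HomologicalComplex.mkHomFromSingle (𝟙 _) (by
      intro k hk
      apply (K.isZero_of_isStrictlyLE 0 k (by simp at hk; lia)).eq_of_tgt)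
  let π : K.X 0 ⟶ X := s.f 0 ≫ (singleObjXSelf (ComplexShape.up ℤ) 0 X).hom
  have h1 : ι ≫ s = (HomologicalComplex.single A (ComplexShape.up ℤ) 0).map π := by
    apply HomologicalComplex.from_single_hom_ext
    simp [ι, π, single_map_f_self]
  have h2 : ι ≫ g = 0 := by
    apply HomologicalComplex.from_single_hom_ext
    apply (L.isZero_of_isStrictlyLE (-1) 0 (by simp)).eq_of_tgt
  refine ⟨K.X 0, π, ?_, ?_⟩
  · rw [isIso_Q_map_iff_quasiIso] at hs
    have e : K.iCycles 0 ≫ π = K.homologyπ 0 ≫ homologyMap s 0 ≫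
        (singleObjHomologySelfIso (ComplexShape.up ℤ) 0 X).hom := by
      rw [homologyπ_naturality_assoc, homologyπ_singleObjHomologySelfIso_hom,
        singleObjCyclesSelfIso_hom, cyclesMap_i_assoc]
    have : Epi (K.iCycles 0 ≫ π) := by
      rw [e]
      infer_instance
    exact epi_of_epi (K.iCycles 0) π
  · rw [← h1, Functor.map_comp, Category.assoc, IsIso.hom_inv_id_assoc, ← Functor.map_comp, h2,
      Functor.map_zero]

open DerivedCategory in
lemma eff_derived {A : Type u} [Category.{v} A] [Abelian A] [HasDerivedCategory.{w} A]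
    (X : A) (M : DerivedCategory A) [DerivedCategory.IsLE M (-1)]
    (f : (DerivedCategory.singleFunctor A 0).obj X ⟶ M) :
    ∃ (X' : A) (π : X' ⟶ X), Epi π ∧ (DerivedCategory.singleFunctor A 0).map π ≫ f = 0 := by
  obtain ⟨L, hL, ⟨e⟩⟩ := DerivedCategory.exists_iso_Q_obj_of_isLE M (-1)
  obtain ⟨X', π, hπ, h⟩ := eff_complex X L (f ≫ e.hom)
  refine ⟨X', π, hπ, ?_⟩
  rw [← cancel_mono e.hom, Category.assoc, Limits.zero_comp]
  exact h

lemma eff_ext {A : Type u} [Category.{v} A] [Abelian A] [HasExt.{w} A]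
    {X Y : A} {n : ℕ} (x : Ext X Y (n + 1)) :
    ∃ (X' : A) (π : X' ⟶ X), Epi π ∧ (Ext.mk₀ π).comp x (zero_add (n + 1)) = 0 := by
  letI : HasDerivedCategory A := HasDerivedCategory.standard A
  haveI : DerivedCategory.IsLE (((DerivedCategory.singleFunctor A 0).obj Y)⟦((n + 1 : ℕ) : ℤ)⟧) (-1) := by
    have : DerivedCategory.IsLE (((DerivedCategory.singleFunctor A 0).obj Y)⟦((n + 1 : ℕ) : ℤ)⟧) (-((n + 1 : ℕ) : ℤ)) :=
      (DerivedCategory.TStructure.t (C := A)).isLE_shift _ 0 _ _ (by lia)
    exact (DerivedCategory.TStructure.t (C := A)).isLE_of_le _ (-((n + 1 : ℕ) : ℤ)) (-1) (by push_cast; lia)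
  obtain ⟨X', π, hπ, h⟩ := eff_derived X _ x.hom
  refine ⟨X', π, hπ, ?_⟩
  apply Ext.ext
  rw [← Ext.singleFunctor_map_comp_hom, h, Ext.zero_hom]

open Limits in
lemma aux {A : Type u} [Category.{v} A] [Abelian A] [HasExt.{w} A] (p : ℕ)
    (h : ∀ (B C : A) (x : Ext B C p), x = 0) (i : ℕ) (hi : p ≤ i) :
    ∀ (B C : A) (x : Ext B C i), x = 0 := by
  induction i, hi using Nat.le_induction with
  | base => exact h
  | succ i hi ih =>
    intro B C x
    obtain ⟨B', π, hπ, hx⟩ := eff_ext x
    let S := ShortComplex.mk (kernel.ι π) π (kernel.condition π)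
    have hS : S.ShortExact :=
      { exact := ShortComplex.exact_of_f_is_kernel S (kernelIsKernel π)
        mono_f := inferInstanceAs (Mono (kernel.ι π))
        epi_g := hπ }
    obtain ⟨y, rfl⟩ := Ext.contravariant_sequence_exact₃ hS C x hx (add_comm 1 i)
    rw [ih _ _ y, Ext.comp_zero]

/-- Let A be an abelian category (with Ext groups in some universe) and p ≥ 0. If Extᵖ(B, C) = 0 for all
objects B, C, then Extⁱ(B, C) = 0 for all i ≥ p and all B, C. -/
theorem result {A : Type u} [Category.{v} A] [Abelian A] [HasExt.{w} A] (p : ℕ)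
    (h : ∀ (B C : A) (x : Ext B C p), x = 0) (i : ℕ) (hi : p ≤ i) (B C : A) (x : Ext B C i) : x = 0 := by
  exact aux p h i hi B C x

end Groth.Agent.S1033
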