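import Groth.Statements.S10333
import Groth.Agent.S10267
import Groth.Agent.Lib.Helper23.SchImage2
import Groth.Agent.Lib.Helper23.RedInduced

set_option autoImplicit false
universe u
open CategoryTheory CategoryTheory.Limits AlgebraicGeometry
open AlgSp

namespace Groth.Agent.S10333



/-- Let f : Y -> X be a morphism of algebraic spaces over S that is quasi-compact and quasi-separated,
and X' -> X the normalization of X in Y (an integral morphism through which f factors, initial among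
such factorizations). If Y is reduced then X' is reduced. -/
theorem result {S : Scheme.{u}} {Y X X' : AlgSp.Space S} (f : Y ⟶ X)
    (hqc : AlgSp.IsQuasiCompactMor f.hom) (hqs : AlgSp.IsQuasiSeparatedMor f.hom) (ν : X' ⟶ X) (f' : Y ⟶ X')
    (hn : AlgSp.IsRelNormalization f.hom ν.hom f'.hom) (hY : AlgSp.IsReducedSp Y.obj) :
    AlgSp.IsReducedSp X'.obj := by
  obtain ⟨Z₀, i₀, hZ₀, hi₀cl, hi₀r, hZ₀red⟩ :=
    Groth.Agent.Lib.Helper23.ClosedDescent.exists_isRedInduced X'.property Set.univ isClosed_univ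
  have hmono : Mono i₀ := Groth.Agent.Lib.Helper23.ClosedDescent.mono_of_repWith_isClosedImmersion i₀ hi₀cl
  obtain ⟨g, hg⟩ := Groth.Agent.Lib.Helper23.ClosedDescent.exists_factor_of_isReducedSp hY f'.hom i₀ hi₀cl
    (by rw [hi₀r]; exact Set.subset_univ _)
  -- i₀ is integral
  let Z' : AlgSp.Space S := ⟨Z₀, hZ₀⟩
  let i' : Z' ⟶ X' := ObjectProperty.homMk i₀
  have hi₀R : AlgSp.RepWith @IsIntegralHom i₀ :=
    ⟨hi₀cl.1, fun U V a fst snd sq => by
      have : IsClosedImmersion snd.left := hi₀cl.2 a fst snd sq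
      change IsIntegralHom snd.left
      infer_instance⟩
  have hνR : AlgSp.RepWith @IsIntegralHom ν.hom := (Groth.Agent.S10267.result ν).1.1 hn.2.1
  have := AlgSp.repWith_isMultiplicative (S := S) @IsIntegralHom
  have hπ : AlgSp.IsIntegralMor (i₀ ≫ ν.hom) :=
    (Groth.Agent.S10267.result (i' ≫ ν)).1.2
      (MorphismProperty.comp_mem (AlgSp.RepWith (S := S) @IsIntegralHom) _ _ hi₀R hνR)
  obtain ⟨h, ⟨hh1, hh2⟩, -⟩ := hn.2.2 hZ₀ (i₀ ≫ ν.hom) g hπ
    (by rw [← Category.assoc, hg, hn.1])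
  obtain ⟨k, -, huniq⟩ := hn.2.2 X'.property ν.hom f'.hom hn.2.1 hn.1
  have e1 : h ≫ i₀ = 𝟙 X'.obj := by
    rw [huniq (h ≫ i₀) ⟨by rw [← Category.assoc, hh1, hg], by rw [Category.assoc, hh2]⟩,
      huniq (𝟙 _) ⟨Category.comp_id _, Category.id_comp _⟩]
  have e2 : i₀ ≫ h = 𝟙 Z₀ := by
    rw [← cancel_mono i₀, Category.assoc, e1, Category.comp_id, Category.id_comp]
  have hiso : IsIso i₀ := ⟨h, e2, e1⟩
  obtain ⟨U, p, hpe, hps, hU⟩ := hZ₀red
  exact ⟨U, p ≫ i₀, (MorphismProperty.cancel_right_of_respectsIso _ p i₀).2 hpe,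
    (MorphismProperty.cancel_right_of_respectsIso _ p i₀).2 hps, hU⟩

end Groth.Agent.S10333
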