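import Groth.Statements.S10335
-- import your own Groth.Agent.* helpers here
import Groth.Agent.S10320
import Groth.Agent.Lib.Helper36.BaseChangeChart
import Groth.Agent.Lib.Helper73.DimFormula.FiberStalkBC

set_option autoImplicit false
universe u
open CategoryTheory CategoryTheory.Limits AlgebraicGeometry
open AlgSp

namespace Groth.Agent.S10335

open Groth.Agent.Lib.Helper36.AlgSpCharts Groth.Agent.Lib.Helper37.AlgSpPoints
  Groth.Agent.Lib.Helper36.AlgSpChartDiag Groth.Agent.Lib.Helper36.AlgSpHasAtMor
  Groth.Agent.Lib.Helper36.BaseChangeChart Groth.Agent.Lib.Helper36.ResTrdeg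
  Groth.Agent.Lib.Helper73

/-- The local rings of the fibres of a morphism locally of finite type are Noetherian. -/
theorem isNoetherianRing_fiber_stalk_of_lft {X S : Scheme.{u}} (f : X ⟶ S)
    [LocallyOfFiniteType f] (s : ↥S) (z : ↥(f.fiber s)) :
    IsNoetherianRing ↥((f.fiber s).presheaf.stalk z) := by
  have : IsLocallyNoetherian (f.fiber s) :=
    LocallyOfFiniteType.isLocallyNoetherian (f.fiberToSpecResidueField s)
  infer_instance

/-- Over every point of the image of `g'` there is a point of `X'` in the same fibre of `f'` at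
which the fibre local ring has at most the dimension downstairs (locally of finite type version of
helper73's `exists_ringKrullDim_fiberStalk_le_of_isPullback`). -/
theorem exists_fiberStalk_le {X S X' S' : Scheme.{u}} (f : X ⟶ S) [LocallyOfFiniteType f]
    (g : S' ⟶ S) (g' : X' ⟶ X) (f' : X' ⟶ S') (hsq : IsPullback g' f' f g) (y'' : ↥X') :
    ∃ y' : ↥X', g' y' = g' y'' ∧ f' y' = f' y'' ∧
      ringKrullDim ↥(CInt.fiberStalk f' y') ≤ ringKrullDim ↥(CInt.fiberStalk f (g' y'')) := by
  have hlft' : LocallyOfFiniteType f' := locallyOfFiniteType_of_isPullback' f g g' f' hsq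
  have := flat_fiberMapOfIsPullback f g g' f' hsq (f' y'')
  set π := fiberMapOfIsPullback f g g' f' hsq (f' y'') with hπ
  obtain ⟨z', hz'z'', hπz', hz'max⟩ := exists_maximal_fiber_specializes π (f'.asFiber y'')
  have := isNoetherianRing_fiber_stalk_of_lft f' (f' y'') z'
  have := isNoetherianRing_fiber_stalk_of_lft f (g (f' y'')) (π z')
  have h1 := ringKrullDim_stalk_eq_of_flat_of_maximal π z' hz'max
  rw [ringKrullDim_fiber_stalk_eq_fiberStalk f' (f' y'') z',
    ringKrullDim_fiber_stalk_eq_fiberStalk f (g (f' y'')) (π z')] at h1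
  have h2 : ∀ w, f.fiberι (g (f' y'')) (π w) = g' (f'.fiberι (f' y'') w) := by
    intro w
    have := congrArg (fun φ => φ w) (fiberMapOfIsPullback_fiberι f g g' f' hsq (f' y''))
    simpa only [Scheme.Hom.comp_apply] using this
  refine ⟨f'.fiberι (f' y'') z', ?_, ?_, ?_⟩
  · rw [← h2, hπz', h2, f'.fiberι_asFiber y'']
  · have : f'.fiberι (f' y'') z' ∈ Set.range (f'.fiberι (f' y'')) := ⟨_, rfl⟩
    rw [f'.range_fiberι] at this
    exact this
  · rw [h1, hπz', h2, f'.fiberι_asFiber y'']

/-- The dimension of the local ring of the fibre, via `CInt.fiberStalk`. -/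
theorem fsd_eq {X S : Scheme.{u}} (f : X ⟶ S) (x : ↥X) :
    ringKrullDim ↥((f.fiber (f x)).presheaf.stalk (f.asFiber x)) =
      ringKrullDim ↥(CInt.fiberStalk f x) := by
  rw [ringKrullDim_fiber_stalk_eq_fiberStalk f (f x) (f.asFiber x), f.fiberι_asFiber x]

/-- In a base change square of algebraic spaces with f : X -> Y locally of finite type and f' : X' -> Y'
its base change along g : Y' -> Y, take a point x' of X' over x. The fibre of f' has a local ring at
x' whose dimension exceeds the corresponding dimension for the fibre of f at x by exactly the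
transcendence degree of x over f(x) minus that of x' over f'(x'), and this excess is never negative;
and for x in X and y' in Y' over the same point of Y some x' over both has excess zero. All four
quantities are read on some chart diagram through the point. -/
theorem result {S : Scheme.{u}} {X Y Y' X' : AlgSp.Space S} (f : X ⟶ Y) (g : Y' ⟶ Y)
    (g' : X' ⟶ X) (f' : X' ⟶ Y') (sq : IsPullback g'.hom f'.hom f.hom g.hom)
    (hf : AlgSp.LocP @LocallyOfFiniteType f.hom) :
    (∀ (x' : AlgSp.Points X'.obj) (e e' : WithBot ℕ∞) (r r' : Cardinal.{u}),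
      AlgSp.HasAtMor (fun _ _ h u => ringKrullDim ↥((h.fiber (h u)).presheaf.stalk (h.asFiber u)) = e) f.hom
          (AlgSp.Points.map g'.hom x') →
      AlgSp.HasAtMor (fun _ _ h u => Dual3.resTrdeg h u = r) f.hom (AlgSp.Points.map g'.hom x') →
      AlgSp.HasAtMor (fun _ _ h u => ringKrullDim ↥((h.fiber (h u)).presheaf.stalk (h.asFiber u)) = e') f'.hom x' →
      AlgSp.HasAtMor (fun _ _ h u => Dual3.resTrdeg h u = r') f'.hom x' →
        e' + ((Cardinal.toENat r' : ℕ∞) : WithBot ℕ∞) = e + ((Cardinal.toENat r : ℕ∞) : WithBot ℕ∞) ∧ e ≤ e') ∧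
    (∀ (x : AlgSp.Points X.obj) (y' : AlgSp.Points Y'.obj) (e : WithBot ℕ∞),
      AlgSp.Points.map f.hom x = AlgSp.Points.map g.hom y' →
      AlgSp.HasAtMor (fun _ _ h u => ringKrullDim ↥((h.fiber (h u)).presheaf.stalk (h.asFiber u)) = e) f.hom x →
        ∃ x' : AlgSp.Points X'.obj, AlgSp.Points.map g'.hom x' = x ∧ AlgSp.Points.map f'.hom x' = y' ∧
          AlgSp.HasAtMor (fun _ _ h u => ringKrullDim ↥((h.fiber (h u)).presheaf.stalk (h.asFiber u)) = e)
            f'.hom x') := by
  obtain ⟨U, V, U', V', a, b, a', b', h, h', pU, q, hae, hbe, ha'e, ha's, hb'e, hb's, w, w', wg',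
    wg, sqs⟩ := exists_baseChange_charts f g g'.hom f'.hom sq
  have hlft : LocallyOfFiniteType h.left := hf a b h hae hbe w
  have hlft' : LocallyOfFiniteType h'.left :=
    locallyOfFiniteType_of_isPullback' h.left q.left pU.left h'.left sqs
  have hpt : ∀ u' : ↥U'.left, Points.ofPt a (pU.left u') =
      Points.map g'.hom (Points.ofPt a' u') := by
    intro u'
    rw [Points.map_ofPt, wg', ofPt_map_comp]
  have hpt' : ∀ u' : ↥U'.left, Points.ofPt b' (h'.left u') =
      Points.map f'.hom (Points.ofPt a' u') := by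
    intro u'
    rw [Points.map_ofPt, w', ofPt_map_comp]
  refine ⟨?_, ?_⟩
  · intro x' e e' r r' he hr he' hr'
    obtain ⟨u', hu'⟩ := ofPt_surjective a' ha's x'
    have hu : Points.ofPt a (pU.left u') = Points.map g'.hom x' := by rw [hpt, hu']
    have k1 := (hasAtMor_iff_forall_chart
      (Groth.Agent.S10320.isEtaleLocalGermMor_fibreStalkDim e) f _).1 he U V a b h (pU.left u')
      hae hbe w hu
    have k2 := (hasAtMor_iff_forall_chart (isEtaleLocalGermMor_resTrdeg (· = r)) f _).1 hr
      U V a b h (pU.left u') hae hbe w hu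
    have k3 := (hasAtMor_iff_forall_chart
      (Groth.Agent.S10320.isEtaleLocalGermMor_fibreStalkDim e') f' _).1 he' U' V' a' b' h' u'
      ha'e hb'e w' hu'
    have k4 := (hasAtMor_iff_forall_chart (isEtaleLocalGermMor_resTrdeg (· = r')) f' _).1 hr'
      U' V' a' b' h' u' ha'e hb'e w' hu'
    have d1 := Groth.Agent.S10320.fibreDimAt_eq_add h.left (pU.left u')
    have d2 := Groth.Agent.S10320.fibreDimAt_eq_add h'.left u'
    have d3 := fibreDimAt_eq_of_isPullback h.left q.left pU.left h'.left sqs u'
    simp only at k1 k2 k3 k4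
    rw [k1, k2] at d1
    rw [k3, k4] at d2
    refine ⟨by rw [← d1, ← d2, d3], ?_⟩
    rw [← k1, ← k3, fsd_eq, fsd_eq]
    exact ringKrullDim_fiberStalk_le_of_isPullback h.left q.left pU.left h'.left sqs u'
  · intro x y' e hxy he
    obtain ⟨x'', hx''1, hx''2⟩ := points_exists_of_isPullback sq x y' hxy
    obtain ⟨u'', hu''⟩ := ofPt_surjective a' ha's x''
    obtain ⟨u', hu'1, hu'2, hu'3⟩ := exists_fiberStalk_le h.left q.left pU.left h'.left sqs u''
    have hx1 : Points.map g'.hom (Points.ofPt a' u') = x := by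
      rw [← hpt, hu'1, hpt, hu'', hx''1]
    have hx2 : Points.map f'.hom (Points.ofPt a' u') = y' := by
      rw [← hpt', hu'2, hpt', hu'', hx''2]
    refine ⟨Points.ofPt a' u', hx1, hx2, U', V', a', b', h', u', ha'e, hb'e, w', rfl, ?_⟩
    have hu : Points.ofPt a (pU.left u'') = x := by rw [hpt, hu'', hx''1]
    have k1 := (hasAtMor_iff_forall_chart
      (Groth.Agent.S10320.isEtaleLocalGermMor_fibreStalkDim e) f _).1 he U V a b h (pU.left u'')
      hae hbe w hu
    simp only at k1
    show ringKrullDim ↥((h'.left.fiber (h'.left u')).presheaf.stalk (h'.left.asFiber u')) = e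
    rw [fsd_eq] at k1 ⊢
    refine le_antisymm (hu'3.trans k1.le) ?_
    rw [← k1, ← hu'1]
    exact ringKrullDim_fiberStalk_le_of_isPullback h.left q.left pU.left h'.left sqs u'

end Groth.Agent.S10335
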