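import Groth.Statements.S10336
import Groth.Agent.Lib.Helper5.ZarLocalTarget

set_option autoImplicit false
universe u
open CategoryTheory CategoryTheory.Limits AlgebraicGeometry
open AlgSp

namespace Groth.Agent.S10336

/-- Integrality, finiteness and finite local freeness of a morphism f : X -> Y of algebraic spaces over
S can be checked on the restrictions of f over the members of a Zariski covering of Y by open
subspaces. -/
theorem result {S : Scheme.{u}} {X Y : AlgSp.Space S} (f : X ⟶ Y) {ι : Type u}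
    (Yi : ι → AlgSp.Space S) (j : ∀ i, Yi i ⟶ Y) (hj : AlgSp.IsZarCover (fun i => (Yi i).obj) (fun i => (j i).hom))
    (Xi : ι → AlgSp.Sp S) (p : ∀ i, Xi i ⟶ X.obj) (q : ∀ i, Xi i ⟶ (Yi i).obj)
    (sq : ∀ i, IsPullback (p i) (q i) f.hom (j i).hom) :
    ((∀ i, AlgSp.IsIntegralMor (q i)) → AlgSp.IsIntegralMor f.hom) ∧
    ((∀ i, AlgSp.IsFiniteMor (q i)) → AlgSp.IsFiniteMor f.hom) ∧
    ((∀ i, AlgSp.IsFinLocFreeMor (q i)) → AlgSp.IsFinLocFreeMor f.hom) := by
  refine ⟨fun hq Z hZ g => ?_, fun hq Z hZ g => ?_, fun hq => ?_⟩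
  · obtain ⟨V, q', fst, sqV, hP⟩ :=
      Groth.Agent.Lib.Helper5.ZarLocalTarget.exists_isPullback_of_zarCover @IsIntegralHom f.hom
        (fun i => (Yi i).obj) (fun i => (j i).hom) hj Xi p q sq g
        (B₀ := {W | IsAffineOpen W}) (Z.left.isBasis_affineOpens) (by
          intro i W hW gW
          obtain ⟨W', i', fst, sqW, -, hint⟩ := hq i (Z := Groth.Agent.Lib.Helper23.AlgSpMor.overOpens Z W) hW gW
          exact ⟨W', i', fst, sqW, hint⟩)
    haveI : IsIntegralHom q'.left := hP
    haveI := hZ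
    exact ⟨V, q', fst, sqV, isAffine_of_isAffineHom q'.left, hP⟩
  · obtain ⟨V, q', fst, sqV, hP⟩ :=
      Groth.Agent.Lib.Helper5.ZarLocalTarget.exists_isPullback_of_zarCover @IsFinite f.hom
        (fun i => (Yi i).obj) (fun i => (j i).hom) hj Xi p q sq g
        (B₀ := {W | IsAffineOpen W}) (Z.left.isBasis_affineOpens) (by
          intro i W hW gW
          obtain ⟨W', i', fst, sqW, -, hint⟩ := hq i (Z := Groth.Agent.Lib.Helper23.AlgSpMor.overOpens Z W) hW gW
          exact ⟨W', i', fst, sqW, hint⟩)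
    haveI : IsFinite q'.left := hP
    haveI := hZ
    exact ⟨V, q', fst, sqV, isAffine_of_isAffineHom q'.left, hP⟩
  · have hri : (AlgSp.finLocFree.{u}).RespectsIso :=
      MorphismProperty.IsStableUnderBaseChange.respectsIso
    apply MorphismProperty.relative.of_exists
    intro T g
    obtain ⟨V, q', fst, sqV, hP⟩ :=
      Groth.Agent.Lib.Helper5.ZarLocalTarget.exists_isPullback_of_zarCover
        (@IsFinite ⊓ (@Flat ⊓ @LocallyOfFinitePresentation)) f.hom
        (fun i => (Yi i).obj) (fun i => (j i).hom) hj Xi p q sq g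
        (B₀ := Set.univ) (by
          rw [TopologicalSpace.Opens.isBasis_iff_nbhd]
          intro U x hx
          exact ⟨U, trivial, hx, le_rfl⟩) (by
          intro i W _ gW
          have h := hq i
          exact ⟨h.rep.pullback gW, h.rep.snd gW, h.rep.fst gW, h.rep.isPullback gW,
            h.property_snd gW⟩)
    exact ⟨V, fst, q', sqV, hP⟩

end Groth.Agent.S10336
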