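import Groth.Statements.S10347
-- import your own Groth.Agent.* helpers here
import Groth.Agent.Lib.Helper36.AlgSpChartDiag
import Groth.Agent.Lib.Helper36.EtaleLocalDim
import Groth.Agent.Lib.Helper73.DimFormula.SchemeLocal

set_option autoImplicit false
universe u
open CategoryTheory CategoryTheory.Limits AlgebraicGeometry Topology TopologicalSpace
open AlgSp

namespace Groth.Agent.S10347

open Groth.Agent.Lib.Helper36.AlgSpChartDiag
  Groth.Agent.Lib.Helper36.AlgSpHasAt
  Groth.Agent.Lib.Helper36 Groth.Agent.Lib.Helper37.AlgSpPoints Groth.Agent.Lib.Helper36.EtaleLocalDim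

/-- Local rings do not grow in dimension along a locally quasi-finite morphism. -/
theorem ringKrullDim_stalk_le_of_locallyQuasiFinite {W V : Scheme.{u}} (h : W ⟶ V)
    [LocallyQuasiFinite h] (w : ↥W) :
    ringKrullDim ↥(W.presheaf.stalk w) ≤ ringKrullDim ↥(V.presheaf.stalk (h w)) := by
  have hq := h.quasiFiniteAt w
  algebraize [(h.stalkMap w).hom]
  have hq' : Algebra.QuasiFinite ↥(V.presheaf.stalk (h w)) ↥(W.presheaf.stalk w) := hq
  exact ringKrullDim_le_of_quasiFinite _ _

/-- For a locally quasi-finite morphism f : X ⟶ Y of algebraic spaces over a scheme S (locally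
quasi-finite and locally of finite type, etale locally on source and target), dim X ≤ dim Y. -/
theorem result {S : Scheme.{u}} {X Y : AlgSp.Space S} (f : X ⟶ Y)
    (hf : AlgSp.LocP (@LocallyQuasiFinite ⊓ @LocallyOfFiniteType) f.hom) :
    AlgSp.dim X.obj ≤ AlgSp.dim Y.obj := by
  unfold AlgSp.dim
  refine iSup_le fun U => iSup_le fun a => iSup_le fun hae => ?_
  rw [Groth.Agent.Lib.Helper73.topologicalKrullDim_eq_iSup_stalk]
  refine iSup_le fun u => ?_
  obtain ⟨W, V, aa, bb, h, w, hae', has', hbe, hbs, weq, hw, hv⟩ :=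
    exists_chart_diagram_at f (Points.ofPt a u)
  have : LocallyQuasiFinite h.left := (hf aa bb h hae' hbe weq).1
  have e1 := (hasAt_iff_forall_chart
    (isEtaleLocalGerm_ringKrullDim (ringKrullDim ↥(U.left.presheaf.stalk u))) (atlas' X)
    (Points.ofPt a u)).1 ⟨U, a, u, hae, rfl, rfl⟩ W aa w hae' hw
  rw [← e1]
  refine (ringKrullDim_stalk_le_of_locallyQuasiFinite h.left w).trans ?_
  exact le_trans (Groth.Agent.Lib.Helper73.ringKrullDim_stalk_le_topologicalKrullDim V.left _)
      (le_iSup_of_le V (le_iSup_of_le bb (le_iSup_of_le hbe le_rfl)))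

end Groth.Agent.S10347
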