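import Groth.Statements.S10348
-- import your own Groth.Agent.* helpers here
import Groth.Agent.Lib.Helper36.AlgSpChartDiag
import Mathlib.AlgebraicGeometry.Morphisms.QuasiFinite

set_option autoImplicit false
universe u
open CategoryTheory CategoryTheory.Limits AlgebraicGeometry Topology TopologicalSpace
open AlgSp

namespace Groth.Agent.S10348

open Groth.Agent.Lib.Helper36.AlgSpChartDiag Groth.Agent.Lib.Helper36.AlgSpHasAt
  Groth.Agent.Lib.Helper36

/-- Locally quasi-finite morphisms do not increase the dimension of local rings. -/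
theorem ringKrullDim_stalk_le_of_locallyQuasiFinite {W V : Scheme.{u}} (h : W ⟶ V)
    [LocallyQuasiFinite h] (w : ↥W) :
    ringKrullDim ↥(W.presheaf.stalk w) ≤ ringKrullDim ↥(V.presheaf.stalk (h w)) := by
  have hq := h.quasiFiniteAt w
  algebraize [(h.stalkMap w).hom]
  have : Algebra.QuasiFinite ↥(V.presheaf.stalk (h w)) ↥(W.presheaf.stalk w) := hq
  exact EtaleLocalDim.ringKrullDim_le_of_quasiFinite _ _

/-- Let S be a scheme, X and Y algebraic spaces over S, and f : X ⟶ Y a morphism which is locally
quasi-finite; let x ∈ |X| have image y ∈ |Y|. Then the local ring of X at x has dimension at most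
that of the local ring of Y at the point y (both dimensions read on etale charts through the
points). -/
theorem result {S : Scheme.{u}} {X Y : AlgSp.Space S} (f : X ⟶ Y)
    (hf : AlgSp.LocP (@LocallyQuasiFinite ⊓ @LocallyOfFiniteType) f.hom) (x : AlgSp.Points X.obj)
    (d e : WithBot ℕ∞)
    (hx : AlgSp.HasAt (fun U u => ringKrullDim ↥(U.presheaf.stalk u) = d) X.obj x)
    (hy : AlgSp.HasAt (fun V v => ringKrullDim ↥(V.presheaf.stalk v) = e) Y.obj (AlgSp.Points.map f.hom x)) :
    d ≤ e := by
  obtain ⟨W, V, a, b, h, w, hae, has, hbe, hbs, weq, hw, hv⟩ := exists_chart_diagram_at f x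
  have hq : LocallyQuasiFinite h.left := (hf a b h hae hbe weq).1
  have h1 := (hasAt_iff_forall_chart (isEtaleLocalGerm_ringKrullDim d) (atlas' X) x).1 hx W a w hae hw
  have h2 := (hasAt_iff_forall_chart (isEtaleLocalGerm_ringKrullDim e) (atlas' Y) _).1 hy V b
    (h.left w) hbe hv
  rw [← h1, ← h2]
  exact ringKrullDim_stalk_le_of_locallyQuasiFinite h.left w

end Groth.Agent.S10348
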