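import Groth.Statements.S10353
import Groth.Agent.Lib.Helper30.SchemLoc2

set_option autoImplicit false
universe u
open CategoryTheory CategoryTheory.Limits AlgebraicGeometry Topology TopologicalSpace
open AlgSp

namespace Groth.Agent.S10353

open Groth.Agent.Lib.Helper30.DecentOpenScheme Groth.Agent.Lib.Helper36.OpenSubspace
  Groth.Agent.Lib.Helper30.SchemLoc2 Groth.Agent.Lib.Helper37.AlgSpPoints
  Groth.Agent.Lib.Helper37.AlgSpFibres

/-- Let X be an algebraic space over a scheme S and suppose there is a finite, etale, surjective map h_U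
⟶ X from a scheme U. Then some dense open subspace of X is a scheme: an open subspace X' ⟶ X with
representable underlying sheaf and |X'| dense in |X|. -/
theorem result {S : Scheme.{u}} (X : AlgSp.Space S)
    {U : Over S} (a : (AlgSp.yon S).obj U ⟶ X.obj) (hf : AlgSp.RepWith @IsFinite a) (he : AlgSp.RepWith @Etale a)
    (hs : AlgSp.RepWith @Surjective a) :
    ∃ (X' : AlgSp.Space S) (j : X' ⟶ X), AlgSp.RepWith @IsOpenImmersion j.hom ∧ X'.obj.obj.IsRepresentable ∧
      Dense (Set.range (AlgSp.Points.map j.hom)) := by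
  have hW := isOpen_schematicLocus X.obj
  refine ⟨⟨openSub X.obj (schematicLocus X.obj),
    isAlgSpace_openSub X.obj X.property _ hW⟩,
    ObjectProperty.homMk (openSubι X.obj (schematicLocus X.obj)),
    repWith_isOpenImmersion_openSubι X.obj _ hW, isRepresentable_schematicLocus X, ?_⟩
  change Dense (Set.range (Points.map (openSubι X.obj (schematicLocus X.obj))))
  rw [range_map_openSubι]
  apply dense_schematicLocus_of_charts
  intro x
  obtain ⟨u, rfl⟩ := ofPt_surjective a hs x
  obtain ⟨_, ⟨V₀, hV₀, rfl⟩, huV₀, -⟩ :=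
    U.left.isBasis_affineOpens.exists_subset_of_mem_open (Set.mem_univ u) isOpen_univ
  refine ⟨openOver U V₀, (yon S).map (openι U V₀) ≫ a, ⟨u, huV₀⟩, hV₀,
    repWith_etale_restrict a he V₀, ofPt_restrict a V₀ ⟨u, huV₀⟩, ?_⟩
  intro R s t hR y
  obtain ⟨N, hN⟩ := exists_bound_of_finite_atlas a hf he V₀ hV₀ s t hR
  exact ⟨N, fun d hd => hN y d hd⟩

end Groth.Agent.S10353
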