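import Groth.Statements.S10355
import Groth.Agent.Lib.Helper30.DecentOpenScheme

set_option autoImplicit false
universe u
open CategoryTheory CategoryTheory.Limits AlgebraicGeometry Topology TopologicalSpace
open AlgSp

namespace Groth.Agent.S10355

open Groth.Agent.Lib.Helper30.DecentOpenScheme Groth.Agent.Lib.Helper36.OpenSubspace
  Groth.Agent.Lib.Helper23.SLQGlue

/-- A decent algebraic space X over a scheme S whose space of points is a single point is a scheme (the
underlying sheaf of X is representable). -/
theorem result {S : Scheme.{u}} (X : AlgSp.Space S)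
    (hX : AlgSp.IsDecent X.obj) [Nonempty (AlgSp.Points X.obj)] [Subsingleton (AlgSp.Points X.obj)] :
    X.obj.obj.IsRepresentable := by
  obtain ⟨w, hw⟩ := (dense_schematicLocus X hX).nonempty
  refine isRepresentable_of_local (ι := PUnit.{u + 1}) (fun _ => schematicLocus X.obj)
    (fun _ => isOpen_schematicLocus X.obj) (fun _ => isRepresentable_schematicLocus X) ?_
  intro x
  exact ⟨PUnit.unit, Subsingleton.elim w x ▸ hw⟩

end Groth.Agent.S10355
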