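import Groth.Statements.S10377
import Groth.Agent.Lib.Helper30.TopConstr
import Groth.Agent.Lib.Helper37.QsSober
import Groth.Agent.Lib.Helper36.AlgSpChartDiag
import Groth.Agent.S10350
import Groth.Agent.S10338

set_option autoImplicit false
universe u
open CategoryTheory CategoryTheory.Limits AlgebraicGeometry Topology TopologicalSpace
open AlgSp

namespace Groth.Agent.S10377

open Groth.Agent.Lib.Helper37.AlgSpPoints Groth.Agent.Lib.Helper37.QsSober
  Groth.Agent.Lib.Helper36.AlgSpCharts Groth.Agent.Lib.Helper36.AlgSpChartDiag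
open scoped Set.Notation

variable {S : Scheme.{u}}

set_option backward.isDefEq.respectTransparency.types false in
/-- Preimage in a quasi-compact open of a chart of the image of a quasi-compact scheme. -/
theorem isCompact_inter_preimage_range [QuasiSeparatedSpace ↥S] (X : Space S)
    (hX : IsQuasiSeparatedSp X.obj) {U T : Over S} (a : (yon S).obj U ⟶ X.obj)
    (ha : RepWith @Etale a) (t : (yon S).obj T ⟶ X.obj) [CompactSpace ↥T.left]
    (K : U.left.Opens) (hK : IsCompact (K : Set ↥U.left)) :
    IsCompact ((K : Set ↥U.left) ∩ Points.ofPt a ⁻¹' Set.range (Points.ofPt t)) := by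
  let K' : Over S := Over.mk (K.ι ≫ U.hom)
  let κ : K' ⟶ U := Over.homMk K.ι rfl
  have hKc : CompactSpace ↥K'.left := isCompact_iff_compactSpace.mp hK
  have hκ : Etale κ.left := (inferInstance : Etale K.ι)
  have ha' : RepWith @Etale ((yon S).map κ ≫ a) := repWith_yon_map_comp κ hκ a ha
  obtain ⟨R, p1, p2, sq⟩ := exists_isPullback_yon t ((yon S).map κ ≫ a) ha'.rep
  have hRc : CompactSpace ↥R.left :=
    compactSpace_pullback_of_isQuasiSeparatedSp hX t ((yon S).map κ ≫ a) p1 p2 sq
  have h1 := preimage_image_ofPt sq Set.univ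
  have hEq : (K : Set ↥U.left) ∩ Points.ofPt a ⁻¹' Set.range (Points.ofPt t) =
      K.ι '' (p2.left '' Set.univ) := by
    ext y
    constructor
    · rintro ⟨hyK, hy⟩
      let k : ↥K'.left := (⟨y, hyK⟩ : ↥(Scheme.Opens.toScheme K))
      have hk : Points.ofPt ((yon S).map κ ≫ a) k = Points.ofPt a y := ofPt_map_comp κ a k
      have hmem : k ∈ Points.ofPt ((yon S).map κ ≫ a) ⁻¹' (Points.ofPt t '' Set.univ) := by
        show Points.ofPt ((yon S).map κ ≫ a) k ∈ Points.ofPt t '' Set.univ
        rw [hk, Set.image_univ]; exact hy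
      rw [h1, Set.preimage_univ] at hmem
      exact ⟨k, hmem, rfl⟩
    · rintro ⟨k, hk, rfl⟩
      have hmem : k ∈ Points.ofPt ((yon S).map κ ≫ a) ⁻¹' (Points.ofPt t '' Set.univ) := by
        rw [h1, Set.preimage_univ]; exact hk
      have hk' : Points.ofPt ((yon S).map κ ≫ a) k = Points.ofPt a (K.ι k) :=
        ofPt_map_comp κ a k
      refine ⟨k.2, ?_⟩
      show Points.ofPt a (K.ι k) ∈ Set.range (Points.ofPt t)
      rw [← hk', ← Set.image_univ]; exact hmem
  rw [hEq]
  exact (isCompact_univ.image p2.left.continuous).image K.ι.continuous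

set_option backward.isDefEq.respectTransparency.types false in
/-- A quasi-compact open of `|X|` is a finite union of images of affine étale charts. -/
theorem exists_finite_charts (X : Space S) {Q : Set (Points X.obj)} (hQo : IsOpen Q)
    (hQc : IsCompact Q) :
    ∃ (I : Finset ↥Q) (T : ↥Q → Over S) (t : ∀ x, (yon S).obj (T x) ⟶ X.obj),
      (∀ x, CompactSpace ↥(T x).left) ∧ Q = ⋃ x ∈ I, Set.range (Points.ofPt (t x)) := by
  have hloc : ∀ x : ↥Q, ∃ (T : Over S) (t : (yon S).obj T ⟶ X.obj), CompactSpace ↥T.left ∧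
      IsOpen (Set.range (Points.ofPt t)) ∧ x.1 ∈ Set.range (Points.ofPt t) ∧
      Set.range (Points.ofPt t) ⊆ Q := by
    rintro ⟨x, hx⟩
    obtain ⟨V, a, v, hV, ha, rfl⟩ := exists_affine_chart X x
    obtain ⟨_, ⟨V', hV', rfl⟩, hvV', hV'Q⟩ := V.left.isBasis_affineOpens.exists_subset_of_mem_open
      (show v ∈ Points.ofPt a ⁻¹' Q from hx) (hQo.preimage (Points.continuous_ofPt a))
    let T : Over S := Over.mk (Scheme.Opens.ι V' ≫ V.hom)
    let κ : T ⟶ V := Over.homMk (Scheme.Opens.ι V') rfl
    have hκ : Etale κ.left := (inferInstance : Etale (Scheme.Opens.ι V'))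
    have ht : RepWith @Etale ((yon S).map κ ≫ a) := repWith_yon_map_comp κ hκ a ha
    refine ⟨T, (yon S).map κ ≫ a, isCompact_iff_compactSpace.mp hV'.isCompact,
      (isOpenMap_ofPt _ ht).isOpen_range, ⟨(⟨v, hvV'⟩ : ↥(Scheme.Opens.toScheme V')), ?_⟩, ?_⟩
    · rw [ofPt_map_comp]; rfl
    · rintro _ ⟨y, rfl⟩
      rw [ofPt_map_comp]
      exact hV'Q y.2
  choose T t hTc hto htx htQ using hloc
  obtain ⟨I, hI⟩ := hQc.elim_finite_subcover (fun x : ↥Q => Set.range (Points.ofPt (t x))) hto
    (fun x hx => Set.mem_iUnion.2 ⟨⟨x, hx⟩, htx _⟩)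
  refine ⟨I, T, t, hTc, subset_antisymm hI ?_⟩
  intro y hy
  simp only [Set.mem_iUnion, exists_prop] at hy
  obtain ⟨x, -, hyx⟩ := hy
  exact htQ x hyx

/-- Preimages of quasi-compact opens of `|X|` in quasi-compact opens of étale charts are quasi-compact. -/
theorem isCompact_inter_preimage [QuasiSeparatedSpace ↥S] (X : Space S)
    (hX : IsQuasiSeparatedSp X.obj) {U : Over S} (a : (yon S).obj U ⟶ X.obj)
    (ha : RepWith @Etale a) (K : U.left.Opens) (hK : IsCompact (K : Set ↥U.left))
    {Q : Set (Points X.obj)} (hQo : IsOpen Q) (hQc : IsCompact Q) :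
    IsCompact ((K : Set ↥U.left) ∩ Points.ofPt a ⁻¹' Q) := by
  obtain ⟨I, T, t, hTc, hQ⟩ := exists_finite_charts X hQo hQc
  have hEq : (K : Set ↥U.left) ∩ Points.ofPt a ⁻¹' Q =
      ⋃ x ∈ I, ((K : Set ↥U.left) ∩ Points.ofPt a ⁻¹' Set.range (Points.ofPt (t x))) := by
    conv_lhs => rw [hQ]
    rw [Set.preimage_iUnion₂, Set.inter_iUnion₂]
  rw [hEq]
  exact I.isCompact_biUnion fun x _ =>
    haveI := hTc x
    isCompact_inter_preimage_range X hX a ha (t x) K hK

/-- Let S be a scheme with quasi-separated underlying space, X an algebraic space over S which is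
quasi-separated over S, and E ⊆ |X|. Then E is etale locally constructible (its inverse image in
every scheme etale over X is locally constructible) exactly when E, as a subset of the topological
space |X|, is locally constructible. (The published statement assumes X quasi-separated in the
absolute sense; this row assumes S has quasi-separated underlying space and X quasi-separated over
S, which together imply it.) -/
theorem result {S : Scheme.{u}} [QuasiSeparatedSpace ↥S]
    (X : AlgSp.Space S) (hX : AlgSp.IsQuasiSeparatedSp X.obj) (E : Set (AlgSp.Points X.obj)) :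
    (∀ (U : Over S) (a : (AlgSp.yon S).obj U ⟶ X.obj), AlgSp.RepWith @Etale a →
        IsLocallyConstructible (AlgSp.Points.ofPt a ⁻¹' E)) ↔
      IsLocallyConstructible E := by
  constructor
  · intro h x
    obtain ⟨V, a, v, hV, ha, rfl⟩ := exists_affine_chart X x
    have hT0 : T0Space (Points X.obj) := Groth.Agent.S10338.result X (Groth.Agent.S10350.result X hX)
    have hopen : IsOpenMap (Points.ofPt a) := isOpenMap_ofPt a ha
    have hWo : IsOpen (Set.range (Points.ofPt a)) := hopen.isOpen_range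
    refine ⟨Set.range (Points.ofPt a), hWo.mem_nhds ⟨v, rfl⟩, hWo, ?_⟩
    let φ : ↥V.left → ↥(Set.range (Points.ofPt a)) := fun y => ⟨Points.ofPt a y, y, rfl⟩
    have hφc : Continuous φ := (Points.continuous_ofPt a).subtype_mk _
    have hφs : Function.Surjective φ := by
      rintro ⟨_, y, rfl⟩
      exact ⟨y, rfl⟩
    have hφo : IsOpenMap φ := by
      intro O hO
      have : φ '' O = Subtype.val ⁻¹' (Points.ofPt a '' O) := by
        ext ⟨w, hw⟩
        constructor
        · rintro ⟨y, hy, hyw⟩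
          exact ⟨y, hy, congrArg Subtype.val hyw⟩
        · rintro ⟨y, hy, hyw⟩
          exact ⟨y, hy, Subtype.ext hyw⟩
      rw [this]
      exact (hopen O hO).preimage continuous_subtype_val
    have hqc : ∀ Q : Set ↥(Set.range (Points.ofPt a)), IsOpen Q → IsCompact Q →
        IsCompact (φ ⁻¹' Q) := by
      intro Q hQo hQc
      have h1 := isCompact_inter_preimage X hX a ha ⊤ isCompact_univ
        (hWo.isOpenMap_subtype_val Q hQo) (hQc.image continuous_subtype_val)
      have : φ ⁻¹' Q = ((⊤ : V.left.Opens) : Set ↥V.left) ∩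
          Points.ofPt a ⁻¹' (Subtype.val '' Q) := by
        ext y
        simp only [Set.mem_preimage, Opens.coe_top, Set.univ_inter, Set.mem_image]
        constructor
        · intro hy
          exact ⟨φ y, hy, rfl⟩
        · rintro ⟨w, hw, hwy⟩
          have : w = φ y := Subtype.ext hwy
          rwa [← this]
      rw [this]
      exact h1
    have hE' : IsConstructible (φ ⁻¹' (Set.range (Points.ofPt a) ↓∩ E)) :=
      (h V a ha).isConstructible
    exact Groth.Agent.Lib.Helper30.TopConstr.isConstructible_of_preimage φ hφc hφs hφo hqc hE'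
  · intro hE U a ha u
    obtain ⟨W, hWx, hWo, hWc⟩ := hE (Points.ofPt a u)
    obtain ⟨_, ⟨N, hN, rfl⟩, huN, hNW⟩ := U.left.isBasis_affineOpens.exists_subset_of_mem_open
      (show u ∈ Points.ofPt a ⁻¹' W from (mem_of_mem_nhds hWx : Points.ofPt a u ∈ W))
      (hWo.preimage (Points.continuous_ofPt a))
    refine ⟨N, N.isOpen.mem_nhds huN, N.isOpen, ?_⟩
    let φ : ↥N → ↥W := fun n => ⟨Points.ofPt a n.1, hNW n.2⟩
    have hφc : Continuous φ :=
      ((Points.continuous_ofPt a).comp continuous_subtype_val).subtype_mk _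
    have hpre : (N : Set ↥U.left) ↓∩ (Points.ofPt a ⁻¹' E) = φ ⁻¹' (W ↓∩ E) := rfl
    rw [hpre]
    refine hWc.preimage hφc ?_
    intro s hso hsr K hKc hKo
    have hopen : IsOpenMap (Points.ofPt a) := isOpenMap_ofPt a ha
    have hK'o : IsOpen (Subtype.val '' K : Set ↥U.left) := N.isOpen.isOpenMap_subtype_val K hKo
    have hK'c : IsCompact (Subtype.val '' K : Set ↥U.left) := hKc.image continuous_subtype_val
    have hφK : φ '' K = Subtype.val ⁻¹' (Points.ofPt a '' (Subtype.val '' K)) := by
      ext ⟨w, hw⟩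
      constructor
      · rintro ⟨n, hn, hnw⟩
        exact ⟨n.1, ⟨n, hn, rfl⟩, congrArg Subtype.val hnw⟩
      · rintro ⟨_, ⟨n, hn, rfl⟩, hnw⟩
        exact ⟨n, hn, Subtype.ext hnw⟩
    have hφKo : IsOpen (φ '' K) := by
      rw [hφK]
      exact (hopen _ hK'o).preimage continuous_subtype_val
    have hφKc : IsCompact (φ '' K) := hKc.image hφc
    have hQc : IsCompact (s ∩ φ '' K) := hsr hφKc hφKo
    have h1 := isCompact_inter_preimage X hX a ha ⟨Subtype.val '' K, hK'o⟩ hK'c
      (hWo.isOpenMap_subtype_val _ (hso.inter hφKo)) (hQc.image continuous_subtype_val)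
    rw [Topology.IsEmbedding.subtypeVal.isCompact_iff]
    convert h1 using 1
    ext y
    simp only [Set.mem_image, Set.mem_inter_iff, Set.mem_preimage, Opens.coe_mk]
    constructor
    · rintro ⟨n, ⟨hns, hnK⟩, rfl⟩
      exact ⟨⟨n, hnK, rfl⟩, φ n, ⟨hns, n, hnK, rfl⟩, rfl⟩
    · rintro ⟨⟨n, hnK, rfl⟩, w, ⟨hws, -⟩, hwn⟩
      have : w = φ n := Subtype.ext hwn
      exact ⟨n, ⟨this ▸ hws, hnK⟩, rfl⟩

end Groth.Agent.S10377
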