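import Groth.Statements.S1039
import Groth.Agent.Lib.Helper2.PCDescSch
import Groth.Agent.Lib.Helper2.FTPushL1
import Groth.Agent.Lib.Helper15.TildePC
import Groth.Agent.S6942
import Groth.Agent.S1006

set_option autoImplicit false
universe u
open CategoryTheory CategoryTheory.Limits AlgebraicGeometry
attribute [local instance] HasDerivedCategory.standard
open Perf

namespace Groth.Agent.S1039

open Groth.Agent.Lib.Helper2.DCohBase Groth.Agent.Lib.Helper2.DCohHom
open Groth.Agent.Lib.Helper2.DCohCoh Groth.Agent.Lib.Helper2.DCohFP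
open Groth.Agent.Lib.Helper2.DCohPC Groth.Agent.Lib.Helper2.PCDescSch
open Groth.Agent.Lib.Helper2.FTPushL1
open Groth.Agent.Lib.Helper12 Scheme.Modules Groth.Agent.Lib.Lead.CohAff

set_option backward.isDefEq.respectTransparency false in
/-- finite type restricts along any open immersion (arbitrary modules) -/
theorem isFT_restrict_of_openImmersion {X U : Scheme.{u}} (j : U ⟶ X) [IsOpenImmersion j]
    (M : X.Modules) (h : CohB1.IsFT M) : CohB1.IsFT ((Scheme.Modules.restrictFunctor j).obj M) := by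
  apply isFiniteType_of_locally_hasFinGen
  intro y
  obtain ⟨W, hxW, hW⟩ := exists_hasFinGen_restrict M h (j y)
  refine ⟨j ⁻¹ᵁ W, hxW, ?_⟩
  have hr : Set.range ((j ⁻¹ᵁ W).ι ≫ j).base ⊆ Set.range W.ι.base := by
    rintro _ ⟨z, rfl⟩
    rw [Scheme.Opens.range_ι]
    exact z.2
  let v : ((j ⁻¹ᵁ W : U.Opens) : Scheme.{u}) ⟶ (W : Scheme.{u}) :=
    IsOpenImmersion.lift W.ι ((j ⁻¹ᵁ W).ι ≫ j) hr
  have hv : v ≫ W.ι = (j ⁻¹ᵁ W).ι ≫ j := IsOpenImmersion.lift_fac _ _ _
  haveI : IsOpenImmersion (v ≫ W.ι) := by rw [hv]; infer_instance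
  haveI : IsOpenImmersion v := IsOpenImmersion.of_comp v W.ι
  have h1 : HasFinGen (R := ((j ⁻¹ᵁ W : U.Opens) : Scheme.{u}).ringCatSheaf)
      (M.restrict ((j ⁻¹ᵁ W).ι ≫ j)) :=
    hasFinGen_restrict_of_openImmersion M v W.ι _ hv hW
  exact h1.of_iso ((restrictFunctorComp (j ⁻¹ᵁ W).ι j).app M)

/-- coherent cohomology in degrees `≥ m` and boundedness above give `m`-pseudo-coherence -/
theorem isPC_of_coh (X : Scheme.{u}) [IsNoetherian X] (E : DCoh.D X) (hE : DCoh.IsQCohD E) (m : ℤ)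
    (hcoh : ∀ i : ℤ, m ≤ i → Coh.IsCoh (DCoh.HD E i)) (b : ℤ) (hb : E.IsLE b) :
    DCoh.IsPseudoCoherentD m E := by
  rw [isPseudoCoherentD_iff]
  intro x
  obtain ⟨_, ⟨U, hU : IsAffineOpen U, rfl⟩, hxU, -⟩ :=
    X.isBasis_affineOpens.exists_subset_of_mem_open (Set.mem_univ x) isOpen_univ
  let jU : Spec (CommRingCat.of (Γ(X, U) : Type u)) ⟶ X := hU.fromSpec
  haveI : IsOpenImmersion jU := inferInstanceAs (IsOpenImmersion hU.fromSpec)
  have hrange : Set.range jU = (U : Set X) := hU.range_fromSpec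
  have hx' : x ∈ Set.range jU := by
    rw [hrange]; exact hxU
  obtain ⟨y, rfl⟩ := hx'
  apply pcAt_of_resD jU E y
  have hEU : DCoh.IsQCohD ((resD jU).obj E) := RGZ.isQCohD_restrictD jU E hE
  obtain ⟨M, ⟨eM⟩⟩ :=
    ((Groth.Agent.S0997.result (CommRingCat.of (Γ(X, U) : Type u))).2.2 _).1 hEU
  haveI : IsNoetherianRing (Γ(X, U) : Type u) :=
    IsLocallyNoetherian.component_noetherian ⟨U, hU⟩
  suffices hM : DRing.IsPseudoCoherent (Γ(X, U) : Type u) m M by
    have h1 : DCoh.IsPseudoCoherentD m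
        ((DCoh.tildeD (CommRingCat.of (Γ(X, U) : Type u))).obj M) :=
      (Groth.Agent.S1004.result (Γ(X, U) : Type u) M m).2 hM
    exact (isPseudoCoherentD_iff m _).1 (isPseudoCoherentD_of_iso eM h1) y
  rw [Groth.Agent.S6942.part1 (Γ(X, U) : Type u) m M]
  have φ : ∀ i : ℤ, (Scheme.Modules.restrictFunctor jU).obj (DCoh.HD E i) ≅
      (tilde.functor (CommRingCat.of (Γ(X, U) : Type u))).obj
        ((DerivedCategory.homologyFunctor (ModuleCat.{u} (Γ(X, U) : Type u)) i).obj M) := fun i =>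
    (Groth.Agent.Lib.Helper62.SerreLoc.mapDerivedCategoryHomologyIso
      (Scheme.Modules.restrictFunctor jU) E i).symm ≪≫
    (DerivedCategory.homologyFunctor _ i).mapIso eM.symm ≪≫
    Groth.Agent.Lib.Helper15.TildePC.homTildeIso (CommRingCat.of (Γ(X, U) : Type u)) M i
  refine ⟨⟨b, fun i hi => ?_⟩, fun i hi => ?_⟩
  · have h0 : IsZero (DCoh.HD E i) := DerivedCategory.isZero_of_isLE E b i hi
    have h1 : IsZero ((tilde.functor (CommRingCat.of (Γ(X, U) : Type u))).obj
        ((DerivedCategory.homologyFunctor (ModuleCat.{u} (Γ(X, U) : Type u)) i).obj M)) :=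
      IsZero.of_iso (Functor.map_isZero _ h0) (φ i).symm
    have h2 : IsZero ((DerivedCategory.homologyFunctor (ModuleCat.{u} (Γ(X, U) : Type u)) i).obj M) :=
      IsZero.of_full_of_faithful_of_isZero (tilde.functor (CommRingCat.of (Γ(X, U) : Type u))) _ h1
    exact ModuleCat.subsingleton_of_isZero h2
  · apply Groth.Agent.Lib.Helper15.TildePC.finite_of_isFT_tilde (CommRingCat.of (Γ(X, U) : Type u))
    have h1 : CohB1.IsFT ((Scheme.Modules.restrictFunctor jU).obj (DCoh.HD E i)) :=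
      isFT_restrict_of_openImmersion jU _ (hcoh i hi).2
    exact isFiniteType_of_epi (φ i).hom h1

/-- `m`-pseudo-coherence gives coherent cohomology in degrees `≥ m` and boundedness above -/
theorem coh_of_isPC (X : Scheme.{u}) [IsNoetherian X] (E : DCoh.D X) (hE : DCoh.IsQCohD E) (m : ℤ)
    (hpc : DCoh.IsPseudoCoherentD m E) :
    (∀ i : ℤ, m ≤ i → Coh.IsCoh (DCoh.HD E i)) ∧ ∃ b : ℤ, E.IsLE b := by
  obtain ⟨F₀, ⟨e₀⟩⟩ := exists_rep E
  choose V hxV hV using hpc
  have key := fun x => hV x F₀ ⟨e₀⟩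
  choose P α hP hiso hepi using key
  have ε : ∀ (x : X) (i : ℤ), (Scheme.Modules.restrictFunctor (V x).ι).obj (DCoh.HD E i) ≅
      (DerivedCategory.homologyFunctor _ i).obj
        (DerivedCategory.Q.obj ((resCx (V x).ι).obj F₀)) := fun x i =>
    homRestrictIso E F₀ e₀ (V x).ι i
  have hepi' : ∀ (x : X) (i : ℤ), m ≤ i →
      Epi ((DerivedCategory.homologyFunctor _ i).map (α x)) := by
    intro x i hi
    rcases hi.eq_or_lt with rfl | h
    · exact hepi x
    · haveI := hiso x i h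
      infer_instance
  constructor
  · intro i hi
    refine ⟨hE i, ?_⟩
    refine isFiniteType_of_locally _ (fun x => ⟨V x, hxV x, ?_⟩)
    have h1 : SheafOfModules.IsFiniteType (R := ((V x : X.Opens) : Scheme.{u}).ringCatSheaf)
        ((P x).homology i) := (isCoh_homology_of_isStrictlyPerfect (P x) (hP x) i).2
    have h2 := isFiniteType_of_epi ((DerivedCategory.homologyFunctorFactors _ i).app (P x)).inv h1
    haveI := hepi' x i hi
    have h3 := isFiniteType_of_epi ((DerivedCategory.homologyFunctor _ i).map (α x)) h2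
    exact isFiniteType_of_epi (ε x i).inv h3
  · have hb : ∀ x : X, ∃ a b : ℤ, DCoh.VanishesOutside (P x) a b := fun x => (hP x).1
    choose a' b' hab using hb
    obtain ⟨t, ht⟩ := isCompact_univ.elim_finite_subcover (fun x : X => ((V x : X.Opens) : Set X))
      (fun x => (V x).2) (fun x _ => Set.mem_iUnion.2 ⟨x, hxV x⟩)
    obtain ⟨b, hb⟩ := (t.image b').exists_le
    refine ⟨max b m, ?_⟩
    rw [DerivedCategory.isLE_iff]
    intro i hi
    refine isZero_of_locally _ (fun y => ?_)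
    have hy : y ∈ ⋃ x ∈ t, ((V x : X.Opens) : Set X) := ht (Set.mem_univ y)
    simp only [Set.mem_iUnion] at hy
    obtain ⟨x, hxt, hyx⟩ := hy
    refine ⟨V x, hyx, IsZero.of_iso ?_ (ε x i)⟩
    have h1 : b' x ≤ b := hb _ (Finset.mem_image_of_mem _ hxt)
    have h3 : IsZero ((P x).X i) := hab x i (Or.inr (by omega))
    have h4 : IsZero ((P x).homology i) := ShortComplex.isZero_homology_of_isZero_X₂ _ h3
    have h5 : IsZero ((DerivedCategory.homologyFunctor _ i).obj (DerivedCategory.Q.obj (P x))) :=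
      IsZero.of_iso h4 ((DerivedCategory.homologyFunctorFactors _ i).app (P x))
    haveI := hiso x i (by omega)
    exact IsZero.of_iso h5 (asIso ((DerivedCategory.homologyFunctor _ i).map (α x))).symm


/-- Let X be a Noetherian scheme, E ∈ D(O_X) with quasi-coherent cohomology sheaves and m ∈ ℤ. Then
m-pseudo-coherence of E is equivalent to: Hⁱ(E) is coherent for every i ≥ m and vanishes for i
large. -/
theorem result (X : Scheme.{u}) [IsNoetherian X] (E : DCoh.D X) (hE : DCoh.IsQCohD E) (m : ℤ) :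
    DCoh.IsPseudoCoherentD m E ↔ (∀ i : ℤ, m ≤ i → Coh.IsCoh (DCoh.HD E i)) ∧ ∃ b : ℤ, E.IsLE b := by
  refine ⟨coh_of_isPC X E hE m, fun h => ?_⟩
  obtain ⟨h1, b, hb⟩ := h
  exact isPC_of_coh X E hE m h1 b hb

end Groth.Agent.S1039
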