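import Groth.Statements.S9955
-- import your own Groth.Agent.* helpers here
import Groth.Agent.S10329
import Groth.Agent.S10310
import Groth.Agent.S9793
import Groth.Agent.Lib.Helper46.LocPChart
import Groth.Agent.Lib.Helper30.EtLocalInst
import Groth.Agent.Lib.Helper23.AlgSpMor4

set_option autoImplicit false
universe u
open CategoryTheory CategoryTheory.Limits AlgebraicGeometry
open AlgSp

namespace Groth.Agent.S9955

open Groth.Agent.Lib.Helper36.AlgSpCharts Groth.Agent.Lib.Helper36.AlgSpChartDiag
  Groth.Agent.Lib.Helper36.AlgSpHasAtMor Groth.Agent.Lib.Helper36.QuasiFiniteAt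
  Groth.Agent.Lib.Helper37.AlgSpPoints
  Groth.Agent.Lib.Helper36.QFLocus
  Groth.Agent.Lib.Helper36.AlgSpHasAt Groth.Agent.Lib.Helper36.FibreDimZero
  Groth.Agent.Lib.Helper84

/-- In a locally Noetherian scheme, a point with an open neighbourhood on which the dimension of
the local rings is constant is an open point. -/
theorem isOpen_singleton_of_constant_dim {U : Scheme.{u}} [IsLocallyNoetherian U] (O : U.Opens)
    (u : ↥U) (hu : u ∈ O)
    (hO : ∀ u₁ ∈ O, ∀ u₂ ∈ O,
      ringKrullDim ↥(U.presheaf.stalk u₁) = ringKrullDim ↥(U.presheaf.stalk u₂)) :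
    IsOpen ({u} : Set ↥U) := by
  have hspec : ∀ u₁ ∈ O, ∀ u₂ ∈ O, u₁ ⤳ u₂ → u₁ = u₂ := by
    intro u₁ h₁ u₂ h₂ hs
    by_contra hne
    have hlt := Groth.Agent.S9793.coheight_lt_of_specializes U hs hne
    have := hO u₁ h₁ u₂ h₂
    rw [ringKrullDim_stalk_eq_coheight, ringKrullDim_stalk_eq_coheight] at this
    have h' : Order.coheight u₁ = Order.coheight u₂ := by exact_mod_cast this
    exact absurd h' hlt.ne
  obtain ⟨_, ⟨W, hW, rfl⟩, huW, hWO⟩ := U.isBasis_affineOpens.exists_subset_of_mem_open hu O.2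
  have : IsNoetherianRing Γ(U, W) := IsLocallyNoetherian.component_noetherian ⟨W, hW⟩
  have : TopologicalSpace.NoetherianSpace ↥W := noetherianSpace_of_isAffineOpen W hW
  have : QuasiSober ↥W := W.2.isOpenEmbedding_subtypeVal.quasiSober
  have hdim : topologicalKrullDim ↥W ≤ 0 := by
    rw [topologicalKrullDim, Order.krullDim_nonpos_iff_forall_isMax]
    intro Z Z' hZZ'
    have hg := Z.isIrreducible.isGenericPoint_genericPoint_closure
    have hg' := Z'.isIrreducible.isGenericPoint_genericPoint_closure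
    rw [Z.isClosed.closure_eq] at hg
    rw [Z'.isClosed.closure_eq] at hg'
    set η := Z.isIrreducible.genericPoint
    set η' := Z'.isIrreducible.genericPoint
    have hmem : η ∈ (Z' : Set ↥W) := hZZ' hg.mem
    have hs : η' ⤳ η := by
      rw [specializes_iff_mem_closure, hg'.def]
      exact hmem
    have hs' : (η' : ↥U) ⤳ (η : ↥U) := hs.map continuous_subtype_val
    have heq : (η' : ↥U) = (η : ↥U) := hspec _ (hWO η'.2) _ (hWO η.2) hs'
    have heq' : η' = η := Subtype.ext heq
    intro x hx
    have : (Z' : Set ↥W) = Z := by rw [← hg'.def, ← hg.def, heq']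
    have hx' : x ∈ (Z' : Set ↥W) := hx
    rw [this] at hx'
    exact hx'
  obtain ⟨_, hdisc⟩ := finite_discrete_of_dim_le_zero hdim
  have h1 : IsOpen ({⟨u, huW⟩} : Set ↥W) := isOpen_discrete _
  have h2 := W.2.isOpenEmbedding_subtypeVal.isOpenMap _ h1
  simpa using h2

/-- An open point of an algebraic space with locally Noetherian charts has local dimension zero. -/
theorem hasAt_localDim_zero_of_isOpen_singleton {S : Scheme.{u}} {P : AlgSp.Sp S}
    (hP : IsAlgSpace P)
    (hN : ∀ (U : Over S) (a : (yon S).obj U ⟶ P), RepWith @Etale a → IsLocallyNoetherian U.left)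
    (z : Points P) (hz : IsOpen ({z} : Set (Points P))) :
    HasAt (fun U u => FlatMor.localDim ↥U u = 0) P z := by
  obtain ⟨U, a, hae, has⟩ := hP.atlas
  obtain ⟨u, hu⟩ := ofPt_surjective a has z
  have := hN U a hae
  let O : U.left.Opens := ⟨Points.ofPt a ⁻¹' {z}, hz.preimage (Points.continuous_ofPt a)⟩
  have hopen : IsOpen ({u} : Set ↥U.left) := by
    refine isOpen_singleton_of_constant_dim O u hu ?_
    intro u₁ h₁ u₂ h₂
    have e : Points.ofPt a u₁ = Points.ofPt a u₂ := by
      have e1 : Points.ofPt a u₁ = z := h₁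
      have e2 : Points.ofPt a u₂ = z := h₂
      rw [e1, e2]
    exact ((germ_iff_of_ofPt_eq (isEtaleLocalGerm_ringKrullDim _) a a hae hae u₁ u₂ e).1 rfl).symm
  exact ⟨U, a, u, hae, hu, localDim_eq_zero_of_isOpen_singleton u hopen⟩

/-- A morphism locally of finite type is locally quasi-finite if and only if all its fibres over
field-valued points have discrete spaces of points. -/
theorem result {S : Scheme.{u}} {X Y : AlgSp.Space S} (f : X ⟶ Y)
    (hf : AlgSp.LocP @LocallyOfFiniteType f.hom) :
    AlgSp.LocP ((@LocallyQuasiFinite : MorphismProperty Scheme.{u}) ⊓ @LocallyOfFiniteType) f.hom ↔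
      ∀ (k : Type u) [Field k] (str : Spec (CommRingCat.of k) ⟶ S) (y : (AlgSp.yon S).obj (Over.mk str) ⟶ Y.obj)
        (P : AlgSp.Sp S) (fst : P ⟶ X.obj) (snd : P ⟶ (AlgSp.yon S).obj (Over.mk str)),
        IsPullback fst snd f.hom y → DiscreteTopology (AlgSp.Points P) := by
  constructor
  · intro H k _ str y P fst snd sq
    have hP : IsAlgSpace P :=
      Groth.Agent.Lib.Helper23.AlgSpMor.isAlgSpace_of_isPullback X.property (IsAlgSpace.yon_obj _)
        Y.property.diag sq
    have hsnd : LocP (@LocallyQuasiFinite ⊓ @LocallyOfFiniteType) snd :=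
      Groth.Agent.Lib.Helper46.LocPChart.locP_of_isPullback
        Groth.Agent.Lib.Helper30.EtLocalInst.etLocal_lqf
        X.property Y.property hP (IsAlgSpace.yon_obj _) sq H
    obtain ⟨U, a, hae, has⟩ := hP.atlas
    obtain ⟨h, hh⟩ := (yon S).map_surjective (a ≫ snd)
    have hq := hsnd a (𝟙 _) h hae (repWith_id @Etale _) (by rw [hh, Category.comp_id])
    have : LocallyQuasiFinite h.left := hq.1
    have hArt : IsLocallyArtinian (Spec (CommRingCat.of k)) := by
      rw [Scheme.isLocallyArtinianScheme_Spec]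
      infer_instance
    have : IsLocallyArtinian U.left :=
      IsLocallyArtinian.of_locallyQuasiFinite (Y := Spec (CommRingCat.of k)) h.left
    rw [discreteTopology_iff_isOpen_singleton]
    intro z
    obtain ⟨u, rfl⟩ := ofPt_surjective a has z
    have := isOpenMap_ofPt a hae _ (isOpen_discrete ({u} : Set ↥U.left))
    simpa using this
  · intro H
    rw [Groth.Agent.S10310.result f hf]
    intro x
    obtain ⟨p, s, rfl⟩ := exists_ofPt_toHom x
    have sq := IsPullback.of_hasPullback f.hom (p.toHom ≫ f.hom)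
    have hdisc := H p.K p.str (p.toHom ≫ f.hom) _ _ _ sq
    have hP : IsAlgSpace (pullback f.hom (p.toHom ≫ f.hom)) :=
      Groth.Agent.Lib.Helper23.AlgSpMor.isAlgSpace_of_isPullback X.property (IsAlgSpace.yon_obj _)
        Y.property.diag sq
    have hsnd : LocP @LocallyOfFiniteType (pullback.snd f.hom (p.toHom ≫ f.hom)) :=
      Groth.Agent.Lib.Helper46.LocPChart.locP_of_isPullback
        Groth.Agent.Lib.Helper30.EtLocalInst.etLocal_lft
        X.property Y.property hP (IsAlgSpace.yon_obj _) sq hf
    let σ : (yon S).obj p.pt ⟶ pullback f.hom (p.toHom ≫ f.hom) :=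
      pullback.lift p.toHom (𝟙 _) (by rw [Category.id_comp])
    have hσ : σ ≫ pullback.fst f.hom (p.toHom ≫ f.hom) = p.toHom := pullback.lift_fst _ _ _
    have hN : ∀ (U : Over S) (a : (yon S).obj U ⟶ pullback f.hom (p.toHom ≫ f.hom)),
        RepWith @Etale a → IsLocallyNoetherian U.left := by
      intro U a hae
      obtain ⟨h, hh⟩ := (yon S).map_surjective (a ≫ pullback.snd f.hom (p.toHom ≫ f.hom))
      have : LocallyOfFiniteType h.left :=
        hsnd a (𝟙 _) h hae (repWith_id @Etale _) (by rw [hh, Category.comp_id])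
      exact LocallyOfFiniteType.isLocallyNoetherian (Y := Spec (CommRingCat.of p.K)) h.left
    have hz := hasAt_localDim_zero_of_isOpen_singleton hP hN (Points.ofPt σ s) (isOpen_discrete _)
    have := Groth.Agent.S10329.map_mem_qfLocus f hf p.K p.str (p.toHom ≫ f.hom)
      (pullback.fst f.hom (p.toHom ≫ f.hom)) (pullback.snd f.hom (p.toHom ≫ f.hom)) sq
      (Points.ofPt σ s) hz
    rw [Points.map_ofPt, hσ] at this
    exact this

end Groth.Agent.S9955
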