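import Groth.Statements.S10391
-- import your own Groth.Agent.* helpers here
import Groth.Agent.S9955
import Groth.Agent.S10338
import Groth.Agent.Lib.Helper36.ClopenPoints
import Groth.Agent.Lib.Helper37.AlgSpFibres

set_option autoImplicit false
universe u
open CategoryTheory CategoryTheory.Limits AlgebraicGeometry Topology TopologicalSpace
open AlgSp

namespace Groth.Agent.S10391

open Groth.Agent.Lib.Helper36.AlgSpCharts Groth.Agent.Lib.Helper36.AlgSpChartDiag
  Groth.Agent.Lib.Helper36.AlgSpHasAtMor Groth.Agent.Lib.Helper36.QuasiFiniteAt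
  Groth.Agent.Lib.Helper37.AlgSpPoints
  Groth.Agent.Lib.Helper36.AlgSpHasAt Groth.Agent.Lib.Helper36.FibreDimZero
  Groth.Agent.Lib.Helper84 Groth.Agent.Lib.Helper36.Codim0 Groth.Agent.Lib.Helper36.ClopenPoints

/-- Charts of a space locally of finite type over a field are locally of finite type over the
field. -/
theorem exists_lft_of_chart (k : Type u) [Field k] {P : AlgSp.Sp (Spec (CommRingCat.of k))}
    (p : P ⟶ (AlgSp.yon (Spec (CommRingCat.of k))).obj (Over.mk (𝟙 _)))
    (hp : AlgSp.LocP @LocallyOfFiniteType p) (U : Over (Spec (CommRingCat.of k)))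
    (a : (yon _).obj U ⟶ P) (hae : RepWith @Etale a) :
    LocallyOfFiniteType U.hom := by
  obtain ⟨h, hh⟩ := (yon _).map_surjective (a ≫ p)
  have : LocallyOfFiniteType h.left :=
    hp a (𝟙 _) h hae (repWith_id @Etale _) (by rw [hh, Category.comp_id])
  have e : h.left = U.hom := by
    have := Over.w h
    simpa using this
  rwa [e] at this

/-- An open point of a topological space has no proper generization. -/
theorem eq_of_specializes_of_isOpen_singleton {T : Type*} [TopologicalSpace T] {x x' : T}
    (hx : IsOpen ({x} : Set T)) (hs : x' ⤳ x) : x' = x :=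
  hs.mem_open hx rfl

/-- Let k be a field, X an algebraic space over k which is locally of finite type, and x ∈ |X|. The
conditions (2) x is closed in |X| and has no proper generization, (3) x is an isolated point of |X|,
(4) dim_x(X) = 0 are equivalent; if X is decent they are also equivalent to (1) dim_x(|X|) = 0. (The
equivalence with quasi-finiteness of X → Spec k at x is not part of this row.) -/
theorem result (k : Type u) [Field k] (X : AlgSp.Space (Spec (CommRingCat.of k)))
    (p : X.obj ⟶ (AlgSp.yon (Spec (CommRingCat.of k))).obj (Over.mk (𝟙 _))) (hp : AlgSp.LocP @LocallyOfFiniteType p) (x : AlgSp.Points X.obj) :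
    (IsOpen ({x} : Set (AlgSp.Points X.obj)) ↔
        (IsClosed ({x} : Set (AlgSp.Points X.obj)) ∧ ∀ x' : AlgSp.Points X.obj, x' ⤳ x → x' = x)) ∧
      (IsOpen ({x} : Set (AlgSp.Points X.obj)) ↔ AlgSp.HasAt (fun U u => FlatMor.localDim ↥U u = 0) X.obj x) ∧
      (AlgSp.IsDecent X.obj →
        (FlatMor.localDim (AlgSp.Points X.obj) x = 0 ↔ IsOpen ({x} : Set (AlgSp.Points X.obj)))) := by
  have hlft := exists_lft_of_chart k p hp
  have hN : ∀ (U : Over (Spec (CommRingCat.of k))) (a : (yon _).obj U ⟶ X.obj),
      RepWith @Etale a → IsLocallyNoetherian U.left := by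
    intro U a hae
    have := hlft U a hae
    exact LocallyOfFiniteType.isLocallyNoetherian (Y := Spec (CommRingCat.of k)) U.hom
  obtain ⟨U, a, hae, has⟩ := X.property.atlas
  have := hN U a hae
  have := hlft U a hae
  have hJ : JacobsonSpace ↥U.left :=
    LocallyOfFiniteType.jacobsonSpace (Y := Spec (CommRingCat.of k)) U.hom
  have hquot : IsQuotientMap (Points.ofPt a) :=
    (isOpenMap_ofPt a hae).isQuotientMap (Points.continuous_ofPt a) (ofPt_surjective a has)
  refine ⟨⟨fun hx => ⟨?_, fun x' hs => eq_of_specializes_of_isOpen_singleton hx hs⟩, ?_⟩,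
    ⟨fun hx => Groth.Agent.S9955.hasAt_localDim_zero_of_isOpen_singleton X.property hN x hx, ?_⟩, ?_⟩
  · -- open ⇒ closed
    rw [← hquot.isClosed_preimage]
    apply isClosed_of_forall_isClopen_singleton
    intro u hu
    let O : U.left.Opens := ⟨Points.ofPt a ⁻¹' {x}, hx.preimage (Points.continuous_ofPt a)⟩
    have hopen : IsOpen ({u} : Set ↥U.left) := by
      refine Groth.Agent.S9955.isOpen_singleton_of_constant_dim O u hu ?_
      intro u₁ h₁ u₂ h₂
      have e : Points.ofPt a u₁ = Points.ofPt a u₂ := by
        have e1 : Points.ofPt a u₁ = x := h₁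
        have e2 : Points.ofPt a u₂ = x := h₂
        rw [e1, e2]
      exact ((germ_iff_of_ofPt_eq (isEtaleLocalGerm_ringKrullDim _) a a hae hae u₁ u₂ e).1 rfl).symm
    exact ⟨hopen, isClosed_singleton_of_isLocallyClosed_singleton hopen.isLocallyClosed⟩
  · -- closed and no generization ⇒ open
    rintro ⟨hcl, hgen⟩
    obtain ⟨u, rfl⟩ := ofPt_surjective a has x
    have hclO : IsClosed (Points.ofPt a ⁻¹' {Points.ofPt a u}) :=
      hcl.preimage (Points.continuous_ofPt a)
    have hgenu : ∀ u' : ↥U.left, u' ⤳ u → u' = u := by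
      intro u' hs
      have h1 := hgen _ (hs.map (Points.continuous_ofPt a))
      exact (Groth.Agent.Lib.Helper37.AlgSpFibres.eq_of_specializes_of_isLocallyNoetherian_chart
        a hae h1.symm hs).symm
    have hclu : IsClosed ({u} : Set ↥U.left) := by
      rw [← closure_eq_iff_isClosed]
      refine Set.Subset.antisymm ?_ subset_closure
      intro v hv
      have hv' : v ∈ Points.ofPt a ⁻¹' {Points.ofPt a u} :=
        hclO.closure_subset_iff.2 (Set.singleton_subset_iff.2 rfl) hv
      have hs : u ⤳ v := specializes_iff_mem_closure.2 hv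
      exact (Groth.Agent.Lib.Helper37.AlgSpFibres.eq_of_specializes_of_isLocallyNoetherian_chart
        a hae hv' hs)
    have hopen := isOpen_singleton_of_isClosed_of_no_generization u hclu hgenu
    have := isOpenMap_ofPt a hae _ hopen
    simpa using this
  · -- HasAt localDim = 0 ⇒ open
    rintro ⟨U', a', u', hae', rfl, hd⟩
    have := hN U' a' hae'
    have hopen := isOpen_singleton_of_localDim_eq_zero u' hd
    have := isOpenMap_ofPt a' hae' _ hopen
    simpa using this
  · intro hdec
    refine ⟨fun hd => ?_, fun hx => localDim_eq_zero_of_isOpen_singleton x hx⟩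
    have hT0 : T0Space (AlgSp.Points X.obj) := Groth.Agent.S10338.result X hdec
    obtain ⟨W, hW⟩ : ∃ W : {O : Opens (AlgSp.Points X.obj) // x ∈ O},
        topologicalKrullDim ↥((W.1 : Opens (AlgSp.Points X.obj)) : Set (AlgSp.Points X.obj)) ≤ 0 := by
      by_contra hcon
      push Not at hcon
      have h1 : (1 : WithBot ℕ∞) ≤ FlatMor.localDim (AlgSp.Points X.obj) x :=
        le_iInf fun W => one_le_of_pos _ (hcon W)
      rw [hd] at h1
      exact absurd h1 (by decide)
    obtain ⟨u, rfl⟩ := ofPt_surjective a has x
    -- no specializations inside the preimage of W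
    let O : U.left.Opens := ⟨Points.ofPt a ⁻¹' (W.1 : Set _), W.1.2.preimage (Points.continuous_ofPt a)⟩
    have hopen : IsOpen ({u} : Set ↥U.left) := by
      refine isOpen_singleton_of_no_specialization O u W.2 ?_
      intro u₁ h₁ u₂ h₂ hs
      have hs' : (⟨Points.ofPt a u₁, h₁⟩ : ↥(W.1 : Set (AlgSp.Points X.obj))) ⤳
          ⟨Points.ofPt a u₂, h₂⟩ :=
        Topology.IsInducing.subtypeVal.specializes_iff.1 (hs.map (Points.continuous_ofPt a))
      have hc := closure_singleton_of_dim_le_zero hW ⟨Points.ofPt a u₁, h₁⟩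
      have hmem := specializes_iff_mem_closure.1 hs'
      rw [hc] at hmem
      have e : Points.ofPt a u₂ = Points.ofPt a u₁ := congrArg Subtype.val hmem
      exact (Groth.Agent.Lib.Helper37.AlgSpFibres.eq_of_specializes_of_isLocallyNoetherian_chart
        a hae e hs).symm
    have := isOpenMap_ofPt a hae _ hopen
    simpa using this

end Groth.Agent.S10391
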