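import Groth.Statements.S10392
-- import your own Groth.Agent.* helpers here
import Groth.Agent.S10391

set_option autoImplicit false
universe u
open CategoryTheory CategoryTheory.Limits AlgebraicGeometry Topology TopologicalSpace
open AlgSp

namespace Groth.Agent.S10392

open Groth.Agent.Lib.Helper36.AlgSpCharts Groth.Agent.Lib.Helper36.AlgSpChartDiag
  Groth.Agent.Lib.Helper36.AlgSpHasAtMor Groth.Agent.Lib.Helper36.QuasiFiniteAt
  Groth.Agent.Lib.Helper37.AlgSpPoints
  Groth.Agent.Lib.Helper36.AlgSpHasAt Groth.Agent.Lib.Helper36.FibreDimZero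
  Groth.Agent.Lib.Helper84 Groth.Agent.Lib.Helper36.Codim0 Groth.Agent.Lib.Helper36.ClopenPoints
  Groth.Agent.Lib.Helper37.AlgSpFibres

/-- A locally Noetherian scheme of dimension `≤ 0` is discrete. -/
theorem discreteTopology_of_dim_le_zero {U : Scheme.{u}} [IsLocallyNoetherian U]
    (h : topologicalKrullDim ↥U ≤ 0) : DiscreteTopology ↥U := by
  rw [discreteTopology_iff_isOpen_singleton]
  intro x
  obtain ⟨_, ⟨W', hW', rfl⟩, hxW', -⟩ :=
    U.isBasis_affineOpens.exists_subset_of_mem_open (Set.mem_univ x) isOpen_univ
  have hdim : topologicalKrullDim ↥((W' : Opens ↥U) : Set ↥U) ≤ 0 := by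
    refine le_trans ?_ h
    exact Topology.IsInducing.subtypeVal.topologicalKrullDim_le
  have : IsNoetherianRing Γ(U, W') := IsLocallyNoetherian.component_noetherian ⟨W', hW'⟩
  have : NoetherianSpace ↥W' := noetherianSpace_of_isAffineOpen W' hW'
  obtain ⟨_, hdisc⟩ := finite_discrete_of_dim_le_zero hdim
  have h1 : IsOpen ({⟨x, hxW'⟩} : Set ↥W') := isOpen_discrete _
  have h2 := W'.2.isOpenEmbedding_subtypeVal.isOpenMap _ h1
  simpa using h2

/-- Let k be a field and X a nonempty algebraic space over k which is locally of finite type. Then (2)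
|X| is discrete if and only if (4) dim X = 0, and these imply (3) dim |X| = 0; if X is decent then
(3) implies (2) and (1) |X| finite implies (4). (The published statement asserts (2) ⇔ (3) ⇔ (4) for
every such X and does not exclude the empty space; for the quotient of the affine line over a field
of characteristic zero by the translation action of the integers, |X| is an infinite set with the
indiscrete topology, so (3) holds while (2) and (4) fail, and for the empty space (2) holds while
dim X = ⊥. The equivalence with local quasi-finiteness of X → Spec k is not part of this row.) -/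
theorem result (k : Type u) [Field k] (X : AlgSp.Space (Spec (CommRingCat.of k)))
    (p : X.obj ⟶ (AlgSp.yon (Spec (CommRingCat.of k))).obj (Over.mk (𝟙 _))) (hp : AlgSp.LocP @LocallyOfFiniteType p) [Nonempty (AlgSp.Points X.obj)] :
    (DiscreteTopology (AlgSp.Points X.obj) ↔ AlgSp.dim X.obj = 0) ∧
      (DiscreteTopology (AlgSp.Points X.obj) → topologicalKrullDim (AlgSp.Points X.obj) = 0) ∧
      (AlgSp.IsDecent X.obj → topologicalKrullDim (AlgSp.Points X.obj) = 0 → DiscreteTopology (AlgSp.Points X.obj)) ∧
      (AlgSp.IsDecent X.obj → Finite (AlgSp.Points X.obj) → AlgSp.dim X.obj = 0) := by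
  have hlft := Groth.Agent.S10391.exists_lft_of_chart k p hp
  have hN : ∀ (U : Over (Spec (CommRingCat.of k))) (a : (yon _).obj U ⟶ X.obj),
      RepWith @Etale a → IsLocallyNoetherian U.left := by
    intro U a hae
    have := hlft U a hae
    exact LocallyOfFiniteType.isLocallyNoetherian (Y := Spec (CommRingCat.of k)) U.hom
  obtain ⟨U, a, hae, has⟩ := X.property.atlas
  have hNU := hN U a hae
  have hneU : Nonempty ↥U.left := by
    obtain ⟨x⟩ := ‹Nonempty (AlgSp.Points X.obj)›
    obtain ⟨u, -⟩ := ofPt_surjective a has x
    exact ⟨u⟩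
  -- dim X = 0 as soon as all etale charts have dimension ≤ 0
  have hdim0 : (∀ (V : Over (Spec (CommRingCat.of k))) (b : (yon _).obj V ⟶ X.obj),
      RepWith @Etale b → topologicalKrullDim ↥V.left ≤ 0) → AlgSp.dim X.obj = 0 := by
    intro H
    apply le_antisymm
    · unfold AlgSp.dim
      exact iSup_le fun V => iSup_le fun b => iSup_le fun hb => H V b hb
    · unfold AlgSp.dim
      refine le_trans ?_ (le_iSup _ U)
      refine le_trans ?_ (le_iSup _ a)
      refine le_trans ?_ (le_iSup _ hae)
      exact dim_nonneg_of_nonempty
  -- discreteness of `|X|` from discreteness of the atlas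
  have hdiscU : DiscreteTopology ↥U.left → DiscreteTopology (AlgSp.Points X.obj) := by
    intro hd
    rw [discreteTopology_iff_isOpen_singleton]
    intro z
    obtain ⟨u, rfl⟩ := ofPt_surjective a has z
    have := isOpenMap_ofPt a hae _ (isOpen_discrete ({u} : Set ↥U.left))
    simpa using this
  refine ⟨⟨fun hd => ?_, fun hdim => ?_⟩, fun hd => dim_eq_zero_of_discrete, fun hdec hdim => ?_,
    fun hdec hfin => ?_⟩
  · -- discrete ⇒ dim X = 0
    apply hdim0
    intro V b hb
    have := hN V b hb
    have : DiscreteTopology ↥V.left := by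
      rw [discreteTopology_iff_isOpen_singleton]
      intro v
      let O : V.left.Opens := ⟨Points.ofPt b ⁻¹' {Points.ofPt b v},
        (isOpen_discrete _).preimage (Points.continuous_ofPt b)⟩
      refine Groth.Agent.S9955.isOpen_singleton_of_constant_dim O v rfl ?_
      intro u₁ h₁ u₂ h₂
      have e : Points.ofPt b u₁ = Points.ofPt b u₂ := by
        have e1 : Points.ofPt b u₁ = Points.ofPt b v := h₁
        have e2 : Points.ofPt b u₂ = Points.ofPt b v := h₂
        rw [e1, e2]
      exact ((germ_iff_of_ofPt_eq (isEtaleLocalGerm_ringKrullDim _) b b hb hb u₁ u₂ e).1 rfl).symm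
    exact topologicalKrullDim_zero_of_discreteTopology _
  · -- dim X = 0 ⇒ discrete
    apply hdiscU
    apply discreteTopology_of_dim_le_zero
    rw [← hdim]
    unfold AlgSp.dim
    refine le_trans ?_ (le_iSup _ U)
    refine le_trans ?_ (le_iSup _ a)
    exact le_iSup (fun _ : RepWith @Etale a => topologicalKrullDim ↥U.left) hae
  · -- decent, dim |X| = 0 ⇒ discrete
    have hT0 : T0Space (AlgSp.Points X.obj) := Groth.Agent.S10338.result X hdec
    apply hdiscU
    rw [discreteTopology_iff_isOpen_singleton]
    intro u
    refine isOpen_singleton_of_no_specialization ⊤ u trivial ?_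
    intro u₁ _ u₂ _ hs
    have hs' : Points.ofPt a u₁ ⤳ Points.ofPt a u₂ := hs.map (Points.continuous_ofPt a)
    have hc := closure_singleton_of_dim_le_zero hdim.le (Points.ofPt a u₁)
    have hmem := specializes_iff_mem_closure.1 hs'
    rw [hc] at hmem
    exact (eq_of_specializes_of_isLocallyNoetherian_chart a hae hmem hs).symm
  · -- decent, |X| finite ⇒ dim X = 0
    apply hdim0
    intro V b hb
    have := hN V b hb
    have := hlft V b hb
    have hJ : JacobsonSpace ↥V.left :=
      LocallyOfFiniteType.jacobsonSpace (Y := Spec (CommRingCat.of k)) V.hom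
    have : DiscreteTopology ↥V.left := by
      rw [discreteTopology_iff_isOpen_singleton]
      intro v
      obtain ⟨_, ⟨W, hW, rfl⟩, hvW, -⟩ :=
        V.left.isBasis_affineOpens.exists_subset_of_mem_open (Set.mem_univ v) isOpen_univ
      have hcW : CompactSpace ↥W := isCompact_iff_compactSpace.1 hW.isCompact
      have hbW := repWith_etale_restrict b hb W
      have hfinW : Finite ↥W := by
        have huniv : (Set.univ : Set ↥W) =
            ⋃ x : AlgSp.Points X.obj, Points.ofPt ((yon _).map (openι V W) ≫ b) ⁻¹' {x} := by
          ext w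
          refine ⟨fun _ => Set.mem_iUnion.2 ⟨_, rfl⟩, fun _ => trivial⟩
        have : (Set.univ : Set ↥W).Finite := by
          rw [huniv]
          refine Set.finite_iUnion fun x => ?_
          obtain ⟨q, rfl, -, hq⟩ := hdec x
          have : CompactSpace ↥(openOver V W).left := hcW
          exact finite_fibre_of_qc_point q hq _ hbW
        exact Set.finite_univ_iff.1 this
      have hJW : JacobsonSpace ↥W := JacobsonSpace.of_isOpenEmbedding W.2.isOpenEmbedding_subtypeVal
      have hdW : DiscreteTopology ↥W := inferInstance
      have h1 : IsOpen ({⟨v, hvW⟩} : Set ↥W) := isOpen_discrete _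
      have h2 := W.2.isOpenEmbedding_subtypeVal.isOpenMap _ h1
      simpa using h2
    exact topologicalKrullDim_zero_of_discreteTopology _

end Groth.Agent.S10392
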