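import Groth.Statements.S10393
import Groth.Agent.Lib.Helper30.DiscMono
import Groth.Agent.Lib.Helper37.ZarQsSober

set_option autoImplicit false
universe u
open CategoryTheory CategoryTheory.Limits AlgebraicGeometry Topology TopologicalSpace
open AlgSp

namespace Groth.Agent.S10393

open Groth.Agent.Lib.Helper30.DecentOpenScheme Groth.Agent.Lib.Helper36.OpenSubspace
  Groth.Agent.Lib.Helper30.SchemLoc2 Groth.Agent.Lib.Helper37.AlgSpPoints
  Groth.Agent.Lib.Helper37.AlgSpFibres Groth.Agent.Lib.Helper30.Codim0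
  Groth.Agent.Lib.Helper37.QsSober Groth.Agent.Lib.Helper30.DecentSober
  Groth.Agent.Lib.Helper36.AlgSpCharts Groth.Agent.Lib.Helper30.DiscMono

/-- Let S be a scheme, Y a scheme over S whose underlying topological space is discrete (equivalently, Y
is a disjoint union of spectra of local rings of dimension zero), and X an algebraic space over S
with a monomorphism X ⟶ Y over S. Then X is a scheme. -/
theorem result {S : Scheme.{u}} (Y : Over S) [DiscreteTopology ↥Y.left]
    (X : AlgSp.Space S) (f : X ⟶ (AlgSp.ofScheme S).obj Y) [Mono f.hom] : X.obj.obj.IsRepresentable := by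
  refine Groth.Agent.Lib.Helper23.SLQGlue.isRepresentable_of_local
    (fun _ : PUnit.{u+1} => schematicLocus X.obj) (fun _ => isOpen_schematicLocus _)
    (fun _ => isRepresentable_schematicLocus X) (fun x => ⟨⟨⟩, ?_⟩)
  obtain ⟨V, a₀, v, hV, ha₀, rfl⟩ := exists_affine_chart X x
  obtain ⟨fh, hfh⟩ : ∃ fh : X.obj ⟶ (yon S).obj Y, fh = f.hom := ⟨f.hom, rfl⟩
  have hmono : Mono fh := by subst hfh; assumption
  obtain ⟨g₀, hg₀⟩ := (yon S).map_surjective (a₀ ≫ fh)
  -- an affine open inside `{g₀ v}`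
  obtain ⟨_, ⟨T₀, hT₀, rfl⟩, hyT₀, hT₀sub⟩ :=
    Y.left.isBasis_affineOpens.exists_subset_of_mem_open
      (show g₀.left v ∈ ({g₀.left v} : Set ↥Y.left) from rfl) (isOpen_discrete _)
  obtain ⟨_, ⟨V', hV', rfl⟩, hvV', hV'sub⟩ :=
    V.left.isBasis_affineOpens.exists_subset_of_mem_open
      (show v ∈ ((g₀.left ⁻¹ᵁ T₀ : V.left.Opens) : Set ↥V.left) from hyT₀) (g₀.left ⁻¹ᵁ T₀).2
  have ha : RepWith @Etale ((yon S).map (openι V V') ≫ a₀) := repWith_etale_restrict a₀ ha₀ V'
  have hVaff : IsAffine (openOver V V').left := hV'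
  have hR := ha.rep.isPullback' ((yon S).map (openι V V') ≫ a₀)
  have hR' := Groth.Agent.Lib.Helper23.AlgSpMor.isPullback_comp_mono fh hR
  have hg : ((yon S).map (openι V V') ≫ a₀) ≫ fh = (yon S).map (openι V V' ≫ g₀) := by
    rw [Category.assoc, ← hg₀, Functor.map_comp]
  rw [hg] at hR'
  have hL := isPullback_left_of_yon hR'
  have hrange : Set.range (openι V V' ≫ g₀).left ⊆ (T₀ : Set ↥Y.left) := by
    rintro _ ⟨w, rfl⟩
    exact hV'sub w.2
  have hcV : CompactSpace ↥(openOver V V').left := isCompact_iff_compactSpace.1 hV'.isCompact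
  have hcP : CompactSpace ↥(pullback (openι V V' ≫ g₀).left (openι V V' ≫ g₀).left) :=
    compactSpace_pullback_of_factor _ _ T₀ hT₀ hrange hrange
  have hcR : CompactSpace ↥(ha.rep.pullback ((yon S).map (openι V V') ≫ a₀)).left :=
    (Scheme.homeoOfIso hL.isoPullback).symm.compactSpace
  -- minimality
  have hs : Etale (ha.rep.fst' ((yon S).map (openι V V') ≫ a₀)).left := prop_fst_of_isPullback hR ha
  have hfst : Etale (pullback.fst (openι V V' ≫ g₀).left (openι V V' ≫ g₀).left) := by
    rw [← hL.isoPullback_inv_fst]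
    infer_instance
  have hmin : ∀ v' : ↥(openOver V V').left, v' ⤳ (⟨v, hvV'⟩ : ↥(openOver V V').left) →
      v' = ⟨v, hvV'⟩ := fun v' hv' => eq_of_specializes_of_etale_fst (openι V V' ≫ g₀).left hv'
  have := mem_schematicLocus_of_minimal X ha hR (⟨v, hvV'⟩ : ↥(openOver V V').left) hmin
  rw [ofPt_restrict a₀ V' ⟨v, hvV'⟩] at this
  exact this

end Groth.Agent.S10393
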