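import Groth.Statements.S10398
import Groth.Agent.Lib.Helper23.GenFin5
import Groth.Agent.S10268
import Groth.Agent.Lib.Helper30.LocPNbhd
import Groth.Agent.Lib.Helper36.OpenSubLift

set_option autoImplicit false
universe u
open CategoryTheory CategoryTheory.Limits AlgebraicGeometry Topology TopologicalSpace
open AlgSp

namespace Groth.Agent.S10398

open Groth.Agent.Lib.Helper23.GenFin Groth.Agent.Lib.Helper37.AlgSpFibres
  Groth.Agent.Lib.Helper23.AlgSpMor Groth.Agent.Lib.Helper23.SLQSplit
  Groth.Agent.Lib.Helper36.OpenSubspace Groth.Agent.Lib.Helper37.AlgSpPoints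
  Groth.Agent.Lib.Helper36.QFLocus

/-- (2) ⇒ (3): let S be a scheme, X and Y algebraic spaces over S, and f : X ⟶ Y a quasi-separated
morphism of finite type, and let y ∈ |Y| be a codimension 0 point of Y. Suppose that at every point
of |X| lying over y the morphism f is quasi-finite. Then there is an open subspace Y' ⊆ Y containing
y for which the morphism Y' ×_Y X ⟶ Y' is finite. -/
theorem result {S : Scheme.{u}} {X Y : AlgSp.Space S} (f : X ⟶ Y)
    (hqs : AlgSp.IsQuasiSeparatedMor f.hom) (hft : AlgSp.IsFiniteTypeMor f.hom) (y : AlgSp.Points Y.obj)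
    (hy : AlgSp.HasAt (fun U u => ringKrullDim ↥(U.presheaf.stalk u) = 0) Y.obj y)
    (hqf : ∀ x : AlgSp.Points X.obj, AlgSp.Points.map f.hom x = y → AlgSp.HasAtMor (fun U _ h u => ∃ W : U.Opens, u ∈ W ∧ LocallyQuasiFinite (W.ι ≫ h) ∧ LocallyOfFiniteType (W.ι ≫ h)) f.hom x) :
    ∃ (Y' X' : AlgSp.Space S) (j : Y' ⟶ Y) (fst : X' ⟶ Y') (snd : X' ⟶ X), AlgSp.RepWith @IsOpenImmersion j.hom ∧
      y ∈ Set.range (AlgSp.Points.map j.hom) ∧ IsPullback fst.hom snd.hom j.hom f.hom ∧
      AlgSp.IsFiniteMor fst.hom := by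

  classical
  -- affine chart at `y` with a point without proper generizations
  obtain ⟨V₀, b₀, v₀, hb₀, hv₀y, hdim⟩ := hy
  obtain ⟨_, ⟨W, hW, rfl⟩, hvW, -⟩ :=
    V₀.left.isBasis_affineOpens.exists_subset_of_mem_open (Set.mem_univ v₀) isOpen_univ
  let V : Over S := openOver V₀ W
  haveI hVaff : IsAffine V.left := hW
  let b : (yon S).obj V ⟶ Y.obj := (yon S).map (openι V₀ W) ≫ b₀
  have hb : RepWith @Etale b := repWith_etale_restrict b₀ hb₀ W
  let v : ↥V.left := ⟨v₀, hvW⟩
  have hbv : Points.ofPt b v = y := by rw [ofPt_restrict b₀ W ⟨v₀, hvW⟩]; exact hv₀y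
  have hv : ∀ v' : ↥V.left, v' ⤳ v → v' = v := by
    intro v' hs
    have h1 : (Scheme.Opens.ι W) v' ⤳ (Scheme.Opens.ι W) v :=
      hs.map (Scheme.Opens.ι W).continuous
    have h2 : (Scheme.Opens.ι W) v' = v₀ :=
      eq_of_specializes_of_ringKrullDim_stalk_eq_zero v₀ hdim _ h1
    exact (Scheme.Opens.ι W).isOpenEmbedding.injective h2
  -- base change to `V`
  have sq₁ : IsPullback (pullback.fst f.hom b) (pullback.snd f.hom b) f.hom b :=
    IsPullback.of_hasPullback _ _
  have hX₁ : IsAlgSpace (pullback f.hom b) :=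
    isAlgSpace_of_isPullback X.property (IsAlgSpace.yon_obj V) Y.property.diag sq₁
  have hqc : IsQuasiCompactSp (pullback f.hom b) :=
    hft.2 (IsAlgSpace.yon_obj V) (isQuasiCompactSp_yon V) b _ _ sq₁
  have hqs' : IsQuasiSeparatedMor (pullback.snd f.hom b) :=
    MorphismProperty.of_isPullback (P := (RepWith (S := S) @QuasiCompact).diagonal) sq₁ hqs
  have hpr : RepWith @Etale (pullback.fst f.hom b) := (RepWith @Etale).of_isPullback sq₁.flip hb
  have hchart : ∀ ⦃A : Over S⦄ (c : (yon S).obj A ⟶ pullback f.hom b) (g : A ⟶ V),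
      RepWith @Etale c → c ≫ pullback.snd f.hom b = (yon S).map g →
      RepWith @Etale (c ≫ pullback.fst f.hom b) ∧
        (c ≫ pullback.fst f.hom b) ≫ f.hom = (yon S).map g ≫ b := by
    intro A c g hc hcg
    refine ⟨(RepWith @Etale).comp_mem _ _ hc hpr, ?_⟩
    rw [Category.assoc, sq₁.w, ← Category.assoc, hcg]
  obtain ⟨N, hvN, hN⟩ := exists_opens_isFiniteMor hX₁ (pullback.snd f.hom b) hqc hqs'
    (fun A c g hc hcg => hft.1 _ b g (hchart c g hc hcg).1 hb (hchart c g hc hcg).2) v hv
    (by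
      intro A c g hc hcg a hga
      obtain ⟨h1, h2⟩ := hchart c g hc hcg
      have hx : Points.map f.hom (Points.ofPt (c ≫ pullback.fst f.hom b) a) = y := by
        rw [Points.map_ofPt, h2, ofPt_map_comp, hga]; exact hbv
      have hmem := mem_qfLocus_of_hasAtMor f hft.1 _ (hqf _ hx)
      exact (mem_qfLocus_iff_of_chart f hft.1 _ b g h1 hb h2 a).1 hmem)
  -- the open image of `V_N`
  let VN : Over S := openOver V N
  let bN : (yon S).obj VN ⟶ Y.obj := (yon S).map (openι V N) ≫ b
  have hbN : RepWith @Etale bN := repWith_etale_restrict b hb N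
  let Wset : Set (Points Y.obj) := Set.range (Points.ofPt bN)
  have hWopen : IsOpen Wset := (isOpenMap_ofPt bN hbN).isOpen_range
  have hj : RepWith @IsOpenImmersion (openSubι Y.obj Wset) :=
    repWith_isOpenImmersion_openSubι Y.obj Wset hWopen
  have hY' : IsAlgSpace (openSub Y.obj Wset) := isAlgSpace_openSub Y.obj Y.property Wset hWopen
  have hrange : Set.range (Points.map bN) ⊆ Wset := by
    rintro _ ⟨z, rfl⟩
    obtain ⟨t, rfl⟩ := (Points.schemeEquiv VN).surjective z
    exact ⟨t, Points.ofPt_eq_map_ofScheme bN t⟩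
  obtain ⟨b', hb'⟩ := exists_lift_openSub_of_range bN Wset hrange
  have sqb : IsPullback (𝟙 _) b' bN (openSubι Y.obj Wset) :=
    IsPullback.of_horiz_isIso_mono ⟨by rw [Category.id_comp, hb']⟩
  have hb'e : RepWith @Etale b' := (RepWith @Etale).of_isPullback sqb hbN
  have hb's : RepWith @Surjective b' := by
    refine repWith_surjective_of_isSurjectiveMor b' hb'e.rep ?_
    intro y'
    have hmem : Points.map (openSubι Y.obj Wset) y' ∈ Wset :=
      (range_map_openSubι Y.obj Wset).le ⟨y', rfl⟩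
    obtain ⟨t, ht⟩ := hmem
    refine ⟨Points.ofScheme VN t, ?_⟩
    apply Groth.Agent.Lib.Helper30.LocPNbhd.points_map_injective_of_mono (openSubι Y.obj Wset)
    rw [← Points.map_comp, hb', ← Points.ofPt_eq_map_ofScheme]
    exact ht
  -- the pullback over the open image
  have sqX' : IsPullback (pullback.fst (openSubι Y.obj Wset) f.hom)
      (pullback.snd (openSubι Y.obj Wset) f.hom) (openSubι Y.obj Wset) f.hom :=
    IsPullback.of_hasPullback _ _
  have hX' : IsAlgSpace (pullback (openSubι Y.obj Wset) f.hom) :=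
    isAlgSpace_of_isPullback hY' X.property Y.property.diag sqX'
  let Y's : Space S := ⟨openSub Y.obj Wset, hY'⟩
  let X's : Space S := ⟨pullback (openSubι Y.obj Wset) f.hom, hX'⟩
  let js : Y's ⟶ Y := ObjectProperty.homMk (openSubι Y.obj Wset)
  let fsts : X's ⟶ Y's := ObjectProperty.homMk (pullback.fst (openSubι Y.obj Wset) f.hom)
  let snds : X's ⟶ X := ObjectProperty.homMk (pullback.snd (openSubι Y.obj Wset) f.hom)
  refine ⟨Y's, X's, js, fsts, snds, hj, ?_, sqX', ?_⟩
  · change y ∈ Set.range (Points.map (openSubι Y.obj Wset))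
    rw [range_map_openSubι]
    refine ⟨⟨v, hvN⟩, ?_⟩
    rw [ofPt_restrict b N ⟨v, hvN⟩]
    exact hbv
  · -- descend finiteness along `b'`
    have sqP : IsPullback (pullback.fst fsts.hom b') (pullback.snd fsts.hom b') fsts.hom b' :=
      IsPullback.of_hasPullback _ _
    refine (Groth.Agent.S10268.result fsts VN b' hb'e hb's _ _ sqP).2 ?_
    have big := sqP.paste_horiz sqX'.flip
    have hbig : b' ≫ openSubι Y.obj Wset = (yon S).map (openι V N) ≫ b := hb'
    have hcomm : (pullback.fst fsts.hom b' ≫ pullback.snd (openSubι Y.obj Wset) f.hom) ≫ f.hom =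
        (pullback.snd fsts.hom b' ≫ (yon S).map (openι V N)) ≫ b := by
      have hw := big.w
      simp only [Category.assoc] at hw ⊢
      rw [← hbig]
      exact hw
    refine hN _ (sq₁.lift _ _ hcomm) (pullback.snd fsts.hom b') ?_
    refine IsPullback.of_right ?_ (sq₁.lift_snd _ _ hcomm) sq₁
    rw [sq₁.lift_fst, ← hbig]
    exact big

end Groth.Agent.S10398
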