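import Groth.Statements.S1040
import Groth.Agent.Lib.Helper12.QCohSigma
import Groth.Agent.Lib.Helper12.DSigma
import Groth.Agent.Lib.Helper53.ModGroth

set_option autoImplicit false
universe u
open CategoryTheory CategoryTheory.Limits AlgebraicGeometry
attribute [local instance] HasDerivedCategory.standard
open Perf

namespace Groth.Agent.S1040

theorem result (X : Scheme.{u}) {ι : Type u} (K : ι → DCoh.D X) (hK : ∀ i, DCoh.IsQCohD (K i)) [HasCoproduct K] :
    DCoh.IsQCohD (∐ K) := by
  have : IsGrothendieckAbelian.{u} X.Modules :=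
    Groth.Agent.Lib.Helper53.ModGroth.isGrothendieckAbelian _ X.ringCatSheaf
  intro n
  have h1 : (∐ fun i => DCoh.HD (K i) n).IsQuasicoherent :=
    Groth.Agent.Lib.Helper12.QCohSigma.isQuasicoherent_sigma _ fun i => hK i n
  exact Groth.Agent.Lib.Helper12.QCohSigma.isQuasicoherent_of_iso
    (Groth.Agent.Lib.Helper12.DSigma.homologySigmaIso K n).symm h1

end Groth.Agent.S1040
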