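import Groth.Statements.S10400
import Groth.Agent.Lib.Helper23.GenFin10
import Groth.Agent.S10540
import Groth.Agent.Lib.Helper36.OpenSubLift

set_option autoImplicit false
universe u
open CategoryTheory CategoryTheory.Limits AlgebraicGeometry Topology TopologicalSpace
open AlgSp

namespace Groth.Agent.S10400

open Groth.Agent.Lib.Helper23.GenFin Groth.Agent.Lib.Helper37.AlgSpFibres
  Groth.Agent.Lib.Helper23.AlgSpMor Groth.Agent.Lib.Helper23.SLQSplit
  Groth.Agent.Lib.Helper36.OpenSubspace Groth.Agent.Lib.Helper37.AlgSpPoints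
  Groth.Agent.Lib.Helper36.QFLocus

/-- Let f : X ⟶ Y be a morphism locally of finite type of algebraic spaces over a scheme S with Y
decent. Assume the codimension 0 points of X and of Y form finite sets, that a point of X has
codimension 0 exactly when its image does, and that f is quasi-compact or separated. Then there is a
dense open subspace V ⊆ Y with f⁻¹(V) ⟶ V finite. -/
theorem result {S : Scheme.{u}} {X Y : AlgSp.Space S} (f : X ⟶ Y)
    (hf : AlgSp.LocP @LocallyOfFiniteType f.hom) (hY : AlgSp.IsDecent Y.obj)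
    (hX0 : {x : AlgSp.Points X.obj | AlgSp.HasAt (fun U u => ringKrullDim ↥(U.presheaf.stalk u) = 0) X.obj x}.Finite)
    (hY0 : {y : AlgSp.Points Y.obj | AlgSp.HasAt (fun U u => ringKrullDim ↥(U.presheaf.stalk u) = 0) Y.obj y}.Finite)
    (hpre : ∀ x : AlgSp.Points X.obj, AlgSp.HasAt (fun U u => ringKrullDim ↥(U.presheaf.stalk u) = 0) X.obj x ↔ AlgSp.HasAt (fun U u => ringKrullDim ↥(U.presheaf.stalk u) = 0) Y.obj (AlgSp.Points.map f.hom x))
    (hqs : AlgSp.IsQuasiCompactMor f.hom ∨ AlgSp.IsSeparatedMor f.hom) :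
    ∃ (V X' : AlgSp.Space S) (j : V ⟶ Y) (fst : X' ⟶ V) (snd : X' ⟶ X), AlgSp.RepWith @IsOpenImmersion j.hom ∧
      Dense (Set.range (AlgSp.Points.map j.hom)) ∧ IsPullback fst.hom snd.hom j.hom f.hom ∧
      AlgSp.IsFiniteMor fst.hom := by

  classical
  -- local data at every codimension-0 point of `Y`
  let Y0 : Set (Points Y.obj) :=
    {y | HasAt (fun U u => ringKrullDim ↥(U.presheaf.stalk u) = 0) Y.obj y}
  have hloc := fun y : ↥Y0 => exists_chart_finite_of_codimZero f hf hY hX0 hY0 hpre hqs y.1 y.2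
  choose VN bN hbN hyN hfinN using hloc
  haveI : Finite ↥Y0 := hY0.to_subtype
  let e : ↥Y0 ≃ Fin (Nat.card ↥Y0) := Finite.equivFin ↥Y0
  let yi : ULift.{u} (Fin (Nat.card ↥Y0)) → ↥Y0 := fun i => e.symm i.down
  -- the open subspace
  let Wset : Set (Points Y.obj) := ⋃ y : ↥Y0, Set.range (Points.ofPt (bN y))
  have hWopen : IsOpen Wset := isOpen_iUnion fun y => (isOpenMap_ofPt (bN y) (hbN y)).isOpen_range
  have hj : RepWith @IsOpenImmersion (openSubι Y.obj Wset) :=
    repWith_isOpenImmersion_openSubι Y.obj Wset hWopen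
  have hV : IsAlgSpace (openSub Y.obj Wset) := isAlgSpace_openSub Y.obj Y.property Wset hWopen
  have hrange : ∀ y : ↥Y0, Set.range (Points.map (bN y)) ⊆ Wset := by
    rintro y _ ⟨z, rfl⟩
    obtain ⟨t, rfl⟩ := (Points.schemeEquiv (VN y)).surjective z
    exact Set.mem_iUnion.2 ⟨y, t, Points.ofPt_eq_map_ofScheme (bN y) t⟩
  choose b' hb' using fun y : ↥Y0 => exists_lift_openSub_of_range (bN y) Wset (hrange y)
  have hb'e : ∀ y : ↥Y0, RepWith @Etale (b' y) := by
    intro y
    have sqb : IsPullback (𝟙 _) (b' y) (bN y) (openSubι Y.obj Wset) :=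
      IsPullback.of_horiz_isIso_mono ⟨by rw [Category.id_comp, hb' y]⟩
    exact (RepWith @Etale).of_isPullback sqb (hbN y)
  have hinj : Function.Injective (Points.map (openSubι Y.obj Wset)) :=
    Groth.Agent.Lib.Helper30.LocPNbhd.points_map_injective_of_mono _
  have hcov : IsFpqcCover (fun i : ULift.{u} (Fin (Nat.card ↥Y0)) => (yon S).obj (VN (yi i)))
      (fun i => b' (yi i)) := by
    refine isFpqcCover_of_etale_family hV (fun i => VN (yi i)) (fun i => b' (yi i))
      (fun i => hb'e (yi i)) ?_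
    intro x
    have hmem : Points.map (openSubι Y.obj Wset) x ∈ Wset :=
      (range_map_openSubι Y.obj Wset).le ⟨x, rfl⟩
    obtain ⟨y, t, ht⟩ := Set.mem_iUnion.1 hmem
    obtain ⟨i, hi⟩ : ∃ i : ULift.{u} (Fin (Nat.card ↥Y0)), yi i = y :=
      ⟨⟨e y⟩, e.symm_apply_apply y⟩
    subst hi
    refine ⟨i, Points.ofScheme (VN (yi i)) t, ?_⟩
    apply hinj
    rw [← Points.map_comp, hb' (yi i), ← Points.ofPt_eq_map_ofScheme]
    exact ht
  -- the pullback over the open subspace
  have sqX' : IsPullback (pullback.fst (openSubι Y.obj Wset) f.hom)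
      (pullback.snd (openSubι Y.obj Wset) f.hom) (openSubι Y.obj Wset) f.hom :=
    IsPullback.of_hasPullback _ _
  have hX' : IsAlgSpace (pullback (openSubι Y.obj Wset) f.hom) :=
    isAlgSpace_of_isPullback hV X.property Y.property.diag sqX'
  let Vs : Space S := ⟨openSub Y.obj Wset, hV⟩
  let X's : Space S := ⟨pullback (openSubι Y.obj Wset) f.hom, hX'⟩
  let js : Vs ⟶ Y := ObjectProperty.homMk (openSubι Y.obj Wset)
  let fsts : X's ⟶ Vs := ObjectProperty.homMk (pullback.fst (openSubι Y.obj Wset) f.hom)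
  let snds : X's ⟶ X := ObjectProperty.homMk (pullback.snd (openSubι Y.obj Wset) f.hom)
  refine ⟨Vs, X's, js, fsts, snds, hj, ?_, sqX', ?_⟩
  · -- density
    change Dense (Set.range (Points.map (openSubι Y.obj Wset)))
    rw [range_map_openSubι, dense_iff_inter_open]
    intro O hO hne
    obtain ⟨y, hyO, hy0⟩ := exists_codimZero_mem_of_isOpen Y O hO hne
    exact ⟨y, hyO, Set.mem_iUnion.2 ⟨⟨y, hy0⟩, hyN ⟨y, hy0⟩⟩⟩
  · -- finiteness, by fpqc descent along the charts
    have sqP : ∀ i : ULift.{u} (Fin (Nat.card ↥Y0)),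
        IsPullback (pullback.fst fsts.hom (b' (yi i))) (pullback.snd fsts.hom (b' (yi i))) fsts.hom
          (b' (yi i)) := fun i => IsPullback.of_hasPullback _ _
    have hPi : ∀ i : ULift.{u} (Fin (Nat.card ↥Y0)),
        IsAlgSpace (pullback fsts.hom (b' (yi i))) := fun i =>
      isAlgSpace_of_isPullback hX' (IsAlgSpace.yon_obj _) hV.diag (sqP i)
    refine ((Groth.Agent.S10540.result S (fun i => (yon S).obj (VN (yi i))) (fun i => b' (yi i)) hV
      (fun _ => IsAlgSpace.yon_obj _) hcov fsts.hom hX' (fun i => pullback fsts.hom (b' (yi i)))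
      (fun i => pullback.snd fsts.hom (b' (yi i))) (fun i => pullback.fst fsts.hom (b' (yi i)))
      hPi sqP).2 ?_)
    intro i
    have big := (sqP i).paste_horiz sqX'.flip
    rw [hb' (yi i)] at big
    exact hfinN (yi i) _ _ _ big

end Groth.Agent.S10400
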