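import Groth.Statements.S10401
-- import your own Groth.Agent.* helpers here
import Groth.Agent.Lib.Helper36.AlgSpChartDiag

set_option autoImplicit false
universe u
open CategoryTheory CategoryTheory.Limits AlgebraicGeometry Topology TopologicalSpace
open AlgSp

namespace Groth.Agent.S10401

open Groth.Agent.Lib.Helper36.AlgSpCharts Groth.Agent.Lib.Helper36.AlgSpChartDiag

/-- If Y is a Jacobson algebraic space and X is an algebraic space that is locally of finite type over
Y, then X is Jacobson. -/
theorem result {S : Scheme.{u}} {X Y : AlgSp.Space S} (hX : AlgSp.EtaleLocally (fun U => JacobsonSpace ↥U) X.obj)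
    (f : Y ⟶ X) (hf : AlgSp.LocP @LocallyOfFiniteType f.hom) : AlgSp.EtaleLocally (fun U => JacobsonSpace ↥U) Y.obj := by
  obtain ⟨V, b, hbe, hbs, hJ⟩ := hX
  obtain ⟨U, p, hpe, hps⟩ := Y.property.atlas
  obtain ⟨W, p1, h, h1, h2, sq⟩ := exists_chart_diagram_of_charts f.hom p b hbe
  have hae : RepWith @Etale ((yon S).map p1 ≫ p) := repWith_yon_map_comp p1 h1 p hpe
  have has : RepWith @Surjective ((yon S).map p1 ≫ p) := repWith_yon_map_comp p1 (h2 hbs) p hps
  have weq : ((yon S).map p1 ≫ p) ≫ f.hom = (yon S).map h ≫ b := by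
    rw [Category.assoc]
    exact sq.w
  have : LocallyOfFiniteType h.left := hf _ b h hae hbe weq
  exact ⟨W, _, hae, has, LocallyOfFiniteType.jacobsonSpace h.left⟩

end Groth.Agent.S10401
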