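import Groth.Statements.S10402
-- import your own Groth.Agent.* helpers here
import Groth.Agent.Lib.Helper36.JacobsonPts
import Groth.Agent.Lib.Helper36.AlgSpChartDiag

set_option autoImplicit false
universe u
open CategoryTheory CategoryTheory.Limits AlgebraicGeometry Topology TopologicalSpace
open AlgSp

namespace Groth.Agent.S10402

open Groth.Agent.Lib.Helper36.AlgSpCharts Groth.Agent.Lib.Helper37.AlgSpPoints
  Groth.Agent.Lib.Helper36.JacobsonPts Groth.Agent.Lib.Helper36.AlgSpChartDiag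

/-- Let S be a scheme and X a Jacobson algebraic space over S. Fix a finite type point x of |X|, and let
g : W ⟶ X be locally of finite type, where W is a scheme. If x lies in the image of |W| → |X|, then
some closed point of W is mapped to x. -/
theorem result {S : Scheme.{u}} (X : AlgSp.Space S) (hX : AlgSp.EtaleLocally (fun U => JacobsonSpace ↥U) X.obj)
    (x : AlgSp.Points X.obj) (hx : AlgSp.HasAt (fun U u => IsClosed ({u} : Set ↥U)) X.obj x) {W : Over S} (g : (AlgSp.yon S).obj W ⟶ X.obj)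
    (hg : AlgSp.LocP @LocallyOfFiniteType g) (hxW : x ∈ Set.range (AlgSp.Points.ofPt g)) :
    ∃ w : ↥W.left, IsClosed ({w} : Set ↥W.left) ∧ AlgSp.Points.ofPt g w = x := by
  obtain ⟨U, a, hae, has, hJ⟩ := hX
  have hJ' : JacobsonSpace ↥U.left := hJ
  obtain ⟨U', a', u', hae', rfl, hu'⟩ := hx
  obtain ⟨w₀, hw₀⟩ := hxW
  obtain ⟨W'', r1, r2, sq⟩ := exists_isPullback_yon g a hae.rep
  have h1 : Etale r1.left := prop_fst_of_isPullback sq hae
  have h1s : Surjective r1.left := prop_fst_of_isPullback sq has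
  have h2 : LocallyOfFiniteType r2.left :=
    hg ((yon S).map r1) a r2 ((repWith_yon_map_iff @Etale _).2 h1) hae sq.w
  have hJW : JacobsonSpace ↥W''.left := LocallyOfFiniteType.jacobsonSpace r2.left
  obtain ⟨u₀, hu₀⟩ := ofPt_surjective a has (Points.ofPt a' u')
  have hu₀cl : IsClosed ({u₀} : Set ↥U.left) :=
    isClosed_singleton_of_ofPt_eq a a' hae hae' u₀ u' hu' hu₀
  obtain ⟨r, hr1, hr2⟩ := (ofPt_eq_ofPt_iff sq w₀ u₀).1 (hw₀.trans hu₀.symm)
  have hZcl : IsClosed (r2.left ⁻¹' {u₀}) := hu₀cl.preimage r2.left.continuous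
  obtain ⟨w'', hw''1, hw''2⟩ := nonempty_inter_closedPoints ⟨r, hr2⟩ hZcl.isLocallyClosed
  have hw''cl : IsClosed ({w''} : Set ↥W''.left) := hw''2
  have hlc := isLocallyClosed_singleton_of_lft r1.left w'' hw''cl
  refine ⟨r1.left w'', isClosed_singleton_of_isLocallyClosed_of_etale r1.left _ hlc, ?_⟩
  have e : Points.ofPt g (r1.left w'') = Points.ofPt a (r2.left w'') :=
    (ofPt_eq_ofPt_iff sq _ _).2 ⟨w'', rfl, rfl⟩
  rw [e]
  have : r2.left w'' = u₀ := hw''1
  rw [this, hu₀]

end Groth.Agent.S10402
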