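import Groth.Statements.S10403
-- import your own Groth.Agent.* helpers here
import Groth.Agent.Lib.Helper36.JacobsonPts
import Groth.Agent.Lib.Helper37.AlgSpFibres

set_option autoImplicit false
universe u
open CategoryTheory CategoryTheory.Limits AlgebraicGeometry Topology TopologicalSpace
open AlgSp

namespace Groth.Agent.S10403

open Groth.Agent.Lib.Helper36.AlgSpCharts Groth.Agent.Lib.Helper37.AlgSpPoints
  Groth.Agent.Lib.Helper36.JacobsonPts Groth.Agent.Lib.Helper37.AlgSpFibres

/-- A set of closed points of a scheme meeting every affine open in a finite set is closed. -/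
theorem isClosed_of_locally_finite_closed_points {U : Scheme.{u}} (O : Set ↥U)
    (hO : ∀ u ∈ O, IsClosed ({u} : Set ↥U))
    (hfin : ∀ W ∈ U.affineOpens, (O ∩ (W : Set ↥U)).Finite) : IsClosed O := by
  apply isClosed_of_closure_subset
  intro z hz
  obtain ⟨_, ⟨W, hW, rfl⟩, hzW, -⟩ :=
    U.isBasis_affineOpens.exists_subset_of_mem_open (Set.mem_univ z) isOpen_univ
  have hcl : IsClosed (O ∩ (W : Set ↥U)) := by
    have : O ∩ (W : Set ↥U) = ⋃ w ∈ O ∩ (W : Set ↥U), {w} :=
      (Set.biUnion_of_singleton _).symm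
    rw [this]
    exact (hfin W hW).isClosed_biUnion fun w hw => hO w hw.1
  have hz' : z ∈ closure (O ∩ (W : Set ↥U)) := by
    rw [mem_closure_iff] at hz ⊢
    intro N hN hzN
    obtain ⟨y, hy1, hy2⟩ := hz (N ∩ W) (hN.inter W.2) ⟨hzN, hzW⟩
    exact ⟨y, hy1.1, hy2, hy1.2⟩
  rw [hcl.closure_eq] at hz'
  exact hz'.1

/-- For a decent sheaf, the fibre of an etale chart over a point meets every affine open in a
finite set. -/
theorem finite_fibre_inter_affine {S : Scheme.{u}} {F : Sp S} (hd : IsDecent F) {U : Over S}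
    (a : (yon S).obj U ⟶ F) (hae : RepWith @Etale a) (x : Points F) (W : U.left.Opens)
    (hW : W ∈ U.left.affineOpens) : (Points.ofPt a ⁻¹' {x} ∩ (W : Set ↥U.left)).Finite := by
  obtain ⟨q, rfl, -, hq⟩ := hd x
  have hcW : CompactSpace ↥W := isCompact_iff_compactSpace.1 hW.isCompact
  have : CompactSpace ↥(openOver U W).left := hcW
  have hbW := repWith_etale_restrict a hae W
  have hfin := finite_fibre_of_qc_point q hq _ hbW
  refine (hfin.image Subtype.val).subset ?_
  rintro w ⟨hw1, hw2⟩
  refine ⟨⟨w, hw2⟩, ?_, rfl⟩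
  change Points.ofPt ((yon S).map (openι U W) ≫ a) (⟨w, hw2⟩ : ↥W) = Points.mk q
  rw [ofPt_restrict]
  exact hw1

/-- For a decent Jacobson algebraic space X over a scheme S, the finite type points of |X| are exactly
the closed points. -/
theorem result {S : Scheme.{u}} (X : AlgSp.Space S) (hd : AlgSp.IsDecent X.obj)
    (hX : AlgSp.EtaleLocally (fun U => JacobsonSpace ↥U) X.obj) (x : AlgSp.Points X.obj) :
    AlgSp.HasAt (fun U u => IsClosed ({u} : Set ↥U)) X.obj x ↔ IsClosed ({x} : Set (AlgSp.Points X.obj)) := by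
  obtain ⟨U, a, hae, has, hJ⟩ := hX
  have hJ' : JacobsonSpace ↥U.left := hJ
  have hquot : IsQuotientMap (Points.ofPt a) :=
    (isOpenMap_ofPt a hae).isQuotientMap (Points.continuous_ofPt a) (ofPt_surjective a has)
  constructor
  · rintro ⟨U', a', u', hae', rfl, hu'⟩
    rw [← hquot.isClosed_preimage]
    refine isClosed_of_locally_finite_closed_points _ ?_ ?_
    · intro u hu
      exact isClosed_singleton_of_ofPt_eq a a' hae hae' u u' hu' hu
    · intro W hW
      exact finite_fibre_inter_affine hd a hae _ W hW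
  · intro hx
    have hcl : IsClosed (Points.ofPt a ⁻¹' {x}) := hx.preimage (Points.continuous_ofPt a)
    have hne : (Points.ofPt a ⁻¹' {x}).Nonempty := by
      obtain ⟨u, hu⟩ := ofPt_surjective a has x
      exact ⟨u, hu⟩
    obtain ⟨u, hu1, hu2⟩ := nonempty_inter_closedPoints hne hcl.isLocallyClosed
    exact ⟨U, a, u, hae, hu1, hu2⟩

end Groth.Agent.S10403
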