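import Groth.Statements.S10404
-- import your own Groth.Agent.* helpers here
import Groth.Agent.S10403

set_option autoImplicit false
universe u
open CategoryTheory CategoryTheory.Limits AlgebraicGeometry Topology TopologicalSpace
open AlgSp

namespace Groth.Agent.S10404

open Groth.Agent.Lib.Helper36.AlgSpCharts Groth.Agent.Lib.Helper37.AlgSpPoints
  Groth.Agent.Lib.Helper36.JacobsonPts Groth.Agent.Lib.Helper37.AlgSpFibres

/-- A nonempty locally closed subset of a scheme contains a locally closed point. -/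
theorem exists_isLocallyClosed_singleton {U : Scheme.{u}} (Z : Set ↥U) (hne : Z.Nonempty)
    (hZ : IsLocallyClosed Z) : ∃ u ∈ Z, IsLocallyClosed ({u} : Set ↥U) := by
  obtain ⟨O, C, hO, hC, rfl⟩ := hZ
  obtain ⟨z, hzO, hzC⟩ := hne
  obtain ⟨_, ⟨W, hW, rfl⟩, hzW, hWO⟩ := U.isBasis_affineOpens.exists_subset_of_mem_open hzO hO
  have hcW : CompactSpace ↥W := isCompact_iff_compactSpace.1 hW.isCompact
  have hS : IsClosed (Subtype.val ⁻¹' C : Set ↥W) := hC.preimage continuous_subtype_val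
  obtain ⟨w, hwC, hwcl⟩ := hS.exists_closed_singleton ⟨⟨z, hzW⟩, hzC⟩
  refine ⟨w.1, ⟨hWO w.2, hwC⟩, ?_⟩
  have himg := hwcl.isLocallyClosed.image Topology.IsInducing.subtypeVal
    (by rw [Subtype.range_coe]; exact W.2.isLocallyClosed)
  rwa [Set.image_singleton] at himg

/-- For a decent sheaf, the image of a locally closed point of an etale chart is a locally closed
point of the space of points. -/
theorem isLocallyClosed_singleton_ofPt {S : Scheme.{u}} {F : Sp S} (hd : IsDecent F) {U : Over S}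
    (a : (yon S).obj U ⟶ F) (hae : RepWith @Etale a) (u : ↥U.left)
    (hu : IsLocallyClosed ({u} : Set ↥U.left)) :
    IsLocallyClosed ({Points.ofPt a u} : Set (Points F)) := by
  obtain ⟨O, C, hO, hC, hOC⟩ := hu
  have huOC : u ∈ O ∩ C := by rw [← hOC]; rfl
  obtain ⟨_, ⟨U₁, hU₁, rfl⟩, huU₁, hU₁O⟩ :=
    U.left.isBasis_affineOpens.exists_subset_of_mem_open huOC.1 hO
  set x := Points.ofPt a u with hx
  have hF₁ : (Points.ofPt a ⁻¹' {x} ∩ (U₁ : Set ↥U.left)).Finite :=
    Groth.Agent.S10403.finite_fibre_inter_affine hd a hae x U₁ hU₁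
  let B : Set ↥U.left := ⋃ u' ∈ (Points.ofPt a ⁻¹' {x} ∩ (U₁ : Set ↥U.left)) \ {u}, closure {u'}
  have hBcl : IsClosed B :=
    (hF₁.subset Set.sdiff_subset).isClosed_biUnion fun _ _ => isClosed_closure
  have huB : u ∉ B := by
    intro hmem
    obtain ⟨u', hu', hmem'⟩ := Set.mem_iUnion₂.1 hmem
    have hs : u' ⤳ u := specializes_iff_mem_closure.2 hmem'
    have he : Points.ofPt a u = Points.ofPt a u' := hu'.1.1.symm
    have := eq_of_specializes_of_isDecent hd a hae u u' he hs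
    exact hu'.2 this.symm
  let U₂ : Set ↥U.left := (U₁ : Set ↥U.left) ∩ Bᶜ
  have hU₂ : IsOpen U₂ := U₁.2.inter hBcl.isOpen_compl
  have hfib : ∀ v ∈ U₂, Points.ofPt a v = x → v = u := by
    intro v hv hvx
    by_contra hne
    exact hv.2 (Set.mem_biUnion (⟨⟨hvx, hv.1⟩, hne⟩ :
      v ∈ (Points.ofPt a ⁻¹' {x} ∩ (U₁ : Set ↥U.left)) \ {u}) (subset_closure rfl))
  have hU₂' : IsOpen (U₂ ∩ Cᶜ) := hU₂.inter hC.isOpen_compl
  have hsub : ∀ v ∈ U₂, v ≠ u → v ∈ U₂ ∩ Cᶜ := by
    intro v hv hne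
    refine ⟨hv, fun hvC => hne ?_⟩
    have : v ∈ O ∩ C := ⟨hU₁O hv.1, hvC⟩
    rw [← hOC] at this
    exact this
  have h1 : IsOpen (Points.ofPt a '' U₂) := isOpenMap_ofPt a hae _ hU₂
  have h2 : IsOpen (Points.ofPt a '' (U₂ ∩ Cᶜ)) := isOpenMap_ofPt a hae _ hU₂'
  refine ⟨_, _, h1, h2.isClosed_compl, ?_⟩
  ext y
  simp only [Set.mem_singleton_iff, Set.mem_inter_iff, Set.mem_compl_iff]
  constructor
  · rintro rfl
    refine ⟨⟨u, ⟨huU₁, huB⟩, rfl⟩, ?_⟩
    rintro ⟨v, ⟨hv, hvC⟩, hvx⟩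
    have := hfib v hv hvx
    subst this
    exact hvC huOC.2
  · rintro ⟨⟨v, hv, rfl⟩, hnot⟩
    by_contra hne
    have hvu : v ≠ u := fun h => hne (by rw [h])
    exact hnot ⟨v, hsub v hv hvu, rfl⟩

/-- A decent algebraic space X over a scheme S is Jacobson if and only if the topological space |X| is
Jacobson. -/
theorem result {S : Scheme.{u}} (X : AlgSp.Space S) (hd : AlgSp.IsDecent X.obj) :
    AlgSp.EtaleLocally (fun U => JacobsonSpace ↥U) X.obj ↔ JacobsonSpace (AlgSp.Points X.obj) := by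
  constructor
  · intro hX
    obtain ⟨U, a, hae, has, hJ⟩ := id hX
    have hJ' : JacobsonSpace ↥U.left := hJ
    rw [jacobsonSpace_iff_locallyClosed]
    intro Z hne hZ
    have hne' : (Points.ofPt a ⁻¹' Z).Nonempty := by
      obtain ⟨z, hz⟩ := hne
      obtain ⟨u, rfl⟩ := ofPt_surjective a has z
      exact ⟨u, hz⟩
    obtain ⟨u, hu1, hu2⟩ := nonempty_inter_closedPoints hne'
      (hZ.preimage (Points.continuous_ofPt a))
    refine ⟨Points.ofPt a u, hu1, ?_⟩
    exact (Groth.Agent.S10403.result X hd hX _).1 ⟨U, a, u, hae, rfl, hu2⟩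
  · intro hJ
    obtain ⟨U, a, hae, has⟩ := X.property.atlas
    refine ⟨U, a, hae, has, ?_⟩
    change JacobsonSpace ↥U.left
    rw [jacobsonSpace_iff_locallyClosed]
    intro Z hne hZ
    obtain ⟨u, huZ, hulc⟩ := exists_isLocallyClosed_singleton Z hne hZ
    refine ⟨u, huZ, ?_⟩
    have hxlc := isLocallyClosed_singleton_ofPt hd a hae u hulc
    have hxcl : IsClosed ({Points.ofPt a u} : Set (Points X.obj)) :=
      isClosed_singleton_of_isLocallyClosed_singleton hxlc
    have hFcl : IsClosed (Points.ofPt a ⁻¹' {Points.ofPt a u}) :=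
      hxcl.preimage (Points.continuous_ofPt a)
    change IsClosed ({u} : Set ↥U.left)
    rw [← closure_eq_iff_isClosed]
    refine Set.Subset.antisymm ?_ subset_closure
    intro v hv
    have hv' : v ∈ Points.ofPt a ⁻¹' {Points.ofPt a u} :=
      hFcl.closure_subset_iff.2 (Set.singleton_subset_iff.2 rfl) hv
    have hs : u ⤳ v := specializes_iff_mem_closure.2 hv
    exact eq_of_specializes_of_isDecent hd a hae v u hv' hs

end Groth.Agent.S10404
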