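import Groth.Statements.S10406
-- import your own Groth.Agent.* helpers here
import Groth.Agent.S10340
import Groth.Agent.S10343
import Groth.Agent.Lib.Helper37.QsSober

set_option autoImplicit false
universe u
open CategoryTheory CategoryTheory.Limits AlgebraicGeometry Topology TopologicalSpace
open AlgSp

namespace Groth.Agent.S10406

open Groth.Agent.Lib.Helper37.AlgSpPoints Groth.Agent.Lib.Helper37.QsSober

/-- Incomparability: no proper specializations inside a fibre of a finite morphism. -/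
theorem eq_of_specializes_of_finite {W V : Scheme.{u}} (i : W ⟶ V) [IsFinite i] (w w' : ↥W)
    (hs : w ⤳ w') (he : i w = i w') : w = w' := by
  have hd := i.isDiscrete_preimage_singleton (i w')
  have hw' : w' ∈ i ⁻¹' {i w'} := rfl
  have hw : w ∈ i ⁻¹' {i w'} := he
  -- the singleton {w'} is open in the discrete fibre
  have hopen : IsOpen ({⟨w', hw'⟩} : Set ↥(i ⁻¹' {i w'})) := by
    have : DiscreteTopology ↥(i ⁻¹' {i w'}) := hd.to_subtype
    exact isOpen_discrete _
  obtain ⟨O, hO, hOe⟩ := isOpen_induced_iff.1 hopen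
  have h1 : w' ∈ O := by
    have : (⟨w', hw'⟩ : ↥(i ⁻¹' {i w'})) ∈ Subtype.val ⁻¹' O := by rw [hOe]; rfl
    exact this
  have h2 : w ∈ O := hs.mem_open hO h1
  have h3 : (⟨w, hw⟩ : ↥(i ⁻¹' {i w'})) ∈ Subtype.val ⁻¹' O := h2
  rw [hOe] at h3
  exact congrArg Subtype.val h3

/-- Going up: specializations lift along closed maps. -/
theorem exists_specializes_lift {W V : Scheme.{u}} (i : W ⟶ V) [IsFinite i] (w : ↥W) (v' : ↥V)
    (hs : i w ⤳ v') : ∃ w' : ↥W, w ⤳ w' ∧ i w' = v' := by
  have hcl : IsClosedMap i := i.isClosedMap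
  have h1 : IsClosed (i '' closure {w}) := hcl _ isClosed_closure
  have h2 : v' ∈ i '' closure {w} := hs.mem_closed h1 ⟨w, subset_closure rfl, rfl⟩
  obtain ⟨w', hw', rfl⟩ := h2
  exact ⟨w', specializes_iff_mem_closure.2 hw', rfl⟩

section

variable {S : Scheme.{u}} {X Y : AlgSp.Space S} (f : Y ⟶ X) (hf : AlgSp.IsFiniteMor f.hom)

include hf

/-- Chart data around a point of `X`. -/
theorem exists_chart_data (x0 : AlgSp.Points X.obj) :
    ∃ (V W : Over S) (a : (yon S).obj V ⟶ X.obj) (i : W ⟶ V) (fst : (yon S).obj W ⟶ Y.obj)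
      (v0 : ↥V.left), RepWith @Etale a ∧ Points.ofPt a v0 = x0 ∧
      IsPullback fst ((yon S).map i) f.hom a ∧ IsFinite i.left ∧ RepWith @Etale fst := by
  obtain ⟨V, a, v0, hV, hae, hv0⟩ := exists_affine_chart X x0
  obtain ⟨W, i, fst, sq, -, hi⟩ := hf hV a
  exact ⟨V, W, a, i, fst, v0, hae, hv0, sq, hi, (RepWith @Etale).of_isPullback sq.flip hae⟩

omit hf in
theorem ofPt_a_i {V W : Over S} {a : (yon S).obj V ⟶ X.obj} {i : W ⟶ V}
    {fst : (yon S).obj W ⟶ Y.obj} (sq : IsPullback fst ((yon S).map i) f.hom a) (w : ↥W.left) :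
    Points.ofPt a (i.left w) = Points.map f.hom (Points.ofPt fst w) := by
  rw [← ofPt_map_comp, ← sq.w, Points.map_ofPt]

omit hf in
/-- Points of the chart of the pullback over a pair of compatible points. -/
theorem exists_point {V W : Over S} {a : (yon S).obj V ⟶ X.obj} {i : W ⟶ V}
    {fst : (yon S).obj W ⟶ Y.obj} (sq : IsPullback fst ((yon S).map i) f.hom a)
    (y : Points Y.obj) (v : ↥V.left) (e : Points.map f.hom y = Points.ofPt a v) :
    ∃ w : ↥W.left, Points.ofPt fst w = y ∧ i.left w = v := by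
  obtain ⟨p, hp1, hp2⟩ := points_exists_of_isPullback sq y (Points.ofScheme V v)
    (by rw [e, Points.ofPt_eq_map_ofScheme])
  refine ⟨Points.toScheme W p, ?_, ?_⟩
  · rw [Points.ofPt_eq_map_ofScheme, Points.ofScheme_toScheme, hp1]
  · have h1 : Points.ofScheme V (i.left (Points.toScheme W p)) = Points.ofScheme V v := by
      rw [← ofPt_yon_map, Points.ofPt_eq_map_ofScheme, Points.ofScheme_toScheme, hp2]
    have := congrArg (Points.toScheme V) h1
    rwa [Points.toScheme_ofScheme, Points.toScheme_ofScheme] at this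

/-- No proper specializations inside a fibre of a finite morphism of decent spaces. -/
theorem eq_of_specializes_fibre (hX : AlgSp.IsDecent X.obj) (hY : AlgSp.IsDecent Y.obj)
    (y z : Points Y.obj) (hs : y ⤳ z) (he : Points.map f.hom y = Points.map f.hom z) : y = z := by
  obtain ⟨V, W, a, i, fst, v0, hae, hv0, sq, hi, hfe⟩ := exists_chart_data f hf (Points.map f.hom z)
  obtain ⟨wz, hwz, hiz⟩ := exists_point f sq z v0 hv0.symm
  obtain ⟨wy, hwys, hwy⟩ := Groth.Agent.S10343.result Y z y hs (hY y) fst hfe wz hwz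
  have h1 : i.left wz = i.left wy := by
    apply Groth.Agent.S10340.result X hX a hae
    · rw [ofPt_a_i f sq, ofPt_a_i f sq, hwz, hwy, he]
    · exact hwys.map i.left.continuous
  have := eq_of_specializes_of_finite i.left wy wz hwys h1.symm
  rw [← hwy, ← hwz, this]

/-- Specializations lift along a surjective finite morphism. -/
theorem exists_lift_specializes (hs : AlgSp.IsSurjectiveMor f.hom) (hX : AlgSp.IsDecent X.obj)
    (x x' : Points X.obj) (h : x ⤳ x') :
    ∃ y y' : Points Y.obj, y ⤳ y' ∧ Points.map f.hom y = x ∧ Points.map f.hom y' = x' := by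
  obtain ⟨V, W, a, i, fst, v', hae, hv', sq, hi, hfe⟩ := exists_chart_data f hf x'
  obtain ⟨v, hvs, hv⟩ := Groth.Agent.S10343.result X x' x h (hX x) a hae v' hv'
  obtain ⟨y0, hy0⟩ := hs x
  obtain ⟨w, hw, hiw⟩ := exists_point f sq y0 v (hy0.trans hv.symm)
  obtain ⟨w', hws, hiw'⟩ := exists_specializes_lift i.left w v' (by rw [hiw]; exact hvs)
  refine ⟨Points.ofPt fst w, Points.ofPt fst w', hws.map (Points.continuous_ofPt fst), ?_, ?_⟩
  · rw [← ofPt_a_i f sq, hiw, hv]
  · rw [← ofPt_a_i f sq, hiw', hv']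

end

/-- Let S be a scheme, Y and X decent, locally Noetherian algebraic spaces over S, and f : Y ⟶ X a
surjective finite morphism, and let δ : |X| → ℤ be a function. Suppose δ ∘ |f| is a dimension
function on |Y| (it decreases strictly along nontrivial specializations and by exactly one along
immediate specializations). Then δ is a dimension function on |X|. -/
theorem result {S : Scheme.{u}} {X Y : AlgSp.Space S} (f : Y ⟶ X)
    (hf : AlgSp.IsFiniteMor f.hom) (hs : AlgSp.IsSurjectiveMor f.hom) (hX : AlgSp.IsDecent X.obj)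
    (hY : AlgSp.IsDecent Y.obj) (hXN : AlgSp.IsLocNoethSp X.obj) (hYN : AlgSp.IsLocNoethSp Y.obj)
    (δ : AlgSp.Points X.obj → ℤ)
    (hδ : (∀ a b : AlgSp.Points Y.obj, a ⤳ b → a ≠ b → (δ ∘ AlgSp.Points.map f.hom) b < (δ ∘ AlgSp.Points.map f.hom) a ∧ ((∀ c : AlgSp.Points Y.obj, a ⤳ c → c ⤳ b → c = a ∨ c = b) → (δ ∘ AlgSp.Points.map f.hom) a = (δ ∘ AlgSp.Points.map f.hom) b + 1))) :
    (∀ a b : AlgSp.Points X.obj, a ⤳ b → a ≠ b → δ b < δ a ∧ ((∀ c : AlgSp.Points X.obj, a ⤳ c → c ⤳ b → c = a ∨ c = b) → δ a = δ b + 1)) := by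
  intro x x' hxx' hne
  obtain ⟨y, y', hyy', hy, hy'⟩ := exists_lift_specializes f hf hs hX x x' hxx'
  have hne' : y ≠ y' := by
    rintro rfl
    exact hne (hy.symm.trans hy')
  obtain ⟨h1, h2⟩ := hδ y y' hyy' hne'
  simp only [Function.comp_apply, hy, hy'] at h1 h2
  refine ⟨h1, fun himm => h2 ?_⟩
  intro z hz1 hz2
  have hz1' : x ⤳ Points.map f.hom z := by
    rw [← hy]; exact hz1.map (Points.continuous_map f.hom)
  have hz2' : Points.map f.hom z ⤳ x' := by
    rw [← hy']; exact hz2.map (Points.continuous_map f.hom)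
  rcases himm _ hz1' hz2' with e | e
  · left
    exact (eq_of_specializes_fibre f hf hX hY y z hz1 (hy.trans e.symm)).symm
  · right
    exact eq_of_specializes_fibre f hf hX hY z y' hz2 (e.trans hy'.symm)

end Groth.Agent.S10406
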