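import Groth.Statements.S9995
-- import your own Groth.Agent.* helpers here
import Groth.Agent.S10313
import Groth.Agent.Lib.Helper23.AlgSpMor6

set_option autoImplicit false
universe u
open CategoryTheory CategoryTheory.Limits AlgebraicGeometry
open AlgSp

namespace Groth.Agent.S9995

open Groth.Agent.Lib.Helper36.AlgSpCharts Groth.Agent.Lib.Helper36.AlgSpChartDiag
  Groth.Agent.Lib.Helper36.QuasiFiniteAt
  Groth.Agent.Lib.Helper37.AlgSpPoints
  Groth.Agent.Lib.Helper36.QFLocus Groth.Agent.Lib.Helper23.AlgSpMor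

/-- For a morphism of finite type and a point `y` of the target there is a chart diagram with
finite type top arrow whose source covers all points over `y` lying over one point `v`. -/
theorem exists_finiteType_chart {S : Scheme.{u}} {X Y : AlgSp.Space S} (f : X ⟶ Y)
    (hf : AlgSp.IsFiniteTypeMor f.hom) (y : AlgSp.Points Y.obj) :
    ∃ (T V : Over S) (a : (yon S).obj T ⟶ X.obj) (bV : (yon S).obj V ⟶ Y.obj) (h : T ⟶ V)
      (v : ↥V.left), RepWith @Etale a ∧ RepWith @Etale bV ∧ a ≫ f.hom = (yon S).map h ≫ bV ∧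
      LocallyOfFiniteType h.left ∧ QuasiCompact h.left ∧ Points.ofPt bV v = y ∧
      ∀ x : Points X.obj, Points.map f.hom x = y → ∃ u : ↥T.left, h.left u = v ∧ Points.ofPt a u = x := by
  obtain ⟨hlft, hqc⟩ := hf
  obtain ⟨V₀, bV₀, hbe₀, hbs₀⟩ := Y.property.atlas
  obtain ⟨v₀, hv₀⟩ := ofPt_surjective bV₀ hbs₀ y
  obtain ⟨O, hO, hvO, -⟩ := exists_isAffineOpen_mem_and_subset (X := V₀.left) (x := v₀) (U := ⊤) trivial
  have hVaff : IsAffine (overOpens V₀ O).left := hO
  set bV : (yon S).obj (overOpens V₀ O) ⟶ Y.obj := (yon S).map (overOpensι V₀ O) ≫ bV₀ with hbV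
  have hbe : RepWith @Etale bV := (RepWith @Etale).comp_mem _ _ (repWith_etale_overOpensι V₀ O) hbe₀
  have hPqc : IsQuasiCompactSp (pullback f.hom bV) :=
    hqc (IsAlgSpace.yon_obj _) (isQuasiCompactSp_yon_of_isAffine (overOpens V₀ O))
      bV (pullback.fst f.hom bV) (pullback.snd f.hom bV) (IsPullback.of_hasPullback _ _)
  obtain ⟨T, t, hT, hte, hts⟩ := exists_affine_chart_of_isQuasiCompactSp hPqc
  obtain ⟨h, hh⟩ := (yon S).map_surjective (t ≫ pullback.snd f.hom bV)
  have hfst : RepWith @Etale (pullback.fst f.hom bV) :=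
    MorphismProperty.pullback_fst (P := RepWith @Etale) f.hom bV hbe
  have hae : RepWith @Etale (t ≫ pullback.fst f.hom bV) := (RepWith @Etale).comp_mem _ _ hte hfst
  have weq : (t ≫ pullback.fst f.hom bV) ≫ f.hom = (yon S).map h ≫ bV := by
    rw [hh, Category.assoc, Category.assoc, pullback.condition]
  have h1 : LocallyOfFiniteType h.left := hlft _ bV h hae hbe weq
  have h2 : QuasiCompact h.left := by
    have : IsAffine T.left := hT
    have : IsAffineHom h.left := isAffineHom_of_isAffine _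
    infer_instance
  refine ⟨T, overOpens V₀ O, _, bV, h, ⟨v₀, hvO⟩, hae, hbe, weq, h1, h2, ?_, ?_⟩
  · rw [hbV, ofPt_overOpensι_comp]
    exact hv₀
  · intro x hx
    have e : Points.map f.hom x = Points.map bV (Points.ofScheme _ (⟨v₀, hvO⟩ : ↥(overOpens V₀ O).left)) := by
      rw [hx, Points.map_ofPt, Category.id_comp, hbV, ofPt_overOpensι_comp]
      exact hv₀.symm
    obtain ⟨p, hp1, hp2⟩ := points_exists_of_isPullback (IsPullback.of_hasPullback f.hom bV) x _ e
    obtain ⟨u, rfl⟩ := ofPt_surjective t hts p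
    refine ⟨u, ?_, ?_⟩
    · rw [Points.map_ofPt, ← hh] at hp2
      have := congrArg (Points.toScheme _) hp2
      rwa [Points.toScheme_ofPt, Points.toScheme_ofScheme] at this
    · rw [← Points.map_ofPt]
      exact hp1

/-- For a morphism f : X ⟶ Y of algebraic spaces of finite type and a point y of |Y|, the set of points
of |X| over y where f is quasi-finite is finite (in the neighbourhood sense, through some chart
diagram). -/
theorem result {S : Scheme.{u}} {X Y : AlgSp.Space S} (f : X ⟶ Y)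
    (hf : AlgSp.IsFiniteTypeMor f.hom) (y : AlgSp.Points Y.obj) :
    {x : AlgSp.Points X.obj | AlgSp.Points.map f.hom x = y ∧
      AlgSp.HasAtMor (fun U _ h u => ∃ W : U.Opens, u ∈ W ∧ LocallyQuasiFinite (W.ι ≫ h) ∧
        LocallyOfFiniteType (W.ι ≫ h)) f.hom x}.Finite := by
  obtain ⟨T, V, a, bV, h, v, hae, hbe, weq, h1, h2, hv, hcov⟩ := exists_finiteType_chart f hf y
  have hfin := finite_quasiFiniteAt_fiber h.left v
  refine (hfin.image (Points.ofPt a)).subset ?_
  rintro x ⟨hx, hq⟩
  obtain ⟨u, hu, rfl⟩ := hcov x hx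
  rw [Groth.Agent.S10313.hasAtMor_lqf_iff_mem_qfLocus f hf.1,
    mem_qfLocus_iff_of_chart f hf.1 a bV h hae hbe weq u] at hq
  exact ⟨u, ⟨hu, hq⟩, rfl⟩

end Groth.Agent.S9995
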