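import Groth.Statements.S10417
-- import your own Groth.Agent.* helpers here
import Groth.Agent.S9995
import Groth.Agent.Lib.Helper37.ValuativeClosed

set_option autoImplicit false
universe u
open CategoryTheory CategoryTheory.Limits AlgebraicGeometry Topology TopologicalSpace
open AlgSp

namespace Groth.Agent.S10417

open Groth.Agent.Lib.Helper36.QFLocus

/-- Let W = X ×_Y Z be a fibre product of algebraic spaces over a scheme S with projections p, q and let
x ∈ |X|, z ∈ |Z| lie over the same point of |Y|. If f : X ⟶ Y is of finite type and quasi-finite at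
x, then the set of points of |W| mapping to x and to z is finite. -/
theorem result {S : Scheme.{u}} {X Y Z W : AlgSp.Space S} (f : X ⟶ Y)
    (g : Z ⟶ Y) (p : W ⟶ X) (q : W ⟶ Z) (hW : IsPullback p.hom q.hom f.hom g.hom) (x : AlgSp.Points X.obj)
    (z : AlgSp.Points Z.obj) (hxz : AlgSp.Points.map f.hom x = AlgSp.Points.map g.hom z)
    (hft : AlgSp.IsFiniteTypeMor f.hom) (hf : AlgSp.HasAtMor (fun U _ h u => ∃ W : U.Opens, u ∈ W ∧ LocallyQuasiFinite (W.ι ≫ h) ∧ LocallyOfFiniteType (W.ι ≫ h)) f.hom x) :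
    {w : AlgSp.Points W.obj | AlgSp.Points.map p.hom w = x ∧ AlgSp.Points.map q.hom w = z}.Finite := by
  have hq1 : LocP @LocallyOfFiniteType q.hom :=
    Groth.Agent.Lib.Helper46.LocPChart.locP_of_isPullback
      Groth.Agent.Lib.Helper30.EtLocalInst.etLocal_lft
      X.property Y.property W.property Z.property hW hft.1
  have hq2 : IsQuasiCompactMor q.hom :=
    Groth.Agent.Lib.Helper37.ValuativeClosed.isQuasiCompactMor_of_isPullback hW hft.2
  refine (Groth.Agent.S9995.result q ⟨hq1, hq2⟩ z).subset ?_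
  rintro w ⟨hw1, hw2⟩
  refine ⟨hw2, ?_⟩
  rw [Groth.Agent.S10313.hasAtMor_lqf_iff_mem_qfLocus q hq1,
    Groth.Agent.S10313.mem_qfLocus_iff_of_isPullback f hft.1 g p q hW hq1 w, hw1,
    ← Groth.Agent.S10313.hasAtMor_lqf_iff_mem_qfLocus f hft.1]
  exact hf

end Groth.Agent.S10417
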