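import Groth.Statements.S10420
import Groth.Agent.S10261
import Groth.Agent.Lib.Helper37.AlgSpFibres
import Groth.Agent.Lib.Helper37.AlgSpPoints

set_option autoImplicit false
universe u
open CategoryTheory CategoryTheory.Limits AlgebraicGeometry Topology TopologicalSpace
open AlgSp

namespace Groth.Agent.S10420

open Groth.Agent.Lib.Helper37.AlgSpPoints Groth.Agent.Lib.Helper37.AlgSpFibres

/-- The residue field map in `Over S` attached to a morphism and a point. -/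
theorem exists_resMap {S : Scheme.{u}} {A B : Over S} (g : A ⟶ B) (a : ↥A.left) (b : ↥B.left)
    (hab : g.left a = b) :
    ∃ ρ : Over.mk (A.left.fromSpecResidueField a ≫ A.hom) ⟶
        Over.mk (B.left.fromSpecResidueField b ≫ B.hom), resPt a ≫ g = ρ ≫ resPt b := by
  subst hab
  refine ⟨Over.homMk (Spec.map (g.left.residueFieldMap a)) ?_, ?_⟩
  · change Spec.map (g.left.residueFieldMap a) ≫ (B.left.fromSpecResidueField (g.left a) ≫ B.hom) =
      A.left.fromSpecResidueField a ≫ A.hom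
    rw [← Category.assoc, Scheme.Hom.SpecMap_residueFieldMap_fromSpecResidueField, Category.assoc,
      Over.w g]
  · ext1
    change A.left.fromSpecResidueField a ≫ g.left =
      Spec.map (g.left.residueFieldMap a) ≫ B.left.fromSpecResidueField (g.left a)
    rw [Scheme.Hom.SpecMap_residueFieldMap_fromSpecResidueField]

/-- Monomorphic field points pull back along a jointly monic pair of maps. -/
theorem mono_toHom_ofPt_of_jointly_monic {S : Scheme.{u}} {X : Sp S} {A B₁ B₂ : Over S}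
    (g₁ : A ⟶ B₁) (g₂ : A ⟶ B₂) (φ₁ : (yon S).obj B₁ ⟶ X) (φ₂ : (yon S).obj B₂ ⟶ X)
    (hφ : (yon S).map g₁ ≫ φ₁ = (yon S).map g₂ ≫ φ₂)
    (hjm : ∀ (T : Over S) (α β : T ⟶ A), α ≫ g₁ = β ≫ g₁ → α ≫ g₂ = β ≫ g₂ → α = β)
    (a : ↥A.left) (b₁ : ↥B₁.left) (b₂ : ↥B₂.left) (h₁ : g₁.left a = b₁) (h₂ : g₂.left a = b₂)
    (hm₁ : Mono (FieldPt.ofPt φ₁ b₁).toHom) (hm₂ : Mono (FieldPt.ofPt φ₂ b₂).toHom) :
    Mono (FieldPt.ofPt ((yon S).map g₁ ≫ φ₁) a).toHom := by
  obtain ⟨ρ₁, hρ₁⟩ := exists_resMap g₁ a b₁ h₁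
  obtain ⟨ρ₂, hρ₂⟩ := exists_resMap g₂ a b₂ h₂
  have hm₁' : Mono ((yon S).map (resPt b₁) ≫ φ₁) := by
    have := hm₁; rw [FieldPt.toHom_ofPt] at this; exact this
  have hm₂' : Mono ((yon S).map (resPt b₂) ≫ φ₂) := by
    have := hm₂; rw [FieldPt.toHom_ofPt] at this; exact this
  suffices main : Mono ((yon S).map (resPt a) ≫ (yon S).map g₁ ≫ φ₁) by
    rw [FieldPt.toHom_ofPt]; exact main
  apply Groth.Agent.S10261.mono_of_yon_cancel
  intro T p q hpq
  obtain ⟨α, rfl⟩ := (yon S).map_surjective p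
  obtain ⟨β, rfl⟩ := (yon S).map_surjective q
  congr 1
  have key₁ : ∀ γ : T ⟶ Over.mk (A.left.fromSpecResidueField a ≫ A.hom),
      (yon S).map (γ ≫ ρ₁) ≫ ((yon S).map (resPt b₁) ≫ φ₁) =
        (yon S).map γ ≫ ((yon S).map (resPt a) ≫ (yon S).map g₁ ≫ φ₁) := by
    intro γ
    rw [← Category.assoc, ← Functor.map_comp, Category.assoc, ← hρ₁, Functor.map_comp,
      Functor.map_comp, Category.assoc, Category.assoc]
  have key₂ : ∀ γ : T ⟶ Over.mk (A.left.fromSpecResidueField a ≫ A.hom),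
      (yon S).map (γ ≫ ρ₂) ≫ ((yon S).map (resPt b₂) ≫ φ₂) =
        (yon S).map γ ≫ ((yon S).map (resPt a) ≫ (yon S).map g₁ ≫ φ₁) := by
    intro γ
    rw [← Category.assoc, ← Functor.map_comp, Category.assoc, ← hρ₂, Functor.map_comp,
      Functor.map_comp, Category.assoc, Category.assoc, hφ]
  have e₁ : α ≫ ρ₁ = β ≫ ρ₁ := by
    apply (yon S).map_injective
    apply hm₁'.right_cancellation
    rw [key₁, key₁]
    exact hpq
  have e₂ : α ≫ ρ₂ = β ≫ ρ₂ := by
    apply (yon S).map_injective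
    apply hm₂'.right_cancellation
    rw [key₂, key₂]
    exact hpq
  have k₁ : (α ≫ resPt a) ≫ g₁ = (β ≫ resPt a) ≫ g₁ := by
    rw [Category.assoc, Category.assoc, hρ₁, ← Category.assoc, ← Category.assoc, e₁]
  have k₂ : (α ≫ resPt a) ≫ g₂ = (β ≫ resPt a) ≫ g₂ := by
    rw [Category.assoc, Category.assoc, hρ₂, ← Category.assoc, ← Category.assoc, e₂]
  have := hjm T _ _ k₁ k₂
  exact (cancel_mono (resPt a)).1 this

/-- For a decent algebraic space X over a scheme S and x ∈ |X|, the category of elementary etale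
neighbourhoods (U, u) ⟶ (X, x) is cofiltered: two objects are dominated by a third and two parallel
morphisms are equalized from some object (it is nonempty by the existence of elementary etale
neighbourhoods). -/
theorem result {S : Scheme.{u}} (X : AlgSp.Space S) (hX : AlgSp.IsDecent X.obj)
    (x : AlgSp.Points X.obj) :
    (∀ (U₁ U₂ : Over S) (a₁ : (AlgSp.yon S).obj U₁ ⟶ X.obj) (a₂ : (AlgSp.yon S).obj U₂ ⟶ X.obj) (u₁ : ↥U₁.left)
        (u₂ : ↥U₂.left), AlgSp.IsElemEtaleNbhd a₁ u₁ x → AlgSp.IsElemEtaleNbhd a₂ u₂ x →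
        ∃ (U : Over S) (a : (AlgSp.yon S).obj U ⟶ X.obj) (v : ↥U.left) (h₁ : U ⟶ U₁) (h₂ : U ⟶ U₂),
          AlgSp.IsElemEtaleNbhd a v x ∧ (AlgSp.yon S).map h₁ ≫ a₁ = a ∧ (AlgSp.yon S).map h₂ ≫ a₂ = a ∧
            h₁.left v = u₁ ∧ h₂.left v = u₂) ∧
      (∀ (U₁ U₂ : Over S) (a₁ : (AlgSp.yon S).obj U₁ ⟶ X.obj) (a₂ : (AlgSp.yon S).obj U₂ ⟶ X.obj) (u₁ : ↥U₁.left)
        (u₂ : ↥U₂.left) (b c : U₁ ⟶ U₂), AlgSp.IsElemEtaleNbhd a₁ u₁ x → AlgSp.IsElemEtaleNbhd a₂ u₂ x →
        (AlgSp.yon S).map b ≫ a₂ = a₁ → (AlgSp.yon S).map c ≫ a₂ = a₁ → b.left u₁ = u₂ → c.left u₁ = u₂ →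
        ∃ (U : Over S) (a : (AlgSp.yon S).obj U ⟶ X.obj) (v : ↥U.left) (h : U ⟶ U₁),
          AlgSp.IsElemEtaleNbhd a v x ∧ (AlgSp.yon S).map h ≫ a₁ = a ∧ h.left v = u₁ ∧ h ≫ b = h ≫ c) := by

  refine ⟨?_, ?_⟩
  · intro U₁ U₂ a₁ a₂ u₁ u₂ h₁ h₂
    have sq := h₁.etale.rep.isPullback' a₂
    set E := h₁.etale.rep.pullback a₂
    set f₁ := h₁.etale.rep.fst' a₂
    set f₂ := h₁.etale.rep.snd a₂
    obtain ⟨v, hv₁, hv₂⟩ := (ofPt_eq_ofPt_iff sq u₁ u₂).1 (h₁.ofPt_eq.trans h₂.ofPt_eq.symm)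
    refine ⟨E, (yon S).map f₁ ≫ a₁, v, f₁, f₂, ⟨?_, ?_, ?_⟩, rfl, sq.w.symm, hv₁, hv₂⟩
    · exact (RepWith @Etale).comp_mem _ _ ((RepWith @Etale).of_isPullback sq.flip h₂.etale)
        h₁.etale
    · rw [ofPt_map_comp, hv₁]; exact h₁.ofPt_eq
    · refine mono_toHom_ofPt_of_jointly_monic f₁ f₂ a₁ a₂ sq.w ?_ v u₁ u₂ hv₁ hv₂ h₁.mono h₂.mono
      intro T α β e₁ e₂
      apply (yon S).map_injective
      apply sq.hom_ext
      · rw [← Functor.map_comp, ← Functor.map_comp, e₁]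
      · rw [← Functor.map_comp, ← Functor.map_comp, e₂]
  · intro U₁ U₂ a₁ a₂ u₁ u₂ b c h₁ h₂ hb hc hbu hcu
    have sq := h₂.etale.rep.isPullback' a₂
    set E := h₂.etale.rep.pullback a₂
    set p₁ := h₂.etale.rep.fst' a₂
    set p₂ := h₂.etale.rep.snd a₂
    obtain ⟨δ', hδ1, hδ2⟩ := sq.exists_lift (𝟙 _) (𝟙 _) rfl
    obtain ⟨δ, rfl⟩ := (yon S).map_surjective δ'
    have hδ1' : δ ≫ p₁ = 𝟙 _ := (yon S).map_injective (by simpa using hδ1)
    have hδ2' : δ ≫ p₂ = 𝟙 _ := (yon S).map_injective (by simpa using hδ2)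
    obtain ⟨w', hw1, hw2⟩ := sq.exists_lift ((yon S).map b) ((yon S).map c) (by rw [hb, hc])
    obtain ⟨w, rfl⟩ := (yon S).map_surjective w'
    have hw1' : w ≫ p₁ = b := (yon S).map_injective (by simpa using hw1)
    have hw2' : w ≫ p₂ = c := (yon S).map_injective (by simpa using hw2)
    haveI hp₂e : Etale p₂.left := h₂.etale.property_snd a₂
    have hδp : δ.left ≫ p₂.left = 𝟙 _ := by rw [← Over.comp_left, hδ2']; rfl
    haveI hδe : Etale δ.left := by
      haveI : Etale (δ.left ≫ p₂.left) := by rw [hδp]; infer_instance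
      exact Etale.of_comp δ.left p₂.left
    haveI : Mono δ.left := mono_of_mono_fac hδp
    haveI : IsOpenImmersion δ.left := IsOpenImmersion.of_flat_of_mono δ.left
    let O : U₁.left.Opens := w.left ⁻¹ᵁ δ.left.opensRange
    have hu₁O : u₁ ∈ O := by
      change w.left u₁ ∈ Set.range δ.left
      set e := w.left u₁ with he
      have he₁ : p₁.left e = u₂ := by
        rw [he, ← Scheme.Hom.comp_apply, ← Over.comp_left, hw1']; exact hbu
      have he₂ : p₂.left e = u₂ := by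
        rw [he, ← Scheme.Hom.comp_apply, ← Over.comp_left, hw2']; exact hcu
      obtain ⟨ρ₁, hρ₁⟩ := exists_resMap p₁ e u₂ he₁
      obtain ⟨ρ₂, hρ₂⟩ := exists_resMap p₂ e u₂ he₂
      have hm₂' : Mono ((yon S).map (resPt u₂) ≫ a₂) := by
        have := h₂.mono; rw [FieldPt.toHom_ofPt] at this; exact this
      have hρ : ρ₁ = ρ₂ := by
        apply (yon S).map_injective
        apply hm₂'.right_cancellation
        rw [← Category.assoc, ← Functor.map_comp, ← hρ₁, ← Category.assoc, ← Functor.map_comp,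
          ← hρ₂, Functor.map_comp, Functor.map_comp, Category.assoc, Category.assoc, sq.w]
      have ht : resPt e ≫ p₁ = resPt e ≫ p₂ := by rw [hρ₁, hρ₂, hρ]
      have hfac : resPt e = (resPt e ≫ p₁) ≫ δ := by
        apply (yon S).map_injective
        apply sq.hom_ext
        · rw [← Functor.map_comp, ← Functor.map_comp, Category.assoc, hδ1', Category.comp_id]
        · rw [← Functor.map_comp, ← Functor.map_comp, Category.assoc, hδ2', Category.comp_id, ht]
      let s : ↥(Spec (E.left.residueField e)) := IsLocalRing.closedPoint _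
      have h0 : (resPt e).left s = e := Scheme.fromSpecResidueField_apply e s
      rw [hfac, Over.comp_left, Scheme.Hom.comp_apply] at h0
      exact ⟨_, h0⟩
    have hrange : Set.range (openι U₁ O ≫ w).left ⊆ Set.range δ.left := by
      rintro _ ⟨z, rfl⟩
      exact z.2
    let l := IsOpenImmersion.lift δ.left (openι U₁ O ≫ w).left hrange
    have hl : l ≫ δ.left = (openι U₁ O ≫ w).left := IsOpenImmersion.lift_fac _ _ _
    have hδp₁ : δ.left ≫ p₁.left = 𝟙 _ := by rw [← Over.comp_left, hδ1']; rfl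
    have hbc : openι U₁ O ≫ b = openι U₁ O ≫ c := by
      ext1
      have e1 : (openι U₁ O ≫ b).left = (openι U₁ O ≫ w).left ≫ p₁.left := by
        rw [← Over.comp_left, Category.assoc, hw1']
      have e2 : (openι U₁ O ≫ c).left = (openι U₁ O ≫ w).left ≫ p₂.left := by
        rw [← Over.comp_left, Category.assoc, hw2']
      rw [e1, e2, ← hl, Category.assoc, Category.assoc, hδp₁, hδp]
    haveI : Mono (openι U₁ O) := by
      have : Mono (openι U₁ O).left := by
        change Mono O.ι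
        infer_instance
      exact Over.mono_of_mono_left _
    refine ⟨openOver U₁ O, (yon S).map (openι U₁ O) ≫ a₁, ⟨u₁, hu₁O⟩, openι U₁ O, ⟨?_, ?_, ?_⟩, rfl,
      rfl, hbc⟩
    · exact repWith_etale_restrict a₁ h₁.etale O
    · rw [ofPt_restrict]; exact h₁.ofPt_eq
    · refine mono_toHom_ofPt_of_jointly_monic (openι U₁ O) (openι U₁ O) a₁ a₁ rfl ?_ ⟨u₁, hu₁O⟩ u₁ u₁
        rfl rfl h₁.mono h₁.mono
      intro T α β e _
      exact (cancel_mono _).1 e

end Groth.Agent.S10420
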