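import Groth.Statements.S10422
import Mathlib.RingTheory.TensorProduct.Nontrivial
import Mathlib.LinearAlgebra.Matrix.Rank
import Mathlib.RingTheory.Ideal.Quotient.Operations
import Mathlib.RingTheory.Spectrum.Prime.RingHom

set_option autoImplicit false
universe u
open Topology TopologicalSpace TensorProduct
open AlgSp

namespace Groth.Agent.S10422

theorem exists_common_field (k : Type u) [Field k] (K : ℕ → Type u) [∀ n, Field (K n)]
    [∀ n, Algebra k (K n)] (N : ℕ) :
    ∃ (Ω : Type u) (_ : Field Ω) (_ : Algebra k Ω), ∀ n < N, Nonempty (K n →ₐ[k] Ω) := by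
  induction N with
  | zero => exact ⟨k, inferInstance, inferInstance, fun n hn => absurd hn (Nat.not_lt_zero n)⟩
  | succ N ih =>
    obtain ⟨Ω, hΩ, hkΩ, hσ⟩ := ih
    have hnt : Nontrivial (Ω ⊗[k] K N) :=
      Algebra.TensorProduct.nontrivial_of_algebraMap_injective_of_isDomain k Ω (K N)
        (algebraMap k Ω).injective (algebraMap k (K N)).injective
    obtain ⟨m, hm⟩ := Ideal.exists_maximal (Ω ⊗[k] K N)
    let hF : Field ((Ω ⊗[k] K N) ⧸ m) := Ideal.Quotient.field m
    refine ⟨(Ω ⊗[k] K N) ⧸ m, hF, inferInstance, ?_⟩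
    intro n hn
    rcases Nat.lt_succ_iff_lt_or_eq.mp hn with h | h
    · obtain ⟨σ⟩ := hσ n h
      exact ⟨((Ideal.Quotient.mkₐ k m).comp Algebra.TensorProduct.includeLeft).comp σ⟩
    · subst h
      exact ⟨(Ideal.Quotient.mkₐ k m).comp Algebra.TensorProduct.includeRight⟩

theorem core (A : Type u) [CommRing A] (k : Type u) [Field k]
    (K : ℕ → Type u) [∀ n, Field (K n)]
    [∀ n, Algebra A (K n)] [∀ n, Algebra k (K n)]
    (φ : ∀ n m : ℕ, A ⊗[ℤ] A →+* K n ⊗[k] K m)
    (hφ : ∀ n m a b, φ n m (a ⊗ₜ b) = algebraMap A (K n) a ⊗ₜ algebraMap A (K m) b)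
    (j : A ⊗[ℤ] A)
    (hj1 : Algebra.TensorProduct.lmul' (S := A) ℤ j = 1)
    (hj : ∀ n m : ℕ, n ≠ m → ∀ Q : PrimeSpectrum (K n ⊗[k] K m), φ n m j ∈ Q.asIdeal) : False := by
  classical
  obtain ⟨S, hS⟩ := TensorProduct.exists_finset j
  obtain ⟨Ω, hΩ, hkΩ, hσ⟩ := exists_common_field k K (S.card + 1)
  let σ : ∀ n : Fin (S.card + 1), (K n →ₐ[k] Ω) := fun n => (hσ n n.2).some
  let M : Matrix (Fin (S.card + 1)) S Ω := fun n t => σ n (algebraMap A (K n) t.1.1)
  let Nm : Matrix S (Fin (S.card + 1)) Ω := fun t m => σ m (algebraMap A (K m) t.1.2)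
  have hprod : M * Nm = 1 := by
    ext n m
    rw [Matrix.mul_apply]
    let ψ : K n ⊗[k] K m →ₐ[k] Ω := Algebra.TensorProduct.productMap (σ n) (σ m)
    have hψ : ψ (φ n m j) = ∑ t : S, M n t * Nm t m := by
      rw [hS, map_sum, map_sum, ← Finset.sum_coe_sort S]
      apply Finset.sum_congr rfl
      intro t _
      rw [hφ]
      simp [ψ, M, Nm]
    rw [← hψ]
    by_cases hnm : n = m
    · subst hnm
      rw [Matrix.one_apply_eq]
      have h2 : ψ (φ n n j) = σ n (algebraMap A (K n)
          (Algebra.TensorProduct.lmul' (S := A) ℤ j)) := by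
        rw [hS, map_sum, map_sum, map_sum, map_sum, map_sum]
        apply Finset.sum_congr rfl
        intro t _
        rw [hφ]
        simp [ψ]
      rw [h2, hj1, map_one, map_one]
    · rw [Matrix.one_apply_ne hnm]
      have hker : (RingHom.ker ψ.toRingHom).IsPrime := RingHom.ker_isPrime _
      have hne : (n : ℕ) ≠ (m : ℕ) := fun h => hnm (Fin.ext h)
      exact hj n m hne ⟨RingHom.ker ψ.toRingHom, hker⟩
  have h1 : (M * Nm).rank ≤ M.rank := Matrix.rank_mul_le_left M Nm
  have h2 : M.rank ≤ Fintype.card S := Matrix.rank_le_card_width M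
  rw [hprod, Matrix.rank_one, Fintype.card_fin] at h1
  rw [Fintype.card_coe] at h2
  omega

/-- Let A be a ring, k a field, (p_n) a sequence of primes of A which are pairwise distinct, and k →
κ(p_n) field embeddings. Then the closure in Spec(A ⊗ A) of the image of ∐_{n ≠ m} Spec(κ(p_n) ⊗_k
κ(p_m)) meets the diagonal. Here κ(p_n) is any A-algebra K_n which is a field whose structure map
has kernel p_n and whose elements are quotients of images of elements of A. -/
theorem result (A : Type u) [CommRing A] (k : Type u) [Field k]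
    (p : ℕ → PrimeSpectrum A) (hp : Function.Injective p) (K : ℕ → Type u) [∀ n, Field (K n)]
    [∀ n, Algebra A (K n)] [∀ n, Algebra k (K n)]
    (hker : ∀ n, RingHom.ker (algebraMap A (K n)) = (p n).asIdeal)
    (hfrac : ∀ n (x : K n), ∃ a b : A, algebraMap A (K n) b ≠ 0 ∧ x * algebraMap A (K n) b = algebraMap A (K n) a) :
    (closure (⋃ (n : ℕ) (m : ℕ) (_ : n ≠ m),
        Set.range (PrimeSpectrum.comap
          (Algebra.TensorProduct.lift
            ((Algebra.TensorProduct.includeLeft (R := k) (S := ℤ) (A := K n) (B := K m)).toRingHom.toIntAlgHom.comp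
              (Algebra.ofId A (K n)).toRingHom.toIntAlgHom)
            ((Algebra.TensorProduct.includeRight (R := k) (A := K n) (B := K m)).toRingHom.toIntAlgHom.comp
              (Algebra.ofId A (K m)).toRingHom.toIntAlgHom)
            (fun _ _ => Commute.all _ _)).toRingHom)) ∩
      Set.range (PrimeSpectrum.comap (Algebra.TensorProduct.lmul' (S := A) ℤ).toRingHom)).Nonempty := by
  by_contra hempty
  rw [Set.not_nonempty_iff_eq_empty] at hempty
  have hsurj : Function.Surjective (Algebra.TensorProduct.lmul' (S := A) ℤ).toRingHom := by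
    intro a
    exact ⟨a ⊗ₜ 1, by simp⟩
  rw [← PrimeSpectrum.zeroLocus_vanishingIdeal_eq_closure,
    range_comap_of_surjective _ _ hsurj, ← PrimeSpectrum.zeroLocus_sup,
    PrimeSpectrum.zeroLocus_empty_iff_eq_top] at hempty
  have h1 : (1 : A ⊗[ℤ] A) ∈ (⊤ : Ideal (A ⊗[ℤ] A)) := Submodule.mem_top
  rw [← hempty] at h1
  obtain ⟨j, hj, i, hi, hji⟩ := Submodule.mem_sup.mp h1
  rw [PrimeSpectrum.mem_vanishingIdeal] at hj
  rw [RingHom.mem_ker] at hi
  refine core A k K (fun n m => (Algebra.TensorProduct.lift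
            ((Algebra.TensorProduct.includeLeft (R := k) (S := ℤ) (A := K n) (B := K m)).toRingHom.toIntAlgHom.comp
              (Algebra.ofId A (K n)).toRingHom.toIntAlgHom)
            ((Algebra.TensorProduct.includeRight (R := k) (A := K n) (B := K m)).toRingHom.toIntAlgHom.comp
              (Algebra.ofId A (K m)).toRingHom.toIntAlgHom)
            (fun _ _ => Commute.all _ _)).toRingHom) ?_ j ?_ ?_
  · intro n m a b
    simp [Algebra.ofId_apply]
  · have h2 : (Algebra.TensorProduct.lmul' (S := A) ℤ).toRingHom (j + i) = 1 := by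
      rw [hji, map_one]
    rw [map_add, hi, add_zero] at h2
    exact h2
  · intro n m hnm Q
    have := hj (PrimeSpectrum.comap _ Q) (by
      simp only [Set.mem_iUnion]
      exact ⟨n, m, hnm, Q, rfl⟩)
    exact this

end Groth.Agent.S10422
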