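import Groth.Statements.S10436
-- import your own Groth.Agent.* helpers here
import Groth.Agent.S10435
import Groth.Agent.Lib.Helper23.AlgSpTopo
import Groth.Agent.Lib.Helper23.ProperClosed2

set_option autoImplicit false
universe u
open CategoryTheory CategoryTheory.Limits AlgebraicGeometry Topology TopologicalSpace
open AlgSp

namespace Groth.Agent.S10436

open Groth.Agent.Lib.Helper37.AlgSpPoints Groth.Agent.Lib.Helper37.AlgSpFibres
  Groth.Agent.Lib.Helper37.QsSober Groth.Agent.Lib.Helper30.DecentSober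
  Groth.Agent.Lib.Helper30.LocPNbhd Groth.Agent.Lib.Helper36.AlgSpCharts
  Groth.Agent.Lib.Helper36.BiratPts Groth.Agent.Lib.Helper93.Birat
  Groth.Agent.Lib.Helper36.DisjOpenGlue Groth.Agent.Lib.Helper5
  Groth.Agent.Lib.Helper23.AlgSpMor Groth.Agent.Lib.Helper37.DisjCover
  Groth.Agent.Lib.Helper5.LargestOpenSp

variable {S : Scheme.{u}}

/-- final step: if `f⁻¹(V') ⊆ U` on points then `f⁻¹(V') ⟶ V'` is an isomorphism -/
theorem isIso_snd_of_preimage_subset {X Y : Space S} (f : X ⟶ Y) {U V : Over S}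
    (a : (yon S).obj U ⟶ X.obj) (b : (yon S).obj V ⟶ Y.obj) (g : U ⟶ V)
    (ha : RepWith @IsOpenImmersion a) (hb : RepWith @IsOpenImmersion b)
    (hcomm : a ≫ f.hom = (yon S).map g ≫ b) [IsIso g.left] (V' : V.left.Opens)
    (hV' : ∀ x : Points X.obj, Points.map f.hom x ∈ Points.ofPt b '' (V' : Set ↥V.left) →
      x ∈ Set.range (Points.ofPt a))
    {P : Sp S} (fst : P ⟶ X.obj) (snd : P ⟶ (yon S).obj (overOpens V V'))
    (hP : IsPullback fst snd f.hom ((yon S).map (overOpensι V V') ≫ b)) : IsIso snd := by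
  have hmb : Mono b := mono_of_isOpenImmersion hb
  have hb' : RepWith @IsOpenImmersion ((yon S).map (overOpensι V V') ≫ b) :=
    Groth.Agent.Lib.Helper36.AlgSpChartDiag.repWith_yon_map_comp (P := @IsOpenImmersion)
      _ (by show IsOpenImmersion V'.ι; infer_instance) _ hb
  have hfsto : RepWith @IsOpenImmersion fst := (RepWith @IsOpenImmersion).of_isPullback hP.flip hb'
  have hmfst : Mono fst := mono_of_isOpenImmersion hfsto
  -- the restriction of `g`
  have hgw : (g.left ∣_ V') ≫ (V'.ι ≫ V.hom) = (g.left ⁻¹ᵁ V').ι ≫ U.hom := by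
    rw [← Category.assoc, morphismRestrict_ι, Category.assoc, Over.w]
  obtain ⟨g', hg'l, hg'c⟩ : ∃ g' : overOpens U (g.left ⁻¹ᵁ V') ⟶ overOpens V V',
      g'.left = g.left ∣_ V' ∧
      g' ≫ overOpensι V V' = overOpensι U (g.left ⁻¹ᵁ V') ≫ g := by
    refine ⟨Over.homMk (g.left ∣_ V') hgw, rfl, ?_⟩
    apply Over.OverMorphism.ext
    show (g.left ∣_ V') ≫ V'.ι = (g.left ⁻¹ᵁ V').ι ≫ g.left
    exact morphismRestrict_ι _ _
  have hg'iso : IsIso g' := by
    have : IsIso ((Over.forget S).map g') := by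
      show IsIso g'.left
      rw [hg'l]; infer_instance
    exact isIso_of_reflects_iso g' (Over.forget S)
  have ha' : RepWith @IsOpenImmersion ((yon S).map (overOpensι U (g.left ⁻¹ᵁ V')) ≫ a) :=
    Groth.Agent.Lib.Helper36.AlgSpChartDiag.repWith_yon_map_comp (P := @IsOpenImmersion)
      _ (by show IsOpenImmersion (g.left ⁻¹ᵁ V').ι; infer_instance) _ ha
  have hsw : ((yon S).map (overOpensι U (g.left ⁻¹ᵁ V')) ≫ a) ≫ f.hom =
      (yon S).map g' ≫ ((yon S).map (overOpensι V V') ≫ b) := by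
    rw [Category.assoc, hcomm, ← Category.assoc, ← Functor.map_comp, ← hg'c, Functor.map_comp,
      Category.assoc]
  obtain ⟨s, hs1, hs2⟩ : ∃ s : (yon S).obj (overOpens U (g.left ⁻¹ᵁ V')) ⟶ P,
      s ≫ fst = (yon S).map (overOpensι U (g.left ⁻¹ᵁ V')) ≫ a ∧ s ≫ snd = (yon S).map g' :=
    ⟨hP.lift _ _ hsw, hP.lift_fst _ _ _, hP.lift_snd _ _ _⟩
  have sqs := isPullback_of_factor fst _ s hs1
  have hso : RepWith @IsOpenImmersion s := (RepWith @IsOpenImmersion).of_isPullback sqs ha'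
  have hss : IsSurjectiveMor s := by
    intro p
    obtain ⟨t, ht⟩ := (Points.schemeEquiv (overOpens V V')).surjective (Points.map snd p)
    have h1 : Points.map f.hom (Points.map fst p) = Points.ofPt b t.1 := by
      rw [← Points.map_comp, hP.w, Points.map_comp, ← ht]
      change Points.map _ (Points.ofPt (𝟙 _) t) = _
      rw [Points.map_ofPt, Category.id_comp, ofPt_map_comp]
      rfl
    obtain ⟨u, hu⟩ := hV' (Points.map fst p) (h1 ▸ ⟨t.1, t.2, rfl⟩)
    have h2 : Points.ofPt b (g.left u) = Points.ofPt b t.1 := by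
      rw [← h1, ← hu, Points.map_ofPt, hcomm, ofPt_map_comp]
    have h3 : g.left u = t.1 := Groth.Agent.S10434.ofPt_injective_of_mono b h2
    have hu' : u ∈ g.left ⁻¹ᵁ V' := by
      show g.left u ∈ V'
      rw [h3]; exact t.2
    obtain ⟨q, -, hq⟩ := points_exists_of_isPullback sqs
      (Points.ofScheme (overOpens U (g.left ⁻¹ᵁ V')) ⟨u, hu'⟩) p (by
        rw [← Points.ofPt_eq_map_ofScheme, ofPt_map_comp]
        exact hu)
    exact ⟨q, hq⟩
  have hsiso : IsIso s :=
    Groth.Agent.Lib.Helper46.OpenImmFpqc.isIso_of_isOpenImmersion_of_surjective s hso hss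
  have hsnd : snd = inv s ≫ (yon S).map g' := by rw [IsIso.eq_inv_comp, hs2]
  rw [hsnd]
  infer_instance

/-- separated case: `f⁻¹(V) ⊆ U` on points -/
theorem mem_range_of_isSeparatedMor {X Y : Space S} (f : X ⟶ Y) (hX : IsDecent X.obj)
    (hXf : (irreducibleComponents (Points X.obj)).Finite)
    (hsep : IsSeparatedMor f.hom) {U V : Over S}
    (a : (yon S).obj U ⟶ X.obj) (b : (yon S).obj V ⟶ Y.obj) (g : U ⟶ V)
    (ha : RepWith @IsOpenImmersion a) (hb : RepWith @IsOpenImmersion b)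
    (hcomm : a ≫ f.hom = (yon S).map g ≫ b) [IsIso g.left]
    (hda : Dense (Set.range (Points.ofPt a)))
    (x : Points X.obj) (hx : Points.map f.hom x ∈ Set.range (Points.ofPt b)) :
    x ∈ Set.range (Points.ofPt a) := by
  have hT0X := t0Space_points_of_isDecent X hX
  have hQSX := quasiSober_of_isDecent X hX
  have hgiso : IsIso g := by
    have : IsIso ((Over.forget S).map g) := by show IsIso g.left; infer_instance
    exact isIso_of_reflects_iso g (Over.forget S)
  have hRo : IsOpen (Set.range (Points.ofPt a)) :=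
    (isOpenMap_ofPt a (repWith_etale_of_isOpenImmersion ha)).isOpen_range
  have hBo : IsOpen (Set.range (Points.ofPt b)) :=
    (isOpenMap_ofPt b (repWith_etale_of_isOpenImmersion hb)).isOpen_range
  have sq := IsPullback.of_hasPullback f.hom b
  obtain ⟨fst₀, hfst₀⟩ : ∃ fst₀, fst₀ = pullback.fst f.hom b := ⟨_, rfl⟩
  obtain ⟨snd₀, hsnd₀⟩ : ∃ snd₀, snd₀ = pullback.snd f.hom b := ⟨_, rfl⟩
  rw [← hfst₀, ← hsnd₀] at sq
  have hfsto : RepWith @IsOpenImmersion fst₀ := (RepWith @IsOpenImmersion).of_isPullback sq.flip hb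
  have hmfst : Mono fst₀ := mono_of_isOpenImmersion hfsto
  obtain ⟨s, hs1, hs2⟩ : ∃ s : (yon S).obj U ⟶ pullback f.hom b,
      s ≫ fst₀ = a ∧ s ≫ snd₀ = (yon S).map g :=
    ⟨sq.lift _ _ hcomm, sq.lift_fst _ _ _, sq.lift_snd _ _ _⟩
  obtain ⟨r, hr⟩ : ∃ r : pullback f.hom b ⟶ X.obj, r = snd₀ ≫ inv ((yon S).map g) ≫ a := ⟨_, rfl⟩
  have hrf : r ≫ f.hom = snd₀ ≫ b := by
    rw [hr, Category.assoc, Category.assoc, hcomm, IsIso.inv_hom_id_assoc]
  have hsr : s ≫ r = a := by
    rw [hr, ← Category.assoc, hs2, IsIso.hom_inv_id_assoc]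
  obtain ⟨l₂, hl1, hl2⟩ : ∃ l₂ : pullback f.hom b ⟶ pullback f.hom f.hom,
      l₂ ≫ pullback.fst f.hom f.hom = fst₀ ∧ l₂ ≫ pullback.snd f.hom f.hom = r :=
    ⟨pullback.lift fst₀ r (by rw [sq.w, hrf]), pullback.lift_fst _ _ _, pullback.lift_snd _ _ _⟩
  have sqD := IsPullback.of_hasPullback (pullback.diagonal f.hom) l₂
  obtain ⟨e₁, he₁⟩ : ∃ e₁, e₁ = pullback.fst (pullback.diagonal f.hom) l₂ := ⟨_, rfl⟩
  obtain ⟨e₂, he₂⟩ : ∃ e₂, e₂ = pullback.snd (pullback.diagonal f.hom) l₂ := ⟨_, rfl⟩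
  rw [← he₁, ← he₂] at sqD
  have he₂c : RepWith @IsClosedImmersion e₂ := (RepWith @IsClosedImmersion).of_isPullback sqD hsep
  have hclosed := Groth.Agent.Lib.Helper23.ClosedDescent.isClosed_range_of_repWith_isClosedImmersion e₂ he₂c
  have hk1 : e₂ ≫ fst₀ = e₁ := by
    rw [← hl1, ← Category.assoc, ← sqD.w, Category.assoc, pullback.diagonal_fst, Category.comp_id]
  have hk2 : e₂ ≫ r = e₁ := by
    rw [← hl2, ← Category.assoc, ← sqD.w, Category.assoc, pullback.diagonal_snd, Category.comp_id]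
  have sqs := isPullback_of_factor fst₀ a s hs1
  -- range e₂ ⊆ range s
  have hsub1 : Set.range (Points.map e₂) ⊆ Set.range (Points.map s) := by
    rintro _ ⟨d, rfl⟩
    have h1 : Points.map fst₀ (Points.map e₂ d) =
        Points.map a (Points.map (inv ((yon S).map g)) (Points.map snd₀ (Points.map e₂ d))) := by
      rw [← Points.map_comp, hk1, ← hk2, hr, Points.map_comp, Points.map_comp, Points.map_comp]
    obtain ⟨q, -, hq⟩ := points_exists_of_isPullback sqs _ (Points.map e₂ d) h1.symm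
    exact ⟨q, hq⟩
  -- range s ⊆ range e₂
  have hsub2 : Set.range (Points.map s) ⊆ Set.range (Points.map e₂) := by
    obtain ⟨k, -, hk⟩ := sqD.exists_lift a s (by
      apply pullback.hom_ext
      · rw [Category.assoc, pullback.diagonal_fst, Category.comp_id, Category.assoc, hl1, hs1]
      · rw [Category.assoc, pullback.diagonal_snd, Category.comp_id, Category.assoc, hl2, hsr])
    rintro _ ⟨q, rfl⟩
    exact ⟨Points.map k q, by rw [← Points.map_comp, hk]⟩
  -- the point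
  obtain ⟨v', hv'⟩ := hx
  obtain ⟨p, hp1, -⟩ := points_exists_of_isPullback sq x (Points.ofScheme V v')
    (hv'.symm.trans (Points.ofPt_eq_map_ofScheme b v'))
  obtain ⟨ξ, hξ, hξx⟩ := exists_generic_specializes x
  have hξR : ξ ∈ Set.range (Points.ofPt a) := generic_mem_of_dense hXf ⟨_, hRo⟩ hda ξ hξ
  have hfξ : Points.map f.hom ξ ∈ Set.range (Points.ofPt b) :=
    (hξx.map (Points.continuous_map f.hom)).mem_open hBo ⟨v', hv'⟩
  obtain ⟨v'', hv''⟩ := hfξ
  obtain ⟨pξ, hpξ1, -⟩ := points_exists_of_isPullback sq ξ (Points.ofScheme V v'')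
    (hv''.symm.trans (Points.ofPt_eq_map_ofScheme b v''))
  obtain ⟨u, hu⟩ := hξR
  obtain ⟨q, -, hq⟩ := points_exists_of_isPullback sqs (Points.ofScheme U u) pξ (by
    rw [← Points.ofPt_eq_map_ofScheme, hu, hpξ1])
  have hind : Topology.IsInducing (Points.map fst₀) :=
    Groth.Agent.Lib.Helper23.AlgSpMor.isInducing_points_of_repWith (Q := @IsOpenImmersion)
      (fun f hf => by have : IsOpenImmersion f := hf; exact f.isOpenEmbedding.isInducing)
      X.property fst₀ hfsto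
  have hsp : pξ ⤳ p := hind.specializes_iff.1 (by rw [hpξ1, hp1]; exact hξx)
  have hpC : p ∈ Set.range (Points.map e₂) := hsp.mem_closed hclosed (hsub2 ⟨q, hq⟩)
  obtain ⟨q', hq'⟩ := hsub1 hpC
  rw [← Groth.Agent.Lib.Helper36.DisjOpenGlue.range_map_eq_range_ofPt]
  exact ⟨q', by rw [← hs1, Points.map_comp, hq', hp1]⟩

/-- quasi-compact case: a neighbourhood of a generic point over which `f⁻¹ ⊆ U` on points -/
theorem exists_nhds_of_isQuasiCompactMor {X Y : Space S} (f : X ⟶ Y) (hX : IsDecent X.obj)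
    (hY : IsDecent Y.obj) (hf : W4stk3decentspacesp2.IsBirational f.hom)
    (hqc : IsQuasiCompactMor f.hom) {U V : Over S}
    (a : (yon S).obj U ⟶ X.obj) (b : (yon S).obj V ⟶ Y.obj) (g : U ⟶ V)
    (ha : RepWith @IsOpenImmersion a) (hb : RepWith @IsOpenImmersion b)
    (hcomm : a ≫ f.hom = (yon S).map g ≫ b) [IsIso g.left] (u : ↥U.left)
    (hxgen : Points.ofPt a u ∈ genericPoints (Points X.obj)) :
    ∃ V' : V.left.Opens, g.left u ∈ V' ∧ ∀ x : Points X.obj,
      Points.map f.hom x ∈ Points.ofPt b '' (V' : Set ↥V.left) →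
        x ∈ Set.range (Points.ofPt a) := by
  have hT0Y := t0Space_points_of_isDecent Y hY
  have hRo : IsOpen (Set.range (Points.ofPt a)) :=
    (isOpenMap_ofPt a (repWith_etale_of_isOpenImmersion ha)).isOpen_range
  have hfx : Points.map f.hom (Points.ofPt a u) = Points.ofPt b (g.left u) := by
    rw [Points.map_ofPt, hcomm, ofPt_map_comp]
  have hygen : Points.ofPt b (g.left u) ∈ genericPoints (Points Y.obj) :=
    hfx ▸ hf.bijOn.mapsTo hxgen
  have hfib := Groth.Agent.S10434.fibre_eq f hX hY hf a b g u ha hb hcomm hxgen inferInstance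
  -- affine neighbourhood
  obtain ⟨_, ⟨V₀, hV₀, rfl⟩, hvV₀, -⟩ :=
    V.left.isBasis_affineOpens.exists_subset_of_mem_open (Set.mem_univ (g.left u)) isOpen_univ
  have hV₀aff : IsAffine (overOpens V V₀).left := hV₀
  have hV₀c : CompactSpace ↥(overOpens V V₀).left := inferInstance
  obtain ⟨b₀, hb₀⟩ : ∃ b₀ : (yon S).obj (overOpens V V₀) ⟶ Y.obj,
      b₀ = (yon S).map (overOpensι V V₀) ≫ b := ⟨_, rfl⟩
  have hb₀z : ∀ z : ↥(overOpens V V₀).left, Points.ofPt b₀ z = Points.ofPt b z.1 := by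
    intro z
    rw [hb₀, ofPt_map_comp]; rfl
  have sq := IsPullback.of_hasPullback f.hom b₀
  obtain ⟨fst₀, hfst₀⟩ : ∃ fst₀, fst₀ = pullback.fst f.hom b₀ := ⟨_, rfl⟩
  obtain ⟨snd₀, hsnd₀⟩ : ∃ snd₀, snd₀ = pullback.snd f.hom b₀ := ⟨_, rfl⟩
  rw [← hfst₀, ← hsnd₀] at sq
  have hqcP : IsQuasiCompactSp (pullback f.hom b₀) :=
    hqc (IsAlgSpace.yon_obj _) ⟨overOpens V V₀, 𝟙 _, repWith_id _ _, repWith_id _ _, hV₀c⟩
      b₀ fst₀ snd₀ sq
  obtain ⟨W, c, hce, hcs, hWc⟩ := hqcP
  have hWc' : CompactSpace ↥W.left := hWc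
  obtain ⟨h₀, hh₀⟩ := (yon S).map_surjective (c ≫ snd₀)
  have hqch : QuasiCompact h₀.left := quasiCompact_of_compactSpace _
  let UW : W.left.Opens := ⟨Points.ofPt (c ≫ fst₀) ⁻¹' Set.range (Points.ofPt a),
    hRo.preimage (Points.continuous_ofPt _)⟩
  have hfc : ∀ t : ↥W.left, Points.map f.hom (Points.ofPt (c ≫ fst₀) t) =
      Points.ofPt b (h₀.left t).1 := by
    intro t
    rw [Points.map_ofPt, Category.assoc, sq.w, ← Category.assoc, ← hh₀, ofPt_map_comp, hb₀z]
  have hU : ∀ t : ↥W.left, h₀.left.base t ⤳ (⟨g.left u, hvV₀⟩ : ↥V₀) → t ∈ UW := by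
    intro t ht
    have h1 : Points.ofPt b₀ (h₀.left t) ⤳ Points.ofPt b₀ (⟨g.left u, hvV₀⟩ : ↥V₀) :=
      ht.map (Points.continuous_ofPt b₀)
    rw [hb₀z, hb₀z] at h1
    have h2 := eq_of_specializes_of_generic hygen h1
    have h3 := hfib _ ((hfc t).trans h2)
    show Points.ofPt (c ≫ fst₀) t ∈ Set.range (Points.ofPt a)
    rw [h3]; exact ⟨u, rfl⟩
  obtain ⟨V'', hηV'', -, hpre⟩ := exists_nhds_preimage_le_of_quasiCompact h₀.left UW ⊤
    (⟨g.left u, hvV₀⟩ : ↥V₀) trivial hU
  refine ⟨(Scheme.Opens.ι (X := V.left) V₀) ''ᵁ V'', ⟨⟨g.left u, hvV₀⟩, hηV'', rfl⟩, ?_⟩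
  rintro x ⟨_, ⟨z, hz, rfl⟩, hzx⟩
  have hzx' : Points.map f.hom x = Points.map b₀ (Points.ofScheme (overOpens V V₀) z) := by
    rw [← Points.ofPt_eq_map_ofScheme, hb₀z]; exact hzx.symm
  obtain ⟨p, hp1, hp2⟩ := points_exists_of_isPullback sq x _ hzx'
  obtain ⟨t, ht⟩ := ofPt_surjective c hcs p
  have h1 : h₀.left t = z := by
    apply (Points.schemeEquiv (overOpens V V₀)).injective
    change Points.ofScheme _ _ = Points.ofScheme _ _
    rw [← hp2, ← ht, Points.map_ofPt, ← hh₀, ofPt_yon_map]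
  have h2 : t ∈ UW := hpre (show h₀.left t ∈ V'' by rw [h1]; exact hz)
  have h3 : Points.ofPt (c ≫ fst₀) t = x := by
    rw [← Points.map_ofPt, ht, hp1]
  rw [← h3]
  exact h2

/-- Take decent algebraic spaces X and Y over a scheme S, each with only finitely many irreducible
components in its space of points, and a birational f : X ⟶ Y. Suppose f is quasi-compact or
separated, and in addition that f is locally of finite type with Y reduced, or locally of finite
presentation. Then Y contains a dense open subspace V, which may be taken to be a scheme, such that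
f⁻¹(V) ⟶ V is an isomorphism. -/
theorem result {S : Scheme.{u}} {X Y : AlgSp.Space S} (f : X ⟶ Y)
    (hX : AlgSp.IsDecent X.obj) (hY : AlgSp.IsDecent Y.obj)
    (hXf : (irreducibleComponents (AlgSp.Points X.obj)).Finite)
    (hYf : (irreducibleComponents (AlgSp.Points Y.obj)).Finite)
    (hf : W4stk3decentspacesp2.IsBirational f.hom) (h₁ : AlgSp.IsQuasiCompactMor f.hom ∨ AlgSp.IsSeparatedMor f.hom)
    (h₂ : (AlgSp.LocP @LocallyOfFiniteType f.hom ∧ AlgSp.EtaleLocally (fun T => IsReduced T) Y.obj) ∨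
      AlgSp.LocP @LocallyOfFinitePresentation f.hom) :
    ∃ (V : Over S) (b : (AlgSp.yon S).obj V ⟶ Y.obj), AlgSp.RepWith @IsOpenImmersion b ∧
      Dense (Set.range (AlgSp.Points.ofPt b)) ∧
        ∀ ⦃P : AlgSp.Sp S⦄ (fst : P ⟶ X.obj) (snd : P ⟶ (AlgSp.yon S).obj V),
          IsPullback fst snd f.hom b → IsIso snd := by
  obtain ⟨U, V, a, b, g, ha, hb, hda, hdb, hcomm, hg⟩ :=
    Groth.Agent.S10435.result f hX hY hXf hYf hf h₂
  have hT0X := t0Space_points_of_isDecent X hX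
  have hT0Y := t0Space_points_of_isDecent Y hY
  have hQSY := quasiSober_of_isDecent Y hY
  have hmb : Mono b := mono_of_isOpenImmersion hb
  have hRo : IsOpen (Set.range (Points.ofPt a)) :=
    (isOpenMap_ofPt a (repWith_etale_of_isOpenImmersion ha)).isOpen_range
  have hBo : IsOpen (Set.range (Points.ofPt b)) :=
    (isOpenMap_ofPt b (repWith_etale_of_isOpenImmersion hb)).isOpen_range
  have hV' : ∃ V' : V.left.Opens,
      (∀ v : ↥V.left, Points.ofPt b v ∈ genericPoints (Points Y.obj) → v ∈ V') ∧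
      ∀ x : Points X.obj, Points.map f.hom x ∈ Points.ofPt b '' (V' : Set ↥V.left) →
        x ∈ Set.range (Points.ofPt a) := by
    rcases h₁ with hqc | hsep
    · have key : ∀ v : ↥V.left, Points.ofPt b v ∈ genericPoints (Points Y.obj) →
          ∃ V'v : V.left.Opens, v ∈ V'v ∧ ∀ x : Points X.obj,
            Points.map f.hom x ∈ Points.ofPt b '' (V'v : Set ↥V.left) →
              x ∈ Set.range (Points.ofPt a) := by
        intro v hv
        obtain ⟨x, hx, hxy⟩ := hf.bijOn.surjOn hv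
        obtain ⟨u, rfl⟩ := generic_mem_of_dense hXf ⟨_, hRo⟩ hda x hx
        have hgu : g.left u = v := Groth.Agent.S10434.ofPt_injective_of_mono b (by
          rw [← hxy, Points.map_ofPt, hcomm, ofPt_map_comp])
        subst hgu
        exact exists_nhds_of_isQuasiCompactMor f hX hY hf hqc a b g ha hb hcomm u hx
      refine ⟨⨆ v : {v : ↥V.left // Points.ofPt b v ∈ genericPoints (Points Y.obj)},
        (key v.1 v.2).choose, ?_, ?_⟩
      · intro v hv
        exact TopologicalSpace.Opens.mem_iSup.2 ⟨⟨v, hv⟩, (key v hv).choose_spec.1⟩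
      · rintro x ⟨z, hz, hzx⟩
        obtain ⟨v, hv⟩ := TopologicalSpace.Opens.mem_iSup.1 hz
        exact (key v.1 v.2).choose_spec.2 x ⟨z, hv, hzx⟩
    · refine ⟨⊤, fun _ _ => trivial, fun x hx => ?_⟩
      obtain ⟨v, -, hv⟩ := hx
      exact mem_range_of_isSeparatedMor f hX hXf hsep a b g ha hb hcomm hda x ⟨v, hv⟩
  obtain ⟨V', hV'gen, hV'pre⟩ := hV'
  have hb' : RepWith @IsOpenImmersion ((yon S).map (overOpensι V V') ≫ b) :=
    Groth.Agent.Lib.Helper36.AlgSpChartDiag.repWith_yon_map_comp (P := @IsOpenImmersion)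
      _ (by show IsOpenImmersion V'.ι; infer_instance) _ hb
  refine ⟨overOpens V V', (yon S).map (overOpensι V V') ≫ b, hb', ?_, fun P fst snd hP =>
    isIso_snd_of_preimage_subset f a b g ha hb hcomm V' hV'pre fst snd hP⟩
  intro z
  obtain ⟨η, hη, hηz⟩ := exists_generic_specializes z
  obtain ⟨v, rfl⟩ := generic_mem_of_dense hYf ⟨_, hBo⟩ hdb η hη
  have h1 : Points.ofPt b v ∈ Set.range (Points.ofPt ((yon S).map (overOpensι V V') ≫ b)) := by
    refine ⟨⟨v, hV'gen v hη⟩, ?_⟩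
    rw [ofPt_map_comp]; rfl
  rw [specializes_iff_mem_closure] at hηz
  exact closure_mono (Set.singleton_subset_iff.mpr h1) hηz

end Groth.Agent.S10436
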