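import Groth.Statements.S10437
-- import your own Groth.Agent.* helpers here
import Groth.Agent.S10434
import Groth.Agent.Lib.Helper37.AlgSpDecent
import Groth.Agent.Lib.Helper23.AlgSpMor4
import Groth.Agent.Lib.Helper36.DisjOpenGlue
import Groth.Agent.Lib.Helper37.DecentMor2

set_option autoImplicit false
universe u
open CategoryTheory CategoryTheory.Limits AlgebraicGeometry Topology TopologicalSpace
open AlgSp

namespace Groth.Agent.S10437

open Groth.Agent.Lib.Helper37.AlgSpPoints Groth.Agent.Lib.Helper37.AlgSpFibres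
  Groth.Agent.Lib.Helper37.QsSober Groth.Agent.Lib.Helper30.DecentSober
  Groth.Agent.Lib.Helper30.LocPNbhd Groth.Agent.Lib.Helper36.AlgSpCharts
  Groth.Agent.Lib.Helper36.BiratPts Groth.Agent.Lib.Helper93.Birat
  Groth.Agent.Lib.Helper23.AlgSpMor Groth.Agent.S10434

variable {S : Scheme.{u}}

/-- generic ⇔ no proper generization -/
theorem mem_genericPoints_iff {T : Type*} [TopologicalSpace T] [T0Space T] [QuasiSober T] (t : T) :
    t ∈ genericPoints T ↔ ∀ t' : T, t' ⤳ t → t' = t := by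
  constructor
  · intro ht t' h
    exact eq_of_specializes_of_generic ht h
  · intro h
    obtain ⟨ξ, hξ, hξt⟩ := exists_generic_specializes t
    rw [← h ξ hξt]; exact hξ

theorem finite_irreducibleComponents_of_finite_genericPoints {T : Type*} [TopologicalSpace T]
    [QuasiSober T] (h : (genericPoints T).Finite) : (irreducibleComponents T).Finite := by
  refine (h.image (fun x => closure {x})).subset ?_
  intro Z hZ
  obtain ⟨ξ, hξ⟩ := QuasiSober.sober hZ.1 (isClosed_of_mem_irreducibleComponents Z hZ)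
  refine ⟨ξ, ?_, hξ.def⟩
  show closure {ξ} ∈ irreducibleComponents T
  rw [hξ.def]; exact hZ

/-- Part A: base change to the local scheme of an étale chart at a point over a generic point. -/
theorem isIso_snd_specStalk_of_etale {X Y : AlgSp.Space S} (f : X ⟶ Y)
    (hX : AlgSp.IsDecent X.obj) (hY : AlgSp.IsDecent Y.obj)
    (hf : W4stk3decentspacesp2.IsBirational f.hom) {V : Over S} (b : (yon S).obj V ⟶ Y.obj)
    (v : ↥V.left) (hv : Points.ofPt b v ∈ genericPoints (Points Y.obj))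
    {P : Sp S} (fst : P ⟶ X.obj) (snd : P ⟶ (yon S).obj (T₁ v))
    (hP : IsPullback fst snd f.hom ((yon S).map (ι₁ v) ≫ b)) : IsIso snd := by
  obtain ⟨x, hx, hxy⟩ := hf.bijOn.surjOn hv
  obtain ⟨U₁, V₁, a₁, b₁, g₁, u₁, ha₁, hb₁, hcomm, hu₁, hiso⟩ := hf.stalkIso x hx
  subst hu₁
  have hfx : Points.ofPt b₁ (g₁.left u₁) = Points.ofPt b v := by
    rw [← hxy, Points.map_ofPt, hcomm, ofPt_map_comp]
  obtain ⟨V', p, p₁, sqV⟩ := exists_isPullback_yon b b₁ hb₁.rep
  have hp : IsOpenImmersion p.left := prop_fst_of_isPullback sqV hb₁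
  obtain ⟨v', hv'1, hv'2⟩ := (ofPt_eq_ofPt_iff sqV v (g₁.left u₁)).1 hfx.symm
  obtain ⟨e₁, he₁⟩ := exists_iso_specStalk p.left v' v hv'1
  obtain ⟨k, hk⟩ := exists_factor_fromSpecStalk (V'.left.fromSpecStalk v' ≫ p₁.left) (g₁.left u₁)
    (by rw [Scheme.Hom.comp_apply, Scheme.fromSpecStalk_closedPoint, hv'2])
  have hκw : (e₁.hom ≫ V'.left.fromSpecStalk v') ≫ V'.hom = V.left.fromSpecStalk v ≫ V.hom := by
    rw [← he₁, ← Over.w p]
    simp only [Category.assoc]
  obtain ⟨κ', hκ'⟩ : ∃ κ' : T₁ v ⟶ V', κ'.left = e₁.hom ≫ V'.left.fromSpecStalk v' :=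
    ⟨Over.homMk (e₁.hom ≫ V'.left.fromSpecStalk v') hκw, rfl⟩
  have hEw : (e₁.hom ≫ k) ≫ (V₁.left.fromSpecStalk (g₁.left u₁) ≫ V₁.hom) =
      V.left.fromSpecStalk v ≫ V.hom := by
    rw [Category.assoc, ← Category.assoc k, hk, Category.assoc, Over.w p₁, ← Category.assoc, hκw]
  obtain ⟨κ, hκ⟩ : ∃ κ : T₁ v ⟶ T₁ (g₁.left u₁), κ.left = e₁.hom ≫ k :=
    ⟨Over.homMk (e₁.hom ≫ k) hEw, rfl⟩
  have hE1 : κ ≫ ι₁ (g₁.left u₁) = κ' ≫ p₁ := by
    apply Over.OverMorphism.ext
    show κ.left ≫ V₁.left.fromSpecStalk (g₁.left u₁) = κ'.left ≫ p₁.left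
    rw [hκ, hκ', Category.assoc, hk, Category.assoc]
  have hE2 : κ' ≫ p = ι₁ v := by
    apply Over.OverMorphism.ext
    show κ'.left ≫ p.left = V.left.fromSpecStalk v
    rw [hκ', Category.assoc, he₁]
  have hEτ : (yon S).map κ ≫ ((yon S).map (ι₁ (g₁.left u₁)) ≫ b₁) = (yon S).map (ι₁ v) ≫ b := by
    rw [← Category.assoc, ← Functor.map_comp, hE1, Functor.map_comp, Category.assoc, ← sqV.w,
      ← Category.assoc, ← Functor.map_comp, hE2]
  -- the pullback over `T₁ (g₁ u₁)`
  have sq₁ := IsPullback.of_hasPullback f.hom ((yon S).map (ι₁ (g₁.left u₁)) ≫ b₁)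
  have hiso₁ : IsIso (pullback.snd f.hom ((yon S).map (ι₁ (g₁.left u₁)) ≫ b₁)) :=
    Groth.Agent.S10434.main f hX hY hf a₁ b₁ g₁ u₁ ha₁ hb₁ hcomm hx hiso _ _ sq₁
  obtain ⟨m, hm1, hm2⟩ := sq₁.exists_lift fst (snd ≫ (yon S).map κ) (by
    rw [hP.w, Category.assoc, hEτ])
  have sqm : IsPullback m snd (pullback.snd f.hom ((yon S).map (ι₁ (g₁.left u₁)) ≫ b₁))
      ((yon S).map κ) := by
    refine IsPullback.of_right ?_ hm2 sq₁
    rw [hm1, hEτ]
    exact hP
  exact sqm.isIso_snd_of_isIso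

/-- Part B: over a point `v` of an étale chart lying over a generic point, the base change has exactly
one point, which lies in an open subscheme on which the projection has an isomorphic stalk map. -/
theorem fibre_and_stalk {X Y : AlgSp.Space S} (f : X ⟶ Y)
    (hX : AlgSp.IsDecent X.obj) (hY : AlgSp.IsDecent Y.obj)
    (hf : W4stk3decentspacesp2.IsBirational f.hom) {V : Over S} (b : (yon S).obj V ⟶ Y.obj)
    (hb : RepWith @Etale b)
    (v : ↥V.left) (hv : Points.ofPt b v ∈ genericPoints (Points Y.obj))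
    {P : Sp S} (fst : P ⟶ X.obj) (snd : P ⟶ (yon S).obj V) (hP : IsPullback fst snd f.hom b) :
    (∀ p p' : Points P, Points.map snd p = Points.ofScheme V v →
      Points.map snd p' = Points.ofScheme V v → p = p') ∧
    (∀ p : Points P, Points.map snd p = Points.ofScheme V v →
      ∃ (P' : Over S) (a' : (yon S).obj P' ⟶ P) (h : P' ⟶ V) (p' : ↥P'.left),
        RepWith @IsOpenImmersion a' ∧ a' ≫ snd = (yon S).map h ∧ Points.ofPt a' p' = p ∧
          IsIso (h.left.stalkMap p')) := by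
  -- the base change to `Spec O_{V,v}`
  have hPT := IsPullback.of_hasPullback snd ((yon S).map (ι₁ v))
  obtain ⟨prP, hprP⟩ : ∃ prP, prP = pullback.fst snd ((yon S).map (ι₁ v)) := ⟨_, rfl⟩
  obtain ⟨sndT, hsndT⟩ : ∃ sndT, sndT = pullback.snd snd ((yon S).map (ι₁ v)) := ⟨_, rfl⟩
  rw [← hprP, ← hsndT] at hPT
  have hPT' : IsPullback (prP ≫ fst) sndT f.hom ((yon S).map (ι₁ v) ≫ b) := hPT.paste_horiz hP
  have hisoT : IsIso sndT := isIso_snd_specStalk_of_etale f hX hY hf b v hv _ _ hPT'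
  have hιt : (ι₁ v).left (IsLocalRing.closedPoint _) = v := Scheme.fromSpecStalk_closedPoint
  have hlift : ∀ p : Points P, Points.map snd p = Points.ofScheme V v →
      ∃ q, Points.map prP q = p ∧
        Points.map sndT q = Points.ofScheme (T₁ v) (IsLocalRing.closedPoint _) := by
    intro p hp
    refine points_exists_of_isPullback hPT p _ ?_
    rw [hp, ← Points.ofPt_eq_map_ofScheme, ofPt_yon_map, hιt]
  have huniq : ∀ p p' : Points P, Points.map snd p = Points.ofScheme V v →
      Points.map snd p' = Points.ofScheme V v → p = p' := by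
    intro p p' hp hp'
    obtain ⟨q, hq1, hq2⟩ := hlift p hp
    obtain ⟨q', hq'1, hq'2⟩ := hlift p' hp'
    have : q = q' := points_map_injective_of_mono sndT (hq2.trans hq'2.symm)
    rw [← hq1, ← hq'1, this]
  refine ⟨huniq, fun p hp => ?_⟩
  -- data at the generic point
  obtain ⟨x, hx, hxy⟩ := hf.bijOn.surjOn hv
  obtain ⟨U₁, V₁, a₁, b₁, g₁, u₁, ha₁, hb₁, hcomm, hu₁, hiso⟩ := hf.stalkIso x hx
  subst hu₁
  have hfx : Points.map f.hom (Points.ofPt a₁ u₁) = Points.ofPt b₁ (g₁.left u₁) := by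
    rw [Points.map_ofPt, hcomm, ofPt_map_comp]
  have hfstp : Points.map fst p = Points.ofPt a₁ u₁ := by
    apply fibre_eq f hX hY hf a₁ b₁ g₁ u₁ ha₁ hb₁ hcomm hx hiso
    rw [← hfx, hxy, ← Points.map_comp, hP.w, Points.map_comp, hp, ← Points.ofPt_eq_map_ofScheme]
  -- the open subscheme `P' = U₁ ×_Y V` of `P`
  obtain ⟨P', p1, p2, sqQ'⟩ := exists_isPullback_yon (a₁ ≫ f.hom) b hb.rep
  obtain ⟨a', ha'1, ha'2⟩ : ∃ a' : (yon S).obj P' ⟶ P,
      a' ≫ fst = (yon S).map p1 ≫ a₁ ∧ a' ≫ snd = (yon S).map p2 :=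
    ⟨hP.lift ((yon S).map p1 ≫ a₁) ((yon S).map p2) (by rw [Category.assoc]; exact sqQ'.w),
      hP.lift_fst _ _ _, hP.lift_snd _ _ _⟩
  have sqa' : IsPullback a' ((yon S).map p1) fst a₁ := by
    refine IsPullback.of_right ?_ ha'1 hP.flip
    rw [ha'2]
    exact sqQ'.flip
  have ha'o : RepWith @IsOpenImmersion a' := (RepWith @IsOpenImmersion).of_isPullback sqa'.flip ha₁
  have hma' : Mono a' := mono_of_isOpenImmersion ha'o
  obtain ⟨q', hq'1, -⟩ := points_exists_of_isPullback sqa' p (Points.ofScheme U₁ u₁)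
    (hfstp.trans (Points.ofPt_eq_map_ofScheme a₁ u₁))
  obtain ⟨p', rfl⟩ := (Points.schemeEquiv P').surjective q'
  have hp' : Points.ofPt a' p' = p := by
    rw [Points.ofPt_eq_map_ofScheme]; exact hq'1
  have hp2p' : p2.left p' = v := by
    apply (Points.schemeEquiv V).injective
    change Points.ofScheme V _ = Points.ofScheme V v
    rw [← hp, ← hp', Points.map_ofPt, ha'2, ofPt_yon_map]
  refine ⟨P', a', p2, p', ha'o, ha'2, hp', ?_⟩
  -- the section through `Spec O_{V,v}`
  obtain ⟨ρ, hρ⟩ : ∃ ρ : (yon S).obj (T₁ v) ⟶ P, ρ = inv sndT ≫ prP := ⟨_, rfl⟩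
  have hρsnd : ρ ≫ snd = (yon S).map (ι₁ v) := by
    rw [hρ, Category.assoc, hPT.w, IsIso.inv_hom_id_assoc]
  have hρt₀ : Points.ofPt ρ (IsLocalRing.closedPoint _) = p := by
    apply huniq _ _ _ hp
    rw [Points.map_ofPt, hρsnd, ofPt_yon_map, hιt]
  have hRo : IsOpen (Set.range (Points.ofPt a')) :=
    (isOpenMap_ofPt a' (repWith_etale_of_isOpenImmersion ha'o)).isOpen_range
  obtain ⟨σ', hσ'⟩ := Groth.Agent.Lib.Helper36.OpenSubspace.exists_lift_of_openImm a' ha'o ρ (by
    rintro _ ⟨z, rfl⟩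
    obtain ⟨t, rfl⟩ := (Points.schemeEquiv (T₁ v)).surjective z
    rw [Groth.Agent.Lib.Helper36.DisjOpenGlue.range_map_eq_range_ofPt]
    change Points.map ρ (Points.ofPt (𝟙 _) t) ∈ _
    rw [Points.map_ofPt, Category.id_comp]
    have hsp : Points.ofPt ρ t ⤳ Points.ofPt ρ (IsLocalRing.closedPoint _) :=
      (IsLocalRing.specializes_closedPoint t).map (Points.continuous_ofPt ρ)
    exact hsp.mem_open hRo (hρt₀ ▸ ⟨p', hp'⟩))
  obtain ⟨σ, rfl⟩ := (yon S).map_surjective σ'
  have hσp2 : σ ≫ p2 = ι₁ v := by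
    apply (yon S).map_injective
    rw [Functor.map_comp, ← ha'2, ← Category.assoc, hσ', hρsnd]
  have hσt₀ : σ.left (IsLocalRing.closedPoint _) = p' := by
    apply ofPt_injective_of_mono a'
    rw [← ofPt_map_comp, hσ', hρt₀, hp']
  obtain ⟨Sg, hSg⟩ := exists_factor_fromSpecStalk σ.left p' hσt₀
  obtain ⟨M, hM⟩ := exists_factor_fromSpecStalk (P'.left.fromSpecStalk p' ≫ p2.left) v (by
    rw [Scheme.Hom.comp_apply, Scheme.fromSpecStalk_closedPoint, hp2p'])
  have hσp2l : σ.left ≫ p2.left = V.left.fromSpecStalk v := by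
    rw [← Over.comp_left, hσp2]; rfl
  have hSM : Sg ≫ M = 𝟙 _ := by
    rw [← cancel_mono (V.left.fromSpecStalk v), Category.assoc, hM, ← Category.assoc, hSg, hσp2l,
      Category.id_comp]
  -- uniqueness: `fromSpecStalk p' = M ≫ σ`
  have hMw : M ≫ (V.left.fromSpecStalk v ≫ V.hom) = P'.left.fromSpecStalk p' ≫ P'.hom := by
    rw [← Category.assoc, hM, Category.assoc, Over.w p2]
  obtain ⟨M', hM'⟩ : ∃ M' : Over.mk (P'.left.fromSpecStalk p' ≫ P'.hom) ⟶ T₁ v, M'.left = M :=
    ⟨Over.homMk M hMw, rfl⟩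
  obtain ⟨ι', hι'⟩ : ∃ ι' : Over.mk (P'.left.fromSpecStalk p' ≫ P'.hom) ⟶ P',
      ι'.left = P'.left.fromSpecStalk p' := ⟨Over.homMk (P'.left.fromSpecStalk p') rfl, rfl⟩
  have hι'p2 : ι' ≫ p2 = M' ≫ ι₁ v := by
    apply Over.OverMorphism.ext
    show ι'.left ≫ p2.left = M'.left ≫ V.left.fromSpecStalk v
    rw [hι', hM', hM]
  have hkey : ι' = M' ≫ σ := by
    apply (yon S).map_injective
    rw [← cancel_mono a']
    obtain ⟨ρ'T, hρ'T1, hρ'T2⟩ := hPT.exists_lift ((yon S).map ι' ≫ a') ((yon S).map M') (by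
      rw [Category.assoc, ha'2, ← Functor.map_comp, hι'p2, Functor.map_comp])
    rw [Functor.map_comp, Category.assoc, hσ', hρ, ← hρ'T1, ← hρ'T2, Category.assoc,
      IsIso.hom_inv_id_assoc]
  have hMS : M ≫ Sg = 𝟙 _ := by
    rw [← cancel_mono (P'.left.fromSpecStalk p'), Category.assoc, hSg, Category.id_comp, ← hι',
      hkey, Over.comp_left, hM']
  obtain ⟨φ, rfl⟩ := Spec.map_surjective Sg
  obtain ⟨μ, rfl⟩ := Spec.map_surjective M
  have h1 : μ ≫ φ = 𝟙 _ := by
    rw [← Spec.map_eq_id, Spec.map_comp]; exact hSM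
  have h2 : φ ≫ μ = 𝟙 _ := by
    rw [← Spec.map_eq_id, Spec.map_comp]; exact hMS
  have hφiso : IsIso φ := ⟨μ, h2, h1⟩
  exact (eq_and_isIso_stalkMap_of_fromSpecStalk p2.left p' v (𝟙 _) φ (by
    rw [Spec.map_id, Category.id_comp, ← Category.assoc, hSg, hσp2l])).2

/-- Take decent algebraic spaces X and Y over a scheme S, each with only finitely many irreducible
components in its space of points, a birational f : X ⟶ Y, and an etale morphism V ⟶ Y from an
affine scheme V. Then X ×_Y V is decent, the spaces of points of X ×_Y V and of V have only finitely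
many irreducible components, and the projection X ×_Y V ⟶ V is birational. -/
theorem result {S : Scheme.{u}} {X Y : AlgSp.Space S} (f : X ⟶ Y)
    (hX : AlgSp.IsDecent X.obj) (hY : AlgSp.IsDecent Y.obj)
    (hXf : (irreducibleComponents (AlgSp.Points X.obj)).Finite)
    (hYf : (irreducibleComponents (AlgSp.Points Y.obj)).Finite)
    (hf : W4stk3decentspacesp2.IsBirational f.hom) {V : Over S} [IsAffine V.left] (b : (AlgSp.yon S).obj V ⟶ Y.obj)
    (hb : AlgSp.RepWith @Etale b) {P : AlgSp.Sp S} (fst : P ⟶ X.obj) (snd : P ⟶ (AlgSp.yon S).obj V)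
    (hP : IsPullback fst snd f.hom b) :
    AlgSp.IsDecent P ∧ (irreducibleComponents (AlgSp.Points P)).Finite ∧
      (irreducibleComponents (AlgSp.Points ((AlgSp.yon S).obj V))).Finite ∧ W4stk3decentspacesp2.IsBirational snd := by
  have hPalg : IsAlgSpace P :=
    isAlgSpace_of_isPullback X.property (IsAlgSpace.yon_obj V) Y.property.diag hP
  have hfstr : Representable fst := (Representable (S := S)).of_isPullback hP.flip hb.rep
  have hfste : RepWith @Etale fst := (RepWith @Etale).of_isPullback hP.flip hb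
  have hPdec : IsDecent P :=
    Groth.Agent.Lib.Helper37.AlgSpDecent.isDecent_of_representable fst hfstr hX
  obtain ⟨PS, hPS⟩ : ∃ PS : Space S, PS.obj = P := ⟨⟨P, hPalg⟩, rfl⟩
  subst hPS
  obtain ⟨VS, hVS⟩ : ∃ VS : Space S, VS.obj = (yon S).obj V := ⟨⟨_, IsAlgSpace.yon_obj V⟩, rfl⟩
  have hVdec : IsDecent VS.obj := hVS ▸ Groth.Agent.Lib.Helper37.DecentMor2.isDecent_yon V
  have hT0X := t0Space_points_of_isDecent X hX
  have hT0Y := t0Space_points_of_isDecent Y hY
  have hT0P := t0Space_points_of_isDecent PS hPdec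
  have hQSX := quasiSober_of_isDecent X hX
  have hQSY := quasiSober_of_isDecent Y hY
  have hQSP := quasiSober_of_isDecent PS hPdec
  have hT0V : T0Space (Points ((yon S).obj V)) := hVS ▸ t0Space_points_of_isDecent VS hVdec
  have hQSV : QuasiSober (Points ((yon S).obj V)) := hVS ▸ quasiSober_of_isDecent VS hVdec
  have hC1 : ∀ v : ↥V.left, Points.ofScheme V v ∈ genericPoints (Points ((yon S).obj V)) →
      Points.ofPt b v ∈ genericPoints (Points Y.obj) := by
    intro v hv
    rw [mem_genericPoints_iff] at hv ⊢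
    intro y' hy'
    obtain ⟨q, hq, -, hqc⟩ := hY y'
    obtain ⟨v', hv's, hv'⟩ := exists_specializes_lift_of_qc_point (Points.ofPt b v) y' hy' q hq hqc
      b hb v rfl
    have h1 := hv (Points.ofScheme V v') (hv's.map (Points.continuous_ofPt _))
    have h2 : v' = v := (Points.schemeEquiv V).injective h1
    rw [← hv', h2]
  have hC2 : ∀ v : ↥V.left, Points.ofPt b v ∈ genericPoints (Points Y.obj) →
      Points.ofScheme V v ∈ genericPoints (Points ((yon S).obj V)) := by
    intro v hv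
    rw [mem_genericPoints_iff]
    intro z hz
    obtain ⟨v', rfl⟩ := (Points.schemeEquiv V).surjective z
    have hs : v' ⤳ v := (Points.schemeHomeo V).isInducing.specializes_iff.1 hz
    have h1 : Points.ofPt b v' ⤳ Points.ofPt b v := hs.map (Points.continuous_ofPt b)
    have h2 := eq_of_specializes_of_generic hv h1
    have h3 := eq_of_specializes_of_isDecent hY b hb v v' h2.symm hs
    rw [← h3]; rfl
  have hGY : (genericPoints (Points Y.obj)).Finite := by
    refine Set.Finite.of_injOn (f := fun x => closure {x}) (fun x hx => hx) ?_ hYf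
    intro x hx x' hx' hxx'
    exact (inseparable_iff_closure_eq.2 hxx').eq
  have hGV : (genericPoints (Points ((yon S).obj V))).Finite := by
    have hcomp : CompactSpace ↥V.left := inferInstance
    have hfin : ∀ y ∈ genericPoints (Points Y.obj), (Points.ofPt b ⁻¹' {y}).Finite := by
      intro y _
      obtain ⟨q, hq, -, hqc⟩ := hY y
      have := finite_fibre_of_qc_point q hqc b hb
      rwa [hq] at this
    refine ((hGY.biUnion hfin).image (Points.ofScheme V)).subset ?_
    intro z hz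
    obtain ⟨v, rfl⟩ := (Points.schemeEquiv V).surjective z
    exact ⟨v, Set.mem_biUnion (hC1 v hz) rfl, rfl⟩
  have hfs := fun v hv => fibre_and_stalk f hX hY hf b hb v hv fst snd hP
  have hmaps : ∀ p ∈ genericPoints (Points PS.obj),
      Points.map snd p ∈ genericPoints (Points ((yon S).obj V)) := by
    intro p hp
    obtain ⟨v, hv⟩ := (Points.schemeEquiv V).surjective (Points.map snd p)
    have hv' : Points.ofScheme V v = Points.map snd p := hv
    rw [← hv']
    apply hC2
    have hfp : Points.ofPt b v = Points.map f.hom (Points.map fst p) := by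
      rw [← Points.map_comp, hP.w, Points.map_comp, ← hv', ← Points.ofPt_eq_map_ofScheme]
    rw [hfp]
    apply hf.bijOn.mapsTo
    rw [mem_genericPoints_iff]
    intro x' hx'
    obtain ⟨W, c, w, -, hc, hw⟩ := exists_affine_chart PS p
    obtain ⟨q, hq, -, hqc⟩ := hX x'
    have hcf : RepWith @Etale (c ≫ fst) := (RepWith @Etale).comp_mem _ _ hc hfste
    obtain ⟨w', hw's, hw'⟩ := exists_specializes_lift_of_qc_point (Points.map fst p) x' hx' q hq hqc
      (c ≫ fst) hcf w (by rw [← Points.map_ofPt, hw])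
    have hp' : Points.ofPt c w' ⤳ p := hw ▸ hw's.map (Points.continuous_ofPt c)
    have h1 := (mem_genericPoints_iff p).1 hp _ hp'
    rw [← hw', ← Points.map_ofPt, h1]
  have hinj : Set.InjOn (Points.map snd) (genericPoints (Points PS.obj)) := by
    intro p hp p' hp' hpp'
    obtain ⟨v, hv⟩ := (Points.schemeEquiv V).surjective (Points.map snd p)
    have hv' : Points.ofScheme V v = Points.map snd p := hv
    have hvg : Points.ofPt b v ∈ genericPoints (Points Y.obj) := hC1 v (hv' ▸ hmaps p hp)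
    exact (hfs v hvg).1 p p' hv'.symm (hpp' ▸ hv'.symm)
  have hGP : (genericPoints (Points PS.obj)).Finite := Set.Finite.of_injOn hmaps hinj hGV
  refine ⟨hPdec, finite_irreducibleComponents_of_finite_genericPoints hGP,
    finite_irreducibleComponents_of_finite_genericPoints hGV, ⟨⟨hmaps, hinj, ?_⟩, ?_⟩⟩
  · intro z hz
    obtain ⟨v, rfl⟩ := (Points.schemeEquiv V).surjective z
    have hz' : Points.ofScheme V v ∈ genericPoints (Points ((yon S).obj V)) := hz
    have hvg := hC1 v hz'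
    obtain ⟨x, hx, hxy⟩ := hf.bijOn.surjOn hvg
    obtain ⟨p, hp1, hp2⟩ := points_exists_of_isPullback hP x (Points.ofScheme V v)
      (hxy.trans (Points.ofPt_eq_map_ofScheme b v))
    refine ⟨p, ?_, hp2⟩
    rw [mem_genericPoints_iff]
    intro p'' hp''
    have h1 : Points.map snd p'' ⤳ Points.ofScheme V v :=
      hp2 ▸ hp''.map (Points.continuous_map snd)
    have h2 := eq_of_specializes_of_generic hz' h1
    exact (hfs v hvg).1 p'' p h2 hp2
  · intro p hp
    obtain ⟨v, hv⟩ := (Points.schemeEquiv V).surjective (Points.map snd p)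
    have hv' : Points.ofScheme V v = Points.map snd p := hv
    have hvg : Points.ofPt b v ∈ genericPoints (Points Y.obj) := hC1 v (hv' ▸ hmaps p hp)
    obtain ⟨P', a', h, p', ha'o, ha'snd, hp', hiso⟩ := (hfs v hvg).2 p hv'.symm
    exact ⟨P', V, a', 𝟙 _, h, p', ha'o, repWith_id _ _, by rw [ha'snd, Category.comp_id], hp', hiso⟩

end Groth.Agent.S10437
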