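import Groth.Statements.S10492
-- import your own Groth.Agent.* helpers here
import Groth.Agent.Lib.Helper36.NormalChart

set_option autoImplicit false
universe u
open CategoryTheory CategoryTheory.Limits AlgebraicGeometry Topology TopologicalSpace
open AlgSp

namespace Groth.Agent.S10492

open Groth.Agent.Lib.Helper36.NormalChart Groth.Agent.Lib.Helper37.AlgSpPoints
  Groth.Agent.Lib.Helper37.AlgSpFibres Groth.Agent.Lib.Helper30.DecentSober TopologicalSpace

/-- transfer of the normality of stalks along an open immersion -/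
theorem stalk_props_of_isOpenImmersion {A B : Scheme.{u}} (j : A ⟶ B) [IsOpenImmersion j]
    (h : ∀ b : ↥B, IsDomain ↥(B.presheaf.stalk b) ∧ IsIntegrallyClosed ↥(B.presheaf.stalk b))
    (a : ↥A) : IsDomain ↥(A.presheaf.stalk a) ∧ IsIntegrallyClosed ↥(A.presheaf.stalk a) := by
  let e : ↥(B.presheaf.stalk (j a)) ≃+* ↥(A.presheaf.stalk a) :=
    (asIso (j.stalkMap a)).commRingCatIsoToRingEquiv
  obtain ⟨h1, h2⟩ := h (j a)
  exact ⟨e.symm.toMulEquiv.isDomain _, IsIntegrallyClosed.of_equiv e⟩

/-- an affine integral scheme with integrally closed stalks has integrally closed global sections -/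
theorem isIntegrallyClosed_top {A : Scheme.{u}} [IsAffine A] [IsIntegral A]
    (h : ∀ a : ↥A, IsIntegrallyClosed ↥(A.presheaf.stalk a)) : IsIntegrallyClosed ↥Γ(A, ⊤) := by
  apply IsIntegrallyClosed.of_localization_maximal
  intro p _ hp
  have hA := isAffineOpen_top A
  let y : PrimeSpectrum ↥Γ(A, ⊤) := ⟨p, hp.isPrime⟩
  have hmem : hA.fromSpec y ∈ (⊤ : A.Opens) := trivial
  let _ := TopCat.Presheaf.algebra_section_stalk A.presheaf ⟨hA.fromSpec y, hmem⟩
  have hloc : IsLocalization.AtPrime ↥(A.presheaf.stalk (hA.fromSpec y)) p :=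
    hA.isLocalization_stalk' y hmem
  have e := IsLocalization.algEquiv p.primeCompl (Localization.AtPrime p)
    ↥(A.presheaf.stalk (hA.fromSpec y))
  have := h (hA.fromSpec y)
  exact IsIntegrallyClosed.of_equiv e.symm.toRingEquiv

/-- Let X be a normal integral algebraic space over a scheme S. Each point x of X lies in the image of
some etale morphism U ⟶ X from an affine scheme U that is normal and integral. -/
theorem result {S : Scheme.{u}} (X : AlgSp.Space S)
    (hXi : AlgSp.IsIntegralSp X.obj)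
    (hXn : AlgSp.EtaleLocally (fun U => ∀ u : ↥U, IsDomain ↥(U.presheaf.stalk u) ∧
      IsIntegrallyClosed ↥(U.presheaf.stalk u)) X.obj)
    (x : AlgSp.Points X.obj) :
    ∃ (U : Over S) (a : (AlgSp.yon S).obj U ⟶ X.obj), AlgSp.RepWith @Etale a ∧ IsAffine U.left ∧
      IsIntegral U.left ∧ IsIntegrallyClosed ↥Γ(U.left, ⊤) ∧ x ∈ Set.range (AlgSp.Points.ofPt a) := by
  obtain ⟨hred, hdec, hirr⟩ := hXi
  obtain ⟨U₀, p₀, hp₀e, hp₀s, hstalk⟩ := hXn
  obtain ⟨u₀, hu₀⟩ := ofPt_surjective p₀ hp₀s x
  obtain ⟨_, ⟨W, hW, rfl⟩, hu₀W, -⟩ :=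
    U₀.left.isBasis_affineOpens.exists_subset_of_mem_open (Set.mem_univ u₀) isOpen_univ
  have ha₀ := repWith_etale_restrict p₀ hp₀e W
  have hcW : CompactSpace ↥(openOver U₀ W).left := isCompact_iff_compactSpace.1 hW.isCompact
  have hqs : QuasiSober (Points X.obj) := quasiSober_of_isDecent X hdec
  obtain ⟨q, hq, -, hqc⟩ := hdec (genericPoint (Points X.obj))
  have hfin := finite_fibre_of_qc_point q hqc _ ha₀
  rw [hq] at hfin
  -- finitely many irreducible components on the affine chart
  have hcomp : (irreducibleComponents ↥(openOver U₀ W).left).Finite := by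
    refine (hfin.image (fun η => closure {η})).subset ?_
    intro Z hZ
    obtain ⟨η, hη⟩ := QuasiSober.sober hZ.1 (isClosed_of_mem_irreducibleComponents Z hZ)
    have hξη : genericPoint (Points X.obj) ⤳
        Points.ofPt ((yon S).map (openι U₀ W) ≫ p₀) η := genericPoint_specializes _
    obtain ⟨η', hη's, hη'⟩ := exists_specializes_lift_of_qc_point _ _ hξη q hq hqc
      ((yon S).map (openι U₀ W) ≫ p₀) ha₀ η rfl
    have hgen := closure_eq_of_specializes_generic hZ hη hη's
    exact ⟨η', hη', hgen.def⟩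
  -- stalks of the affine chart
  have hstalkW : ∀ y : ↥(openOver U₀ W).left,
      IsDomain ↥((openOver U₀ W).left.presheaf.stalk y) ∧
        IsIntegrallyClosed ↥((openOver U₀ W).left.presheaf.stalk y) :=
    fun y => stalk_props_of_isOpenImmersion (Scheme.Opens.ι (X := U₀.left) W) hstalk y
  -- the open set of points lying only on the component through `u₀`
  let u₀' : ↥(openOver U₀ W).left := ⟨u₀, hu₀W⟩
  have hdom : IsDomain ↥((openOver U₀ W).left.presheaf.stalk u₀') := (hstalkW u₀').1
  have hTfin : {Z ∈ irreducibleComponents ↥(openOver U₀ W).left | u₀' ∉ Z}.Finite :=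
    hcomp.subset fun Z hZ => hZ.1
  have hTcl : IsClosed (⋃ Z ∈ {Z ∈ irreducibleComponents ↥(openOver U₀ W).left | u₀' ∉ Z}, Z) :=
    hTfin.isClosed_biUnion fun Z hZ => isClosed_of_mem_irreducibleComponents Z hZ.1
  have hu₀O : u₀' ∈ (⋃ Z ∈ {Z ∈ irreducibleComponents ↥(openOver U₀ W).left | u₀' ∉ Z}, Z)ᶜ := by
    intro hmem
    simp only [Set.mem_iUnion] at hmem
    obtain ⟨Z, hZ, hu⟩ := hmem
    exact hZ.2 hu
  have hOsub : (⋃ Z ∈ {Z ∈ irreducibleComponents ↥(openOver U₀ W).left | u₀' ∉ Z}, Z)ᶜ ⊆
      irreducibleComponent u₀' := by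
    intro y hy
    have hyZ : y ∈ irreducibleComponent y := mem_irreducibleComponent
    have hZy := irreducibleComponent_mem_irreducibleComponents y
    have hu : u₀' ∈ irreducibleComponent y := by
      by_contra hcon
      apply hy
      simp only [Set.mem_iUnion]
      exact ⟨irreducibleComponent y, ⟨hZy, hcon⟩, hyZ⟩
    have := eq_of_mem_irreducibleComponents_of_isDomain u₀' hZy
      (irreducibleComponent_mem_irreducibleComponents u₀') hu mem_irreducibleComponent
    rw [← this]; exact hyZ
  obtain ⟨_, ⟨U, hU, rfl⟩, hu₀U, hUO⟩ :=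
    (openOver U₀ W).left.isBasis_affineOpens.exists_subset_of_mem_open hu₀O hTcl.isOpen_compl
  -- the chart
  have ha := repWith_etale_restrict ((yon S).map (openι U₀ W) ≫ p₀) ha₀ U
  have haff : IsAffine (openOver (openOver U₀ W) U).left := hU
  have hstalkU : ∀ y : ↥(openOver (openOver U₀ W) U).left,
      IsDomain ↥((openOver (openOver U₀ W) U).left.presheaf.stalk y) ∧
        IsIntegrallyClosed ↥((openOver (openOver U₀ W) U).left.presheaf.stalk y) :=
    fun y => stalk_props_of_isOpenImmersion (Scheme.Opens.ι (X := (openOver U₀ W).left) U) hstalkW y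
  have hirrU : IsIrreducible (U : Set ↥(openOver U₀ W).left) :=
    ⟨⟨u₀', hu₀U⟩, (isIrreducible_irreducibleComponent (x := u₀')).2.open_subset U.2
      (hUO.trans hOsub)⟩
  have hirrS : IrreducibleSpace ↥(openOver (openOver U₀ W) U).left :=
    Subtype.irreducibleSpace hirrU
  have hredU : IsReduced (openOver (openOver U₀ W) U).left := by
    have : ∀ y : ↥(openOver (openOver U₀ W) U).left,
        _root_.IsReduced ↥((openOver (openOver U₀ W) U).left.presheaf.stalk y) := by
      intro y
      have := (hstalkU y).1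
      infer_instance
    exact isReduced_of_isReduced_stalk _
  have hint : IsIntegral (openOver (openOver U₀ W) U).left :=
    isIntegral_of_irreducibleSpace_of_isReduced _
  refine ⟨openOver (openOver U₀ W) U, _, ha, haff, hint,
    isIntegrallyClosed_top fun y => (hstalkU y).2, ⟨⟨u₀', hu₀U⟩, ?_⟩⟩
  rw [ofPt_restrict, ofPt_restrict]
  exact hu₀

end Groth.Agent.S10492
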