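import Groth.Statements.S10438
-- import your own Groth.Agent.* helpers here
import Groth.Agent.S10437
import Groth.Agent.S10492
import Groth.Agent.Lib.Helper36.IntBirat
import Groth.Agent.Lib.Helper36.FieldBCRed
import Groth.Agent.Lib.Helper23.GenFin10
import Groth.Agent.Lib.Helper46.IsoFpqc

set_option autoImplicit false
universe u
open CategoryTheory CategoryTheory.Limits AlgebraicGeometry Topology TopologicalSpace
open AlgSp

namespace Groth.Agent.S10438

open Groth.Agent.Lib.Helper37.AlgSpPoints Groth.Agent.Lib.Helper37.AlgSpFibres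
  Groth.Agent.Lib.Helper30.DecentSober Groth.Agent.Lib.Helper36.NormalChart
  Groth.Agent.Lib.Helper36.IntBirat Groth.Agent.S10437

variable {S : Scheme.{u}}

/-- generic points correspond under a homeomorphism -/
theorem mem_genericPoints_homeo {A B : Type*} [TopologicalSpace A] [TopologicalSpace B] [T0Space A]
    [QuasiSober A] (h : A ≃ₜ B) (x : A) : h x ∈ genericPoints B ↔ x ∈ genericPoints A := by
  have : T0Space B := h.symm.isEmbedding.t0Space
  have : QuasiSober B := h.symm.isClosedEmbedding.quasiSober
  rw [mem_genericPoints_iff, mem_genericPoints_iff]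
  constructor
  · intro H t' ht'
    exact h.injective (H (h t') (h.isInducing.specializes_iff.2 ht'))
  · intro H t' ht'
    obtain ⟨s, rfl⟩ := h.surjective t'
    rw [H s (h.isInducing.specializes_iff.1 ht')]

theorem finite_irreducibleComponents_of_homeo {A B : Type*} [TopologicalSpace A]
    [TopologicalSpace B] [T0Space A] [QuasiSober A] (h : A ≃ₜ B)
    (hB : (irreducibleComponents B).Finite) : (irreducibleComponents A).Finite := by
  have : T0Space B := h.symm.isEmbedding.t0Space
  apply finite_irreducibleComponents_of_finite_genericPoints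
  have h1 : (genericPoints B).Finite := genericPoints.finite hB
  have : genericPoints A = h ⁻¹' genericPoints B := by
    ext x; exact (mem_genericPoints_homeo h x).symm
  rw [this]; exact h1.preimage h.injective.injOn

/-- a commutative square with open immersions as vertical maps transfers isomorphy of stalk maps -/
theorem isIso_stalkMap_of_sq {A B C D : Scheme.{u}} (α : A ⟶ B) (j : B ⟶ D) (g : A ⟶ C) (β : C ⟶ D)
    [IsOpenImmersion α] [IsOpenImmersion β] (h : α ≫ j = g ≫ β) (u : A) [hg : IsIso (g.stalkMap u)] :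
    IsIso (j.stalkMap (α u)) := by
  have hβ : IsIso (β.stalkMap (g u)) := inferInstance
  have hα : IsIso (α.stalkMap u) := inferInstance
  have h1 : IsIso ((α ≫ j).stalkMap u) := by
    rw [h, Scheme.Hom.stalkMap_comp]; exact IsIso.comp_isIso' hβ hg
  rw [Scheme.Hom.stalkMap_comp] at h1
  exact @IsIso.of_isIso_comp_right _ _ _ _ _ (j.stalkMap (α u)) (α.stalkMap u) hα h1

/-- the affine core: an integral birational morphism from a reduced affine scheme to a normal integral
affine scheme is an isomorphism -/
theorem isIso_left_of_isBirational {W V : Over S} [IsAffine W.left] [IsAffine V.left]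
    [IsIntegral V.left] (hV : IsIntegrallyClosed ↥Γ(V.left, ⊤)) [IsReduced W.left]
    (j : W ⟶ V) [IsIntegralHom j.left]
    (hbir : W4stk3decentspacesp2.IsBirational ((yon S).map j)) : IsIso j.left := by
  have hξV : Points.schemeHomeo V (genericPoint ↥V.left) ∈
      genericPoints (Points ((yon S).obj V)) := by
    rw [mem_genericPoints_homeo, genericPoints_eq_singleton]; rfl
  obtain ⟨x₀, hx₀, hx₀ξ⟩ := hbir.bijOn.surjOn hξV
  obtain ⟨w₀, rfl⟩ := (Points.schemeHomeo W).surjective x₀
  have hw₀ : w₀ ∈ genericPoints ↥W.left := (mem_genericPoints_homeo _ _).1 hx₀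
  have hjw₀ : j.left w₀ = genericPoint ↥V.left := by
    apply (Points.schemeHomeo V).injective
    rw [← Points.map_yon_map_apply]; exact hx₀ξ
  have huniq : ∀ w ∈ genericPoints ↥W.left, w = w₀ := by
    intro w hw
    have h1 : Points.schemeHomeo W w ∈ genericPoints (Points ((yon S).obj W)) :=
      (mem_genericPoints_homeo _ _).2 hw
    have h2 := hbir.bijOn.mapsTo h1
    rw [Points.map_yon_map_apply, mem_genericPoints_homeo, genericPoints_eq_singleton] at h2
    apply (Points.schemeHomeo W).injective
    apply hbir.bijOn.injOn h1 hx₀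
    rw [Points.map_yon_map_apply, Points.map_yon_map_apply, h2, hjw₀]
  have hcl : closure {w₀} = (Set.univ : Set ↥W.left) := by
    rw [← genericPoints.closure (α := ↥W.left)]
    congr 1
    ext w
    constructor
    · rintro rfl; exact hw₀
    · intro hw; exact huniq w hw
  have hirr : IrreducibleSpace ↥W.left := by
    have h3 : IsIrreducible (Set.univ : Set ↥W.left) := hcl ▸ isIrreducible_singleton.closure
    exact { isPreirreducible_univ := h3.2, toNonempty := ⟨w₀⟩ }
  have : IsIntegral W.left := isIntegral_of_irreducibleSpace_of_isReduced _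
  -- the stalk isomorphism
  obtain ⟨U, V', a, b, g, u, ha, hb, hcomm, hu, hiso⟩ := hbir.stalkIso _ hx₀
  obtain ⟨α, rfl⟩ := (yon S).map_surjective a
  obtain ⟨β, rfl⟩ := (yon S).map_surjective b
  have hαo : IsOpenImmersion α.left := (repWith_yon_map_iff _ _).1 ha
  have hβo : IsOpenImmersion β.left := (repWith_yon_map_iff _ _).1 hb
  have hsq : α ≫ j = g ≫ β := by
    apply (yon S).map_injective
    rw [Functor.map_comp, Functor.map_comp]; exact hcomm
  have hsql : α.left ≫ j.left = g.left ≫ β.left := by
    rw [← Over.comp_left, ← Over.comp_left, hsq]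
  have hαu : α.left u = w₀ := by
    apply (Points.schemeHomeo W).injective
    rw [← hu, ofPt_yon_map]; rfl
  have := hiso
  have h4 : IsIso (j.left.stalkMap (α.left u)) := isIso_stalkMap_of_sq α.left j.left g.left β.left hsql u
  rw [hαu] at h4
  have := h4
  exact isIso_of_integral_of_stalk_iso j.left w₀ hjw₀ hV

/-- normal integral affine étale charts through every point of the atlas -/
theorem exists_chart {X Y : AlgSp.Space S} (f : X ⟶ Y)
    (hX : AlgSp.IsDecent X.obj) (hY : AlgSp.IsDecent Y.obj)
    (hXf : (irreducibleComponents (AlgSp.Points X.obj)).Finite)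
    (hYf : (irreducibleComponents (AlgSp.Points Y.obj)).Finite)
    (hi : AlgSp.IsIntegralMor f.hom) (hf : W4stk3decentspacesp2.IsBirational f.hom)
    {U₀ : Over S} (p₀ : (yon S).obj U₀ ⟶ Y.obj) (hp₀e : RepWith @Etale p₀)
    (hstalk : ∀ t : ↥U₀.left, IsDomain ↥(U₀.left.presheaf.stalk t) ∧
      IsIntegrallyClosed ↥(U₀.left.presheaf.stalk t)) (u₀ : ↥U₀.left) :
    ∃ (V : Over S) (b : (yon S).obj V ⟶ Y.obj), RepWith @Etale b ∧ IsAffine V.left ∧
      IsIntegral V.left ∧ IsIntegrallyClosed ↥Γ(V.left, ⊤) ∧
        Points.ofPt p₀ u₀ ∈ Set.range (Points.ofPt b) := by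
  obtain ⟨_, ⟨W, hW, rfl⟩, hu₀W, -⟩ :=
    U₀.left.isBasis_affineOpens.exists_subset_of_mem_open (Set.mem_univ u₀) isOpen_univ
  have ha₀ := repWith_etale_restrict p₀ hp₀e W
  have haffW : IsAffine (openOver U₀ W).left := hW
  obtain ⟨W', i', fst', hpb', -, -⟩ := hi haffW ((yon S).map (openι U₀ W) ≫ p₀)
  have h3 := (Groth.Agent.S10437.result f hX hY hXf hYf hf ((yon S).map (openι U₀ W) ≫ p₀) ha₀ fst'
    ((yon S).map i') hpb').2.2.1
  have hcomp : (irreducibleComponents ↥(openOver U₀ W).left).Finite :=
    finite_irreducibleComponents_of_homeo (Points.schemeHomeo (openOver U₀ W)) h3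
  -- stalks of the affine chart
  have hstalkW : ∀ y : ↥(openOver U₀ W).left,
      IsDomain ↥((openOver U₀ W).left.presheaf.stalk y) ∧
        IsIntegrallyClosed ↥((openOver U₀ W).left.presheaf.stalk y) :=
    fun y => Groth.Agent.S10492.stalk_props_of_isOpenImmersion
      (Scheme.Opens.ι (X := U₀.left) W) hstalk y
  let u₀' : ↥(openOver U₀ W).left := ⟨u₀, hu₀W⟩
  have hdom : IsDomain ↥((openOver U₀ W).left.presheaf.stalk u₀') := (hstalkW u₀').1
  have hTfin : {Z ∈ irreducibleComponents ↥(openOver U₀ W).left | u₀' ∉ Z}.Finite :=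
    hcomp.subset fun Z hZ => hZ.1
  have hTcl : IsClosed (⋃ Z ∈ {Z ∈ irreducibleComponents ↥(openOver U₀ W).left | u₀' ∉ Z}, Z) :=
    hTfin.isClosed_biUnion fun Z hZ => isClosed_of_mem_irreducibleComponents Z hZ.1
  have hu₀O : u₀' ∈ (⋃ Z ∈ {Z ∈ irreducibleComponents ↥(openOver U₀ W).left | u₀' ∉ Z}, Z)ᶜ := by
    intro hmem
    simp only [Set.mem_iUnion] at hmem
    obtain ⟨Z, hZ, hu⟩ := hmem
    exact hZ.2 hu
  have hOsub : (⋃ Z ∈ {Z ∈ irreducibleComponents ↥(openOver U₀ W).left | u₀' ∉ Z}, Z)ᶜ ⊆
      irreducibleComponent u₀' := by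
    intro y hy
    have hyZ : y ∈ irreducibleComponent y := mem_irreducibleComponent
    have hZy := irreducibleComponent_mem_irreducibleComponents y
    have hu : u₀' ∈ irreducibleComponent y := by
      by_contra hcon
      apply hy
      simp only [Set.mem_iUnion]
      exact ⟨irreducibleComponent y, ⟨hZy, hcon⟩, hyZ⟩
    have := eq_of_mem_irreducibleComponents_of_isDomain u₀' hZy
      (irreducibleComponent_mem_irreducibleComponents u₀') hu mem_irreducibleComponent
    rw [← this]; exact hyZ
  obtain ⟨_, ⟨U, hU, rfl⟩, hu₀U, hUO⟩ :=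
    (openOver U₀ W).left.isBasis_affineOpens.exists_subset_of_mem_open hu₀O hTcl.isOpen_compl
  have ha := repWith_etale_restrict ((yon S).map (openι U₀ W) ≫ p₀) ha₀ U
  have haff : IsAffine (openOver (openOver U₀ W) U).left := hU
  have hstalkU : ∀ y : ↥(openOver (openOver U₀ W) U).left,
      IsDomain ↥((openOver (openOver U₀ W) U).left.presheaf.stalk y) ∧
        IsIntegrallyClosed ↥((openOver (openOver U₀ W) U).left.presheaf.stalk y) :=
    fun y => Groth.Agent.S10492.stalk_props_of_isOpenImmersion
      (Scheme.Opens.ι (X := (openOver U₀ W).left) U) hstalkW y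
  have hirrU : IsIrreducible (U : Set ↥(openOver U₀ W).left) :=
    ⟨⟨u₀', hu₀U⟩, (isIrreducible_irreducibleComponent (x := u₀')).2.open_subset U.2
      (hUO.trans hOsub)⟩
  have hirrS : IrreducibleSpace ↥(openOver (openOver U₀ W) U).left :=
    Subtype.irreducibleSpace hirrU
  have hredU : IsReduced (openOver (openOver U₀ W) U).left := by
    have : ∀ y : ↥(openOver (openOver U₀ W) U).left,
        _root_.IsReduced ↥((openOver (openOver U₀ W) U).left.presheaf.stalk y) := by
      intro y
      have := (hstalkU y).1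
      infer_instance
    exact isReduced_of_isReduced_stalk _
  have hint : IsIntegral (openOver (openOver U₀ W) U).left :=
    isIntegral_of_irreducibleSpace_of_isReduced _
  refine ⟨openOver (openOver U₀ W) U, _, ha, haff, hint,
    Groth.Agent.S10492.isIntegrallyClosed_top fun y => (hstalkU y).2, ⟨⟨u₀', hu₀U⟩, ?_⟩⟩
  rw [ofPt_restrict, ofPt_restrict]

/-- Take decent algebraic spaces X and Y over a scheme S, each with only finitely many irreducible
components in its space of points, and f : X ⟶ Y integral as well as birational. If Y is normal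
while X is reduced, f is an isomorphism. -/
theorem result {S : Scheme.{u}} {X Y : AlgSp.Space S} (f : X ⟶ Y)
    (hX : AlgSp.IsDecent X.obj) (hY : AlgSp.IsDecent Y.obj)
    (hXf : (irreducibleComponents (AlgSp.Points X.obj)).Finite)
    (hYf : (irreducibleComponents (AlgSp.Points Y.obj)).Finite)
    (hi : AlgSp.IsIntegralMor f.hom) (hf : W4stk3decentspacesp2.IsBirational f.hom)
    (hYn : AlgSp.EtaleLocally (fun T => ∀ t : ↥T, IsDomain ↥(T.presheaf.stalk t) ∧
      IsIntegrallyClosed ↥(T.presheaf.stalk t)) Y.obj)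
    (hXr : AlgSp.EtaleLocally (fun T => IsReduced T) X.obj) : IsIso f.hom := by
  obtain ⟨U₀, p₀, hp₀e, hp₀s, hstalk⟩ := hYn
  choose Vi b hbe haff hint hic hmem using fun u₀ : ↥U₀.left =>
    exists_chart f hX hY hXf hYf hi hf p₀ hp₀e hstalk u₀
  choose Wi ji fsti hpb hWaff hjint using fun u₀ : ↥U₀.left => hi (haff u₀) (b u₀)
  have hcov : IsFpqcCover (fun i => (yon S).obj (Vi i)) b :=
    Groth.Agent.Lib.Helper23.GenFin.isFpqcCover_of_etale_family Y.property Vi b hbe (by
      intro x
      obtain ⟨u₀, rfl⟩ := ofPt_surjective p₀ hp₀s x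
      refine ⟨u₀, ?_⟩
      rw [Groth.Agent.Lib.Helper36.DisjOpenGlue.range_map_eq_range_ofPt]
      exact hmem u₀)
  have key := Groth.Agent.Lib.Helper46.IsoFpqc.isLocalOnBase_isomorphisms
    (fun i => (yon S).obj (Vi i)) b Y.property (fun i => IsAlgSpace.yon_obj _) hcov f.hom X.property
    (fun i => (yon S).obj (Wi i)) (fun i => (yon S).map (ji i)) fsti
    (fun i => IsAlgSpace.yon_obj _) hpb
  refine key.2 fun i => ?_
  have := haff i
  have := hWaff i
  have := hint i
  have := hjint i
  have hbir := (Groth.Agent.S10437.result f hX hY hXf hYf hf (b i) (hbe i) (fsti i)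
    ((yon S).map (ji i)) (hpb i)).2.2.2
  have hred : IsReduced (Wi i).left := by
    have hfe : RepWith @Etale (fsti i) := (RepWith @Etale).of_isPullback (hpb i).flip (hbe i)
    have : ∀ w, _root_.IsReduced ↥((Wi i).left.presheaf.stalk w) := fun w =>
      Groth.Agent.Lib.Helper36.FieldBCRed.isReduced_stalk_of_etaleLocally hXr (fsti i) hfe w
    exact isReduced_of_isReduced_stalk _
  have hiso : IsIso (ji i).left := isIso_left_of_isBirational (hic i) (ji i) hbir
  have hiso' : IsIso ((Over.forget S).map (ji i)) := hiso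
  have : IsIso (ji i) := isIso_of_reflects_iso (ji i) (Over.forget S)
  show IsIso ((yon S).map (ji i))
  infer_instance

end Groth.Agent.S10438
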