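import Groth.Statements.S10440
import Groth.Agent.Lib.Helper30.ElemNbhd
import Groth.Agent.Lib.Helper30.HensLift

set_option autoImplicit false
universe u
open CategoryTheory CategoryTheory.Limits AlgebraicGeometry Topology TopologicalSpace
open AlgSp

namespace Groth.Agent.S10440

open Groth.Agent.Lib.Helper30.HensLift Groth.Agent.Lib.Helper37.AlgSpPoints
  Groth.Agent.Lib.Helper37.AlgSpDecent Groth.Agent.Lib.Helper36.AlgSpCharts

/-- A morphism of elementary étale neighbourhoods induces a bijection on residue fields. -/
theorem residueFieldMap_bijective_of_elem {S : Scheme.{u}} (X : AlgSp.Space S)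
    {x : AlgSp.Points X.obj} {U U' : Over S}
    (a : (AlgSp.yon S).obj U ⟶ X.obj) (a' : (AlgSp.yon S).obj U' ⟶ X.obj) (g : U' ⟶ U)
    (u' : ↥U'.left) (hg : (AlgSp.yon S).map g ≫ a = a')
    (ha : AlgSp.IsElemEtaleNbhd a (g.left.base u') x) (ha' : AlgSp.IsElemEtaleNbhd a' u' x) :
    Function.Bijective (g.left.residueFieldMap u').hom := by
  subst hg
  set a' := (AlgSp.yon S).map g ≫ a with ha'def
  have hmk : Points.mk (FieldPt.ofPt a (g.left.base u')) = Points.mk (FieldPt.ofPt a' u') :=
    ha.ofPt_eq.trans ha'.ofPt_eq.symm
  have hrep : Representable (FieldPt.ofPt a (g.left.base u')).toHom :=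
    X.property.representable_from_yon _
  have hrep' : Representable (FieldPt.ofPt a' u').toHom := X.property.representable_from_yon _
  have hm := ha.mono
  have hm' := ha'.mono
  obtain ⟨c, hc⟩ := exists_factor_of_mono_fieldPt (FieldPt.ofPt a (g.left.base u'))
    (FieldPt.ofPt a' u') hmk hm hrep
  obtain ⟨c', hc'⟩ := exists_factor_of_mono_fieldPt (FieldPt.ofPt a' u')
    (FieldPt.ofPt a (g.left.base u')) hmk.symm hm' hrep'
  have hcc : c ≫ c' = 𝟙 _ := by
    apply (AlgSp.yon S).map_injective
    rw [← cancel_mono (FieldPt.ofPt a' u').toHom, Functor.map_comp, Category.assoc, hc', hc,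
      CategoryTheory.Functor.map_id, Category.id_comp]
  have hcc' : c' ≫ c = 𝟙 _ := by
    apply (AlgSp.yon S).map_injective
    rw [← cancel_mono (FieldPt.ofPt a (g.left.base u')).toHom, Functor.map_comp, Category.assoc,
      hc, hc', CategoryTheory.Functor.map_id, Category.id_comp]
  -- the residue field map as a morphism over `S`
  have hnat : Spec.map (g.left.residueFieldMap u') ≫ U.left.fromSpecResidueField (g.left.base u') =
      U'.left.fromSpecResidueField u' ≫ g.left :=
    Scheme.Hom.SpecMap_residueFieldMap_fromSpecResidueField g.left u'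
  let ιO : (FieldPt.ofPt a' u').pt ⟶ (FieldPt.ofPt a (g.left.base u')).pt :=
    Over.homMk (Spec.map (g.left.residueFieldMap u')) (by
      show Spec.map (g.left.residueFieldMap u') ≫
        (U.left.fromSpecResidueField (g.left.base u') ≫ U.hom) =
          U'.left.fromSpecResidueField u' ≫ U'.hom
      rw [← Category.assoc, hnat, Category.assoc, Over.w g])
  let jO : (FieldPt.ofPt a (g.left.base u')).pt ⟶ U :=
    Over.homMk (U.left.fromSpecResidueField (g.left.base u')) rfl
  let jO' : (FieldPt.ofPt a' u').pt ⟶ U' := Over.homMk (U'.left.fromSpecResidueField u') rfl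
  have hP : (FieldPt.ofPt a (g.left.base u')).toHom = (AlgSp.yon S).map jO ≫ a :=
    FieldPt.toHom_ofPt a _
  have hP' : (FieldPt.ofPt a' u').toHom = (AlgSp.yon S).map jO' ≫ a' := FieldPt.toHom_ofPt a' u'
  have hsq : ιO ≫ jO = jO' ≫ g := by
    apply Over.OverMorphism.ext
    exact hnat
  have hι : (AlgSp.yon S).map ιO ≫ (FieldPt.ofPt a (g.left.base u')).toHom =
      (FieldPt.ofPt a' u').toHom := by
    rw [hP, hP', ← Category.assoc, ← Functor.map_comp, hsq, Functor.map_comp,
      Category.assoc]
  have hιc : ιO = c := by
    apply (AlgSp.yon S).map_injective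
    rw [← cancel_mono (FieldPt.ofPt a (g.left.base u')).toHom, hι, hc]
  obtain ⟨ψ', hψ'⟩ : ∃ ψ' : U'.left.residueField u' ⟶ U.left.residueField (g.left.base u'),
      Spec.map ψ' = c'.left := Spec.map_surjective c'.left
  have h1 : ψ' ≫ g.left.residueFieldMap u' = 𝟙 _ := by
    apply Spec.map_injective
    have e1 : Spec.map (g.left.residueFieldMap u') = c.left := congrArg (fun t => t.left) hιc
    have e2 : c.left ≫ c'.left = 𝟙 _ := by
      rw [← Over.comp_left, hcc]
      rfl
    rw [Spec.map_comp, hψ', e1, Spec.map_id]
    exact e2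
  refine ⟨RingHom.injective _, fun y => ⟨ψ'.hom y, ?_⟩⟩
  exact congrArg (fun t => t.hom y) h1

/-- For a decent algebraic space X over a scheme S and x ∈ |X|, let g : (U', u') ⟶ (U, u) be a morphism
of elementary etale neighbourhoods of (X, x). If R is a henselization of O_{U', u'} then, through
the local ring map O_{U, u} ⟶ O_{U', u'} induced by g, R is a henselization of O_{U, u} as well.
(The published statement identifies the henselian local ring at x, defined as the colimit of global
sections over all elementary etale neighbourhoods, with the henselization of O_{U, u}; that ring is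
not a separate construction here, and this row states the resulting independence of the
henselization from the chosen neighbourhood.) -/
theorem result {S : Scheme.{u}} (X : AlgSp.Space S)
    (hX : AlgSp.IsDecent X.obj) (x : AlgSp.Points X.obj) {U U' : Over S}
    (a : (AlgSp.yon S).obj U ⟶ X.obj) (a' : (AlgSp.yon S).obj U' ⟶ X.obj) (g : U' ⟶ U) (u' : ↥U'.left)
    (hg : (AlgSp.yon S).map g ≫ a = a') (ha : AlgSp.IsElemEtaleNbhd a (g.left.base u') x)
    (ha' : AlgSp.IsElemEtaleNbhd a' u' x) (R : Type u) [CommRing R] [IsLocalRing R]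
    [Algebra ↥(U'.left.presheaf.stalk u') R] [IsLocalHom (algebraMap ↥(U'.left.presheaf.stalk u') R)]
    [Hensel.IsHenselization ↥(U'.left.presheaf.stalk u') R] :
    letI : Algebra ↥(U.left.presheaf.stalk (g.left.base u')) R :=
      ((algebraMap ↥(U'.left.presheaf.stalk u') R).comp (g.left.stalkMap u').hom).toAlgebra
    ∃ (_ : IsLocalHom (algebraMap ↥(U.left.presheaf.stalk (g.left.base u')) R)),
      Hensel.IsHenselization ↥(U.left.presheaf.stalk (g.left.base u')) R := by
  haveI : Etale g.left := etale_of_comp_eq a' a g ha'.etale ha.etale hg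
  have hb := residueFieldMap_bijective_of_elem X a a' g u' hg ha ha'
  exact isHenselization_stalk_of_etale g.left u' hb R

end Groth.Agent.S10440
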