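import Groth.Statements.S10441
import Groth.Agent.Lib.Helper30.ElemBranch

set_option autoImplicit false
universe u
open CategoryTheory CategoryTheory.Limits AlgebraicGeometry Topology TopologicalSpace
open AlgSp

namespace Groth.Agent.S10441

open Groth.Agent.Lib.Helper30.ElemBranch Groth.Agent.Lib.Helper87

/-- For a decent algebraic space X over a scheme S and x ∈ |X|, fix an elementary etale neighbourhood
(U₀, u₀) of (X, x) and a henselization R of O_{U₀, u₀} (a model of the henselian local ring at x).
The following are equivalent: (1) O_{U, u} has exactly one minimal prime whenever (U, u) is an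
elementary etale neighbourhood of (X, x); (2) a unique irreducible component of U passes through u
for all such (U, u); (3) O_{U, u} is unibranch for all such (U, u); (4) R has exactly one minimal
prime. -/
theorem result {S : Scheme.{u}} (X : AlgSp.Space S)
    (hX : AlgSp.IsDecent X.obj) (x : AlgSp.Points X.obj) {U₀ : Over S}
    (a₀ : (AlgSp.yon S).obj U₀ ⟶ X.obj) (u₀ : ↥U₀.left) (h₀ : AlgSp.IsElemEtaleNbhd a₀ u₀ x)
    (R : Type u) [CommRing R] [IsLocalRing R] [Algebra ↥(U₀.left.presheaf.stalk u₀) R]
    [IsLocalHom (algebraMap ↥(U₀.left.presheaf.stalk u₀) R)] [Hensel.IsHenselization ↥(U₀.left.presheaf.stalk u₀) R] :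
    ((∀ (U : Over S) (a : (AlgSp.yon S).obj U ⟶ X.obj) (u : ↥U.left), AlgSp.IsElemEtaleNbhd a u x →
        CAlgX.HasUniqueMinimalPrime ↥(U.left.presheaf.stalk u)) ↔
      (∀ (U : Over S) (a : (AlgSp.yon S).obj U ⟶ X.obj) (u : ↥U.left), AlgSp.IsElemEtaleNbhd a u x →
        {Z : Set ↥U.left | Z ∈ irreducibleComponents ↥U.left ∧ u ∈ Z}.encard = 1)) ∧
    ((∀ (U : Over S) (a : (AlgSp.yon S).obj U ⟶ X.obj) (u : ↥U.left), AlgSp.IsElemEtaleNbhd a u x →
        {Z : Set ↥U.left | Z ∈ irreducibleComponents ↥U.left ∧ u ∈ Z}.encard = 1) ↔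
      (∀ (U : Over S) (a : (AlgSp.yon S).obj U ⟶ X.obj) (u : ↥U.left), AlgSp.IsElemEtaleNbhd a u x →
        CAlg2.IsUnibranch ↥(U.left.presheaf.stalk u))) ∧
    ((∀ (U : Over S) (a : (AlgSp.yon S).obj U ⟶ X.obj) (u : ↥U.left), AlgSp.IsElemEtaleNbhd a u x →
        CAlg2.IsUnibranch ↥(U.left.presheaf.stalk u)) ↔ CAlgX.HasUniqueMinimalPrime R) := by
  classical
  have key : ∀ (U : Over S) (a : (AlgSp.yon S).obj U ⟶ X.obj) (u : ↥U.left),
      AlgSp.IsElemEtaleNbhd a u x →
      Brnch.numBranchesAt U.left u = (minimalPrimes R).encard := fun U a u h =>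
    numBranchesAt_eq_encard X h h₀ R
  have hcomp : ∀ (U : Over S) (u : ↥U.left),
      {Z : Set ↥U.left | Z ∈ irreducibleComponents ↥U.left ∧ u ∈ Z}.encard =
        (minimalPrimes ↥(U.left.presheaf.stalk u)).encard := fun U u =>
    CompStalk.encard_irreducibleComponents_mem_eq U.left u
  refine ⟨?_, ?_, ?_⟩
  · -- A ↔ B
    refine forall_congr' fun U => forall_congr' fun a => forall_congr' fun u =>
      imp_congr_right fun _ => ?_
    rw [hcomp U u, hasUniqueMinimalPrime_iff]
  · -- B ↔ C
    constructor
    · intro hB U a u h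
      rw [← Groth.Agent.S9235.result]
      by_contra hne
      have h1 : 1 ≤ Brnch.numBranches ↥(U.left.presheaf.stalk u) := one_le_numBranches _
      have h2 : ((2 : ℕ) : ℕ∞) ≤ Brnch.numBranchesAt U.left u := by
        show ((2 : ℕ) : ℕ∞) ≤ Brnch.numBranches ↥(U.left.presheaf.stalk u)
        have : (1 : ℕ∞) < Brnch.numBranches ↥(U.left.presheaf.stalk u) :=
          lt_of_le_of_ne h1 (Ne.symm hne)
        have h3 := Order.add_one_le_of_lt this
        norm_num at h3 ⊢
        exact h3
      obtain ⟨U', a', u', h', hle⟩ := exists_elem_le h 2 h2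
      rw [hB U' a' u' h'] at hle
      norm_num at hle
    · intro hC U a u h
      have h1 := (Groth.Agent.S9235.result _).2 (hC U a u h)
      apply le_antisymm
      · have := encard_comps_le U.left u
        rw [show Brnch.numBranchesAt U.left u = 1 from h1] at this
        exact this
      · rw [hcomp U u]
        exact one_le_encard_minimalPrimes _
  · -- C ↔ D
    constructor
    · intro hC
      exact Unibranch.hasUniqueMinimalPrime_of_isUnibranch _ R (hC U₀ a₀ u₀ h₀)
    · intro hD U a u h
      rw [← Groth.Agent.S9235.result]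
      have := key U a u h
      rw [(hasUniqueMinimalPrime_iff R).1 hD] at this
      exact this

end Groth.Agent.S10441
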