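import Groth.Statements.S10442
import Groth.Agent.Lib.Helper30.ElemBranch

set_option autoImplicit false
universe u
open CategoryTheory CategoryTheory.Limits AlgebraicGeometry Topology TopologicalSpace
open AlgSp

namespace Groth.Agent.S10442

open Groth.Agent.Lib.Helper30.ElemBranch Groth.Agent.Lib.Helper87

/-- For a decent algebraic space X over a scheme S, x ∈ |X| and n ≥ 1, fix an elementary etale
neighbourhood (U₀, u₀) of (X, x) and a henselization R of O_{U₀, u₀} (a model of the henselian local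
ring at x). The following are equivalent: (1) over all elementary etale neighbourhoods (U, u) of (X,
x), O_{U, u} has at most n minimal primes, with the value n attained; (2) the same for the number of
irreducible components of U through u; (3) the same for the branch number of U at u; (4) R has
exactly n minimal primes. -/
theorem result {S : Scheme.{u}} (X : AlgSp.Space S)
    (hX : AlgSp.IsDecent X.obj) (x : AlgSp.Points X.obj) (n : ℕ) (hn : 1 ≤ n) {U₀ : Over S}
    (a₀ : (AlgSp.yon S).obj U₀ ⟶ X.obj) (u₀ : ↥U₀.left) (h₀ : AlgSp.IsElemEtaleNbhd a₀ u₀ x)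
    (R : Type u) [CommRing R] [IsLocalRing R] [Algebra ↥(U₀.left.presheaf.stalk u₀) R]
    [IsLocalHom (algebraMap ↥(U₀.left.presheaf.stalk u₀) R)] [Hensel.IsHenselization ↥(U₀.left.presheaf.stalk u₀) R] :
    (((∀ (U : Over S) (a : (AlgSp.yon S).obj U ⟶ X.obj) (u : ↥U.left), AlgSp.IsElemEtaleNbhd a u x →
        (minimalPrimes ↥(U.left.presheaf.stalk u)).encard ≤ n) ∧
      (∃ (U : Over S) (a : (AlgSp.yon S).obj U ⟶ X.obj) (u : ↥U.left), AlgSp.IsElemEtaleNbhd a u x ∧
        (minimalPrimes ↥(U.left.presheaf.stalk u)).encard = n)) ↔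
     ((∀ (U : Over S) (a : (AlgSp.yon S).obj U ⟶ X.obj) (u : ↥U.left), AlgSp.IsElemEtaleNbhd a u x →
        {Z : Set ↥U.left | Z ∈ irreducibleComponents ↥U.left ∧ u ∈ Z}.encard ≤ n) ∧
      (∃ (U : Over S) (a : (AlgSp.yon S).obj U ⟶ X.obj) (u : ↥U.left), AlgSp.IsElemEtaleNbhd a u x ∧
        {Z : Set ↥U.left | Z ∈ irreducibleComponents ↥U.left ∧ u ∈ Z}.encard = n))) ∧
    (((∀ (U : Over S) (a : (AlgSp.yon S).obj U ⟶ X.obj) (u : ↥U.left), AlgSp.IsElemEtaleNbhd a u x →
        {Z : Set ↥U.left | Z ∈ irreducibleComponents ↥U.left ∧ u ∈ Z}.encard ≤ n) ∧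
      (∃ (U : Over S) (a : (AlgSp.yon S).obj U ⟶ X.obj) (u : ↥U.left), AlgSp.IsElemEtaleNbhd a u x ∧
        {Z : Set ↥U.left | Z ∈ irreducibleComponents ↥U.left ∧ u ∈ Z}.encard = n)) ↔
     ((∀ (U : Over S) (a : (AlgSp.yon S).obj U ⟶ X.obj) (u : ↥U.left), AlgSp.IsElemEtaleNbhd a u x →
        Brnch.numBranchesAt U.left u ≤ n) ∧
      (∃ (U : Over S) (a : (AlgSp.yon S).obj U ⟶ X.obj) (u : ↥U.left), AlgSp.IsElemEtaleNbhd a u x ∧
        Brnch.numBranchesAt U.left u = n))) ∧
    (((∀ (U : Over S) (a : (AlgSp.yon S).obj U ⟶ X.obj) (u : ↥U.left), AlgSp.IsElemEtaleNbhd a u x →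
        Brnch.numBranchesAt U.left u ≤ n) ∧
      (∃ (U : Over S) (a : (AlgSp.yon S).obj U ⟶ X.obj) (u : ↥U.left), AlgSp.IsElemEtaleNbhd a u x ∧
        Brnch.numBranchesAt U.left u = n)) ↔
     (minimalPrimes R).encard = n) := by
  classical
  have key : ∀ (U : Over S) (a : (AlgSp.yon S).obj U ⟶ X.obj) (u : ↥U.left),
      AlgSp.IsElemEtaleNbhd a u x →
      Brnch.numBranchesAt U.left u = (minimalPrimes R).encard := fun U a u h =>
    numBranchesAt_eq_encard X h h₀ R
  have hcomp : ∀ (U : Over S) (u : ↥U.left),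
      {Z : Set ↥U.left | Z ∈ irreducibleComponents ↥U.left ∧ u ∈ Z}.encard =
        (minimalPrimes ↥(U.left.presheaf.stalk u)).encard := fun U u =>
    CompStalk.encard_irreducibleComponents_mem_eq U.left u
  have hle : ∀ (U : Over S) (a : (AlgSp.yon S).obj U ⟶ X.obj) (u : ↥U.left),
      AlgSp.IsElemEtaleNbhd a u x →
      {Z : Set ↥U.left | Z ∈ irreducibleComponents ↥U.left ∧ u ∈ Z}.encard ≤
        (minimalPrimes R).encard := fun U a u h => by
    rw [← key U a u h]
    exact encard_comps_le U.left u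
  refine ⟨?_, ?_, ?_⟩
  · -- P1 ↔ P2
    refine and_congr ?_ ?_
    · refine forall_congr' fun U => forall_congr' fun a => forall_congr' fun u =>
        imp_congr_right fun _ => ?_
      rw [hcomp U u]
    · refine exists_congr fun U => exists_congr fun a => exists_congr fun u =>
        and_congr_right fun _ => ?_
      rw [hcomp U u]
  · -- P2 ↔ P3
    constructor
    · rintro ⟨hall, U, a, u, h, he⟩
      have hb : (minimalPrimes R).encard = n := by
        apply le_antisymm
        · by_contra hlt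
          rw [not_le] at hlt
          have h3 : ((n + 1 : ℕ) : ℕ∞) ≤ Brnch.numBranchesAt U₀.left u₀ := by
            rw [key U₀ a₀ u₀ h₀]
            have := Order.add_one_le_of_lt hlt
            push_cast
            exact this
          obtain ⟨U', a', u', h', hle'⟩ := exists_elem_le h₀ (n + 1) h3
          have h4 := hle'.trans (hall U' a' u' h')
          have h5 : (n + 1 : ℕ) ≤ n := by exact_mod_cast h4
          omega
        · rw [← he]
          exact hle U a u h
      refine ⟨fun U' a' u' h' => ?_, U₀, a₀, u₀, h₀, ?_⟩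
      · rw [key U' a' u' h', hb]
      · rw [key U₀ a₀ u₀ h₀, hb]
    · rintro ⟨hall, U, a, u, h, he⟩
      have hb : (minimalPrimes R).encard = n := by
        rw [← key U a u h, he]
      refine ⟨fun U' a' u' h' => ?_, ?_⟩
      · rw [← hb]
        exact hle U' a' u' h'
      · have h3 : ((n : ℕ) : ℕ∞) ≤ Brnch.numBranchesAt U₀.left u₀ := by
          rw [key U₀ a₀ u₀ h₀, hb]
        obtain ⟨U', a', u', h', hle'⟩ := exists_elem_le h₀ n h3
        refine ⟨U', a', u', h', le_antisymm ?_ hle'⟩
        rw [← hb]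
        exact hle U' a' u' h'
  · -- P3 ↔ P4
    constructor
    · rintro ⟨-, U, a, u, h, he⟩
      rw [← key U a u h, he]
    · intro hb
      refine ⟨fun U' a' u' h' => ?_, U₀, a₀, u₀, h₀, ?_⟩
      · rw [key U' a' u' h', hb]
      · rw [key U₀ a₀ u₀ h₀, hb]

end Groth.Agent.S10442
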