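import Groth.Statements.S10445
-- import your own Groth.Agent.* helpers here
import Groth.Agent.Lib.Helper36.FibrePts2
import Groth.Agent.Lib.Helper84.TopDim

set_option autoImplicit false
universe u
open CategoryTheory CategoryTheory.Limits AlgebraicGeometry Topology TopologicalSpace
open AlgSp

namespace Groth.Agent.S10445

open Groth.Agent.Lib.Helper36.FibrePts Groth.Agent.Lib.Helper36.QFLocus
  Groth.Agent.Lib.Helper36.FibreDimZero Groth.Agent.Lib.Helper30.DecentDim
  Groth.Agent.Lib.Helper37.AlgSpPoints Groth.Agent.Lib.Helper37.AlgSpFibres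

/-- a point of local dimension zero has an open neighbourhood of dimension at most zero -/
theorem exists_open_of_localDim_eq_zero {A : Type*} [TopologicalSpace A] (a : A)
    (h : FlatMor.localDim A a = 0) :
    ∃ W : Opens A, a ∈ W ∧ topologicalKrullDim ↥((W : Opens A) : Set A) ≤ 0 := by
  obtain ⟨W, hW⟩ : ∃ W : {U : Opens A // a ∈ U},
      topologicalKrullDim ↥((W.1 : Opens A) : Set A) ≤ 0 := by
    by_contra hcon
    push Not at hcon
    have h1 : (1 : WithBot ℕ∞) ≤ FlatMor.localDim A a :=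
      le_iInf fun W => one_le_of_pos _ (hcon W)
    rw [h] at h1
    exact absurd h1 (by decide)
  exact ⟨W.1, W.2, hW⟩

/-- in a space of dimension at most zero, specializations between distinct points of a T0 space
do not exist -/
theorem eq_of_specializes_of_dim_le_zero {A : Type*} [TopologicalSpace A] [T0Space A]
    (h : topologicalKrullDim A ≤ 0) (a b : A) (hs : a ⤳ b) : a = b := by
  by_contra hne
  have hchain : IsSpecChain (n := 1) (fun i : Fin 2 => if i = 0 then b else a) := by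
    intro i
    have hi : i = 0 := Subsingleton.elim _ _
    subst hi
    refine ⟨by simpa using hs, fun hs' => hne ?_⟩
    have hs'' : b ⤳ a := by simpa using hs'
    exact (hs.antisymm hs'').eq
  have := le_topologicalKrullDim_of_chain _ hchain
  have h2 : ((1 : ℕ) : WithBot ℕ∞) ≤ 0 := this.trans h
  exact absurd h2 (by decide)

/-- Take f : X ⟶ Y locally of finite type between algebraic spaces over a scheme S, a field-valued point
Spec k ⟶ Y with class y, the fibre product X_k = Spec k ×_Y X, x ∈ |X| over y, x̃ ∈ |X_k| over x,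
and F = |f|⁻¹(y) with the induced topology. Numbering the conditions (1) dim_x F = 0, (2) x isolated
in F, (3) x closed in F with no proper generization in F, (4) dim_{x̃} |X_k| = 0, (5) x̃ isolated in
|X_k|, (6) x̃ closed in |X_k| with no proper generization, (7) dim_{x̃}(X_k) = 0 (local dimension of
an etale chart), (8) f quasi-finite at x: (5) ⇔ (6) ⇔ (7) ⇔ (8); (4) ⇔ (5) when X_k is decent; (2) ⇔
(5) and (3) ⇔ (6) when Y is decent; (1) ⇔ (2) when X and Y are decent. -/
theorem result {S : Scheme.{u}} {X Y : AlgSp.Space S} (f : X ⟶ Y)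
    (hf : AlgSp.LocP @LocallyOfFiniteType f.hom) (r : AlgSp.FieldPt Y.obj) (Xk : AlgSp.Space S) (fst : Xk ⟶ X)
    (snd : Xk.obj ⟶ (AlgSp.yon S).obj r.pt) (hsq : IsPullback fst.hom snd f.hom r.toHom)
    (x : AlgSp.Points X.obj) (hx : x ∈ (AlgSp.Points.map f.hom ⁻¹' {AlgSp.Points.mk r})) (xt : AlgSp.Points Xk.obj)
    (hxt : AlgSp.Points.map fst.hom xt = x) :
    ((IsOpen ({xt} : Set (AlgSp.Points Xk.obj)) ↔
      IsClosed ({xt} : Set (AlgSp.Points Xk.obj)) ∧ ∀ x' : AlgSp.Points Xk.obj, x' ⤳ xt → x' = xt) ∧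
    (IsOpen ({xt} : Set (AlgSp.Points Xk.obj)) ↔ AlgSp.HasAt (fun U u => FlatMor.localDim ↥U u = 0) Xk.obj xt) ∧
    (AlgSp.HasAt (fun U u => FlatMor.localDim ↥U u = 0) Xk.obj xt ↔ AlgSp.HasAtMor (fun U _ h u => ∃ W : U.Opens, u ∈ W ∧ LocallyQuasiFinite (W.ι ≫ h) ∧ LocallyOfFiniteType (W.ι ≫ h)) f.hom x) ∧
    (AlgSp.IsDecent Xk.obj →
      (FlatMor.localDim (AlgSp.Points Xk.obj) xt = 0 ↔ IsOpen ({xt} : Set (AlgSp.Points Xk.obj)))) ∧
    (AlgSp.IsDecent Y.obj →
      (IsOpen ({(⟨x, hx⟩ : ↥(AlgSp.Points.map f.hom ⁻¹' {AlgSp.Points.mk r}))} : Set ↥(AlgSp.Points.map f.hom ⁻¹' {AlgSp.Points.mk r})) ↔ IsOpen ({xt} : Set (AlgSp.Points Xk.obj))) ∧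
      ((IsClosed ({(⟨x, hx⟩ : ↥(AlgSp.Points.map f.hom ⁻¹' {AlgSp.Points.mk r}))} : Set ↥(AlgSp.Points.map f.hom ⁻¹' {AlgSp.Points.mk r})) ∧ ∀ x' : ↥(AlgSp.Points.map f.hom ⁻¹' {AlgSp.Points.mk r}), x' ⤳ (⟨x, hx⟩ : ↥(AlgSp.Points.map f.hom ⁻¹' {AlgSp.Points.mk r})) → x' = (⟨x, hx⟩ : ↥(AlgSp.Points.map f.hom ⁻¹' {AlgSp.Points.mk r}))) ↔
        IsClosed ({xt} : Set (AlgSp.Points Xk.obj)) ∧ ∀ x' : AlgSp.Points Xk.obj, x' ⤳ xt → x' = xt)) ∧
    (AlgSp.IsDecent Y.obj → AlgSp.IsDecent X.obj →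
      (FlatMor.localDim ↥(AlgSp.Points.map f.hom ⁻¹' {AlgSp.Points.mk r}) (⟨x, hx⟩ : ↥(AlgSp.Points.map f.hom ⁻¹' {AlgSp.Points.mk r})) = 0 ↔ IsOpen ({(⟨x, hx⟩ : ↥(AlgSp.Points.map f.hom ⁻¹' {AlgSp.Points.mk r}))} : Set ↥(AlgSp.Points.map f.hom ⁻¹' {AlgSp.Points.mk r}))))) := by
  have hfx : Points.map f.hom x = Points.mk r := hx
  have P1 := isOpen_singleton_iff_closed f hf r Xk.obj Xk.property fst.hom snd hsq xt
  have P2 := isOpen_singleton_iff_hasAt f hf r Xk.obj Xk.property fst.hom snd hsq xt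
  have P3 := hasAt_iff_hasAtMor f hf r Xk.obj Xk.property fst.hom snd hsq xt
  rw [hxt] at P3
  have P23 : IsOpen ({xt} : Set (Points Xk.obj)) ↔ x ∈ qfLocus f := by
    rw [P2, P3, Groth.Agent.S10313.hasAtMor_lqf_iff_mem_qfLocus f hf x]
  have hind : Topology.IsInducing (Subtype.val :
      ↥(Points.map f.hom ⁻¹' {Points.mk r}) → Points X.obj) := Topology.IsInducing.subtypeVal
  -- isolated in the fibre, in terms of an open set of `|X|`
  have hiso_iff : IsOpen ({(⟨x, hx⟩ : ↥(Points.map f.hom ⁻¹' {Points.mk r}))} :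
      Set ↥(Points.map f.hom ⁻¹' {Points.mk r})) ↔
      ∃ O : Set (Points X.obj), IsOpen O ∧ x ∈ O ∧
        ∀ x' ∈ O, Points.map f.hom x' = Points.map f.hom x → x' = x := by
    rw [hind.isOpen_iff]
    constructor
    · rintro ⟨O, hO, hOeq⟩
      refine ⟨O, hO, ?_, ?_⟩
      · have : (⟨x, hx⟩ : ↥(Points.map f.hom ⁻¹' {Points.mk r})) ∈ Subtype.val ⁻¹' O := by
          rw [hOeq]; rfl
        exact this
      · intro x' hx' he
        have hx'F : x' ∈ Points.map f.hom ⁻¹' {Points.mk r} := he.trans hfx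
        have : (⟨x', hx'F⟩ : ↥(Points.map f.hom ⁻¹' {Points.mk r})) ∈ Subtype.val ⁻¹' O := hx'
        rw [hOeq] at this
        exact congrArg Subtype.val (Set.mem_singleton_iff.1 this)
    · rintro ⟨O, hO, hxO, hiso⟩
      refine ⟨O, hO, ?_⟩
      ext z
      constructor
      · intro hz
        exact Subtype.ext (hiso z.1 hz (z.2.trans hfx.symm))
      · intro hz
        rw [Set.mem_singleton_iff.1 hz]
        exact hxO
  refine ⟨P1, P2, P3, ?_, ?_, ?_⟩
  · -- P4
    intro hXk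
    constructor
    · intro hd
      obtain ⟨W, c, hce, hcs⟩ := Xk.property.atlas
      obtain ⟨w, hw⟩ := ofPt_surjective c hcs xt
      rw [P2]
      refine ⟨W, c, w, hce, hw, ?_⟩
      show FlatMor.localDim ↥W.left w = 0
      rw [localDim_eq_localDim_points Xk hXk c hce w, hw, hd]
    · intro hop
      exact localDim_eq_zero_of_isOpen_singleton xt hop
  · -- P5
    intro hY
    have P5a : IsOpen ({(⟨x, hx⟩ : ↥(Points.map f.hom ⁻¹' {Points.mk r}))} :
        Set ↥(Points.map f.hom ⁻¹' {Points.mk r})) ↔ IsOpen ({xt} : Set (Points Xk.obj)) := by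
      rw [hiso_iff, P23]
      constructor
      · rintro ⟨O, hO, hxO, hiso⟩
        exact mem_qfLocus_of_isolated f hf hY x O hO hxO hiso
      · intro hq
        exact exists_open_of_mem_qfLocus f hf hY x hq
    refine ⟨P5a, ?_⟩
    rw [← P1, P23]
    constructor
    · rintro ⟨hcl, hgen⟩
      apply mem_qfLocus_of_closed_noGen f hf hY x
      · intro x' he hs
        have hx'F : x' ∈ Points.map f.hom ⁻¹' {Points.mk r} := he.trans hfx
        have hs' : (⟨x, hx⟩ : ↥(Points.map f.hom ⁻¹' {Points.mk r})) ⤳ ⟨x', hx'F⟩ :=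
          hind.specializes_iff.1 hs
        rw [specializes_iff_mem_closure, hcl.closure_eq] at hs'
        exact congrArg Subtype.val (Set.mem_singleton_iff.1 hs')
      · intro x' he hs
        have hx'F : x' ∈ Points.map f.hom ⁻¹' {Points.mk r} := he.trans hfx
        have hs' : (⟨x', hx'F⟩ : ↥(Points.map f.hom ⁻¹' {Points.mk r})) ⤳ ⟨x, hx⟩ :=
          hind.specializes_iff.1 hs
        exact congrArg Subtype.val (hgen _ hs')
    · intro hq
      obtain ⟨O, hO, hxO, hiso⟩ := exists_open_of_mem_qfLocus f hf hY x hq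
      constructor
      · rw [← closure_subset_iff_isClosed]
        intro z hz
        have hs : (⟨x, hx⟩ : ↥(Points.map f.hom ⁻¹' {Points.mk r})) ⤳ z :=
          specializes_iff_mem_closure.2 hz
        have hs' : x ⤳ z.1 := hind.specializes_iff.2 hs
        by_contra hne
        have hne' : z.1 ≠ x := fun h => hne (Subtype.ext h)
        obtain ⟨O', hO', hzO', hxO'⟩ :=
          exists_open_not_mem f hf hY x hq z.1 (z.2.trans hfx.symm) hne'
        exact hxO' (hs'.mem_open hO' hzO')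
      · intro x' hs
        have hs' : x'.1 ⤳ x := hind.specializes_iff.2 hs
        exact Subtype.ext (hiso x'.1 (hs'.mem_open hO hxO) (x'.2.trans hfx.symm))
  · -- P6
    intro hY hX
    constructor
    · intro hd
      obtain ⟨U, hxU, hdim⟩ := exists_open_of_localDim_eq_zero _ hd
      obtain ⟨N, hN, hNeq⟩ := hind.isOpen_iff.1 U.2
      have hT0 : T0Space (Points X.obj) := t0Space_points_of_isDecent X hX
      have hT0' : T0Space ↥((U : Opens ↥(Points.map f.hom ⁻¹' {Points.mk r})) :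
          Set ↥(Points.map f.hom ⁻¹' {Points.mk r})) := inferInstance
      have hxN : x ∈ N := by
        have : (⟨x, hx⟩ : ↥(Points.map f.hom ⁻¹' {Points.mk r})) ∈ Subtype.val ⁻¹' N := by
          rw [hNeq]; exact hxU
        exact this
      have hq : x ∈ qfLocus f := by
        apply mem_qfLocus_of_nbhd_decent f hf hX x N hN hxN
        intro x₁ hx₁ x₂ hx₂ he₁ he₂ hs
        have hx₁F : x₁ ∈ Points.map f.hom ⁻¹' {Points.mk r} := he₁.trans hfx
        have hx₂F : x₂ ∈ Points.map f.hom ⁻¹' {Points.mk r} := he₂.trans hfx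
        have hx₁U : (⟨x₁, hx₁F⟩ : ↥(Points.map f.hom ⁻¹' {Points.mk r})) ∈
            (U : Set ↥(Points.map f.hom ⁻¹' {Points.mk r})) := by
          have h0 : (⟨x₁, hx₁F⟩ : ↥(Points.map f.hom ⁻¹' {Points.mk r})) ∈ Subtype.val ⁻¹' N := hx₁
          rw [hNeq] at h0; exact h0
        have hx₂U : (⟨x₂, hx₂F⟩ : ↥(Points.map f.hom ⁻¹' {Points.mk r})) ∈
            (U : Set ↥(Points.map f.hom ⁻¹' {Points.mk r})) := by
          have h0 : (⟨x₂, hx₂F⟩ : ↥(Points.map f.hom ⁻¹' {Points.mk r})) ∈ Subtype.val ⁻¹' N := hx₂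
          rw [hNeq] at h0; exact h0
        have hs1 : (⟨x₁, hx₁F⟩ : ↥(Points.map f.hom ⁻¹' {Points.mk r})) ⤳ ⟨x₂, hx₂F⟩ :=
          hind.specializes_iff.1 hs
        have hs2 : (⟨⟨x₁, hx₁F⟩, hx₁U⟩ : ↥((U : Opens ↥(Points.map f.hom ⁻¹' {Points.mk r})) :
            Set ↥(Points.map f.hom ⁻¹' {Points.mk r}))) ⤳ ⟨⟨x₂, hx₂F⟩, hx₂U⟩ :=
          Topology.IsInducing.subtypeVal.specializes_iff.1 hs1
        have := eq_of_specializes_of_dim_le_zero hdim _ _ hs2
        exact congrArg (fun z => z.1.1) this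
      exact hiso_iff.2 (exists_open_of_mem_qfLocus f hf hY x hq)
    · intro hop
      exact localDim_eq_zero_of_isOpen_singleton _ hop

end Groth.Agent.S10445
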