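import Groth.Statements.S10444
-- import your own Groth.Agent.* helpers here
import Groth.Agent.S10445

set_option autoImplicit false
universe u
open CategoryTheory CategoryTheory.Limits AlgebraicGeometry Topology TopologicalSpace
open AlgSp

namespace Groth.Agent.S10444

open Groth.Agent.Lib.Helper36.FibrePts Groth.Agent.Lib.Helper36.QFLocus
  Groth.Agent.Lib.Helper36.FibreDimZero Groth.Agent.Lib.Helper36.FibreDimSp
  Groth.Agent.Lib.Helper30.DecentDim
  Groth.Agent.Lib.Helper37.AlgSpPoints Groth.Agent.Lib.Helper37.AlgSpFibres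
  Groth.Agent.Lib.Helper84

/-- Take f : X ⟶ Y locally of finite type between algebraic spaces over a scheme S, a field-valued point
Spec k ⟶ Y whose class y ∈ |Y| lies in the image of |f|, the fibre product X_k = Spec k ×_Y X, and
the fibre F = |f|⁻¹(y) ⊆ |X| with the induced topology. Numbering the conditions (1) F finite, (2) F
discrete, (3) dim F = 0, (4) |X_k| finite, (5) |X_k| discrete, (6) dim |X_k| = 0, (7) dim X_k = 0,
(8) f quasi-finite at all points over y: (5) ⇔ (7) ⇔ (8); (5) ⇒ (6), with the converse when X_k is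
decent; (4) ⇒ (5) when X_k is decent; (4) ⇒ (1); (2) ⇒ (3); if Y is decent then (2) ⇔ (5); if X and
Y are decent then (3) ⇒ (2) and (1) ⇒ (2). (The published statement asserts (5) ⇔ (6) for every f
and (2) ⇔ (3) whenever Y is decent, and does not exclude an empty fibre; for the quotient of the
affine line over a field of characteristic zero by an infinite cyclic group of translations, mapping
to the point, the space of points is infinite and indiscrete, so (3) and (6) hold while (2) and (5)
fail, and for y outside the image (5) holds while (6) and (7) fail; hence the decency hypotheses on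
those two converses and the hypothesis that y is in the image. Finiteness of |X_k| for an arbitrary
field k in the class of y is not derived here from (1).) -/
theorem result {S : Scheme.{u}} {X Y : AlgSp.Space S} (f : X ⟶ Y)
    (hf : AlgSp.LocP @LocallyOfFiniteType f.hom) (r : AlgSp.FieldPt Y.obj)
    (hy : AlgSp.Points.mk r ∈ Set.range (AlgSp.Points.map f.hom)) (Xk : AlgSp.Space S) (fst : Xk ⟶ X)
    (snd : Xk.obj ⟶ (AlgSp.yon S).obj r.pt) (hsq : IsPullback fst.hom snd f.hom r.toHom) :
    (DiscreteTopology (AlgSp.Points Xk.obj) ↔ AlgSp.dim Xk.obj = 0) ∧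
    (AlgSp.dim Xk.obj = 0 ↔
      ∀ x : AlgSp.Points X.obj, AlgSp.Points.map f.hom x = AlgSp.Points.mk r → AlgSp.HasAtMor (fun U _ h u => ∃ W : U.Opens, u ∈ W ∧ LocallyQuasiFinite (W.ι ≫ h) ∧ LocallyOfFiniteType (W.ι ≫ h)) f.hom x) ∧
    (DiscreteTopology (AlgSp.Points Xk.obj) → topologicalKrullDim (AlgSp.Points Xk.obj) = 0) ∧
    (AlgSp.IsDecent Xk.obj → topologicalKrullDim (AlgSp.Points Xk.obj) = 0 →
      DiscreteTopology (AlgSp.Points Xk.obj)) ∧
    (AlgSp.IsDecent Xk.obj → Finite (AlgSp.Points Xk.obj) → DiscreteTopology (AlgSp.Points Xk.obj)) ∧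
    (Finite (AlgSp.Points Xk.obj) → (AlgSp.Points.map f.hom ⁻¹' {AlgSp.Points.mk r}).Finite) ∧
    (DiscreteTopology ↥(AlgSp.Points.map f.hom ⁻¹' {AlgSp.Points.mk r}) → topologicalKrullDim ↥(AlgSp.Points.map f.hom ⁻¹' {AlgSp.Points.mk r}) = 0) ∧
    (AlgSp.IsDecent Y.obj → (DiscreteTopology ↥(AlgSp.Points.map f.hom ⁻¹' {AlgSp.Points.mk r}) ↔ DiscreteTopology (AlgSp.Points Xk.obj))) ∧
    (AlgSp.IsDecent Y.obj → AlgSp.IsDecent X.obj →
      (topologicalKrullDim ↥(AlgSp.Points.map f.hom ⁻¹' {AlgSp.Points.mk r}) = 0 → DiscreteTopology ↥(AlgSp.Points.map f.hom ⁻¹' {AlgSp.Points.mk r})) ∧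
        ((AlgSp.Points.map f.hom ⁻¹' {AlgSp.Points.mk r}).Finite → DiscreteTopology ↥(AlgSp.Points.map f.hom ⁻¹' {AlgSp.Points.mk r}))) := by
  obtain ⟨x₀, hx₀⟩ := hy
  obtain ⟨xt₀, hxt₀⟩ := exists_point_fibre hsq x₀ hx₀
  have hne : Nonempty (Points Xk.obj) := ⟨xt₀⟩
  have hneF : Nonempty ↥(Points.map f.hom ⁻¹' {Points.mk r}) := ⟨⟨x₀, hx₀⟩⟩
  have hN := isLocNoethSp_fibre f hf r Xk.obj Xk.property fst.hom snd hsq
  have P2 := isOpen_singleton_iff_hasAt f hf r Xk.obj Xk.property fst.hom snd hsq
  have P3 := hasAt_iff_hasAtMor f hf r Xk.obj Xk.property fst.hom snd hsq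
  have hfib : ∀ xt : Points Xk.obj, Points.map fst.hom xt ∈ Points.map f.hom ⁻¹' {Points.mk r} :=
    fun xt => map_map_fst_eq_mk hsq xt
  have R := fun (x : Points X.obj) (hx : x ∈ Points.map f.hom ⁻¹' {Points.mk r})
    (xt : Points Xk.obj) (hxt : Points.map fst.hom xt = x) =>
    Groth.Agent.S10445.result f hf r Xk fst snd hsq x hx xt hxt
  -- (A)
  have A : DiscreteTopology (Points Xk.obj) ↔ AlgSp.dim Xk.obj = 0 := by
    constructor
    · intro hD
      apply le_antisymm
      · unfold AlgSp.dim
        refine iSup_le fun W => iSup_le fun c => iSup_le fun hc => ?_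
        apply topologicalKrullDim_le_zero_of_specializes
        intro w w' hs
        have hs' := hs.map (Points.continuous_ofPt c)
        exact (eq_of_specializes_of_isLocNoethSp hN c hc w' w hs'.eq.symm hs).symm
      · obtain ⟨W, c, hce, hcs⟩ := Xk.property.atlas
        obtain ⟨w, hw⟩ := ofPt_surjective c hcs xt₀
        have : Nonempty ↥W.left := ⟨w⟩
        unfold AlgSp.dim
        refine le_trans (dim_nonneg_of_nonempty (X := ↥W.left)) ?_
        exact le_iSup_of_le W (le_iSup_of_le c (le_iSup_of_le hce le_rfl))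
    · intro hd
      rw [discreteTopology_iff_isOpen_singleton]
      intro xt
      rw [P2]
      obtain ⟨W, c, hce, hcs⟩ := Xk.property.atlas
      obtain ⟨w, hw⟩ := ofPt_surjective c hcs xt
      refine ⟨W, c, w, hce, hw, ?_⟩
      show FlatMor.localDim ↥W.left w = 0
      apply le_antisymm
      · refine (localDim_le_dim w).trans ?_
        rw [← hd]
        unfold AlgSp.dim
        exact le_iSup_of_le W (le_iSup_of_le c (le_iSup_of_le hce le_rfl))
      · unfold FlatMor.localDim
        refine le_iInf fun U => ?_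
        have : Nonempty ↥((U.1 : Opens ↥W.left) : Set ↥W.left) := ⟨⟨w, U.2⟩⟩
        exact dim_nonneg_of_nonempty
  refine ⟨A, ?_, ?_, ?_, ?_, ?_, ?_, ?_, ?_⟩
  · -- (B)
    rw [← A, discreteTopology_iff_isOpen_singleton]
    constructor
    · intro h x hx
      obtain ⟨xt, hxt⟩ := exists_point_fibre hsq x hx
      have := (P3 xt).1 ((P2 xt).1 (h xt))
      rwa [hxt] at this
    · intro h xt
      rw [P2, P3]
      exact h _ (hfib xt)
  · -- (C)
    intro hD
    exact dim_eq_zero_of_discrete
  · -- (D)
    intro hXk hd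
    rw [A, ← topologicalKrullDim_points_eq_dim Xk hXk]
    exact hd
  · -- (E)
    intro hXk hfin
    rw [discreteTopology_iff_isOpen_singleton]
    intro xt
    obtain ⟨W, c, w, hW, hce, hw⟩ := Groth.Agent.Lib.Helper37.QsSober.exists_affine_chart Xk xt
    obtain ⟨hWN, hWJ⟩ := chart_props f hf r Xk.obj Xk.property fst.hom snd hsq c hce
    have hWfin : Finite ↥W.left := by
      have : (Set.univ : Set ↥W.left) ⊆ ⋃ x' ∈ (Set.univ : Set (Points Xk.obj)),
          Points.ofPt c ⁻¹' {x'} := by
        intro z _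
        simp only [Set.mem_iUnion]
        exact ⟨Points.ofPt c z, trivial, rfl⟩
      have hfu : (Set.univ : Set ↥W.left).Finite := by
        refine (Set.Finite.biUnion Set.finite_univ fun x' _ => ?_).subset this
        obtain ⟨q, hq, -, hqc⟩ := hXk x'
        have := finite_fibre_of_qc_point q hqc c hce
        rwa [hq] at this
      exact Set.finite_univ_iff.1 hfu
    have h1 : IsOpen ({w} : Set ↥W.left) := isOpen_discrete _
    have h2 := isOpenMap_ofPt c hce _ h1
    rwa [Set.image_singleton, hw] at h2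
  · -- (F)
    intro hfin
    refine (Set.finite_range (Points.map fst.hom)).subset ?_
    intro x hx
    exact exists_point_fibre hsq x hx
  · -- (G)
    intro hD
    exact dim_eq_zero_of_discrete
  · -- (H)
    intro hY
    rw [discreteTopology_iff_isOpen_singleton, discreteTopology_iff_isOpen_singleton]
    constructor
    · intro h xt
      exact ((R _ (hfib xt) xt rfl).2.2.2.2.1 hY).1.1 (h _)
    · rintro h ⟨x, hx⟩
      obtain ⟨xt, hxt⟩ := exists_point_fibre hsq x hx
      exact ((R x hx xt hxt).2.2.2.2.1 hY).1.2 (h xt)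
  · -- (I)
    intro hY hX
    constructor
    · intro hd
      rw [discreteTopology_iff_isOpen_singleton]
      rintro ⟨x, hx⟩
      obtain ⟨xt, hxt⟩ := exists_point_fibre hsq x hx
      apply ((R x hx xt hxt).2.2.2.2.2 hY hX).1
      apply le_antisymm
      · refine (localDim_le_dim _).trans ?_
        rw [hd]
      · unfold FlatMor.localDim
        refine le_iInf fun U => ?_
        have : Nonempty ↥((U.1 : Opens ↥(Points.map f.hom ⁻¹' {Points.mk r})) :
            Set ↥(Points.map f.hom ⁻¹' {Points.mk r})) := ⟨⟨⟨x, hx⟩, U.2⟩⟩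
        exact dim_nonneg_of_nonempty
    · intro hfin
      rw [discreteTopology_iff_isOpen_singleton]
      rintro ⟨x, hx⟩
      obtain ⟨xt, hxt⟩ := exists_point_fibre hsq x hx
      have hx' : Points.map f.hom x = Points.mk r := hx
      have hq : x ∈ qfLocus f := by
        apply mem_qfLocus_of_finite_decent f hf hX x
        rw [hx']
        exact hfin
      have h3 := (Groth.Agent.S10313.hasAtMor_lqf_iff_mem_qfLocus f hf x).2 hq
      have h2 := (R x hx xt hxt).2.2.1.2 h3
      have h1 := (R x hx xt hxt).2.1.2 h2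
      exact ((R x hx xt hxt).2.2.2.2.1 hY).1.2 h1

end Groth.Agent.S10444
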