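import Groth.Statements.S10446
import Groth.Agent.Lib.Helper23.GenFin6
import Groth.Agent.S10398
import Groth.Agent.S10390
import Groth.Agent.Lib.Helper37.DecentPoint

set_option autoImplicit false
universe u
open CategoryTheory CategoryTheory.Limits AlgebraicGeometry Topology TopologicalSpace
open AlgSp

namespace Groth.Agent.S10446

open Groth.Agent.Lib.Helper23.GenFin Groth.Agent.Lib.Helper37.AlgSpFibres
  Groth.Agent.Lib.Helper23.AlgSpMor Groth.Agent.Lib.Helper23.SLQSplit
  Groth.Agent.Lib.Helper36.OpenSubspace Groth.Agent.Lib.Helper37.AlgSpPoints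
  Groth.Agent.Lib.Helper36.QFLocus

/-- (1) ⇔ (3): let S be a scheme with quasi-separated underlying space, f : X ⟶ Y a quasi-separated
morphism of algebraic spaces over S that is locally of finite type, with Y quasi-separated over S,
and y ∈ |Y| a point of codimension 0. Then |f|⁻¹(y) is finite if and only if f restricts to a finite
morphism X' ⟶ Y' between an open subspace X' of X containing the whole fibre |f|⁻¹(y) and an open
subspace Y' of Y through y. (The published statement assumes Y quasi-separated in the absolute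
sense; this row assumes S has quasi-separated underlying space and Y quasi-separated over S. Its
condition on the finiteness of |Spec k ×_Y X| is not part of this row.) -/
theorem result {S : Scheme.{u}} [QuasiSeparatedSpace ↥S] {X Y : AlgSp.Space S}
    (f : X ⟶ Y) (hqs : AlgSp.IsQuasiSeparatedMor f.hom) (hft : AlgSp.LocP @LocallyOfFiniteType f.hom)
    (hY : AlgSp.IsQuasiSeparatedSp Y.obj) (y : AlgSp.Points Y.obj)
    (hy : AlgSp.HasAt (fun U u => ringKrullDim ↥(U.presheaf.stalk u) = 0) Y.obj y) :
    (AlgSp.Points.map f.hom ⁻¹' {y}).Finite ↔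
      ∃ (X' Y' : AlgSp.Space S) (i : X' ⟶ X) (j : Y' ⟶ Y) (f' : X' ⟶ Y'), AlgSp.RepWith @IsOpenImmersion i.hom ∧
        AlgSp.RepWith @IsOpenImmersion j.hom ∧ f' ≫ j = i ≫ f ∧ y ∈ Set.range (AlgSp.Points.map j.hom) ∧
          AlgSp.Points.map f.hom ⁻¹' {y} ⊆ Set.range (AlgSp.Points.map i.hom) ∧ AlgSp.IsFiniteMor f'.hom := by

  classical
  constructor
  · intro hF
    -- `Y` is decent: `y` has a quasi-compact monomorphic representative
    have hYdec : IsDecent Y.obj :=
      Groth.Agent.Lib.Helper37.DecentPoint.isDecent_of_isQuasiSeparatedSp Y hY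
    obtain ⟨r, rfl, hrm, hrq⟩ := hYdec y
    -- a quasi-compact open containing the fibre
    obtain ⟨W, hWo, hWc, hFW⟩ := exists_isOpen_isCompact_of_finite X _ hF
    have hX' : IsAlgSpace (openSub X.obj W) := isAlgSpace_openSub X.obj X.property W hWo
    have hX'qc : IsQuasiCompactSp (openSub X.obj W) := isQuasiCompactSp_openSub X W hWo hWc
    have hi : RepWith @IsOpenImmersion (openSubι X.obj W) :=
      repWith_isOpenImmersion_openSubι X.obj W hWo
    have hie : RepWith @Etale (openSubι X.obj W) :=
      MorphismProperty.relative_monotone (fun _ _ g hg => by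
        have : IsOpenImmersion g.left := hg
        exact (inferInstance : Etale g.left)) _ hi
    let Xs' : Space S := ⟨openSub X.obj W, hX'⟩
    let is' : Xs' ⟶ X := ObjectProperty.homMk (openSubι X.obj W)
    let f₁ : Xs' ⟶ Y := is' ≫ f
    have hf₁ : f₁.hom = openSubι X.obj W ≫ f.hom := rfl
    have hqs₁ : IsQuasiSeparatedMor f₁.hom := isQuasiSeparatedMor_mono_comp (openSubι X.obj W) f.hom hqs
    have hlft₁ : LocP @LocallyOfFiniteType f₁.hom := by
      intro U V a b h ha hb w
      exact hft (a ≫ openSubι X.obj W) b h ((RepWith @Etale).comp_mem _ _ ha hie) hb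
        (by rw [Category.assoc]; exact w)
    have hqc₁ : IsQuasiCompactMor f₁.hom :=
      isQuasiCompactMor_of_isQuasiCompactSp_of_isQuasiSeparatedSp hX' f₁.hom hX'qc hY
    have hinj : Function.Injective (Points.map (openSubι X.obj W)) :=
      Groth.Agent.Lib.Helper30.LocPNbhd.points_map_injective_of_mono _
    have hF₁ : (Points.map f₁.hom ⁻¹' {Points.mk r}).Finite := by
      refine Set.Finite.of_finite_image (f := Points.map (openSubι X.obj W)) (hF.subset ?_)
        hinj.injOn
      rintro _ ⟨x', hx', rfl⟩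
      change Points.map f.hom (Points.map (openSubι X.obj W) x') = Points.mk r
      rw [← Points.map_comp]; exact hx'
    -- the fibre space is finite
    have sqk : IsPullback (pullback.fst f₁.hom r.toHom) (pullback.snd f₁.hom r.toHom) f₁.hom
        r.toHom := IsPullback.of_hasPullback _ _
    have hXk : IsAlgSpace (pullback f₁.hom r.toHom) :=
      isAlgSpace_of_isPullback hX' (IsAlgSpace.yon_obj _) Y.property.diag sqk
    let Xk : Space S := ⟨pullback f₁.hom r.toHom, hXk⟩
    let fstk : Xk ⟶ Xs' := ObjectProperty.homMk (pullback.fst f₁.hom r.toHom)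
    obtain ⟨hemb, hrange⟩ := Groth.Agent.S10390.result f₁ r hrm hrq Xk fstk
      (pullback.snd f₁.hom r.toHom) sqk
    haveI : Finite (Set.range (Points.map fstk.hom)) := by
      rw [hrange]; exact hF₁.to_subtype
    have hfink : Finite (Points Xk.obj) := Finite.of_injective_finite_range hemb.injective
    have hqf₁ : ∀ x' : Points Xs'.obj, Points.map f₁.hom x' = Points.mk r →
        HasAtMor (fun U _ h u => ∃ W : U.Opens, u ∈ W ∧ LocallyQuasiFinite (W.ι ≫ h) ∧
          LocallyOfFiniteType (W.ι ≫ h)) f₁.hom x' := by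
      intro x' hx'
      exact hasAtMor_lqf_of_mem_qfLocus f₁ hlft₁ x'
        (mem_qfLocus_of_finite_fibre f₁ hlft₁ hqs₁ r Xk.obj fstk.hom _ sqk hfink x' hx')
    obtain ⟨Y', X'', j, fst, snd, hj, ⟨y', hy'⟩, sq, hfin⟩ :=
      Groth.Agent.S10398.result f₁ hqs₁ ⟨hlft₁, hqc₁⟩ (Points.mk r) hy hqf₁
    have hsnd : RepWith @IsOpenImmersion snd.hom := (RepWith @IsOpenImmersion).of_isPullback sq hj
    refine ⟨X'', Y', snd ≫ is', j, fst, (RepWith @IsOpenImmersion).comp_mem _ _ hsnd hi, hj, ?_,
      ⟨y', hy'⟩, ?_, hfin⟩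
    · apply ObjectProperty.hom_ext
      change fst.hom ≫ j.hom = (snd.hom ≫ openSubι X.obj W) ≫ f.hom
      rw [Category.assoc]; exact sq.w
    · intro x hx
      obtain ⟨x', rfl⟩ : x ∈ Set.range (Points.map (openSubι X.obj W)) := by
        rw [range_map_openSubι]; exact hFW hx
      have e : Points.map j.hom y' = Points.map f₁.hom x' := by
        rw [hy']; symm
        change Points.map (openSubι X.obj W ≫ f.hom) x' = Points.mk r
        rw [Points.map_comp]; exact hx
      obtain ⟨p, hp1, -⟩ := points_exists_of_isPullback sq.flip x' y' e.symm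
      exact ⟨p, by
        change Points.map (snd.hom ≫ openSubι X.obj W) p = _
        rw [Points.map_comp, hp1]⟩
  · rintro ⟨X', Y', i, j, f', hi, hj, hcomm, ⟨y', hy'⟩, hsub, hfin⟩
    haveI : Mono j.hom := Groth.Agent.Lib.Helper30.LocPNbhd.mono_of_isOpenImmersion hj
    have hjinj : Function.Injective (Points.map j.hom) :=
      Groth.Agent.Lib.Helper30.LocPNbhd.points_map_injective_of_mono _
    have h1 := finite_fibre_of_isFiniteMor Y' f'.hom hfin y'
    refine (h1.image (Points.map i.hom)).subset ?_
    intro x hx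
    obtain ⟨x', rfl⟩ := hsub hx
    refine ⟨x', ?_, rfl⟩
    apply hjinj
    have h2 : Points.map (f' ≫ j).hom x' = Points.map (i ≫ f).hom x' := by rw [hcomm]
    change Points.map (f'.hom ≫ j.hom) x' = Points.map (i.hom ≫ f.hom) x' at h2
    rw [Points.map_comp, Points.map_comp] at h2
    rw [h2, hy']; exact hx

end Groth.Agent.S10446
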