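import Groth.Statements.S10448
-- import your own Groth.Agent.* helpers here
import Groth.Agent.Lib.Helper36.DimLemmas
import Groth.Agent.Lib.Helper36.AlgSpHasAt
import Groth.Agent.Lib.Helper37.AlgSpFibres

set_option autoImplicit false
universe u
open CategoryTheory CategoryTheory.Limits AlgebraicGeometry Topology TopologicalSpace
open AlgSp

namespace Groth.Agent.S10448

open Groth.Agent.Lib.Helper36.DimLemmas Groth.Agent.Lib.Helper36.AlgSpHasAt
  Groth.Agent.Lib.Helper37.AlgSpPoints Groth.Agent.Lib.Helper37.AlgSpFibres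

/-- Every point of an algebraic space lies on an affine étale chart. -/
theorem exists_affine_chart {S : Scheme.{u}} {F : Sp S}
    (hF : ∃ (U : Over S) (p : (yon S).obj U ⟶ F), RepWith @Etale p ∧ RepWith @Surjective p)
    (x : Points F) :
    ∃ (V : Over S) (b : (yon S).obj V ⟶ F) (v : ↥V.left), IsAffine V.left ∧ RepWith @Etale b ∧
      Points.ofPt b v = x := by
  obtain ⟨V0, b0, hb0e, hb0s⟩ := hF
  obtain ⟨v0, hv0⟩ := ofPt_surjective b0 hb0s x
  obtain ⟨V', hv0V'⟩ := TopologicalSpace.Opens.mem_iSup.1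
    (by rw [iSup_affineOpens_eq_top]; trivial : v0 ∈ ⨆ i : V0.left.affineOpens, (i : V0.left.Opens))
  refine ⟨openOver V0 V'.1, (yon S).map (openι V0 V'.1) ≫ b0, ⟨v0, hv0V'⟩, V'.2,
    repWith_etale_restrict b0 hb0e V'.1, ?_⟩
  rw [ofPt_restrict]
  exact hv0

/-- For an integral morphism f : X ⟶ Y of algebraic spaces over a scheme S, the dimension of X is at
most the dimension of Y. -/
theorem result {S : Scheme.{u}} {X Y : AlgSp.Space S} (f : X ⟶ Y)
    (hf : AlgSp.IsIntegralMor f.hom) : AlgSp.dim X.obj ≤ AlgSp.dim Y.obj := by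
  unfold AlgSp.dim
  refine iSup_le fun U => iSup_le fun a => iSup_le fun ha => ?_
  refine topologicalKrullDim_le_of_forall_stalk _ _ fun u => ?_
  obtain ⟨V, b, v, hVaff, hbe, hv⟩ :=
    exists_affine_chart Y.property.atlas (Points.map f.hom (Points.ofPt a u))
  obtain ⟨W, i, fst, sq, hWaff, hint⟩ := hf hVaff b
  have hfe : RepWith @Etale fst := (RepWith @Etale).of_isPullback sq.flip hbe
  rw [Points.ofPt_eq_map_ofScheme] at hv
  obtain ⟨r, -, hr2⟩ := points_exists_of_isPullback sq.flip (Points.ofScheme V v) (Points.ofPt a u) hv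
  have hw : Points.ofPt fst (Points.toScheme _ r) = Points.ofPt a u := by
    rw [Points.ofPt_eq_map_ofScheme, Points.ofScheme_toScheme]
    exact hr2
  have := (germ_iff_of_ofPt_eq (isEtaleLocalGerm_ringKrullDim
    (ringKrullDim ↥(U.left.presheaf.stalk u))) a fst ha hfe u _ hw.symm).1 rfl
  rw [← this]
  calc _ ≤ topologicalKrullDim ↥W.left := ringKrullDim_stalk_le_topologicalKrullDim _ _
    _ ≤ topologicalKrullDim ↥V.left := topologicalKrullDim_le_of_isIntegralHom i.left
    _ ≤ _ := le_iSup_of_le V (le_iSup_of_le b (le_iSup_of_le (f := fun _ : RepWith @Etale b =>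
        topologicalKrullDim ↥V.left) hbe le_rfl))

end Groth.Agent.S10448
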