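import Groth.Statements.S10449
-- import your own Groth.Agent.* helpers here
import Groth.Agent.Lib.Helper36.DimLemmas
import Groth.Agent.Lib.Helper36.AlgSpHasAt
import Groth.Agent.Lib.Helper37.AlgSpFibres

set_option autoImplicit false
universe u
open CategoryTheory CategoryTheory.Limits AlgebraicGeometry Topology TopologicalSpace
open AlgSp

namespace Groth.Agent.S10449

open Groth.Agent.Lib.Helper36.DimLemmas Groth.Agent.Lib.Helper36.AlgSpHasAt
  Groth.Agent.Lib.Helper37.AlgSpPoints Groth.Agent.Lib.Helper37.AlgSpFibres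
  Groth.Agent.Lib.Helper36

/-- For an integral surjective morphism f : X ⟶ Y of algebraic spaces over a scheme S, the dimension of
Y is at most the dimension of X (together with the inequality dim X ≤ dim Y, which holds for every
integral morphism, the two dimensions are equal). -/
theorem result {S : Scheme.{u}} {X Y : AlgSp.Space S} (f : X ⟶ Y)
    (hf : AlgSp.IsIntegralMor f.hom) (hs : AlgSp.IsSurjectiveMor f.hom) :
    AlgSp.dim Y.obj ≤ AlgSp.dim X.obj := by
  unfold AlgSp.dim
  refine iSup_le fun V0 => iSup_le fun b0 => iSup_le fun hb0e => ?_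
  refine topologicalKrullDim_le_of_forall_stalk _ _ fun v0 => ?_
  obtain ⟨V', hv0V'⟩ := TopologicalSpace.Opens.mem_iSup.1
    (by rw [iSup_affineOpens_eq_top]; trivial : v0 ∈ ⨆ i : V0.left.affineOpens, (i : V0.left.Opens))
  have hbe := repWith_etale_restrict b0 hb0e V'.1
  have hVaff : IsAffine (openOver V0 V'.1).left := V'.2
  obtain ⟨W, i, fst, sq, hWaff, hint⟩ := hf hVaff ((yon S).map (openι V0 V'.1) ≫ b0)
  have hfe : RepWith @Etale fst := (RepWith @Etale).of_isPullback sq.flip hbe
  have hsurj : Function.Surjective i.left := by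
    intro v
    obtain ⟨x, hx⟩ := hs (Points.ofPt ((yon S).map (openι V0 V'.1) ≫ b0) v)
    rw [Points.ofPt_eq_map_ofScheme] at hx
    obtain ⟨r, hr1, -⟩ := points_exists_of_isPullback sq.flip (Points.ofScheme _ v) x hx.symm
    refine ⟨Points.toScheme _ r, ?_⟩
    apply (Points.schemeEquiv (openOver V0 V'.1)).injective
    change Points.ofScheme _ _ = Points.ofScheme _ v
    rw [← hr1, ← ofPt_yon_map, ← Points.ofScheme_toScheme _ r, Points.toScheme_ofScheme,
      Points.ofPt_eq_map_ofScheme]
  have hst := EtaleLocalDim.ringKrullDim_stalk_eq_of_etale V'.1.ι ⟨v0, hv0V'⟩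
  change _ = ringKrullDim ↥(V0.left.presheaf.stalk v0) at hst
  rw [← hst]
  calc _ ≤ topologicalKrullDim ↥(openOver V0 V'.1).left :=
        ringKrullDim_stalk_le_topologicalKrullDim _ _
    _ ≤ topologicalKrullDim ↥W.left :=
        topologicalKrullDim_le_of_isClosedMap_of_surjective i.left i.left.isClosedMap hsurj
    _ ≤ _ := le_iSup_of_le W (le_iSup_of_le fst (le_iSup_of_le (f := fun _ : RepWith @Etale fst =>
        topologicalKrullDim ↥W.left) hfe le_rfl))

end Groth.Agent.S10449
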