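import Groth.Statements.S9795
import Groth.Agent.Lib.Helper11.ZeroDim

set_option autoImplicit false
universe u
open CategoryTheory AlgebraicGeometry TopologicalSpace
open Props

namespace Groth.Agent.S9795

/-- A quasi-separated scheme of dimension at most zero is separated. -/
theorem result (X : Scheme.{u}) [QuasiSeparatedSpace X]
    (h : topologicalKrullDim X ≤ 0) : X.IsSeparated := by
  have hT1 : T1Space X := Groth.Agent.Lib.Helper11.ZeroDim.t1Space_of_dim_le_zero h
  have hqs : QuasiSeparated (Limits.terminal.from X) := inferInstance
  refine ⟨IsSeparated.of_valuativeCriterion (Limits.terminal.from X) ?_⟩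
  intro S
  refine ⟨fun l l' => ?_⟩
  apply CommSq.LiftStruct.ext
  exact Groth.Agent.Lib.Helper11.ZeroDim.hom_ext_of_fractionRing (R := S.R) (K := S.K) l.l l'.l
    (l.fac_left.trans l'.fac_left.symm)

end Groth.Agent.S9795
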