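import Groth.Statements.S10450
import Groth.Agent.Lib.Helper30.Codim0b
import Groth.Agent.Lib.Helper37.QsSober
import Groth.Agent.Lib.Helper11.ZeroDim
import Groth.Agent.S9795
import Groth.Agent.S9797

set_option autoImplicit false
universe u
open CategoryTheory CategoryTheory.Limits AlgebraicGeometry Topology TopologicalSpace
open AlgSp

namespace Groth.Agent.S10450

open Groth.Agent.Lib.Helper30.DecentOpenScheme Groth.Agent.Lib.Helper36.OpenSubspace
  Groth.Agent.Lib.Helper30.SchemLoc2 Groth.Agent.Lib.Helper37.AlgSpPoints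
  Groth.Agent.Lib.Helper37.AlgSpFibres Groth.Agent.Lib.Helper30.Codim0
  Groth.Agent.Lib.Helper37.QsSober Groth.Agent.Lib.Helper30.DecentSober
  Groth.Agent.Lib.Helper36.AlgSpCharts Groth.Agent.Lib.Helper30.QuotRep

theorem dim_chart_le {S : Scheme.{u}} {F : Sp S} {V : Over S} (a : (yon S).obj V ⟶ F)
    (ha : RepWith @Etale a) : topologicalKrullDim ↥V.left ≤ AlgSp.dim F := by
  unfold AlgSp.dim
  exact le_iSup_of_le V (le_iSup_of_le a (le_iSup_of_le ha le_rfl))

set_option backward.isDefEq.respectTransparency.types false in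
/-- Let X be a quasi-separated algebraic space of dimension 0 over a quasi-separated scheme S. Then X is
a separated scheme and every quasi-compact open of X is affine. (The published statement allows any
base scheme S and takes X quasi-separated in the absolute sense; this row asks S to be
quasi-separated and X quasi-separated over S, which together imply absolute quasi-separatedness.) -/
theorem result {S : Scheme.{u}} [QuasiSeparatedSpace S]
    (X : AlgSp.Space S) (hqs : AlgSp.IsQuasiSeparatedSp X.obj) (hd : AlgSp.dim X.obj = 0) :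
    ∃ (U : Over S) (_ : (AlgSp.yon S).obj U ≅ X.obj), U.left.IsSeparated ∧
      ∀ V : U.left.Opens, IsCompact (V : Set ↥U.left) → IsAffineOpen V := by
  have hrep : X.obj.obj.IsRepresentable := by
    refine Groth.Agent.Lib.Helper23.SLQGlue.isRepresentable_of_local
      (fun _ : PUnit.{u+1} => schematicLocus X.obj) (fun _ => isOpen_schematicLocus _)
      (fun _ => isRepresentable_schematicLocus X) (fun x => ⟨⟨⟩, ?_⟩)
    obtain ⟨V, a, v, hV, ha, rfl⟩ := exists_affine_chart X x
    have hR := ha.rep.isPullback' a
    have hcV : CompactSpace ↥V.left := inferInstance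
    have hcR : CompactSpace ↥(ha.rep.pullback a).left :=
      compactSpace_pullback_of_isQuasiSeparatedSp hqs a a _ _ hR
    have hdim : topologicalKrullDim ↥V.left ≤ 0 := hd ▸ dim_chart_le a ha
    exact mem_schematicLocus_of_minimal X ha hR v
      (fun v' hv' => Groth.Agent.Lib.Helper11.ZeroDim.eq_of_specializes hdim hv')
  obtain ⟨U, ⟨e⟩⟩ := Groth.Agent.Lib.Helper23.SLQ.exists_iso_of_isRepresentable hrep
  have he : RepWith @Etale e.hom := (RepWith @Etale).of_isIso e.hom
  have hdimU : topologicalKrullDim ↥U.left ≤ 0 := hd ▸ dim_chart_le e.hom he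
  have hqsU : QuasiSeparatedSpace ↥U.left := by
    rw [quasiSeparatedSpace_iff_forall_affineOpens]
    intro W₁ W₂
    have h1 : CompactSpace ↥(openOver U W₁.1).left := isCompact_iff_compactSpace.1 W₁.2.isCompact
    have h2 : CompactSpace ↥(openOver U W₂.1).left := isCompact_iff_compactSpace.1 W₂.2.isCompact
    let a : openOver U (W₁.1 ⊓ W₂.1) ⟶ openOver U W₁.1 :=
      Over.homMk (U.left.homOfLE inf_le_left) (by simp)
    let b : openOver U (W₁.1 ⊓ W₂.1) ⟶ openOver U W₂.1 :=
      Over.homMk (U.left.homOfLE inf_le_right) (by simp)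
    have sq0 : IsPullback ((yon S).map a) ((yon S).map b) ((yon S).map (openι U W₁.1))
        ((yon S).map (openι U W₂.1)) :=
      isPullback_yon_map' a b (openι U W₁.1) (openι U W₂.1) (isPullback_opens_inf W₁.1 W₂.1)
    have sq := Groth.Agent.Lib.Helper23.AlgSpMor.isPullback_comp_mono e.hom sq0
    have hc := compactSpace_pullback_of_isQuasiSeparatedSp hqs _ _ _ _ sq
    exact isCompact_iff_compactSpace.2 hc
  have hsep : U.left.IsSeparated := Groth.Agent.S9795.result U.left hdimU
  exact ⟨U, e, hsep, fun V hV => Groth.Agent.S9797.result U.left hdimU V hV⟩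

end Groth.Agent.S10450
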