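import Groth.Statements.S10451
import Groth.Agent.Lib.Helper30.ZeroDimField
import Groth.Agent.Lib.Helper37.QsSober
import Groth.Agent.Lib.Helper11.ZeroDim
import Groth.Agent.S9795
import Groth.Agent.S9797

set_option autoImplicit false
universe u
open CategoryTheory CategoryTheory.Limits AlgebraicGeometry Topology TopologicalSpace
open AlgSp

namespace Groth.Agent.S10451

open Groth.Agent.Lib.Helper30.DecentOpenScheme Groth.Agent.Lib.Helper36.OpenSubspace
  Groth.Agent.Lib.Helper30.SchemLoc2 Groth.Agent.Lib.Helper37.AlgSpPoints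
  Groth.Agent.Lib.Helper37.AlgSpFibres Groth.Agent.Lib.Helper30.Codim0
  Groth.Agent.Lib.Helper37.QsSober Groth.Agent.Lib.Helper30.DecentSober
  Groth.Agent.Lib.Helper36.AlgSpCharts Groth.Agent.Lib.Helper30.QuotRep
  Groth.Agent.Lib.Helper30.ZeroDimField

theorem dim_chart_le {S : Scheme.{u}} {F : Sp S} {V : Over S} (a : (yon S).obj V ⟶ F)
    (ha : RepWith @Etale a) : topologicalKrullDim ↥V.left ≤ AlgSp.dim F := by
  unfold AlgSp.dim
  exact le_iSup_of_le V (le_iSup_of_le a (le_iSup_of_le ha le_rfl))

set_option backward.isDefEq.respectTransparency.types false in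
/-- Let k be a field and X an algebraic space locally of finite type over k with dim X = 0. Then X is a
separated scheme and every quasi-compact open of X is affine. -/
theorem result (k : Type u) [Field k]
    (X : AlgSp.Space (Spec (CommRingCat.of k))) (p : X.obj ⟶ (AlgSp.yon (Spec (CommRingCat.of k))).obj (Over.mk (𝟙 _)))
    (hp : AlgSp.LocP @LocallyOfFiniteType p) (hd : AlgSp.dim X.obj = 0) :
    ∃ (U : Over (Spec (CommRingCat.of k))) (_ : (AlgSp.yon (Spec (CommRingCat.of k))).obj U ≅ X.obj), U.left.IsSeparated ∧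
      ∀ V : U.left.Opens, IsCompact (V : Set ↥U.left) → IsAffineOpen V := by
  have hrep : X.obj.obj.IsRepresentable := by
    refine Groth.Agent.Lib.Helper23.SLQGlue.isRepresentable_of_local
      (fun _ : PUnit.{u+1} => schematicLocus X.obj) (fun _ => isOpen_schematicLocus _)
      (fun _ => isRepresentable_schematicLocus X) (fun x => ⟨⟨⟩, ?_⟩)
    obtain ⟨V, a, v, hV, ha, rfl⟩ := exists_affine_chart X x
    have hR := ha.rep.isPullback' a
    have hft : LocallyOfFiniteType V.hom := locallyOfFiniteType_chart p hp a ha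
    have hdim : topologicalKrullDim ↥V.left ≤ 0 := hd ▸ dim_chart_le a ha
    have hfin : IsFinite V.hom := isFinite_of_dim_le_zero V.hom hdim
    have hRfin : Finite ↥(ha.rep.pullback a).left := finite_kernelPair hR
    have hcR : CompactSpace ↥(ha.rep.pullback a).left := inferInstance
    exact mem_schematicLocus_of_minimal X ha hR v
      (fun v' hv' => Groth.Agent.Lib.Helper11.ZeroDim.eq_of_specializes hdim hv')
  obtain ⟨U, ⟨e⟩⟩ := Groth.Agent.Lib.Helper23.SLQ.exists_iso_of_isRepresentable hrep
  have he : RepWith @Etale e.hom := (RepWith @Etale).of_isIso e.hom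
  have hdimU : topologicalKrullDim ↥U.left ≤ 0 := hd ▸ dim_chart_le e.hom he
  have hftU : LocallyOfFiniteType U.hom := locallyOfFiniteType_chart p hp e.hom he
  have hN : IsLocallyNoetherian U.left := LocallyOfFiniteType.isLocallyNoetherian U.hom
  have hqsU : QuasiSeparatedSpace ↥U.left := inferInstance
  have hsep : U.left.IsSeparated := Groth.Agent.S9795.result U.left hdimU
  exact ⟨U, e, hsep, fun V hV => Groth.Agent.S9797.result U.left hdimU V hV⟩

end Groth.Agent.S10451
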