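import Groth.Statements.S10453
import Groth.Agent.Lib.Helper30.Codim0

set_option autoImplicit false
universe u
open CategoryTheory CategoryTheory.Limits AlgebraicGeometry Topology TopologicalSpace
open AlgSp

namespace Groth.Agent.S10453

open Groth.Agent.Lib.Helper30.DecentOpenScheme Groth.Agent.Lib.Helper36.OpenSubspace
  Groth.Agent.Lib.Helper30.SchemLoc2 Groth.Agent.Lib.Helper37.AlgSpPoints
  Groth.Agent.Lib.Helper37.AlgSpFibres Groth.Agent.Lib.Helper30.Codim0
  Groth.Agent.Lib.Helper37.QsSober

/-- Let X be a quasi-separated algebraic space over a quasi-separated scheme S and x a point of X of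
codimension 0 (the local ring of X at x has dimension 0). Then some open subspace of X containing x
is a scheme. (The published statement allows any base scheme S and takes X quasi-separated in the
absolute sense; this row asks S to be quasi-separated and X quasi-separated over S, which together
imply absolute quasi-separatedness.) -/
theorem result {S : Scheme.{u}} [QuasiSeparatedSpace S]
    (X : AlgSp.Space S) (hqs : AlgSp.IsQuasiSeparatedSp X.obj) (x : AlgSp.Points X.obj)
    (hx : AlgSp.HasAt (fun U u => ringKrullDim ↥(U.presheaf.stalk u) = 0) X.obj x) :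
    ∃ (X' : AlgSp.Space S) (j : X' ⟶ X), AlgSp.RepWith @IsOpenImmersion j.hom ∧
      X'.obj.obj.IsRepresentable ∧ x ∈ Set.range (AlgSp.Points.map j.hom) := by
  have hW := isOpen_schematicLocus X.obj
  refine ⟨⟨openSub X.obj (schematicLocus X.obj),
    isAlgSpace_openSub X.obj X.property _ hW⟩,
    ObjectProperty.homMk (openSubι X.obj (schematicLocus X.obj)),
    repWith_isOpenImmersion_openSubι X.obj _ hW, isRepresentable_schematicLocus X, ?_⟩
  change x ∈ Set.range (Points.map (openSubι X.obj (schematicLocus X.obj)))
  rw [range_map_openSubι]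
  refine mem_schematicLocus_of_hasAt_dim_zero X ?_ x hx
  intro U a u ha
  obtain ⟨_, ⟨U₀, hU₀, rfl⟩, huU₀, -⟩ :=
    U.left.isBasis_affineOpens.exists_subset_of_mem_open (Set.mem_univ u) isOpen_univ
  refine ⟨U₀, hU₀, huU₀, fun R s t hR => ?_⟩
  have hVaff : IsAffine (openOver U U₀).left := hU₀
  exact compactSpace_pullback_of_isQuasiSeparatedSp hqs _ _ s t hR

end Groth.Agent.S10453
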