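import Groth.Statements.S10455
-- import your own Groth.Agent.* helpers here
import Groth.Agent.Lib.Helper36.AlgSpHasAtMor
import Groth.Agent.Lib.Helper36.ResTrdeg
import Groth.Agent.Lib.Helper36.QuasiFiniteAt
import Groth.Agent.Lib.Helper73.DimFormula.CodimOneQF
import Groth.Agent.Lib.Helper23.AlgSpNoeth

set_option autoImplicit false
universe u
open CategoryTheory CategoryTheory.Limits AlgebraicGeometry Topology TopologicalSpace
open AlgSp

namespace Groth.Agent.S10455

open Groth.Agent.Lib.Helper36.AlgSpCharts Groth.Agent.Lib.Helper37.AlgSpPoints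
  Groth.Agent.Lib.Helper36.AlgSpChartDiag Groth.Agent.Lib.Helper36.AlgSpHasAtMor
  Groth.Agent.Lib.Helper36.AlgSpHasAt Groth.Agent.Lib.Helper36.ResTrdeg
  Groth.Agent.Lib.Helper36 Groth.Agent.Lib.Helper73

theorem isEtaleLocalGerm_stalkDim (φ : WithBot ℕ∞ → Prop) :
    IsEtaleLocalGerm (fun U u => φ (ringKrullDim ↥(U.presheaf.stalk u))) := by
  intro R U g _ r
  show φ (ringKrullDim ↥(R.presheaf.stalk r)) ↔ φ (ringKrullDim ↥(U.presheaf.stalk (g r)))
  rw [EtaleLocalDim.ringKrullDim_stalk_eq_of_etale g r]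

/-- The local ring at a point without proper generizations has dimension zero. -/
theorem ringKrullDim_stalk_eq_zero_of_maximal {U : Scheme.{u}} (η : ↥U)
    (hmax : ∀ t : ↥U, t ⤳ η → t = η) : ringKrullDim ↥(U.presheaf.stalk η) = 0 := by
  rw [ringKrullDim_stalk_eq_coheight]
  have : IsMax η := by
    intro b hb
    have : b ⤳ η := hb
    rw [hmax b this]
  have h0 : Order.coheight η = 0 := Order.coheight_eq_zero.2 this
  rw [h0]
  rfl

/-- Let f : X ⟶ Y be a morphism of algebraic spaces over a scheme S which is locally of finite type,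
with Y locally Noetherian, and let y be a point of Y of codimension at most 1. If every codimension
0 point x of X whose image specializes to y has transcendence degree 0 over its image, then every
point of X mapping to y is a point where f is quasi-finite. -/
theorem result {S : Scheme.{u}} {X Y : AlgSp.Space S} (f : X ⟶ Y)
    (hf : AlgSp.LocP @LocallyOfFiniteType f.hom) (hY : AlgSp.IsLocNoethSp Y.obj) (y : AlgSp.Points Y.obj)
    (hy : AlgSp.HasAt (fun U u => ringKrullDim ↥(U.presheaf.stalk u) ≤ 1) Y.obj y)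
    (h : ∀ x : AlgSp.Points X.obj, AlgSp.HasAt (fun U u => ringKrullDim ↥(U.presheaf.stalk u) = 0) X.obj x → AlgSp.Points.map f.hom x ⤳ y →
      AlgSp.HasAtMor (fun _ _ h u => Dual3.resTrdeg h u = 0) f.hom x)
    (x : AlgSp.Points X.obj) (hx : AlgSp.Points.map f.hom x = y) :
    AlgSp.HasAtMor (fun U _ h u => ∃ W : U.Opens, u ∈ W ∧ LocallyQuasiFinite (W.ι ≫ h) ∧ LocallyOfFiniteType (W.ι ≫ h)) f.hom x := by
  obtain ⟨U, V, a, b, hh, u, hae, has, hbe, hbs, comm, hu, hbu⟩ := exists_chart_diagram_at f x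
  have hlft : LocallyOfFiniteType hh.left := hf a b hh hae hbe comm
  have hVN : IsLocallyNoetherian V.left :=
    Groth.Agent.Lib.Helper23.AlgSpMor.isLocallyNoetherian_of_etale_chart hY b hbe
  refine ⟨U, V, a, b, hh, u, hae, hbe, comm, hu, ?_⟩
  show ∃ W : U.left.Opens, u ∈ W ∧ LocallyQuasiFinite (W.ι ≫ hh.left) ∧
    LocallyOfFiniteType (W.ι ≫ hh.left)
  rw [QuasiFiniteAt.exists_opens_lqf_iff_quasiFiniteAt]
  have hdim : ringKrullDim ↥(V.left.presheaf.stalk (hh.left u)) ≤ 1 :=
    (hasAt_iff_forall_chart (isEtaleLocalGerm_stalkDim (· ≤ 1)) (atlas' Y) y).1 hy V b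
      (hh.left u) hbe (by rw [hbu, hx])
  rw [quasiFiniteAt_iff_fibreDimAt_le_zero]
  have key := fibreDimAt_le_of_forall_generization hh.left u 0 (fun t htu hft => ?_)
  · exact_mod_cast key
  refine (resTrdegNat_eq_zero_of_stalk_dim_le_one hh.left t (by rw [hft]; exact hdim)
    (fun η hηmax hηt => ?_)).le
  have hηu : η ⤳ u := hηt.trans htu
  have hcodim0 : AlgSp.HasAt (fun U u => ringKrullDim ↥(U.presheaf.stalk u) = 0) X.obj
      (Points.ofPt a η) := ⟨U, a, η, hae, rfl, ringKrullDim_stalk_eq_zero_of_maximal η hηmax⟩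
  have hspec : Points.map f.hom (Points.ofPt a η) ⤳ y := by
    rw [Points.map_ofPt, comm, ofPt_map_comp, ← hx, ← hbu]
    exact (hηu.map hh.left.continuous).map (Points.continuous_ofPt b)
  have h0 := h _ hcodim0 hspec
  have h1 := (hasAtMor_iff_forall_chart (isEtaleLocalGermMor_resTrdeg (· = 0)) f _).1 h0
    U V a b hh η hae hbe comm rfl
  have h2 : Groth.Agent.Lib.Helper73.resTrdeg hh.left η = 0 := h1
  rw [resTrdeg_eq_resTrdegNat] at h2
  exact_mod_cast h2

end Groth.Agent.S10455
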