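import Groth.Statements.S10456
-- import your own Groth.Agent.* helpers here
import Groth.Agent.S10455
import Groth.Agent.S10313

set_option autoImplicit false
universe u
open CategoryTheory CategoryTheory.Limits AlgebraicGeometry Topology TopologicalSpace
open AlgSp

namespace Groth.Agent.S10456

open Groth.Agent.Lib.Helper36.AlgSpCharts Groth.Agent.Lib.Helper37.AlgSpPoints
  Groth.Agent.Lib.Helper36.AlgSpChartDiag Groth.Agent.Lib.Helper36.AlgSpHasAtMor
  Groth.Agent.Lib.Helper36.AlgSpHasAt Groth.Agent.Lib.Helper36.ResTrdeg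
  Groth.Agent.Lib.Helper36 Groth.Agent.Lib.Helper73 Groth.Agent.Lib.Helper36.QFLocus

/-- A point whose local ring has dimension zero has no proper generizations. -/
theorem eq_of_specializes_of_stalk_dim_zero {U : Scheme.{u}} (u : ↥U)
    (h0 : ringKrullDim ↥(U.presheaf.stalk u) = 0) (t : ↥U) (ht : t ⤳ u) : t = u := by
  rw [ringKrullDim_stalk_eq_coheight] at h0
  have h1 : Order.coheight u = 0 := by exact_mod_cast h0
  have hmax : IsMax u := Order.coheight_eq_zero.1 h1
  have h2 : u ⤳ t := hmax (show u ≤ t from ht)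
  exact (ht.antisymm h2).eq

/-- Let f : X ⟶ Y be a morphism of algebraic spaces over a scheme S which is locally of finite type,
with Y locally Noetherian, and let y be a point of Y of codimension at most 1. If the points of |X|
where f is quasi-finite form a dense subset, then every point of X mapping to y is a point where f
is quasi-finite. -/
theorem result {S : Scheme.{u}} {X Y : AlgSp.Space S} (f : X ⟶ Y)
    (hf : AlgSp.LocP @LocallyOfFiniteType f.hom) (hY : AlgSp.IsLocNoethSp Y.obj) (y : AlgSp.Points Y.obj)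
    (hy : AlgSp.HasAt (fun U u => ringKrullDim ↥(U.presheaf.stalk u) ≤ 1) Y.obj y)
    (h : Dense {x : AlgSp.Points X.obj | AlgSp.HasAtMor (fun U _ h u => ∃ W : U.Opens, u ∈ W ∧ LocallyQuasiFinite (W.ι ≫ h) ∧ LocallyOfFiniteType (W.ι ≫ h)) f.hom x})
    (x : AlgSp.Points X.obj) (hx : AlgSp.Points.map f.hom x = y) :
    AlgSp.HasAtMor (fun U _ h u => ∃ W : U.Opens, u ∈ W ∧ LocallyQuasiFinite (W.ι ≫ h) ∧ LocallyOfFiniteType (W.ι ≫ h)) f.hom x := by
  refine Groth.Agent.S10455.result f hf hY y hy (fun x₀ hx₀ _ => ?_) x hx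
  obtain ⟨U, V, a, b, hh, u, hae, has, hbe, hbs, comm, hu, hbu⟩ := exists_chart_diagram_at f x₀
  have hlft : LocallyOfFiniteType hh.left := hf a b hh hae hbe comm
  have hVN : IsLocallyNoetherian V.left :=
    Groth.Agent.Lib.Helper23.AlgSpMor.isLocallyNoetherian_of_etale_chart hY b hbe
  have hUN : IsLocallyNoetherian U.left := LocallyOfFiniteType.isLocallyNoetherian hh.left
  have hdim0 : ringKrullDim ↥(U.left.presheaf.stalk u) = 0 :=
    (hasAt_iff_forall_chart (Groth.Agent.S10455.isEtaleLocalGerm_stalkDim (· = 0)) (atlas' X)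
      x₀).1 hx₀ U a u hae hu
  have hmax : ∀ t : ↥U.left, t ⤳ u → t = u := eq_of_specializes_of_stalk_dim_zero u hdim0
  -- the quasi-finite locus is open and dense in the chart
  have hset : {x : AlgSp.Points X.obj | AlgSp.HasAtMor (fun U _ h u => ∃ W : U.Opens, u ∈ W ∧
      LocallyQuasiFinite (W.ι ≫ h) ∧ LocallyOfFiniteType (W.ι ≫ h)) f.hom x} = qfLocus f := by
    ext z
    exact Groth.Agent.S10313.hasAtMor_lqf_iff_mem_qfLocus f hf z
  rw [hset] at h
  have hopen : IsOpen (Points.ofPt a ⁻¹' qfLocus f) :=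
    (isOpen_qfLocus f hf).preimage (Points.continuous_ofPt a)
  have hdense : Dense (Points.ofPt a ⁻¹' qfLocus f) := h.preimage (isOpenMap_ofPt a hae)
  have hmem : u ∈ Points.ofPt a ⁻¹' qfLocus f :=
    mem_of_dense_of_maximal _ hopen hdense u hmax
  have hqf : hh.left.QuasiFiniteAt u := (mem_qfLocus_iff_of_chart f hf a b hh hae hbe comm u).1 hmem
  rw [quasiFiniteAt_iff_fibreDimAt_le_zero] at hqf
  have h1 := (resTrdegNat_le_fibreDimAt hh.left u).trans hqf
  have h2 : resTrdegNat hh.left u = 0 := by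
    have : resTrdegNat hh.left u ≤ 0 := by exact_mod_cast h1
    omega
  refine ⟨U, V, a, b, hh, u, hae, hbe, comm, hu, ?_⟩
  show Dual3.resTrdeg hh.left u = 0
  have h3 : Dual3.resTrdeg hh.left u = Groth.Agent.Lib.Helper73.resTrdeg hh.left u := rfl
  rw [h3, resTrdeg_eq_resTrdegNat, h2]
  simp

end Groth.Agent.S10456
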