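import Groth.Statements.S10533
import Groth.Agent.Lib.Helper23.AffDescLocal
import Groth.Agent.S0082

set_option autoImplicit false
universe u
open CategoryTheory CategoryTheory.Limits AlgebraicGeometry
open AlgSp

namespace Groth.Agent.S10533

/-- The property of morphisms of algebraic spaces over S given by f is affine (every base change to an
affine scheme is an affine scheme) is fpqc local on the base: for an fpqc covering of an algebraic
space Y by algebraic spaces Y_i, a morphism f : X ⟶ Y of algebraic spaces and cartesian squares X_i
= Y_i ×_Y X, f has the property if and only if every X_i ⟶ Y_i has it. -/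
theorem result (S : Scheme.{u}) :
    AlgSp.IsLocalOnBase (AlgSp.IsFpqcCover (S := S)) AlgSp.IsAffineMor := by
  intro ι Y Yi g hY hYi hcov X f hX Xi p q hXi hsq
  constructor
  · intro hf i
    exact Groth.Agent.Lib.Helper17.SLP.affMor_of_isPullback _ (hsq i) hf
  · intro hp Z hZ gZ
    haveI := Groth.Agent.S0082.result.{u}
    obtain ⟨W, i, fst, sq, hi⟩ :=
      Groth.Agent.Lib.Helper23.AffDesc.exists_isPullback_of_fpqc @IsAffineHom le_rfl Yi g hY hcov f
        hX Xi p q hsq (fun k Z' hZ' g' => by
          obtain ⟨W', i', fst', sq', hW'⟩ := hp k hZ' g'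
          haveI := hZ'
          haveI := hW'
          exact ⟨W', i', fst', sq', inferInstance⟩) hZ gZ
    haveI := hZ
    haveI : IsAffineHom i.left := hi
    exact ⟨W, i, fst, sq, isAffine_of_isAffineHom i.left⟩

end Groth.Agent.S10533
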