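import Groth.Statements.S10461
-- import your own Groth.Agent.* helpers here
import Groth.Agent.S10533
import Groth.Agent.Lib.Helper36.FieldBC
import Groth.Agent.Lib.Helper36.OpenImmIso
import Groth.Agent.Lib.Helper36.UnivInjEt
import Groth.Agent.Lib.Helper23.SLQGlue
import Groth.Agent.Lib.Helper23.AlgSpNoeth2
import Groth.Agent.Lib.Helper5.IsomSchC

set_option autoImplicit false
universe u
open CategoryTheory CategoryTheory.Limits AlgebraicGeometry Topology TopologicalSpace
open AlgSp

namespace Groth.Agent.S10461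

open Groth.Agent.Lib.Helper36.FieldBC Groth.Agent.Lib.Helper36.OpenSubspace
  Groth.Agent.Lib.Helper37.AlgSpPoints Groth.Agent.Lib.Helper23.AlgSpMor
  Groth.Agent.Lib.Helper23.SLQ

variable {k : Type u} [Field k] (K : Type u) [Field K] [Algebra k K]

theorem universallyInjective_specMap [IsPurelyInseparable k K] :
    UniversallyInjective (Spec.map (CommRingCat.ofHom (algebraMap k K))) := by
  apply Groth.Agent.Lib.Helper36.UnivInjEt.universallyInjective_SpecMap_of_epi
  intro L _ ψ₁ ψ₂ h
  have h1 : ψ₁.hom.comp (algebraMap k K) = ψ₂.hom.comp (algebraMap k K) := by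
    have := congrArg (fun q => q.hom) h
    simpa using this
  have h2 : ψ₁.hom = ψ₂.hom := IsPurelyInseparable.injective_comp_algebraMap k K L h1
  exact CommRingCat.hom_ext h2

theorem isIntegralHom_specMap [IsPurelyInseparable k K] :
    IsIntegralHom (Spec.map (CommRingCat.ofHom (algebraMap k K))) := by
  rw [IsIntegralHom.SpecMap_iff]
  have : Algebra.IsIntegral k K := IsPurelyInseparable.isIntegral
  exact algebraMap_isIntegral_iff.mpr this

theorem πK_injective [IsPurelyInseparable k K] (U : Over (Spec (CommRingCat.of k))) :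
    Function.Injective (πK U K).left := by
  have h1 := universallyInjective_specMap (k := k) K
  have h2 : UniversallyInjective (FBase.bcπ U.hom K) :=
    MorphismProperty.pullback_fst (P := @UniversallyInjective) _ _ h1
  exact (FBase.bcπ U.hom K).injective

theorem πK_isClosedMap [IsPurelyInseparable k K] (U : Over (Spec (CommRingCat.of k))) :
    IsClosedMap (πK U K).left := by
  have h1 := isIntegralHom_specMap (k := k) K
  have h2 : IsIntegralHom (FBase.bcπ U.hom K) :=
    MorphismProperty.pullback_fst (P := @IsIntegralHom) _ _ h1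
  exact (FBase.bcπ U.hom K).isClosedMap

theorem πK_isOpenMap [IsPurelyInseparable k K] (U : Over (Spec (CommRingCat.of k))) :
    IsOpenMap (πK U K).left := by
  intro O hO
  have hbij : Function.Bijective (πK U K).left := ⟨πK_injective K U, πK_surjective K U⟩
  have : (πK U K).left '' O = ((πK U K).left '' Oᶜ)ᶜ := by
    rw [Set.image_compl_eq hbij, compl_compl]
  rw [this]
  exact (πK_isClosedMap K U _ hO.isClosed_compl).isOpen_compl

variable {K}
variable {X : Sp (Spec (CommRingCat.of k))}

/-- `|X_K| ⟶ |X|` is injective for purely inseparable `K/k` -/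
theorem map_fst_injective [IsPurelyInseparable k K]
    (hX : ∃ (U : Over (Spec (CommRingCat.of k))) (p : (yon (Spec (CommRingCat.of k))).obj U ⟶ X),
      RepWith @Etale p ∧ RepWith @Surjective p) :
    Function.Injective (Points.map
      (prod.fst : X ⨯ (yon (Spec (CommRingCat.of k))).obj (T k K) ⟶ X)) := by
  intro x₁ x₂ h12
  obtain ⟨U, a, -, has⟩ := hX
  obtain ⟨u, hu⟩ := ofPt_surjective a has (Points.map prod.fst x₂)
  obtain ⟨u₁, hu₁, hπ₁⟩ := exists_point_aK K a x₁ u (h12.trans hu.symm)
  obtain ⟨u₂, hu₂, hπ₂⟩ := exists_point_aK K a x₂ u hu.symm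
  have : u₁ = u₂ := πK_injective K U (hπ₁.trans hπ₂.symm)
  rw [← hu₁, ← hu₂, this]

/-- `|X_K| ⟶ |X|` is open for purely inseparable `K/k` -/
theorem map_fst_isOpenMap [IsPurelyInseparable k K]
    (hX : ∃ (U : Over (Spec (CommRingCat.of k))) (p : (yon (Spec (CommRingCat.of k))).obj U ⟶ X),
      RepWith @Etale p ∧ RepWith @Surjective p) :
    IsOpenMap (Points.map
      (prod.fst : X ⨯ (yon (Spec (CommRingCat.of k))).obj (T k K) ⟶ X)) := by
  intro V' hV'
  obtain ⟨U, a, hae, has⟩ := hX
  have hpre : Points.ofPt a ⁻¹' (Points.map prod.fst '' V') =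
      (πK U K).left '' (Points.ofPt (aK K a) ⁻¹' V') := by
    ext u
    constructor
    · rintro ⟨x', hx', hx'u⟩
      obtain ⟨u', hu', hπ⟩ := exists_point_aK K a x' u hx'u
      exact ⟨u', by rw [Set.mem_preimage, hu']; exact hx', hπ⟩
    · rintro ⟨u', hu', rfl⟩
      exact ⟨Points.ofPt (aK K a) u', hu', map_fst_ofPt_aK K a u'⟩
  have hopen : IsOpen (Points.ofPt a ⁻¹' (Points.map prod.fst '' V')) := by
    rw [hpre]
    exact πK_isOpenMap K U _ (hV'.preimage (Points.continuous_ofPt _))
  have himg : Points.map prod.fst '' V' =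
      Points.ofPt a '' (Points.ofPt a ⁻¹' (Points.map prod.fst '' V')) := by
    rw [Set.image_preimage_eq _ (ofPt_surjective a has)]
  rw [himg]
  exact isOpenMap_ofPt a hae _ hopen

/-- the covering `{Spec K ⟶ Spec k}` is an fpqc covering of the terminal sheaf -/
theorem isFpqcCover_field (K : Type u) [Field K] [Algebra k K]
    (hT : IsTerminal ((yon (Spec (CommRingCat.of k))).obj (Over.mk (𝟙 (Spec (CommRingCat.of k)))))) :
    IsFpqcCover (fun _ : PUnit.{u + 1} => (yon (Spec (CommRingCat.of k))).obj (T k K))
      (fun _ => hT.from _) := by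
  have hflat : Flat (Spec.map (CommRingCat.ofHom (algebraMap k K))) := by
    rw [Flat.SpecMap_iff]
    exact (RingHom.flat_algebraMap_iff.mpr inferInstance)
  refine ⟨fun _ => ?_, fun Z hZ h => ?_⟩
  · let τ : T k K ⟶ Over.mk (𝟙 (Spec (CommRingCat.of k))) :=
      Over.homMk (T k K).hom (Category.comp_id _)
    have hτ : hT.from ((yon (Spec (CommRingCat.of k))).obj (T k K)) =
        (yon (Spec (CommRingCat.of k))).map τ := hT.hom_ext _ _
    rw [hτ]
    exact locP_yon_map_of Groth.Agent.Lib.Helper46.etLocal_flat τ hflat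
  · refine ⟨1, fun _ => UK Z K, fun _ => πK Z K, fun _ => ?_, fun _ => ?_, fun z => ?_, fun _ => ?_⟩
    · have := hZ
      show IsAffine (pullback Z.hom (Spec.map (CommRingCat.ofHom (algebraMap k K))))
      infer_instance
    · show Flat (pullback.fst Z.hom (Spec.map (CommRingCat.ofHom (algebraMap k K))))
      infer_instance
    · obtain ⟨z', hz'⟩ := πK_surjective K Z z
      exact ⟨0, z', hz'⟩
    · exact ⟨PUnit.unit, (yon (Spec (CommRingCat.of k))).map (qK Z K), hT.hom_ext _ _⟩

/-- Let k be a field, X an algebraic space over k and k'/k a purely inseparable field extension. If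
X_{k'} is a scheme, then X is a scheme. -/
theorem result (k : Type u) [Field k] (X : AlgSp.Space (Spec (CommRingCat.of k)))
    (k' : Type u) [Field k'] [Algebra k k'] [IsPurelyInseparable k k']
    (h : (X.obj ⨯ (AlgSp.yon (Spec (CommRingCat.of k))).obj (Over.mk (Spec.map (CommRingCat.ofHom (algebraMap k k'))))).obj.IsRepresentable) : X.obj.obj.IsRepresentable := by
  obtain ⟨Tsch, ⟨e⟩⟩ := exists_iso_of_isRepresentable h
  have hatlas := X.property.atlas
  have hinj := map_fst_injective (K := k') hatlas
  have hopen := map_fst_isOpenMap (K := k') hatlas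
  have hsurj := map_fst_surjective k' hatlas
  have hT : IsTerminal ((yon (Spec (CommRingCat.of k))).obj (Over.mk (𝟙 (Spec (CommRingCat.of k))))) :=
    IsTerminal.isTerminalObj (yon (Spec (CommRingCat.of k))) _ Over.mkIdTerminal
  obtain ⟨g, hg⟩ : ∃ g : (yon (Spec (CommRingCat.of k))).obj Tsch ⟶ X.obj,
      g = e.hom ≫ prod.fst := ⟨_, rfl⟩
  have hgfun : ∀ t, Points.ofPt g t = Points.map prod.fst (Points.ofPt e.hom t) := fun t => by
    rw [hg, Points.map_ofPt]
  have hee : Function.Injective (Points.ofPt e.hom) := by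
    intro t₁ t₂ h12
    rw [Points.ofPt_eq_map_ofScheme, Points.ofPt_eq_map_ofScheme] at h12
    have := congrArg (Points.map e.inv) h12
    rw [← Points.map_comp, ← Points.map_comp, Iso.hom_inv_id, Points.map_id, Points.map_id] at this
    exact (Points.schemeEquiv Tsch).injective this
  have hginj : Function.Injective (Points.ofPt g) := by
    intro t₁ t₂ h12
    rw [hgfun, hgfun] at h12
    exact hee (hinj h12)
  have hgopen : IsOpenMap (Points.ofPt g) := by
    intro O hO
    have : Points.ofPt g '' O = Points.map prod.fst '' (Points.ofPt e.hom '' O) := by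
      rw [Set.image_image]
      exact Set.image_congr fun t _ => hgfun t
    rw [this]
    exact hopen _ (isOpenMap_ofPt e.hom ((RepWith @Etale).of_isIso e.hom) _ hO)
  have hAff : ∀ t : ↥Tsch.left, ∃ O : Tsch.left.Opens, IsAffineOpen O ∧ t ∈ O := fun t => by
    obtain ⟨_, ⟨O, hO, rfl⟩, htO, -⟩ :=
      Tsch.left.isBasis_affineOpens.exists_subset_of_mem_open (Set.mem_univ t) isOpen_univ
    exact ⟨O, hO, htO⟩
  choose O hOaff htO using hAff
  refine Groth.Agent.Lib.Helper23.SLQGlue.isRepresentable_of_local
    (fun t : ↥Tsch.left => Points.ofPt g '' (O t : Set ↥Tsch.left))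
    (fun t => hgopen _ (O t).2) (fun t => ?_) (fun x => ?_)
  · -- the open subspace with points `g (O t)` is an affine scheme
    have hWo : IsOpen (Points.ofPt g '' (O t : Set ↥Tsch.left)) := hgopen _ (O t).2
    have hUalg := isAlgSpace_openSub X.obj X.property _ hWo
    have hV : preimageOpens X.obj _ hWo g = O t := by
      apply TopologicalSpace.Opens.ext
      show Points.ofPt g ⁻¹' (Points.ofPt g '' (O t : Set ↥Tsch.left)) = (O t : Set ↥Tsch.left)
      exact Set.preimage_image_eq _ hginj
    obtain ⟨top, sq⟩ := exists_isPullback_openSub X.obj _ hWo g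
    have hVaff : IsAffineOpen (preimageOpens X.obj _ hWo g) := by
      rw [hV]; exact hOaff t
    have hT₀aff : IsAffine (overOpens Tsch (preimageOpens X.obj _ hWo g)).left := hVaff
    -- the product square
    have sq2 : IsPullback (prod.fst : X.obj ⨯ (yon (Spec (CommRingCat.of k))).obj (T k k') ⟶ X.obj)
        prod.snd (hT.from _) (hT.from _) :=
      IsPullback.of_is_product' (prodIsProd X.obj ((yon (Spec (CommRingCat.of k))).obj (T k k'))) hT
    have sq2' : IsPullback g (e.hom ≫ prod.snd) (hT.from X.obj)
        (hT.from ((yon (Spec (CommRingCat.of k))).obj (T k k'))) := by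
      refine IsPullback.of_iso sq2 e.symm (Iso.refl _) (Iso.refl _) (Iso.refl _) ?_ ?_ ?_ ?_
      · rw [hg]; simp
      · simp
      · simp
      · simp
    have sq3 := sq.paste_vert sq2'
    have hfeq : openSubι X.obj (Points.ofPt g '' (O t : Set ↥Tsch.left)) ≫ hT.from X.obj =
        hT.from _ := hT.hom_ext _ _
    rw [hfeq] at sq3
    -- the projection to `Spec k'` is affine
    obtain ⟨ρ, hρ⟩ := (yon (Spec (CommRingCat.of k))).map_surjective
      ((yon (Spec (CommRingCat.of k))).map (overOpensι Tsch (preimageOpens X.obj _ hWo g)) ≫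
        e.hom ≫ prod.snd)
    have hρaff : IsAffineMor ((yon (Spec (CommRingCat.of k))).map ρ) := by
      apply Groth.Agent.Lib.Helper5.IsomSch.isAffineMor_yon_map
      have : IsAffine (T k k').left := by
        show IsAffine (Spec (CommRingCat.of k'))
        infer_instance
      infer_instance
    rw [← hρ] at sq3
    have key := Groth.Agent.S10533.result (Spec (CommRingCat.of k)) (ι := PUnit.{u + 1})
      (fun _ => (yon (Spec (CommRingCat.of k))).obj (T k k')) (fun _ => hT.from _)
      (IsAlgSpace.yon_obj _) (fun _ => IsAlgSpace.yon_obj _) (isFpqcCover_field k' hT)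
      (hT.from (openSub X.obj (Points.ofPt g '' (O t : Set ↥Tsch.left)))) hUalg
      (fun _ => (yon (Spec (CommRingCat.of k))).obj
        (overOpens Tsch (preimageOpens X.obj _ hWo g)))
      (fun _ => (yon (Spec (CommRingCat.of k))).map ρ) (fun _ => top)
      (fun _ => IsAlgSpace.yon_obj _) (fun _ => sq3)
    have hfaff : IsAffineMor (hT.from (openSub X.obj (Points.ofPt g '' (O t : Set ↥Tsch.left)))) :=
      key.2 fun _ => hρaff
    have hkaff : IsAffine (Over.mk (𝟙 (Spec (CommRingCat.of k)))).left := by
      show IsAffine (Spec (CommRingCat.of k))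
      infer_instance
    obtain ⟨W₁, i, fst, sqW, -⟩ := hfaff hkaff (𝟙 _)
    have : IsIso fst := sqW.isIso_fst_of_isIso
    exact isRepresentable_of_iso (asIso fst)
  · obtain ⟨x', rfl⟩ := hsurj x
    obtain ⟨t, ht⟩ := (Points.schemeEquiv Tsch).surjective (Points.map e.inv x')
    refine ⟨t, t, htO t, ?_⟩
    rw [hgfun, Points.ofPt_eq_map_ofScheme]
    have : Points.ofScheme Tsch t = Points.map e.inv x' := ht
    rw [this]
    congr 1
    rw [← Points.map_comp, Iso.inv_hom_id, Points.map_id]

end Groth.Agent.S10461
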