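import Groth.Statements.S10468
-- import your own Groth.Agent.* helpers here
import Groth.Agent.Lib.Helper36.FieldBCConn

set_option autoImplicit false
universe u
open CategoryTheory CategoryTheory.Limits AlgebraicGeometry Topology TopologicalSpace
open AlgSp

namespace Groth.Agent.S10468

open Groth.Agent.Lib.Helper36.FieldBC Groth.Agent.Lib.Helper36.FieldBCConn

/-- Let k be a field with separable algebraic closure k̄ and X an algebraic space over k. Then X is
geometrically connected if and only if X_{k̄} is connected. -/
theorem result (k : Type u) [Field k] (X : AlgSp.Space (Spec (CommRingCat.of k)))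
    (kbar : Type u) [Field kbar] [Algebra k kbar] [IsSepClosure k kbar] :
    (∀ (K : Type u) [Field K] [Algebra k K], ConnectedSpace (AlgSp.Points (X.obj ⨯ (AlgSp.yon (Spec (CommRingCat.of k))).obj (Over.mk (Spec.map (CommRingCat.ofHom (algebraMap k K))))))) ↔ ConnectedSpace (AlgSp.Points (X.obj ⨯ (AlgSp.yon (Spec (CommRingCat.of k))).obj (Over.mk (Spec.map (CommRingCat.ofHom (algebraMap k kbar)))))) := by
  constructor
  · intro h
    exact h kbar
  · intro h K _ _
    obtain ⟨Ω, _, ψ₁, ψ₂, hψ⟩ := AlgSp.FieldPt.exists_amalgamation (algebraMap k K) (algebraMap k kbar)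
    letI : Algebra k Ω := (ψ₁.comp (algebraMap k K)).toAlgebra
    letI : Algebra kbar Ω := ψ₂.toAlgebra
    have hsc : IsSepClosed kbar := IsSepClosure.sep_closed k
    have hψ' : ψ₂.comp (algebraMap k kbar) = algebraMap k Ω := hψ.symm
    -- `|X_Ω|` is connected
    have hΩ : ConnectedSpace (Points (X.obj ⨯ (yon (Spec (CommRingCat.of k))).obj (T k Ω))) := by
      have sq := isPullback_prod_map_snd X.obj ((yon (Spec (CommRingCat.of k))).map (gT ψ₂ hψ'))
      have : GeometricallyConnected (gT ψ₂ hψ').left :=
        Groth.Agent.Lib.Helper51.geometricallyConnected_specMap_of_isSepClosed kbar Ω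
      have : UniversallyOpen (gT ψ₂ hψ').left :=
        (inferInstance : UniversallyOpen (Spec.map (CommRingCat.ofHom ψ₂)))
      obtain ⟨h1, h2⟩ := coinducing_and_fibres_of_isPullback (gT ψ₂ hψ') prod.snd _ prod.snd sq
      exact connectedSpace_of_coinducing_fibres h1 h2
    exact (map_tower_surjective X.obj ψ₁ rfl).connectedSpace (Points.continuous_map _)

end Groth.Agent.S10468
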