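import Groth.Statements.S10469
-- import your own Groth.Agent.* helpers here
import Groth.Agent.S10468
import Groth.Agent.Lib.Helper36.GalOrbit

set_option autoImplicit false
universe u
open CategoryTheory CategoryTheory.Limits AlgebraicGeometry Topology TopologicalSpace
open AlgSp

namespace Groth.Agent.S10469

open Groth.Agent.Lib.Helper36.FieldBC Groth.Agent.Lib.Helper36.FieldBCConn
  Groth.Agent.Lib.Helper36.FieldBCGal Groth.Agent.Lib.Helper36.GalCont
  Groth.Agent.Lib.Helper36.GalOrbit Groth.Agent.Lib.Helper36.AlgSpCharts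

section

variable {k : Type u} [Field k] (K : Type u) [Field K] [Algebra k K]

/-- the automorphism of `Spec K` over `Spec k` attached to `σ` -/
noncomputable def gS (σ : K ≃ₐ[k] K) : T k K ⟶ T k K :=
  gT ((σ : K ≃ₐ[k] K).toRingHom) (by ext x; exact σ.commutes x)

theorem gS_left (σ : K ≃ₐ[k] K) :
    (gS K σ).left = Spec.map (CommRingCat.ofHom (σ : K ≃ₐ[k] K).toRingHom) := rfl

theorem gS_mul (τ σ : K ≃ₐ[k] K) : gS K τ ≫ gS K σ = gS K (τ * σ) := by
  apply Over.OverMorphism.ext
  rw [Over.comp_left, gS_left, gS_left, gS_left, ← Spec.map_comp, ← CommRingCat.ofHom_comp]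
  rfl

theorem gS_one : gS K (1 : K ≃ₐ[k] K) = 𝟙 _ := by
  apply Over.OverMorphism.ext
  rw [gS_left]
  exact Spec.map_id _

variable (X : Sp (Spec (CommRingCat.of k)))

/-- the action of the Galois group on `|X_K|` -/
noncomputable def act (σ : K ≃ₐ[k] K) :
    Points (X ⨯ (yon (Spec (CommRingCat.of k))).obj (T k K)) →
      Points (X ⨯ (yon (Spec (CommRingCat.of k))).obj (T k K)) :=
  Points.map (prod.map (𝟙 X) ((yon (Spec (CommRingCat.of k))).map (gS K σ)))

theorem act_act (τ σ : K ≃ₐ[k] K) (n : Points (X ⨯ (yon (Spec (CommRingCat.of k))).obj (T k K))) :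
    act K X σ (act K X τ n) = act K X (τ * σ) n := by
  unfold act
  rw [← Points.map_comp, prod.map_map, Category.comp_id, ← Functor.map_comp, gS_mul]

theorem act_one (n : Points (X ⨯ (yon (Spec (CommRingCat.of k))).obj (T k K))) :
    act K X 1 n = n := by
  unfold act
  rw [gS_one, CategoryTheory.Functor.map_id, prod.map_id_id, Points.map_id]

theorem continuous_act (σ : K ≃ₐ[k] K) : Continuous (act K X σ) := Points.continuous_map _

end

/-- if all finite subextensions give connected base changes, then `|X_K|` is connected -/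
theorem connected_of_finite {k : Type u} [Field k] (K : Type u) [Field K] [Algebra k K]
    [IsGalois k K] (X : AlgSp.Space (Spec (CommRingCat.of k)))
    (hfin : ∀ E : IntermediateField k K, FiniteDimensional k E →
      ConnectedSpace (Points (X.obj ⨯ (yon (Spec (CommRingCat.of k))).obj (T k E)))) :
    ConnectedSpace (Points (X.obj ⨯ (yon (Spec (CommRingCat.of k))).obj (T k K))) := by
  obtain ⟨U, a, hae, has⟩ := X.property.atlas
  rw [connectedSpace_iff_clopen]
  constructor
  · have h0 := hfin ⊥ inferInstance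
    obtain ⟨x⟩ := h0.toNonempty
    obtain ⟨w, -⟩ := map_tower_surjective X.obj (algebraMap (⊥ : IntermediateField k K) K)
      (by ext x; rfl) x
    exact ⟨w⟩
  · intro Ub hUb
    by_cases hne : Ub = ∅
    · left; exact hne
    right
    obtain ⟨u, hu⟩ := Set.nonempty_iff_ne_empty.2 hne
    obtain ⟨N₁, H₁, hN₁, huN₁, hH₁, hact₁⟩ := space_cont K a hae has u Ub hUb.isOpen hu
    obtain ⟨E, hE, hEH⟩ := (krullTopology_mem_nhds_one_iff k K _).1 (hH₁.mem_nhds H₁.one_mem)
    let G' : Subgroup (K ≃ₐ[k] K) := E.fixingSubgroup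
    let U₁ : Set (Points (X.obj ⨯ (yon (Spec (CommRingCat.of k))).obj (T k K))) :=
      {w | ∀ σ ∈ G', act K X.obj σ w ∈ Ub}
    have hu₁ : u ∈ U₁ := fun σ hσ => hact₁ σ (hEH hσ) (gS K σ) rfl u huN₁
    have hsub : U₁ ⊆ Ub := fun w hw => by
      have := hw 1 G'.one_mem
      rwa [act_one] at this
    have hclosed : IsClosed U₁ := by
      have : U₁ = ⋂ σ ∈ G', act K X.obj σ ⁻¹' Ub := by
        ext w
        simp only [U₁, Set.mem_ofPred_eq, Set.mem_iInter, Set.mem_preimage]
      rw [this]
      exact isClosed_biInter fun σ _ => hUb.isClosed.preimage (continuous_act K X.obj σ)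
    have hopen : IsOpen U₁ := by
      rw [isOpen_iff_forall_mem_open]
      intro w hw
      have key : ∀ σ ∈ G', ∃ (N : Set (Points (X.obj ⨯ (yon (Spec (CommRingCat.of k))).obj (T k K))))
          (H : Subgroup (K ≃ₐ[k] K)), IsOpen N ∧ w ∈ N ∧ IsOpen (H : Set (K ≃ₐ[k] K)) ∧
            ∀ τ ∈ H, ∀ n ∈ N, act K X.obj (τ * σ) n ∈ Ub := by
        intro σ hσ
        have hwσ : w ∈ act K X.obj σ ⁻¹' Ub := hw σ hσ
        obtain ⟨N, H, hN, hwN, hH, hact⟩ := space_cont K a hae has w (act K X.obj σ ⁻¹' Ub)
          (hUb.isOpen.preimage (continuous_act K X.obj σ)) hwσ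
        refine ⟨N, H, hN, hwN, hH, fun τ hτ n hn => ?_⟩
        have h1 : act K X.obj τ n ∈ act K X.obj σ ⁻¹' Ub :=
          hact τ hτ (gS K τ) (gS_left K τ) n hn
        rw [Set.mem_preimage, act_act] at h1
        exact h1
      choose! N H hN hwN hH hact using key
      have hG'c : IsCompact (G' : Set (K ≃ₐ[k] K)) := E.fixingSubgroup_isClosed.isCompact
      obtain ⟨t, htG, htfin, hcov⟩ := hG'c.elim_finite_subcover_image (b := (G' : Set (K ≃ₐ[k] K)))
        (c := fun σ => (fun ρ => ρ * σ⁻¹) ⁻¹' (H σ : Set (K ≃ₐ[k] K)))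
        (fun σ hσ => (hH σ hσ).preimage (continuous_mul_const _))
        (fun σ hσ => Set.mem_biUnion hσ (by simp [(H σ).one_mem]))
      refine ⟨⋂ σ ∈ t, N σ, ?_, htfin.isOpen_biInter fun σ hσ => hN σ (htG hσ),
        Set.mem_iInter₂.2 fun σ hσ => hwN σ (htG hσ)⟩
      intro n hn ρ hρ
      obtain ⟨σ, hσt, hρσ⟩ := Set.mem_iUnion₂.1 (hcov hρ)
      have := hact σ (htG hσt) (ρ * σ⁻¹) hρσ n (Set.mem_iInter₂.1 hn σ hσt)
      rwa [inv_mul_cancel_right] at this
    let g : T k K ⟶ T k E := gT (algebraMap E K) (by ext x; rfl)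
    have hgl : g.left = Spec.map (CommRingCat.ofHom (algebraMap E K)) := rfl
    let π := Points.map (prod.map (𝟙 X.obj) ((yon (Spec (CommRingCat.of k))).map g))
    have sq := isPullback_prod_map_snd X.obj ((yon (Spec (CommRingCat.of k))).map g)
    have hπo : IsOpenMap π := by
      have : UniversallyOpen g.left :=
        (inferInstance : UniversallyOpen (Spec.map (CommRingCat.ofHom (algebraMap E K))))
      have hpo : RepWith @UniversallyOpen
          (prod.map (𝟙 X.obj) ((yon (Spec (CommRingCat.of k))).map g)) :=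
        (RepWith (S := Spec (CommRingCat.of k)) @UniversallyOpen).of_isPullback sq.flip
          ((repWith_yon_map_iff @UniversallyOpen g).2 inferInstance)
      exact Groth.Agent.Lib.Helper23.AlgSpMor.isOpenMap_points_of_repWith_universallyOpen _ hpo
    have hπs : Function.Surjective π :=
      map_tower_surjective X.obj (algebraMap E K) (by ext x; rfl)
    have hsat : π ⁻¹' (π '' U₁) = U₁ := by
      apply Set.Subset.antisymm
      · rintro w' ⟨v, hv, hvw⟩
        obtain ⟨σ, hσ⟩ := exists_gal_of_isPullback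
          (Spec.map (CommRingCat.ofHom (algebraMap k E)))
          (Spec.map (CommRingCat.ofHom (algebraMap k K)))
          g hgl prod.snd _ prod.snd sq v w' hvw
        let σ₀ : K ≃ₐ[k] K := σ.restrictScalars k
        have hσ₀ : σ₀ ∈ G' := fun x => σ.commutes x
        have hgg : gS K σ₀ ≫ g = g := by
          apply Over.OverMorphism.ext
          rw [Over.comp_left, gS_left, hgl, ← Spec.map_comp, ← CommRingCat.ofHom_comp]
          congr 2
          ext x
          exact σ.commutes x
        have h1 : act K X.obj σ₀ v = w' :=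
          hσ (gS K σ₀) (prod.map (𝟙 X.obj) ((yon (Spec (CommRingCat.of k))).map (gS K σ₀))) rfl
            (by rw [prod.map_map, Category.comp_id, ← Functor.map_comp, hgg])
            (prod.map_snd _ _)
        rw [← h1]
        intro ρ hρ
        rw [act_act]
        exact hv _ (G'.mul_mem hσ₀ hρ)
      · exact Set.subset_preimage_image _ _
    have hcl : IsClopen (π '' U₁) := by
      refine ⟨?_, hπo _ hopen⟩
      have hcompl : (π '' U₁)ᶜ = π '' U₁ᶜ := by
        ext y
        constructor
        · intro hy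
          obtain ⟨w, rfl⟩ := hπs y
          exact ⟨w, fun hw => hy ⟨w, hw, rfl⟩, rfl⟩
        · rintro ⟨w, hw, rfl⟩ hy
          have : w ∈ π ⁻¹' (π '' U₁) := hy
          rw [hsat] at this
          exact hw this
      rw [← isOpen_compl_iff, hcompl]
      exact hπo _ hclosed.isOpen_compl
    haveI := hfin E hE
    rcases isClopen_iff.1 hcl with h | h
    · exfalso
      have : π u ∈ π '' U₁ := ⟨u, hu₁, rfl⟩
      rw [h] at this
      exact this
    · have hU₁ : U₁ = Set.univ := by rw [← hsat, h, Set.preimage_univ]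
      exact Set.eq_univ_of_univ_subset (hU₁ ▸ hsub)

/-- Let k be a field and X an algebraic space over k. Then X is geometrically connected if and only if
X_{k'} is connected for every finite separable field extension k' of k. -/
theorem result (k : Type u) [Field k] (X : AlgSp.Space (Spec (CommRingCat.of k))) :
    (∀ (K : Type u) [Field K] [Algebra k K], ConnectedSpace (AlgSp.Points (X.obj ⨯ (AlgSp.yon (Spec (CommRingCat.of k))).obj (Over.mk (Spec.map (CommRingCat.ofHom (algebraMap k K))))))) ↔
      ∀ (k' : Type u) [Field k'] [Algebra k k'], Module.Finite k k' → Algebra.IsSeparable k k' →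
        ConnectedSpace (AlgSp.Points (X.obj ⨯ (AlgSp.yon (Spec (CommRingCat.of k))).obj (Over.mk (Spec.map (CommRingCat.ofHom (algebraMap k k')))))) := by
  constructor
  · intro h k' _ _ _ _
    exact h k'
  · intro h
    rw [Groth.Agent.S10468.result k X (SeparableClosure k)]
    apply connected_of_finite
    intro E hE
    exact h E hE inferInstance

end Groth.Agent.S10469
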