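import Groth.Statements.S1047
import Mathlib.Tactic
import Groth.Agent.Lib.Helper43.PCTowerNC
import Groth.Agent.Lib.Helper43.PCHomology
import Groth.Agent.Lib.Helper15.PseudoCoh
import Groth.Agent.Lib.Helper15.ExactFunctorD
import Groth.Agent.S2066
import Mathlib.Algebra.Homology.ShortComplex.PreservesHomology
-- import your own Groth.Agent.* helpers here

set_option autoImplicit false
universe u
open CategoryTheory CategoryTheory.Limits
attribute [local instance] HasDerivedCategory.standard
open Perf

namespace Groth.Agent.S1047

open CategoryTheory.Pretriangulated DerivedCategory CochainComplex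
  Groth.Agent.Lib.Helper43 Groth.Agent.Lib.Helper15
  Groth.Agent.Lib.Helper15.MQI Groth.Agent.Lib.Helper84 Groth.Agent.Lib.Helper15.ExactFunctorD

section

variable {A : Type u} [CommRing A] {R : Type u} [Ring R] [Algebra A R]

/-- restriction of scalars -/
noncomputable abbrev res : ModuleCat.{u} R ⥤ ModuleCat.{u} A :=
  ModuleCat.restrictScalars.{u} (algebraMap A R)

/-- a module which is finite after restriction of scalars is finite -/
lemma finite_of_res (M : ModuleCat.{u} R)
    (h : Module.Finite A ((res (A := A) (R := R)).obj M)) : Module.Finite R M := by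
  obtain ⟨S, hS⟩ := h.fg_top
  have key : ∀ y : (res (A := A) (R := R)).obj M,
      y ∈ Submodule.span A (S : Set ((res (A := A) (R := R)).obj M)) →
        (y : M) ∈ Submodule.span R
          (show Set M from (S : Set ((res (A := A) (R := R)).obj M))) := by
    intro y hy
    induction hy using Submodule.span_induction with
    | mem y hy => exact Submodule.subset_span hy
    | zero => exact Submodule.zero_mem _
    | add y z _ _ hy hz => exact Submodule.add_mem _ hy hz
    | smul a y _ hy =>
      rw [ModuleCat.restrictScalars.smul_def]
      exact Submodule.smul_mem _ _ hy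
  refine ⟨⟨(show Finset M from S), ?_⟩⟩
  rw [eq_top_iff]
  intro x _
  exact key x (by rw [hS]; trivial)

/-- restriction of a finite free module over a finite free algebra is finite free -/
lemma finiteFree_res [Module.Finite A R] [Module.Free A R] (N : ModuleCat.{u} R)
    (h : Module.Finite R N ∧ Module.Free R N) :
    Module.Finite A ((res (A := A) (R := R)).obj N) ∧
      Module.Free A ((res (A := A) (R := R)).obj N) := by
  obtain ⟨h1, h2⟩ := h
  let N' := (res (A := A) (R := R)).obj N
  letI : Module R N' := inferInstanceAs (Module R N)
  haveI : IsScalarTower A R N' := IsScalarTower.of_algebraMap_smul (fun _ _ => rfl)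
  haveI : Module.Finite R N' := h1
  haveI : Module.Free R N' := h2
  exact ⟨Module.Finite.trans R N', Module.Free.trans (R := A) (S := R) (M := N')⟩

variable [PreservesFiniteLimits (res (A := A) (R := R))]
  [PreservesFiniteColimits (res (A := A) (R := R))]

/-- restriction on derived categories -/
noncomputable abbrev resD : DerivedCategory (ModuleCat.{u} R) ⥤ DerivedCategory (ModuleCat.{u} A) :=
  (res (A := A) (R := R)).mapDerivedCategory

/-- termwise restriction of complexes -/
noncomputable abbrev resCx : CochainComplex (ModuleCat.{u} R) ℤ ⥤ CochainComplex (ModuleCat.{u} A) ℤ :=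
  (res (A := A) (R := R)).mapHomologicalComplex (ComplexShape.up ℤ)

/-- restriction of scalars commutes with cohomology in the derived category -/
noncomputable def homologyResIso (C : CochainComplex (ModuleCat.{u} R) ℤ) (j : ℤ) :
    (homologyFunctor (ModuleCat.{u} A) j).obj ((resD (A := A) (R := R)).obj (Q.obj C)) ≅
      (res (A := A) (R := R)).obj ((homologyFunctor (ModuleCat.{u} R) j).obj (Q.obj C)) :=
  (homologyFunctor (ModuleCat.{u} A) j).mapIso
      ((res (A := A) (R := R)).mapDerivedCategoryFactors.app C) ≪≫
    (homologyFunctorFactors (ModuleCat.{u} A) j).app _ ≪≫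
    (C.sc j).mapHomologyIso (res (A := A) (R := R)) ≪≫
    (res (A := A) (R := R)).mapIso ((homologyFunctorFactors (ModuleCat.{u} R) j).app C).symm

end

/-- Let A be a commutative ring and R an A-algebra, not necessarily commutative, whose underlying
A-module is finite free. Restriction of scalars being exact (carried as instance hypotheses), if an
object M of D(R) becomes pseudo-coherent in D(A) after restriction of scalars (isomorphic to a
bounded above complex of finite free A-modules), then M is represented by a bounded above complex of
finite free R-modules. (The source phrases this for right modules; we use left modules, which is the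
same statement for the opposite algebra.) -/
theorem result (A : Type u) [CommRing A] (R : Type u) [Ring R] [Algebra A R]
    [Module.Finite A R] [Module.Free A R]
    [PreservesFiniteLimits (ModuleCat.restrictScalars.{u} (algebraMap A R))] [PreservesFiniteColimits (ModuleCat.restrictScalars.{u} (algebraMap A R))]
    (M : DerivedCategory (ModuleCat.{u} R))
    (hM : DRing.IsPseudoCoherent' A (((ModuleCat.restrictScalars.{u} (algebraMap A R)).mapDerivedCategory).obj M)) :
    ∃ (F : CochainComplex (ModuleCat.{u} R) ℤ) (b : ℤ), (∀ i : ℤ, b < i → IsZero (F.X i)) ∧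
      (∀ i : ℤ, Module.Finite R (F.X i) ∧ Module.Free R (F.X i)) ∧ Nonempty (DerivedCategory.Q.obj F ≅ M) := by
  have hall : ∀ m : ℤ, DRing.IsPseudoCoherent A m ((resD (A := A) (R := R)).obj M) :=
    (Groth.Agent.S2066.result _).1.2 hM
  let L : CochainComplex (ModuleCat.{u} R) ℤ := Q.objPreimage M
  let e : Q.obj L ≅ M := Q.objObjPreimageIso M
  obtain ⟨n, hnK⟩ := PseudoCoh.isLE_of_isPseudoCoherent (hall 0)
  have hMn : M.IsLE n := (isLE_mapDerivedCategory_iff (res (A := A) (R := R)) M n).1 hnK
  have hn : ∀ i : ℤ, n < i → IsZero ((homologyFunctor (ModuleCat.{u} R) i).obj (Q.obj L)) :=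
    fun i hi => IsZero.of_iso (isZero_of_isLE M n i hi)
      ((homologyFunctor (ModuleCat.{u} R) i).mapIso e)
  have hfin : ∀ j : ℤ, j ≤ n → PCTowerNC.FinCond L n j := by
    intro j _ F α hF hff hacyc
    have hT := mappingCone_triangle_distinguished α
    have hT' := (resD (A := A) (R := R)).map_distinguished _ hT
    have h1 : PseudoCoh.PCAll A ((resD (A := A) (R := R)).obj (Q.obj F)) := by
      refine PseudoCoh.PCAll.of_iso ((res (A := A) (R := R)).mapDerivedCategoryFactors.app F).symm ?_
      exact PseudoCoh.pcAll_of_finiteFree ((resCx (A := A) (R := R)).obj F) (j + 1) n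
        (fun i hi => (res (A := A) (R := R)).map_isZero (hF i hi))
        (fun i => finiteFree_res (F.X i) (hff i))
    have h2 : DRing.IsPseudoCoherent A j ((resD (A := A) (R := R)).obj (Q.obj L)) :=
      PseudoCoh.of_iso ((resD (A := A) (R := R)).mapIso e.symm) (hall j)
    have h3 : DRing.IsPseudoCoherent A j ((resD (A := A) (R := R)).obj (Q.obj (mappingCone α))) :=
      PseudoCoh.obj₃ j _ hT' (h1 (j + 1)) h2
    have hfinA := PCHomology.finite_homology_of_isPseudoCoherent _ j h3
      (fun i hi => IsZero.of_iso ((res (A := A) (R := R)).map_isZero (hacyc i hi))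
        (homologyResIso (A := A) (R := R) (mappingCone α) i))
    exact finite_of_res _
      (Module.Finite.equiv (homologyResIso (A := A) (R := R) (mappingCone α) j).toLinearEquiv)
  obtain ⟨F, α, h1, h2, h3⟩ := PCTowerNC.exists_resolution L n hn hfin
  exact ⟨F, n, h1, h2, ⟨asIso (Q.map α) ≪≫ e⟩⟩

end Groth.Agent.S1047
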