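import Groth.Statements.S10470
-- import your own Groth.Agent.* helpers here
import Groth.Agent.Lib.Helper36.FieldBCGal

set_option autoImplicit false
universe u
open CategoryTheory CategoryTheory.Limits AlgebraicGeometry Topology TopologicalSpace
open AlgSp

namespace Groth.Agent.S10470

open Groth.Agent.Lib.Helper36.FieldBC Groth.Agent.Lib.Helper36.FieldBCConn
  Groth.Agent.Lib.Helper36.FieldBCGal

/-- Let k be a field, K/k a (possibly infinite) Galois extension and X an algebraic space over k. A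
closed subset of |X_K| stable under the action of every element of Gal(K/k) is the inverse image of
a closed subset of |X|. -/
theorem result (k : Type u) [Field k] (X : AlgSp.Space (Spec (CommRingCat.of k))) (K : Type u) [Field K] [Algebra k K] [IsGalois k K]
    (T : Set (AlgSp.Points (X.obj ⨯ (AlgSp.yon (Spec (CommRingCat.of k))).obj (Over.mk (Spec.map (CommRingCat.ofHom (algebraMap k K))))))) (hT : IsClosed T)
    (hσ : ∀ (σ : K ≃ₐ[k] K) (g : (Over.mk (Spec.map (CommRingCat.ofHom (algebraMap k K))) : Over (Spec (CommRingCat.of k))) ⟶ Over.mk (Spec.map (CommRingCat.ofHom (algebraMap k K)))),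
      g.left = Spec.map (CommRingCat.ofHom (σ : K ≃ₐ[k] K).toRingHom) →
        AlgSp.Points.map (Limits.prod.map (𝟙 X.obj) ((AlgSp.yon (Spec (CommRingCat.of k))).map g)) '' T = T) :
    ∃ T₀ : Set (AlgSp.Points X.obj), IsClosed T₀ ∧
      AlgSp.Points.map (Limits.prod.fst : (X.obj ⨯ (AlgSp.yon (Spec (CommRingCat.of k))).obj (Over.mk (Spec.map (CommRingCat.ofHom (algebraMap k K))))) ⟶ X.obj) ⁻¹' T₀ = T := by
  let f := Points.map (prod.fst : X.obj ⨯ (yon (Spec (CommRingCat.of k))).obj (Groth.Agent.Lib.Helper36.FieldBC.T k K) ⟶ X.obj)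
  let gσ : ∀ σ : K ≃ₐ[k] K, Groth.Agent.Lib.Helper36.FieldBC.T k K ⟶ Groth.Agent.Lib.Helper36.FieldBC.T k K := fun σ =>
    gT ((σ : K ≃ₐ[k] K).toRingHom) (by ext x; exact σ.commutes x)
  have hgσ : ∀ σ : K ≃ₐ[k] K, (gσ σ).left =
      Spec.map (CommRingCat.ofHom (σ : K ≃ₐ[k] K).toRingHom) := fun σ => rfl
  have hsat : f ⁻¹' (f '' T) = T := by
    apply Set.Subset.antisymm
    · rintro w' ⟨w, hw, hww'⟩
      obtain ⟨σ, rfl⟩ := exists_gal_map_eq K X.property.atlas gσ hgσ w w' hww'
      rw [← hσ σ (gσ σ) (hgσ σ)]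
      exact ⟨w, hw, rfl⟩
    · exact Set.subset_preimage_image _ _
  have hsurj : Function.Surjective f := map_fst_surjective K X.property.atlas
  have hopen : IsOpenMap f := isOpenMap_map_fst K
  refine ⟨f '' T, ?_, hsat⟩
  have hcompl : (f '' T)ᶜ = f '' Tᶜ := by
    ext y
    constructor
    · intro hy
      obtain ⟨w, rfl⟩ := hsurj y
      refine ⟨w, fun hw => hy ⟨w, hw, rfl⟩, rfl⟩
    · rintro ⟨w, hw, rfl⟩ hy
      have : w ∈ f ⁻¹' (f '' T) := hy
      rw [hsat] at this
      exact hw this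
  rw [← isOpen_compl_iff, hcompl]
  exact hopen _ hT.isOpen_compl

end Groth.Agent.S10470
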