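import Groth.Statements.S10471
-- import your own Groth.Agent.* helpers here
import Groth.Agent.Lib.Helper36.GalCont

set_option autoImplicit false
universe u
open CategoryTheory CategoryTheory.Limits AlgebraicGeometry Topology TopologicalSpace
open AlgSp

namespace Groth.Agent.S10471

open Groth.Agent.Lib.Helper36.FieldBC Groth.Agent.Lib.Helper36.FieldBCConn
  Groth.Agent.Lib.Helper36.FieldBCGal Groth.Agent.Lib.Helper36.GalCont

/-- Let k be a field, K/k a (possibly infinite) Galois extension, X an algebraic space over k and V a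
quasi-compact open of |X_K|. Then there is an open subgroup H of Gal(K/k) with σ(V) = V for all σ ∈
H. -/
theorem result (k : Type u) [Field k] (X : AlgSp.Space (Spec (CommRingCat.of k))) (K : Type u) [Field K] [Algebra k K]
    [IsGalois k K] (V : Set (AlgSp.Points (X.obj ⨯ (AlgSp.yon (Spec (CommRingCat.of k))).obj (Over.mk (Spec.map (CommRingCat.ofHom (algebraMap k K))))))) (hV : IsOpen V) (hVc : IsCompact V) :
    ∃ H : Subgroup (K ≃ₐ[k] K), IsOpen (H : Set (K ≃ₐ[k] K)) ∧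
      ∀ σ ∈ H, ∀ (g : (Over.mk (Spec.map (CommRingCat.ofHom (algebraMap k K))) : Over (Spec (CommRingCat.of k))) ⟶ Over.mk (Spec.map (CommRingCat.ofHom (algebraMap k K)))),
        g.left = Spec.map (CommRingCat.ofHom (σ : K ≃ₐ[k] K).toRingHom) →
          AlgSp.Points.map (Limits.prod.map (𝟙 X.obj) ((AlgSp.yon (Spec (CommRingCat.of k))).map g)) '' V = V := by
  obtain ⟨U, a, hae, has⟩ := X.property.atlas
  have key : ∀ w ∈ V, ∃ (N : Set (Points (X.obj ⨯ (yon (Spec (CommRingCat.of k))).obj (T k K))))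
      (H : Subgroup (K ≃ₐ[k] K)), IsOpen N ∧ w ∈ N ∧ IsOpen (H : Set (K ≃ₐ[k] K)) ∧
        ∀ σ ∈ H, ∀ (g : T k K ⟶ T k K),
          g.left = Spec.map (CommRingCat.ofHom (σ : K ≃ₐ[k] K).toRingHom) →
          ∀ n ∈ N, Points.map (prod.map (𝟙 X.obj) ((yon (Spec (CommRingCat.of k))).map g)) n ∈ V :=
    fun w hw => space_cont K a hae has w V hV hw
  choose! N H hN hwN hH hact using key
  obtain ⟨t, htV, htfin, hcov⟩ := hVc.elim_finite_subcover_image (b := V) (c := N)
    (fun w hw => hN w hw) (fun w hw => Set.mem_biUnion hw (hwN w hw))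
  have hsub : ∀ σ ∈ (⨅ i ∈ t, H i : Subgroup (K ≃ₐ[k] K)), ∀ (g : T k K ⟶ T k K),
      g.left = Spec.map (CommRingCat.ofHom (σ : K ≃ₐ[k] K).toRingHom) →
      Points.map (prod.map (𝟙 X.obj) ((yon (Spec (CommRingCat.of k))).map g)) '' V ⊆ V := by
    rintro σ hσ g hg _ ⟨v, hv, rfl⟩
    obtain ⟨i, hi, hvi⟩ := Set.mem_iUnion₂.1 (hcov hv)
    have hσi : σ ∈ H i := by
      have := Subgroup.mem_iInf.1 hσ i
      exact Subgroup.mem_iInf.1 this hi
    exact hact i (htV hi) σ hσi g hg v hvi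
  refine ⟨⨅ i ∈ t, H i, ?_, ?_⟩
  · have : ((⨅ i ∈ t, H i : Subgroup (K ≃ₐ[k] K)) : Set (K ≃ₐ[k] K)) =
        ⋂ i ∈ t, (H i : Set (K ≃ₐ[k] K)) := by
      simp [Subgroup.coe_iInf]
    rw [this]
    exact htfin.isOpen_biInter fun i hi => hH i (htV hi)
  · intro σ hσ g hg
    apply Set.Subset.antisymm (hsub σ hσ g hg)
    intro v hv
    let g' : T k K ⟶ T k K := gT ((σ⁻¹ : K ≃ₐ[k] K).toRingHom) (by ext x; exact (σ⁻¹).commutes x)
    have hg' : g'.left = Spec.map (CommRingCat.ofHom ((σ⁻¹ : K ≃ₐ[k] K) : K ≃ₐ[k] K).toRingHom) := rfl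
    have hcomp : g' ≫ g = 𝟙 _ := by
      apply Over.OverMorphism.ext
      rw [Over.comp_left, hg, hg', ← Spec.map_comp, ← CommRingCat.ofHom_comp]
      have : ((σ⁻¹ : K ≃ₐ[k] K).toRingHom).comp (σ : K ≃ₐ[k] K).toRingHom = RingHom.id K := by
        ext x
        exact σ.symm_apply_apply x
      rw [this]
      exact Spec.map_id _
    have hv' := hsub σ⁻¹ (inv_mem hσ) g' hg' ⟨v, hv, rfl⟩
    refine ⟨_, hv', ?_⟩
    rw [← Points.map_comp, prod.map_map, Category.comp_id, ← Functor.map_comp, hcomp,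
      CategoryTheory.Functor.map_id, prod.map_id_id, Points.map_id]

end Groth.Agent.S10471
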