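import Groth.Statements.S10472
-- import your own Groth.Agent.* helpers here
import Groth.Agent.S10471
import Groth.Agent.Lib.Helper36.GalOrbit

set_option autoImplicit false
universe u
open CategoryTheory CategoryTheory.Limits AlgebraicGeometry Topology TopologicalSpace
open AlgSp

namespace Groth.Agent.S10472

open Groth.Agent.Lib.Helper36.FieldBC Groth.Agent.Lib.Helper36.FieldBCConn
  Groth.Agent.Lib.Helper36.FieldBCGal Groth.Agent.Lib.Helper36.GalCont
  Groth.Agent.Lib.Helper36.GalOrbit Groth.Agent.Lib.Helper36.AlgSpCharts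

/-- Let k be a field, K/k a (possibly infinite) Galois extension, X an algebraic space over k and V a
quasi-compact open of |X_K|. Then there are a finite subextension k' of K/k and a quasi-compact open
V' of |X_{k'}| with V the inverse image of V' in |X_K|. -/
theorem result (k : Type u) [Field k] (X : AlgSp.Space (Spec (CommRingCat.of k))) (K : Type u) [Field K] [Algebra k K]
    [IsGalois k K] (V : Set (AlgSp.Points (X.obj ⨯ (AlgSp.yon (Spec (CommRingCat.of k))).obj (Over.mk (Spec.map (CommRingCat.ofHom (algebraMap k K))))))) (hV : IsOpen V) (hVc : IsCompact V) :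
    ∃ (k' : IntermediateField k K) (_ : FiniteDimensional k k')
      (g : (Over.mk (Spec.map (CommRingCat.ofHom (algebraMap k K))) : Over (Spec (CommRingCat.of k))) ⟶ Over.mk (Spec.map (CommRingCat.ofHom (algebraMap k k')))),
      g.left = Spec.map (CommRingCat.ofHom (algebraMap k' K)) ∧
      ∃ V' : Set (AlgSp.Points (X.obj ⨯ (AlgSp.yon (Spec (CommRingCat.of k))).obj (Over.mk (Spec.map (CommRingCat.ofHom (algebraMap k k')))))), IsOpen V' ∧ IsCompact V' ∧
        AlgSp.Points.map (Limits.prod.map (𝟙 X.obj) ((AlgSp.yon (Spec (CommRingCat.of k))).map g)) ⁻¹' V' = V := by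
  obtain ⟨H, hH, hHV⟩ := Groth.Agent.S10471.result k X K V hV hVc
  have hnh : (H : Set (K ≃ₐ[k] K)) ∈ nhds (1 : K ≃ₐ[k] K) := hH.mem_nhds H.one_mem
  obtain ⟨E, hE, hEH⟩ := (krullTopology_mem_nhds_one_iff k K _).1 hnh
  let g : T k K ⟶ T k E := gT (algebraMap E K) (by ext x; rfl)
  have hgl : g.left = Spec.map (CommRingCat.ofHom (algebraMap E K)) := rfl
  let π := Points.map (prod.map (𝟙 X.obj) ((yon (Spec (CommRingCat.of k))).map g))
  have sq := isPullback_prod_map_snd X.obj ((yon (Spec (CommRingCat.of k))).map g)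
  have hopen : IsOpenMap π := by
    have : UniversallyOpen g.left :=
      (inferInstance : UniversallyOpen (Spec.map (CommRingCat.ofHom (algebraMap E K))))
    have hpo : RepWith @UniversallyOpen
        (prod.map (𝟙 X.obj) ((yon (Spec (CommRingCat.of k))).map g)) :=
      (RepWith (S := Spec (CommRingCat.of k)) @UniversallyOpen).of_isPullback sq.flip
        ((repWith_yon_map_iff @UniversallyOpen g).2 inferInstance)
    exact Groth.Agent.Lib.Helper23.AlgSpMor.isOpenMap_points_of_repWith_universallyOpen _ hpo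
  refine ⟨E, hE, g, hgl, π '' V, hopen V hV, hVc.image (Points.continuous_map _), ?_⟩
  apply Set.Subset.antisymm
  · rintro w' ⟨v, hv, hvw⟩
    obtain ⟨σ, hσ⟩ := exists_gal_of_isPullback
      (Spec.map (CommRingCat.ofHom (algebraMap k E))) (Spec.map (CommRingCat.ofHom (algebraMap k K)))
      g hgl prod.snd _ prod.snd sq v w' hvw
    let gσ : T k K ⟶ T k K := gT ((σ : K ≃ₐ[E] K).toRingHom) (by
      ext x
      exact σ.commutes (algebraMap k E x))
    have hgσ : gσ.left = Spec.map (CommRingCat.ofHom (σ : K ≃ₐ[E] K).toRingHom) := rfl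
    have hgg : gσ ≫ g = g := by
      apply Over.OverMorphism.ext
      rw [Over.comp_left, hgσ, hgl, ← Spec.map_comp, ← CommRingCat.ofHom_comp]
      congr 2
      ext x
      exact σ.commutes x
    have h1 := hσ gσ (prod.map (𝟙 X.obj) ((yon (Spec (CommRingCat.of k))).map gσ)) hgσ
      (by rw [prod.map_map, Category.comp_id, ← Functor.map_comp, hgg])
      (prod.map_snd _ _)
    let σ₀ : K ≃ₐ[k] K := σ.restrictScalars k
    have hσ₀ : σ₀ ∈ H := by
      apply hEH
      intro x
      exact σ.commutes x
    have h2 := hHV σ₀ hσ₀ gσ rfl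
    rw [← h2]
    exact ⟨v, hv, h1⟩
  · exact Set.subset_preimage_image _ _

end Groth.Agent.S10472
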