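import Groth.Statements.S10473
-- import your own Groth.Agent.* helpers here
import Groth.Agent.Lib.Helper36.GeomRedGerm

set_option autoImplicit false
universe u
open CategoryTheory CategoryTheory.Limits AlgebraicGeometry Topology TopologicalSpace
open AlgSp

namespace Groth.Agent.S10473

open Groth.Agent.Lib.Helper36.GeomRedGerm Groth.Agent.Lib.Helper37.AlgSpPoints

/-- (2) ⇔ (3): let k be a field, X an algebraic space over k and x a point of X. Then some etale
neighbourhood (U, u) of (X, x) with U a scheme is geometrically reduced at u, if and only if every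
such etale neighbourhood is geometrically reduced at its point over x. -/
theorem result (k : Type u) [Field k] (X : AlgSp.Space (Spec (CommRingCat.of k))) (x : AlgSp.Points X.obj) :
    (∃ (U : Over (Spec (CommRingCat.of k))) (a : (AlgSp.yon (Spec (CommRingCat.of k))).obj U ⟶ X.obj) (u : ↥U.left),
      AlgSp.RepWith @Etale a ∧ AlgSp.Points.ofPt a u = x ∧ FBase.IsGeomReducedAt U.hom u) ↔
      ∀ (U : Over (Spec (CommRingCat.of k))) (a : (AlgSp.yon (Spec (CommRingCat.of k))).obj U ⟶ X.obj) (u : ↥U.left),
        AlgSp.RepWith @Etale a → AlgSp.Points.ofPt a u = x → FBase.IsGeomReducedAt U.hom u := by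
  constructor
  · rintro ⟨U0, a0, u0, ha0, hu0, hq⟩ U a u ha hu
    exact (germOver_iff_of_ofPt_eq (isEtaleLocalGermOver_isGeomReducedAt k) a0 a ha0 ha u0 u
      (hu0.trans hu.symm)).1 hq
  · intro h
    obtain ⟨U, p, hpe, hps⟩ := X.property.atlas
    obtain ⟨u, hu⟩ := ofPt_surjective p hps x
    exact ⟨U, p, u, hpe, hu, h U p u hpe hu⟩

end Groth.Agent.S10473
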