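import Groth.Statements.S10475
-- import your own Groth.Agent.* helpers here
import Groth.Agent.Lib.Helper36.GeomRedGerm
import Groth.Agent.Lib.Helper51.GeomRedAt

set_option autoImplicit false
universe u
open CategoryTheory CategoryTheory.Limits AlgebraicGeometry Topology TopologicalSpace
open AlgSp

namespace Groth.Agent.S10475

open Groth.Agent.Lib.Helper36.GeomRedGerm Groth.Agent.Lib.Helper37.AlgSpPoints

/-- Over a perfect field, a point with reduced local ring is a geometrically reduced point. -/
theorem isGeomReducedAt_of_perfectField (k : Type u) [Field k] [PerfectField k] {U : Scheme.{u}}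
    (f : U ⟶ Spec (CommRingCat.of k)) (u : U) [_root_.IsReduced (U.presheaf.stalk u)] :
    FBase.IsGeomReducedAt f u := by
  letI : Algebra k (U.presheaf.stalk u) :=
    RingHom.toAlgebra ((U.presheaf.germ ⊤ u trivial).hom.comp (Coh.toGlobal f))
  have hψ : Spec.map (CommRingCat.ofHom (algebraMap k (U.presheaf.stalk u))) =
      U.fromSpecStalk u ≫ f := Groth.Agent.Lib.Helper51.specMap_stalkMapOf f u
  have hgr : Algebra.IsGeometricallyReduced k (U.presheaf.stalk u) :=
    Groth.Agent.Lib.Helper51.isGeometricallyReduced_of_perfectField_of_isReduced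
  exact (Groth.Agent.Lib.Helper51.isGeomReducedAt_iff f u hψ).2 hgr

/-- Let k be a perfect field and X a reduced algebraic space over k. Then X is geometrically reduced
over k (geometrically reduced at every point). -/
theorem result (k : Type u) [Field k] [PerfectField k]
    (X : AlgSp.Space (Spec (CommRingCat.of k))) (hX : AlgSp.EtaleLocally (fun U => IsReduced U) X.obj) (x : AlgSp.Points X.obj) :
    (∃ (U : Over (Spec (CommRingCat.of k))) (a : (AlgSp.yon (Spec (CommRingCat.of k))).obj U ⟶ X.obj) (u : ↥U.left),
      AlgSp.RepWith @Etale a ∧ AlgSp.Points.ofPt a u = x ∧ FBase.IsGeomReducedAt U.hom u) := by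
  obtain ⟨U, p, hpe, hps, hU⟩ := hX
  obtain ⟨u, hu⟩ := ofPt_surjective p hps x
  have : IsReduced U.left := hU
  exact ⟨U, p, u, hpe, hu, isGeomReducedAt_of_perfectField k U.hom u⟩

end Groth.Agent.S10475
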