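import Groth.Statements.S10479
-- import your own Groth.Agent.* helpers here
import Groth.Agent.Lib.Helper36.FieldBCRed
import Groth.Agent.S10473

set_option autoImplicit false
universe u
open CategoryTheory CategoryTheory.Limits AlgebraicGeometry Topology TopologicalSpace
open AlgSp

namespace Groth.Agent.S10479

open Groth.Agent.Lib.Helper36.FieldBC Groth.Agent.Lib.Helper36.FieldBCRed
  Groth.Agent.Lib.Helper36.GeomRedGerm
  Groth.Agent.Lib.Helper36.AlgSpCharts Groth.Agent.Lib.Helper37.AlgSpPoints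

/-- Let k be a field, X an algebraic space over k, K/k a field extension, x a point of X and x' a point
of X_K lying over x. Then X is geometrically reduced at x (over k) if and only if X_K is
geometrically reduced at x' (over K). -/
theorem result (k : Type u) [Field k] (X : AlgSp.Space (Spec (CommRingCat.of k))) (K : Type u) [Field K] [Algebra k K]
    (x : AlgSp.Points X.obj) (x' : AlgSp.Points (X.obj ⨯ (AlgSp.yon (Spec (CommRingCat.of k))).obj (Over.mk (Spec.map (CommRingCat.ofHom (algebraMap k K))))))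
    (hx' : AlgSp.Points.map (Limits.prod.fst : (X.obj ⨯ (AlgSp.yon (Spec (CommRingCat.of k))).obj (Over.mk (Spec.map (CommRingCat.ofHom (algebraMap k K))))) ⟶ X.obj) x' = x) :
    (∃ (U : Over (Spec (CommRingCat.of k))) (a : (AlgSp.yon (Spec (CommRingCat.of k))).obj U ⟶ X.obj) (u : ↥U.left),
      AlgSp.RepWith @Etale a ∧ AlgSp.Points.ofPt a u = x ∧ FBase.IsGeomReducedAt U.hom u) ↔
      ∃ (U' : Over (Spec (CommRingCat.of k))) (a' : (AlgSp.yon (Spec (CommRingCat.of k))).obj U' ⟶ (X.obj ⨯ (AlgSp.yon (Spec (CommRingCat.of k))).obj (Over.mk (Spec.map (CommRingCat.ofHom (algebraMap k K))))))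
        (q : U' ⟶ Over.mk (Spec.map (CommRingCat.ofHom (algebraMap k K)))) (u' : ↥U'.left),
        AlgSp.RepWith @Etale a' ∧ a' ≫ Limits.prod.snd = (AlgSp.yon (Spec (CommRingCat.of k))).map q ∧
          AlgSp.Points.ofPt a' u' = x' ∧ FBase.IsGeomReducedAt q.left u' := by
  constructor
  · rintro ⟨U, a, u, ha, hu, hred⟩
    obtain ⟨u', hu'1, hu'2⟩ := exists_point_aK K a x' u (hx'.trans hu.symm)
    refine ⟨UK U K, aK K a, qK U K, u', repWith_aK K a ha, aK_snd K a, hu'1, ?_⟩
    rw [← isGeomReducedAt_bc_iff, hu'2]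
    exact hred
  · rintro ⟨U', a', q, u', ha', hq, hu', hred⟩
    obtain ⟨U, a, hae, has⟩ := X.property.atlas
    obtain ⟨u, hu⟩ := ofPt_surjective a has x
    obtain ⟨u'', hu''1, hu''2⟩ := exists_point_aK K a x' u (hx'.trans hu.symm)
    refine ⟨U, a, u, hae, hu, ?_⟩
    rw [← hu''2, isGeomReducedAt_bc_iff]
    exact (isGeomReducedAt_iff_of_charts Limits.prod.snd a' (aK K a) ha' (repWith_aK K a hae) q
      (qK U K) hq (aK_snd K a) u' u'' (hu'.trans hu''1.symm)).1 hred

end Groth.Agent.S10479
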