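import Groth.Statements.S10481
-- import your own Groth.Agent.* helpers here
import Groth.Agent.Lib.Helper36.GeomRedGerm
import Groth.Agent.Lib.Helper23.AlgSpMor2

set_option autoImplicit false
universe u
open CategoryTheory CategoryTheory.Limits AlgebraicGeometry Topology TopologicalSpace
open AlgSp

namespace Groth.Agent.S10481

open Groth.Agent.Lib.Helper36.GeomRedGerm Groth.Agent.Lib.Helper37.AlgSpPoints
open Groth.Agent.Lib.Helper23.AlgSpMor

/-- Let k be a field, f : X ⟶ Y a morphism of algebraic spaces over k and x a point of X at which f is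
etale. Then X is geometrically reduced at x if and only if Y is geometrically reduced at the image
of x. -/
theorem result (k : Type u) [Field k] {X Y : AlgSp.Space (Spec (CommRingCat.of k))} (f : X ⟶ Y)
    (x : AlgSp.Points X.obj)
    (he : AlgSp.HasAtMor (fun U _ h u => ∃ W : U.Opens, u ∈ W ∧ Etale (W.ι ≫ h)) f.hom x) :
    (∃ (U : Over (Spec (CommRingCat.of k))) (a : (AlgSp.yon (Spec (CommRingCat.of k))).obj U ⟶ X.obj) (u : ↥U.left),
      AlgSp.RepWith @Etale a ∧ AlgSp.Points.ofPt a u = x ∧ FBase.IsGeomReducedAt U.hom u) ↔ (∃ (U : Over (Spec (CommRingCat.of k))) (a : (AlgSp.yon (Spec (CommRingCat.of k))).obj U ⟶ Y.obj) (u : ↥U.left),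
      AlgSp.RepWith @Etale a ∧ AlgSp.Points.ofPt a u = (AlgSp.Points.map f.hom x) ∧ FBase.IsGeomReducedAt U.hom u) := by
  obtain ⟨U, V, a, b, h, u, ha, hb, comm, hu, W, huW, hW⟩ := he
  have hQ := isEtaleLocalGermOver_isGeomReducedAt k
  have hι : Etale (overOpensι U W).left := by
    change Etale W.ι
    infer_instance
  have hιh : Etale (overOpensι U W ≫ h).left := by
    change Etale (W.ι ≫ h.left)
    exact hW
  have e1 := hQ (overOpensι U W) hι ⟨u, huW⟩
  have e2 := hQ (overOpensι U W ≫ h) hιh ⟨u, huW⟩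
  have e3 : FBase.IsGeomReducedAt U.hom u ↔ FBase.IsGeomReducedAt V.hom (h.left u) :=
    e1.symm.trans e2
  have hv : Points.ofPt b (h.left u) = Points.map f.hom x := by
    rw [← ofPt_map_comp, ← comm, ← Points.map_ofPt, hu]
  constructor
  · rintro ⟨U0, a0, u0, ha0, hu0, hq⟩
    have h1 := (germOver_iff_of_ofPt_eq hQ a0 a ha0 ha u0 u (hu0.trans hu.symm)).1 hq
    exact ⟨V, b, h.left u, hb, hv, e3.1 h1⟩
  · rintro ⟨V0, b0, v0, hb0, hv0, hq⟩
    have h1 := (germOver_iff_of_ofPt_eq hQ b0 b hb0 hb v0 (h.left u) (hv0.trans hv.symm)).1 hq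
    exact ⟨U, a, u, ha, hu, e3.2 h1⟩

end Groth.Agent.S10481
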