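import Groth.Statements.S10482
-- import your own Groth.Agent.* helpers here
import Groth.Agent.S10392

set_option autoImplicit false
universe u
open CategoryTheory CategoryTheory.Limits AlgebraicGeometry Topology TopologicalSpace
open AlgSp

namespace Groth.Agent.S10482

open Groth.Agent.Lib.Helper36.AlgSpCharts Groth.Agent.Lib.Helper37.AlgSpPoints

/-- (1) ⇔ (2): let k be a field and X an algebraic space over k. Then X is locally quasi-finite over k
if and only if X is locally of finite type over k of dimension at most 0. (The published statement
says dimension 0; dimension at most 0 is used so that the empty space, whose dimension is the bottom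
element, is covered by both sides.) -/
theorem result (k : Type u) [Field k] (X : AlgSp.Space (Spec (CommRingCat.of k))) (p : X.obj ⟶ (AlgSp.yon (Spec (CommRingCat.of k))).obj (Over.mk (𝟙 _))) :
    AlgSp.LocP (@LocallyQuasiFinite ⊓ @LocallyOfFiniteType : MorphismProperty Scheme.{u}) p ↔ AlgSp.LocP @LocallyOfFiniteType p ∧ AlgSp.dim X.obj ≤ 0 := by
  constructor
  · intro H
    have hlft : AlgSp.LocP @LocallyOfFiniteType p := fun U V a b h ha hb w => (H a b h ha hb w).2
    refine ⟨hlft, ?_⟩
    unfold AlgSp.dim
    refine iSup_le fun U => iSup_le fun a => iSup_le fun hae => ?_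
    obtain ⟨h, hh⟩ := (yon _).map_surjective (a ≫ p)
    have hq := H a (𝟙 _) h hae (repWith_id @Etale _) (by rw [hh, Category.comp_id])
    have : LocallyQuasiFinite h.left := hq.1
    have hArt : IsLocallyArtinian (Spec (CommRingCat.of k)) := by
      rw [Scheme.isLocallyArtinianScheme_Spec]
      infer_instance
    have : IsLocallyArtinian U.left :=
      IsLocallyArtinian.of_locallyQuasiFinite (Y := Spec (CommRingCat.of k)) h.left
    exact topologicalKrullDim_zero_of_discreteTopology _
  · rintro ⟨hlft, hdim⟩ U V a b h ha hb w
    have hl : LocallyOfFiniteType h.left := hlft a b h ha hb w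
    refine ⟨?_, hl⟩
    have hUlft := Groth.Agent.S10391.exists_lft_of_chart k p hlft U a ha
    have hN : IsLocallyNoetherian U.left :=
      LocallyOfFiniteType.isLocallyNoetherian (Y := Spec (CommRingCat.of k)) U.hom
    have hdU : topologicalKrullDim ↥U.left ≤ 0 := by
      refine le_trans ?_ hdim
      unfold AlgSp.dim
      refine le_trans ?_ (le_iSup _ U)
      refine le_trans ?_ (le_iSup _ a)
      exact le_iSup (fun _ : RepWith @Etale a => topologicalKrullDim ↥U.left) ha
    have hdisc := Groth.Agent.S10392.discreteTopology_of_dim_le_zero hdU
    rw [locallyQuasiFinite_iff_isDiscrete_preimage_singleton]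
    intro x
    rw [isDiscrete_iff_discreteTopology]
    infer_instance

end Groth.Agent.S10482
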