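import Groth.Statements.S10483
import Groth.Agent.S10482
import Groth.Agent.S10451
import Groth.Agent.Lib.Helper37.EtaleFibres

set_option autoImplicit false
universe u
open CategoryTheory CategoryTheory.Limits AlgebraicGeometry Topology TopologicalSpace
open AlgSp

namespace Groth.Agent.S10483

open Groth.Agent.Lib.Helper30.DecentOpenScheme Groth.Agent.Lib.Helper36.OpenSubspace
  Groth.Agent.Lib.Helper30.SchemLoc2 Groth.Agent.Lib.Helper37.AlgSpPoints
  Groth.Agent.Lib.Helper37.AlgSpFibres Groth.Agent.Lib.Helper30.Codim0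
  Groth.Agent.Lib.Helper37.QsSober Groth.Agent.Lib.Helper30.DecentSober
  Groth.Agent.Lib.Helper36.AlgSpCharts Groth.Agent.Lib.Helper30.QuotRep
  Groth.Agent.Lib.Helper30.ZeroDimField

set_option backward.isDefEq.respectTransparency.types false in
/-- Étale charts of a space with `LocP P` structure map have structure morphism with `P`. -/
theorem prop_chart {P : MorphismProperty Scheme.{u}} {S : Scheme.{u}} {F : Sp S}
    (p : F ⟶ (yon S).obj (Over.mk (𝟙 S))) (hp : LocP P p) {V : Over S}
    (a : (yon S).obj V ⟶ F) (ha : RepWith @Etale a) : P V.hom := by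
  obtain ⟨h, hh⟩ := (yon S).map_surjective (a ≫ p)
  have h1 : P h.left :=
    hp a (𝟙 _) h ha (repWith_id _ _) (by rw [hh, Category.comp_id])
  have h2 : h.left = V.hom := by
    have := Over.w h
    simpa using this
  rwa [h2] at h1

set_option backward.isDefEq.respectTransparency.types false in
/-- A space locally of finite type over a field of dimension at most 0 is a scheme. -/
theorem exists_scheme (k : Type u) [Field k]
    (X : AlgSp.Space (Spec (CommRingCat.of k)))
    (p : X.obj ⟶ (AlgSp.yon (Spec (CommRingCat.of k))).obj (Over.mk (𝟙 _)))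
    (hp : AlgSp.LocP @LocallyOfFiniteType p) (hd : AlgSp.dim X.obj ≤ 0) :
    ∃ (U : Over (Spec (CommRingCat.of k))),
      Nonempty ((AlgSp.yon (Spec (CommRingCat.of k))).obj U ≅ X.obj) := by
  have hrep : X.obj.obj.IsRepresentable := by
    refine Groth.Agent.Lib.Helper23.SLQGlue.isRepresentable_of_local
      (fun _ : PUnit.{u+1} => schematicLocus X.obj) (fun _ => isOpen_schematicLocus _)
      (fun _ => isRepresentable_schematicLocus X) (fun x => ⟨⟨⟩, ?_⟩)
    obtain ⟨V, a, v, hV, ha, rfl⟩ := exists_affine_chart X x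
    have hR := ha.rep.isPullback' a
    have hft : LocallyOfFiniteType V.hom := locallyOfFiniteType_chart p hp a ha
    have hdim : topologicalKrullDim ↥V.left ≤ 0 :=
      le_trans (Groth.Agent.S10451.dim_chart_le a ha) hd
    have hfin : IsFinite V.hom := isFinite_of_dim_le_zero V.hom hdim
    have hRfin : Finite ↥(ha.rep.pullback a).left := finite_kernelPair hR
    have hcR : CompactSpace ↥(ha.rep.pullback a).left := inferInstance
    exact mem_schematicLocus_of_minimal X ha hR v
      (fun v' hv' => Groth.Agent.Lib.Helper11.ZeroDim.eq_of_specializes hdim hv')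
  exact Groth.Agent.Lib.Helper23.SLQ.exists_iso_of_isRepresentable hrep

theorem isLocalRing_of_singleton {Y : Scheme.{u}} {V : Y.Opens} (hV : IsAffineOpen V) (u : ↥Y)
    (hVu : (V : Set ↥Y) = {u}) : IsLocalRing ↥Γ(Y, V) := by
  have hinj : Function.Injective hV.fromSpec := hV.fromSpec.isOpenEmbedding.injective
  have hmem : ∀ a : ↥(Spec Γ(Y, V)), hV.fromSpec a = u := fun a => by
    have : hV.fromSpec a ∈ (V : Set ↥Y) := by
      rw [← hV.range_fromSpec]; exact ⟨a, rfl⟩
    rw [hVu] at this
    exact this
  have hsub : ∀ a b : PrimeSpectrum ↥Γ(Y, V), a = b := fun a b =>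
    hinj ((hmem a).trans (hmem b).symm)
  have hne : Nonempty (PrimeSpectrum ↥Γ(Y, V)) := by
    have : u ∈ Set.range hV.fromSpec := by
      rw [hV.range_fromSpec, hVu]; rfl
    obtain ⟨a, -⟩ := this
    exact ⟨a⟩
  have hnt : Nontrivial ↥Γ(Y, V) := (PrimeSpectrum.nonempty_iff_nontrivial).1 hne
  obtain ⟨m, hm⟩ := Ideal.exists_maximal ↥Γ(Y, V)
  refine IsLocalRing.of_unique_max_ideal ⟨m, hm, fun m' hm' => ?_⟩
  have := hsub ⟨m', hm'.isPrime⟩ ⟨m, hm.isPrime⟩
  exact congrArg PrimeSpectrum.asIdeal this

set_option backward.isDefEq.respectTransparency.types false in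
/-- (1) ⇔ (5): let k be a field and X an algebraic space over k. Then X is locally quasi-finite over k
if and only if X decomposes as a disjoint union of spectra of finite-dimensional Artinian local
k-algebras: X is a scheme every point of which has an affine open neighbourhood with Artinian local
coordinate ring, finite over k. -/
theorem result (k : Type u) [Field k] (X : AlgSp.Space (Spec (CommRingCat.of k))) (p : X.obj ⟶ (AlgSp.yon (Spec (CommRingCat.of k))).obj (Over.mk (𝟙 _))) :
    AlgSp.LocP (@LocallyQuasiFinite ⊓ @LocallyOfFiniteType : MorphismProperty Scheme.{u}) p ↔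
      ∃ (U : Over (Spec (CommRingCat.of k))) (_ : (AlgSp.yon (Spec (CommRingCat.of k))).obj U ≅ X.obj), ∀ u : ↥U.left, ∃ V : U.left.Opens,
        u ∈ V ∧ IsAffineOpen V ∧ IsArtinianRing ↥Γ(U.left, V) ∧ IsLocalRing ↥Γ(U.left, V) ∧
          IsFinite (V.ι ≫ U.hom) := by
  have hArt : IsLocallyArtinian (Spec (CommRingCat.of k)) := by
    rw [Scheme.isLocallyArtinianScheme_Spec]
    infer_instance
  constructor
  · intro H
    obtain ⟨hlft, hdim⟩ := (Groth.Agent.S10482.result k X p).1 H
    obtain ⟨U, ⟨e⟩⟩ := exists_scheme k X p hlft hdim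
    have he : RepWith @Etale e.hom := (RepWith @Etale).of_isIso e.hom
    have hUP := prop_chart p H e.hom he
    have hqf : LocallyQuasiFinite U.hom := hUP.1
    have hft : LocallyOfFiniteType U.hom := hUP.2
    have hUA : IsLocallyArtinian U.left :=
      IsLocallyArtinian.of_locallyQuasiFinite (Y := Spec (CommRingCat.of k)) U.hom
    refine ⟨U, e, fun u => ?_⟩
    let V : U.left.Opens := ⟨{u}, isOpen_discrete _⟩
    have hVc : IsCompact (V : Set ↥U.left) := isCompact_singleton
    have hV : IsAffineOpen V := Groth.Agent.Lib.Helper11.ZeroDim.isAffineOpen_of_isCompact V hVc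
    have hVaff : IsAffine V.toScheme := hV
    refine ⟨V, rfl, hV, IsLocallyArtinian.isArtinianRing_presheaf_obj ⟨V, hV⟩,
      isLocalRing_of_singleton hV u rfl, ?_⟩
    have h1 : LocallyQuasiFinite (V.ι ≫ U.hom) := inferInstance
    have h2 : QuasiCompact (V.ι ≫ U.hom) := inferInstance
    exact IsFinite.of_locallyQuasiFinite _
  · rintro ⟨U, e, hloc⟩ W V' a b h ha hb w
    choose Vu hu hVa hAr hLoc hFin using hloc
    have hcov : iSup Vu = ⊤ := by
      rw [eq_top_iff]
      intro x _
      exact Opens.mem_iSup.2 ⟨x, hu x⟩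
    have hqf : LocallyQuasiFinite U.hom :=
      IsZariskiLocalAtSource.of_iSup_eq_top (P := @LocallyQuasiFinite) Vu hcov (fun u => by
        have := hFin u; infer_instance)
    have hft : LocallyOfFiniteType U.hom :=
      IsZariskiLocalAtSource.of_iSup_eq_top (P := @LocallyOfFiniteType) Vu hcov (fun u => by
        have := hFin u; infer_instance)
    obtain ⟨g, hg⟩ := (yon _).map_surjective (a ≫ e.inv)
    have hge' : RepWith @Etale (a ≫ e.inv) :=
      (RepWith @Etale).comp_mem _ _ ha ((RepWith @Etale).of_isIso e.inv)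
    have hge : Etale g.left := (repWith_yon_map_iff @Etale g).1 (hg ▸ hge')
    have hgq : LocallyQuasiFinite g.left :=
      Groth.Agent.Lib.Helper37.EtaleFibres.locallyQuasiFinite_of_etale g.left
    have hW1 : LocallyQuasiFinite (h.left ≫ V'.hom) := by
      rw [Over.w h, ← Over.w g]; infer_instance
    have hW2 : LocallyOfFiniteType (h.left ≫ V'.hom) := by
      rw [Over.w h, ← Over.w g]; infer_instance
    exact ⟨LocallyQuasiFinite.of_comp h.left V'.hom, locallyOfFiniteType_of_comp h.left V'.hom⟩

end Groth.Agent.S10483
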