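import Groth.Statements.S10484
import Groth.Agent.S10483
import Groth.Agent.Lib.Helper30.MonoLqf

set_option autoImplicit false
universe u
open CategoryTheory CategoryTheory.Limits AlgebraicGeometry Topology TopologicalSpace
open AlgSp

namespace Groth.Agent.S10484

open Groth.Agent.Lib.Helper36.AlgSpCharts Groth.Agent.Lib.Helper37.AlgSpPoints

set_option backward.isDefEq.respectTransparency.types false in
/-- For a field k, local quasi-finiteness over k passes from the target Y of a monomorphism f : X ⟶ Y of
algebraic spaces over k to its source X. -/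
theorem result (k : Type u) [Field k] {X Y : AlgSp.Space (Spec (CommRingCat.of k))} (f : X ⟶ Y)
    [Mono f.hom] (q : Y.obj ⟶ (AlgSp.yon (Spec (CommRingCat.of k))).obj (Over.mk (𝟙 _))) (hq : AlgSp.LocP (@LocallyQuasiFinite ⊓ @LocallyOfFiniteType : MorphismProperty Scheme.{u}) q) :
    AlgSp.LocP (@LocallyQuasiFinite ⊓ @LocallyOfFiniteType : MorphismProperty Scheme.{u}) (f.hom ≫ q) := by
  obtain ⟨U, e, hloc⟩ := (Groth.Agent.S10483.result k Y q).1 hq
  choose Vu hu hVa hAr hLoc hFin using hloc
  have hcov : iSup Vu = ⊤ := by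
    rw [eq_top_iff]
    intro x _
    exact Opens.mem_iSup.2 ⟨x, hu x⟩
  have hUA : IsLocallyArtinian U.left :=
    (isLocallyArtinian_iff_of_isOpenCover (U := Vu) hcov hVa).2 hAr
  have hqf : LocallyQuasiFinite U.hom :=
    IsZariskiLocalAtSource.of_iSup_eq_top (P := @LocallyQuasiFinite) Vu hcov (fun u => by
      have := hFin u; infer_instance)
  have hft : LocallyOfFiniteType U.hom :=
    IsZariskiLocalAtSource.of_iSup_eq_top (P := @LocallyOfFiniteType) Vu hcov (fun u => by
      have := hFin u; infer_instance)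
  intro W V' a b h ha hb w
  obtain ⟨g, hg⟩ := (yon _).map_surjective (a ≫ f.hom ≫ e.inv)
  have sq := ha.rep.isPullback' a
  have hp1 : Etale (ha.rep.fst' a).left := prop_fst_of_isPullback sq ha
  have hmono : Mono (f.hom ≫ e.inv) := mono_comp _ _
  have sq' : IsPullback ((yon _).map (ha.rep.fst' a)) ((yon _).map (ha.rep.snd a))
      ((yon _).map g) ((yon _).map g) := by
    rw [hg]
    exact IsKernelPair.comp_of_mono (f₂ := f.hom ≫ e.inv) sq
  have hw : ha.rep.fst' a ≫ g = ha.rep.snd a ≫ g := by
    apply (yon _).map_injective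
    rw [Functor.map_comp, Functor.map_comp]
    exact sq'.w
  have sqO : IsPullback (ha.rep.fst' a) (ha.rep.snd a) g g := IsPullback.of_map (yon _) hw sq'
  have sqS := sqO.map (Over.forget _)
  have hfst : Etale (pullback.fst g.left g.left) := by
    have h1 : sqS.isoPullback.hom ≫ pullback.fst g.left g.left = (ha.rep.fst' a).left :=
      sqS.isoPullback_hom_fst
    have h2 : pullback.fst g.left g.left = sqS.isoPullback.inv ≫ (ha.rep.fst' a).left := by
      rw [← h1, Iso.inv_hom_id_assoc]
    rw [h2]
    have hiso : Etale sqS.isoPullback.inv := inferInstance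
    exact MorphismProperty.comp_mem (@Etale) _ _ hiso hp1
  obtain ⟨hg1, hg2⟩ := Groth.Agent.Lib.Helper30.MonoLqf.lqf_lft_of_etale_kernelPair g.left hfst
  have hW1 : LocallyQuasiFinite (h.left ≫ V'.hom) := by
    rw [Over.w h, ← Over.w g]; infer_instance
  have hW2 : LocallyOfFiniteType (h.left ≫ V'.hom) := by
    rw [Over.w h, ← Over.w g]; infer_instance
  exact ⟨LocallyQuasiFinite.of_comp h.left V'.hom, locallyOfFiniteType_of_comp h.left V'.hom⟩

end Groth.Agent.S10484
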