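import Groth.Statements.S10485
-- import your own Groth.Agent.* helpers here
import Groth.Agent.S10486
import Groth.Agent.S10320
import Groth.Agent.S10455
import Groth.Agent.Lib.Helper36.QuasiFiniteAt

set_option autoImplicit false
universe u
open CategoryTheory CategoryTheory.Limits AlgebraicGeometry Topology TopologicalSpace
open AlgSp

namespace Groth.Agent.S10485

open Groth.Agent.Lib.Helper36.AlgSpChartDiag Groth.Agent.Lib.Helper36.AlgSpHasAtMor
  Groth.Agent.Lib.Helper36.ResTrdeg Groth.Agent.Lib.Helper36 Groth.Agent.Lib.Helper37.AlgSpPoints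
  Groth.Agent.Lib.Helper36.QuasiFiniteAt

/-- (4) ⇔ (5): let f : X ⟶ Y be a dominant morphism locally of finite type between integral algebraic
spaces over a scheme S, with generic points x and y. Then f is quasi-finite at x if and only if x is
the only point of X mapping to y. -/
theorem result {S : Scheme.{u}} {X Y : AlgSp.Space S} (hXi : AlgSp.IsIntegralSp X.obj) (hYi : AlgSp.IsIntegralSp Y.obj)
    (f : X ⟶ Y) (hft : AlgSp.LocP @LocallyOfFiniteType f.hom) (hd : AlgSp.IsDominantMor f.hom)
    (x : AlgSp.Points X.obj) (hx : IsGenericPoint x (Set.univ : Set (AlgSp.Points X.obj)))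
    (y : AlgSp.Points Y.obj) (hy : IsGenericPoint y (Set.univ : Set (AlgSp.Points Y.obj))) :
    AlgSp.HasAtMor (fun U _ h u => ∃ W : U.Opens, u ∈ W ∧ LocallyQuasiFinite (W.ι ≫ h) ∧ LocallyOfFiniteType (W.ι ≫ h)) f.hom x ↔ (∀ x' : AlgSp.Points X.obj, AlgSp.Points.map f.hom x' = y → x' = x) := by
  have key := Groth.Agent.S10486.result hXi hYi f hft hd x hx y hy
  have hXd : AlgSp.IsDecent X.obj := hXi.2.1
  constructor
  · rintro ⟨U, V, a, b, h, u, hae, hbe, weq, hu, W, huW, hq, -⟩
    refine key.1 ⟨U, V, a, b, h, u, hae, hbe, weq, hu, ?_⟩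
    have h1 := resTrdeg_eq_zero_of_locallyQuasiFinite (W.ι ≫ h.left) ⟨u, huW⟩
    have h2 := resTrdeg_eq h.left (W.ι ≫ h.left) W.ι (𝟙 V.left) (by rw [Category.comp_id]) ⟨u, huW⟩
    rw [← h1, ← h2]
    rfl
  · intro hu
    have hr := key.2 hu
    have H := (hasAtMor_iff_forall_chart (isEtaleLocalGermMor_resTrdeg (· = 0)) f x).1 hr
    obtain ⟨W, V, a, b, h, w, hae, has, hbe, hbs, weq, hw, hv⟩ := exists_chart_diagram_at f x
    have : LocallyOfFiniteType h.left := hft a b h hae hbe weq
    have h0 : Dual3.resTrdeg h.left w = 0 := H W V a b h w hae hbe weq hw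
    refine ⟨W, V, a, b, h, w, hae, hbe, weq, hw, ?_⟩
    show ∃ W' : W.left.Opens, w ∈ W' ∧ LocallyQuasiFinite (W'.ι ≫ h.left) ∧
      LocallyOfFiniteType (W'.ι ≫ h.left)
    rw [exists_opens_lqf_iff_quasiFiniteAt, ← fibreDimAt_eq_zero_iff_quasiFiniteAt,
      Groth.Agent.S10320.fibreDimAt_eq_add, h0]
    have hfa : ∀ w' : ↥W.left, AlgSp.Points.map f.hom (AlgSp.Points.ofPt a w') =
        AlgSp.Points.ofPt b (h.left w') := by
      intro w'
      rw [AlgSp.Points.map_ofPt, weq, ofPt_map_comp]
    have hfx : AlgSp.Points.map f.hom x = y :=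
      Groth.Agent.S10486.map_generic_eq hYi.2.1 f hd x hx y hy
    have hst : ringKrullDim ↥((h.left.fiber (h.left w)).presheaf.stalk (h.left.asFiber w)) = 0 := by
      apply Groth.Agent.S10455.ringKrullDim_stalk_eq_zero_of_maximal
      intro t ht
      have ht' := ht.map (h.left.fiberι (h.left w)).continuous
      rw [h.left.fiberι_asFiber w] at ht'
      have hht : h.left (h.left.fiberι (h.left w) t) = h.left w := (h.left.fiberHomeo (h.left w) t).2
      have hx' : AlgSp.Points.ofPt a (h.left.fiberι (h.left w) t) = x := by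
        apply hu
        rw [hfa, hht, ← hfa, hw, hfx]
      have := Groth.Agent.S10340.result X hXd a hae w _ (hw.trans hx'.symm) ht'
      apply (h.left.fiberι (h.left w)).isEmbedding.injective
      rw [← this, h.left.fiberι_asFiber w]
    rw [hst]
    simp

end Groth.Agent.S10485
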