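import Groth.Statements.S10489
import Groth.Agent.Lib.Helper30.SmoothRegular

set_option autoImplicit false
universe u
open CategoryTheory CategoryTheory.Limits AlgebraicGeometry Topology TopologicalSpace
open AlgSp

namespace Groth.Agent.S10489

/-- Let k be a field and X an algebraic space which is smooth over k. Then X is regular as an algebraic
space. -/
theorem result (k : Type u) [Field k] (X : AlgSp.Space (Spec (CommRingCat.of k))) (p : X.obj ⟶ (AlgSp.yon (Spec (CommRingCat.of k))).obj (Over.mk (𝟙 _))) (hp : AlgSp.LocP @Smooth p) :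
    AlgSp.EtaleLocally (fun U => IsLocallyNoetherian U ∧ ∀ u : ↥U, IsRegularLocalRing ↥(U.presheaf.stalk u)) X.obj := by
  obtain ⟨U, a, haE, haS⟩ := X.property.atlas
  obtain ⟨h, hh⟩ := (AlgSp.yon (Spec (CommRingCat.of k))).map_surjective (a ≫ p)
  have hsm : Smooth h.left :=
    hp a (𝟙 _) h haE (AlgSp.repWith_id @Etale _) (by rw [hh, Category.comp_id])
  have hleft : h.left = U.hom := by
    have := Over.w h
    simpa using this
  rw [hleft] at hsm
  refine ⟨U, a, haE, haS, ?_, ?_⟩
  · exact Groth.Agent.Lib.Helper30.SmoothRegular.isLocallyNoetherian_of_smooth_field k U.hom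
  · intro u
    exact Groth.Agent.Lib.Helper30.SmoothRegular.stalk_regular_of_smooth_field k U.hom u

end Groth.Agent.S10489
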