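import Groth.Statements.S10490
-- import your own Groth.Agent.* helpers here
import Groth.Agent.Lib.Helper22.SmoothSepPts
import Groth.Agent.Lib.Helper51.GenFibre
import Groth.Agent.Lib.Helper37.AlgSpPoints

set_option autoImplicit false
universe u
open CategoryTheory CategoryTheory.Limits AlgebraicGeometry Topology TopologicalSpace
open AlgSp

namespace Groth.Agent.S10490

open Groth.Agent.Lib.Helper37.AlgSpPoints Opposite

theorem exists_val_of_str_eq {S : Scheme.{u}} {F : AlgSp.Sp S} (p : AlgSp.FieldPt F)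
    (s : Spec (CommRingCat.of p.K) ⟶ S) (hs : s = p.str) :
    ∃ v : F.obj.obj (op (Over.mk s)), AlgSp.Points.mk ⟨p.K, s, v⟩ = AlgSp.Points.mk p := by
  subst hs
  exact ⟨p.val, rfl⟩

/-- Let k be a field and X an algebraic space smooth over k. Then the points of X which are images of
morphisms Spec k' ⟶ X over k with k' a finite separable extension of k form a dense subset of |X|. -/
theorem result (k : Type u) [Field k] (X : AlgSp.Space (Spec (CommRingCat.of k))) (p : X.obj ⟶ (AlgSp.yon (Spec (CommRingCat.of k))).obj (Over.mk (𝟙 _))) (hp : AlgSp.LocP @Smooth p) :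
    Dense {x : AlgSp.Points X.obj | ∃ (k' : Type u) (_ : Field k') (_ : Algebra k k'),
      Module.Finite k k' ∧ Algebra.IsSeparable k k' ∧
        ∃ v : X.obj.obj.obj (Opposite.op (Over.mk (Spec.map (CommRingCat.ofHom (algebraMap k k'))))),
          AlgSp.Points.mk ⟨k', Spec.map (CommRingCat.ofHom (algebraMap k k')), v⟩ = x} := by
  have hT : IsTerminal ((yon (Spec (CommRingCat.of k))).obj (Over.mk (𝟙 (Spec (CommRingCat.of k))))) :=
    IsTerminal.isTerminalObj (yon (Spec (CommRingCat.of k))) _ Over.mkIdTerminal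
  rw [dense_iff_inter_open]
  intro O hO hne
  obtain ⟨U, a, hae, has⟩ := X.property.atlas
  have hsm : Smooth U.hom := by
    let h : U ⟶ Over.mk (𝟙 (Spec (CommRingCat.of k))) := Over.homMk U.hom (by simp)
    exact hp a (𝟙 _) h hae (repWith_id @Etale _) (hT.hom_ext _ _)
  obtain ⟨x0, hx0⟩ := hne
  obtain ⟨u0, hu0⟩ := ofPt_surjective a has x0
  let _ : U.left.Over (Spec (CommRingCat.of k)) := ⟨U.hom⟩
  have : Smooth (U.left ↘ (Spec (CommRingCat.of k))) := hsm
  obtain ⟨u, huO, hcl, hfin, hsep⟩ := Groth.Agent.Lib.Helper22.SmoothSepPts.exists_closed_separable k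
    U.left (AlgSp.Points.ofPt a ⁻¹' O) (hO.preimage (AlgSp.Points.continuous_ofPt a))
    ⟨u0, by rw [Set.mem_preimage, hu0]; exact hx0⟩
  refine ⟨AlgSp.Points.ofPt a u, ⟨huO, ?_⟩⟩
  refine ⟨U.left.residueField u, inferInstance, Curv2.resAlgebra k U.left u, hfin, hsep, ?_⟩
  have hstr : Spec.map (CommRingCat.ofHom (Curv2.resMap k U.left u)) =
      U.left.fromSpecResidueField u ≫ U.hom :=
    Groth.Agent.Lib.Helper51.specMap_resMap k U.left u
  exact exists_val_of_str_eq (AlgSp.FieldPt.ofPt a u) _ hstr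

end Groth.Agent.S10490
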