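import Groth.Statements.S10491
-- import your own Groth.Agent.* helpers here
import Groth.Agent.Lib.Helper37.AlgSpPoints
import Mathlib.AlgebraicGeometry.Noetherian

set_option autoImplicit false
universe u
open CategoryTheory CategoryTheory.Limits AlgebraicGeometry Topology TopologicalSpace
open AlgSp

namespace Groth.Agent.S10491

open Groth.Agent.Lib.Helper37.AlgSpPoints

/-- Only finitely many irreducible components of a closed subset `T` meet the image of a continuous
open map from a Noetherian space. -/
theorem finite_components_meeting_range {A P : Type*} [TopologicalSpace A] [TopologicalSpace P]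
    [NoetherianSpace A] (a : A → P) (ha : Continuous a) (hop : IsOpenMap a) (T : Set P) :
    {Z : ↥(irreducibleComponents ↥T) |
      (((↑) : ↥T → P) '' (Z : Set ↥T) ∩ Set.range a).Nonempty}.Finite := by
  let TA : Set A := a ⁻¹' T
  let aT : ↥TA → ↥T := fun z => ⟨a z.1, z.2⟩
  have haT : Continuous aT := (ha.comp continuous_subtype_val).subtype_mk _
  have hfin := NoetherianSpace.finite_irreducibleComponents (α := ↥TA)
  let K : Set ↥TA → Set ↥T := fun Z => closure (aT '' Z)
  have hKirr : ∀ Z ∈ irreducibleComponents ↥TA, IsIrreducible (K Z) := by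
    intro Z hZ
    exact (hZ.1.image aT haT.continuousOn).closure
  have hNcl : IsClosed ((((↑) : ↥T → P) ⁻¹' Set.range a)ᶜ : Set ↥T) :=
    (hop.isOpen_range.preimage continuous_subtype_val).isClosed_compl
  have hclaim : ∀ C ∈ irreducibleComponents ↥T,
      (((↑) : ↥T → P) '' C ∩ Set.range a).Nonempty → ∃ Z ∈ irreducibleComponents ↥TA, C = K Z := by
    intro C hC hne
    obtain ⟨_, ⟨c, hcC, rfl⟩, hcN⟩ := hne
    classical
    let t : Finset (Set ↥T) := insert ((((↑) : ↥T → P) ⁻¹' Set.range a)ᶜ) (hfin.toFinset.image K)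
    have ht : ∀ z ∈ t, IsClosed z := by
      intro z hz
      rcases Finset.mem_insert.1 hz with rfl | hz
      · exact hNcl
      · obtain ⟨Z, -, rfl⟩ := Finset.mem_image.1 hz
        exact isClosed_closure
    have hsub : C ⊆ ⋃₀ (t : Set (Set ↥T)) := by
      intro c' hc'
      by_cases hc'N : (c' : P) ∈ Set.range a
      · obtain ⟨z, hz⟩ := hc'N
        have hzT : z ∈ TA := by
          change a z ∈ T
          rw [hz]; exact c'.2
        refine ⟨K (irreducibleComponent (⟨z, hzT⟩ : ↥TA)), ?_, ?_⟩
        · apply Finset.mem_coe.2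
          apply Finset.mem_insert_of_mem
          apply Finset.mem_image.2
          exact ⟨_, hfin.mem_toFinset.2 (irreducibleComponent_mem_irreducibleComponents _), rfl⟩
        · apply subset_closure
          exact ⟨⟨z, hzT⟩, mem_irreducibleComponent, Subtype.ext hz⟩
      · exact ⟨_, Finset.mem_coe.2 (Finset.mem_insert_self _ _), hc'N⟩
    obtain ⟨s, hs, hCs⟩ := isIrreducible_iff_sUnion_isClosed.1 hC.1 t ht hsub
    rcases Finset.mem_insert.1 hs with rfl | hs
    · exact absurd hcN (hCs hcC)
    · obtain ⟨Z, hZ, rfl⟩ := Finset.mem_image.1 hs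
      have hZ' := hfin.mem_toFinset.1 hZ
      exact ⟨Z, hZ', Set.Subset.antisymm hCs (hC.2 (hKirr Z hZ') hCs)⟩
  have hfinK : (K '' irreducibleComponents ↥TA).Finite := hfin.image K
  refine (hfinK.preimage (f := fun Z : ↥(irreducibleComponents ↥T) => (Z : Set ↥T))
    (Subtype.val_injective.injOn)).subset ?_
  intro Z hZ
  obtain ⟨Z', hZ', e⟩ := hclaim Z.1 Z.2 hZ
  exact ⟨Z', hZ', e.symm⟩

/-- Let X be an algebraic space over a scheme S which is locally Noetherian, and T ⊂ |X| a closed
subset. Then every point of |X| has a neighbourhood meeting only finitely many irreducible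
components of T. -/
theorem result {S : Scheme.{u}} (X : AlgSp.Space S)
    (hX : AlgSp.IsLocNoethSp X.obj) (T : Set (AlgSp.Points X.obj)) (hT : IsClosed T) :
    LocallyFinite (fun Z : ↥(irreducibleComponents ↥T) => ((↑) : ↥T → AlgSp.Points X.obj) '' (Z : Set ↥T)) := by
  obtain ⟨V, b, hbe, hbs, hV⟩ := hX
  have hV' : IsLocallyNoetherian V.left := hV
  intro x
  obtain ⟨v, rfl⟩ := ofPt_surjective b hbs x
  obtain ⟨_, ⟨A, hA, rfl⟩, hvA, -⟩ :=
    V.left.isBasis_affineOpens.exists_subset_of_mem_open (Set.mem_univ v) isOpen_univ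
  have : IsNoetherianRing Γ(V.left, A) := IsLocallyNoetherian.component_noetherian ⟨A, hA⟩
  have : NoetherianSpace ↥A := noetherianSpace_of_isAffineOpen A hA
  let a : ↥A → Points X.obj := fun z => Points.ofPt b z.1
  have ha : Continuous a := (Points.continuous_ofPt b).comp continuous_subtype_val
  have hop : IsOpenMap a := (isOpenMap_ofPt b hbe).comp A.2.isOpenEmbedding_subtypeVal.isOpenMap
  refine ⟨Set.range a, hop.isOpen_range.mem_nhds ⟨⟨v, hvA⟩, rfl⟩, ?_⟩
  exact finite_components_meeting_range a ha hop T

end Groth.Agent.S10491
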