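import Groth.Statements.S10494
-- import your own Groth.Agent.* helpers here
import Groth.Agent.S10242
import Groth.Agent.Lib.Helper36.AlgSpChartDiag
import Groth.Agent.Lib.Helper36.AlgSpCharts
import Groth.Agent.Lib.Helper37.AlgSpPoints

set_option autoImplicit false
universe u
open CategoryTheory CategoryTheory.Limits AlgebraicGeometry Topology TopologicalSpace
open AlgSp

namespace Groth.Agent.S10494

open Groth.Agent.Lib.Helper36.AlgSpHasAt Groth.Agent.Lib.Helper37.AlgSpPoints Opposite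
  Groth.Agent.Lib.Helper36.AlgSpCharts Groth.Agent.Lib.Helper36.AlgSpChartDiag

variable {S : Scheme.{u}} (X : AlgSp.Space S)

/-- the value of a global section on a chart -/
noncomputable def val (s : ↥(AlgSp.gsectEt (AlgSp.OEt X.obj))) (E : AlgSp.EtOver X.obj) :
    Γ(E.obj.left.left, ⊤) :=
  ((limit.π (AlgSp.OEt X.obj).obj (op E)) s).down

theorem val_map (s : ↥(AlgSp.gsectEt (AlgSp.OEt X.obj))) {E E' : AlgSp.EtOver X.obj} (g : E ⟶ E') :
    val X s E = g.hom.left.left.appTop.hom (val X s E') := by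
  have h := limit.w (AlgSp.OEt X.obj).obj g.op
  have h2 := congrArg (fun φ => (CommRingCat.Hom.hom φ) s) h
  simp only [CommRingCat.hom_comp, RingHom.comp_apply] at h2
  exact (congrArg ULift.down h2).symm

/-- the non-vanishing locus of a global section, in `|X|` -/
def D (s : ↥(AlgSp.gsectEt (AlgSp.OEt X.obj))) : Set (Points X.obj) :=
  {x | ∃ (E : AlgSp.EtOver X.obj) (e : ↥E.obj.left.left), Points.ofPt E.obj.hom e = x ∧
    e ∈ E.obj.left.left.basicOpen (val X s E)}

theorem isOpen_D (s : ↥(AlgSp.gsectEt (AlgSp.OEt X.obj))) : IsOpen (D X s) := by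
  have : D X s = ⋃ E : AlgSp.EtOver X.obj,
      Points.ofPt E.obj.hom '' (E.obj.left.left.basicOpen (val X s E) : Set ↥E.obj.left.left) := by
    ext x
    simp only [D, Set.mem_ofPred_eq, Set.mem_iUnion, Set.mem_image]
    constructor
    · rintro ⟨E, e, he, hs⟩
      exact ⟨E, e, hs, he⟩
    · rintro ⟨E, e, hs, he⟩
      exact ⟨E, e, he, hs⟩
  rw [this]
  exact isOpen_iUnion fun E => isOpenMap_ofPt E.obj.hom E.property _
    (E.obj.left.left.basicOpen (val X s E)).isOpen

/-- common refinement of two charts through the same point -/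
theorem exists_refinement (E₁ E₂ : AlgSp.EtOver X.obj) (e₁ : ↥E₁.obj.left.left)
    (e₂ : ↥E₂.obj.left.left) (h : Points.ofPt E₁.obj.hom e₁ = Points.ofPt E₂.obj.hom e₂) :
    ∃ (E₃ : AlgSp.EtOver X.obj) (g₁ : E₃ ⟶ E₁) (g₂ : E₃ ⟶ E₂) (e₃ : ↥E₃.obj.left.left),
      g₁.hom.left.left e₃ = e₁ ∧ g₂.hom.left.left e₃ = e₂ := by
  obtain ⟨W, p1, p2, sq⟩ := exists_isPullback_yon E₁.obj.hom E₂.obj.hom E₂.property.rep
  have hp1 : Etale p1.left := prop_fst_of_isPullback sq E₂.property
  obtain ⟨r, hr1, hr2⟩ := (ofPt_eq_ofPt_iff sq e₁ e₂).1 h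
  let E₃ : AlgSp.EtOver X.obj := EtOver.mk ((yon S).map p1 ≫ E₁.obj.hom)
    (repWith_yon_map_comp p1 hp1 E₁.obj.hom E₁.property)
  exact ⟨E₃, EtOver.homMk p1 rfl, EtOver.homMk p2 sq.w.symm, r, hr1, hr2⟩

theorem mem_basicOpen_iff (s : ↥(AlgSp.gsectEt (AlgSp.OEt X.obj))) {E E' : AlgSp.EtOver X.obj}
    (g : E ⟶ E') (e : ↥E.obj.left.left) :
    e ∈ E.obj.left.left.basicOpen (val X s E) ↔
      g.hom.left.left e ∈ E'.obj.left.left.basicOpen (val X s E') := by
  rw [val_map X s g, ← Scheme.preimage_basicOpen_top]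
  rfl

/-- Let X be an integral algebraic space over a scheme S. Then Γ(X, O_X) is a domain. -/
theorem result {S : Scheme.{u}} (X : AlgSp.Space S)
    (hX : AlgSp.IsIntegralSp X.obj) : IsDomain ↥(AlgSp.gsectEt (AlgSp.OEt X.obj)) := by
  obtain ⟨hred, -, hirr⟩ := hX
  have hred2 := (Groth.Agent.S10242.result X hred).2
  have hne : Nonempty (Points X.obj) := hirr.toNonempty
  have hnt : Nontrivial ↥(AlgSp.gsectEt (AlgSp.OEt X.obj)) := by
    obtain ⟨x⟩ := hne
    obtain ⟨U, p, hpe, hps⟩ := X.property.atlas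
    obtain ⟨u, -⟩ := ofPt_surjective p hps x
    refine ⟨0, 1, fun h01 => ?_⟩
    let E : AlgSp.EtOver X.obj := EtOver.mk p hpe
    have h1 := congrArg (fun t => ((limit.π (AlgSp.OEt X.obj).obj (op E)) t).down) h01
    simp only [map_zero, map_one] at h1
    have h2 : (0 : Γ(U.left, ⊤)) = 1 := h1
    have : Nontrivial (U.left.presheaf.stalk u) := inferInstance
    have h3 := congrArg (U.left.presheaf.germ ⊤ u trivial).hom h2
    rw [map_zero, map_one] at h3
    exact zero_ne_one h3
  have hnzd : NoZeroDivisors ↥(AlgSp.gsectEt (AlgSp.OEt X.obj)) := by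
    constructor
    intro a b hab
    have hdisj : D X a ∩ D X b = ∅ := by
      rw [Set.eq_empty_iff_forall_notMem]
      rintro x ⟨⟨E₁, e₁, h1, hs1⟩, ⟨E₂, e₂, h2, hs2⟩⟩
      obtain ⟨E₃, g₁, g₂, e₃, rfl, rfl⟩ := exists_refinement X E₁ E₂ e₁ e₂ (h1.trans h2.symm)
      rw [← mem_basicOpen_iff X a g₁ e₃] at hs1
      rw [← mem_basicOpen_iff X b g₂ e₃] at hs2
      have h3 : e₃ ∈ E₃.obj.left.left.basicOpen (val X a E₃ * val X b E₃) := by
        rw [Scheme.basicOpen_mul]
        exact ⟨hs1, hs2⟩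
      have h4 : val X a E₃ * val X b E₃ = 0 := by
        have := congrArg (fun t => ((limit.π (AlgSp.OEt X.obj).obj (op E₃)) t).down) hab
        simp only [map_mul, map_zero] at this
        exact this
      rw [h4, Scheme.basicOpen_zero] at h3
      exact h3
    have hor : D X a = ∅ ∨ D X b = ∅ := by
      by_contra hcon
      push Not at hcon
      obtain ⟨ha, hb⟩ := hcon
      have := nonempty_preirreducible_inter (isOpen_D X a) (isOpen_D X b) ha hb
      rw [hdisj] at this
      exact Set.not_nonempty_empty this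
    have hzero : ∀ s : ↥(AlgSp.gsectEt (AlgSp.OEt X.obj)), D X s = ∅ → s = 0 := by
      intro s hs
      apply hred2
      intro E
      rw [eq_bot_iff]
      intro e he
      have : Points.ofPt E.obj.hom e ∈ D X s := ⟨E, e, rfl, he⟩
      rw [hs] at this
      exact this.elim
    exact hor.imp (hzero a) (hzero b)
  exact @IsDomain.mk _ _ hnzd.toIsCancelMulZero hnt

end Groth.Agent.S10494
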