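import Groth.Statements.S10495
-- import your own Groth.Agent.* helpers here
import Groth.Agent.S10494
import Groth.Agent.Lib.Helper36.GermDvd
import Groth.Agent.Lib.Helper87.EtaleNormalIff
import Groth.Agent.Lib.Helper87.NormalDvd
import Groth.Agent.Lib.Helper36.AlgSpHasAt

set_option autoImplicit false
universe u
open CategoryTheory CategoryTheory.Limits AlgebraicGeometry Topology TopologicalSpace
open AlgSp

namespace Groth.Agent.S10495

open Groth.Agent.Lib.Helper36.AlgSpHasAt Groth.Agent.Lib.Helper37.AlgSpPoints Opposite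
  Groth.Agent.Lib.Helper36.AlgSpCharts Groth.Agent.Lib.Helper36.AlgSpChartDiag
  Groth.Agent.Lib.Helper36.GermDvd Groth.Agent.Lib.Helper87.NormalDvd Groth.Agent.S10494

/-- normality of the stalk at a point of an affine open vs the localization at the prime. -/
theorem stalk_normal_iff {X : Scheme.{u}} {U : X.Opens} (hU : IsAffineOpen U) (x : X)
    (hx : x ∈ U) :
    (IsDomain (X.presheaf.stalk x) ∧ IsIntegrallyClosed (X.presheaf.stalk x)) ↔
      (IsDomain (Localization.AtPrime (hU.primeIdealOf ⟨x, hx⟩).asIdeal) ∧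
        IsIntegrallyClosed (Localization.AtPrime (hU.primeIdealOf ⟨x, hx⟩).asIdeal)) := by
  let _ : Algebra Γ(X, U) (X.presheaf.stalk x) :=
    TopCat.Presheaf.algebra_section_stalk X.presheaf (⟨x, hx⟩ : U)
  have hloc : IsLocalization.AtPrime (X.presheaf.stalk x) (hU.primeIdealOf ⟨x, hx⟩).asIdeal :=
    hU.isLocalization_stalk ⟨x, hx⟩
  let e : Localization.AtPrime (hU.primeIdealOf ⟨x, hx⟩).asIdeal ≃ₐ[Γ(X, U)] X.presheaf.stalk x :=
    IsLocalization.algEquiv (hU.primeIdealOf ⟨x, hx⟩).asIdeal.primeCompl _ _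
  constructor
  · rintro ⟨h1, h2⟩
    exact Groth.Agent.Lib.Helper87.NormalDvd.isDomain_and_isIntegrallyClosed_of_ringEquiv
      (A := X.presheaf.stalk x) e.symm.toRingEquiv
  · rintro ⟨h1, h2⟩
    exact Groth.Agent.Lib.Helper87.NormalDvd.isDomain_and_isIntegrallyClosed_of_ringEquiv
      (B := X.presheaf.stalk x) e.toRingEquiv

/-- normality of stalks is étale local (S0066 without the Noetherian hypothesis) -/
theorem isEtaleLocalGerm_normal :
    IsEtaleLocalGerm (fun (U : Scheme.{u}) u => IsDomain (U.presheaf.stalk u) ∧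
      IsIntegrallyClosed (U.presheaf.stalk u)) := by
  intro X Y f _ x
  obtain ⟨_, ⟨U, hU : IsAffineOpen U, rfl⟩, hfxU, -⟩ :=
    Y.isBasis_affineOpens.exists_subset_of_mem_open (Set.mem_univ (f.base x)) isOpen_univ
  obtain ⟨_, ⟨V, hV : IsAffineOpen V, rfl⟩, hxV, hVU⟩ :=
    X.isBasis_affineOpens.exists_subset_of_mem_open (show x ∈ (f ⁻¹ᵁ U : Set X) from hfxU)
      (f ⁻¹ᵁ U).isOpen
  have e : V ≤ f ⁻¹ᵁ U := hVU
  show (IsDomain (X.presheaf.stalk x) ∧ IsIntegrallyClosed (X.presheaf.stalk x)) ↔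
      (IsDomain (Y.presheaf.stalk (f.base x)) ∧ IsIntegrallyClosed (Y.presheaf.stalk (f.base x)))
  rw [stalk_normal_iff hV x hxV, stalk_normal_iff hU (f.base x) hfxU]
  have het : (f.appLE U V e).hom.Etale := f.etale_appLE hU hV e
  let _ := (f.appLE U V e).hom.toAlgebra
  have het' : Algebra.Etale Γ(Y, U) Γ(X, V) := het
  have hmain := Groth.Agent.Lib.Helper87.EtNormal.normal_localization_iff_of_etale
    Γ(Y, U) Γ(X, V) (hV.primeIdealOf ⟨x, hxV⟩).asIdeal
  have hcomap := IsAffineOpen.comap_primeIdealOf_appLE U hU V hV e hxV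
  have key : ∀ (P : PrimeSpectrum Γ(Y, U)),
      P = (hV.primeIdealOf ⟨x, hxV⟩).comap (f.appLE U V e).hom →
      ((IsDomain (Localization.AtPrime P.asIdeal) ∧
          IsIntegrallyClosed (Localization.AtPrime P.asIdeal)) ↔
        (IsDomain (Localization.AtPrime (hV.primeIdealOf ⟨x, hxV⟩).asIdeal) ∧
          IsIntegrallyClosed (Localization.AtPrime (hV.primeIdealOf ⟨x, hxV⟩).asIdeal))) := by
    intro P hP
    subst hP
    exact hmain
  exact (key _ hcomap.symm).symm

variable {S : Scheme.{u}} (X : AlgSp.Space S)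

/-- every object of the small étale site of a normal algebraic space is a normal scheme -/
theorem normal_of_etOver
    (hXn : AlgSp.EtaleLocally (fun U => ∀ u : ↥U, IsDomain ↥(U.presheaf.stalk u) ∧
      IsIntegrallyClosed ↥(U.presheaf.stalk u)) X.obj) (E : AlgSp.EtOver X.obj)
    (e : ↥E.obj.left.left) :
    IsDomain ↥(E.obj.left.left.presheaf.stalk e) ∧
      IsIntegrallyClosed ↥(E.obj.left.left.presheaf.stalk e) := by
  obtain ⟨U, p, hpe, hps, hU⟩ := hXn
  obtain ⟨u, hu⟩ := ofPt_surjective p hps (Points.ofPt E.obj.hom e)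
  exact (germ_iff_of_ofPt_eq isEtaleLocalGerm_normal p E.obj.hom hpe E.property u e hu).1 (hU u)

theorem mem_D_iff (s : ↥(AlgSp.gsectEt (AlgSp.OEt X.obj))) (E : AlgSp.EtOver X.obj)
    (e : ↥E.obj.left.left) :
    Points.ofPt E.obj.hom e ∈ D X s ↔ e ∈ E.obj.left.left.basicOpen (val X s E) := by
  constructor
  · rintro ⟨E', e', h, hs⟩
    obtain ⟨E₃, g₁, g₂, e₃, rfl, rfl⟩ := exists_refinement X E' E e' e h
    rw [← mem_basicOpen_iff X s g₁ e₃] at hs
    rw [← mem_basicOpen_iff X s g₂ e₃]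
    exact hs
  · intro h
    exact ⟨E, e, rfl, h⟩

/-- the ring homomorphism `Γ(X, O_X) → Γ(E, O_E)` -/
noncomputable def valHom (E : AlgSp.EtOver X.obj) :
    ↥(AlgSp.gsectEt (AlgSp.OEt X.obj)) →+* Γ(E.obj.left.left, ⊤) :=
  (ULift.ringEquiv : ULift.{u + 1} Γ(E.obj.left.left, ⊤) ≃+* Γ(E.obj.left.left, ⊤)).toRingHom.comp
    (limit.π (AlgSp.OEt X.obj).obj (op E)).hom

theorem valHom_apply (E : AlgSp.EtOver X.obj) (s : ↥(AlgSp.gsectEt (AlgSp.OEt X.obj))) :
    valHom X E s = val X s E := rfl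

theorem eq_zero_of_D_eq_empty (hred : AlgSp.IsReducedSp X.obj)
    (s : ↥(AlgSp.gsectEt (AlgSp.OEt X.obj))) (hs : D X s = ∅) : s = 0 := by
  apply (Groth.Agent.S10242.result X hred).2
  intro E
  rw [eq_bot_iff]
  intro e he
  have : Points.ofPt E.obj.hom e ∈ D X s := ⟨E, e, rfl, he⟩
  rw [hs] at this
  exact this.elim

theorem germ_ne_zero (hX : AlgSp.IsIntegralSp X.obj)
    (b : ↥(AlgSp.gsectEt (AlgSp.OEt X.obj))) (hb : b ≠ 0) (E : AlgSp.EtOver X.obj)
    (e : ↥E.obj.left.left) :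
    E.obj.left.left.presheaf.germ ⊤ e trivial (val X b E) ≠ 0 := by
  obtain ⟨hred, -, hirr⟩ := hX
  intro h0
  have h1 : E.obj.left.left.presheaf.germ ⊤ e trivial (val X b E) =
      E.obj.left.left.presheaf.germ ⊤ e trivial 0 := by rw [h0, map_zero]
  obtain ⟨W, heW, i1, i2, he⟩ := E.obj.left.left.presheaf.germ_eq (U := ⊤) (V := ⊤) e trivial trivial _ _ h1
  rw [map_zero] at he
  have hW : ∀ v ∈ W, v ∉ E.obj.left.left.basicOpen (val X b E) := by
    intro v hv hvb
    rw [Scheme.mem_basicOpen_top] at hvb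
    have h2 : E.obj.left.left.presheaf.germ ⊤ v trivial (val X b E) = 0 := by
      rw [← TopCat.Presheaf.germ_res_apply _ i1 v hv, he, map_zero]
    rw [h2] at hvb
    exact not_isUnit_zero hvb
  have hne1 : (Points.ofPt E.obj.hom '' (W : Set ↥E.obj.left.left)).Nonempty :=
    ⟨_, e, heW, rfl⟩
  have hop1 : IsOpen (Points.ofPt E.obj.hom '' (W : Set ↥E.obj.left.left)) :=
    isOpenMap_ofPt E.obj.hom E.property _ W.isOpen
  have hne2 : (D X b).Nonempty := by
    rw [Set.nonempty_iff_ne_empty]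
    intro hD
    exact hb (eq_zero_of_D_eq_empty X hred b hD)
  obtain ⟨x, ⟨v, hv, rfl⟩, hx2⟩ := nonempty_preirreducible_inter hop1 (isOpen_D X b) hne1 hne2
  exact hW v hv ((mem_D_iff X b E v).1 hx2)

/-- Let X be a normal integral algebraic space over a scheme S. Then Γ(X, O_X) is a normal domain. -/
theorem result {S : Scheme.{u}} (X : AlgSp.Space S)
    (hXi : AlgSp.IsIntegralSp X.obj)
    (hXn : AlgSp.EtaleLocally (fun U => ∀ u : ↥U, IsDomain ↥(U.presheaf.stalk u) ∧
      IsIntegrallyClosed ↥(U.presheaf.stalk u)) X.obj) :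
    IsDomain ↥(AlgSp.gsectEt (AlgSp.OEt X.obj)) ∧ IsIntegrallyClosed ↥(AlgSp.gsectEt (AlgSp.OEt X.obj)) := by
  have hdom : IsDomain ↥(AlgSp.gsectEt (AlgSp.OEt X.obj)) := Groth.Agent.S10494.result X hXi
  refine ⟨hdom, ?_⟩
  apply isIntegrallyClosed_of_dvdCond
  intro a b p hb hp h0
  -- stalks are domains
  have hdomE : ∀ (E : AlgSp.EtOver X.obj) (e : ↥E.obj.left.left),
      IsDomain ↥(E.obj.left.left.presheaf.stalk e) := fun E e => (normal_of_etOver X hXn E e).1
  have hbE : ∀ (E : AlgSp.EtOver X.obj) (e : ↥E.obj.left.left),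
      E.obj.left.left.presheaf.germ ⊤ e trivial (val X b E) ≠ 0 := germ_ne_zero X hXi b hb
  -- local divisibility
  have hdvd : ∀ (E : AlgSp.EtOver X.obj) (e : ↥E.obj.left.left),
      E.obj.left.left.presheaf.germ ⊤ e trivial (val X b E) ∣
        E.obj.left.left.presheaf.germ ⊤ e trivial (val X a E) := by
    intro E e
    obtain ⟨h1, h2⟩ := normal_of_etOver X hXn E e
    have hD := dvdCond_of_isIntegrallyClosed ↥(E.obj.left.left.presheaf.stalk e)
    let φ : ↥(AlgSp.gsectEt (AlgSp.OEt X.obj)) →+* ↥(E.obj.left.left.presheaf.stalk e) :=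
      (E.obj.left.left.presheaf.germ ⊤ e trivial).hom.comp (valHom X E)
    have hφb : φ b ≠ 0 := hbE E e
    refine hD (φ a) (φ b) (p.map φ) hφb (hp.map φ) ?_
    rw [← Polynomial.map_scaleRoots p b φ (by rw [hp.leadingCoeff, map_one]; exact one_ne_zero),
      Polynomial.eval_map, Polynomial.eval₂_at_apply, h0, map_zero]
  -- global divisibility on each chart
  have hex : ∀ E : AlgSp.EtOver X.obj, ∃ c : Γ(E.obj.left.left, ⊤), val X a E = val X b E * c :=
    fun E => exists_eq_mul (val X a E) (val X b E) (hdomE E) (hbE E) (hdvd E)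
  choose c hc using hex
  -- compatibility
  have hcompat : ∀ {E E' : AlgSp.EtOver X.obj} (g : E ⟶ E'),
      g.hom.left.left.appTop.hom (c E') = c E := by
    intro E E' g
    have h1 : val X b E * g.hom.left.left.appTop.hom (c E') = val X b E * c E := by
      rw [← hc E, val_map X b g, ← map_mul, ← hc E', ← val_map X a g]
    have := eq_of_mul_eq_mul (val X b E) (hdomE E) (hbE E) ⊤ (g.hom.left.left.appTop.hom (c E'))
      (c E)
    apply this
    have hid : (E.obj.left.left.presheaf.map (homOfLE le_top : (⊤ : E.obj.left.left.Opens) ⟶ ⊤).op) =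
        𝟙 _ := by
      rw [show (homOfLE le_top : (⊤ : E.obj.left.left.Opens) ⟶ ⊤) = 𝟙 _ from rfl, op_id,
        CategoryTheory.Functor.map_id]
    rw [hid]
    exact h1
  -- assemble the global section
  let t := isLimitOfPreserves (forget CommRingCat.{u + 1}) (limit.isLimit (AlgSp.OEt X.obj).obj)
  let sec : ((AlgSp.OEt X.obj).obj ⋙ forget CommRingCat.{u + 1}).sections :=
    ⟨fun j => (ULift.up (c j.unop) : ULift.{u + 1} Γ(j.unop.obj.left.left, ⊤)), by
      rintro ⟨E'⟩ ⟨E⟩ ⟨g⟩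
      exact congrArg ULift.up (hcompat g)⟩
  let cc : ↥(AlgSp.gsectEt (AlgSp.OEt X.obj)) := (Types.isLimitEquivSections t).symm sec
  have hcc : ∀ E : AlgSp.EtOver X.obj, (limit.π (AlgSp.OEt X.obj).obj (op E)) cc = ULift.up (c E) :=
    fun E => Types.isLimitEquivSections_symm_apply t sec (op E)
  refine ⟨cc, ?_⟩
  apply Groth.Agent.S10242.limit_ext' X
  intro E
  rw [map_mul, hcc E]
  apply ULift.ext
  exact hc E

end Groth.Agent.S10495
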