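import Groth.Statements.S10497
-- import your own Groth.Agent.* helpers here
import Groth.Agent.Lib.Helper36.FieldBCRed
import Groth.Agent.Lib.Helper37.AlgSpDecent
import Groth.Agent.S10473

set_option autoImplicit false
universe u
open CategoryTheory CategoryTheory.Limits AlgebraicGeometry Topology TopologicalSpace
open AlgSp

namespace Groth.Agent.S10497

open Groth.Agent.Lib.Helper36.FieldBC Groth.Agent.Lib.Helper36.FieldBCRed
  Groth.Agent.Lib.Helper37.AlgSpPoints

/-- Let k be a field and X a decent algebraic space over k. Then all base changes X_K to field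
extensions K of k are integral exactly when X is geometrically reduced over k and every |X_K| is
irreducible. -/
theorem result (k : Type u) [Field k] (X : AlgSp.Space (Spec (CommRingCat.of k))) (hX : AlgSp.IsDecent X.obj) :
    (∀ (K : Type u) [Field K] [Algebra k K], AlgSp.IsIntegralSp (X.obj ⨯ (AlgSp.yon (Spec (CommRingCat.of k))).obj (Over.mk (Spec.map (CommRingCat.ofHom (algebraMap k K)))))) ↔
      (∀ x : AlgSp.Points X.obj, (∃ (U : Over (Spec (CommRingCat.of k))) (a : (AlgSp.yon (Spec (CommRingCat.of k))).obj U ⟶ X.obj) (u : ↥U.left),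
      AlgSp.RepWith @Etale a ∧ AlgSp.Points.ofPt a u = x ∧ FBase.IsGeomReducedAt U.hom u)) ∧
        ∀ (K : Type u) [Field K] [Algebra k K], IrreducibleSpace (AlgSp.Points (X.obj ⨯ (AlgSp.yon (Spec (CommRingCat.of k))).obj (Over.mk (Spec.map (CommRingCat.ofHom (algebraMap k K)))))) := by
  obtain ⟨U, a, hae, has⟩ := X.property.atlas
  constructor
  · intro h
    refine ⟨fun x => ?_, fun K _ _ => (h K).2.2⟩
    obtain ⟨u, hu⟩ := ofPt_surjective a has x
    refine ⟨U, a, u, hae, hu, ?_⟩
    intro K _ _ u' _
    exact isReduced_stalk_bc_of_etaleLocally a hae K (h K).1 u'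
  · rintro ⟨hgr, hirr⟩ K _ _
    refine ⟨?_, ?_, hirr K⟩
    · refine etaleLocally_reduced_bc a hae has (fun u => ?_) K
      exact (Groth.Agent.S10473.result k X _).1 (hgr (Points.ofPt a u)) U a u hae rfl
    · exact Groth.Agent.Lib.Helper37.AlgSpDecent.isDecent_of_representable prod.fst
        (representable_prod_fst X.obj (T k K)) hX

end Groth.Agent.S10497
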