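import Groth.Statements.S10498
import Groth.Agent.Lib.Helper87.IndEtaleReduced
import Groth.Agent.S0733
import Groth.Agent.S12237
import Groth.Agent.S0539

set_option autoImplicit false
universe u
open TensorProduct
open Hensel

namespace Groth.Agent.S10498

/-- (1) ⇔ (2): let k be a field, A a local k-algebra and R a strict henselization of A. Then A is
geometrically reduced over k (K ⊗_k A reduced for every field extension K of k) if and only if R is
geometrically reduced over k. -/
theorem result (k : Type u) [Field k]
    (A : Type u) [CommRing A] [IsLocalRing A] [Algebra k A]
    (R : Type u) [CommRing R] [IsLocalRing R] [Algebra A R] [IsLocalHom (algebraMap A R)]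
    [Hensel.IsStrictHenselization A R] [Algebra k R] [IsScalarTower k A R] :
    (∀ (K : Type u) [Field K] [Algebra k K], IsReduced (TensorProduct k K A)) ↔
      ∀ (K : Type u) [Field K] [Algebra k K], IsReduced (TensorProduct k K R) := by
  have hff : Module.FaithfullyFlat A R := Groth.Agent.S0539.result A R
  have hinj : Function.Injective (algebraMap A R) := FaithfulSMul.algebraMap_injective A R
  constructor
  · intro h K _ _
    have hred : IsReduced (TensorProduct k K A) := h K
    have hred' : IsReduced (TensorProduct k A K) :=
      isReduced_of_injective (Algebra.TensorProduct.comm k A K).toRingEquiv.toRingHom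
        (Algebra.TensorProduct.comm k A K).injective
    have hind : Groth.Agent.Lib.Helper87.IndEt.HasPres (TensorProduct k A K)
        (TensorProduct A (TensorProduct k A K) R) :=
      Groth.Agent.S0733.result A R (TensorProduct k A K) (Groth.Agent.S12237.result A R)
    have hred2 : IsReduced (TensorProduct A (TensorProduct k A K) R) :=
      Groth.Agent.Lib.Helper87.IndEtReduced.isReduced_of_hasPres hind
    -- transport along the canonical isomorphisms
    let e1 : TensorProduct A (TensorProduct k A K) R ≃+* TensorProduct A R (TensorProduct k A K) :=
      (Algebra.TensorProduct.comm A (TensorProduct k A K) R).toRingEquiv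
    let e2 : TensorProduct A R (TensorProduct k A K) ≃+* TensorProduct k R K :=
      (Algebra.TensorProduct.cancelBaseChange k A R R K).toRingEquiv
    let e3 : TensorProduct k R K ≃+* TensorProduct k K R :=
      (Algebra.TensorProduct.comm k R K).toRingEquiv
    let e : TensorProduct k K R ≃+* TensorProduct A (TensorProduct k A K) R :=
      ((e1.trans e2).trans e3).symm
    exact isReduced_of_injective e.toRingHom e.injective
  · intro h K _ _
    have hred : IsReduced (TensorProduct k K R) := h K
    let F : TensorProduct k K A →ₐ[k] TensorProduct k K R :=
      Algebra.TensorProduct.map (AlgHom.id k K) (IsScalarTower.toAlgHom k A R)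
    have hF : Function.Injective F := by
      have h1 : Function.Injective (LinearMap.lTensor K (IsScalarTower.toAlgHom k A R).toLinearMap) :=
        Module.Flat.lTensor_preserves_injective_linearMap _ hinj
      have h2 : ∀ x, F x = LinearMap.lTensor K (IsScalarTower.toAlgHom k A R).toLinearMap x := by
        intro x
        induction x with
        | zero => simp
        | tmul a b => simp [F]
        | add x y hx hy => simp only [map_add, hx, hy]
      intro x y hxy
      apply h1
      rw [← h2, ← h2, hxy]
    exact isReduced_of_injective F.toRingHom hF

end Groth.Agent.S10498
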