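import Groth.Statements.S10500
import Groth.Agent.Lib.Helper37.GenFinSp3

set_option autoImplicit false
universe u
open CategoryTheory CategoryTheory.Limits AlgebraicGeometry Topology TopologicalSpace
open AlgSp

namespace Groth.Agent.S10500

/-- Let X and Y be integral algebraic spaces over a scheme S with generic points x and y, and f : X ⟶ Y
a morphism which is proper and dominant. Then f is an alteration (finite over some nonempty open
subspace of Y) if and only if x is the only point of X mapping to y. -/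
theorem result {S : Scheme.{u}} {X Y : AlgSp.Space S}
    (hXi : AlgSp.IsIntegralSp X.obj) (hYi : AlgSp.IsIntegralSp Y.obj) (f : X ⟶ Y) (hp : AlgSp.IsProperMor f.hom)
    (hd : AlgSp.IsDominantMor f.hom)
    (x : AlgSp.Points X.obj) (hx : IsGenericPoint x (Set.univ : Set (AlgSp.Points X.obj)))
    (y : AlgSp.Points Y.obj) (hy : IsGenericPoint y (Set.univ : Set (AlgSp.Points Y.obj))) :
    (∃ (V : AlgSp.Space S) (j : V ⟶ Y), AlgSp.RepWith @IsOpenImmersion j.hom ∧ Nonempty (AlgSp.Points V.obj) ∧
      ∀ (P : AlgSp.Space S) (fst : P ⟶ V) (snd : P ⟶ X), IsPullback fst.hom snd.hom j.hom f.hom →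
        AlgSp.IsFiniteMor fst.hom) ↔ (∀ x' : AlgSp.Points X.obj, AlgSp.Points.map f.hom x' = y → x' = x) := by
  have hsep : AlgSp.IsSeparatedMor f.hom := hp.1
  have hft : AlgSp.LocP @LocallyOfFiniteType f.hom := hp.2.1.1
  constructor
  · rintro ⟨V, j, hj, hVne, hfin⟩
    exact Groth.Agent.Lib.Helper37.GenFinSp.unique_of_finite_over_open hXi hYi f hft hd x hx y hy
      V j hj hVne hfin
  · intro hC
    obtain ⟨V, b, U, g, a, hVa, hVne, hb, sq, hUa, hfin⟩ :=
      Groth.Agent.Lib.Helper37.GenFinSp.exists_finite_preimage hXi hYi f hft hd x hx y hy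
        (Or.inl hsep) hC
    refine ⟨⟨(AlgSp.yon S).obj V, AlgSp.IsAlgSpace.yon_obj V⟩, ObjectProperty.homMk b, hb, ?_, ?_⟩
    · exact ⟨AlgSp.Points.ofScheme V (Classical.arbitrary _)⟩
    · intro P fst snd sqP
      have he : (sqP.isoIsPullback _ _ sq.flip).hom ≫ (AlgSp.yon S).map g = fst.hom :=
        IsPullback.isoIsPullback_hom_fst _ _ sqP sq.flip
      rw [← he]
      have : IsFinite g.left := hfin
      exact Groth.Agent.Lib.Helper23.GenFin.isFiniteMor_iso_comp _ _
        (Groth.Agent.Lib.Helper23.SLQSplit.isFiniteMor_yon_map g)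

end Groth.Agent.S10500
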