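import Groth.Statements.S10501
-- import your own Groth.Agent.* helpers here
import Groth.Agent.Lib.Helper36.FieldBCConn

set_option autoImplicit false
universe u
open CategoryTheory CategoryTheory.Limits AlgebraicGeometry Topology TopologicalSpace
open AlgSp

namespace Groth.Agent.S10501

open Groth.Agent.Lib.Helper36.FieldBC Groth.Agent.Lib.Helper36.FieldBCConn

/-- Over a separably closed field k, an algebraic space X is geometrically connected if and only if it
is connected. -/
theorem result (k : Type u) [Field k] [IsSepClosed k]
    (X : AlgSp.Space (Spec (CommRingCat.of k))) :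
    (∀ (K : Type u) [Field K] [Algebra k K], ConnectedSpace (AlgSp.Points (X.obj ⨯ (AlgSp.yon (Spec (CommRingCat.of k))).obj (Over.mk (Spec.map (CommRingCat.ofHom (algebraMap k K))))))) ↔ ConnectedSpace (AlgSp.Points X.obj) := by
  constructor
  · intro h
    have := h k
    exact (map_fst_surjective k X.property.atlas).connectedSpace
      (Points.continuous_map (prod.fst : X.obj ⨯
        (yon (Spec (CommRingCat.of k))).obj (T k k) ⟶ X.obj))
  · intro h K _ _
    obtain ⟨h1, h2⟩ := sepClosed_coinducing_fibres k X.obj K
    exact connectedSpace_of_coinducing_fibres h1 h2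

end Groth.Agent.S10501
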