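import Groth.Statements.S10503
-- import your own Groth.Agent.* helpers here
import Groth.Agent.S10455
import Groth.Agent.S10313

set_option autoImplicit false
universe u
open CategoryTheory CategoryTheory.Limits AlgebraicGeometry Topology TopologicalSpace
open AlgSp

namespace Groth.Agent.S10503

open Groth.Agent.Lib.Helper36.AlgSpCharts Groth.Agent.Lib.Helper37.AlgSpPoints
  Groth.Agent.Lib.Helper36.AlgSpChartDiag Groth.Agent.Lib.Helper36.AlgSpHasAtMor
  Groth.Agent.Lib.Helper36.AlgSpHasAt Groth.Agent.Lib.Helper36.ResTrdeg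
  Groth.Agent.Lib.Helper36 Groth.Agent.Lib.Helper73 Groth.Agent.Lib.Helper36.QFLocus

/-- Let f : X ⟶ Y be a morphism of algebraic spaces over a scheme S which is locally of finite type,
with Y locally Noetherian, and let y be a point of Y of codimension at most 1. If f is quasi-finite
at every codimension 0 point of X, then every point of X mapping to y is a point where f is
quasi-finite. -/
theorem result {S : Scheme.{u}} {X Y : AlgSp.Space S} (f : X ⟶ Y)
    (hf : AlgSp.LocP @LocallyOfFiniteType f.hom) (hY : AlgSp.IsLocNoethSp Y.obj) (y : AlgSp.Points Y.obj)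
    (hy : AlgSp.HasAt (fun U u => ringKrullDim ↥(U.presheaf.stalk u) ≤ 1) Y.obj y)
    (h : ∀ x : AlgSp.Points X.obj, AlgSp.HasAt (fun U u => ringKrullDim ↥(U.presheaf.stalk u) = 0) X.obj x → AlgSp.HasAtMor (fun U _ h u => ∃ W : U.Opens, u ∈ W ∧ LocallyQuasiFinite (W.ι ≫ h) ∧ LocallyOfFiniteType (W.ι ≫ h)) f.hom x)
    (x : AlgSp.Points X.obj) (hx : AlgSp.Points.map f.hom x = y) :
    AlgSp.HasAtMor (fun U _ h u => ∃ W : U.Opens, u ∈ W ∧ LocallyQuasiFinite (W.ι ≫ h) ∧ LocallyOfFiniteType (W.ι ≫ h)) f.hom x := by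
  refine Groth.Agent.S10455.result f hf hY y hy (fun x₀ hx₀ _ => ?_) x hx
  obtain ⟨U, V, a, b, hh, u, hae, hbe, comm, hu, hq⟩ := h x₀ hx₀
  have hlft : LocallyOfFiniteType hh.left := hf a b hh hae hbe comm
  have hqf : hh.left.QuasiFiniteAt u :=
    (QuasiFiniteAt.exists_opens_lqf_iff_quasiFiniteAt hh.left u).1 hq
  rw [quasiFiniteAt_iff_fibreDimAt_le_zero] at hqf
  have h1 := (resTrdegNat_le_fibreDimAt hh.left u).trans hqf
  have h2 : resTrdegNat hh.left u = 0 := by
    have : resTrdegNat hh.left u ≤ 0 := by exact_mod_cast h1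
    omega
  refine ⟨U, V, a, b, hh, u, hae, hbe, comm, hu, ?_⟩
  show Dual3.resTrdeg hh.left u = 0
  have h3 : Dual3.resTrdeg hh.left u = Groth.Agent.Lib.Helper73.resTrdeg hh.left u := rfl
  rw [h3, resTrdeg_eq_resTrdegNat, h2]
  simp

end Groth.Agent.S10503
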