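import Groth.Statements.S10509
import Mathlib
import Groth.Agent.Lib.Helper51.SmoothSection
import Groth.Agent.Lib.Helper5.FppfCover
import Groth.Agent.Lib.Helper30.EtaleSourceSmooth

set_option autoImplicit false
universe u
open CategoryTheory CategoryTheory.Limits AlgebraicGeometry
open AlgSp

namespace Groth.Agent.S10509

/-- A smooth covering of an algebraic space `X` over `S` by algebraic spaces can be refined by an etale
covering of `X` by algebraic spaces: there is an etale covering `{U_j ⟶ X}` each member of which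
factors through some member of the given smooth covering. -/
theorem result {S : Scheme.{u}} (X : AlgSp.Space S) {ι : Type u}
    (Xi : ι → AlgSp.Space S) (g : ∀ i, Xi i ⟶ X)
    (h : AlgSp.IsSmCover (fun i => (Xi i).obj) (fun i => (g i).hom)) :
    ∃ (κ : Type u) (U : κ → AlgSp.Space S) (c : ∀ j, U j ⟶ X),
      AlgSp.IsEtCover (fun j => (U j).obj) (fun j => (c j).hom) ∧
      ∀ j, ∃ (i : ι) (r : U j ⟶ Xi i), r ≫ g i = c j := by
  classical
  obtain ⟨A, p, hpe, hps⟩ := X.property.atlas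
  obtain ⟨E, k, l, hl, hQ, hz⟩ := Groth.Agent.Lib.Helper5.FppfCover.exists_fibre_charts X.property
    (fun i => (Xi i).obj) (fun i => (Xi i).property) (fun i => (g i).hom) A p
  have hsm : ∀ i, Smooth (k i).left := fun i =>
    hQ _ Groth.Agent.Lib.Helper30.EtLocalInst.etLocal_smooth i (h.1 i)
  choose S' g' s' hg'e hg's hsec hh using fun (j : Σ i, ↥(E i).left) =>
    (haveI := hsm j.1
     Groth.Agent.Lib.Helper51.SmoothSection.exists_etale_section (k j.1).left j.2)
  let T : (Σ i, ↥(E i).left) → Over S := fun j => Over.mk (g' j ≫ A.hom)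
  let gO : ∀ j, T j ⟶ A := fun j => Over.homMk (g' j) rfl
  let hO : ∀ j, T j ⟶ E j.1 := fun j => Over.homMk (hsec j) (by
    change hsec j ≫ (E j.1).hom = g' j ≫ A.hom
    rw [← Over.w (k j.1), ← Category.assoc, hh j])
  have hhO : ∀ j, hO j ≫ k j.1 = gO j := fun j => by
    ext
    exact hh j
  refine ⟨Σ i, ↥(E i).left, fun j => ⟨(AlgSp.yon S).obj (T j), AlgSp.IsAlgSpace.yon_obj _⟩,
    fun j => ObjectProperty.homMk ((AlgSp.yon S).map (gO j) ≫ p), ⟨?_, ?_⟩, ?_⟩
  · intro j W φ hφ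
    obtain ⟨φ, rfl⟩ := (AlgSp.yon S).map_surjective φ
    have hφ' : Etale φ.left := (AlgSp.repWith_yon_map_iff _ _).1 hφ
    change AlgSp.RepWith @Etale ((AlgSp.yon S).map φ ≫ (AlgSp.yon S).map (gO j) ≫ p)
    rw [← Category.assoc, ← Functor.map_comp]
    refine (AlgSp.RepWith @Etale).comp_mem _ _ ?_ hpe
    have := hg'e j
    exact (AlgSp.repWith_yon_map_iff _ _).2 (show Etale (φ.left ≫ g' j) from inferInstance)
  · intro x
    obtain ⟨a, rfl⟩ := Groth.Agent.Lib.Helper37.AlgSpPoints.ofPt_surjective p hps x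
    obtain ⟨i, hi⟩ := h.2 (AlgSp.Points.ofPt p a)
    obtain ⟨e, he⟩ := hz i a hi
    refine ⟨⟨i, e⟩, AlgSp.Points.ofScheme _ (s' ⟨i, e⟩), ?_⟩
    change AlgSp.Points.map ((AlgSp.yon S).map (gO ⟨i, e⟩) ≫ p) (AlgSp.Points.ofScheme _ (s' ⟨i, e⟩)) = _
    rw [← AlgSp.Points.ofPt_eq_map_ofScheme,
      Groth.Agent.Lib.Helper37.AlgSpPoints.ofPt_map_comp]
    congr 1
    exact (hg's ⟨i, e⟩).trans he
  · intro j
    refine ⟨j.1, ObjectProperty.homMk ((AlgSp.yon S).map (hO j) ≫ l j.1), ?_⟩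
    apply ObjectProperty.hom_ext
    change ((AlgSp.yon S).map (hO j) ≫ l j.1) ≫ (g j.1).hom = (AlgSp.yon S).map (gO j) ≫ p
    rw [Category.assoc, hl j.1, ← Category.assoc, ← Functor.map_comp, hhO]

end Groth.Agent.S10509
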