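import Groth.Statements.S1051
-- import your own Groth.Agent.* helpers here

set_option autoImplicit false
universe v u
open CategoryTheory
open CohDer

namespace Groth.Agent.S1051

open CategoryTheory.Pretriangulated CategoryTheory.Limits ZeroObject

section

variable {D : Type u} [Category.{v} D] [Preadditive D] [Limits.HasZeroObject D] [HasShift D ℤ]
    [∀ n : ℤ, (shiftFunctor D n).Additive] [Pretriangulated D]
    (X : ChainComplex D ℕ) (n : ℕ)

/-- one level of a Postnikov system together with the invariants allowing to continue -/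
structure Stage (k : ℕ) where
  Y : D
  a : Y ⟶ X.X k
  i1 : ∀ i : ℕ, k + 2 < i → i ≤ n →
    ∀ ψ : (shiftFunctor D ((i : ℤ) - k - 2)).obj (X.X i) ⟶ Y, ψ = 0
  i2 : k < n → ∃ b : X.X (k + 1) ⟶ Y, b ≫ a = X.d (k + 1) k
  i3 : k + 2 ≤ n → ∀ x : X.X (k + 2) ⟶ Y, x ≫ a = 0 → x = 0

variable {X n}
variable (hX : ∀ i j : ℕ, j + 2 < i → i ≤ n →
  ∀ φ : (shiftFunctor D ((i : ℤ) - j - 2)).obj (X.X i) ⟶ X.X j, φ = 0)

include hX in
lemma step {k : ℕ} (s : Stage X n k) :
    ∃ (Y' : D) (a' : Y' ⟶ X.X (k + 1)) (b : X.X (k + 1) ⟶ s.Y)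
      (c : s.Y ⟶ (shiftFunctor D (1 : ℤ)).obj Y'),
      (k < n → Triangle.mk a' b c ∈ distinguishedTriangles ∧ b ≫ s.a = X.d (k + 1) k) ∧
      (∀ i : ℕ, (k + 1) + 2 < i → i ≤ n →
        ∀ ψ : (shiftFunctor D ((i : ℤ) - (k + 1 : ℕ) - 2)).obj (X.X i) ⟶ Y', ψ = 0) ∧
      ((k + 1) < n → ∃ b' : X.X ((k + 1) + 1) ⟶ Y', b' ≫ a' = X.d ((k + 1) + 1) (k + 1)) ∧
      ((k + 1) + 2 ≤ n → ∀ x : X.X ((k + 1) + 2) ⟶ Y', x ≫ a' = 0 → x = 0) := by
  by_cases hk : k < n
  · obtain ⟨b, hb⟩ := s.i2 hk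
    obtain ⟨Y', a', c, hT⟩ := distinguished_cocone_triangle₁ b
    refine ⟨Y', a', b, c, fun _ => ⟨hT, hb⟩, ?_, ?_, ?_⟩
    · intro i hki hi ψ
      have h1 : ψ ≫ a' = 0 := hX i (k + 1) hki hi _
      have hm : (i : ℤ) - ((k + 1 : ℕ) : ℤ) - 2 + 1 = (i : ℤ) - k - 2 := by push_cast; omega
      generalize (i : ℤ) - ((k + 1 : ℕ) : ℤ) - 2 = m at ψ hm h1
      let e := (shiftFunctorAdd' D m 1 ((i : ℤ) - k - 2) hm).app (X.X i)
      have h2 : (e.hom ≫ (shiftFunctor D (1 : ℤ)).map ψ) ≫ (shiftFunctor D (1 : ℤ)).map a' = 0 := by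
        rw [Category.assoc, ← Functor.map_comp, h1, Functor.map_zero, comp_zero]
      obtain ⟨g, hg⟩ := Triangle.coyoneda_exact₁ _ hT (e.hom ≫ (shiftFunctor D (1 : ℤ)).map ψ) h2
      have hg0 : g = 0 := s.i1 i (by omega) hi g
      rw [hg0, zero_comp] at hg
      have : (shiftFunctor D (1 : ℤ)).map ψ = 0 := by
        rw [← cancel_epi e.hom, comp_zero]; exact hg
      exact (shiftFunctor D (1 : ℤ)).map_injective (by rw [this, Functor.map_zero])
    · intro hk1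
      have h0 : X.d (k + 1 + 1) (k + 1) ≫ b = 0 :=
        s.i3 (by omega) _ (by rw [Category.assoc, hb, X.d_comp_d])
      obtain ⟨b', hb'⟩ := Triangle.coyoneda_exact₂ _ hT (X.d (k + 1 + 1) (k + 1)) h0
      exact ⟨b', hb'.symm⟩
    · intro hk3 x hx
      have h2 : (shiftFunctor D (1 : ℤ)).map x ≫ (shiftFunctor D (1 : ℤ)).map a' = 0 := by
        rw [← Functor.map_comp, hx, Functor.map_zero]
      obtain ⟨g, hg⟩ := Triangle.coyoneda_exact₁ _ hT ((shiftFunctor D (1 : ℤ)).map x) h2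
      obtain ⟨m, hm, h⟩ : ∃ m : ℤ, m = 1 ∧
          ∀ ψ : (shiftFunctor D m).obj (X.X (k + 1 + 2)) ⟶ s.Y, ψ = 0 :=
        ⟨_, by push_cast; omega, s.i1 (k + 1 + 2) (by omega) hk3⟩
      subst hm
      have hg0 : g = 0 := h g
      rw [hg0, zero_comp] at hg
      exact (shiftFunctor D (1 : ℤ)).map_injective (hg.trans (Functor.map_zero _ _ _).symm)
  · refine ⟨0, 0, 0, 0, fun h => absurd h hk, ?_, ?_, ?_⟩
    · intro i hki hi; omega
    · intro h; omega
    · intro h; omega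

/-- the base stage -/
def base : Stage X n 0 where
  Y := X.X 0
  a := 𝟙 _
  i1 := fun i hi hin ψ => hX i 0 hi hin ψ
  i2 := fun _ => ⟨X.d 1 0, Category.comp_id _⟩
  i3 := fun _ x hx => by rwa [Category.comp_id] at hx

/-- the stages, by recursion -/
noncomputable def stage : ∀ k, Stage X n k
  | 0 => base hX
  | k + 1 =>
    { Y := (step hX (stage k)).choose
      a := (step hX (stage k)).choose_spec.choose
      i1 := (step hX (stage k)).choose_spec.choose_spec.choose_spec.choose_spec.2.1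
      i2 := (step hX (stage k)).choose_spec.choose_spec.choose_spec.choose_spec.2.2.1
      i3 := (step hX (stage k)).choose_spec.choose_spec.choose_spec.choose_spec.2.2.2 }

include hX in
theorem aux :
    ∃ (Y : ℕ → D) (a : ∀ k, Y k ⟶ X.X k) (b : ∀ k, X.X (k + 1) ⟶ Y k) (c : ∀ k, Y k ⟶ (shiftFunctor D (1 : ℤ)).obj (Y (k + 1))),
      IsIso (a 0) ∧ ∀ k, k < n → Triangle.mk (a (k + 1)) (b k) (c k) ∈ distinguishedTriangles ∧ b k ≫ a k = X.d (k + 1) k := by
  refine ⟨fun k => (stage hX k).Y, fun k => (stage hX k).a,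
    fun k => (step hX (stage hX k)).choose_spec.choose_spec.choose,
    fun k => (step hX (stage hX k)).choose_spec.choose_spec.choose_spec.choose, ?_, ?_⟩
  · change IsIso (𝟙 (X.X 0))
    infer_instance
  · intro k hk
    exact (step hX (stage hX k)).choose_spec.choose_spec.choose_spec.choose_spec.1 hk

end

open CategoryTheory.Pretriangulated in
/-- Let X be a chain complex in a triangulated category D and n a natural number; consider the finite
complex Xₙ → Xₙ₋₁ → … → X₀. If every morphism Xᵢ[i - j - 2] ⟶ Xⱼ with j + 2 < i ≤ n vanishes, then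
there is a Postnikov system for it: objects Yₖ (k ≤ n), an isomorphism Y₀ ⟶ X₀, and for each k < n a
distinguished triangle Yₖ₊₁ ⟶ Xₖ₊₁ ⟶ Yₖ ⟶ Yₖ₊₁[1] such that Xₖ₊₁ ⟶ Yₖ ⟶ Xₖ is the differential of X. -/
theorem result {D : Type u} [Category.{v} D] [Preadditive D] [Limits.HasZeroObject D] [HasShift D ℤ]
    [∀ n : ℤ, (shiftFunctor D n).Additive] [Pretriangulated D] [IsTriangulated D]
    (X : ChainComplex D ℕ) (n : ℕ)
    (hX : ∀ i j : ℕ, j + 2 < i → i ≤ n → ∀ φ : (shiftFunctor D ((i : ℤ) - j - 2)).obj (X.X i) ⟶ X.X j, φ = 0) :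
    ∃ (Y : ℕ → D) (a : ∀ k, Y k ⟶ X.X k) (b : ∀ k, X.X (k + 1) ⟶ Y k) (c : ∀ k, Y k ⟶ (shiftFunctor D (1 : ℤ)).obj (Y (k + 1))),
      IsIso (a 0) ∧ ∀ k, k < n → Triangle.mk (a (k + 1)) (b k) (c k) ∈ distinguishedTriangles ∧ b k ≫ a k = X.d (k + 1) k := by
  exact aux hX

end Groth.Agent.S1051
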