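import Groth.Statements.S10512
import Groth.Statements.S10512
import Groth.Agent.Lib.Helper5.FppfCover
import Groth.Agent.Lib.Helper30.AlgSpEtaleMor

set_option autoImplicit false
universe u
open CategoryTheory CategoryTheory.Limits AlgebraicGeometry
open AlgSp

namespace Groth.Agent.S10512

section Aux
open CategoryTheory CategoryTheory.Limits AlgebraicGeometry
open AlgSp


open Groth.Agent.Lib.Helper5.FppfCover Groth.Agent.Lib.Helper30.AlgSpEtaleMor
  Groth.Agent.Lib.Helper30.EtLocalInst

variable {S : Scheme.{u}} {Y : Space S}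

/-- the sieve on `U : EtOver Y.obj` of those `v : V ⟶ U` with `h_v ≫ g ∈ R`. -/
def pullSieve {Z : Space S} (R : Sieve Z) (U : EtOver Y.obj)
    (g : (ofScheme S).obj U.obj.left ⟶ Z) : Sieve U where
  arrows V v := R ((ofScheme S).map v.hom.left ≫ g)
  downward_closed := by
    intro V W v hv w
    have : (ofScheme S).map (w ≫ v).hom.left ≫ g =
        (ofScheme S).map w.hom.left ≫ (ofScheme S).map v.hom.left ≫ g := by
      rw [← Category.assoc, ← Functor.map_comp]; rfl
    change R ((ofScheme S).map (w ≫ v).hom.left ≫ g)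
    rw [this]
    exact R.downward_closed hv _

theorem pullSieve_apply {Z : Space S} (R : Sieve Z) (U : EtOver Y.obj)
    (g : (ofScheme S).obj U.obj.left ⟶ Z) {V : EtOver Y.obj} (v : V ⟶ U) :
    pullSieve R U g v ↔ R ((ofScheme S).map v.hom.left ≫ g) := Iff.rfl

theorem pullSieve_of {Z : Space S} (R₀ : Presieve Z) (hR₀ : R₀ ∈ spacesPre S IsEtaleMor Z)
    (U : EtOver Y.obj) (g : (ofScheme S).obj U.obj.left ⟶ Z) :
    pullSieve (Sieve.generate R₀) U g ∈ etTop Y.obj U := by
  obtain ⟨hP, hx⟩ := hR₀
  let T : Over S := U.obj.left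
  let t : (yon S).obj T ⟶ Z.obj := g.hom
  choose Y' g' hmem hrange using fun z : ↥T.left => hx (Points.ofPt t z)
  obtain ⟨E, k, l, hl, hQ, hz⟩ := exists_fibre_charts Z.property (fun z => (Y' z).obj)
    (fun z => (Y' z).property) (fun z => (g' z).hom) T t
  have het : ∀ z, Etale (k z).left := fun z =>
    hQ @Etale etLocal_etale z (locP_etale_of_isEtaleMor _ (hP _ (hmem z)))
  let V : ↥T.left → EtOver Y.obj := fun z =>
    EtOver.mk ((yon S).map (k z) ≫ U.obj.hom)
      ((repWith_isMultiplicative (S := S) @Etale).comp_mem _ _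
        ((repWith_yon_map_iff _ _).2 (het z)) U.property)
  let v : ∀ z, V z ⟶ U := fun z => EtOver.homMk (k z) rfl
  have hcov : Sieve.ofArrows V v ∈ etTop Y.obj U :=
    ofArrows_mem_etTop V v (fun x => ⟨x, hz x x (hrange x)⟩)
  refine (etTop Y.obj).superset_covering ?_ hcov
  rw [Sieve.ofArrows, Sieve.generate_le_iff]
  rintro _ _ ⟨z⟩
  refine ⟨Y' z, ObjectProperty.homMk (l z), g' z, hmem z, ?_⟩
  apply ObjectProperty.hom_ext
  exact hl z

theorem pullSieve_mem {Z : Space S} (R : Sieve Z) (hR : R ∈ spacesTop S IsEtaleMor Z) :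
    ∀ (U : EtOver Y.obj) (g : (ofScheme S).obj U.obj.left ⟶ Z),
      pullSieve R U g ∈ etTop Y.obj U := by
  induction hR with
  | of Z R₀ hR₀ => exact fun U g => pullSieve_of R₀ hR₀ U g
  | top Z =>
    intro U g
    convert (etTop Y.obj).top_mem U
    ext V v
    simp [pullSieve_apply]
  | pullback Z R hR Z' f ih =>
    intro U g
    have := ih U (g ≫ f)
    convert this using 1
    ext V v
    simp [pullSieve_apply]
  | transitive Z R R' hR hR' ih ih' =>
    intro U g
    refine (etTop Y.obj).transitive (ih U g) _ (fun V v hv => ?_)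
    have := ih' hv V (𝟙 _)
    convert this using 1
    ext W w
    simp only [pullSieve_apply, Sieve.pullback_apply, Category.comp_id]
    have : (ofScheme S).map (w ≫ v).hom.left ≫ g =
        (ofScheme S).map w.hom.left ≫ (ofScheme S).map v.hom.left ≫ g := by
      rw [← Category.assoc, ← Functor.map_comp]; rfl
    rw [this]

theorem overEquiv_aux {C : Type*} [Category C] {X : C} {A : Over X} (R : Sieve A) {B : Over X}
    (k : B ⟶ A) (m : B.left ⟶ A.left) (hm : m = k.left) (h : (Sieve.overEquiv _ R) m) : R k := by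
  subst hm
  have key : R k ↔ (Sieve.overEquiv _ R) k.left := by
    conv_lhs => rw [← (Sieve.overEquiv _).symm_apply_apply R]
    exact Sieve.overEquiv_symm_iff _ _
  exact key.2 h

theorem main {X : Space S} (f : Y ⟶ X) :
    (AlgSp.EtOver.toEtSpOver Y ⋙ ObjectProperty.ι (fun E : Over Y => AlgSp.IsEtaleMor E.hom.hom) ⋙
        Over.map f).IsCocontinuous (AlgSp.etTop Y.obj) (AlgSp.spacesTopOver AlgSp.IsEtaleMor X) := by
  constructor
  intro U R hR
  rw [GrothendieckTopology.mem_over_iff] at hR
  have h1 := pullSieve_mem _ hR U (𝟙 _)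
  refine (etTop Y.obj).superset_covering ?_ h1
  intro V v hv
  rw [Sieve.functorPullback_apply]
  exact overEquiv_aux R _ _ (Category.comp_id _) hv


end Aux

/-- For a morphism `f : Y ⟶ X` of algebraic spaces over `S`, the functor from the small etale site of
`Y` (scheme objects) to the big etale site `(Spaces/X)_{etale}` sending `h_U ⟶ Y` to `h_U ⟶ Y ⟶ X`
is cocontinuous; for `f = 𝟙` this is the cocontinuity of the inclusion of the small etale site of
`X` into its big etale site. (Stated for the small etale site with scheme objects, which defines the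
same topos as the one with algebraic-space objects.) -/
theorem result {S : Scheme.{u}} {X Y : AlgSp.Space S} (f : Y ⟶ X) :
    (AlgSp.EtOver.toEtSpOver Y ⋙ ObjectProperty.ι (fun E : Over Y => AlgSp.IsEtaleMor E.hom.hom) ⋙
        Over.map f).IsCocontinuous (AlgSp.etTop Y.obj) (AlgSp.spacesTopOver AlgSp.IsEtaleMor X) := by
  exact main f

end Groth.Agent.S10512
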