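import Groth.Statements.S10513
import Groth.Statements.S10513
import Groth.Agent.Lib.Helper37.AlgSpPoints

set_option autoImplicit false
universe u
open CategoryTheory CategoryTheory.Limits AlgebraicGeometry
open AlgSp

namespace Groth.Agent.S10513

section Aux
open CategoryTheory CategoryTheory.Limits AlgebraicGeometry
open AlgSp


open Groth.Agent.Lib.Helper37.AlgSpPoints

variable {S : Scheme.{u}} {X Y : Space S} (f : Y ⟶ X)

/-- the functor of the statement -/
noncomputable abbrev F : EtOver Y.obj ⥤ Over X :=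
  EtOver.toEtSpOver Y ⋙ ObjectProperty.ι (fun E : Over Y => IsEtaleMor E.hom.hom) ⋙ Over.map f

theorem isPullback_F {E₁ E₂ E₀ : EtOver Y.obj} (g₁ : E₁ ⟶ E₀) (g₂ : E₂ ⟶ E₀) :
    IsPullback ((F f).map (EtOver.pullbackFst g₁ g₂)) ((F f).map (EtOver.pullbackSnd g₁ g₂))
      ((F f).map g₁) ((F f).map g₂) := by
  have sq0 := IsPullback.of_hasPullback g₁.hom.left g₂.hom.left
  have sq1 := sq0.map (yon S)
  have sq2 : IsPullback ((ofScheme S).map (pullback.fst g₁.hom.left g₂.hom.left))
      ((ofScheme S).map (pullback.snd g₁.hom.left g₂.hom.left))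
      ((ofScheme S).map g₁.hom.left) ((ofScheme S).map g₂.hom.left) :=
    IsPullback.of_map (ObjectProperty.ι IsAlgSpace)
      (by rw [← Functor.map_comp, ← Functor.map_comp, pullback.condition]) sq1
  refine IsPullback.of_map (Over.forget X) ?_ sq2
  rw [← Functor.map_comp, ← Functor.map_comp, EtOver.pullback_condition]

instance preservesLimit_cospan_F {E₁ E₂ E₀ : EtOver Y.obj} (g₁ : E₁ ⟶ E₀) (g₂ : E₂ ⟶ E₀) :
    PreservesLimit (cospan g₁ g₂) (F f) :=
  preservesLimit_of_preserves_limit_cone (EtOver.pullbackIsLimit g₁ g₂)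
    ((isLimitMapConePullbackConeEquiv _ _).symm (isPullback_F f g₁ g₂).isLimit)

instance preservesPullbacks_F : PreservesLimitsOfShape WalkingCospan (F f) where
  preservesLimit {K} := preservesLimit_of_iso_diagram _ (diagramIsoCospan K).symm

theorem isEtaleMor_yon_map {T T' : Over S} (k : T ⟶ T') (hk : Etale k.left) :
    IsEtaleMor ((yon S).map k) :=
  fun _ _ hφ => (repWith_isMultiplicative (S := S) @Etale).comp_mem _ _ hφ
    ((repWith_yon_map_iff _ _).2 hk)

theorem cover_mem {U : EtOver Y.obj} (R : Presieve U) (hR : R ∈ etPre Y.obj U) :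
    Sieve.generate (R.map (F f)) ∈ spacesTopOver IsEtaleMor X ((F f).obj U) := by
  obtain ⟨ι, Z, g, rfl⟩ := R.exists_eq_ofArrows
  rw [Presieve.map_ofArrows, GrothendieckTopology.mem_over_iff]
  change (Sieve.overEquiv _) (Sieve.ofArrows _ _) ∈ _
  rw [Sieve.overEquiv_ofArrows]
  apply Precoverage.generate_mem_toGrothendieck
  rw [mem_spacesPre_iff]
  refine ⟨?_, fun x => ?_⟩
  · rintro _ _ ⟨i⟩
    exact isEtaleMor_yon_map (g i).hom.left (EtOver.etale_left (g i))
  · obtain ⟨z, rfl⟩ := (Points.schemeEquiv U.obj.left).surjective x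
    obtain ⟨i, z', hz'⟩ := (ofArrows_mem_etPre_iff Z g).1 hR z
    refine ⟨_, _, ⟨i⟩, Points.ofScheme _ z', ?_⟩
    change Points.map ((yon S).map (g i).hom.left) (Points.ofScheme _ z') = Points.ofScheme _ z
    rw [← Points.ofPt_eq_map_ofScheme, ofPt_yon_map, hz']

theorem main :
    (AlgSp.EtOver.toEtSpOver Y ⋙ ObjectProperty.ι (fun E : Over Y => AlgSp.IsEtaleMor E.hom.hom) ⋙
        Over.map f).IsContinuous (AlgSp.etTop Y.obj) (AlgSp.spacesTopOver AlgSp.IsEtaleMor X) where
  op_comp_isSheaf_of_types := fun ⟨G, H⟩ ↦ by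
    rw [isSheaf_iff_isSheaf_of_type] at H
    unfold etTop
    rw [← Precoverage.toGrothendieck_toCoverage, Presieve.isSheaf_coverage]
    intro U R hR
    have : R.HasPairwisePullbacks := (etPre Y.obj).hasPairwisePullbacks_of_mem hR
    rw [Presieve.IsSheafFor.comp_iff_of_preservesPairwisePullbacks]
    rw [Presieve.isSheafFor_iff_generate]
    exact H _ (cover_mem f R hR)


end Aux

/-- For a morphism `f : Y ⟶ X` of algebraic spaces over `S`, the functor from the small etale site of
`Y` (scheme objects) to the big etale site `(Spaces/X)_{etale}` sending `h_U ⟶ Y` to `h_U ⟶ Y ⟶ X`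
is continuous (precomposition with it carries sheaves of types to sheaves); for `f = 𝟙` this is the
continuity of the inclusion of the small etale site of `X` into its big etale site. (Stated for the
small etale site with scheme objects, which defines the same topos as the one with algebraic-space
objects.) -/
theorem result {S : Scheme.{u}} {X Y : AlgSp.Space S} (f : Y ⟶ X) :
    (AlgSp.EtOver.toEtSpOver Y ⋙ ObjectProperty.ι (fun E : Over Y => AlgSp.IsEtaleMor E.hom.hom) ⋙
        Over.map f).IsContinuous (AlgSp.etTop Y.obj) (AlgSp.spacesTopOver AlgSp.IsEtaleMor X) := by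
  exact main f

end Groth.Agent.S10513
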