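import Groth.Statements.S7198
import Mathlib
import Groth.Agent.S1353
import Groth.Agent.Lib.Helper15.QFCover

set_option autoImplicit false
universe w u
open FlatMor

namespace Groth.Agent.S7198

open AlgebraicGeometry CategoryTheory Limits

section AlgA
open Polynomial

theorem exists_splitting : ∀ (n : ℕ) (A : Type u) [CommRing A] (f : A[X]), f.Monic →
    f.natDegree = n →
    ∃ (B : Type u) (_ : CommRing B) (_ : Algebra A B), Module.Free A B ∧ Module.Finite A B ∧
      Module.FaithfullyFlat A B ∧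
      ∃ t : Fin n → B, f.map (algebraMap A B) = ∏ j, (X - C (t j)) := by
  intro n
  induction n with
  | zero =>
    intro A _ f hf hdeg
    refine ⟨A, inferInstance, inferInstance, inferInstance, inferInstance, inferInstance,
      Fin.elim0, ?_⟩
    have : f = 1 := hf.natDegree_eq_zero.mp hdeg
    simp [this]
  | succ n ih =>
    intro A _ f hf hdeg
    rcases subsingleton_or_nontrivial A with hA | hA
    · refine ⟨A, inferInstance, inferInstance, inferInstance, inferInstance, inferInstance,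
        fun _ => 0, Subsingleton.elim _ _⟩
    have hroot : (f.map (AdjoinRoot.of f)).IsRoot (AdjoinRoot.root f) := by
      rw [IsRoot.def, Polynomial.eval_map]; exact AdjoinRoot.eval₂_root f
    have hmul : (X - C (AdjoinRoot.root f)) *
        ((f.map (AdjoinRoot.of f)) /ₘ (X - C (AdjoinRoot.root f))) = f.map (AdjoinRoot.of f) :=
      mul_divByMonic_eq_iff_isRoot.mpr hroot
    generalize (f.map (AdjoinRoot.of f)) /ₘ (X - C (AdjoinRoot.root f)) = f1 at hmul
    haveI : Nontrivial (AdjoinRoot f) := by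
      have hd : 0 < (AdjoinRoot.powerBasis' hf).dim := by
        rw [AdjoinRoot.powerBasis'_dim, hdeg]; omega
      exact nontrivial_of_ne _ _ ((AdjoinRoot.powerBasis' hf).basis.ne_zero ⟨0, hd⟩)
    haveI : Module.Free A (AdjoinRoot f) := hf.free_adjoinRoot
    haveI : Module.Finite A (AdjoinRoot f) := (AdjoinRoot.powerBasis' hf).finite
    have hfm : (f.map (AdjoinRoot.of f)).Monic := hf.map _
    have hf1m : f1.Monic := (monic_X_sub_C _).of_mul_monic_left (by rw [hmul]; exact hfm)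
    have hdeg1 : f1.natDegree = n := by
      have h := congrArg natDegree hmul
      rw [(monic_X_sub_C _).natDegree_mul hf1m, natDegree_X_sub_C, hf.natDegree_map, hdeg] at h
      omega
    obtain ⟨B, _, _, hfree, hfin, hff, t', ht'⟩ := ih (AdjoinRoot f) f1 hf1m hdeg1
    letI : Algebra A B := ((algebraMap (AdjoinRoot f) B).comp (algebraMap A (AdjoinRoot f))).toAlgebra
    haveI : IsScalarTower A (AdjoinRoot f) B := IsScalarTower.of_algebraMap_eq (fun _ => rfl)
    refine ⟨B, inferInstance, inferInstance, Module.Free.trans (S := AdjoinRoot f),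
      Module.Finite.trans (AdjoinRoot f) B, Module.FaithfullyFlat.trans A (AdjoinRoot f) B,
      Fin.cons (algebraMap (AdjoinRoot f) B (AdjoinRoot.root f)) t', ?_⟩
    have h1 : f.map (algebraMap A B) = (f.map (AdjoinRoot.of f)).map (algebraMap (AdjoinRoot f) B) := by
      rw [Polynomial.map_map]; rfl
    rw [h1, ← hmul, Polynomial.map_mul, ht', Fin.prod_univ_succ]
    simp

end AlgA

section AlgB
open Polynomial TensorProduct

theorem exists_root_notMem {A B : Type u} [CommRing A] [CommRing B] [Algebra A B]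
    (P : StandardEtalePair A) {n : ℕ} (t : Fin n → B)
    (ht : P.f.map (algebraMap A B) = ∏ j, (X - C (t j)))
    (w : ↥(Spec (CommRingCat.of B)))
    (hw : (Spec.map (CommRingCat.ofHom (algebraMap A B))) w ∈
      Set.range (Spec.map (CommRingCat.ofHom (algebraMap A P.Ring)))) :
    ∃ j, aeval (t j) P.g ∉ w.asIdeal := by
  obtain ⟨Q, hQ⟩ := hw
  obtain ⟨z, hz1, -⟩ := Scheme.Pullback.exists_preimage_pullback
    (f := Spec.map (CommRingCat.ofHom (algebraMap A B)))
    (g := Spec.map (CommRingCat.ofHom (algebraMap A P.Ring))) w Q hQ.symm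
  set W : ↥(Spec (CommRingCat.of (B ⊗[A] P.Ring))) := (pullbackSpecIso A B P.Ring).hom z with hWdef
  have hW : (Spec.map (CommRingCat.ofHom (algebraMap B (B ⊗[A] P.Ring)))) W = w := by
    rw [← hz1, hWdef, ← Scheme.Hom.comp_apply, pullbackSpecIso_hom_fst']
  have hmem : ∀ b : B, algebraMap B (B ⊗[A] P.Ring) b ∈ W.asIdeal ↔ b ∈ w.asIdeal := by
    intro b; rw [← hW]; rfl
  let xD : B ⊗[A] P.Ring := Algebra.TensorProduct.includeRight P.X
  have hfx : aeval xD P.f = 0 := by
    rw [aeval_algHom_apply, P.hasMap_X.1, map_zero]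
  have h0 : ∏ j, (xD - algebraMap B (B ⊗[A] P.Ring) (t j)) = 0 := by
    have h := congrArg (aeval xD) ht
    rw [aeval_map_algebraMap, hfx] at h
    rw [h]
    simp [map_prod]
  have hgx : IsUnit (aeval xD P.g) := by
    rw [aeval_algHom_apply]
    exact P.hasMap_X.2.map _
  haveI := W.isPrime
  have hprod : ∏ j, (xD - algebraMap B (B ⊗[A] P.Ring) (t j)) ∈ W.asIdeal := by
    rw [h0]; exact zero_mem _
  obtain ⟨j, -, hj⟩ := Ideal.IsPrime.prod_mem_iff.mp hprod
  refine ⟨j, fun hmem' => ?_⟩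
  have h2 : algebraMap B (B ⊗[A] P.Ring) (aeval (t j) P.g) ∈ W.asIdeal := (hmem _).mpr hmem'
  have hdvd := sub_dvd_eval_sub xD (algebraMap B (B ⊗[A] P.Ring) (t j))
    (P.g.map (algebraMap A (B ⊗[A] P.Ring)))
  rw [Polynomial.eval_map_algebraMap, Polynomial.eval_map_algebraMap, aeval_algebraMap_apply] at hdvd
  obtain ⟨c, hc⟩ := hdvd
  have h3 : aeval xD P.g ∈ W.asIdeal := by
    have : aeval xD P.g = (xD - algebraMap B (B ⊗[A] P.Ring) (t j)) * c +
        algebraMap B (B ⊗[A] P.Ring) (aeval (t j) P.g) := by rw [← hc]; ring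
    rw [this]
    exact add_mem (Ideal.mul_mem_right _ _ hj) h2
  exact Ideal.IsPrime.ne_top inferInstance (Ideal.eq_top_of_isUnit_mem _ h3 hgx)

end AlgB


section Geom

theorem strong {S₁ S : Scheme.{u}} (g : S₁ ⟶ S) [Flat g] [LocallyOfFinitePresentation g] (x₀ : S₁) :
    ∃ (S' V : Scheme.{u}) (e : S' ⟶ S) (π : V ⟶ S') (r : V ⟶ S₁) (u : S'),
      Etale e ∧ e u = g x₀ ∧ Surjective π ∧ IsFinite π ∧ Flat π ∧ LocallyOfFinitePresentation π ∧
      r ≫ g = π ≫ e := by
  obtain ⟨Z, k, hZ, hfl, hfp, hqf, ⟨z, hz⟩⟩ :=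
    Groth.Agent.Lib.Helper15.QFCover.exists_affine_qf_flat_over g x₀
  have := hfl
  have := hfp
  have := hqf
  set f := k ≫ g with hf
  have hqfz : f.QuasiFiniteAt z := f.quasiFiniteAt z
  obtain ⟨U, e, u, ⟨het, heu, -⟩, V, v, hvV, hfin, hvu, -, -, -⟩ :=
    Groth.Agent.S1353.result f z hqfz
  have := het
  have := hfin
  set π₀ := V.ι ≫ pullback.snd f e with hπ₀
  have : Flat π₀ := by rw [hπ₀]; infer_instance
  have : LocallyOfFinitePresentation π₀ := by rw [hπ₀]; infer_instance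
  have hopen : IsOpen (Set.range π₀) := π₀.isOpenMap.isOpen_range
  let O : U.Opens := ⟨Set.range π₀, hopen⟩
  have hrange : Set.range π₀ ⊆ Set.range O.ι := by
    rw [Scheme.Opens.range_ι]; exact subset_rfl
  let π : (V : Scheme.{u}) ⟶ (O : Scheme.{u}) := IsOpenImmersion.lift O.ι π₀ hrange
  have hπ : π ≫ O.ι = π₀ := IsOpenImmersion.lift_fac _ _ _
  have sq : IsPullback (𝟙 (V : Scheme.{u})) π π₀ O.ι :=
    IsPullback.of_horiz_isIso_mono ⟨by rw [Category.id_comp, hπ]⟩
  have huO : u ∈ O := ⟨⟨v, hvV⟩, by rw [hπ₀, Scheme.Hom.comp_apply]; exact hvu⟩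
  refine ⟨O, V, O.ι ≫ e, π, V.ι ≫ pullback.fst f e ≫ k, ⟨u, huO⟩, inferInstance, ?_, ?_, ?_, ?_,
    ?_, ?_⟩
  · rw [Scheme.Hom.comp_apply]
    change e u = g x₀
    exact heu.trans hz
  · constructor
    intro p
    obtain ⟨w, hw⟩ := p.2
    refine ⟨w, ?_⟩
    apply O.ι.isOpenEmbedding.injective
    rw [← Scheme.Hom.comp_apply, hπ]
    exact hw
  · exact MorphismProperty.of_isPullback (P := @IsFinite) sq hfin
  · exact MorphismProperty.of_isPullback (P := @Flat) sq inferInstance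
  · exact MorphismProperty.of_isPullback (P := @LocallyOfFinitePresentation) sq inferInstance
  · simp only [Category.assoc]
    rw [← hf, pullback.condition, ← Category.assoc V.ι, ← hπ₀, ← hπ]
    simp only [Category.assoc]

open Polynomial in

open AlgebraicGeometry CategoryTheory Limits in
/-- Any fppf covering {S_i → S} is refined by a family built in four steps — cover S by Zariski opens
U_j; over each U_j take a surjective finite locally free W_j → U_j; cover each W_j by Zariski opens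
W_{j,k}; over each of those take a surjective finite locally free T_{j,k} → W_{j,k} — where every
composite T_{j,k} → S factors through some S_i. Stated pointwise: around every point of S, and then
around every point of the finite locally free cover, such data exist. -/
theorem result {S : Scheme.{u}} (E : PreZeroHypercover.{w} S)
    (hflat : ∀ i, Flat (E.f i)) (hfp : ∀ i, LocallyOfFinitePresentation (E.f i))
    (hsurj : ∀ s : S, ∃ (i : E.I₀) (x : E.X i), E.f i x = s) (s : S) :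
    ∃ (U : S.Opens) (W : Scheme.{u}) (π : W ⟶ U.toScheme), s ∈ U ∧ Mor2.IsFinLocFree π ∧ Surjective π ∧
      ∀ w : W, ∃ (W' : W.Opens) (T : Scheme.{u}) (ρ : T ⟶ W'.toScheme) (i : E.I₀) (r : T ⟶ E.X i),
        w ∈ W' ∧ Mor2.IsFinLocFree ρ ∧ Surjective ρ ∧ r ≫ E.f i = ρ ≫ W'.ι ≫ π ≫ U.ι := by
  obtain ⟨i, x₀, hx₀⟩ := hsurj s
  haveI := hflat i
  haveI := hfp i
  obtain ⟨S', V, e, π, r, u, het, heu, hπs, hπf, hπfl, hπfp, hr⟩ := strong (E.f i) x₀
  rw [hx₀] at heu
  -- charts
  obtain ⟨A0, hA0, hsA0, -⟩ :=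
    exists_isAffineOpen_mem_and_subset (X := S) (x := s) (U := ⊤) trivial
  have hu0 : u ∈ e ⁻¹ᵁ A0 := by
    show e u ∈ A0
    rw [heu]; exact hsA0
  obtain ⟨C0, hC0, huC0, hC0le⟩ :=
    exists_isAffineOpen_mem_and_subset (X := S') (x := u) (U := e ⁻¹ᵁ A0) hu0
  have hφ : (e.appLE A0 C0 hC0le).hom.Etale :=
    HasRingHomProperty.appLE (P := @Etale) e het ⟨A0, hA0⟩ ⟨C0, hC0⟩ hC0le
  letI algAC : Algebra Γ(S, A0) Γ(S', C0) := (e.appLE A0 C0 hC0le).hom.toAlgebra
  haveI : Algebra.Etale Γ(S, A0) Γ(S', C0) := by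
    rw [← RingHom.etale_algebraMap]; exact hφ
  -- the prime
  let q : Ideal Γ(S', C0) := (hC0.primeIdealOf ⟨u, huC0⟩).asIdeal
  haveI : q.IsPrime := (hC0.primeIdealOf ⟨u, huC0⟩).isPrime
  haveI : Algebra.IsEtaleAt Γ(S, A0) q := by
    haveI : Algebra.FormallyEtale Γ(S', C0) (Localization.AtPrime q) :=
      Algebra.FormallyEtale.of_isLocalization q.primeCompl
    exact Algebra.FormallyEtale.comp Γ(S, A0) Γ(S', C0) (Localization.AtPrime q)
  obtain ⟨c, hcq, hstd⟩ := Algebra.IsEtaleAt.exists_isStandardEtale (R := Γ(S, A0)) q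
  -- the basic open
  have hD : IsAffineOpen (S'.basicOpen c) := hC0.basicOpen c
  have hDle : S'.basicOpen c ≤ e ⁻¹ᵁ A0 := (S'.basicOpen_le c).trans hC0le
  letI algAD : Algebra Γ(S, A0) Γ(S', S'.basicOpen c) := (e.appLE A0 (S'.basicOpen c) hDle).hom.toAlgebra
  haveI : IsScalarTower Γ(S, A0) Γ(S', C0) Γ(S', S'.basicOpen c) :=
    IsScalarTower.of_algebraMap_eq (fun a => by
      have h := Scheme.Hom.appLE_map e hC0le (homOfLE (S'.basicOpen_le c)).op
      exact congr($(h.symm).hom a))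
  haveI := hC0.isLocalization_basicOpen c
  let eqv : Localization.Away c ≃ₐ[Γ(S, A0)] Γ(S', S'.basicOpen c) :=
    (IsLocalization.algEquiv (Submonoid.powers c) (Localization.Away c)
      Γ(S', S'.basicOpen c)).restrictScalars Γ(S, A0)
  haveI : Algebra.IsStandardEtale Γ(S, A0) Γ(S', S'.basicOpen c) := .of_equiv eqv
  let Pres : StandardEtalePresentation Γ(S, A0) Γ(S', S'.basicOpen c) :=
    (Algebra.IsStandardEtale.nonempty_standardEtalePresentation).some
  -- the chart morphism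
  let θ : Γ(S', S'.basicOpen c) ⟶ CommRingCat.of Pres.P.Ring :=
    CommRingCat.ofHom (Pres.equivRing : Γ(S', S'.basicOpen c) →+* Pres.P.Ring)
  let σ : CommRingCat.of Pres.P.Ring ⟶ Γ(S', S'.basicOpen c) :=
    CommRingCat.ofHom (Pres.equivRing.symm : Pres.P.Ring →+* Γ(S', S'.basicOpen c))
  have hθσ : θ ≫ σ = 𝟙 _ := by
    ext a
    exact Pres.equivRing.symm_apply_apply a
  let o1 : Spec (CommRingCat.of Pres.P.Ring) ⟶ S' := Spec.map θ ≫ hD.fromSpec
  have hcomp : o1 ≫ e = Spec.map (CommRingCat.ofHom (algebraMap Γ(S, A0) Pres.P.Ring)) ≫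
      hA0.fromSpec := by
    have h1 : e.appLE A0 (S'.basicOpen c) hDle ≫ θ =
        CommRingCat.ofHom (algebraMap Γ(S, A0) Pres.P.Ring) := by
      ext a
      exact Pres.equivRing.commutes a
    show (Spec.map θ ≫ hD.fromSpec) ≫ e = _
    rw [← h1, Spec.map_comp, Category.assoc, Category.assoc,
      IsAffineOpen.SpecMap_appLE_fromSpec e hA0 hD hDle]
  -- u lies in the chart
  have huD : u ∈ S'.basicOpen c := by
    have h1 : hC0.primeIdealOf ⟨u, huC0⟩ ∈ hC0.fromSpec ⁻¹ᵁ S'.basicOpen c := by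
      rw [hC0.fromSpec_preimage_basicOpen]; exact hcq
    have h2 : hC0.fromSpec (hC0.primeIdealOf ⟨u, huC0⟩) ∈ S'.basicOpen c := h1
    rwa [hC0.fromSpec_primeIdealOf] at h2
  let y1 : Spec (CommRingCat.of Pres.P.Ring) := Spec.map σ (hD.primeIdealOf ⟨u, huD⟩)
  have hy1 : o1 y1 = u := by
    show (Spec.map θ ≫ hD.fromSpec) (Spec.map σ (hD.primeIdealOf ⟨u, huD⟩)) = u
    rw [Scheme.Hom.comp_apply, ← Scheme.Hom.comp_apply (Spec.map σ) (Spec.map θ), ← Spec.map_comp, hθσ,
      Spec.map_id]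
    exact hD.fromSpec_primeIdealOf ⟨u, huD⟩
  -- the open image in Spec A
  haveI : Etale (Spec.map (CommRingCat.ofHom (algebraMap Γ(S, A0) Pres.P.Ring))) := by
    rw [HasRingHomProperty.Spec_iff (P := @Etale)]
    exact RingHom.etale_algebraMap.mpr inferInstance
  let UA : (Spec Γ(S, A0)).Opens :=
    ⟨Set.range (Spec.map (CommRingCat.ofHom (algebraMap Γ(S, A0) Pres.P.Ring))),
      (Spec.map (CommRingCat.ofHom (algebraMap Γ(S, A0) Pres.P.Ring))).isOpenMap.isOpen_range⟩
  have hsUA : hA0.primeIdealOf ⟨s, hsA0⟩ ∈ UA := by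
    refine ⟨y1, ?_⟩
    apply hA0.fromSpec.isOpenEmbedding.injective
    rw [hA0.fromSpec_primeIdealOf, ← Scheme.Hom.comp_apply, ← hcomp, Scheme.Hom.comp_apply, hy1, heu]
  -- the splitting algebra
  obtain ⟨B, _, _, hfree, hfin, hff, t, ht⟩ :=
    exists_splitting Pres.P.f.natDegree Γ(S, A0) Pres.P.f Pres.P.monic_f rfl
  haveI : Module.Free Γ(S, A0) B := hfree
  haveI : Module.Finite Γ(S, A0) B := hfin
  haveI : Module.FaithfullyFlat Γ(S, A0) B := hff
  haveI : Module.FinitePresentation Γ(S, A0) B := Module.finitePresentation_of_projective _ _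
  haveI : Algebra.FinitePresentation Γ(S, A0) B :=
    Algebra.FinitePresentation.of_finitePresentation _ _
  let fB : Spec (CommRingCat.of B) ⟶ Spec Γ(S, A0) :=
    Spec.map (CommRingCat.ofHom (algebraMap Γ(S, A0) B))
  haveI : IsFinite fB := by
    rw [IsFinite.SpecMap_iff]
    exact RingHom.finite_algebraMap.mpr hfin
  haveI : Flat fB := by
    rw [Flat.SpecMap_iff]
    exact RingHom.flat_algebraMap_iff.mpr inferInstance
  haveI : LocallyOfFinitePresentation fB := by
    rw [HasRingHomProperty.Spec_iff (P := @LocallyOfFinitePresentation)]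
    exact RingHom.finitePresentation_algebraMap.mpr inferInstance
  haveI : Surjective fB := ⟨fun y => by
    obtain ⟨x, hx⟩ := PrimeSpectrum.comap_surjective_of_faithfullyFlat (A := Γ(S, A0)) (B := B) y
    exact ⟨x, hx⟩⟩
  haveI : IsFinite (fB ∣_ UA) := IsZariskiLocalAtTarget.restrict ‹_› UA
  haveI : Flat (fB ∣_ UA) := IsZariskiLocalAtTarget.restrict ‹_› UA
  haveI : LocallyOfFinitePresentation (fB ∣_ UA) := IsZariskiLocalAtTarget.restrict ‹_› UA
  haveI : Surjective (fB ∣_ UA) := IsZariskiLocalAtTarget.restrict ‹_› UA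
  let πW : (fB ⁻¹ᵁ UA).toScheme ⟶ (hA0.fromSpec ''ᵁ UA).toScheme :=
    (fB ∣_ UA) ≫ (hA0.fromSpec.isoImage UA).hom
  have hπW : πW ≫ (hA0.fromSpec ''ᵁ UA).ι = (fB ⁻¹ᵁ UA).ι ≫ fB ≫ hA0.fromSpec := by
    simp only [πW, Category.assoc, Scheme.Hom.isoImage_hom_ι]
    rw [← Category.assoc, morphismRestrict_ι, Category.assoc]
  refine ⟨hA0.fromSpec ''ᵁ UA, (fB ⁻¹ᵁ UA).toScheme, πW, ?_, ⟨inferInstance, inferInstance, inferInstance⟩,
    inferInstance, ?_⟩
  · exact ⟨hA0.primeIdealOf ⟨s, hsA0⟩, hsUA, hA0.fromSpec_primeIdealOf ⟨s, hsA0⟩⟩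
  intro w
  have hw0 : fB ((fB ⁻¹ᵁ UA).ι w) ∈ UA := w.2
  obtain ⟨j, hj⟩ := exists_root_notMem Pres.P t ht ((fB ⁻¹ᵁ UA).ι w) hw0
  set b : B := aeval (t j) Pres.P.g with hb
  let Db : (Spec (CommRingCat.of B)).Opens := PrimeSpectrum.basicOpen b
  let W' : (fB ⁻¹ᵁ UA).toScheme.Opens := (fB ⁻¹ᵁ UA).ι ⁻¹ᵁ Db
  have hwW' : w ∈ W' := hj
  let ιb : Spec (CommRingCat.of (Localization.Away b)) ⟶ Spec (CommRingCat.of B) :=
    Spec.map (CommRingCat.ofHom (algebraMap B (Localization.Away b)))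
  haveI : IsOpenImmersion ιb := IsOpenImmersion.of_isLocalization b
  have hrange : Set.range (W'.ι ≫ (fB ⁻¹ᵁ UA).ι) ⊆ Set.range ιb := by
    rintro _ ⟨p, rfl⟩
    have : (PrimeSpectrum.basicOpen b : Set (PrimeSpectrum B)) = Set.range ιb :=
      (PrimeSpectrum.localization_away_comap_range (Localization.Away b) b).symm
    rw [← this]
    exact p.2
  let ℓ : W'.toScheme ⟶ Spec (CommRingCat.of (Localization.Away b)) :=
    IsOpenImmersion.lift ιb (W'.ι ≫ (fB ⁻¹ᵁ UA).ι) hrange
  have hℓ : ℓ ≫ ιb = W'.ι ≫ (fB ⁻¹ᵁ UA).ι := IsOpenImmersion.lift_fac _ _ _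
  have hmap1 : Pres.P.HasMap (algebraMap B (Localization.Away b) (t j)) := by
    constructor
    · rw [aeval_algebraMap_apply]
      have h0 : aeval (t j) Pres.P.f = 0 := by
        have h := congrArg (Polynomial.eval (t j)) ht
        rw [Polynomial.eval_map_algebraMap] at h
        rw [h, Polynomial.eval_prod]
        exact Finset.prod_eq_zero (Finset.mem_univ j) (by simp)
      rw [h0, map_zero]
    · rw [aeval_algebraMap_apply]
      exact IsLocalization.Away.algebraMap_isUnit b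
  let ψ : Pres.P.Ring →ₐ[Γ(S, A0)] Localization.Away b :=
    Pres.P.lift (algebraMap B (Localization.Away b) (t j)) hmap1
  let lam0 : Spec (CommRingCat.of (Localization.Away b)) ⟶ Spec (CommRingCat.of Pres.P.Ring) :=
    Spec.map (CommRingCat.ofHom (ψ : Pres.P.Ring →+* Localization.Away b))
  have hlam0 : lam0 ≫ Spec.map (CommRingCat.ofHom (algebraMap Γ(S, A0) Pres.P.Ring)) = ιb ≫ fB := by
    simp only [lam0, ιb, fB]
    rw [← Spec.map_comp, ← Spec.map_comp]
    congr 1
    ext a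
    show ψ (algebraMap Γ(S, A0) Pres.P.Ring a) = algebraMap B (Localization.Away b) (algebraMap Γ(S, A0) B a)
    rw [ψ.commutes, ← IsScalarTower.algebraMap_apply]
  let lam : W'.toScheme ⟶ S' := ℓ ≫ lam0 ≫ o1
  have hlam : lam ≫ e = W'.ι ≫ πW ≫ (hA0.fromSpec ''ᵁ UA).ι := by
    simp only [lam, Category.assoc]
    rw [hcomp, ← Category.assoc lam0, hlam0, Category.assoc, ← Category.assoc ℓ, hℓ, hπW]
    simp only [Category.assoc]
  refine ⟨W', pullback π lam, pullback.snd π lam, i, pullback.fst π lam ≫ r, hwW',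
    ⟨inferInstance, inferInstance, inferInstance⟩, inferInstance, ?_⟩
  rw [Category.assoc, hr, ← Category.assoc, pullback.condition, Category.assoc, hlam]

end Geom

end Groth.Agent.S7198
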