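import Groth.Statements.S7190
import Mathlib
import Groth.Agent.S7198
import Groth.Agent.Lib.Helper80.ExtFin
import Groth.Agent.Lib.Helper80.CommonRef

set_option autoImplicit false
universe w u
open FlatMor

namespace Groth.Agent.S7190

open AlgebraicGeometry CategoryTheory Limits

/-- The data of `S7198`, over an affine scheme `X` mapping to `T`, with all opens shrunk to basic
opens. -/
theorem data {T : Scheme.{u}} (E : PreZeroHypercover.{w} T)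
    (hflat : ∀ i, Flat (E.f i)) (hfp : ∀ i, LocallyOfFinitePresentation (E.f i))
    (hsurj : ∀ t : T, ∃ (i : E.I₀) (x : E.X i), E.f i x = t)
    {X : Scheme.{u}} [IsAffine X] (j : X ⟶ T) (s : X) :
    ∃ (a : Γ(X, ⊤)) (W : Scheme.{u}) (τ : W ⟶ (X.basicOpen a).toScheme), s ∈ X.basicOpen a ∧
      IsFinite τ ∧ Surjective τ ∧
      ∀ w : W, ∃ (b : Γ(W, ⊤)) (T' : Scheme.{u}) (ρ : T' ⟶ (W.basicOpen b).toScheme) (i : E.I₀)
        (r : T' ⟶ E.X i), w ∈ W.basicOpen b ∧ IsFinite ρ ∧ Surjective ρ ∧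
        r ≫ E.f i = ρ ≫ (W.basicOpen b).ι ≫ τ ≫ (X.basicOpen a).ι ≫ j := by
  have hflat' : ∀ i, Flat ((E.pullback₁ j).f i) := fun i => by
    haveI := hflat i
    show Flat (pullback.fst j (E.f i))
    infer_instance
  have hfp' : ∀ i, LocallyOfFinitePresentation ((E.pullback₁ j).f i) := fun i => by
    haveI := hfp i
    show LocallyOfFinitePresentation (pullback.fst j (E.f i))
    infer_instance
  have hsurj' : ∀ s : X, ∃ (i : (E.pullback₁ j).I₀) (x : (E.pullback₁ j).X i),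
      (E.pullback₁ j).f i x = s := fun s => by
    obtain ⟨i, x, hx⟩ := hsurj (j s)
    obtain ⟨z, hz1, _⟩ := Scheme.Pullback.exists_preimage_pullback s x hx.symm
    exact ⟨i, z, hz1⟩
  obtain ⟨U₀, W₀, π₀, hsU, ⟨hπf, _, _⟩, hπs, hW⟩ :=
    Groth.Agent.S7198.result (E.pullback₁ j) hflat' hfp' hsurj' s
  obtain ⟨_, ⟨_, ⟨a, rfl⟩, rfl⟩, hsa, hale⟩ :=
    (isBasis_basicOpen X).exists_subset_of_mem_open hsU U₀.isOpen
  have hale' : X.basicOpen a ≤ U₀ := hale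
  let κ : (X.basicOpen a).toScheme ⟶ U₀.toScheme := X.homOfLE hale'
  have hκ : κ ≫ U₀.ι = (X.basicOpen a).ι := X.homOfLE_ι hale'
  haveI : IsOpenImmersion κ := by
    have : IsOpenImmersion (κ ≫ U₀.ι) := by rw [hκ]; infer_instance
    exact IsOpenImmersion.of_comp κ U₀.ι
  let W := pullback π₀ κ
  let τ : W ⟶ (X.basicOpen a).toScheme := pullback.snd π₀ κ
  let o : W ⟶ W₀ := pullback.fst π₀ κ
  have hoτ : o ≫ π₀ = τ ≫ κ := pullback.condition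
  haveI : IsFinite τ := inferInstance
  haveI : Surjective τ := inferInstance
  haveI : IsAffine W := isAffine_of_isAffineHom τ
  refine ⟨a, W, τ, hsa, inferInstance, inferInstance, ?_⟩
  intro w
  obtain ⟨W', T₀, ρ₀, i, r₀, hwW', ⟨hρf, _, _⟩, hρs, hr₀⟩ := hW (o w)
  have hw' : w ∈ o ⁻¹ᵁ W' := hwW'
  obtain ⟨_, ⟨_, ⟨b, rfl⟩, rfl⟩, hwb, hble⟩ :=
    (isBasis_basicOpen W).exists_subset_of_mem_open hw' (o ⁻¹ᵁ W').isOpen
  have hrange : Set.range ((W.basicOpen b).ι ≫ o) ⊆ Set.range W'.ι := by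
    rintro _ ⟨x, rfl⟩
    rw [Scheme.Opens.range_ι]
    exact hble x.2
  let κ' : (W.basicOpen b).toScheme ⟶ W'.toScheme :=
    IsOpenImmersion.lift W'.ι ((W.basicOpen b).ι ≫ o) hrange
  have hκ' : κ' ≫ W'.ι = (W.basicOpen b).ι ≫ o := IsOpenImmersion.lift_fac _ _ _
  let r₀' : T₀ ⟶ pullback j (E.f i) := r₀
  have hr₀' : r₀' ≫ pullback.fst j (E.f i) = ρ₀ ≫ W'.ι ≫ π₀ ≫ U₀.ι := hr₀
  refine ⟨b, pullback ρ₀ κ', pullback.snd ρ₀ κ', i,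
    pullback.fst ρ₀ κ' ≫ r₀' ≫ pullback.snd j (E.f i), hwb, inferInstance, inferInstance, ?_⟩
  simp only [Category.assoc]
  rw [← pullback.condition, ← Category.assoc r₀', hr₀']
  simp only [Category.assoc]
  rw [← Category.assoc (pullback.fst ρ₀ κ'), pullback.condition]
  simp only [Category.assoc]
  rw [← Category.assoc κ', hκ']
  simp only [Category.assoc]
  rw [← Category.assoc o, hoτ]
  simp only [Category.assoc]
  rw [← Category.assoc κ, hκ]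

theorem main {T : Scheme.{u}} (E : PreZeroHypercover.{w} T)
    (hflat : ∀ i, Flat (E.f i)) (hfp : ∀ i, LocallyOfFinitePresentation (E.f i))
    (hsurj : ∀ t : T, ∃ (i : E.I₀) (x : E.X i), E.f i x = t)
    {X : Scheme.{u}} [IsAffine X] (j : X ⟶ T) :
    ∃ F : PreZeroHypercover.{0} X, HTop.IsStandardPh F ∧ HTop.RefinesOver j F E := by
  classical
  have D := data E hflat hfp hsurj j
  choose a W τ hsa hτf hτs hw using D
  choose b T' ρ ix r hwb hρf hρs hr using hw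
  -- level 1: finite subcover by basic opens
  obtain ⟨t₁, ht₁⟩ := isCompact_univ.elim_finite_subcover
    (fun s : X => ((X.basicOpen (a s) : X.Opens) : Set X))
    (fun s => (X.basicOpen (a s)).isOpen) (fun x _ => Set.mem_iUnion.mpr ⟨x, hsa x⟩)
  have ext1 : ∀ k : t₁, ∃ (T₁ : Scheme.{u}) (π : T₁ ⟶ X) (i : W k.1 ⟶ T₁), IsFinite π ∧
      Surjective π ∧ IsOpenImmersion i ∧ i ≫ π = τ k.1 ≫ (X.basicOpen (a k.1)).ι ∧
      ∀ y : T₁, π y ∈ X.basicOpen (a k.1) → y ∈ Set.range i := fun k => by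
    haveI := hτf k.1
    haveI := hτs k.1
    exact Groth.Agent.Lib.Helper80.ExtFin.exists_finite_extension (a k.1) _ rfl (τ k.1)
  choose Wh πh i₁ hπhf hπhs hi₁o hi₁c hi₁r using ext1
  haveI : ∀ k, IsOpenImmersion (i₁ k) := hi₁o
  obtain ⟨P₁, q₁, p₁, hq₁f, hq₁s, hp₁⟩ :=
    Groth.Agent.Lib.Helper80.CommonRef.exists_common_refinement Wh πh hπhf hπhs
  haveI : IsAffine P₁ := isAffine_of_isAffineHom q₁
  let c₁ : t₁ → Γ(P₁, ⊤) := fun k => q₁.appTop (a k.1)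
  have hΩ : ∀ k : t₁, P₁.basicOpen (c₁ k) = q₁ ⁻¹ᵁ X.basicOpen (a k.1) :=
    fun k => (Scheme.preimage_basicOpen_top q₁ (a k.1)).symm
  have hrange1 : ∀ k : t₁,
      Set.range ((P₁.basicOpen (c₁ k)).ι ≫ p₁ k) ⊆ Set.range (i₁ k) := by
    rintro k _ ⟨x, rfl⟩
    apply hi₁r k
    have h1 : (P₁.basicOpen (c₁ k)).ι x ∈ q₁ ⁻¹ᵁ X.basicOpen (a k.1) := by
      rw [← hΩ k]; exact x.2
    have h2 : πh k (((P₁.basicOpen (c₁ k)).ι ≫ p₁ k) x) = q₁ ((P₁.basicOpen (c₁ k)).ι x) := by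
      rw [Scheme.Hom.comp_apply, ← Scheme.Hom.comp_apply (p₁ k) (πh k), hp₁ k]
    rw [h2]
    exact h1
  let ℓ : ∀ k : t₁, (P₁.basicOpen (c₁ k)).toScheme ⟶ W k.1 :=
    fun k => IsOpenImmersion.lift (i₁ k) ((P₁.basicOpen (c₁ k)).ι ≫ p₁ k) (hrange1 k)
  have hℓ : ∀ k : t₁, ℓ k ≫ i₁ k = (P₁.basicOpen (c₁ k)).ι ≫ p₁ k :=
    fun k => IsOpenImmersion.lift_fac _ _ _
  have hℓ' : ∀ k : t₁, ℓ k ≫ τ k.1 ≫ (X.basicOpen (a k.1)).ι ≫ j =
      (P₁.basicOpen (c₁ k)).ι ≫ q₁ ≫ j := by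
    intro k
    rw [← Category.assoc (τ k.1), ← hi₁c k, Category.assoc, ← Category.assoc (ℓ k), hℓ k,
      Category.assoc, ← Category.assoc (p₁ k), hp₁ k]
  -- level 2: finite subcovers
  haveI hWaff : ∀ s, IsAffine (W s) := fun s => by
    haveI := hτf s
    exact isAffine_of_isAffineHom (τ s)
  have hcov2 : ∀ k : t₁, ∃ t : Finset (W k.1), ∀ x : W k.1, ∃ w ∈ t,
      x ∈ (W k.1).basicOpen (b k.1 w) := by
    intro k
    obtain ⟨t, ht⟩ := isCompact_univ.elim_finite_subcover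
      (fun w : W k.1 => (((W k.1).basicOpen (b k.1 w) : (W k.1).Opens) : Set (W k.1)))
      (fun w => ((W k.1).basicOpen (b k.1 w)).isOpen)
      (fun x _ => Set.mem_iUnion.mpr ⟨x, hwb k.1 x⟩)
    refine ⟨t, fun x => ?_⟩
    obtain ⟨w, hw, hx⟩ := Set.mem_iUnion₂.mp (ht (Set.mem_univ x))
    exact ⟨w, hw, hx⟩
  choose t₂ ht₂ using hcov2
  let ι₂ : Type u := Σ k : t₁, (t₂ k : Finset (W k.1))
  haveI : Finite ι₂ := inferInstanceAs (Finite (Σ k : t₁, (t₂ k : Finset (W k.1))))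
  let V : ∀ kw : ι₂, (W kw.1.1).Opens := fun kw => (W kw.1.1).basicOpen (b kw.1.1 kw.2.1)
  let D' : ∀ kw : ι₂, (P₁.basicOpen (c₁ kw.1)).toScheme.Opens := fun kw => ℓ kw.1 ⁻¹ᵁ V kw
  have hD' : ∀ kw : ι₂, D' kw =
      (P₁.basicOpen (c₁ kw.1)).toScheme.basicOpen ((ℓ kw.1).appTop (b kw.1.1 kw.2.1)) :=
    fun kw => Scheme.preimage_basicOpen_top (ℓ kw.1) (b kw.1.1 kw.2.1)
  let κ₂ : ∀ kw : ι₂, (D' kw).toScheme ⟶ (V kw).toScheme := fun kw => ℓ kw.1 ∣_ V kw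
  let τ₂ : ∀ kw : ι₂, pullback (ρ kw.1.1 kw.2.1) (κ₂ kw) ⟶ (D' kw).toScheme :=
    fun kw => pullback.snd (ρ kw.1.1 kw.2.1) (κ₂ kw)
  have ext2 : ∀ kw : ι₂, ∃ (T₂ : Scheme.{u}) (π : T₂ ⟶ P₁)
      (i : pullback (ρ kw.1.1 kw.2.1) (κ₂ kw) ⟶ T₂), IsFinite π ∧ Surjective π ∧
      IsOpenImmersion i ∧ i ≫ π = τ₂ kw ≫ (D' kw).ι ≫ (P₁.basicOpen (c₁ kw.1)).ι ∧
      ∀ y : T₂, (∃ x : (P₁.basicOpen (c₁ kw.1)).toScheme, x ∈ D' kw ∧
        (P₁.basicOpen (c₁ kw.1)).ι x = π y) → y ∈ Set.range i := fun kw => by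
    haveI := hρf kw.1.1 kw.2.1
    haveI := hρs kw.1.1 kw.2.1
    exact Groth.Agent.Lib.Helper80.ExtFin.exists_finite_extension₂ (c₁ kw.1)
      ((ℓ kw.1).appTop (b kw.1.1 kw.2.1)) (D' kw) (hD' kw) (τ₂ kw)
  choose Th π₂ J hπ₂f hπ₂s hJo hJc hJr using ext2
  haveI : ∀ kw, IsOpenImmersion (J kw) := hJo
  obtain ⟨P₂, q₂, p₂, hq₂f, hq₂s, hp₂⟩ :=
    Groth.Agent.Lib.Helper80.CommonRef.exists_common_refinement Th π₂ hπ₂f hπ₂s
  -- the pieces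
  let Q : ∀ kw : ι₂, P₂.Opens := fun kw => q₂ ⁻¹ᵁ ((P₁.basicOpen (c₁ kw.1)).ι ''ᵁ (D' kw))
  have hQaff : ∀ kw : ι₂, IsAffineOpen (Q kw) := by
    intro kw
    have h1 : IsAffineOpen (D' kw) := by
      rw [hD' kw]
      exact (isAffineOpen_top _).basicOpen _
    exact (h1.image_of_isOpenImmersion _).preimage q₂
  have hrange2 : ∀ kw : ι₂, Set.range ((Q kw).ι ≫ p₂ kw) ⊆ Set.range (J kw) := by
    rintro kw _ ⟨y, rfl⟩
    apply hJr kw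
    obtain ⟨x, hxD', hx⟩ := y.2
    refine ⟨x, hxD', hx.trans ?_⟩
    rw [Scheme.Hom.comp_apply, ← Scheme.Hom.comp_apply (p₂ kw) (π₂ kw), hp₂ kw]
    rfl
  let g : ∀ kw : ι₂, (Q kw).toScheme ⟶ pullback (ρ kw.1.1 kw.2.1) (κ₂ kw) :=
    fun kw => IsOpenImmersion.lift (J kw) ((Q kw).ι ≫ p₂ kw) (hrange2 kw)
  have hg : ∀ kw : ι₂, g kw ≫ J kw = (Q kw).ι ≫ p₂ kw := fun kw => IsOpenImmersion.lift_fac _ _ _
  have hcompat : ∀ kw : ι₂,
      (g kw ≫ pullback.fst (ρ kw.1.1 kw.2.1) (κ₂ kw) ≫ r kw.1.1 kw.2.1) ≫ E.f (ix kw.1.1 kw.2.1) =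
        ((Q kw).ι ≫ q₂ ≫ q₁) ≫ j := by
    intro kw
    have h5 := congrArg (· ≫ q₁ ≫ j) (hJc kw)
    simp only [Category.assoc] at h5
    simp only [Category.assoc]
    rw [hr, pullback.condition_assoc]
    show g kw ≫ pullback.snd (ρ kw.1.1 kw.2.1) (κ₂ kw) ≫ (ℓ kw.1 ∣_ V kw) ≫ (V kw).ι ≫
      τ kw.1.1 ≫ (X.basicOpen (a kw.1.1)).ι ≫ j = _
    rw [morphismRestrict_ι_assoc, hℓ' kw.1]
    show g kw ≫ τ₂ kw ≫ (D' kw).ι ≫ (P₁.basicOpen (c₁ kw.1)).ι ≫ q₁ ≫ j = _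
    rw [← h5, ← Category.assoc (g kw), hg kw, Category.assoc, ← Category.assoc (p₂ kw), hp₂ kw]
  -- the covering
  let e : ι₂ ≃ Fin (Nat.card ι₂) := Finite.equivFin ι₂
  let F : PreZeroHypercover.{0} X :=
    { I₀ := Fin (Nat.card ι₂)
      X := fun n => (Q (e.symm n)).toScheme
      f := fun n => (Q (e.symm n)).ι ≫ q₂ ≫ q₁ }
  refine ⟨F, ⟨inferInstance, inferInstanceAs (Finite (Fin (Nat.card ι₂))), fun n => hQaff (e.symm n),
    ⟨P₂, q₂ ≫ q₁, fun n => (Q (e.symm n)).ι, inferInstance, inferInstance,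
      fun n => inferInstanceAs (IsOpenImmersion (Q (e.symm n)).ι), fun n => rfl, ?_⟩⟩, ?_⟩
  · intro y
    obtain ⟨s, hs, hx₀⟩ := Set.mem_iUnion₂.mp (ht₁ (Set.mem_univ (q₁ (q₂ y))))
    have hxΩ : q₂ y ∈ P₁.basicOpen (c₁ ⟨s, hs⟩) := by
      rw [hΩ ⟨s, hs⟩]; exact hx₀
    obtain ⟨w, hw, hz⟩ := ht₂ ⟨s, hs⟩ (ℓ ⟨s, hs⟩ ⟨q₂ y, hxΩ⟩)
    have hyQ : y ∈ Q ⟨⟨s, hs⟩, ⟨w, hw⟩⟩ := ⟨⟨q₂ y, hxΩ⟩, hz, rfl⟩
    refine ⟨e ⟨⟨s, hs⟩, ⟨w, hw⟩⟩, ?_⟩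
    show y ∈ Set.range ((Q (e.symm (e ⟨⟨s, hs⟩, ⟨w, hw⟩⟩))).ι)
    rw [Equiv.symm_apply_apply, Scheme.Opens.range_ι]
    exact hyQ
  · intro n
    exact ⟨ix (e.symm n).1.1 (e.symm n).2.1,
      g (e.symm n) ≫ pullback.fst (ρ (e.symm n).1.1 (e.symm n).2.1) (κ₂ (e.symm n)) ≫
        r (e.symm n).1.1 (e.symm n).2.1, hcompat (e.symm n)⟩

open AlgebraicGeometry CategoryTheory Limits in
/-- An fppf covering {T_i → T} of schemes (flat, locally of finite presentation, jointly surjective) is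
a ph covering. -/
theorem result {T : Scheme.{u}} (E : PreZeroHypercover.{w} T)
    (hflat : ∀ i, Flat (E.f i)) (hfp : ∀ i, LocallyOfFinitePresentation (E.f i))
    (hsurj : ∀ t : T, ∃ (i : E.I₀) (x : E.X i), E.f i x = t) : HTop.IsPhCover E := by
  refine ⟨fun i => by haveI := hfp i; infer_instance, fun U => ?_⟩
  haveI : IsAffine (U : T.Opens).toScheme := U.2
  exact main E hflat hfp hsurj (U : T.Opens).ι

end Groth.Agent.S7190
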