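import Groth.Statements.S10514
import Mathlib
import Groth.Agent.S7190
import Groth.Agent.Lib.Helper5.FppfCover

set_option autoImplicit false
universe u
open CategoryTheory CategoryTheory.Limits AlgebraicGeometry
open AlgSp

namespace Groth.Agent.S10514

/-- An fppf covering of an algebraic space `X` over `S` by algebraic spaces is a ph covering of `X`: its
members are locally of finite type and every morphism from an affine scheme `Z` to `X` admits a
standard ph covering of `Z` whose members lift through members of the family. -/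
theorem result {S : Scheme.{u}} (X : AlgSp.Space S) {ι : Type u}
    (Xi : ι → AlgSp.Space S) (g : ∀ i, Xi i ⟶ X)
    (h : AlgSp.IsFppfCover (fun i => (Xi i).obj) (fun i => (g i).hom)) :
    AlgSp.IsPhCover (fun i => (Xi i).obj) (fun i => (g i).hom) := by
  refine ⟨fun i => ?_, fun Z hZ t => ?_⟩
  · intro U V a b k ha hb comm
    haveI : LocallyOfFinitePresentation k.left := (h.1 i).2 a b k ha hb comm
    infer_instance
  · haveI := hZ
    obtain ⟨E, k, l, hfl, hfp, hs, hl⟩ :=
      Groth.Agent.Lib.Helper5.FppfCover.exists_fppf_lift X.property (fun i => (Xi i).obj)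
        (fun i => (Xi i).property) (fun i => (g i).hom) h Z t
    let Efam : PreZeroHypercover.{u} Z.left :=
      { I₀ := ι
        X := fun i => (E i).left
        f := fun i => (k i).left }
    have hsurj : ∀ z : Z.left, ∃ (i : Efam.I₀) (x : Efam.X i), Efam.f i x = z := by
      intro z
      obtain ⟨i, x, hx⟩ := hs z
      exact ⟨i, x, hx⟩
    obtain ⟨F, hF, href⟩ := Groth.Agent.S7190.main Efam hfl hfp hsurj (𝟙 Z.left)
    refine ⟨F, hF, fun j => ?_⟩
    obtain ⟨i, h', hh'⟩ := href j
    have hh'' : h' ≫ (k i).left = F.f j := hh'.trans (Category.comp_id _)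
    have hw : h' ≫ (E i).hom = (Over.mk (F.f j ≫ Z.hom)).hom := by
      show h' ≫ (E i).hom = F.f j ≫ Z.hom
      rw [← hh'', Category.assoc, Over.w]
    refine ⟨i, (yon S).map (Over.homMk h' hw : Over.mk (F.f j ≫ Z.hom) ⟶ E i) ≫ l i, ?_⟩
    rw [Category.assoc, hl i, ← Category.assoc, ← Functor.map_comp]
    congr 2
    apply Over.OverMorphism.ext
    exact hh''

end Groth.Agent.S10514
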