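import Groth.Statements.S1053
import Mathlib.Algebra.Homology.DerivedCategory.KProjective
import Mathlib.Algebra.Homology.DerivedCategory.Fractions

set_option autoImplicit false
universe w v u
open CategoryTheory CategoryTheory.Limits
open CohDer

namespace Groth.Agent.S1053

open DerivedCategory in
lemma aux_derived {A : Type u} [Category.{v} A] [Abelian A] [HasDerivedCategory.{w} A]
    (P K : CochainComplex A ℤ) (n b : ℤ) [P.IsStrictlyGE n] [P.IsStrictlyLE b] (hP : ∀ i : ℤ, Projective (P.X i))
    (hK : ∀ i : ℤ, n ≤ i → IsZero (K.homology i))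
    (φ : DerivedCategory.Q.obj P ⟶ DerivedCategory.Q.obj K) : φ = 0 := by
  haveI : P.IsKProjective := CochainComplex.isKProjective_of_projective P b
  haveI : K.IsLE (n - 1) := by
    rw [CochainComplex.isLE_iff]
    intro i hi
    rw [HomologicalComplex.exactAt_iff_isZero_homology]
    exact hK i (by lia)
  haveI : IsIso (Q.map (K.ιTruncLE (n - 1))) := by
    rw [isIso_Q_map_iff_quasiIso]
    infer_instance
  -- factor φ through the truncation
  have hφ : φ = (φ ≫ inv (Q.map (K.ιTruncLE (n - 1)))) ≫ Q.map (K.ιTruncLE (n - 1)) := by simp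
  rw [hφ]
  -- lift to homotopy category
  obtain ⟨g, hg⟩ := (CochainComplex.IsKProjective.Qh_map_bijective P
    ((HomotopyCategory.quotient _ _).obj (K.truncLE (n - 1)))).surjective
      ((quotientCompQhIso A).hom.app P ≫ (φ ≫ inv (Q.map (K.ιTruncLE (n - 1)))) ≫
        (quotientCompQhIso A).inv.app (K.truncLE (n - 1)))
  obtain ⟨g, rfl⟩ := (HomotopyCategory.quotient _ _).map_surjective g
  have hg0 : g = 0 := by
    ext i
    by_cases hi : n - 1 < i
    · apply ((K.truncLE (n - 1)).isZero_of_isStrictlyLE (n - 1) i hi).eq_of_tgt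
    · apply (P.isZero_of_isStrictlyGE n i (by lia)).eq_of_src
  subst hg0
  have : φ ≫ inv (Q.map (K.ιTruncLE (n - 1))) = 0 := by
    have h2 : (quotientCompQhIso A).hom.app P ≫ (φ ≫ inv (Q.map (K.ιTruncLE (n - 1)))) ≫
        (quotientCompQhIso A).inv.app (K.truncLE (n - 1)) = 0 := by
      rw [← hg]; simp
    rw [← cancel_epi ((quotientCompQhIso A).hom.app P),
      ← cancel_mono ((quotientCompQhIso A).inv.app (K.truncLE (n - 1)))]
    simpa using h2
  rw [this, zero_comp]

open DerivedCategory in
lemma aux_homotopy {A : Type u} [Category.{v} A] [Abelian A]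
    (P K : CochainComplex A ℤ) (n b : ℤ) [P.IsStrictlyGE n] [P.IsStrictlyLE b] (hP : ∀ i : ℤ, Projective (P.X i))
    (hK : ∀ i : ℤ, n ≤ i → IsZero (K.homology i))
    (φ : (HomotopyCategory.quotient A (ComplexShape.up ℤ)).obj P ⟶ (HomotopyCategory.quotient A (ComplexShape.up ℤ)).obj K) :
    φ = 0 := by
  letI : HasDerivedCategory A := HasDerivedCategory.standard A
  haveI : P.IsKProjective := CochainComplex.isKProjective_of_projective P b
  apply (CochainComplex.IsKProjective.Qh_map_bijective P
    ((HomotopyCategory.quotient _ _).obj K)).injective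
  rw [Functor.map_zero]
  rw [← cancel_epi ((quotientCompQhIso A).inv.app P),
      ← cancel_mono ((quotientCompQhIso A).hom.app K)]
  rw [comp_zero, zero_comp]
  exact aux_derived P K n b hP hK _

/-- Let P and K be cochain complexes in an abelian category with P bounded, consisting of projective
objects and zero in degrees below n, and with Hⁱ(K) = 0 for all i ≥ n. Then every morphism P ⟶ K in
the homotopy category and every morphism P ⟶ K in the derived category is zero. -/
theorem result {A : Type u} [Category.{v} A] [Abelian A] [HasDerivedCategory.{w} A]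
    (P K : CochainComplex A ℤ) (n b : ℤ) [P.IsStrictlyGE n] [P.IsStrictlyLE b] (hP : ∀ i : ℤ, Projective (P.X i))
    (hK : ∀ i : ℤ, n ≤ i → IsZero (K.homology i)) :
    (∀ φ : (HomotopyCategory.quotient A (ComplexShape.up ℤ)).obj P ⟶ (HomotopyCategory.quotient A (ComplexShape.up ℤ)).obj K, φ = 0) ∧
    (∀ φ : DerivedCategory.Q.obj P ⟶ DerivedCategory.Q.obj K, φ = 0) := by
  exact ⟨aux_homotopy P K n b hP hK, aux_derived P K n b hP hK⟩

end Groth.Agent.S1053
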