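import Groth.Statements.S10537
import Groth.Agent.Lib.Helper23.AffDescQA
import Groth.Agent.S1127
import Groth.Agent.Lib.Helper7.QuasiAffine
import Groth.Agent.Lib.Helper17.SchLocalProps

set_option autoImplicit false
universe u
open CategoryTheory CategoryTheory.Limits AlgebraicGeometry
open AlgSp

namespace Groth.Agent.S10537

/-- The property of morphisms of algebraic spaces over S given by f is quasi-affine (every base change
to an affine scheme is a quasi-affine scheme) is fpqc local on the base: for an fpqc covering of an
algebraic space Y by algebraic spaces Y_i, a morphism f : X ⟶ Y of algebraic spaces and cartesian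
squares X_i = Y_i ×_Y X, f has the property if and only if every X_i ⟶ Y_i has it. -/
theorem result (S : Scheme.{u}) :
    AlgSp.IsLocalOnBase (AlgSp.IsFpqcCover (S := S)) AlgSp.IsQuasiAffineMor := by
  intro ι Y Yi g hY hYi hcov X f hX Xi p q hXi hsq
  constructor
  · intro hf i
    exact Groth.Agent.Lib.Helper17.SLP.affMor_of_isPullback
      (fun W _ _ => W.left.IsQuasiAffine) (hsq i) hf
  · intro hp Z hZ gZ
    haveI : (Groth.Agent.Lib.Helper7.QA.QAffHom.{u}).DescendsAlong
        (@Surjective ⊓ @Flat ⊓ @QuasiCompact : MorphismProperty Scheme.{u}) :=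
      Groth.Agent.S1127.result.{u}
    obtain ⟨W, i, fst, sq, hi⟩ :=
      Groth.Agent.Lib.Helper23.AffDesc.exists_isPullback_of_fpqc'
        Groth.Agent.Lib.Helper7.QA.QAffHom
        (fun _ _ f hf => hf) Yi g hY hcov f
        hX Xi p q hsq (fun k Z' hZ' g' => by
          obtain ⟨W', i', fst', sq', hW'⟩ := hp k hZ' g'
          haveI := hZ'
          exact ⟨W', i', fst', sq',
            (HasAffineProperty.iff_of_isAffine (P := Groth.Agent.Lib.Helper7.QA.QAffHom)).2 hW'⟩)
        hZ gZ
    haveI := hZ
    exact ⟨W, i, fst, sq, Groth.Agent.Lib.Helper7.QA.isQuasiAffine_of_QAffHom i.left hi⟩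

end Groth.Agent.S10537
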