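import Groth.Statements.S10548
import Mathlib
import Groth.Agent.Lib.Helper46.LocPSource

set_option autoImplicit false
universe u
open CategoryTheory CategoryTheory.Limits AlgebraicGeometry
open AlgSp

namespace Groth.Agent.S10548

/-- The property of morphisms of algebraic spaces over S given by f is flat (on etale charts) is fpqc
local on the source: for a morphism f : X ⟶ Y of algebraic spaces and a fpqc covering of X by
algebraic spaces X_i, f has the property if and only if every composite X_i ⟶ X ⟶ Y has it. -/
theorem result (S : Scheme.{u}) :
    AlgSp.IsLocalOnSource (AlgSp.IsFpqcCover (S := S)) (AlgSp.LocP @Flat) := by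
  intro ι X Xi g hX hXi hcov Y f hY
  constructor
  · intro hf i
    exact Groth.Agent.Lib.Helper46.LocPChart.locP_comp Groth.Agent.Lib.Helper46.etLocal_flat
      (hXi i) hX hY (g i) f (hcov.1 i) hf
  · intro H
    exact Groth.Agent.Lib.Helper46.LocPSource.locP_flat_of_fpqc_source Xi g hX hXi hcov f hY H

end Groth.Agent.S10548
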