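import Groth.Statements.S10549
import Mathlib
import Groth.Agent.Lib.Helper46.FppfSourceSch
import Groth.Agent.Lib.Helper5.LocPSource

set_option autoImplicit false
universe u
open CategoryTheory CategoryTheory.Limits AlgebraicGeometry
open AlgSp

namespace Groth.Agent.S10549

/-- The property of morphisms of algebraic spaces over S given by f is locally of finite presentation
(on etale charts) is fppf local on the source: for a morphism f : X ⟶ Y of algebraic spaces and a
fppf covering of X by algebraic spaces X_i, f has the property if and only if every composite X_i ⟶
X ⟶ Y has it. -/
theorem result (S : Scheme.{u}) :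
    AlgSp.IsLocalOnSource (AlgSp.IsFppfCover (S := S)) (AlgSp.LocP @LocallyOfFinitePresentation) := by
  haveI := Groth.Agent.Lib.Helper46.FppfSourceSch.isLocalAtSource_fppf_locallyOfFinitePresentation.{u}
  exact Groth.Agent.Lib.Helper5.LocPSource.isLocalOnSource_fppf

end Groth.Agent.S10549
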