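import Groth.Statements.S10554
import Groth.Agent.Lib.Helper30.AlgSpEtaleSource
import Groth.Agent.Lib.Helper23.AlgSpMor4
import Groth.Agent.Lib.Helper12.AlgSpPoints

set_option autoImplicit false
universe u
open CategoryTheory CategoryTheory.Limits AlgebraicGeometry
open AlgSp

namespace Groth.Agent.S10554

/-- The property of morphisms of algebraic spaces over S given by f is etale (composition with every
representable etale map from a scheme is representable etale) is etale local on the source: for a
morphism f : X ⟶ Y of algebraic spaces and a etale covering of X by algebraic spaces X_i, f has the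
property if and only if every composite X_i ⟶ X ⟶ Y has it. -/
theorem result (S : Scheme.{u}) :
    AlgSp.IsLocalOnSource (AlgSp.IsEtCover (S := S)) AlgSp.IsEtaleMor := by
  intro ι X Xi g hX hXi hcov Y f hY
  constructor
  · intro hf i U φ hφ
    have h1 := hcov.1 i φ hφ
    have h2 := hf (φ ≫ g i) h1
    rwa [Category.assoc] at h2
  · intro H U φ hφ
    refine Groth.Agent.Lib.Helper30.AlgSpEtaleSource.repWith_etale_of_family hY (φ ≫ f) fun u => ?_
    -- the point of `X` below `u`
    obtain ⟨i, xi, hxi⟩ := hcov.2 (AlgSp.Points.map φ (AlgSp.Points.schemeHomeo U u))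
    have sqT := IsPullback.of_hasPullback (g i) φ
    have hT : AlgSp.IsAlgSpace (pullback (g i) φ) :=
      Groth.Agent.Lib.Helper23.AlgSpMor.isAlgSpace_of_isPullback (hXi i) (AlgSp.IsAlgSpace.yon_obj U)
        hX.diag sqT
    obtain ⟨E, de, hdee, hdes⟩ := hT.atlas
    obtain ⟨ez, hez⟩ := (AlgSp.yon S).map_surjective (de ≫ pullback.snd (g i) φ)
    have htfst : AlgSp.RepWith @Etale (pullback.fst (g i) φ) :=
      MorphismProperty.pullback_fst (P := AlgSp.RepWith @Etale) _ _ hφ
    have hchart : AlgSp.RepWith @Etale (de ≫ pullback.fst (g i) φ) :=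
      (AlgSp.RepWith @Etale).comp_mem _ _ hdee htfst
    have hcomm : (de ≫ pullback.fst (g i) φ) ≫ g i = (AlgSp.yon S).map ez ≫ φ := by
      rw [Category.assoc, pullback.condition, ← Category.assoc, hez]
    have hezE : Etale ez.left :=
      Groth.Agent.Lib.Helper36.AlgSpCharts.etale_of_comp_eq ((de ≫ pullback.fst (g i) φ) ≫ g i) φ ez
        (hcov.1 i _ hchart) hφ hcomm.symm
    refine ⟨E, ez, hezE, ?_, ?_⟩
    · -- surjectivity at `u`
      obtain ⟨w, hw1, hw2⟩ := Groth.Agent.Lib.Helper12.AlgSpPoints.Points.exists_of_isPullback sqT xi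
        (AlgSp.Points.schemeHomeo U u) hxi
      obtain ⟨y, hy⟩ := Groth.Agent.Lib.Helper23.AlgSpMor.isSurjectiveMor_of_repWith_surjective de hdes w
      refine ⟨(AlgSp.Points.schemeHomeo E).symm y, ?_⟩
      apply (AlgSp.Points.schemeHomeo U).injective
      rw [← AlgSp.Points.map_yon_map_apply, Homeomorph.apply_symm_apply, hez, AlgSp.Points.map_comp,
        hy, hw2]
    · have h3 := H i (de ≫ pullback.fst (g i) φ) hchart
      have e1 : (de ≫ pullback.fst (g i) φ) ≫ g i ≫ f = (AlgSp.yon S).map ez ≫ φ ≫ f := by
        rw [← Category.assoc, hcomm, Category.assoc]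
      rwa [e1] at h3

end Groth.Agent.S10554
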