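import Groth.Statements.S10559
import Mathlib
import Groth.Agent.Lib.Helper46.FppfSourceSp

set_option autoImplicit false
universe u
open CategoryTheory CategoryTheory.Limits AlgebraicGeometry
open AlgSp

namespace Groth.Agent.S10559

/-- Let f : X ⟶ Y and q : Y ⟶ B be morphisms of algebraic spaces over S. If f is surjective and smooth
and f ≫ q is smooth, then q is smooth; if f is surjective and etale and f ≫ q is etale, then q is
etale. (The syntomic case of the published statement is not included.) -/
theorem result {S : Scheme.{u}} {X Y B : AlgSp.Space S} (f : X ⟶ Y) (q : Y ⟶ B)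
    (hs : AlgSp.IsSurjectiveMor f.hom) :
    (AlgSp.LocP @Smooth f.hom → AlgSp.LocP @Smooth (f ≫ q).hom → AlgSp.LocP @Smooth q.hom) ∧
    (AlgSp.IsEtaleMor f.hom → AlgSp.IsEtaleMor (f ≫ q).hom → AlgSp.IsEtaleMor q.hom) := by
  constructor
  · intro hf h
    have hfl : AlgSp.LocP @Flat f.hom := fun U V a b k ha hb w => by
      have : Smooth k.left := hf a b k ha hb w
      infer_instance
    have hfp : AlgSp.LocP @LocallyOfFinitePresentation f.hom := fun U V a b k ha hb w => by
      have : Smooth k.left := hf a b k ha hb w
      infer_instance
    exact Groth.Agent.Lib.Helper46.FppfSourceSp.locP_smooth_of_fppf_comp X.property Y.property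
      f.hom q.hom hs hfl hfp h
  · intro hf h
    have hf' := Groth.Agent.Lib.Helper30.AlgSpEtaleMor.locP_etale_of_isEtaleMor _ hf
    have hfl : AlgSp.LocP @Flat f.hom := fun U V a b k ha hb w => by
      have : Etale k.left := hf' a b k ha hb w
      infer_instance
    have hfp : AlgSp.LocP @LocallyOfFinitePresentation f.hom := fun U V a b k ha hb w => by
      have : Etale k.left := hf' a b k ha hb w
      infer_instance
    exact Groth.Agent.Lib.Helper46.FppfSourceSp.isEtaleMor_of_fppf_comp X.property Y.property
      B.property f.hom q.hom hs hfl hfp h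

end Groth.Agent.S10559
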