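import Groth.Statements.S10568
import Mathlib
import Groth.Agent.Lib.Helper46.STLocal

set_option autoImplicit false
universe u
open CategoryTheory CategoryTheory.Limits AlgebraicGeometry
open AlgSp AlgSp.IsEtaleSmoothLocalST

namespace Groth.Agent.S10568

/-- A property P of morphisms of algebraic spaces over S, local on source-and-target in the etale-smooth
sense, is (1) etale local on the source, (2) smooth local on the base, (3) stable under
postcomposition with etale morphisms: whenever g : Y ⟶ Z is etale and f : X ⟶ Y has P, the composite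
f ≫ g has P, and (4) conversely, if g : Y ⟶ Z is etale and f ≫ g has P then f has P. -/
theorem result {S : Scheme.{u}} {P : MorphismProperty (AlgSp.Sp S)}
    (hP : AlgSp.IsEtaleSmoothLocalST P) :
    AlgSp.IsLocalOnSource (AlgSp.IsEtCover (S := S)) P ∧
    AlgSp.IsLocalOnBase (AlgSp.IsSmCover (S := S)) P ∧
    (∀ ⦃X Y Z : AlgSp.Space S⦄ (f : X ⟶ Y) (g : Y ⟶ Z), P f.hom → AlgSp.IsEtaleMor g.hom → P (f ≫ g).hom) ∧
    (∀ ⦃X Y Z : AlgSp.Space S⦄ (f : X ⟶ Y) (g : Y ⟶ Z), AlgSp.IsEtaleMor g.hom → P (f ≫ g).hom → P f.hom) := by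
  refine ⟨?_, ?_, ?_, ?_⟩
  · -- etale local on the source
    intro ι X Xi g hX hXi hcov Y f hY
    constructor
    · intro hf i
      exact hP.precomp (hXi i) hX hY (g i) f (hcov.1 i) hf
    · intro H
      rw [hP.locality hX hY f]
      intro x
      obtain ⟨i, xi, hxi⟩ := hcov.2 x
      refine ⟨Y, X, Xi i, 𝟙 Y, 𝟙 X, f, g i, xi, hY, hX, hXi i,
        Groth.Agent.Lib.Helper46.STLocal.sm_id Y, ?_, hcov.1 i, ?_, H i⟩
      · exact IsPullback.of_horiz_isIso ⟨by rw [Category.id_comp, Category.comp_id]⟩
      · rw [Category.comp_id]; exact hxi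
  · -- smooth local on the base
    intro ι Y Yi g hY hYi hcov X f hX Xi p q hXi hsq
    constructor
    · intro hf i
      exact hP.baseChange hX hY (hXi i) (hYi i) f (g i) (p i) (q i) (hsq i) (hcov.1 i) hf
    · intro H
      rw [hP.locality hX hY f]
      intro x
      obtain ⟨i, yi, hyi⟩ := hcov.2 (AlgSp.Points.map f x)
      obtain ⟨w, hw1, hw2⟩ :=
        Groth.Agent.Lib.Helper37.AlgSpPoints.points_exists_of_isPullback (hsq i) x yi hyi.symm
      refine ⟨Yi i, Xi i, Xi i, g i, q i, p i, 𝟙 _, w, hYi i, hXi i, hXi i, hcov.1 i, hsq i,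
        Groth.Agent.Lib.Helper46.STLocal.isEtaleMor_id _, ?_, ?_⟩
      · rw [Category.id_comp]; exact hw1
      · rw [Category.id_comp]; exact H i
  · -- postcomposition with etale morphisms
    intro X Y Z f g hf hg
    have hX := X.property
    have hY := Y.property
    have hZ := Z.property
    obtain ⟨hW, he⟩ := Groth.Agent.Lib.Helper46.STLocal.isEtaleMor_graph hX hY hZ f.hom g.hom hg
    rw [hP.locality hX hZ]
    intro x
    refine ⟨Y.obj, pullback (f.hom ≫ g.hom) g.hom, X.obj, g.hom, pullback.fst _ _, pullback.snd _ _,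
      pullback.lift (𝟙 X.obj) f.hom (by rw [Category.id_comp]), x, hY, hW, hX,
      Groth.Agent.Lib.Helper46.STLocal.sm_of_isEtaleMor _ hg, IsPullback.of_hasPullback _ _, he,
      ?_, ?_⟩
    · rw [pullback.lift_fst]; exact AlgSp.Points.map_id x
    · rw [pullback.lift_snd]; exact hf
  · -- cancellation of etale morphisms
    intro X Y Z f g hg hfg
    have hX := X.property
    have hY := Y.property
    have hZ := Z.property
    obtain ⟨hW, he⟩ := Groth.Agent.Lib.Helper46.STLocal.isEtaleMor_graph hX hY hZ f.hom g.hom hg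
    have hsnd : P (pullback.snd (f.hom ≫ g.hom) g.hom) :=
      hP.baseChange hX hZ hW hY (f.hom ≫ g.hom) g.hom (pullback.snd _ _) (pullback.fst _ _)
        (IsPullback.of_hasPullback _ _) (Groth.Agent.Lib.Helper46.STLocal.sm_of_isEtaleMor _ hg) hfg
    have := hP.precomp hX hW hY _ _ he hsnd
    rwa [pullback.lift_snd] at this

end Groth.Agent.S10568
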