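import Groth.Statements.S10569
import Mathlib
import Groth.Agent.Lib.Helper46.STLocal
import Groth.Agent.S10568

set_option autoImplicit false
universe u
open CategoryTheory CategoryTheory.Limits AlgebraicGeometry
open AlgSp AlgSp.IsEtaleSmoothLocalST

namespace Groth.Agent.S10569

/-- For a property P of morphisms of algebraic spaces over S that is etale-smooth local on
source-and-target and a morphism f : X ⟶ Y of algebraic spaces, each of the following is equivalent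
to P f: (c) for some smooth b : V ⟶ Y, cartesian square W = X ×_Y V and etale e : U ⟶ W with U ⟶ W ⟶
X surjective, the composite U ⟶ W ⟶ V has P; (d) for every smooth b : V ⟶ Y, cartesian square W = X
×_Y V and etale e : U ⟶ W, the composite U ⟶ W ⟶ V has P; (e) for some smooth covering of Y by
algebraic spaces Y_i every base change Y_i ×_Y X ⟶ Y_i has P; (f) for some etale covering of X by
algebraic spaces X_i every composite X_i ⟶ Y has P. (Condition (b) of the published list is the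
defining locality condition, and its condition (g) combines (e) and (f); they are not repeated
here.) -/
theorem result {S : Scheme.{u}} {P : MorphismProperty (AlgSp.Sp S)}
    (hP : AlgSp.IsEtaleSmoothLocalST P) {X Y : AlgSp.Space S} (f : X ⟶ Y) :
    (P f.hom ↔ ∃ (U V W : AlgSp.Space S) (b : V ⟶ Y) (p : W ⟶ X) (q : W ⟶ V) (e : U ⟶ W),
      AlgSp.LocP @Smooth b.hom ∧ IsPullback p.hom q.hom f.hom b.hom ∧ AlgSp.IsEtaleMor e.hom ∧
      AlgSp.IsSurjectiveMor (e ≫ p).hom ∧ P (e ≫ q).hom) ∧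
    (P f.hom ↔ ∀ (U V W : AlgSp.Space S) (b : V ⟶ Y) (p : W ⟶ X) (q : W ⟶ V) (e : U ⟶ W),
      AlgSp.LocP @Smooth b.hom → IsPullback p.hom q.hom f.hom b.hom → AlgSp.IsEtaleMor e.hom → P (e ≫ q).hom) ∧
    (P f.hom ↔ ∃ (ι : Type u) (Yi Xi : ι → AlgSp.Space S) (g : ∀ i, Yi i ⟶ Y) (p : ∀ i, Xi i ⟶ Yi i)
      (q : ∀ i, Xi i ⟶ X), AlgSp.IsSmCover (fun i => (Yi i).obj) (fun i => (g i).hom) ∧
      (∀ i, IsPullback (q i).hom (p i).hom f.hom (g i).hom) ∧ ∀ i, P (p i).hom) ∧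
    (P f.hom ↔ ∃ (ι : Type u) (Xi : ι → AlgSp.Space S) (g : ∀ i, Xi i ⟶ X),
      AlgSp.IsEtCover (fun i => (Xi i).obj) (fun i => (g i).hom) ∧ ∀ i, P (g i ≫ f).hom) := by
  have hX := X.property
  have hY := Y.property
  obtain ⟨hsrc, hbase, -, -⟩ := Groth.Agent.S10568.result hP
  have hsq0 : IsPullback (InducedCategory.Hom.hom (𝟙 X)) f.hom f.hom (InducedCategory.Hom.hom (𝟙 Y)) := by
    change IsPullback (𝟙 X.obj) f.hom f.hom (𝟙 Y.obj)
    exact IsPullback.of_horiz_isIso ⟨by rw [Category.id_comp, Category.comp_id]⟩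
  refine ⟨⟨?_, ?_⟩, ⟨?_, ?_⟩, ⟨?_, ?_⟩, ⟨?_, ?_⟩⟩
  · -- (c) ⇒
    intro hf
    refine ⟨X, Y, X, 𝟙 Y, 𝟙 X, f, 𝟙 X, Groth.Agent.Lib.Helper46.STLocal.sm_id _, hsq0,
      Groth.Agent.Lib.Helper46.STLocal.isEtaleMor_id _, ?_, ?_⟩
    · rw [Category.id_comp]
      exact fun x => ⟨x, AlgSp.Points.map_id x⟩
    · rw [Category.id_comp]; exact hf
  · -- (c) ⇐
    rintro ⟨U, V, W, b, p, q, e, hb, sq, he, hs, hPh⟩
    rw [hP.locality hX hY]
    intro x
    obtain ⟨v, hv⟩ := hs x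
    exact ⟨V.obj, W.obj, U.obj, b.hom, p.hom, q.hom, e.hom, v, V.property, W.property,
      U.property, hb, sq, he, hv, hPh⟩
  · -- (d) ⇒
    intro hf U V W b p q e hb sq he
    have hq : P q.hom :=
      hP.baseChange hX hY W.property V.property f.hom b.hom q.hom p.hom sq hb hf
    exact hP.precomp U.property W.property V.property e.hom q.hom he hq
  · -- (d) ⇐
    intro H
    have := H X Y X (𝟙 Y) (𝟙 X) f (𝟙 X) (Groth.Agent.Lib.Helper46.STLocal.sm_id _) hsq0
      (Groth.Agent.Lib.Helper46.STLocal.isEtaleMor_id _)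
    rwa [Category.id_comp] at this
  · -- (e) ⇒
    intro hf
    exact ⟨PUnit.{u + 1}, fun _ => Y, fun _ => X, fun _ => 𝟙 Y, fun _ => f, fun _ => 𝟙 X,
      ⟨fun _ => Groth.Agent.Lib.Helper46.STLocal.sm_id _, fun x => ⟨⟨⟩, x, AlgSp.Points.map_id x⟩⟩,
      fun _ => hsq0, fun _ => hf⟩
  · -- (e) ⇐
    rintro ⟨ι, Yi, Xi, g, p, q, hcov, hsq, hPp⟩
    exact (hbase (fun i => (Yi i).obj) (fun i => (g i).hom) hY (fun i => (Yi i).property) hcov
      f.hom hX (fun i => (Xi i).obj) (fun i => (p i).hom) (fun i => (q i).hom)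
      (fun i => (Xi i).property) hsq).mpr hPp
  · -- (f) ⇒
    intro hf
    refine ⟨PUnit.{u + 1}, fun _ => X, fun _ => 𝟙 X,
      ⟨fun _ => Groth.Agent.Lib.Helper46.STLocal.isEtaleMor_id _,
        fun x => ⟨⟨⟩, x, AlgSp.Points.map_id x⟩⟩, fun _ => ?_⟩
    rw [Category.id_comp]
    exact hf
  · -- (f) ⇐
    rintro ⟨ι, Xi, g, hcov, hPg⟩
    exact (hsrc (fun i => (Xi i).obj) (fun i => (g i).hom) hX (fun i => (Xi i).property) hcov
      f.hom hY).mpr hPg

end Groth.Agent.S10569
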