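import Groth.Statements.S10571
import Mathlib
import Groth.Agent.Lib.Helper5.AlgSpCoprod2
import Groth.Agent.Lib.Helper23.AlgSpMor4

set_option autoImplicit false
universe u
open CategoryTheory CategoryTheory.Limits AlgebraicGeometry
open AlgSp

namespace Groth.Agent.S10571

/-- Suppose a property P of morphisms between algebraic spaces over S satisfies: (1) if finitely many
morphisms X_i ⟶ Y_i have P then so does the induced morphism ∐ X_i ⟶ ∐ Y_i, (2) f : X ⟶ Y has P
exactly when, for each affine scheme Z and each h_Z ⟶ Y, the base change h_Z ×_Y X ⟶ h_Z has P, and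
(3) for every surjective flat morphism of affine schemes Z' ⟶ Z over S and every f : X ⟶ h_Z, if the
base change h_{Z'} ×_{h_Z} X ⟶ h_{Z'} has P then f has P. Under these hypotheses, P is local on the
base for the fpqc topology. (The published statement asks (1) only for two morphisms; its proof
applies (1) to a disjoint union indexed by a finite set that may be empty, and with (1) for two
morphisms only the property that holds for no morphism satisfies all three hypotheses without being
fpqc local on the base, as the empty covering of the empty algebraic space shows. This row asks (1)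
for all finite families, the empty one included.) -/
theorem result {S : Scheme.{u}} (P : MorphismProperty (AlgSp.Sp S))
    (h1 : ∀ ⦃ι : Type u⦄ [Finite ι] (Xi Yi : ι → AlgSp.Sp S) (fi : ∀ i, Xi i ⟶ Yi i)
      (cX : Cofan Xi) (cY : Cofan Yi) (hcX : IsColimit cX) (hcY : IsColimit cY) (m : cX.pt ⟶ cY.pt),
      (∀ i, AlgSp.IsAlgSpace (Xi i)) → (∀ i, AlgSp.IsAlgSpace (Yi i)) →
      AlgSp.IsAlgSpace cX.pt → AlgSp.IsAlgSpace cY.pt →
      (∀ i, cX.inj i ≫ m = fi i ≫ cY.inj i) → (∀ i, P (fi i)) → P m)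
    (h2 : ∀ ⦃X Y : AlgSp.Sp S⦄, AlgSp.IsAlgSpace X → AlgSp.IsAlgSpace Y → ∀ (f : X ⟶ Y),
      P f ↔ ∀ (Z : Over S), IsAffine Z.left → ∀ (g : (AlgSp.yon S).obj Z ⟶ Y) (W : AlgSp.Sp S)
        (fst : W ⟶ X) (snd : W ⟶ (AlgSp.yon S).obj Z), AlgSp.IsAlgSpace W → IsPullback fst snd f g → P snd)
    (h3 : ∀ ⦃Z Z' : Over S⦄ (c : Z' ⟶ Z), IsAffine Z.left → IsAffine Z'.left → Surjective c.left → Flat c.left →
      ∀ ⦃X X' : AlgSp.Sp S⦄ (f : X ⟶ (AlgSp.yon S).obj Z) (fst : X' ⟶ X) (f' : X' ⟶ (AlgSp.yon S).obj Z'),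
        AlgSp.IsAlgSpace X → AlgSp.IsAlgSpace X' → IsPullback fst f' f ((AlgSp.yon S).map c) → P f' → P f) :
    AlgSp.IsLocalOnBase (AlgSp.IsFpqcCover (S := S)) P := by
  classical
  intro ι Y Yi g hY hYi hcov X f hX Xi p q hXi hsq
  obtain ⟨_, hstd⟩ := hcov
  constructor
  · intro hPf i
    refine (h2 (hXi i) (hYi i) (p i)).mpr ?_
    intro Z hZ gz W fst snd hW sq
    exact (h2 hX hY f).mp hPf Z hZ (gz ≫ g i) W (fst ≫ q i) snd hW (sq.paste_horiz (hsq i))
  · intro hP
    refine (h2 hX hY f).mpr ?_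
    intro Z hZ gz W fst snd hW sq
    obtain ⟨m, Wj, c, hWaff, hcflat, hcsurj, hlift⟩ := hstd Z hZ gz
    choose ij l hl using hlift
    let κ : Type u := ULift.{u} (Fin m)
    let Wk : κ → Over S := fun k => Wj k.down
    have hWkaff : ∀ k, IsAffine (Wk k).left := fun k => hWaff k.down
    let Z' : Over S := Groth.Agent.Lib.Helper5.sigmaOver Wk
    let σ : ∀ k, Wk k ⟶ Z' := Groth.Agent.Lib.Helper5.sigmaOverι Wk
    let cc : Z' ⟶ Z := Over.homMk (Sigma.desc fun k => (c k.down).left) (by
      apply Sigma.hom_ext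
      intro k
      simp [Z', Groth.Agent.Lib.Helper5.sigmaOver]
      rfl)
    have hσcc : ∀ k, σ k ≫ cc = c k.down := by
      intro k
      ext1
      exact Sigma.ι_desc (fun k : κ => (c k.down).left) k
    have hZ' : IsAffine Z'.left := by
      change IsAffine (∐ fun k => (Wk k).left)
      infer_instance
    have hccflat : Flat cc.left := by
      change Flat (Sigma.desc fun k : κ => (c k.down).left)
      have : ∀ k : κ, Flat (c k.down).left := fun k => hcflat k.down
      infer_instance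
    have hccsurj : Surjective cc.left := by
      change Surjective (Sigma.desc fun k : κ => (c k.down).left)
      apply Surjective.sigmaDesc_of_union_range_eq_univ
      rw [Set.eq_univ_iff_forall]
      intro z
      obtain ⟨j, hj⟩ := hcsurj z
      exact Set.mem_iUnion.mpr ⟨⟨j⟩, hj⟩
    -- the base change to Z'
    let X' : AlgSp.Sp S := pullback snd ((AlgSp.yon S).map cc)
    let f' : X' ⟶ (AlgSp.yon S).obj Z' := pullback.snd _ _
    let e' : X' ⟶ W := pullback.fst _ _
    have sq' : IsPullback e' f' snd ((AlgSp.yon S).map cc) := IsPullback.of_hasPullback _ _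
    have hX' : AlgSp.IsAlgSpace X' :=
      Groth.Agent.Lib.Helper23.AlgSpMor.isAlgSpace_of_isPullback hW (AlgSp.IsAlgSpace.yon_obj Z')
        (AlgSp.IsAlgSpace.yon_obj Z).diag sq'
    refine h3 cc hZ hZ' hccsurj hccflat snd e' f' hW hX' sq' ?_
    -- decompose along the coproduct
    let cY : Cofan (fun k => (AlgSp.yon S).obj (Wk k)) :=
      Cofan.mk ((AlgSp.yon S).obj Z') fun k => (AlgSp.yon S).map (σ k)
    have hcY : IsColimit cY := Groth.Agent.Lib.Helper5.isColimitYonSigmaOver Wk
    let Xk : κ → AlgSp.Sp S := fun k => pullback f' ((AlgSp.yon S).map (σ k))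
    let fk : ∀ k, Xk k ⟶ (AlgSp.yon S).obj (Wk k) := fun k => pullback.snd _ _
    let ek : ∀ k, Xk k ⟶ X' := fun k => pullback.fst _ _
    have sqk : ∀ k, IsPullback (ek k) (fk k) f' ((AlgSp.yon S).map (σ k)) :=
      fun k => IsPullback.of_hasPullback _ _
    let cX : Cofan Xk := Cofan.mk X' ek
    have hcX : Nonempty (IsColimit cX) :=
      (Groth.Agent.Lib.Helper5.cofan_sheaf_vanKampen (AlgSp.J S) cY hcY cX fk f'
        (fun k => (sqk k).w.symm)).mpr sqk
    obtain ⟨hcX⟩ := hcX
    have hXk : ∀ k, AlgSp.IsAlgSpace (Xk k) := fun k =>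
      Groth.Agent.Lib.Helper23.AlgSpMor.isAlgSpace_of_isPullback hX' (AlgSp.IsAlgSpace.yon_obj (Wk k))
        (AlgSp.IsAlgSpace.yon_obj Z').diag (sqk k)
    refine h1 Xk (fun k => (AlgSp.yon S).obj (Wk k)) fk cX cY hcX hcY f' hXk
      (fun k => AlgSp.IsAlgSpace.yon_obj (Wk k)) hX' (AlgSp.IsAlgSpace.yon_obj Z')
      (fun k => (sqk k).w) ?_
    intro k
    -- `fk k` is a base change of `p (ij k.down)` along `l k.down`
    have big : IsPullback (ek k ≫ e' ≫ fst) (fk k) f
        ((AlgSp.yon S).map (σ k) ≫ (AlgSp.yon S).map cc ≫ gz) :=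
      (sqk k).paste_horiz (sq'.paste_horiz sq)
    have hbot : (AlgSp.yon S).map (σ k) ≫ (AlgSp.yon S).map cc ≫ gz = l k.down ≫ g (ij k.down) := by
      rw [hl k.down, ← Category.assoc, ← Functor.map_comp, hσcc k]
    rw [hbot] at big
    let t : Xk k ⟶ Xi (ij k.down) :=
      (hsq (ij k.down)).lift (ek k ≫ e' ≫ fst) (fk k ≫ l k.down) (by
        rw [Category.assoc]; exact big.w)
    have ht1 : t ≫ q (ij k.down) = ek k ≫ e' ≫ fst := (hsq (ij k.down)).lift_fst _ _ _
    have ht2 : t ≫ p (ij k.down) = fk k ≫ l k.down := (hsq (ij k.down)).lift_snd _ _ _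
    rw [← ht1] at big
    have small : IsPullback t (fk k) (p (ij k.down)) (l k.down) :=
      IsPullback.of_right big ht2 (hsq (ij k.down))
    exact (h2 (hXi (ij k.down)) (hYi (ij k.down)) (p (ij k.down))).mp (hP (ij k.down))
      (Wk k) (hWkaff k) (l k.down) (Xk k) t (fk k) (hXk k) small

end Groth.Agent.S10571
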