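import Groth.Statements.S10573
import Mathlib
import Groth.Agent.Lib.Helper46.FpqcTop

set_option autoImplicit false
universe u
open CategoryTheory CategoryTheory.Limits AlgebraicGeometry
open AlgSp

namespace Groth.Agent.S10573

/-- Let {g_i : T_i ⟶ T} be a family of algebraic spaces over S forming an fpqc covering, and let W_i ⊂
|T_i| be open subsets (open subspaces) such that for all i, j the two projections T_i ×_T T_j ⟶ T_i,
T_j pull W_i and W_j back to the same subset of |T_i ×_T T_j|. Then there is a unique open subset W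
⊂ |T| with g_i⁻¹(W) = W_i for every i. -/
theorem result {S : Scheme.{u}} {ι : Type u} {T : AlgSp.Space S}
    (Ti : ι → AlgSp.Space S) (g : ∀ i, Ti i ⟶ T)
    (hg : AlgSp.IsFpqcCover (fun i => (Ti i).obj) (fun i => (g i).hom))
    (Wi : ∀ i, Set (AlgSp.Points (Ti i).obj)) (hW : ∀ i, IsOpen (Wi i))
    (hc : ∀ i j, AlgSp.Points.map (pullback.fst (g i).hom (g j).hom) ⁻¹' Wi i =
      AlgSp.Points.map (pullback.snd (g i).hom (g j).hom) ⁻¹' Wi j) :
    ∃! W : TopologicalSpace.Opens (AlgSp.Points T.obj), ∀ i, AlgSp.Points.map (g i).hom ⁻¹' (W : Set (AlgSp.Points T.obj)) = Wi i := by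
  classical
  obtain ⟨K, Tk, t, -, hsub, hlift⟩ :=
    Groth.Agent.Lib.Helper46.FpqcTop.exists_family (fun i => (Ti i).obj) (fun i => (g i).hom) hg
      T.property (𝟙 T.obj)
  choose ik l hl using hlift
  -- joint surjectivity
  have hsurj : ∀ z : AlgSp.Points T.obj, ∃ i, z ∈ Set.range (AlgSp.Points.map (g i).hom) := by
    intro z
    obtain ⟨k, w, hw⟩ := hsub.1 z
    refine ⟨ik k, AlgSp.Points.ofPt (l k) w, ?_⟩
    rw [AlgSp.Points.map_ofPt, hl k, Category.comp_id, hw]
  set W : Set (AlgSp.Points T.obj) := ⋃ i, AlgSp.Points.map (g i).hom '' Wi i with hWdef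
  have hpre : ∀ i, AlgSp.Points.map (g i).hom ⁻¹' W = Wi i := by
    intro i
    ext x
    constructor
    · intro hx
      obtain ⟨j, y, hy, hxy⟩ := Set.mem_iUnion.1 hx
      obtain ⟨p, hp1, hp2⟩ :=
        Groth.Agent.Lib.Helper37.AlgSpPoints.points_exists_of_isPullback
          (IsPullback.of_hasPullback (g i).hom (g j).hom) x y hxy.symm
      have : p ∈ AlgSp.Points.map (pullback.snd (g i).hom (g j).hom) ⁻¹' Wi j := by
        rw [Set.mem_preimage, hp2]; exact hy
      rw [← hc i j, Set.mem_preimage, hp1] at this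
      exact this
    · intro hx
      exact Set.mem_iUnion.2 ⟨i, x, hx, rfl⟩
  have hopen : IsOpen W := by
    apply hsub.2
    intro k
    have : AlgSp.Points.ofPt (t k) ⁻¹' W = AlgSp.Points.ofPt (l k) ⁻¹' Wi (ik k) := by
      ext w
      rw [Set.mem_preimage, Set.mem_preimage, ← hpre (ik k), Set.mem_preimage,
        AlgSp.Points.map_ofPt, hl k, Category.comp_id]
    rw [this]
    exact (hW _).preimage (AlgSp.Points.continuous_ofPt _)
  refine ⟨⟨W, hopen⟩, hpre, ?_⟩
  intro W' hW'
  ext z
  obtain ⟨i, x, rfl⟩ := hsurj z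
  change AlgSp.Points.map (g i).hom x ∈ (W' : Set _) ↔ AlgSp.Points.map (g i).hom x ∈ W
  rw [← Set.mem_preimage, hW' i, ← Set.mem_preimage (s := W), hpre i]

end Groth.Agent.S10573
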