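import Groth.Statements.S10579
-- import your own Groth.Agent.* helpers here
import Groth.Agent.S9782
import Groth.Agent.Lib.Helper36.AlgSpChartDiag

set_option autoImplicit false
universe u
open CategoryTheory CategoryTheory.Limits AlgebraicGeometry
open AlgSp

namespace Groth.Agent.S10579

open Groth.Agent.Lib.Helper36.AlgSpCharts Groth.Agent.Lib.Helper37.AlgSpPoints
  Groth.Agent.Lib.Helper36.AlgSpChartDiag

/-- Generizations lift along a morphism which is flat at a point. -/
theorem exists_generization_of_flat_stalkMap {W V : Scheme.{u}} (h : W ⟶ V) (w : W)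
    (hfl : (h.stalkMap w).hom.Flat) (ξ : V) (hξ : ξ ⤳ h w) : ∃ η : W, η ⤳ w ∧ h η = ξ := by
  have hξ' : ξ ∈ Set.range (V.fromSpecStalk (h w)) := by
    rw [Scheme.range_fromSpecStalk]; exact hξ
  obtain ⟨p, rfl⟩ := hξ'
  algebraize [(h.stalkMap w).hom]
  have : Module.FaithfullyFlat (V.presheaf.stalk (h w)) (W.presheaf.stalk w) :=
    @Module.FaithfullyFlat.of_flat_of_isLocalHom _ _ _ _ _ _ _ hfl (h.toLRSHom.prop w)
  obtain ⟨q, hq⟩ := PrimeSpectrum.comap_surjective_of_faithfullyFlat
    (A := V.presheaf.stalk (h w)) (B := W.presheaf.stalk w) p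
  refine ⟨W.fromSpecStalk w q, ?_, ?_⟩
  · have : W.fromSpecStalk w q ∈ Set.range (W.fromSpecStalk w) := ⟨q, rfl⟩
    rw [Scheme.range_fromSpecStalk] at this
    exact this
  · have e := Scheme.SpecMap_stalkMap_fromSpecStalk h (x := w)
    have e' := congrArg (fun φ => φ q) e
    simp only [Scheme.Hom.comp_apply] at e'
    rw [← e']
    congr 1

/-- The topological core: if `h` is flat at `w` and `w` lies on exactly one irreducible
component of `W`, then `h w` lies on exactly one irreducible component of `V`. -/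
theorem encard_irreducibleComponents_eq_one {W V : Scheme.{u}} (h : W ⟶ V) (w : W)
    (hfl : (h.stalkMap w).hom.Flat)
    (hw : {Z : Set ↑W | Z ∈ irreducibleComponents ↑W ∧ w ∈ Z}.encard = 1) :
    {Z : Set ↑V | Z ∈ irreducibleComponents ↑V ∧ h w ∈ Z}.encard = 1 := by
  rw [Set.encard_eq_one] at hw ⊢
  obtain ⟨W₀, hW₀⟩ := hw
  have hW₀mem : W₀ ∈ irreducibleComponents ↑W ∧ w ∈ W₀ := by
    have : W₀ ∈ ({W₀} : Set (Set ↑W)) := rfl
    rw [← hW₀] at this; exact this
  have huniq : ∀ Z, Z ∈ irreducibleComponents ↑W → w ∈ Z → Z = W₀ := by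
    intro Z hZ hwZ
    have : Z ∈ {Z : Set ↑W | Z ∈ irreducibleComponents ↑W ∧ w ∈ Z} := ⟨hZ, hwZ⟩
    rw [hW₀] at this; exact this
  -- generic point of W₀
  have hW₀cl : IsClosed W₀ := isClosed_of_mem_irreducibleComponents W₀ hW₀mem.1
  have hW₀irr : IsIrreducible W₀ := hW₀mem.1.1
  obtain ⟨ω, hω⟩ := QuasiSober.sober hW₀irr hW₀cl
  -- key: every irreducible component of V through h w is the closure of h ω
  have key : ∀ Z, Z ∈ irreducibleComponents ↑V → h w ∈ Z → Z = closure {h ω} := by
    intro Z hZ hhw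
    have hZcl : IsClosed Z := isClosed_of_mem_irreducibleComponents Z hZ
    obtain ⟨ξ, hξ⟩ := QuasiSober.sober hZ.1 hZcl
    have hξw : ξ ⤳ h w := by
      rw [specializes_iff_mem_closure, hξ.def]; exact hhw
    obtain ⟨η, hηw, hηξ⟩ := exists_generization_of_flat_stalkMap h w hfl ξ hξw
    -- η lies on the irreducible component W₀
    have hηW₀ : η ∈ W₀ := by
      have h1 : irreducibleComponent η ∈ irreducibleComponents ↑W :=
        irreducibleComponent_mem_irreducibleComponents η
      have h2 : w ∈ irreducibleComponent η :=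
        (isClosed_irreducibleComponent).closure_subset_iff.2
          (Set.singleton_subset_iff.2 mem_irreducibleComponent) (hηw.mem_closure)
      rw [← huniq _ h1 h2]
      exact mem_irreducibleComponent
    have hωη : ω ⤳ η := by
      rw [specializes_iff_mem_closure, hω.def]; exact hηW₀
    have hωξ : h ω ⤳ ξ := hηξ ▸ hωη.map h.continuous
    -- closure {h ω} ⊇ closure {ξ} = Z, and closure {h ω} is irreducible
    have hsub : Z ⊆ closure {h ω} := by
      rw [← hξ.def]
      exact (isClosed_closure).closure_subset_iff.2 (Set.singleton_subset_iff.2 hωξ.mem_closure)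
    have hirr : IsIrreducible (closure ({h ω} : Set ↑V)) := isIrreducible_singleton.closure
    exact (hZ.2 hirr hsub).antisymm hsub |>.symm ▸ rfl
  refine ⟨closure {h ω}, ?_⟩
  ext Z
  constructor
  · rintro ⟨hZ, hhw⟩
    exact key Z hZ hhw
  · rintro rfl
    have h1 := irreducibleComponent_mem_irreducibleComponents (h w)
    have h2 : h w ∈ irreducibleComponent (h w) := mem_irreducibleComponent
    have := key _ h1 h2
    rw [← this]
    exact ⟨h1, h2⟩

/-- Let f : X ⟶ Y be a morphism of algebraic spaces over S and x ∈ |X|. If X is geometrically unibranch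
at x and f is flat at x, then Y is geometrically unibranch at the image point f(x). Here an
algebraic space is geometrically unibranch at a point when for every etale chart from a scheme U and
every point u of U over it the local ring of U at u is geometrically unibranch. -/
theorem result {S : Scheme.{u}} {X Y : AlgSp.Space S} (f : X ⟶ Y) (x : AlgSp.Points X.obj)
    (hf : AlgSp.IsFlatAtMor f.hom x)
    (hX : ∀ (U : Over S) (a : (AlgSp.yon S).obj U ⟶ X.obj) (v : ↥U.left), AlgSp.RepWith @Etale a →
      AlgSp.Points.ofPt a v = x → CAlg2.IsGeomUnibranch ↥(U.left.presheaf.stalk v))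
    (V : Over S) (b : (AlgSp.yon S).obj V ⟶ Y.obj) (w : ↥V.left) (hb : AlgSp.RepWith @Etale b)
    (hw : AlgSp.Points.ofPt b w = AlgSp.Points.map f.hom x) :
    CAlg2.IsGeomUnibranch ↥(V.left.presheaf.stalk w) := by
  rw [Groth.Agent.S9782.result]
  intro V' g v' hg hgv
  let V'o : Over S := Over.mk (g ≫ V.hom)
  let go : V'o ⟶ V := Over.homMk g rfl
  have hgo : Etale go.left := hg
  have hb' : RepWith @Etale ((yon S).map go ≫ b) := repWith_yon_map_comp go hgo b hb
  have hv' : Points.ofPt ((yon S).map go ≫ b) v' = Points.map f.hom x := by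
    rw [ofPt_map_comp]
    show Points.ofPt b (g v') = _
    rw [hgv, hw]
  obtain ⟨U, p, hpe, hps⟩ := X.property.atlas
  obtain ⟨u₀, hu₀⟩ := ofPt_surjective p hps x
  obtain ⟨W, p1, h, h1, -, sq⟩ :=
    exists_chart_diagram_of_charts f.hom p ((yon S).map go ≫ b) hb'
  have hpt : Points.ofPt (p ≫ f.hom) u₀ = Points.ofPt ((yon S).map go ≫ b) v' := by
    rw [← Points.map_ofPt, hu₀, hv']
  obtain ⟨r, hr1, hr2⟩ := (ofPt_eq_ofPt_iff sq u₀ v').1 hpt
  have hae : RepWith @Etale ((yon S).map p1 ≫ p) := repWith_yon_map_comp p1 h1 p hpe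
  have hax : Points.ofPt ((yon S).map p1 ≫ p) r = x := by rw [ofPt_map_comp, hr1, hu₀]
  have weq : ((yon S).map p1 ≫ p) ≫ f.hom = (yon S).map h ≫ ((yon S).map go ≫ b) := by
    rw [Category.assoc]; exact sq.w
  have hfl := hf ((yon S).map p1 ≫ p) ((yon S).map go ≫ b) h r hae hb' weq hax
  have hgu := hX W ((yon S).map p1 ≫ p) r hae hax
  have h1' := (Groth.Agent.S9782.result W.left r).1 hgu W.left (𝟙 _) r inferInstance rfl
  have := encard_irreducibleComponents_eq_one h.left r hfl h1'
  rw [hr2] at this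
  exact this

end Groth.Agent.S10579
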