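import Groth.Statements.S10583
-- import your own Groth.Agent.* helpers here
import Groth.Agent.Lib.Helper36.Thickening
import Groth.Agent.Lib.Helper36.OpenImmIso

set_option autoImplicit false
universe u
open CategoryTheory CategoryTheory.Limits AlgebraicGeometry
open AlgSp

namespace Groth.Agent.S10583

open Groth.Agent.Lib.Helper36.Thickening Groth.Agent.Lib.Helper36.OpenSubspace
open Groth.Agent.Lib.Helper37.AlgSpPoints Groth.Agent.Lib.Helper5.LargestOpenSp

/-- Let i : X ⟶ X' be a thickening of algebraic spaces (representable, every base change to a scheme a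
surjective closed immersion) and let u : U ⟶ X be an open immersion. Then there is an open immersion
u' : U' ⟶ X' with U = X ×_{X'} U' (a pullback square), and any two open subspaces of X' with this
property are isomorphic over X'. -/
theorem result {S : Scheme.{u}} {X X' U : AlgSp.Space S} (i : X ⟶ X')
    (hi : AlgSp.IsThickMor i.hom)
    (u : U ⟶ X) (hu : AlgSp.RepWith @IsOpenImmersion u.hom) :
    (∃ (U' : AlgSp.Space S) (u' : U' ⟶ X') (k : U ⟶ U'),
      AlgSp.RepWith @IsOpenImmersion u'.hom ∧ IsPullback u.hom k.hom i.hom u'.hom) ∧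
    (∀ (U₁ U₂ : AlgSp.Space S) (u₁ : U₁ ⟶ X') (u₂ : U₂ ⟶ X') (k₁ : U ⟶ U₁) (k₂ : U ⟶ U₂),
      AlgSp.RepWith @IsOpenImmersion u₁.hom → IsPullback u.hom k₁.hom i.hom u₁.hom →
      AlgSp.RepWith @IsOpenImmersion u₂.hom → IsPullback u.hom k₂.hom i.hom u₂.hom →
      ∃ e : U₁ ≅ U₂, e.hom ≫ u₂ = u₁) := by
  have hhomeo := isHomeomorph_points_of_isThickMor X'.property i.hom hi
  have hinj : Function.Injective (Points.map i.hom) := hhomeo.injective
  have hsurj := hhomeo.surjective
  have key : ∀ (U₁ : Sp S) (u₁ : U₁ ⟶ X'.obj) (k₁ : U.obj ⟶ U₁), IsPullback u.hom k₁ i.hom u₁ →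
      Set.range (Points.map u₁) = Points.map i.hom '' Set.range (Points.map u.hom) := by
    intro U₁ u₁ k₁ sq
    ext y
    constructor
    · rintro ⟨z, rfl⟩
      obtain ⟨x, hx⟩ := hsurj (Points.map u₁ z)
      obtain ⟨r, hr1, hr2⟩ := points_exists_of_isPullback sq x z hx
      exact ⟨x, ⟨r, hr1⟩, hx⟩
    · rintro ⟨_, ⟨r, rfl⟩, rfl⟩
      exact ⟨Points.map k₁ r, by rw [← Points.map_comp, ← sq.w, Points.map_comp]⟩
  constructor
  · set W := Points.map i.hom '' Set.range (Points.map u.hom) with hW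
    have hop : IsOpenMap (Points.map u.hom) :=
      qClass_isEtaleMor.isOpenMap U.property X.property u.hom (isEtaleMor_of_openImm u.hom hu)
    have hWo : IsOpen W := hhomeo.isOpenMap _ hop.isOpen_range
    obtain ⟨k, hk⟩ := exists_lift_openSub_of_range (u.hom ≫ i.hom) W (by
      rintro _ ⟨r, rfl⟩
      exact ⟨_, ⟨r, rfl⟩, (Points.map_comp _ _ _).symm⟩)
    refine ⟨⟨openSub X'.obj W, isAlgSpace_openSub _ X'.property W hWo⟩,
      ObjectProperty.homMk (openSubι _ W), ObjectProperty.homMk k,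
      repWith_isOpenImmersion_openSubι _ W hWo, ?_⟩
    apply isPullback_of_openImm hu hk.symm
    intro x hx
    rw [range_map_openSubι] at hx
    obtain ⟨x', hx', e⟩ := hx
    exact hinj e ▸ hx'
  · intro U₁ U₂ u₁ u₂ k₁ k₂ h₁ sq₁ h₂ sq₂
    obtain ⟨e, he⟩ := exists_iso_of_range_eq u₁.hom u₂.hom h₁ h₂
      (by rw [key _ _ _ sq₁, key _ _ _ sq₂])
    refine ⟨⟨ObjectProperty.homMk e.hom, ObjectProperty.homMk e.inv, ?_, ?_⟩, ?_⟩
    · exact ObjectProperty.hom_ext _ e.hom_inv_id
    · exact ObjectProperty.hom_ext _ e.inv_hom_id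
    · exact ObjectProperty.hom_ext _ he

end Groth.Agent.S10583
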