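import Groth.Statements.S1059
import Groth.Agent.Lib.Helper2.FibreBetti
import Groth.Agent.Lib.Helper2.LpullRes

set_option autoImplicit false
universe u
open CategoryTheory CategoryTheory.Limits AlgebraicGeometry Opposite
attribute [local instance] HasDerivedCategory.standard
open Perf

namespace Groth.Agent.S1059

open Groth.Agent.Lib.Helper2.Lpull Groth.Agent.Lib.Helper2.FibreBetti

theorem exists_open_le_finset {Z : Scheme.{u}} {ι : Type*} (s : Finset ι) (U : ι → Z.Opens) (z : Z)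
    (h : ∀ i ∈ s, z ∈ U i) : ∃ W : Z.Opens, z ∈ W ∧ ∀ i ∈ s, W ≤ U i := by
  classical
  induction s using Finset.induction_on with
  | empty => exact ⟨⊤, trivial, fun i hi => absurd hi (Finset.notMem_empty i)⟩
  | insert j s hj ih =>
    obtain ⟨W, hW, hW'⟩ := ih (fun i hi => h i (Finset.mem_insert_of_mem hi))
    refine ⟨W ⊓ U j, ⟨hW, h j (Finset.mem_insert_self j s)⟩, fun i hi => ?_⟩
    rcases Finset.mem_insert.1 hi with rfl | hi
    · exact inf_le_right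
    · exact inf_le_left.trans (hW' i hi)


/-- Let E be a perfect object of D(O_X). Assuming the derived pullbacks to the points Spec κ(x) ⟶ X
exist, the function x ↦ χ_E(x) = Σᵢ (-1)ⁱ dim_{κ(x)} Hⁱ(E ⊗^L κ(x)) is locally constant on X. -/
theorem result (X : Scheme.{u}) [∀ x : X, DCoh.HasLpull (X.fromSpecResidueField x)]
    (E : DCoh.D X) (hE : DCoh.IsPerfect E) :
    IsLocallyConstant (fun x : X => PerfD.eulerChar E x) := by
  rw [IsLocallyConstant.iff_exists_open]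
  intro x
  obtain ⟨F, hF, ⟨e⟩⟩ := exists_kflat_rep E
  obtain ⟨V, hxV, hV⟩ := hE x
  obtain ⟨P, hP, ⟨eP⟩⟩ := hV F ⟨e⟩
  obtain ⟨⟨a, b, hab⟩, hfl⟩ := hP
  choose U n hU eU using fun i => hfl i ⟨x, hxV⟩
  obtain ⟨W', hxW', hW'⟩ := exists_open_le_finset (Finset.Icc a b) U ⟨x, hxV⟩ (fun i _ => hU i)
  refine ⟨(V.ι ''ᵁ W' : X.Opens), (V.ι ''ᵁ W').2, ⟨⟨x, hxV⟩, hxW', rfl⟩, ?_⟩
  rintro x' ⟨v, hvW', hv⟩
  rw [betti_and_eulerChar_eq E F hF e V P ⟨⟨a, b, hab⟩, hfl⟩ a b hab eP U n eU x' v hv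
      (fun i h1 h2 => hW' i (Finset.mem_Icc.2 ⟨h1, h2⟩) hvW'),
    betti_and_eulerChar_eq E F hF e V P ⟨⟨a, b, hab⟩, hfl⟩ a b hab eP U n eU x ⟨x, hxV⟩ rfl
      (fun i h1 h2 => hU i)]

end Groth.Agent.S1059
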