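import Groth.Statements.S10591
-- import your own Groth.Agent.* helpers here
import Groth.Agent.Lib.Helper36.ThickFT
import Groth.Agent.Lib.Helper36.AlgSpHasAtMor
import Groth.Agent.Lib.Helper46.LocPChart
import Groth.Agent.Lib.Helper30.EtLocalInst
import Groth.Agent.Lib.Helper79.AlgSpChart
import Groth.Agent.S10593

set_option autoImplicit false
universe u
open CategoryTheory CategoryTheory.Limits AlgebraicGeometry
open AlgSp

namespace Groth.Agent.S10591

open Groth.Agent.Lib.Helper36.ThickFT Groth.Agent.Lib.Helper36.AlgSpHasAtMor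
  Groth.Agent.Lib.Helper36.Thickening Groth.Agent.Lib.Helper46.LocPChart
  Groth.Agent.Lib.Helper30.EtLocalInst Groth.Agent.Lib.Helper36.AlgSpChartDiag
  Groth.Agent.Lib.Helper37.AlgSpPoints

theorem lft_iff {S : Scheme.{u}} {X X' Y Y' : AlgSp.Space S} (i : X ⟶ X') (j : Y ⟶ Y')
    (f : X ⟶ Y) (f' : X' ⟶ Y')
    (hi : AlgSp.IsThickMor i.hom)
    (hj : AlgSp.IsThickMor j.hom)
    (hcart : IsPullback i.hom f.hom f'.hom j.hom)
    (n : ℕ) (hpow : AffLocT (powZero n) i.hom) :
    AlgSp.LocP @LocallyOfFiniteType f.hom ↔ AlgSp.LocP @LocallyOfFiniteType f'.hom := by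
  constructor
  · intro hf U' V' a' b' h' ha' hb' w'
    rw [IsZariskiLocalAtSource.iff_of_openCover (P := @LocallyOfFiniteType) U'.left.affineCover]
    intro k
    let U'k : Over S := Over.mk (U'.left.affineCover.f k ≫ U'.hom)
    let gk : U'k ⟶ U' := Over.homMk (U'.left.affineCover.f k) rfl
    have hU'k : IsAffine U'k.left := by
      change IsAffine (U'.left.affineCover.X k)
      infer_instance
    have hgk : Etale gk.left := by
      change Etale (U'.left.affineCover.f k)
      infer_instance
    have hak : RepWith @Etale ((yon S).map gk ≫ a') :=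
      Groth.Agent.Lib.Helper79.AlgSpChart.repWith_map_comp @Etale gk hgk ha'
    have wk : ((yon S).map gk ≫ a') ≫ f'.hom = (yon S).map (gk ≫ h') ≫ b' := by
      rw [Category.assoc, w', Functor.map_comp, Category.assoc]
    obtain ⟨U, V, a, b, h, iU, jV, hae, hbe, w, sqU, sqV, sq, hiU, hjV⟩ :=
      exists_pullback_chart_diagram i.hom j.hom f.hom f'.hom hi hj hcart _ b' (gk ≫ h') hak hb' wk
    have hh : LocallyOfFiniteType h.left := hf a b h hae hbe w
    have hn : iU.left.ker ^ (n + 1) = ⊥ := hpow ((yon S).map gk ≫ a') a iU hU'k hak sqU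
    have : IsClosedImmersion jV.left := hjV.1
    exact locallyOfFiniteType_of_isPullback sq n hn
  · intro hf'
    exact locP_of_isPullback etLocal_lft X'.property Y'.property X.property Y.property hcart hf'

/-- Consider a morphism (f, f') from the thickening X ⊂ X' to the thickening Y ⊂ Y' of algebraic spaces
over S, meaning: i : X ⟶ X' and j : Y ⟶ Y' are thickenings (representable, every base change to a
scheme a surjective closed immersion) and i ≫ f' = f ≫ j. Assume moreover that the square is
cartesian (X = Y ×_{Y'} X') and that i is a finite order thickening (for one n, on every affine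
etale scheme chart of X' the (n+1)-st power of the ideal of the base change of X vanishes). Then f
is locally of finite type of relative dimension d, resp. locally of finite type, resp. locally
quasi-finite, resp. unramified, if and only if f' is (relative dimension d at a point: some chart
diagram through the point has fibre of local dimension d there) (all in the etale-local sense,
locally quasi-finite and unramified including locally of finite type). -/
theorem result {S : Scheme.{u}} {X X' Y Y' : AlgSp.Space S} (i : X ⟶ X') (j : Y ⟶ Y')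
    (f : X ⟶ Y) (f' : X' ⟶ Y')
    (hi : AlgSp.IsThickMor i.hom)
    (hj : AlgSp.IsThickMor j.hom) (w : i ≫ f' = f ≫ j)
    (hcart : IsPullback i.hom f.hom f'.hom j.hom)
    (hfo : AlgSp.IsFinThickMor i.hom) (d : ℕ) :
    ((AlgSp.LocP @LocallyOfFiniteType f.hom ∧
        ∀ x, AlgSp.HasAtMor (fun _ _ h u => FlatMor.fibreDimAt h u = (d : WithBot ℕ∞)) f.hom x) ↔
      (AlgSp.LocP @LocallyOfFiniteType f'.hom ∧
        ∀ x', AlgSp.HasAtMor (fun _ _ h u => FlatMor.fibreDimAt h u = (d : WithBot ℕ∞)) f'.hom x')) ∧
    (AlgSp.LocP @LocallyOfFiniteType f.hom ↔ AlgSp.LocP @LocallyOfFiniteType f'.hom) ∧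
    (AlgSp.LocP (@LocallyQuasiFinite ⊓ @LocallyOfFiniteType) f.hom ↔
      AlgSp.LocP (@LocallyQuasiFinite ⊓ @LocallyOfFiniteType) f'.hom) ∧
    (AlgSp.LocP (@LocallyOfFiniteType ⊓ @FormallyUnramified) f.hom ↔
      AlgSp.LocP (@LocallyOfFiniteType ⊓ @FormallyUnramified) f'.hom) := by
  obtain ⟨n, -, hpow⟩ := hfo
  have P2 := lft_iff i j f f' hi hj hcart n hpow
  have hhomeo := isHomeomorph_points_of_isThickMor X'.property i.hom hi
  have hinj : Function.Injective (Points.map i.hom) := hhomeo.injective
  have hsurj : Function.Surjective (Points.map i.hom) := hhomeo.surjective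
  have hQ : IsEtaleLocalGermMor
      (fun _ _ h u => FlatMor.fibreDimAt h u = (d : WithBot ℕ∞)) :=
    isEtaleLocalGermMor_fibreDimAt (fun e => e = (d : WithBot ℕ∞))
  have P1 : (∀ x, AlgSp.HasAtMor (fun _ _ h u => FlatMor.fibreDimAt h u = (d : WithBot ℕ∞)) f.hom x) ↔
      (∀ x', AlgSp.HasAtMor (fun _ _ h u => FlatMor.fibreDimAt h u = (d : WithBot ℕ∞)) f'.hom x') := by
    constructor
    · intro H x'
      obtain ⟨x, rfl⟩ := hsurj x'
      obtain ⟨U', V', a', b', h', u', ha'e, ha's, hb'e, hb's, w', hu', -⟩ :=
        exists_chart_diagram_at f' (Points.map i.hom x)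
      obtain ⟨U, V, a, b, h, iU, jV, hae, hbe, w0, sqU, sqV, sq, hiU, hjV⟩ :=
        exists_pullback_chart_diagram i.hom j.hom f.hom f'.hom hi hj hcart a' b' h' ha'e hb'e w'
      obtain ⟨u, rfl⟩ := hiU.2.surj u'
      have hux : Points.ofPt a u = x := by
        apply hinj
        rw [Points.map_ofPt, sqU.w, ofPt_map_comp]
        exact hu'
      have hq : FlatMor.fibreDimAt h.left u = (d : WithBot ℕ∞) :=
        (hasAtMor_iff_forall_chart hQ f x).1 (H x) U V a b h u hae hbe w0 hux
      have : IsClosedImmersion jV.left := hjV.1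
      refine ⟨U', V', a', b', h', iU.left u, ha'e, hb'e, w', hu', ?_⟩
      show FlatMor.fibreDimAt h'.left (iU.left u) = (d : WithBot ℕ∞)
      rw [← fibreDimAt_eq_of_isPullback sq u]
      exact hq
    · intro H x
      obtain ⟨U', V', a', b', h', u', ha'e, hb'e, w', hu', hq⟩ := H (Points.map i.hom x)
      obtain ⟨U, V, a, b, h, iU, jV, hae, hbe, w0, sqU, sqV, sq, hiU, hjV⟩ :=
        exists_pullback_chart_diagram i.hom j.hom f.hom f'.hom hi hj hcart a' b' h' ha'e hb'e w'
      obtain ⟨u, rfl⟩ := hiU.2.surj u'
      have hux : Points.ofPt a u = x := by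
        apply hinj
        rw [Points.map_ofPt, sqU.w, ofPt_map_comp]
        exact hu'
      have : IsClosedImmersion jV.left := hjV.1
      refine ⟨U, V, a, b, h, u, hae, hbe, w0, hux, ?_⟩
      show FlatMor.fibreDimAt h.left u = (d : WithBot ℕ∞)
      rw [fibreDimAt_eq_of_isPullback sq u]
      exact hq
  refine ⟨and_congr P2 P1, P2, ?_, ?_⟩
  · constructor
    · intro H
      have hft : LocP @LocallyOfFiniteType f.hom := fun U V a b h ha hb w => (H a b h ha hb w).2
      exact ((Groth.Agent.S10593.result i j f f' hi hj w hcart hft (P2.1 hft)).1).1 H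
    · intro H
      have hft' : LocP @LocallyOfFiniteType f'.hom := fun U V a b h ha hb w => (H a b h ha hb w).2
      exact ((Groth.Agent.S10593.result i j f f' hi hj w hcart (P2.2 hft') hft').1).2 H
  · constructor
    · intro H
      have hft : LocP @LocallyOfFiniteType f.hom := fun U V a b h ha hb w => (H a b h ha hb w).1
      exact ((Groth.Agent.S10593.result i j f f' hi hj w hcart hft (P2.1 hft)).2).1 H
    · intro H
      have hft' : LocP @LocallyOfFiniteType f'.hom := fun U V a b h ha hb w => (H a b h ha hb w).1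
      exact ((Groth.Agent.S10593.result i j f f' hi hj w hcart (P2.2 hft') hft').2).2 H

end Groth.Agent.S10591
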