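import Groth.Statements.S10592
import Groth.Agent.S10594
import Groth.Agent.S10591
import Groth.Agent.S10649
import Groth.Agent.S10614
import Groth.Agent.S9953

set_option autoImplicit false
universe u
open CategoryTheory CategoryTheory.Limits AlgebraicGeometry
open AlgSp

namespace Groth.Agent.S10592

/-- Consider a morphism (f, f') from the thickening X ⊂ X' to the thickening Y ⊂ Y' of algebraic spaces
over S, meaning: i : X ⟶ X' and j : Y ⟶ Y' are thickenings (representable, every base change to a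
scheme a surjective closed immersion) and i ≫ f' = f ≫ j. Assume moreover that the square is
cartesian (X = Y ×_{Y'} X') and that i is a finite order thickening (for one n, on every affine
etale scheme chart of X' the (n+1)-st power of the ideal of the base change of X vanishes). Then f
is a closed immersion, resp. proper, resp. finite, resp. an immersion, if and only if f' is
(immersions of algebraic spaces being the representable ones). -/
theorem result {S : Scheme.{u}} {X X' Y Y' : AlgSp.Space S} (i : X ⟶ X') (j : Y ⟶ Y')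
    (f : X ⟶ Y) (f' : X' ⟶ Y')
    (hi : AlgSp.IsThickMor i.hom)
    (hj : AlgSp.IsThickMor j.hom) (w : i ≫ f' = f ≫ j)
    (hcart : IsPullback i.hom f.hom f'.hom j.hom)
    (hfo : AlgSp.IsFinThickMor i.hom) :
    (AlgSp.RepWith @IsClosedImmersion f.hom ↔ AlgSp.RepWith @IsClosedImmersion f'.hom) ∧
    (AlgSp.IsProperMor f.hom ↔ AlgSp.IsProperMor f'.hom) ∧
    (AlgSp.IsFiniteMor f.hom ↔ AlgSp.IsFiniteMor f'.hom) ∧
    (AlgSp.RepWith @IsImmersion f.hom ↔ AlgSp.RepWith @IsImmersion f'.hom) := by
  obtain ⟨-, hlft, -, -⟩ := Groth.Agent.S10591.result i j f f' hi hj w hcart hfo 0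
  have main : LocP @LocallyOfFiniteType f.hom →
      (AlgSp.RepWith @IsClosedImmersion f.hom ↔ AlgSp.RepWith @IsClosedImmersion f'.hom) ∧
      (AlgSp.IsProperMor f.hom ↔ AlgSp.IsProperMor f'.hom) ∧
      (AlgSp.IsFiniteMor f.hom ↔ AlgSp.IsFiniteMor f'.hom) ∧
      (AlgSp.RepWith @IsImmersion f.hom ↔ AlgSp.RepWith @IsImmersion f'.hom) := fun hft => by
    obtain ⟨a, b, c, d⟩ := Groth.Agent.S10594.result i j f f' hi hj w hcart hft (hlft.1 hft)
    exact ⟨b, d, a, c⟩
  have lftCI : ∀ {A B : AlgSp.Space S} (φ : A ⟶ B), RepWith @IsClosedImmersion φ.hom →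
      LocP @LocallyOfFiniteType φ.hom := fun φ h => ((Groth.Agent.S10614.result φ).2.2.1.1 h).2.1
  have lftProper : ∀ {A B : AlgSp.Space S} (φ : A ⟶ B), IsProperMor φ.hom →
      LocP @LocallyOfFiniteType φ.hom := fun φ h => h.2.1.1
  have lftFin : ∀ {A B : AlgSp.Space S} (φ : A ⟶ B), IsFiniteMor φ.hom →
      LocP @LocallyOfFiniteType φ.hom := fun φ h => by
    have h1 := (Groth.Agent.S10649.result φ).out 0 1
    exact lftProper φ (h1.1 h).1
  have lftImm : ∀ {A B : AlgSp.Space S} (φ : A ⟶ B), RepWith @IsImmersion φ.hom →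
      LocP @LocallyOfFiniteType φ.hom := fun φ h => Groth.Agent.S9953.result φ h
  exact ⟨⟨fun h => (main (lftCI f h)).1.1 h, fun h => (main (hlft.2 (lftCI f' h))).1.2 h⟩,
    ⟨fun h => (main (lftProper f h)).2.1.1 h, fun h => (main (hlft.2 (lftProper f' h))).2.1.2 h⟩,
    ⟨fun h => (main (lftFin f h)).2.2.1.1 h, fun h => (main (hlft.2 (lftFin f' h))).2.2.1.2 h⟩,
    ⟨fun h => (main (lftImm f h)).2.2.2.1 h, fun h => (main (hlft.2 (lftImm f' h))).2.2.2.2 h⟩⟩

end Groth.Agent.S10592
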