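import Groth.Statements.S10595
import Groth.Agent.Lib.Helper54.AlgSpDeformTower
import Groth.Agent.Lib.Helper54.ThickFinOrder
import Groth.Agent.Lib.Helper30.LocPPointwise
import Groth.Agent.S1317

set_option autoImplicit false
universe u
open CategoryTheory CategoryTheory.Limits AlgebraicGeometry
open AlgSp

namespace Groth.Agent.S10595

open Groth.Agent.Lib.Helper54.AlgSpFlatPt Groth.Agent.Lib.Helper54.AlgSpDeformTower
open Groth.Agent.Lib.Helper54.ThickFinOrder
open Groth.Agent.Lib.Helper46 Groth.Agent.Lib.Helper30.LocPPointwise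


/-- Let iB : B ⟶ B' be a finite order thickening of algebraic spaces over S (a thickening such that for
one n the (n+1)-st power of the ideal vanishes on every affine etale scheme chart), f' : X' ⟶ Y' a
morphism of algebraic spaces over B' (via g' : Y' ⟶ B') with X' flat over B', and f : X ⟶ Y, g : Y ⟶
B its base change to B (both squares to iB cartesian, iX ≫ f' = f ≫ iY). If f is flat, then f' is
flat and g' : Y' ⟶ B' is flat at every point of Y' in the image of f'. -/
theorem result {S : Scheme.{u}} {X X' Y Y' B B' : AlgSp.Space S} (iX : X ⟶ X') (iY : Y ⟶ Y') (iB : B ⟶ B')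
    (f : X ⟶ Y) (f' : X' ⟶ Y') (g : Y ⟶ B) (g' : Y' ⟶ B')
    (hcX : IsPullback iX.hom (f ≫ g).hom (f' ≫ g').hom iB.hom) (hcY : IsPullback iY.hom g.hom g'.hom iB.hom)
    (w : iX ≫ f' = f ≫ iY)
    (hB : AlgSp.IsFinThickMor iB.hom) (hflat : AlgSp.LocP @Flat (f' ≫ g').hom)
    (hf : AlgSp.LocP @Flat f.hom) :
    AlgSp.LocP @Flat f'.hom ∧
    ∀ x' : AlgSp.Points X'.obj, AlgSp.IsFlatAtMor g'.hom (AlgSp.Points.map f'.hom x') := by
  obtain ⟨n, hthick, hpow⟩ := hB
  have hf' : AlgSp.LocP @Flat f'.hom := by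
    refine locP_of_pointwise_charts etLocal_flat f'.hom fun x' => ?_
    obtain ⟨U', V', W', U, V, W0, a', b', c, k', p', a, b, c0, k, p, iU, jV, j, u, ha', hb', hc, hAff,
      comm1, comm2, hae, hbe, comm, sqW, sqUs, sqVs, ws, hu', -⟩ :=
      exists_deform_tower_at iX iY iB f f' g g' hcX hcY w hthick x'
    have hfh' : (f' ≫ g').hom = f'.hom ≫ g'.hom := rfl
    have comm3 : a' ≫ (f' ≫ g').hom = (yon S).map (k' ≫ p') ≫ c := by
      rw [hfh', ← Category.assoc, comm1, Category.assoc, comm2, Functor.map_comp, Category.assoc]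
    have i1 : Flat (k'.left ≫ p'.left) := hflat a' c (k' ≫ p') ha' hc comm3
    have i2 : Flat k.left := hf a b k hae hbe comm
    have hS : MoreMor.IsFiniteOrderThickening j.left :=
      finiteOrder_of_powZero j.left (hthick.property c c0 j sqW) n (hpow c c0 j hAff hc sqW)
    have i3 : Flat k'.left :=
      (Groth.Agent.S1317.result iU.left jV.left j.left k.left k'.left p.left p'.left hS sqUs sqVs
        ws).1 i2
    exact ⟨U', V', a', b', k', iU.left u, ha', hb', comm1, hu', i3⟩
  exact ⟨hf', fun x' => isFlatAtMor_map_of_flat f' g' hflat hf' x'⟩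

end Groth.Agent.S10595
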