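import Groth.Statements.S10596
import Groth.Agent.Lib.Helper54.AlgSpDeformTower
import Groth.Agent.Lib.Helper54.ThickFinOrder
import Groth.Agent.Lib.Helper54.AlgSpDeformFp
import Groth.Agent.Lib.Helper30.LocPPointwise
import Groth.Agent.Lib.Helper36.Thickening
import Groth.Agent.S1317
import Groth.Agent.S1309
import Groth.Agent.S1310
import Groth.Agent.S1312
import Groth.Agent.S1320
import Groth.Agent.S1321
import Groth.Agent.S1322

set_option autoImplicit false
universe u
open CategoryTheory CategoryTheory.Limits AlgebraicGeometry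
open AlgSp

namespace Groth.Agent.S10596

open Groth.Agent.Lib.Helper54.AlgSpFlatPt Groth.Agent.Lib.Helper54.AlgSpDeformTower
open Groth.Agent.Lib.Helper54.ThickFinOrder
open Groth.Agent.Lib.Helper37.AlgSpPoints
open Groth.Agent.Lib.Helper46 Groth.Agent.Lib.Helper46.LocPChart
open Groth.Agent.Lib.Helper30.LocPPointwise
open Groth.Agent.Lib.Helper30.EtLocalInst Groth.Agent.Lib.Helper30.AlgSpEtaleMor
open Groth.Agent.Lib.Helper36.AlgSpHasAtMor

/-- the shape of a scheme-level deformation statement along a finite order thickening. -/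
def Deforms (Q : MorphismProperty Scheme.{u}) : Prop :=
  ∀ {A A' C C' D D' : Scheme.{u}} (iA : A ⟶ A') (iC : C ⟶ C') (iD : D ⟶ D') (φ : A ⟶ C)
    (φ' : A' ⟶ C') (γ : C ⟶ D) (γ' : C' ⟶ D'), MoreMor.IsFiniteOrderThickening iD →
    IsPullback iA (φ ≫ γ) (φ' ≫ γ') iD → IsPullback iC γ γ' iD → iA ≫ φ' = φ ≫ iC →
    Flat (φ' ≫ γ') → Q φ → Q φ'

theorem deforms_flat : Deforms (@Flat : MorphismProperty Scheme.{u}) := by
  intro A A' C C' D D' iA iC iD φ φ' γ γ' hS hX hY w hfl h
  have := hfl
  exact (Groth.Agent.S1317.result iA iC iD φ φ' γ γ' hS hX hY w).1 h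

theorem deforms_lfp : Deforms (@LocallyOfFinitePresentation : MorphismProperty Scheme.{u}) := by
  intro A A' C C' D D' iA iC iD φ φ' γ γ' hS hX hY w hfl h
  have := hfl
  exact (Groth.Agent.S1320.result iA iC iD φ φ' γ γ' hS hX hY w).1 h

theorem deforms_smooth : Deforms (@Smooth : MorphismProperty Scheme.{u}) := by
  intro A A' C C' D D' iA iC iD φ φ' γ γ' hS hX hY w hfl h
  have := hfl
  exact (Groth.Agent.S1321.result iA iC iD φ φ' γ γ' hS hX hY w).1 h

theorem deforms_etale : Deforms (@Etale : MorphismProperty Scheme.{u}) := by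
  intro A A' C C' D D' iA iC iD φ φ' γ γ' hS hX hY w hfl h
  have := hfl
  exact (Groth.Agent.S1322.result iA iC iD φ φ' γ γ' hS hX hY w).1 h

theorem deforms_lft : Deforms (@LocallyOfFiniteType : MorphismProperty Scheme.{u}) := by
  intro A A' C C' D D' iA iC iD φ φ' γ γ' hS hX hY w hfl h
  exact (Groth.Agent.S1309.result iA iC φ φ' (finiteOrder_of_isPullback hY hS)
    (IsPullback.of_bot hX w hY)).1 h

theorem deforms_unr :
    Deforms (@LocallyOfFiniteType ⊓ @FormallyUnramified : MorphismProperty Scheme.{u}) := by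
  intro A A' C C' D D' iA iC iD φ φ' γ γ' hS hX hY w hfl h
  exact ⟨deforms_lft iA iC iD φ φ' γ γ' hS hX hY w hfl h.1,
    (Groth.Agent.S1310.result iA iC φ φ' (finiteOrder_of_isPullback hY hS)
      (IsPullback.of_bot hX w hY)).1 h.2⟩

theorem deforms_lqf :
    Deforms (@LocallyQuasiFinite ⊓ @LocallyOfFiniteType : MorphismProperty Scheme.{u}) := by
  intro A A' C C' D D' iA iC iD φ φ' γ γ' hS hX hY w hfl h
  have h1 : LocallyOfFiniteType φ := h.2
  have h2 : LocallyOfFiniteType φ' := deforms_lft iA iC iD φ φ' γ γ' hS hX hY w hfl h.2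
  exact ⟨(Groth.Agent.S1312.result iA iC φ φ' (finiteOrder_of_isPullback hY hS).1
      (IsPullback.of_bot hX w hY)).1 h.1, h2⟩


/-- Let iB : B ⟶ B' be a finite order thickening of algebraic spaces over S (a thickening such that for
one n the (n+1)-st power of the ideal vanishes on every affine etale scheme chart), f' : X' ⟶ Y' a
morphism of algebraic spaces over B' (via g' : Y' ⟶ B') with X' flat over B', and f : X ⟶ Y, g : Y ⟶
B its base change to B (both squares to iB cartesian, iX ≫ f' = f ≫ iY). Then f is locally of finite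
type of relative dimension d, resp. flat, resp. locally of finite type, locally quasi-finite,
locally of finite presentation, smooth, unramified, etale, if and only if f' is (etale-local sense;
locally quasi-finite and unramified include locally of finite type). -/
theorem result {S : Scheme.{u}} {X X' Y Y' B B' : AlgSp.Space S} (iX : X ⟶ X') (iY : Y ⟶ Y') (iB : B ⟶ B')
    (f : X ⟶ Y) (f' : X' ⟶ Y') (g : Y ⟶ B) (g' : Y' ⟶ B')
    (hcX : IsPullback iX.hom (f ≫ g).hom (f' ≫ g').hom iB.hom) (hcY : IsPullback iY.hom g.hom g'.hom iB.hom)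
    (w : iX ≫ f' = f ≫ iY)
    (hB : AlgSp.IsFinThickMor iB.hom) (hflat : AlgSp.LocP @Flat (f' ≫ g').hom) (d : ℕ) :
    ((AlgSp.LocP @LocallyOfFiniteType f.hom ∧
        ∀ x, AlgSp.HasAtMor (fun _ _ h u => FlatMor.fibreDimAt h u = (d : WithBot ℕ∞)) f.hom x) ↔
      (AlgSp.LocP @LocallyOfFiniteType f'.hom ∧
        ∀ x', AlgSp.HasAtMor (fun _ _ h u => FlatMor.fibreDimAt h u = (d : WithBot ℕ∞)) f'.hom x')) ∧
    (AlgSp.LocP @Flat f.hom ↔ AlgSp.LocP @Flat f'.hom) ∧
    (AlgSp.LocP @LocallyOfFiniteType f.hom ↔ AlgSp.LocP @LocallyOfFiniteType f'.hom) ∧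
    (AlgSp.LocP (@LocallyQuasiFinite ⊓ @LocallyOfFiniteType) f.hom ↔
      AlgSp.LocP (@LocallyQuasiFinite ⊓ @LocallyOfFiniteType) f'.hom) ∧
    (AlgSp.LocP @LocallyOfFinitePresentation f.hom ↔ AlgSp.LocP @LocallyOfFinitePresentation f'.hom) ∧
    (AlgSp.LocP @Smooth f.hom ↔ AlgSp.LocP @Smooth f'.hom) ∧
    (AlgSp.LocP (@LocallyOfFiniteType ⊓ @FormallyUnramified) f.hom ↔
      AlgSp.LocP (@LocallyOfFiniteType ⊓ @FormallyUnramified) f'.hom) ∧
    (AlgSp.IsEtaleMor f.hom ↔ AlgSp.IsEtaleMor f'.hom) := by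
  obtain ⟨n, hthick, hpow⟩ := hB
  have hw : iX.hom ≫ f'.hom = f.hom ≫ iY.hom := congrArg (fun φ => φ.hom) w
  have hXY : IsPullback iX.hom f.hom f'.hom iY.hom := IsPullback.of_bot hcX hw hcY
  have hiX : IsThickMor iX.hom :=
    MorphismProperty.of_isPullback (P := RepWith thick) hcX.flip hthick
  have hinj : Function.Injective (Points.map iX.hom) :=
    (Groth.Agent.Lib.Helper36.Thickening.isHomeomorph_points_of_isThickMor X'.property iX.hom
      hiX).injective
  have bc : ∀ (Q : MorphismProperty Scheme.{u}), EtLocal Q → LocP Q f'.hom → LocP Q f.hom :=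
    fun Q hQ h => locP_of_isPullback hQ X'.property Y'.property X.property Y.property hXY h
  have up : ∀ (Q : MorphismProperty Scheme.{u}), EtLocal Q → IsZariskiLocalAtSource Q →
      Deforms Q → LocP Q f.hom → LocP Q f'.hom := by
    intro Q hQ hz hdef h
    have := hz
    refine locP_of_pointwise_charts hQ f'.hom fun x' => ?_
    obtain ⟨U', V', W', U, V, W0, a', b', c, k', p', a, b, c0, k, p, iU, jV, j, u, ha', hb', hc, hAff,
      comm1, comm2, hae, hbe, comm, sqW, sqUs, sqVs, ws, hu', -⟩ :=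
      exists_deform_tower_at iX iY iB f f' g g' hcX hcY w hthick x'
    have hfh' : (f' ≫ g').hom = f'.hom ≫ g'.hom := rfl
    have comm3 : a' ≫ (f' ≫ g').hom = (yon S).map (k' ≫ p') ≫ c := by
      rw [hfh', ← Category.assoc, comm1, Category.assoc, comm2, Functor.map_comp, Category.assoc]
    have i1 : Flat (k'.left ≫ p'.left) := hflat a' c (k' ≫ p') ha' hc comm3
    have hS : MoreMor.IsFiniteOrderThickening j.left :=
      finiteOrder_of_powZero j.left (hthick.property c c0 j sqW) n (hpow c c0 j hAff hc sqW)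
    exact ⟨U', V', a', b', k', iU.left u, ha', hb', comm1, hu',
      hdef iU.left jV.left j.left k.left k'.left p.left p'.left hS sqUs sqVs ws i1
        (h a b k hae hbe comm)⟩
  have Plft : LocP @LocallyOfFiniteType f.hom ↔ LocP @LocallyOfFiniteType f'.hom :=
    ⟨up _ etLocal_lft inferInstance deforms_lft, bc _ etLocal_lft⟩
  refine ⟨?_, ⟨up _ etLocal_flat inferInstance deforms_flat, bc _ etLocal_flat⟩, Plft,
    ⟨up _ etLocal_lqf inferInstance deforms_lqf, bc _ etLocal_lqf⟩,
    ⟨up _ etLocal_lfp inferInstance deforms_lfp, bc _ etLocal_lfp⟩,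
    ⟨up _ etLocal_smooth inferInstance deforms_smooth, bc _ etLocal_smooth⟩,
    ⟨up _ etLocal_unramified inferInstance deforms_unr, bc _ etLocal_unramified⟩, ?_⟩
  · -- relative dimension
    have hQd : IsEtaleLocalGermMor
        (fun _ _ h u => FlatMor.fibreDimAt h u = (d : WithBot ℕ∞)) :=
      isEtaleLocalGermMor_fibreDimAt (fun t => t = (d : WithBot ℕ∞))
    refine and_congr Plft ⟨fun H x' => ?_, fun H x => ?_⟩
    · obtain ⟨U', V', W', U, V, W0, a', b', c, k', p', a, b, c0, k, p, iU, jV, j, u, ha', hb', hc,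
        hAff, comm1, comm2, hae, hbe, comm, sqW, sqUs, sqVs, ws, hu', hmap⟩ :=
        exists_deform_tower_at iX iY iB f f' g g' hcX hcY w hthick x'
      have hjV : thick jV.left :=
        Groth.Agent.Lib.Helper54.DeformFp.thick_left sqVs (hthick.property c c0 j sqW)
      have : IsClosedImmersion jV.left := hjV.1
      have sqk : IsPullback k.left iU.left jV.left k'.left := (IsPullback.of_bot sqUs ws sqVs).flip
      have h1 := (hasAtMor_iff_forall_chart hQd f (Points.ofPt a u)).1 (H _) U V a b k u hae hbe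
        comm rfl
      exact ⟨U', V', a', b', k', iU.left u, ha', hb', comm1, hu',
        (Groth.Agent.Lib.Helper36.ThickFT.fibreDimAt_eq_of_isPullback sqk u).symm.trans h1⟩
    · obtain ⟨U', V', W', U, V, W0, a', b', c, k', p', a, b, c0, k, p, iU, jV, j, u, ha', hb', hc,
        hAff, comm1, comm2, hae, hbe, comm, sqW, sqUs, sqVs, ws, hu', hmap⟩ :=
        exists_deform_tower_at iX iY iB f f' g g' hcX hcY w hthick (Points.map iX.hom x)
      have hjV : thick jV.left :=
        Groth.Agent.Lib.Helper54.DeformFp.thick_left sqVs (hthick.property c c0 j sqW)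
      have : IsClosedImmersion jV.left := hjV.1
      have sqk : IsPullback k.left iU.left jV.left k'.left := (IsPullback.of_bot sqUs ws sqVs).flip
      have hux : Points.ofPt a u = x := hinj (hmap.trans hu')
      have h1 := (hasAtMor_iff_forall_chart hQd f' (Points.ofPt a' (iU.left u))).1
        (by rw [hu']; exact H _) U' V' a' b' k' (iU.left u) ha' hb' comm1 rfl
      exact ⟨U, V, a, b, k, u, hae, hbe, comm, hux,
        (Groth.Agent.Lib.Helper36.ThickFT.fibreDimAt_eq_of_isPullback sqk u).trans h1⟩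
  · -- etale
    rw [isEtaleMor_iff_locP_etale Y.property f.hom, isEtaleMor_iff_locP_etale Y'.property f'.hom]
    exact ⟨up _ etLocal_etale inferInstance deforms_etale, bc _ etLocal_etale⟩

end Groth.Agent.S10596
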