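import Groth.Statements.S10597
import Groth.Agent.Lib.Helper23.DeformIso
import Groth.Agent.S10596
import Groth.Agent.S10610
import Groth.Agent.S10294

set_option autoImplicit false
universe u
open CategoryTheory CategoryTheory.Limits AlgebraicGeometry
open AlgSp

namespace Groth.Agent.S10597

open Groth.Agent.Lib.Helper23.DeformIso

/-- Let iB : B ⟶ B' be a finite order thickening of algebraic spaces over S (a thickening such that for
one n the (n+1)-st power of the ideal vanishes on every affine etale scheme chart), f' : X' ⟶ Y' a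
morphism of algebraic spaces over B' (via g' : Y' ⟶ B') with X' flat over B', and f : X ⟶ Y, g : Y ⟶
B its base change to B (both squares to iB cartesian, iX ≫ f' = f ≫ iY). Then f is an isomorphism,
resp. an open immersion, resp. a monomorphism, resp. finite locally free, resp. finite locally free
of degree d, if and only if f' is. -/
theorem result {S : Scheme.{u}} {X X' Y Y' B B' : AlgSp.Space S} (iX : X ⟶ X') (iY : Y ⟶ Y') (iB : B ⟶ B')
    (f : X ⟶ Y) (f' : X' ⟶ Y') (g : Y ⟶ B) (g' : Y' ⟶ B')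
    (hcX : IsPullback iX.hom (f ≫ g).hom (f' ≫ g').hom iB.hom) (hcY : IsPullback iY.hom g.hom g'.hom iB.hom)
    (w : iX ≫ f' = f ≫ iY)
    (hB : AlgSp.IsFinThickMor iB.hom) (hflat : AlgSp.LocP @Flat (f' ≫ g').hom) :
    (IsIso f.hom ↔ IsIso f'.hom) ∧
    (AlgSp.RepWith @IsOpenImmersion f.hom ↔ AlgSp.RepWith @IsOpenImmersion f'.hom) ∧
    (Mono f.hom ↔ Mono f'.hom) ∧
    (AlgSp.IsFinLocFreeMor f.hom ↔ AlgSp.IsFinLocFreeMor f'.hom) ∧
    (∀ d : ℕ, AlgSp.IsFinLocFreeOfDegMor d f.hom ↔ AlgSp.IsFinLocFreeOfDegMor d f'.hom) := by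
  have hw : iX.hom ≫ f'.hom = f.hom ≫ iY.hom := congrArg (fun φ => φ.hom) w
  have hXY : IsPullback iX.hom f.hom f'.hom iY.hom := IsPullback.of_bot hcX hw hcY
  have hB' : IsThickMor iB.hom := hB.choose_spec.1
  have hiX : IsThickMor iX.hom :=
    MorphismProperty.of_isPullback (P := RepWith thick) hcX.flip hB'
  have hiY : IsThickMor iY.hom :=
    MorphismProperty.of_isPullback (P := RepWith thick) hcY.flip hB'
  have hEt : ∀ {Y Y' : AlgSp.Space S} (iY : Y ⟶ Y') (f : X ⟶ Y) (f' : X' ⟶ Y') (g : Y ⟶ B)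
      (g' : Y' ⟶ B'), IsPullback iX.hom (f ≫ g).hom (f' ≫ g').hom iB.hom →
      IsPullback iY.hom g.hom g'.hom iB.hom → iX ≫ f' = f ≫ iY → LocP @Flat (f' ≫ g').hom →
      IsEtaleMor f.hom → IsEtaleMor f'.hom := fun iY f f' g g' h1 h2 h3 h4 =>
    (Groth.Agent.S10596.result iX iY iB f f' g g' h1 h2 h3 hB h4 0).2.2.2.2.2.2.2.1
  obtain ⟨-, hfl, -, -, hlfp, -, -, -⟩ :=
    Groth.Agent.S10596.result iX iY iB f f' g g' hcX hcY w hB hflat 0
  have hfin := Groth.Agent.S10610.result iX iY iB f f' g g' hcX hcY w hB hflat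
  have hFLF : IsFinLocFreeMor f.hom ↔ IsFinLocFreeMor f'.hom := by
    rw [(Groth.Agent.S10294.result f).1, (Groth.Agent.S10294.result f').1]
    exact and_congr hfin (and_congr hfl hlfp)
  refine ⟨⟨isIso_deform iX iY f f' hiX hiY w (hEt iY f f' g g' hcX hcY w hflat),
      fun h => hXY.isIso_snd_of_isIso⟩,
    ⟨openImm_deform iX iY f f' hiX hiY w (hEt iY f f' g g' hcX hcY w hflat),
      fun h => MorphismProperty.of_isPullback (P := RepWith @IsOpenImmersion) hXY h⟩,
    ⟨fun h => ?_, fun h => ?_⟩, hFLF, fun d => ⟨fun h => ?_, fun h =>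
      MorphismProperty.of_isPullback (P := RepWith (finLocFreeOfDeg d)) hXY h⟩⟩
  · obtain ⟨P, P', iP, Δ, Δ', p, p', q', hcP, wΔ, hΔp, hΔp', hmono, hmono', -⟩ :=
      exists_diag_config iX iY iB f f' g g' hcX hcY w
    have e : Δ ≫ p ≫ f ≫ g = f ≫ g := by rw [← Category.assoc, hΔp, Category.id_comp]
    have e' : Δ' ≫ p' ≫ f' ≫ g' = f' ≫ g' := by rw [← Category.assoc, hΔp', Category.id_comp]
    have hcX2 : IsPullback iX.hom (Δ ≫ p ≫ f ≫ g).hom (Δ' ≫ p' ≫ f' ≫ g').hom iB.hom := by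
      rw [e, e']; exact hcX
    have hiP : IsThickMor iP.hom :=
      MorphismProperty.of_isPullback (P := RepWith thick) hcP.flip hB'
    have hfl2 : LocP @Flat (Δ' ≫ p' ≫ f' ≫ g').hom := by rw [e']; exact hflat
    exact hmono'.1 (isIso_deform iX iP Δ Δ' hiX hiP wΔ
      (hEt iP Δ Δ' (p ≫ f ≫ g) (p' ≫ f' ≫ g') hcX2 hcP wΔ hfl2) (hmono.2 h))
  · exact (MorphismProperty.monomorphisms _).of_isPullback hXY h
  · exact finLocFreeOfDeg_deform iX.hom iY.hom f.hom f'.hom hiX hiY hXY d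
      (hFLF.1 (MorphismProperty.relative_monotone (fun _ _ _ hh => hh.1) _ h)) h

end Groth.Agent.S10597
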