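import Groth.Statements.S10599
import Groth.Agent.Lib.Helper54.AlgSpDeformFp
import Groth.Agent.S10598

set_option autoImplicit false
universe u
open CategoryTheory CategoryTheory.Limits AlgebraicGeometry
open AlgSp

namespace Groth.Agent.S10599

open Groth.Agent.Lib.Helper54.AlgSpFlatLocus Groth.Agent.Lib.Helper54.AlgSpFlatPt
open Groth.Agent.Lib.Helper54.AlgSpDeformFp
open Groth.Agent.Lib.Helper37.AlgSpPoints
open Groth.Agent.Lib.Helper46 Groth.Agent.Lib.Helper46.LocPChart
open Groth.Agent.Lib.Helper30.EtLocalInst Groth.Agent.Lib.Helper30.AlgSpEtaleMor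
open Groth.Agent.Lib.Helper36.AlgSpHasAtMor


/-- Let iB : B ⟶ B' be a thickening of algebraic spaces over S (representable, every base change to a
scheme a surjective closed immersion), f' : X' ⟶ Y' a morphism of algebraic spaces over B' (via g' :
Y' ⟶ B') with Y' locally of finite type over B' and X' flat and locally of finite presentation over
B', and f : X ⟶ Y, g : Y ⟶ B its base change to B (both squares to iB cartesian, iX ≫ f' = f ≫ iY).
Then f is locally of finite type of relative dimension d, resp. flat, resp. locally quasi-finite,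
smooth, unramified, etale, if and only if f' is (etale-local sense; locally quasi-finite and
unramified include locally of finite type). -/
theorem result {S : Scheme.{u}} {X X' Y Y' B B' : AlgSp.Space S} (iX : X ⟶ X') (iY : Y ⟶ Y') (iB : B ⟶ B')
    (f : X ⟶ Y) (f' : X' ⟶ Y') (g : Y ⟶ B) (g' : Y' ⟶ B')
    (hcX : IsPullback iX.hom (f ≫ g).hom (f' ≫ g').hom iB.hom) (hcY : IsPullback iY.hom g.hom g'.hom iB.hom)
    (w : iX ≫ f' = f ≫ iY)
    (hB : AlgSp.IsThickMor iB.hom)
    (hg' : AlgSp.LocP @LocallyOfFiniteType g'.hom)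
    (hflat : AlgSp.LocP @Flat (f' ≫ g').hom) (hfp : AlgSp.LocP @LocallyOfFinitePresentation (f' ≫ g').hom) (d : ℕ) :
    ((AlgSp.LocP @LocallyOfFiniteType f.hom ∧
        ∀ x, AlgSp.HasAtMor (fun _ _ h u => FlatMor.fibreDimAt h u = (d : WithBot ℕ∞)) f.hom x) ↔
      (AlgSp.LocP @LocallyOfFiniteType f'.hom ∧
        ∀ x', AlgSp.HasAtMor (fun _ _ h u => FlatMor.fibreDimAt h u = (d : WithBot ℕ∞)) f'.hom x')) ∧
    (AlgSp.LocP @Flat f.hom ↔ AlgSp.LocP @Flat f'.hom) ∧
    (AlgSp.LocP (@LocallyQuasiFinite ⊓ @LocallyOfFiniteType) f.hom ↔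
      AlgSp.LocP (@LocallyQuasiFinite ⊓ @LocallyOfFiniteType) f'.hom) ∧
    (AlgSp.LocP @Smooth f.hom ↔ AlgSp.LocP @Smooth f'.hom) ∧
    (AlgSp.LocP (@LocallyOfFiniteType ⊓ @FormallyUnramified) f.hom ↔
      AlgSp.LocP (@LocallyOfFiniteType ⊓ @FormallyUnramified) f'.hom) ∧
    (AlgSp.IsEtaleMor f.hom ↔ AlgSp.IsEtaleMor f'.hom) := by
  have hw : iX.hom ≫ f'.hom = f.hom ≫ iY.hom := congrArg (fun φ => φ.hom) w
  have hXY : IsPullback iX.hom f.hom f'.hom iY.hom := IsPullback.of_bot hcX hw hcY
  obtain ⟨U', V', U, V, a', b', k', a, b, k, iU, jV, ⟨ha', has'⟩, hb', comm1, ⟨hae, has⟩, hbe,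
    comm, sqk, hthU, hthV, i4, hpt⟩ :=
    exists_deform_charts iX iY iB f f' g g' hcX hcY w hB hg' hfp
  have hlft' : LocallyOfFiniteType k'.left := inferInstance
  have hpre : IsPreimmersion jV.left := by
    have := hthV.1
    infer_instance
  have bc : ∀ (Q : MorphismProperty Scheme.{u}), EtLocal Q → LocP Q f'.hom → LocP Q f.hom :=
    fun Q hQ h => locP_of_isPullback hQ X'.property Y'.property X.property Y.property hXY h
  have up : ∀ (Q : MorphismProperty Scheme.{u}), EtLocal Q → (Q k.left → Q k'.left) →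
      LocP Q f.hom → LocP Q f'.hom :=
    fun Q hQ H h => locP_of_chart hQ f'.hom a' b' k' ha' has' hb' comm1 (H (h a b k hae hbe comm))
  have hflat_up : LocP @Flat f.hom → LocP @Flat f'.hom := fun h =>
    (Groth.Agent.S10598.result iX iY iB f f' g g' hcX hcY w hB hg' hflat hfp h).1
  have hkflat : LocP @Flat f.hom → Flat k'.left := fun h => hflat_up h a' b' k' ha' hb' comm1
  refine ⟨?_, ⟨hflat_up, bc _ etLocal_flat⟩, ⟨?_, bc _ etLocal_lqf⟩, ⟨?_, bc _ etLocal_smooth⟩,
    ⟨?_, bc _ etLocal_unramified⟩, ?_⟩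
  · -- relative dimension
    have hQd : IsEtaleLocalGermMor
        (fun _ _ h u => FlatMor.fibreDimAt h u = (d : WithBot ℕ∞)) :=
      isEtaleLocalGermMor_fibreDimAt (fun t => t = (d : WithBot ℕ∞))
    have hlftf' : LocP @LocallyOfFiniteType f'.hom :=
      locP_of_chart etLocal_lft f'.hom a' b' k' ha' has' hb' comm1 hlft'
    have hlftf : LocP @LocallyOfFiniteType f.hom := bc _ etLocal_lft hlftf'
    have hdim : ∀ u : U.left, FlatMor.fibreDimAt k.left u = FlatMor.fibreDimAt k'.left (iU.left u) :=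
      fun u => Groth.Agent.Lib.Helper36.ThickFT.fibreDimAt_eq_of_isPullback sqk u
    constructor
    · rintro ⟨-, H⟩
      refine ⟨hlftf', fun x' => ?_⟩
      obtain ⟨u', rfl⟩ := ofPt_surjective a' has' x'
      obtain ⟨u, rfl⟩ := hthU.2.surj u'
      have h1 := (hasAtMor_iff_forall_chart hQd f (Points.ofPt a u)).1 (H _) U V a b k u hae hbe
        comm rfl
      exact ⟨U', V', a', b', k', iU.left u, ha', hb', comm1, rfl, (hdim u).symm.trans h1⟩
    · rintro ⟨-, H⟩
      refine ⟨hlftf, fun x => ?_⟩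
      obtain ⟨u, rfl⟩ := ofPt_surjective a has x
      have h1 := (hasAtMor_iff_forall_chart hQd f' (Points.ofPt a' (iU.left u))).1 (H _) U' V' a' b'
        k' (iU.left u) ha' hb' comm1 rfl
      exact ⟨U, V, a, b, k, u, hae, hbe, comm, rfl, (hdim u).trans h1⟩
  · -- locally quasi-finite
    refine up _ etLocal_lqf fun h => ?_
    have : LocallyQuasiFinite k.left := h.1
    exact ⟨lqf_of_thick sqk hthV, hlft'⟩
  · -- smooth
    intro hs
    have hfl : LocP @Flat f.hom := fun A B α β h hα hβ e => by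
      have : Smooth h.left := hs α β h hα hβ e
      infer_instance
    have := hkflat hfl
    refine up _ etLocal_smooth (fun h => ?_) hs
    have : Smooth k.left := h
    exact smooth_of_thick sqk hthV
  · -- unramified
    refine up _ etLocal_unramified fun h => ?_
    have : FormallyUnramified k.left := h.2
    exact ⟨hlft', unramified_of_thick sqk hthV⟩
  · -- etale
    rw [isEtaleMor_iff_locP_etale Y.property f.hom, isEtaleMor_iff_locP_etale Y'.property f'.hom]
    refine ⟨?_, bc _ etLocal_etale⟩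
    intro hs
    have hfl : LocP @Flat f.hom := fun A B α β h hα hβ e => by
      have : Etale h.left := hs α β h hα hβ e
      infer_instance
    have := hkflat hfl
    refine up _ etLocal_etale (fun h => ?_) hs
    have : Etale k.left := h
    exact etale_of_thick sqk hthV

end Groth.Agent.S10599
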