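import Groth.Statements.S10611
import Groth.Agent.S10587
import Groth.Agent.S10589
import Groth.Agent.S10599
import Groth.Agent.S10649
import Groth.Agent.S9952
import Groth.Agent.Lib.Helper17.DiagLft

set_option autoImplicit false
universe u
open CategoryTheory CategoryTheory.Limits AlgebraicGeometry
open AlgSp

namespace Groth.Agent.S10611

/-- Let iB : B ⟶ B' be a thickening of algebraic spaces over S (representable, every base change to a
scheme a surjective closed immersion), f' : X' ⟶ Y' a morphism of algebraic spaces over B' (via g' :
Y' ⟶ B') with Y' locally of finite type over B' and X' flat and locally of finite presentation over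
B', and f : X ⟶ Y, g : Y ⟶ B its base change to B (both squares to iB cartesian, iX ≫ f' = f ≫ iY).
Then f is proper if and only if f' is proper, and f is finite if and only if f' is finite. (The
published statement lists nine further properties with the same equivalence: representable by
schemes, quasi-compact, universally closed, separated, quasi-separated, surjective, universally
injective, affine and universally open. Since iX and iY are again thickenings and X = Y ×_{Y'} X',
those cases follow from the corresponding statements for morphisms of thickenings and are not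
restated here.) -/
theorem result {S : Scheme.{u}} {X X' Y Y' B B' : AlgSp.Space S} (iX : X ⟶ X') (iY : Y ⟶ Y') (iB : B ⟶ B')
    (f : X ⟶ Y) (f' : X' ⟶ Y') (g : Y ⟶ B) (g' : Y' ⟶ B')
    (hcX : IsPullback iX.hom (f ≫ g).hom (f' ≫ g').hom iB.hom) (hcY : IsPullback iY.hom g.hom g'.hom iB.hom)
    (w : iX ≫ f' = f ≫ iY)
    (hB : AlgSp.IsThickMor iB.hom)
    (hg' : AlgSp.LocP @LocallyOfFiniteType g'.hom)
    (hflat : AlgSp.LocP @Flat (f' ≫ g').hom) (hfp : AlgSp.LocP @LocallyOfFinitePresentation (f' ≫ g').hom) :
    (AlgSp.IsProperMor f.hom ↔ AlgSp.IsProperMor f'.hom) ∧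
    (AlgSp.IsFiniteMor f.hom ↔ AlgSp.IsFiniteMor f'.hom) := by

  have hw : iX.hom ≫ f'.hom = f.hom ≫ iY.hom := congrArg (fun φ => φ.hom) w
  have hXY : IsPullback iX.hom f.hom f'.hom iY.hom := IsPullback.of_bot hcX hw hcY
  have hiX : IsThickMor iX.hom :=
    MorphismProperty.of_isPullback (P := RepWith thick) hcX.flip hB
  have hiY : IsThickMor iY.hom :=
    MorphismProperty.of_isPullback (P := RepWith thick) hcY.flip hB
  obtain ⟨-, hqc, huc, -, -⟩ := Groth.Agent.S10587.result iX iY f f' hiX hiY w
  obtain ⟨hsep, -⟩ := Groth.Agent.S10589.result iX iY f f' hiX hiY w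
  obtain ⟨-, -, hlqf, -⟩ :=
    Groth.Agent.S10599.result iX iY iB f f' g g' hcX hcY w hB hg' hflat hfp 0
  have hlftf' : LocP @LocallyOfFiniteType f'.hom :=
    Groth.Agent.S9952.result f' g' (fun U V a b h ha hb e => by
      have : LocallyOfFinitePresentation h.left := hfp a b h ha hb e
      infer_instance)
  have hlftf : LocP @LocallyOfFiniteType f.hom :=
    Groth.Agent.Lib.Helper17.DL.lft_bc X'.property Y'.property X.property Y.property f'.hom iY.hom
      f.hom iX.hom hXY hlftf'
  have hlft : LocP @LocallyOfFiniteType f.hom ↔ LocP @LocallyOfFiniteType f'.hom :=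
    ⟨fun _ => hlftf', fun _ => hlftf⟩
  have hproper : IsProperMor f.hom ↔ IsProperMor f'.hom :=
    and_congr hsep (and_congr (and_congr hlft hqc) huc)
  refine ⟨hproper, ?_⟩
  have h1 := (Groth.Agent.S10649.result f).out 0 1
  have h2 := (Groth.Agent.S10649.result f').out 0 1
  rw [h1, h2]
  exact and_congr hproper hlqf

end Groth.Agent.S10611
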