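import Groth.Statements.S9959
import Groth.Agent.Lib.Helper79.AlgSpChart
import Groth.Agent.Lib.Helper79.LfpOfComp

set_option autoImplicit false
universe u
open CategoryTheory CategoryTheory.Limits AlgebraicGeometry
open AlgSp

namespace Groth.Agent.S9959

/-- Given X -> Y -> Z with X -> Z locally finitely presented and Y -> Z locally of finite type, X -> Y
is locally finitely presented (all three etale locally on source and target). -/
theorem result {S : Scheme.{u}} {X Y Z : AlgSp.Space S} (f : X ⟶ Y) (g : Y ⟶ Z)
    (hX : AlgSp.LocP @LocallyOfFinitePresentation (f ≫ g).hom) (hY : AlgSp.LocP @LocallyOfFiniteType g.hom) :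
    AlgSp.LocP @LocallyOfFinitePresentation f.hom := by
  intro U V a b k ha hb comm
  obtain ⟨W, c, hc, hcs⟩ := Z.property.atlas
  obtain ⟨V', e1, e, sq, he⟩ :=
    Groth.Agent.Lib.Helper79.AlgSpChart.exists_pullback_chart @Etale hc (b ≫ g.hom)
  have hes : Surjective e.left := hcs.property (b ≫ g.hom) _ e sq
  have sqO : IsPullback (pullback.fst e k) (pullback.snd e k) e k := IsPullback.of_hasPullback e k
  have hq : Etale (pullback.snd e k).left :=
    MorphismProperty.of_isPullback (P := @Etale) (sqO.map (Over.forget S)) he
  have comm' : ((AlgSp.yon S).map (pullback.snd e k) ≫ a) ≫ (f ≫ g).hom =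
      (AlgSp.yon S).map (pullback.fst e k ≫ e1) ≫ c := by
    rw [ObjectProperty.FullSubcategory.comp_hom, Category.assoc, ← Category.assoc a, comm,
      Category.assoc, ← Category.assoc, ← Functor.map_comp, ← sqO.w, Functor.map_comp,
      Category.assoc, ← sq.w, Functor.map_comp, Category.assoc]
  have hchart := hX ((AlgSp.yon S).map (pullback.snd e k) ≫ a) c (pullback.fst e k ≫ e1)
    (Groth.Agent.Lib.Helper79.AlgSpChart.repWith_map_comp @Etale _ hq ha) hc comm'
  have hchart2 : LocallyOfFiniteType e1.left :=
    hY ((AlgSp.yon S).map e ≫ b) c e1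
      (Groth.Agent.Lib.Helper79.AlgSpChart.repWith_map_comp @Etale _ he hb) hc
      (by rw [Category.assoc]; exact sq.w.symm)
  have hk' : LocallyOfFinitePresentation (pullback.fst e k).left := by
    have : LocallyOfFinitePresentation ((pullback.fst e k).left ≫ e1.left) := by
      rwa [Over.comp_left] at hchart
    exact Groth.Agent.Lib.Helper79.lfp_of_comp this hchart2
  exact Groth.Agent.Lib.Helper79.AlgSpChart.descend_of_isPullback @LocallyOfFinitePresentation
    sqO he hes hk' 

end Groth.Agent.S9959
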