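import Groth.Statements.S10601
-- import your own Groth.Agent.* helpers here
import Groth.Agent.Lib.Helper36.UnivInjEt2

set_option autoImplicit false
universe u
open CategoryTheory CategoryTheory.Limits AlgebraicGeometry
open AlgSp

namespace Groth.Agent.S10601

open Groth.Agent.Lib.Helper36.UnivInjEt Groth.Agent.Lib.Helper23.AlgSpMor
  Groth.Agent.Lib.Helper36.AlgSpChartDiag Groth.Agent.Lib.Helper17.ACov

/-- Take a morphism f : X ⟶ Y of algebraic spaces over S that is locally of finite type and such that
for every etale morphism V ⟶ Y of algebraic spaces the base change X ×_Y V ⟶ V is injective on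
points. Then f is universally injective. -/
theorem result {S : Scheme.{u}} {X Y : AlgSp.Space S} (f : X ⟶ Y)
    (hft : AlgSp.LocP @LocallyOfFiniteType f.hom)
    (hinj : ∀ (V : AlgSp.Space S) (g : V ⟶ Y), AlgSp.IsEtaleMor g.hom →
      ∀ (P : AlgSp.Sp S) (fst : P ⟶ X.obj) (snd : P ⟶ V.obj), IsPullback fst snd f.hom g.hom →
        Function.Injective (AlgSp.Points.map snd)) :
    AlgSp.IsUnivInjectiveMor f.hom := by
  obtain ⟨V, q, hqe, hqs⟩ := Y.property.atlas
  have sq : IsPullback (pullback.fst f.hom q) (pullback.snd f.hom q) f.hom q :=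
    IsPullback.of_hasPullback _ _
  have hXV : IsAlgSpace (pullback f.hom q) :=
    isAlgSpace_of_isPullback X.property (IsAlgSpace.yon_obj V) Y.property.diag sq
  apply Groth.Agent.S9940.result f V q (points_map_surjective q hqs) _ _ sq
  apply isUnivInjectiveMor_of_kInj
  apply kInj_of_isSurjectiveMor_diagonal hXV
  apply surj_diag_of_scheme_base ⟨pullback f.hom q, hXV⟩ V (pullback.snd f.hom q)
  · exact Groth.Agent.Lib.Helper46.LocPChart.locP_of_isPullback
      Groth.Agent.Lib.Helper30.EtLocalInst.etLocal_lft X.property Y.property hXV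
      (IsAlgSpace.yon_obj _) sq hft
  · intro V' g hg P fst snd hP
    have big := hP.paste_horiz sq
    exact hinj ⟨(yon S).obj V', IsAlgSpace.yon_obj V'⟩ (ObjectProperty.homMk ((yon S).map g ≫ q))
      (isEtaleMor_of_repWith _ (repWith_yon_map_comp g hg q hqe)) P _ snd big

end Groth.Agent.S10601
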