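import Groth.Statements.S10604
import Groth.Agent.Lib.Helper54.AlgSpCPF
import Groth.Agent.Lib.Helper54.CPFNoethScheme
import Groth.Agent.Lib.Helper23.AlgSpNoeth

set_option autoImplicit false
universe u
open CategoryTheory CategoryTheory.Limits AlgebraicGeometry
open AlgSp

namespace Groth.Agent.S10604
open AlgebraicGeometry CategoryTheory Limits AlgSp
open Groth.Agent.Lib.Helper54.AlgSpCPF Groth.Agent.Lib.Helper54.CPF Groth.Agent.Lib.Helper79.AlgSpChart

theorem part1 {S : Scheme.{u}} {X Y Z : AlgSp.Space S} (f : X ⟶ Y) (h : Y ⟶ Z)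
    (hX : AlgSp.IsLocNoethSp X.obj) (hYn : AlgSp.IsLocNoethSp Y.obj)
    (hfl : AlgSp.LocP @Flat (f ≫ h).hom) (hfib : FibHyp f h) :
    AlgSp.LocP @Flat f.hom := by
  intro U V a b k ha hb comm
  obtain ⟨W, c, hc, hcs⟩ := Z.property.atlas
  obtain ⟨U', V', q, e, k', pW, hq, hqs, he, hsq, ha', comm1, hb', comm2, hfibre⟩ :=
    chart_reduction f h hfib a b k ha hb comm c hc hcs
  have h1 : Flat (k'.left ≫ pW.left) := hfl _ c (k' ≫ pW) ha' hc comm1
  have h2 : IsLocallyNoetherian U'.left :=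
    Groth.Agent.Lib.Helper23.AlgSpMor.isLocallyNoetherian_of_etale_chart hX _ ha'
  have h3 : IsLocallyNoetherian V'.left :=
    Groth.Agent.Lib.Helper23.AlgSpMor.isLocallyNoetherian_of_etale_chart hYn _ hb'
  have hk' : Flat k'.left := by
    rw [Flat.iff_flat_stalkMap]
    intro x
    have := hfibre (pW.left (k'.left x))
    exact cpf_pointwise_noeth k'.left pW.left x (Flat.stalkMap _ x) (Flat.stalkMap _ _)
  have hcomp : Flat (q.left ≫ k.left) := by
    have e1 : q.left ≫ k.left = k'.left ≫ e.left := by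
      rw [← Over.comp_left, ← Over.comp_left, hsq]
    rw [e1]
    infer_instance
  exact Groth.Agent.Lib.Helper55.flat_of_comp_of_flat_of_surjective q.left k.left


/-- Let f : X ⟶ Y and h : Y ⟶ Z be morphisms of algebraic spaces over S with X, Y and Z locally
Noetherian. Assume X is flat over Z and for every field K and every z : Spec K ⟶ Z the base change
X_z ⟶ Y_z of f is flat (fibres taken as pullback squares of fppf sheaves). Then f is flat; if
moreover f is surjective, then h is flat. -/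
theorem result {S : Scheme.{u}} {X Y Z : AlgSp.Space S} (f : X ⟶ Y) (h : Y ⟶ Z)
    (hX : AlgSp.IsLocNoethSp X.obj) (hYn : AlgSp.IsLocNoethSp Y.obj) (hZ : AlgSp.IsLocNoethSp Z.obj)
    (hfl : AlgSp.LocP @Flat (f ≫ h).hom)
    (hfib : ∀ (K : Type u) [Field K] (sK : Spec (CommRingCat.of K) ⟶ S)
      (z : (AlgSp.yon S).obj (Over.mk sK) ⟶ Z.obj) (Xz Yz : AlgSp.Sp S)
      (pX : Xz ⟶ X.obj) (qX : Xz ⟶ (AlgSp.yon S).obj (Over.mk sK))
      (pY : Yz ⟶ Y.obj) (qY : Yz ⟶ (AlgSp.yon S).obj (Over.mk sK)) (fz : Xz ⟶ Yz),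
      IsPullback pX qX (f ≫ h).hom z → IsPullback pY qY h.hom z → fz ≫ pY = pX ≫ f.hom → fz ≫ qY = qX →
      AlgSp.LocP @Flat fz) :
    AlgSp.LocP @Flat f.hom ∧ (AlgSp.IsSurjectiveMor f.hom → AlgSp.LocP @Flat h.hom) := by
  have hp1 := part1 f h hX hYn hfl hfib
  refine ⟨hp1, ?_⟩
  intro hsurj V W b c m hb hc comm
  obtain ⟨U0, a0, ha0, ha0s⟩ := X.property.atlas
  obtain ⟨U, p1, p2, sq, hp2⟩ := exists_pullback_chart @Etale hb (a0 ≫ f.hom)
  have ha : RepWith @Etale ((yon S).map p2 ≫ a0) := repWith_map_comp @Etale _ hp2 ha0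
  have comm_a : ((yon S).map p2 ≫ a0) ≫ f.hom = (yon S).map p1 ≫ b := by
    rw [Category.assoc]; exact sq.w.symm
  have hflat1 : Flat p1.left := hp1 _ b p1 ha hb comm_a
  have hfh : (f ≫ h).hom = f.hom ≫ h.hom := rfl
  have comm_c : ((yon S).map p2 ≫ a0) ≫ (f ≫ h).hom = (yon S).map (p1 ≫ m) ≫ c := by
    rw [hfh, ← Category.assoc, comm_a, Category.assoc, comm, Functor.map_comp, Category.assoc]
  have hflat2 : Flat (p1.left ≫ m.left) := hfl _ c (p1 ≫ m) ha hc comm_c
  have hs0 : IsSurjectiveMor (a0 ≫ f.hom) := by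
    intro y
    obtain ⟨x, hx⟩ := hsurj y
    obtain ⟨u, hu⟩ := Groth.Agent.Lib.Helper23.AlgSpMor.isSurjectiveMor_of_repWith_surjective a0 ha0s x
    exact ⟨u, by rw [Points.map_comp, hu, hx]⟩
  have hs1 : IsSurjectiveMor ((yon S).map p1) :=
    Groth.Agent.Lib.Helper23.AlgSpMor.isSurjectiveMor_of_isPullback sq.flip hs0
  have hs2 : RepWith @Surjective ((yon S).map p1) :=
    Groth.Agent.Lib.Helper23.AlgSpMor.repWith_surjective_of_isSurjectiveMor _
      (representable_yon_map p1) hs1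
  have hsurj1 : Surjective p1.left := (repWith_yon_map_iff @Surjective p1).1 hs2
  exact Groth.Agent.Lib.Helper55.flat_of_comp_of_flat_of_surjective p1.left m.left

end Groth.Agent.S10604
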