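import Groth.Statements.S10616
import Groth.Agent.S1488
import Groth.Agent.Lib.Helper79.AlgSpFormalEtale

set_option autoImplicit false
universe u
open CategoryTheory CategoryTheory.Limits AlgebraicGeometry
open AlgSp

namespace Groth.Agent.S10616

/-- Let a : F ⟶ G be a morphism of fppf sheaves on (Sch/S). If a is representable and smooth, then a is
formally smooth; if a is representable and etale, then a is formally etale; if a is representable
and unramified, then a is formally unramified (lifting conditions against square-zero thickenings of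
affine schemes). (The published statement is for transformations of arbitrary presheaves of sets on
(Sch/S)_fppf; this row takes fppf sheaves, the case of algebraic spaces.) -/
theorem result {S : Scheme.{u}} {F G : AlgSp.Sp S} (a : F ⟶ G) :
    (AlgSp.RepWith @Smooth a → AlgSp.IsFormallySmoothMor a) ∧
    (AlgSp.RepWith @Etale a → AlgSp.IsFormallyEtaleMor a) ∧
    (AlgSp.RepWith (@LocallyOfFiniteType ⊓ @FormallyUnramified) a → AlgSp.IsFormallyUnramifiedMor a) := by
  refine ⟨?_, Groth.Agent.Lib.Helper79.AlgSpFormalEtale.formallyEtaleMor_of_repWith_etale, ?_⟩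
  · intro ha sq
    obtain ⟨R, fst, snd, pb, hsm⟩ := Groth.Agent.Lib.Helper79.AlgSpChart.exists_pullback @Smooth ha sq.bot
    have hfs : MoreMor.IsFormallySmoothHom snd.left := ((Groth.Agent.S1488.result snd.left).1 hsm).2
    obtain ⟨τ, hτ⟩ := (yon S).map_surjective (pb.lift sq.top ((yon S).map sq.j) sq.comm)
    have hτ1 : (yon S).map τ ≫ fst = sq.top := by rw [hτ, pb.lift_fst]
    have hτ2 : τ ≫ snd = sq.j := by
      apply (yon S).map_injective
      rw [Functor.map_comp, hτ, pb.lift_snd]
    have hτ2' : τ.left ≫ snd.left = Spec.map (CommRingCat.ofHom (Ideal.Quotient.mk sq.I)) :=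
      congrArg (fun k => k.left) hτ2
    obtain ⟨l₀, hl1, hl2⟩ := hfs sq.A sq.I sq.sq_zero τ.left (𝟙 _) (by
      rw [Category.comp_id, hτ2'])
    let σ : sq.ptT' ⟶ R := Over.homMk l₀ (by
      have := Over.w snd
      dsimp at this ⊢
      rw [← this, ← Category.assoc, hl2, Category.id_comp])
    have hσ1 : sq.j ≫ σ = τ := by
      apply Over.OverMorphism.ext
      exact hl1
    have hσ2 : σ ≫ snd = 𝟙 _ := by
      apply Over.OverMorphism.ext
      exact hl2
    refine ⟨(yon S).map σ ≫ fst, ?_, ?_⟩
    · rw [← Category.assoc, ← Functor.map_comp, hσ1, hτ1]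
    · rw [Category.assoc, pb.w, ← Category.assoc, ← Functor.map_comp, hσ2,
        CategoryTheory.Functor.map_id, Category.id_comp]
  · intro ha sq l l' h1 h2 h1' h2'
    obtain ⟨R, fst, snd, pb, hprop⟩ := Groth.Agent.Lib.Helper79.AlgSpChart.exists_pullback
      (@LocallyOfFiniteType ⊓ @FormallyUnramified) ha sq.bot
    haveI hfu : FormallyUnramified snd.left := hprop.2
    obtain ⟨σ₁, hσ₁⟩ := (yon S).map_surjective (pb.lift l (𝟙 _) (by rw [h2, Category.id_comp]))
    obtain ⟨σ₂, hσ₂⟩ := (yon S).map_surjective (pb.lift l' (𝟙 _) (by rw [h2', Category.id_comp]))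
    have h3 : (yon S).map σ₁ ≫ fst = l := by rw [hσ₁, pb.lift_fst]
    have h3' : (yon S).map σ₂ ≫ fst = l' := by rw [hσ₂, pb.lift_fst]
    have h4 : σ₁ ≫ snd = 𝟙 _ := by
      apply (yon S).map_injective
      rw [Functor.map_comp, hσ₁, pb.lift_snd, CategoryTheory.Functor.map_id]
    have h4' : σ₂ ≫ snd = 𝟙 _ := by
      apply (yon S).map_injective
      rw [Functor.map_comp, hσ₂, pb.lift_snd, CategoryTheory.Functor.map_id]
    have h5 : sq.j ≫ σ₁ = sq.j ≫ σ₂ := by
      apply (yon S).map_injective
      apply pb.hom_ext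
      · rw [Functor.map_comp, Category.assoc, h3, h1, Functor.map_comp, Category.assoc, h3', h1']
      · rw [← Functor.map_comp, ← Functor.map_comp, Category.assoc, h4, Category.assoc, h4']
    have hnil : IsNilpotent (Spec.map (CommRingCat.ofHom (Ideal.Quotient.mk sq.I))).ker :=
      ⟨2, by rw [pow_two]; exact Groth.Agent.Lib.Helper19.FEG.ker_specMap_mk_mul sq.I sq.sq_zero⟩
    haveI : IsClosedImmersion (Spec.map (CommRingCat.ofHom (Ideal.Quotient.mk sq.I))) :=
      IsClosedImmersion.spec_of_surjective _ Ideal.Quotient.mk_surjective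
    have h6 : σ₁.left = σ₂.left :=
      FormallyUnramified.hom_ext (Spec.map (CommRingCat.ofHom (Ideal.Quotient.mk sq.I))) hnil
        snd.left (congrArg (fun k => k.left) h5)
        ((congrArg (fun k => k.left) h4).trans (congrArg (fun k => k.left) h4').symm)
    have h7 : σ₁ = σ₂ := Over.OverMorphism.ext h6
    rw [← h3, ← h3', h7]

end Groth.Agent.S10616
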