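import Groth.Statements.S10618
import Groth.Agent.Lib.Helper7.FormalLift

set_option autoImplicit false
universe u
open CategoryTheory CategoryTheory.Limits AlgebraicGeometry
open AlgSp

namespace Groth.Agent.S10618

open Groth.Agent.Lib.Helper7.FormalLift in
theorem unram_of_comp {S : Scheme.{u}} {F G H : AlgSp.Sp S} (a : F ⟶ G) (b : G ⟶ H)
    (h : AlgSp.IsFormallyUnramifiedMor (a ≫ b)) : AlgSp.IsFormallyUnramifiedMor a := by
  intro sq l l' h1 h2 h1' h2'
  have comm : sq.top ≫ (a ≫ b) = (AlgSp.yon S).map sq.j ≫ (sq.bot ≫ b) := by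
    rw [← Category.assoc, ← Category.assoc]; exact congrArg (· ≫ b) sq.comm
  refine h (reSq sq (a ≫ b) sq.top (sq.bot ≫ b) comm) l l' h1 ?_ h1' ?_
  · rw [← Category.assoc]; exact congrArg (· ≫ b) h2
  · rw [← Category.assoc]; exact congrArg (· ≫ b) h2'

open Groth.Agent.Lib.Helper7.FormalLift in
theorem smooth_of_comp {S : Scheme.{u}} {F G H : AlgSp.Sp S} (a : F ⟶ G) (b : G ⟶ H)
    (hb : AlgSp.IsFormallyUnramifiedMor b)
    (h : AlgSp.IsFormallySmoothMor (a ≫ b)) : AlgSp.IsFormallySmoothMor a := by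
  intro sq
  have comm : sq.top ≫ (a ≫ b) = (AlgSp.yon S).map sq.j ≫ (sq.bot ≫ b) := by
    rw [← Category.assoc, ← Category.assoc]; exact congrArg (· ≫ b) sq.comm
  obtain ⟨l, hl1, hl2⟩ := h (reSq sq (a ≫ b) sq.top (sq.bot ≫ b) comm)
  refine ⟨l, hl1, ?_⟩
  have comm' : (sq.top ≫ a) ≫ b = (AlgSp.yon S).map sq.j ≫ (sq.bot ≫ b) := by
    rw [Category.assoc]; exact comm
  refine hb (reSq sq b (sq.top ≫ a) (sq.bot ≫ b) comm') (l ≫ a) sq.bot ?_ ?_ ?_ rfl
  · rw [← Category.assoc]; exact congrArg (· ≫ a) hl1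
  · rw [Category.assoc]; exact hl2
  · exact sq.comm.symm


/-- Let a : F ⟶ G and b : G ⟶ H be morphisms of fppf sheaves on (Sch/S) with b formally unramified. If a
≫ b is formally unramified, resp. formally etale, resp. formally smooth, then so is a. (The
published statement is for transformations of arbitrary presheaves of sets on (Sch/S)_fppf; this row
takes fppf sheaves, the case of algebraic spaces.) -/
theorem result {S : Scheme.{u}} {F G H : AlgSp.Sp S} (a : F ⟶ G) (b : G ⟶ H)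
    (hb : AlgSp.IsFormallyUnramifiedMor b) :
    (AlgSp.IsFormallyUnramifiedMor (a ≫ b) → AlgSp.IsFormallyUnramifiedMor a) ∧
    (AlgSp.IsFormallyEtaleMor (a ≫ b) → AlgSp.IsFormallyEtaleMor a) ∧
    (AlgSp.IsFormallySmoothMor (a ≫ b) → AlgSp.IsFormallySmoothMor a) := by
  refine ⟨unram_of_comp a b, ?_, smooth_of_comp a b hb⟩
  intro h
  rw [Groth.Agent.Lib.Helper7.FormalLift.etale_iff] at h ⊢
  exact ⟨smooth_of_comp a b hb h.1, unram_of_comp a b h.2⟩

end Groth.Agent.S10618
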