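import Groth.Statements.S10619
-- no extra imports

set_option autoImplicit false
universe u
open CategoryTheory CategoryTheory.Limits AlgebraicGeometry
open AlgSp

namespace Groth.Agent.S10619

/-- composite lifting: helper squares -/
noncomputable def sqB {S : Scheme.{u}} {F G H : AlgSp.Sp S} {a : F ⟶ G} {b : G ⟶ H}
    (sq : AlgSp.InfSq (a ≫ b)) : AlgSp.InfSq b where
  A := sq.A
  I := sq.I
  sq_zero := sq.sq_zero
  str := sq.str
  top := sq.top ≫ a
  bot := sq.bot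
  comm := by rw [Category.assoc]; exact sq.comm

noncomputable def sqA {S : Scheme.{u}} {F G H : AlgSp.Sp S} {a : F ⟶ G} {b : G ⟶ H}
    (sq : AlgSp.InfSq (a ≫ b)) (l : (AlgSp.yon S).obj sq.ptT' ⟶ G)
    (hl : (AlgSp.yon S).map sq.j ≫ l = sq.top ≫ a) : AlgSp.InfSq a where
  A := sq.A
  I := sq.I
  sq_zero := sq.sq_zero
  str := sq.str
  top := sq.top
  bot := l
  comm := hl.symm

theorem smooth_comp {S : Scheme.{u}} {F G H : AlgSp.Sp S} (a : F ⟶ G) (b : G ⟶ H)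
    (ha : AlgSp.IsFormallySmoothMor a) (hb : AlgSp.IsFormallySmoothMor b) :
    AlgSp.IsFormallySmoothMor (a ≫ b) := by
  intro sq
  obtain ⟨l, hl1, hl2⟩ := hb (sqB sq)
  obtain ⟨m, hm1, hm2⟩ := ha (sqA sq l hl1)
  refine ⟨m, hm1, ?_⟩
  rw [← Category.assoc]
  exact (congrArg (· ≫ b) hm2).trans hl2

theorem unram_comp {S : Scheme.{u}} {F G H : AlgSp.Sp S} (a : F ⟶ G) (b : G ⟶ H)
    (ha : AlgSp.IsFormallyUnramifiedMor a) (hb : AlgSp.IsFormallyUnramifiedMor b) :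
    AlgSp.IsFormallyUnramifiedMor (a ≫ b) := by
  intro sq l l' h1 h2 h1' h2'
  have e : l ≫ a = l' ≫ a := by
    refine hb (sqB sq) (l ≫ a) (l' ≫ a) ?_ ?_ ?_ ?_
    · rw [← Category.assoc]; exact congrArg (· ≫ a) h1
    · rw [Category.assoc]; exact h2
    · rw [← Category.assoc]; exact congrArg (· ≫ a) h1'
    · rw [Category.assoc]; exact h2'
  have hl : (AlgSp.yon S).map sq.j ≫ (l ≫ a) = sq.top ≫ a := by
    rw [← Category.assoc]; exact congrArg (· ≫ a) h1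
  exact ha (sqA sq (l ≫ a) hl) l l' h1 rfl h1' e.symm

theorem uniqLift_iff {S : Scheme.{u}} {F G : AlgSp.Sp S} {f : F ⟶ G} (sq : AlgSp.InfSq f) :
    sq.HasUniqLift ↔ sq.HasLift ∧ sq.HasUniq := by
  constructor
  · rintro ⟨l, ⟨h1, h2⟩, hu⟩
    refine ⟨⟨l, h1, h2⟩, ?_⟩
    intro m m' a1 a2 b1 b2
    rw [hu m ⟨a1, a2⟩, hu m' ⟨b1, b2⟩]
  · rintro ⟨⟨l, h1, h2⟩, hu⟩
    exact ⟨l, ⟨h1, h2⟩, fun m hm => hu m l hm.1 hm.2 h1 h2⟩

theorem etale_iff {S : Scheme.{u}} {F G : AlgSp.Sp S} (f : F ⟶ G) :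
    AlgSp.IsFormallyEtaleMor f ↔ AlgSp.IsFormallySmoothMor f ∧ AlgSp.IsFormallyUnramifiedMor f := by
  constructor
  · intro h
    exact ⟨fun sq => ((uniqLift_iff sq).1 (h sq)).1, fun sq => ((uniqLift_iff sq).1 (h sq)).2⟩
  · rintro ⟨h1, h2⟩ sq
    exact (uniqLift_iff sq).2 ⟨h1 sq, h2 sq⟩


/-- A composition of formally smooth, resp. formally etale, resp. formally unramified morphisms of fppf
sheaves on (Sch/S) is again formally smooth, resp. formally etale, resp. formally unramified. (The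
published statement is for transformations of arbitrary presheaves of sets on (Sch/S)_fppf; this row
takes fppf sheaves, the case of algebraic spaces.) -/
theorem result {S : Scheme.{u}} {F G H : AlgSp.Sp S} (a : F ⟶ G) (b : G ⟶ H) :
    (AlgSp.IsFormallySmoothMor a → AlgSp.IsFormallySmoothMor b → AlgSp.IsFormallySmoothMor (a ≫ b)) ∧
    (AlgSp.IsFormallyEtaleMor a → AlgSp.IsFormallyEtaleMor b → AlgSp.IsFormallyEtaleMor (a ≫ b)) ∧
    (AlgSp.IsFormallyUnramifiedMor a → AlgSp.IsFormallyUnramifiedMor b → AlgSp.IsFormallyUnramifiedMor (a ≫ b)) := by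
  refine ⟨smooth_comp a b, ?_, unram_comp a b⟩
  intro ha hb
  rw [etale_iff] at ha hb ⊢
  exact ⟨smooth_comp a b ha.1 hb.1, unram_comp a b ha.2 hb.2⟩

end Groth.Agent.S10619
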