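import Groth.Statements.S10620
import Groth.Agent.Lib.Helper7.FormalLift

set_option autoImplicit false
universe u
open CategoryTheory CategoryTheory.Limits AlgebraicGeometry
open AlgSp

namespace Groth.Agent.S10620

open Groth.Agent.Lib.Helper7.FormalLift in
theorem smooth_bc {S : Scheme.{u}} {F G H P : AlgSp.Sp S} (a : F ⟶ G) (b : H ⟶ G)
    (b' : P ⟶ F) (a' : P ⟶ H) (hP : IsPullback b' a' a b)
    (h : AlgSp.IsFormallySmoothMor a) : AlgSp.IsFormallySmoothMor a' := by
  intro sq
  have comm : (sq.top ≫ b') ≫ a = (AlgSp.yon S).map sq.j ≫ (sq.bot ≫ b) := by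
    rw [Category.assoc, hP.w, ← Category.assoc, ← Category.assoc]
    exact congrArg (· ≫ b) sq.comm
  obtain ⟨l, hl1, hl2⟩ := h (reSq sq a (sq.top ≫ b') (sq.bot ≫ b) comm)
  refine ⟨hP.lift l sq.bot hl2, ?_, hP.lift_snd _ _ _⟩
  apply hP.hom_ext
  · rw [Category.assoc, hP.lift_fst]; exact hl1
  · rw [Category.assoc, hP.lift_snd]; exact sq.comm.symm

open Groth.Agent.Lib.Helper7.FormalLift in
theorem unram_bc {S : Scheme.{u}} {F G H P : AlgSp.Sp S} (a : F ⟶ G) (b : H ⟶ G)
    (b' : P ⟶ F) (a' : P ⟶ H) (hP : IsPullback b' a' a b)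
    (h : AlgSp.IsFormallyUnramifiedMor a) : AlgSp.IsFormallyUnramifiedMor a' := by
  intro sq l l' h1 h2 h1' h2'
  have comm : (sq.top ≫ b') ≫ a = (AlgSp.yon S).map sq.j ≫ (sq.bot ≫ b) := by
    rw [Category.assoc, hP.w, ← Category.assoc, ← Category.assoc]
    exact congrArg (· ≫ b) sq.comm
  apply hP.hom_ext
  · refine h (reSq sq a (sq.top ≫ b') (sq.bot ≫ b) comm) (l ≫ b') (l' ≫ b') ?_ ?_ ?_ ?_
    · rw [← Category.assoc]; exact congrArg (· ≫ b') h1
    · rw [Category.assoc, hP.w, ← Category.assoc]; exact congrArg (· ≫ b) h2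
    · rw [← Category.assoc]; exact congrArg (· ≫ b') h1'
    · rw [Category.assoc, hP.w, ← Category.assoc]; exact congrArg (· ≫ b) h2'
  · exact h2.trans h2'.symm


/-- Let a : F ⟶ G and b : H ⟶ G be morphisms of fppf sheaves on (Sch/S) and let a' : P ⟶ H be the base
change of a along b (any pullback square). If a is formally smooth, resp. formally etale, resp.
formally unramified, then so is a'. (The published statement is for transformations of arbitrary
presheaves of sets on (Sch/S)_fppf; this row takes fppf sheaves, the case of algebraic spaces.) -/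
theorem result {S : Scheme.{u}} {F G H P : AlgSp.Sp S} (a : F ⟶ G) (b : H ⟶ G)
    (b' : P ⟶ F) (a' : P ⟶ H) (hP : IsPullback b' a' a b) :
    (AlgSp.IsFormallySmoothMor a → AlgSp.IsFormallySmoothMor a') ∧
    (AlgSp.IsFormallyEtaleMor a → AlgSp.IsFormallyEtaleMor a') ∧
    (AlgSp.IsFormallyUnramifiedMor a → AlgSp.IsFormallyUnramifiedMor a') := by
  refine ⟨smooth_bc a b b' a' hP, ?_, unram_bc a b b' a' hP⟩
  intro h
  rw [Groth.Agent.Lib.Helper7.FormalLift.etale_iff] at h ⊢
  exact ⟨smooth_bc a b b' a' hP h.1, unram_bc a b b' a' hP h.2⟩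

end Groth.Agent.S10620
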