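import Groth.Statements.S10624
import Groth.Agent.Lib.Helper79.AlgSpFormalLift

set_option autoImplicit false
universe u
open CategoryTheory CategoryTheory.Limits AlgebraicGeometry
open AlgSp

namespace Groth.Agent.S10624

/-- Let f : X ⟶ Y be a formally unramified morphism of algebraic spaces over S and let j : T ⟶ T' be a
first order thickening of algebraic spaces (not necessarily affine schemes) with a : T ⟶ X, b : T' ⟶
Y and a ≫ f = j ≫ b. Then any two morphisms l, l' : T' ⟶ X with j ≫ l = a = j ≫ l' and l ≫ f = b =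
l' ≫ f are equal. -/
theorem result {S : Scheme.{u}} {X Y : AlgSp.Space S} (f : X ⟶ Y)
    (hf : AlgSp.IsFormallyUnramifiedMor f.hom) {T T' : AlgSp.Space S} (j : T ⟶ T') (hj : AlgSp.IsFOThickMor j.hom)
    (a : T ⟶ X) (b : T' ⟶ Y) (w : a ≫ f = j ≫ b)
    (l l' : T' ⟶ X) (h1 : j ≫ l = a) (h2 : l ≫ f = b) (h3 : j ≫ l' = a) (h4 : l' ≫ f = b) : l = l' := by
  apply ObjectProperty.hom_ext
  exact Groth.Agent.Lib.Helper79.AlgSpFormalLift.uniq_lift f.hom j.hom a.hom b.hom hf T'.property hj
    l.hom l'.hom (congrArg (fun k => k.hom) h1) (congrArg (fun k => k.hom) h2)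
    (congrArg (fun k => k.hom) h3) (congrArg (fun k => k.hom) h4)

end Groth.Agent.S10624
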