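import Groth.Statements.S10626
import Groth.Agent.Lib.Helper79.AlgSpFormalYon
import Groth.Agent.Lib.Helper57.FlatThick

set_option autoImplicit false
universe u
open CategoryTheory CategoryTheory.Limits AlgebraicGeometry
open AlgSp

namespace Groth.Agent.S10626

/-- An unramified and flat morphism of algebraic spaces over S is formally etale (lifting sense). -/
theorem result {S : Scheme.{u}} {X Y : AlgSp.Space S} (f : X ⟶ Y)
    (h1 : AlgSp.LocP (@LocallyOfFiniteType ⊓ @FormallyUnramified) f.hom) (h2 : AlgSp.LocP @Flat f.hom) :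
    AlgSp.IsFormallyEtaleMor f.hom := by
  refine Groth.Agent.Lib.Helper79.AlgSpFormalYon.formallyEtaleMor_of_locP f.hom X.property
    Y.property fun U V a b h ha hb comm => ?_
  have hlu := h1 a b h ha hb comm
  haveI : LocallyOfFiniteType h.left := hlu.1
  haveI : FormallyUnramified h.left := hlu.2
  haveI : Flat h.left := h2 a b h ha hb comm
  intro A _ I hI a₀ b₀ w
  exact Groth.Agent.Lib.Helper57.FlatThick.existsUnique_lift h.left _
    (Groth.Agent.Lib.Helper79.AlgSpFormalEtale.isFirstOrderThickening_specMk I hI).1 a₀ b₀ w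

end Groth.Agent.S10626
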