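import Groth.Statements.S10627
import Groth.Agent.Lib.Helper79.AlgSpFormalYon
import Groth.Agent.Lib.Helper30.AlgSpEtaleMor

set_option autoImplicit false
universe u
open CategoryTheory CategoryTheory.Limits AlgebraicGeometry
open AlgSp

namespace Groth.Agent.S10627

/-- A morphism f : X ⟶ Y of algebraic spaces over S is etale if and only if it is locally of finite
presentation and formally etale (lifting sense). -/
theorem result {S : Scheme.{u}} {X Y : AlgSp.Space S} (f : X ⟶ Y) :
    AlgSp.IsEtaleMor f.hom ↔ AlgSp.LocP @LocallyOfFinitePresentation f.hom ∧ AlgSp.IsFormallyEtaleMor f.hom := by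
  rw [Groth.Agent.Lib.Helper30.AlgSpEtaleMor.isEtaleMor_iff_locP_etale Y.property]
  constructor
  · intro H
    refine ⟨fun U V a b h ha hb comm => ?_, ?_⟩
    · exact ((Groth.Agent.Lib.Helper19.FEG.etale_iff h.left).1 (H a b h ha hb comm)).1
    · refine Groth.Agent.Lib.Helper79.AlgSpFormalYon.formallyEtaleMor_of_locP f.hom X.property
        Y.property fun U V a b h ha hb comm => ?_
      exact ((Groth.Agent.Lib.Helper19.FEG.etale_iff h.left).1 (H a b h ha hb comm)).2
  · rintro ⟨H1, H2⟩ U V a b h ha hb comm
    exact (Groth.Agent.Lib.Helper19.FEG.etale_iff h.left).2 ⟨H1 a b h ha hb comm,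
      Groth.Agent.Lib.Helper79.AlgSpFormalYon.locP_of_formallyEtaleMor f.hom H2 a b h ha hb comm⟩

end Groth.Agent.S10627
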