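import Groth.Statements.S10628
import Groth.Agent.Lib.Helper79.AlgSpFormalYon
import Groth.Agent.Lib.Helper30.AlgSpEtaleMor

set_option autoImplicit false
universe u
open CategoryTheory CategoryTheory.Limits AlgebraicGeometry
open AlgSp

namespace Groth.Agent.S10628

/-- Take a formally smooth morphism f : X ⟶ Y of algebraic spaces over S, and let p : U ⟶ X and q : V ⟶
Y be etale morphisms of algebraic spaces with ψ : U ⟶ V such that ψ ≫ q = p ≫ f. Then ψ is formally
smooth. -/
theorem result {S : Scheme.{u}} {X Y U V : AlgSp.Space S} (f : X ⟶ Y)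
    (hf : AlgSp.IsFormallySmoothMor f.hom) (p : U ⟶ X) (q : V ⟶ Y) (hp : AlgSp.IsEtaleMor p.hom) (hq : AlgSp.IsEtaleMor q.hom)
    (ψ : U ⟶ V) (w : ψ ≫ q = p ≫ f) : AlgSp.IsFormallySmoothMor ψ.hom := by
  have etale_of : ∀ {A B : AlgSp.Space S} (k : A ⟶ B), AlgSp.IsEtaleMor k.hom →
      AlgSp.IsFormallyEtaleMor k.hom := by
    intro A B k hk
    refine Groth.Agent.Lib.Helper79.AlgSpFormalYon.formallyEtaleMor_of_locP k.hom A.property
      B.property fun U V a b h ha hb comm => ?_
    exact ((Groth.Agent.Lib.Helper19.FEG.etale_iff h.left).1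
      (Groth.Agent.Lib.Helper30.AlgSpEtaleMor.locP_etale_of_isEtaleMor k.hom hk a b h ha hb comm)).2
  have hpe := etale_of p hp
  have hqe := etale_of q hq
  refine Groth.Agent.Lib.Helper37.AlgSpFormal.smooth_of_comp ψ.hom q.hom
    (Groth.Agent.Lib.Helper37.AlgSpFormal.unramified_of_etale hqe) ?_
  have hw : ψ.hom ≫ q.hom = p.hom ≫ f.hom := congrArg (fun k => k.hom) w
  rw [hw]
  exact Groth.Agent.Lib.Helper37.AlgSpFormal.smooth_comp p.hom f.hom
    (Groth.Agent.Lib.Helper37.AlgSpFormal.smooth_of_etale hpe) hf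

end Groth.Agent.S10628
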