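import Groth.Statements.S10631
import Groth.Agent.Lib.Helper79.AlgSpFormalLift

set_option autoImplicit false
universe u
open CategoryTheory CategoryTheory.Limits AlgebraicGeometry
open AlgSp

namespace Groth.Agent.S10631

/-- Consider morphisms Z ⟶ Y ⟶ X of algebraic spaces over S. If (i : Z ⟶ Z', h' : Z' ⟶ Y) is, over Y, a
universal first order thickening of Z and g : Y ⟶ X is formally etale, then (i, h' ≫ g) is, over X,
a universal first order thickening of Z. -/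
theorem result {S : Scheme.{u}} {Z Z' Y X : AlgSp.Space S} (hZ : Z ⟶ Y) (g : Y ⟶ X)
    (i : Z ⟶ Z') (h' : Z' ⟶ Y) (HU : AlgSp.IsUnivFOThick hZ.hom i.hom h'.hom) (hg : AlgSp.IsFormallyEtaleMor g.hom) :
    AlgSp.IsUnivFOThick (hZ ≫ g).hom i.hom (h' ≫ g).hom := by
  obtain ⟨hi, hcomp, huniv⟩ := HU
  refine ⟨hi, ?_, ?_⟩
  · change i.hom ≫ h'.hom ≫ g.hom = hZ.hom ≫ g.hom
    rw [← Category.assoc, hcomp]
  · intro T T' hT hT' j a b hj w
    change j ≫ b = a ≫ hZ.hom ≫ g.hom at w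
    obtain ⟨b', ⟨hb1, hb2⟩, hbu⟩ := Groth.Agent.Lib.Helper79.AlgSpFormalLift.existsUnique_lift g.hom j
      (a ≫ hZ.hom) b hg hT' hj (by rw [Category.assoc, w])
    obtain ⟨a', ⟨ha1, ha2⟩, hau⟩ := huniv hT hT' j a b' hj hb1
    refine ⟨a', ⟨ha1, ?_⟩, ?_⟩
    · change a' ≫ h'.hom ≫ g.hom = b
      rw [← Category.assoc, ha2, hb2]
    · intro a'' ha''
      have h2 : a'' ≫ h'.hom ≫ g.hom = b := ha''.2
      have hb'' : a'' ≫ h'.hom = b' := by
        apply hbu
        refine ⟨?_, by rw [Category.assoc, h2]⟩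
        rw [← Category.assoc, ha''.1, Category.assoc, hcomp]
      exact hau a'' ⟨ha''.1, hb''⟩

end Groth.Agent.S10631
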