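import Groth.Statements.S10640
-- import your own Groth.Agent.* helpers here
import Groth.Agent.S10639
import Groth.Agent.S10262
import Groth.Agent.S9938
import Groth.Agent.Lib.Helper36.DiagMap
import Groth.Agent.Lib.Helper36.OpenImmIso

set_option autoImplicit false
universe u
open CategoryTheory CategoryTheory.Limits AlgebraicGeometry
open AlgSp

namespace Groth.Agent.S10640

open Groth.Agent.Lib.Helper36.AlgSpCharts Groth.Agent.Lib.Helper36.AlgSpChartDiag
  Groth.Agent.Lib.Helper36.AlgSpHasAtMor Groth.Agent.Lib.Helper37.AlgSpPoints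
  Groth.Agent.Lib.Helper36.OpenSubspace Groth.Agent.S10312 Groth.Agent.S10639
  Groth.Agent.Lib.Helper36.DiagMap Groth.Agent.Lib.Helper5.LargestOpenSp

variable {S : Scheme.{u}}

/-- The general form of `exists_diag_map` for arbitrary pullback squares. -/
theorem exists_diag_map' (Pm : MorphismProperty (Sp S)) [Pm.IsStableUnderBaseChange]
    [Pm.IsStableUnderComposition] {X₀ X Y P₀ P : Sp S} (i : X₀ ⟶ X) (f : X ⟶ Y) (hi : Pm i)
    {a0 a1 : P₀ ⟶ X₀} (sq₀ : IsPullback a0 a1 (i ≫ f) (i ≫ f))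
    {b0 b1 : P ⟶ X} (sq : IsPullback b0 b1 f f) :
    ∃ c : P₀ ⟶ P, Pm c ∧ c ≫ b0 = a0 ≫ i ∧ c ≫ b1 = a1 ≫ i := by
  have w : i ≫ f = (i ≫ f) ≫ 𝟙 Y := (Category.comp_id _).symm
  have sqZ : IsPullback (i ≫ f) (𝟙 X₀) (𝟙 Y) (i ≫ f) :=
    IsPullback.of_vert_isIso ⟨by rw [Category.id_comp, Category.comp_id]⟩
  obtain ⟨iA, hiA, eA2, eA1⟩ := exists_lift_of_isPullback Pm i (𝟙 Y) (i ≫ f) f hi w sqZ
    sq₀ (IsPullback.of_hasPullback f (i ≫ f))
  have sqZ' : IsPullback f (𝟙 X) (𝟙 Y) f :=
    IsPullback.of_vert_isIso ⟨by rw [Category.id_comp, Category.comp_id]⟩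
  obtain ⟨iB, hiB, eB2, eB1⟩ := exists_lift_of_isPullback Pm i (𝟙 Y) (i ≫ f) f hi w sqZ'
    (IsPullback.of_hasPullback f (i ≫ f)).flip sq.flip
  refine ⟨iA ≫ iB, Pm.comp_mem _ _ hiA hiB, ?_, ?_⟩
  · rw [Category.assoc, eB2, Category.comp_id, eA1]
  · rw [Category.assoc, eB1, ← Category.assoc, eA2, Category.comp_id]

/-- On an open subspace contained in the unramified locus, `f` is unramified. -/
theorem locP_unram_openSub {X Y : AlgSp.Space S} (f : X ⟶ Y) (T : Set (Points X.obj))
    (hT : IsOpen T) (hsub : ∀ x ∈ T, HasAtMor QU f.hom x) :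
    LocP (@LocallyOfFiniteType ⊓ @FormallyUnramified) (openSubι X.obj T ≫ f.hom) := by
  intro U V a' b h' ha' hb w
  have hι : RepWith @Etale (openSubι X.obj T) :=
    repWith_etale_of_openImm _ (repWith_isOpenImmersion_openSubι X.obj T hT)
  have ha : RepWith @Etale (a' ≫ openSubι X.obj T) :=
    (RepWith @Etale).comp_mem _ _ ha' hι
  have w' : (a' ≫ openSubι X.obj T) ≫ f.hom = (yon S).map h' ≫ b := by
    rw [Category.assoc]; exact w
  have key : ∀ u : ↥U.left, QU U.left V.left h'.left u := fun u =>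
    (hasAtMor_QU_iff_of_chart f _ b h' ha hb w' u).1
      (hsub _ (ofPt_comp_openSubι_mem X.obj T a' u))
  choose W hW1 hW2 hW3 using key
  have hsup : iSup W = ⊤ := by
    rw [eq_top_iff]
    intro u _
    exact TopologicalSpace.Opens.mem_iSup.2 ⟨u, hW1 u⟩
  exact ⟨IsZariskiLocalAtSource.of_iSup_eq_top W hsup hW2,
    IsZariskiLocalAtSource.of_iSup_eq_top W hsup hW3⟩

/-- For morphisms f : X ⟶ Y, p : X ⟶ Z and q : Y ⟶ Z of algebraic spaces over S with f ≫ q = p, write XX
= X ×_Y X with projections pr0, pr1, and assume that p is closed and locally of finite type and that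
the composite XX ⟶ X ⟶ Z (through pr1 and p) is closed as well. Then there is an open subspace W of
Z with the following property: a morphism of algebraic spaces g : Z' ⟶ Z factors through W exactly
when the base change X' ⟶ Y' of f along g is unramified and universally injective. Here the base
change of f along g is any f' : X' ⟶ Y' obtained from pullback squares Y' = Y ×_Z Z' and X' = X ×_Y
Y' of algebraic spaces over S, and W ⊂ Z is given as a representable open immersion w : W ⟶ Z. -/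
theorem result {S : Scheme.{u}} {X Y Z : AlgSp.Space S}
    (f : X ⟶ Y) (p : X ⟶ Z) (q : Y ⟶ Z) (hc : f ≫ q = p)
    (XX : AlgSp.Space S) (pr0 pr1 : XX ⟶ X) (hXX : IsPullback pr0.hom pr1.hom f.hom f.hom)
    (hp1 : AlgSp.LocP @LocallyOfFiniteType p.hom) (hp2 : AlgSp.IsClosedMor p.hom)
    (hp3 : AlgSp.IsClosedMor (pr1 ≫ p).hom) :
    ∃ (W : AlgSp.Space S) (w : W ⟶ Z), AlgSp.RepWith @IsOpenImmersion w.hom ∧
      ∀ (Z' : AlgSp.Space S) (g : Z' ⟶ Z),
        (∃ k : Z' ⟶ W, k ≫ w = g) ↔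
          ∀ (Y' : AlgSp.Space S) (gY : Y' ⟶ Y) (q' : Y' ⟶ Z'),
            IsPullback gY.hom q'.hom q.hom g.hom →
            ∀ (X' : AlgSp.Space S) (gX : X' ⟶ X) (f' : X' ⟶ Y'),
              IsPullback gX.hom f'.hom f.hom gY.hom →
                (AlgSp.LocP (@LocallyOfFiniteType ⊓ @FormallyUnramified) f'.hom ∧ AlgSp.IsUnivInjectiveMor f'.hom) := by
  -- the unramified locus of f
  set T : Set (Points X.obj) := {x | HasAtMor QU f.hom x} with hT
  have hTopen : IsOpen T :=
    (Groth.Agent.S10312.result f p q hc hp1 (𝟙 Z) (𝟙 Y) q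
      (IsPullback.of_horiz_isIso ⟨by simp⟩) (𝟙 X) f (IsPullback.of_horiz_isIso ⟨by simp⟩)).1
  have hpq : p.hom = f.hom ≫ q.hom := by rw [← hc]; rfl
  -- the diagonal
  obtain ⟨δ, hδ0, hδ1⟩ : ∃ δ : X.obj ⟶ XX.obj, δ ≫ pr0.hom = 𝟙 _ ∧ δ ≫ pr1.hom = 𝟙 _ :=
    ⟨hXX.lift (𝟙 _) (𝟙 _) rfl, hXX.lift_fst _ _ _, hXX.lift_snd _ _ _⟩
  -- the open subspace on the unramified locus
  have hXT : IsAlgSpace (openSub X.obj T) := isAlgSpace_openSub X.obj X.property T hTopen
  let XT : AlgSp.Space S := ⟨openSub X.obj T, hXT⟩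
  let j : XT ⟶ X := ObjectProperty.homMk (openSubι X.obj T)
  have hj : RepWith @IsOpenImmersion j.hom := repWith_isOpenImmersion_openSubι X.obj T hTopen
  have hfT : LocP (@LocallyOfFiniteType ⊓ @FormallyUnramified) (j ≫ f).hom :=
    locP_unram_openSub f T hTopen (fun x hx => hx)
  have hΔT : RepWith @IsOpenImmersion (pullback.diagonal (j ≫ f).hom) :=
    Groth.Agent.S10262.part1 (j ≫ f) hfT
  obtain ⟨c, hcI, c0, c1⟩ := exists_diag_map' (RepWith (S := S) @IsOpenImmersion) j.hom f.hom hj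
    (IsPullback.of_hasPullback (j.hom ≫ f.hom) (j.hom ≫ f.hom)) hXX
  have hδT : RepWith @IsOpenImmersion (pullback.diagonal (j.hom ≫ f.hom) ≫ c) :=
    (RepWith (S := S) @IsOpenImmersion).comp_mem _ _ hΔT hcI
  have eδT : pullback.diagonal (j.hom ≫ f.hom) ≫ c = j.hom ≫ δ := by
    apply hXX.hom_ext
    · rw [Category.assoc, c0, pullback.diagonal_fst_assoc, Category.assoc, hδ0, Category.comp_id]
    · rw [Category.assoc, c1, pullback.diagonal_snd_assoc, Category.assoc, hδ1, Category.comp_id]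
  rw [eδT] at hδT
  have hrange : Set.range (Points.map (j.hom ≫ δ)) = Points.map δ '' T := by
    ext t
    constructor
    · rintro ⟨x', rfl⟩
      refine ⟨Points.map j.hom x', ?_, (Points.map_comp _ _ _).symm⟩
      exact (range_map_openSubι X.obj T).subset ⟨x', rfl⟩
    · rintro ⟨x, hx, rfl⟩
      obtain ⟨x', rfl⟩ := (range_map_openSubι X.obj T).superset hx
      exact ⟨x', Points.map_comp _ _ _⟩
  have hδTopen : IsOpen (Points.map δ '' T) := by
    rw [← hrange]
    exact (qClass_isEtaleMor.isOpenMap hXT XX.property (j.hom ≫ δ)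
      (isEtaleMor_of_openImm _ hδT)).isOpen_range
  have hδinj : ∀ x : Points X.obj, Points.map pr0.hom (Points.map δ x) = x := by
    intro x
    rw [← Points.map_comp, hδ0, Points.map_id]
  have hδ1' : ∀ x : Points X.obj, Points.map (pr1 ≫ p).hom (Points.map δ x) = Points.map p.hom x := by
    intro x
    change Points.map (pr1.hom ≫ p.hom) _ = _
    rw [← Points.map_comp, ← Category.assoc, hδ1, Category.id_comp]
  set WZ : Set (Points Z.obj) := (Points.map (pr1 ≫ p).hom '' (Points.map δ '' T)ᶜ)ᶜ with hWZ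
  have hWZopen : IsOpen WZ := (hp3 _ hδTopen.isClosed_compl).isOpen_compl
  -- points of `X` over `WZ` are unramified points
  have factB : ∀ x : Points X.obj, Points.map p.hom x ∈ WZ → x ∈ T := by
    intro x hx
    by_contra hn
    refine hx ⟨Points.map δ x, ?_, hδ1' x⟩
    rintro ⟨x₀, hx₀, e⟩
    have : x₀ = x := by rw [← hδinj x₀, e, hδinj]
    exact hn (this ▸ hx₀)
  refine ⟨⟨openSub Z.obj WZ, isAlgSpace_openSub Z.obj Z.property _ hWZopen⟩,
    ObjectProperty.homMk (openSubι Z.obj WZ), repWith_isOpenImmersion_openSubι Z.obj _ hWZopen, ?_⟩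
  intro Z' g
  constructor
  · rintro ⟨k, rfl⟩ Y' gY q' sq1 X' gX f' sq2
    have factA : ∀ x' : Points X'.obj, Points.map p.hom (Points.map gX.hom x') ∈ WZ := by
      intro x'
      have h2 : Points.map p.hom (Points.map gX.hom x') =
          Points.map (k.hom ≫ openSubι Z.obj WZ) (Points.map q'.hom (Points.map f'.hom x')) := by
        rw [hpq, ← Points.map_comp, ← Points.map_comp, ← Points.map_comp, ← Category.assoc,
          sq2.w, Category.assoc]
        change _ = Points.map (f'.hom ≫ q'.hom ≫ (k ≫ ObjectProperty.homMk (openSubι Z.obj WZ)).hom) x'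
        rw [← sq1.w]
      rw [h2]
      exact range_subset_of_comp_openSubι WZ k.hom ⟨_, rfl⟩
    have hbc := (Groth.Agent.S10312.result f p q hc hp1 (k ≫ ObjectProperty.homMk (openSubι Z.obj WZ))
      gY q' sq1 gX f' sq2).2
    constructor
    · rw [locP_unram_iff_forall_hasAtMor]
      intro x'
      have : x' ∈ Points.map gX.hom ⁻¹' T := factB _ (factA x')
      rw [hT, ← hbc] at this
      exact this
    · refine ((Groth.Agent.S9938.result f').1).1 ?_
      intro K _ str a b hab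
      have hab' : a ≫ f'.hom = b ≫ f'.hom := hab
      have e1 : (a ≫ gX.hom) ≫ f.hom = (b ≫ gX.hom) ≫ f.hom := by
        rw [Category.assoc, Category.assoc, sq2.w, ← Category.assoc, ← Category.assoc, hab']
      let τ : (yon S).obj (Over.mk str) ⟶ XX.obj := hXX.lift (a ≫ gX.hom) (b ≫ gX.hom) e1
      have hτ0 : τ ≫ pr0.hom = a ≫ gX.hom := hXX.lift_fst _ _ _
      have hτ1 : τ ≫ pr1.hom = b ≫ gX.hom := hXX.lift_snd _ _ _
      have hsub : Set.range (Points.map τ) ⊆ Set.range (Points.map (j.hom ≫ δ)) := by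
        rintro _ ⟨s, rfl⟩
        rw [hrange]
        by_contra hn
        have h3 : Points.map (pr1 ≫ p).hom (Points.map τ s) ∈ WZ := by
          change Points.map (pr1.hom ≫ p.hom) _ ∈ WZ
          rw [← Points.map_comp, ← Category.assoc, hτ1, Category.assoc, Points.map_comp,
            Points.map_comp]
          exact factA _
        exact h3 ⟨_, hn, rfl⟩
      obtain ⟨l, hl⟩ := exists_lift_of_openImm (j.hom ≫ δ) hδT τ hsub
      have e2 : a ≫ gX.hom = b ≫ gX.hom := by
        rw [← hτ0, ← hτ1, ← hl, Category.assoc, Category.assoc, Category.assoc, Category.assoc,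
          hδ0, hδ1]
      exact sq2.hom_ext e2 hab'
  · intro H
    have hrangeg : Set.range (Points.map g.hom) ⊆ WZ := by
      rintro _ ⟨z', rfl⟩ ⟨t, htT, ht⟩
      -- the fibre products
      let Y' : AlgSp.Space S := ⟨pullback q.hom g.hom,
        Groth.Agent.Lib.Helper23.AlgSpMor.isAlgSpace_of_isPullback Y.property Z'.property
          Z.property.diag (IsPullback.of_hasPullback q.hom g.hom)⟩
      let gY : Y' ⟶ Y := ObjectProperty.homMk (pullback.fst q.hom g.hom)
      let q' : Y' ⟶ Z' := ObjectProperty.homMk (pullback.snd q.hom g.hom)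
      have sq1 : IsPullback gY.hom q'.hom q.hom g.hom := IsPullback.of_hasPullback q.hom g.hom
      let X' : AlgSp.Space S := ⟨pullback f.hom gY.hom,
        Groth.Agent.Lib.Helper23.AlgSpMor.isAlgSpace_of_isPullback X.property Y'.property
          Y.property.diag (IsPullback.of_hasPullback f.hom gY.hom)⟩
      let gX : X' ⟶ X := ObjectProperty.homMk (pullback.fst f.hom gY.hom)
      let f' : X' ⟶ Y' := ObjectProperty.homMk (pullback.snd f.hom gY.hom)
      have sq2 : IsPullback gX.hom f'.hom f.hom gY.hom := IsPullback.of_hasPullback f.hom gY.hom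
      obtain ⟨hun, hinj⟩ := H Y' gY q' sq1 X' gX f' sq2
      have hK := ((Groth.Agent.S9938.result f').1).2 hinj
      have hbc := (Groth.Agent.S10312.result f p q hc hp1 g gY q' sq1 gX f' sq2).2
      -- a field valued point of `XX ×_Z Z'` over `(t, z')`
      have sqP := IsPullback.of_hasPullback (pr1 ≫ p).hom g.hom
      obtain ⟨r, hr1, hr2⟩ := points_exists_of_isPullback sqP t z' ht
      obtain ⟨pt, s, hs⟩ := exists_ofPt_toHom r
      obtain ⟨τ, hτdef⟩ : ∃ τ : (yon S).obj pt.pt ⟶ XX.obj,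
        τ = pt.toHom ≫ pullback.fst (pr1 ≫ p).hom g.hom := ⟨_, rfl⟩
      obtain ⟨ζ, hζdef⟩ : ∃ ζ : (yon S).obj pt.pt ⟶ Z'.obj,
        ζ = pt.toHom ≫ pullback.snd (pr1 ≫ p).hom g.hom := ⟨_, rfl⟩
      have hτζ : τ ≫ (pr1 ≫ p).hom = ζ ≫ g.hom := by
        rw [hτdef, hζdef, Category.assoc, Category.assoc, sqP.w]
      have e1 : ((τ ≫ pr1.hom) ≫ f.hom) ≫ q.hom = ζ ≫ g.hom := by
        rw [← hτζ, Category.assoc, Category.assoc, ← hpq]
        rfl
      let y' : (yon S).obj pt.pt ⟶ Y'.obj := sq1.lift ((τ ≫ pr1.hom) ≫ f.hom) ζ e1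
      have hy'1 : y' ≫ gY.hom = (τ ≫ pr1.hom) ≫ f.hom := sq1.lift_fst _ _ _
      have e2 : (τ ≫ pr0.hom) ≫ f.hom = y' ≫ gY.hom := by
        rw [hy'1, Category.assoc, hXX.w, Category.assoc]
      let x0 : (yon S).obj pt.pt ⟶ X'.obj := sq2.lift (τ ≫ pr0.hom) y' e2
      let x1 : (yon S).obj pt.pt ⟶ X'.obj := sq2.lift (τ ≫ pr1.hom) y' hy'1.symm
      have hx0 : x0 ≫ gX.hom = τ ≫ pr0.hom := sq2.lift_fst _ _ _
      have hx1 : x1 ≫ gX.hom = τ ≫ pr1.hom := sq2.lift_fst _ _ _
      have hx01 : x0 = x1 := by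
        apply hK pt.K pt.str
        change x0 ≫ f'.hom = x1 ≫ f'.hom
        rw [sq2.lift_snd, sq2.lift_snd]
      have hτ01 : τ ≫ pr0.hom = τ ≫ pr1.hom := by rw [← hx0, ← hx1, hx01]
      have hτδ : τ = (τ ≫ pr0.hom) ≫ δ := by
        apply hXX.hom_ext
        · rw [Category.assoc, hδ0, Category.comp_id]
        · rw [Category.assoc, hδ1, Category.comp_id, hτ01]
      apply htT
      refine ⟨Points.ofPt (τ ≫ pr0.hom) s, ?_, ?_⟩
      · -- the point lies in the unramified locus
        have hx' : HasAtMor QU f'.hom (Points.ofPt x0 s) :=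
          (locP_unram_iff_forall_hasAtMor f').1 hun _
        have : Points.ofPt x0 s ∈ Points.map gX.hom ⁻¹' T := by
          rw [hT, ← hbc]; exact hx'
        have h4 : Points.map gX.hom (Points.ofPt x0 s) = Points.ofPt (τ ≫ pr0.hom) s := by
          rw [Points.map_ofPt, hx0]
        rw [← h4]
        exact this
      · rw [Points.map_ofPt, ← hτδ, ← hr1, ← hs, Points.map_ofPt, hτdef]
    obtain ⟨k, hk⟩ := exists_lift_openSub_of_range g.hom WZ hrangeg
    exact ⟨ObjectProperty.homMk k, ObjectProperty.hom_ext _ hk⟩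

end Groth.Agent.S10640
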