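import Groth.Statements.S10641
import Groth.Agent.S10614
import Groth.Agent.S10640
import Groth.Agent.Lib.Helper23.AlgSpClosed4
import Groth.Agent.Lib.Helper23.AlgSpProper

set_option autoImplicit false
universe u
open CategoryTheory CategoryTheory.Limits AlgebraicGeometry
open AlgSp

namespace Groth.Agent.S10641

/-- For morphisms f : X ⟶ Y, p : X ⟶ Z and q : Y ⟶ Z of algebraic spaces over S with f ≫ q = p, where p
is universally closed and locally of finite type and q is separated, there is an open subspace W of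
Z with the following property: a morphism of algebraic spaces g : Z' ⟶ Z factors through W exactly
when the base change X' ⟶ Y' of f along g is a closed immersion (representable, and a closed
immersion on every represented pullback). Here the base change of f along g is any f' : X' ⟶ Y'
obtained from pullback squares Y' = Y ×_Z Z' and X' = X ×_Y Y' of algebraic spaces over S, and W ⊂ Z
is given as a representable open immersion w : W ⟶ Z. -/
theorem result {S : Scheme.{u}} {X Y Z : AlgSp.Space S}
    (f : X ⟶ Y) (p : X ⟶ Z) (q : Y ⟶ Z) (hc : f ≫ q = p)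
    (hp1 : AlgSp.LocP @LocallyOfFiniteType p.hom) (hp2 : AlgSp.IsUnivClosedMor p.hom)
    (hq : AlgSp.IsSeparatedMor q.hom) :
    ∃ (W : AlgSp.Space S) (w : W ⟶ Z), AlgSp.RepWith @IsOpenImmersion w.hom ∧
      ∀ (Z' : AlgSp.Space S) (g : Z' ⟶ Z),
        (∃ k : Z' ⟶ W, k ≫ w = g) ↔
          ∀ (Y' : AlgSp.Space S) (gY : Y' ⟶ Y) (q' : Y' ⟶ Z'),
            IsPullback gY.hom q'.hom q.hom g.hom →
            ∀ (X' : AlgSp.Space S) (gX : X' ⟶ X) (f' : X' ⟶ Y'),
              IsPullback gX.hom f'.hom f.hom gY.hom →
                AlgSp.RepWith @IsClosedImmersion f'.hom := by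

  have hc' : f.hom ≫ q.hom = p.hom := by rw [← hc]; rfl
  have hfuc : IsUnivClosedMor f.hom :=
    Groth.Agent.Lib.Helper23.AlgSpMor.isUnivClosedMor_of_comp_of_isSeparatedMor X.property
      Y.property Z.property.diag f.hom q.hom (by rw [hc']; exact hp2) hq
  have sqXX : IsPullback (pullback.fst f.hom f.hom) (pullback.snd f.hom f.hom) f.hom f.hom :=
    IsPullback.of_hasPullback _ _
  have hXX : IsAlgSpace (pullback f.hom f.hom) :=
    Groth.Agent.Lib.Helper23.AlgSpMor.isAlgSpace_of_isPullback X.property X.property Y.property.diag sqXX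
  let XX : Space S := ⟨pullback f.hom f.hom, hXX⟩
  let pr0 : XX ⟶ X := ObjectProperty.homMk (pullback.fst f.hom f.hom)
  let pr1 : XX ⟶ X := ObjectProperty.homMk (pullback.snd f.hom f.hom)
  have hp2' : IsClosedMor p.hom :=
    Groth.Agent.Lib.Helper23.AlgSpMor.isClosedMap_points_of_isUnivClosedMor Z.property p.hom hp2
  have hpr1 : IsUnivClosedMor pr1.hom :=
    Groth.Agent.Lib.Helper23.AlgSpMor.isUnivClosedMor_of_isPullback sqXX hfuc
  have hp3 : IsClosedMor (pr1 ≫ p).hom :=
    Groth.Agent.Lib.Helper23.AlgSpMor.isClosedMap_points_of_isUnivClosedMor Z.property _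
      (Groth.Agent.Lib.Helper23.AlgSpMor.isUnivClosedMor_comp X.property Z.property.diag pr1.hom
        p.hom hpr1 hp2)
  obtain ⟨W, w, hw, hW⟩ := Groth.Agent.S10640.result f p q hc XX pr0 pr1 sqXX hp1 hp2' hp3
  refine ⟨W, w, hw, fun Z' g => (hW Z' g).trans ?_⟩
  refine forall_congr' fun Y' => forall_congr' fun gY => forall_congr' fun q' =>
    forall_congr' fun sqY => forall_congr' fun X' => forall_congr' fun gX =>
    forall_congr' fun f' => forall_congr' fun sqX => ?_
  have huc' : IsUnivClosedMor f'.hom :=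
    Groth.Agent.Lib.Helper23.AlgSpMor.isUnivClosedMor_of_isPullback sqX hfuc
  have h614 := (Groth.Agent.S10614.result f').2.1
  exact ⟨fun h => h614.2 ⟨huc', h⟩, fun h => (h614.1 h).2⟩

end Groth.Agent.S10641
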