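import Groth.Statements.S10642
import Groth.Agent.Lib.Helper54.AlgSpFlatPt
import Groth.Agent.Lib.Helper36.OpenSubLift
import Groth.Agent.Lib.Helper23.AlgSpMor4

set_option autoImplicit false
universe u
open CategoryTheory CategoryTheory.Limits AlgebraicGeometry
open AlgSp

namespace Groth.Agent.S10642

open Groth.Agent.Lib.Helper54.AlgSpFlatLocus Groth.Agent.Lib.Helper54.AlgSpFlatPt
open Groth.Agent.Lib.Helper36.OpenSubspace Groth.Agent.Lib.Helper37.AlgSpPoints


/-- For morphisms f : X ⟶ Y, p : X ⟶ Z and q : Y ⟶ Z of algebraic spaces over S with f ≫ q = p, where p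
is flat, closed and locally of finite presentation and q is locally of finite type, there is an open
subspace W of Z with the following property: a morphism of algebraic spaces g : Z' ⟶ Z factors
through W exactly when the base change X' ⟶ Y' of f along g is flat. Here the base change of f along
g is any f' : X' ⟶ Y' obtained from pullback squares Y' = Y ×_Z Z' and X' = X ×_Y Y' of algebraic
spaces over S, and W ⊂ Z is given as a representable open immersion w : W ⟶ Z. -/
theorem result {S : Scheme.{u}} {X Y Z : AlgSp.Space S}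
    (f : X ⟶ Y) (p : X ⟶ Z) (q : Y ⟶ Z) (hc : f ≫ q = p)
    (hp1 : AlgSp.LocP @LocallyOfFinitePresentation p.hom) (hp2 : AlgSp.LocP @Flat p.hom)
    (hp3 : AlgSp.IsClosedMor p.hom) (hq : AlgSp.LocP @LocallyOfFiniteType q.hom) :
    ∃ (W : AlgSp.Space S) (w : W ⟶ Z), AlgSp.RepWith @IsOpenImmersion w.hom ∧
      ∀ (Z' : AlgSp.Space S) (g : Z' ⟶ Z),
        (∃ k : Z' ⟶ W, k ≫ w = g) ↔
          ∀ (Y' : AlgSp.Space S) (gY : Y' ⟶ Y) (q' : Y' ⟶ Z'),
            IsPullback gY.hom q'.hom q.hom g.hom →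
            ∀ (X' : AlgSp.Space S) (gX : X' ⟶ X) (f' : X' ⟶ Y'),
              IsPullback gX.hom f'.hom f.hom gY.hom →
                AlgSp.LocP @Flat f'.hom := by
  subst hc
  have hU : IsOpen {x : AlgSp.Points X.obj | AlgSp.IsFlatAtMor f.hom x} :=
    isOpen_flatLocus f q hp1 hq
  obtain ⟨Wset, hWdef⟩ : ∃ Wset : Set (AlgSp.Points Z.obj),
      Wset = (AlgSp.Points.map (f ≫ q).hom '' {x | AlgSp.IsFlatAtMor f.hom x}ᶜ)ᶜ := ⟨_, rfl⟩
  have hW : IsOpen Wset := by
    rw [hWdef]
    exact (hp3 _ hU.isClosed_compl).isOpen_compl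
  refine ⟨⟨openSub Z.obj Wset, isAlgSpace_openSub Z.obj Z.property Wset hW⟩,
    ObjectProperty.homMk (openSubι Z.obj Wset), repWith_isOpenImmersion_openSubι _ _ hW, ?_⟩
  intro Z' g
  constructor
  · rintro ⟨k, rfl⟩ Y' gY q' hY X' gX f' hX
    have hr := range_subset_of_comp_openSubι Wset k.hom
    have hloc := flatLocus_baseChange f q hp1 hp2 hq _ f' q' gX gY hY hX
    refine locP_flat_of_forall _ fun x' => ?_
    have hmem : AlgSp.Points.map gX.hom x' ∈ {x | AlgSp.IsFlatAtMor f.hom x} := by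
      by_contra hx
      have h1 : AlgSp.Points.map (f ≫ q).hom (AlgSp.Points.map gX.hom x') ∈
          AlgSp.Points.map (f ≫ q).hom '' {x | AlgSp.IsFlatAtMor f.hom x}ᶜ := ⟨_, hx, rfl⟩
      have hsq := hX.paste_vert hY
      have h2 : AlgSp.Points.map (f ≫ q).hom (AlgSp.Points.map gX.hom x') =
          AlgSp.Points.map (k.hom ≫ openSubι Z.obj Wset)
            (AlgSp.Points.map (f'.hom ≫ q'.hom) x') := by
        rw [← AlgSp.Points.map_comp, ← AlgSp.Points.map_comp]
        congr 1
        exact hsq.w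
      have h3 : AlgSp.Points.map (f ≫ q).hom (AlgSp.Points.map gX.hom x') ∈ Wset :=
        hr ⟨_, h2.symm⟩
      rw [hWdef] at h3
      exact h3 h1
    have hx' : x' ∈ {x' | AlgSp.IsFlatAtMor f'.hom x'} := by
      rw [hloc]; exact hmem
    exact hx'
  · intro H
    have hPY : IsPullback (pullback.fst q.hom g.hom) (pullback.snd q.hom g.hom) q.hom g.hom :=
      IsPullback.of_hasPullback _ _
    have hYalg : AlgSp.IsAlgSpace (pullback q.hom g.hom) :=
      Groth.Agent.Lib.Helper23.AlgSpMor.isAlgSpace_of_isPullback Y.property Z'.property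
        Z.property.diag hPY
    have hPX : IsPullback (pullback.fst f.hom (pullback.fst q.hom g.hom))
        (pullback.snd f.hom (pullback.fst q.hom g.hom)) f.hom (pullback.fst q.hom g.hom) :=
      IsPullback.of_hasPullback _ _
    have hXalg : AlgSp.IsAlgSpace (pullback f.hom (pullback.fst q.hom g.hom)) :=
      Groth.Agent.Lib.Helper23.AlgSpMor.isAlgSpace_of_isPullback X.property hYalg
        Y.property.diag hPX
    let Y' : AlgSp.Space S := ⟨_, hYalg⟩
    let X' : AlgSp.Space S := ⟨_, hXalg⟩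
    let gY : Y' ⟶ Y := ObjectProperty.homMk (pullback.fst q.hom g.hom)
    let q' : Y' ⟶ Z' := ObjectProperty.homMk (pullback.snd q.hom g.hom)
    let gX : X' ⟶ X := ObjectProperty.homMk (pullback.fst f.hom (pullback.fst q.hom g.hom))
    let f' : X' ⟶ Y' := ObjectProperty.homMk (pullback.snd f.hom (pullback.fst q.hom g.hom))
    have hY : IsPullback gY.hom q'.hom q.hom g.hom := hPY
    have hX : IsPullback gX.hom f'.hom f.hom gY.hom := hPX
    have hfl' : AlgSp.LocP @Flat f'.hom := H Y' gY q' hY X' gX f' hX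
    have hloc := flatLocus_baseChange f q hp1 hp2 hq g f' q' gX gY hY hX
    have hrange : Set.range (AlgSp.Points.map g.hom) ⊆ Wset := by
      rintro _ ⟨z', rfl⟩
      rw [hWdef]
      rintro ⟨x, hx, hxz⟩
      have hsq : IsPullback gX.hom (f' ≫ q').hom (f ≫ q).hom g.hom := hX.paste_vert hY
      obtain ⟨x', hx'1, hx'2⟩ := points_exists_of_isPullback hsq x z' hxz
      have hx'mem : x' ∈ {x' | AlgSp.IsFlatAtMor f'.hom x'} := isFlatAtMor_of_locP _ hfl' x'
      rw [hloc] at hx'mem
      apply hx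
      rw [← hx'1]
      exact hx'mem
    obtain ⟨k, hk⟩ := exists_lift_openSub_of_range g.hom Wset hrange
    exact ⟨ObjectProperty.homMk k, by ext1; exact hk⟩

end Groth.Agent.S10642
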