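import Groth.Statements.S10643
import Groth.Agent.Lib.Helper54.AlgSpFlatPt
import Groth.Agent.Lib.Helper54.AlgSpFlatImage
import Groth.Agent.Lib.Helper36.OpenSubLift
import Groth.Agent.Lib.Helper23.AlgSpMor4

set_option autoImplicit false
universe u
open CategoryTheory CategoryTheory.Limits AlgebraicGeometry
open AlgSp

namespace Groth.Agent.S10643

open Groth.Agent.Lib.Helper54.AlgSpFlatLocus Groth.Agent.Lib.Helper54.AlgSpFlatPt
open Groth.Agent.Lib.Helper54.AlgSpFlatImage
open Groth.Agent.Lib.Helper36.OpenSubspace Groth.Agent.Lib.Helper37.AlgSpPoints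


/-- For morphisms f : X ⟶ Y, p : X ⟶ Z and q : Y ⟶ Z of algebraic spaces over S with f ≫ q = p, where p
is flat, closed and locally of finite presentation and q is closed and locally of finite type, there
is an open subspace W of Z with the following property: a morphism of algebraic spaces g : Z' ⟶ Z
factors through W exactly when the base change X' ⟶ Y' of f along g is flat and surjective (on
points). Here the base change of f along g is any f' : X' ⟶ Y' obtained from pullback squares Y' = Y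
×_Z Z' and X' = X ×_Y Y' of algebraic spaces over S, and W ⊂ Z is given as a representable open
immersion w : W ⟶ Z. -/
theorem result {S : Scheme.{u}} {X Y Z : AlgSp.Space S}
    (f : X ⟶ Y) (p : X ⟶ Z) (q : Y ⟶ Z) (hc : f ≫ q = p)
    (hp1 : AlgSp.LocP @LocallyOfFinitePresentation p.hom) (hp2 : AlgSp.LocP @Flat p.hom)
    (hp3 : AlgSp.IsClosedMor p.hom) (hq1 : AlgSp.LocP @LocallyOfFiniteType q.hom)
    (hq2 : AlgSp.IsClosedMor q.hom) :
    ∃ (W : AlgSp.Space S) (w : W ⟶ Z), AlgSp.RepWith @IsOpenImmersion w.hom ∧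
      ∀ (Z' : AlgSp.Space S) (g : Z' ⟶ Z),
        (∃ k : Z' ⟶ W, k ≫ w = g) ↔
          ∀ (Y' : AlgSp.Space S) (gY : Y' ⟶ Y) (q' : Y' ⟶ Z'),
            IsPullback gY.hom q'.hom q.hom g.hom →
            ∀ (X' : AlgSp.Space S) (gX : X' ⟶ X) (f' : X' ⟶ Y'),
              IsPullback gX.hom f'.hom f.hom gY.hom →
                (AlgSp.IsSurjectiveMor f'.hom ∧ AlgSp.LocP @Flat f'.hom) := by
  subst hc
  have hU : IsOpen {x : AlgSp.Points X.obj | AlgSp.IsFlatAtMor f.hom x} :=
    isOpen_flatLocus f q hp1 hq1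
  have hV : IsOpen (AlgSp.Points.map f.hom '' {x : AlgSp.Points X.obj | AlgSp.IsFlatAtMor f.hom x}) :=
    isOpen_image_flatLocus f q hp1 hq1
  obtain ⟨W1, hW1def⟩ : ∃ W1 : Set (AlgSp.Points Z.obj),
      W1 = (AlgSp.Points.map (f ≫ q).hom '' {x | AlgSp.IsFlatAtMor f.hom x}ᶜ)ᶜ := ⟨_, rfl⟩
  obtain ⟨W2, hW2def⟩ : ∃ W2 : Set (AlgSp.Points Z.obj),
      W2 = (AlgSp.Points.map q.hom ''
        (AlgSp.Points.map f.hom '' {x | AlgSp.IsFlatAtMor f.hom x})ᶜ)ᶜ := ⟨_, rfl⟩
  have hW1 : IsOpen W1 := by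
    rw [hW1def]
    exact (hp3 _ hU.isClosed_compl).isOpen_compl
  have hW2 : IsOpen W2 := by
    rw [hW2def]
    exact (hq2 _ hV.isClosed_compl).isOpen_compl
  have hW : IsOpen (W1 ∩ W2) := hW1.inter hW2
  refine ⟨⟨openSub Z.obj (W1 ∩ W2), isAlgSpace_openSub Z.obj Z.property _ hW⟩,
    ObjectProperty.homMk (openSubι Z.obj (W1 ∩ W2)), repWith_isOpenImmersion_openSubι _ _ hW, ?_⟩
  intro Z' g
  constructor
  · rintro ⟨k, rfl⟩ Y' gY q' hY X' gX f' hX
    have hr := range_subset_of_comp_openSubι (W1 ∩ W2) k.hom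
    have hloc := flatLocus_baseChange f q hp1 hp2 hq1 _ f' q' gX gY hY hX
    have hsq := hX.paste_vert hY
    have hflat : AlgSp.LocP @Flat f'.hom := by
      refine locP_flat_of_forall _ fun x' => ?_
      have hmem : AlgSp.Points.map gX.hom x' ∈ {x | AlgSp.IsFlatAtMor f.hom x} := by
        by_contra hx
        have h1 : AlgSp.Points.map (f ≫ q).hom (AlgSp.Points.map gX.hom x') ∈
            AlgSp.Points.map (f ≫ q).hom '' {x | AlgSp.IsFlatAtMor f.hom x}ᶜ := ⟨_, hx, rfl⟩
        have h2 : AlgSp.Points.map (f ≫ q).hom (AlgSp.Points.map gX.hom x') =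
            AlgSp.Points.map (k.hom ≫ openSubι Z.obj (W1 ∩ W2))
              (AlgSp.Points.map (f'.hom ≫ q'.hom) x') := by
          rw [← AlgSp.Points.map_comp, ← AlgSp.Points.map_comp]
          congr 1
          exact hsq.w
        have h3 : AlgSp.Points.map (f ≫ q).hom (AlgSp.Points.map gX.hom x') ∈ W1 :=
          (hr ⟨_, h2.symm⟩).1
        rw [hW1def] at h3
        exact h3 h1
      have hx' : x' ∈ {x' | AlgSp.IsFlatAtMor f'.hom x'} := by
        rw [hloc]; exact hmem
      exact hx'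
    refine ⟨?_, hflat⟩
    intro y'
    -- the image of y' in Y lies in f(Ufl)
    have hy : AlgSp.Points.map gY.hom y' ∈
        AlgSp.Points.map f.hom '' {x | AlgSp.IsFlatAtMor f.hom x} := by
      by_contra hy
      have h1 : AlgSp.Points.map q.hom (AlgSp.Points.map gY.hom y') ∈
          AlgSp.Points.map q.hom '' (AlgSp.Points.map f.hom '' {x | AlgSp.IsFlatAtMor f.hom x})ᶜ :=
        ⟨_, hy, rfl⟩
      have h2 : AlgSp.Points.map q.hom (AlgSp.Points.map gY.hom y') =
          AlgSp.Points.map (k.hom ≫ openSubι Z.obj (W1 ∩ W2)) (AlgSp.Points.map q'.hom y') := by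
        rw [← AlgSp.Points.map_comp, ← AlgSp.Points.map_comp]
        congr 1
        exact hY.w
      have h3 : AlgSp.Points.map q.hom (AlgSp.Points.map gY.hom y') ∈ W2 :=
        (hr ⟨_, h2.symm⟩).2
      rw [hW2def] at h3
      exact h3 h1
    obtain ⟨x, -, hxy⟩ := hy
    obtain ⟨x', -, hx'2⟩ := points_exists_of_isPullback hX x y' hxy
    exact ⟨x', hx'2⟩
  · intro H
    have hPY : IsPullback (pullback.fst q.hom g.hom) (pullback.snd q.hom g.hom) q.hom g.hom :=
      IsPullback.of_hasPullback _ _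
    have hYalg : AlgSp.IsAlgSpace (pullback q.hom g.hom) :=
      Groth.Agent.Lib.Helper23.AlgSpMor.isAlgSpace_of_isPullback Y.property Z'.property
        Z.property.diag hPY
    have hPX : IsPullback (pullback.fst f.hom (pullback.fst q.hom g.hom))
        (pullback.snd f.hom (pullback.fst q.hom g.hom)) f.hom (pullback.fst q.hom g.hom) :=
      IsPullback.of_hasPullback _ _
    have hXalg : AlgSp.IsAlgSpace (pullback f.hom (pullback.fst q.hom g.hom)) :=
      Groth.Agent.Lib.Helper23.AlgSpMor.isAlgSpace_of_isPullback X.property hYalg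
        Y.property.diag hPX
    let Y' : AlgSp.Space S := ⟨_, hYalg⟩
    let X' : AlgSp.Space S := ⟨_, hXalg⟩
    let gY : Y' ⟶ Y := ObjectProperty.homMk (pullback.fst q.hom g.hom)
    let q' : Y' ⟶ Z' := ObjectProperty.homMk (pullback.snd q.hom g.hom)
    let gX : X' ⟶ X := ObjectProperty.homMk (pullback.fst f.hom (pullback.fst q.hom g.hom))
    let f' : X' ⟶ Y' := ObjectProperty.homMk (pullback.snd f.hom (pullback.fst q.hom g.hom))
    have hY : IsPullback gY.hom q'.hom q.hom g.hom := hPY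
    have hX : IsPullback gX.hom f'.hom f.hom gY.hom := hPX
    obtain ⟨hsurj', hfl'⟩ := H Y' gY q' hY X' gX f' hX
    have hloc := flatLocus_baseChange f q hp1 hp2 hq1 g f' q' gX gY hY hX
    have hrange : Set.range (AlgSp.Points.map g.hom) ⊆ W1 ∩ W2 := by
      rintro _ ⟨z', rfl⟩
      constructor
      · rw [hW1def]
        rintro ⟨x, hx, hxz⟩
        have hsq : IsPullback gX.hom (f' ≫ q').hom (f ≫ q).hom g.hom := hX.paste_vert hY
        obtain ⟨x', hx'1, hx'2⟩ := points_exists_of_isPullback hsq x z' hxz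
        have hx'mem : x' ∈ {x' | AlgSp.IsFlatAtMor f'.hom x'} := isFlatAtMor_of_locP _ hfl' x'
        rw [hloc] at hx'mem
        apply hx
        rw [← hx'1]
        exact hx'mem
      · rw [hW2def]
        rintro ⟨y, hy, hyz⟩
        obtain ⟨y', hy'1, hy'2⟩ := points_exists_of_isPullback hY y z' hyz
        obtain ⟨x', rfl⟩ := hsurj' y'
        have hx'mem : x' ∈ {x' | AlgSp.IsFlatAtMor f'.hom x'} := isFlatAtMor_of_locP _ hfl' x'
        rw [hloc] at hx'mem
        apply hy
        refine ⟨AlgSp.Points.map gX.hom x', hx'mem, ?_⟩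
        rw [← hy'1, ← AlgSp.Points.map_comp, ← AlgSp.Points.map_comp, hX.w]
    obtain ⟨k, hk⟩ := exists_lift_openSub_of_range g.hom (W1 ∩ W2) hrange
    exact ⟨ObjectProperty.homMk k, by ext1; exact hk⟩

end Groth.Agent.S10643
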