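import Groth.Statements.S10644
import Groth.Agent.S10643
import Groth.Agent.Lib.Helper54.DiagBC
import Groth.Agent.Lib.Helper30.DenseEq
import Groth.Agent.Lib.Helper46.IsoFpqc
import Groth.Agent.Lib.Helper23.AlgSpProper

set_option autoImplicit false
universe u
open CategoryTheory CategoryTheory.Limits AlgebraicGeometry
open AlgSp

namespace Groth.Agent.S10644

open Groth.Agent.Lib.Helper54.AlgSpFlatLocus Groth.Agent.Lib.Helper54.DiagBC
open Groth.Agent.Lib.Helper46 Groth.Agent.Lib.Helper46.LocPChart Groth.Agent.Lib.Helper30.EtLocalInst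
open Groth.Agent.Lib.Helper23.AlgSpMor

variable {S : Scheme.{u}}

/-- cancellation: `f ≫ h` lfp and `h` lft imply `f` lfp -/
theorem locP_lfp_of_comp {X Y Z : Space S} (f : X ⟶ Y) (h : Y ⟶ Z)
    (hfp : LocP @LocallyOfFinitePresentation (f ≫ h).hom)
    (hft : LocP @LocallyOfFiniteType h.hom) : LocP @LocallyOfFinitePresentation f.hom := by
  obtain ⟨U, V, W, a, b, c, k, pW, ⟨ha, has⟩, ⟨hb, hbs⟩, ⟨hc, hcs⟩, comm1, comm2⟩ :=
    exists_atlas_tower f h
  have hfh : (f ≫ h).hom = f.hom ≫ h.hom := rfl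
  have comm3 : a ≫ (f ≫ h).hom = (yon S).map (k ≫ pW) ≫ c := by
    rw [hfh, ← Category.assoc, comm1, Category.assoc, comm2, Functor.map_comp, Category.assoc]
  have h2 : LocallyOfFinitePresentation (k.left ≫ pW.left) := hfp a c (k ≫ pW) ha hc comm3
  have h3 : LocallyOfFiniteType pW.left := hft b c pW hb hc comm2
  have h4 : LocallyOfFinitePresentation k.left :=
    Groth.Agent.Lib.Helper54.CPF.lfp_of_comp k.left pW.left
  exact locP_of_chart etLocal_lfp f.hom a b k ha has hb comm1 h4

/-- cancellation: `f ≫ h` lft implies `f` lft -/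
theorem locP_lft_of_comp {X Y Z : Space S} (f : X ⟶ Y) (h : Y ⟶ Z)
    (hft : LocP @LocallyOfFiniteType (f ≫ h).hom) : LocP @LocallyOfFiniteType f.hom := by
  obtain ⟨U, V, W, a, b, c, k, pW, ⟨ha, has⟩, ⟨hb, hbs⟩, ⟨hc, hcs⟩, comm1, comm2⟩ :=
    exists_atlas_tower f h
  have hfh : (f ≫ h).hom = f.hom ≫ h.hom := rfl
  have comm3 : a ≫ (f ≫ h).hom = (yon S).map (k ≫ pW) ≫ c := by
    rw [hfh, ← Category.assoc, comm1, Category.assoc, comm2, Functor.map_comp, Category.assoc]
  have h2 : LocallyOfFiniteType (k.left ≫ pW.left) := hft a c (k ≫ pW) ha hc comm3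
  have h4 : LocallyOfFiniteType k.left := locallyOfFiniteType_of_comp k.left pW.left
  exact locP_of_chart etLocal_lft f.hom a b k ha has hb comm1 h4

theorem locP_lft_of_lfp {F G : Sp S} (f : F ⟶ G) (h : LocP @LocallyOfFinitePresentation f) :
    LocP @LocallyOfFiniteType f := by
  intro U V a b k ha hb w
  have : LocallyOfFinitePresentation k.left := h a b k ha hb w
  infer_instance


/-- For morphisms f : X ⟶ Y, p : X ⟶ Z and q : Y ⟶ Z of algebraic spaces over S with f ≫ q = p, where p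
is flat, universally closed and locally of finite presentation and q is closed, separated and
locally of finite type, there is an open subspace W of Z with the following property: a morphism of
algebraic spaces g : Z' ⟶ Z factors through W exactly when the base change X' ⟶ Y' of f along g is
an isomorphism. Here the base change of f along g is any f' : X' ⟶ Y' obtained from pullback squares
Y' = Y ×_Z Z' and X' = X ×_Y Y' of algebraic spaces over S, and W ⊂ Z is given as a representable
open immersion w : W ⟶ Z. -/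
theorem result {S : Scheme.{u}} {X Y Z : AlgSp.Space S}
    (f : X ⟶ Y) (p : X ⟶ Z) (q : Y ⟶ Z) (hc : f ≫ q = p)
    (hp1 : AlgSp.LocP @LocallyOfFinitePresentation p.hom) (hp2 : AlgSp.LocP @Flat p.hom)
    (hp3 : AlgSp.IsUnivClosedMor p.hom) (hq1 : AlgSp.LocP @LocallyOfFiniteType q.hom)
    (hq2 : AlgSp.IsClosedMor q.hom) (hq3 : AlgSp.IsSeparatedMor q.hom) :
    ∃ (W : AlgSp.Space S) (w : W ⟶ Z), AlgSp.RepWith @IsOpenImmersion w.hom ∧
      ∀ (Z' : AlgSp.Space S) (g : Z' ⟶ Z),
        (∃ k : Z' ⟶ W, k ≫ w = g) ↔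
          ∀ (Y' : AlgSp.Space S) (gY : Y' ⟶ Y) (q' : Y' ⟶ Z'),
            IsPullback gY.hom q'.hom q.hom g.hom →
            ∀ (X' : AlgSp.Space S) (gX : X' ⟶ X) (f' : X' ⟶ Y'),
              IsPullback gX.hom f'.hom f.hom gY.hom →
                IsIso f'.hom := by
  subst hc
  have hfh : (f ≫ q).hom = f.hom ≫ q.hom := rfl
  have hflfp : LocP @LocallyOfFinitePresentation f.hom := locP_lfp_of_comp f q hp1 hq1
  have hflft : LocP @LocallyOfFiniteType f.hom := locP_lft_of_lfp _ hflfp
  have hplft : LocP @LocallyOfFiniteType (f ≫ q).hom := locP_lft_of_lfp _ hp1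
  have hfuc : IsUnivClosedMor f.hom :=
    isUnivClosedMor_of_comp_of_isSeparatedMor X.property Y.property Z.property.diag f.hom q.hom
      hp3 hq3
  have hpcl : IsClosedMor (f ≫ q).hom := isClosedMap_points_of_isUnivClosedMor Z.property _ hp3
  -- the space `D = X ×_Y X`
  have hDsq : IsPullback (pullback.fst f.hom f.hom) (pullback.snd f.hom f.hom) f.hom f.hom :=
    IsPullback.of_hasPullback _ _
  have hDalg : IsAlgSpace (pullback f.hom f.hom) :=
    isAlgSpace_of_isPullback X.property X.property Y.property.diag hDsq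
  let D : Space S := ⟨_, hDalg⟩
  let pr1 : D ⟶ X := ObjectProperty.homMk (pullback.fst f.hom f.hom)
  let Δ : X ⟶ D := ObjectProperty.homMk (pullback.diagonal f.hom)
  have hpr1lft : LocP @LocallyOfFiniteType pr1.hom :=
    locP_of_isPullback etLocal_lft X.property Y.property hDalg X.property hDsq.flip hflft
  have hpr1cl : IsClosedMap (Points.map pr1.hom) := hfuc X.property f.hom _ _ hDsq.flip
  have hq2lft : LocP @LocallyOfFiniteType (pr1 ≫ f ≫ q).hom :=
    locP_comp etLocal_lft hDalg X.property Z.property pr1.hom (f ≫ q).hom hpr1lft hplft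
  have hq2cl : IsClosedMor (pr1 ≫ f ≫ q).hom := by
    change IsClosedMap (Points.map (pr1.hom ≫ (f ≫ q).hom))
    have : Points.map (pr1.hom ≫ (f ≫ q).hom) = Points.map (f ≫ q).hom ∘ Points.map pr1.hom := by
      funext x
      exact Points.map_comp _ _ x
    rw [this]
    exact IsClosedMap.comp hpcl hpr1cl
  have hcΔ : Δ ≫ (pr1 ≫ f ≫ q) = f ≫ q := by
    ext1
    change pullback.diagonal f.hom ≫ pullback.fst f.hom f.hom ≫ (f ≫ q).hom = (f ≫ q).hom
    rw [← Category.assoc, pullback.diagonal_fst, Category.id_comp]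
  have hΔlfp : LocP @LocallyOfFinitePresentation Δ.hom := by
    refine locP_lfp_of_comp Δ pr1 ?_ hpr1lft
    have : (Δ ≫ pr1).hom = 𝟙 X.obj := pullback.diagonal_fst f.hom
    rw [this]
    exact Groth.Agent.Lib.Helper46.IsoFpqc.locP_of_isIso @LocallyOfFinitePresentation
      (fun h he => by
        have : Etale h := he
        infer_instance) (𝟙 X.obj)
  obtain ⟨W1, w1, hw1, H1⟩ := Groth.Agent.S10643.result f (f ≫ q) q rfl hp1 hp2 hpcl hq1 hq2
  obtain ⟨W2, w2, hw2, H2⟩ :=
    Groth.Agent.S10643.result Δ (f ≫ q) (pr1 ≫ f ≫ q) hcΔ hp1 hp2 hpcl hq2lft hq2cl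
  -- the intersection
  have hWsq : IsPullback (pullback.fst w1.hom w2.hom) (pullback.snd w1.hom w2.hom) w1.hom w2.hom :=
    IsPullback.of_hasPullback _ _
  have hWalg : IsAlgSpace (pullback w1.hom w2.hom) :=
    isAlgSpace_of_isPullback W1.property W2.property Z.property.diag hWsq
  have hwOI : RepWith @IsOpenImmersion (pullback.fst w1.hom w2.hom ≫ w1.hom) :=
    (RepWith (S := S) @IsOpenImmersion).comp_mem _ _
      (MorphismProperty.pullback_fst (P := RepWith @IsOpenImmersion) w1.hom w2.hom hw2) hw1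
  refine ⟨⟨_, hWalg⟩, ObjectProperty.homMk (pullback.fst w1.hom w2.hom ≫ w1.hom), hwOI, ?_⟩
  intro Z' g
  have hfact : (∃ k : Z' ⟶ (⟨_, hWalg⟩ : Space S),
      k ≫ (ObjectProperty.homMk (pullback.fst w1.hom w2.hom ≫ w1.hom) :
        (⟨_, hWalg⟩ : Space S) ⟶ Z) = g) ↔
      (∃ k1 : Z' ⟶ W1, k1 ≫ w1 = g) ∧ (∃ k2 : Z' ⟶ W2, k2 ≫ w2 = g) := by
    constructor
    · rintro ⟨k, rfl⟩
      refine ⟨⟨ObjectProperty.homMk (k.hom ≫ pullback.fst w1.hom w2.hom), ?_⟩,
        ⟨ObjectProperty.homMk (k.hom ≫ pullback.snd w1.hom w2.hom), ?_⟩⟩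
      · ext1
        change (k.hom ≫ pullback.fst w1.hom w2.hom) ≫ w1.hom =
          k.hom ≫ pullback.fst w1.hom w2.hom ≫ w1.hom
        rw [Category.assoc]
      · ext1
        change (k.hom ≫ pullback.snd w1.hom w2.hom) ≫ w2.hom =
          k.hom ≫ pullback.fst w1.hom w2.hom ≫ w1.hom
        rw [Category.assoc, pullback.condition]
    · rintro ⟨⟨k1, hk1⟩, ⟨k2, hk2⟩⟩
      have e : k1.hom ≫ w1.hom = k2.hom ≫ w2.hom := by
        have h1 := congrArg (fun m => m.hom) hk1
        have h2 := congrArg (fun m => m.hom) hk2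
        exact h1.trans h2.symm
      refine ⟨ObjectProperty.homMk (pullback.lift k1.hom k2.hom e), ?_⟩
      ext1
      change pullback.lift k1.hom k2.hom e ≫ pullback.fst w1.hom w2.hom ≫ w1.hom = g.hom
      rw [← Category.assoc, pullback.lift_fst]
      exact congrArg (fun m => m.hom) hk1
  rw [hfact, H1 Z' g, H2 Z' g]
  have hflat_of_etale : ∀ {A B : Scheme.{u}} (h : A ⟶ B), Etale h → Flat h := fun h he => by
    have : Etale h := he
    infer_instance
  -- canonical base changes
  have hPY : IsPullback (pullback.fst q.hom g.hom) (pullback.snd q.hom g.hom) q.hom g.hom :=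
    IsPullback.of_hasPullback _ _
  have hYalg : IsAlgSpace (pullback q.hom g.hom) :=
    isAlgSpace_of_isPullback Y.property Z'.property Z.property.diag hPY
  have hPX : IsPullback (pullback.fst f.hom (pullback.fst q.hom g.hom))
      (pullback.snd f.hom (pullback.fst q.hom g.hom)) f.hom (pullback.fst q.hom g.hom) :=
    IsPullback.of_hasPullback _ _
  have hXalg : IsAlgSpace (pullback f.hom (pullback.fst q.hom g.hom)) :=
    isAlgSpace_of_isPullback X.property hYalg Y.property.diag hPX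
  have hPD : IsPullback (pullback.fst (pr1 ≫ f ≫ q).hom g.hom) (pullback.snd (pr1 ≫ f ≫ q).hom g.hom)
      (pr1 ≫ f ≫ q).hom g.hom := IsPullback.of_hasPullback _ _
  have hD'alg : IsAlgSpace (pullback (pr1 ≫ f ≫ q).hom g.hom) :=
    isAlgSpace_of_isPullback hDalg Z'.property Z.property.diag hPD
  have hPX2 : IsPullback (pullback.fst Δ.hom (pullback.fst (pr1 ≫ f ≫ q).hom g.hom))
      (pullback.snd Δ.hom (pullback.fst (pr1 ≫ f ≫ q).hom g.hom)) Δ.hom
      (pullback.fst (pr1 ≫ f ≫ q).hom g.hom) := IsPullback.of_hasPullback _ _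
  have hX2alg : IsAlgSpace (pullback Δ.hom (pullback.fst (pr1 ≫ f ≫ q).hom g.hom)) :=
    isAlgSpace_of_isPullback X.property hD'alg hDalg.diag hPX2
  constructor
  · rintro ⟨HA, HB⟩ Y' gY q' hY X' gX f' hX
    obtain ⟨hs, hfl⟩ := HA Y' gY q' hY X' gX f' hX
    have hlfp' : LocP @LocallyOfFinitePresentation f'.hom :=
      locP_of_isPullback etLocal_lfp X.property Y.property X'.property Y'.property hX hflfp
    have hepi : Epi f'.hom :=
      Groth.Agent.Lib.Helper30.DenseEq.epi_of_surjective_flat_lfp X'.property Y'.property f'.hom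
        hs hfl hlfp'
    -- the diagonal part
    obtain ⟨hs2, hfl2⟩ := HB ⟨_, hD'alg⟩ (ObjectProperty.homMk (pullback.fst (pr1 ≫ f ≫ q).hom g.hom))
      (ObjectProperty.homMk (pullback.snd (pr1 ≫ f ≫ q).hom g.hom)) hPD ⟨_, hX2alg⟩
      (ObjectProperty.homMk (pullback.fst Δ.hom (pullback.fst (pr1 ≫ f ≫ q).hom g.hom)))
      (ObjectProperty.homMk (pullback.snd Δ.hom (pullback.fst (pr1 ≫ f ≫ q).hom g.hom))) hPX2
    have hlfp2 : LocP @LocallyOfFinitePresentation
        (pullback.snd Δ.hom (pullback.fst (pr1 ≫ f ≫ q).hom g.hom)) :=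
      locP_of_isPullback etLocal_lfp X.property hDalg hX2alg hD'alg hPX2 hΔlfp
    have hepi2 : Epi (pullback.snd Δ.hom (pullback.fst (pr1 ≫ f ≫ q).hom g.hom)) :=
      Groth.Agent.Lib.Helper30.DenseEq.epi_of_surjective_flat_lfp hX2alg hD'alg _ hs2 hfl2 hlfp2
    have hmonoΔ : Mono Δ.hom := mono_of_mono_fac (pullback.diagonal_fst f.hom)
    have hmono2 : Mono (pullback.snd Δ.hom (pullback.fst (pr1 ≫ f ≫ q).hom g.hom)) :=
      inferInstance
    have hiso2 : IsIso (pullback.snd Δ.hom (pullback.fst (pr1 ≫ f ≫ q).hom g.hom)) :=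
      isIso_of_mono_of_epi _
    have hmono : Mono f'.hom :=
      mono_of_isIso_diag_baseChange f.hom q.hom g.hom hY hX hPD hPX2
    exact isIso_of_mono_of_epi _
  · intro H
    have hiso : IsIso (pullback.snd f.hom (pullback.fst q.hom g.hom)) :=
      H ⟨_, hYalg⟩ (ObjectProperty.homMk (pullback.fst q.hom g.hom))
        (ObjectProperty.homMk (pullback.snd q.hom g.hom)) hPY ⟨_, hXalg⟩
        (ObjectProperty.homMk (pullback.fst f.hom (pullback.fst q.hom g.hom)))
        (ObjectProperty.homMk (pullback.snd f.hom (pullback.fst q.hom g.hom))) hPX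
    constructor
    · intro Y' gY q' hY X' gX f' hX
      have : IsIso f'.hom := H Y' gY q' hY X' gX f' hX
      exact ⟨isSurjectiveMor_of_isIso _,
        Groth.Agent.Lib.Helper46.IsoFpqc.locP_of_isIso @Flat hflat_of_etale _⟩
    · intro D' gD q2' hD X'' gX δ' hX''
      have : IsIso δ'.hom :=
        isIso_diag_baseChange_of_mono f.hom q.hom g.hom hPY hPX hD hX''
      exact ⟨isSurjectiveMor_of_isIso _,
        Groth.Agent.Lib.Helper46.IsoFpqc.locP_of_isIso @Flat hflat_of_etale _⟩

end Groth.Agent.S10644
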