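import Groth.Statements.S10653
import Groth.Agent.S1240
import Groth.Agent.Lib.Helper36.AlgSpHasAtMor
import Groth.Agent.Lib.Helper36.AlgSpChartDiag
import Groth.Agent.Lib.Helper37.AlgSpPoints
import Groth.Agent.Lib.Helper23.AlgSpMor2
import Groth.Agent.Lib.Helper23.AlgSpMor7
import Groth.Agent.Lib.Helper5.LargestOpenSp
import Groth.Agent.Lib.Helper12.AlgSpPoints2

set_option autoImplicit false
universe u
open CategoryTheory CategoryTheory.Limits AlgebraicGeometry
open AlgSp

namespace Groth.Agent.S10653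

open Groth.Agent.Lib.Helper36.AlgSpChartDiag Groth.Agent.Lib.Helper36.AlgSpHasAtMor
  Groth.Agent.Lib.Helper37.AlgSpPoints Groth.Agent.Lib.Helper23.AlgSpMor

/-- For a flat morphism f : X ⟶ Y of algebraic spaces over S which is locally of finite type, and an
open subspace j : V ⟶ Y with |V| dense in |Y| such that the base change X ×_Y V ⟶ V has relative
dimension at most d (at every point some etale chart diagram has top arrow with local fibre
dimension at most d): if either j is quasi-compact or f is locally of finite presentation, then f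
has relative dimension at most d at every point of |X|. -/
theorem result {S : Scheme.{u}} {X Y V : AlgSp.Space S} (f : X ⟶ Y) (j : V ⟶ Y) (d : ℕ)
    (hf1 : AlgSp.LocP @Flat f.hom) (hf2 : AlgSp.LocP @LocallyOfFiniteType f.hom)
    (hj1 : AlgSp.RepWith @IsOpenImmersion j.hom) (hj2 : Dense (Set.range (AlgSp.Points.map j.hom)))
    (P : AlgSp.Space S) (fst : P ⟶ X) (snd : P ⟶ V) (hP : IsPullback fst.hom snd.hom f.hom j.hom)
    (hV : ∀ x, AlgSp.HasAtMor (fun _ _ h u => FlatMor.fibreDimAt h u ≤ (d : WithBot ℕ∞)) snd.hom x)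
    (h : AlgSp.LocP @LocallyOfFinitePresentation f.hom ∨ AlgSp.IsQuasiCompactMor j.hom) :
    ∀ x, AlgSp.HasAtMor (fun _ _ h u => FlatMor.fibreDimAt h u ≤ (d : WithBot ℕ∞)) f.hom x := by
  intro x
  obtain ⟨W, V₀, a, b, k, w, hae, has, hbe, hbs, weq, hw, hv⟩ := exists_chart_diagram_at f x
  haveI hflat : Flat k.left := hf1 a b k hae hbe weq
  haveI hlft : LocallyOfFiniteType k.left := hf2 a b k hae hbe weq
  have hjopen : IsOpen (Set.range (Points.map j.hom)) := by
    rw [← Set.image_univ]
    exact isOpenMap_points_of_repWith (P := @IsOpenImmersion) (fun _ _ g hg => by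
      have : IsOpenImmersion g := hg
      exact g.isOpenEmbedding.isOpenMap) j.hom hj1 _ isOpen_univ
  let Ω : V₀.left.Opens := ⟨Points.ofPt b ⁻¹' Set.range (Points.map j.hom),
    hjopen.preimage (Points.continuous_ofPt b)⟩
  have hΩd : Dense (Ω : Set V₀.left) := hj2.preimage (isOpenMap_ofPt b hbe)
  have hfste : RepWith @Etale fst.hom := by
    have h1 : RepWith @IsOpenImmersion fst.hom :=
      MorphismProperty.of_isPullback (P := RepWith @IsOpenImmersion) hP.flip hj1
    exact Groth.Agent.Lib.Helper5.LargestOpenSp.repWith_etale_of_openImm fst.hom h1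
  have hje : RepWith @Etale j.hom :=
    Groth.Agent.Lib.Helper5.LargestOpenSp.repWith_etale_of_openImm j.hom hj1
  refine ⟨W, V₀, a, b, k, w, hae, hbe, weq, hw, ?_⟩
  refine Groth.Agent.S1240.result k.left Ω hΩd d (fun u hu => ?_) ?_ w
  · obtain ⟨v', hv'⟩ := hu
    have hfx : Points.map f.hom (Points.ofPt a u) = Points.ofPt b (k.left u) := by
      rw [Points.map_ofPt, weq, ofPt_map_comp]
    obtain ⟨p, hp1, hp2⟩ := points_exists_of_isPullback hP (Points.ofPt a u) v'
      (hfx.trans hv'.symm)
    obtain ⟨U₁, V₁, a₁, b₁, h₁, u₁, ha₁, hb₁, w₁, hu₁, hq⟩ := hV p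
    have ha₁' : RepWith @Etale (a₁ ≫ fst.hom) := (RepWith @Etale).comp_mem _ _ ha₁ hfste
    have hb₁' : RepWith @Etale (b₁ ≫ j.hom) := (RepWith @Etale).comp_mem _ _ hb₁ hje
    have w₁' : (a₁ ≫ fst.hom) ≫ f.hom = (yon S).map h₁ ≫ (b₁ ≫ j.hom) := by
      rw [Category.assoc, hP.w, ← Category.assoc, w₁, Category.assoc]
    have hpt : Points.ofPt a u = Points.ofPt (a₁ ≫ fst.hom) u₁ := by
      rw [← Points.map_ofPt, hu₁, hp1]
    exact (germMor_iff_of_ofPt_eq (isEtaleLocalGermMor_fibreDimAt (· ≤ (d : WithBot ℕ∞))) f.hom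
      a b k (a₁ ≫ fst.hom) (b₁ ≫ j.hom) h₁ hae hbe ha₁' hb₁' weq w₁' u u₁ hpt).2 hq
  · rcases h with hlfp | hqc
    · exact Or.inl (hlfp a b k hae hbe weq)
    · right
      have hjqc : RepWith @QuasiCompact j.hom :=
        Groth.Agent.Lib.Helper23.AlgSpMor.repWith_quasiCompact_of_isQuasiCompactMor j.hom hj1.rep hqc
      have sq := hj1.rep.isPullback b
      haveI hqc' : QuasiCompact (hj1.rep.snd b).left := hjqc.property b _ _ sq
      have hrange : Set.range (hj1.rep.snd b).left = (Ω : Set V₀.left) := by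
        have := Groth.Agent.Lib.Helper12.AlgSpPoints.Points.preimage_image_of_isPullback sq Set.univ
        rw [Set.image_univ, Set.preimage_univ, Set.image_univ] at this
        exact this.symm
      intro U hUc hUo
      have hc := QuasiCompact.isCompact_preimage (f := (hj1.rep.snd b).left) U hUo hUc
      have e : (Ω : Set V₀.left) ∩ U =
          (hj1.rep.snd b).left '' ((hj1.rep.snd b).left ⁻¹' U) := by
        rw [Set.image_preimage_eq_range_inter, hrange]
      rw [e]
      exact hc.image (hj1.rep.snd b).left.continuous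

end Groth.Agent.S10653
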