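import Groth.Statements.S10654
import Groth.Agent.S10653
import Groth.Agent.S10649
import Groth.Agent.S10310

set_option autoImplicit false
universe u
open CategoryTheory CategoryTheory.Limits AlgebraicGeometry
open AlgSp

namespace Groth.Agent.S10654

theorem topKrullDim_nonneg (X : Type*) [TopologicalSpace X] [Nonempty X] :
    0 ≤ topologicalKrullDim X := by
  unfold topologicalKrullDim
  have : Nonempty (TopologicalSpace.IrreducibleCloseds X) := by
    obtain ⟨x⟩ := ‹Nonempty X›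
    exact ⟨⟨closure {x}, isIrreducible_singleton.closure, isClosed_closure⟩⟩
  exact Order.krullDim_nonneg

theorem localDim_nonneg (X : Type*) [TopologicalSpace X] (x : X) : 0 ≤ FlatMor.localDim X x := by
  unfold FlatMor.localDim
  refine le_iInf fun U => ?_
  have : Nonempty (U.1 : Set X) := ⟨⟨x, U.2⟩⟩
  exact topKrullDim_nonneg _

theorem fibreDimAt_nonneg {X Y : Scheme.{u}} (f : X ⟶ Y) (x : X) : 0 ≤ FlatMor.fibreDimAt f x :=
  localDim_nonneg _ _

/-- For a flat proper morphism f : X ⟶ Y of algebraic spaces over S and an open subspace j : V ⟶ Y with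
|V| dense in |Y| such that the base change X ×_Y V ⟶ V is finite: f is finite over all of Y,
provided either j is quasi-compact or f is locally of finite presentation. -/
theorem result {S : Scheme.{u}} {X Y V : AlgSp.Space S} (f : X ⟶ Y) (j : V ⟶ Y)
    (hf1 : AlgSp.LocP @Flat f.hom) (hf2 : AlgSp.IsProperMor f.hom)
    (hj1 : AlgSp.RepWith @IsOpenImmersion j.hom) (hj2 : Dense (Set.range (AlgSp.Points.map j.hom)))
    (P : AlgSp.Space S) (fst : P ⟶ X) (snd : P ⟶ V) (hP : IsPullback fst.hom snd.hom f.hom j.hom)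
    (hV : AlgSp.IsFiniteMor snd.hom)
    (h : AlgSp.LocP @LocallyOfFinitePresentation f.hom ∨ AlgSp.IsQuasiCompactMor j.hom) :
    AlgSp.IsFiniteMor f.hom := by
  have hlft : LocP @LocallyOfFiniteType f.hom := hf2.2.1.1
  have h1 := (Groth.Agent.S10649.result snd).out 0 1
  have h2 := (Groth.Agent.S10649.result f).out 0 1
  obtain ⟨hsndP, hsndlqf⟩ := h1.1 hV
  have hsndlft : LocP @LocallyOfFiniteType snd.hom := hsndP.2.1.1
  have hdim0 := (Groth.Agent.S10310.result snd hsndlft).1 hsndlqf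
  have hle : ∀ x, AlgSp.HasAtMor (fun _ _ h u => FlatMor.fibreDimAt h u ≤ ((0 : ℕ) : WithBot ℕ∞))
      snd.hom x := by
    intro p
    obtain ⟨U₁, V₁, a₁, b₁, h₁, u₁, ha₁, hb₁, w₁, hu₁, hq⟩ := hdim0 p
    exact ⟨U₁, V₁, a₁, b₁, h₁, u₁, ha₁, hb₁, w₁, hu₁, le_of_eq hq⟩
  have key := Groth.Agent.S10653.result f j 0 hf1 hlft hj1 hj2 P fst snd hP hle h
  rw [h2]
  refine ⟨hf2, (Groth.Agent.S10310.result f hlft).2 fun x => ?_⟩
  obtain ⟨U₁, V₁, a₁, b₁, h₁, u₁, ha₁, hb₁, w₁, hu₁, hq⟩ := key x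
  exact ⟨U₁, V₁, a₁, b₁, h₁, u₁, ha₁, hb₁, w₁, hu₁, le_antisymm hq (fibreDimAt_nonneg _ _)⟩

end Groth.Agent.S10654
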