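import Groth.Statements.S10659
import Groth.Agent.Lib.Helper30.EtaleLocalTarget

set_option autoImplicit false
universe u
open CategoryTheory CategoryTheory.Limits AlgebraicGeometry
open AlgSp

namespace Groth.Agent.S10659

/-- For a property P of morphisms of schemes that is etale local on the target (local for the etale
precoverage) and a representable morphism f : X ⟶ Y of algebraic spaces over S: if for one scheme V
with a representable etale surjective b : h_V ⟶ Y and one pullback square of f along b with corner
h_W the projection W ⟶ V has P, then f has P etale locally on the target in the representable sense,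
i.e. every such projection along every etale h_V ⟶ Y has P. (The published statement also asserts
the converse direction and that, for X and Y representable, the condition is equivalent to f having
P; this row states only that one surjective etale chart suffices.) -/
theorem result {S : Scheme.{u}} (P : MorphismProperty Scheme.{u}) [P.IsLocalAtTarget Scheme.etalePrecoverage]
    {X Y : AlgSp.Space S} (f : X ⟶ Y) (hf : AlgSp.Representable f.hom)
    {V W : Over S} (b : (AlgSp.yon S).obj V ⟶ Y.obj) (hb1 : AlgSp.RepWith @Etale b) (hb2 : AlgSp.RepWith @Surjective b)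
    (fst : (AlgSp.yon S).obj W ⟶ X.obj) (snd : W ⟶ V)
    (sq : IsPullback fst ((AlgSp.yon S).map snd) f.hom b) (hP : P snd.left) :
    AlgSp.RepLocT P f.hom := by
  refine ⟨hf, fun V' W' b' fst' snd' hb' sq' => ?_⟩
  -- the fibre product V'' = V ×_Y V'
  have hV := hb1.rep.isPullback' b'
  set V'' := hb1.rep.pullback b' with hV''
  set π₁ : V'' ⟶ V := hb1.rep.fst' b' with hπ₁
  set π₂ : V'' ⟶ V' := hb1.rep.snd b' with hπ₂
  have hπ₂e : Etale ((Over.forget S).map π₂) := hb1.property_snd b'
  have hπ₂s : Surjective ((Over.forget S).map π₂) := hb2.property b' _ _ hV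
  have hπ₁e : Etale ((Over.forget S).map π₁) := hb'.property b _ _ hV.flip
  -- the fibre product W'' = W ×_V V'' in schemes over S
  have hW := IsPullback.of_hasPullback snd π₁
  have hP₂ : P (pullback.snd snd π₁).left :=
    @Groth.Agent.Lib.Helper30.EtaleLocalTarget.of_isPullback_etale P _ _ _ _ _ _ _ hπ₁e _ _
      (hW.map (Over.forget S)) hP
  -- it is a pullback of f along h_{V''} ⟶ Y
  have big := ((hW.map (AlgSp.yon S)).paste_horiz sq)
  have hw : ((AlgSp.yon S).map (pullback.fst snd π₁) ≫ fst) ≫ f.hom =
      ((AlgSp.yon S).map (pullback.snd snd π₁) ≫ (AlgSp.yon S).map π₂) ≫ b' := by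
    rw [big.w, Category.assoc, hV.w]
  obtain ⟨l, hl⟩ := (AlgSp.yon S).map_surjective (sq'.lift _ _ hw)
  have hl₁ : (AlgSp.yon S).map l ≫ fst' = (AlgSp.yon S).map (pullback.fst snd π₁) ≫ fst := by
    rw [hl, sq'.lift_fst]
  have hl₂ : (AlgSp.yon S).map l ≫ (AlgSp.yon S).map snd' =
      (AlgSp.yon S).map (pullback.snd snd π₁) ≫ (AlgSp.yon S).map π₂ := by
    rw [hl, sq'.lift_snd]
  have big' : IsPullback ((AlgSp.yon S).map l ≫ fst') ((AlgSp.yon S).map (pullback.snd snd π₁))
      f.hom ((AlgSp.yon S).map π₂ ≫ b') := by
    rw [hl₁, ← hV.w]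
    exact big
  have left := IsPullback.of_right big' hl₂ sq'
  have hcomm : l ≫ snd' = pullback.snd snd π₁ ≫ π₂ := by
    apply (AlgSp.yon S).map_injective
    rw [Functor.map_comp, Functor.map_comp, hl₂]
  have left' : IsPullback l (pullback.snd snd π₁) snd' π₂ :=
    IsPullback.of_map (AlgSp.yon S) hcomm left
  exact @Groth.Agent.Lib.Helper30.EtaleLocalTarget.of_isPullback_etale_surjective P _ _ _ _ _ _ _
    hπ₂e hπ₂s _ _ (left'.map (Over.forget S)) hP₂

end Groth.Agent.S10659
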