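import Groth.Statements.S10662
import Groth.Agent.Lib.Helper79.AlgSpRegImmBC

set_option autoImplicit false
universe u
open CategoryTheory CategoryTheory.Limits AlgebraicGeometry
open AlgSp

namespace Groth.Agent.S10662

/-- Let k be one of the kinds Koszul-regular, H_1-regular, quasi-regular; let i : Z ⟶ X be a regular
immersion of algebraic spaces over S of kind k and g : X' ⟶ X a flat morphism of algebraic spaces.
Then the base change Z ×_X X' ⟶ X' (any pullback square of algebraic spaces) is a regular immersion
of kind k. -/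
theorem result {S : Scheme.{u}} (k : RegImm.Kind) (hk : k = RegImm.Kind.koszul ∨ k = RegImm.Kind.h1 ∨ k = RegImm.Kind.quasi)
    {Z X X' : AlgSp.Space S} (i : Z ⟶ X) (g : X' ⟶ X)
    (hi : AlgSp.IsRegImmMor k i.hom) (hg : AlgSp.LocP @Flat g.hom)
    (P : AlgSp.Space S) (fst : P ⟶ Z) (i' : P ⟶ X') (sq : IsPullback fst.hom i'.hom i.hom g.hom) :
    AlgSp.IsRegImmMor k i'.hom := by
  have hk' : k ≠ RegImm.Kind.regular := by
    rcases hk with rfl | rfl | rfl <;> simp
  exact Groth.Agent.Lib.Helper79.AlgSpRegImmBC.isRegImmMor_flat_baseChange k hk' X.property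
    i.hom g.hom hi hg fst.hom i'.hom sq

end Groth.Agent.S10662
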