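import Groth.Statements.S10665
import Groth.Prelude.Def_AlgSpEt
import Groth.Agent.Lib.Helper30.EtaleRegImm

set_option autoImplicit false
universe u
open CategoryTheory CategoryTheory.Limits AlgebraicGeometry
open AlgSp

namespace Groth.Agent.S10665

set_option backward.isDefEq.respectTransparency false in
/-- A Koszul-regular immersion between algebraic spaces over S (representable, Koszul-regular immersion
on every etale scheme chart of the target) is a local complete intersection morphism (Koszul at
every point, etale locally on source and target). -/
theorem result {S : Scheme.{u}} {X Y : AlgSp.Space S} (i : X ⟶ Y) (hi : AlgSp.IsRegImmMor RegImm.Kind.koszul i.hom) :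
    AlgSp.IsLCIMor i.hom := by
  intro U V a b h ha hb comm
  obtain ⟨hrep, hloc⟩ := hi
  have sq := hrep.isPullback b
  have hr : RegImm.IsRegularImmersion .koszul (hrep.snd b).left :=
    hloc b (hrep.fst b) (hrep.snd b) hb sq
  let e : U ⟶ hrep.pullback b := hrep.lift a h comm
  have he1 : (yon S).map e ≫ hrep.fst b = a := hrep.lift_fst _ _ _
  have he2 : e ≫ hrep.snd b = h := hrep.lift_snd _ _ _
  have hfstE : RepWith @Etale (hrep.fst b) := MorphismProperty.of_isPullback sq.flip hb
  have heE : Etale e.left :=
    EtOver.etale_left (EtOver.homMk e he1 : EtOver.mk a ha ⟶ EtOver.mk (hrep.fst b) hfstE)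
  intro x
  have key := Groth.Agent.Lib.Helper30.EtaleRegImm.isKoszulAt_comp_etale_regImm e.left (hrep.snd b).left hr x
  rwa [← Over.comp_left, he2] at key

end Groth.Agent.S10665
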