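import Groth.Statements.S10669
import Groth.Agent.Lib.Helper23.DvrRedSch
import Groth.Agent.Lib.Helper46.RedDescent
import Groth.Agent.Lib.Helper37.AlgSpPoints
import Groth.Agent.Lib.Helper23.AlgSpProper
import Groth.Agent.Lib.Helper23.AlgSpMor
import Groth.Agent.Lib.Helper36.AlgSpCharts

set_option autoImplicit false
universe u
open CategoryTheory CategoryTheory.Limits AlgebraicGeometry
open AlgSp

namespace Groth.Agent.S10669

open Groth.Agent.Lib.Helper23.DvrRedSch Groth.Agent.Lib.Helper46.RedDescent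
open Groth.Agent.Lib.Helper36.AlgSpCharts Groth.Agent.Lib.Helper37.AlgSpPoints
open Groth.Agent.Lib.Helper23.AlgSpMor

theorem hom_pt_ext {S : Scheme.{u}} {F : Over S}
    (φ ψ : (yon S).obj F ⟶ (yon S).obj (Over.mk (𝟙 S))) : φ = ψ := by
  obtain ⟨φ, rfl⟩ := (yon S).map_surjective φ
  obtain ⟨ψ, rfl⟩ := (yon S).map_surjective ψ
  congr 1
  exact Over.mkIdTerminal.hom_ext _ _

theorem exists_chart_of_isPullback_pt {S : Scheme.{u}} {X X0 : Sp S} {T : Scheme.{u}} (g : T ⟶ S)
    (s : X ⟶ (yon S).obj (Over.mk (𝟙 S))) (fst : X0 ⟶ X) (snd : X0 ⟶ (yon S).obj (Over.mk g))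
    (hcart : IsPullback fst snd s ((yon S).map
      (Over.homMk g (Category.comp_id _) : Over.mk g ⟶ Over.mk (𝟙 S))))
    {U : Over S} (a : (yon S).obj U ⟶ X) (ha : RepWith @Etale a) :
    ∃ (U₀ : Over S) (a₀ : (yon S).obj U₀ ⟶ X0) (iU : U₀ ⟶ U) (h : U₀ ⟶ Over.mk g),
      RepWith @Etale a₀ ∧ (RepWith @Surjective a → RepWith @Surjective a₀) ∧
      IsPullback h.left iU.left g U.hom := by
  have hrep : Representable fst :=
    MorphismProperty.of_isPullback (P := Representable) hcart.flip (representable_yon_map _)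
  have sqU := hrep.isPullback a
  set a₀ := hrep.fst a
  set iU := hrep.snd a
  have hae : RepWith @Etale a₀ := MorphismProperty.of_isPullback (P := RepWith @Etale) sqU.flip ha
  obtain ⟨h, hh⟩ := (yon S).map_surjective (a₀ ≫ snd)
  let hU : U ⟶ Over.mk (𝟙 S) := Over.homMk U.hom (Category.comp_id _)
  have wa : a ≫ s = (yon S).map hU := hom_pt_ext _ _
  have big := sqU.paste_horiz hcart.flip
  rw [← hh, wa] at big
  refine ⟨_, a₀, iU, h, hae, fun hs =>
    MorphismProperty.of_isPullback (P := RepWith @Surjective) sqU.flip hs, ?_⟩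
  exact isPullback_left_of_yon big

/-- For a discrete valuation ring R with residue field κ and fraction field K and an algebraic space X
over Spec R whose structure morphism s (to the terminal sheaf h_{Spec R}) is flat and proper: if the
special fibre X ×_{Spec R} Spec κ is reduced (some etale surjective scheme chart is reduced), then X
is reduced and so is the generic fibre X ×_{Spec R} Spec K. -/
theorem result (R : Type u) [CommRing R] [IsDomain R] [IsDiscreteValuationRing R]
    {X : AlgSp.Space (Spec (CommRingCat.of R))}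
    (s : X.obj ⟶ (AlgSp.yon (Spec (CommRingCat.of R))).obj (Over.mk (𝟙 _)))
    (hs1 : AlgSp.IsProperMor s) (hs2 : AlgSp.LocP @Flat s)
    (h0 : ∀ (X0 : AlgSp.Sp (Spec (CommRingCat.of R))) (fst : X0 ⟶ X.obj)
      (snd : X0 ⟶ (AlgSp.yon (Spec (CommRingCat.of R))).obj
        (Over.mk (Spec.map (CommRingCat.ofHom (IsLocalRing.residue R))))),
      IsPullback fst snd s ((AlgSp.yon (Spec (CommRingCat.of R))).map
        (Over.homMk (Spec.map (CommRingCat.ofHom (IsLocalRing.residue R))) (Category.comp_id _) :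
          Over.mk (Spec.map (CommRingCat.ofHom (IsLocalRing.residue R))) ⟶ Over.mk (𝟙 _))) →
      AlgSp.EtaleLocally (fun U => IsReduced U) X0) :
    AlgSp.EtaleLocally (fun U => IsReduced U) X.obj ∧
      ∀ (Xη : AlgSp.Sp (Spec (CommRingCat.of R))) (fst : Xη ⟶ X.obj)
        (snd : Xη ⟶ (AlgSp.yon (Spec (CommRingCat.of R))).obj
          (Over.mk (Spec.map (CommRingCat.ofHom (algebraMap R (FractionRing R)))))),
        IsPullback fst snd s ((AlgSp.yon (Spec (CommRingCat.of R))).map
          (Over.homMk (Spec.map (CommRingCat.ofHom (algebraMap R (FractionRing R)))) (Category.comp_id _) :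
            Over.mk (Spec.map (CommRingCat.ofHom (algebraMap R (FractionRing R)))) ⟶ Over.mk (𝟙 _))) →
        AlgSp.EtaleLocally (fun U => IsReduced U) Xη := by
  classical
  obtain ⟨ϖ, hϖ⟩ := IsDiscreteValuationRing.exists_irreducible R
  have hX : IsAlgSpace X.obj := X.property
  obtain ⟨U, a, hae, has⟩ := hX.atlas
  let hU : U ⟶ Over.mk (𝟙 (Spec (CommRingCat.of R))) := Over.homMk U.hom (Category.comp_id _)
  have wa : a ≫ s = (yon _).map hU := hom_pt_ext _ _
  have hid : RepWith @Etale (𝟙 ((yon (Spec (CommRingCat.of R))).obj (Over.mk (𝟙 _)))) :=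
    repWith_id @Etale _
  have hflat : Flat U.hom := hs2 a (𝟙 _) hU hae hid (by rw [Category.comp_id, wa])
  have hlft : LocallyOfFiniteType U.hom :=
    hs1.2.1.1 a (𝟙 _) hU hae hid (by rw [Category.comp_id, wa])
  -- special fibre of the chart
  have hfib : IsReduced (U.hom.fiber (IsLocalRing.closedPoint R)) := by
    have hcart := IsPullback.of_hasPullback s ((yon (Spec (CommRingCat.of R))).map
      (Over.homMk (Spec.map (CommRingCat.ofHom (IsLocalRing.residue R))) (Category.comp_id _) :
          Over.mk (Spec.map (CommRingCat.ofHom (IsLocalRing.residue R))) ⟶ Over.mk (𝟙 _)))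
    obtain ⟨U₀, a₀, iU, h, ha₀, -, hpb⟩ := exists_chart_of_isPullback_pt _ s _ _ hcart a hae
    have hred : IsReduced U₀.left := isReduced_of_etale_chart (h0 _ _ _ hcart) a₀ ha₀
    exact isReduced_fiber_closedPoint U.hom h.left iU.left hpb
  -- reduced locus
  have hW : ∀ u : U.left, U.hom u = IsLocalRing.closedPoint R → u ∈ redLocus U.left := by
    intro u hu
    obtain ⟨V, huV, hV⟩ := exists_reduced_nbhd U.hom hϖ u hu
    exact ⟨V, huV, hV⟩
  let Wo : Over (Spec (CommRingCat.of R)) := Over.mk ((redLocus U.left).ι ≫ U.hom)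
  let ι' : Wo ⟶ U := Over.homMk (redLocus U.left).ι rfl
  have haWe : RepWith @Etale ((yon _).map ι' ≫ a) :=
    (RepWith @Etale).comp_mem _ _ ((repWith_yon_map_iff @Etale ι').2
      (inferInstanceAs (Etale (redLocus U.left).ι))) hae
  have hpt : IsAlgSpace ((yon (Spec (CommRingCat.of R))).obj (Over.mk (𝟙 _))) := IsAlgSpace.yon_obj _
  have hcover : ∀ x : Points X.obj, ∃ u ∈ redLocus U.left, Points.ofPt a u = x := by
    by_contra hne
    push Not at hne
    obtain ⟨z, hz⟩ := hne
    have hopen : IsOpen (Points.ofPt a '' ((redLocus U.left : U.left.Opens) : Set U.left)) :=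
      isOpenMap_ofPt a hae _ (redLocus U.left).isOpen
    have hZ := hopen.isClosed_compl
    have hcl : IsClosedMap (Points.map s) := isClosedMap_points_of_isUnivClosedMor hpt s hs1.2.2
    have hT := hcl _ hZ
    have hzT : Points.map s z ∈ Points.map s ''
        (Points.ofPt a '' ((redLocus U.left : U.left.Opens) : Set U.left))ᶜ :=
      ⟨z, fun ⟨u, hu, e⟩ => hz u hu e, rfl⟩
    have hc : Points.schemeHomeo (Over.mk (𝟙 (Spec (CommRingCat.of R)))) (IsLocalRing.closedPoint R) ∈
        Points.map s '' (Points.ofPt a '' ((redLocus U.left : U.left.Opens) : Set U.left))ᶜ := by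
      obtain ⟨t, ht⟩ := (Points.schemeHomeo (Over.mk (𝟙 (Spec (CommRingCat.of R))))).surjective
        (Points.map s z)
      have hspec : t ⤳ IsLocalRing.closedPoint R := IsLocalRing.specializes_closedPoint t
      have h2 := hspec.map (Points.schemeHomeo (Over.mk (𝟙 (Spec (CommRingCat.of R))))).continuous
      rw [ht] at h2
      exact h2.mem_closed hT hzT
    obtain ⟨z₀, hz₀, hz₀c⟩ := hc
    obtain ⟨u₀, rfl⟩ := ofPt_surjective a has z₀
    apply hz₀
    refine ⟨u₀, hW u₀ ?_, rfl⟩
    have h3 : Points.map s (Points.ofPt a u₀) =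
        Points.schemeHomeo (Over.mk (𝟙 (Spec (CommRingCat.of R)))) (hU.left u₀) := by
      rw [Points.map_ofPt, wa, ofPt_yon_map]
      rfl
    rw [h3] at hz₀c
    exact (Points.schemeHomeo _).injective hz₀c
  have haWs : RepWith @Surjective ((yon _).map ι' ≫ a) := by
    refine repWith_surjective_of_isSurjectiveMor _ haWe.rep ?_
    intro x
    obtain ⟨u, hu, rfl⟩ := hcover x
    refine ⟨Points.ofScheme Wo ⟨u, hu⟩, ?_⟩
    rw [← Points.ofPt_eq_map_ofScheme, ofPt_map_comp]
    rfl
  have hXred : AlgSp.EtaleLocally (fun U => IsReduced U) X.obj :=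
    ⟨Wo, (yon _).map ι' ≫ a, haWe, haWs, inferInstanceAs (IsReduced ↑(redLocus U.left))⟩
  refine ⟨hXred, ?_⟩
  intro Xη fst snd hcart
  obtain ⟨W₀, a₀, iU, h, ha₀, hs₀, hpb⟩ :=
    exists_chart_of_isPullback_pt _ s fst snd hcart ((yon _).map ι' ≫ a) haWe
  refine ⟨W₀, a₀, ha₀, hs₀ haWs, ?_⟩
  have : IsReduced Wo.left := inferInstanceAs (IsReduced ↑(redLocus U.left))
  exact isReduced_of_isPullback_localization Wo.hom (FractionRing R) (nonZeroDivisors R)
    h.left iU.left hpb

end Groth.Agent.S10669
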