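import Groth.Statements.S10670
-- import your own Groth.Agent.* helpers here
import Groth.Agent.Lib.Helper36.FieldBCConn

set_option autoImplicit false
universe u
open CategoryTheory CategoryTheory.Limits AlgebraicGeometry
open AlgSp

namespace Groth.Agent.S10670

open Groth.Agent.Lib.Helper36.FieldBCConn

/-- a morphism of spectra of fields with algebraically closed target is universally open with
geometrically connected fibres -/
theorem instances_of_isAlgClosed {K Ω : Type u} [Field K] [Field Ω] [IsAlgClosed K]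
    (φ : Spec (CommRingCat.of Ω) ⟶ Spec (CommRingCat.of K)) :
    UniversallyOpen φ ∧ GeometricallyConnected φ := by
  let : Algebra K Ω := (Spec.preimage φ).hom.toAlgebra
  have hφ : φ = Spec.map (CommRingCat.ofHom (algebraMap K Ω)) := by
    conv_lhs => rw [← Spec.map_preimage φ]
    rfl
  rw [hφ]
  exact ⟨inferInstance,
    Groth.Agent.Lib.Helper51.geometricallyConnected_specMap_of_isSepClosed K Ω⟩

/-- fibre over a geometric point vs. fibre over a bigger field: same number of components -/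
theorem card_eq_of_isPullback {S : Scheme.{u}} {X Y Z P : AlgSp.Sp S} {T T' : Over S}
    (φ : X ⟶ Y) (κ : (AlgSp.yon S).obj T ⟶ Y) (a : Z ⟶ X) (b : Z ⟶ (AlgSp.yon S).obj T)
    (h : IsPullback a b φ κ) (a₀ : T' ⟶ T) [UniversallyOpen a₀.left]
    [GeometricallyConnected a₀.left]
    (p1 : P ⟶ X) (p2 : P ⟶ (AlgSp.yon S).obj T')
    (hP : IsPullback p1 p2 φ ((AlgSp.yon S).map a₀ ≫ κ)) :
    ENat.card (_root_.ConnectedComponents (AlgSp.Points P)) =
      ENat.card (_root_.ConnectedComponents (AlgSp.Points Z)) := by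
  have hcomm : p1 ≫ φ = (p2 ≫ (AlgSp.yon S).map a₀) ≫ κ := by
    rw [Category.assoc, hP.w]
  let u : P ⟶ Z := h.lift p1 (p2 ≫ (AlgSp.yon S).map a₀) hcomm
  have hu1 : u ≫ a = p1 := h.lift_fst _ _ _
  have hu2 : u ≫ b = p2 ≫ (AlgSp.yon S).map a₀ := h.lift_snd _ _ _
  have sq : IsPullback u p2 b ((AlgSp.yon S).map a₀) := by
    refine IsPullback.of_right ?_ hu2 h
    rw [hu1]
    exact hP
  obtain ⟨hco, hfib⟩ := coinducing_and_fibres_of_isPullback a₀ b u p2 sq
  exact ENat.card_congr (Equiv.ofBijective _ (hco.connectedComponentsMap_bijective hfib))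

/-- For morphisms f : X ⟶ Y and g : Y' ⟶ Y between algebraic spaces over S, f' : X' ⟶ Y' the base change
of f along g, an algebraically closed field point k' of Y' and an algebraically closed field point k
of Y whose class in |Y| is the image of the class of k', the fibres X'_{k'} and X_k (pullbacks in
fppf sheaves) have the same number of connected components of their spaces of points, counted in ℕ∞.
With g the identity this says the number of geometric connected components of the fibre over a point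
of |Y| is well defined. -/
theorem result {S : Scheme.{u}} {X Y X' Y' : AlgSp.Space S} (f : X ⟶ Y) (g : Y' ⟶ Y) (gX : X' ⟶ X) (f' : X' ⟶ Y')
    (hsq : IsPullback gX.hom f'.hom f.hom g.hom)
    (k' : AlgSp.FieldPt Y'.obj) (hk' : k'.IsGeometric) (k : AlgSp.FieldPt Y.obj) (hk : k.IsGeometric)
    (hkk : AlgSp.Points.mk k = AlgSp.Points.map g.hom (AlgSp.Points.mk k'))
    (Xk' : AlgSp.Sp S) (a' : Xk' ⟶ X'.obj) (b' : Xk' ⟶ (AlgSp.yon S).obj k'.pt) (h' : IsPullback a' b' f'.hom k'.toHom)
    (Xk : AlgSp.Sp S) (a : Xk ⟶ X.obj) (b : Xk ⟶ (AlgSp.yon S).obj k.pt) (h : IsPullback a b f.hom k.toHom) :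
    ENat.card (_root_.ConnectedComponents (AlgSp.Points Xk')) = ENat.card (_root_.ConnectedComponents (AlgSp.Points Xk)) := by
  obtain ⟨Ω, _, w, a₀, b₁, hab⟩ := AlgSp.Points.mk_eq_mk_iff.1 hkk
  let b₀ : Over.mk w ⟶ k'.pt := b₁
  have hcomp : (AlgSp.yon S).map a₀ ≫ k.toHom = (AlgSp.yon S).map b₀ ≫ k'.toHom ≫ g.hom := by
    have key : (AlgSp.yon S).map a₀ ≫ k.toHom = (AlgSp.yon S).map b₁ ≫ (k'.map g.hom).toHom := by
      apply (AlgSp.J S).uliftYonedaEquiv.injective
      rw [GrothendieckTopology.uliftYonedaEquiv_comp, GrothendieckTopology.uliftYonedaEquiv_comp]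
      erw [GrothendieckTopology.uliftYonedaEquiv_uliftYoneda_map,
        GrothendieckTopology.uliftYonedaEquiv_uliftYoneda_map]
      rw [FieldPt.toHom_app, FieldPt.toHom_app]
      exact hab
    rw [key, FieldPt.toHom_map]
    rfl
  have : IsAlgClosed k.K := hk
  have : IsAlgClosed k'.K := hk'
  obtain ⟨i1, i2⟩ := instances_of_isAlgClosed (K := k.K) (Ω := Ω) a₀.left
  obtain ⟨j1, j2⟩ := instances_of_isAlgClosed (K := k'.K) (Ω := Ω) b₀.left
  have hP := IsPullback.of_hasPullback f.hom ((AlgSp.yon S).map a₀ ≫ k.toHom)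
  have e1 := card_eq_of_isPullback f.hom k.toHom a b h a₀ _ _ hP
  have hP' : IsPullback (pullback.fst f.hom ((AlgSp.yon S).map a₀ ≫ k.toHom))
      (pullback.snd f.hom ((AlgSp.yon S).map a₀ ≫ k.toHom)) f.hom
      ((AlgSp.yon S).map b₀ ≫ k'.toHom ≫ g.hom) := by
    rw [← hcomp]; exact hP
  have e2 := card_eq_of_isPullback f.hom (k'.toHom ≫ g.hom) (a' ≫ gX.hom) b' (h'.paste_horiz hsq)
    b₀ _ _ hP'
  rw [← e1, ← e2]

end Groth.Agent.S10670
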