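import Groth.Statements.S10676
import Groth.Agent.Lib.Helper23.SLQSplit2

set_option autoImplicit false
universe u
open CategoryTheory CategoryTheory.Limits AlgebraicGeometry
open AlgSp

namespace Groth.Agent.S10676

open Groth.Agent.Lib.Helper23.SLQSplit Groth.Agent.Lib.Helper36.QFLocus
  Groth.Agent.Lib.Helper36.OpenSubspace Groth.Agent.Lib.Helper37.AlgSpPoints
  Groth.Agent.Lib.Helper23.AlgSpMor

/-- For a separated morphism f : X ⟶ Y of algebraic spaces over S which is locally of finite type, a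
point y of |Y| and a finite set xs of points of |X| mapping to y at each of which f is quasi-finite
(some etale chart diagram through the point has top arrow locally quasi-finite and locally of finite
type on an open neighbourhood), assuming moreover that f is quasi-compact or Y is decent: there are
an etale morphism of algebraic spaces a : U ⟶ Y and a point u of |U| over y such that for the base
change P = U ×_Y X there is an open and closed subspace V ⊂ P, finite over U, such that every point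
of |V| over u maps into xs and no point of |P| outside |V| lying over u maps into xs. -/
theorem result {S : Scheme.{u}} {X Y : AlgSp.Space S} (f : X ⟶ Y) (y : AlgSp.Points Y.obj)
    (xs : Finset (AlgSp.Points X.obj)) (hxs : ∀ x ∈ xs, AlgSp.Points.map f.hom x = y)
    (hf1 : AlgSp.LocP @LocallyOfFiniteType f.hom) (hf2 : AlgSp.IsSeparatedMor f.hom)
    (hf3 : ∀ x ∈ xs, AlgSp.HasAtMor (fun U _ h u => ∃ W : U.Opens, u ∈ W ∧ LocallyQuasiFinite (W.ι ≫ h) ∧ LocallyOfFiniteType (W.ι ≫ h)) f.hom x)
    (hf4 : AlgSp.IsQuasiCompactMor f.hom ∨ AlgSp.IsDecent Y.obj) :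
    ∃ (U : AlgSp.Space S) (a : U ⟶ Y) (u : AlgSp.Points U.obj), AlgSp.IsEtaleMor a.hom ∧ AlgSp.Points.map a.hom u = y ∧
      ∀ (P : AlgSp.Space S) (prX : P ⟶ X) (prU : P ⟶ U), IsPullback prX.hom prU.hom f.hom a.hom →
        ∃ (V : AlgSp.Space S) (jV : V ⟶ P), AlgSp.RepWith @IsOpenImmersion jV.hom ∧ AlgSp.RepWith @IsClosedImmersion jV.hom ∧
          AlgSp.IsFiniteMor (jV ≫ prU).hom ∧
          (∀ v : AlgSp.Points V.obj, AlgSp.Points.map (jV ≫ prU).hom v = u → AlgSp.Points.map (jV ≫ prX).hom v ∈ xs) ∧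
          ∀ w : AlgSp.Points P.obj, w ∉ Set.range (AlgSp.Points.map jV.hom) → AlgSp.Points.map prU.hom w = u →
            AlgSp.Points.map prX.hom w ∉ xs := by
  -- an affine étale chart of `Y` through `y`
  obtain ⟨U₀, p₀, hp₀e, hp₀s⟩ := Y.property.atlas
  obtain ⟨u₀, hu₀⟩ := ofPt_surjective p₀ hp₀s y
  obtain ⟨_, ⟨A₀, hA₀, rfl⟩, hu₀A₀, -⟩ :=
    U₀.left.isBasis_affineOpens.exists_subset_of_mem_open (Set.mem_univ u₀) isOpen_univ
  haveI : IsAffine (overOpens U₀ A₀).left := hA₀
  obtain ⟨V₁, hV₁⟩ : ∃ V₁ : Over S, V₁ = overOpens U₀ A₀ := ⟨_, rfl⟩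
  haveI : IsAffine V₁.left := by rw [hV₁]; infer_instance
  obtain ⟨b₁, hb₁, s, hs⟩ : ∃ (b₁ : (yon S).obj V₁ ⟶ Y.obj), RepWith @Etale b₁ ∧
      ∃ s : ↥V₁.left, Points.ofPt b₁ s = y := by
    subst hV₁
    exact ⟨(yon S).map (overOpensι U₀ A₀) ≫ p₀,
      (RepWith @Etale).comp_mem _ _ (repWith_etale_overOpensι U₀ A₀) hp₀e, ⟨u₀, hu₀A₀⟩,
      (ofPt_overOpensι_comp U₀ A₀ p₀ _).trans hu₀⟩
  obtain ⟨Z', g, t, sqZ, hgsep, hglft, hgqf⟩ := exists_scheme_qfLocus_baseChange f hf1 hf2 b₁
  have hιo : RepWith @IsOpenImmersion (openSubι X.obj (qfLocus f)) :=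
    repWith_isOpenImmersion_openSubι X.obj (qfLocus f) (isOpen_qfLocus f hf1)
  -- the finite set of points of the fibre over `xs`
  obtain ⟨T, hTdef⟩ : ∃ T : Set ↥Z'.left, T = {z | g.left z = s ∧
      Points.ofPt (t ≫ openSubι X.obj (qfLocus f)) z ∈ xs} := ⟨_, rfl⟩
  have hT : T.Finite := by
    rcases hf4 with hqc | hdec
    · refine (finite_fibre_of_isQuasiCompactMor f hf1 hqc b₁ _ hιo t g sqZ s).subset ?_
      rw [hTdef]
      rintro z ⟨hz, -⟩
      exact hz
    · have hinj := Groth.Agent.Lib.Helper30.LocPNbhd.points_map_injective_of_mono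
        (openSubι X.obj (qfLocus f))
      have hfin : ∀ x : Points X.obj,
          {z : ↥Z'.left | Points.ofPt (t ≫ openSubι X.obj (qfLocus f)) z = x}.Finite := by
        intro x
        by_cases hx : ∃ x₁, Points.map (openSubι X.obj (qfLocus f)) x₁ = x
        · obtain ⟨x₁, rfl⟩ := hx
          refine (finite_ofPt_eq_of_isDecent hdec (openSubι X.obj (qfLocus f) ≫ f.hom) b₁ hb₁ t g
            sqZ x₁).subset ?_
          intro z hz
          apply hinj
          rw [Points.map_ofPt]
          exact hz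
        · convert Set.finite_empty
          ext z
          simp only [Set.mem_setOf_eq, Set.mem_empty_iff_false, iff_false]
          intro hz
          exact hx ⟨Points.ofPt t z, by rw [Points.map_ofPt]; exact hz⟩
      have hfin2 : (⋃ x ∈ xs, {z : ↥Z'.left |
          Points.ofPt (t ≫ openSubι X.obj (qfLocus f)) z = x}).Finite :=
        Set.Finite.biUnion xs.finite_toSet (fun x _ => hfin x)
      refine hfin2.subset ?_
      rw [hTdef]
      rintro z ⟨-, hz⟩
      exact Set.mem_biUnion hz rfl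
  have hTs : ∀ z ∈ T, g.left z = s := by
    rw [hTdef]; rintro z ⟨hz, -⟩; exact hz
  have hTq : ∀ z ∈ T, g.left.QuasiFiniteAt z := fun z _ => g.left.quasiFiniteAt z
  obtain ⟨U', Q, Vf, g', p1, p2, i, u, hg'e, hgu, sqQ, hi, hfin, hVT⟩ :=
    exists_etale_split_finite_over g s T hT hTs hTq
  have hae : RepWith @Etale ((yon S).map g' ≫ b₁) :=
    (RepWith @Etale).comp_mem _ _ ((repWith_yon_map_iff _ _).2 hg'e) hb₁
  refine ⟨⟨(yon S).obj U', IsAlgSpace.yon_obj U'⟩, ObjectProperty.homMk ((yon S).map g' ≫ b₁),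
    Points.ofScheme U' u, Groth.Agent.Lib.Helper17.ACov.isEtaleMor_of_repWith _ hae, ?_, ?_⟩
  · show Points.map ((yon S).map g' ≫ b₁) (Points.ofScheme U' u) = _
    rw [← Points.ofPt_eq_map_ofScheme, ofPt_map_comp, hgu, hs]
  · intro P prX prU sq
    have sqQy : IsPullback ((yon S).map p1) ((yon S).map p2) ((yon S).map g) ((yon S).map g') :=
      Groth.Agent.Lib.Helper54.SchemeIsoLocus.isPullback_yon_map sqQ
    have outer := sqQy.paste_horiz sqZ
    have sq' : IsPullback prX.hom prU.hom f.hom ((yon S).map g' ≫ b₁) := sq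
    obtain ⟨m, hm1, hm2⟩ := sq'.exists_lift (((yon S).map p1 ≫ t) ≫ openSubι X.obj (qfLocus f))
      ((yon S).map p2) (by rw [Category.assoc, outer.w])
    have sqm : IsPullback m ((yon S).map p1 ≫ t) prX.hom (openSubι X.obj (qfLocus f)) := by
      refine IsPullback.of_right ?_ hm1 sq'.flip
      rw [hm2]
      exact outer.flip
    have hmo : RepWith @IsOpenImmersion m := (RepWith @IsOpenImmersion).of_isPullback sqm.flip hιo
    have hjo : RepWith @IsOpenImmersion ((yon S).map i ≫ m) :=
      (RepWith @IsOpenImmersion).comp_mem _ _ ((repWith_yon_map_iff _ _).2 hi) hmo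
    have hk : ((yon S).map i ≫ m) ≫ prU.hom = (yon S).map (i ≫ p2) := by
      rw [Category.assoc, hm2, Functor.map_comp]
    have hsepU : IsSeparatedMor prU.hom :=
      Groth.Agent.Lib.Helper23.AlgSpMor.isSeparatedMor_of_isPullback sq' hf2
    haveI : IsFinite (i ≫ p2).left := hfin
    have hjf : RepWith @IsFinite ((yon S).map i ≫ m) :=
      Groth.Agent.Lib.Helper23.SLQ.repWith_isFinite_of_sep (T' := U') prU.hom hsepU _ (i ≫ p2) hk
    refine ⟨⟨(yon S).obj Vf, IsAlgSpace.yon_obj Vf⟩, ObjectProperty.homMk ((yon S).map i ≫ m), hjo,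
      repWith_isClosedImmersion_of_finite_of_open _ hjf hjo, ?_, ?_, ?_⟩
    · show IsFiniteMor (((yon S).map i ≫ m) ≫ prU.hom)
      rw [hk]
      exact isFiniteMor_yon_map _
    · intro v hv
      obtain ⟨v₀, rfl⟩ := (Points.schemeEquiv Vf).surjective v
      change Points.map (((yon S).map i ≫ m) ≫ prU.hom) (Points.ofScheme Vf v₀) =
        Points.ofScheme U' u at hv
      rw [hk, ← Points.ofPt_eq_map_ofScheme, ofPt_yon_map] at hv
      have hv2 : p2.left (i.left v₀) = u := (Points.schemeEquiv U').injective hv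
      have hmem : p1.left (i.left v₀) ∈ T := (hVT _ hv2).1 ⟨v₀, rfl⟩
      rw [hTdef] at hmem
      show Points.map (((yon S).map i ≫ m) ≫ prX.hom) (Points.ofScheme Vf v₀) ∈ xs
      rw [Category.assoc, hm1, ← Category.assoc, ← Category.assoc, ← Functor.map_comp,
        Category.assoc, ← Points.ofPt_eq_map_ofScheme, ofPt_map_comp]
      exact hmem.2
    · intro w hwV hwu hwx
      apply hwV
      -- `x := map prX w ∈ xs` lies in the quasi-finite locus
      have hxq : Points.map prX.hom w ∈ qfLocus f := by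
        obtain ⟨U₁, V₂, a₁, b₂, h₁, u₁, ha₁, hb₂, comm, hx, W, hu₁W, hqfW, hlftW⟩ :=
          hf3 _ hwx
        have hq : h₁.left.QuasiFiniteAt u₁ := by
          haveI := hqfW
          have h0 := (W.ι ≫ h₁.left).quasiFiniteAt ⟨u₁, hu₁W⟩
          exact (Scheme.Hom.quasiFiniteAt_comp_iff_of_isOpenImmersion (f := W.ι) (g := h₁.left)
            (x := ⟨u₁, hu₁W⟩)).1 h0
        rw [← hx]
        exact (mem_qfLocus_iff_of_chart f hf1 a₁ b₂ h₁ ha₁ hb₂ comm u₁).2 hq
      obtain ⟨x₁, hx₁⟩ : ∃ x₁ : Points (openSub X.obj (qfLocus f)),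
          Points.map (openSubι X.obj (qfLocus f)) x₁ = Points.map prX.hom w := by
        have h0 : Points.map prX.hom w ∈
            Set.range (Points.map (openSubι X.obj (qfLocus f))) := by
          rw [range_map_openSubι]; exact hxq
        exact h0
      obtain ⟨q, hq1, hq2⟩ := points_exists_of_isPullback sqm.flip x₁ w hx₁
      obtain ⟨q₀, rfl⟩ := (Points.schemeEquiv Q).surjective q
      change Points.map ((yon S).map p1 ≫ t) (Points.ofScheme Q q₀) = x₁ at hq1
      change Points.map m (Points.ofScheme Q q₀) = w at hq2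
      have hq2u : p2.left q₀ = u := by
        have h0 : Points.map prU.hom (Points.map m (Points.ofScheme Q q₀)) =
            Points.ofScheme U' u := by rw [hq2]; exact hwu
        rw [← Points.map_comp, hm2, ← Points.ofPt_eq_map_ofScheme, ofPt_yon_map] at h0
        exact (Points.schemeEquiv U').injective h0
      have hq1T : p1.left q₀ ∈ T := by
        rw [hTdef]
        refine ⟨?_, ?_⟩
        · rw [← hgu, ← hq2u]
          have := congrArg (fun φ => φ q₀) sqQ.w
          simpa only [Scheme.Hom.comp_apply] using this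
        · rw [← Points.map_ofPt, ← ofPt_map_comp, Points.ofPt_eq_map_ofScheme, hq1, hx₁]
          exact hwx
      obtain ⟨v₀, hv₀⟩ := (hVT _ hq2u).2 hq1T
      refine ⟨Points.ofScheme Vf v₀, ?_⟩
      show Points.map ((yon S).map i ≫ m) (Points.ofScheme Vf v₀) = w
      rw [← Points.ofPt_eq_map_ofScheme, ofPt_map_comp, hv₀, Points.ofPt_eq_map_ofScheme, hq2]

end Groth.Agent.S10676
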