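import Groth.Statements.S10677
import Groth.Agent.Lib.Helper23.SLQSplit

set_option autoImplicit false
universe u
open CategoryTheory CategoryTheory.Limits AlgebraicGeometry
open AlgSp

namespace Groth.Agent.S10677

open Groth.Agent.Lib.Helper23.SLQSplit Groth.Agent.Lib.Helper36.QFLocus
  Groth.Agent.Lib.Helper36.OpenSubspace Groth.Agent.Lib.Helper37.AlgSpPoints

/-- For a separated morphism f : X ⟶ Y of algebraic spaces over S which is locally of finite type and a
point x of |X| with image y at which f is quasi-finite (some etale chart diagram through x has top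
arrow locally quasi-finite and locally of finite type on an open neighbourhood), there are an etale
morphism a : U ⟶ Y and a point u of |U| over y such that for the base change P = U ×_Y X there is an
open and closed subspace V ⊂ P, finite over U, containing a point mapping to x in |X| and to u in
|U|. -/
theorem result {S : Scheme.{u}} {X Y : AlgSp.Space S} (f : X ⟶ Y) (x : AlgSp.Points X.obj)
    (hf1 : AlgSp.LocP @LocallyOfFiniteType f.hom) (hf2 : AlgSp.IsSeparatedMor f.hom)
    (hf3 : AlgSp.HasAtMor (fun U _ h u => ∃ W : U.Opens, u ∈ W ∧ LocallyQuasiFinite (W.ι ≫ h) ∧ LocallyOfFiniteType (W.ι ≫ h)) f.hom x) :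
    ∃ (U : AlgSp.Space S) (a : U ⟶ Y) (u : AlgSp.Points U.obj), AlgSp.IsEtaleMor a.hom ∧
      AlgSp.Points.map a.hom u = AlgSp.Points.map f.hom x ∧
      ∀ (P : AlgSp.Space S) (prX : P ⟶ X) (prU : P ⟶ U), IsPullback prX.hom prU.hom f.hom a.hom →
        ∃ (V : AlgSp.Space S) (jV : V ⟶ P), AlgSp.RepWith @IsOpenImmersion jV.hom ∧ AlgSp.RepWith @IsClosedImmersion jV.hom ∧
          AlgSp.IsFiniteMor (jV ≫ prU).hom ∧
          ∃ v : AlgSp.Points V.obj, AlgSp.Points.map (jV ≫ prX).hom v = x ∧ AlgSp.Points.map (jV ≫ prU).hom v = u := by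
  obtain ⟨U₁, V₁, a₁, b₁, h₁, u₁, ha₁, hb₁, comm, hx, W, hu₁W, hqfW, hlftW⟩ := hf3
  have hq : h₁.left.QuasiFiniteAt u₁ := by
    haveI := hqfW
    have h0 := (W.ι ≫ h₁.left).quasiFiniteAt ⟨u₁, hu₁W⟩
    exact (Scheme.Hom.quasiFiniteAt_comp_iff_of_isOpenImmersion (f := W.ι) (g := h₁.left)
      (x := ⟨u₁, hu₁W⟩)).1 h0
  have hxq : x ∈ qfLocus f := by
    rw [← hx]
    exact (mem_qfLocus_iff_of_chart f hf1 a₁ b₁ h₁ ha₁ hb₁ comm u₁).2 hq
  obtain ⟨x₁, hx₁⟩ : ∃ x₁ : Points (openSub X.obj (qfLocus f)),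
      Points.map (openSubι X.obj (qfLocus f)) x₁ = x := by
    have h0 : x ∈ Set.range (Points.map (openSubι X.obj (qfLocus f))) := by
      rw [range_map_openSubι]; exact hxq
    exact h0
  obtain ⟨Z', g, t, sqZ, hgsep, hglft, hgqf⟩ := exists_scheme_qfLocus_baseChange f hf1 hf2 b₁
  have hs : Points.map b₁ (Points.ofScheme V₁ (h₁.left u₁)) =
      Points.map (openSubι X.obj (qfLocus f) ≫ f.hom) x₁ := by
    rw [Points.map_comp, hx₁, ← hx, ← Points.ofPt_eq_map_ofScheme, Points.map_ofPt, comm,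
      ofPt_map_comp]
  obtain ⟨p, hp1, hp2⟩ := points_exists_of_isPullback sqZ.flip (Points.ofScheme V₁ (h₁.left u₁)) x₁ hs
  obtain ⟨z, hz⟩ : ∃ z : ↥Z'.left, Points.ofScheme Z' z = p := ⟨_, Points.ofScheme_toScheme Z' p⟩
  subst hz
  have hgz : g.left z = h₁.left u₁ := by
    rw [← Points.ofPt_eq_map_ofScheme, ofPt_yon_map] at hp1
    exact (Points.schemeEquiv V₁).injective hp1
  have hzq : g.left.QuasiFiniteAt z := g.left.quasiFiniteAt z
  obtain ⟨U', Q, Vf, g', p1, p2, i, v, hg'e, sqQ, hi, hfin, hv⟩ := exists_etale_split_over g z hzq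
  have hae : RepWith @Etale ((yon S).map g' ≫ b₁) :=
    (RepWith @Etale).comp_mem _ _ ((repWith_yon_map_iff _ _).2 hg'e) hb₁
  have hgu : g'.left ((i ≫ p2).left v) = h₁.left u₁ := by
    rw [← hgz, ← hv]
    simp only [Over.comp_left, Scheme.Hom.comp_apply]
    have := congrArg (fun φ => φ (i.left v)) sqQ.w
    simpa only [Scheme.Hom.comp_apply] using this.symm
  refine ⟨⟨(yon S).obj U', IsAlgSpace.yon_obj U'⟩, ObjectProperty.homMk ((yon S).map g' ≫ b₁),
    Points.ofScheme U' ((i ≫ p2).left v), Groth.Agent.Lib.Helper17.ACov.isEtaleMor_of_repWith _ hae, ?_, ?_⟩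
  · show Points.map ((yon S).map g' ≫ b₁) (Points.ofScheme U' ((i ≫ p2).left v)) = _
    rw [← Points.ofPt_eq_map_ofScheme, ofPt_map_comp, ← hx, Points.map_ofPt, comm, ofPt_map_comp, hgu]
  · intro P prX prU sq
    have sqQy : IsPullback ((yon S).map p1) ((yon S).map p2) ((yon S).map g) ((yon S).map g') :=
      Groth.Agent.Lib.Helper54.SchemeIsoLocus.isPullback_yon_map sqQ
    have outer := sqQy.paste_horiz sqZ
    have sq' : IsPullback prX.hom prU.hom f.hom ((yon S).map g' ≫ b₁) := sq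
    obtain ⟨m, hm1, hm2⟩ := sq'.exists_lift (((yon S).map p1 ≫ t) ≫ openSubι X.obj (qfLocus f))
      ((yon S).map p2) (by rw [Category.assoc, outer.w])
    have sqm : IsPullback m ((yon S).map p1 ≫ t) prX.hom (openSubι X.obj (qfLocus f)) := by
      refine IsPullback.of_right ?_ hm1 sq'.flip
      rw [hm2]
      exact outer.flip
    have hmo : RepWith @IsOpenImmersion m :=
      (RepWith @IsOpenImmersion).of_isPullback sqm.flip
        (repWith_isOpenImmersion_openSubι X.obj (qfLocus f) (isOpen_qfLocus f hf1))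
    have hjo : RepWith @IsOpenImmersion ((yon S).map i ≫ m) :=
      (RepWith @IsOpenImmersion).comp_mem _ _ ((repWith_yon_map_iff _ _).2 hi) hmo
    have hk : ((yon S).map i ≫ m) ≫ prU.hom = (yon S).map (i ≫ p2) := by
      rw [Category.assoc, hm2, Functor.map_comp]
    have hsepU : IsSeparatedMor prU.hom :=
      Groth.Agent.Lib.Helper23.AlgSpMor.isSeparatedMor_of_isPullback sq' hf2
    haveI : IsFinite (i ≫ p2).left := hfin
    have hjf : RepWith @IsFinite ((yon S).map i ≫ m) :=
      Groth.Agent.Lib.Helper23.SLQ.repWith_isFinite_of_sep (T' := U') prU.hom hsepU _ (i ≫ p2) hk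
    refine ⟨⟨(yon S).obj Vf, IsAlgSpace.yon_obj Vf⟩, ObjectProperty.homMk ((yon S).map i ≫ m), hjo,
      repWith_isClosedImmersion_of_finite_of_open _ hjf hjo, ?_, Points.ofScheme Vf v, ?_, ?_⟩
    · show IsFiniteMor (((yon S).map i ≫ m) ≫ prU.hom)
      rw [hk]
      exact isFiniteMor_yon_map _
    · show Points.map (((yon S).map i ≫ m) ≫ prX.hom) (Points.ofScheme Vf v) = x
      rw [Category.assoc, hm1, ← Category.assoc, ← Category.assoc, ← Functor.map_comp,
        Category.assoc, ← Points.ofPt_eq_map_ofScheme, ofPt_map_comp, hv, ← Points.map_ofPt,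
        Points.ofPt_eq_map_ofScheme, hp2, hx₁]
    · show Points.map (((yon S).map i ≫ m) ≫ prU.hom) (Points.ofScheme Vf v) = _
      rw [hk, ← Points.ofPt_eq_map_ofScheme, ofPt_yon_map]

end Groth.Agent.S10677
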