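import Groth.Statements.S10678
-- import your own Groth.Agent.* helpers here
import Groth.Agent.Lib.Helper36.FibreDimSp

set_option autoImplicit false
universe u
open CategoryTheory CategoryTheory.Limits AlgebraicGeometry
open AlgSp

namespace Groth.Agent.S10678

open Groth.Agent.Lib.Helper36.AlgSpCharts Groth.Agent.Lib.Helper37.AlgSpPoints
  Groth.Agent.Lib.Helper36.AlgSpChartDiag Groth.Agent.Lib.Helper36.AlgSpHasAtMor
  Groth.Agent.Lib.Helper36.FibreDimSp

/-- For a morphism f : X ⟶ Y of finite type between algebraic spaces over S, a point y of |Y| and any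
field point k of Y in the class of y, with fibre X_k (pullback in fppf sheaves): the dimension of
X_k (supremum of the dimensions of its etale scheme charts) is -∞ exactly when y lies outside the
image of |X|, and for every natural number d it is at most d exactly when f has relative dimension
at most d at every point of |X| over y (some etale chart diagram through the point whose top arrow
has local fibre dimension at most d there). -/
theorem result {S : Scheme.{u}} {X Y : AlgSp.Space S} (f : X ⟶ Y) (hf : AlgSp.IsFiniteTypeMor f.hom)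
    (y : AlgSp.Points Y.obj) (k : AlgSp.FieldPt Y.obj) (hk : AlgSp.Points.mk k = y)
    (Xk : AlgSp.Sp S) (fst : Xk ⟶ X.obj) (snd : Xk ⟶ (AlgSp.yon S).obj k.pt) (h : IsPullback fst snd f.hom k.toHom) :
    (AlgSp.dim Xk = ⊥ ↔ y ∉ Set.range (AlgSp.Points.map f.hom)) ∧
      ∀ d : ℕ, (AlgSp.dim Xk ≤ d ↔
        ∀ x : AlgSp.Points X.obj, AlgSp.Points.map f.hom x = y →
          AlgSp.HasAtMor (fun _ _ h u => FlatMor.fibreDimAt h u ≤ (d : WithBot ℕ∞)) f.hom x) := by
  subst hk
  have hlft := hf.1
  obtain ⟨U', a', ha'e, ha's, H⟩ := exists_fibre_atlas f hlft k Xk fst snd h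
  have hU'le : topologicalKrullDim ↥U'.left ≤ AlgSp.dim Xk := by
    unfold AlgSp.dim
    exact le_iSup_of_le U' (le_iSup_of_le a' (le_iSup_of_le ha'e le_rfl))
  refine ⟨⟨fun hbot hy => ?_, fun hy => ?_⟩, fun d => ⟨fun hd x hx => ?_, fun H2 => ?_⟩⟩
  · obtain ⟨x, hx⟩ := hy
    obtain ⟨xk, hxk⟩ := exists_point_fibre h x hx
    obtain ⟨u', hu'⟩ := ofPt_surjective a' ha's xk
    have : Nonempty ↥U'.left := ⟨u'⟩
    have h0 : (0 : WithBot ℕ∞) ≤ topologicalKrullDim ↥U'.left :=
      Groth.Agent.Lib.Helper84.dim_nonneg_of_nonempty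
    rw [hbot] at hU'le
    exact absurd (h0.trans hU'le) (by simp)
  · unfold AlgSp.dim
    rw [iSup_eq_bot]
    intro W
    rw [iSup_eq_bot]
    intro c
    rw [iSup_eq_bot]
    intro hc
    rw [topologicalKrullDim, Order.krullDim_eq_bot_iff]
    refine ⟨fun Z => ?_⟩
    obtain ⟨w, -⟩ := Z.isIrreducible'.1
    exact hy ⟨Points.map fst (Points.ofPt c w), map_map_fst_eq_mk h _⟩
  · obtain ⟨xk, hxk⟩ := exists_point_fibre h x hx
    obtain ⟨u', hu'⟩ := ofPt_surjective a' ha's xk
    obtain ⟨U, V, a, b, hh, u, hae, has, hbe, hbs, comm, hu, -⟩ := exists_chart_diagram_at f x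
    refine ⟨U, V, a, b, hh, u, hae, hbe, comm, hu, ?_⟩
    show FlatMor.fibreDimAt hh.left u ≤ (d : WithBot ℕ∞)
    rw [H u' U V a b hh u hae hbe comm (by rw [hu, hu', hxk])]
    exact (Groth.Agent.Lib.Helper84.localDim_le_dim u').trans (hU'le.trans hd)
  · unfold AlgSp.dim
    refine iSup_le fun W => iSup_le fun c => iSup_le fun hc => ?_
    refine topologicalKrullDim_le_of_forall_localDim_le _ fun w => ?_
    obtain ⟨U, V, a, b, hh, u, hae, hbe, comm, hu, hq⟩ :=
      H2 (Points.map fst (Points.ofPt c w)) (map_map_fst_eq_mk h _)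
    rw [← localDim_eq_fibreDimAt f hlft k Xk fst snd h c hc w a b hh u hae hbe comm hu]
    exact hq

end Groth.Agent.S10678
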