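import Groth.Statements.S10679
-- import your own Groth.Agent.* helpers here
import Groth.Agent.S10678
import Groth.Agent.Lib.Helper5.FppfSource

set_option autoImplicit false
universe u
open CategoryTheory CategoryTheory.Limits AlgebraicGeometry
open AlgSp

namespace Groth.Agent.S10679

open Groth.Agent.Lib.Helper36.AlgSpCharts Groth.Agent.Lib.Helper37.AlgSpPoints
  Groth.Agent.Lib.Helper36.AlgSpChartDiag Groth.Agent.Lib.Helper36.AlgSpHasAtMor
  Groth.Agent.Lib.Helper36.FibreDimSp

/-- Every point has a representing field point and a fibre. -/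
theorem exists_fibre {S : Scheme.{u}} {X Y : AlgSp.Sp S} (f : X ⟶ Y) (y : AlgSp.Points Y) :
    ∃ (k : AlgSp.FieldPt Y) (_ : AlgSp.Points.mk k = y) (Xk : AlgSp.Sp S) (fst : Xk ⟶ X)
      (snd : Xk ⟶ (AlgSp.yon S).obj k.pt), IsPullback fst snd f k.toHom := by
  induction y using Points.ind with
  | h k => exact ⟨k, rfl, pullback f k.toHom, pullback.fst _ _, pullback.snd _ _,
      IsPullback.of_hasPullback _ _⟩

theorem locP_lft_of_lfp {S : Scheme.{u}} {X Y : AlgSp.Sp S} (f : X ⟶ Y)
    (h : AlgSp.LocP @LocallyOfFinitePresentation f) : AlgSp.LocP @LocallyOfFiniteType f := by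
  intro U V a b hh ha hb comm
  have := h a b hh ha hb comm
  infer_instance

/-- For a flat morphism f : X ⟶ Y of algebraic spaces over S which is of finite presentation, the fibre
dimension function on |Y|, y ↦ dimension of X_k for a field point k in the class of y, is lower
semi-continuous: for every d the set of y such that every fibre X_k over y (k a field point in the
class of y, X_k any pullback in fppf sheaves) has dimension greater than d is open. -/
theorem result {S : Scheme.{u}} {X Y : AlgSp.Space S} (f : X ⟶ Y)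
    (hf1 : AlgSp.LocP @Flat f.hom) (hf2 : AlgSp.IsFinitePresentationMor f.hom) (d : WithBot ℕ∞) :
    IsOpen {y : AlgSp.Points Y.obj | ∀ (k : AlgSp.FieldPt Y.obj), AlgSp.Points.mk k = y →
      ∀ (Xk : AlgSp.Sp S) (fst : Xk ⟶ X.obj) (snd : Xk ⟶ (AlgSp.yon S).obj k.pt),
        IsPullback fst snd f.hom k.toHom → d < AlgSp.dim Xk} := by
  have hft : AlgSp.IsFiniteTypeMor f.hom := ⟨locP_lft_of_lfp _ hf2.1, hf2.2.1⟩
  induction d using WithBot.recBotCoe with
  | bot =>
    have e : {y : AlgSp.Points Y.obj | ∀ (k : AlgSp.FieldPt Y.obj), AlgSp.Points.mk k = y →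
        ∀ (Xk : AlgSp.Sp S) (fst : Xk ⟶ X.obj) (snd : Xk ⟶ (AlgSp.yon S).obj k.pt),
        IsPullback fst snd f.hom k.toHom → ⊥ < AlgSp.dim Xk} = Set.range (Points.map f.hom) := by
      ext y
      constructor
      · intro hy
        obtain ⟨k, hk, Xk, fst, snd, sq⟩ := exists_fibre f.hom y
        have h1 := hy k hk Xk fst snd sq
        by_contra hny
        exact (ne_of_gt h1) ((Groth.Agent.S10678.result f hft y k hk Xk fst snd sq).1.2 hny)
      · intro hy k hk Xk fst snd sq
        rw [bot_lt_iff_ne_bot]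
        intro hbot
        exact (Groth.Agent.S10678.result f hft y k hk Xk fst snd sq).1.1 hbot hy
    rw [e]
    exact (Groth.Agent.Lib.Helper5.FppfSource.isOpenMap_points_of_flat_lfp X.property Y.property
      f.hom hf1 hf2.1).isOpen_range
  | coe d =>
    induction d using ENat.recTopCoe with
    | top =>
      convert isOpen_empty
      ext y
      simp only [Set.mem_ofPred_eq, Set.mem_empty_iff_false, iff_false]
      intro hy
      obtain ⟨k, hk, Xk, fst, snd, sq⟩ := exists_fibre f.hom y
      exact not_top_lt (hy k hk Xk fst snd sq)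
    | coe n =>
      rw [isOpen_iff_forall_mem_open]
      intro y hy
      obtain ⟨k, hk, Xk, fst, snd, sq⟩ := exists_fibre f.hom y
      have h1 := hy k hk Xk fst snd sq
      have h2 : ¬ (AlgSp.dim Xk ≤ (n : ℕ)) := not_le.2 h1
      rw [(Groth.Agent.S10678.result f hft y k hk Xk fst snd sq).2 n] at h2
      push Not at h2
      obtain ⟨x, hx, hnx⟩ := h2
      obtain ⟨U, V, a, b, h, u, hae, has, hbe, hbs, comm, hu, hbu⟩ := exists_chart_diagram_at f x
      have hfl : Flat h.left := hf1 a b h hae hbe comm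
      have hfp : LocallyOfFinitePresentation h.left := hf2.1 a b h hae hbe comm
      have hnu : ¬ (FlatMor.fibreDimAt h.left u ≤ ((n : ℕ) : WithBot ℕ∞)) := fun hle =>
        hnx ⟨U, V, a, b, h, u, hae, hbe, comm, hu, hle⟩
      obtain ⟨ξ, W, hξu, hξ, hξW, hW⟩ :=
        Groth.Agent.Lib.Helper73.exists_open_fibreDimAt_eq_of_flat_fp h.left u
      refine ⟨Points.ofPt b '' (h.left '' (W : Set ↥U.left)), ?_,
        isOpenMap_ofPt b hbe _ (h.left.isOpenMap _ W.isOpen), ⟨h.left ξ, ⟨ξ, hξW, rfl⟩, ?_⟩⟩
      · rintro _ ⟨_, ⟨w, hw, rfl⟩, rfl⟩ k' hk' Xk' fst' snd' sq'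
        rw [← not_le]
        intro hle
        have h3 := ((Groth.Agent.S10678.result f hft _ k' hk' Xk' fst' snd' sq').2 n).1 hle
          (Points.ofPt a w) (by rw [Points.map_ofPt, comm, ofPt_map_comp])
        have h4 := (hasAtMor_iff_forall_chart
          (isEtaleLocalGermMor_fibreDimAt (· ≤ ((n : ℕ) : WithBot ℕ∞))) f _).1 h3 U V a b h w
          hae hbe comm rfl
        rw [hW w hw] at h4
        exact hnu h4
      · rw [hξ, hbu, hx]

end Groth.Agent.S10679
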