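import Groth.Statements.S10680
-- import your own Groth.Agent.* helpers here
import Groth.Agent.S10678
import Groth.Agent.S10308
import Groth.Agent.S10679
import Groth.Agent.Lib.Helper23.AlgSpMor3
import Groth.Agent.Lib.Helper73.DimFormula.FibreDimSemi

set_option autoImplicit false
universe u
open CategoryTheory CategoryTheory.Limits AlgebraicGeometry
open AlgSp

namespace Groth.Agent.S10680

open Groth.Agent.Lib.Helper36.AlgSpCharts Groth.Agent.Lib.Helper37.AlgSpPoints
  Groth.Agent.Lib.Helper36.AlgSpChartDiag Groth.Agent.Lib.Helper36.AlgSpHasAtMor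
  Groth.Agent.Lib.Helper36.FibreDimSp

theorem lt_succ_iff_le (x : WithBot ℕ∞) (m : ℕ) :
    x < (((m + 1 : ℕ) : ℕ∞) : WithBot ℕ∞) ↔ x ≤ (((m : ℕ) : ℕ∞) : WithBot ℕ∞) := by
  induction x using WithBot.recBotCoe with
  | bot => simp
  | coe x =>
    induction x using ENat.recTopCoe with
    | top =>
      simp only [WithBot.coe_lt_coe, WithBot.coe_le_coe, not_top_lt, top_le_iff, false_iff]
      exact ENat.natCast_ne_top m
    | coe j =>
      rw [WithBot.coe_lt_coe, WithBot.coe_le_coe, Nat.cast_lt, Nat.cast_le]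
      exact Nat.lt_succ_iff

theorem lt_zero_iff_eq_bot (x : WithBot ℕ∞) :
    x < (((0 : ℕ) : ℕ∞) : WithBot ℕ∞) ↔ x = ⊥ := by
  induction x using WithBot.recBotCoe with
  | bot => simp
  | coe x => simp

/-- For a morphism of finite type, the fibres are finite dimensional. -/
theorem exists_dim_fibre_le {S : Scheme.{u}} {X Y : AlgSp.Space S} (f : X ⟶ Y)
    (hft : AlgSp.IsFiniteTypeMor f.hom) (k : AlgSp.FieldPt Y.obj)
    (Xk : AlgSp.Sp S) (fst : Xk ⟶ X.obj) (snd : Xk ⟶ (AlgSp.yon S).obj k.pt)
    (sq : IsPullback fst snd f.hom k.toHom) : ∃ m : ℕ, AlgSp.dim Xk ≤ (m : WithBot ℕ∞) := by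
  have hcs : CompactSpace ↥k.pt.left :=
    inferInstanceAs (CompactSpace ↥(Spec (CommRingCat.of k.K)))
  have hqc : IsQuasiCompactSp Xk :=
    hft.2 (IsAlgSpace.yon_obj k.pt) (Groth.Agent.Lib.Helper23.AlgSpMor.isQuasiCompactSp_yon k.pt)
      k.toHom fst snd sq
  have hcomp : CompactSpace (Points Xk) :=
    Groth.Agent.Lib.Helper23.AlgSpMor.compactSpace_points_of_isQuasiCompactSp hqc
  let Z : ℕ → Set (Points X.obj) := fun m =>
    {x | HasAtMor (fun _ _ h u => FlatMor.fibreDimAt h u ≤ ((m : ℕ) : WithBot ℕ∞)) f.hom x}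
  have hZo : ∀ m, IsOpen (Z m) := fun m => Groth.Agent.S10308.result f hft.1 m
  have hZmono : Monotone Z := by
    intro m m' hmm' x hx
    obtain ⟨U, V, a, b, h, u, hae, hbe, comm, hu, hq⟩ := hx
    exact ⟨U, V, a, b, h, u, hae, hbe, comm, hu, hq.trans (by exact_mod_cast hmm')⟩
  have hcover : (Set.univ : Set (Points Xk)) ⊆ ⋃ m, Points.map fst ⁻¹' Z m := by
    intro xk _
    obtain ⟨U, V, a, b, h, u, hae, has, hbe, hbs, comm, hu, -⟩ :=
      exists_chart_diagram_at f (Points.map fst xk)
    have hlft : LocallyOfFiniteType h.left := hft.1 a b h hae hbe comm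
    obtain ⟨m, hm⟩ := Groth.Agent.Lib.Helper73.exists_fibreDimAt_eq_natCast h.left u
    exact Set.mem_iUnion.2 ⟨m, ⟨U, V, a, b, h, u, hae, hbe, comm, hu, hm.le⟩⟩
  obtain ⟨m, hm⟩ := isCompact_univ.elim_directed_cover (fun m => Points.map fst ⁻¹' Z m)
    (fun m => (hZo m).preimage (Points.continuous_map fst)) hcover
    (Monotone.directed_le fun m m' hmm' => Set.preimage_mono (hZmono hmm'))
  refine ⟨m, ?_⟩
  rw [(Groth.Agent.S10678.result f hft _ k rfl Xk fst snd sq).2 m]
  intro x hx
  obtain ⟨xk, rfl⟩ := exists_point_fibre sq x hx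
  exact hm (Set.mem_univ xk)

/-- For a proper morphism f : X ⟶ Y between algebraic spaces over S the fibre dimension function on |Y|
is upper semi-continuous: for every d the set of y such that every fibre X_k over y (k a field point
in the class of y, X_k any pullback in fppf sheaves) has dimension less than d is open. -/
theorem result {S : Scheme.{u}} {X Y : AlgSp.Space S} (f : X ⟶ Y) (hf : AlgSp.IsProperMor f.hom) (d : WithBot ℕ∞) :
    IsOpen {y : AlgSp.Points Y.obj | ∀ (k : AlgSp.FieldPt Y.obj), AlgSp.Points.mk k = y →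
      ∀ (Xk : AlgSp.Sp S) (fst : Xk ⟶ X.obj) (snd : Xk ⟶ (AlgSp.yon S).obj k.pt),
        IsPullback fst snd f.hom k.toHom → AlgSp.dim Xk < d} := by
  obtain ⟨-, hft, huc⟩ := hf
  have hclosed : IsClosedMap (Points.map f.hom) :=
    huc Y.property (𝟙 _) (𝟙 _) f.hom IsPullback.of_id_fst
  induction d using WithBot.recBotCoe with
  | bot =>
    convert isOpen_empty
    ext y
    simp only [Set.mem_ofPred_eq, Set.mem_empty_iff_false, iff_false]
    intro hy
    obtain ⟨k, hk, Xk, fst, snd, sq⟩ := Groth.Agent.S10679.exists_fibre f.hom y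
    exact not_lt_bot (hy k hk Xk fst snd sq)
  | coe d =>
    induction d using ENat.recTopCoe with
    | top =>
      convert isOpen_univ
      ext y
      simp only [Set.mem_ofPred_eq, Set.mem_univ, iff_true]
      intro k hk Xk fst snd sq
      obtain ⟨m, hm⟩ := exists_dim_fibre_le f hft k Xk fst snd sq
      exact lt_of_le_of_lt hm (by exact WithBot.coe_lt_coe.2 (ENat.natCast_lt_top m))
    | coe n =>
      cases n with
      | zero =>
        have e : {y : AlgSp.Points Y.obj | ∀ (k : AlgSp.FieldPt Y.obj), AlgSp.Points.mk k = y →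
            ∀ (Xk : AlgSp.Sp S) (fst : Xk ⟶ X.obj) (snd : Xk ⟶ (AlgSp.yon S).obj k.pt),
            IsPullback fst snd f.hom k.toHom → AlgSp.dim Xk < (((0 : ℕ) : ℕ∞) : WithBot ℕ∞)} =
            (Set.range (Points.map f.hom))ᶜ := by
          ext y
          constructor
          · intro hy
            obtain ⟨k, hk, Xk, fst, snd, sq⟩ := Groth.Agent.S10679.exists_fibre f.hom y
            have h1 := (lt_zero_iff_eq_bot _).1 (hy k hk Xk fst snd sq)
            exact (Groth.Agent.S10678.result f hft y k hk Xk fst snd sq).1.1 h1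
          · intro hy k hk Xk fst snd sq
            rw [lt_zero_iff_eq_bot]
            exact (Groth.Agent.S10678.result f hft y k hk Xk fst snd sq).1.2 hy
        rw [e]
        exact hclosed.isClosed_range.isOpen_compl
      | succ m =>
        have hZo := Groth.Agent.S10308.result f hft.1 m
        have e : {y : AlgSp.Points Y.obj | ∀ (k : AlgSp.FieldPt Y.obj), AlgSp.Points.mk k = y →
            ∀ (Xk : AlgSp.Sp S) (fst : Xk ⟶ X.obj) (snd : Xk ⟶ (AlgSp.yon S).obj k.pt),
            IsPullback fst snd f.hom k.toHom →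
              AlgSp.dim Xk < (((m + 1 : ℕ) : ℕ∞) : WithBot ℕ∞)} =
            (Points.map f.hom '' {x : AlgSp.Points X.obj | AlgSp.HasAtMor
              (fun _ _ h u => FlatMor.fibreDimAt h u ≤ ((m : ℕ) : WithBot ℕ∞)) f.hom x}ᶜ)ᶜ := by
          ext y
          constructor
          · rintro hy ⟨x, hx, rfl⟩
            obtain ⟨k, hk, Xk, fst, snd, sq⟩ :=
              Groth.Agent.S10679.exists_fibre f.hom (Points.map f.hom x)
            have h1 := (lt_succ_iff_le _ m).1 (hy k hk Xk fst snd sq)
            exact hx (((Groth.Agent.S10678.result f hft _ k hk Xk fst snd sq).2 m).1 h1 x rfl)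
          · intro hy k hk Xk fst snd sq
            rw [lt_succ_iff_le]
            refine ((Groth.Agent.S10678.result f hft y k hk Xk fst snd sq).2 m).2 fun x hx => ?_
            by_contra hnx
            exact hy ⟨x, hnx, hx⟩
        rw [e]
        exact (hclosed _ hZo.isClosed_compl).isOpen_compl

end Groth.Agent.S10680
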