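import Groth.Statements.S10681
-- import your own Groth.Agent.* helpers here
import Groth.Agent.Lib.Helper36.GalOrbit
import Groth.Agent.Lib.Helper4.StrictHensAlgSp
import Groth.Agent.Lib.Helper23.AlgSpMor4

set_option autoImplicit false
universe u
open CategoryTheory CategoryTheory.Limits AlgebraicGeometry
open AlgSp

namespace Groth.Agent.S10681

open Groth.Agent.Lib.Helper36.AlgSpCharts Groth.Agent.Lib.Helper37.AlgSpPoints
  Groth.Agent.Lib.Helper36.FieldBC Groth.Agent.Lib.Helper36.FieldBCConn
  Groth.Agent.Lib.Helper36.FieldBCGal Groth.Agent.Lib.Helper36.GalCont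
  Groth.Agent.Lib.Helper36.GalOrbit Groth.Agent.Lib.Helper78.GalTrans

variable {S : Scheme.{u}}

/-- base change square between two fibres of `f` -/
theorem exists_bc {X Y : Sp S} (f : X ⟶ Y) {T T' : Over S} (y : (yon S).obj T ⟶ Y)
    (y' : (yon S).obj T' ⟶ Y) (m : T' ⟶ T) (hm : (yon S).map m ≫ y = y')
    {F F' : Sp S} {p : F ⟶ X} {π : F ⟶ (yon S).obj T} (sq : IsPullback p π f y)
    {p' : F' ⟶ X} {π' : F' ⟶ (yon S).obj T'} (sq' : IsPullback p' π' f y') :
    ∃ r : F' ⟶ F, r ≫ p = p' ∧ IsPullback r π' π ((yon S).map m) := by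
  have hcomm : p' ≫ f = (π' ≫ (yon S).map m) ≫ y := by
    rw [Category.assoc, hm, sq'.w]
  refine ⟨sq.lift p' (π' ≫ (yon S).map m) hcomm, sq.lift_fst _ _ _, ?_⟩
  refine IsPullback.of_right ?_ (sq.lift_snd _ _ _) sq
  rw [sq.lift_fst, hm]
  exact sq'

/-- the base change of a surjective morphism of schemes is surjective on points -/
theorem surjective_of_isPullback {F P : Sp S} {T T' : Over S} (g : T' ⟶ T)
    (π : F ⟶ (yon S).obj T) (pr : P ⟶ F) (pr' : P ⟶ (yon S).obj T')
    (sq : IsPullback pr pr' π ((yon S).map g)) (hg : Surjective g.left) :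
    Function.Surjective (Points.map pr) := by
  apply Groth.Agent.Lib.Helper37.UnivTop.surjective_points_of_repWith
  exact (RepWith (S := S) @Surjective).of_isPullback sq.flip
    ((repWith_yon_map_iff @Surjective g).2 hg)

section Gal

variable {k L : Type u} [Field k] [Field L] [Algebra k L]
  (strk : Spec (CommRingCat.of k) ⟶ S) (strL : Spec (CommRingCat.of L) ⟶ S)
  (gL : Over.mk strL ⟶ Over.mk strk)
  (hgL : gL.left = Spec.map (CommRingCat.ofHom (algebraMap k L)))
  {F P : Sp S} (π : F ⟶ (yon S).obj (Over.mk strk)) (pr : P ⟶ F)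
  (pr' : P ⟶ (yon S).obj (Over.mk strL)) (sq : IsPullback pr pr' π ((yon S).map gL))

include hgL in
theorem strL_eq : Spec.map (CommRingCat.ofHom (algebraMap k L)) ≫ strk = strL := by
  rw [← hgL]; exact Over.w gL

include hgL sq in
/-- joint continuity of the Galois action on the points of a base change, general base -/
theorem space_cont_gen [Algebra.IsIntegral k L] {U : Over S} (a : (yon S).obj U ⟶ F)
    (hae : RepWith @Etale a) (has : RepWith @Surjective a)
    (w : Points P) (O : Set (Points P)) (hO : IsOpen O) (hw : w ∈ O) :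
    ∃ (N : Set (Points P)) (H : Subgroup (L ≃ₐ[k] L)),
      IsOpen N ∧ w ∈ N ∧ IsOpen (H : Set (L ≃ₐ[k] L)) ∧
        ∀ σ ∈ H, ∀ (gσ : Over.mk strL ⟶ Over.mk strL) (α : P ⟶ P),
          gσ.left = Spec.map (CommRingCat.ofHom (σ : L ≃ₐ[k] L).toRingHom) →
          α ≫ pr = pr → α ≫ pr' = pr' ≫ (yon S).map gσ →
          ∀ n ∈ N, Points.map α n ∈ O := by
  obtain ⟨s, hs⟩ := (yon S).map_surjective (a ≫ π)
  have hstrL := strL_eq strk strL gL hgL
  let UL : Over S :=
    Over.mk (pullback.fst s.left (Spec.map (CommRingCat.ofHom (algebraMap k L))) ≫ U.hom)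
  let p1 : UL ⟶ U := Over.homMk (pullback.fst s.left _) rfl
  have hp2w : pullback.snd s.left (Spec.map (CommRingCat.ofHom (algebraMap k L))) ≫ strL =
      pullback.fst s.left _ ≫ U.hom := by
    rw [← hstrL, ← Category.assoc, ← pullback.condition, Category.assoc]
    congr 1
    exact Over.w s
  let p2 : UL ⟶ Over.mk strL := Over.homMk (pullback.snd s.left _) hp2w
  have hp12 : p1 ≫ s = p2 ≫ gL := by
    apply Over.OverMorphism.ext
    rw [Over.comp_left, Over.comp_left, hgL]
    exact pullback.condition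
  have sqU : IsPullback ((yon S).map p1) ((yon S).map p2) ((yon S).map s) ((yon S).map gL) := by
    have h1 : IsPullback p1.left p2.left s.left gL.left := by
      rw [hgL]; exact IsPullback.of_hasPullback _ _
    exact (IsPullback.of_map (Over.forget S) hp12 h1).map (yon S)
  have hcomm : ((yon S).map p1 ≫ a) ≫ π = (yon S).map p2 ≫ (yon S).map gL := by
    rw [Category.assoc, ← hs, sqU.w]
  let aL : (yon S).obj UL ⟶ P := sq.lift ((yon S).map p1 ≫ a) ((yon S).map p2) hcomm
  have haL1 : aL ≫ pr = (yon S).map p1 ≫ a := sq.lift_fst _ _ _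
  have haL2 : aL ≫ pr' = (yon S).map p2 := sq.lift_snd _ _ _
  have sqa : IsPullback aL ((yon S).map p1) pr a := by
    refine IsPullback.of_right ?_ haL1 sq.flip
    rw [haL2, ← hs]
    exact sqU.flip
  have haLe : RepWith @Etale aL := (RepWith (S := S) @Etale).of_isPullback sqa.flip hae
  have haLs : RepWith @Surjective aL := (RepWith (S := S) @Surjective).of_isPullback sqa.flip has
  obtain ⟨y', hy'⟩ := ofPt_surjective aL haLs w
  obtain ⟨W, H, hW, hyW, hH, hact⟩ := scheme_cont L s.left y' (Points.ofPt aL ⁻¹' O)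
    (hO.preimage (Points.continuous_ofPt _)) (by change Points.ofPt aL y' ∈ O; rw [hy']; exact hw)
  refine ⟨Points.ofPt aL '' W, H, isOpenMap_ofPt aL haLe _ hW, ⟨y', hyW, hy'⟩, hH, ?_⟩
  rintro σ hσ gσ α hgσ hα1 hα2 _ ⟨y, hyW', rfl⟩
  let τ : UL.left ⟶ UL.left := gal s.left L σ
  have hτ1 : τ ≫ p1.left = p1.left := gal_fst _ _ _
  have hτ2 : τ ≫ p2.left = p2.left ≫ gσ.left := by
    rw [hgσ]
    exact gal_snd _ _ _
  have hτw : τ ≫ UL.hom = UL.hom := by
    change τ ≫ p1.left ≫ U.hom = p1.left ≫ U.hom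
    rw [← Category.assoc, hτ1]
  let τO : UL ⟶ UL := Over.homMk τ hτw
  have hτO1 : τO ≫ p1 = p1 := Over.OverMorphism.ext hτ1
  have hτO2 : τO ≫ p2 = p2 ≫ gσ := Over.OverMorphism.ext hτ2
  have hequiv : (yon S).map τO ≫ aL = aL ≫ α := by
    apply sq.hom_ext
    · rw [Category.assoc, haL1, ← Category.assoc, ← Functor.map_comp, hτO1, Category.assoc, hα1,
        haL1]
    · rw [Category.assoc, haL2, ← Functor.map_comp, hτO2, Functor.map_comp, Category.assoc, hα2,
        ← Category.assoc, haL2]
  rw [Points.map_ofPt, ← hequiv, ofPt_map_comp]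
  exact hact σ hσ y hyW'

include hgL in
theorem gS_aux (σ : L ≃ₐ[k] L) :
    Spec.map (CommRingCat.ofHom (σ : L ≃ₐ[k] L).toRingHom) ≫ strL = strL := by
  rw [← strL_eq strk strL gL hgL, ← Category.assoc, ← Spec.map_comp, ← CommRingCat.ofHom_comp]
  congr 3
  ext x
  exact σ.commutes x

/-- the automorphism of `Spec L` over `S` attached to `σ` -/
noncomputable def gS (σ : L ≃ₐ[k] L) : Over.mk strL ⟶ Over.mk strL :=
  Over.homMk (Spec.map (CommRingCat.ofHom (σ : L ≃ₐ[k] L).toRingHom))
    (gS_aux strk strL gL hgL σ)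

theorem gS_left (σ : L ≃ₐ[k] L) : (gS strk strL gL hgL σ).left =
    Spec.map (CommRingCat.ofHom (σ : L ≃ₐ[k] L).toRingHom) := rfl

theorem gS_mul (τ σ : L ≃ₐ[k] L) :
    gS strk strL gL hgL τ ≫ gS strk strL gL hgL σ = gS strk strL gL hgL (τ * σ) := by
  apply Over.OverMorphism.ext
  rw [Over.comp_left, gS_left, gS_left, gS_left, ← Spec.map_comp, ← CommRingCat.ofHom_comp]
  rfl

theorem gS_one : gS strk strL gL hgL (1 : L ≃ₐ[k] L) = 𝟙 _ := by
  apply Over.OverMorphism.ext
  rw [gS_left]
  exact Spec.map_id _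

theorem gS_gL (σ : L ≃ₐ[k] L) : gS strk strL gL hgL σ ≫ gL = gL := by
  apply Over.OverMorphism.ext
  rw [Over.comp_left, gS_left, hgL, ← Spec.map_comp, ← CommRingCat.ofHom_comp]
  congr 2
  ext x
  exact σ.commutes x

/-- the automorphism of the base change `P` attached to `σ` -/
noncomputable def alpha (σ : L ≃ₐ[k] L) : P ⟶ P :=
  sq.lift pr (pr' ≫ (yon S).map (gS strk strL gL hgL σ)) (by
    rw [Category.assoc, ← Functor.map_comp, gS_gL, sq.w])

theorem alpha_pr (σ : L ≃ₐ[k] L) : alpha strk strL gL hgL π pr pr' sq σ ≫ pr = pr :=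
  sq.lift_fst _ _ _

theorem alpha_pr' (σ : L ≃ₐ[k] L) : alpha strk strL gL hgL π pr pr' sq σ ≫ pr' =
    pr' ≫ (yon S).map (gS strk strL gL hgL σ) :=
  sq.lift_snd _ _ _

theorem alpha_mul (τ σ : L ≃ₐ[k] L) :
    alpha strk strL gL hgL π pr pr' sq τ ≫ alpha strk strL gL hgL π pr pr' sq σ =
      alpha strk strL gL hgL π pr pr' sq (τ * σ) := by
  apply sq.hom_ext
  · rw [Category.assoc, alpha_pr, alpha_pr, alpha_pr]
  · rw [Category.assoc, alpha_pr', ← Category.assoc, alpha_pr', Category.assoc,
      ← Functor.map_comp, gS_mul, alpha_pr']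

theorem alpha_one : alpha strk strL gL hgL π pr pr' sq 1 = 𝟙 P := by
  apply sq.hom_ext
  · rw [alpha_pr, Category.id_comp]
  · rw [alpha_pr', gS_one, CategoryTheory.Functor.map_id, Category.comp_id, Category.id_comp]


include hgL sq in
/-- intermediate base changes of `P` -/
theorem exists_inter (E : IntermediateField k L) :
    ∃ (strE : Spec (CommRingCat.of E) ⟶ S) (gE : Over.mk strE ⟶ Over.mk strk)
      (gLE : Over.mk strL ⟶ Over.mk strE) (PE : Sp S) (prE : PE ⟶ F)
      (prE' : PE ⟶ (yon S).obj (Over.mk strE)) (ρ : P ⟶ PE),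
      gE.left = Spec.map (CommRingCat.ofHom (algebraMap k E)) ∧
      gLE.left = Spec.map (CommRingCat.ofHom (algebraMap E L)) ∧
      gLE ≫ gE = gL ∧
      IsPullback prE prE' π ((yon S).map gE) ∧ IsPullback ρ pr' prE' ((yon S).map gLE) ∧
      ρ ≫ prE = pr := by
  have hstrL := strL_eq strk strL gL hgL
  let strE : Spec (CommRingCat.of E) ⟶ S :=
    Spec.map (CommRingCat.ofHom (algebraMap k E)) ≫ strk
  let gE : Over.mk strE ⟶ Over.mk strk :=
    Over.homMk (Spec.map (CommRingCat.ofHom (algebraMap k E))) rfl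
  have hLE : Spec.map (CommRingCat.ofHom (algebraMap E L)) ≫
      Spec.map (CommRingCat.ofHom (algebraMap k E)) =
      Spec.map (CommRingCat.ofHom (algebraMap k L)) := by
    rw [← Spec.map_comp, ← CommRingCat.ofHom_comp]
    rfl
  let gLE : Over.mk strL ⟶ Over.mk strE :=
    Over.homMk (Spec.map (CommRingCat.ofHom (algebraMap E L))) (by
      change Spec.map _ ≫ Spec.map _ ≫ strk = strL
      rw [← Category.assoc, hLE, hstrL])
  have hcomp : gLE ≫ gE = gL := by
    apply Over.OverMorphism.ext
    rw [Over.comp_left, hgL]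
    exact hLE
  have sqE := IsPullback.of_hasPullback π ((yon S).map gE)
  have hcomm : pr ≫ π = (pr' ≫ (yon S).map gLE) ≫ (yon S).map gE := by
    rw [Category.assoc, ← Functor.map_comp, hcomp, sq.w]
  refine ⟨strE, gE, gLE, pullback π ((yon S).map gE), pullback.fst _ _, pullback.snd _ _,
    sqE.lift pr (pr' ≫ (yon S).map gLE) hcomm, rfl, rfl, hcomp, sqE, ?_, sqE.lift_fst _ _ _⟩
  refine IsPullback.of_right ?_ (sqE.lift_snd _ _ _) sqE
  rw [sqE.lift_fst, ← Functor.map_comp, hcomp]
  exact sq

include hgL sq in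
/-- if all finite subextensions give connected base changes, then `|P|` is connected -/
theorem connected_of_finite_gen [IsGalois k L]
    (hF : ∃ (U : Over S) (a : (yon S).obj U ⟶ F), RepWith @Etale a ∧ RepWith @Surjective a)
    (hfin : ∀ E : IntermediateField k L, FiniteDimensional k E →
      ∀ (strE : Spec (CommRingCat.of E) ⟶ S) (gE : Over.mk strE ⟶ Over.mk strk),
        gE.left = Spec.map (CommRingCat.ofHom (algebraMap k E)) →
        ∀ (PE : Sp S) (prE : PE ⟶ F) (prE' : PE ⟶ (yon S).obj (Over.mk strE)),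
          IsPullback prE prE' π ((yon S).map gE) → ConnectedSpace (Points PE)) :
    ConnectedSpace (Points P) := by
  obtain ⟨U, a, hae, has⟩ := hF
  let act : (L ≃ₐ[k] L) → Points P → Points P := fun σ =>
    Points.map (alpha strk strL gL hgL π pr pr' sq σ)
  have act_act : ∀ (τ σ : L ≃ₐ[k] L) (n : Points P), act σ (act τ n) = act (τ * σ) n := by
    intro τ σ n
    change Points.map _ (Points.map _ n) = Points.map _ n
    rw [← Points.map_comp, alpha_mul]
  have act_one : ∀ n : Points P, act 1 n = n := by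
    intro n
    change Points.map _ n = n
    rw [alpha_one, Points.map_id]
  have continuous_act : ∀ σ : L ≃ₐ[k] L, Continuous (act σ) := fun σ => Points.continuous_map _
  have cont : ∀ (w : Points P) (O : Set (Points P)), IsOpen O → w ∈ O →
      ∃ (N : Set (Points P)) (H : Subgroup (L ≃ₐ[k] L)), IsOpen N ∧ w ∈ N ∧
        IsOpen (H : Set (L ≃ₐ[k] L)) ∧ ∀ σ ∈ H, ∀ n ∈ N, act σ n ∈ O := by
    intro w O hO hw
    obtain ⟨N, H, hN, hwN, hH, hact⟩ :=
      space_cont_gen strk strL gL hgL π pr pr' sq a hae has w O hO hw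
    exact ⟨N, H, hN, hwN, hH, fun σ hσ n hn =>
      hact σ hσ (gS strk strL gL hgL σ) (alpha strk strL gL hgL π pr pr' sq σ)
        (gS_left strk strL gL hgL σ) (alpha_pr strk strL gL hgL π pr pr' sq σ)
        (alpha_pr' strk strL gL hgL π pr pr' sq σ) n hn⟩
  rw [connectedSpace_iff_clopen]
  constructor
  · obtain ⟨strE, gE, gLE, PE, prE, prE', ρ, hgE, hgLE, hcomp, sqE, sqρ, hρ⟩ :=
      exists_inter strk strL gL hgL π pr pr' sq ⊥
    have h0 := hfin ⊥ inferInstance strE gE hgE PE prE prE' sqE
    obtain ⟨x⟩ := h0.toNonempty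
    have hsurj : Surjective gLE.left := by
      rw [hgLE]
      constructor
      intro x
      have : Subsingleton ↥(Spec (CommRingCat.of (⊥ : IntermediateField k L))) := inferInstance
      exact ⟨IsLocalRing.closedPoint L,
        Subsingleton.elim (α := ↥(Spec (CommRingCat.of (⊥ : IntermediateField k L)))) _ _⟩
    obtain ⟨w, -⟩ := surjective_of_isPullback gLE prE' ρ pr' sqρ hsurj x
    exact ⟨w⟩
  · intro Ub hUb
    by_cases hne : Ub = ∅
    · left; exact hne
    right
    obtain ⟨u, hu⟩ := Set.nonempty_iff_ne_empty.2 hne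
    obtain ⟨N₁, H₁, hN₁, huN₁, hH₁, hact₁⟩ := cont u Ub hUb.isOpen hu
    obtain ⟨E, hE, hEH⟩ := (krullTopology_mem_nhds_one_iff k L _).1 (hH₁.mem_nhds H₁.one_mem)
    let G' : Subgroup (L ≃ₐ[k] L) := E.fixingSubgroup
    let U₁ : Set (Points P) := {w | ∀ σ ∈ G', act σ w ∈ Ub}
    have hu₁ : u ∈ U₁ := fun σ hσ => hact₁ σ (hEH hσ) u huN₁
    have hsub : U₁ ⊆ Ub := fun w hw => by
      have := hw 1 G'.one_mem
      rwa [act_one] at this
    have hclosed : IsClosed U₁ := by
      have : U₁ = ⋂ σ ∈ G', act σ ⁻¹' Ub := by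
        ext w
        simp only [U₁, Set.mem_ofPred_eq, Set.mem_iInter, Set.mem_preimage]
      rw [this]
      exact isClosed_biInter fun σ _ => hUb.isClosed.preimage (continuous_act σ)
    have hopen : IsOpen U₁ := by
      rw [isOpen_iff_forall_mem_open]
      intro w hw
      have key : ∀ σ ∈ G', ∃ (N : Set (Points P)) (H : Subgroup (L ≃ₐ[k] L)),
          IsOpen N ∧ w ∈ N ∧ IsOpen (H : Set (L ≃ₐ[k] L)) ∧
            ∀ τ ∈ H, ∀ n ∈ N, act (τ * σ) n ∈ Ub := by
        intro σ hσ
        have hwσ : w ∈ act σ ⁻¹' Ub := hw σ hσ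
        obtain ⟨N, H, hN, hwN, hH, hact⟩ := cont w (act σ ⁻¹' Ub)
          (hUb.isOpen.preimage (continuous_act σ)) hwσ
        refine ⟨N, H, hN, hwN, hH, fun τ hτ n hn => ?_⟩
        have h1 : act τ n ∈ act σ ⁻¹' Ub := hact τ hτ n hn
        rw [Set.mem_preimage, act_act] at h1
        exact h1
      choose! N H hN hwN hH hact using key
      have hG'c : IsCompact (G' : Set (L ≃ₐ[k] L)) := E.fixingSubgroup_isClosed.isCompact
      obtain ⟨t, htG, htfin, hcov⟩ := hG'c.elim_finite_subcover_image (b := (G' : Set (L ≃ₐ[k] L)))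
        (c := fun σ => (fun ρ => ρ * σ⁻¹) ⁻¹' (H σ : Set (L ≃ₐ[k] L)))
        (fun σ hσ => (hH σ hσ).preimage (continuous_mul_const _))
        (fun σ hσ => Set.mem_biUnion hσ (by simp [(H σ).one_mem]))
      refine ⟨⋂ σ ∈ t, N σ, ?_, htfin.isOpen_biInter fun σ hσ => hN σ (htG hσ),
        Set.mem_iInter₂.2 fun σ hσ => hwN σ (htG hσ)⟩
      intro n hn ρ hρ
      obtain ⟨σ, hσt, hρσ⟩ := Set.mem_iUnion₂.1 (hcov hρ)
      have := hact σ (htG hσt) (ρ * σ⁻¹) hρσ n (Set.mem_iInter₂.1 hn σ hσt)
      rwa [inv_mul_cancel_right] at this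
    obtain ⟨strE, gE, gLE, PE, prE, prE', ρ, hgE, hgLE, hcomp, sqE, sqρ, hρ⟩ :=
      exists_inter strk strL gL hgL π pr pr' sq E
    let πE := Points.map ρ
    have hπo : IsOpenMap πE := by
      have : UniversallyOpen gLE.left := by
        rw [hgLE]
        exact (inferInstance : UniversallyOpen (Spec.map (CommRingCat.ofHom (algebraMap E L))))
      have hpo : RepWith @UniversallyOpen ρ :=
        (RepWith (S := S) @UniversallyOpen).of_isPullback sqρ.flip
          ((repWith_yon_map_iff @UniversallyOpen gLE).2 inferInstance)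
      exact Groth.Agent.Lib.Helper23.AlgSpMor.isOpenMap_points_of_repWith_universallyOpen _ hpo
    have hπs : Function.Surjective πE := by
      apply surjective_of_isPullback gLE prE' ρ pr' sqρ
      rw [hgLE]
      constructor
      intro x
      have : Subsingleton ↥(Spec (CommRingCat.of E)) := inferInstance
      exact ⟨IsLocalRing.closedPoint L,
        Subsingleton.elim (α := ↥(Spec (CommRingCat.of E))) _ _⟩
    have hsat : πE ⁻¹' (πE '' U₁) = U₁ := by
      apply Set.Subset.antisymm
      · rintro w' ⟨v, hv, hvw⟩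
        obtain ⟨σ, hσ⟩ := exists_gal_of_isPullback strE strL gLE hgLE prE' ρ pr' sqρ v w' hvw
        let σ₀ : L ≃ₐ[k] L := σ.restrictScalars k
        have hσ₀ : σ₀ ∈ G' := fun x => σ.commutes x
        have hgg : gS strk strL gL hgL σ₀ ≫ gLE = gLE := by
          apply Over.OverMorphism.ext
          rw [Over.comp_left, gS_left, hgLE, ← Spec.map_comp, ← CommRingCat.ofHom_comp]
          congr 2
          ext x
          exact σ.commutes x
        have hαρ : alpha strk strL gL hgL π pr pr' sq σ₀ ≫ ρ = ρ := by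
          apply sqE.hom_ext
          · rw [Category.assoc, hρ, alpha_pr]
          · rw [Category.assoc, sqρ.w, ← Category.assoc, alpha_pr', Category.assoc,
              ← Functor.map_comp, hgg]
        have h1 : act σ₀ v = w' :=
          hσ (gS strk strL gL hgL σ₀) (alpha strk strL gL hgL π pr pr' sq σ₀) rfl hαρ
            (alpha_pr' strk strL gL hgL π pr pr' sq σ₀)
        rw [← h1]
        intro ρ' hρ'
        rw [act_act]
        exact hv _ (G'.mul_mem hσ₀ hρ')
      · exact Set.subset_preimage_image _ _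
    have hcl : IsClopen (πE '' U₁) := by
      refine ⟨?_, hπo _ hopen⟩
      have hcompl : (πE '' U₁)ᶜ = πE '' U₁ᶜ := by
        ext y
        constructor
        · intro hy
          obtain ⟨w, rfl⟩ := hπs y
          exact ⟨w, fun hw => hy ⟨w, hw, rfl⟩, rfl⟩
        · rintro ⟨w, hw, rfl⟩ hy
          have : w ∈ πE ⁻¹' (πE '' U₁) := hy
          rw [hsat] at this
          exact hw this
      rw [← isOpen_compl_iff, hcompl]
      exact hπo _ hclosed.isOpen_compl
    have := hfin E hE strE gE hgE PE prE prE' sqE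
    rcases isClopen_iff.1 hcl with h | h
    · exfalso
      have : πE u ∈ πE '' U₁ := ⟨u, hu₁, rfl⟩
      rw [h] at this
      exact this
    · have hU₁ : U₁ = Set.univ := by rw [← hsat, h, Set.preimage_univ]
      exact Set.eq_univ_of_univ_subset (hU₁ ▸ hsub)

end Gal


section Main

open Polynomial in
/-- a separable element over the residue field of a prime becomes, after scaling by a unit coming
from the ring, a simple root of a monic polynomial over the ring -/
theorem exists_monic_root {R : Type u} [CommRing R] (p : Ideal R) [p.IsPrime] {K : Type u} [Field K]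
    [Algebra p.ResidueField K] (θ : K) (hθ : IsSeparable p.ResidueField θ) :
    ∃ (f : R[X]) (s : R), f.Monic ∧ s ∉ p ∧
      f.eval₂ ((algebraMap p.ResidueField K).comp (algebraMap R p.ResidueField))
        (algebraMap p.ResidueField K (algebraMap R p.ResidueField s) * θ) = 0 ∧
      f.derivative.eval₂ ((algebraMap p.ResidueField K).comp (algebraMap R p.ResidueField))
        (algebraMap p.ResidueField K (algebraMap R p.ResidueField s) * θ) ≠ 0 := by
  let κ := p.ResidueField
  let Rp := Localization.AtPrime p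
  let res : Rp →+* κ := IsLocalRing.residue Rp
  have hres : Function.Surjective res := IsLocalRing.residue_surjective
  let m : κ[X] := minpoly κ θ
  have hm : m.Monic := minpoly.monic hθ.isIntegral
  have hmsep : m.Separable := hθ
  -- lift to the local ring
  obtain ⟨mt, hmt1, -, hmt3⟩ := lifts_and_natDegree_eq_and_monic
    ((Polynomial.mem_lifts _).2 (Polynomial.map_surjective res hres m)) hm
  -- scale the roots
  let s₀ : p.primeCompl := IsLocalization.commonDenom p.primeCompl mt.support mt.coeff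
  have hq : mt.scaleRoots (algebraMap R Rp s₀) ∈ Polynomial.lifts (algebraMap R Rp) :=
    IsLocalization.scaleRoots_commonDenom_mem_lifts p.primeCompl mt
      (by rw [hmt3.leadingCoeff]; exact ⟨1, map_one _⟩)
  have hqm : (mt.scaleRoots (algebraMap R Rp s₀)).Monic := (monic_scaleRoots_iff _).2 hmt3
  obtain ⟨f, hf1, -, hf3⟩ := lifts_and_natDegree_eq_and_monic hq hqm
  refine ⟨f, s₀, hf3, s₀.2, ?_⟩
  set ι : R →+* K := (algebraMap κ K).comp (algebraMap R κ) with hι
  have hι' : ι = ((algebraMap κ K).comp res).comp (algebraMap R Rp) := by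
    rw [hι, RingHom.comp_assoc]
    congr 1
  set sK : K := algebraMap κ K (algebraMap R κ s₀) with hsK
  have hsK' : sK = algebraMap κ K (res (algebraMap R Rp s₀)) := rfl
  have hsK0 : sK ≠ 0 := by
    rw [hsK, ne_eq, map_eq_zero, Ideal.algebraMap_residueField_eq_zero]
    exact s₀.2
  let mK : K[X] := m.map (algebraMap κ K)
  have hfmap : f.map ι = mK.scaleRoots sK := by
    rw [hι', ← Polynomial.map_map, hf1, ← Polynomial.map_map,
      map_scaleRoots _ _ _ (by rw [hmt3.leadingCoeff, map_one]; exact one_ne_zero), hmt1,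
      map_scaleRoots _ _ _ (by rw [hm.leadingCoeff, map_one]; exact one_ne_zero)]
    rfl
  have hmK0 : mK.eval θ = 0 := by
    rw [Polynomial.eval_map, ← Polynomial.aeval_def]
    exact minpoly.aeval κ θ
  have hroot : (mK.scaleRoots sK).eval (sK * θ) = 0 := by
    rw [scaleRoots_eval_mul, hmK0, mul_zero]
  have hmKsep : mK.Separable := hmsep.map
  have hmKne : mK.scaleRoots sK ≠ 0 :=
    scaleRoots_ne_zero (hmKsep.ne_zero) _
  constructor
  · rw [← Polynomial.eval_map, hfmap]
    exact hroot
  · rw [← Polynomial.eval_map, ← Polynomial.derivative_map, hfmap]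
    intro hder
    have h1 : 1 < (mK.scaleRoots sK).rootMultiplicity (sK * θ) :=
      (one_lt_rootMultiplicity_iff_isRoot hmKne).2 ⟨hroot, hder⟩
    rw [rootMultiplicity_scaleRoots mK (IsRegular.of_ne_zero hsK0).left] at h1
    exact absurd (rootMultiplicity_le_one_of_separable hmKsep θ) (not_le.2 h1)



/-- an affine étale neighbourhood of a geometric point, with source literally a spectrum -/
theorem exists_init {Y : Space S} (yb : FieldPt Y.obj) (hyb : yb.IsGeometric) :
    ∃ (R : CommRingCat.{u}) (hom₀ : Spec R ⟶ S) (a₀ : (yon S).obj (Over.mk hom₀) ⟶ Y.obj)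
      (c₀ : yb.pt ⟶ Over.mk hom₀), RepWith @Etale a₀ ∧ (yon S).map c₀ ≫ a₀ = yb.toHom := by
  obtain ⟨⟨E₁, u⟩⟩ := Groth.Agent.Lib.Helper4.EtPt.nonempty_etNbhd yb Y.property hyb
  let U : Over S := E₁.obj.left
  let x : ↥U.left := u.1.left (IsLocalRing.closedPoint yb.K)
  obtain ⟨W, hW, hxW, -⟩ := exists_isAffineOpen_mem_and_subset (x := x)
    (U := (⊤ : U.left.Opens)) trivial
  let j : Spec Γ(U.left, W) ⟶ U.left := hW.fromSpec
  let V₀ : Over S := Over.mk (j ≫ U.hom)
  let jO : V₀ ⟶ U := Over.homMk j rfl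
  have hrange : Set.range u.1.left ⊆ Set.range j := by
    rintro _ ⟨z, rfl⟩
    rw [hW.range_fromSpec]
    have : z = IsLocalRing.closedPoint yb.K :=
      Subsingleton.elim (α := ↥(Spec (CommRingCat.of yb.K))) _ _
    rw [this]
    exact hxW
  let l : Spec (CommRingCat.of yb.K) ⟶ Spec Γ(U.left, W) :=
    IsOpenImmersion.lift j u.1.left hrange
  have hl : l ≫ j = u.1.left := IsOpenImmersion.lift_fac j u.1.left hrange
  let c₀ : yb.pt ⟶ V₀ := Over.homMk l (by
    change l ≫ j ≫ U.hom = yb.str
    rw [← Category.assoc, hl]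
    exact Over.w u.1)
  have hc₀ : c₀ ≫ jO = u.1 := Over.OverMorphism.ext hl
  refine ⟨Γ(U.left, W), j ≫ U.hom, (yon S).map jO ≫ E₁.obj.hom, c₀, ?_, ?_⟩
  · exact (RepWith (S := S) @Etale).comp_mem _ _
      ((repWith_yon_map_iff @Etale jO).2 (inferInstance : Etale j)) E₁.property
  · rw [← Category.assoc, ← Functor.map_comp, hc₀]
    exact u.2


/-- the converse direction, starting from an affine étale neighbourhood -/
theorem connected_of_nbhds {X Y : Space S} (f : X ⟶ Y) (yb : FieldPt Y.obj)
    (hyb : yb.IsGeometric) (Xyb : Sp S) (fst : Xyb ⟶ X.obj) (snd : Xyb ⟶ (yon S).obj yb.pt)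
    (h : IsPullback fst snd f.hom yb.toHom)
    (hB : ∀ (V : Over S) (a : (yon S).obj V ⟶ Y.obj), RepWith @Etale a →
      ∀ (v : ↥V.left) (c : yb.pt ⟶ V), (yon S).map c ≫ a = yb.toHom →
        c.left (IsLocalRing.closedPoint yb.K) = v →
        ∀ (Xv : Sp S) (fst' : Xv ⟶ X.obj)
          (snd' : Xv ⟶ (yon S).obj (Over.mk (V.left.fromSpecResidueField v ≫ V.hom))),
          IsPullback fst' snd' f.hom ((yon S).map (Over.homMk (V.left.fromSpecResidueField v) rfl :
            Over.mk (V.left.fromSpecResidueField v ≫ V.hom) ⟶ V) ≫ a) →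
          ConnectedSpace (Points Xv))
    (R : CommRingCat.{u}) (hom₀ : Spec R ⟶ S) (a₀ : (yon S).obj (Over.mk hom₀) ⟶ Y.obj)
    (c₀ : yb.pt ⟶ Over.mk hom₀) (ha₀ : RepWith @Etale a₀)
    (hc₀ : (yon S).map c₀ ≫ a₀ = yb.toHom) : ConnectedSpace (Points Xyb) := by
  have hK : IsAlgClosed yb.K := hyb
  obtain ⟨ψ, hψ⟩ : ∃ ψ : R ⟶ CommRingCat.of yb.K, Spec.map ψ = c₀.left :=
    ⟨Spec.preimage c₀.left, Spec.map_preimage _⟩
  let e := Scheme.ΓSpecIso R
  have hev : e.inv ≫ c₀.left.appTop ≫ (Scheme.ΓSpecIso (CommRingCat.of yb.K)).hom = ψ := by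
    rw [← hψ, Scheme.ΓSpecIso_naturality, Iso.inv_hom_id_assoc]
  let p : Ideal R := RingHom.ker ψ.hom
  have hp : p.IsPrime := RingHom.ker_isPrime ψ.hom
  have hunit : p.primeCompl ≤ (IsUnit.submonoid yb.K).comap ψ.hom := by
    intro x hx
    change IsUnit (ψ.hom x)
    rw [isUnit_iff_ne_zero]
    exact fun h0 => hx ((RingHom.mem_ker).2 h0)
  let φ₀ : p.ResidueField →+* yb.K := Ideal.ResidueField.lift p ψ.hom le_rfl hunit
  have hφ₀ : ∀ r : R, φ₀ (algebraMap R p.ResidueField r) = ψ.hom r :=
    Ideal.ResidueField.lift_algebraMap p ψ.hom le_rfl hunit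
  let _ : Algebra p.ResidueField yb.K := φ₀.toAlgebra
  have halg : ∀ z : p.ResidueField, algebraMap p.ResidueField yb.K z = φ₀ z := fun _ => rfl
  have hιR : (algebraMap p.ResidueField yb.K).comp (algebraMap R p.ResidueField) = ψ.hom :=
    RingHom.ext hφ₀
  -- the base field point
  let ι₀l : Spec (CommRingCat.of p.ResidueField) ⟶ Spec R :=
    Spec.map (CommRingCat.ofHom (algebraMap R p.ResidueField))
  let strk : Spec (CommRingCat.of p.ResidueField) ⟶ S := ι₀l ≫ hom₀
  let ι₀ : Over.mk strk ⟶ Over.mk hom₀ := Over.homMk ι₀l rfl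
  let y₀ : (yon S).obj (Over.mk strk) ⟶ Y.obj := (yon S).map ι₀ ≫ a₀
  have sqF := IsPullback.of_hasPullback f.hom y₀
  have hF : IsAlgSpace (pullback f.hom y₀) :=
    Groth.Agent.Lib.Helper23.AlgSpMor.isAlgSpace_of_isPullback X.property (IsAlgSpace.yon_obj _)
      Y.property.diag sqF
  -- the separable closure
  let ks : IntermediateField p.ResidueField yb.K := separableClosure p.ResidueField yb.K
  let strs : Spec (CommRingCat.of ks) ⟶ S :=
    Spec.map (CommRingCat.ofHom (algebraMap p.ResidueField ks)) ≫ strk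
  let gs : Over.mk strs ⟶ Over.mk strk :=
    Over.homMk (Spec.map (CommRingCat.ofHom (algebraMap p.ResidueField ks))) rfl
  have sqs := IsPullback.of_hasPullback (pullback.snd f.hom y₀) ((yon S).map gs)
  have hKs : Spec.map (CommRingCat.ofHom (algebraMap ks yb.K)) ≫
      Spec.map (CommRingCat.ofHom (algebraMap p.ResidueField ks)) ≫ ι₀l = c₀.left := by
    rw [← hψ, ← Spec.map_comp, ← Spec.map_comp]
    congr 1
    ext r
    exact hφ₀ r
  let gKs : yb.pt ⟶ Over.mk strs :=
    Over.homMk (Spec.map (CommRingCat.ofHom (algebraMap ks yb.K))) (by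
      have h1 := congrArg (· ≫ hom₀) hKs
      simp only [Category.assoc] at h1
      change Spec.map _ ≫ Spec.map _ ≫ ι₀l ≫ hom₀ = yb.str
      rw [h1]
      exact Over.w c₀)
  have hcomp : gKs ≫ gs ≫ ι₀ = c₀ := Over.OverMorphism.ext hKs
  have hm : (yon S).map gKs ≫ ((yon S).map gs ≫ y₀) = yb.toHom := by
    rw [← hc₀, ← hcomp]
    simp only [y₀, Functor.map_comp, Category.assoc]
  obtain ⟨r, -, sqr⟩ := exists_bc f.hom ((yon S).map gs ≫ y₀) yb.toHom gKs hm
    (sqs.paste_horiz sqF) h
  have huo : UniversallyOpen gKs.left :=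
    (inferInstance : UniversallyOpen (Spec.map (CommRingCat.ofHom (algebraMap ks yb.K))))
  have hsc : IsSepClosed ks :=
    (separableClosure.isSepClosure (F := p.ResidueField) (E := yb.K)).sep_closed
  have hgc : GeometricallyConnected gKs.left :=
    Groth.Agent.Lib.Helper51.geometricallyConnected_specMap_of_isSepClosed ks yb.K
  obtain ⟨hco, hfib⟩ := coinducing_and_fibres_of_isPullback gKs _ r snd sqr
  suffices hconn : ConnectedSpace
      (Points (pullback (pullback.snd f.hom y₀) ((yon S).map gs))) from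
    connectedSpace_of_coinducing_fibres hco hfib
  have hgal : IsGalois p.ResidueField ks :=
    have := separableClosure.isSepClosure (F := p.ResidueField) (E := yb.K)
    IsSepClosure.isGalois
  refine connected_of_finite_gen strk strs gs rfl (pullback.snd f.hom y₀) (pullback.fst _ _)
    (pullback.snd _ _) sqs hF.atlas ?_
  intro E hE strE gE hgE PE prE prE' sqE
  have hsepE : Algebra.IsSeparable p.ResidueField E :=
    have : Algebra.IsSeparable p.ResidueField ks := inferInstance
    inferInstance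
  obtain ⟨α, hα⟩ := Field.exists_primitive_element p.ResidueField E
  let θ : yb.K := ((α : ks) : yb.K)
  have hθ : IsSeparable p.ResidueField θ := mem_separableClosure_iff.1 (α : ks).2
  obtain ⟨f₀, s, hf₀, hs, h0, h1⟩ := exists_monic_root p θ hθ
  -- the standard étale pair
  let P₀ : StandardEtalePair Γ(Spec R, ⊤) :=
    { f := f₀.map e.inv.hom
      monic_f := hf₀.map _
      g := (f₀.map e.inv.hom).derivative
      cond := ⟨1, 0, 1, by simp⟩ }
  let E₀ : EtOver Y.obj := EtOver.mk a₀ ha₀
  let x₀ : (FieldPt.liftsTo yb).obj E₀ := ⟨c₀, hc₀⟩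
  have hring : ((c₀.left.appTop ≫ (Scheme.ΓSpecIso (CommRingCat.of yb.K)).hom).hom).comp
      e.inv.hom = (algebraMap p.ResidueField yb.K).comp (algebraMap R p.ResidueField) := by
    rw [hιR, ← hev]
    rfl
  obtain ⟨T, g, t, rr, ht, -, -, hω⟩ :=
    Groth.Agent.Lib.Helper4.StrictHensAlgSp.exists_etNbhd yb E₀ x₀ P₀
      (algebraMap p.ResidueField yb.K (algebraMap R p.ResidueField s) * θ)
      (by
        change Polynomial.eval₂ _ _ (f₀.map e.inv.hom) = 0
        rw [Polynomial.eval₂_map, hring]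
        exact h0)
      (by
        change Polynomial.eval₂ _ _ (Polynomial.derivative (f₀.map e.inv.hom)) ≠ 0
        rw [Polynomial.derivative_map, Polynomial.eval₂_map, hring]
        exact h1)
  -- the new neighbourhood
  have htg : t.1 ≫ g.hom.left = c₀ := congrArg Subtype.val ht
  let gl : T.obj.left.left ⟶ Spec R := g.hom.left.left
  let tl : Spec (CommRingCat.of yb.K) ⟶ T.obj.left.left := t.1.left
  have htl : tl ≫ gl = c₀.left := congrArg (fun q => q.left) htg
  have hga : (yon S).map g.hom.left ≫ a₀ = T.obj.hom := EtOver.w g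
  let v : ↥T.obj.left.left := tl (IsLocalRing.closedPoint yb.K)
  let φv : T.obj.left.left.residueField v ⟶ CommRingCat.of yb.K :=
    Scheme.descResidueField (Scheme.stalkClosedPointTo tl)
  have hφv : Spec.map φv ≫ T.obj.left.left.fromSpecResidueField v = tl :=
    Scheme.descResidueField_stalkClosedPointTo_fromSpecResidueField yb.K T.obj.left.left tl
  have hφvinj : Function.Injective φv.hom := φv.hom.injective
  let ev : Γ(T.obj.left.left, ⊤) ⟶ T.obj.left.left.residueField v :=
    (T.obj.left.left.fromSpecResidueField v).appTop ≫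
      (Scheme.ΓSpecIso (T.obj.left.left.residueField v)).hom
  have hfac : tl.appTop ≫ (Scheme.ΓSpecIso (CommRingCat.of yb.K)).hom = ev ≫ φv := by
    have h1 := congrArg Scheme.Hom.appTop hφv
    rw [← h1, Scheme.Hom.comp_appTop, Category.assoc, Scheme.ΓSpecIso_naturality,
      ← Category.assoc]
  have hωv : φv.hom (ev.hom rr) =
      algebraMap p.ResidueField yb.K (algebraMap R p.ResidueField s) * θ := by
    rw [← hω, hfac]
    rfl
  let evR : R ⟶ T.obj.left.left.residueField v := e.inv ≫ gl.appTop ≫ ev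
  have hevR : evR ≫ φv = ψ := by
    rw [← hev, ← htl, Scheme.Hom.comp_appTop]
    simp only [evR, Category.assoc]
    rw [hfac]
  have hevR' : ∀ x : R, φv.hom (evR.hom x) = ψ.hom x := fun x =>
    congrArg (fun q => q.hom x) hevR
  let χ₀ : p.ResidueField →+* T.obj.left.left.residueField v :=
    Ideal.ResidueField.lift p evR.hom
      (by
        intro x hx
        rw [RingHom.mem_ker]
        apply hφvinj
        rw [hevR', map_zero]
        exact hx)
      (by
        intro x hx
        change IsUnit (evR.hom x)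
        rw [isUnit_iff_ne_zero]
        intro h0
        apply hx
        change ψ.hom x = 0
        rw [← hevR', h0, map_zero])
  have hχ₀ : ∀ z : p.ResidueField, φv.hom (χ₀ z) = algebraMap p.ResidueField yb.K z := by
    have h1 : φv.hom.comp χ₀ = φ₀ := by
      apply Ideal.ResidueField.ringHom_ext
      ext x
      change φv.hom (χ₀ (algebraMap R p.ResidueField x)) = φ₀ (algebraMap R p.ResidueField x)
      rw [Ideal.ResidueField.lift_algebraMap, hevR', hφ₀]
    intro z
    exact congrArg (fun q => q z) h1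
  let Rg : IntermediateField p.ResidueField yb.K :=
    Subfield.toIntermediateField φv.hom.fieldRange (fun z => ⟨χ₀ z, hχ₀ z⟩)
  have hψs : ψ.hom s ≠ 0 := fun h0 => hs ((RingHom.mem_ker).2 h0)
  have hθRg : θ ∈ Rg := by
    have h1 : ψ.hom s ∈ Rg := ⟨evR.hom s, hevR' s⟩
    have h2 : algebraMap p.ResidueField yb.K (algebraMap R p.ResidueField s) * θ ∈ Rg :=
      ⟨ev.hom rr, hωv⟩
    have h3 : θ = (ψ.hom s)⁻¹ *
        (algebraMap p.ResidueField yb.K (algebraMap R p.ResidueField s) * θ) := by
      rw [halg, hφ₀, ← mul_assoc, inv_mul_cancel₀ hψs, one_mul]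
    rw [h3]
    exact Rg.mul_mem (Rg.inv_mem h1) h2
  let ιE : E →ₐ[p.ResidueField] yb.K := (IntermediateField.val ks).comp (IntermediateField.val E)
  have hall : ∀ x : E, ιE x ∈ φv.hom.fieldRange := by
    intro x
    have h1 : IntermediateField.adjoin p.ResidueField {α} ≤ Rg.comap ιE :=
      IntermediateField.adjoin_simple_le_iff.2 hθRg
    rw [hα] at h1
    exact h1 IntermediateField.mem_top
  let χ : E →+* T.obj.left.left.residueField v :=
    (φv.hom.rangeRestrictFieldEquiv.symm : φv.hom.fieldRange →+* _).comp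
      ((ιE : E →+* yb.K).codRestrict φv.hom.fieldRange hall)
  have hχ : ∀ x : E, φv.hom (χ x) = ιE x := fun x =>
    RingHom.rangeRestrictFieldEquiv_apply_symm_apply φv.hom ⟨ιE x, hall x⟩
  -- the compatibility of the two points
  have hflat : Flat (Spec.map φv) :=
    (HasRingHomProperty.Spec_iff (P := @Flat)).2
      (RingHom.Flat.of_isField (Field.toIsField _) _)
  have hsurjφ : Surjective (Spec.map φv) :=
    ⟨fun x => ⟨IsLocalRing.closedPoint yb.K, Subsingleton.elim _ _⟩⟩
  have hepi : Epi (Spec.map φv) := Flat.epi_of_flat_of_surjective _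
  have hC1 : Spec.map (CommRingCat.ofHom χ) ≫
      Spec.map (CommRingCat.ofHom (algebraMap p.ResidueField E)) ≫ ι₀l =
      T.obj.left.left.fromSpecResidueField v ≫ gl := by
    refine (cancel_epi (Spec.map φv)).1 ?_
    have hL : Spec.map φv ≫ Spec.map (CommRingCat.ofHom χ) ≫
        Spec.map (CommRingCat.ofHom (algebraMap p.ResidueField E)) ≫ ι₀l = Spec.map ψ := by
      rw [← Spec.map_comp, ← Spec.map_comp, ← Spec.map_comp]
      congr 1
      ext x
      change φv.hom (χ (algebraMap p.ResidueField E (algebraMap R p.ResidueField x))) = ψ.hom x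
      rw [hχ, AlgHom.commutes, halg, hφ₀]
    have hR : Spec.map φv ≫ T.obj.left.left.fromSpecResidueField v ≫ gl = Spec.map ψ := by
      rw [← Category.assoc, hφv, htl, hψ]
    exact hL.trans hR.symm
  let Tv : Over S := Over.mk (T.obj.left.left.fromSpecResidueField v ≫ T.obj.left.hom)
  let ιv : Tv ⟶ T.obj.left := Over.homMk (T.obj.left.left.fromSpecResidueField v) rfl
  have hstrE : Spec.map (CommRingCat.ofHom (algebraMap p.ResidueField E)) ≫ strk = strE := by
    rw [← hgE]
    exact Over.w gE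
  let m : Tv ⟶ Over.mk strE := Over.homMk (Spec.map (CommRingCat.ofHom χ)) (by
    change Spec.map _ ≫ strE = T.obj.left.left.fromSpecResidueField v ≫ T.obj.left.hom
    rw [← hstrE, ← Over.w g.hom.left]
    have h1 := congrArg (· ≫ hom₀) hC1
    simp only [Category.assoc] at h1
    exact h1)
  have hmcomp : m ≫ gE ≫ ι₀ = ιv ≫ g.hom.left := by
    apply Over.OverMorphism.ext
    rw [Over.comp_left, Over.comp_left, Over.comp_left, hgE]
    exact hC1
  have hm' : (yon S).map m ≫ ((yon S).map gE ≫ y₀) = (yon S).map ιv ≫ T.obj.hom := by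
    rw [← hga]
    simp only [y₀]
    rw [← Category.assoc ((yon S).map gE), ← Functor.map_comp, ← Category.assoc,
      ← Functor.map_comp, hmcomp, Functor.map_comp, Category.assoc]
  have hXv := hB T.obj.left T.obj.hom T.property v t.1 t.2 rfl
    (pullback f.hom ((yon S).map ιv ≫ T.obj.hom)) (pullback.fst _ _) (pullback.snd _ _)
    (IsPullback.of_hasPullback _ _)
  obtain ⟨r', -, sqr'⟩ := exists_bc f.hom ((yon S).map gE ≫ y₀) ((yon S).map ιv ≫ T.obj.hom) m hm'
    (sqE.paste_horiz sqF) (IsPullback.of_hasPullback f.hom ((yon S).map ιv ≫ T.obj.hom))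
  have hsm : Surjective m.left := by
    constructor
    intro x
    have : Subsingleton ↥(Spec (CommRingCat.of E)) := inferInstance
    exact ⟨(default : ↥(Spec (T.obj.left.left.residueField v))),
      Subsingleton.elim (α := ↥(Spec (CommRingCat.of E))) _ _⟩
  have hs' := surjective_of_isPullback m prE' r' (pullback.snd _ _) sqr' hsm
  exact hs'.connectedSpace (Points.continuous_map r')

end Main

/-- For a morphism f : X ⟶ Y between algebraic spaces over S and a geometric point ȳ of Y (an
algebraically closed field point), the geometric fibre X_ȳ (pullback in fppf sheaves) has connected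
space of points if and only if for every scheme V with a representable etale a : h_V ⟶ Y and every
point v of V through which ȳ factors, the fibre of X ×_Y V ⟶ V over v (pullback along the residue
field point of v) has connected space of points. -/
theorem result {S : Scheme.{u}} {X Y : AlgSp.Space S} (f : X ⟶ Y) (yb : AlgSp.FieldPt Y.obj) (hyb : yb.IsGeometric)
    (Xyb : AlgSp.Sp S) (fst : Xyb ⟶ X.obj) (snd : Xyb ⟶ (AlgSp.yon S).obj yb.pt) (h : IsPullback fst snd f.hom yb.toHom) :
    ConnectedSpace (AlgSp.Points Xyb) ↔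
      ∀ (V : Over S) (a : (AlgSp.yon S).obj V ⟶ Y.obj), AlgSp.RepWith @Etale a →
        ∀ (v : ↥V.left) (c : yb.pt ⟶ V), (AlgSp.yon S).map c ≫ a = yb.toHom → c.left (IsLocalRing.closedPoint yb.K) = v →
          ∀ (Xv : AlgSp.Sp S) (fst' : Xv ⟶ X.obj)
            (snd' : Xv ⟶ (AlgSp.yon S).obj (Over.mk (V.left.fromSpecResidueField v ≫ V.hom))),
            IsPullback fst' snd' f.hom ((AlgSp.yon S).map (Over.homMk (V.left.fromSpecResidueField v) rfl :
              Over.mk (V.left.fromSpecResidueField v ≫ V.hom) ⟶ V) ≫ a) →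
            ConnectedSpace (AlgSp.Points Xv) := by
  constructor
  · intro hconn V a ha v c hc hv Xv fst' snd' sq'
    let cl : Spec (CommRingCat.of yb.K) ⟶ V.left := c.left
    have hv' : cl (IsLocalRing.closedPoint yb.K) = v := hv
    subst hv'
    let φ : V.left.residueField (cl (IsLocalRing.closedPoint yb.K)) ⟶ CommRingCat.of yb.K :=
      Scheme.descResidueField (Scheme.stalkClosedPointTo cl)
    have hφ : Spec.map φ ≫ V.left.fromSpecResidueField (cl (IsLocalRing.closedPoint yb.K)) = cl :=
      Scheme.descResidueField_stalkClosedPointTo_fromSpecResidueField yb.K V.left cl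
    let m : yb.pt ⟶ Over.mk (V.left.fromSpecResidueField (cl (IsLocalRing.closedPoint yb.K)) ≫
        V.hom) := Over.homMk (Spec.map φ) (by
      change Spec.map φ ≫ _ ≫ V.hom = yb.str
      rw [← Category.assoc, hφ]
      exact Over.w c)
    have hmc : m ≫ (Over.homMk (V.left.fromSpecResidueField (cl (IsLocalRing.closedPoint yb.K)))
        rfl : Over.mk (V.left.fromSpecResidueField (cl (IsLocalRing.closedPoint yb.K)) ≫ V.hom) ⟶
          V) = c := Over.OverMorphism.ext hφ
    have hm : (yon S).map m ≫ ((yon S).map (Over.homMk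
        (V.left.fromSpecResidueField (cl (IsLocalRing.closedPoint yb.K))) rfl :
        Over.mk (V.left.fromSpecResidueField (cl (IsLocalRing.closedPoint yb.K)) ≫ V.hom) ⟶ V) ≫
          a) = yb.toHom := by
      rw [← Category.assoc, ← Functor.map_comp, hmc, hc]
    obtain ⟨r, -, sqr⟩ := exists_bc f.hom _ yb.toHom m hm sq' h
    have hsm : Surjective m.left := by
      constructor
      intro x
      exact ⟨IsLocalRing.closedPoint yb.K, Subsingleton.elim
        (α := ↥(Spec (V.left.residueField (cl (IsLocalRing.closedPoint yb.K))))) _ _⟩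
    have hs := surjective_of_isPullback m snd' r snd sqr hsm
    exact hs.connectedSpace (Points.continuous_map r)
  · intro hB
    obtain ⟨R, hom₀, a₀, c₀, ha₀, hc₀⟩ := exists_init yb hyb
    exact connected_of_nbhds f yb hyb Xyb fst snd h hB R hom₀ a₀ c₀ ha₀ hc₀

end Groth.Agent.S10681
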