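import Groth.Statements.S10686
-- import your own Groth.Agent.* helpers here
import Groth.Agent.Lib.Helper36.FieldBCRed
import Groth.Agent.Lib.Helper23.AlgSpInj2
import Groth.Agent.Lib.Helper23.AlgSpMor4
import Groth.Agent.Lib.Helper22.GeomBC

set_option autoImplicit false
universe u
open CategoryTheory CategoryTheory.Limits AlgebraicGeometry
open AlgSp

namespace Groth.Agent.S10686

open Groth.Agent.Lib.Helper36.AlgSpCharts Groth.Agent.Lib.Helper37.AlgSpPoints
  Groth.Agent.Lib.Helper23.AlgSpMor

/-- The fibre of `f` over `t : h_T ⟶ Y` is reduced (every pullback is étale-locally reduced). -/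
def RedOver {S : Scheme.{u}} {X Y : AlgSp.Sp S} (f : X ⟶ Y) {T : Over S}
    (t : (AlgSp.yon S).obj T ⟶ Y) : Prop :=
  ∀ (P : AlgSp.Sp S) (a : P ⟶ X) (b : P ⟶ (AlgSp.yon S).obj T), IsPullback a b f t →
    AlgSp.EtaleLocally (fun U => IsReduced U) P

/-- Reducedness of the fibre descends along flat surjective base changes. -/
theorem redOver_descent {S : Scheme.{u}} {X Y : AlgSp.Space S} (f : X ⟶ Y) {T T' : Over S}
    (g : T' ⟶ T) (hgf : Flat g.left) (hgs : Surjective g.left)
    (t : (AlgSp.yon S).obj T ⟶ Y.obj) (hR : RedOver f.hom ((AlgSp.yon S).map g ≫ t)) :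
    RedOver f.hom t := by
  intro P a b sq
  have hP : IsAlgSpace P :=
    isAlgSpace_of_isPullback X.property (IsAlgSpace.yon_obj T) Y.property.diag sq
  obtain ⟨U, c, hce, hcs⟩ := hP.atlas
  obtain ⟨W, p1, p2, sqW⟩ := exists_isPullback_yon (c ≫ b) ((yon S).map g)
    (representable_yon_map g)
  have hp1f : Flat p1.left := prop_fst_of_isPullback sqW ((repWith_yon_map_iff @Flat g).2 hgf)
  have hp1s : Surjective p1.left :=
    prop_fst_of_isPullback sqW ((repWith_yon_map_iff @Surjective g).2 hgs)
  have sqP' : IsPullback (pullback.fst b ((yon S).map g)) (pullback.snd b ((yon S).map g)) b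
      ((yon S).map g) := IsPullback.of_hasPullback _ _
  have hred' := hR _ _ _ (sqP'.paste_horiz sq)
  let c' : (yon S).obj W ⟶ pullback b ((yon S).map g) :=
    sqP'.lift ((yon S).map p1 ≫ c) ((yon S).map p2) (by rw [Category.assoc]; exact sqW.w)
  have c'1 : c' ≫ pullback.fst b ((yon S).map g) = (yon S).map p1 ≫ c := sqP'.lift_fst _ _ _
  have c'2 : c' ≫ pullback.snd b ((yon S).map g) = (yon S).map p2 := sqP'.lift_snd _ _ _
  have sqc' : IsPullback c' ((yon S).map p1) (pullback.fst b ((yon S).map g)) c := by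
    refine IsPullback.of_right ?_ c'1 sqP'.flip
    rw [c'2]
    exact sqW.flip
  have hc'e : RepWith @Etale c' := (RepWith (S := S) @Etale).of_isPullback sqc'.flip hce
  have hWst : ∀ w : ↥W.left, _root_.IsReduced ↥(W.left.presheaf.stalk w) := fun w =>
    Groth.Agent.Lib.Helper36.FieldBCRed.isReduced_stalk_of_etaleLocally hred' c' hc'e w
  have hWred : IsReduced W.left := isReduced_of_isReduced_stalk W.left
  exact ⟨U, c, hce, hcs,
    Groth.Agent.Lib.Helper22.GeomBC.isReduced_of_flat_of_surjective p1.left hp1s hp1f hWred⟩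

/-- A morphism between spectra of fields is surjective. -/
theorem surjective_of_field {K L : Type u} [Field K] [Field L]
    (g : Spec (CommRingCat.of L) ⟶ Spec (CommRingCat.of K)) : Surjective g := by
  have hs : Subsingleton ↥(Spec (CommRingCat.of K)) :=
    inferInstanceAs (Subsingleton (PrimeSpectrum K))
  have hn : Nonempty ↥(Spec (CommRingCat.of L)) := inferInstanceAs (Nonempty (PrimeSpectrum L))
  exact ⟨fun y => ⟨Classical.arbitrary _, Subsingleton.elim _ _⟩⟩

/-- The structure morphism of the extension of a field point. -/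
noncomputable abbrev gφ {S : Scheme.{u}} {Y : AlgSp.Sp S} (k : AlgSp.FieldPt Y) {k' : Type u}
    [Field k'] (φ : k.K →+* k') : Over.mk (Spec.map (CommRingCat.ofHom φ) ≫ k.str) ⟶ k.pt :=
  Over.homMk (Spec.map (CommRingCat.ofHom φ)) rfl

/-- The extension of a field point along a field homomorphism. -/
noncomputable def ext {S : Scheme.{u}} {Y : AlgSp.Sp S} (k : AlgSp.FieldPt Y) {k' : Type u}
    [Field k'] (φ : k.K →+* k') : AlgSp.FieldPt Y :=
  fieldPtOfHom (Spec.map (CommRingCat.ofHom φ) ≫ k.str) ((AlgSp.yon S).map (gφ k φ) ≫ k.toHom)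

theorem ext_toHom {S : Scheme.{u}} {Y : AlgSp.Sp S} (k : AlgSp.FieldPt Y) {k' : Type u}
    [Field k'] (φ : k.K →+* k') :
    (ext k φ).toHom = (AlgSp.yon S).map (gφ k φ) ≫ k.toHom :=
  toHom_fieldPtOfHom _ _

theorem mk_ext {S : Scheme.{u}} {Y : AlgSp.Sp S} (k : AlgSp.FieldPt Y) {k' : Type u}
    [Field k'] (φ : k.K →+* k') : Points.mk (ext k φ) = Points.mk k := by
  refine Points.mk_eq_mk_iff.2 ⟨k', inferInstance,
    Spec.map (CommRingCat.ofHom φ) ≫ k.str, 𝟙 _, gφ k φ, ?_⟩
  show Y.obj.map (𝟙 _).op (ext k φ).val = Y.obj.map (gφ k φ).op k.val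
  rw [op_id, CategoryTheory.Functor.map_id_apply]
  exact uliftYonedaEquiv_map_comp_toHom k (gφ k φ)

/-- For a morphism f : X ⟶ Y between algebraic spaces over S and a point y of |Y|, write X_k for the
fibre (pullback in fppf sheaves) over a field point k of Y and call X_k geometrically reduced when
for every field homomorphism k ⟶ k' the base change X_{k'} is reduced (some etale surjective scheme
chart reduced). The following are equivalent: (1) X_k is geometrically reduced for some k in the
class of y; (2) X_k is geometrically reduced for every k in the class of y; (3) X_k is reduced for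
every k in the class of y. -/
theorem result {S : Scheme.{u}} {X Y : AlgSp.Space S} (f : X ⟶ Y) (y : AlgSp.Points Y.obj) :
    [∃ (k : AlgSp.FieldPt Y.obj), AlgSp.Points.mk k = y ∧
        ∀ (k' : Type u) [Field k'] (φ : k.K →+* k') (Xk' : AlgSp.Sp S) (a : Xk' ⟶ X.obj)
          (b : Xk' ⟶ (AlgSp.yon S).obj (Over.mk (Spec.map (CommRingCat.ofHom φ) ≫ k.str))),
          IsPullback a b f.hom ((AlgSp.yon S).map (Over.homMk (Spec.map (CommRingCat.ofHom φ)) rfl :
            Over.mk (Spec.map (CommRingCat.ofHom φ) ≫ k.str) ⟶ k.pt) ≫ k.toHom) →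
          AlgSp.EtaleLocally (fun U => IsReduced U) Xk',
      ∀ (k : AlgSp.FieldPt Y.obj), AlgSp.Points.mk k = y →
        ∀ (k' : Type u) [Field k'] (φ : k.K →+* k') (Xk' : AlgSp.Sp S) (a : Xk' ⟶ X.obj)
          (b : Xk' ⟶ (AlgSp.yon S).obj (Over.mk (Spec.map (CommRingCat.ofHom φ) ≫ k.str))),
          IsPullback a b f.hom ((AlgSp.yon S).map (Over.homMk (Spec.map (CommRingCat.ofHom φ)) rfl :
            Over.mk (Spec.map (CommRingCat.ofHom φ) ≫ k.str) ⟶ k.pt) ≫ k.toHom) →
          AlgSp.EtaleLocally (fun U => IsReduced U) Xk',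
      ∀ (k : AlgSp.FieldPt Y.obj), AlgSp.Points.mk k = y →
        ∀ (Xk : AlgSp.Sp S) (a : Xk ⟶ X.obj) (b : Xk ⟶ (AlgSp.yon S).obj k.pt), IsPullback a b f.hom k.toHom →
          AlgSp.EtaleLocally (fun U => IsReduced U) Xk].TFAE := by
  tfae_have 2 → 1 := by
    intro h2
    induction y using Points.ind with
    | h k => exact ⟨k, rfl, h2 k rfl⟩
  tfae_have 3 → 2 := by
    intro h3 k hk k' _ φ Xk' a b sq
    rw [← ext_toHom] at sq
    exact h3 (ext k φ) ((mk_ext k φ).trans hk) Xk' a b sq
  tfae_have 2 → 3 := by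
    intro h2 k hk
    have hR : RedOver f.hom ((AlgSp.yon S).map (gφ k (RingHom.id k.K)) ≫ k.toHom) :=
      fun P a b sq => h2 k hk k.K (RingHom.id k.K) P a b sq
    have hfl : Flat (gφ k (RingHom.id k.K)).left := by
      show Flat (Spec.map (CommRingCat.ofHom (RingHom.id k.K)))
      infer_instance
    exact redOver_descent f (gφ k (RingHom.id k.K)) hfl (surjective_of_field _)
      k.toHom hR
  tfae_have 1 → 2 := by
    rintro ⟨k₀, hk₀, h1⟩ k hk k' _ φ
    have hrel : Points.mk k₀ = Points.mk (ext k φ) := by rw [mk_ext, hk₀, hk]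
    obtain ⟨Ω, _, w, a, b', hab'⟩ := (rel_iff_toHom _ _).1 (Points.mk_eq_mk_iff.1 hrel)
    rw [ext_toHom] at hab'
    let b : Over.mk w ⟶ Over.mk (Spec.map (CommRingCat.ofHom φ) ≫ k.str) := b'
    have hab : (AlgSp.yon S).map a ≫ k₀.toHom =
        (AlgSp.yon S).map b ≫ (AlgSp.yon S).map (gφ k φ) ≫ k.toHom := hab'
    -- the field homomorphism `k₀.K → Ω`
    let ψ₀ : k₀.K →+* Ω := (Spec.preimage a.left).hom
    have hψ₀ : Spec.map (CommRingCat.ofHom ψ₀) = a.left := by
      show Spec.map (CommRingCat.ofHom (Spec.preimage a.left).hom) = a.left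
      rw [CommRingCat.ofHom_hom, Spec.map_preimage]
    have hR₀ : RedOver f.hom ((AlgSp.yon S).map (gφ k₀ ψ₀) ≫ k₀.toHom) :=
      fun P a b sq => h1 Ω ψ₀ P a b sq
    have hw : Spec.map (CommRingCat.ofHom ψ₀) ≫ k₀.str = w := by
      rw [hψ₀]
      exact Over.w a
    let e' : Over.mk (Spec.map (CommRingCat.ofHom ψ₀) ≫ k₀.str) ⟶ Over.mk w :=
      Over.homMk (𝟙 _) (by simpa using hw.symm)
    have he' : e' ≫ a = gφ k₀ ψ₀ := by
      ext
      simp [e', hψ₀]
    have hRa : RedOver f.hom ((AlgSp.yon S).map a ≫ k₀.toHom) := by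
      refine redOver_descent f e' (by simp only [e', Over.homMk_left]; infer_instance)
        (by simp only [e', Over.homMk_left]; infer_instance) _ ?_
      rw [← Category.assoc, ← Functor.map_comp, he']
      exact hR₀
    rw [hab, ← Category.assoc] at hRa
    have hb : RedOver f.hom ((AlgSp.yon S).map (gφ k φ) ≫ k.toHom) := by
      have hfl : Flat b.left := by
        let bl : Spec (CommRingCat.of Ω) ⟶ Spec (CommRingCat.of k') := b.left
        have : Flat bl := inferInstance
        exact this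
      refine redOver_descent f b hfl (surjective_of_field _) _ ?_
      rw [← Category.assoc]
      exact hRa
    exact fun P a b sq => hb P a b sq
  tfae_finish

end Groth.Agent.S10686
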