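import Groth.Statements.S10683
-- import your own Groth.Agent.* helpers here
import Groth.Agent.S10686
import Groth.Agent.S1301
import Groth.Agent.Lib.Helper78.GeomRed

set_option autoImplicit false
universe u
open CategoryTheory CategoryTheory.Limits AlgebraicGeometry
open AlgSp

namespace Groth.Agent.S10683

open Groth.Agent.Lib.Helper36.AlgSpCharts Groth.Agent.Lib.Helper37.AlgSpPoints
  Groth.Agent.Lib.Helper23.AlgSpMor Groth.Agent.S10686

/-- the scheme-level fibre product `W ×_V T` as an object over `S` -/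
noncomputable def Qof {S : Scheme.{u}} {W V T : Over S} (h : W ⟶ V) (z : T ⟶ V) : Over S :=
  Over.mk (pullback.snd h.left z.left ≫ T.hom)

noncomputable def q1 {S : Scheme.{u}} {W V T : Over S} (h : W ⟶ V) (z : T ⟶ V) : Qof h z ⟶ W :=
  Over.homMk (pullback.fst h.left z.left) (by
    show pullback.fst h.left z.left ≫ W.hom = pullback.snd h.left z.left ≫ T.hom
    rw [← Over.w h, ← Over.w z, ← Category.assoc, ← Category.assoc, pullback.condition])

noncomputable def q2 {S : Scheme.{u}} {W V T : Over S} (h : W ⟶ V) (z : T ⟶ V) : Qof h z ⟶ T :=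
  Over.homMk (pullback.snd h.left z.left) rfl

theorem isPullback_q {S : Scheme.{u}} {W V T : Over S} (h : W ⟶ V) (z : T ⟶ V) :
    IsPullback ((yon S).map (q1 h z)) ((yon S).map (q2 h z)) ((yon S).map h) ((yon S).map z) := by
  have sq : IsPullback (q1 h z).left (q2 h z).left h.left z.left := IsPullback.of_hasPullback _ _
  exact (IsPullback.of_map (Over.forget S) (Over.OverMorphism.ext sq.w) sq).map (yon S)

/-- The chart of the fibre over `T` induced by a chart of `X ×_Y V`. -/
theorem exists_chart {S : Scheme.{u}} {X Y : AlgSp.Sp S} (f : X ⟶ Y) {V : Over S}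
    (a : (yon S).obj V ⟶ Y) {W : Over S} (c : (yon S).obj W ⟶ pullback f a)
    (hce : RepWith @Etale c) (hcs : RepWith @Surjective c) (h : W ⟶ V)
    (hh : (yon S).map h = c ≫ pullback.snd f a) {T : Over S} (z : T ⟶ V) {P : AlgSp.Sp S}
    (fstP : P ⟶ X) (sndP : P ⟶ (yon S).obj T) (sqP : IsPullback fstP sndP f ((yon S).map z ≫ a)) :
    ∃ c' : (yon S).obj (Qof h z) ⟶ P, RepWith @Etale c' ∧ RepWith @Surjective c' := by
  have sqV : IsPullback (pullback.fst f a) (pullback.snd f a) f a := IsPullback.of_hasPullback _ _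
  let r : P ⟶ pullback f a := sqV.lift fstP (sndP ≫ (yon S).map z) (by
    rw [Category.assoc]; exact sqP.w)
  have r1 : r ≫ pullback.fst f a = fstP := sqV.lift_fst _ _ _
  have r2 : r ≫ pullback.snd f a = sndP ≫ (yon S).map z := sqV.lift_snd _ _ _
  have sqR : IsPullback r sndP (pullback.snd f a) ((yon S).map z) := by
    refine IsPullback.of_right ?_ r2 sqV
    rw [r1]
    exact sqP
  have sqQ := isPullback_q h z
  let c' : (yon S).obj (Qof h z) ⟶ P := sqR.lift ((yon S).map (q1 h z) ≫ c) ((yon S).map (q2 h z)) (by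
    rw [Category.assoc, ← hh]; exact sqQ.w)
  have c'1 : c' ≫ r = (yon S).map (q1 h z) ≫ c := sqR.lift_fst _ _ _
  have c'2 : c' ≫ sndP = (yon S).map (q2 h z) := sqR.lift_snd _ _ _
  have sqc' : IsPullback c' ((yon S).map (q1 h z)) r c := by
    refine IsPullback.of_right ?_ c'1 sqR.flip
    rw [c'2, ← hh]
    exact sqQ.flip
  exact ⟨c', (RepWith (S := S) @Etale).of_isPullback sqc'.flip hce,
    (RepWith (S := S) @Surjective).of_isPullback sqc'.flip hcs⟩

theorem redOver_iff {S : Scheme.{u}} {X Y : AlgSp.Sp S} (f : X ⟶ Y) {V : Over S}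
    (a : (yon S).obj V ⟶ Y) {W : Over S} (c : (yon S).obj W ⟶ pullback f a)
    (hce : RepWith @Etale c) (hcs : RepWith @Surjective c) (h : W ⟶ V)
    (hh : (yon S).map h = c ≫ pullback.snd f a) {T : Over S} (z : T ⟶ V) :
    RedOver f ((yon S).map z ≫ a) ↔ IsReduced (pullback h.left z.left) := by
  constructor
  · intro hR
    have sqP : IsPullback (pullback.fst f ((yon S).map z ≫ a)) (pullback.snd f ((yon S).map z ≫ a))
        f ((yon S).map z ≫ a) := IsPullback.of_hasPullback _ _
    have hred := hR _ _ _ sqP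
    obtain ⟨c', hc'e, -⟩ := exists_chart f a c hce hcs h hh z _ _ sqP
    have hst : ∀ w : ↥(Qof h z).left, _root_.IsReduced ↥((Qof h z).left.presheaf.stalk w) := fun w =>
      Groth.Agent.Lib.Helper36.FieldBCRed.isReduced_stalk_of_etaleLocally hred c' hc'e w
    exact isReduced_of_isReduced_stalk (Qof h z).left
  · intro hred P fstP sndP sqP
    obtain ⟨c', hc'e, hc's⟩ := exists_chart f a c hce hcs h hh z _ _ sqP
    exact ⟨Qof h z, c', hc'e, hc's, hred⟩

theorem mk_fieldPtOfHom {S : Scheme.{u}} {F : AlgSp.Sp S} {K : Type u} [Field K]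
    (str : Spec (CommRingCat.of K) ⟶ S) (m : (yon S).obj (Over.mk str) ⟶ F) :
    Points.mk (fieldPtOfHom str m) = Points.ofPt m (IsLocalRing.closedPoint K) := by
  have h1 : (fieldPtOfHom str m).toHom = m := toHom_fieldPtOfHom str m
  have h2 := Points.ofPt_toHom (fieldPtOfHom str m) (IsLocalRing.closedPoint K)
  rw [← h2]
  exact congrArg (fun t : (yon S).obj (Over.mk str) ⟶ F =>
    Points.ofPt t (IsLocalRing.closedPoint K)) h1

/-- For a quasi-compact morphism f : X ⟶ Y between algebraic spaces over S which is locally of finite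
presentation, the set E of points of |Y| at which the fibre of f is geometrically reduced is etale
locally constructible: for every affine scheme V with a representable etale a : h_V ⟶ Y, the inverse
image of E in V is a constructible subset. Here the fibre of f at y being geometrically reduced
means: for every field point k of Y in the class of y and every field homomorphism k ⟶ k', the base
change X_{k'} (pullback in fppf sheaves) is reduced (some etale surjective scheme chart is reduced). -/
theorem result {S : Scheme.{u}} {X Y : AlgSp.Space S} (f : X ⟶ Y)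
    (hf1 : AlgSp.IsQuasiCompactMor f.hom) (hf2 : AlgSp.LocP @LocallyOfFinitePresentation f.hom)
    (V : Over S) (hV : IsAffine V.left) (a : (AlgSp.yon S).obj V ⟶ Y.obj) (ha : AlgSp.RepWith @Etale a) :
    Topology.IsConstructible ((AlgSp.Points.ofPt a) ⁻¹' {y : AlgSp.Points Y.obj | ∀ (k : AlgSp.FieldPt Y.obj), AlgSp.Points.mk k = y →
        ∀ (k' : Type u) [Field k'] (φ : k.K →+* k') (Xk' : AlgSp.Sp S) (a : Xk' ⟶ X.obj)
          (b : Xk' ⟶ (AlgSp.yon S).obj (Over.mk (Spec.map (CommRingCat.ofHom φ) ≫ k.str))),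
          IsPullback a b f.hom ((AlgSp.yon S).map (Over.homMk (Spec.map (CommRingCat.ofHom φ)) rfl :
            Over.mk (Spec.map (CommRingCat.ofHom φ) ≫ k.str) ⟶ k.pt) ≫ k.toHom) →
          AlgSp.EtaleLocally (fun U => IsReduced U) Xk'}) := by
  have sqV : IsPullback (pullback.fst f.hom a) (pullback.snd f.hom a) f.hom a :=
    IsPullback.of_hasPullback _ _
  have hVqc : IsQuasiCompactSp ((yon S).obj V) :=
    ⟨V, 𝟙 _, repWith_id @Etale V, repWith_id @Surjective V, inferInstance⟩
  obtain ⟨W, c, hce, hcs, hWc⟩ := hf1 (IsAlgSpace.yon_obj V) hVqc a _ _ sqV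
  obtain ⟨h, hh⟩ := (yon S).map_surjective (c ≫ pullback.snd f.hom a)
  have : CompactSpace ↥W.left := hWc
  have : QuasiCompact h.left := inferInstance
  have hpe : RepWith @Etale (pullback.fst f.hom a) :=
    (RepWith (S := S) @Etale).of_isPullback sqV.flip ha
  have : LocallyOfFinitePresentation h.left :=
    hf2 (c ≫ pullback.fst f.hom a) a h ((RepWith (S := S) @Etale).comp_mem _ _ hce hpe) ha (by
      rw [Category.assoc, sqV.w, ← Category.assoc, hh])
  have hLC := Groth.Agent.S1301.result h.left
  have hC : Topology.IsConstructible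
      {v : ↥V.left | GeometricallyReduced (h.left.fiberToSpecResidueField v)} :=
    hLC.isConstructible
  convert hC using 1
  ext v
  simp only [Set.mem_preimage, Set.mem_ofPred_eq]
  rw [Groth.Agent.Lib.Helper78.GeomRed.geometricallyReduced_fiber_iff]
  have htfae := Groth.Agent.S10686.result f (AlgSp.Points.ofPt a v)
  constructor
  · intro hE K _ z hz
    -- the field point defined by `z`
    let T : Over S := Over.mk (z ≫ V.hom)
    let z' : T ⟶ V := Over.homMk z rfl
    let kz : FieldPt Y.obj := fieldPtOfHom (z ≫ V.hom) ((yon S).map z' ≫ a)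
    have hkz : kz.toHom = (yon S).map z' ≫ a := toHom_fieldPtOfHom _ _
    have hmk : Points.mk kz = Points.ofPt a v := by
      show Points.mk (fieldPtOfHom (z ≫ V.hom) ((yon S).map z' ≫ a)) = _
      rw [mk_fieldPtOfHom, ofPt_map_comp]
      congr 1
      exact hz _
    have h12 := htfae.out 1 2
    have h3 := h12.1 hE kz hmk
    have hR : RedOver f.hom ((yon S).map z' ≫ a) := by
      intro P fstP sndP sqP
      rw [← hkz] at sqP
      exact h3 P fstP sndP sqP
    exact (redOver_iff f.hom a c hce hcs h hh z').1 hR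
  · intro hGR
    have h01 := htfae.out 0 1
    refine h01.1 ⟨FieldPt.ofPt a v, rfl, ?_⟩
    intro k' _ φ Xk' a' b sq
    rw [FieldPt.toHom_ofPt, ← Category.assoc, ← Functor.map_comp] at sq
    refine (redOver_iff f.hom a c hce hcs h hh _).2 ?_ Xk' a' b sq
    apply hGR
    intro x
    show (Spec.map (CommRingCat.ofHom φ) ≫ V.left.fromSpecResidueField v) x = v
    rw [Scheme.Hom.comp_apply]
    exact V.left.fromSpecResidueField_apply v _

end Groth.Agent.S10683
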