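import Groth.Statements.S10687
-- import your own Groth.Agent.* helpers here
import Groth.Agent.Lib.Helper85.GorFibSp

set_option autoImplicit false
universe u
open CategoryTheory CategoryTheory.Limits AlgebraicGeometry
open AlgSp

namespace Groth.Agent.S10687

/-- For morphisms f : X ⟶ Y and g : Y ⟶ Z between algebraic spaces over S whose fibres, and those of f ≫
g, are locally Noetherian, and a point x of |X|: (1) if g is Gorenstein at the image of x and f is
Gorenstein at x itself, then so is f ≫ g at x; (2) if f ≫ g is Gorenstein at x and f is flat there,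
then f is Gorenstein at x and g at the image of x. Here f is Gorenstein at x when in every etale
chart diagram through x the top arrow is Gorenstein at the point over x (flat there, with Gorenstein
local ring of its fibre), and the fibres of a morphism are locally Noetherian when every fibre over
a field point (pullback in fppf sheaves) is a locally Noetherian algebraic space. -/
theorem result {S : Scheme.{u}} {X Y Z : AlgSp.Space S} (f : X ⟶ Y) (g : Y ⟶ Z)
    (hf : ∀ (k : AlgSp.FieldPt Y.obj) (Xk : AlgSp.Sp S) (a : Xk ⟶ X.obj) (b : Xk ⟶ (AlgSp.yon S).obj k.pt),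
        IsPullback a b f.hom k.toHom → AlgSp.IsLocNoethSp Xk)
    (hg : ∀ (k : AlgSp.FieldPt Z.obj) (Xk : AlgSp.Sp S) (a : Xk ⟶ Y.obj) (b : Xk ⟶ (AlgSp.yon S).obj k.pt),
        IsPullback a b g.hom k.toHom → AlgSp.IsLocNoethSp Xk)
    (hfg : ∀ (k : AlgSp.FieldPt Z.obj) (Xk : AlgSp.Sp S) (a : Xk ⟶ X.obj) (b : Xk ⟶ (AlgSp.yon S).obj k.pt),
        IsPullback a b (f ≫ g).hom k.toHom → AlgSp.IsLocNoethSp Xk)
    (x : AlgSp.Points X.obj) :
    (AlgSp.LocPAt (fun h u => Dual3.IsGorensteinAt h u) f.hom x → AlgSp.LocPAt (fun h u => Dual3.IsGorensteinAt h u) g.hom (AlgSp.Points.map f.hom x) →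
        AlgSp.LocPAt (fun h u => Dual3.IsGorensteinAt h u) (f ≫ g).hom x) ∧
      (AlgSp.LocPAt (fun h u => Dual3.IsGorensteinAt h u) (f ≫ g).hom x → AlgSp.IsFlatAtMor f.hom x →
        AlgSp.LocPAt (fun h u => Dual3.IsGorensteinAt h u) f.hom x ∧ AlgSp.LocPAt (fun h u => Dual3.IsGorensteinAt h u) g.hom (AlgSp.Points.map f.hom x)) := by
  obtain ⟨U, V, W, a, b, c, k, pW, ⟨ha, has⟩, ⟨hb, hbs⟩, ⟨hc, hcs⟩, comm1, comm2⟩ :=
    Groth.Agent.Lib.Helper54.AlgSpFlatLocus.exists_atlas_tower f g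
  obtain ⟨u, hu⟩ := Groth.Agent.Lib.Helper37.AlgSpPoints.ofPt_surjective a has x
  have comm3 : a ≫ (f ≫ g).hom = (AlgSp.yon S).map (k ≫ pW) ≫ c := by
    change a ≫ f.hom ≫ g.hom = _
    rw [← Category.assoc, comm1, Category.assoc, comm2, Functor.map_comp, Category.assoc]
  have hpt : AlgSp.Points.ofPt b (k.left u) = AlgSp.Points.map f.hom x := by
    rw [← hu, AlgSp.Points.map_ofPt, comm1]
    exact (Groth.Agent.Lib.Helper37.AlgSpPoints.ofPt_map_comp k b u).symm
  have e1 := Groth.Agent.Lib.Helper85.GorChartSp.locPAt_gor_iff_chart f.hom a b k ha hb comm1 u x hu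
  have e2 := Groth.Agent.Lib.Helper85.GorChartSp.locPAt_gor_iff_chart g.hom b c pW hb hc comm2
    (k.left u) _ hpt
  have e3 := Groth.Agent.Lib.Helper85.GorChartSp.locPAt_gor_iff_chart (f ≫ g).hom a c (k ≫ pW) ha hc
    comm3 u x hu
  have hN1 := Groth.Agent.Lib.Helper85.GorFibSp.isLocallyNoetherian_fiber_of_chart f.hom hf a b k
    ha hb comm1
  have hN2 := Groth.Agent.Lib.Helper85.GorFibSp.isLocallyNoetherian_fiber_of_chart g.hom hg b c pW
    hb hc comm2
  have hN3 := Groth.Agent.Lib.Helper85.GorFibSp.isLocallyNoetherian_fiber_of_chart (f ≫ g).hom hfg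
    a c (k ≫ pW) ha hc comm3
  have key := fun hfl => Groth.Agent.Lib.Helper85.GorComp.isGorensteinAt_comp_iff k.left pW.left
    hN1 hN2 hN3 u hfl
  rw [e1, e2, e3]
  refine ⟨fun h1 h2 => (key h1.1).mpr ⟨h1, h2⟩, fun h3 hfl => (key ?_).mp h3⟩
  exact hfl a b k u ha hb comm1 hu

end Groth.Agent.S10687
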