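import Groth.Statements.S10688
-- import your own Groth.Agent.* helpers here
import Groth.Agent.Lib.Helper85.GorFibSp
import Groth.Agent.Lib.Helper85.GorAtBC

set_option autoImplicit false
universe u
open CategoryTheory CategoryTheory.Limits AlgebraicGeometry
open AlgSp

namespace Groth.Agent.S10688

/-- For a morphism f : X ⟶ Y between algebraic spaces over S with locally Noetherian fibres, g : Y' ⟶ Y
locally of finite type, f' : X' ⟶ Y' the base change (a pullback square of algebraic spaces) with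
projection g' : X' ⟶ X, and x' a point of |X'| with image x: (1) if f is Gorenstein at x then so is
f' at x'; (2) when f is flat at x, Gorensteinness of f' at x' implies that of f at x; (3) the same
conclusion holds if instead g is flat at the image of x' and f' is Gorenstein at x'. Here f is
Gorenstein at x when in every etale chart diagram through x the top arrow is Gorenstein at the point
over x (flat there, with Gorenstein local ring of its fibre), and the fibres of a morphism are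
locally Noetherian when every fibre over a field point (pullback in fppf sheaves) is a locally
Noetherian algebraic space. -/
theorem result {S : Scheme.{u}} {X Y X' Y' : AlgSp.Space S} (f : X ⟶ Y) (g : Y' ⟶ Y) (g' : X' ⟶ X) (f' : X' ⟶ Y')
    (hsq : IsPullback g'.hom f'.hom f.hom g.hom)
    (hf : ∀ (k : AlgSp.FieldPt Y.obj) (Xk : AlgSp.Sp S) (a : Xk ⟶ X.obj) (b : Xk ⟶ (AlgSp.yon S).obj k.pt),
        IsPullback a b f.hom k.toHom → AlgSp.IsLocNoethSp Xk)
    (hg : AlgSp.LocP @LocallyOfFiniteType g.hom) (x' : AlgSp.Points X'.obj) :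
    (AlgSp.LocPAt (fun h u => Dual3.IsGorensteinAt h u) f.hom (AlgSp.Points.map g'.hom x') → AlgSp.LocPAt (fun h u => Dual3.IsGorensteinAt h u) f'.hom x') ∧
      (AlgSp.IsFlatAtMor f.hom (AlgSp.Points.map g'.hom x') → AlgSp.LocPAt (fun h u => Dual3.IsGorensteinAt h u) f'.hom x' →
        AlgSp.LocPAt (fun h u => Dual3.IsGorensteinAt h u) f.hom (AlgSp.Points.map g'.hom x')) ∧
      (AlgSp.IsFlatAtMor g.hom (AlgSp.Points.map f'.hom x') → AlgSp.LocPAt (fun h u => Dual3.IsGorensteinAt h u) f'.hom x' →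
        AlgSp.LocPAt (fun h u => Dual3.IsGorensteinAt h u) f.hom (AlgSp.Points.map g'.hom x')) := by
  obtain ⟨U, V, W, a, b, c, k, pW, ⟨ha, has⟩, ⟨hb, hbs⟩, ⟨hc, hcs⟩, comm1, comm2⟩ :=
    Groth.Agent.Lib.Helper54.AlgSpFlatLocus.exists_atlas_tower f (𝟙 Y)
  obtain ⟨V0', b0', hb0', hb0's⟩ := Y'.property.atlas
  obtain ⟨V', ω, ε, sqV', hε⟩ :=
    Groth.Agent.Lib.Helper79.AlgSpChart.exists_pullback_chart @Etale hb (b0' ≫ g.hom)
  obtain ⟨U', pU, k', sqU'⟩ : ∃ (U' : Over S) (pU : U' ⟶ U) (k' : U' ⟶ V'),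
      IsPullback pU k' k ω := ⟨_, _, _, IsPullback.of_hasPullback k ω⟩
  -- scheme level
  have hXs : IsPullback pU.left k'.left k.left ω.left := sqU'.map (Over.forget S)
  -- sheaf level
  have sU : IsPullback ((AlgSp.yon S).map pU) ((AlgSp.yon S).map (k' ≫ ε)) (a ≫ f.hom)
      (b0' ≫ g.hom) := by
    have := (sqU'.map (AlgSp.yon S)).paste_vert sqV'
    rw [← comm1, ← Functor.map_comp] at this
    exact this
  -- chart of `Y'`
  have hb'e : AlgSp.RepWith @Etale ((AlgSp.yon S).map ε ≫ b0') :=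
    Groth.Agent.Lib.Helper79.AlgSpChart.repWith_map_comp @Etale _ hε hb0'
  have commg : ((AlgSp.yon S).map ε ≫ b0') ≫ g.hom = (AlgSp.yon S).map ω ≫ b := by
    rw [Category.assoc]; exact sqV'.w.symm
  haveI hωft : LocallyOfFiniteType ω.left := hg _ b ω hb'e hb commg
  -- charts of `X'`
  have hQ1 : IsPullback (pullback.fst f'.hom b0') (pullback.snd f'.hom b0') f'.hom b0' :=
    IsPullback.of_hasPullback _ _
  have hQ1X : IsPullback (pullback.fst f'.hom b0' ≫ g'.hom) (pullback.snd f'.hom b0') f.hom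
      (b0' ≫ g.hom) := hQ1.paste_horiz hsq
  obtain ⟨A1, hA11, hA12⟩ : ∃ A1 : (AlgSp.yon S).obj U' ⟶ pullback f'.hom b0',
      A1 ≫ (pullback.fst f'.hom b0' ≫ g'.hom) = (AlgSp.yon S).map pU ≫ a ∧
      A1 ≫ pullback.snd f'.hom b0' = (AlgSp.yon S).map (k' ≫ ε) :=
    ⟨hQ1X.lift _ _ (by rw [Category.assoc]; exact sU.w), hQ1X.lift_fst _ _ _,
      hQ1X.lift_snd _ _ _⟩
  have hA1e : AlgSp.RepWith @Etale A1 :=
    Groth.Agent.Lib.Helper54.AlgSpFlatLocus.repWith_of_fibre @Etale ha hQ1X sU A1 hA11 hA12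
  have hA1s : AlgSp.RepWith @Surjective A1 :=
    Groth.Agent.Lib.Helper54.AlgSpFlatLocus.repWith_of_fibre @Surjective has hQ1X sU A1 hA11 hA12
  have hρ1e : AlgSp.RepWith @Etale (pullback.fst f'.hom b0') :=
    (AlgSp.RepWith @Etale).of_isPullback hQ1.flip hb0'
  have hρ1s : AlgSp.RepWith @Surjective (pullback.fst f'.hom b0') :=
    (AlgSp.RepWith @Surjective).of_isPullback hQ1.flip hb0's
  have ha'e : AlgSp.RepWith @Etale (A1 ≫ pullback.fst f'.hom b0') :=
    (AlgSp.RepWith @Etale).comp_mem _ _ hA1e hρ1e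
  have ha's : AlgSp.RepWith @Surjective (A1 ≫ pullback.fst f'.hom b0') :=
    (AlgSp.RepWith @Surjective).comp_mem _ _ hA1s hρ1s
  have ha'X : (A1 ≫ pullback.fst f'.hom b0') ≫ g'.hom = (AlgSp.yon S).map pU ≫ a := by
    rw [Category.assoc]; exact hA11
  have comm' : (A1 ≫ pullback.fst f'.hom b0') ≫ f'.hom =
      (AlgSp.yon S).map k' ≫ ((AlgSp.yon S).map ε ≫ b0') := by
    rw [Category.assoc, hQ1.w, ← Category.assoc, hA12, Functor.map_comp, Category.assoc]
  -- the point
  obtain ⟨u', hu'⟩ := Groth.Agent.Lib.Helper37.AlgSpPoints.ofPt_surjective _ ha's x'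
  have hx : AlgSp.Points.ofPt a (pU.left u') = AlgSp.Points.map g'.hom x' := by
    rw [← hu', AlgSp.Points.map_ofPt, ha'X]
    exact (Groth.Agent.Lib.Helper37.AlgSpPoints.ofPt_map_comp pU a u').symm
  have hy : AlgSp.Points.ofPt ((AlgSp.yon S).map ε ≫ b0') (k'.left u') =
      AlgSp.Points.map f'.hom x' := by
    rw [← hu', AlgSp.Points.map_ofPt, comm']
    exact (Groth.Agent.Lib.Helper37.AlgSpPoints.ofPt_map_comp k' _ u').symm
  have e1 := Groth.Agent.Lib.Helper85.GorChartSp.locPAt_gor_iff_chart f.hom a b k ha hb comm1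
    (pU.left u') _ hx
  have e2 := Groth.Agent.Lib.Helper85.GorChartSp.locPAt_gor_iff_chart f'.hom _ _ k' ha'e hb'e comm'
    u' x' hu'
  have hN := Groth.Agent.Lib.Helper85.GorFibSp.isLocallyNoetherian_fiber_of_chart f.hom hf a b k
    ha hb comm1
  obtain ⟨r1, r2, r3⟩ := Groth.Agent.Lib.Helper85.GorAtBC.isGorensteinAt_baseChange hXs hN u'
  rw [e1, e2]
  refine ⟨r1, fun hfl => r2 (hfl a b k _ ha hb comm1 hx), fun hfl => r3 ?_⟩
  exact hfl _ b ω _ hb'e hb commg hy

end Groth.Agent.S10688
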