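import Groth.Statements.S10690
-- import your own Groth.Agent.* helpers here
import Groth.Agent.Lib.Helper85.GorTfaeSp

set_option autoImplicit false
universe u
open CategoryTheory CategoryTheory.Limits AlgebraicGeometry
open AlgSp

namespace Groth.Agent.S10690

/-- For a morphism f : X ⟶ Y between algebraic spaces over S whose fibres are locally Noetherian, the
following are equivalent: (1) f is Gorenstein at every point of |X|; (2) f is flat and for some
scheme V with a representable etale surjective b : h_V ⟶ Y every fibre of X ×_Y V ⟶ V over a point v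
of V (pullback along the residue field point of v) is a Gorenstein algebraic space (some etale
surjective scheme chart is a Gorenstein scheme); (3) f is flat and the same holds for every scheme V
with a representable etale b : h_V ⟶ Y. Here f is Gorenstein at x when in every etale chart diagram
through x the top arrow is Gorenstein at the point over x (flat there, with Gorenstein local ring of
its fibre), and the fibres of a morphism are locally Noetherian when every fibre over a field point
(pullback in fppf sheaves) is a locally Noetherian algebraic space. (The published statement also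
characterises being Gorenstein at a single point through strict henselizations; that part is stated
separately and not included here.) -/
theorem result {S : Scheme.{u}} {X Y : AlgSp.Space S} (f : X ⟶ Y)
    (hf : ∀ (k : AlgSp.FieldPt Y.obj) (Xk : AlgSp.Sp S) (a : Xk ⟶ X.obj) (b : Xk ⟶ (AlgSp.yon S).obj k.pt),
        IsPullback a b f.hom k.toHom → AlgSp.IsLocNoethSp Xk) :
    [∀ x : AlgSp.Points X.obj, AlgSp.LocPAt (fun h u => Dual3.IsGorensteinAt h u) f.hom x,
      AlgSp.LocP @Flat f.hom ∧ ∃ (V : Over S) (b : (AlgSp.yon S).obj V ⟶ Y.obj),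
        AlgSp.RepWith @Etale b ∧ AlgSp.RepWith @Surjective b ∧
          ∀ (v : ↥V.left) (Xv : AlgSp.Sp S) (a : Xv ⟶ X.obj)
            (c : Xv ⟶ (AlgSp.yon S).obj (Over.mk (V.left.fromSpecResidueField v ≫ V.hom))),
            IsPullback a c f.hom ((AlgSp.yon S).map (Over.homMk (V.left.fromSpecResidueField v) rfl :
              Over.mk (V.left.fromSpecResidueField v ≫ V.hom) ⟶ V) ≫ b) →
            AlgSp.EtaleLocally Dual3.IsGorenstein Xv,
      AlgSp.LocP @Flat f.hom ∧ ∀ (V : Over S) (b : (AlgSp.yon S).obj V ⟶ Y.obj), AlgSp.RepWith @Etale b →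
          ∀ (v : ↥V.left) (Xv : AlgSp.Sp S) (a : Xv ⟶ X.obj)
            (c : Xv ⟶ (AlgSp.yon S).obj (Over.mk (V.left.fromSpecResidueField v ≫ V.hom))),
            IsPullback a c f.hom ((AlgSp.yon S).map (Over.homMk (V.left.fromSpecResidueField v) rfl :
              Over.mk (V.left.fromSpecResidueField v ≫ V.hom) ⟶ V) ≫ b) →
            AlgSp.EtaleLocally Dual3.IsGorenstein Xv].TFAE := by
  tfae_have 1 → 3 := by
    intro h1
    have hflat : AlgSp.LocP @Flat f.hom := by
      intro U V a b k ha hb comm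
      rw [Flat.iff_flat_stalkMap]
      intro x
      exact (h1 (AlgSp.Points.ofPt a x) a b k x ha hb comm rfl).1
    refine ⟨hflat, ?_⟩
    intro V b hb v Xv a' c hP
    obtain ⟨U0, a0, ha0, ha0s⟩ := X.property.atlas
    obtain ⟨U, k, e0, sqU, he0⟩ :=
      Groth.Agent.Lib.Helper79.AlgSpChart.exists_pullback_chart @Etale hb (a0 ≫ f.hom)
    have ha : AlgSp.RepWith @Etale ((AlgSp.yon S).map e0 ≫ a0) :=
      Groth.Agent.Lib.Helper79.AlgSpChart.repWith_map_comp @Etale _ he0 ha0
    have comm : ((AlgSp.yon S).map e0 ≫ a0) ≫ f.hom = (AlgSp.yon S).map k ≫ b := by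
      rw [Category.assoc]; exact sqU.w.symm
    obtain ⟨Uv, A, i, s, hsq, hQ, hA1, hA2⟩ :=
      Groth.Agent.Lib.Helper85.GorTfaeSp.exists_fibre_chart f.hom a0 b k e0 sqU v Xv a' c hP
    refine ⟨Uv, A, hQ _ ha0, hQ _ ha0s, ?_, ?_⟩
    · exact Groth.Agent.Lib.Helper85.GorTfaeSp.isLocallyNoetherian_of_isPullback k.left v hsq
        (Groth.Agent.Lib.Helper85.GorFibSp.isLocallyNoetherian_fiber_of_chart f.hom hf _ b k
          ha hb comm v)
    · intro w
      have hG : Dual3.IsGorensteinAt k.left (i.left w) :=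
        h1 (AlgSp.Points.ofPt _ (i.left w)) _ b k (i.left w) ha hb comm rfl
      exact ((Groth.Agent.Lib.Helper85.GorTfaeSp.isGorensteinAt_iff_of_isPullback k.left v hsq
        w).mp hG).2
  tfae_have 3 → 2 := by
    intro h3
    obtain ⟨V, b, hb, hbs⟩ := Y.property.atlas
    exact ⟨h3.1, V, b, hb, hbs, h3.2 V b hb⟩
  tfae_have 2 → 1 := by
    rintro ⟨hflat, V, b, hb, hbs, hfib⟩ x
    obtain ⟨U0, a0, ha0, ha0s⟩ := X.property.atlas
    obtain ⟨U, k, e0, sqU, he0⟩ :=
      Groth.Agent.Lib.Helper79.AlgSpChart.exists_pullback_chart @Etale hb (a0 ≫ f.hom)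
    have he0s : Surjective e0.left := hbs.property (a0 ≫ f.hom) _ e0 sqU
    have ha : AlgSp.RepWith @Etale ((AlgSp.yon S).map e0 ≫ a0) :=
      Groth.Agent.Lib.Helper79.AlgSpChart.repWith_map_comp @Etale _ he0 ha0
    have has : AlgSp.RepWith @Surjective ((AlgSp.yon S).map e0 ≫ a0) :=
      Groth.Agent.Lib.Helper79.AlgSpChart.repWith_map_comp @Surjective _ he0s ha0s
    have comm : ((AlgSp.yon S).map e0 ≫ a0) ≫ f.hom = (AlgSp.yon S).map k ≫ b := by
      rw [Category.assoc]; exact sqU.w.symm
    obtain ⟨u, hu⟩ := Groth.Agent.Lib.Helper37.AlgSpPoints.ofPt_surjective _ has x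
    rw [Groth.Agent.Lib.Helper85.GorChartSp.locPAt_gor_iff_chart f.hom _ b k ha hb comm u x hu]
    have hP := IsPullback.of_hasPullback f.hom ((AlgSp.yon S).map
      (Over.homMk (V.left.fromSpecResidueField (k.left u)) rfl :
        Over.mk (V.left.fromSpecResidueField (k.left u) ≫ V.hom) ⟶ V) ≫ b)
    obtain ⟨T, p, hp, hps, hTG⟩ := hfib (k.left u) _ _ _ hP
    obtain ⟨Uv, A, i, s, hsq, hQ, hA1, hA2⟩ :=
      Groth.Agent.Lib.Helper85.GorTfaeSp.exists_fibre_chart f.hom a0 b k e0 sqU (k.left u) _ _ _ hP
    obtain ⟨w, hw⟩ := Groth.Agent.Lib.Helper85.GorTfaeSp.exists_point_of_isPullback k.left u hsq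
    obtain ⟨t, ht⟩ := Groth.Agent.Lib.Helper37.AlgSpPoints.ofPt_surjective p hps
      (AlgSp.Points.ofPt A w)
    have hGw : LocCoh.IsGorensteinLocalRing (Uv.left.presheaf.stalk w) :=
      Groth.Agent.Lib.Helper85.GorStalkSp.gor_stalk_chart_transfer p A hp (hQ _ ha0) t w ht
        (hTG.2 t)
    have hkfl : Flat k.left := hflat _ b k ha hb comm
    have := (Groth.Agent.Lib.Helper85.GorTfaeSp.isGorensteinAt_iff_of_isPullback k.left
      (k.left u) hsq w).mpr ⟨Flat.stalkMap k.left _, hGw⟩
    rw [hw] at this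
    exact this
  tfae_finish

end Groth.Agent.S10690
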