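import Groth.Statements.S10691
-- import your own Groth.Agent.* helpers here
import Groth.Agent.Lib.Helper85.GorStalkSp
import Groth.Agent.Lib.Helper54.AlgSpFlatLocus

set_option autoImplicit false
universe u
open CategoryTheory CategoryTheory.Limits AlgebraicGeometry
open AlgSp

namespace Groth.Agent.S10691

/-- For locally Noetherian algebraic spaces X, Y over S and a flat morphism f : X ⟶ Y, with X Gorenstein
(some etale surjective scheme chart is a Gorenstein scheme): f is Gorenstein at every point of |X|,
and for every point x of |X| the etale local ring of Y at a geometric point over f(x), presented as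
a strict henselization R of the local ring of an etale scheme chart V of Y at a point v over f(x),
is a Gorenstein local ring. Here f is Gorenstein at x when in every etale chart diagram through x
the top arrow is Gorenstein at the point over x (flat there, with Gorenstein local ring of its
fibre), and the fibres of a morphism are locally Noetherian when every fibre over a field point
(pullback in fppf sheaves) is a locally Noetherian algebraic space. -/
theorem result {S : Scheme.{u}} {X Y : AlgSp.Space S} (f : X ⟶ Y) (hf : AlgSp.LocP @Flat f.hom)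
    (hX1 : AlgSp.IsLocNoethSp X.obj) (hY1 : AlgSp.IsLocNoethSp Y.obj)
    (hX2 : AlgSp.EtaleLocally Dual3.IsGorenstein X.obj) :
    (∀ x : AlgSp.Points X.obj, AlgSp.LocPAt (fun h u => Dual3.IsGorensteinAt h u) f.hom x) ∧
      ∀ (x : AlgSp.Points X.obj) (V : Over S) (b : (AlgSp.yon S).obj V ⟶ Y.obj), AlgSp.RepWith @Etale b →
        ∀ (v : ↥V.left), AlgSp.Points.ofPt b v = AlgSp.Points.map f.hom x →
          ∀ (R : Type u) [CommRing R] [IsLocalRing R] [Algebra ↥(V.left.presheaf.stalk v) R]
            [IsLocalHom (algebraMap ↥(V.left.presheaf.stalk v) R)]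
            [Hensel.IsStrictHenselization ↥(V.left.presheaf.stalk v) R],
            LocCoh.IsGorensteinLocalRing R := by
  obtain ⟨U0, p0, hp0, hp0s, hU0N, hU0G⟩ := hX2
  -- the key local statement at a point of an atlas tower
  have key : ∀ x : AlgSp.Points X.obj,
      AlgSp.LocPAt (fun h u => Dual3.IsGorensteinAt h u) f.hom x ∧
      ∃ (V : Over S) (b : (AlgSp.yon S).obj V ⟶ Y.obj) (v : V.left), AlgSp.RepWith @Etale b ∧
        AlgSp.Points.ofPt b v = AlgSp.Points.map f.hom x ∧
        LocCoh.IsGorensteinLocalRing (V.left.presheaf.stalk v) := by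
    intro x
    obtain ⟨U, V, W, a, b, c, k, pW, ⟨ha, has⟩, ⟨hb, hbs⟩, ⟨hc, hcs⟩, comm1, comm2⟩ :=
      Groth.Agent.Lib.Helper54.AlgSpFlatLocus.exists_atlas_tower f (𝟙 Y)
    obtain ⟨u, hu⟩ := Groth.Agent.Lib.Helper37.AlgSpPoints.ofPt_surjective a has x
    obtain ⟨u0, hu0⟩ := Groth.Agent.Lib.Helper37.AlgSpPoints.ofPt_surjective p0 hp0s x
    have hGu : LocCoh.IsGorensteinLocalRing (U.left.presheaf.stalk u) :=
      Groth.Agent.Lib.Helper85.GorStalkSp.gor_stalk_chart_transfer p0 a hp0 ha u0 u
        (hu0.trans hu.symm) (hU0G u0)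
    haveI := hGu
    have hkfl : Flat k.left := hf a b k ha hb comm1
    have hfl : (k.left.stalkMap u).hom.Flat := Flat.stalkMap k.left u
    haveI : IsNoetherianRing (U.left.presheaf.stalk u) := hGu.toIsNoetherian
    haveI : IsNoetherianRing (V.left.presheaf.stalk (k.left u)) := by
      letI : Algebra (V.left.presheaf.stalk (k.left u)) (U.left.presheaf.stalk u) :=
        (k.left.stalkMap u).hom.toAlgebra
      haveI : Module.Flat (V.left.presheaf.stalk (k.left u)) (U.left.presheaf.stalk u) := hfl
      haveI : IsLocalHom (algebraMap (V.left.presheaf.stalk (k.left u))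
          (U.left.presheaf.stalk u)) := inferInstanceAs (IsLocalHom (k.left.stalkMap u).hom)
      exact Groth.Agent.Lib.Helper85.GorStalkSp.isNoetherianRing_of_flat_local _
        (U.left.presheaf.stalk u)
    obtain ⟨h1, h2⟩ := Groth.Agent.Lib.Helper85.GorMor.gor_base_and_fibre_of_flat k.left u hfl
    have hpt : AlgSp.Points.ofPt b (k.left u) = AlgSp.Points.map f.hom x := by
      rw [← hu, AlgSp.Points.map_ofPt, comm1]
      exact (Groth.Agent.Lib.Helper37.AlgSpPoints.ofPt_map_comp k b u).symm
    refine ⟨?_, V, b, k.left u, hb, hpt, h1⟩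
    rw [Groth.Agent.Lib.Helper85.GorChartSp.locPAt_gor_iff_chart f.hom a b k ha hb comm1 u x hu,
      Groth.Agent.Lib.Helper85.GorMor.isGorensteinAt_iff]
    exact ⟨hfl, h2⟩
  refine ⟨fun x => (key x).1, ?_⟩
  intro x V' b' hb' v' hv' R _ _ _ _ _
  obtain ⟨-, V, b, v, hb, hv, hG⟩ := key x
  have hG' : LocCoh.IsGorensteinLocalRing (V'.left.presheaf.stalk v') :=
    Groth.Agent.Lib.Helper85.GorStalkSp.gor_stalk_chart_transfer b b' hb hb' v v'
      (hv.trans hv'.symm) hG
  exact Groth.Agent.Lib.Helper85.GorStalkSp.gor_sh _ R hG'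

end Groth.Agent.S10691
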