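import Groth.Statements.S10692
-- import your own Groth.Agent.* helpers here
import Groth.Agent.S10679
import Groth.Agent.S10680

set_option autoImplicit false
universe u
open CategoryTheory CategoryTheory.Limits AlgebraicGeometry
open AlgSp

namespace Groth.Agent.S10692

theorem lt_iff_succ_le (x : WithBot ℕ∞) (m : ℕ) :
    (((m : ℕ) : ℕ∞) : WithBot ℕ∞) < x ↔ (((m + 1 : ℕ) : ℕ∞) : WithBot ℕ∞) ≤ x := by
  induction x using WithBot.recBotCoe with
  | bot => simp
  | coe x =>
    induction x using ENat.recTopCoe with
    | top =>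
      simp only [WithBot.coe_lt_coe, WithBot.coe_le_coe, le_top, iff_true]
      exact ENat.natCast_lt_top m
    | coe j =>
      rw [WithBot.coe_lt_coe, WithBot.coe_le_coe, Nat.cast_lt, Nat.cast_le]
      exact Nat.lt_iff_add_one_le

theorem bot_lt_iff_zero_le (x : WithBot ℕ∞) :
    ⊥ < x ↔ (((0 : ℕ) : ℕ∞) : WithBot ℕ∞) ≤ x := by
  induction x using WithBot.recBotCoe with
  | bot => simp
  | coe x => simp

/-- For a proper flat morphism f : X ⟶ Y between algebraic spaces over S which is of finite
presentation, the fibre dimension function on |Y| is locally constant: for every d the set of y such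
that every fibre X_k over y (k a field point in the class of y, X_k any pullback in fppf sheaves)
has dimension exactly d is open. -/
theorem result {S : Scheme.{u}} {X Y : AlgSp.Space S} (f : X ⟶ Y) (hf1 : AlgSp.IsProperMor f.hom)
    (hf2 : AlgSp.LocP @Flat f.hom) (hf3 : AlgSp.IsFinitePresentationMor f.hom) (d : WithBot ℕ∞) :
    IsOpen {y : AlgSp.Points Y.obj | ∀ (k : AlgSp.FieldPt Y.obj), AlgSp.Points.mk k = y →
      ∀ (Xk : AlgSp.Sp S) (fst : Xk ⟶ X.obj) (snd : Xk ⟶ (AlgSp.yon S).obj k.pt),
        IsPullback fst snd f.hom k.toHom → AlgSp.dim Xk = d} := by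
  induction d using WithBot.recBotCoe with
  | bot =>
    have h0 := Groth.Agent.S10680.result f hf1 (((0 : ℕ) : ℕ∞) : WithBot ℕ∞)
    convert h0 using 8
    rw [Groth.Agent.S10680.lt_zero_iff_eq_bot]
  | coe d =>
    induction d using ENat.recTopCoe with
    | top =>
      convert isOpen_empty
      ext y
      simp only [Set.mem_ofPred_eq, Set.mem_empty_iff_false, iff_false]
      intro hy
      obtain ⟨k, hk, Xk, fst, snd, sq⟩ := Groth.Agent.S10679.exists_fibre f.hom y
      obtain ⟨m, hm⟩ := Groth.Agent.S10680.exists_dim_fibre_le f hf1.2.1 k Xk fst snd sq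
      rw [hy k hk Xk fst snd sq] at hm
      exact absurd hm (not_le.2 (WithBot.coe_lt_coe.2 (ENat.natCast_lt_top m)))
    | coe n =>
      have hB := Groth.Agent.S10680.result f hf1 (((n + 1 : ℕ) : ℕ∞) : WithBot ℕ∞)
      cases n with
      | zero =>
        have hA := Groth.Agent.S10679.result f hf2 hf3 ⊥
        convert hA.inter hB using 1
        ext y
        simp only [Set.mem_ofPred_eq, Set.mem_inter_iff]
        constructor
        · intro hy
          refine ⟨fun k hk Xk fst snd sq => ?_, fun k hk Xk fst snd sq => ?_⟩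
          · rw [hy k hk Xk fst snd sq, bot_lt_iff_zero_le]
          · rw [hy k hk Xk fst snd sq, Groth.Agent.S10680.lt_succ_iff_le]
        · rintro ⟨h1, h2⟩ k hk Xk fst snd sq
          exact le_antisymm ((Groth.Agent.S10680.lt_succ_iff_le _ 0).1 (h2 k hk Xk fst snd sq))
            ((bot_lt_iff_zero_le _).1 (h1 k hk Xk fst snd sq))
      | succ m =>
        have hA := Groth.Agent.S10679.result f hf2 hf3 (((m : ℕ) : ℕ∞) : WithBot ℕ∞)
        convert hA.inter hB using 1
        ext y
        simp only [Set.mem_ofPred_eq, Set.mem_inter_iff]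
        constructor
        · intro hy
          refine ⟨fun k hk Xk fst snd sq => ?_, fun k hk Xk fst snd sq => ?_⟩
          · rw [hy k hk Xk fst snd sq, lt_iff_succ_le]
          · rw [hy k hk Xk fst snd sq, Groth.Agent.S10680.lt_succ_iff_le]
        · rintro ⟨h1, h2⟩ k hk Xk fst snd sq
          exact le_antisymm
            ((Groth.Agent.S10680.lt_succ_iff_le _ (m + 1)).1 (h2 k hk Xk fst snd sq))
            ((lt_iff_succ_le _ m).1 (h1 k hk Xk fst snd sq))

end Groth.Agent.S10692
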