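import Groth.Statements.S10698
import Groth.Agent.Lib.Helper30.SepCover
import Groth.Agent.Lib.Helper30.ElemDistSq

set_option autoImplicit false
universe u
open CategoryTheory CategoryTheory.Limits AlgebraicGeometry
open AlgSp

namespace Groth.Agent.S10698

open Groth.Agent.Lib.Helper30.SepCover Groth.Agent.Lib.Helper37.AlgSpPoints in
/-- The two legs of an elementary distinguished square cover the points. -/
theorem cover_of_isElemDistSq {S : Scheme.{u}} {U V W : Sp S} (j : U ⟶ W) (f : V ⟶ W)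
    (hsq : IsElemDistSq j f) (x : Points W) :
    x ∈ Set.range (Points.map j) ∨ x ∈ Set.range (Points.map f) := by
  obtain ⟨hj, hf, T₀, P', i, p₁, p₂, hred, hpb, hiso⟩ := hsq
  by_cases hx : x ∈ Set.range (Points.map j)
  · exact Or.inl hx
  · right
    have hx' : x ∈ Set.range (Points.map i) := by rw [hred.2.1]; exact hx
    obtain ⟨τ, rfl⟩ := hx'
    refine ⟨Points.map p₂ (Points.map (inv p₁) τ), ?_⟩
    rw [← Points.map_comp, ← Points.map_comp, ← hpb.w, IsIso.inv_hom_id_assoc]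

/-- Let `g : X → Y` be a morphism of algebraic spaces over `S` and `(U ⊂ X, f : V → X)` an elementary
distinguished square. Suppose `U → Y` and `V → Y` are both separated, that the canonical morphism `c
: U ×_X V → U ×_Y V` (between chosen fibre products `PX`, `PY`) is closed on points, and that the
canonical morphism `d : V ×_X V → V ×_Y V` (between chosen fibre products `QX`, `QY`) is
representable and a closed immersion. Then `g` is separated. (The published statement omits the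
condition on `V ×_X V → V ×_Y V`; its proof identifies the piece of `X ×_Y X` over `V ×_Y V` with
`V`, which is `V ×_X V`, and without that condition the affine line with doubled origin over a
field, with `U` the complement of the two origins and `V` the disjoint union of the two standard
charts, satisfies every other hypothesis and is not separated. With it, the diagonal of `g` is a
closed immersion over each of the four pieces `U ×_Y U`, `U ×_Y V`, `V ×_Y U`, `V ×_Y V` of an etale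
cover of `X ×_Y X`; for `c`, which is an immersion because `U → X` is an open immersion and `U → Y`
is separated, closedness on points suffices.) -/
theorem result {S : Scheme.{u}} {U V X Y PX PY QX QY : AlgSp.Space S} (g : X ⟶ Y)
    (j : U ⟶ X) (f : V ⟶ X) (hsq : AlgSp.IsElemDistSq j.hom f.hom)
    (hU : AlgSp.IsSeparatedMor (j ≫ g).hom) (hV : AlgSp.IsSeparatedMor (f ≫ g).hom)
    (pX : PX ⟶ U) (qX : PX ⟶ V) (hPX : IsPullback pX.hom qX.hom j.hom f.hom)
    (pY : PY ⟶ U) (qY : PY ⟶ V) (hPY : IsPullback pY.hom qY.hom (j ≫ g).hom (f ≫ g).hom)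
    (c : PX ⟶ PY) (hc₁ : c ≫ pY = pX) (hc₂ : c ≫ qY = qX) (hcl : AlgSp.IsClosedMor c.hom)
    (rX₁ rX₂ : QX ⟶ V) (hQX : IsPullback rX₁.hom rX₂.hom f.hom f.hom)
    (rY₁ rY₂ : QY ⟶ V) (hQY : IsPullback rY₁.hom rY₂.hom (f ≫ g).hom (f ≫ g).hom)
    (d : QX ⟶ QY) (hd₁ : d ≫ rY₁ = rX₁) (hd₂ : d ≫ rY₂ = rX₂)
    (hdcl : AlgSp.RepWith @IsClosedImmersion d.hom) : AlgSp.IsSeparatedMor g.hom := by
  have hj : RepWith @IsOpenImmersion j.hom := hsq.1
  have hjm : Mono j.hom := Groth.Agent.Lib.Helper62.mono_of_repWith @IsOpenImmersion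
    (fun f hf => by have := hf; infer_instance) j.hom hj
  have hc₁' : c.hom ≫ pY.hom = pX.hom := congrArg (fun k => k.hom) hc₁
  have hc₂' : c.hom ≫ qY.hom = qX.hom := congrArg (fun k => k.hom) hc₂
  have hd₁' : d.hom ≫ rY₁.hom = rX₁.hom := congrArg (fun k => k.hom) hd₁
  have hd₂' : d.hom ≫ rY₂.hom = rX₂.hom := congrArg (fun k => k.hom) hd₂
  have hU' : IsSeparatedMor (j.hom ≫ g.hom) := hU
  have hPY' : IsPullback pY.hom qY.hom (j.hom ≫ g.hom) (f.hom ≫ g.hom) := hPY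
  have hQY' : IsPullback rY₁.hom rY₂.hom (f.hom ≫ g.hom) (f.hom ≫ g.hom) := hQY
  have hccl : RepWith @IsClosedImmersion c.hom :=
    Groth.Agent.Lib.Helper30.SepCover.repWith_isClosedImmersion_of_isClosedMor j.hom f.hom g.hom hj hU'
      hPX hPY' c.hom hc₁' hc₂' hcl
  let A : ULift.{u} Bool → Sp S := fun s => match s with
    | ⟨true⟩ => U.obj
    | ⟨false⟩ => V.obj
  let a : ∀ s, A s ⟶ X.obj := fun s => match s with
    | ⟨true⟩ => j.hom
    | ⟨false⟩ => f.hom
  let P : ULift.{u} Bool → ULift.{u} Bool → Sp S := fun s t => match s, t with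
    | ⟨true⟩, ⟨true⟩ => U.obj
    | ⟨true⟩, ⟨false⟩ => PX.obj
    | ⟨false⟩, ⟨true⟩ => PX.obj
    | ⟨false⟩, ⟨false⟩ => QX.obj
  let Q : ULift.{u} Bool → ULift.{u} Bool → Sp S := fun s t => match s, t with
    | ⟨true⟩, ⟨true⟩ => pullback (j.hom ≫ g.hom) (j.hom ≫ g.hom)
    | ⟨true⟩, ⟨false⟩ => PY.obj
    | ⟨false⟩, ⟨true⟩ => PY.obj
    | ⟨false⟩, ⟨false⟩ => QY.obj
  let pa : ∀ s t, P s t ⟶ A s := fun s t => match s, t with
    | ⟨true⟩, ⟨true⟩ => 𝟙 U.obj
    | ⟨true⟩, ⟨false⟩ => pX.hom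
    | ⟨false⟩, ⟨true⟩ => qX.hom
    | ⟨false⟩, ⟨false⟩ => rX₁.hom
  let pb : ∀ s t, P s t ⟶ A t := fun s t => match s, t with
    | ⟨true⟩, ⟨true⟩ => 𝟙 U.obj
    | ⟨true⟩, ⟨false⟩ => qX.hom
    | ⟨false⟩, ⟨true⟩ => pX.hom
    | ⟨false⟩, ⟨false⟩ => rX₂.hom
  let qa : ∀ s t, Q s t ⟶ A s := fun s t => match s, t with
    | ⟨true⟩, ⟨true⟩ => pullback.fst (j.hom ≫ g.hom) (j.hom ≫ g.hom)
    | ⟨true⟩, ⟨false⟩ => pY.hom
    | ⟨false⟩, ⟨true⟩ => qY.hom
    | ⟨false⟩, ⟨false⟩ => rY₁.hom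
  let qb : ∀ s t, Q s t ⟶ A t := fun s t => match s, t with
    | ⟨true⟩, ⟨true⟩ => pullback.snd (j.hom ≫ g.hom) (j.hom ≫ g.hom)
    | ⟨true⟩, ⟨false⟩ => qY.hom
    | ⟨false⟩, ⟨true⟩ => pY.hom
    | ⟨false⟩, ⟨false⟩ => rY₂.hom
  let cc : ∀ s t, P s t ⟶ Q s t := fun s t => match s, t with
    | ⟨true⟩, ⟨true⟩ => pullback.diagonal (j.hom ≫ g.hom)
    | ⟨true⟩, ⟨false⟩ => c.hom
    | ⟨false⟩, ⟨true⟩ => c.hom
    | ⟨false⟩, ⟨false⟩ => d.hom
  refine Groth.Agent.Lib.Helper30.SepCover.isSeparatedMor_of_etale_cover X.property Y.property g.hom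
    A ?_ a ?_ ?_ P Q pa pb ?_ qa qb ?_ cc ?_ ?_ ?_
  · rintro ⟨_ | _⟩
    · exact V.property
    · exact U.property
  · rintro ⟨_ | _⟩
    · exact hsq.2.1
    · exact Groth.Agent.Lib.Helper46.LargestOpen.isEtaleMor_of_isOpenImmersion j.hom hj
  · intro x
    rcases cover_of_isElemDistSq j.hom f.hom hsq x with h | h
    · exact ⟨⟨true⟩, h⟩
    · exact ⟨⟨false⟩, h⟩
  · rintro ⟨_ | _⟩ ⟨_ | _⟩
    · exact hQX
    · exact hPX.flip
    · exact hPX
    · exact IsKernelPair.id_of_mono j.hom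
  · rintro ⟨_ | _⟩ ⟨_ | _⟩
    · exact hQY'
    · exact hPY'.flip
    · exact hPY'
    · exact IsPullback.of_hasPullback _ _
  · rintro ⟨_ | _⟩ ⟨_ | _⟩
    · exact hd₁'
    · exact hc₂'
    · exact hc₁'
    · exact pullback.diagonal_fst _
  · rintro ⟨_ | _⟩ ⟨_ | _⟩
    · exact hd₂'
    · exact hc₁'
    · exact hc₂'
    · exact pullback.diagonal_snd _
  · rintro ⟨_ | _⟩ ⟨_ | _⟩
    · exact hdcl
    · exact hccl
    · exact hccl
    · exact hU'

end Groth.Agent.S10698
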