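import Mathlib
import Groth.Statements.S10706
import Groth.Agent.Lib.Helper24.EtGlueDesc
import Groth.Agent.Lib.Helper37.AlgSpPoints

set_option autoImplicit false
universe u
open CategoryTheory CategoryTheory.Limits AlgebraicGeometry TensorProduct
open AlgSp

namespace Groth.Agent.S10706

open Groth.Agent.Lib.Helper24.EtGlue Groth.Agent.Lib.Helper37.AlgSpPoints

variable {R : Type u} [CommRing R]

theorem exists_affine_nbhd (X : Scheme.{u}) (r : X) :
    ∃ (C : CommRingCat.{u}) (j : Spec C ⟶ X) (_ : IsOpenImmersion j) (w : ↥(Spec C)), j w = r := by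
  obtain ⟨w, hw⟩ := X.affineOpenCover.covers r
  exact ⟨_, X.affineOpenCover.f _, inferInstance, w, hw⟩

theorem local_data {Y : Sp (Spec (CommRingCat.of R))} {A B : Type u} [CommRing A] [Algebra R A]
    [CommRing B] [Algebra R B]
    (gA : (yon (Spec (CommRingCat.of R))).obj
      (Over.mk (Spec.map (CommRingCat.ofHom (algebraMap R A)))) ⟶ Y)
    (gB : (yon (Spec (CommRingCat.of R))).obj
      (Over.mk (Spec.map (CommRingCat.ofHom (algebraMap R B)))) ⟶ Y)
    (hA : RepWith @Etale gA) (hB : RepWith @Etale gB)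
    (a : ↥(Spec (CommRingCat.of A))) (x : ↥(Spec (CommRingCat.of B)))
    (hax : Points.ofPt gA a = Points.ofPt gB x) :
    ∃ (C : Type u) (_ : CommRing C) (α : A →+* C) (β : B →+* C) (q : Ideal C) (_ : q.IsPrime),
      α.Flat ∧ β.Flat ∧ α.comp (algebraMap R A) = β.comp (algebraMap R B) ∧
        q.comap β = x.asIdeal := by
  have hsq := hA.rep.isPullback' gB
  have hsnd : Etale (hA.rep.snd gB).left := hA.property_snd gB
  have hfst : Etale (hA.rep.fst' gB).left :=
    hB.property gA ((yon _).map (hA.rep.snd gB)) (hA.rep.fst' gB) hsq.flip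
  obtain ⟨r, hr1, hr2⟩ := (ofPt_eq_ofPt_iff hsq a x).1 hax
  obtain ⟨C, j, hjo, w, hw⟩ := exists_affine_nbhd (hA.rep.pullback gB).left r
  have hαs : Etale (j ≫ (hA.rep.fst' gB).left) := inferInstance
  have hβs : Etale (j ≫ (hA.rep.snd gB).left) := inferInstance
  have hα : (Spec.preimage (j ≫ (hA.rep.fst' gB).left)).hom.Etale := by
    have : Etale (Spec.map (Spec.preimage (j ≫ (hA.rep.fst' gB).left))) := by
      rw [Spec.map_preimage]; exact hαs
    exact (HasRingHomProperty.Spec_iff (P := @Etale)).mp this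
  have hβ : (Spec.preimage (j ≫ (hA.rep.snd gB).left)).hom.Etale := by
    have : Etale (Spec.map (Spec.preimage (j ≫ (hA.rep.snd gB).left))) := by
      rw [Spec.map_preimage]; exact hβs
    exact (HasRingHomProperty.Spec_iff (P := @Etale)).mp this
  refine ⟨C, inferInstance, (Spec.preimage (j ≫ (hA.rep.fst' gB).left)).hom,
    (Spec.preimage (j ≫ (hA.rep.snd gB).left)).hom, w.asIdeal, w.isPrime,
    (RingHom.Etale.iff_flat_and_formallyUnramified.mp hα).1,
    (RingHom.Etale.iff_flat_and_formallyUnramified.mp hβ).1, ?_, ?_⟩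
  · have e : Spec.map (Spec.preimage (j ≫ (hA.rep.fst' gB).left)) ≫
        Spec.map (CommRingCat.ofHom (algebraMap R A)) =
        Spec.map (Spec.preimage (j ≫ (hA.rep.snd gB).left)) ≫
        Spec.map (CommRingCat.ofHom (algebraMap R B)) := by
      rw [Spec.map_preimage, Spec.map_preimage, Category.assoc, Category.assoc]
      have e1 := Over.w (hA.rep.fst' gB)
      have e2 := Over.w (hA.rep.snd gB)
      dsimp only [Over.mk_hom] at e1 e2
      rw [e1, e2]
    rw [← Spec.map_comp, ← Spec.map_comp] at e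
    have e' := Spec.map_injective e
    ext t
    exact congrArg (fun φ => φ.hom t) e'
  · have h1 : (Spec.map (Spec.preimage (j ≫ (hA.rep.snd gB).left))) w = x := by
      rw [Spec.map_preimage, Scheme.Hom.comp_apply, hw, hr2]
    rw [Spec.map_apply] at h1
    rw [← h1]
    rfl

theorem forward (R' : Type u) [CommRing R'] [Algebra R R'] (f : R)
    (hRR' : EtGlue.IsGlueingPair R R' f) (Y : AlgSp.Space (Spec (CommRingCat.of R)))
    (ι : Type u) (A : ι → Type u) [∀ k, CommRing (A k)] [∀ k, Algebra R (A k)]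
    (g : ∀ k, (AlgSp.yon (Spec (CommRingCat.of R))).obj
      (Over.mk (Spec.map (CommRingCat.ofHom (algebraMap R (A k)))) :
        Over (Spec (CommRingCat.of R))) ⟶ Y.obj)
    (hg : ∀ k, AlgSp.RepWith @Etale (g k))
    (hcov : ∀ y : AlgSp.Points Y.obj, ∃ k, y ∈ Set.range (AlgSp.Points.map (g k)))
    (hgl : ∀ k, EtGlue.IsGlueable R R' f (A k))
    (B : Type u) [CommRing B] [Algebra R B]
    (h : (AlgSp.yon (Spec (CommRingCat.of R))).obj
      (Over.mk (Spec.map (CommRingCat.ofHom (algebraMap R B))) :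
        Over (Spec (CommRingCat.of R))) ⟶ Y.obj)
    (hh : AlgSp.RepWith @Etale h) : EtGlue.IsGlueable R R' f B := by
  apply isGlueable_of_forall hRR'
  rintro b hb1 ⟨n, hbn⟩
  apply eq_zero_of_forall_flat
  intro p hp
  let x : ↥(Spec (CommRingCat.of B)) := (⟨p, hp.isPrime⟩ : PrimeSpectrum B)
  obtain ⟨k, z, hz⟩ := hcov (Points.ofPt h x)
  have hax : Points.ofPt (g k) (Points.toScheme _ z) = Points.ofPt h x := by
    rw [Points.ofPt_eq_map_ofScheme, Points.ofScheme_toScheme, hz]
  obtain ⟨C, _, α, β, q, hq, hα, hβ, hcomp, hqx⟩ := local_data (g k) h (hg k) hh _ x hax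
  refine ⟨C, inferInstance, β, q, hq, hβ, hqx, ?_⟩
  letI : Algebra R C := (α.comp (algebraMap R (A k))).toAlgebra
  letI : Algebra (A k) C := α.toAlgebra
  haveI : IsScalarTower R (A k) C := IsScalarTower.of_algebraMap_eq (fun r => rfl)
  haveI : Module.Flat (A k) C := hα
  have hC : EtGlue.IsGlueable R R' f C := isGlueable_of_flat hRR' (hgl k)
  let βl : B →ₐ[R] C := ⟨β, fun r => by
    have := congrArg (fun φ => φ r) hcomp
    exact this.symm⟩
  apply eq_zero_of_isGlueable hC (β b) _ n _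
  · have := congrArg (LinearMap.lTensor R' βl.toLinearMap) hb1
    rw [LinearMap.lTensor_tmul, map_zero] at this
    exact this
  · have : f ^ n • β b = βl (f ^ n • b) := by rw [map_smul]; rfl
    rw [this, hbn, map_zero]

theorem backward (R' : Type u) [CommRing R'] [Algebra R R'] (f : R)
    (Y : AlgSp.Space (Spec (CommRingCat.of R)))
    (H : ∀ (A : Type u) [CommRing A] [Algebra R A]
      (g : (AlgSp.yon (Spec (CommRingCat.of R))).obj
        (Over.mk (Spec.map (CommRingCat.ofHom (algebraMap R A))) :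
          Over (Spec (CommRingCat.of R))) ⟶ Y.obj),
      AlgSp.RepWith @Etale g → EtGlue.IsGlueable R R' f A) :
    ∃ (ι : Type u) (A : ι → Type u) (_ : ∀ k, CommRing (A k)) (_ : ∀ k, Algebra R (A k))
        (g : ∀ k, (AlgSp.yon (Spec (CommRingCat.of R))).obj
          (Over.mk (Spec.map (CommRingCat.ofHom (algebraMap R (A k)))) :
            Over (Spec (CommRingCat.of R))) ⟶ Y.obj),
        (∀ k, AlgSp.RepWith @Etale (g k)) ∧
        (∀ y : AlgSp.Points Y.obj, ∃ k, y ∈ Set.range (AlgSp.Points.map (g k))) ∧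
          ∀ k, EtGlue.IsGlueable R R' f (A k) := by
  obtain ⟨U, p, hpe, hps⟩ := Y.property.atlas
  let 𝒰 := U.left.affineOpenCover
  let A : 𝒰.I₀ → Type u := fun k => ↑(𝒰.X k)
  letI i1 : ∀ k, CommRing (A k) := fun k => inferInstance
  letI i2 : ∀ k, Algebra R (A k) := fun k => (Spec.preimage (𝒰.f k ≫ U.hom)).hom.toAlgebra
  have hφ : ∀ k, 𝒰.f k ≫ U.hom = Spec.map (CommRingCat.ofHom (algebraMap R (A k))) :=
    fun k => (Spec.map_preimage _).symm
  let φ : ∀ k, (Over.mk (Spec.map (CommRingCat.ofHom (algebraMap R (A k)))) :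
      Over (Spec (CommRingCat.of R))) ⟶ U := fun k => Over.homMk (𝒰.f k) (hφ k)
  have hg : ∀ k, AlgSp.RepWith @Etale ((AlgSp.yon (Spec (CommRingCat.of R))).map (φ k) ≫ p) := by
    intro k
    refine MorphismProperty.comp_mem _ _ _ ?_ hpe
    rw [repWith_yon_map_iff]
    change Etale (𝒰.f k)
    infer_instance
  refine ⟨𝒰.I₀, A, i1, i2, fun k => (AlgSp.yon (Spec (CommRingCat.of R))).map (φ k) ≫ p,
    hg, ?_, fun k => H (A k) _ (hg k)⟩
  intro y
  obtain ⟨u, rfl⟩ := ofPt_surjective p hps y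
  obtain ⟨v, hv⟩ := 𝒰.covers u
  refine ⟨𝒰.idx u, Points.ofScheme _ v, ?_⟩
  rw [← Points.ofPt_eq_map_ofScheme, ofPt_map_comp]
  congr 1

/-- Let `(R → R', f)` be a glueing pair and `Y` an algebraic space over `Spec R`. The following are
equivalent: (1) there is an etale covering of `Y` by affine schemes `Spec A_k` with every `A_k`
glueable as an `R`-module; (2) for every affine scheme `Spec A` etale over `Y`, the `R`-module `A`
is glueable. -/
theorem result (R : Type u) [CommRing R] (R' : Type u) [CommRing R'] [Algebra R R']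
    (f : R) (hRR' : EtGlue.IsGlueingPair R R' f) (Y : AlgSp.Space (Spec (CommRingCat.of R))) :
    (∃ (ι : Type u) (A : ι → Type u) (_ : ∀ k, CommRing (A k)) (_ : ∀ k, Algebra R (A k))
        (g : ∀ k, (AlgSp.yon (Spec (CommRingCat.of R))).obj (Over.mk (Spec.map (CommRingCat.ofHom (algebraMap R (A k)))) : Over (Spec (CommRingCat.of R))) ⟶ Y.obj),
        (∀ k, AlgSp.RepWith @Etale (g k)) ∧ (∀ y : AlgSp.Points Y.obj, ∃ k, y ∈ Set.range (AlgSp.Points.map (g k))) ∧
          ∀ k, EtGlue.IsGlueable R R' f (A k)) ↔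
      (∀ (A : Type u) [CommRing A] [Algebra R A]
      (g : (AlgSp.yon (Spec (CommRingCat.of R))).obj (Over.mk (Spec.map (CommRingCat.ofHom (algebraMap R A))) : Over (Spec (CommRingCat.of R))) ⟶ Y.obj),
      AlgSp.RepWith @Etale g → EtGlue.IsGlueable R R' f A) := by
  constructor
  · rintro ⟨ι, A, i1, i2, g, hg, hcov, hgl⟩ B _ _ h hh
    exact forward R' f hRR' Y ι A g hg hcov hgl B h hh
  · intro H
    exact backward R' f Y H

end Groth.Agent.S10706
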