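import Groth.Statements.S10716
import Mathlib
import Groth.Statements.S10716
import Groth.Agent.Lib.Helper37.AlgSpFibres
import Groth.Agent.Lib.Helper36.AlgSpCharts

set_option autoImplicit false
universe w v u
open CategoryTheory CategoryTheory.Limits AlgebraicGeometry
open AlgSp

namespace Groth.Agent.S10716

section Aux
open CategoryTheory CategoryTheory.Limits AlgebraicGeometry Opposite
open AlgSp


variable {S : Scheme.{u}}

open Groth.Agent.Lib.Helper37.AlgSpPoints Groth.Agent.Lib.Helper37.AlgSpFibres in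
/-- A family of affine étale charts covering an algebraic space (as in helper37's `UbfPerm`). -/
theorem exists_affine_atlas (X : Space S) :
    ∃ (ι : Type u) (V : ι → Over S) (a : ∀ i, (yon S).obj (V i) ⟶ X.obj),
      (∀ i, IsAffine (V i).left) ∧ (∀ i, RepWith @Etale (a i)) ∧
        ∀ x : Points X.obj, ∃ (i : ι) (v : ↥(V i).left), Points.ofPt (a i) v = x := by
  obtain ⟨U, p, hpe, hps⟩ := X.property.atlas
  refine ⟨U.left.affineOpens, fun O => openOver U O.1, fun O => (yon S).map (openι U O.1) ≫ p,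
    fun O => O.2, fun O => repWith_etale_restrict p hpe O.1, fun x => ?_⟩
  obtain ⟨u, rfl⟩ := ofPt_surjective p hps x
  obtain ⟨_, ⟨U₀, hU₀, rfl⟩, huU₀, -⟩ :=
    U.left.isBasis_affineOpens.exists_subset_of_mem_open (Set.mem_univ u) isOpen_univ
  exact ⟨⟨U₀, hU₀⟩, ⟨u, huU₀⟩, ofPt_restrict p U₀ ⟨u, huU₀⟩⟩

/-- a jointly surjective family of etale morphisms generates a covering sieve -/
theorem ofArrows_mem_J {Z : Over S} {ι : Type u} (Y : ι → Over S) (f : ∀ i, Y i ⟶ Z)
    (hf : ∀ i, Etale (f i).left) (hc : ∀ z : ↥Z.left, ∃ i, z ∈ Set.range (f i).left) :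
    Sieve.ofArrows Y f ∈ J S Z := by
  rw [AlgSp.J_eq, GrothendieckTopology.mem_over_iff, Sieve.overEquiv_ofArrows]
  refine Precoverage.generate_mem_toGrothendieck ?_
  rw [Scheme.fppfPrecoverage]
  exact (Scheme.ofArrows_mem_precoverage_iff _).2
    ⟨hc, fun i => ⟨inferInstance, inferInstance⟩⟩

theorem hom_ext_of_family {Z : Over S} {G : Sp S} {ι : Type u} (Y : ι → Over S) (f : ∀ i, Y i ⟶ Z)
    (hf : ∀ i, Etale (f i).left) (hc : ∀ z : ↥Z.left, ∃ i, z ∈ Set.range (f i).left)
    (x y : (yon S).obj Z ⟶ G) (h : ∀ i, (yon S).map (f i) ≫ x = (yon S).map (f i) ≫ y) : x = y := by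
  apply (J S).uliftYonedaEquiv.injective
  have hG : Presieve.IsSheaf (J S) G.obj := (isSheaf_iff_isSheaf_of_type _ _).1 G.property
  refine (hG.isSheafFor (Presieve.ofArrows Y f) (ofArrows_mem_J Y f hf hc)).isSeparatedFor.ext ?_
  rintro _ _ ⟨i⟩
  rw [GrothendieckTopology.uliftYonedaEquiv_naturality,
    GrothendieckTopology.uliftYonedaEquiv_naturality, h i]

theorem exists_glue_of_family {Z : Over S} {G : Sp S} {ι : Type u} (Y : ι → Over S)
    (f : ∀ i, Y i ⟶ Z)
    (hf : ∀ i, Etale (f i).left) (hc : ∀ z : ↥Z.left, ∃ i, z ∈ Set.range (f i).left)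
    (x : ∀ i, (yon S).obj (Y i) ⟶ G)
    (hx : ∀ (i j : ι) (Z' : Over S) (gi : Z' ⟶ Y i) (gj : Z' ⟶ Y j), gi ≫ f i = gj ≫ f j →
      (yon S).map gi ≫ x i = (yon S).map gj ≫ x j) :
    ∃ y : (yon S).obj Z ⟶ G, ∀ i, (yon S).map (f i) ≫ y = x i := by
  have hG : Presieve.IsSheaf (J S) G.obj := (isSheaf_iff_isSheaf_of_type _ _).1 G.property
  have h1 : Presieve.IsSheafFor G.obj (Presieve.ofArrows Y f) :=
    hG.isSheafFor (Presieve.ofArrows Y f) (ofArrows_mem_J Y f hf hc)
  rw [Presieve.isSheafFor_arrows_iff] at h1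
  obtain ⟨t, ht, -⟩ := h1 (fun i => (J S).uliftYonedaEquiv (x i)) (by
    intro i j Z' gi gj hij
    dsimp only
    rw [GrothendieckTopology.uliftYonedaEquiv_naturality,
      GrothendieckTopology.uliftYonedaEquiv_naturality, hx i j Z' gi gj hij])
  refine ⟨(J S).uliftYonedaEquiv.symm t, fun i => ?_⟩
  apply (J S).uliftYonedaEquiv.injective
  rw [← GrothendieckTopology.uliftYonedaEquiv_naturality, Equiv.apply_symm_apply]
  exact ht i

/-- chart data: a compatible family of maps to `Z` and a representable map from a scheme -/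
structure Chart {I : Type v} [Category.{w} I] (E : I ⥤ Over S) (Z : Sp S) where
  t : ∀ i, (yon S).obj (E.obj i) ⟶ Z
  ht : ∀ {i i' : I} (φ : i ⟶ i'), (yon S).map (E.map φ) ≫ t i' = t i
  W : Over S
  p : (yon S).obj W ⟶ Z
  hp : Representable p

namespace Chart

variable {I : Type v} [Category.{w} I] {E : I ⥤ Over S} {Z : Sp S} (C : Chart E Z)

noncomputable def obj (i : I) : Over S := C.hp.pullback (C.t i)
noncomputable def Q (i : I) : C.obj i ⟶ E.obj i := C.hp.snd (C.t i)
noncomputable def R (i : I) : C.obj i ⟶ C.W := C.hp.fst' (C.t i)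

lemma sq (i : I) : IsPullback ((yon S).map (C.R i)) ((yon S).map (C.Q i)) C.p (C.t i) :=
  C.hp.isPullback' (C.t i)

lemma hom_ext {i : I} {T : Over S} {a b : T ⟶ C.obj i} (h₁ : a ≫ C.R i = b ≫ C.R i)
    (h₂ : a ≫ C.Q i = b ≫ C.Q i) : a = b := C.hp.hom_ext' h₁ h₂

noncomputable def lift {i : I} {T : Over S} (x : T ⟶ C.W) (y : T ⟶ E.obj i)
    (h : (yon S).map x ≫ C.p = (yon S).map y ≫ C.t i) : T ⟶ C.obj i := C.hp.lift' x y h

lemma lift_R {i : I} {T : Over S} (x : T ⟶ C.W) (y : T ⟶ E.obj i)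
    (h : (yon S).map x ≫ C.p = (yon S).map y ≫ C.t i) : C.lift x y h ≫ C.R i = x :=
  C.hp.lift'_fst x y h

lemma lift_Q {i : I} {T : Over S} (x : T ⟶ C.W) (y : T ⟶ E.obj i)
    (h : (yon S).map x ≫ C.p = (yon S).map y ≫ C.t i) : C.lift x y h ≫ C.Q i = y :=
  C.hp.lift'_snd x y h

noncomputable def map {i i' : I} (φ : i ⟶ i') : C.obj i ⟶ C.obj i' :=
  C.lift (C.R i) (C.Q i ≫ E.map φ) (by
    rw [(C.sq i).w, Functor.map_comp, Category.assoc, C.ht φ])

lemma map_R {i i' : I} (φ : i ⟶ i') : C.map φ ≫ C.R i' = C.R i := C.lift_R _ _ _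

lemma map_Q {i i' : I} (φ : i ⟶ i') : C.map φ ≫ C.Q i' = C.Q i ≫ E.map φ := C.lift_Q _ _ _

noncomputable def D : I ⥤ Over S where
  obj := C.obj
  map := C.map
  map_id i := by
    apply C.hom_ext
    · rw [map_R, Category.id_comp]
    · rw [map_Q, E.map_id, Category.comp_id, Category.id_comp]
  map_comp φ ψ := by
    apply C.hom_ext
    · rw [Category.assoc, map_R, map_R, map_R]
    · rw [C.map_Q (φ ≫ ψ), Category.assoc, C.map_Q ψ, ← Category.assoc, C.map_Q φ, Category.assoc,
        E.map_comp]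

noncomputable def α : C.D ⟶ E where
  app := C.Q
  naturality _ _ φ := C.map_Q φ

lemma sq' {i i' : I} (φ : i ⟶ i') :
    IsPullback ((yon S).map (C.map φ) ≫ (yon S).map (C.R i')) ((yon S).map (C.Q i)) C.p
      ((yon S).map (E.map φ) ≫ C.t i') := by
  have h1 : (yon S).map (C.map φ) ≫ (yon S).map (C.R i') = (yon S).map (C.R i) := by
    rw [← Functor.map_comp, C.map_R]
  rw [h1, C.ht φ]
  exact C.sq i

lemma equifibered : NatTrans.Equifibered C.α := by
  intro i i' φ
  apply Groth.Agent.Lib.Helper36.AlgSpCharts.isPullback_of_yon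
  refine IsPullback.of_right ?_ ?_ (C.sq i')
  · exact C.sq' φ
  · rw [← Functor.map_comp, ← Functor.map_comp]; exact congrArg _ (C.map_Q φ)

section Pt

variable (e : Cocone E) (z : (yon S).obj e.pt ⟶ Z)

noncomputable def V : Over S := C.hp.pullback z
noncomputable def vQ : C.V e z ⟶ e.pt := C.hp.snd z
noncomputable def vR : C.V e z ⟶ C.W := C.hp.fst' z

lemma vsq : IsPullback ((yon S).map (C.vR e z)) ((yon S).map (C.vQ e z)) C.p z :=
  C.hp.isPullback' z

lemma v_hom_ext {T : Over S} {a b : T ⟶ C.V e z} (h₁ : a ≫ C.vR e z = b ≫ C.vR e z)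
    (h₂ : a ≫ C.vQ e z = b ≫ C.vQ e z) : a = b := C.hp.hom_ext' h₁ h₂

variable (hz : ∀ i, (yon S).map (e.ι.app i) ≫ z = C.t i)

noncomputable def κ (i : I) : C.obj i ⟶ C.V e z :=
  C.hp.lift' (C.R i) (C.Q i ≫ e.ι.app i) (by
    rw [(C.sq i).w, Functor.map_comp, Category.assoc, hz i])

lemma κ_R (i : I) : C.κ e z hz i ≫ C.vR e z = C.R i := C.hp.lift'_fst _ _ _

lemma κ_Q (i : I) : C.κ e z hz i ≫ C.vQ e z = C.Q i ≫ e.ι.app i := C.hp.lift'_snd _ _ _

noncomputable def cocone : Cocone C.D where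
  pt := C.V e z
  ι :=
    { app := C.κ e z hz
      naturality := fun i i' φ => by
        apply C.v_hom_ext
        · change (C.map φ ≫ C.κ e z hz i') ≫ _ = (C.κ e z hz i ≫ 𝟙 _) ≫ _
          rw [Category.assoc, κ_R, map_R, Category.comp_id, κ_R]
        · change (C.map φ ≫ C.κ e z hz i') ≫ _ = (C.κ e z hz i ≫ 𝟙 _) ≫ _
          rw [Category.assoc, κ_Q, ← Category.assoc, map_Q, Category.assoc, e.w, Category.comp_id,
            κ_Q] }

lemma cocone_sq (i : I) : IsPullback (C.κ e z hz i) (C.Q i) (C.vQ e z) (e.ι.app i) := by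
  apply Groth.Agent.Lib.Helper36.AlgSpCharts.isPullback_of_yon
  refine IsPullback.of_right ?_ ?_ (C.vsq e z)
  · have h1 : (yon S).map (C.κ e z hz i) ≫ (yon S).map (C.vR e z) = (yon S).map (C.R i) := by
      rw [← Functor.map_comp, C.κ_R]
    rw [h1, hz i]
    exact C.sq i
  · rw [← Functor.map_comp, ← Functor.map_comp, C.κ_Q]

end Pt

/-- the projection of a chart is separated when the chart scheme is separated over `S` -/
lemma isSeparated_Q [IsSeparated C.W.hom] (i : I) : IsSeparated (C.Q i).left := by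
  let m : (C.obj i).left ⟶ pullback (E.obj i).hom C.W.hom :=
    pullback.lift (C.Q i).left (C.R i).left (by rw [Over.w, Over.w])
  have hm : Mono m := by
    refine ⟨fun {T} a b hab => ?_⟩
    have hq : a ≫ (C.Q i).left = b ≫ (C.Q i).left := by
      have h1 : m ≫ pullback.fst _ _ = (C.Q i).left := pullback.lift_fst _ _ _
      rw [← h1, ← Category.assoc, hab, Category.assoc]
    have hr : a ≫ (C.R i).left = b ≫ (C.R i).left := by
      have h1 : m ≫ pullback.snd _ _ = (C.R i).left := pullback.lift_snd _ _ _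
      rw [← h1, ← Category.assoc, hab, Category.assoc]
    have hb : b ≫ (C.obj i).hom = a ≫ (C.obj i).hom := by
      rw [← Over.w (C.Q i), ← Category.assoc, ← Category.assoc, hq]
    let a' : Over.mk (a ≫ (C.obj i).hom) ⟶ C.obj i := Over.homMk a rfl
    let b' : Over.mk (a ≫ (C.obj i).hom) ⟶ C.obj i := Over.homMk b hb
    have : a' = b' := by
      apply C.hom_ext
      · ext1; exact hr
      · ext1; exact hq
    exact congrArg (fun k => k.left) this
  have hfac : (C.Q i).left = m ≫ pullback.fst _ _ := (pullback.lift_fst _ _ _).symm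
  rw [hfac]
  infer_instance

end Chart

section PB

variable {I : Type v} [Category.{w} I] (D : I ⥤ Over S) (c : Cocone D) {P : Over S} (aP : P ⟶ c.pt)

noncomputable def pbD : I ⥤ Over S where
  obj i := pullback (c.ι.app i) aP
  map {i i'} φ := pullback.lift (pullback.fst _ _ ≫ D.map φ) (pullback.snd _ _)
    (by rw [Category.assoc, c.w, pullback.condition])
  map_id _ := by apply pullback.hom_ext <;> simp
  map_comp φ ψ := by
    apply pullback.hom_ext
    · rw [pullback.lift_fst, Category.assoc, pullback.lift_fst, pullback.lift_fst_assoc,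
        D.map_comp, Category.assoc]
    · rw [pullback.lift_snd, Category.assoc, pullback.lift_snd, pullback.lift_snd]

noncomputable def pbα : pbD D c aP ⟶ D where
  app _ := pullback.fst _ _
  naturality _ _ _ := pullback.lift_fst _ _ _

noncomputable def pbCocone : Cocone (pbD D c aP) where
  pt := P
  ι :=
    { app := fun _ => pullback.snd _ _
      naturality := fun _ _ _ => (pullback.lift_snd _ _ _).trans (Category.comp_id _).symm }

lemma pb_sq (i : I) : IsPullback ((pbCocone D c aP).ι.app i) ((pbα D c aP).app i) aP (c.ι.app i) :=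
  (IsPullback.of_hasPullback (c.ι.app i) aP).flip

end PB

section Main

open Groth.Agent.Lib.Helper37.AlgSpPoints

variable {I : Type v} [Category.{w} I] (D : I ⥤ Over S) (c : Cocone D)
  (h₃ : ∀ (D' : I ⥤ Over S) (α : D' ⟶ D) (c' : Cocone D') (a : c'.pt ⟶ c.pt), Etale a.left →
      (∀ i, IsPullback (c'.ι.app i) (α.app i) a (c.ι.app i)) →
      Nonempty (IsColimit ((Over.forget S).mapCocone c')))

include h₃

theorem chart_eq {D' : I ⥤ Over S} (α : D' ⟶ D) (c' : Cocone D') (a : c'.pt ⟶ c.pt)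
    (ha : Etale a.left) (hsq : ∀ i, IsPullback (c'.ι.app i) (α.app i) a (c.ι.app i))
    {Z : Sp S} (z z' : (yon S).obj c'.pt ⟶ Z)
    (h : ∀ i, (yon S).map (c'.ι.app i) ≫ z = (yon S).map (c'.ι.app i) ≫ z')
    {W : Over S} (p : (yon S).obj W ⟶ Z) (hp : RepWith @Etale p) :
    (yon S).map (hp.rep.snd z) ≫ z = (yon S).map (hp.rep.snd z) ≫ z' := by
  let C : Chart D' Z :=
    { t := fun i => (yon S).map (c'.ι.app i) ≫ z
      ht := fun {i i'} φ => by rw [← Category.assoc, ← Functor.map_comp, c'.w]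
      W := W
      p := p
      hp := hp.rep }
  have hz : ∀ i, (yon S).map (c'.ι.app i) ≫ z = C.t i := fun i => rfl
  have hz' : ∀ i, (yon S).map (c'.ι.app i) ≫ z' = C.t i := fun i => (h i).symm
  have het : Etale (C.vQ c' z).left := hp.property_snd z
  have het' : Etale (C.vQ c' z').left := hp.property_snd z'
  obtain ⟨hK⟩ := h₃ C.D (C.α ≫ α) (C.cocone c' z hz) (C.vQ c' z ≫ a)
    (by rw [Over.comp_left]; exact MorphismProperty.comp_mem _ _ _ het ha)
    (fun i => (C.cocone_sq c' z hz i).paste_vert (hsq i))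
  obtain ⟨hK'⟩ := h₃ C.D (C.α ≫ α) (C.cocone c' z' hz') (C.vQ c' z' ≫ a)
    (by rw [Over.comp_left]; exact MorphismProperty.comp_mem _ _ _ het' ha)
    (fun i => (C.cocone_sq c' z' hz' i).paste_vert (hsq i))
  let θ₀ : (C.V c' z).left ⟶ (C.V c' z').left :=
    hK.desc ((Over.forget S).mapCocone (C.cocone c' z' hz'))
  have hθ₀ : ∀ i, (C.κ c' z hz i).left ≫ θ₀ = (C.κ c' z' hz' i).left := fun i => hK.fac _ i
  have hθQ : θ₀ ≫ (C.vQ c' z').left = (C.vQ c' z).left := by
    apply hK.hom_ext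
    intro i
    change (C.κ c' z hz i).left ≫ θ₀ ≫ _ = (C.κ c' z hz i).left ≫ _
    rw [← Category.assoc, hθ₀, ← Over.comp_left, ← Over.comp_left, C.κ_Q, C.κ_Q]
  have hθR : θ₀ ≫ (C.vR c' z').left = (C.vR c' z).left := by
    apply hK.hom_ext
    intro i
    change (C.κ c' z hz i).left ≫ θ₀ ≫ _ = (C.κ c' z hz i).left ≫ _
    rw [← Category.assoc, hθ₀, ← Over.comp_left, ← Over.comp_left, C.κ_R, C.κ_R]
  let θ : C.V c' z ⟶ C.V c' z' := Over.homMk θ₀ (by
    rw [← Over.w (C.vQ c' z'), ← Category.assoc, hθQ, Over.w])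
  have hQ : θ ≫ C.vQ c' z' = C.vQ c' z := by ext1; exact hθQ
  have hR : θ ≫ C.vR c' z' = C.vR c' z := by ext1; exact hθR
  calc (yon S).map (C.vQ c' z) ≫ z = (yon S).map (C.vR c' z) ≫ p := (C.vsq c' z).w.symm
    _ = (yon S).map θ ≫ (yon S).map (C.vR c' z') ≫ p := by
        rw [← hR, Functor.map_comp, Category.assoc]
    _ = (yon S).map θ ≫ (yon S).map (C.vQ c' z') ≫ z' := by rw [(C.vsq c' z').w]
    _ = (yon S).map (C.vQ c' z) ≫ z' := by rw [← Category.assoc, ← Functor.map_comp, hQ]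

theorem uniq {D' : I ⥤ Over S} (α : D' ⟶ D) (c' : Cocone D') (a : c'.pt ⟶ c.pt)
    (ha : Etale a.left) (hsq : ∀ i, IsPullback (c'.ι.app i) (α.app i) a (c.ι.app i))
    {Z : Sp S} (hZ : IsAlgSpace Z) (z z' : (yon S).obj c'.pt ⟶ Z)
    (h : ∀ i, (yon S).map (c'.ι.app i) ≫ z = (yon S).map (c'.ι.app i) ≫ z') : z = z' := by
  obtain ⟨ι, Wf, pf, -, hpet, hsurj⟩ := exists_affine_atlas (S := S) ⟨Z, hZ⟩
  refine hom_ext_of_family (fun j => (hpet j).rep.pullback z) (fun j => (hpet j).rep.snd z)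
    (fun j => (hpet j).property_snd z) ?_ z z'
    (fun j => chart_eq D c h₃ α c' a ha hsq z z' h (pf j) (hpet j))
  intro x
  obtain ⟨j, w, hw⟩ := hsurj (Points.ofPt z x)
  obtain ⟨r, -, hr⟩ := (ofPt_eq_ofPt_iff ((hpet j).rep.isPullback' z) w x).1 hw
  exact ⟨j, r, hr⟩

theorem exists_desc
    (h₂ : ∀ x : ↥c.pt.left, ∃ (i : I) (y : ↥(D.obj i).left), (c.ι.app i).left y = x)
    (h₄ : ∀ (D' : I ⥤ Over S) (α : D' ⟶ D), NatTrans.Equifibered α →
      (∀ i, Etale (α.app i).left) → (∀ i, IsSeparated (α.app i).left) →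
      ∃ (c' : Cocone D') (a : c'.pt ⟶ c.pt), Etale a.left ∧
        ∀ i, IsPullback (c'.ι.app i) (α.app i) a (c.ι.app i))
    {Z : Sp S} (hZ : IsAlgSpace Z) (t : ∀ i, (yon S).obj (D.obj i) ⟶ Z)
    (ht : ∀ {i i' : I} (φ : i ⟶ i'), (yon S).map (D.map φ) ≫ t i' = t i) :
    ∃ m : (yon S).obj c.pt ⟶ Z, ∀ i, (yon S).map (c.ι.app i) ≫ m = t i := by
  obtain ⟨ι, Wf, pf, hWaff, hpet, hsurj⟩ := exists_affine_atlas (S := S) ⟨Z, hZ⟩
  let C : ∀ j, Chart D Z := fun j =>
    { t := t, ht := ht, W := Wf j, p := pf j, hp := (hpet j).rep }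
  have hQet : ∀ j i, Etale ((C j).α.app i).left := fun j i => (hpet j).property_snd (t i)
  have hQsep : ∀ j i, IsSeparated ((C j).α.app i).left := fun j i => by
    have : IsAffine (C j).W.left := hWaff j
    exact (C j).isSeparated_Q i
  choose c' a haet hsq using fun j =>
    h₄ (C j).D (C j).α (C j).equifibered (hQet j) (hQsep j)
  have hcol : ∀ j, Nonempty (IsColimit ((Over.forget S).mapCocone (c' j))) := fun j =>
    h₃ (C j).D (C j).α (c' j) (a j) (haet j) (hsq j)
  have hh : ∀ j, ∃ h : (c' j).pt ⟶ Wf j, ∀ i, (c' j).ι.app i ≫ h = (C j).R i := by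
    intro j
    obtain ⟨hc⟩ := hcol j
    let s : Cocone ((C j).D ⋙ Over.forget S) :=
      { pt := (Wf j).left
        ι :=
          { app := fun i => ((C j).R i).left
            naturality := fun i i' φ => by
              change ((C j).map φ).left ≫ ((C j).R i').left = ((C j).R i).left ≫ 𝟙 _
              rw [Category.comp_id, ← Over.comp_left, (C j).map_R] } }
    have hfac : ∀ i, ((c' j).ι.app i).left ≫ hc.desc s = ((C j).R i).left := fun i => hc.fac s i
    refine ⟨Over.homMk (hc.desc s) ?_, fun i => ?_⟩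
    · apply hc.hom_ext
      intro i
      change ((c' j).ι.app i).left ≫ hc.desc s ≫ (Wf j).hom =
        ((c' j).ι.app i).left ≫ (c' j).pt.hom
      rw [← Category.assoc, hfac]
      exact (Over.w ((C j).R i)).trans (Over.w ((c' j).ι.app i)).symm
    · ext1
      exact hfac i
  choose h hh using hh
  obtain ⟨zf, hzf_def⟩ : ∃ zf : ∀ j, (yon S).obj (c' j).pt ⟶ Z,
      ∀ j, zf j = (yon S).map (h j) ≫ pf j := ⟨_, fun _ => rfl⟩
  have hzf : ∀ j i, (yon S).map ((c' j).ι.app i) ≫ zf j = (yon S).map ((C j).Q i) ≫ t i := by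
    intro j i
    rw [hzf_def, ← Category.assoc, ← Functor.map_comp, hh]
    exact ((C j).sq i).w
  have hres : ∀ j i (T : Over S) (x : T ⟶ (c' j).pt) (y : T ⟶ D.obj i),
      x ≫ a j = y ≫ c.ι.app i → (yon S).map x ≫ zf j = (yon S).map y ≫ t i := by
    intro j i T x y hxy
    have h1 : (hsq j i).lift x y hxy ≫ (c' j).ι.app i = x := (hsq j i).lift_fst _ _ _
    have h2 : (hsq j i).lift x y hxy ≫ (C j).Q i = y := (hsq j i).lift_snd _ _ _
    have h3 : (yon S).map x =
        (yon S).map ((hsq j i).lift x y hxy) ≫ (yon S).map ((c' j).ι.app i) := by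
      rw [← Functor.map_comp, h1]
    have h4 : (yon S).map y =
        (yon S).map ((hsq j i).lift x y hxy) ≫ (yon S).map ((C j).Q i) := by
      rw [← Functor.map_comp, h2]
    rw [h3, h4, Category.assoc, Category.assoc, hzf]
    rfl
  have hcov : ∀ i (y : ↥(D.obj i).left), ∃ j, y ∈ Set.range ((C j).Q i).left := by
    intro i y
    obtain ⟨j, w, hw⟩ := hsurj (Points.ofPt (t i) y)
    obtain ⟨r, -, hr⟩ := (ofPt_eq_ofPt_iff ((C j).sq i) w y).1 hw
    exact ⟨j, r, hr⟩
  have hcovX : ∀ x : ↥c.pt.left, ∃ j, x ∈ Set.range (a j).left := by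
    intro x
    obtain ⟨i, y, rfl⟩ := h₂ x
    obtain ⟨j, r, rfl⟩ := hcov i y
    refine ⟨j, ((c' j).ι.app i).left r, ?_⟩
    have hw : ((c' j).ι.app i).left ≫ (a j).left = ((C j).Q i).left ≫ (c.ι.app i).left := by
      rw [← Over.comp_left, ← Over.comp_left]
      exact congrArg (fun k => k.left) (hsq j i).w
    rw [← Scheme.Hom.comp_apply, hw]
    rfl
  have hover : ∀ (j k : ι) (Z' : Over S) (gj : Z' ⟶ (c' j).pt) (gk : Z' ⟶ (c' k).pt),
      gj ≫ a j = gk ≫ a k → (yon S).map gj ≫ zf j = (yon S).map gk ≫ zf k := by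
    intro j k Z' gj gk hjk
    let aP : pullback (a j) (a k) ⟶ c.pt := pullback.fst (a j) (a k) ≫ a j
    have hfst : Etale (pullback.fst (a j) (a k)).left :=
      MorphismProperty.of_isPullback (P := @Etale)
        ((IsPullback.of_hasPullback (a j) (a k)).map (Over.forget S)).flip (haet k)
    have haP : Etale aP.left := by
      have := haet j
      change Etale ((pullback.fst (a j) (a k)).left ≫ (a j).left)
      infer_instance
    have key : (yon S).map (pullback.fst (a j) (a k)) ≫ zf j =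
        (yon S).map (pullback.snd (a j) (a k)) ≫ zf k := by
      refine uniq D c h₃ (pbα D c aP) (pbCocone D c aP) aP haP (pb_sq D c aP) hZ _ _ (fun i => ?_)
      change (yon S).map (pullback.snd (c.ι.app i) aP) ≫ _ =
        (yon S).map (pullback.snd (c.ι.app i) aP) ≫ _
      rw [← Category.assoc, ← Functor.map_comp, ← Category.assoc, ← Functor.map_comp]
      rw [hres j i _ (pullback.snd (c.ι.app i) aP ≫ pullback.fst (a j) (a k))
          (pullback.fst (c.ι.app i) aP) (by rw [Category.assoc]; exact pullback.condition.symm),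
        hres k i _ (pullback.snd (c.ι.app i) aP ≫ pullback.snd (a j) (a k))
          (pullback.fst (c.ι.app i) aP) (by
            rw [Category.assoc, ← pullback.condition (f := a j) (g := a k)]
            exact pullback.condition.symm)]
    calc (yon S).map gj ≫ zf j
        = (yon S).map (pullback.lift gj gk hjk) ≫ (yon S).map (pullback.fst _ _) ≫ zf j := by
          rw [← Category.assoc, ← Functor.map_comp, pullback.lift_fst]
      _ = (yon S).map (pullback.lift gj gk hjk) ≫ (yon S).map (pullback.snd _ _) ≫ zf k := by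
          rw [key]
      _ = (yon S).map gk ≫ zf k := by
          rw [← Category.assoc, ← Functor.map_comp, pullback.lift_snd]
  obtain ⟨m, hm⟩ := exists_glue_of_family (fun j => (c' j).pt) a haet hcovX zf hover
  refine ⟨m, fun i => ?_⟩
  refine hom_ext_of_family (fun j => (C j).obj i) (fun j => (C j).Q i) (fun j => hQet j i)
    (hcov i) _ _ (fun j => ?_)
  have h5 : (yon S).map ((C j).Q i) ≫ (yon S).map (c.ι.app i) =
      (yon S).map ((c' j).ι.app i) ≫ (yon S).map (a j) :=
    ((hsq j i).toCommSq.map (yon S)).w.symm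
  refine (Category.assoc _ _ _).symm.trans ((congrArg (· ≫ m) h5).trans ?_)
  refine (Category.assoc _ _ _).trans ?_
  exact (congrArg ((yon S).map ((c' j).ι.app i) ≫ ·) (hm j)).trans (hzf j i)

end Main

theorem main {I : Type v} [Category.{w} I] (D : I ⥤ Over S) (c : Cocone D)
    (h₂ : ∀ x : ↥c.pt.left, ∃ (i : I) (y : ↥(D.obj i).left), (c.ι.app i).left y = x)
    (h₃ : ∀ (D' : I ⥤ Over S) (α : D' ⟶ D) (c' : Cocone D') (a : c'.pt ⟶ c.pt), Etale a.left →
      (∀ i, IsPullback (c'.ι.app i) (α.app i) a (c.ι.app i)) →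
      Nonempty (IsColimit ((Over.forget S).mapCocone c')))
    (h₄ : ∀ (D' : I ⥤ Over S) (α : D' ⟶ D), NatTrans.Equifibered α →
      (∀ i, Etale (α.app i).left) → (∀ i, IsSeparated (α.app i).left) →
      ∃ (c' : Cocone D') (a : c'.pt ⟶ c.pt), Etale a.left ∧
        ∀ i, IsPullback (c'.ι.app i) (α.app i) a (c.ι.app i)) :
    Nonempty (IsColimit ((AlgSp.ofScheme S).mapCocone c)) := by
  refine ⟨IsColimit.ofExistsUnique (fun s => ?_)⟩
  have ht : ∀ {i i' : I} (φ : i ⟶ i'),
      (yon S).map (D.map φ) ≫ (s.ι.app i').hom = (s.ι.app i).hom := fun {i i'} φ =>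
    congrArg (fun k => k.hom) (s.w φ)
  obtain ⟨m, hm⟩ := exists_desc D c h₃ h₂ h₄ s.pt.property (fun i => (s.ι.app i).hom) ht
  refine ⟨ObjectProperty.homMk m, fun i => ?_, fun m' hm' => ?_⟩
  · ext1
    exact hm i
  · have hid : Etale (𝟙 c.pt : c.pt ⟶ c.pt).left := by
      rw [Over.id_left]; infer_instance
    have : m'.hom = m := uniq D c h₃ (𝟙 D) c (𝟙 c.pt) hid
      (fun i => IsPullback.id_vert (c.ι.app i)) s.pt.property m'.hom m
      (fun i => (congrArg (fun k => k.hom) (hm' i)).trans (hm i).symm)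
    ext1
    exact this


end Aux

/-- Let `D : I ⥤ Over S` be a diagram of schemes over `S` with a cocone `c` such that (1) `c` is a
colimit in the category of schemes, (2) the coprojections are jointly surjective, (3) for every
etale `U → c.pt` and every cocone of cartesian squares `U_i = D_i ×_{c.pt} U`, `U` is the colimit of
the `U_i` in the category of schemes, and (4) every equifibered system of separated etale morphisms
`U_i → D_i` (all transition squares cartesian) comes from some etale `U → c.pt` by base change. Then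
the image of `c` in algebraic spaces over `S` is a colimit there. -/
theorem result {S : Scheme.{u}} {I : Type v} [Category.{w} I] (D : I ⥤ Over S) (c : Cocone D)
    (h₁ : IsColimit ((Over.forget S).mapCocone c))
    (h₂ : ∀ x : ↥c.pt.left, ∃ (i : I) (y : ↥(D.obj i).left), (c.ι.app i).left y = x)
    (h₃ : ∀ (D' : I ⥤ Over S) (α : D' ⟶ D) (c' : Cocone D') (a : c'.pt ⟶ c.pt), Etale a.left →
      (∀ i, IsPullback (c'.ι.app i) (α.app i) a (c.ι.app i)) → Nonempty (IsColimit ((Over.forget S).mapCocone c')))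
    (h₄ : ∀ (D' : I ⥤ Over S) (α : D' ⟶ D), NatTrans.Equifibered α → (∀ i, Etale (α.app i).left) →
      (∀ i, IsSeparated (α.app i).left) →
      ∃ (c' : Cocone D') (a : c'.pt ⟶ c.pt), Etale a.left ∧ ∀ i, IsPullback (c'.ι.app i) (α.app i) a (c.ι.app i)) :
    Nonempty (IsColimit ((AlgSp.ofScheme S).mapCocone c)) := by
  exact main D c h₂ h₃ h₄

end Groth.Agent.S10716
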