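import Mathlib
import Groth.Statements.S10721
import Groth.Agent.Lib.Helper24.EtGlue

set_option autoImplicit false
universe u
open TensorProduct
open EtAlg

namespace Groth.Agent.S10721

open Groth.Agent.Lib.Helper24.EtGlue

theorem result (R : Type u) [CommRing R] (R' : Type u) [CommRing R'] [Algebra R R'] (f : R)
    (hRR' : EtGlue.IsGlueingPair R R' f) (A B : Type u) [CommRing A] [Algebra R A] [CommRing B] [Algebra R B]
    (hA : EtGlue.IsGlueable R R' f A) (hB : EtGlue.IsGlueable R R' f B) (φ : A →ₐ[R] B) :
    Function.Surjective φ ↔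
      Function.Surjective (Localization.awayMap φ.toRingHom (algebraMap R A f)) ∧ Function.Surjective (Algebra.TensorProduct.map (AlgHom.id R R') φ).toRingHom := by
  constructor
  · intro h
    refine ⟨?_, ?_⟩
    · rw [Localization.awayMap_surjective_iff]
      intro b
      obtain ⟨a, rfl⟩ := h b
      exact ⟨a, 0, by simp⟩
    · have : Function.Surjective (TensorProduct.map (LinearMap.id : R' →ₗ[R] R') φ.toLinearMap) :=
        TensorProduct.map_surjective Function.surjective_id h
      intro x
      obtain ⟨t, rfl⟩ := this x
      exact ⟨t, rfl⟩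
  · rintro ⟨h1, h2⟩
    rw [Localization.awayMap_surjective_iff] at h1
    have htop : LinearMap.range φ.toLinearMap = ⊤ := by
      apply eq_top_of_forall (R' := R') hRR'.1
      · intro b
        obtain ⟨a, m, ham⟩ := h1 b
        refine ⟨m, a, ?_⟩
        have : φ.toRingHom (algebraMap R A f) = algebraMap R B f := φ.commutes f
        rw [this] at ham
        rw [Algebra.smul_def, map_pow]
        exact ham
      · intro b
        obtain ⟨t, ht⟩ := h2 ((1 : R') ⊗ₜ[R] b)
        refine ⟨LinearMap.lTensor R' φ.toLinearMap.rangeRestrict t, ?_⟩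
        rw [← LinearMap.comp_apply, ← LinearMap.lTensor_comp]
        have e : (LinearMap.range φ.toLinearMap).subtype ∘ₗ φ.toLinearMap.rangeRestrict = φ.toLinearMap := by
          ext x; rfl
        rw [e]
        exact ht
    intro b
    have : b ∈ LinearMap.range φ.toLinearMap := by rw [htop]; trivial
    obtain ⟨a, ha⟩ := this
    exact ⟨a, ha⟩

end Groth.Agent.S10721
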