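import Mathlib
import Groth.Statements.S10722
import Groth.Agent.Lib.Helper24.EtGlue

set_option autoImplicit false
universe u
open TensorProduct
open EtAlg

namespace Groth.Agent.S10722

open Groth.Agent.Lib.Helper24.EtGlue

theorem exists_finset_of_awayMap_finiteType {A B : Type u} [CommRing A] [CommRing B] [Algebra A B]
    (g : A) (h : (Localization.awayMap (algebraMap A B) g).FiniteType) :
    ∃ s : Finset B, ∀ b : B, ∃ n : ℕ,
      (algebraMap A B g) ^ n * b ∈ Algebra.adjoin A (s : Set B) := by
  classical
  let _ : Algebra (Localization.Away g) (Localization.Away (algebraMap A B g)) :=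
    (Localization.awayMap (algebraMap A B) g).toAlgebra
  have _ : IsScalarTower A B (Localization.Away (algebraMap A B g)) := inferInstance
  have _ : IsScalarTower A (Localization.Away g) (Localization.Away (algebraMap A B g)) :=
    IsScalarTower.of_algebraMap_eq (fun a => by
      rw [RingHom.algebraMap_toAlgebra]
      simp [Localization.awayMap, IsLocalization.Away.map, IsLocalization.map_eq,
        ← IsScalarTower.algebraMap_apply])
  have _ : IsLocalization ((Submonoid.powers g).map (algebraMap A B))
      (Localization.Away (algebraMap A B g)) := by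
    rw [Submonoid.map_powers]; infer_instance
  obtain ⟨t, ht⟩ := h.out
  refine ⟨IsLocalization.finsetIntegerMultiple ((Submonoid.powers g).map (algebraMap A B)) t,
    fun b => ?_⟩
  obtain ⟨⟨_, n₁, rfl⟩, hn₁⟩ := multiple_mem_adjoin_of_mem_localization_adjoin (Submonoid.powers g)
    (Localization.Away g) (t : Set (Localization.Away (algebraMap A B g)))
    (algebraMap B _ b) (by rw [ht]; trivial)
  rw [Submonoid.smul_def, Algebra.smul_def,
    IsScalarTower.algebraMap_apply A B (Localization.Away (algebraMap A B g)) (g ^ n₁),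
    ← map_mul] at hn₁
  obtain ⟨⟨_, n₂, rfl⟩, hn₂⟩ :=
    IsLocalization.lift_mem_adjoin_finsetIntegerMultiple (Submonoid.powers g) _ t hn₁
  rw [Submonoid.smul_def, Algebra.smul_def, ← mul_assoc, ← map_mul, ← pow_add, map_pow] at hn₂
  exact ⟨n₂ + n₁, hn₂⟩

theorem exists_finset_of_tensorMap_finiteType {R R' A B : Type u} [CommRing R] [CommRing R']
    [CommRing A] [CommRing B] [Algebra R R'] [Algebra R A] [Algebra R B] (φ : A →ₐ[R] B)
    (h : (Algebra.TensorProduct.map (AlgHom.id R R') φ).toRingHom.FiniteType) :
    ∃ s : Finset B, ∀ (S : Subalgebra R B), φ.range ≤ S → (s : Set B) ⊆ S →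
      ∀ x : R' ⊗[R] B, x ∈ (Algebra.TensorProduct.map (AlgHom.id R R') S.val).range := by
  classical
  let _ : Algebra (R' ⊗[R] A) (R' ⊗[R] B) :=
    (Algebra.TensorProduct.map (AlgHom.id R R') φ).toRingHom.toAlgebra
  obtain ⟨t, ht⟩ := h.out
  obtain ⟨N', hN'fin, hN'⟩ := TensorProduct.exists_finite_submodule_right_of_setFinite
    (t : Set (R' ⊗[R] B)) t.finite_toSet
  obtain ⟨s, hs⟩ := Module.Finite.iff_fg.mp hN'fin
  refine ⟨s, fun S hφ hsS x => ?_⟩
  have hN'S : N' ≤ Subalgebra.toSubmodule S := by
    rw [← hs]; exact Submodule.span_le.mpr hsS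
  have key : ∀ y : R' ⊗[R] N',
      (Algebra.TensorProduct.map (AlgHom.id R R') S.val).toRingHom
        (LinearMap.lTensor R' (Submodule.inclusion hN'S) y) =
      LinearMap.lTensor R' N'.subtype y := by
    intro y
    induction y with
    | zero => simp
    | add a b ha hb => simp only [map_add, ha, hb]
    | tmul r n => rfl
  have hx : x ∈ Algebra.adjoin (R' ⊗[R] A) (t : Set (R' ⊗[R] B)) := by rw [ht]; trivial
  induction hx using Algebra.adjoin_induction with
  | mem x hx =>
    obtain ⟨y, rfl⟩ := hN' hx
    refine ⟨LinearMap.lTensor R' (Submodule.inclusion hN'S) y, ?_⟩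
    exact key y
  | algebraMap y =>
    rw [RingHom.algebraMap_toAlgebra]
    induction y with
    | zero => simp
    | add a b ha hb => rw [map_add]; exact add_mem ha hb
    | tmul r a => exact ⟨r ⊗ₜ ⟨φ a, hφ ⟨a, rfl⟩⟩, rfl⟩
  | add x y _ _ hx hy => exact add_mem hx hy
  | mul x y _ _ hx hy => exact mul_mem hx hy

theorem result (R : Type u) [CommRing R] (R' : Type u) [CommRing R'] [Algebra R R'] (f : R)
    (hRR' : EtGlue.IsGlueingPair R R' f) (A B : Type u) [CommRing A] [Algebra R A] [CommRing B] [Algebra R B]
    (hA : EtGlue.IsGlueable R R' f A) (hB : EtGlue.IsGlueable R R' f B) (φ : A →ₐ[R] B) :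
    φ.toRingHom.FiniteType ↔ (Localization.awayMap φ.toRingHom (algebraMap R A f)).FiniteType ∧ (Algebra.TensorProduct.map (AlgHom.id R R') φ).toRingHom.FiniteType := by
  constructor
  · intro h
    exact ⟨RingHom.finiteType_localizationPreserves.away _ _ _ _ h,
      baseChange_map RingHom.finiteType_isStableUnderBaseChange RingHom.finiteType_respectsIso φ h⟩
  · rintro ⟨h1, h2⟩
    classical
    letI : Algebra A B := φ.toRingHom.toAlgebra
    haveI : IsScalarTower R A B := IsScalarTower.of_algebraMap_eq (fun r => (φ.commutes r).symm)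
    obtain ⟨s₁, hs₁⟩ := exists_finset_of_awayMap_finiteType (A := A) (B := B) (algebraMap R A f) h1
    obtain ⟨s₂, hs₂⟩ := exists_finset_of_tensorMap_finiteType φ h2
    let B0 : Subalgebra A B := Algebra.adjoin A ((s₁ ∪ s₂ : Finset B) : Set B)
    let S : Subalgebra R B := B0.restrictScalars R
    have htop : Subalgebra.toSubmodule S = ⊤ := by
      apply eq_top_of_forall (R' := R') hRR'.1
      · intro b
        obtain ⟨n, hn⟩ := hs₁ b
        refine ⟨n, ?_⟩
        have hmono : Algebra.adjoin A (s₁ : Set B) ≤ B0 :=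
          Algebra.adjoin_mono (by intro x hx; simp only [Finset.coe_union]; exact Or.inl hx)
        have := hmono hn
        rw [← IsScalarTower.algebraMap_apply] at this
        rw [Algebra.smul_def, map_pow]
        exact this
      · intro b
        have hφS : φ.range ≤ S := by
          rintro _ ⟨a, rfl⟩
          exact B0.algebraMap_mem a
        have hsS : (s₂ : Set B) ⊆ S := by
          intro x hx
          exact Algebra.subset_adjoin (by simp only [Finset.coe_union]; exact Or.inr hx)
        obtain ⟨y, hy⟩ := hs₂ S hφS hsS ((1 : R') ⊗ₜ[R] b)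
        exact ⟨y, hy⟩
    have hB0 : B0 = ⊤ := by
      rw [eq_top_iff]
      intro b _
      have : b ∈ Subalgebra.toSubmodule S := by rw [htop]; trivial
      exact this
    exact ⟨⟨s₁ ∪ s₂, hB0⟩⟩

end Groth.Agent.S10722
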