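import Mathlib
import Groth.Statements.S10723
import Groth.Agent.Lib.Helper24.EtGlueFP
import Groth.Agent.S10722

set_option autoImplicit false
universe u
open TensorProduct
open EtAlg

namespace Groth.Agent.S10723

open Groth.Agent.Lib.Helper24.EtGlue

theorem result (R : Type u) [CommRing R] (R' : Type u) [CommRing R'] [Algebra R R'] (f : R)
    (hRR' : EtGlue.IsGlueingPair R R' f) (A B : Type u) [CommRing A] [Algebra R A] [CommRing B] [Algebra R B]
    (hA : EtGlue.IsGlueable R R' f A) (hB : EtGlue.IsGlueable R R' f B) (φ : A →ₐ[R] B) :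
    (φ.toRingHom.Flat ∧ φ.toRingHom.FinitePresentation) ↔
      ((Localization.awayMap φ.toRingHom (algebraMap R A f)).Flat ∧ (Localization.awayMap φ.toRingHom (algebraMap R A f)).FinitePresentation) ∧
        ((Algebra.TensorProduct.map (AlgHom.id R R') φ).toRingHom.Flat ∧ (Algebra.TensorProduct.map (AlgHom.id R R') φ).toRingHom.FinitePresentation) := by
  constructor
  · rintro ⟨hf, hp⟩
    exact ⟨⟨RingHom.Flat.isStableUnderBaseChange.localizationPreserves.away _ _ _ _ hf,
        RingHom.finitePresentation_isStableUnderBaseChange.localizationPreserves.away _ _ _ _ hp⟩,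
      ⟨baseChange_map RingHom.Flat.isStableUnderBaseChange RingHom.Flat.respectsIso φ hf,
        baseChange_map RingHom.finitePresentation_isStableUnderBaseChange
          RingHom.finitePresentation_respectsIso φ hp⟩⟩
  · rintro ⟨⟨h1f, h1p⟩, ⟨h2f, h2p⟩⟩
    have hflat : φ.toRingHom.Flat := flat_of_glue hRR' hA φ h1f h2f
    have hft : φ.toRingHom.FiniteType :=
      (Groth.Agent.S10722.result R R' f hRR' A B hA hB φ).mpr
        ⟨RingHom.FiniteType.of_finitePresentation h1p, RingHom.FiniteType.of_finitePresentation h2p⟩
    exact ⟨hflat, finitePresentation_of_glue hRR' φ hflat hft h1p h2p⟩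

end Groth.Agent.S10723
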