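import Mathlib
import Groth.Statements.S10724
import Groth.Agent.Lib.Helper24.EtGlueFP
import Groth.Agent.Lib.Helper24.EtGlueUnram
import Groth.Agent.S10722

set_option autoImplicit false
universe u
open TensorProduct
open EtAlg

namespace Groth.Agent.S10724

open Groth.Agent.Lib.Helper24.EtGlue

theorem result (R : Type u) [CommRing R] (R' : Type u) [CommRing R'] [Algebra R R'] (f : R)
    (hRR' : EtGlue.IsGlueingPair R R' f) (A B : Type u) [CommRing A] [Algebra R A] [CommRing B] [Algebra R B]
    (hA : EtGlue.IsGlueable R R' f A) (hB : EtGlue.IsGlueable R R' f B) (φ : A →ₐ[R] B) :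
    φ.toRingHom.Etale ↔ (Localization.awayMap φ.toRingHom (algebraMap R A f)).Etale ∧ (Algebra.TensorProduct.map (AlgHom.id R R') φ).toRingHom.Etale := by
  constructor
  · intro h
    exact ⟨RingHom.Etale.isStableUnderBaseChange.localizationPreserves.away _ _ _ _ h,
      baseChange_map RingHom.Etale.isStableUnderBaseChange RingHom.Etale.respectsIso φ h⟩
  · rintro ⟨h1, h2⟩
    rw [RingHom.Etale.iff_flat_and_formallyUnramified] at h1 h2 ⊢
    obtain ⟨h1f, h1u, h1p⟩ := h1
    obtain ⟨h2f, h2u, h2p⟩ := h2
    have hflat : φ.toRingHom.Flat := flat_of_glue hRR' hA φ h1f h2f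
    have hft : φ.toRingHom.FiniteType :=
      (Groth.Agent.S10722.result R R' f hRR' A B hA hB φ).mpr
        ⟨RingHom.FiniteType.of_finitePresentation h1p, RingHom.FiniteType.of_finitePresentation h2p⟩
    exact ⟨hflat, formallyUnramified_of_glue hRR' φ h1u h2u,
      finitePresentation_of_glue hRR' φ hflat hft h1p h2p⟩

end Groth.Agent.S10724
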