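import Mathlib
import Groth.Statements.S10727
import Groth.Agent.Lib.Helper24.EtGlue

set_option autoImplicit false
universe u
open TensorProduct
open EtAlg

namespace Groth.Agent.S10727

open Groth.Agent.Lib.Helper24.EtGlue

section construction

variable {R R' : Type u} [CommRing R] [CommRing R'] [Algebra R R'] {f : R}
  {A₁ : Type u} [CommRing A₁] [Algebra R A₁] {A' : Type u} [CommRing A'] [Algebra R A']
  [Algebra R' A'] [IsScalarTower R R' A']
  (φ : Localization.Away (algebraMap R A' f) ≃ₐ[R'] R' ⊗[R] A₁)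

noncomputable def iota' : A' →ₐ[R] R' ⊗[R] A₁ :=
  (φ.toAlgHom.restrictScalars R).comp
    (IsScalarTower.toAlgHom R A' (Localization.Away (algebraMap R A' f)))

theorem iota'_apply (a' : A') :
    iota' φ a' = φ (algebraMap A' (Localization.Away (algebraMap R A' f)) a') := rfl

noncomputable def iota₁ : A₁ →ₐ[R] R' ⊗[R] A₁ := Algebra.TensorProduct.includeRight

theorem iota₁_apply (a₁ : A₁) : (iota₁ : A₁ →ₐ[R] R' ⊗[R] A₁) a₁ = (1 : R') ⊗ₜ[R] a₁ := rfl

noncomputable def glue : Subalgebra R (A' × A₁) :=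
  AlgHom.equalizer ((iota' φ).comp (AlgHom.fst R A' A₁)) (iota₁.comp (AlgHom.snd R A' A₁))

noncomputable def p' : glue φ →ₐ[R] A' := (AlgHom.fst R A' A₁).comp (glue φ).val

noncomputable def p₁ : glue φ →ₐ[R] A₁ := (AlgHom.snd R A' A₁).comp (glue φ).val

theorem glue_mem (a : glue φ) : iota' φ (p' φ a) = (1 : R') ⊗ₜ[R] (p₁ φ a) := a.2

theorem glue_ext {a b : glue φ} (h1 : p' φ a = p' φ b) (h2 : p₁ φ a = p₁ φ b) : a = b :=
  Subtype.ext (Prod.ext h1 h2)

noncomputable def mkGlue (a' : A') (a₁ : A₁) (h : iota' φ a' = (1 : R') ⊗ₜ[R] a₁) : glue φ :=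
  ⟨(a', a₁), h⟩

theorem iota'_smul (r : R) (a' : A') : iota' φ (r • a') = r • iota' φ a' := map_smul _ _ _

theorem iota'_algebraMap (r' : R') : iota' φ (algebraMap R' A' r') = r' ⊗ₜ[R] (1 : A₁) := by
  rw [iota'_apply, ← IsScalarTower.algebraMap_apply, AlgEquiv.commutes]
  rfl

end construction

section facts

variable {R R' : Type u} [CommRing R] [CommRing R'] [Algebra R R'] {f : R}
  {A₁ : Type u} [CommRing A₁] [Algebra R A₁] {A' : Type u} [CommRing A'] [Algebra R A']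
  [Algebra R' A'] [IsScalarTower R R' A']
  (φ : Localization.Away (algebraMap R A' f) ≃ₐ[R'] R' ⊗[R] A₁)

/-- F2 -/
theorem exists_glue_of_right (a₁ : A₁) : ∃ (k : ℕ) (a : glue φ), p₁ φ a = f ^ k • a₁ := by
  obtain ⟨n, a', ha'⟩ := IsLocalization.Away.surj (algebraMap R A' f) (φ.symm ((1 : R') ⊗ₜ[R] a₁))
  refine ⟨n, mkGlue φ a' (f ^ n • a₁) ?_, rfl⟩
  rw [iota'_apply, ← ha', map_mul, AlgEquiv.apply_symm_apply, map_pow,
    ← IsScalarTower.algebraMap_apply R A' (Localization.Away (algebraMap R A' f)),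
    IsScalarTower.algebraMap_apply R R' (Localization.Away (algebraMap R A' f)), AlgEquiv.commutes,
    ← IsScalarTower.algebraMap_apply R R' (R' ⊗[R] A₁), ← map_pow, mul_comm, ← Algebra.smul_def,
    TensorProduct.tmul_smul]

/-- F3 -/
theorem exists_pow_smul_eq_zero (a : glue φ)
    (ha : p₁ φ a = 0) : ∃ n : ℕ, f ^ n • a = 0 := by
  have h0 : algebraMap A' (Localization.Away (algebraMap R A' f)) (p' φ a) = 0 := by
    apply φ.injective
    rw [← iota'_apply, glue_mem, ha, tmul_zero, map_zero]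
  obtain ⟨⟨_, n, rfl⟩, hn⟩ :=
    (IsLocalization.map_eq_zero_iff (Submonoid.powers (algebraMap R A' f)) _ _).mp h0
  refine ⟨n, glue_ext φ ?_ ?_⟩
  · rw [map_smul, map_zero, Algebra.smul_def, map_pow]
    exact hn
  · rw [map_smul, ha, smul_zero, map_zero]

theorem isUnit_tensor (h₁ : IsUnit (algebraMap R A₁ f)) :
    IsUnit (algebraMap R (R' ⊗[R] A₁) f) := by
  have : algebraMap R (R' ⊗[R] A₁) f = (iota₁ : A₁ →ₐ[R] R' ⊗[R] A₁) (algebraMap R A₁ f) := by
    rw [AlgHom.commutes]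
  rw [this]
  exact h₁.map _

/-- F4 -/
theorem exists_of_pow_smul (h₁ : IsUnit (algebraMap R A₁ f)) (k : ℕ) (m'' : A') (a : glue φ)
    (h : f ^ k • m'' = p' φ a) : ∃ a₂ : glue φ, p' φ a₂ = m'' := by
  obtain ⟨u, hu⟩ := h₁
  refine ⟨mkGlue φ m'' (((u⁻¹ : A₁ˣ) : A₁) ^ k * p₁ φ a) ?_, rfl⟩
  have hunit : IsUnit (algebraMap R (R' ⊗[R] A₁) (f ^ k)) := by
    rw [map_pow]; exact (isUnit_tensor (R' := R') ⟨u, hu⟩).pow k
  apply hunit.mul_left_cancel
  rw [← Algebra.smul_def, ← Algebra.smul_def, ← iota'_smul, h, glue_mem, ← TensorProduct.tmul_smul]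
  congr 1
  rw [Algebra.smul_def, map_pow, ← hu, ← mul_assoc, ← mul_pow, Units.mul_inv, one_pow, one_mul]

noncomputable def e' : R' ⊗[R] glue φ →ₐ[R'] A' :=
  Algebra.TensorProduct.lift (Algebra.ofId R' A') (p' φ) (fun _ _ => Commute.all _ _)

theorem e'_tmul (r' : R') (a : glue φ) : e' φ (r' ⊗ₜ[R] a) = algebraMap R' A' r' * p' φ a := by
  simp [e', Algebra.ofId_apply]

theorem e'_one_tmul (a : glue φ) : e' φ ((1 : R') ⊗ₜ[R] a) = p' φ a := by
  rw [e'_tmul, map_one, one_mul]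

theorem e'_smul (r : R) (t : R' ⊗[R] glue φ) : e' φ (r • t) = r • e' φ t := by
  rw [← algebraMap_smul R' r t, map_smul, algebraMap_smul]

/-- F5 -/
theorem iota'_e' (t : R' ⊗[R] glue φ) :
    iota' φ (e' φ t) = LinearMap.lTensor R' (p₁ φ).toLinearMap t := by
  induction t with
  | zero => simp
  | add a b ha hb => simp only [map_add, ha, hb]
  | tmul r' a =>
    rw [e'_tmul, map_mul, iota'_algebraMap, glue_mem, LinearMap.lTensor_tmul,
      Algebra.TensorProduct.tmul_mul_tmul, mul_one, one_mul]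
    rfl

/-- S1 -/
theorem exists_lTensor_eq (n : R' ⊗[R] A₁) : ∃ (k : ℕ) (t : R' ⊗[R] glue φ),
    LinearMap.lTensor R' (p₁ φ).toLinearMap t = f ^ k • n := by
  induction n with
  | zero => exact ⟨0, 0, by simp⟩
  | tmul r' a₁ =>
    obtain ⟨k, a, ha⟩ := exists_glue_of_right φ a₁
    refine ⟨k, r' ⊗ₜ[R] a, ?_⟩
    rw [LinearMap.lTensor_tmul, ← TensorProduct.tmul_smul]
    congr 1
  | add x y hx hy =>
    obtain ⟨k₁, t₁, h1⟩ := hx
    obtain ⟨k₂, t₂, h2⟩ := hy
    refine ⟨k₁ + k₂, f ^ k₂ • t₁ + f ^ k₁ • t₂, ?_⟩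
    rw [map_add, map_smul, map_smul, h1, h2, smul_add, smul_smul, smul_smul, ← pow_add, ← pow_add,
      add_comm k₂ k₁]

/-- S1' -/
theorem exists_pow_smul_eq_e' (m' : A') : ∃ (k : ℕ) (t : R' ⊗[R] glue φ),
    0 < k ∧ f ^ k • m' = e' φ t := by
  obtain ⟨k, t, hkt⟩ := exists_lTensor_eq φ (iota' φ m')
  rw [← iota'_e', ← iota'_smul, iota'_apply, iota'_apply] at hkt
  have hkt' := φ.injective hkt
  obtain ⟨⟨_, l, rfl⟩, hl⟩ :=
    (IsLocalization.eq_iff_exists (Submonoid.powers (algebraMap R A' f)) _).mp hkt'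
  refine ⟨l + k + 1, f ^ (l + 1) • t, Nat.succ_pos _, ?_⟩
  rw [e'_smul]
  have hl' : f ^ l • e' φ t = f ^ l • (f ^ k • m') := by
    rw [Algebra.smul_def, Algebra.smul_def (f ^ l), map_pow]
    exact hl
  calc f ^ (l + k + 1) • m' = f • (f ^ l • (f ^ k • m')) := by
        rw [smul_smul, smul_smul]; congr 1; ring
    _ = f • (f ^ l • e' φ t) := by rw [hl']
    _ = f ^ (l + 1) • e' φ t := by rw [smul_smul]; congr 1; ring

/-- D -/
theorem exists_decomp (hq : EtGlue.QuotPowBijective R R' f) (k : ℕ) (hk : 0 < k)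
    (t : R' ⊗[R] glue φ) :
    ∃ (a : glue φ) (t₂ : R' ⊗[R] glue φ), t = (1 : R') ⊗ₜ[R] a + f ^ k • t₂ := by
  induction t with
  | zero => exact ⟨0, 0, by simp⟩
  | tmul r' a =>
    obtain ⟨r, hr⟩ := exists_lifts hq k hk r'
    unfold Lifts at hr
    rw [Ideal.map_span, Set.image_singleton, Ideal.mem_span_singleton'] at hr
    obtain ⟨s', hs'⟩ := hr
    refine ⟨r • a, (-s') ⊗ₜ[R] a, ?_⟩
    have : r' = algebraMap R R' r + (algebraMap R R' (f ^ k)) * (-s') := by
      rw [mul_neg, mul_comm, hs']; ring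
    conv_lhs => rw [this]
    rw [TensorProduct.add_tmul, TensorProduct.tmul_smul, TensorProduct.smul_tmul',
      TensorProduct.smul_tmul', Algebra.smul_def, mul_one, Algebra.smul_def]
  | add x y hx hy =>
    obtain ⟨a₁, t₁, h1⟩ := hx
    obtain ⟨a₂, t₂, h2⟩ := hy
    refine ⟨a₁ + a₂, t₁ + t₂, ?_⟩
    rw [h1, h2, TensorProduct.tmul_add, smul_add]
    abel

theorem e'_surjective (hq : EtGlue.QuotPowBijective R R' f) (h₁ : IsUnit (algebraMap R A₁ f)) :
    Function.Surjective (e' φ) := by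
  intro m'
  obtain ⟨k, t, hk, hkt⟩ := exists_pow_smul_eq_e' φ m'
  obtain ⟨a, t₂, ht⟩ := exists_decomp φ hq k hk t
  have h : f ^ k • (m' - e' φ t₂) = p' φ a := by
    rw [smul_sub, hkt, ht, map_add, e'_one_tmul, e'_smul]
    abel
  obtain ⟨a₂, ha₂⟩ := exists_of_pow_smul φ h₁ k _ a h
  refine ⟨(1 : R') ⊗ₜ[R] a₂ + t₂, ?_⟩
  rw [map_add, e'_one_tmul, ha₂]
  abel

end facts

section main

variable {R R' : Type u} [CommRing R] [CommRing R'] [Algebra R R'] {f : R}
  {A₁ : Type u} [CommRing A₁] [Algebra R A₁] {A' : Type u} [CommRing A'] [Algebra R A']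
  [Algebra R' A'] [IsScalarTower R R' A']
  (φ : Localization.Away (algebraMap R A' f) ≃ₐ[R'] R' ⊗[R] A₁)

theorem p₁_eq_zero_of_smul (h₁ : IsUnit (algebraMap R A₁ f)) (a : glue φ) (n : ℕ)
    (h : f ^ n • a = 0) : p₁ φ a = 0 := by
  have h2 : f ^ n • p₁ φ a = 0 := by rw [← map_smul, h, map_zero]
  rw [Algebra.smul_def, map_pow] at h2
  exact ((h₁.pow n).mul_right_eq_zero).mp h2

theorem isLocalizedModule_p₁ (h₁ : IsUnit (algebraMap R A₁ f)) :
    IsLocalizedModule (Submonoid.powers f) (p₁ φ).toLinearMap where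
  map_units := by
    rintro ⟨_, n, rfl⟩
    rw [Module.End.isUnit_iff]
    have hu : IsUnit (algebraMap R A₁ (f ^ n)) := by rw [map_pow]; exact h₁.pow n
    obtain ⟨u, hu⟩ := hu
    have hsm : ∀ z : A₁, (algebraMap R (Module.End R A₁) (f ^ n)) z = (u : A₁) * z := by
      intro z
      rw [Module.algebraMap_end_apply, hu, Algebra.smul_def]
    constructor
    · intro z₁ z₂ h12
      rw [hsm, hsm] at h12
      exact u.isUnit.mul_left_cancel h12
    · intro z
      refine ⟨((u⁻¹ : A₁ˣ) : A₁) * z, ?_⟩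
      rw [hsm, ← mul_assoc, Units.mul_inv, one_mul]
  surj := by
    intro y
    obtain ⟨k, a, ha⟩ := exists_glue_of_right φ y
    exact ⟨(a, ⟨f ^ k, k, rfl⟩), ha.symm⟩
  exists_of_eq := by
    intro x₁ x₂ h
    have h0 : p₁ φ (x₁ - x₂) = 0 := by
      rw [map_sub, sub_eq_zero]; exact h
    obtain ⟨n, hn⟩ := exists_pow_smul_eq_zero φ (x₁ - x₂) h0
    refine ⟨⟨f ^ n, n, rfl⟩, ?_⟩
    rw [smul_sub, sub_eq_zero] at hn
    exact hn

theorem exists_pow_smul_eq_zero_of_lTensor (h₁ : IsUnit (algebraMap R A₁ f))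
    (t : R' ⊗[R] glue φ) (ht : LinearMap.lTensor R' (p₁ φ).toLinearMap t = 0) :
    ∃ n : ℕ, f ^ n • t = 0 := by
  haveI := isLocalizedModule_p₁ φ h₁
  have hloc : IsLocalizedModule (Submonoid.powers f)
      (TensorProduct.AlgebraTensorModule.rTensor R R' (p₁ φ).toLinearMap) := inferInstance
  have h0 : (TensorProduct.AlgebraTensorModule.rTensor R R' (p₁ φ).toLinearMap)
      (TensorProduct.comm R R' (glue φ) t) = 0 := by
    have : ∀ t : R' ⊗[R] glue φ,
        (TensorProduct.AlgebraTensorModule.rTensor R R' (p₁ φ).toLinearMap)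
          (TensorProduct.comm R R' (glue φ) t) =
        TensorProduct.comm R R' A₁ (LinearMap.lTensor R' (p₁ φ).toLinearMap t) := by
      intro t
      induction t with
      | zero => simp
      | add a b ha hb => simp only [map_add, ha, hb]
      | tmul r a => rfl
    rw [this, ht, map_zero]
  obtain ⟨⟨_, n, rfl⟩, hn⟩ := (IsLocalizedModule.eq_zero_iff (Submonoid.powers f) _).mp h0
  refine ⟨n, ?_⟩
  apply (TensorProduct.comm R R' (glue φ)).injective
  rw [map_smul, map_zero]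
  exact hn

theorem e'_injective (hRR' : EtGlue.IsGlueingPair R R' f) (h₁ : IsUnit (algebraMap R A₁ f)) :
    Function.Injective (e' φ) := by
  rw [injective_iff_map_eq_zero]
  intro t ht
  have h0 : LinearMap.lTensor R' (p₁ φ).toLinearMap t = 0 := by
    rw [← iota'_e', ht, map_zero]
  obtain ⟨n, hn⟩ := exists_pow_smul_eq_zero_of_lTensor φ h₁ t h0
  have hloc : EtGlue.locOfTensor R R' f (glue φ) t =
      EtGlue.tensorOfLoc R R' f (glue φ) 0 := by
    rw [map_zero]
    exact (IsLocalizedModule.eq_zero_iff (Submonoid.powers f) _).mpr ⟨⟨f ^ n, n, rfl⟩, hn⟩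
  obtain ⟨a, ha1, ha2⟩ := middle_exact (glue φ) hRR' t 0 hloc
  obtain ⟨⟨_, k, rfl⟩, hk⟩ := (IsLocalizedModule.eq_zero_iff (Submonoid.powers f) _).mp ha2
  have hp1 : p₁ φ a = 0 := p₁_eq_zero_of_smul φ h₁ a k hk
  have hp' : p' φ a = 0 := by rw [← e'_one_tmul, ha1, ht]
  have : a = 0 := glue_ext φ (by rw [hp', map_zero]) (by rw [hp1, map_zero])
  rw [← ha1, this, tmul_zero]

theorem glueable (hRR' : EtGlue.IsGlueingPair R R' f) (h₁ : IsUnit (algebraMap R A₁ f)) :
    EtGlue.IsGlueable R R' f (glue φ) := by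
  refine ⟨?_, fun x y hxy => middle_exact (glue φ) hRR' x y hxy⟩
  intro a b hab
  have h1 : (1 : R') ⊗ₜ[R] (a - b) = 0 := by
    rw [tmul_sub, sub_eq_zero]; exact congrArg Prod.fst hab
  have h2 : LocalizedModule.mkLinearMap (Submonoid.powers f) (glue φ) (a - b) = 0 := by
    rw [map_sub, sub_eq_zero]; exact congrArg Prod.snd hab
  obtain ⟨⟨_, k, rfl⟩, hk⟩ := (IsLocalizedModule.eq_zero_iff (Submonoid.powers f) _).mp h2
  have hp1 : p₁ φ (a - b) = 0 := p₁_eq_zero_of_smul φ h₁ _ k hk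
  have hp' : p' φ (a - b) = 0 := by rw [← e'_one_tmul, h1, map_zero]
  have : a - b = 0 := glue_ext φ (by rw [hp', map_zero]) (by rw [hp1, map_zero])
  exact sub_eq_zero.mp this

end main

theorem result (R : Type u) [CommRing R] (R' : Type u) [CommRing R'] [Algebra R R']
    (f : R) (hRR' : EtGlue.IsGlueingPair R R' f) (A₁ : Type u) [CommRing A₁] [Algebra R A₁]
    (h₁ : IsUnit (algebraMap R A₁ f)) (A' : Type u) [CommRing A'] [Algebra R A'] [Algebra R' A']
    [IsScalarTower R R' A'] (φ : Localization.Away (algebraMap R A' f) ≃ₐ[R'] R' ⊗[R] A₁) :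
    ∃ (A : Type u) (_ : CommRing A) (_ : Algebra R A) (_ : EtGlue.IsGlueable R R' f A)
      (e₁ : Localization.Away (algebraMap R A f) ≃ₐ[R] A₁) (e' : R' ⊗[R] A ≃ₐ[R'] A'),
      ∀ a : A, φ (algebraMap A' (Localization.Away (algebraMap R A' f)) (e' ((1 : R') ⊗ₜ[R] a))) =
        (1 : R') ⊗ₜ[R] e₁ (algebraMap A (Localization.Away (algebraMap R A f)) a) := by
  letI : Algebra (glue φ) A₁ := (p₁ φ).toRingHom.toAlgebra
  haveI : IsScalarTower R (glue φ) A₁ :=
    IsScalarTower.of_algebraMap_eq (fun r => ((p₁ φ).commutes r).symm)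
  haveI hlm : IsLocalizedModule (Submonoid.powers f)
      (IsScalarTower.toAlgHom R (glue φ) A₁).toLinearMap := isLocalizedModule_p₁ φ h₁
  haveI hloc : IsLocalization.Away (algebraMap R (glue φ) f) A₁ := by
    have := (isLocalizedModule_iff_isLocalization (S := Submonoid.powers f) (A := glue φ)
      (Aₛ := A₁)).mp hlm
    rwa [Algebra.algebraMapSubmonoid, Submonoid.map_powers] at this
  let e₁ : Localization.Away (algebraMap R (glue φ) f) ≃ₐ[R] A₁ :=
    (IsLocalization.algEquiv (Submonoid.powers (algebraMap R (glue φ) f))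
      (Localization.Away (algebraMap R (glue φ) f)) A₁).restrictScalars R
  let e'' : R' ⊗[R] glue φ ≃ₐ[R'] A' :=
    AlgEquiv.ofBijective (e' φ) ⟨e'_injective φ hRR' h₁, e'_surjective φ hRR'.1 h₁⟩
  refine ⟨glue φ, inferInstance, inferInstance, glueable φ hRR' h₁, e₁, e'', fun a => ?_⟩
  have h1 : e'' ((1 : R') ⊗ₜ[R] a) = p' φ a := e'_one_tmul φ a
  have h2 : e₁ (algebraMap (glue φ) (Localization.Away (algebraMap R (glue φ) f)) a) = p₁ φ a := by
    simp only [e₁, AlgEquiv.restrictScalars_apply, AlgEquiv.commutes]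
    rfl
  rw [h1, h2, ← iota'_apply, glue_mem]

end Groth.Agent.S10727
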