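import Groth.Statements.S1075
import Groth.Agent.Lib.Helper13.CochainLimit

set_option autoImplicit false
universe w v u
open CategoryTheory CategoryTheory.Limits
open CohDer

namespace Groth.Agent.S1075

/-- In D(A), for A abelian with enough injectives and countable products, every sequence of
bounded-below objects has a product, so derived limits of such sequences exist. -/
theorem result {A : Type u} [Category.{v} A] [Abelian A] [HasDerivedCategory.{w} A]
    [HasLimitsOfShape (Discrete ℕ) A] [EnoughInjectives A]
    (K : ℕ → DerivedCategory A) (hK : ∀ n, ∃ a : ℤ, (K n).IsGE a) : HasProduct K := by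
  classical
  -- choose K-injective representatives
  have hrep : ∀ n, ∃ (I : CochainComplex A ℤ), I.IsKInjective ∧
      Nonempty (DerivedCategory.Q.obj I ≅ K n) := by
    intro n
    obtain ⟨a, ha⟩ := hK n
    obtain ⟨M, hM, ⟨e⟩⟩ := DerivedCategory.exists_iso_Q_obj_of_isGE (K n) a
    obtain ⟨I, i, hi, hI, hIa⟩ :=
      CochainComplex.Plus.modelCategoryQuillen.exists_quasiIso_injective M a
    have : IsIso (DerivedCategory.Q.map i) := by
      rw [DerivedCategory.isIso_Q_map_iff_quasiIso]
      exact hi
    exact ⟨I, CochainComplex.isKInjective_of_injective I a,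
      ⟨(asIso (DerivedCategory.Q.map i)).symm ≪≫ e.symm⟩⟩
  choose I hI e using hrep
  have hprod := Groth.Agent.Lib.Helper13.CochainLimit.nonempty_isLimit_Q_fan
    (Fan.mk (∏ᶜ I) (Pi.π I)) (productIsProduct I) hI
  have h1 : HasLimit (Discrete.functor (fun n => DerivedCategory.Q.obj (I n))) :=
    ⟨⟨⟨_, hprod.some⟩⟩⟩
  exact hasLimit_of_iso (F := Discrete.functor (fun n => DerivedCategory.Q.obj (I n)))
    (G := Discrete.functor K) (Discrete.natIso (fun j => (e j.as).some))

end Groth.Agent.S1075
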