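import Groth.Statements.S10764
import Groth.Agent.Lib.Helper23.AlgSpProper2

set_option autoImplicit false
universe u
open CategoryTheory CategoryTheory.Limits AlgebraicGeometry
open AlgSp

namespace Groth.Agent.S10764

/-- Let B be an algebraic space over S, let a : X ⟶ B and b : Y ⟶ B be locally of finite type, let f : X
⟶ Y be a proper morphism over B, let i : Z ⟶ Y be a closed subspace with Z ⟶ B proper, and let i' :
Z' ⟶ X be its inverse image under f (a cartesian square Z' = Z ×_Y X). Then Z' ⟶ B is proper and the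
image of |Z'| in |X| is the inverse image of the image of |Z| under |f|; that is, the inverse image
of a closed subset proper over B is proper over B. -/
theorem result {S : Scheme.{u}} {X Y B Z Z' : AlgSp.Space S}
    (a : X ⟶ B) (b : Y ⟶ B) (f : X ⟶ Y) (hcomm : f ≫ b = a)
    (ha : AlgSp.LocP @LocallyOfFiniteType a.hom) (hb : AlgSp.LocP @LocallyOfFiniteType b.hom)
    (hfp : AlgSp.IsProperMor f.hom)
    (i : Z ⟶ Y) (hi : AlgSp.RepWith @IsClosedImmersion i.hom) (hZ : AlgSp.IsProperMor (i ≫ b).hom)
    (i' : Z' ⟶ X) (q : Z' ⟶ Z) (hsq : IsPullback q.hom i'.hom i.hom f.hom) :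
    AlgSp.IsProperMor (i' ≫ a).hom ∧
      Set.range (AlgSp.Points.map i'.hom) = AlgSp.Points.map f.hom ⁻¹' Set.range (AlgSp.Points.map i.hom) := by
  subst hcomm
  refine ⟨?_, Groth.Agent.Lib.Helper23.AlgSpMor.range_map_of_isPullback hsq⟩
  have hq : AlgSp.IsProperMor q.hom :=
    Groth.Agent.Lib.Helper23.AlgSpMor.isProperMor_of_isPullback X.property Y.property Z.property
      hsq.flip hfp
  have hcomp : AlgSp.IsProperMor (q.hom ≫ (i.hom ≫ b.hom)) :=
    Groth.Agent.Lib.Helper23.AlgSpMor.isProperMor_comp Z'.property Z.property B.property _ _ hq hZ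
  have e : i'.hom ≫ (f.hom ≫ b.hom) = q.hom ≫ (i.hom ≫ b.hom) := by
    rw [← Category.assoc, ← hsq.w, Category.assoc]
  change AlgSp.IsProperMor (i'.hom ≫ (f.hom ≫ b.hom))
  rw [e]
  exact hcomp

end Groth.Agent.S10764
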