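import Groth.Statements.S10779
import Groth.Agent.Lib.Helper2.AlgSpPerfBound

set_option autoImplicit false
universe u
open CategoryTheory CategoryTheory.Limits AlgebraicGeometry
attribute [local instance] HasDerivedCategory.standard
open AlgSp

namespace Groth.Agent.S10779

open CategoryTheory.Pretriangulated

/-- maps from a shift of an object bounded above to an object bounded below vanish -/
theorem shift_hom_eq_zero {C : Type*} [Category C] [Abelian C] [HasDerivedCategory C]
    (P Y : DerivedCategory C) (b' c i : ℤ) (hP : P.IsLE b')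
    (hY : Y.IsGE c) (h : b' + i < c) (φ : P⟦-i⟧ ⟶ Y) : φ = 0 := by
  have h1 : (P⟦-i⟧).IsLE (b' + i) :=
    DerivedCategory.TStructure.t.isLE_shift P b' (-i) (b' + i) (by omega)
  exact DerivedCategory.TStructure.t.zero_of_isLE_of_isGE φ (b' + i) c h h1 hY


/-- Let X be a quasi-compact and quasi-separated algebraic space over S, P a perfect object of D(O_X)
(modules on the small etale site), E an object of D_QCoh(O_X) and a ∈ ℤ. Then the morphisms P[-i] ⟶
E vanish for all sufficiently negative i if and only if the morphisms P[-i] ⟶ τ_{≤ a}E vanish for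
all sufficiently negative i. Quasi-separatedness is relative to S with S quasi-separated. -/
theorem result {S : Scheme.{u}} [QuasiSeparatedSpace ↥S] (X : AlgSp.Space S)
    (hXc : AlgSp.IsQuasiCompactSp X.obj) (hXs : AlgSp.IsQuasiSeparatedSp X.obj)
    (P : AlgSp.DModEt X.obj) (hP : AlgSp.IsPerfectEtD P)
    (E : AlgSp.DModEt X.obj) (hE : DCoh.IsQCohDMod (AlgSp.OEtRing X.obj) E) (a : ℤ) :
    (∃ N : ℤ, ∀ i : ℤ, i ≤ N → ∀ φ : P⟦-i⟧ ⟶ E, φ = 0) ↔
      (∃ N : ℤ, ∀ i : ℤ, i ≤ N → ∀ φ : P⟦-i⟧ ⟶ ((DerivedCategory.TStructure.t : CategoryTheory.Triangulated.TStructure (AlgSp.DModEt X.obj)).truncLE a).obj E, φ = 0) := by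
  obtain ⟨b', hPle⟩ :=
    Groth.Agent.Lib.Helper2.AlgSpPerfBound.exists_isLE_of_isPerfectEtD hXc P hP
  let t : CategoryTheory.Triangulated.TStructure (AlgSp.DModEt X.obj) := DerivedCategory.TStructure.t
  let T := (t.triangleLEGE a (a + 1) rfl).obj E
  have hT : T ∈ distTriang _ := t.triangleLEGE_distinguished a (a + 1) rfl E
  have hT' : T.invRotate ∈ distTriang _ := inv_rot_of_distTriang T hT
  have h3 : T.obj₃.IsGE (a + 1) := by
    change t.IsGE ((t.truncGE (a + 1)).obj E) (a + 1)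
    infer_instance
  have h3' : (T.obj₃⟦(-1 : ℤ)⟧).IsGE (a + 2) :=
    t.isGE_shift T.obj₃ (a + 1) (-1) (a + 2) (by omega)
  constructor
  · rintro ⟨N, hN⟩
    refine ⟨min N (a - b'), fun i hi φ => ?_⟩
    have hi1 : i ≤ N := le_trans hi (min_le_left _ _)
    have hi2 : i ≤ a - b' := le_trans hi (min_le_right _ _)
    have h0 : φ ≫ T.invRotate.mor₂ = 0 := hN i hi1 (φ ≫ T.mor₁)
    obtain ⟨g, hg⟩ := Triangle.coyoneda_exact₂ T.invRotate hT' φ h0
    have hg0 : g = 0 := shift_hom_eq_zero P _ b' (a + 2) i hPle h3' (by omega) g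
    rw [hg, hg0]
    exact zero_comp
  · rintro ⟨N, hN⟩
    refine ⟨min N (a - b'), fun i hi φ => ?_⟩
    have hi1 : i ≤ N := le_trans hi (min_le_left _ _)
    have hi2 : i ≤ a - b' := le_trans hi (min_le_right _ _)
    have h0 : φ ≫ T.mor₂ = 0 := shift_hom_eq_zero P _ b' (a + 1) i hPle h3 (by omega) _
    obtain ⟨g, hg⟩ := Triangle.coyoneda_exact₂ T hT φ h0
    have hg0 : g = 0 := hN i hi1 g
    rw [hg, hg0]
    exact zero_comp

end Groth.Agent.S10779
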