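import Groth.Statements.S10788
import Groth.Agent.Lib.Helper30.MVEt
import Groth.Agent.Lib.Helper30.ModSectExact

set_option autoImplicit false
universe u
open CategoryTheory CategoryTheory.Limits AlgebraicGeometry
attribute [local instance] HasDerivedCategory.standard
open AlgSp

namespace Groth.Agent.S10788

set_option backward.isDefEq.respectTransparency false

open Opposite Groth.Agent.Lib.Helper30.MVAbs Groth.Agent.Lib.Helper30.MVEt
open Groth.Agent.Lib.Helper30.ModSectExact

section Helpers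

variable {S : Scheme.{u}} {X : AlgSp.Sp S}

theorem unit_apply (F : ModEt X) (U W : EtOver X) (x : F.val.obj (op W)) :
    ((resPushAdjEt U).unit.app F).val.app (op W) x =
      F.val.presheaf.map (prod.snd : U ⨯ W ⟶ W).op x := by
  have h := Over.forgetAdjStar_counit_app U W
  change F.val.map ((Over.forgetAdjStar U).counit.app W).op x = _
  rw [h]
  rfl

theorem pushRes_apply (F : ModEt X) {U' U : EtOver X} (g : U' ⟶ U) (W : EtOver X)
    (x : F.val.obj (op (U ⨯ W))) :
    ((pushResNatTrans g).app F).val.app (op W) x =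
      F.val.presheaf.map (prod.map g (𝟙 W)).op x := rfl

theorem isSheaf_forget (F : ModEt X) :
    Presieve.IsSheaf (etTop X) (F.val.presheaf ⋙ forget AddCommGrpCat.{u + 1}) :=
  (isSheaf_iff_isSheaf_of_type _ _).1
    ((Presheaf.isSheaf_iff_isSheaf_forget (etTop X) F.val.presheaf (forget AddCommGrpCat.{u + 1})).1
      F.isSheaf)

theorem unit_pushRes (F : ModEt X) (U V : EtOver X) :
    (resPushAdjEt U).unit.app F ≫ (pushResNatTrans (EtOver.prodFst U V)).app F =
      (resPushAdjEt V).unit.app F ≫ (pushResNatTrans (EtOver.prodSnd U V)).app F := by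
  apply SheafOfModules.hom_ext
  apply PresheafOfModules.hom_ext
  intro W
  induction W using Opposite.rec with | _ W => ?_
  ext x
  change ((pushResNatTrans (EtOver.prodFst U V)).app F).val.app (op W)
      (((resPushAdjEt U).unit.app F).val.app (op W) x) =
    ((pushResNatTrans (EtOver.prodSnd U V)).app F).val.app (op W)
      (((resPushAdjEt V).unit.app F).val.app (op W) x)
  rw [unit_apply, unit_apply, pushRes_apply, pushRes_apply, ← mapc, ← mapc]
  refine map_congr F.val.presheaf ?_ x
  simp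

theorem inj' {U V : EtOver X} (hD : MVData (etTop X) (EtOver.prodFst U V) (EtOver.prodSnd U V))
    (F : ModEt X) (W : EtOver X) (x : F.val.obj (op W))
    (h1 : ((resPushAdjEt U).unit.app F).val.app (op W) x = 0)
    (h2 : ((resPushAdjEt V).unit.app F).val.app (op W) x = 0) : x = 0 :=
  inj (isSheaf_forget F) hD W x ((unit_apply F U W x).symm.trans h1)
    ((unit_apply F V W x).symm.trans h2)

theorem glue' {U V : EtOver X} (hD : MVData (etTop X) (EtOver.prodFst U V) (EtOver.prodSnd U V))
    (F : ModEt X) (W : EtOver X)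
    (a₀ : ((resModEt U ⋙ pushOnModEt U).obj F).val.obj (op W))
    (b₀ : ((resModEt V ⋙ pushOnModEt V).obj F).val.obj (op W))
    (e : ((pushResNatTrans (EtOver.prodFst U V)).app F).val.app (op W) a₀ =
      ((pushResNatTrans (EtOver.prodSnd U V)).app F).val.app (op W) b₀) :
    ∃ x : F.val.obj (op W), ((resPushAdjEt U).unit.app F).val.app (op W) x = a₀ ∧
      ((resPushAdjEt V).unit.app F).val.app (op W) x = b₀ := by
  let a₁ : F.val.obj (op (U ⨯ W)) := a₀
  let b₁ : F.val.obj (op (V ⨯ W)) := b₀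
  have e' : F.val.presheaf.map (prod.map (EtOver.prodFst U V) (𝟙 W)).op a₁ =
      F.val.presheaf.map (prod.map (EtOver.prodSnd U V) (𝟙 W)).op b₁ :=
    (pushRes_apply F (EtOver.prodFst U V) W a₁).symm.trans
      (e.trans (pushRes_apply F (EtOver.prodSnd U V) W b₁))
  obtain ⟨x, h1, h2⟩ := glue (isSheaf_forget F) hD W a₁ b₁ e'
  exact ⟨x, (unit_apply F U W x).trans h1, (unit_apply F V W x).trans h2⟩

theorem lsurj' {U V : EtOver X} (hD : MVData (etTop X) (EtOver.prodFst U V) (EtOver.prodSnd U V))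
    (F : ModEt X) (W : EtOver X)
    (t : ((resModEt (EtOver.prodObj U V) ⋙ pushOnModEt (EtOver.prodObj U V)).obj F).val.obj (op W)) :
    ∃ R₀ ∈ etTop X W, ∀ ⦃Z : EtOver X⦄ (φ : Z ⟶ W), R₀ φ →
      ∃ (a₀ : ((resModEt U ⋙ pushOnModEt U).obj F).val.obj (op Z))
        (b₀ : ((resModEt V ⋙ pushOnModEt V).obj F).val.obj (op Z)),
        ((pushResNatTrans (EtOver.prodFst U V)).app F).val.app (op Z) a₀ -
          ((pushResNatTrans (EtOver.prodSnd U V)).app F).val.app (op Z) b₀ =
        ((resModEt (EtOver.prodObj U V) ⋙ pushOnModEt (EtOver.prodObj U V)).obj F).val.map φ.op t := by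
  obtain ⟨R₀, hR₀, hl⟩ := lsurj (isSheaf_forget F) hD W
    (t : F.val.presheaf.obj (op (EtOver.prodObj U V ⨯ W)))
  refine ⟨R₀, hR₀, fun Z φ hφ => ?_⟩
  obtain ⟨a₀, b₀, e⟩ := hl φ hφ
  exact ⟨a₀, b₀, e⟩

end Helpers

/-- Part (1): for squares whose two parts are schemes: let X be an algebraic space over S and let U, V
be objects of the small etale site of X (schemes with representable etale structure maps to X) such
that (U ⊂ X, V ⟶ X) is an elementary distinguished square; write U ×_X V for their product in the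
site. Then for every O_X-module F the sequence 0 ⟶ F ⟶ j_{U,*}F|_U ⊕ j_{V,*}F|_V ⟶ j_{U ×_X
V,*}F|_{U ×_X V} ⟶ 0 is short exact, where the first map is given by the two adjunction units and
the second by the restriction along U ×_X V ⟶ U minus the restriction along U ×_X V ⟶ V. Only
squares whose open part and etale part are both schemes are covered. -/
theorem result {S : Scheme.{u}} (X : AlgSp.Space S)
    (U V : AlgSp.EtOver X.obj) (hsq : AlgSp.IsElemDistSq U.obj.hom V.obj.hom) (F : AlgSp.ModEt X.obj) :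
    ∃ h : biprod.lift ((AlgSp.resPushAdjEt U).unit.app F) ((AlgSp.resPushAdjEt V).unit.app F) ≫
        biprod.desc ((AlgSp.pushResNatTrans (AlgSp.EtOver.prodFst U V)).app F)
          (-((AlgSp.pushResNatTrans (AlgSp.EtOver.prodSnd U V)).app F)) = 0,
      (ShortComplex.mk _ _ h).ShortExact := by
  have hD := mvData hsq
  have hP := isSheaf_forget F
  let A : ModEt X.obj := (resModEt U ⋙ pushOnModEt U).obj F
  let B : ModEt X.obj := (resModEt V ⋙ pushOnModEt V).obj F
  let D : ModEt X.obj := (resModEt (EtOver.prodObj U V) ⋙ pushOnModEt (EtOver.prodObj U V)).obj F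
  set a := (AlgSp.resPushAdjEt U).unit.app F with ha
  set b := (AlgSp.resPushAdjEt V).unit.app F with hb
  set r₁ := (AlgSp.pushResNatTrans (AlgSp.EtOver.prodFst U V)).app F with hr₁
  set r₂ := (AlgSp.pushResNatTrans (AlgSp.EtOver.prodSnd U V)).app F with hr₂
  have hzero : biprod.lift a b ≫ biprod.desc r₁ (-r₂) = 0 := by
    rw [biprod.lift_desc, Preadditive.comp_neg, ← sub_eq_add_neg, sub_eq_zero]
    exact unit_pushRes F U V
  refine ⟨hzero, shortExact_of_sections (ShortComplex.mk _ _ hzero) ?_ ?_ ?_⟩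
  · intro W
    induction W using Opposite.rec with | _ W => ?_
    rw [injective_iff_map_eq_zero]
    intro x hx
    change (biprod.lift a b).val.app (op W) x = 0 at hx
    have h1 : (biprod.fst : A ⊞ B ⟶ A).val.app (op W) ((biprod.lift a b).val.app (op W) x) =
        a.val.app (op W) x :=
      congrArg (fun φ : F ⟶ _ => φ.val.app (op W) x) (biprod.lift_fst a b)
    have h2 : (biprod.snd : A ⊞ B ⟶ B).val.app (op W) ((biprod.lift a b).val.app (op W) x) =
        b.val.app (op W) x :=
      congrArg (fun φ : F ⟶ _ => φ.val.app (op W) x) (biprod.lift_snd a b)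
    rw [hx, map_zero] at h1 h2
    exact inj' hD F W x h1.symm h2.symm
  · intro W y hy
    induction W using Opposite.rec with | _ W => ?_
    change (biprod.desc r₁ (-r₂) : A ⊞ B ⟶ D).val.app (op W) y = 0 at hy
    let a₀ := (biprod.fst : A ⊞ B ⟶ A).val.app (op W) y
    let b₀ := (biprod.snd : A ⊞ B ⟶ B).val.app (op W) y
    have hg : (biprod.desc r₁ (-r₂) : A ⊞ B ⟶ D) = biprod.fst ≫ r₁ + biprod.snd ≫ (-r₂) :=
      biprod.desc_eq
    have h' : (biprod.desc r₁ (-r₂) : A ⊞ B ⟶ D).val.app (op W) y =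
        r₁.val.app (op W) a₀ + -(r₂.val.app (op W) b₀) :=
      congrArg (fun φ : A ⊞ B ⟶ D => φ.val.app (op W) y) hg
    have hy' : r₁.val.app (op W) a₀ = r₂.val.app (op W) b₀ := by
      rw [hy] at h'
      exact (sub_eq_zero.1 ((sub_eq_add_neg _ _).trans h'.symm))
    obtain ⟨x, hx1, hx2⟩ := glue' hD F W a₀ b₀ hy'
    refine ⟨x, biprod_elem_ext (J := etTop X.obj) (R := OEtRing X.obj) (M := A) (N := B) (op W) _ _ ?_ ?_⟩
    · have e1 : (biprod.fst : A ⊞ B ⟶ A).val.app (op W) ((biprod.lift a b).val.app (op W) x) =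
          a.val.app (op W) x :=
        congrArg (fun φ : F ⟶ _ => φ.val.app (op W) x) (biprod.lift_fst a b)
      exact e1.trans hx1
    · have e2 : (biprod.snd : A ⊞ B ⟶ B).val.app (op W) ((biprod.lift a b).val.app (op W) x) =
          b.val.app (op W) x :=
        congrArg (fun φ : F ⟶ _ => φ.val.app (op W) x) (biprod.lift_snd a b)
      exact e2.trans hx2
  · intro W t
    obtain ⟨R₀, hR₀, hl⟩ := lsurj' hD F W t
    refine ⟨R₀, hR₀, fun Z φ hφ => ?_⟩
    obtain ⟨a₁, b₁, e⟩ := hl φ hφ
    refine ⟨(biprod.inl : A ⟶ A ⊞ B).val.app (op Z) a₁ + (biprod.inr : B ⟶ A ⊞ B).val.app (op Z) b₁, ?_⟩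
    change (biprod.desc r₁ (-r₂) : A ⊞ B ⟶ D).val.app (op Z) _ = _
    rw [map_add]
    have e1 : (biprod.desc r₁ (-r₂) : A ⊞ B ⟶ D).val.app (op Z)
        ((biprod.inl : A ⟶ A ⊞ B).val.app (op Z) a₁) = r₁.val.app (op Z) a₁ :=
      congrArg (fun φ : A ⟶ D => φ.val.app (op Z) a₁) (biprod.inl_desc r₁ (-r₂))
    have e2 : (biprod.desc r₁ (-r₂) : A ⊞ B ⟶ D).val.app (op Z)
        ((biprod.inr : B ⟶ A ⊞ B).val.app (op Z) b₁) = -(r₂.val.app (op Z) b₁) :=
      congrArg (fun φ : B ⟶ D => φ.val.app (op Z) b₁) (biprod.inr_desc r₁ (-r₂))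
    rw [e1, e2, ← sub_eq_add_neg]
    exact e

end Groth.Agent.S10788
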