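import Groth.Statements.S10792
import Groth.Agent.Lib.Helper30.ClosedChart

set_option autoImplicit false
universe u
open CategoryTheory CategoryTheory.Limits AlgebraicGeometry Topology TopologicalSpace
open AlgSp

namespace Groth.Agent.S10792

open Groth.Agent.Lib.Helper30.ClosedChart Groth.Agent.Lib.Helper37.AlgSpPoints
open Groth.Agent.Lib.Helper30.SubTransfer

/-- (2) ⇔ (4): let X be an algebraic space over a scheme S and D ⟶ X a closed subspace (representable by
closed immersions). Then D is an effective Cartier divisor in the one-chart sense if and only if for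
every point x of |D| there are an affine scheme U over S, a representable etale h_U ⟶ X, a point u
of U mapping to the image of x in |X|, and a nonzerodivisor f of the ring A of global functions of U
such that the inverse image of D in U is the closed subscheme Spec (A/(f)), that is, the closed
subscheme of the quasi-coherent ideal sheaf of U whose ideal of global sections is generated by f. -/
theorem result {S : Scheme.{u}} (X D : AlgSp.Space S) (i : D ⟶ X)
    (hi : AlgSp.RepWith @IsClosedImmersion i.hom) :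
    AlgSp.IsEffCartierSub i.hom ↔
      ∀ x : AlgSp.Points D.obj,
        ∃ (U : Over S) (_ : IsAffine U.left) (a : (AlgSp.yon S).obj U ⟶ X.obj) (u : ↥U.left)
          (f : Γ(U.left, ⊤)) (I : U.left.IdealSheafData)
          (fst : (AlgSp.yon S).obj (Over.mk (I.subschemeι ≫ U.hom)) ⟶ D.obj),
          AlgSp.RepWith @Etale a ∧ AlgSp.Points.ofPt a u = AlgSp.Points.map i.hom x ∧
            f ∈ nonZeroDivisors Γ(U.left, ⊤) ∧
            I.ideal ⟨⊤, isAffineOpen_top U.left⟩ = Ideal.span {f} ∧
            IsPullback fst ((AlgSp.yon S).map (Over.homMk I.subschemeι rfl : Over.mk (I.subschemeι ≫ U.hom) ⟶ U)) i.hom a := by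
  constructor
  · rintro ⟨-, V, φ, I, fstI, hφE, hφS, sqI, hI⟩ x
    obtain ⟨v, hv⟩ := ofPt_surjective φ hφS (AlgSp.Points.map i.hom x)
    obtain ⟨V₀, hvV₀, f₀, hf₀, hIf₀⟩ := hI v
    have hV₀aff : IsAffine V₀.1.toScheme := V₀.2
    let U : Over S := Over.mk (V₀.1.ι ≫ V.hom)
    let ι₀ : U ⟶ V := Over.homMk V₀.1.ι rfl
    have hιE : Etale ι₀.left := by change Etale V₀.1.ι; infer_instance
    have haE : AlgSp.RepWith @Etale ((AlgSp.yon S).map ι₀ ≫ φ) :=
      MorphismProperty.comp_mem _ _ _ ((AlgSp.repWith_yon_map_iff _ _).2 hιE) hφE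
    obtain ⟨fst', sq'⟩ := exists_isPullback_comap (IsPullback.of_id_fst (f := i.hom)) I sqI
      ((AlgSp.yon S).map ι₀ ≫ φ) ι₀ (Category.comp_id _)
    refine ⟨U, hV₀aff, (AlgSp.yon S).map ι₀ ≫ φ, ⟨v, hvV₀⟩, V₀.1.topIso.inv.hom f₀, I.comap ι₀.left, fst',
      haE, ?_, ?_, ?_, sq'⟩
    · rw [ofPt_map_comp]
      exact hv
    · exact Groth.Agent.Lib.Helper82.mem_nonZeroDivisors_of_bijective _
        ((ConcreteCategory.isIso_iff_bijective V₀.1.topIso.inv).mp inferInstance) hf₀
    · have h1 := Groth.Agent.Lib.Helper82.ideal_comap_top_eq_map_topIso_inv I V₀.1 V₀.2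
      change (I.comap V₀.1.ι).ideal _ = _
      rw [h1, hIf₀, Ideal.map_span, Set.image_singleton]
      rfl
  · intro H
    obtain ⟨V, φ, hφE, hφS⟩ := X.property.atlas
    have sqV := hi.rep.isPullback φ
    have : IsClosedImmersion (hi.rep.snd φ).left := hi.property φ _ _ sqV
    obtain ⟨fst, sq⟩ := exists_isPullback_subschemeι sqV
    have key : ∀ (I : V.left.IdealSheafData)
        (fst : (AlgSp.yon S).obj (Over.mk (I.subschemeι ≫ V.hom)) ⟶ D.obj),
        IsPullback fst ((AlgSp.yon S).map (Over.homMk I.subschemeι rfl :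
          Over.mk (I.subschemeι ≫ V.hom) ⟶ V)) i.hom φ → BlowUp.IsEffCartierIdeal I := by
      intro I fst sq v
      by_cases hv : v ∈ I.support
      · have hv' : v ∈ Set.range I.subschemeι := by rw [I.range_subschemeι]; exact hv
        obtain ⟨z, hz⟩ := hv'
        obtain ⟨U, hUaff, a, u, f, J, fstJ, haE, hau, hf, hJf, sqJ⟩ := H (AlgSp.Points.ofPt fst z)
        have hJ : BlowUp.IsEffCartierIdeal J := isEffCartierIdeal_of_ideal_top J f hf hJf
        refine exists_principal_nzd_of_charts a haE J hJ sqJ φ hφE I sq u v ?_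
        rw [hau, AlgSp.Points.map_ofPt, sq.w, ofPt_map_comp]
        exact congrArg _ hz
      · exact exists_principal_nzd_of_notMem_support I v hv
    exact ⟨hi, V, φ, _, fst, hφE, hφS, sq, key _ fst sq⟩

end Groth.Agent.S10792
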