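import Groth.Statements.S10793
import Groth.Agent.Lib.Helper30.ChartCriterion
import Groth.Agent.Lib.Helper30.EffCartier
import Groth.Agent.Lib.Helper12.AlgSpPoints2
import Groth.Agent.S0082

set_option autoImplicit false
universe u
open CategoryTheory CategoryTheory.Limits AlgebraicGeometry Topology TopologicalSpace
open AlgSp

namespace Groth.Agent.S10793

open Groth.Agent.Lib.Helper30.ChartCriterion Groth.Agent.Lib.Helper30.LocPrincipal
open Groth.Agent.Lib.Helper30.EffCartier Groth.Agent.Lib.Helper30.OpenChart
open Groth.Agent.Lib.Helper12.AlgSpPoints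

attribute [local instance] Groth.Agent.S0082.result

/-- For an algebraic space X over a scheme S, an effective Cartier divisor D ⟶ X (in the one-chart
sense) and the open subspace U ⟶ X complementary to D, that is, a morphism representable by open
immersions whose image in |X| is the complement of the image of |D|: the inclusion of U in X is an
affine morphism, and in the scheme-theoretic sense (one-chart form) U is dense in X. -/
theorem result {S : Scheme.{u}} (X D U : AlgSp.Space S)
    (i : D ⟶ X) (hD : AlgSp.IsEffCartierSub i.hom) (j : U ⟶ X) (hj : AlgSp.RepWith @IsOpenImmersion j.hom)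
    (hU : Set.range (AlgSp.Points.map j.hom) = (Set.range (AlgSp.Points.map i.hom))ᶜ) :
    AlgSp.IsAffineMor j.hom ∧ AlgSp.IsSchDense j.hom := by
  obtain ⟨hi, V, φ, I, fstZ, hφE, hφS, sqZ, hI⟩ := hD
  have hrep := hj.rep
  have sqV := hrep.isPullback φ
  have hopen : IsOpenImmersion (hrep.snd φ).left := hj.property φ _ _ sqV
  have hrange : Set.range (hrep.snd φ).left = ((I.support : Set V.left))ᶜ := by
    have h1 := Points.preimage_image_of_isPullback sqV Set.univ
    have h2 := Points.preimage_image_of_isPullback sqZ Set.univ
    simp only [Set.image_univ, Set.preimage_univ] at h1 h2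
    rw [hU, Set.preimage_compl, h2] at h1
    rw [← h1]
    congr 1
    exact I.range_subschemeι
  constructor
  · have hAff : IsAffineHom (hrep.snd φ).left :=
      isAffineHom_of_range_eq_compl_support _ I (isLocPrincipal_of_isEffCartierIdeal I hI) hrange
    have hRW : AlgSp.RepWith @IsAffineHom j.hom := repWith_of_chart j.hom hrep φ hφE hφS sqV hAff
    intro T hT g
    refine ⟨hrep.pullback g, hrep.snd g, hrep.fst g, hrep.isPullback g, ?_⟩
    have : IsAffineHom (hrep.snd g).left := hRW.property g _ _ (hrep.isPullback g)
    exact isAffine_of_isAffineHom (hrep.snd g).left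
  · let W : V.left.Opens := ⟨((I.support : Set V.left))ᶜ, I.support.isClosed.isOpen_compl⟩
    obtain ⟨fst, sq⟩ := exists_isPullback_opens_ι sqV W hrange
    exact ⟨hj, V, φ, W, fst, hφE, hφS, sq, isSchematicallyDense_of_isEffCartierIdeal I hI W rfl⟩

end Groth.Agent.S10793
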