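import Groth.Statements.S10794
import Groth.Agent.Lib.Helper30.ClosedChart
import Groth.Agent.Lib.Helper12.AlgSpPoints2
import Groth.Agent.S1686

set_option autoImplicit false
universe u
open CategoryTheory CategoryTheory.Limits AlgebraicGeometry Topology TopologicalSpace
open AlgSp

namespace Groth.Agent.S10794

open Groth.Agent.Lib.Helper30.ClosedChart Groth.Agent.Lib.Helper12.AlgSpPoints

/-- Let X be an algebraic space over a scheme S, D ⟶ X an effective Cartier divisor (one-chart sense)
and x a point of |D|. If the dimension of X at the image of x is d, in the sense that some etale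
scheme chart of X has local dimension d at a point over it, and d is finite, then the dimension of D
at x is strictly smaller: some etale scheme chart of D has local dimension less than d at a point
over x. -/
theorem result {S : Scheme.{u}} (X D : AlgSp.Space S) (i : D ⟶ X)
    (hD : AlgSp.IsEffCartierSub i.hom) (x : AlgSp.Points D.obj) (d : WithBot ℕ∞)
    (hd : AlgSp.HasAt (fun U u => FlatMor.localDim ↥U u = d) X.obj (AlgSp.Points.map i.hom x)) (hfin : d ≠ ⊤) :
    AlgSp.HasAt (fun V v => FlatMor.localDim ↥V v < d) D.obj x := by
  obtain ⟨U, a, u, haE, hau, hdim⟩ := hd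
  obtain ⟨J, fst, sq, hJ, hfstE, -⟩ := exists_chart_of_isEffCartierSub hD a haE
  obtain ⟨w', hw1, hw2⟩ := Points.exists_of_isPullback sq x (AlgSp.Points.ofScheme U u)
    (by rw [← hau, AlgSp.Points.ofPt_eq_map_ofScheme])
  obtain ⟨z, rfl⟩ := (AlgSp.Points.schemeHomeo _).surjective w'
  have hz : J.subschemeι z = u := by
    rw [AlgSp.Points.map_yon_map_apply] at hw2
    exact (AlgSp.Points.schemeHomeo U).injective hw2
  refine ⟨_, fst, z, hfstE, ?_, ?_⟩
  · rw [AlgSp.Points.ofPt_eq_map_ofScheme]; exact hw1
  · have := Groth.Agent.S1686.result U.left J hJ z (by rw [hz, hdim]; exact hfin)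
    rw [hz, hdim] at this
    exact this

end Groth.Agent.S10794
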