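import Groth.Statements.S10795
import Groth.Agent.Lib.Helper30.SubTransfer
import Groth.Agent.Lib.Helper82.EffCartier

set_option autoImplicit false
universe u
open CategoryTheory CategoryTheory.Limits AlgebraicGeometry Topology TopologicalSpace
open AlgSp

namespace Groth.Agent.S10795

open Groth.Agent.Lib.Helper30.SubTransfer

/-- For algebraic spaces X and Y over a scheme S, a flat morphism f : X ⟶ Y and an effective Cartier
divisor D ⟶ Y (one-chart sense), the inverse image of D under f is an effective Cartier divisor on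
X: for every pullback square of D ⟶ Y along f, the projection to X is an effective Cartier divisor
(one-chart sense). -/
theorem result {S : Scheme.{u}} (X Y D P : AlgSp.Space S) (f : X ⟶ Y)
    (hf : AlgSp.LocP @Flat f.hom) (i : D ⟶ Y) (hD : AlgSp.IsEffCartierSub i.hom)
    (fst : P ⟶ D) (snd : P ⟶ X) (hP : IsPullback fst.hom snd.hom i.hom f.hom) :
    AlgSp.IsEffCartierSub snd.hom := by
  obtain ⟨hi, V, φ, I, fstD, hφE, hφS, sqD, hI⟩ := hD
  have hsnd : AlgSp.RepWith @IsClosedImmersion snd.hom :=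
    MorphismProperty.of_isPullback (P := AlgSp.RepWith @IsClosedImmersion) hP hi
  obtain ⟨A, a, haE, haS⟩ := X.property.atlas
  have hrep := hφE.rep
  have sq := hrep.isPullback (a ≫ f.hom)
  obtain ⟨h, hh⟩ := (AlgSp.yon S).map_surjective (hrep.fst (a ≫ f.hom))
  rw [← hh] at sq
  have hqE : Etale (hrep.snd (a ≫ f.hom)).left := hφE.property _ _ _ sq
  have hqS : Surjective (hrep.snd (a ≫ f.hom)).left := hφS.property _ _ _ sq
  have hφ'E : AlgSp.RepWith @Etale ((AlgSp.yon S).map (hrep.snd (a ≫ f.hom)) ≫ a) :=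
    MorphismProperty.comp_mem _ _ _ ((AlgSp.repWith_yon_map_iff _ _).2 hqE) haE
  have hφ'S : AlgSp.RepWith @Surjective ((AlgSp.yon S).map (hrep.snd (a ≫ f.hom)) ≫ a) :=
    MorphismProperty.comp_mem _ _ _ ((AlgSp.repWith_yon_map_iff _ _).2 hqS) haS
  have hw : ((AlgSp.yon S).map (hrep.snd (a ≫ f.hom)) ≫ a) ≫ f.hom = (AlgSp.yon S).map h ≫ φ := by
    rw [Category.assoc]; exact sq.w.symm
  have hflat : Flat h.left := hf _ φ h hφ'E hφE hw
  obtain ⟨fst', sq'⟩ := exists_isPullback_comap hP I sqD _ h hw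
  exact ⟨hsnd, _, _, I.comap h.left, fst', hφ'E, hφ'S, sq',
    Groth.Agent.Lib.Helper82.isEffCartierIdeal_comap_of_flat h.left I hI⟩

end Groth.Agent.S10795
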