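import Groth.Statements.S10796
import Groth.Agent.Lib.Helper30.WeakAssUnit
import Groth.Agent.Lib.Helper30.IdealEtChart

set_option autoImplicit false
universe u
open CategoryTheory CategoryTheory.Limits AlgebraicGeometry Topology TopologicalSpace
open AlgSp

namespace Groth.Agent.S10796

open Groth.Agent.Lib.Helper30.ClosedChart Groth.Agent.Lib.Helper30.IdealEtChart
open Groth.Agent.Lib.Helper30.WeakAssUnit Groth.Agent.Lib.Helper30.SubTransfer
open Groth.Agent.Lib.Helper37.AlgSpPoints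

set_option backward.isDefEq.respectTransparency false in

/-- For algebraic spaces X and Y over a scheme S, a morphism f : X ⟶ Y and an effective Cartier divisor
D ⟶ Y (one-chart sense), assume that no weakly associated point of X (weakly associated point of the
structure sheaf O_X on the small etale site of X) is mapped into |D|. Then the inverse image of D
under f is an effective Cartier divisor on X: for every pullback square of D ⟶ Y along f, the
projection to X is an effective Cartier divisor (one-chart sense). -/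
theorem result {S : Scheme.{u}} (X Y D P : AlgSp.Space S) (f : X ⟶ Y)
    (i : D ⟶ Y) (hD : AlgSp.IsEffCartierSub i.hom) [(AlgSp.unitModEt X.obj).IsQuasicoherent]
    (h : ∀ x ∈ AlgSp.WeakAssEt (AlgSp.unitModEt X.obj),
      AlgSp.Points.map f.hom x ∉ Set.range (AlgSp.Points.map i.hom))
    (fst : P ⟶ D) (snd : P ⟶ X) (hP : IsPullback fst.hom snd.hom i.hom f.hom) :
    AlgSp.IsEffCartierSub snd.hom := by
  obtain ⟨hi, V, φ, I, fstD, hφE, hφS, sqD, hI⟩ := hD
  have hi' : AlgSp.RepWith @IsClosedImmersion snd.hom :=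
    MorphismProperty.of_isPullback (P := AlgSp.RepWith @IsClosedImmersion) hP hi
  obtain ⟨A, a, haE, haS⟩ := X.property.atlas
  have hrep := hφE.rep
  have sqW := hrep.isPullback' (a ≫ f.hom)
  set p := hrep.fst' (a ≫ f.hom) with hp
  set q := hrep.snd (a ≫ f.hom) with hq
  have hqE : Etale q.left := hφE.property_snd (a ≫ f.hom)
  have hqS : Surjective q.left := hφS.property _ _ _ (hrep.isPullback (a ≫ f.hom))
  have hψE : AlgSp.RepWith @Etale ((AlgSp.yon S).map q ≫ a) :=
    MorphismProperty.comp_mem _ _ _ ((AlgSp.repWith_yon_map_iff _ _).2 hqE) haE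
  have hψS : AlgSp.RepWith @Surjective ((AlgSp.yon S).map q ≫ a) :=
    MorphismProperty.comp_mem _ _ _ ((AlgSp.repWith_yon_map_iff _ _).2 hqS) haS
  have hw : ((AlgSp.yon S).map q ≫ a) ≫ f.hom = (AlgSp.yon S).map p ≫ φ := by
    rw [Category.assoc]; exact sqW.w.symm
  obtain ⟨fst', sq'⟩ := exists_isPullback_comap hP I sqD ((AlgSp.yon S).map q ≫ a) p hw
  refine ⟨hi', _, (AlgSp.yon S).map q ≫ a, I.comap p.left, fst', hψE, hψS, sq', ?_⟩
  intro w
  obtain ⟨V₀, hvV₀, f₀, hf₀, hIf₀⟩ := hI (p.left w)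
  obtain ⟨W₀, hW₀, hwW₀, hW₀le⟩ := exists_isAffineOpen_mem_and_subset
    (U := p.left ⁻¹ᵁ V₀.1) (x := w) hvV₀
  have hW₀aff : IsAffine W₀.toScheme := hW₀
  -- the affine étale object `W₀ ⟶ W ⟶ X`
  let ι₀ : Over.mk (W₀.ι ≫ (hrep.pullback (a ≫ f.hom)).hom) ⟶ hrep.pullback (a ≫ f.hom) :=
    Over.homMk W₀.ι rfl
  let E : AlgSp.EtOver X.obj := AlgSp.EtOver.mk ((AlgSp.yon S).map ι₀ ≫ (AlgSp.yon S).map q ≫ a)
    (repWith_etale_opens_ι_comp _ hψE W₀)
  have hEaff : IsAffine E.obj.left.left := hW₀aff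
  -- the morphism `W₀ ⟶ V`
  have e : (⊤ : W₀.toScheme.Opens) ≤ (W₀.ι ≫ p.left) ⁻¹ᵁ V₀.1 := by
    intro y _
    exact hW₀le y.2
  have hnzd := appLE_mem_nonZeroDivisors_of_forall_weakAss (W₀.ι ≫ p.left) I V₀ e f₀ hIf₀ (by
    intro u K s₀ hK hu hsupp
    have hx : AlgSp.Points.ofPt E.obj.hom u ∈ AlgSp.WeakAssEt (AlgSp.unitModEt X.obj) := by
      refine ⟨E, hEaff, u, rfl, unitSect E s₀, ?_⟩
      have hKeq : AlgSp.annSect (unitSect E s₀) = K := by
        ext b
        rw [mem_annSect_unitSect_iff, hK]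
      rw [hKeq]
      exact hu
    apply h _ hx
    have hsupp' : (W₀.ι ≫ p.left) u ∈ Set.range I.subschemeι := by
      rw [I.range_subschemeι]; exact hsupp
    obtain ⟨z, hz⟩ := hsupp'
    refine ⟨AlgSp.Points.ofPt fstD z, ?_⟩
    rw [AlgSp.Points.map_ofPt, sqD.w, AlgSp.Points.map_ofPt]
    change _ = AlgSp.Points.ofPt (((AlgSp.yon S).map ι₀ ≫ (AlgSp.yon S).map q ≫ a) ≫ f.hom) u
    rw [Category.assoc, hw, ← Functor.map_comp_assoc, ofPt_map_comp, ofPt_map_comp]
    exact congrArg _ hz)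
  -- conclude on `W₀`
  have h1 := Groth.Agent.Lib.Helper82.ideal_comap_of_le (W₀.ι ≫ p.left) I ⊤ (isAffineOpen_top _) V₀.1 V₀.2 e
  rw [Scheme.IdealSheafData.comap_comp,
    Groth.Agent.Lib.Helper82.ideal_comap_top_eq_map_topIso_inv (I.comap p.left) W₀ hW₀,
    hIf₀, Ideal.map_span, Set.image_singleton] at h1
  have hbij : Function.Bijective W₀.topIso.inv.hom :=
    (ConcreteCategory.isIso_iff_bijective W₀.topIso.inv).mp inferInstance
  have hbij' : Function.Bijective W₀.topIso.hom.hom :=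
    (ConcreteCategory.isIso_iff_bijective W₀.topIso.hom).mp inferInstance
  refine ⟨⟨W₀, hW₀⟩, hwW₀, W₀.topIso.hom.hom (((W₀.ι ≫ p.left).appLE V₀.1 ⊤ e).hom f₀),
    Groth.Agent.Lib.Helper82.mem_nonZeroDivisors_of_bijective _ hbij' hnzd, ?_⟩
  have h2 := congrArg (Ideal.comap W₀.topIso.inv.hom) h1
  rw [Ideal.comap_map_of_bijective _ hbij] at h2
  rw [h2]
  have h3 : Ideal.comap W₀.topIso.inv.hom (Ideal.span {((W₀.ι ≫ p.left).appLE V₀.1 ⊤ e).hom f₀}) =
      Ideal.map W₀.topIso.hom.hom (Ideal.span {((W₀.ι ≫ p.left).appLE V₀.1 ⊤ e).hom f₀}) := by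
    have := Ideal.map_comap_of_equiv (I := Ideal.span {((W₀.ι ≫ p.left).appLE V₀.1 ⊤ e).hom f₀})
      W₀.topIso.commRingCatIsoToRingEquiv
    exact this.symm
  rw [h3, Ideal.map_span, Set.image_singleton]

end Groth.Agent.S10796
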