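import Groth.Statements.S10797
import Groth.Agent.Lib.Helper30.SubTransfer
import Groth.Agent.Lib.Helper30.FibreChart
import Groth.Agent.Lib.Helper82.EffCartier
import Groth.Agent.Lib.Helper22.RelCartier

set_option autoImplicit false
universe u
open CategoryTheory CategoryTheory.Limits AlgebraicGeometry Topology TopologicalSpace
open AlgSp

namespace Groth.Agent.S10797

open Groth.Agent.Lib.Helper30.SubTransfer Groth.Agent.Lib.Helper30.FibreChart

/-- Let f : X ⟶ Y be a morphism of algebraic spaces over a scheme S and D ⟶ X an effective Cartier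
divisor (one-chart sense) such that the composite D ⟶ Y is flat. Then for every morphism g : Y' ⟶ Y
and every pullback square exhibiting X' as Y' ×_Y X with projection g' : X' ⟶ X, the inverse image
of D under g' (the projection to X' from any pullback of D ⟶ X along g') is an effective Cartier
divisor on X'. (The published statement takes g to be a morphism from a scheme Y'; this row allows
Y' to be an algebraic space, to which the same etale-local reduction to schemes applies.) -/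
theorem result {S : Scheme.{u}} (X Y D Y' X' D' : AlgSp.Space S)
    (f : X ⟶ Y) (i : D ⟶ X) (hD : AlgSp.IsEffCartierSub i.hom) (hflat : AlgSp.LocP @Flat (i ≫ f).hom)
    (g : Y' ⟶ Y) (g' : X' ⟶ X) (f' : X' ⟶ Y') (hX' : IsPullback g'.hom f'.hom f.hom g.hom)
    (k : D' ⟶ D) (i' : D' ⟶ X') (hD' : IsPullback k.hom i'.hom i.hom g'.hom) :
    AlgSp.IsEffCartierSub i'.hom := by
  obtain ⟨hi, V, φ, I, fstD, hφE, hφS, sqD, hI⟩ := hD
  have hi' : AlgSp.RepWith @IsClosedImmersion i'.hom :=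
    MorphismProperty.of_isPullback (P := AlgSp.RepWith @IsClosedImmersion) hD' hi
  -- atlas of `Y`
  obtain ⟨B, b, hbE, hbS⟩ := Y.property.atlas
  have hrep := hbE.rep
  -- `V₁ = V ×_Y B`
  have sqV := hrep.isPullback (φ ≫ f.hom)
  obtain ⟨v₁, hv₁⟩ := (AlgSp.yon S).map_surjective (hrep.fst (φ ≫ f.hom))
  rw [← hv₁] at sqV
  set p₁ := hrep.snd (φ ≫ f.hom) with hp₁
  have hp₁E : Etale p₁.left := hbE.property _ _ _ sqV
  have hp₁S : Surjective p₁.left := hbS.property _ _ _ sqV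
  have hφ₁E : AlgSp.RepWith @Etale ((AlgSp.yon S).map p₁ ≫ φ) :=
    MorphismProperty.comp_mem _ _ _ ((AlgSp.repWith_yon_map_iff _ _).2 hp₁E) hφE
  have hφ₁S : AlgSp.RepWith @Surjective ((AlgSp.yon S).map p₁ ≫ φ) :=
    MorphismProperty.comp_mem _ _ _ ((AlgSp.repWith_yon_map_iff _ _).2 hp₁S) hφS
  -- the divisor on `V₁`
  have hI₁ : BlowUp.IsEffCartierIdeal (I.comap p₁.left) :=
    Groth.Agent.Lib.Helper82.isEffCartierIdeal_comap_of_flat p₁.left I hI
  obtain ⟨fst₁, sq₁⟩ := exists_isPullback_comap (IsPullback.of_id_fst (f := i.hom)) I sqD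
    ((AlgSp.yon S).map p₁ ≫ φ) p₁ (Category.comp_id _)
  have hfst₁E : AlgSp.RepWith @Etale fst₁ :=
    MorphismProperty.of_isPullback (P := AlgSp.RepWith @Etale) sq₁.flip hφ₁E
  have hflat₁ : Flat ((I.comap p₁.left).subschemeι ≫ v₁.left) := by
    have := hflat fst₁ b ((Over.homMk (I.comap p₁.left).subschemeι rfl :
      Over.mk ((I.comap p₁.left).subschemeι ≫ (hrep.pullback (φ ≫ f.hom)).hom) ⟶ _) ≫ v₁) hfst₁E hbE (by
        change fst₁ ≫ i.hom ≫ f.hom = _
        rw [← Category.assoc, sq₁.w, Functor.map_comp, Category.assoc, Category.assoc,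
          Category.assoc, ← sqV.w])
    simpa using this
  -- atlas of `Y'` and `C = C₀ ×_Y B`
  obtain ⟨C₀, c₀, hc₀E, hc₀S⟩ := Y'.property.atlas
  have sqC := hrep.isPullback (c₀ ≫ g.hom)
  obtain ⟨w, hw⟩ := (AlgSp.yon S).map_surjective (hrep.fst (c₀ ≫ g.hom))
  rw [← hw] at sqC
  set r := hrep.snd (c₀ ≫ g.hom) with hr
  -- `E = V₁ ×_B C`
  let E : Over S := Over.mk (pullback.fst v₁.left w.left ≫ (hrep.pullback (φ ≫ f.hom)).hom)
  let e₁ : E ⟶ hrep.pullback (φ ≫ f.hom) := Over.homMk (pullback.fst v₁.left w.left) rfl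
  let e₂ : E ⟶ hrep.pullback (c₀ ≫ g.hom) := Over.homMk (pullback.snd v₁.left w.left) (by
    change pullback.snd v₁.left w.left ≫ _ = pullback.fst v₁.left w.left ≫ _
    rw [← Over.w w, ← Over.w v₁, ← Category.assoc, ← Category.assoc, pullback.condition])
  have sqE : IsPullback e₁ e₂ v₁ w := by
    refine IsPullback.of_map (Over.forget S) ?_ (IsPullback.of_hasPullback v₁.left w.left)
    ext
    exact pullback.condition
  have sqE' := sqE.map (AlgSp.yon S)
  have big : IsPullback ((AlgSp.yon S).map e₁) ((AlgSp.yon S).map e₂ ≫ (AlgSp.yon S).map r)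
      (((AlgSp.yon S).map p₁ ≫ φ) ≫ f.hom) (c₀ ≫ g.hom) := by
    have := sqE'.paste_vert sqC
    rw [sqV.w, ← Category.assoc] at this
    exact this
  -- the chart of `X'`
  have hψw : ((AlgSp.yon S).map e₁ ≫ (AlgSp.yon S).map p₁ ≫ φ) ≫ f.hom =
      (((AlgSp.yon S).map e₂ ≫ (AlgSp.yon S).map r) ≫ c₀) ≫ g.hom := by
    rw [Category.assoc, Category.assoc]
    exact big.w
  set ψ := hX'.lift _ _ hψw with hψ
  have hψ1 : ψ ≫ g'.hom = (AlgSp.yon S).map e₁ ≫ (AlgSp.yon S).map p₁ ≫ φ := hX'.lift_fst _ _ _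
  have hψ2 : ψ ≫ f'.hom = ((AlgSp.yon S).map e₂ ≫ (AlgSp.yon S).map r) ≫ c₀ := hX'.lift_snd _ _ _
  have hψE : AlgSp.RepWith @Etale ψ :=
    prop_lift_of_isPullback (AlgSp.RepWith @Etale) hX' hφ₁E hc₀E big ψ hψ1 hψ2
  have hψS : AlgSp.RepWith @Surjective ψ :=
    prop_lift_of_isPullback (AlgSp.RepWith @Surjective) hX' hφ₁S hc₀S big ψ hψ1 hψ2
  obtain ⟨fst', sq'⟩ := exists_isPullback_comap hD' (I.comap p₁.left) sq₁ ψ e₁ hψ1
  have hE : BlowUp.IsEffCartierIdeal ((I.comap p₁.left).comap e₁.left) :=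
    Groth.Agent.Lib.Helper22.RelCartier.effCartier_baseChange v₁.left (I.comap p₁.left) hI₁ w.left
  exact ⟨hi', E, ψ, (I.comap p₁.left).comap e₁.left, fst', hψE, hψS, sq', hE⟩

end Groth.Agent.S10797
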