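import Groth.Statements.S1685
import Mathlib
import Groth.Agent.Lib.Helper64.SubschemeStalk

set_option autoImplicit false
universe u
open CategoryTheory CategoryTheory.Limits AlgebraicGeometry TopologicalSpace
open SDiv

namespace Groth.Agent.S1685


/-- Let X be a locally Noetherian scheme all of whose local rings satisfy Serre's condition (S_k), and
let D be the closed subscheme of an effective Cartier divisor. Then all local rings of D satisfy
(S_{k-1}). -/
theorem result (X : Scheme.{u}) [IsLocallyNoetherian X] (k : ℕ)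
    (hX : ∀ x : ↥X, min (k : WithBot ℕ∞) (ringKrullDim (X.presheaf.stalk x)) ≤
      ((LocCoh.depth (X.presheaf.stalk x) (X.presheaf.stalk x) : ℕ∞) : WithBot ℕ∞))
    (𝓘 : X.IdealSheafData) (h𝓘 : BlowUp.IsEffCartierIdeal 𝓘) (d : ↥𝓘.subscheme) :
    min ((k - 1 : ℕ) : WithBot ℕ∞) (ringKrullDim (𝓘.subscheme.presheaf.stalk d)) ≤
      ((LocCoh.depth (𝓘.subscheme.presheaf.stalk d) (𝓘.subscheme.presheaf.stalk d) : ℕ∞) : WithBot ℕ∞) := by
  classical
  obtain ⟨U, hxU, f, hf, hI⟩ := h𝓘 (𝓘.subschemeι d)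
  have hgnzd := Groth.Agent.Lib.Helper64.SubschemeStalk.germ_mem_nonZeroDivisors U.2
    (𝓘.subschemeι d) hxU f hf
  let e := Groth.Agent.Lib.Helper64.SubschemeStalk.stalkEquivSpan 𝓘 U d hxU f hI
  haveI : IsLocalRing (↑(X.presheaf.stalk (𝓘.subschemeι d)) ⧸
      Ideal.span {(X.presheaf.germ U.1 (𝓘.subschemeι d) hxU).hom f}) :=
    e.symm.isLocalRing
  have hgm : (X.presheaf.germ U.1 (𝓘.subschemeι d) hxU).hom f ∈
      IsLocalRing.maximalIdeal ↑(X.presheaf.stalk (𝓘.subschemeι d)) := by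
    rw [IsLocalRing.mem_maximalIdeal, mem_nonunits_iff]
    intro hu
    have htop : Ideal.span {(X.presheaf.germ U.1 (𝓘.subschemeι d) hxU).hom f} = ⊤ :=
      Ideal.span_singleton_eq_top.mpr hu
    have h01 : (0 : ↑(X.presheaf.stalk (𝓘.subschemeι d)) ⧸
        Ideal.span {(X.presheaf.germ U.1 (𝓘.subschemeι d) hxU).hom f}) = 1 := by
      have : (1 : ↑(X.presheaf.stalk (𝓘.subschemeι d))) ∈
          Ideal.span {(X.presheaf.germ U.1 (𝓘.subschemeι d) hxU).hom f} := by
        rw [htop]; trivial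
      exact ((Ideal.Quotient.eq_zero_iff_mem).mpr this).symm
    exact zero_ne_one h01
  have key := Groth.Agent.Lib.Helper64.DepthQuot.sk_quotient k (hX (𝓘.subschemeι d)) _ hgnzd hgm
  rw [ringKrullDim_eq_of_ringEquiv e,
    Groth.Agent.Lib.Helper64.DepthQuot.depth_self_of_ringEquiv e] at key
  exact key

end Groth.Agent.S1685
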