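import Groth.Statements.S10798
import Groth.Agent.Lib.Helper30.ClosedChart
import Groth.Agent.S1685

set_option autoImplicit false
universe u
open CategoryTheory CategoryTheory.Limits AlgebraicGeometry Topology TopologicalSpace
open AlgSp

namespace Groth.Agent.S10798

open Groth.Agent.Lib.Helper30.ClosedChart

/-- Let X be a locally Noetherian algebraic space over a scheme S satisfying Serre's condition (S_k), in
the etale-local sense: some etale surjective chart of X from a locally Noetherian scheme all of
whose local rings O satisfy min(k, dim O) ≤ depth O. Let D ⟶ X be an effective Cartier divisor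
(one-chart sense). Then D is locally Noetherian and (S_{k-1}) in the same sense (with k - 1 read as
0 when k = 0). -/
theorem result {S : Scheme.{u}} (X D : AlgSp.Space S) (k : ℕ)
    (hX : AlgSp.EtaleLocally (fun U => IsLocallyNoetherian U ∧ ∀ x : ↥U,
        min ((k : ℕ) : WithBot ℕ∞) (ringKrullDim ↥(U.presheaf.stalk x)) ≤
          ((LocCoh.depth ↥(U.presheaf.stalk x) ↥(U.presheaf.stalk x) : ℕ∞) : WithBot ℕ∞)) X.obj)
    (i : D ⟶ X) (hD : AlgSp.IsEffCartierSub i.hom) :
    AlgSp.EtaleLocally (fun V => IsLocallyNoetherian V ∧ ∀ v : ↥V,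
        min ((k - 1 : ℕ) : WithBot ℕ∞) (ringKrullDim ↥(V.presheaf.stalk v)) ≤
          ((LocCoh.depth ↥(V.presheaf.stalk v) ↥(V.presheaf.stalk v) : ℕ∞) : WithBot ℕ∞)) D.obj := by
  obtain ⟨U, a, haE, haS, hLN, hSk⟩ := hX
  obtain ⟨J, fst, sq, hJ, hfstE, hfstS⟩ := exists_chart_of_isEffCartierSub hD a haE
  have : IsLocallyNoetherian U.left := hLN
  refine ⟨_, fst, hfstE, hfstS haS, ?_, fun v => Groth.Agent.S1685.result U.left k hSk J hJ v⟩
  change IsLocallyNoetherian J.subscheme
  exact LocallyOfFiniteType.isLocallyNoetherian J.subschemeι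

end Groth.Agent.S10798
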