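import Groth.Statements.S10799
import Groth.Agent.Lib.Helper30.ClosedChart
import Groth.Agent.Lib.Helper30.NormalS1

set_option autoImplicit false
universe u
open CategoryTheory CategoryTheory.Limits AlgebraicGeometry Topology TopologicalSpace
open AlgSp

namespace Groth.Agent.S10799

open Groth.Agent.Lib.Helper30.ClosedChart

/-- Let X be an algebraic space over a scheme S which is locally Noetherian and normal in the
etale-local sense: some etale surjective chart of X from a locally Noetherian scheme all of whose
local rings are integrally closed domains. Let D ⟶ X be an effective Cartier divisor (one-chart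
sense). Then D is (S_1): some etale surjective chart of D from a locally Noetherian scheme all of
whose local rings O satisfy min(1, dim O) ≤ depth O. -/
theorem result {S : Scheme.{u}} (X D : AlgSp.Space S)
    (hX : AlgSp.EtaleLocally (fun U => IsLocallyNoetherian U ∧ Pi1.IsNormalScheme U) X.obj)
    (i : D ⟶ X) (hD : AlgSp.IsEffCartierSub i.hom) :
    AlgSp.EtaleLocally (fun V => IsLocallyNoetherian V ∧ ∀ v : ↥V,
        min ((1 : ℕ) : WithBot ℕ∞) (ringKrullDim ↥(V.presheaf.stalk v)) ≤
          ((LocCoh.depth ↥(V.presheaf.stalk v) ↥(V.presheaf.stalk v) : ℕ∞) : WithBot ℕ∞)) D.obj := by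
  obtain ⟨U, a, haE, haS, hLN, hN⟩ := hX
  obtain ⟨J, fst, sq, hJ, hfstE, hfstS⟩ := exists_chart_of_isEffCartierSub hD a haE
  have : IsLocallyNoetherian U.left := hLN
  refine ⟨_, fst, hfstE, hfstS haS, ?_,
    fun v => Groth.Agent.Lib.Helper30.NormalS1.s1_of_isEffCartierIdeal U.left hN J hJ v⟩
  change IsLocallyNoetherian J.subscheme
  exact LocallyOfFiniteType.isLocallyNoetherian J.subschemeι

end Groth.Agent.S10799
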