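import Groth.Statements.S10803
import Groth.Agent.Lib.Helper23.AlgSpNoeth2

set_option autoImplicit false
universe u
open CategoryTheory CategoryTheory.Limits AlgebraicGeometry Topology TopologicalSpace
open AlgSp

namespace Groth.Agent.S10803

open Groth.Agent.Lib.Helper23.AlgSpMor Groth.Agent.Lib.Helper37.AlgSpPoints Groth.Agent.Lib.Helper36.AlgSpCharts

/-- (3) ⇒ (2) (with (2) ⇒ (1) ⇒ (3) immediate, this gives the equivalence of the three conditions
defining a locally Noetherian fibre over y): take a morphism f : X ⟶ Y of algebraic spaces over a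
scheme S and a point y of |Y|. Suppose that for some field k and some point p : Spec k ⟶ Y
representing y the fibre X_p (any pullback of f along the morphism of p) is locally Noetherian. Then
for every scheme V, every representable etale h_V ⟶ Y and every point v of V mapping to y, the fibre
X_v = Spec κ(v) ×_Y X is locally Noetherian. -/
theorem result {S : Scheme.{u}} (X Y : AlgSp.Space S) (f : X ⟶ Y)
    (y : AlgSp.Points Y.obj) (p : AlgSp.FieldPt Y.obj) (hp : AlgSp.Points.mk p = y)
    (hNoeth : ∀ ⦃P : AlgSp.Sp S⦄ (fst : P ⟶ X.obj) (snd : P ⟶ (AlgSp.yon S).obj p.pt),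
      IsPullback fst snd f.hom p.toHom → AlgSp.IsLocNoethSp P)
    (V : Over S) (b : (AlgSp.yon S).obj V ⟶ Y.obj) (hb : AlgSp.RepWith @Etale b) (v : ↥V.left)
    (hv : AlgSp.Points.ofPt b v = y)
    {Q : AlgSp.Sp S} (qfst : Q ⟶ X.obj) (qsnd : Q ⟶ (AlgSp.yon S).obj (AlgSp.FieldPt.ofPt b v).pt)
    (hQ : IsPullback qfst qsnd f.hom (AlgSp.FieldPt.ofPt b v).toHom) :
    AlgSp.IsLocNoethSp Q := by
  obtain ⟨W, p1, p2, sq⟩ := exists_isPullback_yon p.toHom b hb.rep
  have hp1 : Etale p1.left := prop_fst_of_isPullback sq hb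
  have hpv : Points.ofPt p.toHom (IsLocalRing.closedPoint p.K) = Points.ofPt b v := by
    rw [Points.ofPt_toHom, hp, hv]
  obtain ⟨z, -, hz⟩ := (ofPt_eq_ofPt_iff sq _ v).1 hpv
  subst hz
  -- the residue field point at `z`
  let T' : Over S := Over.mk (W.left.fromSpecResidueField z ≫ W.hom)
  let ι : T' ⟶ W := Over.homMk (W.left.fromSpecResidueField z) rfl
  let m : T' ⟶ p.pt := ι ≫ p1
  have hm : LocallyOfFiniteType m.left := by
    change LocallyOfFiniteType (W.left.fromSpecResidueField z ≫ p1.left)
    exact locallyOfFiniteType_fromSpecResidueField_comp (K := p.K) p1.left z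
  let ιv : (FieldPt.ofPt b (p2.left z)).pt ⟶ V :=
    Over.homMk (V.left.fromSpecResidueField (p2.left z)) rfl
  let n : T' ⟶ (FieldPt.ofPt b (p2.left z)).pt :=
    Over.homMk (Spec.map (p2.left.residueFieldMap z)) (by
      change Spec.map (p2.left.residueFieldMap z) ≫
        (V.left.fromSpecResidueField (p2.left z) ≫ V.hom) = W.left.fromSpecResidueField z ≫ W.hom
      rw [← Category.assoc, Scheme.Hom.SpecMap_residueFieldMap_fromSpecResidueField,
        Category.assoc, Over.w p2])
  have hn : n ≫ ιv = ι ≫ p2 := by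
    apply Over.OverMorphism.ext
    exact Scheme.Hom.SpecMap_residueFieldMap_fromSpecResidueField p2.left z
  have key : (yon S).map m ≫ p.toHom = (yon S).map n ≫ (FieldPt.ofPt b (p2.left z)).toHom := by
    rw [FieldPt.toHom_ofPt]
    change (yon S).map (ι ≫ p1) ≫ p.toHom = (yon S).map n ≫ (yon S).map ιv ≫ b
    rw [← Category.assoc, ← Functor.map_comp, hn, Functor.map_comp, Functor.map_comp,
      Category.assoc, Category.assoc, sq.w]
  -- ascent
  have sqP : IsPullback (pullback.fst f.hom p.toHom) (pullback.snd f.hom p.toHom) f.hom p.toHom :=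
    IsPullback.of_hasPullback _ _
  have hN := hNoeth _ _ sqP
  have sqP' : IsPullback (pullback.fst f.hom ((yon S).map m ≫ p.toHom))
      (pullback.snd f.hom ((yon S).map m ≫ p.toHom)) f.hom ((yon S).map m ≫ p.toHom) :=
    IsPullback.of_hasPullback _ _
  have hN' := isLocNoethSp_fibre_ascent X.property Y.property f.hom m hm p.toHom _ _ sqP _ _ sqP' hN
  -- descent
  have sqP'' : IsPullback (pullback.fst f.hom ((yon S).map m ≫ p.toHom))
      (pullback.snd f.hom ((yon S).map m ≫ p.toHom)) f.hom
      ((yon S).map n ≫ (FieldPt.ofPt b (p2.left z)).toHom) := by rw [← key]; exact sqP'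
  have hI : IsIntegral (FieldPt.ofPt b (p2.left z)).pt.left := by
    change IsIntegral (Spec (V.left.residueField (p2.left z)))
    infer_instance
  have hS : Subsingleton ↥(FieldPt.ofPt b (p2.left z)).pt.left :=
    inferInstanceAs (Subsingleton (PrimeSpectrum (V.left.residueField (p2.left z))))
  have hne : Nonempty ↥T'.left :=
    inferInstanceAs (Nonempty (PrimeSpectrum (W.left.residueField z)))
  have hfl : Flat n.left := inferInstance
  have hsurj : Surjective n.left := ⟨fun y => ⟨Classical.arbitrary _, Subsingleton.elim _ _⟩⟩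
  have hopen : UniversallyOpen n.left := inferInstance
  exact isLocNoethSp_fibre_descent X.property Y.property f.hom n hfl hsurj hopen
    (FieldPt.ofPt b (p2.left z)).toHom qfst qsnd hQ _ _ sqP'' hN'

end Groth.Agent.S10803
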