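import Groth.Statements.S10804
import Groth.Agent.Lib.Helper23.AlgSpNoeth

set_option autoImplicit false
universe u
open CategoryTheory CategoryTheory.Limits AlgebraicGeometry Topology TopologicalSpace
open AlgSp

namespace Groth.Agent.S10804

open Groth.Agent.Lib.Helper23.AlgSpMor

/-- (3) ⇒ (4): let f : X ⟶ Y be a morphism of algebraic spaces over a scheme S, and let p : Spec k ⟶ Y
and p₀ : Spec k₀ ⟶ Y be field-valued points defining the same point of |Y|, with h_{Spec k₀} ⟶ Y a
monomorphism. If the fibre X_p = Spec k ×_Y X (any pullback of f along the morphism of p) is locally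
Noetherian, then the fibre X_{p₀} is locally Noetherian. -/
theorem result {S : Scheme.{u}} (X Y : AlgSp.Space S) (f : X ⟶ Y)
    (p p₀ : AlgSp.FieldPt Y.obj) (hpp : AlgSp.Points.mk p = AlgSp.Points.mk p₀) (hmono : Mono p₀.toHom)
    (hNoeth : ∀ ⦃P : AlgSp.Sp S⦄ (fst : P ⟶ X.obj) (snd : P ⟶ (AlgSp.yon S).obj p.pt),
      IsPullback fst snd f.hom p.toHom → AlgSp.IsLocNoethSp P)
    {Q : AlgSp.Sp S} (qfst : Q ⟶ X.obj) (qsnd : Q ⟶ (AlgSp.yon S).obj p₀.pt)
    (hQ : IsPullback qfst qsnd f.hom p₀.toHom) :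
    AlgSp.IsLocNoethSp Q := by
  obtain ⟨g, hg⟩ := exists_factor_of_mono_fieldPt Y.property p p₀ hpp hmono
  have hI : IsIntegral p₀.pt.left := by
    change IsIntegral (Spec (CommRingCat.of p₀.K))
    infer_instance
  have hS : Subsingleton ↥p₀.pt.left :=
    inferInstanceAs (Subsingleton (PrimeSpectrum p₀.K))
  have hne : Nonempty ↥p.pt.left := inferInstanceAs (Nonempty (PrimeSpectrum p.K))
  have hfl : Flat g.left := inferInstance
  have hsurj : Surjective g.left := ⟨fun y => ⟨Classical.arbitrary _, Subsingleton.elim _ _⟩⟩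
  have hopen : UniversallyOpen g.left := inferInstance
  have sqP : IsPullback (pullback.fst f.hom p.toHom) (pullback.snd f.hom p.toHom) f.hom p.toHom :=
    IsPullback.of_hasPullback _ _
  have hN := hNoeth _ _ sqP
  have sqP' : IsPullback (pullback.fst f.hom p.toHom) (pullback.snd f.hom p.toHom) f.hom
      ((yon S).map g ≫ p₀.toHom) := by rw [hg]; exact sqP
  exact isLocNoethSp_fibre_descent X.property Y.property f.hom g hfl hsurj hopen p₀.toHom qfst qsnd hQ
    _ _ sqP' hN

end Groth.Agent.S10804
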