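import Groth.Statements.S10805
import Groth.Agent.Lib.Helper30.WeakAssUnit
import Groth.Agent.Lib.Helper30.IdealEtChart
import Groth.Agent.Lib.Helper46.RedDescent

set_option autoImplicit false
universe u
open CategoryTheory CategoryTheory.Limits AlgebraicGeometry Topology TopologicalSpace
open AlgSp

namespace Groth.Agent.S10805

open Groth.Agent.Lib.Helper30.IdealEtChart
open Groth.Agent.Lib.Helper30.WeakAssUnit
open Groth.Agent.Lib.Helper37.AlgSpPoints

set_option backward.isDefEq.respectTransparency false in

/-- Let X be a reduced algebraic space over a scheme S and x a point of |X|. Then x is a weakly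
associated point of X (a weakly associated point of the structure sheaf O_X on the small etale site)
if and only if x is a point of codimension 0 of X (for some scheme U with a representable etale h_U
⟶ X and some point u of U over x, the local ring of U at u has Krull dimension 0). -/
theorem result {S : Scheme.{u}} (X : AlgSp.Space S)
    (hX : AlgSp.IsReducedSp X.obj) [(AlgSp.unitModEt X.obj).IsQuasicoherent] (x : AlgSp.Points X.obj) :
    x ∈ AlgSp.WeakAssEt (AlgSp.unitModEt X.obj) ↔
      AlgSp.HasAt (fun U u => ringKrullDim ↥(U.presheaf.stalk u) = 0) X.obj x := by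
  constructor
  · rintro ⟨E, hE, u, hu, s, hs⟩
    obtain ⟨s₀, rfl⟩ := exists_unitSect E s
    have hred : IsReduced E.obj.left.left :=
      Groth.Agent.Lib.Helper46.RedDescent.isReduced_of_etale_chart hX E.obj.hom E.property
    have hredΓ : _root_.IsReduced Γ(E.obj.left.left, ⊤) := inferInstance
    have hmin := mem_minimalPrimes_of_mem_minimalPrimes_ann s₀ _
      (mem_annSect_unitSect_iff E s₀) _ hs
    exact ⟨E.obj.left, E.obj.hom, u, E.property, hu,
      (ringKrullDim_stalk_eq_zero_iff E.obj.left.left u).mpr hmin⟩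
  · rintro ⟨U, a, u, haE, hau, hdim⟩
    obtain ⟨U₀, hU₀, huU₀, -⟩ := exists_isAffineOpen_mem_and_subset (U := (⊤ : U.left.Opens)) (x := u) trivial
    have hU₀aff : IsAffine U₀.toScheme := hU₀
    let ι₀ : Over.mk (U₀.ι ≫ U.hom) ⟶ U := Over.homMk U₀.ι rfl
    let E : AlgSp.EtOver X.obj := AlgSp.EtOver.mk ((AlgSp.yon S).map ι₀ ≫ a)
      (repWith_etale_opens_ι_comp a haE U₀)
    have hEaff : IsAffine E.obj.left.left := hU₀aff
    let u' : E.obj.left.left := (⟨u, huU₀⟩ : U₀)
    have hdim' : ringKrullDim ((E.obj.left.left).presheaf.stalk u') = 0 := by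
      rw [← hdim]
      exact ringKrullDim_eq_of_ringEquiv (U₀.stalkIso ⟨u, huU₀⟩).commRingCatIsoToRingEquiv
    have hmin := (ringKrullDim_stalk_eq_zero_iff E.obj.left.left u').mp hdim'
    refine ⟨E, hEaff, u', ?_, unitSect E 1, ?_⟩
    · change AlgSp.Points.ofPt ((AlgSp.yon S).map ι₀ ≫ a) u' = x
      rw [ofPt_map_comp]
      exact hau
    · have hbot : AlgSp.annSect (unitSect E 1) = ⊥ := by
        ext b
        rw [mem_annSect_unitSect_iff, mul_one]
        rfl
      rw [hbot]
      exact hmin

end Groth.Agent.S10805
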