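import Groth.Statements.S10806
import Groth.Agent.Lib.Helper30.ChartCriterion
import Groth.Agent.Lib.Helper12.AlgSpPoints2
import Groth.Agent.S0082

set_option autoImplicit false
universe u
open CategoryTheory CategoryTheory.Limits AlgebraicGeometry Topology TopologicalSpace
open AlgSp

namespace Groth.Agent.S10806

open Groth.Agent.Lib.Helper30.ChartCriterion Groth.Agent.Lib.Helper30.LocPrincipal
open Groth.Agent.Lib.Helper12.AlgSpPoints

attribute [local instance] Groth.Agent.S0082.result

/-- Let X be an algebraic space over a scheme S, Z ⟶ X a locally principal closed subspace (one-chart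
sense: representable by closed immersions, and on some etale surjective scheme chart the inverse
image of Z is cut out by a quasi-coherent ideal sheaf that is Zariski-locally generated by one
section) and U ⟶ X the complementary open subspace, that is, a morphism representable by open
immersions whose image in |X| is the complement of the image of |Z|. Then U ⟶ X is an affine
morphism. -/
theorem result {S : Scheme.{u}} (X Z U : AlgSp.Space S)
    (i : Z ⟶ X) (hZ : AlgSp.IsLocPrincipalSub i.hom) (j : U ⟶ X) (hj : AlgSp.RepWith @IsOpenImmersion j.hom)
    (hU : Set.range (AlgSp.Points.map j.hom) = (Set.range (AlgSp.Points.map i.hom))ᶜ) :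
    AlgSp.IsAffineMor j.hom := by
  obtain ⟨hi, V, φ, I, fstZ, hφE, hφS, sqZ, hI⟩ := hZ
  have hrep := hj.rep
  have sqV := hrep.isPullback φ
  have hopen : IsOpenImmersion (hrep.snd φ).left := hj.property φ _ _ sqV
  have hrange : Set.range (hrep.snd φ).left = ((I.support : Set V.left))ᶜ := by
    have h1 := Points.preimage_image_of_isPullback sqV Set.univ
    have h2 := Points.preimage_image_of_isPullback sqZ Set.univ
    simp only [Set.image_univ, Set.preimage_univ] at h1 h2
    rw [hU, Set.preimage_compl, h2] at h1
    rw [← h1]
    congr 1
    exact I.range_subschemeι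
  have hAff : IsAffineHom (hrep.snd φ).left :=
    isAffineHom_of_range_eq_compl_support _ I hI hrange
  have hRW : AlgSp.RepWith @IsAffineHom j.hom := repWith_of_chart j.hom hrep φ hφE hφS sqV hAff
  intro T hT g
  refine ⟨hrep.pullback g, hrep.snd g, hrep.fst g, hrep.isPullback g, ?_⟩
  have : IsAffineHom (hrep.snd g).left := hRW.property g _ _ (hrep.isPullback g)
  exact isAffine_of_isAffineHom (hrep.snd g).left

end Groth.Agent.S10806
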