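import Groth.Statements.S10813
import Groth.Agent.Lib.Helper30.IdealEtChart
import Groth.Agent.S8852

set_option autoImplicit false
universe u
open CategoryTheory CategoryTheory.Limits AlgebraicGeometry Topology TopologicalSpace
open AlgSp

namespace Groth.Agent.S10813

open Groth.Agent.Lib.Helper30.ClosedChart Groth.Agent.Lib.Helper30.IdealEtChart

/-- Let X be an algebraic space over a scheme S, let Z ⟶ X and Y ⟶ X be closed subspaces cut out by
quasi-coherent sheaves of ideals I and J, and let D ⟶ X be the closed subspace which the product I·J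
cuts out. If D is an effective Cartier divisor (one-chart sense), then so are Z and Y, and D is
their sum. -/
theorem result {S : Scheme.{u}} (X Z Y D : AlgSp.Space S)
    (iZ : Z ⟶ X) (iY : Y ⟶ X) (iD : D ⟶ X) (I J : AlgSp.IdealEt X.obj) (hI : I.IsQCoh) (hJ : J.IsQCoh)
    (hZ : AlgSp.IsCutOutBy I iZ.hom) (hY : AlgSp.IsCutOutBy J iY.hom) (hD : AlgSp.IsCutOutBy (I * J) iD.hom)
    (hDc : AlgSp.IsEffCartierSub iD.hom) :
    AlgSp.IsEffCartierSub iZ.hom ∧ AlgSp.IsEffCartierSub iY.hom := by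
  obtain ⟨hiZ, rfl⟩ := hZ
  obtain ⟨hiY, rfl⟩ := hY
  obtain ⟨hiD, hI⟩ := hD
  obtain ⟨V, φ, hφE, hφS⟩ := X.property.atlas
  obtain ⟨K, fstK, sqK, hK, -, -⟩ := exists_chart_of_isEffCartierSub hDc φ hφE
  have sqZ := hiZ.rep.isPullback φ
  have : IsClosedImmersion (hiZ.rep.snd φ).left := hiZ.property φ _ _ sqZ
  obtain ⟨fstZ, sqZ'⟩ := exists_isPullback_subschemeι sqZ
  have sqY := hiY.rep.isPullback φ
  have : IsClosedImmersion (hiY.rep.snd φ).left := hiY.property φ _ _ sqY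
  obtain ⟨fstY, sqY'⟩ := exists_isPullback_subschemeι sqY
  have hmul := chart_ideal_eq_mul hiD.1 hiZ.1 hiY.1 hI φ hφE K _ _ sqK sqZ' sqY'
  rw [hmul] at hK
  obtain ⟨h1, h2⟩ := Groth.Agent.S8852.result _ _ hK
  exact ⟨⟨hiZ, V, φ, _, fstZ, hφE, hφS, sqZ', h1⟩, ⟨hiY, V, φ, _, fstY, hφE, hφS, sqY', h2⟩⟩

end Groth.Agent.S10813
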