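import Groth.Statements.S10814
import Groth.Agent.Lib.Helper30.IdealEtChart
import Groth.Agent.Lib.Helper82.BlowUpMul

set_option autoImplicit false
universe u
open CategoryTheory CategoryTheory.Limits AlgebraicGeometry Topology TopologicalSpace
open AlgSp

namespace Groth.Agent.S10814

open Groth.Agent.Lib.Helper30.ClosedChart Groth.Agent.Lib.Helper30.IdealEtChart

/-- Let X be an algebraic space over a scheme S and D₁, D₂ ⟶ X effective Cartier divisors (one-chart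
sense) with quasi-coherent ideal sheaves I₁, I₂ on the small etale site. Then their sum, the closed
subspace D ⟶ X cut out by the product ideal I₁·I₂, is an effective Cartier divisor. -/
theorem result {S : Scheme.{u}} (X D₁ D₂ D : AlgSp.Space S)
    (i₁ : D₁ ⟶ X) (i₂ : D₂ ⟶ X) (i : D ⟶ X) (I₁ I₂ : AlgSp.IdealEt X.obj) (hI₁ : I₁.IsQCoh) (hI₂ : I₂.IsQCoh)
    (h₁ : AlgSp.IsCutOutBy I₁ i₁.hom) (h₂ : AlgSp.IsCutOutBy I₂ i₂.hom) (hD : AlgSp.IsCutOutBy (I₁ * I₂) i.hom)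
    (e₁ : AlgSp.IsEffCartierSub i₁.hom) (e₂ : AlgSp.IsEffCartierSub i₂.hom) :
    AlgSp.IsEffCartierSub i.hom := by
  obtain ⟨hi₁, rfl⟩ := h₁
  obtain ⟨hi₂, rfl⟩ := h₂
  obtain ⟨hi, hI⟩ := hD
  obtain ⟨V, φ, hφE, hφS⟩ := X.property.atlas
  obtain ⟨J₁, fst₁, sq₁, hJ₁, -, -⟩ := exists_chart_of_isEffCartierSub e₁ φ hφE
  obtain ⟨J₂, fst₂, sq₂, hJ₂, -, -⟩ := exists_chart_of_isEffCartierSub e₂ φ hφE
  have sqV := hi.rep.isPullback φ
  have : IsClosedImmersion (hi.rep.snd φ).left := hi.property φ _ _ sqV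
  obtain ⟨fst, sq⟩ := exists_isPullback_subschemeι sqV
  have hK := chart_ideal_eq_mul hi.1 hi₁.1 hi₂.1 hI φ hφE _ J₁ J₂ sq sq₁ sq₂
  refine ⟨hi, V, φ, _, fst, hφE, hφS, sq, ?_⟩
  rw [hK]
  exact Groth.Agent.Lib.Helper82.isEffCartierIdeal_mul _ _ hJ₁ hJ₂

end Groth.Agent.S10814
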