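import Groth.Statements.S10820
import Mathlib
import Groth.Agent.Lib.Helper93.ProjDimD

set_option autoImplicit false
universe u
open AlgebraicGeometry Topology TopologicalSpace
open Variety

namespace Groth.Agent.S10820

open Groth.Agent.Lib.Helper93.ProjDim

/-- For a field k, n ≥ 2 and a nonzero homogeneous polynomial f of degree d ≥ 1 in n + 1 variables, the
hypersurface V_+(f) in projective n-space over k (as a subspace of Proj of the polynomial ring
graded by degree) is connected and nonempty. -/
theorem result (k : Type u) [Field k] (n d : ℕ) (hn : 2 ≤ n)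
    (f : MvPolynomial (Fin (n + 1)) k) (hf : f.IsHomogeneous d) (hd : 0 < d) (hf0 : f ≠ 0) :
    IsConnected (ProjectiveSpectrum.zeroLocus (CohB1.polyGrading n k)
      ({f} : Set (MvPolynomial (Fin (n + 1)) k))) := by
  have hmax := irrelevant_isMaximal n k
  have hn1 : 1 ≤ n := by omega
  -- the hypersurface of a prime factor
  have hsub : ∀ {p : MvPolynomial (Fin (n + 1)) k} (hp : Prime p) (hpf : p ∣ f),
      closure {primePt n k hn1 hp (isHomogeneous_span_of_prime_dvd n k hp hpf hf hf0)} ⊆
        ProjectiveSpectrum.zeroLocus (CohB1.polyGrading n k)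
          ({f} : Set (MvPolynomial (Fin (n + 1)) k)) := by
    intro p hp hpf y hy
    have hle := le_iff_toIdeal_le.mp (mem_closure_singleton_iff.mp hy)
    rw [mem_zeroLocus_iff_le, Set.singleton_subset_iff]
    exact hle (Ideal.mem_span_singleton.mpr hpf)
  have hcover : ∀ y ∈ ProjectiveSpectrum.zeroLocus (CohB1.polyGrading n k)
      ({f} : Set (MvPolynomial (Fin (n + 1)) k)),
      ∃ (p : MvPolynomial (Fin (n + 1)) k) (hp : Prime p) (hpf : p ∣ f),
        y ∈ closure {primePt n k hn1 hp (isHomogeneous_span_of_prime_dvd n k hp hpf hf hf0)} := by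
    intro y hy
    rw [mem_zeroLocus_iff_le, Set.singleton_subset_iff] at hy
    obtain ⟨p, hp, hpf, hpy⟩ := exists_prime_dvd_mem hf0 hy
    refine ⟨p, hp, hpf, mem_closure_singleton_iff.mpr ?_⟩
    rw [le_iff_toIdeal_le]
    exact (Ideal.span_singleton_le_iff_mem _).mpr hpy
  have hinter : ∀ {p q : MvPolynomial (Fin (n + 1)) k} (hp : Prime p) (hpf : p ∣ f)
      (hq : Prime q) (hqf : q ∣ f),
      (closure {primePt n k hn1 hp (isHomogeneous_span_of_prime_dvd n k hp hpf hf hf0)} ∩
        closure {primePt n k hn1 hq (isHomogeneous_span_of_prime_dvd n k hq hqf hf hf0)}).Nonempty := by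
    intro p q hp hpf hq hqf
    have hph := isHomogeneous_span_of_prime_dvd n k hp hpf hf hf0
    have hqh := isHomogeneous_span_of_prime_dvd n k hq hqf hf hf0
    by_cases hqp : q ∈ Ideal.span {p}
    · refine ⟨primePt n k hn1 hp hph, subset_closure rfl, mem_closure_singleton_iff.mpr ?_⟩
      rw [le_iff_toIdeal_le]
      exact (Ideal.span_singleton_le_iff_mem _).mpr hqp
    · have hpd := pdim_primePt n k hn1 hp hph
      have hpd0 : pdim (primePt n k hn1 hp hph) ≠ 0 := by omega
      have hqhom : SetLike.IsHomogeneousElem (CohB1.polyGrading n k) q :=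
        (isHomogeneousElem_iff n k q).mpr
          ⟨_, isHomogeneous_of_span_singleton n k hq.ne_zero hqh⟩
      have hqi : q ∈ (HomogeneousIdeal.irrelevant (CohB1.polyGrading n k)).toIdeal :=
        (toIdeal_lt_irrelevant hmax (primePt n k hn1 hq hqh)).le
          (Ideal.mem_span_singleton_self q)
      obtain ⟨y, hy1, hy2, -⟩ := exists_gt_of_pdim_ne_zero (k := k) hmax
        (x := primePt n k hn1 hp hph) hqhom hqi hqp hpd0
      refine ⟨y, mem_closure_singleton_iff.mpr hy1.le, mem_closure_singleton_iff.mpr ?_⟩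
      rw [le_iff_toIdeal_le]
      exact (Ideal.span_singleton_le_iff_mem _).mpr hy2
  refine ⟨?_, ?_⟩
  · -- nonempty
    have hfi : f ∈ (HomogeneousIdeal.irrelevant (CohB1.polyGrading n k)).toIdeal :=
      HomogeneousIdeal.mem_irrelevant_of_mem _ hd
        ((MvPolynomial.mem_homogeneousSubmodule d f).mpr hf)
    have := hmax.isPrime
    obtain ⟨p, hp, hpf, -⟩ := exists_prime_dvd_mem hf0 hfi
    exact ⟨_, hsub hp hpf (subset_closure rfl)⟩
  · apply isPreconnected_of_forall_pair
    intro x hx y hy
    obtain ⟨p, hp, hpf, hxp⟩ := hcover x hx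
    obtain ⟨q, hq, hqf, hyq⟩ := hcover y hy
    refine ⟨_, Set.union_subset (hsub hp hpf) (hsub hq hqf), Or.inl hxp, Or.inr hyq, ?_⟩
    exact IsPreconnected.union' (hinter hp hpf hq hqf)
      isIrreducible_singleton.closure.isPreirreducible.isPreconnected
      isIrreducible_singleton.closure.isPreirreducible.isPreconnected

end Groth.Agent.S10820
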