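import Groth.Statements.S10821
import Mathlib
import Groth.Agent.Lib.Helper93.ProjDimD

set_option autoImplicit false
universe u
open AlgebraicGeometry Topology TopologicalSpace
open Variety

namespace Groth.Agent.S10821

open Groth.Agent.Lib.Helper93.ProjDim

/-- For a field k and an irreducible closed subset Z of projective n-space over k, Z has codimension 1
(the longest chain of irreducible closed subsets strictly above Z has length 1) if and only if Z is
the zero set V_+(f) of an irreducible homogeneous polynomial f in n + 1 variables. -/
theorem result (k : Type u) [Field k] (n : ℕ)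
    (Z : TopologicalSpace.IrreducibleCloseds (ProjectiveSpectrum (CohB1.polyGrading n k))) :
    Order.coheight Z = 1 ↔
      ∃ (d : ℕ) (f : MvPolynomial (Fin (n + 1)) k), f.IsHomogeneous d ∧ Irreducible f ∧
        (Z : Set (ProjectiveSpectrum (CohB1.polyGrading n k))) =
          ProjectiveSpectrum.zeroLocus (CohB1.polyGrading n k) ({f} : Set (MvPolynomial (Fin (n + 1)) k)) := by
  let e := irreducibleClosedsOrderIso (Y := ProjectiveSpectrum (CohB1.polyGrading n k))
    (fun x y => specializes_iff_le)
  obtain ⟨z, hz⟩ : ∃ z, z = OrderDual.ofDual (e Z) := ⟨_, rfl⟩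
  have hzZ : closure {z} = (Z : Set (ProjectiveSpectrum (CohB1.polyGrading n k))) := by
    rw [hz]; exact closure_irreducibleClosedsOrderIso _ Z
  have hco : Order.coheight Z = Order.height z := by
    rw [← Order.coheight_orderIso e Z, hz, Order.height_ofDual]
  rw [hco]
  constructor
  · intro h1
    -- z is not minimal
    have hnotmin : ¬ IsMin z := by
      rw [← Order.height_eq_zero, h1]; exact one_ne_zero
    obtain ⟨y, hy⟩ := not_isMin_iff.mp hnotmin
    have hz0 : z.asHomogeneousIdeal.toIdeal ≠ ⊥ := by
      intro h0
      have := lt_iff_toIdeal_lt.mp hy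
      rw [h0] at this
      exact not_lt_bot this
    obtain ⟨d, g, hg, hg0, hgz⟩ := exists_homogeneous_ne_zero_mem n k
      z.asHomogeneousIdeal.isHomogeneous hz0
    obtain ⟨p, hp, hpg, hpz⟩ := exists_prime_dvd_mem hg0 hgz
    have hph := isHomogeneous_span_of_prime_dvd n k hp hpg hg hg0
    have hPz : Ideal.span {p} ≤ z.asHomogeneousIdeal.toIdeal :=
      (Ideal.span_singleton_le_iff_mem _).mpr hpz
    let w : ProjectiveSpectrum (CohB1.polyGrading n k) :=
      mkPt (Ideal.span {p}) ((Ideal.span_singleton_prime hp.ne_zero).mpr hp) hph
        (fun h => z.not_irrelevant_le (h.trans hPz))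
    have hw0 : zeroPt n k < w := by
      rw [lt_iff_toIdeal_lt]
      refine lt_of_le_of_ne bot_le ?_
      intro h
      have : p ∈ (⊥ : Ideal (MvPolynomial (Fin (n + 1)) k)) := by
        rw [show (⊥ : Ideal (MvPolynomial (Fin (n + 1)) k)) = Ideal.span {p} from h]
        exact Ideal.mem_span_singleton_self p
      exact hp.ne_zero this
    have hwz : w ≤ z := le_iff_toIdeal_le.mpr hPz
    have hwz' : w = z := by
      by_contra hne
      have hlt : w < z := lt_of_le_of_ne hwz hne
      have h2 := Order.height_add_one_le hlt
      have h3 := Order.height_add_one_le hw0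
      rw [h1] at h2
      have h4 : (1 : ℕ∞) ≤ Order.height w := le_trans le_add_self h3
      have h5 : (1 : ℕ∞) + 1 ≤ 1 := (add_le_add_left h4 1).trans h2
      exact absurd h5 (by decide)
    refine ⟨p.totalDegree, p, isHomogeneous_of_span_singleton n k hp.ne_zero hph, hp.irreducible, ?_⟩
    rw [← hzZ, ← hwz']
    exact (zeroLocus_singleton_eq_closure n k w p rfl).symm
  · rintro ⟨d, f, hf, hirr, hZ⟩
    have hp : Prime f := UniqueFactorizationMonoid.irreducible_iff_prime.mp hirr
    have hzmem : z ∈ (Z : Set (ProjectiveSpectrum (CohB1.polyGrading n k))) := by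
      rw [← hzZ]; exact subset_closure rfl
    rw [hZ, mem_zeroLocus_iff_le, Set.singleton_subset_iff] at hzmem
    have hph : (Ideal.span {f}).IsHomogeneous (CohB1.polyGrading n k) :=
      Ideal.homogeneous_span _ _ (by
        intro x hx
        rw [Set.mem_singleton_iff] at hx
        rw [hx]
        exact (isHomogeneousElem_iff n k f).mpr ⟨d, hf⟩)
    have hPz : Ideal.span {f} ≤ z.asHomogeneousIdeal.toIdeal :=
      (Ideal.span_singleton_le_iff_mem _).mpr hzmem
    let w : ProjectiveSpectrum (CohB1.polyGrading n k) :=
      mkPt (Ideal.span {f}) ((Ideal.span_singleton_prime hp.ne_zero).mpr hp) hph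
        (fun h => z.not_irrelevant_le (h.trans hPz))
    have hcl : closure {w} = closure {z} := by
      rw [hzZ, hZ]
      exact (zeroLocus_singleton_eq_closure n k w f rfl).symm
    have hwz : w = z := by
      apply le_antisymm
      · apply mem_closure_singleton_iff.mp
        rw [hcl]; exact subset_closure rfl
      · apply mem_closure_singleton_iff.mp
        rw [← hcl]; exact subset_closure rfl
    rw [← hwz]
    apply le_antisymm
    · have h1 := Order.height_le_height_apply_of_strictMono toPrime
        (toPrime_strictMono (𝒜 := CohB1.polyGrading n k)) w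
      rw [← PrimeSpectrum.height_eq_orderHeight] at h1
      exact h1.trans (height_span_singleton_le_one n k hp)
    · have hw0 : zeroPt n k < w := by
        rw [lt_iff_toIdeal_lt]
        refine lt_of_le_of_ne bot_le ?_
        intro h
        have : f ∈ (⊥ : Ideal (MvPolynomial (Fin (n + 1)) k)) := by
          rw [show (⊥ : Ideal (MvPolynomial (Fin (n + 1)) k)) = Ideal.span {f} from h]
          exact Ideal.mem_span_singleton_self f
        exact hp.ne_zero this
      exact le_trans le_add_self (Order.height_add_one_le hw0)

end Groth.Agent.S10821
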