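import Groth.Statements.S10822
import Mathlib
import Groth.Agent.Lib.Helper93.ProjDimC

set_option autoImplicit false
universe u
open AlgebraicGeometry Topology TopologicalSpace
open Variety

namespace Groth.Agent.S10822

open Groth.Agent.Lib.Helper93.ProjDim

/-- Let k be a field, X an irreducible closed subset of projective n-space over k of positive dimension,
and f a homogeneous polynomial in n + 1 variables whose zero set V_+(f) is nonempty and does not
contain X. Then X meets V_+(f), and every irreducible component C of X ∩ V_+(f) has dim C + 1 = dim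
X, i.e. codimension 1 in X (all maximal chains of irreducible closed subsets of X have length dim
X). -/
theorem result (k : Type u) [Field k] (n d : ℕ)
    (X : Set (ProjectiveSpectrum (CohB1.polyGrading n k))) (hXc : IsClosed X) (hXi : IsIrreducible X)
    (hXd : 0 < topologicalKrullDim ↥X)
    (f : MvPolynomial (Fin (n + 1)) k) (hf : f.IsHomogeneous d)
    (hV : (ProjectiveSpectrum.zeroLocus (CohB1.polyGrading n k)
      ({f} : Set (MvPolynomial (Fin (n + 1)) k))).Nonempty)
    (hX : ¬ X ⊆ ProjectiveSpectrum.zeroLocus (CohB1.polyGrading n k)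
      ({f} : Set (MvPolynomial (Fin (n + 1)) k))) :
    (X ∩ ProjectiveSpectrum.zeroLocus (CohB1.polyGrading n k)
        ({f} : Set (MvPolynomial (Fin (n + 1)) k))).Nonempty ∧
      ∀ C ∈ irreducibleComponents ↥(X ∩ ProjectiveSpectrum.zeroLocus (CohB1.polyGrading n k)
          ({f} : Set (MvPolynomial (Fin (n + 1)) k))),
        topologicalKrullDim ↥C + 1 = topologicalKrullDim ↥X := by
  have hmax := irrelevant_isMaximal n k
  obtain ⟨x, rfl⟩ := exists_closure_singleton_eq hXc hXi
  have hdimX := topologicalKrullDim_closure_singleton pdim (pdim_anti n k) (pdim_step n k) x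
  have hx0 : pdim x ≠ 0 := by
    intro h0
    rw [hdimX, h0] at hXd
    exact lt_irrefl _ hXd
  have hfx : f ∉ x.asHomogeneousIdeal.toIdeal := by
    intro hfx
    apply hX
    intro y hy
    have hxy : x ≤ y := mem_closure_singleton_iff.mp hy
    rw [mem_zeroLocus_iff_le, Set.singleton_subset_iff]
    exact le_iff_toIdeal_le.mp hxy hfx
  have hfi : f ∈ (HomogeneousIdeal.irrelevant (CohB1.polyGrading n k)).toIdeal := by
    obtain ⟨z, hz⟩ := hV
    rw [mem_zeroLocus_iff_le, Set.singleton_subset_iff] at hz
    exact (toIdeal_lt_irrelevant hmax z).le hz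
  have hfh : SetLike.IsHomogeneousElem (CohB1.polyGrading n k) f :=
    (isHomogeneousElem_iff n k f).mpr ⟨d, hf⟩
  refine ⟨?_, ?_⟩
  · obtain ⟨y, hxy, hfy, -⟩ := exists_gt_of_pdim_ne_zero (k := k) hmax hfh hfi hfx hx0
    refine ⟨y, mem_closure_singleton_iff.mpr hxy.le, ?_⟩
    rw [mem_zeroLocus_iff_le, Set.singleton_subset_iff]
    exact hfy
  · intro C hC
    have hW : IsClosed (closure {x} ∩ ProjectiveSpectrum.zeroLocus (CohB1.polyGrading n k)
        ({f} : Set (MvPolynomial (Fin (n + 1)) k))) :=
      isClosed_closure.inter (ProjectiveSpectrum.isClosed_zeroLocus _ _)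
    obtain ⟨c, hc, hmin⟩ := exists_generic_of_mem_irreducibleComponents hW hC
    rw [topologicalKrullDim_subtype_closure_singleton pdim (pdim_anti n k) (pdim_step n k) hW C c hc,
      hdimX]
    have hxc : x ≤ c.1 := mem_closure_singleton_iff.mp c.2.1
    have hfc : f ∈ c.1.asHomogeneousIdeal.toIdeal := by
      have := c.2.2
      rw [mem_zeroLocus_iff_le, Set.singleton_subset_iff] at this
      exact this
    have key : pdim c.1 + 1 = pdim x := by
      refine pdim_add_one_of_minimal (k := k) hmax hfh hfx hxc hfc ?_
      intro w hxw hfw hwc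
      have hwW : w ∈ closure {x} ∩ ProjectiveSpectrum.zeroLocus (CohB1.polyGrading n k)
          ({f} : Set (MvPolynomial (Fin (n + 1)) k)) := by
        refine ⟨mem_closure_singleton_iff.mpr hxw, ?_⟩
        rw [mem_zeroLocus_iff_le, Set.singleton_subset_iff]
        exact hfw
      exact congrArg Subtype.val (hmin ⟨w, hwW⟩ hwc)
    exact_mod_cast key

end Groth.Agent.S10822
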