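import Groth.Statements.S10823
import Mathlib
import Groth.Agent.Lib.Helper93.ProjDimC

set_option autoImplicit false
universe u
open AlgebraicGeometry Topology TopologicalSpace
open Variety

namespace Groth.Agent.S10823

open Groth.Agent.Lib.Helper93.ProjDim

/-- Let k be a field, X an irreducible closed subset of projective n-space over k, and f_1, …, f_r
nonzero homogeneous polynomials of positive degrees in n + 1 variables. Then every irreducible
component C of X ∩ V_+(f_1, …, f_r) has codimension at most r in X, i.e. dim X ≤ dim C + r, and if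
dim X ≥ r the intersection is nonempty. -/
theorem result (k : Type u) [Field k] (n r : ℕ)
    (X : Set (ProjectiveSpectrum (CohB1.polyGrading n k))) (hXc : IsClosed X) (hXi : IsIrreducible X)
    (f : Fin r → MvPolynomial (Fin (n + 1)) k) (d : Fin r → ℕ)
    (hf : ∀ i, (f i).IsHomogeneous (d i)) (hd : ∀ i, 0 < d i) (hf0 : ∀ i, f i ≠ 0) :
    (∀ C ∈ irreducibleComponents ↥(X ∩ ProjectiveSpectrum.zeroLocus (CohB1.polyGrading n k) (Set.range f)),
        topologicalKrullDim ↥X ≤ topologicalKrullDim ↥C + (r : WithBot ℕ∞)) ∧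
      ((r : WithBot ℕ∞) ≤ topologicalKrullDim ↥X →
        (X ∩ ProjectiveSpectrum.zeroLocus (CohB1.polyGrading n k) (Set.range f)).Nonempty) := by
  classical
  have hmax := irrelevant_isMaximal n k
  obtain ⟨x, rfl⟩ := exists_closure_singleton_eq hXc hXi
  have hdimX := topologicalKrullDim_closure_singleton pdim (pdim_anti n k) (pdim_step n k) x
  let s : Finset (MvPolynomial (Fin (n + 1)) k) := Finset.univ.image f
  have hs_coe : (s : Set (MvPolynomial (Fin (n + 1)) k)) = Set.range f := by
    simp [s]
  have hs_card : s.card ≤ r := by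
    have := Finset.card_image_le (s := (Finset.univ : Finset (Fin r))) (f := f)
    simpa [s] using this
  have hs_mem : ∀ g ∈ s, ∃ i, f i = g := by
    intro g hg
    simpa [s] using hg
  have hsh : ∀ g ∈ s, SetLike.IsHomogeneousElem (CohB1.polyGrading n k) g := by
    intro g hg
    obtain ⟨i, rfl⟩ := hs_mem g hg
    exact (isHomogeneousElem_iff n k (f i)).mpr ⟨d i, hf i⟩
  have hsi : ∀ g ∈ s, g ∈ (HomogeneousIdeal.irrelevant (CohB1.polyGrading n k)).toIdeal := by
    intro g hg
    obtain ⟨i, rfl⟩ := hs_mem g hg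
    exact HomogeneousIdeal.mem_irrelevant_of_mem _ (hd i)
      ((MvPolynomial.mem_homogeneousSubmodule (d i) (f i)).mpr (hf i))
  have hmemZ : ∀ y : ProjectiveSpectrum (CohB1.polyGrading n k),
      y ∈ ProjectiveSpectrum.zeroLocus (CohB1.polyGrading n k) (Set.range f) ↔
        ∀ g ∈ s, g ∈ y.asHomogeneousIdeal.toIdeal := by
    intro y
    rw [mem_zeroLocus_iff_le, ← hs_coe]
    rfl
  refine ⟨?_, ?_⟩
  · intro C hC
    have hW : IsClosed (closure {x} ∩ ProjectiveSpectrum.zeroLocus (CohB1.polyGrading n k)
        (Set.range f)) :=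
      isClosed_closure.inter (ProjectiveSpectrum.isClosed_zeroLocus _ _)
    obtain ⟨c, hc, hmin⟩ := exists_generic_of_mem_irreducibleComponents hW hC
    rw [topologicalKrullDim_subtype_closure_singleton pdim (pdim_anti n k) (pdim_step n k) hW C c hc,
      hdimX]
    have hxc : x ≤ c.1 := mem_closure_singleton_iff.mp c.2.1
    have hfc : ∀ g ∈ s, g ∈ c.1.asHomogeneousIdeal.toIdeal := (hmemZ c.1).mp c.2.2
    have key : pdim x ≤ pdim c.1 + s.card := by
      refine pdim_le_of_minimal (k := k) hmax s hsh hxc hfc ?_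
      intro w hxw hfw hwc
      have hwW : w ∈ closure {x} ∩ ProjectiveSpectrum.zeroLocus (CohB1.polyGrading n k)
          (Set.range f) :=
        ⟨mem_closure_singleton_iff.mpr hxw, (hmemZ w).mpr hfw⟩
      exact congrArg Subtype.val (hmin ⟨w, hwW⟩ hwc)
    have key' : pdim x ≤ pdim c.1 + r := by omega
    exact_mod_cast key'
  · intro hr
    rw [hdimX] at hr
    have hr' : r ≤ pdim x := by exact_mod_cast hr
    obtain ⟨y, hxy, hy⟩ := exists_ge_of_card_le_pdim (k := k) hmax s hsh hsi (hs_card.trans hr')
    exact ⟨y, mem_closure_singleton_iff.mpr hxy, (hmemZ y).mpr hy⟩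

end Groth.Agent.S10823
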