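import Groth.Statements.S10825
import Groth.Agent.S10843
import Mathlib.RingTheory.Norm.Transitivity
import Mathlib.RingTheory.Norm.Basic
import Mathlib.FieldTheory.Minpoly.IsIntegrallyClosed
import Mathlib.RingTheory.Spectrum.Prime.Topology
import Mathlib.RingTheory.Spectrum.Prime.RingHom
import Mathlib.Topology.KrullDimension
import Mathlib.RingTheory.Ideal.GoingUp
import Mathlib.RingTheory.IntegralClosure.IsIntegralClosure.Basic

set_option autoImplicit false
universe u
open Topology
open CAlg

namespace Groth.Agent.S10825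

section helpers
open Polynomial IntermediateField

theorem dim_zeroLocus {R : Type*} [CommRing R] (I : Ideal R) :
    topologicalKrullDim ↥(PrimeSpectrum.zeroLocus (I : Set R)) = ringKrullDim (R ⧸ I) := by
  have hemb := PrimeSpectrum.isClosedEmbedding_comap_of_surjective (R ⧸ I) (Ideal.Quotient.mk I)
    Ideal.Quotient.mk_surjective
  have hrange : Set.range (PrimeSpectrum.comap (Ideal.Quotient.mk I)) =
      PrimeSpectrum.zeroLocus (I : Set R) := by
    rw [range_comap_of_surjective _ _ Ideal.Quotient.mk_surjective, Ideal.mk_ker]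
  let e : PrimeSpectrum (R ⧸ I) ≃ₜ ↥(PrimeSpectrum.zeroLocus (I : Set R)) :=
    hemb.isEmbedding.toHomeomorph.trans (Homeomorph.setCongr hrange)
  rw [← PrimeSpectrum.topologicalKrullDim_eq_ringKrullDim]
  exact (IsHomeomorph.topologicalKrullDim_eq e e.isHomeomorph).symm

theorem norm_formula
    (A B K L : Type u) [CommRing A] [IsDomain A] [CommRing B] [IsDomain B] [Algebra A B]
    [Field K] [Field L] [Algebra A K] [IsFractionRing A K] [Algebra B L] [IsFractionRing B L]
    [Algebra A L] [Algebra K L] [IsScalarTower A B L] [IsScalarTower A K L]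
    [FiniteDimensional K L] [Algebra.IsIntegral A B] [IsIntegrallyClosed A]
    (b : B) (a : A) (ha : algebraMap A K a = Algebra.norm K (algebraMap B L b)) :
    ∃ e : ℕ, 0 < e ∧ a = ((-1) ^ (minpoly A b).natDegree * (minpoly A b).coeff 0) ^ e := by
  have hb : IsIntegral A b := Algebra.IsIntegral.isIntegral b
  set x : L := algebraMap B L b with hx
  have hxint : IsIntegral K x := Algebra.IsIntegral.isIntegral x
  have hmin : minpoly K x = (minpoly A b).map (algebraMap A K) :=
    minpoly.isIntegrallyClosed_eq_field_fractions K L hb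
  refine ⟨Module.finrank K⟮x⟯ L, Module.finrank_pos, ?_⟩
  apply IsFractionRing.injective A K
  rw [ha]
  have h1 : Algebra.norm K x =
      (Algebra.norm K (AdjoinSimple.gen K x)) ^ Module.finrank K⟮x⟯ L := by
    have h2 := Algebra.norm_norm (R := K) (S := K⟮x⟯) (a := x)
    rw [← h2]
    have h3 : Algebra.norm K⟮x⟯ x = (AdjoinSimple.gen K x) ^ Module.finrank K⟮x⟯ L := by
      have h5 := Algebra.norm_algebraMap (R := K⟮x⟯) (S := L) (AdjoinSimple.gen K x)
      rwa [AdjoinSimple.algebraMap_gen] at h5
    rw [h3, map_pow]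
  rw [h1]
  have h4 := Algebra.PowerBasis.norm_gen_eq_coeff_zero_minpoly (adjoin.powerBasis hxint)
  rw [adjoin.powerBasis_gen, adjoin.powerBasis_dim, minpoly_gen, hmin,
    (minpoly.monic hb).natDegree_map, coeff_map] at h4
  rw [h4]
  simp only [map_pow, map_mul, map_neg, map_one]

theorem c0_mem {A B : Type*} [CommRing A] [CommRing B] [Algebra A B] (b : B) (_hb : IsIntegral A b) :
    algebraMap A B ((minpoly A b).coeff 0) ∈ Ideal.span ({b} : Set B) := by
  have h1 := congrArg (Polynomial.aeval b) (Polynomial.divX_mul_X_add (minpoly A b))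
  rw [minpoly.aeval, map_add, map_mul, aeval_X, aeval_C] at h1
  rw [Ideal.mem_span_singleton']
  refine ⟨-(Polynomial.aeval b (minpoly A b).divX), ?_⟩
  rw [neg_mul]
  exact neg_eq_of_add_eq_zero_right h1

theorem exists_prime_over
    (A B : Type u) [CommRing A] [IsDomain A] [CommRing B] [IsDomain B] [Algebra A B]
    [Algebra.IsIntegral A B] [IsIntegrallyClosed A]
    (hinj : Function.Injective (algebraMap A B))
    (b : B) (p : Ideal A) [p.IsPrime] (hc0p : (minpoly A b).coeff 0 ∈ p) :
    ∃ q : Ideal B, q.IsPrime ∧ b ∈ q ∧ q.comap (algebraMap A B) = p := by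
  have hb : IsIntegral A b := Algebra.IsIntegral.isIntegral b
  have : Module.IsTorsionFree A B := by
    rw [Module.isTorsionFree_iff_algebraMap_injective]
    exact hinj
  set m := minpoly A b with hm
  let S := Algebra.adjoin A ({b} : Set B)
  let eqv : AdjoinRoot m ≃ₐ[A] S := minpoly.equivAdjoin hb
  have h0 : m.eval₂ (Ideal.Quotient.mk p) 0 = 0 := by
    rw [Polynomial.eval₂_at_zero]
    exact Ideal.Quotient.eq_zero_iff_mem.mpr hc0p
  let φ0 : AdjoinRoot m →+* A ⧸ p := AdjoinRoot.lift (Ideal.Quotient.mk p) 0 h0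
  let φ : S →+* A ⧸ p := φ0.comp (eqv.symm : S →+* AdjoinRoot m)
  have hφA : ∀ a' : A, φ (algebraMap A S a') = Ideal.Quotient.mk p a' := by
    intro a'
    change φ0 (eqv.symm (algebraMap A S a')) = _
    rw [AlgEquiv.commutes]
    exact AdjoinRoot.lift_of h0
  have hφb : φ ⟨b, Algebra.subset_adjoin (Set.mem_singleton b)⟩ = 0 := by
    have h1 : eqv (AdjoinRoot.root m) = ⟨b, Algebra.subset_adjoin (Set.mem_singleton b)⟩ := by
      apply Subtype.ext
      change ((AdjoinRoot.Minpoly.toAdjoin A b) (AdjoinRoot.mk (minpoly A b) X) : B) = b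
      rw [AdjoinRoot.Minpoly.coe_toAdjoin_mk_X]
    change φ0 (eqv.symm _) = 0
    rw [← h1, AlgEquiv.symm_apply_apply]
    exact AdjoinRoot.lift_root h0
  have hq' : (RingHom.ker φ).IsPrime := RingHom.ker_isPrime φ
  have hSint : Algebra.IsIntegral S B := Algebra.IsIntegral.tower_top (R := A)
  obtain ⟨q, -, hqprime, hqcomap⟩ :=
    Ideal.exists_ideal_over_prime_of_isIntegral (R := S) (S := B) (RingHom.ker φ) (⊥ : Ideal B)
      (by
        intro s hs
        have hs0 : (s : B) = 0 := hs
        have : s = 0 := Subtype.ext hs0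
        rw [this]
        exact Ideal.zero_mem _)
  refine ⟨q, hqprime, ?_, ?_⟩
  · have h1 : (⟨b, Algebra.subset_adjoin (Set.mem_singleton b)⟩ : S) ∈ q.comap (algebraMap S B) := by
      rw [hqcomap]
      exact hφb
    exact h1
  · ext a'
    rw [Ideal.mem_comap]
    have h1 : algebraMap A B a' = algebraMap S B (algebraMap A S a') := rfl
    rw [h1, ← Ideal.mem_comap, hqcomap, RingHom.mem_ker, hφA, Ideal.Quotient.eq_zero_iff_mem]

end helpers

/-- Let A → B be an injective integral homomorphism of integral domains with fraction fields K and L, L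
a finite extension of K, and A integrally closed. For b in B the norm N_{L/K}(b) lies in A; if a
denotes this element of A, then the image of the closed set V(b) of Spec B under Spec B → Spec A is
exactly V(a), and V(b) and V(a) have the same dimension. -/
theorem result
    (A B K L : Type u) [CommRing A] [IsDomain A] [CommRing B] [IsDomain B] [Algebra A B]
    [Field K] [Field L] [Algebra A K] [IsFractionRing A K] [Algebra B L] [IsFractionRing B L]
    [Algebra A L] [Algebra K L] [IsScalarTower A B L] [IsScalarTower A K L]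
    [FiniteDimensional K L] [Algebra.IsIntegral A B] [IsIntegrallyClosed A]
    (hinj : Function.Injective (algebraMap A B))
    (b : B) (a : A) (ha : algebraMap A K a = Algebra.norm K (algebraMap B L b)) :
    PrimeSpectrum.comap (algebraMap A B) '' PrimeSpectrum.zeroLocus ({b} : Set B) =
        PrimeSpectrum.zeroLocus ({a} : Set A) ∧
      topologicalKrullDim ↥(PrimeSpectrum.zeroLocus ({b} : Set B)) =
        topologicalKrullDim ↥(PrimeSpectrum.zeroLocus ({a} : Set A)) := by
  have hb : IsIntegral A b := Algebra.IsIntegral.isIntegral b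
  obtain ⟨e, he, hae⟩ := norm_formula A B K L b a ha
  set c0 := (minpoly A b).coeff 0 with hc0
  have hamem : algebraMap A B a ∈ Ideal.span ({b} : Set B) := by
    rw [hae, map_pow, map_mul]
    exact Ideal.pow_mem_of_mem _ (Ideal.mul_mem_left _ _ (c0_mem b hb)) e he
  have hii : ∀ p : Ideal A, p.IsPrime → a ∈ p →
      ∃ q : Ideal B, q.IsPrime ∧ b ∈ q ∧ q.comap (algebraMap A B) = p := by
    intro p hp hap
    have h1 : (-1) ^ (minpoly A b).natDegree * c0 ∈ p := by
      rw [hae] at hap
      exact hp.mem_of_pow_mem e hap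
    have h2 : c0 ∈ p := by
      have h3 : c0 = (-1) ^ (minpoly A b).natDegree * ((-1) ^ (minpoly A b).natDegree * c0) := by
        rw [← mul_assoc, ← mul_pow]
        simp
      rw [h3]
      exact p.mul_mem_left _ h1
    exact exists_prime_over A B hinj b p h2
  have hpartA : PrimeSpectrum.comap (algebraMap A B) '' PrimeSpectrum.zeroLocus ({b} : Set B) =
      PrimeSpectrum.zeroLocus ({a} : Set A) := by
    ext p
    constructor
    · rintro ⟨q, hq, rfl⟩
      rw [PrimeSpectrum.mem_zeroLocus, Set.singleton_subset_iff] at hq ⊢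
      change algebraMap A B a ∈ q.asIdeal
      exact (Ideal.span_singleton_le_iff_mem _).mpr hq hamem
    · intro hp
      rw [PrimeSpectrum.mem_zeroLocus, Set.singleton_subset_iff] at hp
      obtain ⟨q, hq, hbq, hqp⟩ := hii p.asIdeal p.2 hp
      refine ⟨⟨q, hq⟩, ?_, PrimeSpectrum.ext hqp⟩
      rw [PrimeSpectrum.mem_zeroLocus, Set.singleton_subset_iff]
      exact hbq
  refine ⟨hpartA, ?_⟩
  set J : Ideal A := (Ideal.span ({b} : Set B)).comap (algebraMap A B) with hJ
  have hVJ : PrimeSpectrum.zeroLocus (J : Set A) = PrimeSpectrum.zeroLocus ({a} : Set A) := by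
    ext p
    rw [PrimeSpectrum.mem_zeroLocus, PrimeSpectrum.mem_zeroLocus, Set.singleton_subset_iff]
    constructor
    · intro h
      exact h hamem
    · intro hp
      obtain ⟨q, hq, hbq, hqp⟩ := hii p.asIdeal p.2 hp
      intro y hy
      change y ∈ p.asIdeal
      rw [← hqp]
      exact (Ideal.span_singleton_le_iff_mem _).mpr hbq hy
  have h1 : ringKrullDim (B ⧸ Ideal.span ({b} : Set B)) = ringKrullDim (A ⧸ J) :=
    Groth.Agent.S10843.ringKrullDim_eq_of_isIntegral_of_injective
      Ideal.algebraMap_quotient_injective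
  rw [← PrimeSpectrum.zeroLocus_span ({b} : Set B), dim_zeroLocus, h1, ← dim_zeroLocus, hVJ]

end Groth.Agent.S10825
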