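import Groth.Statements.S10826
import Mathlib.RingTheory.MvPowerSeries.Substitution
import Mathlib.RingTheory.AdicCompletion.Completeness
import Mathlib.LinearAlgebra.Matrix.NonsingularInverse

set_option autoImplicit false
open CAlg

namespace Groth.Agent.S10826

open MvPowerSeries

section
variable {R : Type*} [CommRing R] {n : ℕ}

theorem mem_I_of_constantCoeff_eq_zero
    (f : MvPowerSeries (Fin n) R) (hf : MvPowerSeries.constantCoeff f = 0) :
    f ∈ Ideal.span (Set.range (MvPowerSeries.X : Fin n → MvPowerSeries (Fin n) R)) := by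
  classical
  let g : ℕ → MvPowerSeries (Fin n) R := fun j m =>
    if ∀ i : Fin n, i.val < j → m i = 0 then MvPowerSeries.coeff m f else 0
  have hg0 : g 0 = f := by
    ext m
    change (if ∀ i : Fin n, i.val < 0 → m i = 0 then MvPowerSeries.coeff m f else 0) = _
    rw [if_pos]
    intro i hi
    exact absurd hi (Nat.not_lt_zero _)
  have hgd : g n = 0 := by
    ext m
    change (if ∀ i : Fin n, i.val < n → m i = 0 then MvPowerSeries.coeff m f else 0) = 0
    split_ifs with h
    · have hm : m = 0 := by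
        ext i
        exact h i i.2
      rw [hm, MvPowerSeries.coeff_zero_eq_constantCoeff_apply, hf]
    · rfl
  have hstep : ∀ j, j < n → g j - g (j + 1) ∈
      Ideal.span (Set.range (MvPowerSeries.X : Fin n → MvPowerSeries (Fin n) R)) := by
    intro j hj
    have hdvd : (MvPowerSeries.X (⟨j, hj⟩ : Fin n) : MvPowerSeries (Fin n) R) ∣ g j - g (j + 1) := by
      rw [MvPowerSeries.X_dvd_iff]
      intro m hm
      rw [map_sub]
      change (if ∀ i : Fin n, i.val < j → m i = 0 then MvPowerSeries.coeff m f else 0) -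
        (if ∀ i : Fin n, i.val < j + 1 → m i = 0 then MvPowerSeries.coeff m f else 0) = 0
      have hiff : (∀ i : Fin n, i.val < j + 1 → m i = 0) ↔ (∀ i : Fin n, i.val < j → m i = 0) := by
        constructor
        · intro h i hi
          exact h i (Nat.lt_succ_of_lt hi)
        · intro h i hi
          rcases Nat.lt_succ_iff_lt_or_eq.mp hi with h1 | h1
          · exact h i h1
          · have : i = ⟨j, hj⟩ := Fin.ext h1
            rw [this]; exact hm
      simp only [hiff, sub_self]
    exact Ideal.mem_of_dvd _ hdvd (Ideal.subset_span ⟨_, rfl⟩)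
  have hsum : f = ∑ j ∈ Finset.range n, (g j - g (j + 1)) := by
    rw [Finset.sum_range_sub', hg0, hgd, sub_zero]
  rw [hsum]
  exact Ideal.sum_mem _ fun j hj => hstep j (Finset.mem_range.mp hj)

theorem mem_I_sq
    (g : MvPowerSeries (Fin n) R) (h0 : MvPowerSeries.constantCoeff g = 0)
    (h1 : ∀ j, MvPowerSeries.coeff (Finsupp.single j 1) g = 0) :
    g ∈ (Ideal.span (Set.range (MvPowerSeries.X : Fin n → MvPowerSeries (Fin n) R))) ^ 2 := by
  classical
  obtain ⟨c, rfl⟩ := (Ideal.mem_span_range_iff_exists_fun).mp (mem_I_of_constantCoeff_eq_zero g h0)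
  have hc : ∀ j, MvPowerSeries.constantCoeff (c j) = 0 := by
    intro j
    have := h1 j
    rw [map_sum] at this
    rw [Finset.sum_eq_single j] at this
    · rw [MvPowerSeries.X_def, MvPowerSeries.coeff_mul_monomial, if_pos le_rfl, tsub_self,
        mul_one] at this
      exact this
    · intro i _ hij
      rw [MvPowerSeries.X_def, MvPowerSeries.coeff_mul_monomial, if_neg]
      intro hle
      have := hle i
      simp [hij] at this
    · intro h
      exact absurd (Finset.mem_univ j) h
  rw [pow_two]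
  apply Ideal.sum_mem
  intro i _
  exact Ideal.mul_mem_mul (mem_I_of_constantCoeff_eq_zero _ (hc i)) (Ideal.subset_span ⟨i, rfl⟩)

theorem constantCoeff_of_mem_I
    (f : MvPowerSeries (Fin n) R)
    (hf : f ∈ Ideal.span (Set.range (MvPowerSeries.X : Fin n → MvPowerSeries (Fin n) R))) :
    MvPowerSeries.constantCoeff f = 0 := by
  have hle : Ideal.span (Set.range (MvPowerSeries.X : Fin n → MvPowerSeries (Fin n) R)) ≤
      RingHom.ker (MvPowerSeries.constantCoeff (σ := Fin n) (R := R)) := by
    rw [Ideal.span_le]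
    rintro _ ⟨i, rfl⟩
    exact MvPowerSeries.constantCoeff_X i
  exact hle hf

theorem map_mem_I (θ : MvPowerSeries (Fin n) R →ₐ[R] MvPowerSeries (Fin n) R)
    (hθ : ∀ i, θ (X i) - X i ∈
      (Ideal.span (Set.range (X : Fin n → MvPowerSeries (Fin n) R))) ^ 2)
    (x : MvPowerSeries (Fin n) R)
    (hx : x ∈ Ideal.span (Set.range (X : Fin n → MvPowerSeries (Fin n) R))) :
    θ x ∈ Ideal.span (Set.range (X : Fin n → MvPowerSeries (Fin n) R)) := by
  induction hx using Submodule.span_induction with
  | mem y hy =>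
    obtain ⟨i, rfl⟩ := hy
    have h1 : θ (X i) = (θ (X i) - X i) + X i := by ring
    rw [h1]
    exact Ideal.add_mem _ (Ideal.pow_le_self two_ne_zero (hθ i)) (Ideal.subset_span ⟨i, rfl⟩)
  | zero => rw [map_zero]; exact Ideal.zero_mem _
  | add y z _ _ hy hz => rw [map_add]; exact Ideal.add_mem _ hy hz
  | smul s y _ hy => rw [smul_eq_mul, map_mul]; exact Ideal.mul_mem_left _ _ hy

theorem sub_mem_I (θ : MvPowerSeries (Fin n) R →ₐ[R] MvPowerSeries (Fin n) R)
    (hθ : ∀ i, θ (X i) - X i ∈
      (Ideal.span (Set.range (X : Fin n → MvPowerSeries (Fin n) R))) ^ 2)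
    (f : MvPowerSeries (Fin n) R) :
    θ f - f ∈ Ideal.span (Set.range (X : Fin n → MvPowerSeries (Fin n) R)) := by
  set c := MvPowerSeries.constantCoeff f with hc
  have h1 : f - algebraMap R _ c ∈ Ideal.span (Set.range (X : Fin n → MvPowerSeries (Fin n) R)) := by
    apply mem_I_of_constantCoeff_eq_zero
    rw [map_sub, MvPowerSeries.algebraMap_apply, MvPowerSeries.constantCoeff_C, hc]
    simp
  have h2 : θ f - f = θ (f - algebraMap R _ c) - (f - algebraMap R _ c) := by
    rw [map_sub, AlgHom.commutes]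
    ring
  rw [h2]
  exact Ideal.sub_mem _ (map_mem_I θ hθ _ h1) h1

theorem sub_mem_I_sq (θ : MvPowerSeries (Fin n) R →ₐ[R] MvPowerSeries (Fin n) R)
    (hθ : ∀ i, θ (X i) - X i ∈
      (Ideal.span (Set.range (X : Fin n → MvPowerSeries (Fin n) R))) ^ 2)
    (x : MvPowerSeries (Fin n) R)
    (hx : x ∈ Ideal.span (Set.range (X : Fin n → MvPowerSeries (Fin n) R))) :
    θ x - x ∈ (Ideal.span (Set.range (X : Fin n → MvPowerSeries (Fin n) R))) ^ 2 := by
  induction hx using Submodule.span_induction with
  | mem y hy =>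
    obtain ⟨i, rfl⟩ := hy
    exact hθ i
  | zero => rw [map_zero, sub_zero]; exact Ideal.zero_mem _
  | add y z _ _ hy hz =>
    have : θ (y + z) - (y + z) = (θ y - y) + (θ z - z) := by rw [map_add]; ring
    rw [this]
    exact Ideal.add_mem _ hy hz
  | smul s y hy' hy =>
    have : θ (s • y) - s • y = (θ s - s) * θ y + s * (θ y - y) := by
      rw [smul_eq_mul, map_mul]; ring
    rw [this, pow_two]
    exact Ideal.add_mem _ (Ideal.mul_mem_mul (sub_mem_I θ hθ s) (map_mem_I θ hθ _ hy'))
      (by rw [← pow_two]; exact Ideal.mul_mem_left _ _ hy)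

theorem sub_mem_I_pow (θ : MvPowerSeries (Fin n) R →ₐ[R] MvPowerSeries (Fin n) R)
    (hθ : ∀ i, θ (X i) - X i ∈
      (Ideal.span (Set.range (X : Fin n → MvPowerSeries (Fin n) R))) ^ 2)
    (k : ℕ) (f : MvPowerSeries (Fin n) R)
    (hf : f ∈ (Ideal.span (Set.range (X : Fin n → MvPowerSeries (Fin n) R))) ^ k) :
    θ f - f ∈ (Ideal.span (Set.range (X : Fin n → MvPowerSeries (Fin n) R))) ^ (k + 1) := by
  induction k generalizing f with
  | zero =>
    rw [zero_add, pow_one]
    exact sub_mem_I θ hθ f
  | succ k ih =>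
    rw [pow_succ] at hf
    refine Submodule.smul_induction_on hf ?_ ?_
    · intro g hg x hx
      have : θ (g • x) - g • x = (θ g - g) * θ x + g * (θ x - x) := by
        rw [smul_eq_mul, map_mul]; ring
      rw [this]
      apply Ideal.add_mem
      · rw [pow_succ (n := k + 1)]
        exact Ideal.mul_mem_mul (ih g hg) (map_mem_I θ hθ x hx)
      · have h2 : k + 1 + 1 = k + 2 := rfl
        rw [h2, pow_add]
        exact Ideal.mul_mem_mul hg (sub_mem_I_sq θ hθ x hx)
    · intro y z hy hz
      have : θ (y + z) - (y + z) = (θ y - y) + (θ z - z) := by rw [map_add]; ring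
      rw [this]
      exact Ideal.add_mem _ hy hz

theorem map_mem_I_pow (θ : MvPowerSeries (Fin n) R →ₐ[R] MvPowerSeries (Fin n) R)
    (hθ : ∀ i, θ (X i) - X i ∈
      (Ideal.span (Set.range (X : Fin n → MvPowerSeries (Fin n) R))) ^ 2)
    (k : ℕ) (f : MvPowerSeries (Fin n) R)
    (hf : f ∈ (Ideal.span (Set.range (X : Fin n → MvPowerSeries (Fin n) R))) ^ k) :
    θ f ∈ (Ideal.span (Set.range (X : Fin n → MvPowerSeries (Fin n) R))) ^ k := by
  have h1 : θ f = (θ f - f) + f := by ring
  rw [h1]
  exact Ideal.add_mem _ (Ideal.pow_le_pow_right (Nat.le_succ k) (sub_mem_I_pow θ hθ k f hf)) hf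


theorem bijective_of_jac_one (θ : MvPowerSeries (Fin n) R →ₐ[R] MvPowerSeries (Fin n) R)
    (hθ : ∀ i, θ (X i) - X i ∈
      (Ideal.span (Set.range (X : Fin n → MvPowerSeries (Fin n) R))) ^ 2) :
    Function.Bijective θ := by
  set I := Ideal.span (Set.range (X : Fin n → MvPowerSeries (Fin n) R)) with hI
  have hcomp : IsAdicComplete I (MvPowerSeries (Fin n) R) := inferInstance
  have hIpow : ∀ k, (I ^ k • ⊤ : Submodule (MvPowerSeries (Fin n) R) (MvPowerSeries (Fin n) R)) =
      I ^ k := by
    intro k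
    rw [smul_eq_mul, Ideal.mul_top]
  constructor
  · rw [injective_iff_map_eq_zero]
    intro f hf
    have hk : ∀ k, f ∈ I ^ k := by
      intro k
      induction k with
      | zero => rw [pow_zero, Ideal.one_eq_top]; trivial
      | succ k ih =>
        have := sub_mem_I_pow θ hθ k f ih
        rw [hf, zero_sub] at this
        exact (Ideal.neg_mem_iff _).mp this
    apply IsHausdorff.haus hcomp.toIsHausdorff
    intro k
    rw [SModEq.zero, hIpow]
    exact hk k
  · intro g
    let r : ℕ → MvPowerSeries (Fin n) R := fun k => Nat.rec g (fun _ prev => prev - θ prev) k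
    have hr0 : r 0 = g := rfl
    have hrs : ∀ k, r (k + 1) = r k - θ (r k) := fun k => rfl
    have hrk : ∀ k, r k ∈ I ^ k := by
      intro k
      induction k with
      | zero => rw [pow_zero, Ideal.one_eq_top]; trivial
      | succ k ih =>
        rw [hrs, ← neg_sub]
        exact neg_mem (sub_mem_I_pow θ hθ k _ ih)
    let s : ℕ → MvPowerSeries (Fin n) R := fun N => ∑ k ∈ Finset.range N, r k
    have hθs : ∀ N, θ (s N) = g - r N := by
      intro N
      change θ (∑ k ∈ Finset.range N, r k) = _
      rw [map_sum]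
      have : ∀ k ∈ Finset.range N, θ (r k) = r k - r (k + 1) := by
        intro k _
        rw [hrs]
        ring
      rw [Finset.sum_congr rfl this, Finset.sum_range_sub', hr0]
    have hcauchy : ∀ {m N : ℕ}, m ≤ N → s m ≡ s N [SMOD (I ^ m • ⊤ :
        Submodule (MvPowerSeries (Fin n) R) (MvPowerSeries (Fin n) R))] := by
      intro m N hmN
      rw [SModEq.sub_mem, hIpow, ← Ideal.neg_mem_iff, neg_sub]
      change ∑ k ∈ Finset.range N, r k - ∑ k ∈ Finset.range m, r k ∈ I ^ m
      rw [← Finset.sum_sdiff (Finset.range_mono hmN), add_sub_cancel_right]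
      apply Ideal.sum_mem
      intro k hk
      rw [Finset.mem_sdiff, Finset.mem_range, Finset.mem_range, not_lt] at hk
      exact Ideal.pow_le_pow_right hk.2 (hrk k)
    obtain ⟨L, hL⟩ := IsPrecomplete.prec hcomp.toIsPrecomplete hcauchy
    refine ⟨L, ?_⟩
    rw [← sub_eq_zero]
    apply IsHausdorff.haus hcomp.toIsHausdorff
    intro N
    rw [SModEq.zero, hIpow]
    have h1 := hL N
    rw [SModEq.sub_mem, hIpow] at h1
    have h2 : θ L - g = -(θ (s N - L)) - r N := by
      rw [map_sub, hθs]
      ring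
    rw [h2]
    exact Ideal.sub_mem _ (neg_mem (map_mem_I_pow θ hθ N _ h1)) (hrk N)


noncomputable def lin (M : Matrix (Fin n) (Fin n) R) :
    MvPowerSeries (Fin n) R →ₐ[R] MvPowerSeries (Fin n) R :=
  MvPowerSeries.substAlgHom (a := fun i => ∑ j, M i j • (X j : MvPowerSeries (Fin n) R))
    (hasSubst_of_constantCoeff_zero (by
      intro i
      rw [map_sum]
      apply Finset.sum_eq_zero
      intro j _
      rw [MvPowerSeries.constantCoeff_smul, MvPowerSeries.constantCoeff_X, smul_zero]))

theorem lin_X (M : Matrix (Fin n) (Fin n) R) (i : Fin n) :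
    lin M (X i) = ∑ j, M i j • (X j : MvPowerSeries (Fin n) R) :=
  substAlgHom_X _ i

theorem lin_comp_lin_X (M N : Matrix (Fin n) (Fin n) R) (h : N * M = 1) (i : Fin n) :
    ((lin M).comp (lin N)) (X i) = X i := by
  classical
  rw [AlgHom.comp_apply, lin_X, map_sum]
  simp only [map_smul, lin_X, Finset.smul_sum, smul_smul]
  rw [Finset.sum_comm]
  simp only [← Finset.sum_smul]
  have : ∀ k, ∑ j, N i j * M j k = (1 : Matrix (Fin n) (Fin n) R) i k := by
    intro k
    rw [← h, Matrix.mul_apply]
  simp only [this, Matrix.one_apply, ite_smul, one_smul, zero_smul, Finset.sum_ite_eq,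
    Finset.mem_univ, if_true]

end

/-- Let R be a commutative ring, n ≥ 1, and φ an R-algebra homomorphism from the power series ring in n
variables over R to itself that sends each variable to a power series without constant term. If the
Jacobian matrix at the origin, whose (i, j) entry is the coefficient of X_j in φ(X_i), has
invertible determinant in R, then φ is an isomorphism (bijective). -/
theorem result
    (R : Type*) [CommRing R] (n : ℕ) (hn : 1 ≤ n)
    (φ : MvPowerSeries (Fin n) R →ₐ[R] MvPowerSeries (Fin n) R)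
    (h0 : ∀ i, MvPowerSeries.constantCoeff (φ (MvPowerSeries.X i)) = 0)
    (hJ : IsUnit (Matrix.det (Matrix.of fun i j : Fin n =>
      MvPowerSeries.coeff (Finsupp.single j 1) (φ (MvPowerSeries.X i))))) :
    Function.Bijective φ := by
  classical
  set J : Matrix (Fin n) (Fin n) R := Matrix.of fun i j : Fin n =>
      MvPowerSeries.coeff (Finsupp.single j 1) (φ (MvPowerSeries.X i)) with hJdef
  have hJJ1 : J * J⁻¹ = 1 := Matrix.mul_nonsing_inv J hJ
  have hJJ2 : J⁻¹ * J = 1 := Matrix.nonsing_inv_mul J hJ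
  have hθ : ∀ i, (φ.comp (lin J⁻¹)) (X i) - X i ∈
      (Ideal.span (Set.range (X : Fin n → MvPowerSeries (Fin n) R))) ^ 2 := by
    intro i
    apply mem_I_sq
    · rw [AlgHom.comp_apply, lin_X, map_sum, map_sub, map_sum, MvPowerSeries.constantCoeff_X,
        sub_zero]
      apply Finset.sum_eq_zero
      intro j _
      rw [map_smul, MvPowerSeries.constantCoeff_smul, h0, smul_zero]
    · intro k
      rw [AlgHom.comp_apply, lin_X, map_sum, map_sub, map_sum, MvPowerSeries.coeff_index_single_X]
      have h1 : ∀ j, MvPowerSeries.coeff (Finsupp.single k 1) (φ (J⁻¹ i j • X j)) =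
          J⁻¹ i j * J j k := by
        intro j
        rw [map_smul, map_smul, smul_eq_mul, hJdef, Matrix.of_apply]
      simp only [h1]
      rw [← Matrix.mul_apply, hJJ2, Matrix.one_apply]
      by_cases hik : i = k
      · subst hik
        simp
      · rw [if_neg hik, if_neg (Ne.symm hik), sub_zero]
  have hθbij := bijective_of_jac_one (φ.comp (lin J⁻¹)) hθ
  have hθ2 : ∀ i, ((lin J⁻¹).comp (lin J)) (X i) - X i ∈
      (Ideal.span (Set.range (X : Fin n → MvPowerSeries (Fin n) R))) ^ 2 := by
    intro i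
    rw [lin_comp_lin_X _ _ hJJ1, sub_self]
    exact Ideal.zero_mem _
  have hθ2bij := bijective_of_jac_one ((lin J⁻¹).comp (lin J)) hθ2
  have hψsurj : Function.Surjective (lin (J⁻¹ : Matrix (Fin n) (Fin n) R)) := by
    intro y
    obtain ⟨z, hz⟩ := hθ2bij.2 y
    exact ⟨lin J z, hz⟩
  constructor
  · intro f f' hff'
    obtain ⟨u, rfl⟩ := hψsurj f
    obtain ⟨u', rfl⟩ := hψsurj f'
    have : u = u' := hθbij.1 hff'
    rw [this]
  · intro y
    obtain ⟨z, hz⟩ := hθbij.2 y
    exact ⟨lin J⁻¹ z, hz⟩

end Groth.Agent.S10826
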