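import Groth.Statements.S10827
import Groth.Agent.Lib.Helper18.Bez3

set_option autoImplicit false
universe u
open Variety

namespace Groth.Agent.S10827

open MvPolynomial Groth.Agent.Lib.Helper18.Bez Groth.Agent.Lib.Helper90.HomogSection

variable {k : Type u} [Field k]

noncomputable def psi (J : Ideal (MvPolynomial (Fin 2) k)) :
    MvPolynomial (Fin 3) k →ₗ[k] (MvPolynomial (Fin 2) k ⧸ J) :=
  (Ideal.Quotient.mkₐ k J).toLinearMap.comp (phi (k := k) 1).toLinearMap

theorem psi_apply (J : Ideal (MvPolynomial (Fin 2) k)) (h : MvPolynomial (Fin 3) k) :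
    psi J h = Ideal.Quotient.mk J (phi 1 h) := rfl

noncomputable def WW (J : Ideal (MvPolynomial (Fin 2) k)) (d : ℕ) :
    Submodule k (MvPolynomial (Fin 2) k ⧸ J) :=
  (homogeneousSubmodule (Fin 3) k d).map (psi J)

theorem WW_mono_succ (J : Ideal (MvPolynomial (Fin 2) k)) (d : ℕ) : WW J d ≤ WW J (d + 1) := by
  rintro _ ⟨h, hh, rfl⟩
  refine ⟨X 2 * h, ?_, ?_⟩
  · have : (X 2 * h).IsHomogeneous (1 + d) := (isHomogeneous_X k (2 : Fin 3)).mul hh
    rw [add_comm] at this
    exact this
  · rw [psi_apply, psi_apply, map_mul, phi_X2, one_mul]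

theorem WW_mono (J : Ideal (MvPolynomial (Fin 2) k)) {d e : ℕ} (hde : d ≤ e) : WW J d ≤ WW J e := by
  induction e, hde using Nat.le_induction with
  | base => exact le_rfl
  | succ e _ ih => exact ih.trans (WW_mono_succ J e)

instance (J : Ideal (MvPolynomial (Fin 2) k)) (d : ℕ) : Module.Finite k ↥(WW J d) := by
  unfold WW
  infer_instance

theorem finrank_WW (f g : MvPolynomial (Fin 3) k) (n m : ℕ) (hf : f.IsHomogeneous n) (hg : g.IsHomogeneous m)
    (hn : 0 < n) (hm : 0 < m) (hf0 : f ≠ 0) (hg0 : g ≠ 0) (hfg : IsRelPrime f g)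
    (hT : IsRelPrime (phi 0 f) (phi 0 g)) (d : ℕ) (hd : n + m ≤ d) :
    Module.finrank k ↥(WW (Ideal.span ({phi 1 f, phi 1 g} : Set (MvPolynomial (Fin 2) k))) d) = n * m := by
  set J := Ideal.span ({phi 1 f, phi 1 g} : Set (MvPolynomial (Fin 2) k)) with hJ
  set I := Ideal.span ({f, g} : Set (MvPolynomial (Fin 3) k)) with hI
  have hker : LinearMap.ker ((psi J).domRestrict (homogeneousSubmodule (Fin 3) k d))
      = Submodule.comap (homogeneousSubmodule (Fin 3) k d).subtype (I.restrictScalars k) := by
    ext ⟨x, hx⟩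
    rw [LinearMap.mem_ker, LinearMap.domRestrict_apply, Submodule.mem_comap, Submodule.subtype_apply,
      Submodule.restrictScalars_mem, psi_apply, Ideal.Quotient.eq_zero_iff_mem]
    constructor
    · intro h1
      exact mem_of_phi_mem f g n m hf hg hn hm hT d x hx h1
    · intro h1
      rw [hI, Ideal.mem_span_pair] at h1
      obtain ⟨a, b, rfl⟩ := h1
      rw [map_add, map_mul, map_mul]
      exact Ideal.add_mem _ (Ideal.mul_mem_left _ _ (Ideal.subset_span (by simp)))
        (Ideal.mul_mem_left _ _ (Ideal.subset_span (by simp)))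
  have hrange : LinearMap.range ((psi J).domRestrict (homogeneousSubmodule (Fin 3) k d)) = WW J d := by
    unfold WW
    rw [LinearMap.range_domRestrict]
  have e := ((psi J).domRestrict (homogeneousSubmodule (Fin 3) k d)).quotKerEquivRange
  rw [hker, hrange] at e
  rw [← e.finrank_eq]
  have h1 := finrank_quot_eq_hilb I d
  rw [hilb_ci f g n m hf hg hf0 hg0 hfg d hd] at h1
  exact_mod_cast h1

theorem WW_exhaust (J : Ideal (MvPolynomial (Fin 2) k)) (x : MvPolynomial (Fin 2) k ⧸ J) :
    ∃ e, x ∈ WW J e := by
  obtain ⟨p, rfl⟩ := Ideal.Quotient.mk_surjective x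
  refine ⟨p.totalDegree, Hom p.totalDegree p, Hom_isHomogeneous _ p, ?_⟩
  rw [psi_apply, phi_one_Hom _ p le_rfl]

/-- Let k be a field and f, g nonzero homogeneous polynomials of positive degrees n and m in three
variables X, Y, T without common non-unit factor, and assume that f(X, Y, 0) and g(X, Y, 0) are also
without common non-unit factor in k[X, Y] (no common point of the two curves lies on the line T =
0). Then the quotient of k[X, Y] by the ideal generated by f(X, Y, 1) and g(X, Y, 1) has dimension
n·m over k. (The published statement is that two plane curves without common component have total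
intersection number equal to the product of their degrees; its argument moves a line off the
finitely many common points and then proves exactly this affine count, which is what this row
states, over an arbitrary field.) -/
theorem result (k : Type u) [Field k] (n m : ℕ)
    (f g : MvPolynomial (Fin 3) k) (hf : f.IsHomogeneous n) (hg : g.IsHomogeneous m)
    (hn : 0 < n) (hm : 0 < m) (hf0 : f ≠ 0) (hg0 : g ≠ 0) (hfg : IsRelPrime f g)
    (hT : IsRelPrime
      (MvPolynomial.aeval (Fin.cons (MvPolynomial.X 0) (Fin.cons (MvPolynomial.X 1)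
        (Fin.cons 0 Fin.elim0)) : Fin 3 → MvPolynomial (Fin 2) k) f)
      (MvPolynomial.aeval (Fin.cons (MvPolynomial.X 0) (Fin.cons (MvPolynomial.X 1)
        (Fin.cons 0 Fin.elim0)) : Fin 3 → MvPolynomial (Fin 2) k) g)) :
    Module.finrank k (MvPolynomial (Fin 2) k ⧸ Ideal.span
      ({MvPolynomial.aeval (Fin.cons (MvPolynomial.X 0) (Fin.cons (MvPolynomial.X 1)
          (Fin.cons 1 Fin.elim0)) : Fin 3 → MvPolynomial (Fin 2) k) f,
        MvPolynomial.aeval (Fin.cons (MvPolynomial.X 0) (Fin.cons (MvPolynomial.X 1)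
          (Fin.cons 1 Fin.elim0)) : Fin 3 → MvPolynomial (Fin 2) k) g} :
        Set (MvPolynomial (Fin 2) k))) = n * m := by
  set J := Ideal.span ({phi 1 f, phi 1 g} : Set (MvPolynomial (Fin 2) k)) with hJ
  show Module.finrank k (MvPolynomial (Fin 2) k ⧸ J) = n * m
  have htop : (⊤ : Submodule k (MvPolynomial (Fin 2) k ⧸ J)) = WW J (n + m) := by
    apply le_antisymm
    · intro x _
      obtain ⟨e, he⟩ := WW_exhaust J x
      have he' : x ∈ WW J (e + (n + m)) := WW_mono J (Nat.le_add_right e (n + m)) he
      have heq : WW J (n + m) = WW J (e + (n + m)) := by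
        apply Submodule.eq_of_le_of_finrank_eq (WW_mono J (Nat.le_add_left (n + m) e))
        rw [finrank_WW f g n m hf hg hn hm hf0 hg0 hfg hT (n + m) le_rfl,
          finrank_WW f g n m hf hg hn hm hf0 hg0 hfg hT (e + (n + m)) (Nat.le_add_left (n + m) e)]
      rw [heq]
      exact he'
    · exact le_top
  rw [← finrank_top k (MvPolynomial (Fin 2) k ⧸ J), htop]
  exact finrank_WW f g n m hf hg hn hm hf0 hg0 hfg hT (n + m) le_rfl

end Groth.Agent.S10827
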