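import Groth.Statements.S10828
import Mathlib

set_option autoImplicit false
set_option linter.style.haveILetI false
universe u
open CategoryTheory AlgebraicGeometry
open Variety

namespace Groth.Agent.S10828

open CategoryTheory.Limits TopologicalSpace Opposite

/-- Two `k`-embeddings of an algebraic extension `κ` into an algebraic closure `K` of `k` differ by
a `k`-automorphism of `K`. -/
theorem exists_algEquiv_comp_eq {k κ K : Type u} [Field k] [Field κ] [Field K] [Algebra k κ]
    [Algebra k K] [IsAlgClosure k K] (φ₁ φ₂ : κ →ₐ[k] K) :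
    ∃ σ : K ≃ₐ[k] K, ∀ a : κ, σ (φ₁ a) = φ₂ a := by
  haveI : IsAlgClosed K := IsAlgClosure.isAlgClosed k
  haveI : Algebra.IsAlgebraic k K := IsAlgClosure.isAlgebraic
  letI : Algebra κ K := φ₁.toRingHom.toAlgebra
  haveI : IsScalarTower k κ K := IsScalarTower.of_algebraMap_eq fun a => (φ₁.commutes a).symm
  haveI : Algebra.IsAlgebraic κ K := Algebra.IsAlgebraic.tower_top (K := k) κ
  obtain ⟨σ₀, hσ₀⟩ := IsAlgClosed.surjective_domRestrict_of_isAlgebraic (K := k) (L := κ) (M := K)
    (E := K) φ₂
  have hbij : Function.Bijective σ₀ := Algebra.IsAlgebraic.algHom_bijective σ₀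
  refine ⟨AlgEquiv.ofBijective σ₀ hbij, fun a => ?_⟩
  have := congrArg (fun g : κ →ₐ[k] K => g a) hσ₀
  exact this


section Main
variable {k K : Type u} [Field k] [Field K] [Algebra k K] {X : Scheme.{u}}
  (f : X ⟶ Spec (CommRingCat.of k))

/-- The structure map `k → κ(x)`. -/
noncomputable abbrev strMap (x : X) : CommRingCat.of k ⟶ X.residueField x :=
  Spec.preimage (X.fromSpecResidueField x ≫ f)

theorem comp_eq_iff (x : X) (φ : X.residueField x ⟶ CommRingCat.of K) :
    (Spec.map φ ≫ X.fromSpecResidueField x) ≫ f = Spec.map (CommRingCat.ofHom (algebraMap k K)) ↔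
      strMap f x ≫ φ = CommRingCat.ofHom (algebraMap k K) := by
  rw [Category.assoc, ← Spec.map_preimage (X.fromSpecResidueField x ≫ f), ← Spec.map_comp]
  exact Spec.map_inj

theorem eq_of_point (p : Spec (CommRingCat.of K) ⟶ X) :
    Spec.map ((Scheme.SpecToEquivOfField K X p).2) ≫
      X.fromSpecResidueField (p.base (IsLocalRing.closedPoint K)) = p :=
  (Scheme.SpecToEquivOfField K X).symm_apply_apply p

theorem isClosed_of_point [IsAlgClosure k K] [LocallyOfFiniteType f]
    (p : Spec (CommRingCat.of K) ⟶ X)
    (hp : p ≫ f = Spec.map (CommRingCat.ofHom (algebraMap k K))) :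
    IsClosed ({p.base (IsLocalRing.closedPoint K)} : Set X) := by
  haveI : Algebra.IsAlgebraic k K := IsAlgClosure.isAlgebraic
  haveI : JacobsonSpace X := LocallyOfFiniteType.jacobsonSpace f
  set x := p.base (IsLocalRing.closedPoint K) with hx
  obtain ⟨V, hV, hxV, -⟩ := exists_isAffineOpen_mem_and_subset (X := X) (U := ⊤) (x := x) (by simp)
  haveI : IsAffine V.toScheme := hV
  have hall : ∀ t : Spec (CommRingCat.of K), t = IsLocalRing.closedPoint K := fun t =>
    Subsingleton.elim _ _
  have hrange : Set.range p.base ⊆ Set.range V.ι.base := by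
    rintro _ ⟨t, rfl⟩
    rw [hall t, Scheme.Opens.range_ι]
    exact hxV
  let p' : Spec (CommRingCat.of K) ⟶ V.toScheme := IsOpenImmersion.lift V.ι p hrange
  have hp' : p' ≫ V.ι = p := IsOpenImmersion.lift_fac _ _ _
  haveI hint : IsIntegralHom (Spec.map (CommRingCat.ofHom (algebraMap k K))) := by
    rw [IsIntegralHom.SpecMap_iff]
    exact algebraMap_isIntegral_iff.2 inferInstance
  haveI : UniversallyClosed (p' ≫ (V.ι ≫ f)) := by
    rw [← Category.assoc, hp', hp]
    infer_instance
  haveI : UniversallyClosed p' := UniversallyClosed.of_comp_of_isSeparated p' (V.ι ≫ f)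
  have hcl : IsClosed (Set.range p'.base) := p'.isClosedMap.isClosed_range
  have hr : Set.range p'.base = {p'.base (IsLocalRing.closedPoint K)} := by
    ext y
    constructor
    · rintro ⟨t, rfl⟩
      rw [hall t]; rfl
    · rintro rfl
      exact ⟨_, rfl⟩
  rw [hr] at hcl
  apply isClosed_singleton_of_isLocallyClosed_singleton
  have himg : ({x} : Set X) = V.ι.base '' {p'.base (IsLocalRing.closedPoint K)} := by
    rw [Set.image_singleton]
    congr 1
    rw [hx, ← hp']
    rfl
  rw [himg]
  exact hcl.isLocallyClosed.image V.ι.isOpenEmbedding.isInducing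
    V.ι.isOpenEmbedding.isOpen_range.isLocallyClosed

theorem exists_point_of_isClosed [IsAlgClosure k K] [LocallyOfFiniteType f] (x : X)
    (hx : IsClosed ({x} : Set X)) :
    ∃ p : Spec (CommRingCat.of K) ⟶ X, p ≫ f = Spec.map (CommRingCat.ofHom (algebraMap k K)) ∧
      p.base (IsLocalRing.closedPoint K) = x := by
  haveI : IsAlgClosed K := IsAlgClosure.isAlgClosed k
  haveI h1 : IsClosedImmersion (X.fromSpecResidueField x) :=
    isClosed_singleton_iff_isClosedImmersion.mp hx
  have h2 : IsFinite (X.fromSpecResidueField x ≫ f) := by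
    rw [isFinite_iff_locallyOfFiniteType_of_jacobsonSpace]
    infer_instance
  have h3 : (strMap f x).hom.Finite := by
    rw [← IsFinite.SpecMap_iff, Spec.map_preimage]
    exact h2
  letI : Algebra k (X.residueField x) := (strMap f x).hom.toAlgebra
  haveI : Module.Finite k (X.residueField x) := h3
  haveI : Algebra.IsAlgebraic k (X.residueField x) := Algebra.IsAlgebraic.of_finite k _
  let φ₀ : X.residueField x →ₐ[k] K := IsAlgClosed.lift
  refine ⟨Spec.map (CommRingCat.ofHom φ₀.toRingHom) ≫ X.fromSpecResidueField x, ?_, ?_⟩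
  · rw [comp_eq_iff]
    ext a
    exact φ₀.commutes a
  · rw [Scheme.Hom.comp_base]
    exact Scheme.fromSpecResidueField_apply x
      ((Spec.map (CommRingCat.ofHom φ₀.toRingHom)).base (IsLocalRing.closedPoint K))

theorem exists_sigma [IsAlgClosure k K] (x : X) (φ ψ : X.residueField x ⟶ CommRingCat.of K)
    (hφ : strMap f x ≫ φ = CommRingCat.ofHom (algebraMap k K))
    (hψ : strMap f x ≫ ψ = CommRingCat.ofHom (algebraMap k K)) :
    ∃ σ : K ≃ₐ[k] K, Spec.map ψ ≫ X.fromSpecResidueField x =
      Spec.map (CommRingCat.ofHom σ.toRingHom) ≫ Spec.map φ ≫ X.fromSpecResidueField x := by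
  letI : Algebra k (X.residueField x) := (strMap f x).hom.toAlgebra
  let φ₁ : X.residueField x →ₐ[k] K :=
    { φ.hom with
      commutes' := fun a => by
        have := congrArg (fun g => g.hom a) hφ
        exact this }
  let φ₂ : X.residueField x →ₐ[k] K :=
    { ψ.hom with
      commutes' := fun a => by
        have := congrArg (fun g => g.hom a) hψ
        exact this }
  obtain ⟨σ, hσ⟩ := exists_algEquiv_comp_eq φ₁ φ₂
  refine ⟨σ, ?_⟩
  rw [← Category.assoc, ← Spec.map_comp]
  congr 2
  ext a
  exact (hσ a).symm

end Main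


/-- Let k be a field, K an algebraic closure of k with its group G of k-automorphisms, and X a k-scheme
locally of finite type. The map sending a K-valued point of X over k to its image point identifies
the closed points of X with the G-orbits in X(K): a point is closed if and only if it is the image
of some K-valued point, and two K-valued points have the same image if and only if one is obtained
from the other by composing with Spec of a k-automorphism of K. -/
theorem result (k K : Type u) [Field k] [Field K]
    [Algebra k K] [IsAlgClosure k K] {X : Scheme.{u}} (f : X ⟶ Spec (CommRingCat.of k))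
    [LocallyOfFiniteType f] :
    (∀ x : X, IsClosed ({x} : Set X) ↔
        ∃ p : Spec (CommRingCat.of K) ⟶ X, p ≫ f = Spec.map (CommRingCat.ofHom (algebraMap k K)) ∧
          p.base (IsLocalRing.closedPoint K) = x) ∧
      ∀ p q : Spec (CommRingCat.of K) ⟶ X,
        p ≫ f = Spec.map (CommRingCat.ofHom (algebraMap k K)) →
        q ≫ f = Spec.map (CommRingCat.ofHom (algebraMap k K)) →
          (p.base (IsLocalRing.closedPoint K) = q.base (IsLocalRing.closedPoint K) ↔
            ∃ σ : K ≃ₐ[k] K, q = Spec.map (CommRingCat.ofHom σ.toRingHom) ≫ p) := by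
  refine ⟨fun x => ⟨fun hx => exists_point_of_isClosed f x hx, ?_⟩, ?_⟩
  · rintro ⟨p, hp, rfl⟩
    exact isClosed_of_point f p hp
  · intro p q hp hq
    constructor
    · intro h
      have key : ∀ (x y : X) (e : x = y) (φ : X.residueField x ⟶ CommRingCat.of K)
          (ψ : X.residueField y ⟶ CommRingCat.of K),
          (Spec.map φ ≫ X.fromSpecResidueField x) ≫ f =
            Spec.map (CommRingCat.ofHom (algebraMap k K)) →
          (Spec.map ψ ≫ X.fromSpecResidueField y) ≫ f =
            Spec.map (CommRingCat.ofHom (algebraMap k K)) →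
          ∃ σ : K ≃ₐ[k] K, Spec.map ψ ≫ X.fromSpecResidueField y =
            Spec.map (CommRingCat.ofHom σ.toRingHom) ≫ Spec.map φ ≫ X.fromSpecResidueField x := by
        rintro x _ rfl φ ψ h1 h2
        rw [comp_eq_iff] at h1 h2
        exact exists_sigma f x φ ψ h1 h2
      obtain ⟨σ, hσ⟩ := key _ _ h (Scheme.SpecToEquivOfField K X p).2
        (Scheme.SpecToEquivOfField K X q).2 ((congrArg (· ≫ f) (eq_of_point p)).trans hp)
        ((congrArg (· ≫ f) (eq_of_point q)).trans hq)
      refine ⟨σ, ?_⟩
      calc q = _ := (eq_of_point q).symm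
        _ = _ := hσ
        _ = _ := congrArg (Spec.map (CommRingCat.ofHom σ.toRingHom) ≫ ·) (eq_of_point p)
    · rintro ⟨σ, rfl⟩
      rw [Scheme.Hom.comp_base]
      have : (Spec.map (CommRingCat.ofHom σ.toRingHom)).base (IsLocalRing.closedPoint K) =
          IsLocalRing.closedPoint K := Subsingleton.elim _ _
      exact (congrArg p.base this).symm

end Groth.Agent.S10828
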