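import Groth.Statements.S10829
import Mathlib
import Groth.Agent.Lib.Helper93.ProjDimC

set_option autoImplicit false
universe u
open AlgebraicGeometry
open Variety

namespace Groth.Agent.S10829

open Groth.Agent.Lib.Helper93.ProjDim

/-- For a field k and a natural number n, projective n-space over k (Proj of the polynomial ring in n +
1 variables graded by degree) has Krull dimension n as a topological space. (The published statement
also gives affine n-space dimension n; that half is the Krull dimension of a polynomial ring and is
not restated here.) -/
theorem result (k : Type u) [Field k] (n : ℕ) :
    topologicalKrullDim ↥(CohB1.ProjSpace n k) = (n : WithBot ℕ∞) := by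
  change topologicalKrullDim (ProjectiveSpectrum (CohB1.polyGrading n k)) = _
  rw [topologicalKrullDim_univ pdim (pdim_anti n k) (pdim_step n k)]
  apply le_antisymm
  · refine iSup_le fun z => ?_
    exact_mod_cast pdim_le n k z
  · have h := le_iSup (fun z : ProjectiveSpectrum (CohB1.polyGrading n k) =>
      ((pdim z : ℕ) : WithBot ℕ∞)) (zeroPt n k)
    simp only [pdim_zeroPt] at h
    exact h

end Groth.Agent.S10829
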