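import Groth.Statements.S10830
-- import your own Groth.Agent.* helpers here

set_option autoImplicit false
universe u
open Topology TopologicalSpace
open TopDim

namespace Groth.Agent.S10830

/-- In an irreducible topological space X of finite Krull dimension, every proper closed subset Y has
strictly smaller Krull dimension than X. -/
theorem result (X : Type u) [TopologicalSpace X]
    [IrreducibleSpace X] (hfin : topologicalKrullDim X ≠ ⊤) (Y : Set X) (hY : IsClosed Y) (hYX : Y ≠ Set.univ) :
    topologicalKrullDim ↥Y < topologicalKrullDim X := by
  classical
  have hsub : IsInducing (Subtype.val : Y → X) := IsInducing.subtypeVal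
  have hcl : IsClosedEmbedding (Subtype.val : Y → X) := hY.isClosedEmbedding_subtypeVal
  let top : IrreducibleCloseds X :=
    ⟨Set.univ, (IrreducibleSpace.isIrreducible_univ X), isClosed_univ⟩
  let g : IrreducibleCloseds Y → IrreducibleCloseds X :=
    IrreducibleCloseds.map Subtype.val hsub.continuous
  have hg : StrictMono g := IrreducibleCloseds.map_strictMono_of_isInducing hsub
  have hlt : ∀ Z : IrreducibleCloseds Y, g Z < top := by
    intro Z
    have hsubY : (g Z : Set X) ⊆ Y := by
      change closure (Subtype.val '' (Z : Set Y)) ⊆ Y
      apply closure_minimal _ hY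
      rintro _ ⟨y, _, rfl⟩
      exact y.2
    refine lt_of_le_of_ne (fun x _ => Set.mem_univ x) ?_
    intro h
    apply hYX
    apply Set.eq_univ_of_univ_subset
    have : (g Z : Set X) = Set.univ := congrArg (fun W : IrreducibleCloseds X => (W : Set X)) h
    rw [← this]
    exact hsubY
  let G : WithTop (IrreducibleCloseds Y) → IrreducibleCloseds X := fun z =>
    match z with
    | ⊤ => top
    | (Z : IrreducibleCloseds Y) => g Z
  have hG : StrictMono G := by
    intro a b hab
    induction a with
    | top => exact absurd hab (not_top_lt)
    | coe a =>
      induction b with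
      | top => exact hlt a
      | coe b => exact hg (WithTop.coe_lt_coe.mp hab)
  by_cases hne : Nonempty (IrreducibleCloseds Y)
  · have h1 := Order.krullDim_le_of_strictMono G hG
    rw [Order.krullDim_WithTop] at h1
    change Order.krullDim (IrreducibleCloseds Y) < Order.krullDim (IrreducibleCloseds X)
    change Order.krullDim (IrreducibleCloseds X) ≠ ⊤ at hfin
    have hnb : Order.krullDim (IrreducibleCloseds Y) ≠ ⊥ := Order.krullDim_ne_bot_iff.mpr hne
    generalize Order.krullDim (IrreducibleCloseds X) = a at *
    generalize Order.krullDim (IrreducibleCloseds Y) = b at *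
    induction a with
    | bot =>
      simp at h1
      exact absurd h1 hnb
    | coe a =>
      induction b with
      | bot => exact absurd rfl hnb
      | coe b =>
        have hfin' : a ≠ ⊤ := fun h => hfin (by rw [h]; rfl)
        norm_cast at h1 ⊢
        exact lt_of_lt_of_le (ENat.lt_add_one_iff (fun h => hfin' (by rw [h] at h1; simpa using h1)) |>.mpr le_rfl) h1
  · rw [not_nonempty_iff] at hne
    change Order.krullDim (IrreducibleCloseds Y) < Order.krullDim (IrreducibleCloseds X)
    rw [Order.krullDim_eq_bot]
    have : Nonempty (IrreducibleCloseds X) := ⟨top⟩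
    exact Order.bot_lt_krullDim

end Groth.Agent.S10830
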