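import Groth.Statements.S10831
-- import your own Groth.Agent.* helpers here

set_option autoImplicit false
universe u
open Topology TopologicalSpace
open TopDim

namespace Groth.Agent.S10831

theorem isIrreducible_preimage_val {X : Type u} [TopologicalSpace X] (Y : Set X) (t : Set X)
    (ht : IsIrreducible t) (htY : t ⊆ Y) : IsIrreducible ((Subtype.val : Y → X) ⁻¹' t) := by
  obtain ⟨⟨a, ha⟩, hpre⟩ := ht
  refine ⟨⟨⟨a, htY ha⟩, ha⟩, ?_⟩
  intro U V hU hV hUne hVne
  obtain ⟨U', hU', rfl⟩ := isOpen_induced_iff.mp hU
  obtain ⟨V', hV', rfl⟩ := isOpen_induced_iff.mp hV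
  obtain ⟨x, hx, hxU⟩ := hUne
  obtain ⟨y, hy, hyV⟩ := hVne
  obtain ⟨z, hz, hzU, hzV⟩ := hpre U' V' hU' hV' ⟨x.1, hx, hxU⟩ ⟨y.1, hy, hyV⟩
  exact ⟨⟨z, htY hz⟩, hz, hzU, hzV⟩

/-- The Krull dimension of a topological space is the supremum of the Krull dimensions of its
irreducible components. -/
theorem result (X : Type u) [TopologicalSpace X] :
    topologicalKrullDim X = ⨆ Y ∈ irreducibleComponents X, topologicalKrullDim ↥Y := by
  apply le_antisymm
  · change (⨆ p : LTSeries (IrreducibleCloseds X), (p.length : WithBot ℕ∞)) ≤ _
    apply iSup_le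
    intro p
    obtain ⟨Y, hY, hpY⟩ := exists_mem_irreducibleComponents_subset_of_isIrreducible
      (p.last : Set X) p.last.isIrreducible
    refine le_trans ?_ (le_iSup₂ (f := fun Y (_ : Y ∈ irreducibleComponents X) =>
      topologicalKrullDim ↥Y) Y hY)
    have hsub : ∀ i, (p i : Set X) ⊆ Y := fun i =>
      (show (p i : Set X) ⊆ p.last from
        SetLike.coe_subset_coe.mpr (p.monotone (Fin.le_last i))).trans hpY
    let q : LTSeries (IrreducibleCloseds Y) :=
      { length := p.length
        toFun := fun i => ⟨(Subtype.val : Y → X) ⁻¹' (p i),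
          isIrreducible_preimage_val Y _ (p i).isIrreducible (hsub i),
          (p i).isClosed.preimage continuous_subtype_val⟩
        step := by
          intro i
          have h : p i.castSucc < p i.succ := p.step i
          refine lt_of_le_of_ne (α := IrreducibleCloseds Y) ?_ ?_
          · intro y hy
            exact h.le hy
          · intro heq
            apply h.ne
            apply IrreducibleCloseds.ext
            have h2 : (Subtype.val : Y → X) ⁻¹' (p i.castSucc : Set X) =
                (Subtype.val : Y → X) ⁻¹' (p i.succ : Set X) :=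
              congrArg (fun W : IrreducibleCloseds Y => (W : Set Y)) heq
            apply Set.Subset.antisymm
            · exact h.le
            · intro x hx
              have : (⟨x, hsub _ hx⟩ : Y) ∈ (Subtype.val : Y → X) ⁻¹' (p i.succ : Set X) := hx
              rw [← h2] at this
              exact this }
    exact Order.LTSeries.length_le_krullDim q
  · apply iSup₂_le
    intro Y _
    exact topologicalKrullDim_subspace_le X Y

end Groth.Agent.S10831
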