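import Groth.Statements.S10832
import Mathlib

set_option autoImplicit false
universe u
open CategoryTheory AlgebraicGeometry Topology
open Variety

namespace Groth.Agent.S10832

section helpers
open AlgebraicGeometry CategoryTheory TopologicalSpace Opposite

/-- On a scheme with discrete underlying space, global sections are the product of stalks. -/
theorem germ_bijective_of_discrete (X : Scheme.{u}) [DiscreteTopology X] :
    Function.Bijective (fun s : Γ(X, ⊤) => fun x : X => X.presheaf.germ ⊤ x trivial s) := by
  constructor
  · intro s t h
    apply TopCat.Presheaf.section_ext X.sheaf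
    intro x hx
    exact congrFun h x
  · intro t
    let U : X → X.Opens := fun x => ⟨{x}, isOpen_discrete _⟩
    have hxU : ∀ x, x ∈ U x := fun x => Set.mem_singleton x
    have key : ∀ x, ∃ s : Γ(X, U x), X.presheaf.germ (U x) x (hxU x) s = t x := by
      intro x
      obtain ⟨V, hxV, s, hs⟩ := TopCat.Presheaf.exists_germ_eq X.presheaf (t x)
      have hUV : U x ≤ V := by
        intro y hy
        have : y = x := hy
        rw [this]; exact hxV
      refine ⟨X.presheaf.map (homOfLE hUV).op s, ?_⟩
      rw [TopCat.Presheaf.germ_res_apply]
      exact hs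
    choose sf hsf using key
    have hcompat : TopCat.Presheaf.IsCompatible X.presheaf U sf := by
      intro i j
      by_cases hij : i = j
      · subst hij
        rfl
      · have hbot : U i ⊓ U j = ⊥ := by
          ext y
          simp only [Opens.coe_inf, Set.mem_inter_iff, SetLike.mem_coe, Opens.coe_bot,
            Set.mem_empty_iff_false, iff_false, not_and]
          intro h1 h2
          have h1' : y = i := h1
          have h2' : y = j := h2
          exact hij (h1'.symm.trans h2')
        have : Subsingleton Γ(X, U i ⊓ U j) := by
          rw [hbot]; infer_instance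
        exact Subsingleton.elim _ _
    obtain ⟨s, hs, -⟩ := X.sheaf.existsUnique_gluing' U ⊤ (fun i => homOfLE le_top)
      (fun x _ => Opens.mem_iSup.mpr ⟨x, hxU x⟩) sf hcompat
    refine ⟨s, ?_⟩
    funext x
    have := hs x
    change X.presheaf.germ ⊤ x trivial s = t x
    rw [← hsf x, ← this]
    exact (TopCat.Presheaf.germ_res_apply X.presheaf (homOfLE le_top) x (hxU x) s).symm



end helpers

/-- For a nonempty scheme X of finite type over a field k the following are equivalent: X has Krull
dimension 0; X is affine with ring of global sections finite over k and equal to the product of all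
its local rings via the germ maps; the underlying space of X is discrete; the underlying space of X
is finite. -/
theorem result (k : Type u) [Field k] {X : Scheme.{u}} [Nonempty X]
    (f : X ⟶ Spec (CommRingCat.of k)) [LocallyOfFiniteType f] [QuasiCompact f] :
    [topologicalKrullDim ↥X = 0,
      IsAffine X ∧ f.appTop.hom.Finite ∧
        Function.Bijective (fun s : Γ(X, ⊤) => fun x : X => X.presheaf.germ ⊤ x trivial s),
      DiscreteTopology ↥X,
      Finite ↥X].TFAE := by
  have hLN : IsLocallyNoetherian X := LocallyOfFiniteType.isLocallyNoetherian f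
  have hC : CompactSpace X := QuasiCompact.compactSpace_of_compactSpace f
  have hJk : JacobsonSpace (Spec (CommRingCat.of k)) :=
    PrimeSpectrum.isJacobsonRing_iff_jacobsonSpace.mp inferInstance
  have hJ : JacobsonSpace X := LocallyOfFiniteType.jacobsonSpace f
  tfae_have 1 → 3 := by
    intro h
    have : IsLocallyArtinian X := IsLocallyArtinian.of_topologicalKrullDim_le_zero h.le
    infer_instance
  tfae_have 3 → 1 := by
    intro h
    apply le_antisymm (topologicalKrullDim_zero_of_discreteTopology X)
    obtain ⟨x⟩ := ‹Nonempty X›
    have : Nonempty (TopologicalSpace.IrreducibleCloseds X) :=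
      ⟨⟨closure {x}, isIrreducible_singleton.closure, isClosed_closure⟩⟩
    exact Order.krullDim_nonneg
  tfae_have 3 → 4 := by
    intro h
    exact finite_of_compact_of_discrete
  tfae_have 4 → 3 := by
    intro h
    infer_instance
  tfae_have 2 → 4 := by
    rintro ⟨hA, hfin, -⟩
    let e : k ≃+* Γ(Spec (CommRingCat.of k), ⊤) :=
      (Scheme.ΓSpecIso (CommRingCat.of k)).symm.commRingCatIsoToRingEquiv
    have hK : IsArtinianRing Γ(Spec (CommRingCat.of k), ⊤) := e.surjective.isArtinianRing
    let _ : Algebra Γ(Spec (CommRingCat.of k), ⊤) Γ(X, ⊤) := f.appTop.hom.toAlgebra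
    have hMF : Module.Finite Γ(Spec (CommRingCat.of k), ⊤) Γ(X, ⊤) := hfin
    have hAA : IsArtinianRing Γ(X, ⊤) := IsArtinianRing.of_finite Γ(Spec (CommRingCat.of k), ⊤) _
    have hPF : Finite (PrimeSpectrum Γ(X, ⊤)) := inferInstance
    exact Finite.of_equiv _ (X.isoSpec.hom.homeomorph.toEquiv.symm)
  tfae_have 3 → 2 := by
    intro h
    have hF : Finite X := finite_of_compact_of_discrete
    have hA : IsAffine X := inferInstance
    refine ⟨hA, ?_, germ_bijective_of_discrete X⟩
    have hLA : IsLocallyArtinian X := .of_isLocallyNoetherian_of_discreteTopology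
    have hAA : IsArtinianRing Γ(X, ⊤) := inferInstance
    have hft : f.appTop.hom.FiniteType :=
      HasRingHomProperty.appTop (P := @LocallyOfFiniteType) f inferInstance
    let e : k ≃+* Γ(Spec (CommRingCat.of k), ⊤) :=
      (Scheme.ΓSpecIso (CommRingCat.of k)).symm.commRingCatIsoToRingEquiv
    have hKJ : IsJacobsonRing Γ(Spec (CommRingCat.of k), ⊤) := (isJacobsonRing_iso e).mp inferInstance
    let _ : Algebra Γ(Spec (CommRingCat.of k), ⊤) Γ(X, ⊤) := f.appTop.hom.toAlgebra
    have hFT : Algebra.FiniteType Γ(Spec (CommRingCat.of k), ⊤) Γ(X, ⊤) := hft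
    exact Module.finite_of_isArtinianRing Γ(Spec (CommRingCat.of k), ⊤) Γ(X, ⊤)
  tfae_finish

end Groth.Agent.S10832
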