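import Groth.Statements.S10835
import Groth.Agent.Lib.Helper78.Birat

set_option autoImplicit false
universe u
open CategoryTheory AlgebraicGeometry
attribute [local instance] Curv2.stalkAlgebra
open Variety

namespace Groth.Agent.S10835

open Groth.Agent.Lib.Helper78.Birat

/-- The isomorphism of spectra induced by a ring isomorphism. -/
noncomputable def specIsoOfRingEquiv {A B : Type u} [CommRing A] [CommRing B] (e : A ≃+* B) :
    Spec (CommRingCat.of A) ≅ Spec (CommRingCat.of B) where
  hom := Spec.map (CommRingCat.ofHom (e.symm : B →+* A))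
  inv := Spec.map (CommRingCat.ofHom (e : A →+* B))
  hom_inv_id := by
    rw [← Spec.map_comp, ← CommRingCat.ofHom_comp]
    have : ((e.symm : B →+* A).comp (e : A →+* B)) = RingHom.id A := by ext x; simp
    rw [this]
    exact Spec.map_id _
  inv_hom_id := by
    rw [← Spec.map_comp, ← CommRingCat.ofHom_comp]
    have : ((e : A →+* B).comp (e.symm : B →+* A)) = RingHom.id B := by ext x; simp
    rw [this]
    exact Spec.map_id _

/-- Let k be a field and X an integral scheme of finite type over k whose function field admits a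
transcendence basis s_1, …, s_d over k over which it is separable algebraic (this holds whenever the
function field is a separable extension of k in the sense of field theory, e.g. for k perfect, and
then d = dim X). Then some nonempty open subscheme of X is isomorphic, over k, to a nonempty open
subscheme of Spec k[T_1, …, T_d][T]/(g) for a monic polynomial g over k[T_1, …, T_d] which is
irreducible and separable over the fraction field k(T_1, …, T_d). -/
theorem result (k : Type u) [Field k]
    (X : Scheme.{u}) [X.Over (Spec (CommRingCat.of k))] [IsIntegral X]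
    [LocallyOfFiniteType (X ↘ Spec (CommRingCat.of k))] [QuasiCompact (X ↘ Spec (CommRingCat.of k))]
    (d : ℕ) (s : Fin d → X.presheaf.stalk (genericPoint X)) (hs : IsTranscendenceBasis k s)
    (hsep : Algebra.IsSeparable ↥(IntermediateField.adjoin k (Set.range s)) (X.presheaf.stalk (genericPoint X))) :
    ∃ (g : Polynomial (MvPolynomial (Fin d) k)), g.Monic ∧
      Irreducible (g.map (algebraMap (MvPolynomial (Fin d) k) (FractionRing (MvPolynomial (Fin d) k)))) ∧
      (g.map (algebraMap (MvPolynomial (Fin d) k) (FractionRing (MvPolynomial (Fin d) k)))).Separable ∧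
      ∃ (U : X.Opens) (V : (Spec (CommRingCat.of (AdjoinRoot g))).Opens) (e : (U : Scheme.{u}) ≅ (V : Scheme.{u})),
        (U : Set X).Nonempty ∧ (V : Set (Spec (CommRingCat.of (AdjoinRoot g)))).Nonempty ∧
        e.hom ≫ V.ι ≫ Spec.map (CommRingCat.ofHom (algebraMap k (AdjoinRoot g))) =
          U.ι ≫ (X ↘ Spec (CommRingCat.of k)) := by
  classical
  -- an affine open neighbourhood of the generic point
  obtain ⟨_, ⟨U₀, hU₀, rfl⟩, hηU₀, -⟩ :=
    X.isBasis_affineOpens.exists_subset_of_mem_open (Set.mem_univ (genericPoint X)) isOpen_univ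
  have hU₀' : IsAffineOpen U₀ := hU₀
  have : Nonempty U₀ := ⟨⟨genericPoint X, hηU₀⟩⟩
  -- the `k`-algebra structure on `D = Γ(X, U₀)`
  let φ : k →+* Γ(X, U₀) :=
    ((X ↘ Spec (CommRingCat.of k)).appLE ⊤ U₀ le_top).hom.comp
      (Scheme.ΓSpecIso (CommRingCat.of k)).inv.hom
  let algD : Algebra k Γ(X, U₀) := φ.toAlgebra
  have hcomm : ∀ c : k, (X.presheaf.germ U₀ (genericPoint X) hηU₀).hom (φ c) =
      algebraMap k (X.presheaf.stalk (genericPoint X)) c := by
    intro c
    show _ = (X.presheaf.germ ⊤ (genericPoint X) trivial).hom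
      (Coh.toGlobal (X ↘ Spec (CommRingCat.of k)) c)
    simp only [φ, Scheme.Hom.appLE, Coh.toGlobal, RingHom.coe_comp, Function.comp_apply,
      CommRingCat.hom_comp]
    exact TopCat.Presheaf.germ_res_apply _ _ _ _ _
  let iD : Γ(X, U₀) →ₐ[k] X.presheaf.stalk (genericPoint X) :=
    { (X.presheaf.germ U₀ (genericPoint X) hηU₀).hom with commutes' := hcomm }
  have hiD : Function.Injective iD := germ_injective_of_isIntegral X _ hηU₀
  have hfracD : ∀ z : X.presheaf.stalk (genericPoint X), ∃ x y, iD y ≠ 0 ∧ z = iD x / iD y := by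
    intro z
    have := functionField_isFractionRing_of_isAffineOpen X U₀ hU₀'
    obtain ⟨x, y, hy, hxy⟩ := IsFractionRing.div_surjective (A := Γ(X, U₀)) (z : X.functionField)
    refine ⟨x, y, ?_, hxy.symm⟩
    intro h0
    have : y = 0 := hiD (by rw [h0, map_zero])
    exact (nonZeroDivisors.ne_zero hy) this
  -- finiteness
  have hftD : Algebra.FiniteType k Γ(X, U₀) := by
    have h1 : RingHom.FiniteType ((X ↘ Spec (CommRingCat.of k)).appLE ⊤ U₀ le_top).hom :=
      HasRingHomProperty.appLE (P := @LocallyOfFiniteType) _ inferInstance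
        ⟨⊤, isAffineOpen_top _⟩ ⟨U₀, hU₀'⟩ le_top
    have h2 : RingHom.FiniteType (Scheme.ΓSpecIso (CommRingCat.of k)).inv.hom :=
      RingHom.FiniteType.of_surjective _
        ((ConcreteCategory.bijective_of_isIso (Scheme.ΓSpecIso (CommRingCat.of k)).inv).2)
    exact h1.comp h2
  have hess : Algebra.EssFiniteType k (X.presheaf.stalk (genericPoint X)) := by
    have := functionField_isFractionRing_of_isAffineOpen X U₀ hU₀'
    have h1 : Algebra.EssFiniteType Γ(X, U₀) X.functionField :=
      Algebra.EssFiniteType.of_isLocalization _ (nonZeroDivisors Γ(X, U₀))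
    have : IsScalarTower k Γ(X, U₀) X.functionField :=
      IsScalarTower.of_algebraMap_eq (fun c => (hcomm c).symm)
    exact Algebra.EssFiniteType.comp k Γ(X, U₀) X.functionField
  obtain ⟨g, hgm, hgi, hgs, iC, hiC, hfracC⟩ := exists_hypersurface_model s hs hsep
  refine ⟨g, hgm, hgi, hgs, ?_⟩
  have hftC : Algebra.FiniteType k (AdjoinRoot g) :=
    Algebra.FiniteType.of_surjective ((AdjoinRoot.mkₐ g).restrictScalars k)
      AdjoinRoot.mk_surjective
  obtain ⟨a, ha, c, hc, e, he⟩ := exists_algEquiv iC iD hiC hiD hfracD hfracC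
  let Da : (Spec Γ(X, U₀)).Opens := PrimeSpectrum.basicOpen a
  let Vc : (Spec (CommRingCat.of (AdjoinRoot g))).Opens := PrimeSpectrum.basicOpen c
  let em : Spec (CommRingCat.of (Localization.Away a)) ≅
      Spec (CommRingCat.of (Localization.Away c)) := specIsoOfRingEquiv e.toRingEquiv
  let e1 : (hU₀'.fromSpec ''ᵁ Da).toScheme ≅ Da.toScheme := (hU₀'.fromSpec.isoImage Da).symm
  let e2 : Da.toScheme ≅ Spec (CommRingCat.of (Localization.Away a)) := basicOpenIsoSpecAway a
  let e4 : Vc.toScheme ≅ Spec (CommRingCat.of (Localization.Away c)) :=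
    basicOpenIsoSpecAway (R := CommRingCat.of (AdjoinRoot g)) c
  let E : (hU₀'.fromSpec ''ᵁ Da).toScheme ≅ Vc.toScheme := e1 ≪≫ e2 ≪≫ em ≪≫ e4.symm
  have hφ : Spec.map (CommRingCat.ofHom φ) = hU₀'.fromSpec ≫ (X ↘ Spec (CommRingCat.of k)) := by
    rw [← IsAffineOpen.SpecMap_appLE_fromSpec (X ↘ Spec (CommRingCat.of k))
      (isAffineOpen_top (Spec (CommRingCat.of k))) hU₀' le_top, IsAffineOpen.fromSpec_top,
      Scheme.isoSpec_Spec_inv, ← Spec.map_comp]
    rfl
  refine ⟨_, Vc, E, ?_, ?_, ?_⟩
  · have hne : ¬ IsNilpotent a := by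
      intro hn
      exact ha ((hn.map iD).eq_zero)
    have : (Da : Set (Spec Γ(X, U₀))).Nonempty := by
      rw [Set.nonempty_iff_ne_empty, Ne, TopologicalSpace.Opens.coe_eq_empty]
      show ¬ PrimeSpectrum.basicOpen a = ⊥
      rw [PrimeSpectrum.basicOpen_eq_bot_iff]
      exact hne
    obtain ⟨x, hx⟩ := this
    exact ⟨hU₀'.fromSpec x, ⟨x, hx, rfl⟩⟩
  · have hne : ¬ IsNilpotent c := by
      intro hn
      exact hc ((hn.map iC).eq_zero)
    rw [Set.nonempty_iff_ne_empty, Ne, TopologicalSpace.Opens.coe_eq_empty]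
    show ¬ PrimeSpectrum.basicOpen c = ⊥
    rw [PrimeSpectrum.basicOpen_eq_bot_iff]
    exact hne
  · have h4 : e4.inv ≫ Vc.ι =
        Spec.map (CommRingCat.ofHom (algebraMap (AdjoinRoot g) (Localization.Away c))) := by
      rw [Iso.inv_comp_eq]
      exact (basicOpenIsoSpecAway_hom_SpecMap (R := CommRingCat.of (AdjoinRoot g)) c).symm
    have h2 : e2.hom ≫ Spec.map (CommRingCat.ofHom (algebraMap Γ(X, U₀) (Localization.Away a))) =
        Da.ι := basicOpenIsoSpecAway_hom_SpecMap a
    have h1 : e1.hom ≫ Da.ι ≫ hU₀'.fromSpec = (hU₀'.fromSpec ''ᵁ Da).ι :=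
      Scheme.Hom.isoImage_inv_ι _ _
    have hm : em.hom ≫
        Spec.map (CommRingCat.ofHom (algebraMap (AdjoinRoot g) (Localization.Away c))) ≫
        Spec.map (CommRingCat.ofHom (algebraMap k (AdjoinRoot g))) =
        Spec.map (CommRingCat.ofHom (algebraMap Γ(X, U₀) (Localization.Away a))) ≫
        Spec.map (CommRingCat.ofHom φ) := by
      show Spec.map (CommRingCat.ofHom (e.toRingEquiv.symm : Localization.Away c →+*
        Localization.Away a)) ≫ _ = _
      rw [← Spec.map_comp, ← Spec.map_comp, ← Spec.map_comp]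
      congr 1
      ext x
      simp only [CommRingCat.hom_comp, CommRingCat.hom_ofHom, RingHom.coe_comp,
        Function.comp_apply]
      rw [← IsScalarTower.algebraMap_apply k (AdjoinRoot g) (Localization.Away c)]
      show e.symm (algebraMap k (Localization.Away c) x) = _
      rw [AlgEquiv.commutes, IsScalarTower.algebraMap_apply k Γ(X, U₀) (Localization.Away a)]
      rfl
    calc E.hom ≫ Vc.ι ≫ Spec.map (CommRingCat.ofHom (algebraMap k (AdjoinRoot g)))
        = e1.hom ≫ e2.hom ≫ em.hom ≫ (e4.inv ≫ Vc.ι) ≫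
          Spec.map (CommRingCat.ofHom (algebraMap k (AdjoinRoot g))) := by
          simp only [E, Iso.trans_hom, Iso.symm_hom, Category.assoc]
      _ = e1.hom ≫ e2.hom ≫ Spec.map (CommRingCat.ofHom (algebraMap Γ(X, U₀)
            (Localization.Away a))) ≫ Spec.map (CommRingCat.ofHom φ) := by
          rw [h4, hm]
      _ = e1.hom ≫ Da.ι ≫ hU₀'.fromSpec ≫ (X ↘ Spec (CommRingCat.of k)) := by
          rw [reassoc_of% h2, hφ]
      _ = (hU₀'.fromSpec ''ᵁ Da).ι ≫ (X ↘ Spec (CommRingCat.of k)) := by
          rw [← h1, Category.assoc, Category.assoc]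

end Groth.Agent.S10835
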