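import Groth.Statements.S10836
import Mathlib.RingTheory.LocalRing.Module
import Mathlib.RingTheory.Localization.Free
import Mathlib.RingTheory.Localization.Ideal
import Mathlib.RingTheory.Flat.Localization

set_option autoImplicit false
universe u
open Coh

namespace Groth.Agent.S10836

theorem finite_maximalSpectrum_localization {A : Type u} [CommRing A]
    (Z : Set (PrimeSpectrum A)) (hZ : Z.Finite)
    (S : Submonoid A) (hS : ∀ s, s ∈ S ↔ ∀ p ∈ Z, s ∉ p.asIdeal) :
    Finite (MaximalSpectrum (Localization S)) := by
  have hdisj : ∀ p ∈ Z, Disjoint (S : Set A) (p.asIdeal : Set A) := by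
    intro p hp
    rw [Set.disjoint_left]
    intro s hs hsp
    exact (hS s).mp hs p hp hsp
  have key : ∀ m : MaximalSpectrum (Localization S),
      ∃ p ∈ Z, m.asIdeal.under A = p.asIdeal := by
    intro m
    have hmprime : m.asIdeal.IsPrime := m.isMaximal.isPrime
    obtain ⟨hprime, hd⟩ := (IsLocalization.isPrime_iff_isPrime_disjoint S (Localization S)
      m.asIdeal).mp hmprime
    have hsub : ((m.asIdeal.under A : Ideal A) : Set A) ⊆ ⋃ p ∈ Z, (p.asIdeal : Set A) := by
      intro x hx
      have hxS : x ∉ S := fun h => Set.disjoint_left.mp hd h hx
      rw [hS] at hxS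
      push Not at hxS
      obtain ⟨p, hp, hxp⟩ := hxS
      exact Set.mem_biUnion hp hxp
    obtain ⟨p, hp, hle⟩ := (Ideal.subset_union_prime_finite hZ (f := fun p => p.asIdeal)
      ⟨_, hprime⟩ ⟨_, hprime⟩ (fun i _ _ _ => i.isPrime)).mp hsub
    refine ⟨p, hp, ?_⟩
    have hne : Ideal.map (algebraMap A (Localization S)) p.asIdeal ≠ ⊤ :=
      (IsLocalization.isPrime_of_isPrime_disjoint S (Localization S) p.asIdeal p.isPrime
        (hdisj p hp)).ne_top
    have hle' : m.asIdeal ≤ Ideal.map (algebraMap A (Localization S)) p.asIdeal := by
      rw [← IsLocalization.map_under S (Localization S) m.asIdeal]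
      exact Ideal.map_mono hle
    have heq := m.isMaximal.eq_of_le hne hle'
    rw [heq]
    exact IsLocalization.under_map_of_isPrime_disjoint S (Localization S) p.isPrime (hdisj p hp)
  choose F hFZ hF using key
  have hinj : Function.Injective (fun m => (⟨F m, hFZ m⟩ : Z)) := by
    intro m1 m2 h
    have h' : F m1 = F m2 := congrArg Subtype.val h
    apply MaximalSpectrum.ext
    apply (IsLocalization.orderEmbedding S (Localization S)).injective
    change m1.asIdeal.under A = m2.asIdeal.under A
    rw [hF, hF, h']
  have : Finite Z := hZ
  exact Finite.of_injective _ hinj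

/-- Let A be a commutative ring, M a finitely generated projective A-module whose rank at every prime is
r, and Z a finite set of prime ideals of A. Then there is an element s of A outside every prime of Z
such that the localized module M_s has a basis of r elements over A_s. (The published statement is
for a finite locally free module of constant rank r on a scheme and a finite set of points inside an
affine open Spec A, and produces a basic open D(s) containing the points on which the module is free
of rank r; its argument begins by replacing the scheme with Spec A, and this row states that case.) -/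
theorem result (A : Type u) [CommRing A]
    (M : Type u) [AddCommGroup M] [Module A M] [Module.Finite A M] [Module.Projective A M] (r : ℕ)
    (hr : ∀ p : PrimeSpectrum A, Module.rankAtStalk M p = r)
    (Z : Set (PrimeSpectrum A)) (hZ : Z.Finite) :
    ∃ s : A, (∀ p ∈ Z, s ∉ p.asIdeal) ∧
      Nonempty (Module.Basis (Fin r) (Localization.Away s) (LocalizedModule (Submonoid.powers s) M)) := by
  classical
  let S : Submonoid A := ⨅ p ∈ Z, p.asIdeal.primeCompl
  have hS : ∀ s, s ∈ S ↔ ∀ p ∈ Z, s ∉ p.asIdeal := by
    intro s
    simp only [S, Submonoid.mem_iInf]
    rfl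
  have hfin : Finite (MaximalSpectrum (Localization S)) :=
    finite_maximalSpectrum_localization Z hZ S hS
  have hflat : Module.Flat (Localization S) (LocalizedModule S M) := inferInstance
  have hfinite : Module.Finite (Localization S) (LocalizedModule S M) := inferInstance
  have hrank : ∀ P : MaximalSpectrum (Localization S),
      Module.finrank (Localization S ⧸ P.1)
        (TensorProduct (Localization S) (Localization S ⧸ P.1) (LocalizedModule S M)) = r := by
    intro P
    have hPmax : P.1.IsMaximal := P.isMaximal
    let : Field (Localization S ⧸ P.1) := Ideal.Quotient.field P.1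
    have hfree : Module.Free (Localization S ⧸ P.1)
        (TensorProduct (Localization S) (Localization S ⧸ P.1) (LocalizedModule S M)) :=
      inferInstance
    let q : PrimeSpectrum (Localization S ⧸ P.1) := ⟨⊥, Ideal.isPrime_bot⟩
    have h1 := congrFun (Module.rankAtStalk_eq_finrank_of_free (R := Localization S ⧸ P.1)
      (M := TensorProduct (Localization S) (Localization S ⧸ P.1) (LocalizedModule S M))) q
    have h2 := Module.rankAtStalk_baseChange (R := Localization S) (M := LocalizedModule S M)
      (S := Localization S ⧸ P.1) q
    have h3 := Module.rankAtStalk_isBaseChange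
      (LocalizedModule.isBaseChange S M)
      (q.comap (algebraMap (Localization S) (Localization S ⧸ P.1)))
    rw [hr] at h3
    rw [h3] at h2
    rw [h2] at h1
    exact h1.symm
  obtain ⟨b⟩ := Module.nonempty_basis_of_flat_of_finrank_eq (Localization S)
    (LocalizedModule S M) r hrank
  have hfp : Module.FinitePresentation A M := Module.finitePresentation_of_projective A M
  obtain ⟨s, hs, b', _⟩ := Module.FinitePresentation.exists_basis_localizedModule_powers S
    (LocalizedModule.mkLinearMap S M) (Localization S) b
  exact ⟨s, (hS s).mp hs, ⟨b'⟩⟩

end Groth.Agent.S10836
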