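import Groth.Statements.S10837
import Mathlib.AlgebraicGeometry.Morphisms.UnderlyingMap
import Mathlib.RingTheory.Spectrum.Prime.Topology

set_option autoImplicit false
universe u
open CategoryTheory AlgebraicGeometry Topology
open Mor

namespace Groth.Agent.S10837

theorem generalizingMap_comap_of_isOpenMap {R S : Type*} [CommRing R] [CommRing S] (φ : R →+* S)
    (h : IsOpenMap (PrimeSpectrum.comap φ)) : GeneralizingMap (PrimeSpectrum.comap φ) := by
  intro q p' hp'
  let T : Submonoid S := q.asIdeal.primeCompl ⊔ p'.asIdeal.primeCompl.map φ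
  have hdisj : Disjoint ((p'.asIdeal.map φ : Ideal S) : Set S) T := by
    rw [Set.disjoint_left]
    rintro x hx hxT
    obtain ⟨g, hg, z, hz, rfl⟩ := Submonoid.mem_sup.mp hxT
    obtain ⟨r, hr, rfl⟩ := hz
    have hopen := h _ (PrimeSpectrum.basicOpen g).isOpen
    have hq : q ∈ (PrimeSpectrum.basicOpen g : Set (PrimeSpectrum S)) := hg
    have hmem : PrimeSpectrum.comap φ q ∈
        PrimeSpectrum.comap φ '' (PrimeSpectrum.basicOpen g : Set (PrimeSpectrum S)) :=
      ⟨q, hq, rfl⟩
    obtain ⟨Q0, hQ0g, hQ0⟩ := hp'.mem_open hopen hmem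
    have h1 : g * φ r ∈ Q0.asIdeal := by
      have h2 : p'.asIdeal.map φ ≤ Q0.asIdeal := by
        rw [Ideal.map_le_iff_le_comap, ← hQ0]
        exact le_rfl
      exact h2 hx
    rcases Q0.2.mem_or_mem h1 with h3 | h3
    · exact hQ0g h3
    · apply hr
      rw [← hQ0]
      exact h3
  obtain ⟨Q, hQ, hle, hQT⟩ := Ideal.exists_le_prime_disjoint _ _ hdisj
  refine ⟨⟨Q, hQ⟩, ?_, ?_⟩
  · change (⟨Q, hQ⟩ : PrimeSpectrum S) ⤳ q
    rw [← PrimeSpectrum.le_iff_specializes]
    intro x hx
    by_contra hxq
    exact Set.disjoint_left.mp hQT hx (Submonoid.mem_sup_left hxq)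
  · apply PrimeSpectrum.ext
    apply le_antisymm
    · intro r hr
      by_contra hrp
      exact Set.disjoint_left.mp hQT hr (Submonoid.mem_sup_right ⟨r, hrp, rfl⟩)
    · exact Ideal.map_le_iff_le_comap.mp hle

/-- For a morphism of schemes f : X → Y which is open as a map of topological spaces, generalizations
lift along f: every generalization of f(x) is the image of a generalization of x. -/
theorem result {X Y : Scheme.{u}} (f : X ⟶ Y) (hf : IsOpenMap f.base) :
    GeneralizingMap f.base := by
  change topologically GeneralizingMap f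
  replace hf : topologically IsOpenMap f := hf
  wlog hY : ∃ R, Y = Spec R
  · rw [IsZariskiLocalAtTarget.iff_of_openCover (P := topologically GeneralizingMap) Y.affineCover]
    intro i
    dsimp only [Scheme.Cover.pullbackHom]
    refine this _ ?_ ⟨_, rfl⟩
    exact IsZariskiLocalAtTarget.of_isPullback (P := topologically IsOpenMap)
      (iY := Y.affineCover.f i) (IsPullback.of_hasPullback ..) hf
  obtain ⟨R, rfl⟩ := hY
  wlog hX : ∃ S, X = Spec S
  · rw [IsZariskiLocalAtSource.iff_of_openCover (P := topologically GeneralizingMap) X.affineCover]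
    intro i
    refine this _ _ ?_ ⟨_, rfl⟩
    exact IsZariskiLocalAtSource.comp (P := topologically IsOpenMap) hf _
  obtain ⟨S, rfl⟩ := hX
  obtain ⟨φ, rfl⟩ := Spec.map_surjective f
  exact generalizingMap_comap_of_isOpenMap φ.hom hf

end Groth.Agent.S10837
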