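import Groth.Statements.S10838
import Groth.Agent.S10837
import Mathlib.Topology.Sober
import Mathlib.AlgebraicGeometry.Properties

set_option autoImplicit false
universe u
open CategoryTheory AlgebraicGeometry Topology
open Mor

namespace Groth.Agent.S10838

theorem height_le_height_of_lift {α β : Type*} [Preorder α] [Preorder β] (f : α → β)
    (hlift : ∀ a b, b < f a → ∃ a', a' < a ∧ f a' = b) (a : α) :
    Order.height (f a) ≤ Order.height a := by
  refine ENat.forall_natCast_le_iff_le.mp fun n hn => ?_
  induction n generalizing a with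
  | zero => simp
  | succ n ih =>
    obtain ⟨p, hp, hlen⟩ := Order.exists_series_of_le_height (f a) hn
    have hlen' : p.length ≠ 0 := by omega
    let p' := p.eraseLast
    have hlt : p'.last < f a := by
      rw [← hp]
      exact p.eraseLast_last_rel_last hlen'
    obtain ⟨a', ha'a, hfa'⟩ := hlift a _ hlt
    have h1 : (n : ℕ∞) ≤ Order.height (f a') := by
      rw [hfa']
      have : (p'.length : ℕ∞) ≤ Order.height p'.last := Order.length_le_height_last
      have h2 : p'.length = n := by
        simp [p', hlen]
      rwa [h2] at this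
    have h3 := ih a' h1
    have h4 := Order.height_add_one_le ha'a
    calc ((n + 1 : ℕ) : ℕ∞) = (n : ℕ∞) + 1 := by norm_cast
      _ ≤ Order.height a' + 1 := by gcongr
      _ ≤ Order.height a := h4

theorem krullDim_le_of_lift_surj {α β : Type*} [Preorder α] [Preorder β] (f : α → β)
    (hlift : ∀ a b, b < f a → ∃ a', a' < a ∧ f a' = b) (hs : Function.Surjective f) :
    Order.krullDim β ≤ Order.krullDim α := by
  rw [Order.krullDim_eq_iSup_height (α := β)]
  apply iSup_le
  intro b
  obtain ⟨a, rfl⟩ := hs b
  refine le_trans ?_ (Order.height_le_krullDim a)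
  exact_mod_cast height_le_height_of_lift f hlift a

attribute [local instance] specializationOrder in
theorem topologicalKrullDim_le_of_generalizing {X Y : Type*} [TopologicalSpace X]
    [TopologicalSpace Y] [QuasiSober X] [T0Space X] [QuasiSober Y] [T0Space Y] (g : X → Y)
    (hc : Continuous g) (hg : GeneralizingMap g) (hs : Function.Surjective g) :
    topologicalKrullDim Y ≤ topologicalKrullDim X := by
  unfold topologicalKrullDim
  rw [Order.krullDim_eq_of_orderIso (irreducibleSetEquivPoints (α := X)),
    Order.krullDim_eq_of_orderIso (irreducibleSetEquivPoints (α := Y)),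
    ← Order.krullDim_orderDual (α := X), ← Order.krullDim_orderDual (α := Y)]
  refine krullDim_le_of_lift_surj (α := Xᵒᵈ) (β := Yᵒᵈ)
    (fun x => OrderDual.toDual (g (OrderDual.ofDual x))) ?_ ?_
  · intro a b hb
    obtain ⟨hb1, hb2⟩ := hb
    change (OrderDual.ofDual b) ⤳ g (OrderDual.ofDual a) at hb1
    change ¬ (g (OrderDual.ofDual a) ⤳ (OrderDual.ofDual b)) at hb2
    obtain ⟨x', hx', hgx'⟩ := hg hb1
    refine ⟨OrderDual.toDual x', ⟨hx', ?_⟩, congrArg OrderDual.toDual hgx'⟩
    intro h
    apply hb2
    change OrderDual.ofDual a ⤳ x' at h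
    rw [← hgx']
    exact h.map hc
  · intro b
    obtain ⟨a, ha⟩ := hs (OrderDual.ofDual b)
    exact ⟨OrderDual.toDual a, congrArg OrderDual.toDual ha⟩

/-- For a morphism of schemes f : X → Y which is open as a map of topological spaces, the Krull
dimension of the image f(X) (with the subspace topology from Y) is at most the Krull dimension of X. -/
theorem result {X Y : Scheme.{u}} (f : X ⟶ Y) (hf : IsOpenMap f.base) :
    topologicalKrullDim ↥(Set.range f.base) ≤ topologicalKrullDim ↥X := by
  have hgen : GeneralizingMap f.base := Groth.Agent.S10837.result f hf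
  have hopen : IsOpen (Set.range f.base) := hf.isOpen_range
  have : QuasiSober ↥(Set.range f.base) := hopen.isOpenEmbedding_subtypeVal.quasiSober
  refine topologicalKrullDim_le_of_generalizing (Set.rangeFactorization f.base)
    (f.continuous.subtype_mk _) ?_ Set.rangeFactorization_surjective
  intro x y hy
  have hy' : (y : Y) ⤳ f.base x := hy.map continuous_subtype_val
  obtain ⟨x', hx', hfx'⟩ := hgen hy'
  exact ⟨x', hx', Subtype.ext hfx'⟩

end Groth.Agent.S10838
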