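import Groth.Statements.S10840
import Mathlib
import Groth.Agent.Lib.Helper93.ProjDimD

set_option autoImplicit false
universe u
open AlgebraicGeometry Topology
open Variety

namespace Groth.Agent.S10840

open Groth.Agent.Lib.Helper93.ProjDim

/-- For a field k and nonzero homogeneous polynomials f, g of positive degrees in three variables, the
common zero set V_+(f, g) in the projective plane over k is zero-dimensional as a topological
subspace exactly when f and g are coprime, i.e. their only common divisors are the non-zero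
constants. -/
theorem result (k : Type u) [Field k] (n m : ℕ)
    (f g : MvPolynomial (Fin 3) k) (hf : f.IsHomogeneous n) (hg : g.IsHomogeneous m)
    (hn : 0 < n) (hm : 0 < m) (hf0 : f ≠ 0) (hg0 : g ≠ 0) :
    topologicalKrullDim ↥(ProjectiveSpectrum.zeroLocus (CohB1.polyGrading 2 k)
        ({f, g} : Set (MvPolynomial (Fin 3) k))) = 0 ↔ IsRelPrime f g := by
  classical
  have hmax := irrelevant_isMaximal 2 k
  have hW : IsClosed (ProjectiveSpectrum.zeroLocus (CohB1.polyGrading 2 k)
      ({f, g} : Set (MvPolynomial (Fin 3) k))) := ProjectiveSpectrum.isClosed_zeroLocus _ _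
  have hdim := topologicalKrullDim_closed_eq_iSup pdim (pdim_anti 2 k) (pdim_step 2 k) hW
  have hmemW : ∀ y : ProjectiveSpectrum (CohB1.polyGrading 2 k),
      y ∈ ProjectiveSpectrum.zeroLocus (CohB1.polyGrading 2 k)
        ({f, g} : Set (MvPolynomial (Fin 3) k)) ↔
        f ∈ y.asHomogeneousIdeal.toIdeal ∧ g ∈ y.asHomogeneousIdeal.toIdeal := by
    intro y
    rw [mem_zeroLocus_iff_le, Set.insert_subset_iff, Set.singleton_subset_iff]
    rfl
  have hfh : SetLike.IsHomogeneousElem (CohB1.polyGrading 2 k) f :=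
    (isHomogeneousElem_iff 2 k f).mpr ⟨n, hf⟩
  have hgh : SetLike.IsHomogeneousElem (CohB1.polyGrading 2 k) g :=
    (isHomogeneousElem_iff 2 k g).mpr ⟨m, hg⟩
  have hfi : f ∈ (HomogeneousIdeal.irrelevant (CohB1.polyGrading 2 k)).toIdeal :=
    HomogeneousIdeal.mem_irrelevant_of_mem _ hn ((MvPolynomial.mem_homogeneousSubmodule n f).mpr hf)
  have hgi : g ∈ (HomogeneousIdeal.irrelevant (CohB1.polyGrading 2 k)).toIdeal :=
    HomogeneousIdeal.mem_irrelevant_of_mem _ hm ((MvPolynomial.mem_homogeneousSubmodule m g).mpr hg)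
  -- nonemptiness
  obtain ⟨y0, hy0⟩ : ∃ y0, y0 ∈ ProjectiveSpectrum.zeroLocus (CohB1.polyGrading 2 k)
      ({f, g} : Set (MvPolynomial (Fin 3) k)) := by
    obtain ⟨y, -, hy⟩ := exists_ge_of_card_le_pdim (k := k) hmax (x := zeroPt 2 k)
      ({f, g} : Finset (MvPolynomial (Fin (2 + 1)) k))
      (by
        intro a ha
        rw [Finset.mem_insert, Finset.mem_singleton] at ha
        rcases ha with rfl | rfl
        · exact hfh
        · exact hgh)
      (by
        intro a ha
        rw [Finset.mem_insert, Finset.mem_singleton] at ha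
        rcases ha with rfl | rfl
        · exact hfi
        · exact hgi)
      (by rw [pdim_zeroPt]; exact Finset.card_le_two)
    refine ⟨y, (hmemW y).mpr ⟨hy f (by simp), hy g (by simp)⟩⟩
  rw [hdim]
  constructor
  · intro h0 c hcf hcg
    by_contra hcu
    have hc0 : c ≠ 0 := by
      rintro rfl
      exact hf0 (zero_dvd_iff.mp hcf)
    obtain ⟨p, hpirr, hpc⟩ := WfDvdMonoid.exists_irreducible_factor hcu hc0
    have hp : Prime p := UniqueFactorizationMonoid.irreducible_iff_prime.mp hpirr
    have hpf : p ∣ f := hpc.trans hcf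
    have hpg : p ∣ g := hpc.trans hcg
    have hph := isHomogeneous_span_of_prime_dvd 2 k hp hpf hf hf0
    have hpd := pdim_primePt 2 k (by norm_num) hp hph
    have hwW : primePt 2 k (by norm_num) hp hph ∈
        ProjectiveSpectrum.zeroLocus (CohB1.polyGrading 2 k)
          ({f, g} : Set (MvPolynomial (Fin 3) k)) :=
      (hmemW _).mpr ⟨Ideal.mem_span_singleton.mpr hpf, Ideal.mem_span_singleton.mpr hpg⟩
    have hle := le_iSup (fun y : ↥(ProjectiveSpectrum.zeroLocus (CohB1.polyGrading 2 k)
      ({f, g} : Set (MvPolynomial (Fin 3) k))) => ((pdim y.1 : ℕ) : WithBot ℕ∞))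
      ⟨_, hwW⟩
    rw [h0] at hle
    have h1 : pdim (primePt 2 k (by norm_num) hp hph) = 1 := by omega
    simp only [h1] at hle
    have : ((1 : ℕ) : WithBot ℕ∞) ≤ ((0 : ℕ) : WithBot ℕ∞) := by exact_mod_cast hle
    have : (1 : ℕ) ≤ 0 := by exact_mod_cast this
    omega
  · intro hrel
    have hall : ∀ y : ↥(ProjectiveSpectrum.zeroLocus (CohB1.polyGrading 2 k)
        ({f, g} : Set (MvPolynomial (Fin 3) k))), pdim y.1 = 0 := by
      intro y
      by_contra hne
      obtain ⟨hfy, hgy⟩ := (hmemW y.1).mp y.2
      have hA : IsNoetherianRing (MvPolynomial (Fin (2 + 1)) k) := inferInstance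
      have hht := Groth.Agent.Lib.Helper73.height_add_ringKrullDim_quotient k
        y.1.asHomogeneousIdeal.toIdeal
      rw [← coe_pdim_add_one (k := k) hmax y.1,
        Groth.Agent.Lib.Helper73.ringKrullDim_mvPolynomial_field k (2 + 1)] at hht
      have hfin : y.1.asHomogeneousIdeal.toIdeal.height ≠ ⊤ := Ideal.height_ne_top_of_isPrime
      obtain ⟨h, hh⟩ := ENat.ne_top_iff_exists.mp hfin
      rw [← hh] at hht
      have hht' : ((h + (pdim y.1 + 1) : ℕ) : WithBot ℕ∞) = ((2 + 1 : ℕ) : WithBot ℕ∞) := by
        push_cast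
        exact hht
      have hht'' : h + (pdim y.1 + 1) = 2 + 1 := by exact_mod_cast hht'
      have hbot : y.1.asHomogeneousIdeal.toIdeal ≠ ⊥ := by
        intro hb
        rw [hb, Ideal.mem_bot] at hfy
        exact hf0 hfy
      have hh0 : h ≠ 0 := by
        rintro rfl
        apply hbot
        rw [← Ideal.height_eq_zero_iff_eq_bot, ← hh]
        rfl
      have hh1 : y.1.asHomogeneousIdeal.toIdeal.height = 1 := by
        rw [← hh]
        have : h = 1 := by omega
        rw [this]
        rfl
      have hpp := UniqueFactorizationMonoid.isPrincipal_of_height_eq_one hh1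
      have hp := Submodule.IsPrincipal.prime_generator_of_isPrime
        y.1.asHomogeneousIdeal.toIdeal hbot
      have hgen := Ideal.span_singleton_generator y.1.asHomogeneousIdeal.toIdeal
      have hpf : Submodule.IsPrincipal.generator y.1.asHomogeneousIdeal.toIdeal ∣ f := by
        rw [← Ideal.mem_span_singleton, hgen]; exact hfy
      have hpg : Submodule.IsPrincipal.generator y.1.asHomogeneousIdeal.toIdeal ∣ g := by
        rw [← Ideal.mem_span_singleton, hgen]; exact hgy
      exact hp.not_isUnit (hrel hpf hpg)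
    apply le_antisymm
    · refine iSup_le fun y => ?_
      rw [hall y]
      rfl
    · refine le_trans ?_ (le_iSup (fun y : ↥(ProjectiveSpectrum.zeroLocus (CohB1.polyGrading 2 k)
        ({f, g} : Set (MvPolynomial (Fin 3) k))) => ((pdim y.1 : ℕ) : WithBot ℕ∞)) ⟨y0, hy0⟩)
      rw [hall ⟨y0, hy0⟩]
      rfl

end Groth.Agent.S10840
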