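import Groth.Statements.S10841
import Groth.Agent.Lib.Helper73.DimFT.Morphism

set_option autoImplicit false
universe u
open CategoryTheory AlgebraicGeometry Topology
open Variety

namespace Groth.Agent.S10841

/-- Let k be a field, X an irreducible scheme of finite type over k, and f : Y → X a morphism over k
from a scheme Y of finite type over k whose image contains the generic point of X. Then dim Y ≥ dim
X. -/
theorem result (k : Type u) [Field k] {X Y : Scheme.{u}}
    (p : X ⟶ Spec (CommRingCat.of k)) (q : Y ⟶ Spec (CommRingCat.of k))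
    [LocallyOfFiniteType p] [QuasiCompact p] [LocallyOfFiniteType q] [QuasiCompact q]
    [IrreducibleSpace ↥X] (f : Y ⟶ X) (hf : f ≫ p = q)
    (hη : genericPoint ↥X ∈ Set.range f.base) :
    topologicalKrullDim ↥X ≤ topologicalKrullDim ↥Y := by
  obtain ⟨y, hy⟩ := hη
  have hδ := Groth.Agent.Lib.Helper73.isDimFun_trdegNat p
  rw [Groth.Agent.Lib.Helper73.topologicalKrullDim_eq_iSup_trdegNat p,
    Groth.Agent.Lib.Helper73.topologicalKrullDim_eq_iSup_trdegNat q]
  refine iSup_le fun x => ?_
  have h1 := hδ.le_of_specializes (genericPoint_specializes x)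
  have h2 := Groth.Agent.Lib.Helper73.trdegNat_le_of_hom p q f hf y
  have h3 : f y = genericPoint ↥X := hy
  rw [h3] at h2
  refine le_trans ?_ (le_iSup (fun y : Y => ((Groth.Agent.Lib.Helper73.trdegNat q y : ℕ∞) :
    WithBot ℕ∞)) y)
  exact_mod_cast h1.trans h2

end Groth.Agent.S10841
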