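import Groth.Statements.S10842
import Mathlib.AlgebraicGeometry.AffineScheme
import Mathlib.RingTheory.Localization.LocalizationLocalization
import Mathlib.RingTheory.IntegralClosure.IntegrallyClosed

set_option autoImplicit false
universe u
open CategoryTheory AlgebraicGeometry
open Variety

namespace Groth.Agent.S10842

theorem normal_of_loc {R Sy Sx : Type u} [CommRing R] [CommRing Sy] [CommRing Sx]
    [Algebra R Sy] [Algebra R Sx] [Algebra Sy Sx] [IsScalarTower R Sy Sx]
    (p q : Ideal R) [p.IsPrime] [q.IsPrime] [IsLocalization.AtPrime Sy q]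
    [IsLocalization.AtPrime Sx p] [IsDomain Sy] [IsIntegrallyClosed Sy] :
    IsDomain Sx ∧ IsIntegrallyClosed Sx := by
  have hle : q.primeCompl ≤ p.primeCompl := by
    intro f hf
    have h1 : IsUnit (algebraMap R Sy f) := (IsLocalization.AtPrime.isUnit_to_map_iff Sy q f).2 hf
    have h2 : IsUnit (algebraMap Sy Sx (algebraMap R Sy f)) := h1.map _
    rw [← IsScalarTower.algebraMap_apply] at h2
    exact (IsLocalization.AtPrime.isUnit_to_map_iff Sx p f).1 h2
  have hloc : IsLocalization (p.primeCompl.map (algebraMap R Sy)) Sx :=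
    IsLocalization.isLocalization_of_submonoid_le Sy Sx q.primeCompl p.primeCompl hle
  have : Nontrivial Sx := (IsLocalization.AtPrime.isLocalRing Sx p).toNontrivial
  have hM : p.primeCompl.map (algebraMap R Sy) ≤ nonZeroDivisors Sy := by
    rintro _ ⟨f, hf, rfl⟩
    rw [mem_nonZeroDivisors_iff_ne_zero]
    intro h0
    have h1 : IsUnit (algebraMap R Sx f) := (IsLocalization.AtPrime.isUnit_to_map_iff Sx p f).2 hf
    rw [IsScalarTower.algebraMap_apply R Sy Sx] at h1
    change algebraMap R Sy f = 0 at h0
    rw [h0, map_zero] at h1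
    exact not_isUnit_zero h1
  exact ⟨IsLocalization.isDomain_of_le_nonZeroDivisors Sx hM,
    isIntegrallyClosed_of_isLocalization Sx _ hM⟩

/-- A quasi-compact scheme whose local rings at all closed points are integrally closed domains is
normal, i.e. all of its local rings are integrally closed domains. -/
theorem result (X : Scheme.{u}) [CompactSpace ↥X]
    (h : ∀ x : X, IsClosed ({x} : Set X) →
      IsDomain (X.presheaf.stalk x) ∧ IsIntegrallyClosed (X.presheaf.stalk x)) :
    Pi1.IsNormalScheme X := by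

  intro x
  obtain ⟨y, hy, hyc⟩ := (isClosed_closure (s := ({x} : Set X))).exists_closed_singleton
    ⟨x, subset_closure rfl⟩
  have hspec : x ⤳ y := specializes_iff_mem_closure.2 hy
  obtain ⟨hdom, hic⟩ := h y hyc
  obtain ⟨U, hU, hyU, -⟩ := exists_isAffineOpen_mem_and_subset (X := X) (x := y) (U := ⊤) trivial
  have hxU : x ∈ U := hspec.mem_open U.isOpen hyU
  let a0 : Algebra (X.presheaf.stalk y) (X.presheaf.stalk x) :=
    (X.presheaf.stalkSpecializes hspec).hom.toAlgebra
  let a1 : Algebra Γ(X, U) (X.presheaf.stalk y) :=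
    TopCat.Presheaf.algebra_section_stalk X.presheaf ⟨y, hyU⟩
  let a2 : Algebra Γ(X, U) (X.presheaf.stalk x) :=
    TopCat.Presheaf.algebra_section_stalk X.presheaf ⟨x, hxU⟩
  have : IsScalarTower Γ(X, U) (X.presheaf.stalk y) (X.presheaf.stalk x) := by
    apply IsScalarTower.of_algebraMap_eq'
    change (X.presheaf.germ U x hxU).hom =
      (X.presheaf.stalkSpecializes hspec).hom.comp (X.presheaf.germ U y hyU).hom
    rw [← CommRingCat.hom_comp, TopCat.Presheaf.germ_stalkSpecializes]
  have locy := hU.isLocalization_stalk ⟨y, hyU⟩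
  have locx := hU.isLocalization_stalk ⟨x, hxU⟩
  exact normal_of_loc (R := Γ(X, U)) (Sy := X.presheaf.stalk y) (Sx := X.presheaf.stalk x)
    (hU.primeIdealOf ⟨x, hxU⟩).asIdeal (hU.primeIdealOf ⟨y, hyU⟩).asIdeal

end Groth.Agent.S10842
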