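import Groth.Statements.S10844
import Groth.Agent.S4357
import Groth.Agent.Lib.Helper21.Devissage
import Groth.Agent.Lib.Helper21.K0Dev
import Groth.Agent.Lib.Helper21.QCohKernel
import Groth.Agent.Lib.Helper21.CohNoeth

set_option autoImplicit false
universe u
open RepF

namespace Groth.Agent.S10844

open AlgebraicGeometry CategoryTheory CategoryTheory.Limits
open Groth.Agent.Lib.Helper21.QCohKernel

/-- the pullback of `v` is an epimorphism iff the image of `f` avoids the support of the cokernel -/
theorem epi_pullback_iff {S T : Scheme.{u}} {E F : S.Modules}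
    [Coh.IsQCoh E] [Coh.IsQCoh F] (hF : CohB1.IsFT F) (v : E ⟶ F) (f : T ⟶ S) :
    Epi ((Scheme.Modules.pullback f).map v) ↔
      Set.range f.base ⊆ (CohB1.support (cokernel v))ᶜ := by
  haveI : E.IsQuasicoherent := ‹Coh.IsQCoh E›
  haveI : F.IsQuasicoherent := ‹Coh.IsQCoh F›
  haveI : (cokernel v).IsQuasicoherent := isQuasicoherent_cokernel v
  have hC : CohB1.IsFT (cokernel v) :=
    @Groth.Agent.Lib.Helper21.CohNoeth.isFiniteType_of_epi S F (cokernel v)
      (cokernel.π v) coequalizer.π_epi _ _ hF
  have hsupp := Groth.Agent.S4357.aux f (cokernel v) hC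
  rw [Preadditive.epi_iff_isZero_cokernel]
  have e : cokernel ((Scheme.Modules.pullback f).map v) ≅
      (Scheme.Modules.pullback f).obj (cokernel v) :=
    (PreservesCokernel.iso (Scheme.Modules.pullback f) v).symm
  rw [e.isZero_iff]
  constructor
  · intro hz
    have h1 := Groth.Agent.Lib.Helper21.K0Dev.support_subset_of_isZero hz ∅
    rw [hsupp] at h1
    rintro _ ⟨t, rfl⟩ ht
    exact h1 ht
  · intro h
    apply Groth.Agent.Lib.Helper21.Devissage.isZero_of_support_eq_empty
    rw [hsupp, Set.eq_empty_iff_forall_notMem]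
    intro t ht
    exact h ⟨t, rfl⟩ ht

open AlgebraicGeometry CategoryTheory in
/-- For a scheme S and a homomorphism v : E → F of quasi-coherent O_S-modules with F of finite type,
there is an open subscheme U of S such that a morphism of schemes f : T → S factors through U (its
image lies in U) if and only if the pulled-back homomorphism f^*v : f^*E → f^*F is an epimorphism. -/
theorem result {S : Scheme.{u}} {E F : S.Modules}
    [Coh.IsQCoh E] [Coh.IsQCoh F] (hF : CohB1.IsFT F) (v : E ⟶ F) :
    ∃ U : S.Opens, ∀ (T : Scheme.{u}) (f : T ⟶ S),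
      Set.range f.base ⊆ (U : Set S) ↔ Epi ((Scheme.Modules.pullback f).map v) := by
  haveI : E.IsQuasicoherent := ‹Coh.IsQCoh E›
  haveI : F.IsQuasicoherent := ‹Coh.IsQCoh F›
  haveI : (cokernel v).IsQuasicoherent := isQuasicoherent_cokernel v
  have hC : CohB1.IsFT (cokernel v) :=
    @Groth.Agent.Lib.Helper21.CohNoeth.isFiniteType_of_epi S F (cokernel v)
      (cokernel.π v) coequalizer.π_epi _ _ hF
  have hcl : IsClosed (CohB1.support (cokernel v)) :=
    Groth.Agent.Lib.Helper21.Devissage.isClosed_support_of_isCoh ⟨inferInstance, hC⟩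
  exact ⟨⟨(CohB1.support (cokernel v))ᶜ, hcl.isOpen_compl⟩, fun T f =>
    (epi_pullback_iff hF v f).symm⟩

end Groth.Agent.S10844
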