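import Groth.Statements.S10845
import Mathlib
import Groth.Agent.Lib.Helper40.LimCore
import Groth.Agent.Lib.Helper2.FinLocFreeAff

set_option autoImplicit false
universe u
open RepF

namespace Groth.Agent.S10845

section helpers
open RepF


open AlgebraicGeometry CategoryTheory CategoryTheory.Limits TensorProduct Opposite
open Scheme.Modules Groth.Agent.Lib.Helper48.OmegaAff Groth.Agent.Lib.Helper40.AffBC

section Alg

/-- coefficient ideal of a linear map into `N`: generated by all `φ (v m)` -/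
def coeffI (R : Type*) {M N : Type*} [CommRing R] [AddCommGroup M] [AddCommGroup N] [Module R M]
    [Module R N] (v : M →ₗ[R] N) : Ideal R :=
  Ideal.span {x | ∃ (m : M) (φ : N →ₗ[R] R), φ (v m) = x}

theorem alg1 {R A' N : Type*} [CommRing R] [CommRing A'] [Algebra R A'] [AddCommGroup N]
    [Module R N] (n : N) (h : (1 : A') ⊗ₜ[R] n = 0) (φ : N →ₗ[R] R) :
    algebraMap R A' (φ n) = 0 := by
  have h1 := congrArg (LinearMap.lTensor A' φ) h
  rw [LinearMap.lTensor_tmul, map_zero] at h1
  have h2 := congrArg (TensorProduct.rid R A') h1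
  rw [TensorProduct.rid_tmul, map_zero, Algebra.smul_def, mul_one] at h2
  exact h2

theorem dualBasis (R N : Type*) [CommRing R] [AddCommGroup N] [Module R N] [Module.Finite R N]
    [Module.Projective R N] :
    ∃ (k : ℕ) (e : Fin k → N) (c : Fin k → (N →ₗ[R] R)), ∀ n : N, n = ∑ j, c j n • e j := by
  obtain ⟨k, f, g, -, -, hfg⟩ := Module.Finite.exists_comp_eq_id_of_projective R N
  refine ⟨k, fun j => f (Pi.single j 1), fun j => (LinearMap.proj j) ∘ₗ g, fun n => ?_⟩
  have h1 : n = f (g n) := by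
    have := congrArg (fun l => l n) hfg
    exact this.symm
  conv_lhs => rw [h1]
  have h2 : g n = ∑ j, (g n j) • (Pi.single j (1 : R) : Fin k → R) := by
    ext i
    simp [Finset.sum_apply, Pi.single_apply]
  conv_lhs => rw [h2]
  rw [map_sum]
  refine Finset.sum_congr rfl fun j _ => ?_
  rw [LinearMap.map_smul]
  rfl

theorem coeffI_map {R R' M N M' N' : Type*} [CommRing R] [CommRing R'] [Algebra R R'] (r : R)
    [IsLocalization.Away r R']
    [AddCommGroup M] [AddCommGroup N] [Module R M] [Module R N]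
    [AddCommGroup M'] [AddCommGroup N'] [Module R M'] [Module R N'] [Module R' M'] [Module R' N']
    [IsScalarTower R R' M'] [IsScalarTower R R' N']
    (lM : M →ₗ[R] M') (lN : N →ₗ[R] N') [IsLocalizedModule (Submonoid.powers r) lM]
    [IsLocalizedModule (Submonoid.powers r) lN]
    [Module.Finite R N] [Module.Projective R N]
    (v : M →ₗ[R] N) (v' : M' →ₗ[R'] N') (hv : ∀ m, v' (lM m) = lN (v m)) :
    (coeffI R v).map (algebraMap R R') = coeffI R' v' := by
  haveI : IsLocalization (Submonoid.powers r) R' := ‹IsLocalization.Away r R'›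
  apply le_antisymm
  · rw [Ideal.map_le_iff_le_comap, coeffI, Ideal.span_le]
    rintro x ⟨m, φ, rfl⟩
    rw [SetLike.mem_coe, Ideal.mem_comap]
    apply Ideal.subset_span
    refine ⟨lM m, IsLocalizedModule.mapExtendScalars (Submonoid.powers r) lN
      (Algebra.linearMap R R') R' φ, ?_⟩
    rw [hv, IsLocalizedModule.mapExtendScalars_apply_apply, IsLocalizedModule.map_apply]
    rfl
  · rw [coeffI, Ideal.span_le]
    rintro x ⟨m', ψ, rfl⟩
    rw [SetLike.mem_coe]
    obtain ⟨⟨m, s⟩, hs⟩ := IsLocalizedModule.surj (Submonoid.powers r) lM m'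
    obtain ⟨k, e, c, hN⟩ := dualBasis R N
    have hu : IsUnit (algebraMap R R' s) := IsLocalization.map_units R' s
    have h1 : algebraMap R R' s * ψ (v' m') = ∑ j, algebraMap R R' (c j (v m)) * ψ (lN (e j)) := by
      have h2 : ψ (v' ((s : R) • m')) = algebraMap R R' s * ψ (v' m') := by
        rw [← algebraMap_smul R' (s : R) m', LinearMap.map_smul, LinearMap.map_smul, smul_eq_mul]
      have hs' : (s : R) • m' = lM m := hs
      rw [← h2, hs', hv]
      conv_lhs => rw [hN (v m)]
      rw [map_sum, map_sum]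
      refine Finset.sum_congr rfl fun j _ => ?_
      rw [LinearMap.map_smul, ← algebraMap_smul R' (c j (v m)) (lN (e j)), LinearMap.map_smul, smul_eq_mul]
    have h3 : ψ (v' m') = ↑hu.unit⁻¹ * (algebraMap R R' s * ψ (v' m')) := by
      rw [← mul_assoc]
      have : (↑hu.unit⁻¹ : R') * algebraMap R R' s = 1 := by
        exact hu.val_inv_mul
      rw [this, one_mul]
    rw [h3, h1]
    apply Ideal.mul_mem_left
    apply Ideal.sum_mem
    intro j _
    apply Ideal.mul_mem_right
    apply Ideal.mem_map_of_mem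
    exact Ideal.subset_span ⟨m, c j, rfl⟩

end Alg

section Sheaf

open Groth.Agent.Lib.Helper21.RelFPSch Groth.Agent.Lib.Helper40.QCohLim

variable {S : Scheme.{u}} {E F : S.Modules}

/-- sections of a morphism as a linear map -/
noncomputable def appL (v : E ⟶ F) (U : S.Opens) : Γ(E, U) →ₗ[Γ(S, U)] Γ(F, U) :=
  { toFun := fun m => v.app U m
    map_add' := fun a b => map_add _ a b
    map_smul' := fun a m => Scheme.Modules.Hom.app_smul v a m }

theorem appL_apply (v : E ⟶ F) (U : S.Opens) (m : Γ(E, U)) : appL v U m = v.app U m := rfl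

/-- the coefficient ideal on an affine open -/
noncomputable def J (v : E ⟶ F) (U : S.affineOpens) : Ideal Γ(S, U.1) :=
  coeffI Γ(S, U.1) (appL v U.1)

theorem J_map [E.IsQuasicoherent] [F.IsQuasicoherent] (hF : FlatMod.IsFinLocFree F) (v : E ⟶ F)
    (U : S.affineOpens) (r : Γ(S, U.1)) :
    (J v U).map (S.presheaf.map (homOfLE <| S.basicOpen_le r).op).hom =
      J v (S.affineBasicOpen r) := by
  have hU : IsAffineOpen U.1 := U.2
  letI : Module Γ(S, U.1) Γ(E, S.basicOpen r) :=
    Module.compHom _ (resRing S (S.basicOpen_le r))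
  letI : Module Γ(S, U.1) Γ(F, S.basicOpen r) :=
    Module.compHom _ (resRing S (S.basicOpen_le r))
  haveI : IsScalarTower Γ(S, U.1) Γ(S, S.basicOpen r) Γ(E, S.basicOpen r) :=
    IsScalarTower.of_algebraMap_smul fun _ _ => rfl
  haveI : IsScalarTower Γ(S, U.1) Γ(S, S.basicOpen r) Γ(F, S.basicOpen r) :=
    IsScalarTower.of_algebraMap_smul fun _ _ => rfl
  haveI := hU.isLocalization_basicOpen r
  haveI := isLocalizedModule_resL E hU r
  haveI := isLocalizedModule_resL F hU r
  obtain ⟨h1, h2⟩ := (Groth.Agent.Lib.Helper2.FinLocFreeAff.isFinLocFree_iff_sections F).1 hF U.1 hU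
  haveI := h1
  haveI := h2
  exact coeffI_map r (resL E (S.basicOpen_le r)) (resL F (S.basicOpen_le r))
    (appL v U.1) (appL v (S.basicOpen r)) (fun m => app_res v (S.basicOpen_le r) m)

/-- the coefficient ideal sheaf -/
noncomputable def Jsheaf [E.IsQuasicoherent] [F.IsQuasicoherent] (hF : FlatMod.IsFinLocFree F)
    (v : E ⟶ F) : S.IdealSheafData where
  ideal := J v
  map_ideal_basicOpen := J_map hF v

theorem lemA [F.IsQuasicoherent] (v : E ⟶ F) {T : Scheme.{u}} (f : T ⟶ S)
    (h : (Scheme.Modules.pullback f).map v = 0) (U : S.affineOpens) :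
    J v U ≤ RingHom.ker (f.app U.1).hom := by
  rw [J, coeffI, Ideal.span_le]
  rintro x ⟨m, φ, rfl⟩
  rw [SetLike.mem_coe, RingHom.mem_ker]
  apply Groth.Agent.Lib.Lead.SheafGlue.eq_of_locally_eq_ptsX
  intro t ht
  obtain ⟨_, ⟨W, hW : IsAffineOpen W, rfl⟩, htW, hWU⟩ :=
    (T.isBasis_affineOpens).exists_subset_of_mem_open ht (f ⁻¹ᵁ U.1).2
  refine ⟨W, hWU, htW, ?_⟩
  rw [map_zero]
  change (f.appLE U.1 W hWU).hom (φ (appL v U.1 m)) = 0
  letI := (f.appLE U.1 W hWU).hom.toAlgebra
  have h1 : pullRes f F hWU (v.app U.1 m) = 0 := by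
    rw [← Groth.Agent.Lib.Helper40.ClPull.pullRes_nat, h]
    rfl
  have h2 : pullTensorHom f F hWU ((1 : Γ(T, W)) ⊗ₜ (v.app U.1 m)) = 0 := by
    rw [pullTensorHom_tmul, h1, smul_zero]
  have h3 : (1 : Γ(T, W)) ⊗ₜ[Γ(S, U.1)] (v.app U.1 m) = 0 :=
    (pullTensorHom_bijective f F hW U.2 hWU).1 (by rw [h2, map_zero])
  exact alg1 _ h3 φ

theorem lemB [E.IsQuasicoherent] (v : E ⟶ F) (I : S.IdealSheafData)
    (hI : ∀ U, J v U ≤ I.ideal U)
    (hproj : ∀ U : S.affineOpens, Module.Finite Γ(S, U.1) Γ(F, U.1) ∧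
      Module.Projective Γ(S, U.1) Γ(F, U.1)) :
    (Scheme.Modules.pullback I.subschemeι).map v = 0 := by
  let B : Set I.subscheme.Opens :=
    {V | IsAffineOpen V ∧ ∃ U : S.affineOpens, V ≤ I.subschemeι ⁻¹ᵁ U.1}
  have hB : TopologicalSpace.Opens.IsBasis B := by
    rw [TopologicalSpace.Opens.isBasis_iff_nbhd]
    intro W z hz
    obtain ⟨_, ⟨U, hU : IsAffineOpen U, rfl⟩, hzU, -⟩ :=
      (S.isBasis_affineOpens).exists_subset_of_mem_open (Set.mem_univ (I.subschemeι.base z))
        isOpen_univ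
    obtain ⟨_, ⟨V, hV : IsAffineOpen V, rfl⟩, hzV, hVW⟩ :=
      (I.subscheme.isBasis_affineOpens).exists_subset_of_mem_open
        (show z ∈ W ⊓ I.subschemeι ⁻¹ᵁ U from ⟨hz, hzU⟩) (W ⊓ I.subschemeι ⁻¹ᵁ U).2
    exact ⟨V, ⟨hV, ⟨U, hU⟩, hVW.trans inf_le_right⟩, hzV, hVW.trans inf_le_left⟩
  apply Groth.Agent.Lib.Helper48.Conormal.hom_ext_of_basis _ _ B hB
  rintro V ⟨hV, U, eV⟩ t
  have key : ∀ m : Γ(E, U.1), pullRes I.subschemeι F eV (v.app U.1 m) = 0 := by
    intro m
    obtain ⟨h1, h2⟩ := hproj U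
    haveI := h1
    haveI := h2
    obtain ⟨k, e, c, hN⟩ := dualBasis Γ(S, U.1) Γ(F, U.1)
    have h3 := hN (v.app U.1 m)
    rw [h3, map_sum]
    apply Finset.sum_eq_zero
    intro j _
    rw [pullRes_smul]
    have hmem : c j (v.app U.1 m) ∈ I.ideal U := hI U (Ideal.subset_span ⟨m, c j, rfl⟩)
    rw [← Scheme.IdealSheafData.ker_subschemeι_app, RingHom.mem_ker] at hmem
    have h4 : I.subschemeι.appLE U.1 V eV (c j (v.app U.1 m)) = 0 := by
      rw [Scheme.Hom.appLE, CommRingCat.comp_apply, hmem, map_zero]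
    rw [h4, zero_smul]
  obtain ⟨x, rfl⟩ := (pullTensorHom_bijective I.subschemeι E hV U.2 eV).2 t
  letI := (I.subschemeι.appLE U.1 V eV).hom.toAlgebra
  induction x using TensorProduct.induction_on with
  | zero => simp
  | tmul b m =>
    rw [pullTensorHom_tmul, Scheme.Modules.Hom.app_smul,
      Groth.Agent.Lib.Helper40.ClPull.pullRes_nat, key, smul_zero]
    simp
  | add x y hx hy =>
    rw [map_add, map_add, hx, hy]
    simp

theorem auxMain {S : Scheme.{u}} {E F : S.Modules}
    [E.IsQuasicoherent] [F.IsQuasicoherent] (hF : FlatMod.IsFinLocFree F) (v : E ⟶ F) :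
    ∃ I : S.IdealSheafData, ∀ (T : Scheme.{u}) (f : T ⟶ S),
      (∃ g : T ⟶ I.subscheme, g ≫ I.subschemeι = f) ↔ (Scheme.Modules.pullback f).map v = 0 := by
  refine ⟨Jsheaf hF v, fun T f => ⟨?_, ?_⟩⟩
  · rintro ⟨g, rfl⟩
    refine Groth.Agent.Lib.Helper40.LimCore.map_eq_zero_of_comp v g (Jsheaf hF v).subschemeι _ rfl ?_
    exact lemB v (Jsheaf hF v) (fun U => le_rfl)
      (fun U => (Groth.Agent.Lib.Helper2.FinLocFreeAff.isFinLocFree_iff_sections F).1 hF U.1 U.2)
  · intro h
    have hle : (Jsheaf hF v).subschemeι.ker ≤ f.ker := by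
      rw [Scheme.IdealSheafData.ker_subschemeι]
      change Jsheaf hF v ≤ Scheme.IdealSheafData.ofIdeals _
      rw [Scheme.IdealSheafData.le_ofIdeals_iff]
      intro U
      exact lemA v f h U
    exact ⟨IsClosedImmersion.lift (Jsheaf hF v).subschemeι f hle,
      IsClosedImmersion.lift_fac _ _ _⟩

end Sheaf

end helpers

open AlgebraicGeometry CategoryTheory in
/-- For a scheme S and a homomorphism v : E → F of quasi-coherent O_S-modules with F finite locally
free, there is a quasi-coherent ideal sheaf on S whose closed subscheme Z has the property that a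
morphism of schemes f : T → S factors through the inclusion Z → S if and only if the pulled-back
homomorphism f^*v : f^*E → f^*F is zero. -/
theorem result {S : Scheme.{u}} {E F : S.Modules}
    [Coh.IsQCoh E] [Coh.IsQCoh F] (hF : FlatMod.IsFinLocFree F) (v : E ⟶ F) :
    ∃ I : S.IdealSheafData, ∀ (T : Scheme.{u}) (f : T ⟶ S),
      (∃ g : T ⟶ I.subscheme, g ≫ I.subschemeι = f) ↔ (Scheme.Modules.pullback f).map v = 0 := by
  haveI : E.IsQuasicoherent := ‹Coh.IsQCoh E›
  haveI : F.IsQuasicoherent := ‹Coh.IsQCoh F›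
  exact auxMain hF v

end Groth.Agent.S10845
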