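import Groth.Statements.S10849
import Mathlib.Algebra.Polynomial.Laurent
import Mathlib.Algebra.Polynomial.Reverse
import Mathlib.LinearAlgebra.Matrix.ToLinearEquiv
import Mathlib.LinearAlgebra.Matrix.Adjugate
import Mathlib.RingTheory.Polynomial.Basic
import Mathlib.Data.Fin.Tuple.Sort

set_option autoImplicit false
universe u
open VbP1

namespace Groth.Agent.S10849

open Polynomial LaurentPolynomial

variable {k : Type u} [Field k]

noncomputable def rfl' (N : ℕ) (f : k[X]) : k[X] :=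
  ∑ m ∈ Finset.range (N + 1), Polynomial.C (f.coeff m) * X ^ (N - m)

theorem toLaurent_rfl' (N : ℕ) (f : k[X]) (hf : f.natDegree ≤ N) :
    invert (toLaurent (rfl' N f)) * T (N : ℤ) = toLaurent f := by
  conv_rhs => rw [f.as_sum_range' (N + 1) (Nat.lt_succ_of_le hf)]
  rw [rfl', map_sum, map_sum, map_sum, Finset.sum_mul]
  apply Finset.sum_congr rfl
  intro m hm
  have hm' : m ≤ N := Nat.lt_succ_iff.mp (Finset.mem_range.mp hm)
  rw [← C_mul_X_pow_eq_monomial, Polynomial.toLaurent_C_mul_X_pow, Polynomial.toLaurent_C_mul_X_pow,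
    map_mul, invert_C, invert_T, mul_assoc, ← T_add]
  congr 2
  push_cast [hm']
  ring

theorem coeff_zero_rfl' (N : ℕ) (f : k[X]) : (rfl' N f).coeff 0 = f.coeff N := by
  rw [rfl', finsetSum_coeff, Finset.sum_eq_single N]
  · simp
  · intro m hm hne
    have hm' : m ≤ N := Nat.lt_succ_iff.mp (Finset.mem_range.mp hm)
    rw [coeff_C_mul_X_pow, if_neg]
    omega
  · intro h
    exact absurd (Finset.mem_range.mpr (Nat.lt_succ_self N)) h

theorem isUnit_of_toLaurent (q : k[X]) (hq : IsUnit (toLaurent q)) (h0 : q.coeff 0 ≠ 0) :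
    IsUnit q := by
  obtain ⟨g, hg⟩ := hq.exists_right_inv
  obtain ⟨M, g', hg'⟩ := exists_T_pow g
  have h1 : q * g' = X ^ M := by
    apply Polynomial.toLaurent_injective
    rw [map_mul, hg', ← mul_assoc, hg, one_mul, Polynomial.toLaurent_X_pow]
  have h2 : q ∣ X ^ M := ⟨g', h1.symm⟩
  obtain ⟨i, hi, hass⟩ := (dvd_prime_pow Polynomial.prime_X M).mp h2
  obtain ⟨u, hu⟩ := hass.symm
  by_cases hi0 : i = 0
  · rw [hi0, pow_zero, one_mul] at hu
    rw [← hu]
    exact u.isUnit
  · exfalso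
    apply h0
    rw [← hu, mul_comm, coeff_mul_X_pow']
    rw [if_neg]
    omega

theorem exists_poly_matrix {n : ℕ} (A : Matrix (Fin n) (Fin n) k[T;T⁻¹]) :
    ∃ (N : ℕ) (A₀ : Matrix (Fin n) (Fin n) k[X]), ∀ i j, toLaurent (A₀ i j) = A i j * T (N : ℤ) := by
  choose Nf f hf using fun i j => exists_T_pow (A i j)
  refine ⟨∑ i, ∑ j, Nf i j, fun i j => f i j * X ^ ((∑ i, ∑ j, Nf i j) - Nf i j), ?_⟩
  intro i j
  have hle : Nf i j ≤ ∑ i, ∑ j, Nf i j :=
    (Finset.single_le_sum (f := fun j => Nf i j) (fun _ _ => Nat.zero_le _) (Finset.mem_univ j)).trans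
      (Finset.single_le_sum (f := fun i => ∑ j, Nf i j) (fun _ _ => Nat.zero_le _) (Finset.mem_univ i))
  rw [map_mul, hf, Polynomial.toLaurent_X_pow, mul_assoc, ← T_add]
  congr 2
  push_cast [hle]
  ring

noncomputable def cd {n : ℕ} (B : Matrix (Fin n) (Fin n) k[X]) (j : Fin n) : ℕ :=
  Finset.univ.sup (fun i => (B i j).natDegree)

noncomputable def lcm {n : ℕ} (B : Matrix (Fin n) (Fin n) k[X]) : Matrix (Fin n) (Fin n) k :=
  fun i j => (B i j).coeff (cd B j)

noncomputable def mu {n : ℕ} (B : Matrix (Fin n) (Fin n) k[X]) : ℕ := ∑ j, cd B j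

theorem natDegree_le_cd {n : ℕ} (B : Matrix (Fin n) (Fin n) k[X]) (i j : Fin n) :
    (B i j).natDegree ≤ cd B j :=
  Finset.le_sup (f := fun i => (B i j).natDegree) (Finset.mem_univ i)

theorem step {n : ℕ} (B : Matrix (Fin n) (Fin n) k[X]) (hdet : B.det ≠ 0)
    (hL : (lcm B).det = 0) :
    ∃ U₁ : Matrix (Fin n) (Fin n) k[X], IsUnit U₁.det ∧ mu (B * U₁) < mu B := by
  classical
  obtain ⟨c, hc0, hc⟩ := Matrix.exists_mulVec_eq_zero_iff.mpr hL
  have hSne : (Finset.univ.filter (fun j => c j ≠ 0)).Nonempty := by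
    obtain ⟨j, hj⟩ := Function.ne_iff.mp hc0
    exact ⟨j, Finset.mem_filter.mpr ⟨Finset.mem_univ j, hj⟩⟩
  obtain ⟨j₀, hj₀S, hmax⟩ := Finset.exists_max_image _ (cd B) hSne
  have hcj₀ : c j₀ ≠ 0 := (Finset.mem_filter.mp hj₀S).2
  have hmax' : ∀ l, c l ≠ 0 → cd B l ≤ cd B j₀ := fun l hl =>
    hmax l (Finset.mem_filter.mpr ⟨Finset.mem_univ l, hl⟩)
  obtain ⟨u, hu⟩ : ∃ u : Fin n → k[X], u = fun j => Polynomial.C (c j) * X ^ (cd B j₀ - cd B j) :=
    ⟨_, rfl⟩
  have hdetU : ((1 : Matrix (Fin n) (Fin n) k[X]).updateCol j₀ u).det = Polynomial.C (c j₀) := by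
    rw [← Matrix.cramer_apply, Matrix.cramer_one, hu]
    simp
  have hBU : B * (1 : Matrix (Fin n) (Fin n) k[X]).updateCol j₀ u = B.updateCol j₀ (B.mulVec u) := by
    rw [Matrix.mul_updateCol, mul_one]
  have hdeg : ∀ i, (B.mulVec u i).natDegree ≤ cd B j₀ := by
    intro i
    rw [Matrix.mulVec, dotProduct]
    apply Polynomial.natDegree_sum_le_of_forall_le
    intro l _
    by_cases hl : c l = 0
    · rw [hu]
      simp [hl]
    · rw [hu]
      calc (B i l * (Polynomial.C (c l) * X ^ (cd B j₀ - cd B l))).natDegree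
          ≤ (B i l).natDegree + (Polynomial.C (c l) * X ^ (cd B j₀ - cd B l)).natDegree :=
            Polynomial.natDegree_mul_le
        _ ≤ cd B l + (cd B j₀ - cd B l) := by
            apply add_le_add (natDegree_le_cd B i l)
            exact (Polynomial.natDegree_C_mul_X_pow_le _ _)
        _ = cd B j₀ := by have := hmax' l hl; omega
  have hcoeff : ∀ i, (B.mulVec u i).coeff (cd B j₀) = 0 := by
    intro i
    have hci := congrFun hc i
    rw [Matrix.mulVec, dotProduct] at hci ⊢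
    rw [Polynomial.finsetSum_coeff]
    rw [Pi.zero_apply] at hci
    rw [← hci]
    apply Finset.sum_congr rfl
    intro l _
    by_cases hl : c l = 0
    · rw [hu]
      simp [hl]
    · rw [hu]
      have hle := hmax' l hl
      obtain ⟨e, he⟩ := Nat.exists_eq_add_of_le hle
      rw [← mul_assoc, he, Nat.add_sub_cancel_left, Polynomial.coeff_mul_X_pow,
        Polynomial.coeff_mul_C, lcm]
  have hdetBU : (B * (1 : Matrix (Fin n) (Fin n) k[X]).updateCol j₀ u).det ≠ 0 := by
    rw [Matrix.det_mul, hdetU]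
    exact mul_ne_zero hdet (by simpa using hcj₀)
  have hpos : 1 ≤ cd B j₀ := by
    by_contra hlt
    have h0 : cd B j₀ = 0 := by omega
    apply hdetBU
    rw [hBU]
    apply Matrix.det_eq_zero_of_column_eq_zero j₀
    intro i
    rw [Matrix.updateCol_self]
    have h1 := hdeg i
    have h2 := hcoeff i
    rw [h0] at h1 h2
    rw [Polynomial.eq_C_of_natDegree_le_zero h1, h2, map_zero]
  refine ⟨(1 : Matrix (Fin n) (Fin n) k[X]).updateCol j₀ u, ?_, ?_⟩
  · rw [hdetU]
    exact (Polynomial.isUnit_C).mpr (isUnit_iff_ne_zero.mpr hcj₀)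
  · rw [hBU, mu, mu]
    apply Finset.sum_lt_sum
    · intro j _
      by_cases hj : j = j₀
      · subst hj
        apply Finset.sup_le
        intro i _
        rw [Matrix.updateCol_self]
        exact hdeg i
      · apply le_of_eq
        unfold cd
        congr 1
        funext i
        rw [Matrix.updateCol_ne hj]
    · refine ⟨j₀, Finset.mem_univ _, ?_⟩
      have : cd (B.updateCol j₀ (B.mulVec u)) j₀ ≤ cd B j₀ - 1 := by
        apply Finset.sup_le
        intro i _
        rw [Matrix.updateCol_self]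
        exact Polynomial.natDegree_le_pred (hdeg i) (hcoeff i)
      omega

theorem reduce {n : ℕ} : ∀ (M : ℕ) (B : Matrix (Fin n) (Fin n) k[X]), mu B = M → B.det ≠ 0 →
    ∃ U : Matrix (Fin n) (Fin n) k[X], IsUnit U.det ∧ (lcm (B * U)).det ≠ 0 := by
  intro M
  induction M using Nat.strong_induction_on with
  | _ M ih =>
    intro B hM hdet
    by_cases hL : (lcm B).det = 0
    · obtain ⟨U₁, hU₁, hlt⟩ := step B hdet hL
      have hdet' : (B * U₁).det ≠ 0 := by
        rw [Matrix.det_mul]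
        exact mul_ne_zero hdet hU₁.ne_zero
      obtain ⟨U', hU', hL'⟩ := ih (mu (B * U₁)) (hM ▸ hlt) (B * U₁) rfl hdet'
      refine ⟨U₁ * U', ?_, ?_⟩
      · rw [Matrix.det_mul]
        exact hU₁.mul hU'
      · rw [← mul_assoc]
        exact hL'
    · exact ⟨1, by simp, by rwa [mul_one]⟩

theorem terminal {n : ℕ} (B : Matrix (Fin n) (Fin n) k[X]) (hB : IsUnit (B.map toLaurent).det)
    (hL : (lcm B).det ≠ 0) :
    ∃ Q' : Matrix (Fin n) (Fin n) k[X], IsUnit Q'.det ∧
      B.map toLaurent = (Q'.map toLaurent).map invert *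
        Matrix.diagonal (fun j => T (cd B j : ℤ)) := by
  obtain ⟨Q', hQ'⟩ : ∃ Q' : Matrix (Fin n) (Fin n) k[X], Q' = fun i j => rfl' (cd B j) (B i j) :=
    ⟨_, rfl⟩
  have hEq : B.map toLaurent = (Q'.map toLaurent).map invert *
      Matrix.diagonal (fun j => T (cd B j : ℤ)) := by
    ext i j
    rw [Matrix.mul_diagonal, Matrix.map_apply, Matrix.map_apply, Matrix.map_apply, hQ',
      toLaurent_rfl' _ _ (natDegree_le_cd B i j)]
  refine ⟨Q', ?_, hEq⟩
  apply isUnit_of_toLaurent
  · have h1 := congrArg Matrix.det hEq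
    rw [Matrix.det_mul, Matrix.det_diagonal] at h1
    rw [h1] at hB
    have h2 : IsUnit ((Q'.map toLaurent).map invert).det := by
      have h3 : IsUnit (∏ j : Fin n, (T (cd B j : ℤ) : k[T;T⁻¹])) :=
        IsUnit.prod_univ_iff.mpr (fun j => isUnit_T _)
      exact (IsUnit.mul_iff.mp hB).1
    have h4 : ((Q'.map toLaurent).map invert).det = invert (toLaurent Q'.det) := by
      rw [RingHom.map_det, ← AlgEquiv.coe_ringEquiv, ← RingEquiv.coe_toRingHom, RingHom.map_det]
      rfl
    rw [h4] at h2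
    exact (MulEquiv.isUnit_map (invert (R := k))).mp h2
  · have h1 : Q'.det.coeff 0 = (lcm B).det := by
      rw [← Polynomial.constantCoeff_apply, RingHom.map_det]
      congr 1
      ext i j
      rw [RingHom.mapMatrix_apply, Matrix.map_apply, Polynomial.constantCoeff_apply, hQ',
        coeff_zero_rfl', lcm]
    rw [h1]
    exact hL

theorem map_mul' {n : ℕ} {R S : Type*} [CommRing R] [CommRing S] {F : Type*} [FunLike F R S]
    [RingHomClass F R S] (f : F) (L M : Matrix (Fin n) (Fin n) R) :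
    (L * M).map f = L.map f * M.map f := by
  ext i j
  simp [Matrix.mul_apply, map_sum]

theorem main {n : ℕ} (A : Matrix (Fin n) (Fin n) k[T;T⁻¹]) (hA : IsUnit A) :
    ∃ (P Q : Matrix (Fin n) (Fin n) k[X]) (e : Fin n → ℤ), IsUnit P ∧ IsUnit Q ∧
      A = P.map toLaurent * Matrix.diagonal (fun i => T (e i)) *
        (Q.map toLaurent).map invert := by
  have hAdet : IsUnit A.det := (Matrix.isUnit_iff_isUnit_det A).mp hA
  obtain ⟨A', hA'⟩ : ∃ A' : Matrix (Fin n) (Fin n) k[T;T⁻¹], A' = A.map invert := ⟨_, rfl⟩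
  have hA'det : IsUnit A'.det := by
    have : A'.det = invert A.det := by
      rw [hA', ← AlgEquiv.coe_ringEquiv, ← RingEquiv.coe_toRingHom, RingHom.map_det]
      rfl
    rw [this]
    exact (MulEquiv.isUnit_map (invert (R := k))).mpr hAdet
  obtain ⟨N, A₀, hA₀⟩ := exists_poly_matrix A'
  have hA₀' : A₀.map toLaurent = (T (N : ℤ) : k[T;T⁻¹]) • A' := by
    ext i j
    rw [Matrix.map_apply, hA₀, Matrix.smul_apply, smul_eq_mul, mul_comm]
  have hA₀unit : IsUnit (A₀.map toLaurent).det := by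
    rw [hA₀', Matrix.det_smul]
    exact ((isUnit_T _).pow _).mul hA'det
  have hdet : A₀.det ≠ 0 := by
    intro h0
    have : (A₀.map toLaurent).det = 0 := by
      have h1 : (A₀.map toLaurent).det = toLaurent A₀.det := by
        rw [RingHom.map_det]
        rfl
      rw [h1, h0, map_zero]
    rw [this] at hA₀unit
    exact not_isUnit_zero hA₀unit
  obtain ⟨U, hU, hL⟩ := reduce _ A₀ rfl hdet
  have hUL : (U.map toLaurent).det = toLaurent U.det := by
    rw [RingHom.map_det]
    rfl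
  have hBmap : (A₀ * U).map toLaurent = A₀.map toLaurent * U.map toLaurent := map_mul' _ _ _
  have hBunit : IsUnit ((A₀ * U).map toLaurent).det := by
    rw [hBmap, Matrix.det_mul, hUL]
    exact hA₀unit.mul (hU.map _)
  obtain ⟨Q', hQ', hEq⟩ := terminal (A₀ * U) hBunit hL
  refine ⟨Q', U⁻¹, fun j => (N : ℤ) - cd (A₀ * U) j, (Matrix.isUnit_iff_isUnit_det _).mpr hQ',
    (Matrix.isUnit_iff_isUnit_det _).mpr ((Matrix.isUnit_nonsing_inv_det_iff).mpr hU), ?_⟩
  apply Matrix.map_injective (invert (R := k)).injective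
  beta_reduce
  rw [← hA', map_mul', map_mul']
  have hinv2 : ((U⁻¹.map toLaurent).map invert).map invert = U⁻¹.map toLaurent := by
    ext i j
    simp
  have hdiag : (Matrix.diagonal (fun i => (T ((N : ℤ) - cd (A₀ * U) i) : k[T;T⁻¹]))).map invert =
      (T (-(N : ℤ)) : k[T;T⁻¹]) • Matrix.diagonal (fun j => (T (cd (A₀ * U) j : ℤ) : k[T;T⁻¹])) := by
    ext i j
    by_cases hij : i = j
    · subst hij
      simp only [Matrix.map_apply, Matrix.diagonal_apply_eq, Matrix.smul_apply, smul_eq_mul,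
        invert_T, ← T_add]
      have : -((N : ℤ) - (cd (A₀ * U) i : ℤ)) = -(N : ℤ) + (cd (A₀ * U) i : ℤ) := by ring
      rw [this]
    · simp [Matrix.diagonal_apply_ne _ hij]
  rw [hinv2, hdiag, Matrix.mul_smul, ← hEq, hBmap, hA₀', Matrix.smul_mul, Matrix.smul_mul,
    Matrix.smul_mul, smul_smul, ← T_add, neg_add_cancel, T_zero, one_smul, mul_assoc, ← map_mul',
    Matrix.mul_nonsing_inv U hU]
  ext i j
  simp [Matrix.mul_apply, Matrix.one_apply]

theorem result (k : Type u) [Field k] (n : ℕ)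
    (A : Matrix (Fin n) (Fin n) (LaurentPolynomial k)) (hA : IsUnit A) :
    ∃ (P Q : Matrix (Fin n) (Fin n) (Polynomial k)) (d : Fin n → ℤ),
      IsUnit P ∧ IsUnit Q ∧ Antitone d ∧
        A = P.map Polynomial.toLaurent * Matrix.diagonal (fun i => LaurentPolynomial.T (d i)) *
          (Q.map Polynomial.toLaurent).map LaurentPolynomial.invert := by
  obtain ⟨P, Q, e, hP, hQ, hEq⟩ := main A hA
  obtain ⟨σ, hσ⟩ : ∃ σ : Equiv.Perm (Fin n), σ = Tuple.sort (fun i => -e i) := ⟨_, rfl⟩
  have hmono : Monotone ((fun i => -e i) ∘ σ) := hσ ▸ Tuple.monotone_sort _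
  refine ⟨P.submatrix id σ, Q.submatrix σ id, e ∘ σ, ?_, ?_, ?_, ?_⟩
  · rw [Matrix.isUnit_iff_isUnit_det, Matrix.det_permute']
    exact (Units.isUnit _).map (Int.castRingHom _) |>.mul ((Matrix.isUnit_iff_isUnit_det _).mp hP)
  · rw [Matrix.isUnit_iff_isUnit_det, Matrix.det_permute]
    exact (Units.isUnit _).map (Int.castRingHom _) |>.mul ((Matrix.isUnit_iff_isUnit_det _).mp hQ)
  · intro a b hab
    have := hmono hab
    simp only [Function.comp_apply] at this ⊢
    omega
  · have h1 : (Matrix.diagonal fun i => (T ((e ∘ σ) i) : k[T;T⁻¹])) =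
        (Matrix.diagonal fun i => (T (e i) : k[T;T⁻¹])).submatrix σ σ := by
      rw [Matrix.submatrix_diagonal_equiv]
      rfl
    rw [h1, ← Matrix.submatrix_map, ← Matrix.submatrix_map, ← Matrix.submatrix_map,
      Matrix.submatrix_mul_equiv, Matrix.submatrix_mul_equiv, ← hEq, Matrix.submatrix_id_id]

end Groth.Agent.S10849
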