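import Groth.Statements.S10850
import Groth.Agent.Lib.Helper60.Au5
-- import your own Groth.Agent.* helpers here

set_option autoImplicit false
universe u
open ProjAut

namespace Groth.Agent.S10850

open AlgebraicGeometry CategoryTheory Groth.Agent.Lib.Helper60.AutPn

variable {k : Type u} [Field k] {n : ℕ}

/-- the automorphism of `P^n` over `k` given by an invertible matrix -/
noncomputable def autOf (g : Matrix.GeneralLinearGroup (Fin (n + 1)) k) :
    Aut (Over.mk (CohB1.ProjSpace.toSpec n k)) where
  hom := Over.homMk (rG g) (rG_over g)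
  inv := Over.homMk (rG g⁻¹) (rG_over g⁻¹)
  hom_inv_id := by
    apply Over.OverMorphism.ext
    change rG g ≫ rG g⁻¹ = 𝟙 _
    rw [rG_mul, inv_mul_cancel, rG_one]
  inv_hom_id := by
    apply Over.OverMorphism.ext
    change rG g⁻¹ ≫ rG g = 𝟙 _
    rw [rG_mul, mul_inv_cancel, rG_one]

theorem autOf_mul (g h : Matrix.GeneralLinearGroup (Fin (n + 1)) k) :
    autOf (g * h) = autOf g * autOf h := by
  apply Aut.ext
  apply Over.OverMorphism.ext
  change rG (g * h) = rG h ≫ rG g
  rw [rG_mul]

/-- the homomorphism from the general linear group to the automorphisms -/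
noncomputable def autHom :
    Matrix.GeneralLinearGroup (Fin (n + 1)) k →* Aut (Over.mk (CohB1.ProjSpace.toSpec n k)) :=
  MonoidHom.mk' autOf autOf_mul

theorem autHom_eq_one_iff (g : Matrix.GeneralLinearGroup (Fin (n + 1)) k) :
    autHom g = 1 ↔ rG g = 𝟙 _ := by
  constructor
  · intro h
    have h1 := congrArg (fun a : Aut (Over.mk (CohB1.ProjSpace.toSpec n k)) => a.hom.left) h
    exact h1
  · intro h
    apply Aut.ext
    apply Over.OverMorphism.ext
    exact h

theorem autHom_surjective :
    Function.Surjective (autHom : Matrix.GeneralLinearGroup (Fin (n + 1)) k →* _) := by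
  intro a
  have hσ : a.hom.left ≫ CohB1.ProjSpace.toSpec n k = CohB1.ProjSpace.toSpec n k := Over.w a.hom
  have hτ : a.inv.left ≫ CohB1.ProjSpace.toSpec n k = CohB1.ProjSpace.toSpec n k := Over.w a.inv
  have hστ : a.hom.left ≫ a.inv.left = 𝟙 _ := by
    have := congrArg (fun f => CommaMorphism.left f) a.hom_inv_id
    exact this
  have hτσ : a.inv.left ≫ a.hom.left = 𝟙 _ := by
    have := congrArg (fun f => CommaMorphism.left f) a.inv_hom_id
    exact this
  rcases Nat.eq_zero_or_pos n with hn | hn
  · subst hn
    refine ⟨1, ?_⟩
    rw [map_one]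
    apply Aut.ext
    apply Over.OverMorphism.ext
    exact (eq_id_of_zero a.hom.left hσ).symm
  · obtain ⟨g, hg⟩ := exists_rG_eq hn a.hom.left a.inv.left hσ hτ hστ hτσ
    refine ⟨g, ?_⟩
    apply Aut.ext
    apply Over.OverMorphism.ext
    exact hg.symm


open AlgebraicGeometry CategoryTheory in
/-- Let k be a field and n a natural number. There is a surjective group homomorphism from GL_{n+1}(k)
onto the group of automorphisms of projective n-space P^n_k over Spec k whose kernel is the subgroup
of invertible scalar matrices; so the automorphism group of P^n_k over k is isomorphic to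
PGL_{n+1}(k). (Only the existence of a surjective homomorphism with this kernel is asserted here;
the published statement is about the homomorphism induced by linear substitutions of the homogeneous
coordinates.) -/
theorem result
    (k : Type u) [Field k] (n : ℕ) :
    ∃ φ : Matrix.GeneralLinearGroup (Fin (n + 1)) k →* Aut (Over.mk (CohB1.ProjSpace.toSpec n k)),
      Function.Surjective φ ∧
        φ.ker = (Units.map (Matrix.scalar (Fin (n + 1)) : k →+* Matrix (Fin (n + 1)) (Fin (n + 1)) k).toMonoidHom).range := by
  refine ⟨autHom, autHom_surjective, ?_⟩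
  ext g
  rw [MonoidHom.mem_ker, autHom_eq_one_iff, rG_eq_id_iff]

end Groth.Agent.S10850
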