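import Groth.Statements.S10851
import Mathlib
-- import your own Groth.Agent.* helpers here

set_option autoImplicit false
universe u
open Mero

namespace Groth.Agent.S10851

open AlgebraicGeometry in
theorem germ_trivial_of_dim_zero {X : Scheme.{u}} (z : X)
    (h0 : Ring.KrullDimLE 0 (X.presheaf.stalk z)) (g : Mero.Germ X z) : g = 1 := by
  have hU : Mero.regStalk X z ≤ IsUnit.submonoid (X.presheaf.stalk z) := by
    intro a ha
    by_contra hnu
    have hnil : IsNilpotent a := Ring.KrullDimLE.isNilpotent_iff_mem_nonunits.mpr hnu
    have hnzd := Mero.regStalk_le_nonZeroDivisors z ha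
    obtain ⟨n, hn⟩ := hnil
    have : a ^ n ∈ nonZeroDivisors (X.presheaf.stalk z) := pow_mem hnzd n
    rw [hn] at this
    exact zero_notMem_nonZeroDivisors this
  let e := IsLocalization.atUnits (X.presheaf.stalk z) (Mero.regStalk X z) (S := Mero.KStalk X z) hU
  obtain ⟨u, rfl⟩ := QuotientGroup.mk_surjective g
  rw [QuotientGroup.eq_one_iff]
  have hu : IsUnit (e.symm (u : Mero.KStalk X z)) := u.isUnit.map e.symm
  refine ⟨hu.unit, ?_⟩
  ext
  change algebraMap _ (Mero.KStalk X z) (e.symm (u : Mero.KStalk X z)) = (u : Mero.KStalk X z)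
  rw [← e.commutes, Algebra.algebraMap_self, RingHom.id_apply, e.apply_symm_apply]

open AlgebraicGeometry in

open AlgebraicGeometry in
/-- Let X be a locally Noetherian scheme and D a divisor on X (a global section of K_X^×/O_X^×). Then
the support of D has codimension at least 1 in X: for every point z at which the germ of D is
non-trivial, the local ring O_{X,z} has Krull dimension at least 1. -/
theorem result {X : Scheme.{u}} [IsLocallyNoetherian X]
    (D : Mero.Divisor X) (z : X) (hz : z ∈ Mero.supp D) :
    (1 : WithBot ℕ∞) ≤ ringKrullDim (X.presheaf.stalk z) := by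
  by_contra hlt
  apply hz
  apply germ_trivial_of_dim_zero
  rw [Ring.krullDimLE_iff]
  rw [not_le] at hlt
  have h1 := ringKrullDim_nonneg_of_nontrivial (R := X.presheaf.stalk z)
  generalize ringKrullDim (X.presheaf.stalk z) = d at *
  induction d with
  | bot => simp
  | coe d =>
    norm_cast at *
    exact (Order.lt_one_iff.mp hlt).le


end Groth.Agent.S10851
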