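import Groth.Statements.S10854
import Groth.Agent.Lib.Helper50.StalkIso

set_option autoImplicit false
universe u
open FinCond

namespace Groth.Agent.S10854

open AlgebraicGeometry CategoryTheory in
/-- Let S be a scheme and X, Y two S-schemes locally of finite presentation over S. Let x be a point of
X and y a point of Y over the same point of S, and let φ : O_{Y,y} → O_{X,x} be an isomorphism
compatible with the two homomorphisms from the local ring of S. Then there exist open neighbourhoods
U of x and V of y and an S-isomorphism f : U → V whose composite with Spec O_{X,x} → U and V → Y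
equals Spec φ followed by Spec O_{Y,y} → Y. (The published statement assumes the finiteness
conditions only at the points x and y; this row assumes them everywhere.) -/
theorem result
    {X Y S : Scheme.{u}} (sX : X ⟶ S) (sY : Y ⟶ S)
    [LocallyOfFinitePresentation sX] [LocallyOfFinitePresentation sY]
    {x : X} {y : Y} (e : sX x = sY y)
    (φ : Y.presheaf.stalk y ⟶ X.presheaf.stalk x) [IsIso φ]
    (h : sY.stalkMap y ≫ φ =
      S.presheaf.stalkSpecializes (Inseparable.of_eq e).specializes ≫ sX.stalkMap x) :
    ∃ (U : X.Opens) (hxU : x ∈ U) (V : Y.Opens) (f : U.toScheme ⟶ V.toScheme), IsIso f ∧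
      Spec.map φ ≫ Y.fromSpecStalk y = U.fromSpecStalkOfMem x hxU ≫ f ≫ V.ι ∧
        f ≫ V.ι ≫ sY = U.ι ≫ sX := by
  have ha : (Spec.map φ ≫ Y.fromSpecStalk y) ≫ sY = X.fromSpecStalk x ≫ sX := by
    rw [Category.assoc, ← Scheme.SpecMap_stalkMap_fromSpecStalk sY (x := y), ← Spec.map_comp_assoc, h,
      Spec.map_comp_assoc, ← Scheme.SpecMap_stalkMap_fromSpecStalk sX (x := x),
      Scheme.SpecMap_stalkSpecializes_fromSpecStalk]
  have h1 : IsLocalHom φ.hom := inferInstance
  have h2 : IsLocalHom (inv φ).hom := inferInstance
  exact Groth.Agent.Lib.Helper50.StalkLim.exists_spread_out_iso sX sY (Spec.map φ)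
    (Spec.map (inv φ)) (by rw [← Spec.map_comp, IsIso.inv_hom_id, Spec.map_id])
    (by rw [← Spec.map_comp, IsIso.hom_inv_id, Spec.map_id])
    (IsLocalRing.comap_closedPoint φ.hom) (IsLocalRing.comap_closedPoint (inv φ).hom) ha

end Groth.Agent.S10854
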