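import Groth.Statements.S10856
import Mathlib
-- import your own Groth.Agent.* helpers here

set_option autoImplicit false
universe u
open Mero

namespace Groth.Agent.S10856

open AlgebraicGeometry CategoryTheory TopologicalSpace in
theorem mk_eq_algebraMap {X : Scheme.{u}} (x : X) (a c : X.presheaf.stalk x) (b : Mero.regStalk X x)
    (h : a = (b : X.presheaf.stalk x) * c) :
    (LocalizedModule.mk a b : Mero.KStalk X x) = algebraMap (X.presheaf.stalk x) (Mero.KStalk X x) c := by
  have : algebraMap (X.presheaf.stalk x) (Mero.KStalk X x) c = LocalizedModule.mk c 1 := rfl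
  rw [this, LocalizedModule.mk_eq]
  refine ⟨1, ?_⟩
  simp only [one_smul, Submonoid.smul_def, smul_eq_mul]
  exact h

open AlgebraicGeometry CategoryTheory TopologicalSpace in
theorem eq_mul_of_mk_eq_algebraMap {X : Scheme.{u}} (x : X) (a c : X.presheaf.stalk x)
    (b : Mero.regStalk X x)
    (h : (LocalizedModule.mk a b : Mero.KStalk X x) =
      algebraMap (X.presheaf.stalk x) (Mero.KStalk X x) c) :
    a = (b : X.presheaf.stalk x) * c := by
  have : algebraMap (X.presheaf.stalk x) (Mero.KStalk X x) c = LocalizedModule.mk c 1 := rfl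
  rw [this, LocalizedModule.mk_eq] at h
  obtain ⟨u, hu⟩ := h
  simp only [one_smul, Submonoid.smul_def, smul_eq_mul] at hu
  have hun := Mero.regStalk_le_nonZeroDivisors x u.2
  exact mul_cancel_left_mem_nonZeroDivisors hun |>.mp hu

open AlgebraicGeometry CategoryTheory TopologicalSpace in
theorem isOpen_domain {X : Scheme.{u}} (f : Γ(Mero.kmod X, ⊤)) :
    IsOpen {x : X | f.1 ⟨x, Opens.mem_top x⟩ ∈
      (algebraMap (X.presheaf.stalk x) (Mero.KStalk X x)).range} := by
  rw [isOpen_iff_forall_mem_open]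
  rintro x ⟨r, hr⟩
  obtain ⟨V, hxV, i, a, b, hab⟩ := f.2 ⟨x, Opens.mem_top x⟩
  obtain ⟨V₁, hxV₁, c, rfl⟩ := X.presheaf.exists_germ_eq (x := x) r
  have h1 : (LocalizedModule.mk (X.presheaf.germ V x hxV a) (Mero.regGerm ⟨x, hxV⟩ b) :
      Mero.KStalk X x) = algebraMap _ _ (X.presheaf.germ V₁ x hxV₁ c) := (hab ⟨x, hxV⟩).symm.trans hr.symm
  have h2 := eq_mul_of_mk_eq_algebraMap x _ _ _ h1
  -- spread out the equality a = b * c
  have hx2 : x ∈ V ⊓ V₁ := ⟨hxV, hxV₁⟩
  have h3 : X.presheaf.germ (V ⊓ V₁) x hx2 (X.presheaf.map (homOfLE inf_le_left).op a) =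
      X.presheaf.germ (V ⊓ V₁) x hx2
        (X.presheaf.map (homOfLE inf_le_left).op b.1 * X.presheaf.map (homOfLE inf_le_right).op c) := by
    rw [map_mul, TopCat.Presheaf.germ_res_apply, TopCat.Presheaf.germ_res_apply,
      TopCat.Presheaf.germ_res_apply]
    exact h2
  obtain ⟨V₃, hxV₃, i₁, i₂, h4⟩ := X.presheaf.germ_eq x hx2 hx2 _ _ h3
  refine ⟨V₃, ?_, V₃.isOpen, hxV₃⟩
  intro z hz
  have hz2 : z ∈ V ⊓ V₁ := i₁.le hz
  have hzV : z ∈ V := hz2.1
  have hzV₁ : z ∈ V₁ := hz2.2
  refine ⟨X.presheaf.germ V₁ z hzV₁ c, ?_⟩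
  refine Eq.symm ((hab ⟨z, hzV⟩).trans ?_)
  apply mk_eq_algebraMap
  have h5 := congrArg (X.presheaf.germ V₃ z hz) h4
  simp only [map_mul, TopCat.Presheaf.germ_res_apply] at h5
  exact h5

open AlgebraicGeometry CategoryTheory TopologicalSpace in

open AlgebraicGeometry CategoryTheory TopologicalSpace in
/-- Let X be a scheme and f a global section of the sheaf of meromorphic functions K_X. The domain of
definition of f, i.e. the set of points x whose value f_x ∈ K_{X,x} lies in the image of the local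
ring O_{X,x}, is the underlying set of an open subscheme D of X, and D is schematically dense in X:
for every open subset V of X the restriction map from sections of O_X over V to sections over V ∩ D
is injective. -/
theorem result {X : Scheme.{u}} (f : Γ(Mero.kmod X, ⊤)) :
    ∃ D : X.Opens,
      (D : Set X) = {x | f.1 ⟨x, Opens.mem_top x⟩ ∈ (algebraMap (X.presheaf.stalk x) (Mero.KStalk X x)).range} ∧
        ∀ V : X.Opens, Function.Injective (X.presheaf.map (homOfLE (inf_le_left : V ⊓ D ≤ V)).op) := by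
  refine ⟨⟨_, isOpen_domain f⟩, rfl, ?_⟩
  intro V
  rw [injective_iff_map_eq_zero]
  intro t ht
  apply TopCat.Presheaf.section_ext X.sheaf
  intro y hyV
  change X.presheaf.germ V y hyV t = X.presheaf.germ V y hyV 0
  rw [map_zero]
  obtain ⟨V', hyV', i, a, b, hab⟩ := f.2 ⟨y, Opens.mem_top y⟩
  obtain ⟨W, hW, hyW, hWle⟩ := Opens.isBasis_iff_nbhd.mp X.isBasis_affineOpens
    (show y ∈ V' ⊓ V from ⟨hyV', hyV⟩)
  have hW' : IsAffineOpen W := hW
  have hWV' : W ≤ V' := hWle.trans inf_le_left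
  have hWV : W ≤ V := hWle.trans inf_le_right
  let b' : Γ(X, W) := X.presheaf.map (homOfLE hWV').op b.1
  let t' : Γ(X, W) := X.presheaf.map (homOfLE hWV).op t
  -- basicOpen b' is inside the domain
  have hsub : ∀ z ∈ X.basicOpen b', f.1 ⟨z, Opens.mem_top z⟩ ∈
      (algebraMap (X.presheaf.stalk z) (Mero.KStalk X z)).range := by
    intro z hz
    have hzW : z ∈ W := X.basicOpen_le b' hz
    have hzV' : z ∈ V' := hWV' hzW
    have hu : IsUnit (X.presheaf.germ V' z hzV' b.1) := by
      have := (X.mem_basicOpen b' z hzW).mp hz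
      rwa [TopCat.Presheaf.germ_res_apply] at this
    obtain ⟨u, hu'⟩ := hu
    refine ⟨X.presheaf.germ V' z hzV' a * ((u⁻¹ : (X.presheaf.stalk z)ˣ) : X.presheaf.stalk z), ?_⟩
    refine Eq.symm ((hab ⟨z, hzV'⟩).trans ?_)
    apply mk_eq_algebraMap
    change _ = X.presheaf.germ V' z hzV' b.1 * _
    rw [← hu', mul_comm (X.presheaf.germ V' z hzV' a), ← mul_assoc, Units.mul_inv, one_mul]
  have hle : X.basicOpen b' ≤ V ⊓ (⟨_, isOpen_domain f⟩ : X.Opens) :=
    fun z hz => ⟨hWV (X.basicOpen_le b' hz), hsub z hz⟩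
  -- t vanishes on basicOpen b'
  have h0 : X.presheaf.map (homOfLE (X.basicOpen_le b')).op t' = 0 := by
    have h1 : X.presheaf.map (homOfLE (X.basicOpen_le b')).op t' =
        X.presheaf.map (homOfLE hle).op (X.presheaf.map (homOfLE (inf_le_left : V ⊓ _ ≤ V)).op t) := by
      simp only [t', ← ConcreteCategory.comp_apply, ← Functor.map_comp]
      rfl
    rw [h1, ht, map_zero]
  have hloc := hW'.isLocalization_basicOpen b'
  have h2 : algebraMap Γ(X, W) Γ(X, X.basicOpen b') t' = 0 := h0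
  obtain ⟨⟨_, n, rfl⟩, hn⟩ := (IsLocalization.map_eq_zero_iff (Submonoid.powers b')
    Γ(X, X.basicOpen b') t').mp h2
  have h3 := congrArg (X.presheaf.germ W y hyW) hn
  rw [map_mul, map_pow, map_zero] at h3
  have hnzd : X.presheaf.germ W y hyW b' ∈ nonZeroDivisors (X.presheaf.stalk y) := by
    have := b.2 ⟨y, hyV'⟩
    change X.presheaf.germ W y hyW (X.presheaf.map (homOfLE hWV').op b.1) ∈ _
    rwa [TopCat.Presheaf.germ_res_apply]
  have h4 : X.presheaf.germ W y hyW t' = 0 :=
    (mul_right_mem_nonZeroDivisors_eq_zero_iff (pow_mem hnzd n)).mp (by rw [mul_comm]; exact h3)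
  change X.presheaf.germ W y hyW (X.presheaf.map (homOfLE hWV).op t) = 0 at h4
  rwa [TopCat.Presheaf.germ_res_apply] at h4


end Groth.Agent.S10856
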