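import Groth.Statements.S10860
import Mathlib.AlgebraicGeometry.ZariskisMainTheorem

set_option autoImplicit false
universe u
open Mor

namespace Groth.Agent.S10860

open CategoryTheory AlgebraicGeometry in
/-- For a proper morphism f : X → Y, the set V of points of Y with finite fibre is open, and f
restricted over V is finite (stated as the existence of an open subscheme of Y whose underlying set
is exactly V and over which f is finite). -/
theorem result {X Y : Scheme.{u}} (f : X ⟶ Y) [IsProper f] :
    ∃ U : Y.Opens, (U : Set Y) = {y : Y | (f.base ⁻¹' {y}).Finite} ∧ IsFinite (f ∣_ U) := by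
  let V : Y.Opens := ⟨_, (f.isClosedMap _ f.quasiFiniteLocus.isOpen.isClosed_compl).isOpen_compl⟩
  have hV : ∀ y, y ∈ V ↔ ∀ x, f x = y → f.QuasiFiniteAt x := by
    intro y
    simp [V, not_imp_not]
  refine ⟨V, ?_, ?_⟩
  · ext y
    change y ∈ V ↔ _
    rw [hV]
    constructor
    · intro h
      have hdisc : ∀ x : f ⁻¹' {y}, IsOpen ({x} : Set (f ⁻¹' {y})) := by
        rintro ⟨x, hx⟩
        obtain rfl : f x = y := hx
        have h1 := Scheme.Hom.quasiFiniteAt_iff_isOpen_singleton_asFiber.mp (h x rfl)
        rw [← (f.fiberHomeo (f x)).isOpen_image] at h1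
        simpa only [Set.image_singleton, Scheme.Hom.asFiber, Homeomorph.apply_symm_apply] using h1
      haveI : DiscreteTopology (f ⁻¹' {y}) := discreteTopology_iff_isOpen_singleton.mpr hdisc
      haveI : CompactSpace (f ⁻¹' {y}) :=
        isCompact_iff_compactSpace.mp (f.isCompact_preimage_singleton y)
      exact Set.finite_coe_iff.mp (finite_of_compact_of_discrete)
    · rintro hfin x rfl
      have : Finite (f.fiber (f x)) := (f.fiberHomeo (f x)).finite_iff.mpr hfin
      exact Scheme.Hom.quasiFiniteAt_iff_isOpen_singleton_asFiber.mpr (isOpen_discrete _)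
  · suffices LocallyQuasiFinite (f ∣_ V) from .of_isProper_of_locallyQuasiFinite _
    rw [← Scheme.Hom.quasiFiniteLocus_eq_top_iff]
    ext x
    have : f.QuasiFiniteAt ((f ⁻¹ᵁ V).ι x) := by by_contra H; exact x.2 ⟨_, H, by simp⟩
    rw [← Scheme.Hom.quasiFiniteAt_comp_iff_of_isOpenImmersion, ← morphismRestrict_ι,
      Scheme.Hom.quasiFiniteAt_comp_iff] at this
    simpa

end Groth.Agent.S10860
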