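import Groth.Statements.S10862
import Groth.Agent.Lib.Helper38.FieldN2

set_option autoImplicit false
universe u
open CAlg

namespace Groth.Agent.S10862

/-- For a field k, an integral domain A of finite type over k with fraction field K, and a finite field
extension L of K, the integral closure of A in L is a finitely generated A-module. -/
theorem result (k A K L : Type u) [Field k] [CommRing A] [IsDomain A]
    [Algebra k A] [Algebra.FiniteType k A] [Field K] [Field L] [Algebra A K] [IsFractionRing A K] [Algebra K L]
    [FiniteDimensional K L] [Algebra A L] [IsScalarTower A K L] : Module.Finite A (integralClosure A L) := by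
  have hN2 := Groth.Agent.Lib.Helper38.FieldN2.isN2_of_finiteType k A
  have hinjK : Function.Injective (algebraMap A K) := IsFractionRing.injective A K
  have hinjL : Function.Injective (algebraMap A L) := by
    rw [IsScalarTower.algebraMap_eq A K L]
    exact (algebraMap K L).injective.comp hinjK
  have hfK : FaithfulSMul A K := (faithfulSMul_iff_algebraMap_injective A K).mpr hinjK
  have hfL : FaithfulSMul A L := (faithfulSMul_iff_algebraMap_injective A L).mpr hinjL
  let _ : Algebra (FractionRing A) K := FractionRing.liftAlgebra A K
  have ht1 : IsScalarTower A (FractionRing A) K := FractionRing.isScalarTower_liftAlgebra A K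
  let _ : Algebra (FractionRing A) L := FractionRing.liftAlgebra A L
  have ht2 : IsScalarTower A (FractionRing A) L := FractionRing.isScalarTower_liftAlgebra A L
  have ht3 : IsScalarTower (FractionRing A) K L := by
    apply IsScalarTower.of_algebraMap_eq'
    apply IsLocalization.ringHom_ext (nonZeroDivisors A)
    ext a
    simp only [RingHom.comp_apply]
    rw [← IsScalarTower.algebraMap_apply A (FractionRing A) L,
      ← IsScalarTower.algebraMap_apply A (FractionRing A) K,
      ← IsScalarTower.algebraMap_apply A K L]
  have hsurj : Function.Surjective (algebraMap (FractionRing A) K) := by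
    intro y
    obtain ⟨a, s, rfl⟩ := IsLocalization.exists_mk'_eq (nonZeroDivisors A) y
    refine ⟨IsLocalization.mk' (FractionRing A) a s, ?_⟩
    rw [IsLocalization.eq_mk'_iff_mul_eq, IsScalarTower.algebraMap_apply A (FractionRing A) K,
      ← map_mul, IsLocalization.mk'_spec, ← IsScalarTower.algebraMap_apply A (FractionRing A) K]
  have hfin1 : Module.Finite (FractionRing A) K :=
    Module.Finite.of_surjective (Algebra.linearMap (FractionRing A) K) hsurj
  have hfd : FiniteDimensional (FractionRing A) L := Module.Finite.trans K L
  exact hN2 L hfd

end Groth.Agent.S10862
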