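import Groth.Statements.S10866
import Groth.Agent.Lib.Helper21.PushCoh

set_option autoImplicit false
universe u
open Coherent

namespace Groth.Agent.S10866

open CategoryTheory AlgebraicGeometry in
/-- Let f : X → Y be a morphism of Noetherian schemes such that for every integral closed subscheme i :
Z → X there is a coherent O_Z-module with nonzero stalk at the generic point of Z whose direct image
under i followed by f is coherent on Y. Then the direct image f_*F of every coherent O_X-module F is
coherent. -/
theorem result {X Y : Scheme.{u}} [IsNoetherian X] [IsNoetherian Y]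
    (f : X ⟶ Y)
    (hgen : ∀ (Z : Scheme.{u}) (i : Z ⟶ X) [IsClosedImmersion i] [IsIntegral Z],
      ∃ H : Z.Modules, Coh.IsCoh H ∧ Nontrivial (H.presheaf.stalk (genericPoint Z)) ∧
        Coh.IsCoh ((Scheme.Modules.pushforward (i ≫ f)).obj H))
    (F : X.Modules) (hF : Coh.IsCoh F) : Coh.IsCoh ((Scheme.Modules.pushforward f).obj F) := by
  haveI : QuasiCompact f := ⟨fun U _ _ => TopologicalSpace.NoetherianSpace.isCompact _⟩
  haveI : QuasiSeparated f := inferInstance
  refine Groth.Agent.Lib.Helper21.PushGeneric.root_devissage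
    (fun M => Coh.IsCoh ((Scheme.Modules.pushforward f).obj M)) ?_ ?_ ?_ ?_ ?_ ?_ F hF
  · rintro M N ⟨e⟩ h
    exact Groth.Agent.Lib.Helper21.Devissage.isCoh_of_iso
      ((Scheme.Modules.pushforward f).mapIso e) h
  · intro M hM
    exact Groth.Agent.Lib.Helper21.Devissage.isCoh_of_isZero
      (Groth.Agent.Lib.Helper21.ClImmDev.isZero_pushforward f hM)
  · intro S hS h1 h2 h3 k2 k3
    exact Groth.Agent.Lib.Helper21.PushCoh.isCoh_pushforward_kernel f S hS k2 k3
  · intro S hS h1 h2 h3 k1 k3
    haveI := h2.1
    exact Groth.Agent.Lib.Helper21.PushCoh.isCoh_pushforward_of_shortExact f S hS k1 k3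
  · intro F d hd hF hk
    haveI := hF.1
    exact Groth.Agent.Lib.Helper21.PushCoh.isCoh_pushforward_of_retract f
      (Limits.Sigma.ι (fun _ : Fin d => F) ⟨0, hd⟩) (Limits.Sigma.desc (fun _ => 𝟙 F)) (by simp) hk
  · intro Z i _ _
    obtain ⟨H, hH, hne, hc⟩ := hgen Z i
    exact ⟨H, hH, hne, Groth.Agent.Lib.Helper21.Devissage.isCoh_of_iso
      ((Scheme.Modules.pushforwardComp i f).app H).symm hc⟩

end Groth.Agent.S10866
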