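import Groth.Statements.S10869
import Groth.Agent.Lib.Lead.QAffCounit
import Groth.Agent.Lib.Lead.EpiFree
import Groth.Agent.Lib.Lead.TensorMapMono
import Groth.Agent.Lib.Helper29.QCohQcqs
import Groth.Agent.Lib.Helper2.KerSec

set_option autoImplicit false
universe u
open Coh

namespace Groth.Agent.S10869

open CategoryTheory AlgebraicGeometry Limits Opposite TopologicalSpace Scheme.Modules
open Groth.Agent.Lib.Lead.Inv Groth.Agent.Lib.Lead.QCohAff Groth.Agent.Lib.Helper35.GlobGen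
  Groth.Agent.Lib.Lead.SheafGlue

variable {X S : Scheme.{u}} (f : X ⟶ S)

theorem epi_counit_of_epi_pullback (F : X.Modules) (G : S.Modules)
    (φ : (Scheme.Modules.pullback f).obj G ⟶ F) [Epi φ] :
    Epi ((pullbackPushforwardAdjunction f).counit.app F) := by
  have h : (Scheme.Modules.pullback f).map (((pullbackPushforwardAdjunction f).homEquiv G F) φ) ≫
      (pullbackPushforwardAdjunction f).counit.app F = φ :=
    ((pullbackPushforwardAdjunction f).homEquiv_counit _ _ _).symm.trans (Equiv.symm_apply_apply _ φ)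
  exact epi_of_epi_fac h

theorem hom_eq_zero_of_val_top {M : X.Modules} (s : Coh.structureModule X ⟶ M)
    (h : val s ⊤ = 0) : s = 0 := by
  apply Scheme.Modules.hom_ext
  intro W
  ext r
  have h0 : val s W = 0 := by rw [← val_res s (le_top : W ≤ ⊤), h, map_zero]
  refine (app_eq_smul s W r).trans ?_
  rw [h0]
  exact smul_zero _

theorem comp_eq_zero_of_val {M N : X.Modules} (s : Coh.structureModule X ⟶ M) (φ : M ⟶ N)
    (h : (φ.app ⊤).hom (val s ⊤) = 0) : s ≫ φ = 0 :=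
  hom_eq_zero_of_val_top _ h

/-- if all restrictions to preimages of affine opens are globally generated, the counit is epi -/
theorem epi_counit_of_GG (F : X.Modules)
    (h : ∀ U : S.Opens, IsAffineOpen U →
      Curv2.IsGloballyGenerated (F.restrict (f ⁻¹ᵁ U).ι)) :
    Epi ((pullbackPushforwardAdjunction f).counit.app F) := by
  apply epi_counit_of_faithful
  intro T g hg
  have hg' : ∀ (V' : S.Opens) (σ : Γ(F, f ⁻¹ᵁ V')), (g.app (f ⁻¹ᵁ V')).hom σ = 0 := by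
    intro V' σ
    exact congrArg (fun ψ : (pushforward f).obj F ⟶ (pushforward f).obj T =>
      (Scheme.Modules.Hom.app ψ V').hom σ) hg
  have key : ∀ U : S.Opens, IsAffineOpen U → (restrictFunctor (f ⁻¹ᵁ U).ι).map g = 0 := by
    intro U hU
    obtain ⟨ι, p, hp⟩ := h U hU
    refine zero_of_epi_comp p ?_
    apply Sigma.hom_ext
    intro i
    refine ((Category.assoc _ _ _).symm.trans ?_).trans comp_zero.symm
    apply comp_eq_zero_of_val
    have heq : (f ⁻¹ᵁ U).ι ''ᵁ ⊤ = f ⁻¹ᵁ U := (f ⁻¹ᵁ U).ι_image_top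
    generalize val (Sigma.ι (fun _ : ι => SheafOfModules.unit (↑(f ⁻¹ᵁ U) : Scheme.{u}).ringCatSheaf) i ≫ p) ⊤ = m
    obtain ⟨m', hm'⟩ := (res_bijective_of_eq F heq).2 m
    have h1 : (g.app ((f ⁻¹ᵁ U).ι ''ᵁ ⊤)).hom m = 0 := by
      rw [← hm']
      refine (app_res g heq.le m').trans ?_
      rw [hg' U m', map_zero]
    exact h1
  apply Scheme.Modules.hom_ext
  intro W
  ext m0
  suffices hkey : ∀ m : Γ(F, W), (g.app W).hom m = 0 from hkey m0
  intro m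
  apply eq_of_locally_eq_pts T _ 0
  intro x hxW
  obtain ⟨U, hU, hxU, -⟩ := exists_isAffineOpen_mem_and_subset (X := S) (x := f x) (U := ⊤) trivial
  have hle : (f ⁻¹ᵁ U).ι ''ᵁ ((f ⁻¹ᵁ U).ι ⁻¹ᵁ W) ≤ W := (f ⁻¹ᵁ U).ι.image_preimage_le W
  refine ⟨(f ⁻¹ᵁ U).ι ''ᵁ ((f ⁻¹ᵁ U).ι ⁻¹ᵁ W), hle, ⟨⟨x, hxU⟩, hxW, rfl⟩, ?_⟩
  rw [map_zero]
  refine (app_res g hle m).symm.trans ?_
  have h2 := congrArg (fun ψ : F.restrict (f ⁻¹ᵁ U).ι ⟶ T.restrict (f ⁻¹ᵁ U).ι =>
    (Scheme.Modules.Hom.app ψ ((f ⁻¹ᵁ U).ι ⁻¹ᵁ W)).hom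
      (show Γ(F.restrict (f ⁻¹ᵁ U).ι, (f ⁻¹ᵁ U).ι ⁻¹ᵁ W) from F.presheaf.map (homOfLE hle).op m)) (key U hU)
  exact h2

theorem val_secHom {M : X.Modules} (σ : Γ(M, ⊤)) : val (secHom M σ) ⊤ = σ := by
  refine (secHom_app_one M σ ⊤).trans ?_
  exact res_self M le_rfl σ

theorem app_top_eq_zero_of_desc_comp {M N : X.Modules} {I : Type u}
    (s : I → (Coh.structureModule X ⟶ M)) (φ : M ⟶ N)
    (h : (Sigma.desc s : (∐ fun _ : I => Coh.structureModule X) ⟶ M) ≫ φ = 0) (i : I) :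
    (φ.app ⊤).hom (val (s i) ⊤) = 0 := by
  have e1 : s i ≫ φ = 0 := by
    rw [← Sigma.ι_desc s i, Category.assoc, h, comp_zero]
  exact congrArg (fun ψ => val ψ ⊤) e1

theorem cokernel_π_app_top (M : X.Modules) (τ : Γ(M, ⊤)) :
    ((cokernel.π (Sigma.desc (fun σ : Γ(M, ⊤) => secHom M σ) :
      (∐ fun _ : Γ(M, ⊤) => Coh.structureModule X) ⟶ M)).app ⊤).hom τ = 0 := by
  have := app_top_eq_zero_of_desc_comp (fun σ : Γ(M, ⊤) => secHom M σ) _
    (cokernel.condition (Sigma.desc (fun σ : Γ(M, ⊤) => secHom M σ) :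
      (∐ fun _ : Γ(M, ⊤) => Coh.structureModule X) ⟶ M)) τ
  rw [val_secHom] at this
  exact this

theorem local_vanishing (F : X.Modules) (V : X.Opens) {Q : (↑V : Scheme.{u}).Modules}
    (π : F.restrict V.ι ⟶ Q) (b : Γ(X, V)) (τ : Γ(F, V)) (Vσ : X.Opens) (σ : Γ(F, Vσ))
    (hle : X.basicOpen b ≤ Vσ) (n : ℕ)
    (hτ : F.presheaf.map (homOfLE (X.basicOpen_le b)).op τ =
      (X.presheaf.map (homOfLE (X.basicOpen_le b)).op b) ^ n • F.presheaf.map (homOfLE hle).op σ)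
    (hA : (π.app ⊤).hom (show Γ(F.restrict V.ι, ⊤) from
      F.presheaf.map (homOfLE (V.ι_image_le ⊤)).op τ) = 0) :
    (π.app (V.ι ⁻¹ᵁ (X.basicOpen b))).hom
      (show Γ(F.restrict V.ι, V.ι ⁻¹ᵁ (X.basicOpen b)) from
        F.presheaf.map (homOfLE ((V.ι.image_preimage_le (X.basicOpen b)).trans hle)).op σ) = 0 := by
  have hD' : V.ι ''ᵁ (V.ι ⁻¹ᵁ (X.basicOpen b)) ≤ X.basicOpen b := V.ι.image_preimage_le _
  have hB : (π.app (V.ι ⁻¹ᵁ (X.basicOpen b))).hom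
      ((F.restrict V.ι).presheaf.map (homOfLE (le_top : V.ι ⁻¹ᵁ (X.basicOpen b) ≤ ⊤)).op
        (show Γ(F.restrict V.ι, ⊤) from F.presheaf.map (homOfLE (V.ι_image_le ⊤)).op τ)) = 0 := by
    refine (app_res π le_top _).trans ?_
    rw [hA, map_zero]
  have hτ' : (F.restrict V.ι).presheaf.map (homOfLE (le_top : V.ι ⁻¹ᵁ (X.basicOpen b) ≤ ⊤)).op
        (show Γ(F.restrict V.ι, ⊤) from F.presheaf.map (homOfLE (V.ι_image_le ⊤)).op τ) =
      (X.presheaf.map (homOfLE (hD'.trans (X.basicOpen_le _))).op b) ^ n •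
        F.presheaf.map (homOfLE (hD'.trans hle)).op σ := by
    rw [Scheme.Modules.restrict_map]
    refine (map_map'' F _ _ (homOfLE (hD'.trans (X.basicOpen_le _))).op τ).trans ?_
    have := congrArg (F.presheaf.map (homOfLE hD').op) hτ
    rw [res_res, res_smul, map_pow, res_resX, res_res] at this
    exact this
  have hu : IsUnit (X.presheaf.map (homOfLE (hD'.trans (X.basicOpen_le _))).op b) := by
    rw [← res_resX (X.basicOpen_le b) hD' b]
    exact (isUnit_res_basicOpen b).map (X.presheaf.map (homOfLE hD').op).hom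
  have hr : IsUnit (show Γ(↑V, V.ι ⁻¹ᵁ (X.basicOpen b)) from
      (X.presheaf.map (homOfLE (hD'.trans (X.basicOpen_le _))).op b) ^ n) := hu.pow n
  have h3 := Scheme.Modules.Hom.app_smul π (show Γ(↑V, V.ι ⁻¹ᵁ (X.basicOpen b)) from
      (X.presheaf.map (homOfLE (hD'.trans (X.basicOpen_le _))).op b) ^ n)
    (show Γ(F.restrict V.ι, V.ι ⁻¹ᵁ (X.basicOpen b)) from
      F.presheaf.map (homOfLE (hD'.trans hle)).op σ)
  rw [restrict_smul] at h3
  rw [← hτ', hB] at h3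
  exact (IsUnit.smul_eq_zero hr).mp h3.symm

theorem local_vanishing' (F : X.Modules) (V : X.Opens) {Q : (↑V : Scheme.{u}).Modules}
    (π : F.restrict V.ι ⟶ Q) (b : Γ(X, V)) (τ : Γ(F, V)) (Vσ : X.Opens) (σ : Γ(F, Vσ))
    (hle : X.basicOpen b ≤ Vσ) (n : ℕ)
    (hτ : F.presheaf.map (homOfLE (X.basicOpen_le b)).op τ =
      (X.presheaf.map (homOfLE (X.basicOpen_le b)).op b) ^ n • F.presheaf.map (homOfLE hle).op σ)
    (hA : (π.app ⊤).hom (show Γ(F.restrict V.ι, ⊤) from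
      F.presheaf.map (homOfLE (V.ι_image_le ⊤)).op τ) = 0) :
    Q.presheaf.map (homOfLE (V.ι.preimage_mono hle)).op
      ((π.app (V.ι ⁻¹ᵁ Vσ)).hom
        (show Γ(F.restrict V.ι, V.ι ⁻¹ᵁ Vσ) from
          F.presheaf.map (homOfLE (V.ι.image_preimage_le Vσ)).op σ)) = 0 := by
  refine (app_res π (V.ι.preimage_mono hle) _).symm.trans ?_
  have hσ' : (F.restrict V.ι).presheaf.map (homOfLE (V.ι.preimage_mono hle)).op
      (show Γ(F.restrict V.ι, V.ι ⁻¹ᵁ Vσ) from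
        F.presheaf.map (homOfLE (V.ι.image_preimage_le Vσ)).op σ) =
      F.presheaf.map (homOfLE ((V.ι.image_preimage_le (X.basicOpen b)).trans hle)).op σ := by
    rw [Scheme.Modules.restrict_map]
    exact map_map'' F _ _ _ σ
  refine (congrArg (π.app (V.ι ⁻¹ᵁ (X.basicOpen b))).hom hσ').trans ?_
  exact local_vanishing F V π b τ Vσ σ hle n hτ hA

theorem adjunct_eq_zero [QuasiCompact f] [QuasiSeparated f] (F : X.Modules) [F.IsQuasicoherent]
    (U : S.Opens) (hU : IsAffineOpen U) {Q : (↑(f ⁻¹ᵁ U) : Scheme.{u}).Modules}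
    (π : F.restrict (f ⁻¹ᵁ U).ι ⟶ Q)
    (hπ : ∀ τ : Γ(F.restrict (f ⁻¹ᵁ U).ι, ⊤), (π.app ⊤).hom τ = 0) :
    (pushforward f).map ((restrictAdjunction (f ⁻¹ᵁ U).ι).unit.app F ≫
      (pushforward (f ⁻¹ᵁ U).ι).map π) = 0 := by
  apply Scheme.Modules.hom_ext
  intro V'
  ext σ0
  suffices key : ∀ σ : Γ(F, f ⁻¹ᵁ V'), (((restrictAdjunction (f ⁻¹ᵁ U).ι).unit.app F ≫
      (pushforward (f ⁻¹ᵁ U).ι).map π).app (f ⁻¹ᵁ V')).hom σ = 0 from key σ0
  intro σ
  have hgtapp : (((restrictAdjunction (f ⁻¹ᵁ U).ι).unit.app F ≫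
      (pushforward (f ⁻¹ᵁ U).ι).map π).app (f ⁻¹ᵁ V')).hom σ =
      (π.app ((f ⁻¹ᵁ U).ι ⁻¹ᵁ (f ⁻¹ᵁ V'))).hom
        (F.presheaf.map (homOfLE ((f ⁻¹ᵁ U).ι.image_preimage_le (f ⁻¹ᵁ V'))).op σ) := rfl
  rw [hgtapp]
  apply eq_of_locally_eq_pts Q _ 0
  intro y hy
  have hyU : f ((f ⁻¹ᵁ U).ι y) ∈ U := y.2
  have hyV' : f ((f ⁻¹ᵁ U).ι y) ∈ V' := hy
  obtain ⟨a, haV, hya⟩ := hU.exists_basicOpen_le (V := U ⊓ V') ⟨f ((f ⁻¹ᵁ U).ι y), ⟨hyU, hyV'⟩⟩ hyU
  have hφ : X.basicOpen ((f.app U).hom a) = f ⁻¹ᵁ (S.basicOpen a) :=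
    (Scheme.preimage_basicOpen f a).symm
  have hle : X.basicOpen ((f.app U).hom a) ≤ f ⁻¹ᵁ V' := by
    rw [hφ]
    exact f.preimage_mono (haV.trans inf_le_right)
  have hWc : IsCompact ((f ⁻¹ᵁ U : X.Opens) : Set X) :=
    QuasiCompact.isCompact_preimage (f := f) _ U.isOpen hU.isCompact
  have hWqs : IsQuasiSeparated ((f ⁻¹ᵁ U : X.Opens) : Set X) :=
    f.isQuasiSeparated_preimage hU.isQuasiSeparated
  obtain ⟨n, τ, hτ⟩ := Groth.Agent.Lib.Lead.QcqsLoc.exists_res_eq_pow_smul_of_qcqs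
    F hWc hWqs ((f.app U).hom a) (F.presheaf.map (homOfLE hle).op σ)
  have hyW₀ : y ∈ (f ⁻¹ᵁ U).ι ⁻¹ᵁ (X.basicOpen ((f.app U).hom a)) := by
    show (f ⁻¹ᵁ U).ι y ∈ X.basicOpen ((f.app U).hom a)
    rw [hφ]
    exact hya
  refine ⟨(f ⁻¹ᵁ U).ι ⁻¹ᵁ (X.basicOpen ((f.app U).hom a)), (f ⁻¹ᵁ U).ι.preimage_mono hle, hyW₀, ?_⟩
  rw [map_zero]
  exact local_vanishing' F (f ⁻¹ᵁ U) π ((f.app U).hom a) τ (f ⁻¹ᵁ V') σ hle n hτ (hπ _)

/-- if the counit is epi (`f` qcqs, `F` quasi-coherent), the restriction of `F` to the preimage of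
an affine open is globally generated -/
theorem GG_of_epi_counit [QuasiCompact f] [QuasiSeparated f] (F : X.Modules) [F.IsQuasicoherent]
    [Epi ((pullbackPushforwardAdjunction f).counit.app F)] (U : S.Opens) (hU : IsAffineOpen U) :
    Curv2.IsGloballyGenerated (F.restrict (f ⁻¹ᵁ U).ι) := by
  set p : (∐ fun _ : Γ(F.restrict (f ⁻¹ᵁ U).ι, ⊤) => Coh.structureModule (↑(f ⁻¹ᵁ U) : Scheme.{u})) ⟶
      F.restrict (f ⁻¹ᵁ U).ι := Sigma.desc (fun σ => secHom _ σ) with hp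
  refine ⟨_, p, ?_⟩
  apply Abelian.epi_of_cokernel_π_eq_zero
  -- the adjunct of the cokernel projection
  set gt : F ⟶ (pushforward (f ⁻¹ᵁ U).ι).obj (cokernel p) :=
    (restrictAdjunction (f ⁻¹ᵁ U).ι).unit.app F ≫ (pushforward (f ⁻¹ᵁ U).ι).map (cokernel.π p) with hgt
  have hgt' : gt = (restrictAdjunction (f ⁻¹ᵁ U).ι).homEquiv F (cokernel p) (cokernel.π p) :=
    ((restrictAdjunction (f ⁻¹ᵁ U).ι).homEquiv_unit _ _ _).symm
  have hgt0 : gt = 0 := by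
    apply eq_zero_of_pushforward_map_eq_zero f F
    exact adjunct_eq_zero f F U hU (cokernel.π p)
      (fun τ => cokernel_π_app_top (F.restrict (f ⁻¹ᵁ U).ι) τ)
  have h1 : cokernel.π p = (restrictFunctor (f ⁻¹ᵁ U).ι).map gt ≫
      (restrictAdjunction (f ⁻¹ᵁ U).ι).counit.app (cokernel p) :=
    ((Equiv.symm_apply_apply _ _).symm).trans
      ((congrArg _ hgt'.symm).trans ((restrictAdjunction (f ⁻¹ᵁ U).ι).homEquiv_counit _ _ _))
  refine h1.trans ?_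
  have h2 : (restrictFunctor (f ⁻¹ᵁ U).ι).map gt = 0 :=
    (congrArg (fun t => (restrictFunctor (f ⁻¹ᵁ U).ι).map t) hgt0).trans (Functor.map_zero _ _ _)
  exact (congrArg (fun t => t ≫ (restrictAdjunction (f ⁻¹ᵁ U).ι).counit.app (cokernel p)) h2).trans
    zero_comp

open CategoryTheory AlgebraicGeometry in
/-- For f : X → S quasi-compact and quasi-separated and F a quasi-coherent O_X-module, the counit
f^*f_*F → F is an epimorphism iff F is a quotient of f^*G for some quasi-coherent O_S-module G, iff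
the restriction of F to the inverse image of every affine open of S is globally generated. -/
theorem result {X S : Scheme.{u}} (f : X ⟶ S) [QuasiCompact f] [QuasiSeparated f]
    (F : X.Modules) (hF : Coh.IsQCoh F) :
    (Epi ((Scheme.Modules.pullbackPushforwardAdjunction f).counit.app F) ↔
      ∃ G : S.Modules, Coh.IsQCoh G ∧ ∃ φ : (Scheme.Modules.pullback f).obj G ⟶ F, Epi φ) ∧
    (Epi ((Scheme.Modules.pullbackPushforwardAdjunction f).counit.app F) ↔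
      ∀ U : S.Opens, IsAffineOpen U → Curv2.IsGloballyGenerated (F.restrict (f ⁻¹ᵁ U).ι)) := by
  haveI : F.IsQuasicoherent := hF
  refine ⟨⟨fun h => ?_, ?_⟩, ⟨fun h U hU => ?_, fun h => epi_counit_of_GG f F h⟩⟩
  · exact ⟨(pushforward f).obj F,
      Groth.Agent.Lib.Helper2.KerSec.isQuasicoherent_pushforward_of_qcqs f F, _, h⟩
  · rintro ⟨G, -, φ, hφ⟩
    exact epi_counit_of_epi_pullback f F G φ
  · exact GG_of_epi_counit f F U hU

end Groth.Agent.S10869
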