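import Groth.Statements.S10871
import Mathlib

set_option autoImplicit false
universe u
open AlgebraicGeometry
open Curves

set_option linter.unusedSectionVars false

namespace Groth.Agent.S10871Aux

theorem local_principal (A : Type u) [CommRing A] [IsDedekindDomain A] (I : Ideal A) (hI : I ≠ ⊥)
    (p : Ideal A) [hp : p.IsPrime] :
    ∃ g ∈ I, ∃ f : A, f ∉ p ∧ ∀ x ∈ I, ∃ c, f * x = g * c := by
  classical
  by_cases hp0 : p = ⊥
  · obtain ⟨g, hgI, hg0⟩ := I.ne_bot_iff.mp hI
    refine ⟨g, hgI, g, ?_, fun x _ => ⟨x, rfl⟩⟩
    rw [hp0]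
    simpa using hg0
  · have : IsDiscreteValuationRing (Localization.AtPrime p) :=
      IsLocalization.AtPrime.isDiscreteValuationRing_of_dedekind_domain A hp0 _
    obtain ⟨z, hz⟩ := (IsPrincipalIdealRing.principal
      (I.map (algebraMap A (Localization.AtPrime p)))).principal
    have hzmem : z ∈ I.map (algebraMap A (Localization.AtPrime p)) := by
      rw [hz]; exact Submodule.mem_span_singleton_self z
    rw [IsLocalization.mem_map_algebraMap_iff p.primeCompl] at hzmem
    obtain ⟨⟨⟨g, hgI⟩, s⟩, hgs⟩ := hzmem
    simp only at hgs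
    -- every element of I maps into span {g/1}
    have hspan : ∀ x ∈ I, ∃ f : A, f ∉ p ∧ ∃ c, f * x = g * c := by
      intro x hx
      have hxm : algebraMap A (Localization.AtPrime p) x ∈
          I.map (algebraMap A (Localization.AtPrime p)) := Ideal.mem_map_of_mem _ hx
      rw [hz] at hxm
      obtain ⟨w, hw⟩ := Submodule.mem_span_singleton.mp hxm
      obtain ⟨c, t, hct⟩ := IsLocalization.exists_mk'_eq p.primeCompl w
      -- x/1 = (c/t) * z, z * s = g/1
      have h1 : algebraMap A (Localization.AtPrime p) ((t : A) * (s : A) * x) =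
          algebraMap A (Localization.AtPrime p) (g * c) := by
        rw [map_mul, map_mul, map_mul, ← hw, ← hgs, ← hct, smul_eq_mul]
        have := IsLocalization.mk'_spec (Localization.AtPrime p) c t
        calc algebraMap A (Localization.AtPrime p) t * algebraMap A (Localization.AtPrime p) s *
              (IsLocalization.mk' (Localization.AtPrime p) c t * z)
            = (IsLocalization.mk' (Localization.AtPrime p) c t * algebraMap A (Localization.AtPrime p) t) *
              (z * algebraMap A (Localization.AtPrime p) s) := by ring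
          _ = _ := by rw [this]; ring
      obtain ⟨r, hr⟩ := (IsLocalization.eq_iff_exists p.primeCompl (Localization.AtPrime p)).mp h1
      refine ⟨(r : A) * ((t : A) * (s : A)), ?_, (r : A) * c, ?_⟩
      · intro hmem
        rcases hp.mem_or_mem hmem with h | h
        · exact r.2 h
        · rcases hp.mem_or_mem h with h | h
          · exact t.2 h
          · exact s.2 h
      · linear_combination hr
    obtain ⟨gens, hgens⟩ := (IsNoetherian.noetherian I : I.FG)
    have hgenI : ∀ x ∈ gens, x ∈ I := fun x hx => hgens ▸ Ideal.subset_span hx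
    choose! F hFp hFc using hspan
    refine ⟨g, hgI, ∏ x ∈ gens, F x, ?_, ?_⟩
    · intro hmem
      obtain ⟨x, hx, hxp⟩ := (hp.prod_mem_iff).mp hmem
      exact hFp x (hgenI x hx) hxp
    · have hle : I ≤ (Ideal.span {g}).colon ({∏ x ∈ gens, F x} : Set A) := by
        rw [← hgens, Ideal.span_le]
        intro x hx
        rw [SetLike.mem_coe, Submodule.mem_colon_singleton, smul_eq_mul, Ideal.mem_span_singleton']
        obtain ⟨c, hc⟩ := hFc x (hgenI x hx)
        refine ⟨c * ∏ y ∈ gens.erase x, F y, ?_⟩
        rw [← Finset.mul_prod_erase gens F hx]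
        linear_combination (-(∏ y ∈ gens.erase x, F y)) * hc
      intro x hx
      have := hle hx
      rw [Submodule.mem_colon_singleton, smul_eq_mul, Ideal.mem_span_singleton'] at this
      obtain ⟨c, hc⟩ := this
      exact ⟨c, by linear_combination -hc⟩

end Groth.Agent.S10871Aux

namespace Groth.Agent.S10871

/-- Every open subscheme of the spectrum of a Dedekind domain is affine. -/
theorem result (A : Type u) [CommRing A] [IsDedekindDomain A]
    (U : (Spec (CommRingCat.of A)).Opens) : IsAffineOpen U := by
  classical
  let V : Set (PrimeSpectrum A) := U.carrier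
  have hVopen : IsOpen V := U.isOpen
  let I : Ideal A := PrimeSpectrum.vanishingIdeal (Vᶜ)
  have hU : Vᶜ = PrimeSpectrum.zeroLocus (I : Set A) := by
    rw [PrimeSpectrum.zeroLocus_vanishingIdeal_eq_closure, IsClosed.closure_eq]
    exact hVopen.isClosed_compl
  have hmemU : ∀ q : PrimeSpectrum A, q ∈ V ↔ ¬ ((I : Set A) ⊆ q.asIdeal) := by
    intro q
    rw [← PrimeSpectrum.mem_zeroLocus, ← hU, Set.mem_compl_iff, not_not]
  by_cases hI : I = ⊥
  · have : U = ⊥ := by
      ext q
      simp only [TopologicalSpace.Opens.coe_bot, Set.mem_empty_iff_false, iff_false]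
      intro hq
      apply (hmemU q).1 hq
      rw [hI]
      intro x hx
      rw [SetLike.mem_coe, Submodule.mem_bot] at hx
      rw [hx]; exact zero_mem _
    rw [this]
    exact isAffineOpen_bot _
  · let φ : A →+* Γ(Spec (CommRingCat.of A), U) :=
      ((Spec (CommRingCat.of A)).presheaf.map (CategoryTheory.homOfLE (le_top : U ≤ ⊤)).op).hom.comp
        (Scheme.ΓSpecIso (CommRingCat.of A)).inv.hom
    let T : Set A := {f | IsAffineOpen (U ⊓ PrimeSpectrum.basicOpen f)}
    have hT : Ideal.span T = ⊤ := by
      by_contra hne
      obtain ⟨p, hpmax, hle⟩ := Ideal.exists_le_maximal _ hne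
      have : p.IsPrime := hpmax.isPrime
      obtain ⟨g, hgI, f, hfp, hfc⟩ := Groth.Agent.S10871Aux.local_principal A I hI p
      apply hfp
      apply hle
      apply Ideal.subset_span
      show IsAffineOpen (U ⊓ PrimeSpectrum.basicOpen f)
      have heq : U ⊓ PrimeSpectrum.basicOpen f = PrimeSpectrum.basicOpen (f * g) := by
        ext q
        simp only [TopologicalSpace.Opens.coe_inf, Set.mem_inter_iff, SetLike.mem_coe,
          PrimeSpectrum.mem_basicOpen]
        constructor
        · rintro ⟨hqU, hfq⟩
          have hqU' := (hmemU q).1 hqU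
          rw [Set.not_subset] at hqU'
          obtain ⟨x, hxI, hxq⟩ := hqU'
          obtain ⟨c, hc⟩ := hfc x hxI
          intro hfg
          have h1 : f * x ∈ q.asIdeal := by
            rw [hc]
            rcases q.isPrime.mem_or_mem hfg with h | h
            · exact absurd h hfq
            · exact Ideal.mul_mem_right _ _ h
          rcases q.isPrime.mem_or_mem h1 with h | h
          · exact hfq h
          · exact hxq h
        · intro hfg
          refine ⟨(hmemU q).2 ?_, fun hf => hfg (Ideal.mul_mem_right _ _ hf)⟩
          intro hsub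
          exact hfg (Ideal.mul_mem_left _ _ (hsub hgI))
      rw [heq]
      have h0 := (isAffineOpen_top (Spec (CommRingCat.of A))).basicOpen
        ((Scheme.ΓSpecIso (CommRingCat.of A)).inv (f * g))
      rw [basicOpen_eq_of_affine] at h0
      exact h0
    apply isAffineOpen_of_isAffineOpen_basicOpen U (φ '' T)
    · rw [← Ideal.map_span, hT, Ideal.map_top]
    · rintro _ ⟨f, hf, rfl⟩
      show IsAffineOpen ((Spec (CommRingCat.of A)).basicOpen
        (((Spec (CommRingCat.of A)).presheaf.map (CategoryTheory.homOfLE (le_top : U ≤ ⊤)).op)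
          ((Scheme.ΓSpecIso (CommRingCat.of A)).inv f)))
      rw [Scheme.basicOpen_res, basicOpen_eq_of_affine]
      exact hf

end Groth.Agent.S10871
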