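import Mathlib
-- Template for statement S10876 (row 10875; see the milestone table for weights).
-- Copy to Groth/Agent/S10876.lean and replace the sorry. The statement below is byte-identical to the frozen
-- statement CAlg.GrothFrozen.S10876 (Groth/Statements/S10876.lean; the theorem CAlg.flat_iff_flat_baseChange_of_finite_injective);
-- the grader kernel-checks Groth.Agent.S10876.result against that frozen type. Keep the theorem IN THIS FILE
-- (a `result` declared elsewhere and merely imported here is not credited); helpers may live anywhere
-- under Groth/Agent/.
import Groth.Statements.S10876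
import Groth.Agent.Lib.Helper24.FlatTopology

set_option autoImplicit false
universe u
open TensorProduct
open CAlg

namespace Groth.Agent.S10876

/-- Descent of flatness along finite injective maps: let A → B be a local homomorphism of Noetherian
local rings and A → A' an injective ring homomorphism making A' a finite A-module. Then B is A-flat
if and only if the base change A' ⊗_A B is A'-flat. -/
theorem result (A B A' : Type u) [CommRing A] [CommRing B]
    [CommRing A'] [IsNoetherianRing A] [IsLocalRing A] [IsNoetherianRing B] [IsLocalRing B]
    [Algebra A B] [IsLocalHom (algebraMap A B)] [Algebra A A'] [Module.Finite A A']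
    (hinj : Function.Injective (algebraMap A A')) :
    Module.Flat A B ↔ Module.Flat A' (A' ⊗[A] B) := by
  constructor
  · intro h
    infer_instance
  · intro hB'
    set m := IsLocalRing.maximalIdeal A with hm
    set φ := algebraMap A A' with hφ
    have : Algebra.IsIntegral A A' := Algebra.IsIntegral.of_finite A A'
    -- lying over
    have hker : RingHom.ker φ ≤ m := by
      rw [(RingHom.injective_iff_ker_eq_bot φ).mp hinj]
      exact bot_le
    obtain ⟨Q, hQmax, hQ⟩ := Ideal.exists_ideal_over_maximal_of_isIntegral (S := A') m hker
    have hrad : (m.map φ).comap φ = m := by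
      apply le_antisymm
      · rw [← hQ]
        refine Ideal.comap_mono ?_
        rw [Ideal.map_le_iff_le_comap, hQ]
      · exact Ideal.le_comap_map
    -- Artin-Rees
    obtain ⟨k, hk⟩ := Ideal.exists_pow_inf_eq_pow_smul m
      (LinearMap.range (Algebra.linearMap A A'))
    have hN : ∀ n : ℕ, ((m.map φ) ^ (n + k)).comap φ ≤ m ^ n := by
      intro n a ha
      rw [Ideal.mem_comap, ← Ideal.map_pow] at ha
      have h1 : φ a ∈ (m ^ (n + k) • ⊤ : Submodule A A') := by
        rw [Ideal.smul_top_eq_map]
        exact ha
      have h2 : φ a ∈ (m ^ (n + k) • ⊤ ⊓ LinearMap.range (Algebra.linearMap A A') :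
          Submodule A A') := ⟨h1, ⟨a, rfl⟩⟩
      rw [hk (n + k) (Nat.le_add_left k n), Nat.add_sub_cancel] at h2
      have h3 : φ a ∈ (m ^ n • LinearMap.range (Algebra.linearMap A A') : Submodule A A') :=
        Submodule.smul_mono le_rfl inf_le_right h2
      rw [← Submodule.map_top, ← Submodule.map_smul''] at h3
      obtain ⟨b, hb, hba⟩ := h3
      have hb' : b ∈ m ^ n := by
        rw [smul_eq_mul, Ideal.mul_top] at hb
        exact hb
      have : b = a := hinj hba
      rw [← this]
      exact hb'
    refine Groth.Agent.Lib.Helper24.LocalCritPow.flat_of_forall_flat_quotient_pow A B B m ?_ ?_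
    · exact (IsLocalRing.map_maximalIdeal_le (algebraMap A B)).trans
        (IsLocalRing.maximalIdeal_le_jacobson ⊥)
    · intro n hn
      exact Groth.Agent.Lib.Helper24.FlatTopology.flat_quotient_pow A B A' (m.map φ) hrad hB'
        n (n + k) hn (hN n)

end Groth.Agent.S10876
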