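import Groth.Statements.S10878
import Mathlib

set_option autoImplicit false
universe u
open CategoryTheory AlgebraicGeometry
open FlatMor

namespace Groth.Agent.S10878

section helpers
open CategoryTheory AlgebraicGeometry Limits Topology TopologicalSpace Set


theorem top_glue {α β ι : Type*} [TopologicalSpace α] [TopologicalSpace β] (f : α → β)
    (hf : Continuous f) (hinj : Function.Injective f) (U : ι → Opens α) (hU : ⨆ i, U i = ⊤)
    (hd : ∀ i, Dense (U i : Set α))
    (h : ∀ i, IsEmbedding (f ∘ (Subtype.val : U i → α)) ∧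
      IsLocallyClosed (f '' (U i : Set α))) :
    IsEmbedding f ∧ IsLocallyClosed (range f) := by
  have hcl : ∀ i, range f ⊆ closure (f '' (U i : Set α)) := fun i =>
    hf.range_subset_closure_image_dense (hd i)
  have hcov : ∀ x : α, ∃ i, x ∈ U i := by
    intro x
    have : x ∈ (⨆ i, U i : Opens α) := by rw [hU]; trivial
    simpa [Opens.mem_iSup] using this
  have hcb : ∀ i, coborder (f '' (U i : Set α)) ∩ closure (f '' (U i : Set α)) =
      f '' (U i : Set α) := fun i => coborder_inter_closure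
  have hopen : ∀ i, IsOpen (coborder (f '' (U i : Set α))) := fun i => (h i).2.isOpen_coborder
  -- key: f x ∈ coborder (f '' U i) → x ∈ U i
  have key : ∀ i x, f x ∈ coborder (f '' (U i : Set α)) → x ∈ U i := by
    intro i x hx
    have : f x ∈ f '' (U i : Set α) := by
      rw [← hcb i]; exact ⟨hx, hcl i (mem_range_self x)⟩
    obtain ⟨u, hu, hux⟩ := this
    rw [← hinj hux]; exact hu
  refine ⟨⟨⟨le_antisymm hf.le_induced ?_⟩, hinj⟩, ?_⟩
  · intro W hW
    rw [isOpen_induced_iff]
    have hex : ∀ i, ∃ t, IsOpen t ∧ (f ∘ (Subtype.val : U i → α)) ⁻¹' t =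
        (Subtype.val : U i → α) ⁻¹' W := fun i =>
      ((h i).1.isInducing.isOpen_iff).1 (hW.preimage continuous_subtype_val)
    choose t ht1 ht2 using hex
    refine ⟨⋃ i, t i ∩ coborder (f '' (U i : Set α)),
      isOpen_iUnion fun i => (ht1 i).inter (hopen i), ?_⟩
    ext x
    simp only [mem_preimage, mem_iUnion, mem_inter_iff]
    constructor
    · rintro ⟨i, hxt, hxc⟩
      have hxU := key i x hxc
      have : (⟨x, hxU⟩ : U i) ∈ (f ∘ (Subtype.val : U i → α)) ⁻¹' t i := hxt
      rw [ht2 i] at this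
      exact this
    · intro hxW
      obtain ⟨i, hxU⟩ := hcov x
      refine ⟨i, ?_, subset_coborder (mem_image_of_mem f hxU)⟩
      have : (⟨x, hxU⟩ : U i) ∈ (Subtype.val : U i → α) ⁻¹' W := hxW
      rw [← ht2 i] at this
      exact this
  · refine ⟨⋃ i, coborder (f '' (U i : Set α)), closure (range f), isOpen_iUnion hopen,
      isClosed_closure, ?_⟩
    ext y
    simp only [mem_inter_iff, mem_iUnion]
    constructor
    · rintro ⟨x, rfl⟩
      obtain ⟨i, hxU⟩ := hcov x
      exact ⟨⟨i, subset_coborder (mem_image_of_mem f hxU)⟩, subset_closure (mem_range_self x)⟩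
    · rintro ⟨⟨i, hi⟩, hy⟩
      have hy' : y ∈ closure (f '' (U i : Set α)) :=
        closure_minimal (hcl i) isClosed_closure hy
      have : y ∈ f '' (U i : Set α) := by rw [← hcb i]; exact ⟨hi, hy'⟩
      exact image_subset_range _ _ this

theorem inj {X Y : Scheme.{u}} (f : X ⟶ Y) [IsSeparated f] {ι : Type u} (U : ι → X.Opens)
    (hd : ∀ i, Dense (U i : Set X)) (h : ∀ i, IsImmersion ((U i).ι ≫ f)) (i j : ι) (x x' : X)
    (hx : x ∈ U i) (hx' : x' ∈ U j) (hxx' : f x = f x') : x = x' := by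
  haveI := h i
  haveI := h j
  let p1 := pullback.fst ((U i).ι ≫ f) ((U j).ι ≫ f)
  let p2 := pullback.snd ((U i).ι ≫ f) ((U j).ι ≫ f)
  let m : pullback ((U i).ι ≫ f) ((U j).ι ≫ f) ⟶ pullback f f :=
    pullback.map _ _ f f (U i).ι (U j).ι (𝟙 Y) (by simp) (by simp)
  let δ : (U i ⊓ U j).toScheme ⟶ pullback ((U i).ι ≫ f) ((U j).ι ≫ f) :=
    pullback.lift (X.homOfLE inf_le_left) (X.homOfLE inf_le_right) (by simp)
  have hδ1 : δ ≫ p1 = X.homOfLE inf_le_left := pullback.lift_fst _ _ _
  have hδ2 : δ ≫ p2 = X.homOfLE inf_le_right := pullback.lift_snd _ _ _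
  have hm1 : m ≫ pullback.fst f f = p1 ≫ (U i).ι := pullback.lift_fst _ _ _
  have hm2 : m ≫ pullback.snd f f = p2 ≫ (U j).ι := pullback.lift_snd _ _ _
  have hδ : δ ≫ m = (U i ⊓ U j).ι ≫ pullback.diagonal f := by
    apply pullback.hom_ext
    · rw [Category.assoc, hm1, ← Category.assoc, hδ1, Category.assoc, pullback.diagonal_fst,
        Scheme.homOfLE_ι, Category.comp_id]
    · rw [Category.assoc, hm2, ← Category.assoc, hδ2, Category.assoc, pullback.diagonal_snd,
        Scheme.homOfLE_ι, Category.comp_id]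
  obtain ⟨z, hz1, hz2⟩ := Scheme.Pullback.exists_preimage_pullback
    (f := (U i).ι ≫ f) (g := (U j).ι ≫ f) (⟨x, hx⟩ : U i) (⟨x', hx'⟩ : U j) (by simpa using hxx')
  have hC : IsClosed (m ⁻¹' (range (pullback.diagonal f))) :=
    (pullback.diagonal f).isClosedEmbedding.isClosed_range.preimage m.continuous
  have hzC : z ∈ m ⁻¹' (range (pullback.diagonal f)) := by
    by_contra hzC
    obtain ⟨O', hO', hO'eq⟩ := (p1.isEmbedding.isInducing.isOpen_iff).1 hC.isOpen_compl
    have hxO' : (⟨x, hx⟩ : U i) ∈ O' := by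
      have : z ∈ p1 ⁻¹' O' := by rw [hO'eq]; exact hzC
      rw [mem_preimage, hz1] at this
      exact this
    have hopen : IsOpen ((U i).ι '' O') := (U i).ι.isOpenEmbedding.isOpenMap _ hO'
    obtain ⟨w, ⟨w', hw'O, hw'w⟩, hwj⟩ :=
      (hd j).inter_open_nonempty _ hopen ⟨x, ⟨x, hx⟩, hxO', rfl⟩
    have hwi : w ∈ U i := by rw [← hw'w]; exact w'.2
    let wij : (U i ⊓ U j).toScheme := ⟨w, hwi, hwj⟩
    have h1 : p1 (δ wij) = w' := by
      rw [← Scheme.Hom.comp_apply, hδ1]
      apply Subtype.ext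
      rw [Scheme.homOfLE_apply' _ _ (show w ∈ U i ⊓ U j from ⟨hwi, hwj⟩)]
      exact hw'w.symm
    have h2 : δ wij ∈ (m ⁻¹' (range (pullback.diagonal f)))ᶜ := by
      rw [← hO'eq, mem_preimage, h1]; exact hw'O
    apply h2
    rw [mem_preimage, ← Scheme.Hom.comp_apply, hδ]
    exact ⟨_, rfl⟩
  obtain ⟨y, hy⟩ := hzC
  have e1 : x = y := by
    have : (m ≫ pullback.fst f f) z = (p1 ≫ (U i).ι) z := by rw [hm1]
    rw [Scheme.Hom.comp_apply, Scheme.Hom.comp_apply, ← hy, hz1, ← Scheme.Hom.comp_apply] at this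
    simpa using this.symm
  have e2 : x' = y := by
    have : (m ≫ pullback.snd f f) z = (p2 ≫ (U j).ι) z := by rw [hm2]
    rw [Scheme.Hom.comp_apply, Scheme.Hom.comp_apply, ← hy, hz2, ← Scheme.Hom.comp_apply] at this
    simpa using this.symm
  rw [e1, e2]

theorem core {X Y : Scheme.{u}} (f : X ⟶ Y) [IsSeparated f]
    (hfin : (irreducibleComponents (X : Type u)).Finite) {ι : Type u} (U : ι → X.Opens)
    (hU : ⨆ i, U i = ⊤) (hd : ∀ i, Dense (U i : Set X)) (h : ∀ i, IsImmersion ((U i).ι ≫ f)) :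
    IsImmersion f := by
  have hcov : ∀ x : X, ∃ i, x ∈ U i := by
    intro x
    have : x ∈ (⨆ i, U i : X.Opens) := by rw [hU]; trivial
    simpa [Opens.mem_iSup] using this
  have hinj : Function.Injective f := by
    intro x x' hxx'
    obtain ⟨i, hx⟩ := hcov x
    obtain ⟨j, hx'⟩ := hcov x'
    exact inj f U hd h i j x x' hx hx' hxx'
  have htop := top_glue f f.continuous hinj U hU hd (fun i => by
    haveI := h i
    constructor
    · exact ((U i).ι ≫ f).isEmbedding
    · have := ((U i).ι ≫ f).isLocallyClosed_range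
      convert this using 1
      ext y
      constructor
      · rintro ⟨x, hx, rfl⟩
        exact ⟨⟨x, hx⟩, rfl⟩
      · rintro ⟨x, rfl⟩
        exact ⟨x.1, x.2, rfl⟩)
  have hs : SurjectiveOnStalks f := by
    rw [IsZariskiLocalAtSource.iff_of_iSup_eq_top (P := @SurjectiveOnStalks) U hU]
    intro i
    haveI := h i
    infer_instance
  exact { toSurjectiveOnStalks := hs, isEmbedding := htop.1, isLocallyClosed_range := htop.2 }

end helpers

/-- A separated morphism f : X → Y, with X having finitely many irreducible components, which restricts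
to an immersion on each member of a cover of X by dense open subsets, is an immersion. -/
theorem result {X Y : Scheme.{u}} (f : X ⟶ Y) [IsSeparated f]
    (hfin : (irreducibleComponents (X : Type u)).Finite) {ι : Type u} (U : ι → X.Opens)
    (hU : ⨆ i, U i = ⊤) (hd : ∀ i, Dense (U i : Set X)) (h : ∀ i, IsImmersion ((U i).ι ≫ f)) :
    IsImmersion f := by
  exact core f hfin U hU hd h

end Groth.Agent.S10878
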