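import Groth.Statements.S10879
import Mathlib

set_option autoImplicit false
universe u
open CategoryTheory AlgebraicGeometry
open FlatMor

namespace Groth.Agent.S10879

/-- faithfully flat `A → B` of subrings of isomorphic "fraction fields" is bijective. -/
theorem bijective_of_faithfullyFlat {A B K L : Type*} [CommRing A] [CommRing B] [CommRing K]
    [CommRing L] [IsDomain L] (φ : A →+* B) (α : A →+* K) (β : B →+* L) (ψ : K →+* L)
    (hsq : ψ.comp α = β.comp φ) (hβ : Function.Injective β) (hψ : Function.Bijective ψ)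
    (hfrac : ∀ k : K, ∃ x y : A, α y ≠ 0 ∧ k * α y = α x)
    (hff : @Module.FaithfullyFlat A B _ _ φ.toAlgebra.toModule) : Function.Bijective φ := by
  let _ : Algebra A B := φ.toAlgebra
  have hinj : Function.Injective φ := FaithfulSMul.algebraMap_injective A B
  refine ⟨hinj, ?_⟩
  intro b
  obtain ⟨k, hk⟩ := hψ.2 (β b)
  obtain ⟨x, y, hy, hxy⟩ := hfrac k
  have h1 : β (b * φ y) = β (φ x) := by
    have e1 : β (φ y) = ψ (α y) := (RingHom.congr_fun hsq y).symm
    have e2 : β (φ x) = ψ (α x) := (RingHom.congr_fun hsq x).symm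
    rw [map_mul, e1, e2, ← hk, ← map_mul, hxy]
  have h2 : b * φ y = φ x := hβ h1
  have h3 : x ∈ (Ideal.span {y} : Ideal A) := by
    rw [← Ideal.comap_map_eq_self_of_faithfullyFlat (B := B) (Ideal.span {y})]
    rw [Ideal.mem_comap, Ideal.map_span, Set.image_singleton, Ideal.mem_span_singleton']
    exact ⟨b, h2⟩
  obtain ⟨a, ha⟩ := Ideal.mem_span_singleton'.mp h3
  refine ⟨a, ?_⟩
  have h4 : β (φ a - b) * β (φ y) = 0 := by
    rw [← map_mul, sub_mul, ← map_mul, ha, h2, sub_self, map_zero]
  have h5 : β (φ y) ≠ 0 := by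
    have e1 : β (φ y) = ψ (α y) := (RingHom.congr_fun hsq y).symm
    rw [e1]
    intro h0
    exact hy (hψ.1 (by rw [h0, map_zero]))
  have h6 : β (φ a - b) = 0 := (mul_eq_zero.mp h4).resolve_right h5
  have h7 : φ a - b = 0 := hβ (by rw [h6, map_zero])
  exact sub_eq_zero.mp h7

/-- elements of the stalk at the generic point are fractions of elements of any other stalk. -/
theorem exists_frac {X : Scheme.{u}} [IsIntegral X] (x y : X) (hy : y = genericPoint X)
    (h : y ⤳ x) (k : X.presheaf.stalk y) :
    ∃ a b : X.presheaf.stalk x, (X.presheaf.stalkSpecializes h).hom b ≠ 0 ∧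
      k * (X.presheaf.stalkSpecializes h).hom b = (X.presheaf.stalkSpecializes h).hom a := by
  subst hy
  obtain ⟨a, b, hb, rfl⟩ := IsFractionRing.div_surjective (A := X.presheaf.stalk x)
    (K := X.functionField) k
  have hb0 : algebraMap (X.presheaf.stalk x) X.functionField b ≠ 0 := by
    intro h0
    have := (IsFractionRing.injective (X.presheaf.stalk x) X.functionField) (h0.trans (map_zero _).symm)
    exact (nonZeroDivisors.ne_zero hb) this
  refine ⟨a, b, hb0, ?_⟩
  exact div_mul_cancel₀ _ hb0

theorem map_genericPoint {X' X : Scheme.{u}} [IsIntegral X'] [IsIntegral X] (f : X' ⟶ X)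
    [Surjective f] : f (genericPoint X') = genericPoint X := by
  apply ((genericPoint_spec X).eq _).symm
  have h1 := (genericPoint_spec X').image f.continuous
  have h2 : closure (f '' (Set.univ : Set X')) = Set.univ := by
    rw [Set.image_univ]
    exact (f.surjective.denseRange).closure_eq
  rw [h2] at h1
  exact h1

/-- a flat birational morphism of integral schemes induces isomorphisms on all stalks. -/
theorem bijective_stalkMap {X' X : Scheme.{u}} [IsIntegral X'] [IsIntegral X] (f : X' ⟶ X)
    [Surjective f] [Flat f] (hK : IsIso (f.stalkMap (genericPoint X'))) (x' : X') :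
    Function.Bijective (f.stalkMap x').hom := by
  have hspec : genericPoint X' ⤳ x' := (genericPoint_spec X').specializes trivial
  have hsq := Scheme.Hom.stalkSpecializes_stalkMap f (genericPoint X') x' hspec
  refine bijective_of_faithfullyFlat (f.stalkMap x').hom
    (X.presheaf.stalkSpecializes (f.base.hom.map_specializes hspec)).hom
    (X'.presheaf.stalkSpecializes hspec).hom (f.stalkMap (genericPoint X')).hom ?_ ?_ ?_ ?_ ?_
  · rw [← CommRingCat.hom_comp, ← CommRingCat.hom_comp, hsq]
  · exact IsFractionRing.injective (X'.presheaf.stalk x') X'.functionField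
  · exact (ConcreteCategory.isIso_iff_bijective _).mp hK
  · exact exists_frac _ _ (map_genericPoint f) _
  · have hfl : (f.stalkMap x').hom.Flat := Flat.stalkMap f x'
    let _ : Algebra (X.presheaf.stalk (f x')) (X'.presheaf.stalk x') := (f.stalkMap x').hom.toAlgebra
    have : Module.Flat (X.presheaf.stalk (f x')) (X'.presheaf.stalk x') := hfl
    have : IsLocalHom (algebraMap (X.presheaf.stalk (f x')) (X'.presheaf.stalk x')) :=
      inferInstanceAs (IsLocalHom (f.stalkMap x').hom)
    exact Module.FaithfullyFlat.of_flat_of_isLocalHom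

theorem injective_of_bijective_stalkMap {X' X : Scheme.{u}} [IsIntegral X'] [IsIntegral X]
    (f : X' ⟶ X) [IsSeparated f]
    (hst : ∀ x', Function.Bijective (f.stalkMap x').hom) :
    Function.Injective f := by
  intro x₁ x₂ h
  have hspec₁ : genericPoint X' ⤳ x₁ := (genericPoint_spec X').specializes trivial
  have hspec₂ : genericPoint X' ⤳ x₂ := (genericPoint_spec X').specializes trivial
  have hφ₁ : IsIso (f.stalkMap x₁) := (ConcreteCategory.isIso_iff_bijective _).mpr (hst x₁)
  have hφ₂ : IsIso (f.stalkMap x₂) := (ConcreteCategory.isIso_iff_bijective _).mpr (hst x₂)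
  have hψ : IsIso (f.stalkMap (genericPoint X')) :=
    (ConcreteCategory.isIso_iff_bijective _).mpr (hst _)
  have h12 : f x₁ ⤳ f x₂ := specializes_of_eq h
  let σ := X.presheaf.stalkSpecializes h12
  have hσ : IsIso σ :=
    inferInstanceAs (IsIso (X.presheaf.stalkCongr (Inseparable.of_eq h.symm)).hom)
  let α₁ := X.presheaf.stalkSpecializes (f.base.hom.map_specializes hspec₁)
  let α₂ := X.presheaf.stalkSpecializes (f.base.hom.map_specializes hspec₂)
  let β₁ := X'.presheaf.stalkSpecializes hspec₁
  let β₂ := X'.presheaf.stalkSpecializes hspec₂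
  have hσα : σ ≫ α₁ = α₂ := TopCat.Presheaf.stalkSpecializes_comp _ _ _
  have hsq₁ : α₁ ≫ f.stalkMap (genericPoint X') = f.stalkMap x₁ ≫ β₁ :=
    Scheme.Hom.stalkSpecializes_stalkMap f (genericPoint X') x₁ hspec₁
  have hsq₂ : α₂ ≫ f.stalkMap (genericPoint X') = f.stalkMap x₂ ≫ β₂ :=
    Scheme.Hom.stalkSpecializes_stalkMap f (genericPoint X') x₂ hspec₂
  let g₁ : Spec (X.presheaf.stalk (f x₁)) ⟶ X' :=
    Spec.map (inv (f.stalkMap x₁)) ≫ X'.fromSpecStalk x₁
  let g₂ : Spec (X.presheaf.stalk (f x₁)) ⟶ X' :=
    Spec.map (inv (f.stalkMap x₂) ≫ σ) ≫ X'.fromSpecStalk x₂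
  have hg₁ : g₁ ≫ f = X.fromSpecStalk (f x₁) := by
    simp only [g₁, Category.assoc]
    rw [← Scheme.SpecMap_stalkMap_fromSpecStalk f, ← Category.assoc, ← Spec.map_comp,
      IsIso.hom_inv_id, Spec.map_id, Category.id_comp]
  have hg₂ : g₂ ≫ f = X.fromSpecStalk (f x₁) := by
    simp only [g₂, Category.assoc]
    rw [← Scheme.SpecMap_stalkMap_fromSpecStalk f, ← Category.assoc, ← Spec.map_comp,
      ← Category.assoc, IsIso.hom_inv_id, Category.id_comp]
    exact Scheme.SpecMap_stalkSpecializes_fromSpecStalk h12
  let ι : Spec (X.presheaf.stalk (f (genericPoint X'))) ⟶ Spec (X.presheaf.stalk (f x₁)) :=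
    Spec.map α₁
  have hι₁ : ι ≫ g₁ = Spec.map (inv (f.stalkMap (genericPoint X'))) ≫
      X'.fromSpecStalk (genericPoint X') := by
    have e : inv (f.stalkMap x₁) ≫ α₁ = β₁ ≫ inv (f.stalkMap (genericPoint X')) := by
      rw [IsIso.inv_comp_eq, ← Category.assoc, ← hsq₁, Category.assoc, IsIso.hom_inv_id,
        Category.comp_id]
    simp only [ι, g₁]
    rw [← Category.assoc, ← Spec.map_comp, e, Spec.map_comp, Category.assoc,
      Scheme.SpecMap_stalkSpecializes_fromSpecStalk]
  have hι₂ : ι ≫ g₂ = Spec.map (inv (f.stalkMap (genericPoint X'))) ≫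
      X'.fromSpecStalk (genericPoint X') := by
    have e : (inv (f.stalkMap x₂) ≫ σ) ≫ α₁ = β₂ ≫ inv (f.stalkMap (genericPoint X')) := by
      rw [Category.assoc, hσα, IsIso.inv_comp_eq, ← Category.assoc, ← hsq₂, Category.assoc,
        IsIso.hom_inv_id, Category.comp_id]
    simp only [ι, g₂]
    rw [← Category.assoc, ← Spec.map_comp, e, Spec.map_comp, Category.assoc,
      Scheme.SpecMap_stalkSpecializes_fromSpecStalk]
  have hdom : IsDominant ι := by
    constructor
    have : Function.Injective α₁.hom := by
      have hinj : Function.Injective (α₁ ≫ f.stalkMap (genericPoint X')).hom := by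
        rw [hsq₁, CommRingCat.hom_comp]
        exact (IsFractionRing.injective (X'.presheaf.stalk x₁) X'.functionField).comp (hst x₁).1
      rw [CommRingCat.hom_comp, RingHom.coe_comp] at hinj
      exact Function.Injective.of_comp hinj
    show DenseRange (PrimeSpectrum.comap α₁.hom)
    rw [PrimeSpectrum.denseRange_comap_iff_ker_le_nilRadical,
      (RingHom.injective_iff_ker_eq_bot _).mp this]
    exact bot_le
  have hX : IsDomain (X.presheaf.stalk (f x₁)) := inferInstance
  have key : g₁ = g₂ :=
    ext_of_isDominant_of_isSeparated f (hg₁.trans hg₂.symm) ι (hι₁.trans hι₂.symm)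
  have hc₁ : g₁ (IsLocalRing.closedPoint _) = x₁ := by
    simp only [g₁, Scheme.Hom.comp_apply]
    have hl : IsLocalHom (inv (f.stalkMap x₁)).hom := isLocalHom_of_isIso _
    have : Spec.map (inv (f.stalkMap x₁)) (IsLocalRing.closedPoint _) =
        IsLocalRing.closedPoint _ := IsLocalRing.comap_closedPoint (inv (f.stalkMap x₁)).hom
    rw [this]
    exact Scheme.fromSpecStalk_closedPoint
  have hc₂ : g₂ (IsLocalRing.closedPoint _) = x₂ := by
    simp only [g₂, Scheme.Hom.comp_apply]
    have hl : IsLocalHom (inv (f.stalkMap x₂) ≫ σ).hom := isLocalHom_of_isIso _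
    have : Spec.map (inv (f.stalkMap x₂) ≫ σ) (IsLocalRing.closedPoint _) =
        IsLocalRing.closedPoint _ :=
      IsLocalRing.comap_closedPoint (inv (f.stalkMap x₂) ≫ σ).hom
    rw [this]
    exact Scheme.fromSpecStalk_closedPoint
  rw [← hc₁, ← hc₂, key]


/-- Take integral schemes X' and X and a separated surjective morphism f : X' → X which is birational in
the sense that the induced map of function fields (the stalk map of f at the generic point of X') is
an isomorphism, and suppose f is affine (e.g. a normalization) or locally of finite presentation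
(e.g. a blow-up of a Noetherian integral scheme). Then f is flat exactly when it is an isomorphism. -/
theorem result {X' X : Scheme.{u}} [IsIntegral X'] [IsIntegral X]
    (f : X' ⟶ X) [Surjective f] [IsSeparated f] (hK : IsIso (f.stalkMap (genericPoint X')))
    (h : IsAffineHom f ∨ LocallyOfFinitePresentation f) :
    Flat f ↔ IsIso f := by
  refine ⟨fun hfl => ?_, fun hiso => inferInstance⟩
  have hst := bijective_stalkMap f hK
  have hinj := injective_of_bijective_stalkMap f hst
  have hopen : IsOpenMap f := by
    rcases h with h | h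
    · have hq := Flat.isQuotientMap_of_surjective f
      intro U hU
      rw [← hq.isOpen_preimage, Set.preimage_image_eq _ hinj]
      exact hU
    · exact f.isOpenMap
  have hemb : Topology.IsOpenEmbedding f :=
    .of_continuous_injective_isOpenMap f.continuous hinj hopen
  have hiso : ∀ x, IsIso (f.stalkMap x) := fun x =>
    (ConcreteCategory.isIso_iff_bijective _).mpr (hst x)
  have : IsOpenImmersion f := IsOpenImmersion.of_isIso_stalkMap f hemb
  exact (isIso_iff_isOpenImmersion_and_surjective f).mpr ⟨this, inferInstance⟩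

end Groth.Agent.S10879
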