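import Groth.Statements.S10880
import Groth.Agent.Lib.Helper41.FlatDvrSch
import Groth.Agent.Lib.Helper41.MaxPt

set_option autoImplicit false
universe u
open CategoryTheory AlgebraicGeometry
open FlatMor

namespace Groth.Agent.S10880

/-- Let R be a discrete valuation ring and X a locally Noetherian scheme over Spec R whose
scheme-theoretic special fibre is reduced and such that every maximal point of the special fibre
lies in the closure of the generic fibre, i.e. the generic fibre is dense in X. Then X is flat over
R. -/
theorem result (R : Type u) [CommRing R] [IsDomain R]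
    [IsDiscreteValuationRing R] {X : Scheme.{u}} (f : X ⟶ Spec (CommRingCat.of R)) [IsLocallyNoetherian X]
    (hred : IsReduced (f.fiber (IsLocalRing.closedPoint R)))
    (hdense : Dense (f.base ⁻¹' {genericPoint (Spec (CommRingCat.of R))})) : Flat f := by
  open Groth.Agent.Lib.Helper41.FlatDvrSch Groth.Agent.Lib.Helper41 in
  apply Flat.of_stalkMap
  intro x
  by_cases hx : f.base x = IsLocalRing.closedPoint R
  · obtain ⟨hdom, hdvr⟩ := isDiscreteValuationRing_stalk R (f.base x) hx
    haveI := hdom
    haveI := hdvr
    haveI hred' : IsReduced (f.fiber (f.base x)) := by rw [hx]; exact hred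
    refine flat_stalkMap_of_dvr f x inferInstance ?_
    intro z hzx hfz hmax
    obtain ⟨ξ, hξz, hξmax⟩ := MaxPt.exists_isMax_specializes z
    obtain ⟨w, hwG, hξw⟩ := MaxPt.exists_mem_of_dense_of_isMax ξ hξmax _ hdense
    refine ⟨ξ, hξz, ?_⟩
    have h1 : f.base ξ ⤳ genericPoint ↥(Spec (CommRingCat.of R)) := by
      have := hξw.map f.continuous
      rwa [show f.base w = genericPoint ↥(Spec (CommRingCat.of R)) from hwG] at this
    have h2 : f.base ξ = genericPoint ↥(Spec (CommRingCat.of R)) :=
      (h1.antisymm (genericPoint_specializes _)).eq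
    rw [h2, hx]
    intro hcl
    have h3 : IsLocalRing.closedPoint R ⤳ (⟨⊥, Ideal.isPrime_bot⟩ : PrimeSpectrum R) := by
      rw [← hcl]; exact genericPoint_specializes _
    have h4 := (PrimeSpectrum.le_iff_specializes _ _).2 h3
    have h5 : IsLocalRing.maximalIdeal R = ⊥ := le_bot_iff.1 h4
    exact IsDiscreteValuationRing.not_a_field R h5
  · -- the local ring of `Spec R` at a non-closed point is a field
    have hbot : (show PrimeSpectrum R from f.base x).asIdeal = ⊥ :=
      UnivOpenComp.asIdeal_eq_bot_of_ne_closedPoint _ hx
    letI k : Algebra R ((Spec (CommRingCat.of R)).presheaf.stalk (f.base x)) :=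
      StructureSheaf.stalkAlgebra R (f.base x)
    haveI : IsLocalization.AtPrime ((Spec (CommRingCat.of R)).presheaf.stalk (f.base x))
        (show PrimeSpectrum R from f.base x).asIdeal :=
      StructureSheaf.IsLocalization.to_stalk (CommRingCat.of R) (f.base x)
    have hm : IsLocalRing.maximalIdeal ((Spec (CommRingCat.of R)).presheaf.stalk (f.base x)) = ⊥ := by
      rw [← IsLocalization.AtPrime.map_eq_maximalIdeal
        (show PrimeSpectrum R from f.base x).asIdeal, hbot, Ideal.map_bot]
    have hfield : IsField ((Spec (CommRingCat.of R)).presheaf.stalk (f.base x)) :=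
      IsLocalRing.isField_iff_maximalIdeal_eq.2 hm
    haveI : IsPrincipalIdealRing ((Spec (CommRingCat.of R)).presheaf.stalk (f.base x)) :=
      hfield.isPrincipalIdealRing
    letI := (f.stalkMap x).hom.toAlgebra
    change Module.Flat ((Spec (CommRingCat.of R)).presheaf.stalk (f.base x)) (X.presheaf.stalk x)
    rw [Module.Flat.flat_iff_torsion_eq_bot_of_isBezout, eq_bot_iff]
    intro a ha
    rw [Submodule.mem_torsion_iff] at ha
    obtain ⟨⟨r, hr⟩, hra⟩ := ha
    have hu : IsUnit r := by
      obtain ⟨s, hs⟩ := hfield.mul_inv_cancel (nonZeroDivisors.ne_zero hr)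
      exact IsUnit.of_mul_eq_one s hs
    rw [Submodule.mem_bot]
    have h1 : r • a = 0 := hra
    exact (hu.smul_eq_zero).1 h1

end Groth.Agent.S10880
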