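import Groth.Statements.S10885
import Groth.Agent.Lib.Helper72.FibDim

set_option autoImplicit false
universe u
open CategoryTheory AlgebraicGeometry
open Variety
open Groth.Agent.Lib.Helper73 Groth.Agent.Lib.Helper72.FibDim

namespace Groth.Agent.S10885

/-- Let Y be a scheme of finite type over a field k, r ≥ 0, and f : X → Y a morphism of finite type
whose fibre over every maximal point of Y has dimension at least r. Then dim X ≥ r + dim Y. -/
theorem result (k : Type u) [Field k] {X Y : Scheme.{u}}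
    (q : Y ⟶ Spec (CommRingCat.of k)) [LocallyOfFiniteType q] [QuasiCompact q]
    (f : X ⟶ Y) [LocallyOfFiniteType f] [QuasiCompact f] (r : ℕ)
    (hfib : ∀ η : Y, (∀ y : Y, y ⤳ η → y = η) → (r : WithBot ℕ∞) ≤ topologicalKrullDim (f.base ⁻¹' {η})) :
    (r : WithBot ℕ∞) + topologicalKrullDim Y ≤ topologicalKrullDim X := by
  have hX : LocallyOfFiniteType (f ≫ q) := inferInstance
  rw [topologicalKrullDim_eq_iSup_trdegNat q, add_comm]
  refine withBot_enat_iSup_add_le _ r _ fun y => ?_
  obtain ⟨η, hηy, hηmax⟩ := exists_maximal_specializes y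
  obtain ⟨x, hx, hrx⟩ := exists_le_resTrdegNat_of_le_dim_fibre f η r (hfib η hηmax)
  have h1 := trdegNat_eq_add (f ≫ q) q f rfl x
  have h2 := (isDimFun_trdegNat q).le_of_specializes hηy
  rw [hx] at h1
  rw [topologicalKrullDim_eq_iSup_trdegNat (f ≫ q)]
  refine le_trans ?_ (le_iSup (fun x : X => ((trdegNat (f ≫ q) x : ℕ∞) : WithBot ℕ∞)) x)
  have h3 : trdegNat q y + r ≤ trdegNat (f ≫ q) x := by omega
  exact_mod_cast h3

end Groth.Agent.S10885
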