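import Groth.Statements.S10884
import Groth.Agent.Lib.Helper72.FibDim
import Groth.Agent.S10885

set_option autoImplicit false
universe u
open CategoryTheory AlgebraicGeometry
open Variety
open Groth.Agent.Lib.Helper73 Groth.Agent.Lib.Helper72.FibDim

namespace Groth.Agent.S10884

/-- Let Y be a scheme of finite type over a field k and f : X → Y a dominant morphism of finite type all
of whose non-empty fibres have dimension r. Then dim X = r + dim Y. -/
theorem result (k : Type u) [Field k] {X Y : Scheme.{u}}
    (q : Y ⟶ Spec (CommRingCat.of k)) [LocallyOfFiniteType q] [QuasiCompact q]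
    (f : X ⟶ Y) [LocallyOfFiniteType f] [QuasiCompact f] (hdom : DenseRange f.base) (r : ℕ)
    (hfib : ∀ y : Y, (f.base ⁻¹' {y}).Nonempty → topologicalKrullDim (f.base ⁻¹' {y}) = r) :
    topologicalKrullDim X = (r : WithBot ℕ∞) + topologicalKrullDim Y := by
  have hX : LocallyOfFiniteType (f ≫ q) := inferInstance
  apply le_antisymm
  · rw [topologicalKrullDim_eq_iSup_trdegNat (f ≫ q)]
    refine iSup_le fun x => ?_
    have h1 := trdegNat_eq_add (f ≫ q) q f rfl x
    have h2 : ((resTrdegNat f x : ℕ) : WithBot ℕ∞) ≤ (r : WithBot ℕ∞) :=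
      (resTrdegNat_le_dim_fibre f x (f x) rfl).trans (hfib (f x) ⟨x, rfl⟩).le
    have h3 : ((trdegNat q (f x) : ℕ∞) : WithBot ℕ∞) ≤ topologicalKrullDim Y := by
      rw [topologicalKrullDim_eq_iSup_trdegNat q]
      exact le_iSup (fun y : Y => ((trdegNat q y : ℕ∞) : WithBot ℕ∞)) (f x)
    rw [h1]
    push_cast
    rw [add_comm]
    exact add_le_add h2 h3
  · refine Groth.Agent.S10885.result k q f r fun η hη => ?_
    exact (hfib η (by
      obtain ⟨x, hx⟩ := mem_range_of_maximal q f hdom η hη
      exact ⟨x, hx⟩)).ge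

end Groth.Agent.S10884
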