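import Groth.Statements.S10886
-- import your own Groth.Agent.* helpers here

set_option autoImplicit false
universe u
open CategoryTheory AlgebraicGeometry
open Curves

namespace Groth.Agent.S10886

open TopologicalSpace in
theorem irr_closed_aux {X : Type*} [TopologicalSpace X] [T0Space X] [IrreducibleSpace X]
    (hX : topologicalKrullDim X = 1) (T : Set X) (hTi : IsIrreducible T) (hTc : IsClosed T)
    (hne : T ≠ Set.univ) : T.Subsingleton ∧ ∀ y ∈ T, IsClosed ({y} : Set X) := by
  have hle : Order.krullDim (IrreducibleCloseds X) ≤ 1 := le_of_eq hX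
  rw [Order.krullDim_le_one_iff] at hle
  have hcl : ∀ x ∈ T, closure {x} = T := by
    intro x hx
    have hsub : closure {x} ⊆ T := hTc.closure_subset_iff.mpr (Set.singleton_subset_iff.mpr hx)
    rcases hle ⟨T, hTi, hTc⟩ with hmin | hmax
    · have h1 : (⟨closure {x}, isIrreducible_singleton.closure, isClosed_closure⟩ :
          IrreducibleCloseds X) ≤ ⟨T, hTi, hTc⟩ := hsub
      have h2 := hmin h1
      exact Set.Subset.antisymm hsub h2
    · exfalso
      have h1 : (⟨T, hTi, hTc⟩ : IrreducibleCloseds X) ≤
          ⟨Set.univ, IrreducibleSpace.isIrreducible_univ X, isClosed_univ⟩ := Set.subset_univ T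
      have h2 : (Set.univ : Set X) ⊆ T := hmax h1
      exact hne (Set.eq_univ_of_univ_subset h2)
  have hsub : T.Subsingleton := by
    intro x hx y hy
    have : closure {x} = closure ({y} : Set X) := by rw [hcl x hx, hcl y hy]
    exact ((inseparable_iff_closure_eq).mpr this).eq
  refine ⟨hsub, fun y hy => ?_⟩
  have : T = {y} := by
    apply Set.Subset.antisymm
    · intro z hz; exact hsub hz hy
    · exact Set.singleton_subset_iff.mpr hy
  rw [← this]; exact hTc

open TopologicalSpace in
theorem closed_ne_univ {X : Type*} [TopologicalSpace X] [T0Space X] [NoetherianSpace X]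
    [IrreducibleSpace X] (hX : topologicalKrullDim X = 1) (Z : Set X) (hZ : IsClosed Z)
    (hne : Z ≠ Set.univ) : Z.Finite ∧ ∀ x ∈ Z, IsClosed ({x} : Set X) := by
  obtain ⟨S, hSf, hSc, hSi, rfl⟩ := NoetherianSpace.exists_finite_set_isClosed_irreducible hZ
  have hT : ∀ T ∈ S, T ≠ Set.univ := by
    intro T hT h
    apply hne
    apply Set.eq_univ_of_univ_subset
    rw [← h]
    exact Set.subset_sUnion_of_mem hT
  constructor
  · exact Set.Finite.sUnion hSf (fun T hTS =>
      (irr_closed_aux hX T (hSi T hTS) (hSc T hTS) (hT T hTS)).1.finite)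
  · rintro x ⟨T, hTS, hxT⟩
    exact (irr_closed_aux hX T (hSi T hTS) (hSc T hTS) (hT T hTS)).2 x hxT

theorem constr_aux {X : Type*} [TopologicalSpace X] [T0Space X]
    [TopologicalSpace.NoetherianSpace X]
    [IrreducibleSpace X] (hX : topologicalKrullDim X = 1) (s : Set X)
    (hs : Topology.IsConstructible s) :
    (s.Finite ∧ (∀ x ∈ s, IsClosed ({x} : Set X))) ∨
      (sᶜ.Finite ∧ ∀ x ∈ sᶜ, IsClosed ({x} : Set X)) := by
  induction hs using Topology.IsConstructible.empty_union_induction with
  | open_retrocompact U hUo hUc =>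
    by_cases h : Uᶜ = Set.univ
    · left
      have : U = ∅ := by simpa using h
      subst this
      simp
    · right
      exact closed_ne_univ hX Uᶜ hUo.isClosed_compl h
  | union s hs t ht ihs iht =>
    rcases ihs with ⟨h1, h2⟩ | ⟨h1, h2⟩
    · rcases iht with ⟨h3, h4⟩ | ⟨h3, h4⟩
      · left
        refine ⟨h1.union h3, ?_⟩
        rintro x (hx | hx)
        · exact h2 x hx
        · exact h4 x hx
      · right
        have hsub : (s ∪ t)ᶜ ⊆ tᶜ := Set.compl_subset_compl.mpr Set.subset_union_right
        exact ⟨h3.subset hsub, fun x hx => h4 x (hsub hx)⟩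
    · right
      have hsub : (s ∪ t)ᶜ ⊆ sᶜ := Set.compl_subset_compl.mpr Set.subset_union_left
      exact ⟨h1.subset hsub, fun x hx => h2 x (hsub hx)⟩
  | compl s hs ih =>
    rcases ih with h | h
    · right; simpa using h
    · left; exact h

/-- In an irreducible Noetherian scheme of dimension one every constructible subset is either a finite
set of closed points or the complement of such a set; in particular it is open or closed. -/
theorem result {X : Scheme.{u}} [IsNoetherian X]
    [IrreducibleSpace X] (hX : topologicalKrullDim X = 1) (s : Set X) (hs : Topology.IsConstructible s) :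
    (s.Finite ∧ (∀ x ∈ s, IsClosed ({x} : Set X))) ∨ (sᶜ.Finite ∧ ∀ x ∈ sᶜ, IsClosed ({x} : Set X)) := by
  exact constr_aux hX s hs

end Groth.Agent.S10886
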