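import Groth.Statements.S10887
import Mathlib
import Groth.Agent.Lib.Helper7.FlatClosure2

set_option autoImplicit false
set_option linter.style.haveILetI false
universe u
open CategoryTheory AlgebraicGeometry
open FlatMor

namespace Groth.Agent.S10887

open CategoryTheory.Limits TopologicalSpace Opposite
open Groth.Agent.Lib.Helper7.FlatClosure

lemma valuationRing_stalk {Y : Scheme.{u}} [IsIntegral Y]
    (hreg : ∀ y : Y, IsRegularLocalRing (Y.presheaf.stalk y)) (hdim : topologicalKrullDim Y ≤ 1)
    (y : Y) : ValuationRing (Y.presheaf.stalk y) := by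
  haveI := hreg y
  apply valuationRing_of_regular
  rw [← PrimeSpectrum.topologicalKrullDim_eq_ringKrullDim]
  exact ((Y.fromSpecStalk y).isEmbedding.isInducing.topologicalKrullDim_le).trans hdim


lemma mem_basicOpen_of_generic {Y : Scheme.{u}} [IsIntegral Y] (y : Y)
    (hy : closure {y} = Set.univ) (U : Y.Opens) (hyU : y ∈ U) (a : Γ(Y, U)) (ha : a ≠ 0) :
    y ∈ Y.basicOpen a := by
  refine (Scheme.mem_basicOpen'' Y a y).mpr ⟨hyU, ?_⟩
  have hfield : IsField (Y.presheaf.stalk y) := by
    apply isField_stalk_of_closure_mem_irreducibleComponents Y y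
    rw [irreducibleComponents_eq_singleton, hy]
    rfl
  have hne : Y.presheaf.germ U y hyU a ≠ 0 := by
    intro h0
    apply ha
    apply germ_injective_of_isIntegral Y y hyU
    rw [h0, map_zero]
  letI := hfield.toField
  exact hne.isUnit

lemma key {X Y : Scheme.{u}} [IsIntegral Y] [IsReduced X] (g : X ⟶ Y)
    (h : ∀ Z ∈ irreducibleComponents (X : Type u), Dense (g.base '' Z))
    (U : Y.Opens) (a : Γ(Y, U)) (ha : a ≠ 0) (W : X.Opens) (hW : W ≤ g ⁻¹ᵁ U)
    (s : Γ(X, W)) (hs : (g.appLE U W hW).hom a * s = 0) : s = 0 := by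
  by_contra hs0
  have hne : X.basicOpen s ≠ ⊥ := fun hb => hs0 ((basicOpen_eq_bot_iff s).mp hb)
  obtain ⟨x, hx⟩ : ∃ x, x ∈ X.basicOpen s := by
    by_contra hcon
    push Not at hcon
    apply hne
    ext x
    simp only [Opens.coe_bot, Set.mem_empty_iff_false, iff_false]
    exact hcon x
  set Z := irreducibleComponent x with hZdef
  have hZ : Z ∈ irreducibleComponents (X : Type u) := irreducibleComponent_mem_irreducibleComponents x
  have hxZ : x ∈ Z := mem_irreducibleComponent
  have hZirr : IsIrreducible Z := hZ.1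
  have hZcl : IsClosed Z := isClosed_of_mem_irreducibleComponents Z hZ
  obtain ⟨ξ, hξ⟩ := QuasiSober.sober hZirr hZcl
  have hξx : ξ ⤳ x := by
    rw [specializes_iff_mem_closure, hξ.def]
    exact hxZ
  have hξs : ξ ∈ X.basicOpen s := hξx.mem_open (X.basicOpen s).2 hx
  have hξW : ξ ∈ W := X.basicOpen_le s hξs
  have hgξ : closure {g.base ξ} = Set.univ := by
    have hd := h Z hZ
    rw [dense_iff_closure_eq] at hd
    rw [Set.eq_univ_iff_forall]
    intro y
    have h1 : g.base '' Z ⊆ closure {g.base ξ} := by
      rw [← hξ.def]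
      refine (image_closure_subset_closure_image g.continuous).trans ?_
      rw [Set.image_singleton]
    have h2 : closure (g.base '' Z) ⊆ closure {g.base ξ} :=
      closure_minimal h1 isClosed_closure
    apply h2
    rw [hd]
    trivial
  have hξt : ξ ∈ X.basicOpen ((g.appLE U W hW).hom a) := by
    have := Scheme.basicOpen_appLE g W U hW a
    rw [show X.basicOpen ((g.appLE U W hW).hom a) = W ⊓ g ⁻¹ᵁ (Y.basicOpen a) from this]
    exact ⟨hξW, mem_basicOpen_of_generic (g.base ξ) hgξ U (hW hξW) a ha⟩
  have hmul : ξ ∈ X.basicOpen ((g.appLE U W hW).hom a * s) := by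
    rw [Scheme.basicOpen_mul]
    exact ⟨hξt, hξs⟩
  rw [hs, Scheme.basicOpen_zero] at hmul
  exact hmul

/-- forward direction -/
lemma dense_of_flat {X Y : Scheme.{u}} [IsIntegral Y] (f : X ⟶ Y) [Flat f]
    (Z : Set X) (hZ : Z ∈ irreducibleComponents (X : Type u)) : Dense (f.base '' Z) := by
  have hZirr : IsIrreducible Z := hZ.1
  have hZcl : IsClosed Z := isClosed_of_mem_irreducibleComponents Z hZ
  obtain ⟨ξ, hξ⟩ := QuasiSober.sober hZirr hZcl
  have hgen : GeneralizingMap f.base := Flat.generalizingMap f
  have hη : genericPoint Y ⤳ f.base ξ := by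
    rw [specializes_iff_mem_closure, (genericPoint_spec Y).def]
    trivial
  obtain ⟨ξ', hξ', hfξ'⟩ := hgen hη
  -- ξ' ⤳ ξ, so closure {ξ'} ⊇ Z, irreducible so equals Z
  have hsub : Z ⊆ closure {ξ'} := by
    rw [← hξ.def]
    exact (specializes_iff_closure_subset.mp hξ')
  have heq : closure {ξ'} = Z := by
    have := hZ.2 (isIrreducible_singleton.closure) hsub
    exact le_antisymm this hsub
  have hξ'Z : ξ' ∈ Z := heq ▸ subset_closure rfl
  have : genericPoint Y ∈ f.base '' Z := ⟨ξ', hξ'Z, hfξ'⟩
  rw [dense_iff_closure_eq, Set.eq_univ_iff_forall]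
  intro y
  have h1 : closure {genericPoint Y} ⊆ closure (f.base '' Z) :=
    closure_mono (Set.singleton_subset_iff.mpr this)
  apply h1
  rw [(genericPoint_spec Y).def]
  trivial


/-- (i) ⇔ (iii): let Y be a Dedekind scheme — an integral Noetherian scheme of dimension at most one all
of whose local rings are regular — and f : X → Y a morphism of schemes with X reduced. Then f is
flat if and only if every irreducible component of X dominates Y. (Without reducedness only the
forward implication holds.) -/
theorem result {X Y : Scheme.{u}} [IsIntegral Y]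
    [IsNoetherian Y] (hreg : ∀ y : Y, IsRegularLocalRing (Y.presheaf.stalk y)) (hdim : topologicalKrullDim Y ≤ 1)
    (f : X ⟶ Y) [IsReduced X] :
    Flat f ↔ ∀ Z ∈ irreducibleComponents (X : Type u), Dense (f.base '' Z) := by
  constructor
  · intro hf Z hZ
    exact dense_of_flat f Z hZ
  · intro h
    have hY' := valuationRing_stalk hreg hdim
    refine flat_of_regular hY' f (𝟙 X) ?_
    intro U a ha W hW s hs
    have h' : ∀ Z ∈ irreducibleComponents (X : Type u), Dense ((𝟙 X ≫ f).base '' Z) := by
      rw [Category.id_comp]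
      exact h
    exact key (𝟙 X ≫ f) h' U a ha W hW s hs

end Groth.Agent.S10887
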