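import Groth.Statements.S10888
import Groth.Agent.Lib.Helper54.SchemeIsoLocus

set_option autoImplicit false
universe u
open CategoryTheory AlgebraicGeometry
open FlatMor

namespace Groth.Agent.S10888

open Groth.Agent.Lib.Helper54.SchemeIsoLocus


/-- Let g : X → S and h : Y → S be proper and of finite presentation with g flat, and f : X → Y a
morphism over S. Then the locus U of points of S over which the fibre morphism X_s → Y_s is an
isomorphism is an open subset of S, and f restricts to an isomorphism over U. -/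
theorem result {X Y S : Scheme.{u}} (g : X ⟶ S) (h : Y ⟶ S)
    [IsProper g] [LocallyOfFinitePresentation g] [Flat g] [IsProper h] [LocallyOfFinitePresentation h]
    (f : X ⟶ Y) (w : f ≫ h = g) :
    ∃ U : S.Opens, (∀ s : S, s ∈ U ↔ ∃ e : g.fiber s ≅ h.fiber s, e.hom ≫ h.fiberι s = g.fiberι s ≫ f) ∧
      IsIso (f ∣_ (h ⁻¹ᵁ U)) := by
  obtain ⟨U, hU⟩ := exists_open_isIso_baseChange f g h w (Scheme.Hom.isClosedMap h)
  refine ⟨U, fun s => ?_, ?_⟩
  · -- the fibre criterion
    have hr : Set.range (S.fromSpecResidueField s).base = {s} := by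
      rw [Scheme.range_fromSpecResidueField]
    have h1 : s ∈ U ↔ Set.range (S.fromSpecResidueField s).base ⊆ (U : Set S) := by
      rw [hr, Set.singleton_subset_iff]; rfl
    rw [h1, hU _ (S.fromSpecResidueField s)]
    have sqY : IsPullback (h.fiberι s) (h.fiberToSpecResidueField s) h (S.fromSpecResidueField s) :=
      IsPullback.of_hasPullback _ _
    have sqXS : IsPullback (g.fiberι s) (g.fiberToSpecResidueField s) g (S.fromSpecResidueField s) :=
      IsPullback.of_hasPullback _ _
    have hw1 : (g.fiberι s ≫ f) ≫ h = g.fiberToSpecResidueField s ≫ S.fromSpecResidueField s := by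
      rw [Category.assoc, w]; exact sqXS.w
    let fs : g.fiber s ⟶ h.fiber s := sqY.lift (g.fiberι s ≫ f) (g.fiberToSpecResidueField s) hw1
    have hfs1 : fs ≫ h.fiberι s = g.fiberι s ≫ f := sqY.lift_fst _ _ _
    have hfs2 : fs ≫ h.fiberToSpecResidueField s = g.fiberToSpecResidueField s := sqY.lift_snd _ _ _
    have sqX : IsPullback (g.fiberι s) fs f (h.fiberι s) := by
      refine IsPullback.of_bot ?_ hfs1.symm sqY
      rw [hfs2, w]
      exact sqXS
    constructor
    · intro HH
      have : IsIso fs := HH _ _ _ _ _ _ sqY sqX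
      exact ⟨asIso fs, hfs1⟩
    · rintro ⟨e, he⟩ YT XT gY hT gX fT s1 s2
      have hefs : e.hom = fs := by
        apply sqY.hom_ext
        · rw [he, hfs1]
        · rw [hfs2, ← cancel_mono (S.fromSpecResidueField s), Category.assoc, ← sqY.w,
            ← Category.assoc, he, hw1]
      have : IsIso fs := by rw [← hefs]; infer_instance
      exact isIso_baseChange_congr sqY sqX s1 s2
  · -- the restriction over `U`
    have hr : Set.range U.ι.base ⊆ (U : Set S) := by
      rw [Scheme.Opens.range_ι]
    have HH := (hU _ U.ι).1 hr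
    have sqY : IsPullback (h ⁻¹ᵁ U).ι (h ∣_ U) h U.ι := (isPullback_morphismRestrict h U).flip
    have sqX : IsPullback (f ⁻¹ᵁ (h ⁻¹ᵁ U)).ι (f ∣_ (h ⁻¹ᵁ U)) f (h ⁻¹ᵁ U).ι :=
      (isPullback_morphismRestrict f (h ⁻¹ᵁ U)).flip
    exact HH _ _ _ _ _ _ sqY sqX

end Groth.Agent.S10888
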