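import Groth.Statements.S10891
-- import your own Groth.Agent.* helpers here

set_option autoImplicit false
universe u
open CAlg

namespace Groth.Agent.S10891

open MvPolynomial in
theorem monomial_fin2 (k : Type u) [Field k] (m : Fin 2 →₀ ℕ) (c : k) :
    (monomial m c : MvPolynomial (Fin 2) k) = C c * (X 0 ^ (m 0) * X 1 ^ (m 1)) := by
  rw [monomial_eq, Finsupp.prod_fintype _ _ (fun i => by simp), Fin.prod_univ_two]

open MvPolynomial in
theorem phi_monomial (k : Type u) [Field k] (a : ℕ) (ζ : k) (m : Fin 2 →₀ ℕ) (c : k) :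
    aeval (fun i : Fin 2 => if i = 0 then C ζ⁻¹ * X 0
        else C (ζ⁻¹ ^ a) * (X 1 : MvPolynomial (Fin 2) k)) (monomial m c) =
      monomial m (c * ζ⁻¹ ^ (m 0 + a * m 1)) := by
  rw [aeval_monomial, Finsupp.prod_fintype _ _ (fun i => by simp), Fin.prod_univ_two,
    monomial_fin2]
  simp only [if_true, Fin.isValue, one_ne_zero, if_false, mul_pow, ← map_pow, algebraMap_eq,
    map_mul]
  rw [pow_add, pow_mul]
  simp only [map_mul, map_pow]
  ring

open MvPolynomial in
theorem coeff_phi (k : Type u) [Field k] (a : ℕ) (ζ : k) (p : MvPolynomial (Fin 2) k)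
    (m : Fin 2 →₀ ℕ) :
    coeff m (aeval (fun i : Fin 2 => if i = 0 then C ζ⁻¹ * X 0
        else C (ζ⁻¹ ^ a) * (X 1 : MvPolynomial (Fin 2) k)) p) =
      coeff m p * ζ⁻¹ ^ (m 0 + a * m 1) := by
  induction p using MvPolynomial.induction_on' with
  | monomial u c =>
    rw [phi_monomial, coeff_monomial, coeff_monomial]
    split_ifs with h
    · subst h; rfl
    · simp
  | add p q hp hq =>
    rw [map_add, coeff_add, coeff_add, hp, hq, add_mul]

open MvPolynomial in
theorem mono_mem (k : Type u) [Field k] (r a : ℕ) (ha : 0 < a) (har : a < r) :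
    ∀ (n i j : ℕ), i + j = n → r ∣ i + a * j →
      (X 0 ^ i * X 1 ^ j : MvPolynomial (Fin 2) k) ∈
        Algebra.adjoin k {q : MvPolynomial (Fin 2) k | ∃ i j : ℕ, i ≤ r ∧ j ≤ r ∧ ¬ (i = r ∧ j = r) ∧
          r ∣ i + a * j ∧ q = MvPolynomial.X 0 ^ i * MvPolynomial.X 1 ^ j} := by
  intro n
  induction n using Nat.strong_induction_on with
  | _ n ih =>
    intro i j hij hdvd
    have hr : 0 < r := lt_trans ha har
    have hX : (X 0 ^ r : MvPolynomial (Fin 2) k) ∈
        Algebra.adjoin k {q : MvPolynomial (Fin 2) k | ∃ i j : ℕ, i ≤ r ∧ j ≤ r ∧ ¬ (i = r ∧ j = r) ∧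
          r ∣ i + a * j ∧ q = MvPolynomial.X 0 ^ i * MvPolynomial.X 1 ^ j} := by
      apply Algebra.subset_adjoin
      refine ⟨r, 0, le_refl _, Nat.zero_le _, ?_, ?_, ?_⟩
      · intro h; omega
      · simp
      · simp
    have hY : (X 1 ^ r : MvPolynomial (Fin 2) k) ∈
        Algebra.adjoin k {q : MvPolynomial (Fin 2) k | ∃ i j : ℕ, i ≤ r ∧ j ≤ r ∧ ¬ (i = r ∧ j = r) ∧
          r ∣ i + a * j ∧ q = MvPolynomial.X 0 ^ i * MvPolynomial.X 1 ^ j} := by
      apply Algebra.subset_adjoin
      refine ⟨0, r, Nat.zero_le _, le_refl _, ?_, ?_, ?_⟩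
      · intro h; omega
      · simp
      · simp
    by_cases h1 : r ≤ i
    · by_cases h1' : i = r ∧ j = 0
      · obtain ⟨rfl, rfl⟩ := h1'
        simpa using hX
      · obtain ⟨i', rfl⟩ := Nat.exists_eq_add_of_le h1
        have hd' : r ∣ i' + a * j := by
          have : r + i' + a * j = r + (i' + a * j) := by ring
          rw [this] at hdvd
          exact (Nat.dvd_add_right (dvd_refl r)).mp hdvd
        have := ih (i' + j) (by omega) i' j rfl hd'
        rw [pow_add, mul_assoc]
        exact Subalgebra.mul_mem _ hX this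
    · by_cases h2 : r ≤ j
      · by_cases h2' : i = 0 ∧ j = r
        · obtain ⟨rfl, rfl⟩ := h2'
          simpa using hY
        · obtain ⟨j', rfl⟩ := Nat.exists_eq_add_of_le h2
          have hd' : r ∣ i + a * j' := by
            have : i + a * (r + j') = r * a + (i + a * j') := by ring
            rw [this] at hdvd
            exact (Nat.dvd_add_right (Dvd.intro _ rfl)).mp hdvd
          have := ih (i + j') (by omega) i j' rfl hd'
          rw [pow_add, mul_left_comm]
          exact Subalgebra.mul_mem _ hY this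
      · apply Algebra.subset_adjoin
        refine ⟨i, j, by omega, by omega, ?_, hdvd, rfl⟩
        intro h; omega

/-- Let k be a field containing a primitive r-th root of unity ζ and 0 < a < r. The cyclic group of r-th
roots of unity acts on k[X, Y] through the generator X ↦ ζ⁻¹ X, Y ↦ ζ^(−a) Y, and the ring of
invariants of this action is generated as a k-algebra by the monomials X^i Y^j with 0 ≤ i, j ≤ r,
(i, j) ≠ (r, r) and i + a·j ≡ 0 (mod r). (The printed statement writes n for the order of the group,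
which the surrounding section calls r.) -/
theorem result (k : Type u) [Field k] (r a : ℕ) (ha : 0 < a) (har : a < r)
    (ζ : k) (hζ : IsPrimitiveRoot ζ r) (p : MvPolynomial (Fin 2) k) :
    MvPolynomial.aeval (fun i : Fin 2 => if i = 0 then MvPolynomial.C ζ⁻¹ * MvPolynomial.X 0
        else MvPolynomial.C (ζ⁻¹ ^ a) * (MvPolynomial.X 1 : MvPolynomial (Fin 2) k)) p = p ↔
      p ∈ Algebra.adjoin k {q : MvPolynomial (Fin 2) k | ∃ i j : ℕ, i ≤ r ∧ j ≤ r ∧ ¬ (i = r ∧ j = r) ∧
        r ∣ i + a * j ∧ q = MvPolynomial.X 0 ^ i * MvPolynomial.X 1 ^ j} := by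
  classical
  constructor
  · intro hfix
    have hsupp : ∀ m ∈ p.support, r ∣ m 0 + a * m 1 := by
      intro m hm
      have h1 := coeff_phi k a ζ p m
      rw [hfix] at h1
      have hne : MvPolynomial.coeff m p ≠ 0 := MvPolynomial.mem_support_iff.mp hm
      have h2 : ζ⁻¹ ^ (m 0 + a * m 1) = 1 := by
        have : MvPolynomial.coeff m p * 1 = MvPolynomial.coeff m p * ζ⁻¹ ^ (m 0 + a * m 1) := by
          rw [mul_one]; exact h1
        exact (mul_left_cancel₀ hne this).symm
      exact (hζ.inv.pow_eq_one_iff_dvd _).mp h2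
    rw [p.as_sum]
    refine Subalgebra.sum_mem _ (fun m hm => ?_)
    rw [monomial_fin2, ← MvPolynomial.algebraMap_eq, ← Algebra.smul_def]
    exact Subalgebra.smul_mem _ (mono_mem k r a ha har _ _ _ rfl (hsupp m hm)) _
  · intro hp
    have hle : Algebra.adjoin k {q : MvPolynomial (Fin 2) k | ∃ i j : ℕ, i ≤ r ∧ j ≤ r ∧
        ¬ (i = r ∧ j = r) ∧ r ∣ i + a * j ∧ q = MvPolynomial.X 0 ^ i * MvPolynomial.X 1 ^ j} ≤
        AlgHom.equalizer (MvPolynomial.aeval (fun i : Fin 2 =>
          if i = 0 then MvPolynomial.C ζ⁻¹ * MvPolynomial.X 0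
          else MvPolynomial.C (ζ⁻¹ ^ a) * (MvPolynomial.X 1 : MvPolynomial (Fin 2) k)))
          (AlgHom.id k (MvPolynomial (Fin 2) k)) := by
      apply Algebra.adjoin_le
      rintro q ⟨i, j, -, -, -, hdvd, rfl⟩
      rw [SetLike.mem_coe, AlgHom.mem_equalizer]
      have h1 := phi_monomial k a ζ (Finsupp.single 0 i + Finsupp.single 1 j) 1
      have h2 := monomial_fin2 k (Finsupp.single 0 i + Finsupp.single 1 j) 1
      have e0 : (Finsupp.single (0 : Fin 2) i + Finsupp.single (1 : Fin 2) j : Fin 2 →₀ ℕ) 0 = i := by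
        simp
      have e1 : (Finsupp.single (0 : Fin 2) i + Finsupp.single (1 : Fin 2) j : Fin 2 →₀ ℕ) 1 = j := by
        simp
      rw [e0, e1, MvPolynomial.C_1, one_mul] at h2
      rw [e0, e1, (hζ.inv.pow_eq_one_iff_dvd _).mpr hdvd, mul_one, h2] at h1
      exact h1
    exact hle hp

end Groth.Agent.S10891
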