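import Groth.Statements.S10893
import Mathlib
import Groth.Agent.Lib.Helper65.CurveDiv
-- import your own Groth.Agent.* helpers here

set_option autoImplicit false
universe u
open CategoryTheory AlgebraicGeometry
open Curves

namespace Groth.Agent.S10893

open Groth.Agent.Lib.Helper65.CurveDiv in

/-- Let C be an absolute curve (Noetherian, local rings at closed points one-dimensional) none of whose
points is open, and U ⊆ C an open dense subset. Then there is an effective divisor D on C with
support contained in U and meeting every irreducible component of C. -/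
theorem result {C : Scheme.{u}} [IsNoetherian C]
    (hC : ∀ x : C, IsClosed ({x} : Set C) → ringKrullDim (C.presheaf.stalk x) = 1)
    (hpt : ∀ x : C, ¬ IsOpen ({x} : Set C)) (U : C.Opens) (hU : Dense (U : Set C)) :
    ∃ D : Mero.Divisor C, Mero.IsEffective D ∧ Mero.supp D ⊆ (U : Set C) ∧
      ∀ Z ∈ irreducibleComponents (C : Type u), (Mero.supp D ∩ Z).Nonempty := by
  classical
  have hgood := fun Z (hZ : Z ∈ irreducibleComponents (C : Type u)) =>
    exists_good_point hC hpt U hU Z hZ
  choose x hxU hxZ hxcl hxr using hgood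
  have hfin : (irreducibleComponents (C : Type u)).Finite :=
    TopologicalSpace.NoetherianSpace.finite_irreducibleComponents
  have : Finite ↥(irreducibleComponents (C : Type u)) := hfin.to_subtype
  -- the chosen points
  let T : Set C := Set.range (fun Z : ↥(irreducibleComponents (C : Type u)) => x Z.1 Z.2)
  have hTfin : T.Finite := Set.finite_range _
  have hTgood : ∀ y ∈ T, y ∈ U ∧ IsClosed ({y} : Set C) ∧
      ∃ r : Mero.regStalk C y, ¬ IsUnit (r : C.presheaf.stalk y) := by
    rintro _ ⟨Z, rfl⟩
    exact ⟨hxU Z.1 Z.2, hxcl Z.1 Z.2, hxr Z.1 Z.2⟩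
  let g : ∀ y : C, Mero.Germ C y := fun y =>
    if h : y ∈ T then regClass y (hTgood y h).2.2.choose else 1
  have hg_in : ∀ y (h : y ∈ T), g y = regClass y (hTgood y h).2.2.choose := by
    intro y h; simp only [g, h, dif_pos]
  have hg_out : ∀ y, y ∉ T → g y = 1 := by
    intro y h; simp only [g, h, dif_neg, not_false_eq_true]
  have hg_ne : ∀ y ∈ T, g y ≠ 1 := by
    intro y h h1
    rw [hg_in y h] at h1
    exact (hTgood y h).2.2.choose_spec (isUnit_of_regClass_eq_one y _ h1)
  have hsupp : {y : C | g y ≠ 1} ⊆ T := by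
    intro y hy
    by_contra h
    exact hy (hg_out y h)
  have hg : g ∈ Mero.divisorGroup C := by
    apply mem_divisorGroup_of_finite hC g (hTfin.subset hsupp)
    intro y hy
    apply hg_out
    intro h
    exact hy (hTgood y h).2.1
  refine ⟨⟨g, hg⟩, ?_, ?_, ?_⟩
  · intro y
    by_cases h : y ∈ T
    · exact ⟨(hTgood y h).2.2.choose, hg_in y h⟩
    · refine ⟨1, ?_⟩
      change g y = _
      rw [hg_out y h]
      exact (regClass_one y).symm
  · intro y hy
    exact (hTgood y (hsupp hy)).1
  · intro Z hZ
    refine ⟨x Z hZ, ?_, hxZ Z hZ⟩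
    exact hg_ne _ ⟨⟨Z, hZ⟩, rfl⟩


end Groth.Agent.S10893
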