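import Groth.Statements.S10894
import Mathlib
import Groth.Agent.Lib.Helper65.CurveDiv
-- import your own Groth.Agent.* helpers here

set_option autoImplicit false
universe u
open CategoryTheory AlgebraicGeometry
open Curves

namespace Groth.Agent.S10894

open Groth.Agent.Lib.Helper65.CurveDiv in

/-- On an absolute curve C (Noetherian, local rings at closed points one-dimensional) every divisor D is
a difference of two effective divisors each supported inside the support of D (divisors are written
multiplicatively, so the difference is D₁ · D₂⁻¹). -/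
theorem result {C : Scheme.{u}} [IsNoetherian C]
    (hC : ∀ x : C, IsClosed ({x} : Set C) → ringKrullDim (C.presheaf.stalk x) = 1) (D : Mero.Divisor C) :
    ∃ D₁ D₂ : Mero.Divisor C, Mero.IsEffective D₁ ∧ Mero.IsEffective D₂ ∧ D = D₁ * D₂⁻¹ ∧
      Mero.supp D₁ ⊆ Mero.supp D ∧ Mero.supp D₂ ⊆ Mero.supp D := by
  classical
  have hfrac := fun x : C => exists_regStalk_frac x (D.1 x)
  choose a s has using hfrac
  let g₁ : ∀ x : C, Mero.Germ C x := fun x => if D.1 x = 1 then 1 else regClass x (a x)
  let g₂ : ∀ x : C, Mero.Germ C x := fun x => if D.1 x = 1 then 1 else regClass x (s x)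
  have hfin := finite_supp hC D
  have hsub₁ : {x : C | g₁ x ≠ 1} ⊆ {x : C | D.1 x ≠ 1} := by
    intro x hx hD
    apply hx
    simp [g₁, hD]
  have hsub₂ : {x : C | g₂ x ≠ 1} ⊆ {x : C | D.1 x ≠ 1} := by
    intro x hx hD
    apply hx
    simp [g₂, hD]
  have hg₁ : g₁ ∈ Mero.divisorGroup C := by
    apply mem_divisorGroup_of_finite hC g₁ (hfin.subset hsub₁)
    intro x hx
    simp [g₁, eq_one_of_not_isClosed hC x hx (D.1 x)]
  have hg₂ : g₂ ∈ Mero.divisorGroup C := by
    apply mem_divisorGroup_of_finite hC g₂ (hfin.subset hsub₂)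
    intro x hx
    simp [g₂, eq_one_of_not_isClosed hC x hx (D.1 x)]
  refine ⟨⟨g₁, hg₁⟩, ⟨g₂, hg₂⟩, ?_, ?_, ?_, hsub₁, hsub₂⟩
  · intro x
    by_cases hD : D.1 x = 1
    · refine ⟨1, ?_⟩
      change g₁ x = _
      simp only [g₁, hD, if_true]
      exact (regClass_one x).symm
    · refine ⟨a x, ?_⟩
      change g₁ x = _
      simp only [g₁, hD, if_false]
      rfl
  · intro x
    by_cases hD : D.1 x = 1
    · refine ⟨1, ?_⟩
      change g₂ x = _
      simp only [g₂, hD, if_true]
      exact (regClass_one x).symm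
    · refine ⟨s x, ?_⟩
      change g₂ x = _
      simp only [g₂, hD, if_false]
      rfl
  · apply Subtype.ext
    funext x
    change D.1 x = g₁ x * (g₂ x)⁻¹
    by_cases hD : D.1 x = 1
    · simp only [g₁, g₂, hD, if_true, inv_one]
      exact (mul_one (1 : Mero.Germ C x)).symm
    · simp only [g₁, g₂, hD, if_false]
      rw [← div_eq_mul_inv]
      exact has x


end Groth.Agent.S10894
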