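import Groth.Statements.S10895
import Mathlib.AlgebraicGeometry.Morphisms.Flat
import Mathlib.AlgebraicGeometry.IdealSheaf.Basic
import Mathlib.RingTheory.Flat.FaithfullyFlat.Algebra
import Mathlib.Tactic

set_option autoImplicit false
universe u
open CategoryTheory AlgebraicGeometry
open FlatMor

namespace Groth.Agent.S10895


theorem stalk_inj {X Y : Scheme.{u}} (f : X ⟶ Y) (x : X) (hflat : (f.stalkMap x).hom.Flat) :
    Function.Injective (f.stalkMap x).hom := by
  algebraize [(f.stalkMap x).hom]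
  have : Module.FaithfullyFlat (Y.presheaf.stalk (f x)) (X.presheaf.stalk x) :=
    @Module.FaithfullyFlat.of_flat_of_isLocalHom _ _ _ _ _ _ _
      hflat (f.toLRSHom.prop x)
  exact FaithfulSMul.algebraMap_injective _ _

theorem ker_fg {X Y : Scheme.{u}} (f : X ⟶ Y) [IsClosedImmersion f]
    [LocallyOfFinitePresentation f] (W : Y.Opens) (hW : IsAffineOpen W) :
    (RingHom.ker (f.app W).hom).FG := by
  have hWX : IsAffineOpen (f ⁻¹ᵁ W) := hW.preimage f
  have hfp : (f.app W).hom.FinitePresentation := by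
    have := f.finitePresentation_appLE hW hWX le_rfl
    rwa [Scheme.Hom.appLE_eq_app] at this
  have hsurj : Function.Surjective (f.app W).hom := f.app_surjective W hW
  algebraize [(f.app W).hom]
  have := Algebra.FinitePresentation.ker_fG_of_surjective
    (Algebra.ofId Γ(Y, W) Γ(X, f ⁻¹ᵁ W)) hsurj
  exact this


theorem exists_nhd_res_zero {X Y : Scheme.{u}} (f : X ⟶ Y) (x : X)
    (hinj : Function.Injective (f.stalkMap x).hom) (W : Y.Opens) (hxW : f x ∈ W)
    (a : Γ(Y, W)) (ha : a ∈ RingHom.ker (f.app W).hom) :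
    ∃ (V : Y.Opens) (hVW : V ≤ W), f x ∈ V ∧ Y.presheaf.map (homOfLE hVW).op a = 0 := by
  have h1 : (f.stalkMap x).hom (Y.presheaf.germ W (f x) hxW a) = 0 := by
    have := Scheme.Hom.germ_stalkMap_apply f W x hxW a
    rw [RingHom.mem_ker] at ha
    rw [ha, map_zero] at this
    exact this
  have h2 : Y.presheaf.germ W (f x) hxW a = 0 := by
    apply hinj
    rw [h1, map_zero]
  have h3 : Y.presheaf.germ W (f x) hxW a = Y.presheaf.germ W (f x) hxW 0 := by
    rw [h2, map_zero]
  obtain ⟨V, hxV, iU, iV, e⟩ := TopCat.Presheaf.germ_eq Y.presheaf (f x) hxW hxW a 0 h3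
  refine ⟨V, iU.le, hxV, ?_⟩
  rw [map_zero] at e
  exact e

theorem exists_nhd_res_zero_finset {X Y : Scheme.{u}} (f : X ⟶ Y) (x : X)
    (hinj : Function.Injective (f.stalkMap x).hom) (W : Y.Opens) (hxW : f x ∈ W)
    (S : Finset Γ(Y, W)) (hS : ∀ a ∈ S, a ∈ RingHom.ker (f.app W).hom) :
    ∃ (V : Y.Opens) (hVW : V ≤ W), f x ∈ V ∧ ∀ a ∈ S, Y.presheaf.map (homOfLE hVW).op a = 0 := by
  classical
  induction S using Finset.induction_on with
  | empty => exact ⟨W, le_rfl, hxW, by simp⟩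
  | insert b S hb ih =>
    obtain ⟨V₁, hV₁W, hxV₁, h1⟩ := ih (fun a ha => hS a (Finset.mem_insert_of_mem ha))
    obtain ⟨V₂, hV₂W, hxV₂, h2⟩ :=
      exists_nhd_res_zero f x hinj W hxW b (hS b (Finset.mem_insert_self b S))
    refine ⟨V₁ ⊓ V₂, inf_le_left.trans hV₁W, ⟨hxV₁, hxV₂⟩, ?_⟩
    intro a ha
    rcases Finset.mem_insert.mp ha with rfl | ha'
    · have : (homOfLE (inf_le_left.trans hV₁W : V₁ ⊓ V₂ ≤ W)).op =
          (homOfLE hV₂W).op ≫ (homOfLE (inf_le_right : V₁ ⊓ V₂ ≤ V₂)).op := rfl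
      rw [this, Functor.map_comp, CommRingCat.comp_apply, h2, map_zero]
    · have : (homOfLE (inf_le_left.trans hV₁W : V₁ ⊓ V₂ ≤ W)).op =
          (homOfLE hV₁W).op ≫ (homOfLE (inf_le_left : V₁ ⊓ V₂ ≤ V₁)).op := rfl
      rw [this, Functor.map_comp, CommRingCat.comp_apply, h1 a ha', map_zero]

theorem exists_basicOpen {X Y : Scheme.{u}} (f : X ⟶ Y) [IsClosedImmersion f]
    [LocallyOfFinitePresentation f] (x : X)
    (hinj : Function.Injective (f.stalkMap x).hom) (W : Y.Opens) (hW : IsAffineOpen W)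
    (hxW : f x ∈ W) :
    ∃ g : Γ(Y, W), f x ∈ Y.basicOpen g ∧
      RingHom.ker (f.app W).hom ≤
        RingHom.ker (Y.presheaf.map (homOfLE (Y.basicOpen_le g)).op).hom := by
  obtain ⟨S, hS⟩ := ker_fg f W hW
  have hSker : ∀ a ∈ S, a ∈ RingHom.ker (f.app W).hom := by
    intro a ha
    rw [← hS]
    exact Ideal.subset_span ha
  obtain ⟨V, hVW, hxV, hV0⟩ := exists_nhd_res_zero_finset f x hinj W hxW S hSker
  obtain ⟨g, hgV, hxg⟩ := hW.exists_basicOpen_le ⟨f x, hxV⟩ hxW
  refine ⟨g, hxg, ?_⟩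
  rw [← hS, Ideal.span_le]
  intro a ha
  rw [SetLike.mem_coe, RingHom.mem_ker]
  have : (homOfLE (Y.basicOpen_le g)).op = (homOfLE hVW).op ≫ (homOfLE hgV).op := rfl
  rw [this, Functor.map_comp, CommRingCat.hom_comp, RingHom.comp_apply, hV0 a ha, map_zero]

theorem app_basicOpen_injective {X Y : Scheme.{u}} (f : X ⟶ Y) [IsClosedImmersion f]
    (W : Y.Opens) (hW : IsAffineOpen W) (g : Γ(Y, W))
    (hg : RingHom.ker (f.app W).hom ≤
        RingHom.ker (Y.presheaf.map (homOfLE (Y.basicOpen_le g)).op).hom) :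
    Function.Injective (f.app (Y.basicOpen g)).hom := by
  rw [RingHom.injective_iff_ker_eq_bot]
  have h1 := f.ker.map_ideal_basicOpen ⟨W, hW⟩ g
  rw [Scheme.Hom.ker_apply, Scheme.Hom.ker_apply] at h1
  rw [← Ideal.map_eq_bot_iff_le_ker] at hg
  rw [hg] at h1
  exact h1.symm


theorem result' {X Y : Scheme.{u}} (f : X ⟶ Y) [IsClosedImmersion f]
    [LocallyOfFinitePresentation f] (x : X) (hflat : (f.stalkMap x).hom.Flat) :
    ∃ V : Y.Opens, f.base x ∈ V ∧ IsIso (f ∣_ V) := by
  have hinj := stalk_inj f x hflat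
  obtain ⟨W, hW, hxW, -⟩ := exists_isAffineOpen_mem_and_subset (x := f x) (U := ⊤) trivial
  obtain ⟨g, hxg, hg⟩ := exists_basicOpen f x hinj W hW hxW
  have hinj2 := app_basicOpen_injective f W hW g hg
  refine ⟨Y.basicOpen g, hxg, ?_⟩
  have hV : IsAffineOpen (Y.basicOpen g) := hW.basicOpen g
  have : IsAffine (Y.basicOpen g).toScheme := hV
  have : IsClosedImmersion (f ∣_ Y.basicOpen g) := IsZariskiLocalAtTarget.restrict ‹_› _
  apply IsClosedImmersion.isIso_of_injective_of_isAffine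
  rw [morphismRestrict_appTop]
  have key : ∀ V : Y.Opens, V = Y.basicOpen g → Function.Injective (f.app V).hom := by
    rintro V rfl; exact hinj2
  intro a b hab
  have hB := (ConcreteCategory.bijective_of_isIso
      (X.presheaf.map (eqToHom (image_morphismRestrict_preimage f (Y.basicOpen g) ⊤)).op)).1
  have h1 : (X.presheaf.map (eqToHom (image_morphismRestrict_preimage f (Y.basicOpen g) ⊤)).op).hom
      ((f.app ((Y.basicOpen g).ι ''ᵁ ⊤)).hom a) =
      (X.presheaf.map (eqToHom (image_morphismRestrict_preimage f (Y.basicOpen g) ⊤)).op).hom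
      ((f.app ((Y.basicOpen g).ι ''ᵁ ⊤)).hom b) := hab
  exact key _ (Scheme.Opens.ι_image_top _) (hB h1)



/-- A closed immersion of finite presentation which is flat at a point x is an isomorphism over some
open neighbourhood of the image of x. -/
theorem result {X Y : Scheme.{u}} (f : X ⟶ Y) [IsClosedImmersion f]
    [LocallyOfFinitePresentation f] (x : X) (hflat : (f.stalkMap x).hom.Flat) :
    ∃ V : Y.Opens, f.base x ∈ V ∧ IsIso (f ∣_ V) := by
  exact result' f x hflat

end Groth.Agent.S10895
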