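import Groth.Statements.S10896
import Groth.Agent.Lib.Helper18.Pencil3
import Groth.Agent.S10897

set_option autoImplicit false
set_option linter.unusedSectionVars false
universe u
open Cubic

namespace Groth.Agent.S10896

open MvPolynomial Groth.Agent.Lib.Helper18.CubicK Groth.Agent.Lib.Helper18.Conic3
  Groth.Agent.Lib.Helper18.Pencil

theorem disjoint_lines {k : Type u} [Field k] [IsAlgClosed k] [CharZero k]
    {f : MvPolynomial (Fin 4) k} (hf : f.IsHomogeneous 3) (hf0 : f ≠ 0)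
    (hsm : ∀ v : Fin 4 → k, v ≠ 0 → eval v f = 0 → ∃ i : Fin 4, eval v (pderiv i f) ≠ 0)
    (L : Submodule k (Fin 4 → k)) (hL2 : Module.finrank k ↥L = 2) (hLf : ∀ u ∈ L, eval u f = 0)
    (e0 e1 w0 w1 : Fin 4 → k) (hG : Good e0 e1 w0 w1)
    (hmem : ∀ u : Fin 4 → k, u ∈ L ↔ ∃ α β : k, u = α • e0 + β • e1)
    (r1 r2 : k) (hr : r1 ≠ r2) (U1 U2 : Submodule k (Fin 4 → k))
    (h12 : Module.finrank k ↥U1 = 2) (h22 : Module.finrank k ↥U2 = 2)
    (h1f : ∀ u ∈ U1, eval u f = 0) (h2f : ∀ u ∈ U2, eval u f = 0)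
    (h1p : ∀ u ∈ U1, ∃ x y s : k, u = x • e0 + y • e1 + s • (w0 + r1 • w1))
    (h2p : ∀ u ∈ U2, ∃ x y s : k, u = x • e0 + y • e1 + s • (w0 + r2 • w1))
    (h1s : ∃ x y s : k, s ≠ 0 ∧ x • e0 + y • e1 + s • (w0 + r1 • w1) ∈ U1)
    (h2s : ∃ x y s : k, s ≠ 0 ∧ x • e0 + y • e1 + s • (w0 + r2 • w1) ∈ U2) :
    U1 ⊓ U2 = ⊥ := by
  rw [Submodule.eq_bot_iff]
  intro P hP
  by_contra hP0
  obtain ⟨hP1, hP2⟩ := Submodule.mem_inf.mp hP
  obtain ⟨x, y, s, hPe⟩ := h1p P hP1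
  obtain ⟨x', y', s', hPe'⟩ := h2p P hP2
  have hdiff : (x - x') • e0 + (y - y') • e1 + (s - s') • w0 + (s * r1 - s' * r2) • w1 = 0 := by
    have : x • e0 + y • e1 + s • (w0 + r1 • w1) - (x' • e0 + y' • e1 + s' • (w0 + r2 • w1)) = 0 := by
      rw [← hPe, ← hPe', sub_self]
    rw [← this]
    simp only [smul_add, sub_smul, mul_smul]
    abel
  obtain ⟨-, -, hs, hsr⟩ := hG.ind _ _ _ _ hdiff
  have hs0 : s = 0 := by
    have hss : s' = s := by linear_combination -hs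
    rw [hss] at hsr
    have : s * (r1 - r2) = 0 := by linear_combination hsr
    rcases mul_eq_zero.mp this with h | h
    · exact h
    · exact absurd (sub_eq_zero.mp h) hr
  have hPL : P ∈ L := by
    rw [hmem]
    refine ⟨x, y, ?_⟩
    rw [hPe, hs0, zero_smul, add_zero]
  obtain ⟨-, -, H, hH3, hHall⟩ := Groth.Agent.S10897.result k f hf hf0 hsm P hP0 (hLf P hPL)
  have hLH := hHall L hPL ⟨hL2, hLf⟩
  have h1H := hHall U1 hP1 ⟨h12, h1f⟩
  have h2H := hHall U2 hP2 ⟨h22, h2f⟩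
  have he0 : e0 ∈ H := hLH ((hmem e0).mpr ⟨1, 0, by simp⟩)
  have he1 : e1 ∈ H := hLH ((hmem e1).mpr ⟨0, 1, by simp⟩)
  have hw : ∀ (r : k) (U : Submodule k (Fin 4 → k)), U ≤ H →
      (∃ x y s : k, s ≠ 0 ∧ x • e0 + y • e1 + s • (w0 + r • w1) ∈ U) → w0 + r • w1 ∈ H := by
    intro r U hUH hex
    obtain ⟨a, b, c, hc, hu⟩ := hex
    have h1 := hUH hu
    have h2 : c • (w0 + r • w1) ∈ H := by
      have : c • (w0 + r • w1) = (a • e0 + b • e1 + c • (w0 + r • w1)) - a • e0 - b • e1 := by abel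
      rw [this]
      exact H.sub_mem (H.sub_mem h1 (H.smul_mem a he0)) (H.smul_mem b he1)
    have h3 := H.smul_mem c⁻¹ h2
    rwa [smul_smul, inv_mul_cancel₀ hc, one_smul] at h3
  have hw1 := hw r1 U1 h1H h1s
  have hw2 := hw r2 U2 h2H h2s
  have hw1' : w1 ∈ H := by
    have h1 : (r1 - r2) • w1 ∈ H := by
      have : (r1 - r2) • w1 = (w0 + r1 • w1) - (w0 + r2 • w1) := by
        rw [sub_smul]
        abel
      rw [this]
      exact H.sub_mem hw1 hw2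
    have h3 := H.smul_mem (r1 - r2)⁻¹ h1
    rwa [smul_smul, inv_mul_cancel₀ (sub_ne_zero.mpr hr), one_smul] at h3
  have hw0' : w0 ∈ H := by
    have : w0 = (w0 + r1 • w1) - r1 • w1 := by abel
    rw [this]
    exact H.sub_mem hw1 (H.smul_mem r1 hw1')
  have htop : H = ⊤ := by
    rw [eq_top_iff]
    intro u _
    obtain ⟨α, β, γ, η, rfl⟩ := hG.span u
    exact H.add_mem (H.add_mem (H.add_mem (H.smul_mem α he0) (H.smul_mem β he1))
      (H.smul_mem γ hw0')) (H.smul_mem η hw1')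
  rw [htop, finrank_top, Module.finrank_fin_fun] at hH3
  omega

/-- Over an algebraically closed field of characteristic zero, a smooth cubic surface S = V_+(f) ⊂ P^3
which contains a line contains two disjoint lines (2-dimensional subspaces of k^4 on which f
vanishes and which intersect trivially). -/
theorem result (k : Type u) [Field k] [IsAlgClosed k] [CharZero k]
    (f : MvPolynomial (Fin 4) k) (hf : f.IsHomogeneous 3) (hf0 : f ≠ 0)
    (hsm : ∀ v : Fin 4 → k, v ≠ 0 → MvPolynomial.eval v f = 0 →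
      ∃ i : Fin 4, MvPolynomial.eval v (MvPolynomial.pderiv i f) ≠ 0)
    (hL : ∃ U : Submodule k (Fin 4 → k), (Module.finrank k ↥U = 2 ∧ ∀ u ∈ U, MvPolynomial.eval u f = 0)) :
    ∃ U₁ U₂ : Submodule k (Fin 4 → k), (Module.finrank k ↥U₁ = 2 ∧ ∀ u ∈ U₁, MvPolynomial.eval u f = 0) ∧ (Module.finrank k ↥U₂ = 2 ∧ ∀ u ∈ U₂, MvPolynomial.eval u f = 0) ∧ U₁ ⊓ U₂ = ⊥ := by
  obtain ⟨L, hL2, hLf⟩ := hL
  obtain ⟨e0, e1, w0, w1, hG, hmem⟩ := exists_good L hL2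
  have hz : ∀ α β : k, eval (α • e0 + β • e1) f = 0 := fun α β =>
    hLf _ ((hmem _).mpr ⟨α, β, rfl⟩)
  obtain ⟨t1, ht1⟩ := exists_nonroot hf hsm hz w0 w1 hG
  have hG' : Good e0 e1 w1 (w0 + t1 • w1) := (hG.shift t1).swap
  obtain ⟨s, hs5, hsmem⟩ := exists_five hf hsm hz w1 (w0 + t1 • w1) hG' ht1
  obtain ⟨r1, hr1, r2, hr2, hne⟩ := Finset.one_lt_card.mp (by omega : 1 < s.card)
  obtain ⟨U1, h12, h1f, h1p, h1s⟩ := exists_line_in_plane hf hsm hz (w1 + r1 • (w0 + t1 • w1))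
    (hG'.shift r1).ind3 ((hsmem r1).mp hr1)
  obtain ⟨U2, h22, h2f, h2p, h2s⟩ := exists_line_in_plane hf hsm hz (w1 + r2 • (w0 + t1 • w1))
    (hG'.shift r2).ind3 ((hsmem r2).mp hr2)
  exact ⟨U1, U2, ⟨h12, h1f⟩, ⟨h22, h2f⟩,
    disjoint_lines hf hf0 hsm L hL2 hLf e0 e1 w1 (w0 + t1 • w1) hG' hmem r1 r2 hne U1 U2
      h12 h22 h1f h2f h1p h2p h1s h2s⟩

end Groth.Agent.S10896
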