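import Groth.Statements.S10898
-- import your own Groth.Agent.* helpers here

set_option autoImplicit false
universe u
open Polynomial
open WDiv

namespace Groth.Agent.S10898

theorem enat_aux (x : ℕ∞) (h : x + 1 ≤ 1) : x = 0 := by
  induction x using ENat.recTopCoe with
  | top => simp at h
  | coe n =>
    norm_cast at h ⊢
    omega

/-- Let A be a Noetherian integral domain and P a prime ideal of height 1 of the polynomial ring A[X].
Then either P meets A in 0 only, or its contraction p = P ∩ A is a prime of height 1 of A and P is
the extension p·A[X]. (The published lemma also assumes A regular in codimension 1; that hypothesis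
is not used for this assertion.) -/
theorem result (A : Type u) [CommRing A] [IsDomain A]
    [IsNoetherianRing A] (P : Ideal A[X]) [P.IsPrime] (hP : P.height = 1) :
    P.comap (C : A →+* A[X]) = ⊥ ∨
      ((P.comap (C : A →+* A[X])).height = 1 ∧ P = (P.comap (C : A →+* A[X])).map C) := by
  by_cases h0 : P.comap (C : A →+* A[X]) = ⊥
  · exact Or.inl h0
  · right
    have hpprime : (P.comap (C : A →+* A[X])).IsPrime := Ideal.comap_isPrime _ _
    have : ((P.comap (C : A →+* A[X])).map C).IsPrime := Ideal.isPrime_map_C_of_isPrime
    have hinj : Function.Injective (C : A →+* A[X]) := Polynomial.C_injective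
    have hcm : ∀ q : Ideal A, (q.map (C : A →+* A[X])).comap C = q := by
      intro q
      apply le_antisymm
      · intro a ha
        rw [Ideal.mem_comap, Ideal.mem_map_C_iff] at ha
        simpa using ha 0
      · exact Ideal.le_comap_map
    have hle : (P.comap (C : A →+* A[X])).map C ≤ P := Ideal.map_comap_le
    have hmapne : ∀ q : Ideal A, q ≠ ⊥ → q.map (C : A →+* A[X]) ≠ ⊥ := by
      intro q hq h
      apply hq
      rw [← hcm q, h]
      exact (Ideal.comap_bot_of_injective _ hinj)
    have hPeq : P = (P.comap (C : A →+* A[X])).map C := by
      by_contra hne'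
      have hlt : (P.comap (C : A →+* A[X])).map C < P := lt_of_le_of_ne hle (Ne.symm hne')
      have h1 := Ideal.height_add_one_le_of_lt_of_isPrime hlt
      rw [hP] at h1
      have h2 : ((P.comap (C : A →+* A[X])).map C).height = 0 := enat_aux _ h1
      rw [Ideal.height_eq_zero_iff_eq_bot] at h2
      exact hmapne _ h0 h2
    refine ⟨?_, hPeq⟩
    apply le_antisymm
    · have : (P.comap (C : A →+* A[X])).height ≤ ((1 : ℕ) : ℕ∞) := by
        rw [Ideal.height_le_iff]
        intro q hq hqp
        have := hq
        have : (q.map (C : A →+* A[X])).IsPrime := Ideal.isPrime_map_C_of_isPrime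
        have hlt : q.map (C : A →+* A[X]) < P := by
          rw [hPeq]
          refine lt_of_le_of_ne (Ideal.map_mono hqp.le) ?_
          intro h
          have := congrArg (Ideal.comap (C : A →+* A[X])) h
          rw [hcm, hcm] at this
          exact hqp.ne this
        have h1 := Ideal.height_add_one_le_of_lt_of_isPrime hlt
        rw [hP] at h1
        have h2 : (q.map (C : A →+* A[X])).height = 0 := enat_aux _ h1
        rw [Ideal.height_eq_zero_iff_eq_bot] at h2
        have hq0 : q = ⊥ := by
          by_contra hq0
          exact hmapne q hq0 h2
        rw [hq0, Ideal.height_bot]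
        exact Nat.cast_pos.mpr Nat.one_pos
      simpa using this
    · rw [Order.one_le_iff_ne_zero]
      intro h
      rw [Ideal.height_eq_zero_iff_eq_bot] at h
      exact h0 h

end Groth.Agent.S10898
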