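import Groth.Statements.S10899
import Groth.Agent.S10898
import Mathlib.RingTheory.DiscreteValuationRing.TFAE
import Mathlib.RingTheory.Localization.Algebra
import Mathlib.RingTheory.PolynomialAlgebra
import Mathlib.RingTheory.Localization.AtPrime.Basic
import Mathlib.RingTheory.KrullDimension.Field
import Mathlib.RingTheory.Localization.Submodule
import Mathlib.RingTheory.Polynomial.Basic

set_option autoImplicit false
universe u
open Polynomial
open WDiv

namespace Groth.Agent.S10899

theorem principal_of_localization {R : Type*} [CommRing R] (P : Ideal R) [P.IsPrime]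
    (M : Submonoid R) (hM : M ≤ P.primeCompl) (R' : Type*) [CommRing R'] [Algebra R R']
    [IsLocalization M R'] (h : (P.map (algebraMap R R')).IsPrincipal) :
    (IsLocalRing.maximalIdeal (Localization.AtPrime P)).IsPrincipal := by
  have hu : ∀ m : M, IsUnit (algebraMap R (Localization.AtPrime P) m) := fun m =>
    IsLocalization.map_units (Localization.AtPrime P) (⟨m.1, hM m.2⟩ : P.primeCompl)
  have hψ : (IsLocalization.lift (S := R') hu).comp (algebraMap R R') =
      algebraMap R (Localization.AtPrime P) := IsLocalization.lift_comp hu
  obtain ⟨g, hg⟩ := h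
  refine ⟨(IsLocalization.lift (S := R') hu) g, ?_⟩
  rw [← IsLocalization.AtPrime.map_eq_maximalIdeal P (Localization.AtPrime P)]
  have h1 : Ideal.map (algebraMap R (Localization.AtPrime P)) P =
      Ideal.map (IsLocalization.lift (S := R') hu) (Ideal.map (algebraMap R R') P) := by
    rw [Ideal.map_map, hψ]
  rw [h1, hg]
  simp [Ideal.map_span]

theorem vertical_case (A : Type u) [CommRing A] [IsDomain A] (p : Ideal A) [p.IsPrime]
    (hdvr : IsDiscreteValuationRing (Localization.AtPrime p)) (P : Ideal A[X]) [P.IsPrime]
    (hPeq : P = p.map (C : A →+* A[X])) (hcomap : P.comap (C : A →+* A[X]) = p) :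
    (IsLocalRing.maximalIdeal (Localization.AtPrime P)).IsPrincipal := by
  let _ : Algebra A[X] (Localization.AtPrime p)[X] :=
    Polynomial.algebra A (Localization.AtPrime p)
  have : IsLocalization (p.primeCompl.map (C : A →+* A[X])) (Localization.AtPrime p)[X] :=
    Polynomial.isLocalization p.primeCompl (Localization.AtPrime p)
  refine principal_of_localization P (p.primeCompl.map (C : A →+* A[X])) ?_
    (Localization.AtPrime p)[X] ?_
  · rintro _ ⟨s, hs, rfl⟩
    intro hmem
    have : s ∈ P.comap (C : A →+* A[X]) := hmem
    rw [hcomap] at this
    exact hs this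
  · have hcomp : (algebraMap A[X] (Localization.AtPrime p)[X]).comp
        (C : A →+* A[X]) = (C : _ →+* (Localization.AtPrime p)[X]).comp
          (algebraMap A (Localization.AtPrime p)) := by
      ext a
      simp [Polynomial.algebraMap_def]
    have hprinc : (IsLocalRing.maximalIdeal (Localization.AtPrime p)).IsPrincipal :=
      ((IsDiscreteValuationRing.TFAE _ (IsDiscreteValuationRing.not_isField _)).out 0 4).mp hdvr
    obtain ⟨π, hπ⟩ := hprinc
    refine ⟨C π, ?_⟩
    rw [hPeq, Ideal.map_map, hcomp, ← Ideal.map_map,
      IsLocalization.AtPrime.map_eq_maximalIdeal p (Localization.AtPrime p), hπ]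
    simp [Ideal.map_span]

/-- Let A be a Noetherian integral domain which is regular in codimension 1, i.e. whose localization at
every prime ideal of height 1 is a discrete valuation ring. Then the polynomial ring A[X] is regular
in codimension 1 as well: its localization at every prime ideal of height 1 is a discrete valuation
ring. -/
theorem result (A : Type u) [CommRing A]
    [IsDomain A] [IsNoetherianRing A]
    (hR1 : ∀ (p : Ideal A) [p.IsPrime], p.height = 1 → IsDiscreteValuationRing (Localization.AtPrime p))
    (P : Ideal A[X]) [P.IsPrime] (hP : P.height = 1) :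
    IsDiscreteValuationRing (Localization.AtPrime P) := by
  classical
  have hnoeth : IsNoetherianRing (Localization.AtPrime P) :=
    IsLocalization.isNoetherianRing P.primeCompl _ inferInstance
  have hnf : ¬ IsField (Localization.AtPrime P) := by
    intro hf
    have h1 : ringKrullDim (Localization.AtPrime P) = 0 := by
      letI := hf.toField
      exact ringKrullDim_eq_zero_of_field _
    rw [IsLocalization.AtPrime.ringKrullDim_eq_height P, hP] at h1
    norm_num at h1
  apply ((IsDiscreteValuationRing.TFAE _ hnf).out 0 4).mpr
  rcases S10898.result A P hP with h0 | ⟨hht, hPeq⟩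
  · let _ : Algebra A[X] (FractionRing A)[X] := Polynomial.algebra A (FractionRing A)
    have : IsLocalization ((nonZeroDivisors A).map (C : A →+* A[X])) (FractionRing A)[X] :=
      Polynomial.isLocalization (nonZeroDivisors A) (FractionRing A)
    refine principal_of_localization P ((nonZeroDivisors A).map (C : A →+* A[X])) ?_
      (FractionRing A)[X] (IsPrincipalIdealRing.principal _)
    rintro _ ⟨s, hs, rfl⟩
    intro hmem
    have : s ∈ P.comap (C : A →+* A[X]) := hmem
    rw [h0] at this
    exact (nonZeroDivisors.ne_zero hs) (by simpa using this)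
  · have hpprime : (P.comap (C : A →+* A[X])).IsPrime := Ideal.comap_isPrime _ _
    have hdvr := hR1 (P.comap (C : A →+* A[X])) hht
    exact vertical_case A (P.comap (C : A →+* A[X])) hdvr P hPeq rfl

end Groth.Agent.S10899
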