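import Groth.Statements.S10902
import Mathlib
import Groth.Agent.Lib.Helper65.FiberRank
import Groth.Agent.Lib.Helper73.DimFT.Catenary
import Groth.Agent.Lib.Helper97.CartierInduct
-- import your own Groth.Agent.* helpers here

set_option autoImplicit false
universe u
open TensorProduct
open SmVar

namespace Groth.Agent.S10902
open IsLocalRing TensorProduct KaehlerDifferential

theorem trdeg_le_finrank_kaehler (k L : Type u) [Field k] [Field L] [Algebra k L]
    [Algebra.EssFiniteType k L] :
    Cardinal.toNat (Algebra.trdeg k L) ≤ Module.finrank L (Ω[L⁄k]) := by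
  have h := Groth.Agent.Lib.Helper97.Cartier.cartierData_of_essFiniteType (k := k) L k
  have hle := h.le
  rw [Groth.Agent.Lib.Helper97.Cartier.cind_eq] at hle
  have : (Cardinal.toNat (Algebra.trdeg k L) : ℤ) ≤ (Module.finrank L (Ω[L⁄k]) : ℤ) := by
    have h0 : (0 : ℤ) ≤ (Module.finrank L (LinearMap.ker (mapBaseChange k k L)) : ℤ) :=
      Int.natCast_nonneg _
    linarith
  exact_mod_cast this


/-- Let k be a field and A a k-algebra of finite type (X = Spec A a k-scheme of finite type), P a prime
ideal of A, and suppose P contains a prime q with dim A/q ≥ n, i.e. the point P lies on an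
irreducible component of X of dimension at least n. Then the fibre at P of the sheaf of
differentials of X over k has dimension at least n over the residue field: dim_{κ(P)} (κ(P) ⊗_A
Ω_{A/k}) ≥ n. (The published statement asks every irreducible component of X to have dimension ≥ n
and concludes this at every point.) -/
theorem result (k : Type u) [Field k]
    (A : Type u) [CommRing A] [Algebra k A] [Algebra.FiniteType k A] (n : ℕ)
    (P : Ideal A) [P.IsPrime] (q : Ideal A) [q.IsPrime] (hqP : q ≤ P)
    (hq : (n : WithBot ℕ∞) ≤ ringKrullDim (A ⧸ q)) :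
    n ≤ Module.finrank P.ResidueField (P.ResidueField ⊗[A] (Ω[A⁄k])) := by
  have h1 := Groth.Agent.Lib.Helper65.FiberRank.finrank_fiber_le_of_le (Ω[A⁄k]) q P hqP
  refine le_trans ?_ h1
  -- κ(q) ⊗ Ω_A → Ω_{κ(q)/k} is surjective
  have hu1 : Algebra.FormallyUnramified A (Localization.AtPrime q) :=
    Algebra.FormallyUnramified.of_isLocalization q.primeCompl
  have hu2 : Algebra.FormallyUnramified (Localization.AtPrime q) q.ResidueField :=
    Algebra.FormallyUnramified.of_surjective (Algebra.ofId _ _) IsLocalRing.residue_surjective
  have hu3 : Algebra.FormallyUnramified A q.ResidueField :=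
    Algebra.FormallyUnramified.comp A (Localization.AtPrime q) q.ResidueField
  have hsub : Subsingleton (Ω[q.ResidueField⁄A]) := inferInstance
  have hsurj : Function.Surjective (mapBaseChange k A q.ResidueField) := by
    intro y
    have hex := KaehlerDifferential.exact_mapBaseChange_map k A q.ResidueField
    exact (hex y).mp (Subsingleton.elim _ _)
  have h2 : Module.finrank q.ResidueField (Ω[q.ResidueField⁄k]) ≤
      Module.finrank q.ResidueField (q.ResidueField ⊗[A] (Ω[A⁄k])) :=
    LinearMap.finrank_le_finrank_of_surjective hsurj
  refine le_trans ?_ h2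
  have : Algebra.EssFiniteType k q.ResidueField :=
    inferInstanceAs (Algebra.EssFiniteType k
      (Localization.AtPrime q ⧸ maximalIdeal (Localization.AtPrime q)))
  refine le_trans ?_ (trdeg_le_finrank_kaehler k q.ResidueField)
  obtain ⟨d, hd⟩ := Groth.Agent.Lib.Helper73.exists_nat_ringKrullDim_eq k (A ⧸ q)
  have h3 := Groth.Agent.Lib.Helper73.trdeg_eq_of_ringKrullDim_eq k (A := A ⧸ q) q.ResidueField d hd
  rw [h3]
  rw [hd] at hq
  have : n ≤ d := by exact_mod_cast hq
  simpa using this


end Groth.Agent.S10902
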