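import Groth.Statements.S10904
import Mathlib
import Groth.Agent.Lib.Helper90.HomogSection
import Groth.Agent.Lib.Helper90.PolyDiff

set_option autoImplicit false
universe u
open Polynomial
open ProjDeg

namespace Groth.Agent.S10904

/-- Let k be a field, R = k[X_0, …, X_n] graded by degree, I a homogeneous prime ideal of R, f a
homogeneous element of degree d ≥ 1 not in I, and I' = I + (f). Let P be the Hilbert polynomial of
R/I and Q that of R/I': rational polynomials whose value at every large integer m is the k-dimension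
of the degree-m piece, i.e. dim R_m − dim (I ∩ R_m). Assume P has degree at least 1, i.e. the
projective variety V(I) ⊆ P^n_k has dimension ≥ 1. Then Q has degree deg P − 1, and the degrees of
the projective schemes, (degree of the Hilbert polynomial)! times its leading coefficient, satisfy
deg V(I') = d · deg V(I). (The published statement has no dimension hypothesis; for V(I) a single
point the left side is 0 and the right side is d · deg V(I) ≠ 0, and the printed proof uses dim
V(I') = dim V(I) − 1.) -/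
theorem result (k : Type u) [Field k] (n : ℕ)
    (I : Ideal (MvPolynomial (Fin (n + 1)) k)) (hIh : I.IsHomogeneous (CohB1.polyGrading n k)) [I.IsPrime]
    (f : MvPolynomial (Fin (n + 1)) k) (d : ℕ) (hd : 0 < d) (hf : f.IsHomogeneous d) (hfI : f ∉ I)
    (P Q : ℚ[X])
    (hP : ∃ m₀ : ℕ, ∀ m : ℕ, m₀ ≤ m → P.eval (m : ℚ) =
      (Module.finrank k ↥(CohB1.polyGrading n k m) : ℚ) -
        Module.finrank k ↥(Submodule.restrictScalars k I ⊓ CohB1.polyGrading n k m))
    (hQ : ∃ m₀ : ℕ, ∀ m : ℕ, m₀ ≤ m → Q.eval (m : ℚ) =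
      (Module.finrank k ↥(CohB1.polyGrading n k m) : ℚ) -
        Module.finrank k ↥(Submodule.restrictScalars k (I ⊔ Ideal.span {f}) ⊓ CohB1.polyGrading n k m))
    (hdim : 1 ≤ P.natDegree) :
    Q.natDegree + 1 = P.natDegree ∧
      (Q.natDegree.factorial : ℚ) * Q.leadingCoeff =
        d * ((P.natDegree.factorial : ℚ) * P.leadingCoeff) := by
  obtain ⟨m₁, hP⟩ := hP
  obtain ⟨m₂, hQ⟩ := hQ
  have hd0 : (d : ℚ) ≠ 0 := by
    have : (0 : ℚ) < (d : ℚ) := by exact_mod_cast hd
    exact this.ne'
  -- the Hilbert function identity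
  have key : ∀ m : ℕ, max (m₁ + d) m₂ ≤ m →
      Q.eval (m : ℚ) = (P - P.comp (X - C (d : ℚ))).eval (m : ℚ) := by
    intro m hm
    have hdm : d ≤ m := by omega
    have h1 := Groth.Agent.Lib.Helper90.HomogSection.hilb_sup_span (k := k) (σ := Fin (n + 1))
      (I := I) hIh hf hfI hdm
    simp only [Groth.Agent.Lib.Helper90.HomogSection.hilb] at h1
    rw [hQ m (by omega), eval_sub, Groth.Agent.Lib.Helper90.HSPoly.eval_comp_X_sub_C,
      ← Nat.cast_sub hdm, hP m (by omega), hP (m - d) (by omega)]
    have h1' := congrArg (fun z : ℤ => (z : ℚ)) h1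
    simp only [Int.cast_sub, Int.cast_natCast] at h1'
    exact h1'
  have hQP : Q = P - P.comp (X - C (d : ℚ)) := by
    apply Polynomial.eq_of_infinite_eval_eq
    apply Set.infinite_of_injective_forall_mem (f := fun i : ℕ => ((i + max (m₁ + d) m₂ : ℕ) : ℚ))
    · intro i j hij
      have hij' : ((i + max (m₁ + d) m₂ : ℕ) : ℚ) = ((j + max (m₁ + d) m₂ : ℕ) : ℚ) := hij
      have : (i + max (m₁ + d) m₂ : ℕ) = j + max (m₁ + d) m₂ := by exact_mod_cast hij'
      omega
    · intro i
      exact key _ (Nat.le_add_left _ _)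
  obtain ⟨h1, h2⟩ := Groth.Agent.Lib.Helper90.PolyDiff.natDegree_leadingCoeff_sub_comp P d hd0 hdim
  rw [← hQP] at h1 h2
  refine ⟨by omega, ?_⟩
  rw [h1, h2]
  obtain ⟨t, ht⟩ : ∃ t, P.natDegree = t + 1 := ⟨P.natDegree - 1, by omega⟩
  rw [ht, Nat.add_sub_cancel, Nat.factorial_succ]
  push_cast
  ring

end Groth.Agent.S10904
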