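import Groth.Statements.S10905
import Mathlib
import Groth.Agent.S10904
import Groth.Agent.S10906
import Groth.Agent.Lib.Helper90.GradedLocal12

set_option autoImplicit false
universe u
open Polynomial
open ProjDeg

namespace Groth.Agent.S10905

/-- Let k be a field, R = k[X_0, …, X_n] graded by degree, I a homogeneous prime ideal whose Hilbert
polynomial P (a rational polynomial with P(m) = dim_k R_m − dim_k (I ∩ R_m) for all large m) has
degree ≥ 1, so that Y = V(I) is a projective variety of dimension ≥ 1; let f ∉ I be homogeneous of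
degree d ≥ 1, I' = I + (f), and p_1, …, p_r the minimal prime ideals over I' (listed without
repetition), with Hilbert polynomials Q_i. Define the degree of V(J) as (degree of its Hilbert
polynomial)! times the leading coefficient, and the intersection multiplicity of I and (f) at p_i as
the length of (R/I')_{p_i} over R_{p_i}. Then d · deg Y = Σ_i deg V(p_i) · i(I, (f); p_i). (The
published statement has no dimension hypothesis; for Y a single point the only minimal prime over I'
is the irrelevant ideal, whose Hilbert polynomial is 0, so the right side vanishes while the left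
side does not.) -/
theorem result (k : Type u) [Field k] (n : ℕ)
    (I : Ideal (MvPolynomial (Fin (n + 1)) k)) (hIh : I.IsHomogeneous (CohB1.polyGrading n k)) [I.IsPrime]
    (f : MvPolynomial (Fin (n + 1)) k) (d : ℕ) (hd : 0 < d) (hf : f.IsHomogeneous d) (hfI : f ∉ I)
    (P : ℚ[X])
    (hP : ∃ m₀ : ℕ, ∀ m : ℕ, m₀ ≤ m → P.eval (m : ℚ) =
      (Module.finrank k ↥(CohB1.polyGrading n k m) : ℚ) -
        Module.finrank k ↥(Submodule.restrictScalars k I ⊓ CohB1.polyGrading n k m))
    (hdim : 1 ≤ P.natDegree)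
    (r : ℕ) (p : Fin r → Ideal (MvPolynomial (Fin (n + 1)) k)) [hp : ∀ i, (p i).IsPrime] (hpinj : Function.Injective p)
    (hpmin : ∀ q : Ideal (MvPolynomial (Fin (n + 1)) k), q ∈ (I ⊔ Ideal.span {f}).minimalPrimes ↔ ∃ i, q = p i)
    (Qp : Fin r → ℚ[X])
    (hQp : ∀ i, ∃ m₀ : ℕ, ∀ m : ℕ, m₀ ≤ m → (Qp i).eval (m : ℚ) =
      (Module.finrank k ↥(CohB1.polyGrading n k m) : ℚ) -
        Module.finrank k ↥(Submodule.restrictScalars k (p i) ⊓ CohB1.polyGrading n k m)) :
    (d : ℚ) * ((P.natDegree.factorial : ℚ) * P.leadingCoeff) =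
      ∑ i : Fin r, ((Qp i).natDegree.factorial : ℚ) * (Qp i).leadingCoeff *
        (Module.length (Localization.AtPrime (p i))
          (LocalizedModule (p i).primeCompl (MvPolynomial (Fin (n + 1)) k ⧸ (I ⊔ Ideal.span {f})))).toNat := by
  obtain ⟨m₀, hP⟩ := hP
  have hcast : ∀ (J : Ideal (MvPolynomial (Fin (n + 1)) k)) (j : ℕ),
      ((Groth.Agent.Lib.Helper90.HomogSection.hilb J j : ℤ) : ℚ) =
        (Module.finrank k ↥(CohB1.polyGrading n k j) : ℚ) -
          Module.finrank k ↥(Submodule.restrictScalars k J ⊓ CohB1.polyGrading n k j) := by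
    intro J j
    simp only [Groth.Agent.Lib.Helper90.HomogSection.hilb,
      Groth.Agent.Lib.Helper90.HomogSection.part]
    push_cast
    rfl
  have hP' : ∀ j : ℕ, m₀ ≤ j → P.eval (j : ℚ) =
      ((Groth.Agent.Lib.Helper90.HomogSection.hilb I j : ℤ) : ℚ) := by
    intro j hj
    rw [hP j hj, hcast]
  set Q' : ℚ[X] := P - P.comp (X - C (d : ℚ)) with hQ'def
  have hQ'hilb := Groth.Agent.Lib.Helper90.GradedLocal.hilbPoly_sup_span (k := k)
    (σ := Fin (n + 1)) hIh hf hfI m₀ hP'
  have hQ' : ∃ m₁ : ℕ, ∀ m : ℕ, m₁ ≤ m → Q'.eval (m : ℚ) =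
      (Module.finrank k ↥(CohB1.polyGrading n k m) : ℚ) -
        Module.finrank k ↥(Submodule.restrictScalars k (I ⊔ Ideal.span {f}) ⊓
          CohB1.polyGrading n k m) :=
    ⟨m₀ + d, fun m hm => by rw [hQ'hilb m hm, hcast]⟩
  obtain ⟨h1, h2⟩ := Groth.Agent.S10904.result k n I hIh f d hd hf hfI P Q' ⟨m₀, hP⟩ hQ' hdim
  have hI'h : (I ⊔ Ideal.span {f}).IsHomogeneous (CohB1.polyGrading n k) :=
    Groth.Agent.Lib.Helper90.GradedLocal.isHomogeneous_sup_span hIh hf
  have h3 := Groth.Agent.S10906.result k n (I ⊔ Ideal.span {f}) hI'h Q' hQ' r p hpinj hpmin Qp hQp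
  rw [← h2, h3]
  apply Finset.sum_congr rfl
  intro i _
  rw [if_pos]
  obtain ⟨m₁, hm₁⟩ := hQp i
  have h4 := Groth.Agent.Lib.Helper90.GradedLocal.natDegree_hilbPoly_of_mem_minimalPrimes_sup_span
    (k := k) (σ := Fin (n + 1)) hIh hf hfI m₀ hP' hdim ((hpmin (p i)).mpr ⟨i, rfl⟩) (Q := Qp i) m₁
    (fun j hj => by rw [hm₁ j hj, hcast])
  omega

end Groth.Agent.S10905
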