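import Groth.Statements.S10907
import Mathlib
import Groth.Agent.Lib.Helper90.GradedLocal7

set_option autoImplicit false
universe u
open Polynomial
open ProjDeg

namespace Groth.Agent.S10907

/-- Let k be a field, R = k[X_0, …, X_n] graded by degree, and I a homogeneous ideal whose Hilbert
polynomial P (a rational polynomial with P(m) = dim_k R_m − dim_k (I ∩ R_m) for all large m) is
nonzero, i.e. the projective scheme V_+(I) ⊆ P^n_k is nonempty. Then the Krull dimension of R/I (the
affine cone) equals deg P + 1; the dimension of V_+(I) itself is deg P. -/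
theorem result (k : Type u) [Field k]
    (n : ℕ) (I : Ideal (MvPolynomial (Fin (n + 1)) k)) (hIh : I.IsHomogeneous (CohB1.polyGrading n k))
    (P : ℚ[X]) (hP0 : P ≠ 0)
    (hP : ∃ m₀ : ℕ, ∀ m : ℕ, m₀ ≤ m → P.eval (m : ℚ) =
      (Module.finrank k ↥(CohB1.polyGrading n k m) : ℚ) -
        Module.finrank k ↥(Submodule.restrictScalars k I ⊓ CohB1.polyGrading n k m)) :
    ringKrullDim (MvPolynomial (Fin (n + 1)) k ⧸ I) = (P.natDegree : WithBot ℕ∞) + 1 := by
  obtain ⟨m₀, hP⟩ := hP
  refine Groth.Agent.Lib.Helper90.GradedLocal.ringKrullDim_quot_eq (k := k) (σ := Fin (n + 1))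
    (J := I) hIh hP0 m₀ ?_
  intro j hj
  rw [hP j hj]
  simp only [Groth.Agent.Lib.Helper90.HomogSection.hilb, Groth.Agent.Lib.Helper90.HomogSection.part]
  push_cast
  rfl

end Groth.Agent.S10907
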