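import Groth.Statements.S10909
import Mathlib
import Groth.Agent.Lib.Helper65.RegularSmooth
import Groth.Agent.Lib.Helper65.RegularDim
-- import your own Groth.Agent.* helpers here

set_option autoImplicit false
universe u
open TensorProduct
open SmVar

namespace Groth.Agent.S10909
open IsLocalRing TensorProduct KaehlerDifferential Groth.Agent.Lib.Helper65.RegularSmooth


/-- Let k be an algebraically closed field and A a k-algebra of finite type with irreducible spectrum
(the nilradical of A is prime) and Krull dimension n; X = Spec A is then an irreducible separated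
k-scheme of finite type of dimension n. Then X is a nonsingular variety — A is reduced and every
localization of A at a prime is a regular local ring — if and only if the module of Kähler
differentials Ω_{A/k} is locally free of rank n: projective, with fibre κ(P) ⊗_A Ω_{A/k} of
dimension n at every prime P. -/
theorem result (k : Type u) [Field k]
    [IsAlgClosed k] (A : Type u) [CommRing A] [Algebra k A] [Algebra.FiniteType k A]
    (hirr : (nilradical A).IsPrime) (n : ℕ) (hn : ringKrullDim A = n) :
    (IsReduced A ∧ IsRegularRing A) ↔
      (Module.Projective A (Ω[A⁄k]) ∧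
        ∀ (P : Ideal A) [P.IsPrime],
          Module.finrank P.ResidueField (P.ResidueField ⊗[A] Ω[A⁄k]) = n) := by
  have hN : IsNoetherianRing A := Algebra.FiniteType.isNoetherianRing k A
  have hfp : Algebra.FinitePresentation k A :=
    Algebra.FinitePresentation.of_finiteType.mp inferInstance
  have hdimm : ∀ (m : Ideal A) [m.IsMaximal], ringKrullDim (Localization.AtPrime m) = n := by
    intro m _
    rw [IsLocalization.AtPrime.ringKrullDim_eq_height m,
      Groth.Agent.Lib.Helper65.RegularDim.height_eq_ringKrullDim_of_isMaximal k A hirr m, hn]
  have hfib : ∀ (m : Ideal A) [m.IsMaximal],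
      Module.finrank m.ResidueField (m.ResidueField ⊗[A] Ω[A⁄k]) =
        Module.finrank (ResidueField (Localization.AtPrime m))
          (CotangentSpace (Localization.AtPrime m)) := by
    intro m _
    rw [finrank_fiber_kaehler_eq k A m,
      ← finrank_cotangentSpace_eq k (Localization.AtPrime m)
        (bijective_algebraMap_residueField_of_isAlgClosed k A m)]
  constructor
  · rintro ⟨hred, hreg⟩
    have hsm : Algebra.FormallySmooth k A := (isRegularRing_iff_formallySmooth k A).mp hreg
    have hproj : Module.Projective A Ω[A⁄k] := inferInstance
    refine ⟨hproj, ?_⟩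
    intro P hP
    obtain ⟨m, hm, hPm⟩ := Ideal.exists_le_maximal P hP.ne_top
    have h1 : Module.finrank P.ResidueField (P.ResidueField ⊗[A] Ω[A⁄k]) =
        Module.rankAtStalk Ω[A⁄k] ⟨P, hP⟩ := Ideal.finrank_fiber_eq_rankAtStalk P
    have h2 : Module.finrank m.ResidueField (m.ResidueField ⊗[A] Ω[A⁄k]) =
        Module.rankAtStalk Ω[A⁄k] ⟨m, hm.isPrime⟩ := Ideal.finrank_fiber_eq_rankAtStalk m
    have h3 : Module.rankAtStalk Ω[A⁄k] ⟨P, hP⟩ = Module.rankAtStalk Ω[A⁄k] ⟨m, hm.isPrime⟩ :=
      Module.rankAtStalk_eq_of_le_of_finite_of_flat Ω[A⁄k] (p := ⟨P, hP⟩) (q := ⟨m, hm.isPrime⟩) hPm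
    rw [h1, h3, ← h2, hfib m]
    have : IsRegularLocalRing (Localization.AtPrime m) := (isRegularRing_iff.mp hreg) m
    have h4 := (IsRegularLocalRing.iff_finrank_cotangentSpace (Localization.AtPrime m)).mp this
    rw [hdimm m] at h4
    exact_mod_cast h4
  · rintro ⟨hproj, hrank⟩
    have hregm : ∀ (m : Ideal A) [m.IsMaximal], IsRegularLocalRing (Localization.AtPrime m) := by
      intro m _
      rw [IsRegularLocalRing.iff_finrank_cotangentSpace, ← hfib m, hrank m, hdimm m]
    have hsm : Algebra.FormallySmooth k A := by
      apply formallySmooth_of_forall_isMaximal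
      intro m _
      have := hregm m
      have : Algebra.EssFiniteType k (ResidueField (Localization.AtPrime m)) :=
        inferInstanceAs (Algebra.EssFiniteType k
          (Localization.AtPrime m ⧸ maximalIdeal (Localization.AtPrime m)))
      have : Algebra.FormallySmooth k (ResidueField (Localization.AtPrime m)) :=
        Algebra.FormallySmooth.of_perfectField
      exact formallySmooth_of_isRegularLocalRing k _
    refine ⟨?_, (isRegularRing_iff_formallySmooth k A).mpr hsm⟩
    apply isReduced_ofLocalizationMaximal
    intro m hm
    have := hregm m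
    have : IsDomain (Localization.AtPrime m) :=
      Groth.Agent.Lib.Helper76.isDomain_of_isRegularLocalRing _
    infer_instance


end Groth.Agent.S10909
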