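import Groth.Statements.S10914
import Groth.Agent.Lib.Helper72.FibDimIrr

set_option autoImplicit false
universe u
open CategoryTheory CategoryTheory.Limits AlgebraicGeometry TopologicalSpace
open ProjDeg

namespace Groth.Agent.S10914

/-- Let k be a field, X and Y reduced schemes proper over k and f : X → Y a k-morphism with (i) f
surjective, (ii) every fibre X_y over a closed point y irreducible, (iii) all these fibres of the
same dimension m, and (iv) Y irreducible. Then X is irreducible and dim X = dim Y + m. (The
published statement takes X, Y projective over k and f projective; its proof uses only that f is a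
closed map and upper semicontinuity of fibre dimension, i.e. properness.) -/
theorem result (k : Type u) [Field k] {X Y : Scheme.{u}}
    (pX : X ⟶ Spec (CommRingCat.of k)) (pY : Y ⟶ Spec (CommRingCat.of k)) [IsProper pX] [IsProper pY]
    [IsReduced X] [IsReduced Y] (f : X ⟶ Y) (hf : f ≫ pY = pX) (hsurj : Function.Surjective f)
    [IrreducibleSpace ↥Y] (m : ℕ)
    (hirr : ∀ y : ↥Y, IsClosed ({y} : Set ↥Y) → IrreducibleSpace ↥(f.fiber y))
    (hdim : ∀ y : ↥Y, IsClosed ({y} : Set ↥Y) → topologicalKrullDim ↥(f.fiber y) = m) :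
    IrreducibleSpace ↥X ∧ topologicalKrullDim ↥X = topologicalKrullDim ↥Y + m := by
  open Groth.Agent.Lib.Helper73 Groth.Agent.Lib.Helper72.FibDim Groth.Agent.Lib.Helper72.FibDimIrr in
  have hfP : IsProper f := by
    haveI : IsProper (f ≫ pY) := by rw [hf]; infer_instance
    exact IsProper.of_comp f pY
  have hcl : IsClosedMap f.base := f.isClosedMap
  have hirr' : ∀ y : ↥Y, IsClosed ({y} : Set ↥Y) → IsIrreducible (f.base ⁻¹' {y}) := by
    intro y hy
    haveI := hirr y hy
    have h1 : IsIrreducible (Set.univ : Set (f.fiber y)) := IrreducibleSpace.isIrreducible_univ _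
    have h2 := h1.image (f.fiberι y) (f.fiberι y).continuous.continuousOn
    rwa [Set.image_univ, f.range_fiberι] at h2
  have hdim' : ∀ y : ↥Y, IsClosed ({y} : Set ↥Y) → topologicalKrullDim ↥(f.base ⁻¹' {y}) = m := by
    intro y hy
    rw [← hdim y hy]
    exact (IsHomeomorph.topologicalKrullDim_eq _ (f.fiberHomeo y).isHomeomorph).symm
  have hfT : LocallyOfFiniteType f := locallyOfFiniteType_of_comp_eq pX pY f hf
  have hJX : JacobsonSpace X := LocallyOfFiniteType.jacobsonSpace pX
  have hJY : JacobsonSpace Y := LocallyOfFiniteType.jacobsonSpace pY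
  obtain ⟨ω₀, hω₀, hd₀, hmax₀, hall₀⟩ := exists_dominant pX pY f hf m hirr' hdim'
  have key := irreducibleSpace_and_dim_eq pX pY f hf m ω₀ hω₀ hd₀ ?_
  · exact ⟨key.1, by rw [key.2, add_comm]⟩
  have himg : ∀ y : Y, y ∈ f.base '' closure ({ω₀} : Set X) := by
    intro y
    have h1 : IsClosed (f.base '' closure ({ω₀} : Set X)) := hcl _ isClosed_closure
    have h2 : genericPoint Y ∈ f.base '' closure ({ω₀} : Set X) := ⟨ω₀, subset_closure rfl, hω₀⟩
    exact (genericPoint_specializes y).mem_closed h1 h2
  have hcp : closedPoints X ⊆ closure ({ω₀} : Set X) := by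
    intro x hx
    have hfx : IsClosed ({f x} : Set Y) := f.closePoints_subset_preimage_closedPoints hx
    obtain ⟨x', hx', hfx'⟩ := himg (f x)
    exact fibre_subset_of_good pX pY f hf m hirr' hdim' ω₀ hd₀ (f x) hfx ⟨x', hfx', hx'⟩ rfl
  intro x
  rw [specializes_iff_mem_closure]
  have h3 : closure (closedPoints X) ⊆ closure ({ω₀} : Set X) :=
    closure_minimal hcp isClosed_closure
  rw [closure_closedPoints] at h3
  exact h3 (Set.mem_univ x)

end Groth.Agent.S10914
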