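import Groth.Statements.S10915
import Mathlib

set_option autoImplicit false
universe u
open ProjDeg

namespace Groth.Agent.S10915

section Helpers

theorem dim_drop {R : Type*} [CommRing R] (J : Ideal R) (h : R) (M : Ideal R) [hM : M.IsMaximal]
    (d : ℕ) (hdim : ringKrullDim (R ⧸ J) ≤ ((d + 1 : ℕ) : WithBot ℕ∞))
    (havoid : ∀ P ∈ J.minimalPrimes, P ≠ M → h ∉ P) :
    ringKrullDim (R ⧸ (J ⊔ Ideal.span {h})) ≤ ((d : ℕ) : WithBot ℕ∞) := by
  rw [ringKrullDim_quotient] at hdim ⊢
  unfold Order.krullDim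
  apply iSup_le
  intro p
  -- head of the chain
  have hQ0 : J ⊔ Ideal.span {h} ≤ p.head.1.asIdeal := p.head.2
  have hJQ0 : J ≤ p.head.1.asIdeal := le_sup_left.trans hQ0
  have hhQ0 : h ∈ p.head.1.asIdeal := hQ0 (Ideal.mem_sup_right (Ideal.mem_span_singleton_self h))
  obtain ⟨P, hPmin, hPle⟩ := Ideal.exists_minimalPrimes_le hJQ0
  have hPprime : P.IsPrime := hPmin.1.1
  by_cases hPM : P = M
  · -- then p has length 0
    have hQ0M : p.head.1.asIdeal = M := by
      have : M ≤ p.head.1.asIdeal := hPM ▸ hPle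
      exact (hM.eq_of_le p.head.1.isPrime.ne_top this).symm
    have hlen : p.length = 0 := by
      by_contra hne
      have hlt : p.head < p.last := by
        apply p.strictMono
        rw [Fin.lt_def]
        simp
        omega
      have hlt' : p.head.1.asIdeal < p.last.1.asIdeal := hlt
      rw [hQ0M] at hlt'
      exact absurd (hM.eq_of_le p.last.1.isPrime.ne_top hlt'.le) (ne_of_lt hlt')
    rw [hlen]
    exact_mod_cast Nat.zero_le d
  · have hhP : h ∉ P := havoid P hPmin hPM
    have hPlt : P < p.head.1.asIdeal := lt_of_le_of_ne hPle (fun e => hhP (e ▸ hhQ0))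
    -- build the longer chain in zeroLocus J
    let incl : PrimeSpectrum.zeroLocus (R := R) ((J ⊔ Ideal.span {h} : Ideal R) : Set R) →
        PrimeSpectrum.zeroLocus (R := R) (J : Set R) :=
      fun Q => ⟨Q.1, fun x hx => Q.2 (Ideal.mem_sup_left hx)⟩
    have hincl : StrictMono incl := fun a b hab => hab
    let q0 : PrimeSpectrum.zeroLocus (R := R) (J : Set R) := ⟨⟨P, hPprime⟩, hPmin.1.2⟩
    let q : LTSeries (PrimeSpectrum.zeroLocus (R := R) (J : Set R)) :=
      (p.map incl hincl).cons q0 (by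
        show q0 < (p.map incl hincl).head
        exact hPlt)
    have hq : (q.length : WithBot ℕ∞) ≤ ((d + 1 : ℕ) : WithBot ℕ∞) :=
      (Order.LTSeries.length_le_krullDim q).trans hdim
    have hqlen : q.length = p.length + 1 := by
      show 0 + p.length + 1 = p.length + 1
      omega
    rw [hqlen] at hq
    have : p.length + 1 ≤ d + 1 := by exact_mod_cast hq
    exact_mod_cast Nat.le_of_succ_le_succ this

open MvPolynomial

variable {k : Type u} [Field k] (n : ℕ)

/-- the irrelevant ideal. -/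
noncomputable def irr : Ideal (MvPolynomial (Fin (n + 1)) k) :=
  Ideal.span (Set.range (MvPolynomial.X : Fin (n + 1) → MvPolynomial (Fin (n + 1)) k))

theorem irr_eq_ker : irr (k := k) n = RingHom.ker (constantCoeff : MvPolynomial (Fin (n + 1)) k →+* k) := by
  apply le_antisymm
  · rw [irr, Ideal.span_le]
    rintro _ ⟨i, rfl⟩
    simp [RingHom.mem_ker]
  · intro f hf
    rw [RingHom.mem_ker] at hf
    rw [irr, ← Set.image_univ, mem_ideal_span_X_image]
    intro m hm
    have hm0 : m ≠ 0 := by
      rintro rfl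
      rw [mem_support_iff] at hm
      exact hm hf
    obtain ⟨i, hi⟩ : ∃ i, m i ≠ 0 := by
      by_contra hcon
      push Not at hcon
      exact hm0 (Finsupp.ext hcon)
    exact ⟨i, Set.mem_univ _, hi⟩

instance irr_isMaximal : (irr (k := k) n).IsMaximal := by
  rw [irr_eq_ker]
  apply RingHom.ker_isMaximal_of_surjective
  intro c
  exact ⟨C c, by simp⟩

theorem le_irr_of_homogeneous (P : Ideal (MvPolynomial (Fin (n + 1)) k))
    (hP : P.IsHomogeneous (CohB1.polyGrading n k)) (hne : P ≠ ⊤) : P ≤ irr n := by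
  intro f hf
  rw [irr_eq_ker, RingHom.mem_ker]
  by_contra hc
  apply hne
  have h0 := MvPolynomial.homogeneousComponent_mem_of_mem hP hf 0
  rw [homogeneousComponent_zero] at h0
  apply Ideal.eq_top_of_isUnit_mem _ h0
  exact (isUnit_iff_ne_zero.mpr hc).map C

theorem homogeneous_of_minimal (J P : Ideal (MvPolynomial (Fin (n + 1)) k))
    (hJ : J.IsHomogeneous (CohB1.polyGrading n k)) (hP : P ∈ J.minimalPrimes) :
    P.IsHomogeneous (CohB1.polyGrading n k) := by
  have hPprime : P.IsPrime := hP.1.1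
  have hcore : (P.homogeneousCore (CohB1.polyGrading n k)).toIdeal.IsPrime :=
    Ideal.IsPrime.homogeneousCore hPprime
  have hle : (P.homogeneousCore (CohB1.polyGrading n k)).toIdeal ≤ P :=
    Ideal.toIdeal_homogeneousCore_le _ P
  have hJle : J ≤ (P.homogeneousCore (CohB1.polyGrading n k)).toIdeal := by
    rw [← hJ.toIdeal_homogeneousCore_eq_self]
    exact Ideal.homogeneousCore_mono _ hP.1.2
  have := hP.2 ⟨hcore, hJle⟩ hle
  have heq : (P.homogeneousCore (CohB1.polyGrading n k)).toIdeal = P := le_antisymm hle this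
  rw [← heq]
  exact HomogeneousIdeal.isHomogeneous _

theorem exists_linear_form [IsAlgClosed k] (J : Ideal (MvPolynomial (Fin (n + 1)) k))
    (hJ : J.IsHomogeneous (CohB1.polyGrading n k)) :
    ∃ h : MvPolynomial (Fin (n + 1)) k, h.IsHomogeneous 1 ∧
      ∀ P ∈ J.minimalPrimes, P ≠ irr n → h ∉ P := by
  classical
  have hfin : J.minimalPrimes.Finite := Ideal.finite_minimalPrimes_of_isNoetherianRing _ J
  let V : Submodule k (MvPolynomial (Fin (n + 1)) k) := homogeneousSubmodule (Fin (n + 1)) k 1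
  let W : Ideal (MvPolynomial (Fin (n + 1)) k) → Subspace k V :=
    fun P => Submodule.comap V.subtype (P.restrictScalars k)
  let s : Finset (Subspace k V) := (hfin.toFinset.filter (fun P => P ≠ irr n)).image W
  have htop : ⊤ ∉ s := by
    intro hmem
    rw [Finset.mem_image] at hmem
    obtain ⟨P, hP, hWP⟩ := hmem
    rw [Finset.mem_filter, Set.Finite.mem_toFinset] at hP
    obtain ⟨hPmin, hPne⟩ := hP
    have hPprime : P.IsPrime := hPmin.1.1
    have hPhom := homogeneous_of_minimal n J P hJ hPmin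
    have hPle : P ≤ irr n := le_irr_of_homogeneous n P hPhom hPprime.ne_top
    apply hPne
    apply le_antisymm hPle
    rw [irr, Ideal.span_le]
    rintro _ ⟨i, rfl⟩
    have hX : (X i : MvPolynomial (Fin (n + 1)) k) ∈ V := by
      rw [mem_homogeneousSubmodule]
      exact isHomogeneous_X k i
    have : (⟨X i, hX⟩ : V) ∈ W P := by rw [hWP]; exact Submodule.mem_top
    exact this
  have hne := Subspace.biUnion_ne_univ_of_top_notMem htop
  obtain ⟨v, hv⟩ : ∃ v : V, v ∉ ⋃ p ∈ s, (p : Set V) := by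
    by_contra hcon
    push Not at hcon
    exact hne (Set.eq_univ_of_forall hcon)
  refine ⟨v.1, (mem_homogeneousSubmodule _ _).mp v.2, ?_⟩
  intro P hPmin hPne hvP
  apply hv
  rw [Set.mem_iUnion₂]
  refine ⟨W P, ?_, hvP⟩
  rw [Finset.mem_image]
  exact ⟨P, by rw [Finset.mem_filter, Set.Finite.mem_toFinset]; exact ⟨hPmin, hPne⟩, rfl⟩

theorem base_case (J : Ideal (MvPolynomial (Fin (n + 1)) k))
    (hJ : J.IsHomogeneous (CohB1.polyGrading n k))
    (hdim : ringKrullDim (MvPolynomial (Fin (n + 1)) k ⧸ J) ≤ ((0 : ℕ) : WithBot ℕ∞)) :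
    ∃ N : ℕ, irr n ^ N ≤ J := by
  by_cases hJtop : J = ⊤
  · exact ⟨0, by rw [hJtop]; exact le_top⟩
  have hle : irr n ≤ J.radical := by
    rw [Ideal.radical_eq_sInf]
    apply le_sInf
    rintro P ⟨hJP, hPprime⟩
    obtain ⟨P', hP'min, hP'le⟩ := Ideal.exists_minimalPrimes_le hJP
    have hP'prime : P'.IsPrime := hP'min.1.1
    have hP'hom := homogeneous_of_minimal n J P' hJ hP'min
    have hP'irr : P' ≤ irr n := le_irr_of_homogeneous n P' hP'hom hP'prime.ne_top
    -- P' is maximal because dim ≤ 0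
    suffices h : P' = irr n by rw [← h]; exact hP'le
    by_contra hne
    have hlt : P' < irr n := lt_of_le_of_ne hP'irr hne
    rw [ringKrullDim_quotient] at hdim
    let a : PrimeSpectrum.zeroLocus (R := MvPolynomial (Fin (n + 1)) k) (J : Set _) :=
      ⟨⟨P', hP'prime⟩, hP'min.1.2⟩
    let b : PrimeSpectrum.zeroLocus (R := MvPolynomial (Fin (n + 1)) k) (J : Set _) :=
      ⟨⟨irr n, (irr_isMaximal n).isPrime⟩, hP'min.1.2.trans hP'irr⟩
    have hab : a < b := hlt
    let q : LTSeries (PrimeSpectrum.zeroLocus (R := MvPolynomial (Fin (n + 1)) k) (J : Set _)) :=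
      (RelSeries.singleton _ b).cons a hab
    have hq := (Order.LTSeries.length_le_krullDim q).trans hdim
    have hqlen : q.length = 1 := rfl
    rw [hqlen] at hq
    have : (1 : ℕ) ≤ 0 := by exact_mod_cast hq
    omega
  exact Ideal.exists_pow_le_of_le_radical_of_fg hle (IsNoetherian.noetherian _)

theorem main [IsAlgClosed k] : ∀ (d : ℕ) (J : Ideal (MvPolynomial (Fin (n + 1)) k)),
    J.IsHomogeneous (CohB1.polyGrading n k) →
    ringKrullDim (MvPolynomial (Fin (n + 1)) k ⧸ J) ≤ ((d : ℕ) : WithBot ℕ∞) →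
    ∃ h : Fin d → MvPolynomial (Fin (n + 1)) k, (∀ i, (h i).IsHomogeneous 1) ∧
      ∃ N : ℕ, irr n ^ N ≤ J ⊔ Ideal.span (Set.range h) := by
  intro d
  induction d with
  | zero =>
    intro J hJ hdim
    obtain ⟨N, hN⟩ := base_case n J hJ hdim
    exact ⟨Fin.elim0, fun i => i.elim0, N, hN.trans le_sup_left⟩
  | succ d ih =>
    intro J hJ hdim
    obtain ⟨h₀, hh₀, havoid⟩ := exists_linear_form n J hJ
    have hdrop := dim_drop J h₀ (irr n) d hdim havoid
    have hJ' : (J ⊔ Ideal.span {h₀}).IsHomogeneous (CohB1.polyGrading n k) := by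
      apply Ideal.IsHomogeneous.sup hJ
      apply Ideal.homogeneous_span
      intro x hx
      rw [Set.mem_singleton_iff] at hx
      subst hx
      exact ⟨1, (mem_homogeneousSubmodule _ _).mpr hh₀⟩
    obtain ⟨h', hh', N, hN⟩ := ih (J ⊔ Ideal.span {h₀}) hJ' hdrop
    refine ⟨Fin.cons h₀ h', ?_, N, ?_⟩
    · intro i
      refine Fin.cases ?_ (fun j => ?_) i
      · simpa using hh₀
      · simpa using hh' j
    · refine hN.trans (le_of_eq ?_)
      rw [Fin.range_cons, Ideal.span_insert, sup_assoc]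


end Helpers


/-- Let k be an algebraically closed field, R = k[X_0, …, X_n] graded by degree, and I a homogeneous
prime ideal with dim R/I = r + 1, so that X = V_+(I) ⊆ P^n_k is a projective variety of dimension r.
Then there are r + 1 linear forms h_1, …, h_{r+1} (homogeneous of degree 1) whose common zero set in
P^n_k does not meet X, i.e. the ideal I + (h_1, …, h_{r+1}) contains some power of the irrelevant
ideal (X_0, …, X_n). (The published statement says that a generic linear subspace of dimension n − r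
− 1 misses X; this row asserts only that one such subspace, cut out by r + 1 linear forms, exists.) -/
theorem result (k : Type u) [Field k] [IsAlgClosed k]
    (n r : ℕ) (I : Ideal (MvPolynomial (Fin (n + 1)) k)) (hIh : I.IsHomogeneous (CohB1.polyGrading n k)) [I.IsPrime]
    (hdim : ringKrullDim (MvPolynomial (Fin (n + 1)) k ⧸ I) = (r : WithBot ℕ∞) + 1) :
    ∃ h : Fin (r + 1) → MvPolynomial (Fin (n + 1)) k, (∀ i, (h i).IsHomogeneous 1) ∧
      ∃ N : ℕ, (Ideal.span (Set.range (MvPolynomial.X : Fin (n + 1) → MvPolynomial (Fin (n + 1)) k))) ^ N ≤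
        I ⊔ Ideal.span (Set.range h) := by
  have hdim' : ringKrullDim (MvPolynomial (Fin (n + 1)) k ⧸ I) ≤ ((r + 1 : ℕ) : WithBot ℕ∞) := by
    rw [hdim]
    push_cast
    exact le_rfl
  obtain ⟨h, hh, N, hN⟩ := main n (r + 1) I hIh hdim'
  exact ⟨h, hh, N, hN⟩

end Groth.Agent.S10915
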