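import Groth.Statements.S10927
import Groth.Agent.Lib.Helper72.OrbitSmooth
import Groth.Agent.Lib.Helper22.GenRank

set_option autoImplicit false
universe u
open CategoryTheory CategoryTheory.Limits MonoidalCategory CartesianMonoidalCategory MonObj GrpObj AlgebraicGeometry
open Variety

namespace Groth.Agent.S10927

open Groth.Agent.Lib.Helper72 Groth.Agent.Lib.Helper72.OrbitDim
  Groth.Agent.Lib.Helper72.OrbitClosed Groth.Agent.Lib.Helper72.OrbitAct
  Groth.Agent.Lib.Helper72.GrpConn Groth.Agent.Lib.Helper72.GrpGen

/-- A morphism locally of finite type is formally smooth at a point where both local rings are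
fields, the lower one of characteristic zero. -/
lemma formallySmooth_stalkMap_of_isField {X Y : Scheme.{u}} (f : X ⟶ Y) [LocallyOfFiniteType f]
    (x : X) (hK : IsField (Y.presheaf.stalk (f x))) (hL : IsField (X.presheaf.stalk x))
    (hchar : CharZero (Y.presheaf.stalk (f x))) : (f.stalkMap x).hom.FormallySmooth := by
  have hess := LocallyOfFiniteType.stalkMap f x
  algebraize [(f.stalkMap x).hom]
  let : Field (Y.presheaf.stalk (f x)) := hK.toField
  let : Field (X.presheaf.stalk x) := hL.toField
  have : CharZero (Y.presheaf.stalk (f x)) := hchar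
  have : PerfectField (Y.presheaf.stalk (f x)) := PerfectField.ofCharZero
  exact Algebra.FormallySmooth.of_perfectField

/-- Local rings of a scheme over a field of characteristic zero have characteristic zero. -/
lemma charZero_stalk {k : Type u} [Field k] [CharZero k] {Y : Scheme.{u}}
    (q : Y ⟶ Spec (CommRingCat.of k)) (y : Y) : CharZero (Y.presheaf.stalk y) := by
  let ψ : k →+* Y.presheaf.stalk y :=
    (Y.presheaf.germ ⊤ y trivial).hom.comp
      (q.appTop.hom.comp (Scheme.ΓSpecIso (CommRingCat.of k)).inv.hom)
  exact charZero_of_injective_ringHom ψ.injective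

/-- Let k be an algebraically closed field of characteristic zero, G a group variety over k (an
integral, separated k-group scheme of finite type) and X a homogeneous space for G: a k-variety
(integral, separated, of finite type over k) with an action of G such that G(k) acts transitively on
X(k). Then for every k-point x of X the orbit map G → X, g ↦ g · x, is smooth. -/
theorem result (k : Type u) [Field k] [IsAlgClosed k] [CharZero k]
    (G X : Over (Spec (CommRingCat.of k))) [GrpObj G] (a : AlgGrp.Action G X)
    [IsIntegral G.left] [IsSeparated G.hom] [LocallyOfFiniteType G.hom] [QuasiCompact G.hom]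
    [IsIntegral X.left] [IsSeparated X.hom] [LocallyOfFiniteType X.hom] [QuasiCompact X.hom]
    (htrans : ∀ x x' : 𝟙_ (Over (Spec (CommRingCat.of k))) ⟶ X,
      ∃ σ : 𝟙_ (Over (Spec (CommRingCat.of k))) ⟶ G, CartesianMonoidalCategory.lift σ x ≫ a.act = x')
    (x : 𝟙_ (Over (Spec (CommRingCat.of k))) ⟶ X) :
    Smooth (a.orbitMap x).left := by
  have hw : (a.orbitMap x).left ≫ X.hom = G.hom := Over.w _
  have hlft : LocallyOfFiniteType (a.orbitMap x).left := by
    have : LocallyOfFiniteType ((a.orbitMap x).left ≫ X.hom) := by rw [hw]; infer_instance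
    exact locallyOfFiniteType_of_comp _ X.hom
  have hNX : IsLocallyNoetherian X.left := LocallyOfFiniteType.isLocallyNoetherian X.hom
  have hfp : LocallyOfFinitePresentation (a.orbitMap x).left :=
    LocallyOfFinitePresentation.iff_locallyOfFiniteType.mpr hlft
  have hom := homog_orbitMap G X a x
  have hJX : JacobsonSpace X.left := LocallyOfFiniteType.jacobsonSpace X.hom
  -- the orbit map is dominant
  have hdom : IsDominant (a.orbitMap x).left := by
    refine ⟨?_⟩
    rw [DenseRange, dense_iff_closure_eq, ← Set.univ_subset_iff,
      ← closure_closedPoints (X := X.left)]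
    apply closure_mono
    intro y hy
    have hyc : IsClosed ({y} : Set X.left) := hy
    let x' : 𝟙_ (Over (Spec (CommRingCat.of k))) ⟶ X :=
      Over.homMk (pointOfClosedPoint X.hom y hyc) (pointOfClosedPoint_comp X.hom y hyc)
    have hx' : x'.left (IsLocalRing.closedPoint k) = y := pointOfClosedPoint_apply X.hom y hyc _
    obtain ⟨σ, hσ⟩ := htrans x x'
    refine ⟨σ.left (IsLocalRing.closedPoint k), ?_⟩
    have h0 : toUnit (𝟙_ (Over (Spec (CommRingCat.of k)))) = 𝟙 _ := toUnit_unique _ _
    have h1 : σ ≫ a.orbitMap x = x' := by
      rw [a.comp_orbitMap, h0, Category.id_comp, hσ]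
    rw [← hx']
    exact app_eq (congrArg CommaMorphism.left h1 : σ.left ≫ (a.orbitMap x).left = x'.left) _
  -- the generic point lies in the smooth locus
  have hmap : (a.orbitMap x).left (genericPoint G.left) = genericPoint X.left :=
    Groth.Agent.Lib.Helper22.GenRank.map_genericPoint (a.orbitMap x).left
  have hK : IsField (X.left.presheaf.stalk ((a.orbitMap x).left (genericPoint G.left))) := by
    rw [hmap]
    exact Field.toIsField X.left.functionField
  have hL : IsField (G.left.presheaf.stalk (genericPoint G.left)) :=
    Field.toIsField G.left.functionField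
  have hξ : genericPoint G.left ∈ (a.orbitMap x).left.smoothLocus :=
    formallySmooth_stalkMap_of_isField (a.orbitMap x).left (genericPoint G.left) hK hL
      (charZero_stalk X.hom _)
  exact OrbitSmooth.smooth_of_homog G.hom X.hom (a.orbitMap x).left hom _ hξ

end Groth.Agent.S10927
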