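import Groth.Statements.S10928
import Groth.Agent.Lib.Helper72.KleimanSmooth
import Groth.Agent.Lib.Helper72.KleimanDim
import Groth.Agent.Lib.Helper72.KleimanFibre

set_option autoImplicit false
universe u
open CategoryTheory CategoryTheory.Limits MonoidalCategory CartesianMonoidalCategory MonObj GrpObj AlgebraicGeometry
open Variety

namespace Groth.Agent.S10928

open Groth.Agent.Lib.Helper72 Groth.Agent.Lib.Helper72.KleimanSmooth
  Groth.Agent.Lib.Helper72.KleimanDim Groth.Agent.Lib.Helper72.KleimanFibre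
  Groth.Agent.Lib.Helper72.Equidim

/-- Let k be an algebraically closed field of characteristic zero, G a group variety over k (integral,
separated k-group scheme of finite type), X a homogeneous space for G (a k-variety with a G-action
such that G(k) acts transitively on X(k)) of dimension n, and f : Y → X, g : Z → X morphisms of
k-schemes where Y and Z are nonsingular varieties over k (integral, separated, smooth of finite type
over k) of dimensions r and s. For a k-point σ of G write f^σ : Y → X for y ↦ σ · f(y). Then there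
is a nonempty open subset V ⊆ G such that for every k-point σ of G lying in V the scheme Y^σ ×_X Z
(fibre product of f^σ and g) is smooth over k and is either empty or of dimension r + s − n
(dimensions are topological Krull dimensions). -/
theorem result (k : Type u) [Field k] [IsAlgClosed k] [CharZero k]
    (G X : Over (Spec (CommRingCat.of k))) [GrpObj G] (a : AlgGrp.Action G X)
    [IsIntegral G.left] [IsSeparated G.hom] [LocallyOfFiniteType G.hom] [QuasiCompact G.hom]
    [IsIntegral X.left] [IsSeparated X.hom] [LocallyOfFiniteType X.hom] [QuasiCompact X.hom]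
    (htrans : ∀ x x' : 𝟙_ (Over (Spec (CommRingCat.of k))) ⟶ X,
      ∃ σ : 𝟙_ (Over (Spec (CommRingCat.of k))) ⟶ G, CartesianMonoidalCategory.lift σ x ≫ a.act = x')
    {Y Z : Scheme.{u}} (f : Y ⟶ X.left) (g : Z ⟶ X.left)
    [IsIntegral Y] [IsSeparated (f ≫ X.hom)] [QuasiCompact (f ≫ X.hom)] [Smooth (f ≫ X.hom)]
    [IsIntegral Z] [IsSeparated (g ≫ X.hom)] [QuasiCompact (g ≫ X.hom)] [Smooth (g ≫ X.hom)]
    (n r s : ℕ) (hn : topologicalKrullDim ↥X.left = n) (hr : topologicalKrullDim ↥Y = r)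
    (hs : topologicalKrullDim ↥Z = s) :
    ∃ V : G.left.Opens, (V : Set ↥G.left).Nonempty ∧
      ∀ σ : 𝟙_ (Over (Spec (CommRingCat.of k))) ⟶ G, Set.range σ.left.base ⊆ (V : Set ↥G.left) →
        ∀ fσ : Y ⟶ X.left,
          fσ = (CartesianMonoidalCategory.lift (CartesianMonoidalCategory.toUnit (Over.mk (f ≫ X.hom)) ≫ σ)
            (Over.homMk f) ≫ a.act).left →
          Smooth (pullback.fst fσ g ≫ f ≫ X.hom) ∧
            (IsEmpty ↥(pullback fσ g) ∨ (n ≤ r + s ∧ topologicalKrullDim ↥(pullback fσ g) = ((r + s - n : ℕ) : WithBot ℕ∞))) := by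
  classical
  let Yo : Over (Spec (CommRingCat.of k)) := Over.mk (f ≫ X.hom)
  let fo : Yo ⟶ X := Over.homMk f
  have hYs : Smooth Yo.hom := ‹Smooth (f ≫ X.hom)›
  have hYq : QuasiCompact Yo.hom := ‹QuasiCompact (f ≫ X.hom)›
  have hHs : Smooth (actMap a fo).left := smooth_actMap G X a htrans Yo fo
  have hGYs : Smooth (G ⊗ Yo).hom := smooth_tensor_hom G Yo
  have hGYq : QuasiCompact (G ⊗ Yo).hom := quasiCompact_tensor_hom G Yo
  have hHw : (actMap a fo).left ≫ X.hom = (G ⊗ Yo).hom := Over.w _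
  have hgq : QuasiCompact g := FibDim.quasiCompact_of_ft (g ≫ X.hom) X.hom g
  -- the total space `W = (G × Y) ×_X Z` and its projection to `G`
  let qW : pullback (actMap a fo).left g ⟶ Spec (CommRingCat.of k) :=
    pullback.snd (actMap a fo).left g ≫ g ≫ X.hom
  have hqW' : pullback.fst (actMap a fo).left g ≫ (G ⊗ Yo).hom = qW := by
    rw [← hHw, pullback.condition_assoc]
  have hqWs : Smooth qW := inferInstance
  have hqWq : QuasiCompact qW := by rw [← hqW']; infer_instance
  let q : pullback (actMap a fo).left g ⟶ G.left :=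
    pullback.fst (actMap a fo).left g ≫ (fst G Yo).left
  have hq : q ≫ G.hom = qW := by
    rw [← hqW', Category.assoc, Over.w (fst G Yo)]
  have hqlft : LocallyOfFiniteType q := by
    have : LocallyOfFiniteType (q ≫ G.hom) := by rw [hq]; infer_instance
    exact locallyOfFiniteType_of_comp q G.hom
  have hNG : IsLocallyNoetherian G.left := LocallyOfFiniteType.isLocallyNoetherian G.hom
  have hqfp : LocallyOfFinitePresentation q :=
    LocallyOfFinitePresentation.iff_locallyOfFiniteType.mpr hqlft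
  have hNW : TopologicalSpace.NoetherianSpace ↥(pullback (actMap a fo).left g) :=
    OrbitDim.noetherianSpace_of_ft qW
  have hne : ∀ z ∈ ((q.smoothLocus : Set ↥(pullback (actMap a fo).left g))ᶜ),
      q z ≠ genericPoint G.left := by
    intro z hz hzη
    apply hz
    refine Groth.Agent.S10930.mem_smoothLocus_of_isField qW G.hom q z ?_
    rw [hzη]
    exact Field.toIsField G.left.functionField
  obtain ⟨V, hVo, hηV, hV⟩ := Groth.Agent.S10930.exists_open_of_forall_ne q q.continuous
    (genericPoint G.left) (fun b => (genericPoint_spec G.left).specializes (Set.mem_univ b)) _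
    q.smoothLocus.isOpen.isClosed_compl hne
  rw [compl_compl] at hV
  refine ⟨⟨V, hVo⟩, ⟨_, hηV⟩, ?_⟩
  intro σ hσ fσ hfσ
  have hfσ' : fσ = (slice Yo σ).left ≫ (actMap a fo).left := by
    rw [hfσ, ← Over.comp_left, slice_actMap]
  have sq := isPullback_fibre (actMap a fo).left g (fst G Yo).left (slice Yo σ).left Yo.hom σ.left
    (isPullback_slice_left σ) fσ hfσ'
  obtain ⟨hsmV, ι', σ', sq'⟩ := smooth_of_isPullback_of_smoothLocus q _ _ σ.left sq ⟨V, hVo⟩ hV hσ
  have hstr : Smooth (pullback.fst fσ g ≫ f ≫ X.hom) :=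
    MorphismProperty.of_isPullback (P := @Smooth) sq' hsmV
  refine ⟨hstr, ?_⟩
  rcases isEmpty_or_nonempty ↥(pullback fσ g) with hemp | hnon
  · exact Or.inl hemp
  refine Or.inr ?_
  obtain ⟨p₀⟩ := hnon
  haveI hPne : Nonempty ↥(pullback fσ g) := ⟨p₀⟩
  let Vo : G.left.Opens := ⟨V, hVo⟩
  haveI hVne : Nonempty ↥(Vo : Scheme.{u}) := ⟨⟨_, hηV⟩⟩
  haveI hVint : IsIntegral (Vo : Scheme.{u}) := isIntegral_of_isOpenImmersion Vo.ι
  haveI hWVne : Nonempty ↥((q ⁻¹ᵁ Vo : (pullback (actMap a fo).left g).Opens) : Scheme.{u}) :=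
    ⟨ι' p₀⟩
  haveI hWne : Nonempty ↥(pullback (actMap a fo).left g) := ⟨(q ⁻¹ᵁ Vo).ι (ι' p₀)⟩
  haveI hGYne : Nonempty ↥(G ⊗ Yo).left :=
    ⟨pullback.fst (actMap a fo).left g ((q ⁻¹ᵁ Vo).ι (ι' p₀))⟩
  -- dimension of `G`
  obtain ⟨dG, hdG, -⟩ := Groth.Agent.Lib.Helper22.FlatDim.exists_dim_irreducibleComponents_of_irreducible G.hom
  have hGeq : Equidim ↥G.left (dG : WithBot ℕ∞) := by
    rw [← hdG]; exact equidim_of_irreducible _
  -- `G × Y`
  haveI : IrreducibleSpace ↥Yo.left := inferInstanceAs (IrreducibleSpace ↥Y)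
  obtain ⟨e₁, d₁, h11, h12, h13⟩ := equidim_pullback G.hom (𝟙 (Spec (CommRingCat.of k))) Yo.hom
    G.hom (Category.comp_id _) dG hGeq Yo.hom
  rw [topologicalKrullDim_spec_field] at h11
  have hd₁ : d₁ = 0 := by exact_mod_cast h11.symm
  have hE1 : Equidim ↥(G ⊗ Yo).left ((r + dG : ℕ) : WithBot ℕ∞) := by
    have : topologicalKrullDim ↥Yo.left + (e₁ : WithBot ℕ∞) = ((r + dG : ℕ) : WithBot ℕ∞) := by
      have : e₁ = dG := by omega
      rw [this]
      change topologicalKrullDim ↥Y + _ = _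
      rw [hr]
      push_cast; rfl
    rw [← this]
    exact h13
  -- `W`
  haveI : Flat (actMap a fo).left := inferInstance
  obtain ⟨m, dX, h21, h22, h23⟩ := equidim_pullback (G ⊗ Yo).hom X.hom (g ≫ X.hom)
    (actMap a fo).left hHw (r + dG) hE1 g
  have hdX : dX = n := by
    rw [hn] at h21; exact_mod_cast h21.symm
  have hE2 : Equidim ↥(pullback (actMap a fo).left g) ((s + m : ℕ) : WithBot ℕ∞) := by
    have : topologicalKrullDim ↥Z + (m : WithBot ℕ∞) = ((s + m : ℕ) : WithBot ℕ∞) := by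
      rw [hs]; push_cast; rfl
    rw [← this]
    exact h23
  -- restriction over `V`
  have hE2V := equidim_opens qW _ hE2 (q ⁻¹ᵁ Vo)
  have hdV : topologicalKrullDim ↥(Vo : Scheme.{u}) = (dG : WithBot ℕ∞) :=
    dim_eq_of_equidim (Vo.ι ≫ G.hom) _ (equidim_opens G.hom _ hGeq Vo)
  haveI : Flat (q ∣_ Vo) := inferInstance
  have hφ : (q ∣_ Vo) ≫ Vo.ι ≫ G.hom = (q ⁻¹ᵁ Vo).ι ≫ qW := by
    rw [morphismRestrict_ι_assoc, hq]
  obtain ⟨e, dV, h31, h32, h33⟩ := equidim_pullback ((q ⁻¹ᵁ Vo).ι ≫ qW) (Vo.ι ≫ G.hom)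
    (𝟙 (Spec (CommRingCat.of k))) (q ∣_ Vo) hφ (s + m) hE2V σ'
  have hdV' : dV = dG := by
    rw [hdV] at h31; exact_mod_cast h31.symm
  rw [topologicalKrullDim_spec_field, zero_add] at h33
  -- transfer to `Y ×_X Z`
  have hEP : Equidim ↥(pullback fσ g) (e : WithBot ℕ∞) :=
    equidim_of_homeomorph (Scheme.homeoOfIso sq'.isoPullback).symm _ h33
  have hdimP := dim_eq_of_equidim (pullback.fst fσ g ≫ f ≫ X.hom) _ hEP
  have hnum : n + e = r + s := by omega
  refine ⟨by omega, ?_⟩
  rw [hdimP]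
  have : e = r + s - n := by omega
  rw [this]

end Groth.Agent.S10928
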