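import Groth.Statements.S10929
import Mathlib.RingTheory.Smooth.Locus
import Mathlib.RingTheory.Smooth.Field
import Mathlib.RingTheory.Etale.Basic
import Mathlib.Algebra.CharP.Algebra
import Mathlib.FieldTheory.Perfect
import Mathlib.AlgebraicGeometry.Morphisms.Smooth
import Mathlib.AlgebraicGeometry.Morphisms.SchemeTheoreticallyDominant
import Mathlib.AlgebraicGeometry.Noetherian
-- import your own Groth.Agent.* helpers here

set_option autoImplicit false
universe u
open CategoryTheory CategoryTheory.Limits AlgebraicGeometry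
open Variety

namespace Groth.Agent.S10929

section RingLevel

open Algebra

/-- the generic point of a characteristic-zero domain extension is a smooth point -/
theorem isSmoothAt_bot (R T : Type u) [CommRing R] [CommRing T] [IsDomain R] [IsDomain T]
    [CharZero R] [Algebra R T] [Algebra.FiniteType R T]
    (hinj : Function.Injective (algebraMap R T)) :
    Algebra.IsSmoothAt R (⊥ : Ideal T) := by
  have : IsFractionRing T (Localization.AtPrime (⊥ : Ideal T)) := by
    simpa [Ideal.primeCompl_bot] using Localization.isLocalization (M := (⊥ : Ideal T).primeCompl)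
  let : Field (Localization.AtPrime (⊥ : Ideal T)) := IsFractionRing.toField T
  have : FaithfulSMul R (Localization.AtPrime (⊥ : Ideal T)) := by
    rw [faithfulSMul_iff_algebraMap_injective,
      IsScalarTower.algebraMap_eq R T (Localization.AtPrime ⊥)]
    exact (IsFractionRing.injective T _).comp hinj
  let := FractionRing.liftAlgebra R (Localization.AtPrime (⊥ : Ideal T))
  have : EssFiniteType T (Localization.AtPrime (⊥ : Ideal T)) :=
    .of_isLocalization _ (⊥ : Ideal T).primeCompl
  have : EssFiniteType R (Localization.AtPrime (⊥ : Ideal T)) := .comp _ T _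
  have : EssFiniteType (FractionRing R) (Localization.AtPrime (⊥ : Ideal T)) :=
    .of_comp R _ _
  have : FormallySmooth (FractionRing R) (Localization.AtPrime (⊥ : Ideal T)) :=
    Algebra.FormallySmooth.of_perfectField
  have : FormallyEtale R (FractionRing R) := .of_isLocalization (nonZeroDivisors R)
  exact FormallySmooth.comp R (FractionRing R) (Localization.AtPrime ⊥)

/-- Generic smoothness, ring level: a finitely presented injective extension of domains in
characteristic zero is smooth after inverting one nonzero element. -/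
theorem exists_smooth_away (R T : Type u) [CommRing R] [CommRing T] [IsDomain R] [IsDomain T]
    [CharZero R] [Algebra R T] [Algebra.FinitePresentation R T]
    (hinj : Function.Injective (algebraMap R T)) :
    ∃ t : T, t ≠ 0 ∧ Algebra.Smooth R (Localization.Away t) := by
  have h0 : (⟨⊥, Ideal.isPrime_bot⟩ : PrimeSpectrum T) ∈ smoothLocus R T :=
    isSmoothAt_bot R T hinj
  obtain ⟨_, ⟨_, ⟨t, rfl⟩, rfl⟩, hxt, ht⟩ :=
    PrimeSpectrum.isBasis_basic_opens.exists_subset_of_mem_open h0 isOpen_smoothLocus
  refine ⟨t, ?_, basicOpen_subset_smoothLocus_iff_smooth.mp ht⟩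
  rintro rfl
  simp at hxt

end RingLevel

theorem result' (k : Type u) [Field k] [CharZero k]
    {X Y : Scheme.{u}} (qX : X ⟶ Spec (CommRingCat.of k)) (qY : Y ⟶ Spec (CommRingCat.of k))
    [LocallyOfFiniteType qX] [QuasiCompact qX] [LocallyOfFiniteType qY]
    [IsIntegral X] [IsIntegral Y] (f : X ⟶ Y) (hf : f ≫ qY = qX) (hdom : DenseRange f.base) :
    ∃ U : X.Opens, (U : Set ↥X).Nonempty ∧ Smooth (U.ι ≫ f) := by
  -- Noetherian-ness
  have hYN : IsLocallyNoetherian Y := LocallyOfFiniteType.isLocallyNoetherian qY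
  have hXN : IsLocallyNoetherian X := LocallyOfFiniteType.isLocallyNoetherian qX
  have : CompactSpace X := QuasiCompact.compactSpace_of_compactSpace qX
  have : IsNoetherian X := { }
  have : LocallyOfFiniteType f := by
    have : LocallyOfFiniteType (f ≫ qY) := hf ▸ inferInstance
    exact locallyOfFiniteType_of_comp f qY
  have : IsDominant f := ⟨hdom⟩
  have : IsSchemeTheoreticallyDominant f := .of_isDominant f
  -- pick affine opens
  obtain ⟨y⟩ : Nonempty Y := inferInstance
  obtain ⟨_, ⟨V, hV, rfl⟩, hyV, -⟩ :=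
    Y.isBasis_affineOpens.exists_subset_of_mem_open (Set.mem_univ y) isOpen_univ
  obtain ⟨x, hx⟩ : ∃ x : X, f.base x ∈ V := by
    obtain ⟨_, hz, x, rfl⟩ := hdom.inter_open_nonempty V V.isOpen ⟨y, hyV⟩
    exact ⟨x, hz⟩
  obtain ⟨_, ⟨W, hW, rfl⟩, hxW, hWV⟩ :=
    X.isBasis_affineOpens.exists_subset_of_mem_open (show x ∈ f ⁻¹ᵁ V from hx) (f ⁻¹ᵁ V).isOpen
  have hWV' : W ≤ f ⁻¹ᵁ V := hWV
  have : Nonempty (Scheme.Opens.toScheme V) := ⟨⟨y, hyV⟩⟩
  have : Nonempty (Scheme.Opens.toScheme W) := ⟨⟨x, hxW⟩⟩
  have : IsDomain Γ(Y, V) := inferInstance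
  have : IsDomain Γ(X, W) := inferInstance
  -- characteristic zero
  have : CharZero Γ(Y, V) := by
    let g : k →+* Γ(Y, V) :=
      (qY.appLE ⊤ V le_top).hom.comp (Scheme.ΓSpecIso (CommRingCat.of k)).inv.hom
    exact charZero_of_injective_ringHom g.injective
  let _ : Algebra Γ(Y, V) Γ(X, W) := (f.appLE V W hWV').hom.toAlgebra
  have : Algebra.FinitePresentation Γ(Y, V) Γ(X, W) := f.finitePresentation_appLE hV hW hWV'
  have hinj : Function.Injective (algebraMap Γ(Y, V) Γ(X, W)) := by
    have h1 : Function.Injective (f.app V) := f.app_injective V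
    have h2 : Function.Injective (X.presheaf.map (homOfLE hWV').op) :=
      map_injective_of_isIntegral X (homOfLE hWV')
    exact h2.comp h1
  obtain ⟨t, ht0, hts⟩ := exists_smooth_away Γ(Y, V) Γ(X, W) hinj
  have hUW : X.basicOpen t ≤ W := X.basicOpen_le t
  have hUV : X.basicOpen t ≤ f ⁻¹ᵁ V := hUW.trans hWV'
  refine ⟨X.basicOpen t, ?_, ?_⟩
  · rw [← TopologicalSpace.Opens.ne_bot_iff_nonempty, Ne, AlgebraicGeometry.basicOpen_eq_bot_iff]
    exact ht0
  · rw [← Scheme.Hom.resLE_comp_ι f hUV]
    have : Smooth (f.resLE V (X.basicOpen t) hUV) := by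
      have : IsAffine (Scheme.Opens.toScheme (X.basicOpen t)) := hW.basicOpen t
      have : IsAffine (Scheme.Opens.toScheme V) := hV
      rw [HasRingHomProperty.iff_of_isAffine (P := @Smooth)]
      have hresp : (RingHom.toMorphismProperty RingHom.Smooth).RespectsIso :=
        RingHom.toMorphismProperty_respectsIso_iff.mp RingHom.Smooth.respectsIso
      refine (MorphismProperty.arrow_mk_iso_iff (RingHom.toMorphismProperty RingHom.Smooth)
        (arrowResLEAppIso f V (X.basicOpen t) hUV)).mpr ?_
      show RingHom.Smooth (f.appLE V (X.basicOpen t) hUV).hom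
      rw [← f.appLE_map hWV' (homOfLE hUW).op, CommRingCat.hom_comp]
      set ψ : Γ(X, W) →+* Γ(X, X.basicOpen t) := (X.presheaf.map (homOfLE hUW).op).hom with hψ
      let _ : Algebra Γ(X, W) Γ(X, X.basicOpen t) := ψ.toAlgebra
      have : IsLocalization.Away t Γ(X, X.basicOpen t) := hW.isLocalization_basicOpen t
      let _ : Algebra Γ(Y, V) Γ(X, X.basicOpen t) :=
        (ψ.comp (f.appLE V W hWV').hom).toAlgebra
      have : IsScalarTower Γ(Y, V) Γ(X, W) Γ(X, X.basicOpen t) := .of_algebraMap_eq' rfl
      let e : Localization.Away t ≃ₐ[Γ(X, W)] Γ(X, X.basicOpen t) :=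
        IsLocalization.algEquiv (.powers t) _ _
      have : Algebra.Smooth Γ(Y, V) Γ(X, X.basicOpen t) := .of_equiv (e.restrictScalars Γ(Y, V))
      exact this
    infer_instance

/-- Let k be an algebraically closed field of characteristic zero, X and Y integral schemes of finite
type over k and f : X → Y a dominant k-morphism. Then there is a nonempty open subscheme U of X such
that f restricted to U is a smooth morphism U → Y. -/
theorem result (k : Type u) [Field k] [IsAlgClosed k] [CharZero k]
    {X Y : Scheme.{u}} (qX : X ⟶ Spec (CommRingCat.of k)) (qY : Y ⟶ Spec (CommRingCat.of k))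
    [LocallyOfFiniteType qX] [QuasiCompact qX] [LocallyOfFiniteType qY] [QuasiCompact qY]
    [IsIntegral X] [IsIntegral Y] (f : X ⟶ Y) (hf : f ≫ qY = qX) (hdom : DenseRange f.base) :
    ∃ U : X.Opens, (U : Set ↥X).Nonempty ∧ Smooth (U.ι ≫ f) := result' k qX qY f hf hdom

end Groth.Agent.S10929
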