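import Groth.Statements.S10930
import Groth.Agent.Lib.Helper65.RegularSmooth
import Groth.Agent.Lib.Helper72.OrbitDim

set_option autoImplicit false
universe u
open CategoryTheory CategoryTheory.Limits AlgebraicGeometry
open Variety

namespace Groth.Agent.S10930


open TopologicalSpace in
/-- A closed subset of a Noetherian quasi-sober space none of whose points maps to the generic
point `η` of the target is disjoint from the preimage of an open neighbourhood of `η`. -/
lemma exists_open_of_forall_ne {A B : Type*} [TopologicalSpace A] [TopologicalSpace B]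
    [NoetherianSpace A] [QuasiSober A] [T0Space B] (f : A → B) (hf : Continuous f) (η : B)
    (hη : ∀ b : B, η ⤳ b) (Z : Set A) (hZ : IsClosed Z) (h : ∀ z ∈ Z, f z ≠ η) :
    ∃ V : Set B, IsOpen V ∧ η ∈ V ∧ f ⁻¹' V ⊆ Zᶜ := by
  obtain ⟨S, hSf, hSc, hSi, rfl⟩ := NoetherianSpace.exists_finite_set_isClosed_irreducible hZ
  refine ⟨(⋃ t ∈ S, closure (f '' t))ᶜ, ?_, ?_, ?_⟩
  · exact (hSf.isClosed_biUnion fun t _ => isClosed_closure).isOpen_compl
  · intro hmem
    obtain ⟨t, ht, hηt⟩ := Set.mem_iUnion₂.mp hmem
    have hg := (hSi t ht).isGenericPoint_genericPoint (hSc t ht)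
    have hzt : (hSi t ht).genericPoint ∈ t := hg.mem
    have h1 : f '' t ⊆ closure {f (hSi t ht).genericPoint} := by
      rintro _ ⟨a, ha, rfl⟩
      have : (hSi t ht).genericPoint ⤳ a := hg.specializes ha
      exact specializes_iff_mem_closure.mp (this.map hf)
    have h2 : η ∈ closure {f (hSi t ht).genericPoint} :=
      closure_minimal h1 isClosed_closure hηt
    have h3 : f (hSi t ht).genericPoint ⤳ η := specializes_iff_mem_closure.mpr h2
    exact h _ (Set.mem_sUnion.mpr ⟨t, ht, hzt⟩) (h3.antisymm (hη _)).eq
  · intro a ha haZ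
    obtain ⟨t, ht, hat⟩ := Set.mem_sUnion.mp haZ
    exact ha (Set.mem_iUnion₂.mpr ⟨t, ht, subset_closure ⟨a, hat, rfl⟩⟩)

lemma isField_stalk_spec_field (k : Type u) [Field k] (p : ↥(Spec (CommRingCat.of k))) :
    IsField ((Spec (CommRingCat.of k)).presheaf.stalk p) := by
  have : p = genericPoint (Spec (CommRingCat.of k)) :=
    Subsingleton.elim (α := ↥(Spec (CommRingCat.of k))) _ _
  rw [this]
  exact Field.toIsField (Spec (CommRingCat.of k)).functionField

/-- Local rings of a scheme smooth over a field are regular. -/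
lemma isRegularLocalRing_stalk_of_smooth {k : Type u} [Field k] {X : Scheme.{u}}
    (q : X ⟶ Spec (CommRingCat.of k)) [Smooth q] (x : X) :
    IsRegularLocalRing (X.presheaf.stalk x) := by
  have hess := LocallyOfFiniteType.stalkMap q x
  have hsm : (q.stalkMap x).hom.FormallySmooth := by
    have : x ∈ q.smoothLocus := by rw [q.smoothLocus_eq_top]; trivial
    exact this
  have hK := isField_stalk_spec_field k (q x)
  algebraize [(q.stalkMap x).hom]
  let : Field ((Spec (CommRingCat.of k)).presheaf.stalk (q x)) := hK.toField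
  exact Groth.Agent.Lib.Helper65.RegularSmooth.isRegularLocalRing_of_formallySmooth
    ((Spec (CommRingCat.of k)).presheaf.stalk (q x)) (X.presheaf.stalk x)

/-- Local rings of a scheme over a field of characteristic zero have characteristic zero. -/
lemma charZero_stalk {k : Type u} [Field k] [CharZero k] {Y : Scheme.{u}}
    (q : Y ⟶ Spec (CommRingCat.of k)) (y : Y) : CharZero (Y.presheaf.stalk y) := by
  let ψ : k →+* Y.presheaf.stalk y :=
    (Y.presheaf.germ ⊤ y trivial).hom.comp
      (q.appTop.hom.comp (Scheme.ΓSpecIso (CommRingCat.of k)).inv.hom)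
  exact charZero_of_injective_ringHom ψ.injective

/-- In characteristic zero, a morphism from a smooth `k`-scheme is smooth at every point lying
over a point whose local ring is a field. -/
lemma mem_smoothLocus_of_isField {k : Type u} [Field k] [CharZero k] {X Y : Scheme.{u}}
    (qX : X ⟶ Spec (CommRingCat.of k)) (qY : Y ⟶ Spec (CommRingCat.of k)) [Smooth qX]
    (f : X ⟶ Y) [LocallyOfFinitePresentation f] (x : X)
    (hK : IsField (Y.presheaf.stalk (f x))) : x ∈ f.smoothLocus := by
  have hreg := isRegularLocalRing_stalk_of_smooth qX x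
  have hess := LocallyOfFiniteType.stalkMap f x
  have hchar := charZero_stalk qY (f x)
  rw [Scheme.Hom.mem_smoothLocus]
  algebraize [(f.stalkMap x).hom]
  let : Field (Y.presheaf.stalk (f x)) := hK.toField
  have : PerfectField (Y.presheaf.stalk (f x)) := PerfectField.ofCharZero
  have : Algebra.EssFiniteType (Y.presheaf.stalk (f x))
      (IsLocalRing.ResidueField (X.presheaf.stalk x)) :=
    inferInstanceAs (Algebra.EssFiniteType (Y.presheaf.stalk (f x))
      (X.presheaf.stalk x ⧸ IsLocalRing.maximalIdeal (X.presheaf.stalk x)))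
  have : Algebra.FormallySmooth (Y.presheaf.stalk (f x))
      (IsLocalRing.ResidueField (X.presheaf.stalk x)) := Algebra.FormallySmooth.of_perfectField
  exact Groth.Agent.Lib.Helper65.RegularSmooth.formallySmooth_of_isRegularLocalRing
    (Y.presheaf.stalk (f x)) (X.presheaf.stalk x)

/-- Let k be an algebraically closed field of characteristic zero, X and Y varieties over k (integral,
separated and of finite type over k) with X nonsingular, i.e. smooth over k, and f : X → Y a
k-morphism. Then there is a nonempty open subscheme V of Y such that the restriction f⁻¹(V) → V of f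
is smooth. -/
theorem result (k : Type u) [Field k] [IsAlgClosed k] [CharZero k]
    {X Y : Scheme.{u}} (qX : X ⟶ Spec (CommRingCat.of k)) (qY : Y ⟶ Spec (CommRingCat.of k))
    [LocallyOfFiniteType qX] [QuasiCompact qX] [IsSeparated qX] [Smooth qX]
    [LocallyOfFiniteType qY] [QuasiCompact qY] [IsSeparated qY]
    [IsIntegral X] [IsIntegral Y] (f : X ⟶ Y) (hf : f ≫ qY = qX) :
    ∃ V : Y.Opens, (V : Set ↥Y).Nonempty ∧ Smooth (f ∣_ V) := by
  have hlft : LocallyOfFiniteType f := by
    have : LocallyOfFiniteType (f ≫ qY) := by rw [hf]; infer_instance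
    exact locallyOfFiniteType_of_comp f qY
  have hNY : IsLocallyNoetherian Y := LocallyOfFiniteType.isLocallyNoetherian qY
  have hfp : LocallyOfFinitePresentation f :=
    LocallyOfFinitePresentation.iff_locallyOfFiniteType.mpr hlft
  have hNX : TopologicalSpace.NoetherianSpace X :=
    Groth.Agent.Lib.Helper72.OrbitDim.noetherianSpace_of_ft qX
  have hne : ∀ z ∈ ((f.smoothLocus : Set X)ᶜ), f z ≠ genericPoint Y := by
    intro z hz hzη
    apply hz
    refine mem_smoothLocus_of_isField qX qY f z ?_
    rw [hzη]
    exact Field.toIsField Y.functionField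
  obtain ⟨V, hVo, hηV, hV⟩ := exists_open_of_forall_ne f f.continuous (genericPoint Y)
    (fun b => (genericPoint_spec Y).specializes (Set.mem_univ b)) _
    f.smoothLocus.isOpen.isClosed_compl hne
  refine ⟨⟨V, hVo⟩, ⟨_, hηV⟩, ?_⟩
  rw [← Scheme.Hom.smoothLocus_eq_top_iff, ← top_le_iff]
  rintro y -
  have hy : (y.1 : X) ∈ f.smoothLocus := by
    have := hV y.2
    rwa [compl_compl] at this
  rw [Scheme.Hom.mem_smoothLocus] at hy ⊢
  exact (RingHom.FormallySmooth.respectsIso.arrow_mk_iso_iff
    (morphismRestrictStalkMap f ⟨V, hVo⟩ y)).mpr hy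

end Groth.Agent.S10930
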