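import Groth.Statements.S10935
import Mathlib
import Groth.Agent.Lib.Helper7.FlatClosure2
import Groth.Agent.Lib.Helper29.AssNoeth

set_option autoImplicit false
set_option linter.style.haveILetI false
universe u
open CategoryTheory CategoryTheory.Limits AlgebraicGeometry
open FlatMor

namespace Groth.Agent.S10935

open CategoryTheory.Limits TopologicalSpace Opposite
open Groth.Agent.Lib.Helper7.FlatClosure
open Groth.Agent.Lib.Helper29.QCohLoc

lemma valuationRing_stalk {Y : Scheme.{u}} [IsIntegral Y]
    (hreg : ∀ y : Y, IsRegularLocalRing (Y.presheaf.stalk y)) (hdim : topologicalKrullDim Y ≤ 1)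
    (y : Y) : ValuationRing (Y.presheaf.stalk y) := by
  haveI := hreg y
  apply valuationRing_of_regular
  rw [← PrimeSpectrum.topologicalKrullDim_eq_ringKrullDim]
  exact ((Y.fromSpecStalk y).isEmbedding.isInducing.topologicalKrullDim_le).trans hdim

lemma mem_basicOpen_of_generic {Y : Scheme.{u}} [IsIntegral Y] (y : Y)
    (hy : closure {y} = Set.univ) (U : Y.Opens) (hyU : y ∈ U) (a : Γ(Y, U)) (ha : a ≠ 0) :
    y ∈ Y.basicOpen a := by
  refine (Scheme.mem_basicOpen'' Y a y).mpr ⟨hyU, ?_⟩
  have hfield : IsField (Y.presheaf.stalk y) := by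
    apply isField_stalk_of_closure_mem_irreducibleComponents Y y
    rw [irreducibleComponents_eq_singleton, hy]
    rfl
  have hne : Y.presheaf.germ U y hyU a ≠ 0 := by
    intro h0
    apply ha
    apply germ_injective_of_isIntegral Y y hyU
    rw [h0, map_zero]
  letI := hfield.toField
  exact hne.isUnit

/-- The generic point lies in every nonempty open. -/
lemma genericPoint_mem {Y : Scheme.{u}} [IsIntegral Y] (U : Y.Opens) (y : Y) (hy : y ∈ U) :
    genericPoint Y ∈ U := by
  have : genericPoint Y ⤳ y := by
    rw [specializes_iff_mem_closure, (genericPoint_spec Y).def]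
    trivial
  exact this.mem_open U.2 hy

/-- A point of an affine open of an integral scheme which lies in all nonempty basic opens is
the generic point. -/
lemma eq_genericPoint_of_forall_mem_basicOpen {Y : Scheme.{u}} [IsIntegral Y] (U : Y.Opens)
    (hU : IsAffineOpen U) (y : Y) (hy : y ∈ U)
    (h : ∀ a : Γ(Y, U), a ≠ 0 → y ∈ Y.basicOpen a) : y = genericPoint Y := by
  have hη : genericPoint Y ∈ U := genericPoint_mem U y hy
  have h1 : hU.primeIdealOf ⟨y, hy⟩ = hU.primeIdealOf ⟨genericPoint Y, hη⟩ := by
    apply PrimeSpectrum.ext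
    ext a
    rw [mem_primeIdealOf_iff, mem_primeIdealOf_iff]
    constructor
    · intro hya hηa
      by_cases ha : a = 0
      · subst ha
        rw [Scheme.basicOpen_zero] at hηa
        exact hηa
      · exact hya (h a ha)
    · intro hηa hya
      by_cases ha : a = 0
      · subst ha
        rw [Scheme.basicOpen_zero] at hya
        exact hya
      · exact hηa (mem_basicOpen_of_generic _ (genericPoint_spec Y).def U hη a ha)
  have h2 := hU.fromSpec_primeIdealOf ⟨y, hy⟩
  have h3 := hU.fromSpec_primeIdealOf ⟨genericPoint Y, hη⟩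
  rw [h1] at h2
  exact h2.symm.trans h3


/-- Let Y be an integral, regular (every local ring a regular local ring), one-dimensional scheme with
generic point η, X a Noetherian scheme and f : X → Y a morphism. Then f is flat if and only if every
associated point x of X — a point such that the maximal ideal of O_{X,x} is an associated prime of
O_{X,x} — satisfies f(x) = η. -/
theorem result {X Y : Scheme.{u}} (f : X ⟶ Y)
    [IsIntegral Y] (hreg : ∀ y : Y, IsRegularLocalRing (Y.presheaf.stalk y))
    (hY : topologicalKrullDim ↥Y = 1) [IsNoetherian X] :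
    Flat f ↔ ∀ x : X, Curv2.IsAssPoint (Coh.structureModule X) x → f.base x = genericPoint ↥Y := by
  constructor
  · intro hf x hx
    by_contra hne
    obtain ⟨U, hU, hyU, -⟩ := exists_isAffineOpen_mem_and_subset (X := Y) (x := f.base x)
      (U := ⊤) trivial
    obtain ⟨V, hV, hxV, hVU⟩ := exists_isAffineOpen_mem_and_subset (X := X) (x := x)
      (U := f ⁻¹ᵁ U) hyU
    have hVU' : V ≤ f ⁻¹ᵁ U := hVU
    obtain ⟨a, ha, hya⟩ : ∃ a : Γ(Y, U), a ≠ 0 ∧ f.base x ∉ Y.basicOpen a := by
      by_contra hcon
      push Not at hcon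
      exact hne (eq_genericPoint_of_forall_mem_basicOpen U hU _ hyU hcon)
    obtain ⟨s, hs⟩ := exists_section_ann_eq (Coh.structureModule X) hV
      (locAt_structureModule X hV) x hxV hx
    have hs0 : s ≠ 0 := by
      rintro rfl
      have h1 : (1 : Γ(X, V)) ∈ ann (Coh.structureModule X) (0 : Γ(Coh.structureModule X, V)) := by
        rw [mem_ann, smul_zero]
      rw [hs] at h1
      exact (hV.primeIdealOf ⟨x, hxV⟩).2.ne_top ((Ideal.eq_top_iff_one _).mpr h1)
    have hφa : (f.appLE U V hVU').hom a ∈ (hV.primeIdealOf ⟨x, hxV⟩).asIdeal := by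
      rw [mem_primeIdealOf_iff]
      intro hx'
      have h2 := Scheme.basicOpen_appLE f V U hVU' a
      rw [show X.basicOpen ((f.appLE U V hVU').hom a) = V ⊓ f ⁻¹ᵁ (Y.basicOpen a) from h2] at hx'
      exact hya hx'.2
    rw [← hs, mem_ann] at hφa
    have h3 : (f.appLE U V hVU').hom a * toSec X s = 0 := hφa
    exact hs0 (eq_zero_of_mul_eq_zero_of_flat f U a ha V hVU' (toSec X s) h3)
  · intro h
    have hY' := valuationRing_stalk hreg hY.le
    rw [HasRingHomProperty.iff_appLE (P := @Flat)]
    intro U V e
    by_cases hUne : Nonempty U.1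
    · refine ringHom_flat_of_regular (fun P _ => valuationRing_localization_of_stalk hY' U.2 P)
        (f.appLE U V e).hom (RingHom.id _) Function.injective_id ?_
      intro a ha c hc
      by_contra hc0
      rw [RingHom.id_apply] at hc
      have hann : (f.appLE U V e).hom a ∈ ann (Coh.structureModule X) (ofSec X c) := by
        rw [mem_ann, smul_ofSec, hc]
        rfl
      have hne : ann (Coh.structureModule X) (ofSec X c) ≠ ⊤ := by
        intro htop
        have h1 : (1 : Γ(X, V.1)) ∈ ann (Coh.structureModule X) (ofSec X c) := by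
          rw [htop]; trivial
        rw [mem_ann, one_smul] at h1
        exact hc0 h1
      obtain ⟨m, hm, hle⟩ := Ideal.exists_le_maximal _ hne
      haveI := hm.isPrime
      obtain ⟨y, hyV, hy1, hy2, -⟩ := exists_isAssPoint_le (Coh.structureModule X) V.2
        (locAt_structureModule X V.2) (ofSec X c) m hle
      have hfy := h y hy1
      have hmem := (mem_primeIdealOf_iff V.2 y hyV _).mp (hy2 hann)
      apply hmem
      have h2 := Scheme.basicOpen_appLE f V.1 U.1 e a
      rw [show X.basicOpen ((f.appLE U.1 V.1 e).hom a) = V.1 ⊓ f ⁻¹ᵁ (Y.basicOpen a) from h2]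
      refine ⟨hyV, ?_⟩
      change f.base y ∈ Y.basicOpen a
      rw [hfy]
      exact mem_basicOpen_of_generic _ (genericPoint_spec Y).def U.1
        (genericPoint_mem U.1 _ hUne.some.2) a ha
    · have hsub : Subsingleton Γ(Y, U.1) := by
        have : U.1 = ⊥ := by
          ext x
          simp only [Opens.coe_bot, Set.mem_empty_iff_false, iff_false]
          exact fun hx => hUne ⟨⟨x, hx⟩⟩
        rw [this]
        infer_instance
      letI := (f.appLE U V e).hom.toAlgebra
      change Module.Flat Γ(Y, U.1) Γ(X, V.1)
      haveI : Module.Free Γ(Y, U.1) Γ(X, V.1) := Module.Free.of_subsingleton' _ _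
      infer_instance

end Groth.Agent.S10935
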