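import Groth.Statements.S12422
import Mathlib
import Groth.Agent.Lib.Helper65.OmegaRegular
import Groth.Agent.Lib.Helper48.OmegaAff16
import Groth.Agent.Lib.Helper2.LocFreeAff
import Groth.Agent.Lib.Helper2.FreeModAff
import Groth.Agent.Lib.Helper72.DimLFT
import Groth.Agent.Lib.Helper73.DimFormula.SchemeLocal
-- import your own Groth.Agent.* helpers here

set_option autoImplicit false
universe u
open CategoryTheory CategoryTheory.Limits AlgebraicGeometry
open NonsingVar

namespace Groth.Agent.S12422
open AlgebraicGeometry CategoryTheory TensorProduct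
open Groth.Agent.Lib.Helper73 Groth.Agent.Lib.Helper72

section Dim

variable {k : Type u} [Field k] {X : Scheme.{u}} (f : X ⟶ Spec (CommRingCat.of k))
  [LocallyOfFiniteType f]

include f in
/-- For an irreducible scheme locally of finite type over a field, the local dimension is the
dimension. -/
theorem localDim_eq_topologicalKrullDim [IrreducibleSpace X] (x : X) :
    FlatMor.localDim X x = topologicalKrullDim X := by
  unfold FlatMor.localDim
  apply le_antisymm
  · refine (iInf_le _ ⟨⊤, trivial⟩).trans (le_of_eq ?_)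
    exact IsHomeomorph.topologicalKrullDim_eq _ (Homeomorph.Set.univ X).isHomeomorph
  · refine le_iInf fun U => ?_
    rw [topologicalKrullDim_eq_iSup_trdegNat f, topologicalKrullDim_open_eq_iSup_trdegNat f U.1.isOpen]
    refine iSup_le fun y => ?_
    have hξU : genericPoint X ∈ U.1 :=
      ((genericPoint_spec X).mem_open_set_iff U.1.isOpen).mpr ⟨x, trivial, U.2⟩
    have hle : trdegNat f y ≤ trdegNat f (genericPoint X) :=
      (isDimFun_trdegNat f).le_of_specializes ((genericPoint_spec X).specializes trivial)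
    refine le_trans ?_ (le_iSup (fun w : ↥(U.1 : Set X) => ((trdegNat f w.1 : ℕ∞) : WithBot ℕ∞))
      ⟨genericPoint X, hξU⟩)
    exact_mod_cast hle

set_option backward.isDefEq.respectTransparency.types false in
include f in
/-- Dimension of the local rings at maximal ideals of an affine chart. -/
theorem ringKrullDim_atPrime_maximal [IrreducibleSpace X] {U : X.Opens} (hU : IsAffineOpen U)
    (m : Ideal Γ(X, U)) [hm : m.IsMaximal] :
    ringKrullDim (Localization.AtPrime m) = topologicalKrullDim X := by
  let p : Spec Γ(X, U) := ⟨m, hm.isPrime⟩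
  have hx : hU.fromSpec p ∈ U := fromSpec_mem hU p
  let _ := chartAlgebra f hU
  have := chart_finiteType f hU
  have h0 : trdegNat f (hU.fromSpec p) = 0 := by
    rw [chart_trdegNat f hU p]
    exact quotDim_eq_zero_of_isMaximal k p hm
  have hcl : IsClosed ({hU.fromSpec p} : Set X) :=
    DimLFT.isClosed_singleton_of_trdegNat_eq_zero f h0
  have h1 := DimLFT.ringKrullDim_stalk_eq_localDim f hcl
  rw [localDim_eq_topologicalKrullDim f, ringKrullDim_stalk_eq_height hU _ hx,
    primeIdealOf_fromSpec hU p] at h1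
  rw [IsLocalization.AtPrime.ringKrullDim_eq_height m (Localization.AtPrime m)]
  exact h1

end Dim

section Reg

/-- Regularity of an affine chart in terms of stalks. -/
theorem isRegularRing_iff_stalk {X : Scheme.{u}} {U : X.Opens} (hU : IsAffineOpen U)
    [IsNoetherianRing Γ(X, U)] :
    IsRegularRing Γ(X, U) ↔ ∀ x : X, x ∈ U → IsRegularLocalRing (X.presheaf.stalk x) := by
  have key : ∀ (x : X) (hx : x ∈ U),
      IsRegularLocalRing (X.presheaf.stalk x) ↔
        IsRegularLocalRing (Localization.AtPrime (hU.primeIdealOf ⟨x, hx⟩).asIdeal) := by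
    intro x hx
    let _ : Algebra Γ(X, U) (X.presheaf.stalk x) := X.presheaf.algebra_section_stalk ⟨x, hx⟩
    have := hU.isLocalization_stalk ⟨x, hx⟩
    let e := IsLocalization.algEquiv (hU.primeIdealOf ⟨x, hx⟩).asIdeal.primeCompl
      (Localization.AtPrime (hU.primeIdealOf ⟨x, hx⟩).asIdeal) (X.presheaf.stalk x)
    constructor
    · intro h
      exact IsRegularLocalRing.of_ringEquiv e.symm.toRingEquiv
    · intro h
      exact IsRegularLocalRing.of_ringEquiv e.toRingEquiv
  rw [isRegularRing_iff]
  constructor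
  · intro h x hx
    exact (key x hx).mpr (h _)
  · intro h p hp
    let q : Spec Γ(X, U) := ⟨p, hp⟩
    have hx : hU.fromSpec q ∈ U := fromSpec_mem hU q
    have h1 := (key _ hx).mp (h _ hx)
    rw [primeIdealOf_fromSpec hU q] at h1
    exact h1

end Reg

section Transfer

/-- free of rank `n` sections force regularity (given the dimension of closed points) -/
def PFree (n : ℕ) (R : Type u) [CommRing R] (M : Type u) [AddCommGroup M] [Module R M] : Prop :=
  Nonempty (M ≃ₗ[R] (Fin n → R)) →
    (∀ (m : Ideal R) [m.IsMaximal], ringKrullDim (Localization.AtPrime m) = n) → IsRegularRing R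

/-- regularity forces projectivity of constant rank `n` -/
def PReg (n : ℕ) (R : Type u) [CommRing R] (M : Type u) [AddCommGroup M] [Module R M] : Prop :=
  IsRegularRing R →
    (∀ (m : Ideal R) [m.IsMaximal], ringKrullDim (Localization.AtPrime m) = n) →
      Module.Projective R M ∧ ∀ p : PrimeSpectrum R, Module.rankAtStalk M p = n

theorem pFree_of_equiv (n : ℕ) (R : Type u) [CommRing R] (M N : Type u) [AddCommGroup M]
    [Module R M] [AddCommGroup N] [Module R N] (e : M ≃ₗ[R] N) (h : PFree n R M) : PFree n R N :=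
  fun ⟨e'⟩ hdim => h ⟨e.trans e'⟩ hdim

theorem pReg_of_equiv (n : ℕ) (R : Type u) [CommRing R] (M N : Type u) [AddCommGroup M]
    [Module R M] [AddCommGroup N] [Module R N] (e : M ≃ₗ[R] N) (h : PReg n R M) : PReg n R N := by
  intro hreg hdim
  obtain ⟨h1, h2⟩ := h hreg hdim
  refine ⟨Module.Projective.of_equiv e, fun p => ?_⟩
  rw [← Module.rankAtStalk_eq_of_equiv e]
  exact h2 p

open Groth.Agent.Lib.Helper65 in
theorem kaehler_props (k : Type u) [Field k] [IsAlgClosed k] {A B : CommRingCat.{u}} (φ : A ⟶ B)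
    (e : A ≃+* k) (hφ : φ.hom.FiniteType) (n : ℕ) :
    PFree n B (CommRingCat.KaehlerDifferential φ) ∧ PReg n B (CommRingCat.KaehlerDifferential φ) := by
  letI : Field A := (e.toMulEquiv.isField (Field.toIsField k)).toField
  haveI : IsAlgClosed A := IsAlgClosed.of_ringEquiv k A e.symm
  letI : Algebra A B := φ.hom.toAlgebra
  haveI : Algebra.FiniteType A B := hφ
  change PFree n B (Ω[B⁄A]) ∧ PReg n B (Ω[B⁄A])
  constructor
  · rintro ⟨e'⟩ hdim
    exact OmegaRegular.isRegularRing_of_kaehler_free A B n hdim e'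
  · intro hreg hdim
    exact OmegaRegular.kaehler_projective_rank_of_isRegularRing A B n hdim hreg

end Transfer

open Groth.Agent.Lib.Helper48.OmegaAff Groth.Agent.Lib.Helper2.LocFreeAff
  Groth.Agent.Lib.Helper2.FreeModAff in

/-- Let k be an algebraically closed field, X an irreducible scheme which is separated and of finite
type over k, n = dim X, and (Ω, d) a sheaf of relative differentials of X over k, i.e. d : O_X → Ω a
universal k-derivation. Then Ω is locally free of rank n if and only if every local ring of X is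
regular (X is a nonsingular variety over k). -/
theorem result (k : Type u) [Field k] [IsAlgClosed k] (n : ℕ)
    (X : Scheme.{u}) [X.Over (Spec (CommRingCat.of k))] [IrreducibleSpace ↥X]
    [IsSeparated (X ↘ (Spec (CommRingCat.of k)))] [LocallyOfFiniteType (X ↘ (Spec (CommRingCat.of k)))]
    [QuasiCompact (X ↘ (Spec (CommRingCat.of k)))]
    (hn : topologicalKrullDim ↥X = (n : WithBot ℕ∞))
    (Ω : X.Modules) (d : OmegaSh.Der (X ↘ (Spec (CommRingCat.of k))) Ω) (hd : OmegaSh.IsUniversal d) :
    FlatMod.IsFinLocFreeOfRank n Ω ↔ ∀ x : ↥X, IsRegularLocalRing ↑(X.presheaf.stalk x) := by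
  have hqc : Ω.IsQuasicoherent := isQuasicoherent_of_universal (X ↘ (Spec (CommRingCat.of k))) d hd
  have hV : IsAffineOpen (⊤ : (Spec (CommRingCat.of k)).Opens) := isAffineOpen_top _
  have chart : ∀ {U : X.Opens} (hU : IsAffineOpen U), IsNoetherianRing Γ(X, U) ∧
      (∀ (m : Ideal Γ(X, U)) [m.IsMaximal], ringKrullDim (Localization.AtPrime m) = n) ∧
      PFree n Γ(X, U) Γ(Ω, U) ∧ PReg n Γ(X, U) Γ(Ω, U) ∧ Module.Finite Γ(X, U) Γ(Ω, U) := by
    intro U hU
    have : IsAffine ↑U := hU
    have hle : U ≤ (X ↘ (Spec (CommRingCat.of k))) ⁻¹ᵁ ⊤ := le_top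
    have h' := top_le_preimage (X ↘ (Spec (CommRingCat.of k))) hle
    have hφ := (U.ι ≫ (X ↘ (Spec (CommRingCat.of k)))).finiteType_appLE hV
      (isAffineOpen_top (↑U : Scheme.{u})) h'
    have hK := kaehler_props k ((U.ι ≫ (X ↘ (Spec (CommRingCat.of k)))).appLE ⊤ ⊤ h')
      (Scheme.ΓSpecIso (CommRingCat.of k)).commRingCatIsoToRingEquiv hφ n
    refine ⟨?_, ?_, ?_, ?_, ?_⟩
    · let _ := chartAlgebra (X ↘ (Spec (CommRingCat.of k))) hU
      have := chart_finiteType (X ↘ (Spec (CommRingCat.of k))) hU
      exact Algebra.FiniteType.isNoetherianRing k Γ(X, U)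
    · intro m hm
      rw [ringKrullDim_atPrime_maximal (X ↘ (Spec (CommRingCat.of k))) hU m, hn]
    · exact prop_sections_of_universal (X ↘ (Spec (CommRingCat.of k))) d hd (PFree n)
        (pFree_of_equiv n) hU hV h' hK.1
    · exact prop_sections_of_universal (X ↘ (Spec (CommRingCat.of k))) d hd (PReg n)
        (pReg_of_equiv n) hU hV h' hK.2
    · exact finite_sections_of_universal (X ↘ (Spec (CommRingCat.of k))) d hd hU hV hle
  constructor
  · intro hΩ x
    obtain ⟨W, hxW, hiso⟩ := hΩ x
    obtain ⟨U, hU, hxU, hUW⟩ := exists_isAffineOpen_mem_and_subset (x := x) (U := W) hxW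
    obtain ⟨hN, hdim, hfree, -, -⟩ := chart hU
    have h1 := nonempty_iso_freeMod_of_le Ω (show U ≤ W from hUW) n hiso
    have h2 := (nonempty_iso_freeMod_iff Ω hU n).1 h1
    have h3 : IsRegularRing Γ(X, U) := hfree h2 hdim
    exact (isRegularRing_iff_stalk hU).mp h3 x hxU
  · intro hreg
    apply isFinLocFreeOfRank_of_projective Ω n
    intro x
    obtain ⟨U, hU, hxU, -⟩ := exists_isAffineOpen_mem_and_subset (x := x) (U := ⊤) trivial
    obtain ⟨hN, hdim, -, hregP, hfin⟩ := chart hU
    have h3 : IsRegularRing Γ(X, U) := (isRegularRing_iff_stalk hU).mpr (fun y _ => hreg y)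
    obtain ⟨hproj, hrank⟩ := hregP h3 hdim
    exact ⟨U, hU, hxU, hfin, hproj, hrank _⟩


end Groth.Agent.S12422
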