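import Groth.Statements.S5019
import Mathlib
import Groth.Agent.Lib.Helper48.OmegaAff16
import Groth.Agent.Lib.Helper2.LocFreeAff
import Groth.Agent.Lib.Helper2.FreeModAff
import Groth.Agent.Lib.Helper22.SmoothDim
-- import your own Groth.Agent.* helpers here

set_option autoImplicit false
universe u
open CategoryTheory CategoryTheory.Limits AlgebraicGeometry TopologicalSpace
open Unram17

namespace Groth.Agent.S5019
open AlgebraicGeometry CategoryTheory TensorProduct
open Groth.Agent.Lib.Helper48.OmegaAff Groth.Agent.Lib.Helper2.LocFreeAff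
  Groth.Agent.Lib.Helper2.FreeModAff Groth.Agent.Lib.Helper22.SmoothDim

/-- Kähler differentials of a standard smooth algebra of relative dimension `n` are free of
rank `n`. -/
theorem nonempty_kaehler_equiv (R S : Type u) [CommRing R] [CommRing S] [Algebra R S] (n : ℕ)
    [Nontrivial S] [Algebra.IsStandardSmoothOfRelativeDimension n R S] :
    Nonempty (Ω[S⁄R] ≃ₗ[S] (Fin n → S)) := by
  have : Algebra.IsStandardSmooth R S :=
    Algebra.IsStandardSmoothOfRelativeDimension.isStandardSmooth n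
  have hr := Algebra.IsStandardSmoothOfRelativeDimension.rank_kaehlerDifferential (R := R) (S := S) n
  have hfin : Module.Finite S Ω[S⁄R] := Module.finite_of_rank_eq_nat hr
  have hfr : Module.finrank S Ω[S⁄R] = n := Module.finrank_eq_of_rank_eq hr
  exact ⟨(Module.finBasisOfFinrankEq S Ω[S⁄R] hfr).equivFun⟩

/-- General form: on an affine pair on which `f` is standard smooth of relative dimension `n`,
a universal receptacle is free of rank `n`. -/
theorem nonempty_iso_freeMod_of_isStandardSmooth {X Y : Scheme.{u}} (f : X ⟶ Y)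
    (Ω' : X.Modules) (d : OmegaSh.Der f Ω') (hd : OmegaSh.IsUniversal d)
    {U : X.Opens} (hU : IsAffineOpen U) {V : Y.Opens} (hV : IsAffineOpen V) (e : U ≤ f ⁻¹ᵁ V)
    (n : ℕ) (hn : (f.appLE V U e).hom.IsStandardSmoothOfRelativeDimension n) [Nonempty U] :
    Nonempty (Ω'.restrict U.ι ≅ FlatMod.freeMod (↑U) n) := by
  have hqc : Ω'.IsQuasicoherent := isQuasicoherent_of_universal f d hd
  rw [nonempty_iso_freeMod_iff Ω' hU n]
  have : IsAffine ↑U := hU
  have h' := top_le_preimage f e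
  refine prop_sections_of_universal f d hd (fun R _ M _ _ => Nonempty (M ≃ₗ[R] (Fin n → R)))
    (fun R _ M N _ _ _ _ e' ⟨g⟩ => ⟨e'.symm.trans g⟩) hU hV h' ?_
  have h3 : f.appLE V U e ≫ U.ι.appLE U ⊤ U.ι_preimage_self.ge =
      (U.ι ≫ f).appLE V ⊤ h' :=
    Scheme.Hom.appLE_comp_appLE _ _ _ _ _ _ _
  have h2 : ((U.ι ≫ f).appLE V ⊤ h').hom.IsStandardSmoothOfRelativeDimension n := by
    rw [← h3, CommRingCat.hom_comp]
    exact (RingHom.isStandardSmoothOfRelativeDimension_respectsIso.cancel_right_isIso _ _).mpr hn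
  let _ := ((U.ι ≫ f).appLE V ⊤ h').hom.toAlgebra
  have : Algebra.IsStandardSmoothOfRelativeDimension n Γ(Y, V) Γ(↑U, ⊤) := h2
  have : Nontrivial Γ(↑U, ⊤) := by
    obtain ⟨y⟩ := ‹Nonempty U›
    exact @Scheme.component_nontrivial (↑U : Scheme) ⊤ ⟨⟨y, trivial⟩⟩
  change Nonempty (Ω[Γ(↑U, ⊤)⁄Γ(Y, V)] ≃ₗ[Γ(↑U, ⊤)] (Fin n → Γ(↑U, ⊤)))
  exact nonempty_kaehler_equiv Γ(Y, V) Γ(↑U, ⊤) n


/-- Let f : X ⟶ Y be smooth and let (Ω', d) be a sheaf of differentials of X over Y (d a universal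
Y-derivation). Then for every point x of X there are an open neighbourhood U of x and an integer n
such that Ω' restricted to U is free of rank n and n is the local dimension at x of the fibre of f
through x. -/
theorem result {X Y : Scheme.{u}} (f : X ⟶ Y) [Smooth f]
    (Ω' : X.Modules) (d : OmegaSh.Der f Ω') (hd : OmegaSh.IsUniversal d) (x : ↥X) :
    ∃ (U : X.Opens) (n : ℕ), x ∈ U ∧ Nonempty (Ω'.restrict U.ι ≅ FlatMod.freeMod (↑U) n) ∧
      FlatMor.fibreDimAt f x = (n : WithBot ℕ∞) := by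
  obtain ⟨V, hV, U, hU, hx, e, hf⟩ := Smooth.exists_isStandardSmooth f x
  obtain ⟨n, hn⟩ : ∃ n, (f.appLE V U e).hom.IsStandardSmoothOfRelativeDimension n := by
    letI := (f.appLE V U e).hom.toAlgebra
    obtain ⟨ι, σ, h1, h2, ⟨P⟩⟩ := hf
    exact ⟨_, ι, σ, h1, h2, P, rfl⟩
  have : Nonempty U := ⟨⟨x, hx⟩⟩
  exact ⟨U, n, hx, nonempty_iso_freeMod_of_isStandardSmooth f Ω' d hd hU hV e n hn,
    fibreDimAt_eq_of_appLE_isStandardSmoothOfRelativeDimension f n V hV U hU e hn x hx⟩


end Groth.Agent.S5019
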