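import Groth.Statements.S10937
import Mathlib
import Groth.Agent.S5019
import Groth.Agent.S12422
import Groth.Agent.Lib.Helper36.FibreDimZero
-- import your own Groth.Agent.* helpers here

set_option autoImplicit false
universe u
open CategoryTheory CategoryTheory.Limits AlgebraicGeometry
open Variety

namespace Groth.Agent.S10937
open AlgebraicGeometry CategoryTheory TensorProduct KaehlerDifferential

section RingLevel

variable (R A B : Type u) [CommRing R] [CommRing A] [CommRing B] [Algebra R A] [Algebra R B]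
  [Algebra A B] [IsScalarTower R A B]

/-- If `Ω_{A/R}`, `Ω_{B/R}`, `Ω_{B/A}` are finite free with additive ranks, then
`B ⊗_A Ω_{A/R} → Ω_{B/R}` is injective. -/
theorem mapBaseChange_injective_of_free
    [Module.Free A Ω[A⁄R]] [Module.Finite A Ω[A⁄R]] [Module.Free B Ω[B⁄R]] [Module.Finite B Ω[B⁄R]]
    [Module.Free B Ω[B⁄A]] [Module.Finite B Ω[B⁄A]]
    (hrank : Module.finrank B Ω[B⁄R] = Module.finrank A Ω[A⁄R] + Module.finrank B Ω[B⁄A]) :
    Function.Injective (mapBaseChange R A B) := by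
  nontriviality B
  haveI : Nontrivial A := (algebraMap A B).domain_nontrivial
  obtain ⟨s, hs⟩ := Module.projective_lifting_property (KaehlerDifferential.map R A B B)
    (LinearMap.id : Ω[B⁄A] →ₗ[B] Ω[B⁄A]) (KaehlerDifferential.map_surjective R A B)
  let γ : (B ⊗[A] Ω[A⁄R]) × Ω[B⁄A] →ₗ[B] Ω[B⁄R] := (mapBaseChange R A B).coprod s
  have hγ : Function.Surjective γ := by
    intro ω
    have h1 : ω - s (KaehlerDifferential.map R A B B ω) ∈
        LinearMap.ker (KaehlerDifferential.map R A B B) := by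
      rw [LinearMap.mem_ker, map_sub]
      have : KaehlerDifferential.map R A B B (s (KaehlerDifferential.map R A B B ω)) =
          KaehlerDifferential.map R A B B ω := congr($hs (KaehlerDifferential.map R A B B ω))
      rw [this, sub_self]
    rw [← range_mapBaseChange] at h1
    obtain ⟨m, hm⟩ := h1
    refine ⟨(m, KaehlerDifferential.map R A B B ω), ?_⟩
    simp only [γ, LinearMap.coprod_apply, hm]
    abel
  have hfr : Module.finrank B ((B ⊗[A] Ω[A⁄R]) × Ω[B⁄A]) = Module.finrank B Ω[B⁄R] := by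
    rw [Module.finrank_prod, Module.finrank_baseChange, hrank]
  let e : Ω[B⁄R] ≃ₗ[B] (B ⊗[A] Ω[A⁄R]) × Ω[B⁄A] := LinearEquiv.ofFinrankEq _ _ hfr.symm
  have h2 : Function.Surjective (γ ∘ₗ e.toLinearMap) := hγ.comp e.surjective
  have h3 := OrzechProperty.injective_of_surjective_endomorphism _ h2
  have h4 : Function.Injective γ := by
    intro a b hab
    have := h3 (a₁ := e.symm a) (a₂ := e.symm b) (by simpa using hab)
    exact e.symm.injective this
  intro a b hab
  have := h4 (a₁ := (a, 0)) (a₂ := (b, 0)) (by simpa [γ] using hab)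
  exact congrArg Prod.fst this

/-- Formal smoothness from free differentials with additive ranks. -/
theorem formallySmooth_of_free [Algebra.FormallySmooth R B]
    [Module.Free A Ω[A⁄R]] [Module.Finite A Ω[A⁄R]] [Module.Free B Ω[B⁄R]] [Module.Finite B Ω[B⁄R]]
    [Module.Free B Ω[B⁄A]] [Module.Finite B Ω[B⁄A]]
    (hrank : Module.finrank B Ω[B⁄R] = Module.finrank A Ω[A⁄R] + Module.finrank B Ω[B⁄A]) :
    Algebra.FormallySmooth A B := by
  have hinj := mapBaseChange_injective_of_free R A B hrank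
  refine ⟨inferInstance, ?_⟩
  have h1 := Algebra.H1Cotangent.exact_map_δ R A B
  have h2 := Algebra.H1Cotangent.exact_δ_mapBaseChange R A B
  constructor
  intro a b
  have hδ : ∀ c : Algebra.H1Cotangent A B, Algebra.H1Cotangent.δ R A B c = 0 := by
    intro c
    apply hinj
    rw [map_zero]
    exact (h2 _).mpr ⟨c, rfl⟩
  have hz : ∀ c : Algebra.H1Cotangent A B, c = 0 := by
    intro c
    obtain ⟨y, hy⟩ := (h1 c).mp (hδ c)
    rw [← hy, Subsingleton.elim y 0, map_zero]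
  rw [hz a, hz b]

end RingLevel


open Groth.Agent.Lib.Helper48.OmegaAff Groth.Agent.Lib.Helper2.LocFreeAff
  Groth.Agent.Lib.Helper2.FreeModAff

/-- Fibre dimension of a smooth irreducible scheme over a field. -/
theorem fibreDimAt_eq_of_smooth_over_field {k : Type u} [Field k] {X : Scheme.{u}}
    (q : X ⟶ Spec (CommRingCat.of k)) [Smooth q] [IrreducibleSpace X] (d : ℕ)
    (hd : topologicalKrullDim X = d) (x : X) :
    FlatMor.fibreDimAt q x = (d : WithBot ℕ∞) := by
  have h1 := Groth.Agent.Lib.Helper22.SmoothDim.localDim_eq_add_fibreDimAt_of_smooth q x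
  have h2 : FlatMor.localDim X x = d := by
    rw [Groth.Agent.S12422.localDim_eq_topologicalKrullDim q x, hd]
  have h3 : FlatMor.localDim (Spec (CommRingCat.of k)) (q.base x) = 0 := by
    apply Groth.Agent.Lib.Helper36.FibreDimZero.localDim_eq_zero_of_isOpen_singleton
    have : ({q.base x} : Set (Spec (CommRingCat.of k))) = Set.univ := by
      ext y
      simp only [Set.mem_singleton_iff, Set.mem_univ, iff_true]
      exact Subsingleton.elim _ _
    rw [this]
    exact isOpen_univ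
  rw [h2, h3, zero_add] at h1
  exact h1.symm

/-- Sections of the sheaf of differentials over a small affine open, as Kähler differentials. -/
theorem kaehler_equiv_of_iso_freeMod {X Y : Scheme.{u}} (g : X ⟶ Y) [QuasiSeparated g]
    {U₀ U : X.Opens} (hU : IsAffineOpen U) (hle : U ≤ U₀) {V : Y.Opens} (hV : IsAffineOpen V)
    (e : U ≤ g ⁻¹ᵁ V) (m : ℕ)
    (H : Nonempty ((Omega.sheaf g).restrict U₀.ι ≅ FlatMod.freeMod ↑U₀ m)) :
    letI := (g.appLE V U e).hom.toAlgebra
    Nonempty (Ω[Γ(X, U)⁄Γ(Y, V)] ≃ₗ[Γ(X, U)] (Fin m → Γ(X, U))) := by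
  have H' := nonempty_iso_freeMod_of_le (Omega.sheaf g) hle m H
  rw [nonempty_iso_freeMod_iff (Omega.sheaf g) hU m] at H'
  obtain ⟨e1⟩ := H'
  haveI := isIso_toSect g hU hV e
  let e2 := (asIso (OmAff.toSect g V U e)).toLinearEquiv
  exact ⟨e2.trans e1⟩


/-- Rank of the differentials of a standard smooth localization of an algebra with free
differentials. -/
theorem relDim_eq_of_free (A B Bg : Type u) [CommRing A] [CommRing B] [CommRing Bg] [Algebra A B]
    [Algebra B Bg] [Algebra A Bg] [IsScalarTower A B Bg] [Algebra.FormallyEtale B Bg]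
    [Nontrivial Bg] (n n' : ℕ) (hfree : Nonempty (Ω[B⁄A] ≃ₗ[B] (Fin n → B)))
    [Algebra.IsStandardSmoothOfRelativeDimension n' A Bg] : n' = n := by
  haveI : Nontrivial B := (algebraMap B Bg).domain_nontrivial
  obtain ⟨e⟩ := hfree
  haveI : Module.Free B Ω[B⁄A] := Module.Free.of_equiv e.symm
  haveI : Module.Finite B Ω[B⁄A] := Module.Finite.equiv e.symm
  have h1 : Module.finrank B Ω[B⁄A] = n := by
    rw [e.finrank_eq, Module.finrank_pi, Fintype.card_fin]
  have h2 : Module.rank Bg Ω[Bg⁄A] = n' :=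
    Algebra.IsStandardSmoothOfRelativeDimension.rank_kaehlerDifferential (R := A) (S := Bg) n'
  have h3 : Module.finrank Bg Ω[Bg⁄A] = n' := Module.finrank_eq_of_rank_eq h2
  have h4 : Module.finrank Bg Ω[Bg⁄A] = Module.finrank Bg (Bg ⊗[B] Ω[B⁄A]) :=
    (tensorKaehlerEquivOfFormallyEtale A B Bg).finrank_eq.symm
  rw [Module.finrank_baseChange, h1] at h4
  omega


theorem exists_isStandardSmoothOfRelativeDimension_of_free {X Y : Scheme.{u}} (f : X ⟶ Y)
    {U : X.Opens} (hU : IsAffineOpen U) {V : Y.Opens} (e : U ≤ f ⁻¹ᵁ V) (n : ℕ) (x : X)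
    (hx : x ∈ U) (hsm : (f.appLE V U e).hom.Smooth)
    (hfree : letI := (f.appLE V U e).hom.toAlgebra
      Nonempty (Ω[Γ(X, U)⁄Γ(Y, V)] ≃ₗ[Γ(X, U)] (Fin n → Γ(X, U)))) :
    ∃ (U' : X.Opens) (_ : IsAffineOpen U') (_ : x ∈ U') (e' : U' ≤ f ⁻¹ᵁ V),
      (f.appLE V U' e').hom.IsStandardSmoothOfRelativeDimension n := by
  letI := (f.appLE V U e).hom.toAlgebra
  haveI : Algebra.Smooth Γ(Y, V) Γ(X, U) := hsm
  obtain ⟨s, hs, hstd⟩ := Algebra.Smooth.exists_span_eq_top_isStandardSmooth Γ(Y, V) Γ(X, U)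
  have hcov : ⨆ g : s, X.basicOpen (g : Γ(X, U)) = U := hU.iSup_basicOpen_eq_self_iff.mpr hs
  have hxs : x ∈ ⨆ g : s, X.basicOpen (g : Γ(X, U)) := by rw [hcov]; exact hx
  obtain ⟨g, hxg⟩ := TopologicalSpace.Opens.mem_iSup.mp hxs
  have hstdg : Algebra.IsStandardSmooth Γ(Y, V) (Localization.Away g.1) := hstd g.1 g.2
  have hle : X.basicOpen g.1 ≤ U := X.basicOpen_le g.1
  have e' : X.basicOpen g.1 ≤ f ⁻¹ᵁ V := hle.trans e
  refine ⟨X.basicOpen g.1, hU.basicOpen g.1, hxg, e', ?_⟩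
  haveI hloc : IsLocalization.Away g.1 Γ(X, X.basicOpen g.1) := hU.isLocalization_basicOpen g.1
  let ε : Localization.Away g.1 ≃ₐ[Γ(X, U)] Γ(X, X.basicOpen g.1) :=
    IsLocalization.algEquiv (Submonoid.powers g.1) _ _
  haveI : Nontrivial Γ(X, X.basicOpen g.1) :=
    @Scheme.component_nontrivial X (X.basicOpen g.1) ⟨⟨x, hxg⟩⟩
  haveI : Nontrivial (Localization.Away g.1) := ε.toRingEquiv.toRingHom.domain_nontrivial
  obtain ⟨n', hn'⟩ : ∃ n', Algebra.IsStandardSmoothOfRelativeDimension n' Γ(Y, V)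
      (Localization.Away g.1) := by
    obtain ⟨ι, σ, h1, h2, ⟨P⟩⟩ := hstdg.out
    exact ⟨_, ι, σ, h1, h2, P, rfl⟩
  have hnn : n' = n := relDim_eq_of_free Γ(Y, V) Γ(X, U) (Localization.Away g.1) n n' hfree
  subst hnn
  have h1 : (algebraMap Γ(Y, V) (Localization.Away g.1)).IsStandardSmoothOfRelativeDimension n' := by
    rw [RingHom.isStandardSmoothOfRelativeDimension_algebraMap]
    exact hn'
  have h2 := RingHom.isStandardSmoothOfRelativeDimension_respectsIso.1
    (algebraMap Γ(Y, V) (Localization.Away g.1)) ε.toRingEquiv h1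
  convert h2 using 1
  ext a
  change (f.appLE V (X.basicOpen g.1) e').hom a = ε (algebraMap Γ(Y, V) (Localization.Away g.1) a)
  rw [IsScalarTower.algebraMap_apply Γ(Y, V) Γ(X, U) (Localization.Away g.1), ε.commutes]
  change _ = (X.presheaf.map (homOfLE hle).op).hom ((f.appLE V U e).hom a)
  rw [← Scheme.Hom.appLE_map f e (homOfLE hle).op]
  rfl



/-- (a)⇔(b): let k be an algebraically closed field, X and Y nonsingular varieties over k (integral,
separated, of finite type and smooth over k) with dim Y = dY and dim X = dY + n, and f : X → Y a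
k-morphism. Then f is smooth of relative dimension n if and only if Ω_{X/Y} (the conormal sheaf of
the diagonal of f) is locally free of rank n. -/
theorem result (k : Type u) [Field k] [IsAlgClosed k]
    {X Y : Scheme.{u}} (qX : X ⟶ Spec (CommRingCat.of k)) (qY : Y ⟶ Spec (CommRingCat.of k))
    [IsIntegral X] [IsSeparated qX] [LocallyOfFiniteType qX] [QuasiCompact qX] [Smooth qX]
    [IsIntegral Y] [IsSeparated qY] [LocallyOfFiniteType qY] [QuasiCompact qY] [Smooth qY]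
    (f : X ⟶ Y) (hf : f ≫ qY = qX) (n dY : ℕ) (hY : topologicalKrullDim ↥Y = dY)
    (hX : topologicalKrullDim ↥X = ((dY + n : ℕ) : WithBot ℕ∞)) :
    SmoothOfRelativeDimension n f ↔ FlatMod.IsFinLocFreeOfRank n (Omega.sheaf f) := by
  subst hf
  haveI : IsSeparated f := IsSeparated.of_comp f qY
  constructor
  · intro h x
    obtain ⟨V, hV, U, hU, hx, e, hn⟩ :=
      SmoothOfRelativeDimension.exists_isStandardSmoothOfRelativeDimension (n := n) (f := f) x
    haveI : Nonempty U := ⟨⟨x, hx⟩⟩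
    exact ⟨U, hx, Groth.Agent.S5019.nonempty_iso_freeMod_of_isStandardSmooth f _
      (OmegaSh.dOmega f) (isUniversal_dOmega f) hU hV e n hn⟩
  · intro h
    refine ⟨fun x => ?_⟩
    obtain ⟨U₂, hxU₂, H₂⟩ := h x
    obtain ⟨U₁, m₁, hxU₁, H₁, hm₁⟩ := Groth.Agent.S5019.result (f ≫ qY) (Omega.sheaf (f ≫ qY))
      (OmegaSh.dOmega (f ≫ qY)) (isUniversal_dOmega (f ≫ qY)) x
    obtain ⟨V₁, m₀, hyV₁, H₀, hm₀⟩ := Groth.Agent.S5019.result qY (Omega.sheaf qY)
      (OmegaSh.dOmega qY) (isUniversal_dOmega qY) (f.base x)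
    have e1 : m₁ = dY + n := by
      have h0 := fibreDimAt_eq_of_smooth_over_field (f ≫ qY) (dY + n) hX x
      rw [hm₁] at h0
      exact_mod_cast h0
    have e0 : m₀ = dY := by
      have h0 := fibreDimAt_eq_of_smooth_over_field qY dY hY (f.base x)
      rw [hm₀] at h0
      exact_mod_cast h0
    subst e1 e0
    obtain ⟨V, hV, hyV, hVV₁⟩ :=
      exists_isAffineOpen_mem_and_subset (x := f.base x) (U := V₁) hyV₁
    obtain ⟨U, hU, hxU, hUle⟩ := exists_isAffineOpen_mem_and_subset (x := x)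
      (U := U₁ ⊓ U₂ ⊓ f ⁻¹ᵁ V) ⟨⟨hxU₁, hxU₂⟩, hyV⟩
    have hUV : U ≤ f ⁻¹ᵁ V := hUle.trans inf_le_right
    have hUU₁ : U ≤ U₁ := hUle.trans (inf_le_left.trans inf_le_left)
    have hUU₂ : U ≤ U₂ := hUle.trans (inf_le_left.trans inf_le_right)
    have hVt : V ≤ qY ⁻¹ᵁ ⊤ := fun _ _ => trivial
    have hUt : U ≤ (f ≫ qY) ⁻¹ᵁ ⊤ := fun _ _ => trivial
    have hTop : IsAffineOpen (⊤ : (Spec (CommRingCat.of k)).Opens) := isAffineOpen_top _
    have K0 := kaehler_equiv_of_iso_freeMod qY hV hVV₁ hTop hVt m₀ H₀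
    have K1 := kaehler_equiv_of_iso_freeMod (f ≫ qY) hU hUU₁ hTop hUt (m₀ + n) H₁
    have K2 := kaehler_equiv_of_iso_freeMod f hU hUU₂ hV hUV n H₂
    letI algRA : Algebra Γ(Spec (CommRingCat.of k), ⊤) Γ(Y, V) := (qY.appLE ⊤ V hVt).hom.toAlgebra
    letI algRB : Algebra Γ(Spec (CommRingCat.of k), ⊤) Γ(X, U) :=
      ((f ≫ qY).appLE ⊤ U hUt).hom.toAlgebra
    letI algAB : Algebra Γ(Y, V) Γ(X, U) := (f.appLE V U hUV).hom.toAlgebra
    haveI : IsScalarTower Γ(Spec (CommRingCat.of k), ⊤) Γ(Y, V) Γ(X, U) :=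
      IsScalarTower.of_algebraMap_eq fun r => by
        change ((f ≫ qY).appLE ⊤ U hUt).hom r = (f.appLE V U hUV).hom ((qY.appLE ⊤ V hVt).hom r)
        rw [← Scheme.Hom.appLE_comp_appLE f qY ⊤ V U hVt hUV]
        rfl
    haveI : Nontrivial Γ(Y, V) := @Scheme.component_nontrivial Y V ⟨⟨f.base x, hyV⟩⟩
    haveI : Nontrivial Γ(X, U) := @Scheme.component_nontrivial X U ⟨⟨x, hxU⟩⟩
    obtain ⟨k0⟩ := K0
    obtain ⟨k1⟩ := K1
    obtain ⟨k2⟩ := K2
    haveI : Module.Free Γ(Y, V) Ω[Γ(Y, V)⁄Γ(Spec (CommRingCat.of k), ⊤)] :=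
      Module.Free.of_equiv k0.symm
    haveI : Module.Finite Γ(Y, V) Ω[Γ(Y, V)⁄Γ(Spec (CommRingCat.of k), ⊤)] :=
      Module.Finite.equiv k0.symm
    haveI : Module.Free Γ(X, U) Ω[Γ(X, U)⁄Γ(Spec (CommRingCat.of k), ⊤)] :=
      Module.Free.of_equiv k1.symm
    haveI : Module.Finite Γ(X, U) Ω[Γ(X, U)⁄Γ(Spec (CommRingCat.of k), ⊤)] :=
      Module.Finite.equiv k1.symm
    haveI : Module.Free Γ(X, U) Ω[Γ(X, U)⁄Γ(Y, V)] := Module.Free.of_equiv k2.symm
    haveI : Module.Finite Γ(X, U) Ω[Γ(X, U)⁄Γ(Y, V)] := Module.Finite.equiv k2.symm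
    have r0 : Module.finrank Γ(Y, V) Ω[Γ(Y, V)⁄Γ(Spec (CommRingCat.of k), ⊤)] = m₀ := by
      rw [k0.finrank_eq, Module.finrank_pi, Fintype.card_fin]
    have r1 : Module.finrank Γ(X, U) Ω[Γ(X, U)⁄Γ(Spec (CommRingCat.of k), ⊤)] = m₀ + n := by
      rw [k1.finrank_eq, Module.finrank_pi, Fintype.card_fin]
    have r2 : Module.finrank Γ(X, U) Ω[Γ(X, U)⁄Γ(Y, V)] = n := by
      rw [k2.finrank_eq, Module.finrank_pi, Fintype.card_fin]
    haveI hsmRB : Algebra.Smooth Γ(Spec (CommRingCat.of k), ⊤) Γ(X, U) :=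
      HasRingHomProperty.appLE (P := @Smooth) (f ≫ qY) inferInstance ⟨⊤, hTop⟩ ⟨U, hU⟩ hUt
    have hfs : Algebra.FormallySmooth Γ(Y, V) Γ(X, U) :=
      formallySmooth_of_free Γ(Spec (CommRingCat.of k), ⊤) Γ(Y, V) Γ(X, U) (by rw [r0, r1, r2])
    haveI : Algebra.FiniteType Γ(Spec (CommRingCat.of k), ⊤) Γ(Y, V) :=
      HasRingHomProperty.appLE (P := @LocallyOfFiniteType) qY inferInstance ⟨⊤, hTop⟩ ⟨V, hV⟩ hVt
    haveI : Algebra.FinitePresentation Γ(Y, V) Γ(X, U) :=
      Algebra.FinitePresentation.of_restrict_scalars_finitePresentation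
        Γ(Spec (CommRingCat.of k), ⊤) _ _
    have hsm : (f.appLE V U hUV).hom.Smooth := ⟨hfs, inferInstance⟩
    obtain ⟨U', hU', hx', e', hstd⟩ :=
      exists_isStandardSmoothOfRelativeDimension_of_free f hU hUV n x hxU hsm ⟨k2⟩
    exact ⟨V, hV, U', hU', hx', e', hstd⟩


end Groth.Agent.S10937
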