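import Groth.Statements.S5021
import Mathlib
import Groth.Agent.S10937
import Groth.Agent.Lib.Helper48.Conormal13
import Groth.Agent.Lib.Helper2.LocFreeAff
-- import your own Groth.Agent.* helpers here

set_option autoImplicit false
universe u
open CategoryTheory CategoryTheory.Limits AlgebraicGeometry TopologicalSpace
open Unram17

namespace Groth.Agent.S5021
open AlgebraicGeometry CategoryTheory TensorProduct KaehlerDifferential
open Groth.Agent.Lib.Helper22.SmoothDim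

section RingLevel

theorem nonempty_equiv_prod {A B C N : Type u} [CommRing A] [CommRing B] [CommRing C]
    [Algebra A B] [Algebra B C] [Algebra A C] [IsScalarTower A B C] [Algebra.FormallySmooth A C]
    (hs : Function.Surjective (algebraMap B C)) [AddCommGroup N] [Module B N] [Module C N]
    [IsScalarTower B C N] (ι : (RingHom.ker (algebraMap B C)).Cotangent ≃ₗ[B] N) :
    Nonempty ((C ⊗[B] Ω[B⁄A]) ≃ₗ[C] (N × Ω[C⁄A])) := by
  obtain ⟨l, hl⟩ := Groth.Agent.Lib.Helper48.Conormal.exists_retraction_of_formallySmooth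
    (R := A) (P := B) (S := C) hs
  have hl' : ∀ y, l (kerCotangentToTensor A B C y) = y := fun y => LinearMap.congr_fun hl y
  let Φ : C ⊗[B] Ω[B⁄A] →ₗ[B] N × Ω[C⁄A] :=
    (ι.toLinearMap ∘ₗ l).prod ((mapBaseChange A B C).restrictScalars B)
  have hexact := KaehlerDifferential.exact_kerCotangentToTensor_mapBaseChange A B C hs
  have hsurj := KaehlerDifferential.mapBaseChange_surjective A B C hs
  have hΦ : Function.Bijective Φ := by
    constructor
    · rw [← LinearMap.ker_eq_bot, LinearMap.ker_eq_bot']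
      intro ω hω
      have h1 : ι (l ω) = 0 := congrArg Prod.fst hω
      have h2 : mapBaseChange A B C ω = 0 := congrArg Prod.snd hω
      obtain ⟨y, rfl⟩ := (hexact ω).mp h2
      rw [hl'] at h1
      have : y = 0 := by simpa using h1
      rw [this, map_zero]
    · rintro ⟨n, η⟩
      obtain ⟨ω₀, rfl⟩ := hsurj η
      refine ⟨ω₀ - kerCotangentToTensor A B C (l ω₀) + kerCotangentToTensor A B C (ι.symm n), ?_⟩
      have h0 : ∀ y, mapBaseChange A B C (kerCotangentToTensor A B C y) = 0 := fun y =>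
        (hexact _).mpr ⟨y, rfl⟩
      apply Prod.ext
      · change ι (l (ω₀ - kerCotangentToTensor A B C (l ω₀) +
          kerCotangentToTensor A B C (ι.symm n))) = n
        rw [map_add, map_sub, hl', hl', sub_self, zero_add, LinearEquiv.apply_symm_apply]
      · change mapBaseChange A B C (ω₀ - kerCotangentToTensor A B C (l ω₀) +
          kerCotangentToTensor A B C (ι.symm n)) = _
        rw [map_add, map_sub, h0, h0, sub_zero, add_zero]
  exact ⟨(LinearEquiv.ofBijective Φ hΦ).extendScalarsOfSurjective hs⟩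

end RingLevel

theorem id_appLE_eq {X : Scheme.{u}} {U U' : X.Opens} (h : U' ≤ U) :
    (𝟙 X : X ⟶ X).appLE U U' h = X.presheaf.map (homOfLE h).op := by
  simp only [Scheme.Hom.appLE, Scheme.Hom.id_app]
  exact Category.id_comp _

theorem fibreDimAt_eq_rankAtStalk {X Y : Scheme.{u}} (f : X ⟶ Y)
    {U : X.Opens} (hU : IsAffineOpen U) {V : Y.Opens} (hV : IsAffineOpen V) (e : U ≤ f ⁻¹ᵁ V)
    (x : X) (hx : x ∈ U) (hsm : (f.appLE V U e).hom.Smooth) :
    letI := (f.appLE V U e).hom.toAlgebra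
    FlatMor.fibreDimAt f x =
      ((Module.rankAtStalk (R := Γ(X, U)) Ω[Γ(X, U)⁄Γ(Y, V)] (hU.primeIdealOf ⟨x, hx⟩) : ℕ) :
        WithBot ℕ∞) := by
  letI := (f.appLE V U e).hom.toAlgebra
  haveI : Algebra.Smooth Γ(Y, V) Γ(X, U) := hsm
  obtain ⟨s, hs, hstd⟩ := Algebra.Smooth.exists_span_eq_top_isStandardSmooth Γ(Y, V) Γ(X, U)
  have hcov : ⨆ g : s, X.basicOpen (g : Γ(X, U)) = U := hU.iSup_basicOpen_eq_self_iff.mpr hs
  have hxs : x ∈ ⨆ g : s, X.basicOpen (g : Γ(X, U)) := by rw [hcov]; exact hx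
  obtain ⟨g, hxg⟩ := TopologicalSpace.Opens.mem_iSup.mp hxs
  have hstdg : Algebra.IsStandardSmooth Γ(Y, V) (Localization.Away g.1) := hstd g.1 g.2
  have hle : X.basicOpen g.1 ≤ U := X.basicOpen_le g.1
  have e' : X.basicOpen g.1 ≤ f ⁻¹ᵁ V := hle.trans e
  have hU' : IsAffineOpen (X.basicOpen g.1) := hU.basicOpen g.1
  letI aBB' : Algebra Γ(X, U) Γ(X, X.basicOpen g.1) := (X.presheaf.map (homOfLE hle).op).hom.toAlgebra
  haveI hloc : IsLocalization.Away g.1 Γ(X, X.basicOpen g.1) := hU.isLocalization_basicOpen g.1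
  let ε : Localization.Away g.1 ≃ₐ[Γ(X, U)] Γ(X, X.basicOpen g.1) :=
    IsLocalization.algEquiv (Submonoid.powers g.1) _ _
  haveI : Nontrivial Γ(X, X.basicOpen g.1) :=
    @Scheme.component_nontrivial X (X.basicOpen g.1) ⟨⟨x, hxg⟩⟩
  haveI : Nontrivial (Localization.Away g.1) := ε.toRingEquiv.toRingHom.domain_nontrivial
  obtain ⟨n', hn'⟩ : ∃ n', Algebra.IsStandardSmoothOfRelativeDimension n' Γ(Y, V)
      (Localization.Away g.1) := by
    obtain ⟨ι, σ, h1, h2, ⟨P⟩⟩ := hstdg.out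
    exact ⟨_, ι, σ, h1, h2, P, rfl⟩
  have h1 : (algebraMap Γ(Y, V) (Localization.Away g.1)).IsStandardSmoothOfRelativeDimension n' := by
    rw [RingHom.isStandardSmoothOfRelativeDimension_algebraMap]
    exact hn'
  have h2 := RingHom.isStandardSmoothOfRelativeDimension_respectsIso.1
    (algebraMap Γ(Y, V) (Localization.Away g.1)) ε.toRingEquiv h1
  have h3 : (f.appLE V (X.basicOpen g.1) e').hom.IsStandardSmoothOfRelativeDimension n' := by
    convert h2 using 1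
    ext a
    change (f.appLE V (X.basicOpen g.1) e').hom a = ε (algebraMap Γ(Y, V) (Localization.Away g.1) a)
    rw [IsScalarTower.algebraMap_apply Γ(Y, V) Γ(X, U) (Localization.Away g.1), ε.commutes]
    change _ = (X.presheaf.map (homOfLE hle).op).hom ((f.appLE V U e).hom a)
    rw [← Scheme.Hom.appLE_map f e (homOfLE hle).op]
    rfl
  rw [fibreDimAt_eq_of_appLE_isStandardSmoothOfRelativeDimension f n' V hV _ hU' e' h3 x hxg]
  congr 1
  letI aAB' : Algebra Γ(Y, V) Γ(X, X.basicOpen g.1) := (f.appLE V (X.basicOpen g.1) e').hom.toAlgebra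
  haveI : IsScalarTower Γ(Y, V) Γ(X, U) Γ(X, X.basicOpen g.1) := IsScalarTower.of_algebraMap_eq' (by
    change (f.appLE V (X.basicOpen g.1) e').hom =
      (X.presheaf.map (homOfLE hle).op).hom.comp (f.appLE V U e).hom
    rw [← Scheme.Hom.appLE_map f e (homOfLE hle).op]
    rfl)
  haveI : Algebra.IsStandardSmoothOfRelativeDimension n' Γ(Y, V) Γ(X, X.basicOpen g.1) := h3
  haveI : Algebra.FormallyEtale Γ(X, U) Γ(X, X.basicOpen g.1) :=
    Algebra.FormallyEtale.of_isLocalization (Submonoid.powers g.1)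
  set q' := hU'.primeIdealOf ⟨x, hxg⟩ with hq'
  have hq : q'.comap (algebraMap Γ(X, U) Γ(X, X.basicOpen g.1)) = hU.primeIdealOf ⟨x, hx⟩ := by
    have := IsAffineOpen.comap_primeIdealOf_appLE (f := 𝟙 X) (x := x) U hU (X.basicOpen g.1) hU' hle hxg
    rw [id_appLE_eq] at this
    exact this
  rw [← hq, ← Module.rankAtStalk_baseChange,
    Module.rankAtStalk_eq_of_equiv (tensorKaehlerEquivOfFormallyEtale Γ(Y, V) Γ(X, U)
      Γ(X, X.basicOpen g.1))]
  have hr := Algebra.IsStandardSmoothOfRelativeDimension.rank_kaehlerDifferential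
    (R := Γ(Y, V)) (S := Γ(X, X.basicOpen g.1)) n'
  have hfr : Module.finrank Γ(X, X.basicOpen g.1) Ω[Γ(X, X.basicOpen g.1)⁄Γ(Y, V)] = n' :=
    Module.finrank_eq_of_rank_eq hr
  haveI : Algebra.IsStandardSmooth Γ(Y, V) Γ(X, X.basicOpen g.1) :=
    Algebra.IsStandardSmoothOfRelativeDimension.isStandardSmooth n'
  rw [Module.rankAtStalk_eq_finrank_of_free, Pi.natCast_def] 
  exact hfr.symm


open Groth.Agent.Lib.Helper48.Conormal Groth.Agent.Lib.Helper48.OmegaAff in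

/-- Let f : X ⟶ Y be smooth and j : X' ⟶ X a quasi-compact immersion such that j ≫ f is smooth. Then for
every point x of X' there are an open neighbourhood U of x and an integer n with the conormal sheaf
of j free of rank n on U, and the local dimension at j(x) of the fibre of f through j(x) equals the
local dimension at x of the fibre of j ≫ f through x plus n. (The published statement allows any
immersion j; this row assumes j quasi-compact, the case in which the conormal sheaf used here is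
known to be the conormal sheaf of j.) -/
theorem result {X' X Y : Scheme.{u}} (f : X ⟶ Y) [Smooth f]
    (j : X' ⟶ X) [IsImmersion j] [QuasiCompact j] [Smooth (j ≫ f)] (x : ↥X') :
    ∃ (U : X'.Opens) (n : ℕ), x ∈ U ∧ Nonempty ((Omega.conormal j).restrict U.ι ≅ FlatMod.freeMod (↑U) n) ∧
      FlatMor.fibreDimAt f (j.base x) = FlatMor.fibreDimAt (j ≫ f) x + (n : WithBot ℕ∞) := by
  classical
  obtain ⟨V₀, hxV₀, hV₀⟩ := exists_over_affine f (j x)
  obtain ⟨V, hV, hxV, hVV₀, -⟩ := exists_goodFor j x ⊤ trivial V₀ hxV₀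
  obtain ⟨W, hW, hVW⟩ := hV₀ V hVV₀
  have hVW' : j ⁻¹ᵁ V ≤ (j ≫ f) ⁻¹ᵁ W := le_preimage_comp f j hVW
  have hxU : x ∈ j ⁻¹ᵁ V := hxV
  letI aBC : Algebra Γ(X, V) Γ(X', j ⁻¹ᵁ V) := (j.app V).hom.toAlgebra
  letI aAB : Algebra Γ(Y, W) Γ(X, V) := (f.appLE W V hVW).hom.toAlgebra
  letI aAC : Algebra Γ(Y, W) Γ(X', j ⁻¹ᵁ V) := ((j ≫ f).appLE W (j ⁻¹ᵁ V) hVW').hom.toAlgebra
  haveI : IsScalarTower Γ(Y, W) Γ(X, V) Γ(X', j ⁻¹ᵁ V) := IsScalarTower.of_algebraMap_eq' (by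
    change ((j ≫ f).appLE W (j ⁻¹ᵁ V) hVW').hom = (j.app V).hom.comp (f.appLE W V hVW).hom
    rw [← Scheme.Hom.appLE_comp_appLE j f W V (j ⁻¹ᵁ V) hVW le_rfl, Scheme.Hom.appLE_eq_app]
    rfl)
  have hsmB : (f.appLE W V hVW).hom.Smooth :=
    HasRingHomProperty.appLE (P := @Smooth) f inferInstance ⟨W, hW⟩ ⟨V, hV.1⟩ hVW
  have hsmC : ((j ≫ f).appLE W (j ⁻¹ᵁ V) hVW').hom.Smooth :=
    HasRingHomProperty.appLE (P := @Smooth) (j ≫ f) inferInstance ⟨W, hW⟩ ⟨j ⁻¹ᵁ V, hV.2.1⟩ hVW'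
  haveI : Algebra.Smooth Γ(Y, W) Γ(X, V) := hsmB
  haveI : Algebra.Smooth Γ(Y, W) Γ(X', j ⁻¹ᵁ V) := hsmC
  have hs : Function.Surjective (algebraMap Γ(X, V) Γ(X', j ⁻¹ᵁ V)) := hV.2.2
  letI mBN : Module Γ(X, V) Γ(Omega.conormal j, j ⁻¹ᵁ V) := Module.compHom _ (j.app V).hom
  haveI : IsScalarTower Γ(X, V) Γ(X', j ⁻¹ᵁ V) Γ(Omega.conormal j, j ⁻¹ᵁ V) :=
    ⟨fun b c n => by
      change ((j.app V).hom b * c) • n = (j.app V).hom b • (c • n)
      rw [mul_smul]⟩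
  let ι₀ : (RingHom.ker (algebraMap Γ(X, V) Γ(X', j ⁻¹ᵁ V))).Cotangent →ₗ[Γ(X, V)]
      Γ(Omega.conormal j, j ⁻¹ᵁ V) :=
    { toFun := cotangentToConormal j V
      map_add' := map_add _
      map_smul' := fun b m => (cotangentToConormal j V).map_smulₛₗ b m }
  have hι₀ : Function.Bijective ι₀ := by
    constructor
    · rw [← LinearMap.ker_eq_bot, LinearMap.ker_eq_bot']
      intro z hz
      obtain ⟨y, rfl⟩ := Ideal.toCotangent_surjective _ z
      have h1 : OmegaSh.conormalSect j V (sectOf j V y) = 0 := hz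
      have h2 := idealSect_mem_sq_of_conormalSect_eq_zero j hV _ h1
      rw [idealSect_sectOf] at h2
      exact (Ideal.toCotangent_eq_zero _ _).mpr h2
    · intro y
      obtain ⟨s, rfl⟩ := conormalSect_surjective j hV y
      exact ⟨_, cotangentToConormal_idealSect j V s⟩
  let ι := LinearEquiv.ofBijective ι₀ hι₀
  obtain ⟨Ψ⟩ := nonempty_equiv_prod (A := Γ(Y, W)) hs ι
  haveI hPfin : Module.Finite Γ(X', j ⁻¹ᵁ V)
      (Γ(Omega.conormal j, j ⁻¹ᵁ V) × Ω[Γ(X', j ⁻¹ᵁ V)⁄Γ(Y, W)]) := Module.Finite.equiv Ψ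
  haveI hPproj : Module.Projective Γ(X', j ⁻¹ᵁ V)
      (Γ(Omega.conormal j, j ⁻¹ᵁ V) × Ω[Γ(X', j ⁻¹ᵁ V)⁄Γ(Y, W)]) := Module.Projective.of_equiv Ψ
  haveI : Module.Finite Γ(X', j ⁻¹ᵁ V) Γ(Omega.conormal j, j ⁻¹ᵁ V) :=
    Module.Finite.of_surjective (LinearMap.fst Γ(X', j ⁻¹ᵁ V) Γ(Omega.conormal j, j ⁻¹ᵁ V)
      Ω[Γ(X', j ⁻¹ᵁ V)⁄Γ(Y, W)]) LinearMap.fst_surjective
  haveI : Module.Projective Γ(X', j ⁻¹ᵁ V) Γ(Omega.conormal j, j ⁻¹ᵁ V) :=
    Module.Projective.of_split (LinearMap.inl Γ(X', j ⁻¹ᵁ V) Γ(Omega.conormal j, j ⁻¹ᵁ V)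
      Ω[Γ(X', j ⁻¹ᵁ V)⁄Γ(Y, W)]) (LinearMap.fst _ _ _) (by ext; simp)
  haveI : Module.FinitePresentation Γ(X', j ⁻¹ᵁ V) Γ(Omega.conormal j, j ⁻¹ᵁ V) :=
    Module.finitePresentation_of_projective _ _
  have hfree : Module.Free (Localization.AtPrime (hV.2.1.primeIdealOf ⟨x, hxU⟩).asIdeal)
      (LocalizedModule (hV.2.1.primeIdealOf ⟨x, hxU⟩).asIdeal.primeCompl
        Γ(Omega.conormal j, j ⁻¹ᵁ V)) :=
    Module.free_of_flat_of_isLocalRing
  obtain ⟨r, hxr, hiso⟩ := Groth.Agent.Lib.Helper2.LocFreeAff.exists_basicOpen_iso_freeMod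
    (Omega.conormal j) hV.2.1 x hxU hfree
  refine ⟨X'.basicOpen r, _, hxr, hiso, ?_⟩
  rw [fibreDimAt_eq_rankAtStalk f hV.1 hW hVW (j x) hxV hsmB,
    fibreDimAt_eq_rankAtStalk (j ≫ f) hV.2.1 hW hVW' x hxU hsmC]
  have hq : (hV.2.1.primeIdealOf ⟨x, hxU⟩).comap (algebraMap Γ(X, V) Γ(X', j ⁻¹ᵁ V)) =
      hV.1.primeIdealOf ⟨j x, hxV⟩ := by
    have := IsAffineOpen.comap_primeIdealOf_appLE (f := j) (x := x) V hV.1 (j ⁻¹ᵁ V) hV.2.1
      le_rfl hxU
    rw [Scheme.Hom.appLE_eq_app] at this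
    exact this
  have h1 := Module.rankAtStalk_baseChange (R := Γ(X, V)) (M := Ω[Γ(X, V)⁄Γ(Y, W)])
    (S := Γ(X', j ⁻¹ᵁ V)) (hV.2.1.primeIdealOf ⟨x, hxU⟩)
  have h2 := congrFun (Module.rankAtStalk_eq_of_equiv Ψ) (hV.2.1.primeIdealOf ⟨x, hxU⟩)
  have h3 := congrFun (Module.rankAtStalk_prod (R := Γ(X', j ⁻¹ᵁ V)) Γ(Omega.conormal j, j ⁻¹ᵁ V)
    Ω[Γ(X', j ⁻¹ᵁ V)⁄Γ(Y, W)]) (hV.2.1.primeIdealOf ⟨x, hxU⟩)
  rw [hq] at h1
  rw [← h1, h2, h3, Pi.add_apply, add_comm]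
  push_cast
  rfl


end Groth.Agent.S5021
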