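import Groth.Statements.S12423
import Mathlib
import Groth.Agent.S5021
import Groth.Agent.S5020
import Groth.Agent.S1488
import Groth.Agent.Lib.Helper51.SmoothStalk
import Groth.Agent.Lib.Helper2.FinLocFreeAff
import Groth.Agent.Lib.Helper78.ModStalk
-- import your own Groth.Agent.* helpers here

set_option autoImplicit false
universe u
open CategoryTheory CategoryTheory.Limits AlgebraicGeometry
open NonsingVar

namespace Groth.Agent.S12423
open AlgebraicGeometry CategoryTheory TensorProduct KaehlerDifferential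
open Groth.Agent.Lib.Helper48.Conormal Groth.Agent.Lib.Helper48.OmegaAff

/-- Sections of a universal receptacle over an affine pair are the Kähler differentials,
compatibly with `d`. -/
theorem exists_kaehler_equiv_sections {X Y : Scheme.{u}} (f : X ⟶ Y) {Ω' : X.Modules}
    (d : OmegaSh.Der f Ω') (hd : OmegaSh.IsUniversal d) {U : X.Opens} (hU : IsAffineOpen U)
    {V : Y.Opens} (hV : IsAffineOpen V) (h : U ≤ f ⁻¹ᵁ V)
    [Algebra Γ(Y, V) Γ(X, U)] (hAB : algebraMap Γ(Y, V) Γ(X, U) = (f.appLE V U h).hom) :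
    ∃ e : Ω[Γ(X, U)⁄Γ(Y, V)] ≃ₗ[Γ(X, U)] Γ(Ω', U),
      ∀ b, e (KaehlerDifferential.D Γ(Y, V) Γ(X, U) b) = d.app U b := by
  letI : Module Γ(Y, V) Γ(Ω', U) := Module.compHom _ (algebraMap Γ(Y, V) Γ(X, U))
  haveI : IsScalarTower Γ(Y, V) Γ(X, U) Γ(Ω', U) :=
    ⟨fun a b m => by
      rw [Algebra.smul_def, mul_smul]
      rfl⟩
  have hkill : ∀ a : Γ(Y, V), d.app U (algebraMap Γ(Y, V) Γ(X, U) a) = 0 := fun a => by
    rw [hAB]; exact der_app_appLE f d V U h a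
  let δ : Derivation Γ(Y, V) Γ(X, U) Γ(Ω', U) := Derivation.mk'
    { toFun := d.app U
      map_add' := map_add _
      map_smul' := fun a b => by
        rw [Algebra.smul_def, der_app_mul, hkill, smul_zero, add_zero]
        rfl }
    (der_app_mul f d U)
  have hδ : ∀ b, δ b = d.app U b := fun _ => rfl
  let β := δ.liftKaehlerDifferential
  have hβ : ∀ b, β (KaehlerDifferential.D Γ(Y, V) Γ(X, U) b) = d.app U b :=
    fun b => δ.liftKaehlerDifferential_comp_D b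
  obtain ⟨α, hα, -⟩ := existsUnique_of_derivation_universal f d hd hU hV h
    Ω[Γ(X, U)⁄Γ(Y, V)] (KaehlerDifferential.D Γ(Y, V) Γ(X, U)).toLinearMap.toAddMonoidHom
    (fun x y => Derivation.leibniz (KaehlerDifferential.D Γ(Y, V) Γ(X, U)) x y)
    (fun a => by
      have : f.appLE V U h a = algebraMap Γ(Y, V) Γ(X, U) a := by rw [hAB]
      change KaehlerDifferential.D Γ(Y, V) Γ(X, U) (f.appLE V U h a) = 0
      rw [this, Derivation.map_algebraMap])
  have hα' : ∀ b, α (d.app U b) = KaehlerDifferential.D Γ(Y, V) Γ(X, U) b := hα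
  obtain ⟨γ, -, hγ⟩ := existsUnique_of_derivation_universal f d hd hU hV h
    Γ(Ω', U) (d.app U) (der_app_mul f d U) (der_app_appLE f d V U h)
  refine ⟨LinearEquiv.ofLinearMap β α ?_ ?_, hβ⟩
  · have h1 : β ∘ₗ α = γ := hγ _ (fun b => by
      rw [LinearMap.comp_apply, hα', hβ])
    have h2 : LinearMap.id = γ := hγ _ (fun b => rfl)
    rw [h1, ← h2]
  · apply Derivation.liftKaehlerDifferential_unique
    ext b
    change α (β (KaehlerDifferential.D Γ(Y, V) Γ(X, U) b)) = KaehlerDifferential.D Γ(Y, V) Γ(X, U) b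
    rw [hβ, hα']

theorem kerCotangentToTensor_injective_of_mono {X Y Z : Scheme.{u}} (f : X ⟶ Y) (i : Z ⟶ X)
    [QuasiCompact i] {ΩX : X.Modules} (dX : OmegaSh.Der f ΩX)
    (φ : Omega.conormal i ⟶ (Scheme.Modules.pullback i).obj ΩX)
    (hφ : OmegaSh.IsConormalDiff i dX φ) [Mono φ]
    {V : X.Opens} (hV : IsGoodFor i V) {W : Y.Opens} (hVW : V ≤ f ⁻¹ᵁ W)
    [Algebra Γ(Y, W) Γ(X, V)] [Algebra Γ(X, V) Γ(Z, i ⁻¹ᵁ V)] [Algebra Γ(Y, W) Γ(Z, i ⁻¹ᵁ V)]
    [IsScalarTower Γ(Y, W) Γ(X, V) Γ(Z, i ⁻¹ᵁ V)]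
    (hAB : algebraMap Γ(Y, W) Γ(X, V) = (f.appLE W V hVW).hom)
    (hBC : algebraMap Γ(X, V) Γ(Z, i ⁻¹ᵁ V) = (i.app V).hom) :
    Function.Injective (kerCotangentToTensor Γ(Y, W) Γ(X, V) Γ(Z, i ⁻¹ᵁ V)) := by
  -- module structures
  letI mAM : Module Γ(Y, W) Γ(ΩX, V) := Module.compHom _ (algebraMap Γ(Y, W) Γ(X, V))
  haveI : IsScalarTower Γ(Y, W) Γ(X, V) Γ(ΩX, V) :=
    ⟨fun a b m => by
      rw [Algebra.smul_def, mul_smul]
      rfl⟩
  letI mBP : Module Γ(X, V) Γ((Scheme.Modules.pullback i).obj ΩX, i ⁻¹ᵁ V) :=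
    Module.compHom _ (algebraMap Γ(X, V) Γ(Z, i ⁻¹ᵁ V))
  haveI : IsScalarTower Γ(X, V) Γ(Z, i ⁻¹ᵁ V) Γ((Scheme.Modules.pullback i).obj ΩX, i ⁻¹ᵁ V) :=
    ⟨fun a b m => by
      rw [Algebra.smul_def, mul_smul]
      rfl⟩
  have hkill : ∀ a : Γ(Y, W), dX.app V (algebraMap Γ(Y, W) Γ(X, V) a) = 0 := fun a => by
    rw [hAB]; exact der_app_appLE f dX W V hVW a
  let δ : Derivation Γ(Y, W) Γ(X, V) Γ(ΩX, V) := Derivation.mk'
    { toFun := dX.app V
      map_add' := map_add _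
      map_smul' := fun a b => by
        rw [Algebra.smul_def, der_app_mul, hkill, smul_zero, add_zero]
        rfl }
    (der_app_mul f dX V)
  let β := δ.liftKaehlerDifferential
  have hβ : ∀ b, β (KaehlerDifferential.D Γ(Y, W) Γ(X, V) b) = dX.app V b :=
    fun b => δ.liftKaehlerDifferential_comp_D b
  let ps : Γ(ΩX, V) →ₗ[Γ(X, V)] Γ((Scheme.Modules.pullback i).obj ΩX, i ⁻¹ᵁ V) :=
    { toFun := fun m => OmegaSh.pullSect i ΩX V m
      map_add' := fun a b => map_add _ a b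
      map_smul' := fun a m => by
        have h1 := OmegaSh.pullSect_smul i ΩX V a m
        have h2 : (a • (OmegaSh.pullSect i ΩX V m) :
            Γ((Scheme.Modules.pullback i).obj ΩX, i ⁻¹ᵁ V)) =
            algebraMap Γ(X, V) Γ(Z, i ⁻¹ᵁ V) a • (OmegaSh.pullSect i ΩX V m) := rfl
        rw [RingHom.id_apply, h2, hBC]
        exact h1 }
  let Λ : Γ(Z, i ⁻¹ᵁ V) ⊗[Γ(X, V)] Ω[Γ(X, V)⁄Γ(Y, W)] →ₗ[Γ(Z, i ⁻¹ᵁ V)]
      Γ((Scheme.Modules.pullback i).obj ΩX, i ⁻¹ᵁ V) :=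
    LinearMap.liftBaseChange Γ(Z, i ⁻¹ᵁ V) (ps ∘ₗ β)
  have hΛ : ∀ b : Γ(X, V), Λ ((1 : Γ(Z, i ⁻¹ᵁ V)) ⊗ₜ KaehlerDifferential.D Γ(Y, W) Γ(X, V) b) =
      OmegaSh.pullSect i ΩX V (dX.app V b) := by
    intro b
    rw [LinearMap.liftBaseChange_tmul, one_smul, LinearMap.comp_apply, hβ]
    rfl
  have hinjφ := Groth.Agent.Lib.Helper78.ModStalk.app_injective_of_mono φ (i ⁻¹ᵁ V)
  rw [← LinearMap.ker_eq_bot, LinearMap.ker_eq_bot']
  intro z hz
  obtain ⟨x, rfl⟩ := Ideal.toCotangent_surjective _ z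
  have hx' : x.1 ∈ RingHom.ker (i.app V).hom := by
    have h0 : algebraMap Γ(X, V) Γ(Z, i ⁻¹ᵁ V) x.1 = 0 := RingHom.mem_ker.mp x.2
    have h0' : (i.app V).hom x.1 = 0 := by rw [← hBC]; exact h0
    exact RingHom.mem_ker.mpr h0'
  set s := sectOf i V ⟨x.1, hx'⟩ with hs
  have hsx : OmegaSh.idealSect i.ker V s = x.1 := idealSect_sectOf i V ⟨x.1, hx'⟩
  have h1 : φ.app (i ⁻¹ᵁ V) (OmegaSh.conormalSect i V s) = 0 := by
    rw [hφ V s, hsx, ← hΛ]
    have : (1 : Γ(Z, i ⁻¹ᵁ V)) ⊗ₜ[Γ(X, V)] KaehlerDifferential.D Γ(Y, W) Γ(X, V) x.1 =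
        kerCotangentToTensor Γ(Y, W) Γ(X, V) Γ(Z, i ⁻¹ᵁ V) (Ideal.toCotangent _ x) :=
      (kerCotangentToTensor_toCotangent _ _ _ x).symm
    rw [this, hz, map_zero]
  have h2 : OmegaSh.conormalSect i V s = 0 := hinjφ (by rw [h1, map_zero])
  have h3 := idealSect_mem_sq_of_conormalSect_eq_zero i hV s h2
  rw [hsx] at h3
  rw [Ideal.toCotangent_eq_zero]
  have hker : RingHom.ker (algebraMap Γ(X, V) Γ(Z, i ⁻¹ᵁ V)) = RingHom.ker (i.app V).hom := by
    rw [hBC]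
  have h4 : (RingHom.ker (algebraMap Γ(X, V) Γ(Z, i ⁻¹ᵁ V))) ^ 2 =
      (RingHom.ker (i.app V).hom) ^ 2 := congrArg (· ^ 2) hker
  exact h4.symm ▸ h3



open Groth.Agent.Lib.Helper51 in
theorem main_aux (k : Type u) [Field k]
    [IsAlgClosed k] (n q : ℕ)
    (X : Scheme.{u}) (p : X ⟶ Spec (CommRingCat.of k)) [IsIntegral X]
    [LocallyOfFiniteType p]
    (hreg : ∀ x : ↥X, IsRegularLocalRing ↑(X.presheaf.stalk x))
    (hn : topologicalKrullDim ↥X = (n : WithBot ℕ∞))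
    (Y : Scheme.{u}) (i : Y ⟶ X) [IsClosedImmersion i] [IrreducibleSpace ↥Y]
    (hq : topologicalKrullDim ↥Y = (q : WithBot ℕ∞))
    (ΩX : X.Modules) (dX : OmegaSh.Der p ΩX) (hX : OmegaSh.IsUniversal dX)
    (ΩY : Y.Modules) (dY : OmegaSh.Der (i ≫ p) ΩY) (hY : OmegaSh.IsUniversal dY)
    (φ : Omega.conormal i ⟶ (Scheme.Modules.pullback i).obj ΩX) (hφ : OmegaSh.IsConormalDiff i dX φ) :
    ((∀ y : ↥Y, IsRegularLocalRing ↑(Y.presheaf.stalk y)) ↔ (FlatMod.IsFinLocFree ΩY ∧ Mono φ)) ∧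
      ((∀ y : ↥Y, IsRegularLocalRing ↑(Y.presheaf.stalk y)) →
        FlatMod.IsFinLocFreeOfRank (n - q) (Omega.conormal i)) := by
  classical
  haveI : LocallyOfFinitePresentation p := inferInstance
  haveI : LocallyOfFiniteType (i ≫ p) := inferInstance
  haveI : LocallyOfFinitePresentation (i ≫ p) := inferInstance
  haveI hsmX : Smooth p := by
    rw [← Scheme.Hom.smoothLocus_eq_top_iff, eq_top_iff]
    intro x _
    exact (mem_smoothLocus_iff_isRegularLocalRing_stalk_of_perfectField p x).mpr (hreg x)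
  have hsmY_of_reg : (∀ y : ↥Y, IsRegularLocalRing ↑(Y.presheaf.stalk y)) → Smooth (i ≫ p) := by
    intro hregY
    rw [← Scheme.Hom.smoothLocus_eq_top_iff, eq_top_iff]
    intro y _
    exact (mem_smoothLocus_iff_isRegularLocalRing_stalk_of_perfectField (i ≫ p) y).mpr (hregY y)
  have forward : (∀ y : ↥Y, IsRegularLocalRing ↑(Y.presheaf.stalk y)) →
      FlatMod.IsFinLocFree ΩY ∧ Mono φ ∧ FlatMod.IsFinLocFreeOfRank (n - q) (Omega.conormal i) := by
    intro hregY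
    haveI := hsmY_of_reg hregY
    refine ⟨?_, ?_, ?_⟩
    · intro y
      obtain ⟨U, m, hyU, hiso, -⟩ := Groth.Agent.S5019.result (i ≫ p) ΩY dY hY y
      exact ⟨U, m, hyU, hiso⟩
    · exact Groth.Agent.S5020.result i p ((Groth.Agent.S1488.result (i ≫ p)).1 inferInstance).2
        ΩX dX hX φ hφ
    · intro y
      obtain ⟨U, m, hyU, hiso, hdim⟩ := Groth.Agent.S5021.result p i y
      rw [Groth.Agent.S10937.fibreDimAt_eq_of_smooth_over_field p n hn (i y),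
        Groth.Agent.S10937.fibreDimAt_eq_of_smooth_over_field (i ≫ p) q hq y] at hdim
      have hm : m = n - q := by
        have : (n : WithBot ℕ∞) = ((q + m : ℕ) : WithBot ℕ∞) := by
          rw [hdim]; push_cast; rfl
        have h2 : n = q + m := by exact_mod_cast this
        omega
      subst hm
      exact ⟨U, hyU, hiso⟩
  refine ⟨⟨fun h => ⟨(forward h).1, (forward h).2.1⟩, ?_⟩, fun h => (forward h).2.2⟩
  rintro ⟨hFLF, hmono⟩ y
  haveI := hmono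
  obtain ⟨V, hV, hyV, -, -⟩ := exists_goodFor i y ⊤ trivial ⊤ trivial
  have hW : IsAffineOpen (⊤ : (Spec (CommRingCat.of k)).Opens) := isAffineOpen_top _
  have hVW : V ≤ p ⁻¹ᵁ ⊤ := fun _ _ => trivial
  have hVW' : i ⁻¹ᵁ V ≤ (i ≫ p) ⁻¹ᵁ ⊤ := le_preimage_comp p i hVW
  have hyU : y ∈ i ⁻¹ᵁ V := hyV
  letI aBC : Algebra Γ(X, V) Γ(Y, i ⁻¹ᵁ V) := (i.app V).hom.toAlgebra
  letI aAB : Algebra Γ(Spec (CommRingCat.of k), ⊤) Γ(X, V) := (p.appLE ⊤ V hVW).hom.toAlgebra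
  letI aAC : Algebra Γ(Spec (CommRingCat.of k), ⊤) Γ(Y, i ⁻¹ᵁ V) :=
    ((i ≫ p).appLE ⊤ (i ⁻¹ᵁ V) hVW').hom.toAlgebra
  haveI : IsScalarTower Γ(Spec (CommRingCat.of k), ⊤) Γ(X, V) Γ(Y, i ⁻¹ᵁ V) :=
    IsScalarTower.of_algebraMap_eq' (by
      change ((i ≫ p).appLE ⊤ (i ⁻¹ᵁ V) hVW').hom = (i.app V).hom.comp (p.appLE ⊤ V hVW).hom
      rw [← Scheme.Hom.appLE_comp_appLE i p ⊤ V (i ⁻¹ᵁ V) hVW le_rfl, Scheme.Hom.appLE_eq_app]
      rfl)
  have hsmB : (p.appLE ⊤ V hVW).hom.Smooth :=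
    HasRingHomProperty.appLE (P := @Smooth) p inferInstance ⟨⊤, hW⟩ ⟨V, hV.1⟩ hVW
  haveI : Algebra.Smooth Γ(Spec (CommRingCat.of k), ⊤) Γ(X, V) := hsmB
  have hinj := kerCotangentToTensor_injective_of_mono p i dX φ hφ hV hVW rfl rfl
  haveI : ΩY.IsQuasicoherent := isQuasicoherent_of_universal (i ≫ p) dY hY
  have hproj : Module.Projective Γ(Y, i ⁻¹ᵁ V) Γ(ΩY, i ⁻¹ᵁ V) :=
    Groth.Agent.Lib.Helper2.FinLocFreeAff.projective_sections_of_isFinLocFree ΩY hFLF hV.2.1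
  obtain ⟨e, -⟩ := exists_kaehler_equiv_sections (i ≫ p) dY hY hV.2.1 hW hVW' rfl
  haveI : Module.Projective Γ(Y, i ⁻¹ᵁ V) Ω[Γ(Y, i ⁻¹ᵁ V)⁄Γ(Spec (CommRingCat.of k), ⊤)] :=
    Module.Projective.of_equiv e.symm
  haveI hfsC : Algebra.FormallySmooth Γ(Spec (CommRingCat.of k), ⊤) Γ(Y, i ⁻¹ᵁ V) := by
    rw [Algebra.formallySmooth_iff]
    exact ⟨inferInstance,
      (Algebra.FormallySmooth.kerCotangentToTensor_injective_iff hV.2.2).mp hinj⟩
  have hy : y ∈ (i ≫ p).smoothLocus := by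
    rw [Scheme.Hom.mem_smoothLocus, formallySmooth_stalkMap_iff ⊤ hW (i ⁻¹ᵁ V) hV.2.1 hVW' hyU]
    change Algebra.FormallySmooth Γ(Spec (CommRingCat.of k), ⊤)
      (Localization.AtPrime (hV.2.1.primeIdealOf ⟨y, hyU⟩).asIdeal)
    haveI : Algebra.FormallySmooth Γ(Y, i ⁻¹ᵁ V)
        (Localization.AtPrime (hV.2.1.primeIdealOf ⟨y, hyU⟩).asIdeal) :=
      Algebra.FormallySmooth.of_isLocalization (hV.2.1.primeIdealOf ⟨y, hyU⟩).asIdeal.primeCompl
    exact Algebra.FormallySmooth.comp Γ(Spec (CommRingCat.of k), ⊤) Γ(Y, i ⁻¹ᵁ V) _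
  exact isRegularLocalRing_stalk_of_mem_smoothLocus (i ≫ p) y hy


/-- Let k be an algebraically closed field, X a nonsingular variety over k (integral, separated and of
finite type over k, all local rings regular) of dimension n, i : Y → X an irreducible closed
subscheme of dimension q with ideal sheaf I, (Ω_X, d_X) and (Ω_Y, d_Y) sheaves of differentials of X
and Y over k (universal derivations), and φ : I/I² → i^*Ω_X the canonical map from the conormal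
sheaf (class of a local section s of I ↦ pullback of d_X s). Then Y is nonsingular if and only if
(1) Ω_Y is locally free and (2) φ is a monomorphism (the conormal sequence 0 → I/I² → i^*Ω_X → Ω_Y →
0 is exact on the left too). Moreover in that case I/I² is locally free of rank n − q, the
codimension of Y. (The clause that I is then locally generated by n − q sections is not restated.) -/
theorem result (k : Type u) [Field k]
    [IsAlgClosed k] (n q : ℕ)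
    (X : Scheme.{u}) [X.Over (Spec (CommRingCat.of k))] [IsIntegral X] [IsSeparated (X ↘ (Spec (CommRingCat.of k)))]
    [LocallyOfFiniteType (X ↘ (Spec (CommRingCat.of k)))] [QuasiCompact (X ↘ (Spec (CommRingCat.of k)))]
    (hreg : ∀ x : ↥X, IsRegularLocalRing ↑(X.presheaf.stalk x))
    (hn : topologicalKrullDim ↥X = (n : WithBot ℕ∞))
    (Y : Scheme.{u}) (i : Y ⟶ X) [IsClosedImmersion i] [IrreducibleSpace ↥Y]
    (hq : topologicalKrullDim ↥Y = (q : WithBot ℕ∞))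
    (ΩX : X.Modules) (dX : OmegaSh.Der (X ↘ (Spec (CommRingCat.of k))) ΩX) (hX : OmegaSh.IsUniversal dX)
    (ΩY : Y.Modules) (dY : OmegaSh.Der (i ≫ (X ↘ (Spec (CommRingCat.of k)))) ΩY) (hY : OmegaSh.IsUniversal dY)
    (φ : Omega.conormal i ⟶ (Scheme.Modules.pullback i).obj ΩX) (hφ : OmegaSh.IsConormalDiff i dX φ) :
    ((∀ y : ↥Y, IsRegularLocalRing ↑(Y.presheaf.stalk y)) ↔ (FlatMod.IsFinLocFree ΩY ∧ Mono φ)) ∧
      ((∀ y : ↥Y, IsRegularLocalRing ↑(Y.presheaf.stalk y)) →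
        FlatMod.IsFinLocFreeOfRank (n - q) (Omega.conormal i)) := by
  exact main_aux k n q X (X ↘ (Spec (CommRingCat.of k))) hreg hn Y i hq ΩX dX hX ΩY dY hY φ hφ


end Groth.Agent.S12423
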