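import Groth.Statements.S5022
import Mathlib
import Groth.Agent.S12423
import Groth.Agent.S2063
import Groth.Agent.Lib.Helper73.DimFormula.QuasiFiniteAlg
-- import your own Groth.Agent.* helpers here

set_option autoImplicit false
universe u
open CategoryTheory CategoryTheory.Limits AlgebraicGeometry TopologicalSpace
open Unram17

namespace Groth.Agent.S5022
open AlgebraicGeometry CategoryTheory TensorProduct KaehlerDifferential

section RingLevel
open Algebra IsLocalRing Algebra.TensorProduct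

local notation "𝓀[" R "]" => ResidueField R

set_option backward.isDefEq.respectTransparency false in
theorem isSmoothAt_of_flat_of_isSmoothAt_fiber {R S : Type u} [CommRing R] [CommRing S]
    [Algebra R S] [Algebra.FinitePresentation R S] (p : Ideal R) [p.IsPrime]
    (Q : Ideal (p.Fiber S)) [Q.IsPrime] [(Q.comap includeRight).LiesOver p]
    (hflat : letI := Localization.AtPrime.algebraOfLiesOver p (Q.comap includeRight)
      Module.Flat (Localization.AtPrime p) (Localization.AtPrime (Q.comap includeRight)))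
    (hsm : Algebra.IsSmoothAt p.ResidueField Q) :
    Algebra.IsSmoothAt R (Q.comap includeRight) := by
  set q := Q.comap includeRight with hq
  let Rp := Localization.AtPrime p
  let Sp := Localization (algebraMapSubmonoid S p.primeCompl)
  let Sq := Localization.AtPrime q
  letI := Localization.AtPrime.algebraOfLiesOver p q
  haveI : Module.Flat Rp Sq := hflat
  let f : Sp →ₐ[S] Sq := IsLocalization.liftAlgHom (M := algebraMapSubmonoid S p.primeCompl)
        (f := Algebra.ofId _ _) (by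
      rintro ⟨_, x, hx, rfl⟩
      simpa using! IsLocalization.map_units (M := q.primeCompl) Sq ⟨algebraMap _ _ x,
        by simp_all [q.over_def p]⟩)
  algebraize [f.toRingHom]
  have : IsScalarTower R Sp Sq := .to₁₃₄ _ S _ _
  have : IsScalarTower Rp Sp Sq := .of_algebraMap_eq' <| by
    apply IsLocalization.ringHom_ext p.primeCompl
    simp only [RingHom.comp_assoc, ← IsScalarTower.algebraMap_eq]
  have : IsLocalization (algebraMapSubmonoid Sp q.primeCompl) Sq :=
    .isLocalization_of_submonoid_le _ _ (algebraMapSubmonoid S p.primeCompl) _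
    (by rintro _ ⟨x, hx, rfl⟩; simp_all [q.over_def p])
  have : FinitePresentation Rp Sp := by
    have : Algebra.IsPushout R Rp S Sp :=
      .symm <| Algebra.isPushout_of_isLocalization p.primeCompl _ _ _
    exact .equiv (Algebra.IsPushout.equiv R Rp S Sp)
  have : FormallySmooth 𝓀[Rp] (𝓀[Rp] ⊗[Rp] Sq) := by
    haveI : FormallySmooth p.ResidueField (Localization.AtPrime Q) := hsm
    let e1 : Localization.AtPrime Q ≃ₐ[Rp] Sq ⧸ p.map (algebraMap R Sq) :=
      Ideal.Fiber.localizationAlgEquivQuotient p Q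
    let e2 : 𝓀[Rp] ⊗[Rp] Sq ≃ₐ[Rp] Sq ⧸ (maximalIdeal Rp).map (algebraMap Rp Sq) :=
      (Algebra.TensorProduct.comm _ _ _).trans
        ((TensorProduct.quotIdealMapEquivTensorQuot Sq (maximalIdeal Rp)).symm.restrictScalars _)
    let e3 : (Sq ⧸ p.map (algebraMap R Sq)) ≃ₐ[Rp] Sq ⧸ (maximalIdeal Rp).map (algebraMap Rp Sq) :=
      Ideal.quotientEquivAlgOfEq Rp (by
        rw [← Localization.AtPrime.map_eq_maximalIdeal, Ideal.map_map,
          ← IsScalarTower.algebraMap_eq])
    let e : Localization.AtPrime Q ≃ₐ[Rp] 𝓀[Rp] ⊗[Rp] Sq := e1.trans (e3.trans e2.symm)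
    let e' : Localization.AtPrime Q ≃ₐ[𝓀[Rp]] 𝓀[Rp] ⊗[Rp] Sq :=
      AlgEquiv.extendScalarsOfSurjective (IsLocalRing.residue_surjective (R := Rp)) e
    exact Algebra.FormallySmooth.of_equiv (A := Localization.AtPrime Q) e'
  have := FormallySmooth.of_formallySmooth_residueField_tensor
    (R := Rp) (S := Sq) (P := Sp) (algebraMapSubmonoid _ q.primeCompl)
  exact .comp R Rp Sq


attribute [local instance] Algebra.TensorProduct.rightAlgebra in
theorem finrank_fiber_kaehler {A B : Type u} [CommRing A] [CommRing B] [Algebra A B]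
    (p : Ideal A) [p.IsPrime] (n : ℕ) (e : Ω[B⁄A] ≃ₗ[B] (Fin n → B))
    (Q : Ideal (p.Fiber B)) [Q.IsPrime] :
    Module.finrank Q.ResidueField (Q.ResidueField ⊗[p.Fiber B] Ω[p.Fiber B⁄p.ResidueField]) = n := by
  haveI : Nontrivial (p.Fiber B) := by
    by_contra h
    rw [not_nontrivial_iff_subsingleton] at h
    exact (inferInstance : Q.IsPrime).ne_top (Subsingleton.elim _ _)
  haveI : Nontrivial B := (algebraMap B (p.Fiber B)).domain_nontrivial
  haveI : Module.Free B Ω[B⁄A] := Module.Free.of_equiv e.symm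
  have h1 : Module.finrank B Ω[B⁄A] = n := by
    rw [e.finrank_eq, Module.finrank_pi, Fintype.card_fin]
  let e1 : p.Fiber B ⊗[B] Ω[B⁄A] ≃ₗ[p.Fiber B] Ω[p.Fiber B⁄p.ResidueField] :=
    KaehlerDifferential.tensorKaehlerEquiv A p.ResidueField B (p.Fiber B)
  haveI : Module.Free (p.Fiber B) Ω[p.Fiber B⁄p.ResidueField] := Module.Free.of_equiv e1
  rw [Module.finrank_baseChange, ← e1.finrank_eq, Module.finrank_baseChange, h1]

theorem isSmoothAt_of_flat_of_free {A B : Type u} [CommRing A] [CommRing B] [Algebra A B]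
    [Algebra.FinitePresentation A B] (p : Ideal A) [p.IsPrime] (n : ℕ)
    (e : Ω[B⁄A] ≃ₗ[B] (Fin n → B)) (Q : PrimeSpectrum (p.Fiber B))
    [(Q.asIdeal.comap includeRight).LiesOver p]
    (hflat : letI := Localization.AtPrime.algebraOfLiesOver p (Q.asIdeal.comap includeRight)
      Module.Flat (Localization.AtPrime p) (Localization.AtPrime (Q.asIdeal.comap includeRight)))
    (hdim : (n : WithBot ℕ∞) ≤ FlatMor.localDim (PrimeSpectrum (p.Fiber B)) Q) :
    Algebra.IsSmoothAt A (Q.asIdeal.comap includeRight) := by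
  refine isSmoothAt_of_flat_of_isSmoothAt_fiber p Q.asIdeal hflat ?_
  rw [Groth.Agent.S2063.result (k := p.ResidueField) (S := p.Fiber B) Q.asIdeal,
    finrank_fiber_kaehler p n e Q.asIdeal]
  exact hdim


theorem isSmoothAt_of_flat_of_free' {A B : Type u} [CommRing A] [CommRing B] [Algebra A B]
    [Algebra.FinitePresentation A B] (p : Ideal A) [p.IsPrime] (q : Ideal B) [q.IsPrime]
    [q.LiesOver p] (n : ℕ)
    (e : Ω[B⁄A] ≃ₗ[B] (Fin n → B)) (Q : PrimeSpectrum (p.Fiber B))
    (hQ : Q.asIdeal.comap includeRight = q)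
    (hflat : letI := Localization.AtPrime.algebraOfLiesOver p q
      Module.Flat (Localization.AtPrime p) (Localization.AtPrime q))
    (hdim : (n : WithBot ℕ∞) ≤ FlatMor.localDim (PrimeSpectrum (p.Fiber B)) Q) :
    Algebra.IsSmoothAt A q := by
  subst hQ
  exact isSmoothAt_of_flat_of_free p n e Q hflat hdim

end RingLevel


open Groth.Agent.Lib.Helper48.OmegaAff Groth.Agent.Lib.Helper2.FreeModAff in
theorem mem_smoothLocus_of_flat_of_free {X Y : Scheme.{u}} (f : X ⟶ Y)
    [LocallyOfFinitePresentation f]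
    (Ω' : X.Modules) (d : OmegaSh.Der f Ω') (hd : OmegaSh.IsUniversal d) (x : X)
    (hflat : (f.stalkMap x).hom.Flat) (U : X.Opens) (n : ℕ) (hxU : x ∈ U)
    (hfree : Nonempty (Ω'.restrict U.ι ≅ FlatMod.freeMod (↑U) n))
    (hdim : FlatMor.fibreDimAt f x = (n : WithBot ℕ∞)) : x ∈ f.smoothLocus := by
  obtain ⟨_, ⟨W, hW, rfl⟩, hxW, -⟩ :=
    Y.isBasis_affineOpens.exists_subset_of_mem_open (Set.mem_univ (f x)) isOpen_univ
  obtain ⟨_, ⟨V, hV, rfl⟩, hxV, hVUW⟩ :=
    X.isBasis_affineOpens.exists_subset_of_mem_open (show x ∈ U ⊓ f ⁻¹ᵁ W from ⟨hxU, hxW⟩)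
      (U ⊓ f ⁻¹ᵁ W).2
  have hVU : V ≤ U := fun y hy => (hVUW hy).1
  have hVW : V ≤ f ⁻¹ᵁ W := fun y hy => (hVUW hy).2
  have hfp := f.finitePresentation_appLE hW hV hVW
  letI := (f.appLE W V hVW).hom.toAlgebra
  haveI : Algebra.FinitePresentation Γ(Y, W) Γ(X, V) := hfp
  haveI : Ω'.IsQuasicoherent := isQuasicoherent_of_universal f d hd
  obtain ⟨e0, -⟩ := Groth.Agent.S12423.exists_kaehler_equiv_sections f d hd hV hW hVW rfl
  obtain ⟨e1⟩ := (nonempty_iso_freeMod_iff Ω' hV n).mp (nonempty_iso_freeMod_of_le Ω' hVU n hfree)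
  let e := e0.trans e1
  set P := hW.primeIdealOf ⟨f x, hVW hxV⟩ with hP
  set q := hV.primeIdealOf ⟨x, hxV⟩ with hq
  have hcomap : q.comap (algebraMap Γ(Y, W) Γ(X, V)) = P :=
    IsAffineOpen.comap_primeIdealOf_appLE W hW V hV hVW hxV
  haveI : q.asIdeal.LiesOver P.asIdeal := ⟨congr($(hcomap).1).symm⟩
  rw [Scheme.Hom.mem_smoothLocus, formallySmooth_stalkMap_iff W hW V hV hVW hxV]
  change Algebra.IsSmoothAt Γ(Y, W) q.asIdeal
  have hqmem : q ∈ PrimeSpectrum.comap (algebraMap Γ(Y, W) Γ(X, V)) ⁻¹' {P} := hcomap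
  set Q := PrimeSpectrum.preimageHomeomorphFiber Γ(Y, W) Γ(X, V) P ⟨q, hqmem⟩ with hQdef
  have hsymm : (PrimeSpectrum.preimageHomeomorphFiber Γ(Y, W) Γ(X, V) P).symm Q = ⟨q, hqmem⟩ :=
    Homeomorph.symm_apply_apply _ _
  have hQ : Q.asIdeal.comap Algebra.TensorProduct.includeRight = q.asIdeal := by
    have := congrArg (fun z => z.1.asIdeal) hsymm
    exact this
  refine isSmoothAt_of_flat_of_free' P.asIdeal q.asIdeal n e Q hQ ?_ ?_
  · letI := Localization.AtPrime.algebraOfLiesOver P.asIdeal q.asIdeal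
    rw [← RingHom.flat_algebraMap_iff]
    exact (RingHom.Flat.respectsIso.arrow_mk_iso_iff
      (IsAffineOpen.arrowStalkMapIso f W hW V hV hVW hxV)).mp hflat
  · have comm : Spec.map (f.appLE W V hVW) ≫ hW.fromSpec = hV.fromSpec ≫ f :=
      IsAffineOpen.SpecMap_appLE_fromSpec f hW hV hVW
    have h1 := Groth.Agent.Lib.Helper36.FibreEtale.fibreDimAt_eq f (Spec.map (f.appLE W V hVW))
      hV.fromSpec hW.fromSpec comm q
    rw [hV.fromSpec_primeIdealOf ⟨x, hxV⟩] at h1
    have h2 := Groth.Agent.Lib.Helper73.fibreDimAt_SpecMap_eq_localDim Γ(Y, W) Γ(X, V) P Q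
    rw [hsymm] at h2
    have h3 : FlatMor.fibreDimAt (Spec.map (f.appLE W V hVW)) q =
        FlatMor.localDim (PrimeSpectrum (P.asIdeal.Fiber Γ(X, V))) Q := h2
    rw [← h3, ← h1, hdim]


open Groth.Agent.Lib.Helper48.OmegaAff in
theorem flat_and_free_of_mem_smoothLocus {X Y : Scheme.{u}} (f : X ⟶ Y)
    [LocallyOfFinitePresentation f]
    (Ω' : X.Modules) (d : OmegaSh.Der f Ω') (hd : OmegaSh.IsUniversal d) (x : X)
    (hx : x ∈ f.smoothLocus) :
    (f.stalkMap x).hom.Flat ∧
      ∃ (U : X.Opens) (n : ℕ), x ∈ U ∧ Nonempty (Ω'.restrict U.ι ≅ FlatMod.freeMod (↑U) n) ∧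
        FlatMor.fibreDimAt f x = (n : WithBot ℕ∞) := by
  obtain ⟨W, hW, V, hV, hVW, hxV, hsm⟩ := exists_smooth_of_formallySmooth_stalk f x hx
  letI := (f.appLE W V hVW).hom.toAlgebra
  haveI : Algebra.Smooth Γ(Y, W) Γ(X, V) := hsm
  haveI : Ω'.IsQuasicoherent := isQuasicoherent_of_universal f d hd
  refine ⟨?_, ?_⟩
  · have h1 : (f.appLE W V hVW).hom.Flat := RingHom.Smooth.flat hsm
    have h2 := RingHom.Flat.localRingHom h1 (hV.primeIdealOf ⟨x, hxV⟩).asIdeal
      (hW.primeIdealOf ⟨f x, hVW hxV⟩).asIdeal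
      congr($(IsAffineOpen.comap_primeIdealOf_appLE W hW V hV hVW hxV).1).symm
    exact (RingHom.Flat.respectsIso.arrow_mk_iso_iff
      (IsAffineOpen.arrowStalkMapIso f W hW V hV hVW hxV)).mpr h2
  · obtain ⟨e0, -⟩ := Groth.Agent.S12423.exists_kaehler_equiv_sections f d hd hV hW hVW rfl
    haveI : Module.Finite Γ(X, V) Γ(Ω', V) := Module.Finite.equiv e0
    haveI : Module.Projective Γ(X, V) Γ(Ω', V) := Module.Projective.of_equiv e0
    haveI : Module.FinitePresentation Γ(X, V) Γ(Ω', V) :=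
      Module.finitePresentation_of_projective _ _
    have hfree : Module.Free (Localization.AtPrime (hV.primeIdealOf ⟨x, hxV⟩).asIdeal)
        (LocalizedModule (hV.primeIdealOf ⟨x, hxV⟩).asIdeal.primeCompl Γ(Ω', V)) :=
      Module.free_of_flat_of_isLocalRing
    obtain ⟨r, hxr, hiso⟩ := Groth.Agent.Lib.Helper2.LocFreeAff.exists_basicOpen_iso_freeMod
      Ω' hV x hxV hfree
    refine ⟨X.basicOpen r, _, hxr, hiso, ?_⟩
    rw [Groth.Agent.S5021.fibreDimAt_eq_rankAtStalk f hV hW hVW x hxV hsm,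
      Module.rankAtStalk_eq_of_equiv e0]
    rfl


/-- Let f : X ⟶ Y be locally of finite presentation, (Ω', d) a sheaf of differentials of X over Y (d
universal) and x a point of X. Then f is smooth at x if and only if the stalk map at x is flat and
there are an open neighbourhood U of x and an integer n with Ω' free of rank n on U and n equal to
the local dimension at x of the fibre of f through x. -/
theorem result {X Y : Scheme.{u}} (f : X ⟶ Y)
    [LocallyOfFinitePresentation f] (Ω' : X.Modules) (d : OmegaSh.Der f Ω') (hd : OmegaSh.IsUniversal d) (x : ↥X) :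
    x ∈ f.smoothLocus ↔
      (f.stalkMap x).hom.Flat ∧
        ∃ (U : X.Opens) (n : ℕ), x ∈ U ∧ Nonempty (Ω'.restrict U.ι ≅ FlatMod.freeMod (↑U) n) ∧
          FlatMor.fibreDimAt f x = (n : WithBot ℕ∞) := by
  constructor
  · exact flat_and_free_of_mem_smoothLocus f Ω' d hd x
  · rintro ⟨hflat, U, n, hxU, hfree, hdim⟩
    exact mem_smoothLocus_of_flat_of_free f Ω' d hd x hflat U n hxU hfree hdim


end Groth.Agent.S5022
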