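import Groth.Statements.S10936
import Mathlib
import Groth.Agent.S10937
import Groth.Agent.S5022
import Groth.Agent.Lib.Helper48.Conormal14
import Groth.Agent.Lib.Helper51.SmoothStalk
import Groth.Agent.S12422
-- import your own Groth.Agent.* helpers here

set_option autoImplicit false
universe u
open CategoryTheory CategoryTheory.Limits AlgebraicGeometry
open Variety

namespace Groth.Agent.S10936
open AlgebraicGeometry CategoryTheory TensorProduct KaehlerDifferential
open Groth.Agent.Lib.Helper51

section L1
open IsLocalRing Groth.Agent.Lib.Helper65.RegularSmooth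

/-- For a local `k`-algebra with residue field `k`: `a ∈ m²` iff `1 ⊗ da = 0`. -/
theorem mem_sq_iff (k R : Type u) [Field k] [CommRing R] [Algebra k R] [IsLocalRing R]
    (hR : Function.Bijective (algebraMap k (ResidueField R))) (a : R) (ha : a ∈ maximalIdeal R) :
    a ∈ maximalIdeal R ^ 2 ↔ (1 : ResidueField R) ⊗ₜ[R] (KaehlerDifferential.D k R a) = 0 := by
  have hI : RingHom.ker (algebraMap R (ResidueField R)) = maximalIdeal R := IsLocalRing.ker_residue
  have ha' : a ∈ RingHom.ker (algebraMap R (ResidueField R)) := hI ▸ ha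
  have h1 : kerCotangentToTensor k R (ResidueField R) (Ideal.toCotangent _ ⟨a, ha'⟩) =
      (1 : ResidueField R) ⊗ₜ[R] (KaehlerDifferential.D k R a) :=
    kerCotangentToTensor_toCotangent _ _ _ _
  have hb := kerCotangentToTensor_bijective k R hR
  rw [← h1, ← map_zero (kerCotangentToTensor k R (ResidueField R)), hb.1.eq_iff,
    Ideal.toCotangent_eq_zero]
  change _ ↔ a ∈ RingHom.ker (algebraMap R (ResidueField R)) ^ 2
  have h2 : RingHom.ker (algebraMap R (ResidueField R)) ^ 2 = maximalIdeal R ^ 2 :=
    congrArg (· ^ 2) hI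
  rw [h2]

theorem exists_eq_one_tmul_D (k R : Type u) [Field k] [CommRing R] [Algebra k R] [IsLocalRing R]
    (hR : Function.Bijective (algebraMap k (ResidueField R)))
    (t : ResidueField R ⊗[R] Ω[R⁄k]) :
    ∃ a ∈ maximalIdeal R, t = (1 : ResidueField R) ⊗ₜ[R] (KaehlerDifferential.D k R a) := by
  have hI : RingHom.ker (algebraMap R (ResidueField R)) = maximalIdeal R := IsLocalRing.ker_residue
  obtain ⟨z, rfl⟩ := (kerCotangentToTensor_bijective k R hR).2 t
  obtain ⟨⟨a, ha⟩, rfl⟩ := Ideal.toCotangent_surjective _ z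
  exact ⟨a, hI ▸ ha, kerCotangentToTensor_toCotangent _ _ _ _⟩


section Gamma

variable (k R S : Type u) [Field k] [CommRing R] [CommRing S] [Algebra k R] [Algebra k S]
  [Algebra R S] [IsScalarTower k R S] [IsLocalRing R] [IsLocalRing S]
  [IsLocalHom (algebraMap R S)]

/-- the comparison `κ_R ⊗_R Ω_{R/k} → κ_S ⊗_S (S ⊗_R Ω_{R/k})` -/
noncomputable def iota : ResidueField R ⊗[R] Ω[R⁄k] →ₗ[R] ResidueField S ⊗[S] (S ⊗[R] Ω[R⁄k]) :=
  ((AlgebraTensorModule.cancelBaseChange R S S (ResidueField S) Ω[R⁄k]).symm.toLinearMap.restrictScalars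
    R) ∘ₗ
    (LinearMap.rTensor Ω[R⁄k]
      (IsScalarTower.toAlgHom R (ResidueField R) (ResidueField S)).toLinearMap)

theorem iota_one_tmul (ω : Ω[R⁄k]) :
    iota k R S ((1 : ResidueField R) ⊗ₜ[R] ω) = (1 : ResidueField S) ⊗ₜ[S] ((1 : S) ⊗ₜ[R] ω) := by
  simp [iota]

theorem iota_bijective (hR : Function.Bijective (algebraMap k (ResidueField R)))
    (hS : Function.Bijective (algebraMap k (ResidueField S))) :
    Function.Bijective (iota k R S) := by
  have hb : Function.Bijective (algebraMap (ResidueField R) (ResidueField S)) := by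
    refine ⟨(algebraMap (ResidueField R) (ResidueField S)).injective, fun y => ?_⟩
    obtain ⟨c, rfl⟩ := hS.2 y
    exact ⟨algebraMap k (ResidueField R) c,
      (IsScalarTower.algebraMap_apply k (ResidueField R) (ResidueField S) c).symm⟩
  let e : ResidueField R ≃ₗ[R] ResidueField S :=
    LinearEquiv.ofBijective (IsScalarTower.toAlgHom R (ResidueField R) (ResidueField S)).toLinearMap hb
  have h1 : Function.Bijective (LinearMap.rTensor Ω[R⁄k]
      (IsScalarTower.toAlgHom R (ResidueField R) (ResidueField S)).toLinearMap) :=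
    (LinearEquiv.rTensor Ω[R⁄k] e).bijective
  exact (AlgebraTensorModule.cancelBaseChange R S S (ResidueField S) Ω[R⁄k]).symm.bijective.comp h1

theorem lTensor_mapBaseChange_iota (a : R) :
    (mapBaseChange k R S).lTensor (ResidueField S)
      (iota k R S ((1 : ResidueField R) ⊗ₜ[R] KaehlerDifferential.D k R a)) =
      (1 : ResidueField S) ⊗ₜ[S] KaehlerDifferential.D k S (algebraMap R S a) := by
  rw [iota_one_tmul, LinearMap.lTensor_tmul, mapBaseChange_tmul, one_smul, map_D]

theorem lTensor_injective_iff (hR : Function.Bijective (algebraMap k (ResidueField R)))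
    (hS : Function.Bijective (algebraMap k (ResidueField S))) :
    Function.Injective ((mapBaseChange k R S).lTensor (ResidueField S)) ↔
      ∀ a ∈ maximalIdeal R, algebraMap R S a ∈ maximalIdeal S ^ 2 → a ∈ maximalIdeal R ^ 2 := by
  have hloc : ∀ a ∈ maximalIdeal R, algebraMap R S a ∈ maximalIdeal S := fun a ha =>
    ((IsLocalRing.local_hom_TFAE (algebraMap R S)).out 0 2 rfl rfl).mp inferInstance
      (Ideal.mem_map_of_mem _ ha)
  constructor
  · intro hinj a ha hsq
    rw [mem_sq_iff k R hR a ha]
    rw [mem_sq_iff k S hS _ (hloc a ha), ← lTensor_mapBaseChange_iota] at hsq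
    have h2 := hinj (hsq.trans (map_zero _).symm)
    exact (iota_bijective k R S hR hS).1 (h2.trans (map_zero _).symm)
  · intro h
    rw [injective_iff_map_eq_zero]
    intro t ht
    obtain ⟨t', rfl⟩ := (iota_bijective k R S hR hS).2 t
    obtain ⟨a, ha, rfl⟩ := exists_eq_one_tmul_D k R hR t'
    rw [lTensor_mapBaseChange_iota, ← mem_sq_iff k S hS _ (hloc a ha)] at ht
    have := (mem_sq_iff k R hR a ha).mp (h a ha ht)
    rw [this, map_zero]

end Gamma


section Main

variable (k R S : Type u) [Field k] [CommRing R] [CommRing S] [Algebra k R] [Algebra k S]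
  [Algebra R S] [IsScalarTower k R S]

/-- `S` formally smooth over `k` with `Ω_{S/k}` projective: `S` is formally smooth over `R` iff
`S ⊗_R Ω_{R/k} → Ω_{S/k}` has a retraction. -/
theorem formallySmooth_iff_exists_retraction [Algebra.FormallySmooth k S] :
    Algebra.FormallySmooth R S ↔ ∃ l', l' ∘ₗ (mapBaseChange k R S) = LinearMap.id := by
  have hex := KaehlerDifferential.exact_mapBaseChange_map k R S
  have hsurj := KaehlerDifferential.map_surjective k R S
  have htfae := hex.split_tfae'
  constructor
  · intro hsm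
    have hinj := Groth.Agent.Lib.Helper48.Conormal.mapBaseChange_injective_of_formallySmooth k R S
    obtain ⟨l, hl⟩ := Module.projective_lifting_property (KaehlerDifferential.map k R S S)
      (LinearMap.id : Ω[S⁄R] →ₗ[S] Ω[S⁄R]) hsurj
    exact ((htfae.out 0 1 rfl rfl).mp ⟨hinj, l, hl⟩).2
  · intro hl'
    obtain ⟨hinj, l, hl⟩ := (htfae.out 0 1 rfl rfl).mpr ⟨hsurj, hl'⟩
    haveI : Module.Projective S Ω[S⁄R] := Module.Projective.of_split l _ hl
    refine ⟨inferInstance, ?_⟩
    have h1 := Algebra.H1Cotangent.exact_map_δ k R S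
    have h2 := Algebra.H1Cotangent.exact_δ_mapBaseChange k R S
    constructor
    intro a b
    have hδ : ∀ c : Algebra.H1Cotangent R S, Algebra.H1Cotangent.δ k R S c = 0 := by
      intro c
      apply hinj
      rw [map_zero]
      exact (h2 _).mpr ⟨c, rfl⟩
    have hz : ∀ c : Algebra.H1Cotangent R S, c = 0 := by
      intro c
      obtain ⟨y, hy⟩ := (h1 c).mp (hδ c)
      rw [← hy, Subsingleton.elim y 0, map_zero]
    rw [hz a, hz b]

variable [IsLocalRing R] [IsLocalRing S] [IsLocalHom (algebraMap R S)]

open IsLocalRing in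
/-- **Tangent criterion**: for local `k`-algebras with residue field `k`, `S` formally smooth
over `k` with finite differentials, `S` is formally smooth over `R` iff the cotangent map is
injective. -/
theorem formallySmooth_iff_cotangent [Algebra.FormallySmooth k S] [Module.Finite R Ω[R⁄k]]
    [Module.Finite S Ω[S⁄k]]
    (hR : Function.Bijective (algebraMap k (ResidueField R)))
    (hS : Function.Bijective (algebraMap k (ResidueField S))) :
    Algebra.FormallySmooth R S ↔
      ∀ a ∈ maximalIdeal R, algebraMap R S a ∈ maximalIdeal S ^ 2 → a ∈ maximalIdeal R ^ 2 := by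
  haveI : Module.Free S Ω[S⁄k] := Module.free_of_flat_of_isLocalRing
  rw [formallySmooth_iff_exists_retraction k R S, ← lTensor_injective_iff k R S hR hS,
    IsLocalRing.split_injective_iff_lTensor_residueField_injective]

end Main

end L1

/-- Residue fields at closed points of a scheme locally of finite type over an algebraically
closed field `k` are `k`. -/
theorem bijective_algebraMap_residueField_stalk {k : Type u} [Field k] [IsAlgClosed k]
    {X : Scheme.{u}} (q : X ⟶ Spec (CommRingCat.of k)) [LocallyOfFiniteType q] (x : X)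
    (hx : IsClosed ({x} : Set X)) :
    letI := stalkAlg q x
    Function.Bijective (algebraMap k (IsLocalRing.ResidueField (X.presheaf.stalk x))) := by
  letI := stalkAlg q x
  obtain ⟨_, ⟨V, hV, rfl⟩, hxV, -⟩ :=
    X.isBasis_affineOpens.exists_subset_of_mem_open (Set.mem_univ x) isOpen_univ
  letI aB : Algebra k Γ(X, V) :=
    ((X.presheaf.map (homOfLE (le_top : V ≤ ⊤)).op).hom.comp (Coh.toGlobal q)).toAlgebra
  have hft : Algebra.FiniteType k Γ(X, V) := by
    rw [← RingHom.finiteType_algebraMap]
    have h1 : (q.appLE ⊤ V le_top).hom.FiniteType :=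
      q.finiteType_appLE (isAffineOpen_top _) hV le_top
    have h2 : (Scheme.ΓSpecIso (CommRingCat.of k)).inv.hom.FiniteType :=
      RingHom.FiniteType.of_surjective _
        (ConcreteCategory.bijective_of_isIso (Scheme.ΓSpecIso (CommRingCat.of k)).inv).2
    exact h1.comp h2
  set m := (hV.primeIdealOf ⟨x, hxV⟩).asIdeal with hm
  haveI hmax : m.IsMaximal := hV.primeIdealOf_isMaximal_of_isClosed ⟨x, hxV⟩ hx
  letI aBS := X.presheaf.algebra_section_stalk ⟨x, hxV⟩
  haveI hloc : IsLocalization.AtPrime (X.presheaf.stalk x) m := hV.isLocalization_stalk ⟨x, hxV⟩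
  haveI : IsScalarTower k Γ(X, V) (X.presheaf.stalk x) := IsScalarTower.of_algebraMap_eq (by
    intro c
    change (X.presheaf.germ ⊤ x trivial).hom (Coh.toGlobal q c) =
      (X.presheaf.germ V x hxV).hom ((X.presheaf.map (homOfLE (le_top : V ≤ ⊤)).op).hom
        (Coh.toGlobal q c))
    exact (TopCat.Presheaf.germ_res_apply X.presheaf (homOfLE (le_top : V ≤ ⊤)) x hxV _).symm)
  let ε : Localization.AtPrime m ≃ₐ[Γ(X, V)] X.presheaf.stalk x :=
    IsLocalization.algEquiv m.primeCompl _ _
  have h1 := Groth.Agent.Lib.Helper65.RegularSmooth.bijective_algebraMap_residueField_of_isAlgClosed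
    k Γ(X, V) m
  have h2 : Function.Bijective (IsLocalRing.ResidueField.mapEquiv ε.toRingEquiv) :=
    (IsLocalRing.ResidueField.mapEquiv ε.toRingEquiv).bijective
  have h3 : (algebraMap k (IsLocalRing.ResidueField (X.presheaf.stalk x)) : k → _) =
      (IsLocalRing.ResidueField.mapEquiv ε.toRingEquiv) ∘
        (algebraMap k (IsLocalRing.ResidueField (Localization.AtPrime m))) := by
    funext c
    change IsLocalRing.residue _ (algebraMap k (X.presheaf.stalk x) c) =
      IsLocalRing.ResidueField.map (ε.toRingEquiv : _ →+* _)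
        (IsLocalRing.residue _ (algebraMap k (Localization.AtPrime m) c))
    rw [IsLocalRing.ResidueField.map_residue]
    congr 1
    rw [IsScalarTower.algebraMap_apply k Γ(X, V) (X.presheaf.stalk x),
      IsScalarTower.algebraMap_apply k Γ(X, V) (Localization.AtPrime m)]
    exact (ε.commutes _).symm
  rw [h3]
  exact h2.comp h1


/-- injectivity of a cotangent map in terms of elements -/
theorem mapCotangent_injective_iff {R₀ A B : Type*} [CommRing R₀] [CommRing A] [CommRing B]
    [Algebra R₀ A] [Algebra R₀ B] (I₁ : Ideal A) (I₂ : Ideal B) (g : A →ₐ[R₀] B)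
    (h : I₁ ≤ I₂.comap g) :
    Function.Injective (Ideal.mapCotangent I₁ I₂ g h) ↔
      ∀ a ∈ I₁, g a ∈ I₂ ^ 2 → a ∈ I₁ ^ 2 := by
  constructor
  · intro hinj a ha hsq
    have h1 : Ideal.mapCotangent I₁ I₂ g h (I₁.toCotangent ⟨a, ha⟩) = 0 := by
      rw [Ideal.mapCotangent_toCotangent, Ideal.toCotangent_eq_zero]
      exact hsq
    have h2 := hinj (h1.trans (map_zero _).symm)
    exact (Ideal.toCotangent_eq_zero _ _).mp h2
  · intro hc
    rw [injective_iff_map_eq_zero]
    intro z hz
    obtain ⟨⟨a, ha⟩, rfl⟩ := Ideal.toCotangent_surjective _ z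
    rw [Ideal.mapCotangent_toCotangent, Ideal.toCotangent_eq_zero] at hz
    exact (Ideal.toCotangent_eq_zero _ _).mpr (hc a ha hz)

theorem stalkMapAt_rfl {A X : Scheme.{u}} (f : A ⟶ X) (z : A) (a : X.presheaf.stalk (f z)) :
    FixPt.stalkMapAt f z (f z) rfl a = (f.stalkMap z).hom a := by
  unfold FixPt.stalkMapAt
  have : (X.presheaf.stalkCongr (Inseparable.of_eq (rfl : f z = f z))).inv = 𝟙 _ := by
    simp [TopCat.Presheaf.stalkCongr]
  rw [this, Category.id_comp]

open IsLocalRing in
/-- The tangent criterion at a closed point. -/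
theorem mem_smoothLocus_iff_cotangent (k : Type u) [Field k] [IsAlgClosed k]
    {X Y : Scheme.{u}} (qX : X ⟶ Spec (CommRingCat.of k)) (qY : Y ⟶ Spec (CommRingCat.of k))
    [LocallyOfFiniteType qX] [Smooth qX] [LocallyOfFiniteType qY]
    (f : X ⟶ Y) (hf : f ≫ qY = qX) [LocallyOfFinitePresentation f] (x : X)
    (hx : IsClosed ({x} : Set X)) :
    x ∈ f.smoothLocus ↔ Function.Injective (FixPt.cotangentMapAt f x (f.base x) rfl) := by
  subst hf
  letI aR := stalkAlg qY (f x)
  letI aS := stalkAlg (f ≫ qY) x
  letI aRS : Algebra (Y.presheaf.stalk (f x)) (X.presheaf.stalk x) := (f.stalkMap x).hom.toAlgebra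
  haveI : IsLocalHom (algebraMap (Y.presheaf.stalk (f x)) (X.presheaf.stalk x)) :=
    inferInstanceAs (IsLocalHom (f.stalkMap x).hom)
  haveI : IsScalarTower k (Y.presheaf.stalk (f x)) (X.presheaf.stalk x) :=
    IsScalarTower.of_algebraMap_eq (by
      intro c
      change (X.presheaf.germ ⊤ x trivial).hom (Coh.toGlobal (f ≫ qY) c) =
        (f.stalkMap x).hom ((Y.presheaf.germ ⊤ (f x) trivial).hom (Coh.toGlobal qY c))
      have h1 := Scheme.Hom.germ_stalkMap_apply f ⊤ x trivial (Coh.toGlobal qY c)
      rw [h1]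
      rfl)
  haveI : Algebra.FormallySmooth k (X.presheaf.stalk x) :=
    (mem_smoothLocus_iff_formallySmooth_stalk (f ≫ qY) x).mp (by
      rw [Scheme.Hom.smoothLocus_eq_top]; trivial)
  haveI := essFiniteType_stalk qY (f x)
  haveI := essFiniteType_stalk (f ≫ qY) x
  have hS := bijective_algebraMap_residueField_stalk (f ≫ qY) x hx
  have hR : Function.Bijective (algebraMap k (ResidueField (Y.presheaf.stalk (f x)))) := by
    have hcomp : (algebraMap k (ResidueField (X.presheaf.stalk x)) : k → _) =
        (algebraMap (ResidueField (Y.presheaf.stalk (f x))) (ResidueField (X.presheaf.stalk x))) ∘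
          (algebraMap k (ResidueField (Y.presheaf.stalk (f x)))) := by
      funext c
      exact IsScalarTower.algebraMap_apply k (ResidueField (Y.presheaf.stalk (f x)))
        (ResidueField (X.presheaf.stalk x)) c
    have hinj : Function.Injective (algebraMap (ResidueField (Y.presheaf.stalk (f x)))
        (ResidueField (X.presheaf.stalk x))) := RingHom.injective _
    refine ⟨RingHom.injective _, fun y => ?_⟩
    obtain ⟨c, hc⟩ := hS.2 (algebraMap (ResidueField (Y.presheaf.stalk (f x)))
      (ResidueField (X.presheaf.stalk x)) y)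
    refine ⟨c, hinj ?_⟩
    rw [← hc, hcomp]
    rfl
  rw [Scheme.Hom.mem_smoothLocus]
  change Algebra.FormallySmooth (Y.presheaf.stalk (f x)) (X.presheaf.stalk x) ↔ _
  rw [formallySmooth_iff_cotangent k (Y.presheaf.stalk (f x)) (X.presheaf.stalk x) hR hS]
  unfold FixPt.cotangentMapAt
  rw [mapCotangent_injective_iff]
  refine forall₂_congr fun a ha => ?_
  have : (FixPt.stalkMapAt f x (f x) rfl).toIntAlgHom a =
      algebraMap (Y.presheaf.stalk (f x)) (X.presheaf.stalk x) a := stalkMapAt_rfl f x a
  rw [this]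

open Groth.Agent.Lib.Helper22.SmoothDim in

/-- (a)⇔(c): let k be an algebraically closed field, X and Y nonsingular varieties over k (integral,
separated, of finite type and smooth over k) with dim Y = dY and dim X = dY + n, and f : X → Y a
k-morphism. Then f is smooth of relative dimension n if and only if for every closed point x of X
the tangent map T_x f : T_x X → T_{f(x)} Y is surjective — equivalently, the cotangent map
m_{f(x)}/m_{f(x)}^2 → m_x/m_x^2 of the local rings is injective. -/
theorem result (k : Type u) [Field k] [IsAlgClosed k]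
    {X Y : Scheme.{u}} (qX : X ⟶ Spec (CommRingCat.of k)) (qY : Y ⟶ Spec (CommRingCat.of k))
    [IsIntegral X] [IsSeparated qX] [LocallyOfFiniteType qX] [QuasiCompact qX] [Smooth qX]
    [IsIntegral Y] [IsSeparated qY] [LocallyOfFiniteType qY] [QuasiCompact qY] [Smooth qY]
    (f : X ⟶ Y) (hf : f ≫ qY = qX) (n dY : ℕ) (hY : topologicalKrullDim ↥Y = dY)
    (hX : topologicalKrullDim ↥X = ((dY + n : ℕ) : WithBot ℕ∞)) :
    SmoothOfRelativeDimension n f ↔
      ∀ x : X, IsClosed ({x} : Set ↥X) → Function.Injective (FixPt.cotangentMapAt f x (f.base x) rfl) := by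
  haveI : LocallyOfFiniteType (f ≫ qY) := by rw [hf]; infer_instance
  haveI : LocallyOfFiniteType f := locallyOfFiniteType_of_comp f qY
  haveI : IsLocallyNoetherian Y := LocallyOfFiniteType.isLocallyNoetherian qY
  haveI : LocallyOfFinitePresentation f := inferInstance
  constructor
  · intro h x hx
    haveI : Smooth f := SmoothOfRelativeDimension.smooth n f
    rw [← mem_smoothLocus_iff_cotangent k qX qY f hf x hx, Scheme.Hom.smoothLocus_eq_top]
    trivial
  · intro h
    have hclosed : ∀ x : X, IsClosed ({x} : Set X) → x ∈ f.smoothLocus := fun x hx =>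
      (mem_smoothLocus_iff_cotangent k qX qY f hf x hx).mpr (h x hx)
    haveI : JacobsonSpace X := LocallyOfFiniteType.jacobsonSpace qX
    have htop : f.smoothLocus = ⊤ := by
      by_contra hne
      have hZ : ((f.smoothLocus : Set X)ᶜ).Nonempty := by
        rw [Set.nonempty_compl]
        intro hU
        apply hne
        ext y
        simp [← SetLike.mem_coe, hU]
      obtain ⟨x, hxZ, hxc⟩ := nonempty_inter_closedPoints hZ
        (f.smoothLocus.isOpen.isClosed_compl.isLocallyClosed)
      exact hxZ (hclosed x hxc)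
    haveI : Smooth f := Scheme.Hom.smoothLocus_eq_top_iff.mp htop
    constructor
    intro x
    obtain ⟨U, hU, V, hV, hxV, e, hstd⟩ := Smooth.exists_isStandardSmooth f x
    obtain ⟨m, hm⟩ : ∃ m, (f.appLE U V e).hom.IsStandardSmoothOfRelativeDimension m := by
      letI := (f.appLE U V e).hom.toAlgebra
      obtain ⟨ι, σ, h1, h2, ⟨P⟩⟩ := hstd
      exact ⟨_, ι, σ, h1, h2, P, rfl⟩
    have h1 := fibreDimAt_eq_of_appLE_isStandardSmoothOfRelativeDimension f m U hU V hV e hm x hxV
    have h2 := localDim_eq_add_fibreDimAt_of_smooth f x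
    rw [Groth.Agent.S12422.localDim_eq_topologicalKrullDim qX x,
      Groth.Agent.S12422.localDim_eq_topologicalKrullDim qY (f x), hX, hY, h1] at h2
    have h3 : ((dY + n : ℕ) : WithBot ℕ∞) = ((dY + m : ℕ) : WithBot ℕ∞) := by
      rw [h2]; push_cast; rfl
    have h4 : dY + n = dY + m := by exact_mod_cast h3
    have h5 : m = n := by omega
    subst h5
    exact ⟨U, hU, V, hV, hxV, e, hm⟩


end Groth.Agent.S10936
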