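import Groth.Statements.S10940
import Mathlib
import Groth.Agent.Lib.Helper93.ProjAvoid3

set_option autoImplicit false
universe u
open CategoryTheory CategoryTheory.Limits AlgebraicGeometry
open Variety

namespace Groth.Agent.S10940

/-- Let k be a field and X a quasi-projective variety over k of dimension r: an integral scheme with an
immersion j : X → P^n_k. Then X admits a cover by r + 1 affine open subschemes. (Consequently the
cohomology of every quasi-coherent O_X-module vanishes above degree r; that consequence is the
general vanishing above the number of affines in a cover and is not restated here. The published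
statement is for varieties over an algebraically closed field; the argument, r + 1 hypersurfaces
through the boundary of the closure of X, works over any field, so k is an arbitrary field here.) -/
theorem result (k : Type u) [Field k] (n r : ℕ)
    {X : Scheme.{u}} (j : X ⟶ CohB1.ProjSpace n k) [IsImmersion j] [IsIntegral X]
    (hX : topologicalKrullDim ↥X = r) :
    ∃ U : Fin (r + 1) → X.Opens, (∀ i, IsAffineOpen (U i)) ∧ ⨆ i, U i = ⊤ := by
  classical
  -- the range of `j` is locally closed with generic point `η`
  have hlc : IsLocallyClosed (Set.range j.base) := j.isLocallyClosed_range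
  have hgen : IsGenericPoint (j.base (genericPoint X)) (closure (Set.range j.base)) := by
    have := (genericPoint_spec X).image j.continuous
    rwa [Set.image_univ] at this
  have hdim : topologicalKrullDim ↥(Set.range j.base) = r := by
    rw [← hX]
    exact (IsHomeomorph.topologicalKrullDim_eq _
      j.isEmbedding.toHomeomorph.isHomeomorph).symm
  have hsub : Set.range j.base ⊆ closure {j.base (genericPoint X)} := by
    rw [hgen.def]; exact subset_closure
  obtain ⟨h, h1, h2, h3⟩ :=
    Groth.Agent.Lib.Helper93.ProjAvoid.exists_hypersurfaces_of_isLocallyClosed n k
      (Set.range j.base) hlc (j.base (genericPoint X)) ⟨_, rfl⟩ hsub r hdim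
  let D : Fin (r + 1) → (CohB1.ProjSpace n k).Opens :=
    fun i => Proj.basicOpen (CohB1.polyGrading n k) (h i)
  refine ⟨fun i => j ⁻¹ᵁ (D i), ?_, ?_⟩
  · intro i
    obtain ⟨d, hd, hmem⟩ := h1 i
    have hU : IsAffineOpen (X := CohB1.ProjSpace n k) (D i) :=
      Proj.isAffineOpen_basicOpen (CohB1.polyGrading n k) (h i) hmem hd
    have hclosed : IsClosed (Set.range (j ∣_ (D i)).base) := by
      have e1 : Set.range (j ∣_ (D i)).base = Subtype.val ⁻¹' Set.range j.base := by
        rw [morphismRestrict_base]
        exact Set.range_restrictPreimage _ _
      have e2 : (Subtype.val ⁻¹' Set.range j.base : Set ↥(D i)) =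
          Subtype.val ⁻¹' closure (Set.range j.base) := by
        ext x
        simp only [Set.mem_preimage]
        constructor
        · exact fun hx => subset_closure hx
        · intro hx
          refine h3 i _ hx ?_
          exact (Proj.mem_basicOpen (CohB1.polyGrading n k) (h i) _).mp x.2
      rw [e1, e2]
      exact isClosed_closure.preimage continuous_subtype_val
    have hci : IsClosedImmersion (j ∣_ (D i)) := IsClosedImmersion.of_isPreimmersion _ hclosed
    have : IsAffine ↑(D i) := hU
    exact isAffine_of_isAffineHom (j ∣_ (D i))
  · rw [eq_top_iff]
    intro x _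
    rw [TopologicalSpace.Opens.mem_iSup]
    obtain ⟨i, hi⟩ := h2 (j.base x) ⟨x, rfl⟩
    exact ⟨i, (Proj.mem_basicOpen (CohB1.polyGrading n k) (h i) _).mpr hi⟩

end Groth.Agent.S10940
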