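import Groth.Statements.S10942
import Groth.Agent.Lib.Helper68.TotAcycFlasque
import Groth.Agent.Lib.Helper68.SheafHomFlasque
import Groth.Agent.Lib.Helper68.InjModAcyclic

set_option autoImplicit false
universe u
open CategoryTheory AlgebraicGeometry Opposite
open Coherent

namespace Groth.Agent.S10942

/-- Let X be a scheme, F an O_X-module for which the internal Hom functor Hom(F, -) exists (as the right
adjoint of F ⊗ -; always true) and I an injective object of the category of O_X-modules. Then the
O_X-module Hom(F, I) is flasque: for all opens U ⊆ V of X the restriction map Hom(F, I)(V) → Hom(F,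
I)(U) is surjective. -/
theorem result (X : Scheme.{u}) (F I : X.Modules)
    [DCoh.HasSheafHom F] (hI : Injective I) (U V : X.Opens) (hUV : U ≤ V) :
    Function.Surjective (((DCoh.sheafHom F).obj I).val.map (homOfLE hUV).op).hom := by
  haveI : ModSite.HasSheafHom (O := X.sheaf) F :=
    Groth.Agent.Lib.Helper42.TensorColim.hasSheafHom X.sheaf F
  let adj1 : (ModSite.tensorBi X.sheaf).obj F ⊣ DCoh.sheafHom F := DCoh.sheafHomAdj F
  let adj2 : (ModSite.tensorBi X.sheaf).obj F ⊣ ModSite.sheafHom (O := X.sheaf) F :=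
    (ModSite.sheafHomAdj (O := X.sheaf) F).ofNatIsoLeft
      (Groth.Agent.Lib.Helper42.Flat.tensLRIso X.sheaf F).symm
  let e : DCoh.sheafHom F ≅ ModSite.sheafHom (O := X.sheaf) F := adj1.rightAdjointUniq adj2
  have h1 : CohCx.IsTotallyAcyclic (ModSite.toAb ((ModSite.sheafHom (O := X.sheaf) F).obj I)) :=
    @Groth.Agent.Lib.Helper68.SheafHomFlasque.isTotallyAcyclic_sheafHom _ _ _ X.sheaf F I _ hI
  have h2 : CohCx.IsTotallyAcyclic
      (ModSite.toAb (O := X.sheaf) ((DCoh.sheafHom F).obj I)) :=
    Groth.Agent.Lib.Helper68.InjModAcyclic.isTotallyAcyclic_of_iso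
      ((SheafOfModules.toSheaf _).mapIso (e.app I).symm) h1
  have : Mono (homOfLE hUV) := ⟨fun _ _ _ => Subsingleton.elim _ _⟩
  exact Groth.Agent.Lib.Helper68.TotAcycFlasque.surjective_map_of_mono _ h2 (homOfLE hUV)

end Groth.Agent.S10942
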