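import Groth.Statements.S10944
import Mathlib.AlgebraicGeometry.Morphisms.UniversallyOpen
-- import your own Groth.Agent.* helpers here

set_option autoImplicit false
universe u
open CategoryTheory AlgebraicGeometry
open FlatMor

namespace Groth.Agent.S10944

/-- Let f : X → Y be a flat morphism of Noetherian schemes and Y' an irreducible component of Y. Then
f⁻¹(Y') is the union of the irreducible components Z of X with f(Z) ⊆ Y'. -/
theorem result {X Y : Scheme.{u}}
    [IsNoetherian X] [IsNoetherian Y] (f : X ⟶ Y) [Flat f]
    (Y' : Set ↥Y) (hY' : Y' ∈ irreducibleComponents ↥Y) :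
    f.base ⁻¹' Y' = ⋃₀ {Z : Set ↥X | Z ∈ irreducibleComponents ↥X ∧ f.base '' Z ⊆ Y'} := by
  have hgen : GeneralizingMap f.base := Flat.generalizingMap f
  ext x
  simp only [Set.mem_preimage, Set.mem_sUnion, Set.mem_ofPred_eq]
  constructor
  · intro hx
    have hY'irr : IsIrreducible Y' := hY'.1
    have hY'cl : IsClosed Y' := isClosed_of_mem_irreducibleComponents _ hY'
    have hξ : IsGenericPoint hY'irr.genericPoint Y' := hY'irr.isGenericPoint_genericPoint hY'cl
    have h1 : hY'irr.genericPoint ⤳ f.base x := by
      rw [specializes_iff_mem_closure, hξ.def]; exact hx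
    obtain ⟨x', hx'x, hfx'⟩ := hgen h1
    have hZ : irreducibleComponent x' ∈ irreducibleComponents X :=
      irreducibleComponent_mem_irreducibleComponents x'
    have hZirr := hZ.1
    have hZcl := isClosed_of_mem_irreducibleComponents _ hZ
    refine ⟨irreducibleComponent x', ⟨hZ, ?_⟩, ?_⟩
    · have hη : IsGenericPoint hZirr.genericPoint (irreducibleComponent x') :=
        hZirr.isGenericPoint_genericPoint hZcl
      have h2 : hZirr.genericPoint ⤳ x' := by
        rw [specializes_iff_mem_closure, hη.def]; exact mem_irreducibleComponent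
      have h3 : f.base hZirr.genericPoint ⤳ hY'irr.genericPoint := by
        rw [← hfx']; exact h2.map f.continuous
      have h4 : Y' ⊆ closure {f.base hZirr.genericPoint} := by
        rw [← hξ.def]
        exact closure_minimal (Set.singleton_subset_iff.mpr (specializes_iff_mem_closure.mp h3))
          isClosed_closure
      have heq : closure {f.base hZirr.genericPoint} = Y' :=
        (hY'.2 isIrreducible_singleton.closure h4).antisymm h4
      rintro _ ⟨z, hz, rfl⟩
      have h5 : hZirr.genericPoint ⤳ z := by
        rw [specializes_iff_mem_closure, hη.def]; exact hz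
      rw [← heq]
      exact specializes_iff_mem_closure.mp (h5.map f.continuous)
    · exact hx'x.mem_closed hZcl mem_irreducibleComponent
  · rintro ⟨Z, ⟨hZ, hfZ⟩, hxZ⟩
    exact hfZ ⟨x, hxZ, rfl⟩

end Groth.Agent.S10944
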