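import Groth.Statements.S10945
import Mathlib
-- import your own Groth.Agent.* helpers here

set_option autoImplicit false
universe u
open CategoryTheory AlgebraicGeometry Opposite
open Coherent

namespace Groth.Agent.S10945

open Limits in
theorem epi_of_ext {C : Type*} [Category C] [Abelian C] (S : ShortComplex C) (hS : S.ShortExact)
    {A B P : C} (p₁ : A ⟶ S.X₁) (hp₁ : Epi p₁) (p₃ : B ⟶ S.X₃) (hp₃ : Epi p₃) (a : A ⟶ P) (b : B ⟶ P)
    (p : P ⟶ S.X₂) (ha : a ≫ p = p₁ ≫ S.f) (hb : b ≫ p ≫ S.g = p₃) : Epi p := by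
  apply Preadditive.epi_of_cancel_zero
  intro Z h hh
  have h1 : S.f ≫ h = 0 := by
    rw [← cancel_epi p₁, ← Category.assoc, ← ha, Category.assoc, hh, comp_zero, comp_zero]
  have : Epi S.g := hS.epi_g
  obtain ⟨h', rfl⟩ : ∃ h' : S.X₃ ⟶ Z, S.g ≫ h' = h := ⟨hS.exact.desc h h1, hS.exact.g_desc h h1⟩
  have h2 : p₃ ≫ h' = 0 := by
    rw [← hb, Category.assoc, Category.assoc, hh, comp_zero]
  have h3 : h' = 0 := by
    rw [← cancel_epi p₃, h2, comp_zero]
  rw [h3, comp_zero]

/-- a section from a global element -/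
noncomputable def secOfTop {X : Scheme.{u}} (M : X.Modules) (x : M.val.obj (op ⊤)) : M.sections :=
  PresheafOfModules.sectionsMk (fun U => M.val.map (homOfLE (le_top : U.unop ≤ ⊤)).op x)
    (by
      intro U V f
      rw [← PresheafOfModules.map_comp_apply]
      rfl)


/-- Let X be a scheme and 0 → F' → F → F'' → 0 a short exact sequence of O_X-modules whose map on global
sections Γ(X, F) → Γ(X, F'') is surjective. If F' and F'' are generated by global sections (each is
a quotient of a free O_X-module), then F is generated by global sections. -/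
theorem result (X : Scheme.{u})
    (S : ShortComplex X.Modules) (hS : S.ShortExact)
    (hsurj : Function.Surjective (S.g.val.app (op ⊤)).hom)
    (h1 : Curv2.IsGloballyGenerated S.X₁) (h3 : Curv2.IsGloballyGenerated S.X₃) :
    Curv2.IsGloballyGenerated S.X₂ := by
  obtain ⟨ι₁, p₁, hp₁⟩ := h1
  obtain ⟨ι₃, p₃, hp₃⟩ := h3
  -- lift sections
  have hlift : ∀ j : ι₃, ∃ t : S.X₂.sections,
      SheafOfModules.sectionsMap S.g t = S.X₃.freeHomEquiv p₃ j := by
    intro j
    obtain ⟨y, hy⟩ := hsurj ((S.X₃.freeHomEquiv p₃ j).1 (op ⊤))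
    refine ⟨secOfTop S.X₂ y, ?_⟩
    ext U
    have h1 : (S.X₃.freeHomEquiv p₃ j).1 U =
        S.X₃.val.map (homOfLE (le_top : U.unop ≤ ⊤)).op ((S.X₃.freeHomEquiv p₃ j).1 (op ⊤)) :=
      (PresheafOfModules.sections_property (S.X₃.freeHomEquiv p₃ j) _).symm
    rw [h1, ← hy]
    exact PresheafOfModules.naturality_apply S.g.val (homOfLE (le_top : U.unop ≤ ⊤)).op y
  choose t ht using hlift
  let q : (SheafOfModules.free ι₃ : X.Modules) ⟶ S.X₂ := S.X₂.freeHomEquiv.symm t
  have hq : q ≫ S.g = p₃ := by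
    rw [SheafOfModules.freeHomEquiv_symm_comp]
    apply S.X₃.freeHomEquiv.injective
    rw [Equiv.apply_symm_apply]
    funext j
    exact ht j
  -- the map from free (ι₁ ⊕ ι₃)
  let a : (SheafOfModules.free ι₁ : X.Modules) ⟶ SheafOfModules.free (ι₁ ⊕ ι₃) :=
    SheafOfModules.freeMap Sum.inl
  let b : (SheafOfModules.free ι₃ : X.Modules) ⟶ SheafOfModules.free (ι₁ ⊕ ι₃) :=
    SheafOfModules.freeMap Sum.inr
  let p : (SheafOfModules.free (ι₁ ⊕ ι₃) : X.Modules) ⟶ S.X₂ :=
    S.X₂.freeHomEquiv.symm (Sum.elim (S.X₂.freeHomEquiv (p₁ ≫ S.f)) t)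
  have ha : a ≫ p = p₁ ≫ S.f := by
    apply S.X₂.freeHomEquiv.injective
    funext i
    rw [SheafOfModules.freeHomEquiv_comp_apply, SheafOfModules.freeHomEquiv_freeMap]
    simp only [Function.comp]
    rw [SheafOfModules.sectionsMap_freeHomEquiv_symm_freeSection]
    rfl
  have hb : b ≫ p = q := by
    apply S.X₂.freeHomEquiv.injective
    funext i
    rw [SheafOfModules.freeHomEquiv_comp_apply, SheafOfModules.freeHomEquiv_freeMap]
    simp only [Function.comp]
    rw [SheafOfModules.sectionsMap_freeHomEquiv_symm_freeSection]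
    simp [q]
  refine ⟨ι₁ ⊕ ι₃, p, ?_⟩
  exact epi_of_ext S hS p₁ hp₁ p₃ hp₃ a b p ha
    ((Category.assoc b p S.g).symm.trans ((congrArg (· ≫ S.g) hb).trans hq))


end Groth.Agent.S10945
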