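import Groth.Statements.S10946
import Groth.Agent.S2128
import Groth.Agent.Lib.Helper68.HColim
import Groth.Agent.Lib.Helper42.ModSheaf

set_option autoImplicit false
universe u
open CategoryTheory AlgebraicGeometry CategoryTheory.Limits
open Coherent

namespace Groth.Agent.S10946


/-- Let X be a Noetherian separated scheme and n a natural number such that H^i(X, F) = 0 for all
coherent O_X-modules F and all i > n. Then H^i(X, G) = 0 for all quasi-coherent O_X-modules G and
all i > n. -/
theorem result (X : Scheme.{u}) [IsNoetherian X]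
    [X.IsSeparated] (n : ℕ)
    (h : ∀ F : X.Modules, Coh.IsCoh F → ∀ i : ℕ, n < i → Subsingleton (Coh.HH X F i))
    (G : X.Modules) (hG : Coh.IsQCoh G) (i : ℕ) (hi : n < i) :
    Subsingleton (Coh.HH X G i) := by
  obtain ⟨I, _, _, D, c, hc, hD, rfl⟩ := Groth.Agent.S2128.result X G hG
  obtain ⟨α, _, _, _, Φ, _⟩ := IsFiltered.exists_directed I
  have hc' : IsColimit (c.whisker Φ) := (Functor.Final.isColimitWhiskerEquiv Φ c).symm hc
  have hc'' := isColimitOfPreserves (SheafOfModules.toSheaf.{u} X.ringCatSheaf) hc'
  have : CompactSpace X.toTopCat := inferInstanceAs (CompactSpace X)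
  have : QuasiSeparatedSpace X.toTopCat := inferInstanceAs (QuasiSeparatedSpace X)
  have : PrespectralSpace X.toTopCat := inferInstanceAs (PrespectralSpace X)
  have key := Groth.Agent.Lib.Helper68.HColim.subsingleton_H_of_isColimit
    (X := X.toTopCat) (Φ ⋙ D ⋙ SheafOfModules.toSheaf.{u} X.ringCatSheaf) hc'' i
    (fun a => h (D.obj (Φ.obj a)) ⟨inferInstance, inferInstance⟩ i hi)
  exact key

end Groth.Agent.S10946
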