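import Groth.Statements.S10947
import Groth.Agent.S1108
import Groth.Agent.Lib.Helper35.VA9
import Groth.Agent.Lib.Helper35.PbAmple
import Groth.Agent.Lib.Helper63.CohDimCover
import Groth.Agent.Lib.Helper97.TwistExact2
import Groth.Agent.Lib.Helper21.CohNoeth
import Groth.Agent.Lib.Helper21.QCohKernel
import Groth.Agent.Lib.Helper15.DCohLocal
import Groth.Agent.Lib.Helper7.ProjSpaceProper

set_option autoImplicit false
universe u
open CategoryTheory AlgebraicGeometry
open Coherent

namespace Groth.Agent.S10947


open TopologicalSpace CategoryTheory.Limits in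
/-- On a quasi-compact separated scheme the cohomology of quasi-coherent modules vanishes above
a uniform bound (the size of a finite affine cover). -/
theorem exists_bound_of_compact_separated (X : Scheme.{u}) [CompactSpace X] [X.IsSeparated] :
    ∃ m : ℕ, ∀ (M : X.Modules), M.IsQuasicoherent → ∀ q : ℕ, m ≤ q → Subsingleton (Coh.HH X M q) := by
  classical
  -- a finite affine cover
  have hex : ∀ x : X, ∃ U : X.Opens, IsAffineOpen U ∧ x ∈ U := by
    intro x
    obtain ⟨_, ⟨U, hU, rfl⟩, hxU, -⟩ :=
      X.isBasis_affineOpens.exists_subset_of_mem_open (Set.mem_univ x) isOpen_univ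
    exact ⟨U, hU, hxU⟩
  choose U hU hxU using hex
  obtain ⟨t, ht⟩ := isCompact_univ.elim_finite_subcover (fun x => (U x : Set X))
    (fun x => (U x).isOpen) (fun x _ => Set.mem_iUnion.2 ⟨x, hxU x⟩)
  let 𝒜 : Set X.Opens := {V | IsAffineOpen V}
  have hinf : ∀ V ∈ 𝒜, ∀ V' ∈ 𝒜, V ⊓ V' ∈ 𝒜 := fun V hV V' hV' => IsAffineOpen.inf hV hV'
  by_cases hne : t.toList.map U = []
  · -- X is empty
    have hempty : ∀ x : X, False := by
      intro x
      have hx := ht (Set.mem_univ x)
      obtain ⟨y, hy⟩ := Set.mem_iUnion.1 hx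
      obtain ⟨hyt, -⟩ := Set.mem_iUnion.1 hy
      have : y ∈ t.toList := Finset.mem_toList.2 hyt
      have h2 : U y ∈ t.toList.map U := List.mem_map.2 ⟨y, this, rfl⟩
      rw [hne] at h2
      simp at h2
    refine ⟨1, fun M hM q hq => ?_⟩
    haveI := hM
    have hbot : (⊥ : X.Opens) ∈ 𝒜 := by
      have : (⊥ : X.Opens) = ⊤ := by
        ext x
        exact (hempty x).elim
      show IsAffineOpen (⊥ : X.Opens)
      rw [this]
      haveI : IsEmpty X := ⟨hempty⟩
      exact isAffineOpen_top X
    refine Groth.Agent.Lib.Helper63.CohDimCover.subsingleton_HH_of_list M 𝒜 (fun V hV => hV) hinf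
      [⊥] (by simpa using hbot) ?_ (by simp) q (by simpa using hq)
    intro x _
    exact (hempty x).elim
  · refine ⟨(t.toList.map U).length, fun M hM q hq => ?_⟩
    haveI := hM
    refine Groth.Agent.Lib.Helper63.CohDimCover.subsingleton_HH_of_list M 𝒜 (fun V hV => hV) hinf
      (t.toList.map U) ?_ ?_ hne q hq
    · intro V hV
      obtain ⟨y, -, rfl⟩ := List.mem_map.1 hV
      exact hU y
    · intro x _
      have hx := ht (Set.mem_univ x)
      obtain ⟨y, hy⟩ := Set.mem_iUnion.1 hx
      obtain ⟨hyt, hxy⟩ := Set.mem_iUnion.1 hy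
      have h2 : U y ∈ t.toList.map U := List.mem_map.2 ⟨y, Finset.mem_toList.2 hyt, rfl⟩
      exact Groth.Agent.Lib.Helper63.CohDimCover.le_lsup_of_mem h2 hxy

/-- Let k be a field and X a quasi-projective scheme over k, given with an immersion ι : X → P^N_k into
a projective space. If n is a natural number with H^i(X, E) = 0 for all finite locally free
O_X-modules E and all i > n, then H^i(X, F) = 0 for all coherent O_X-modules F (quasi-coherent of
finite type) and all i > n. -/
theorem result
    (k : Type u) [Field k] (N : ℕ) {X : Scheme.{u}} (ι : X ⟶ CohB1.ProjSpace N k) [IsImmersion ι]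
    (n : ℕ) (h : ∀ E : X.Modules, FlatMod.IsFinLocFree E → ∀ i : ℕ, n < i → Subsingleton (Coh.HH X E i))
    (F : X.Modules) (hF : Coh.IsCoh F) (i : ℕ) (hi : n < i) :
    Subsingleton (Coh.HH X F i) := by
  classical
  haveI : CompactSpace (CohB1.ProjSpace N k) :=
    QuasiCompact.compactSpace_of_compactSpace (CohB1.ProjSpace.toSpec N k)
  haveI : (CohB1.ProjSpace N k).IsSeparated := by
    refine ⟨?_⟩
    rw [← Limits.terminal.comp_from (CohB1.ProjSpace.toSpec N k)]
    infer_instance
  haveI : IsLocallyNoetherian (CohB1.ProjSpace N k) :=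
    LocallyOfFiniteType.isLocallyNoetherian (CohB1.ProjSpace.toSpec N k)
  haveI : IsNoetherian (CohB1.ProjSpace N k) := {}
  haveI : IsLocallyNoetherian X := LocallyOfFiniteType.isLocallyNoetherian ι
  haveI : TopologicalSpace.NoetherianSpace X := ι.isEmbedding.isInducing.noetherianSpace
  haveI : CompactSpace X := inferInstance
  haveI : X.IsSeparated := by
    refine ⟨?_⟩
    rw [← Limits.terminal.comp_from ι]
    infer_instance
  -- the resolution property
  have hamp : CohB1.IsAmple ((Scheme.Modules.pullback ι).obj (Twist.twistProjSpace N k 1)) :=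
    Groth.Agent.Lib.Helper35.PbInv.isAmple_pullback_of_isEmbedding ι ι.isEmbedding
      (Groth.Agent.Lib.Helper35.VA.isAmple_twistProjSpace N k)
  have hres := Groth.Agent.S1108.result X _ hamp
  -- the uniform bound
  obtain ⟨m, hm⟩ := exists_bound_of_compact_separated X
  -- descending induction
  have key : ∀ (d : ℕ) (F : X.Modules), Coh.IsCoh F → ∀ i : ℕ, n < i → m ≤ i + d →
      Subsingleton (Coh.HH X F i) := by
    intro d
    induction d with
    | zero =>
      intro F hF i _ hmi
      exact hm F hF.1 i (by simpa using hmi)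
    | succ d ih =>
      intro F hF i hi hmi
      obtain ⟨E, π, hE, hπ⟩ := hres F hF.1 hF.2
      haveI := hπ
      have hEc : Coh.IsCoh E := Groth.Agent.Lib.Helper15.DCohLocal.isCoh_of_isFinLocFree E hE
      haveI : E.IsQuasicoherent := hEc.1
      haveI : F.IsQuasicoherent := hF.1
      haveI : (Limits.kernel π).IsQuasicoherent :=
        Groth.Agent.Lib.Helper21.QCohKernel.isQuasicoherent_kernel π
      have hKc : Coh.IsCoh (Limits.kernel π) :=
        ⟨inferInstance, Groth.Agent.Lib.Helper21.CohNoeth.isFiniteType_of_mono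
          (Limits.kernel.ι π) hEc.2⟩
      let S : ShortComplex X.Modules := ShortComplex.mk (Limits.kernel.ι π) π (Limits.kernel.condition π)
      have hS : S.ShortExact :=
        { exact := ShortComplex.exact_of_f_is_kernel S (Limits.kernelIsKernel π)
          mono_f := inferInstanceAs (Mono (Limits.kernel.ι π))
          epi_g := hπ }
      exact Groth.Agent.Lib.Helper97.TwistExact.subsingleton_HH_X₃ hS i (h E hE i hi)
        (ih (Limits.kernel π) hKc (i + 1) (by omega) (by omega))
  exact key m F hF i hi (by omega)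

end Groth.Agent.S10947
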