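import Groth.Statements.S10948
import Groth.Agent.Lib.Helper21.GenFin5

set_option autoImplicit false
universe u
open CategoryTheory AlgebraicGeometry
open Coherent

namespace Groth.Agent.S10948

/-- Let f : X → Y be a finite surjective morphism of integral Noetherian schemes. Then there are an
integer r ≥ 1, a coherent O_X-module M (quasi-coherent of finite type) and a morphism of O_Y-modules
α : O_Y^r → f_*M (O_Y^r the free O_Y-module on r generators) such that the map induced by α on
stalks of the underlying abelian sheaves at the generic point of Y is an isomorphism. -/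
theorem result
    {X Y : Scheme.{u}} [IsIntegral X] [IsNoetherian X] [IsIntegral Y] [IsNoetherian Y]
    (f : X ⟶ Y) [IsFinite f] [Surjective f] :
    ∃ (r : ℕ) (M : X.Modules) (α : (SheafOfModules.free (ULift.{u} (Fin r)) : Y.Modules) ⟶
        (Scheme.Modules.pushforward f).obj M),
      0 < r ∧ Coh.IsCoh M ∧
      IsIso ((TopCat.Presheaf.stalkFunctor AddCommGrpCat.{u} (genericPoint ↥Y)).map
        ((SheafOfModules.toSheaf Y.ringCatSheaf).map α).hom) := by
  obtain ⟨V, hV, hηV, r, c, hr, hind, hspan⟩ := Groth.Agent.Lib.Helper21.GenFin.exists_data f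
  refine ⟨r, Groth.Agent.Lib.Helper21.GenFin.MM f V c, Groth.Agent.Lib.Helper21.GenFin.alp f V c, hr,
    Groth.Agent.Lib.Helper21.GenFin.isCoh_MM f V c, ?_⟩
  have hb : Function.Bijective ((TopCat.Presheaf.stalkFunctor AddCommGrpCat.{u} (genericPoint ↥Y)).map
      (Scheme.Modules.Hom.mapPresheaf (Groth.Agent.Lib.Helper21.GenFin.alp f V c))).hom :=
    ⟨Groth.Agent.Lib.Helper21.GenFin.injective_stalk f hV hηV c hind,
      Groth.Agent.Lib.Helper21.GenFin.surjective_stalk f hV hηV c hspan⟩
  exact (ConcreteCategory.isIso_iff_bijective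
    ((TopCat.Presheaf.stalkFunctor AddCommGrpCat.{u} (genericPoint ↥Y)).map
      (Scheme.Modules.Hom.mapPresheaf (Groth.Agent.Lib.Helper21.GenFin.alp f V c)))).2 hb

end Groth.Agent.S10948
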