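import Groth.Statements.S10953
-- import your own Groth.Agent.* helpers here

set_option autoImplicit false
universe u
open RedSep

namespace Groth.Agent.S10953

open AlgebraicGeometry CategoryTheory Limits in
set_option backward.defeqAttrib.useBackward true in
set_option backward.isDefEq.respectTransparency false in
theorem aux {X S : Scheme.{u}} [IsAffine S] (f : X ⟶ S)
    (h : ∀ x y : X, f x = f y → ∃ U : X.Opens, IsAffineOpen U ∧ x ∈ U ∧ y ∈ U) :
    IsSeparated f := by
  constructor
  let 𝒰 : S.OpenCover := Scheme.coverOfIsIso (𝟙 S)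
  let 𝒲 : X.OpenCover := X.openCoverOfIsOpenCover (fun U : X.affineOpens => U.1)
    (iSup_affineOpens_eq_top X)
  have hiso : ∀ i, IsIso (pullback.fst f (𝒰.f i)) := fun i => by
    change IsIso (pullback.fst f (𝟙 S)); infer_instance
  let 𝒱 : ∀ i, ((𝒰.pullback₁ f).X i).OpenCover := fun i =>
    𝒲.pushforwardIso (inv (pullback.fst f (𝒰.f i)))
  have : ∀ i, IsAffine (𝒰.X i) := fun i => by
    change IsAffine S; infer_instance
  have : ∀ i j, IsAffine ((𝒱 i).X j) := fun i (j : X.affineOpens) => by
    change IsAffine (j.1 : Scheme); exact j.2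
  refine IsZariskiLocalAtTarget.of_iSup_eq_top (fun i : PUnit.{0} ↦ ⊤) (by simp) fun _ ↦ ?_
  have htop : Scheme.Pullback.diagonalCoverDiagonalRange f 𝒰 𝒱 = ⊤ := by
    rw [← top_le_iff]
    rintro x -
    simp only [Scheme.Pullback.diagonalCoverDiagonalRange, TopologicalSpace.Opens.iSup_mk,
      TopologicalSpace.Opens.carrier_eq_coe, Scheme.Hom.coe_opensRange,
      TopologicalSpace.Opens.mem_mk,
      Set.mem_iUnion, Set.mem_range, Sigma.exists]
    obtain ⟨U, hU, h1, h2⟩ := h (pullback.fst f f x) (pullback.snd f f x)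
      (by rw [← Scheme.Hom.comp_apply, ← Scheme.Hom.comp_apply, pullback.condition])
    refine ⟨PUnit.unit, (⟨U, hU⟩ : X.affineOpens), ?_⟩
    simp_rw [Scheme.Pullback.diagonalCover_map]
    change x ∈ Set.range _
    have key : (𝒱 PUnit.unit).f (⟨U, hU⟩ : X.affineOpens) ≫
        pullback.fst f (𝒰.f PUnit.unit) = U.ι := by
      simp [𝒱, 𝒲]
    refine (Set.ext_iff.mp (Scheme.Pullback.range_map _ _ _ _ _ _ _ _ _) x).mpr ⟨?_, ?_⟩
    · rw [Set.mem_preimage, key]
      exact ⟨⟨_, h1⟩, rfl⟩
    · rw [Set.mem_preimage, key]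
      exact ⟨⟨_, h2⟩, rfl⟩
  rw [← htop]
  exact isClosedImmersion_diagonal_restrict_diagonalCoverDiagonalRange f 𝒰 𝒱

open AlgebraicGeometry CategoryTheory in
/-- For a morphism of schemes f : X → S to an affine scheme S such that any two points of X with the
same image in S lie in one common affine open subset of X, the morphism f is separated. -/
theorem result {X S : Scheme.{u}} [IsAffine S] (f : X ⟶ S)
    (h : ∀ x y : X, f x = f y → ∃ U : X.Opens, IsAffineOpen U ∧ x ∈ U ∧ y ∈ U) :
    IsSeparated f := aux f h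

end Groth.Agent.S10953
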