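import Groth.Statements.S10955
import Mathlib.RingTheory.Smooth.Locus
import Mathlib.RingTheory.Smooth.Local
import Mathlib.RingTheory.Kaehler.JacobiZariski
import Mathlib.RingTheory.Etale.Kaehler
-- import your own Groth.Agent.* helpers here

set_option autoImplicit false
universe u
open scoped TensorProduct
open Unram

namespace Groth.Agent.S10955

section Aux

open KaehlerDifferential Algebra

/-- Tower criterion: if `T` is formally smooth over `R`, then `T` is formally smooth over `S` iff
`T ⊗[S] Ω[S⁄R] → Ω[T⁄R]` is a split injection. -/
theorem formallySmooth_iff_split_mapBaseChange (R S T : Type u) [CommRing R] [CommRing S]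
    [CommRing T] [Algebra R S] [Algebra S T] [Algebra R T] [IsScalarTower R S T]
    [FormallySmooth R T] :
    FormallySmooth S T ↔ ∃ l, l ∘ₗ mapBaseChange R S T = LinearMap.id := by
  have hex := KaehlerDifferential.exact_mapBaseChange_map R S T
  have hsurj := KaehlerDifferential.map_surjective R S T
  have hinj : Function.Injective (mapBaseChange R S T) ↔ Subsingleton (H1Cotangent S T) := by
    constructor
    · intro hi
      refine ⟨fun a b => ?_⟩
      have hδ : Function.Injective (H1Cotangent.δ R S T) := by
        rw [injective_iff_map_eq_zero]
        intro x hx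
        obtain ⟨y, rfl⟩ := (H1Cotangent.exact_map_δ R S T x).mp hx
        rw [Subsingleton.elim y 0, map_zero]
      apply hδ
      apply hi
      rw [(H1Cotangent.exact_δ_mapBaseChange R S T _).mpr ⟨a, rfl⟩,
        (H1Cotangent.exact_δ_mapBaseChange R S T _).mpr ⟨b, rfl⟩]
    · intro hs
      rw [injective_iff_map_eq_zero]
      intro x hx
      obtain ⟨y, rfl⟩ := (H1Cotangent.exact_δ_mapBaseChange R S T x).mp hx
      rw [Subsingleton.elim y 0, map_zero]
  rw [formallySmooth_iff, and_comm,
    Module.Projective.iff_split_of_projective (KaehlerDifferential.map R S T T) hsurj, ← hinj]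
  have := (hex.split_tfae' (f := mapBaseChange R S T) (g := KaehlerDifferential.map R S T T)).out 0 1
  rw [this]
  exact and_iff_right hsurj

end Aux

section Aux2

open KaehlerDifferential Algebra TensorProduct

theorem map_map_tower (A B C S : Type u) [CommRing A] [CommRing B]
    [CommRing C] [CommRing S] [Algebra A B] [Algebra B C] [Algebra A C] [IsScalarTower A B C]
    [Algebra C S] [Algebra A S] [Algebra B S] [IsScalarTower A C S] [IsScalarTower B C S]
    [IsScalarTower A B S] (m : Ω[B⁄A]) :
    KaehlerDifferential.map A A C S (KaehlerDifferential.map A A B C m) =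
      KaehlerDifferential.map A A B S m := by
  have h : ((KaehlerDifferential.map A A C S).restrictScalars B) ∘ₗ
      (KaehlerDifferential.map A A B C) = KaehlerDifferential.map A A B S := by
    apply Derivation.liftKaehlerDifferential_unique
    ext b
    simp [← IsScalarTower.algebraMap_apply]
  exact LinearMap.congr_fun h m

variable (A B C : Type u) [CommRing A] [CommRing B]
    [CommRing C] [Algebra A B] [Algebra B C] [Algebra A C] [IsScalarTower A B C]
    (q : Ideal C) [q.IsPrime]

local notation "S" => Localization.AtPrime q
local notation "k" => q.ResidueField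

/-- left vertical iso of the square -/
noncomputable def eL : k ⊗[S] (S ⊗[B] Ω[B⁄A]) ≃ₗ[k] k ⊗[C] (C ⊗[B] Ω[B⁄A]) :=
  (AlgebraTensorModule.cancelBaseChange B S k k Ω[B⁄A]) ≪≫ₗ
    (AlgebraTensorModule.cancelBaseChange B C k k Ω[B⁄A]).symm

/-- right vertical map of the square, as a plain function -/
noncomputable def eR : k ⊗[C] Ω[C⁄A] → k ⊗[S] Ω[S⁄A] :=
  fun x => (mapBaseChange A C S).lTensor k
    ((AlgebraTensorModule.cancelBaseChange C S k k Ω[C⁄A]).symm x)

theorem eR_injective : Function.Injective (eR A C q) := by
  have : Algebra.FormallyEtale C S := Algebra.FormallyEtale.of_isLocalization q.primeCompl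
  have hb : Function.Bijective (mapBaseChange A C S) :=
    (tensorKaehlerEquivOfFormallyEtale A C S).bijective
  have h1 : Function.Injective ((mapBaseChange A C S).lTensor k) :=
    (LinearEquiv.lTensor k (LinearEquiv.ofBijective _ hb)).injective
  exact h1.comp (AlgebraTensorModule.cancelBaseChange C S k k Ω[C⁄A]).symm.injective

theorem square (x : k ⊗[S] (S ⊗[B] Ω[B⁄A])) :
    (mapBaseChange A B S).lTensor k x =
      eR A C q ((mapBaseChange A B C).lTensor k (eL A B C q x)) := by
  induction x using TensorProduct.induction_on with
  | zero => simp [eR]
  | add x y hx hy => simp only [map_add, hx, hy, eR]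
  | tmul x y =>
    induction y using TensorProduct.induction_on with
    | zero => simp [eR]
    | add y z hy hz => simp only [tmul_add, map_add, hy, hz, eR]
    | tmul s m =>
      simp only [eL, eR, LinearEquiv.trans_apply, AlgebraTensorModule.cancelBaseChange_tmul,
        AlgebraTensorModule.cancelBaseChange_symm_tmul, LinearMap.lTensor_tmul,
        mapBaseChange_tmul, one_smul, map_map_tower]
      rw [TensorProduct.smul_tmul]

end Aux2

open KaehlerDifferential Algebra TensorProduct in
theorem result' (A B C : Type u) [CommRing A] [CommRing B]
    [CommRing C] [Algebra A B] [Algebra B C] [Algebra A C] [IsScalarTower A B C]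
    [Algebra.FinitePresentation A B] [Algebra.FinitePresentation A C] (q : Ideal C) [q.IsPrime]
    (hC : Algebra.IsSmoothAt A q) :
    Algebra.IsSmoothAt B q ↔
      Function.Injective ((KaehlerDifferential.mapBaseChange A B C).lTensor q.ResidueField) := by
  have : Algebra.FormallySmooth A (Localization.AtPrime q) := hC
  have : EssFiniteType C (Localization.AtPrime q) := .of_isLocalization _ q.primeCompl
  have : EssFiniteType A (Localization.AtPrime q) := .comp _ C _
  have : Module.Free (Localization.AtPrime q) Ω[Localization.AtPrime q⁄A] :=
    Module.free_of_flat_of_isLocalRing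
  rw [Algebra.IsSmoothAt, formallySmooth_iff_split_mapBaseChange A B (Localization.AtPrime q),
    IsLocalRing.split_injective_iff_lTensor_residueField_injective]
  have hsq : ⇑((mapBaseChange A B (Localization.AtPrime q)).lTensor q.ResidueField) =
      eR A C q ∘ ⇑((mapBaseChange A B C).lTensor q.ResidueField) ∘ ⇑(eL A B C q) := by
    funext x
    exact square A B C q x
  rw [hsq, (eR_injective A C q).of_comp_iff, Function.Injective.of_comp_iff' _ (eL A B C q).bijective]

/-- Let A → B → C be ring homomorphisms with B and C finitely presented over A, let q be a prime ideal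
of C and p its inverse image in B, and assume that C is smooth over A at q and that B is smooth over
A at p. Then C is smooth over B at q if and only if the map obtained from the canonical map C ⊗_B
Ω_{B/A} → Ω_{C/A} by tensoring over C with the residue field k(q) is injective. -/
theorem result (A B C : Type u) [CommRing A] [CommRing B]
    [CommRing C] [Algebra A B] [Algebra B C] [Algebra A C] [IsScalarTower A B C]
    [Algebra.FinitePresentation A B] [Algebra.FinitePresentation A C] (q : Ideal C) [q.IsPrime]
    (hC : Algebra.IsSmoothAt A q) (hB : Algebra.IsSmoothAt A (q.under B)) :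
    Algebra.IsSmoothAt B q ↔
      Function.Injective ((KaehlerDifferential.mapBaseChange A B C).lTensor q.ResidueField) := result' A B C q hC

end Groth.Agent.S10955
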