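import Groth.Statements.S10956
import Mathlib.RingTheory.Kaehler.TensorProduct
-- import your own Groth.Agent.* helpers here

set_option autoImplicit false
universe u
open scoped TensorProduct
open CAlg

namespace Groth.Agent.S10956

section Aux

open scoped TensorProduct
open KaehlerDifferential

variable (R A B : Type u) [CommRing R] [CommRing A] [CommRing B] [Algebra R A] [Algebra R B]

noncomputable def auxBilin : A →ₗ[R] B →ₗ[R] ((A ⊗[R] B) ⊗[A] Ω[A⁄R]) :=
  LinearMap.mk₂ R (fun a b => ((1 : A) ⊗ₜ[R] b) ⊗ₜ[A] D R A a)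
    (fun a a' b => by rw [map_add, TensorProduct.tmul_add])
    (fun c a b => by rw [Derivation.map_smul, TensorProduct.tmul_smul])
    (fun a b b' => by rw [TensorProduct.tmul_add, TensorProduct.add_tmul])
    (fun c a b => by
      rw [TensorProduct.tmul_smul]; exact (TensorProduct.smul_tmul' _ _ _).symm)

noncomputable def auxLin : (A ⊗[R] B) →ₗ[R] ((A ⊗[R] B) ⊗[A] Ω[A⁄R]) :=
  TensorProduct.lift (auxBilin R A B)

@[simp]
theorem auxLin_tmul (a : A) (b : B) :
    auxLin R A B (a ⊗ₜ[R] b) = ((1 : A) ⊗ₜ[R] b) ⊗ₜ[A] D R A a := by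
  rw [auxLin, TensorProduct.lift.tmul]
  rfl

theorem auxLin_leibniz (x y : A ⊗[R] B) :
    auxLin R A B (x * y) = x • auxLin R A B y + y • auxLin R A B x := by
  induction x using TensorProduct.induction_on with
  | zero => simp
  | add x₁ x₂ h₁ h₂ =>
    rw [add_mul, map_add, h₁, h₂, add_smul, map_add, smul_add]
    abel
  | tmul a b =>
    induction y using TensorProduct.induction_on with
    | zero => simp
    | add y₁ y₂ h₁ h₂ =>
      rw [mul_add, map_add, h₁, h₂, add_smul, map_add, smul_add]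
      abel
    | tmul a' b' =>
      rw [Algebra.TensorProduct.tmul_mul_tmul, auxLin_tmul, auxLin_tmul, auxLin_tmul,
        Derivation.leibniz, TensorProduct.tmul_add, TensorProduct.tmul_smul,
        TensorProduct.tmul_smul, TensorProduct.smul_tmul', TensorProduct.smul_tmul',
        TensorProduct.smul_tmul', TensorProduct.smul_tmul', TensorProduct.smul_tmul',
        TensorProduct.smul_tmul']
      simp only [smul_eq_mul, Algebra.TensorProduct.tmul_mul_tmul, mul_one]
      rw [mul_comm b' b]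

noncomputable def auxDer : Derivation R (A ⊗[R] B) ((A ⊗[R] B) ⊗[A] Ω[A⁄R]) :=
  Derivation.mk' (auxLin R A B) (auxLin_leibniz R A B)

theorem aux :
    ∃ r : Ω[(A ⊗[R] B)⁄R] →ₗ[A ⊗[R] B] ((A ⊗[R] B) ⊗[A] Ω[A⁄R]),
      (∀ (a : A) (b : B), r (KaehlerDifferential.D R (A ⊗[R] B) (a ⊗ₜ[R] b)) =
          ((1 : A) ⊗ₜ[R] b) ⊗ₜ[A] KaehlerDifferential.D R A a) ∧
        Function.Bijective (fun ω : Ω[(A ⊗[R] B)⁄R] =>
          (r ω, KaehlerDifferential.map R A (A ⊗[R] B) (A ⊗[R] B) ω)) := by
  refine ⟨(auxDer R A B).liftKaehlerDifferential, ?_, ?_⟩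
  · intro a b
    rw [Derivation.liftKaehlerDifferential_comp_D]
    exact auxLin_tmul R A B a b
  · have hD : ∀ x, (auxDer R A B).liftKaehlerDifferential (D R (A ⊗[R] B) x) = auxLin R A B x := by
      intro x
      rw [Derivation.liftKaehlerDifferential_comp_D]
      rfl
    have hone : ∀ ω : Ω[A⁄R],
        (auxDer R A B).liftKaehlerDifferential (map R R A (A ⊗[R] B) ω) =
          (1 : A ⊗[R] B) ⊗ₜ[A] ω := by
      intro ω
      have := Derivation.liftKaehlerDifferential_unique
        (((auxDer R A B).liftKaehlerDifferential.restrictScalars A) ∘ₗ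
          (map R R A (A ⊗[R] B)))
        (TensorProduct.mk A (A ⊗[R] B) (Ω[A⁄R]) 1) (by
          ext a
          change (auxDer R A B).liftKaehlerDifferential (map R R A (A ⊗[R] B) (D R A a)) =
            (1 : A ⊗[R] B) ⊗ₜ[A] D R A a
          rw [map_D, hD, Algebra.TensorProduct.algebraMap_apply, Algebra.algebraMap_self,
            RingHom.id_apply, auxLin_tmul]
          rfl)
      exact LinearMap.congr_fun this ω
    have hsplit : ∀ y : (A ⊗[R] B) ⊗[A] Ω[A⁄R],
        (auxDer R A B).liftKaehlerDifferential (mapBaseChange R A (A ⊗[R] B) y) = y := by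
      intro y
      induction y using TensorProduct.induction_on with
      | zero => simp
      | add y₁ y₂ h₁ h₂ => rw [map_add, map_add, h₁, h₂]
      | tmul t ω =>
        rw [mapBaseChange_tmul, map_smul, hone, TensorProduct.smul_tmul', smul_eq_mul, mul_one]
    have hex := KaehlerDifferential.exact_mapBaseChange_map R A (A ⊗[R] B)
    have hsurj := KaehlerDifferential.map_surjective R A (A ⊗[R] B)
    constructor
    · intro ω₁ ω₂ h
      simp only [Prod.mk.injEq] at h
      obtain ⟨h1, h2⟩ := h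
      have h3 : map R A (A ⊗[R] B) (A ⊗[R] B) (ω₁ - ω₂) = 0 := by rw [map_sub, h2, sub_self]
      obtain ⟨y, hy⟩ := (hex _).mp h3
      have h4 : y = 0 := by
        rw [← hsplit y, hy, map_sub, h1, sub_self]
      rw [h4, map_zero] at hy
      exact (sub_eq_zero.mp hy.symm)
    · rintro ⟨y, z⟩
      obtain ⟨ω₀, hω₀⟩ := hsurj z
      refine ⟨ω₀ + mapBaseChange R A (A ⊗[R] B)
        (y - (auxDer R A B).liftKaehlerDifferential ω₀), ?_⟩
      simp only [Prod.mk.injEq]
      constructor
      · rw [map_add, hsplit]; abel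
      · rw [map_add, hω₀, (hex _).mpr ⟨_, rfl⟩, add_zero]

end Aux

/-- Let R be a commutative ring, A and B commutative R-algebras and T = A ⊗_R B, an A-algebra through
the left factor. There is a T-linear map r from Ω_{T/R} to T ⊗_A Ω_{A/R} sending d(a ⊗ b) to (1 ⊗ b)
⊗ da for all a in A and b in B, and together with the canonical map Ω_{T/R} → Ω_{T/A} it identifies
Ω_{T/R} with the product (T ⊗_A Ω_{A/R}) × Ω_{T/A}. (The published statement is the isomorphism of
(Ω_{A/R} ⊗_R B) ⊕ (A ⊗_R Ω_{B/R}) with Ω_{T/R} matching the exterior differentials; it is stated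
here through the canonical identifications T ⊗_A Ω_{A/R} = Ω_{A/R} ⊗_R B and Ω_{T/A} = A ⊗_R
Ω_{B/R}.) -/
theorem result (R A B : Type u) [CommRing R] [CommRing A] [CommRing B]
    [Algebra R A] [Algebra R B] :
    ∃ r : Ω[(A ⊗[R] B)⁄R] →ₗ[A ⊗[R] B] ((A ⊗[R] B) ⊗[A] Ω[A⁄R]),
      (∀ (a : A) (b : B), r (KaehlerDifferential.D R (A ⊗[R] B) (a ⊗ₜ[R] b)) =
          ((1 : A) ⊗ₜ[R] b) ⊗ₜ[A] KaehlerDifferential.D R A a) ∧
        Function.Bijective (fun ω : Ω[(A ⊗[R] B)⁄R] =>
          (r ω, KaehlerDifferential.map R A (A ⊗[R] B) (A ⊗[R] B) ω)) := aux R A B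

end Groth.Agent.S10956
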