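import Groth.Statements.S10959
import Mathlib

set_option autoImplicit false
set_option linter.style.haveILetI false
universe u
open CategoryTheory MonoidalCategory CartesianMonoidalCategory MonObj GrpObj AlgebraicGeometry
open AbVar

namespace Groth.Agent.S10959


section
variable {C : Type*} [Category C] [CartesianMonoidalCategory C] {A : C} [GrpObj A]

lemma toUnit_comp' {X Y : C} (f : X ⟶ Y) : f ≫ toUnit Y = toUnit X := by
  exact toUnit_unique _ _

/-- right translation followed by inverse right translation. -/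
lemma rtrans_comp (x : 𝟙_ C ⟶ A) :
    (𝟙 A * (toUnit A ≫ x)) ≫ (𝟙 A * (toUnit A ≫ x)⁻¹) = 𝟙 A := by
  rw [MonObj.comp_mul, GrpObj.comp_inv, Category.comp_id, ← Category.assoc, toUnit_comp']
  group

lemma rtrans_comp' (x : 𝟙_ C ⟶ A) :
    (𝟙 A * (toUnit A ≫ x)⁻¹) ≫ (𝟙 A * (toUnit A ≫ x)) = 𝟙 A := by
  rw [MonObj.comp_mul, Category.comp_id, ← Category.assoc, toUnit_comp']
  group

lemma pt_comp_rtrans (z x : 𝟙_ C ⟶ A) :
    z ≫ (𝟙 A * (toUnit A ≫ x)) = z * x := by
  rw [MonObj.comp_mul, Category.comp_id, ← Category.assoc, toUnit_comp']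
  have : toUnit (𝟙_ C) = 𝟙 _ := toUnit_unique _ _
  rw [this, Category.id_comp]

lemma pt_comp_rtrans_inv (z x : 𝟙_ C ⟶ A) :
    z ≫ (𝟙 A * (toUnit A ≫ x)⁻¹) = z * x⁻¹ := by
  rw [MonObj.comp_mul, GrpObj.comp_inv, Category.comp_id, ← Category.assoc, toUnit_comp']
  have : toUnit (𝟙_ C) = 𝟙 _ := toUnit_unique _ _
  rw [this, Category.id_comp]

lemma pt_comp_ltrans (z x : 𝟙_ C ⟶ A) :
    x ≫ ((toUnit A ≫ z) * 𝟙 A) = z * x := by
  rw [MonObj.comp_mul, Category.comp_id, ← Category.assoc, toUnit_comp']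
  have : toUnit (𝟙_ C) = 𝟙 _ := toUnit_unique _ _
  rw [this, Category.id_comp]

lemma pt_comp_ltrans_inv (z x : 𝟙_ C ⟶ A) :
    x ≫ ((toUnit A ≫ z) * (𝟙 A)⁻¹) = z * x⁻¹ := by
  rw [MonObj.comp_mul, GrpObj.comp_inv, Category.comp_id, ← Category.assoc, toUnit_comp']
  have : toUnit (𝟙_ C) = 𝟙 _ := toUnit_unique _ _
  rw [this, Category.id_comp]

lemma ltrans_section (z : 𝟙_ C ⟶ A) :
    ((toUnit A ≫ z)⁻¹ * 𝟙 A) ≫ ((toUnit A ≫ z) * 𝟙 A) = 𝟙 A := by
  rw [MonObj.comp_mul, Category.comp_id, ← Category.assoc, toUnit_comp']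
  group

lemma ltrans_inv_section (z : 𝟙_ C ⟶ A) :
    ((𝟙 A)⁻¹ * (toUnit A ≫ z)) ≫ ((toUnit A ≫ z) * (𝟙 A)⁻¹) = 𝟙 A := by
  rw [MonObj.comp_mul, GrpObj.comp_inv, Category.comp_id, ← Category.assoc, toUnit_comp']
  group

end


/-- Let K be an algebraically closed field and A an abelian variety over K (a group scheme over Spec K
with proper smooth structure morphism and irreducible underlying space). Let Z be a closed subset of
A which is not all of A, and z a K-valued point of A. Then there is a K-valued point x of A such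
that the point underlying z lies neither in the translate of Z by x nor in the translate of Z by the
inverse of x; here the translation by x is the morphism A → A given on points by a ↦ a·x, the
product of the identity and the constant map x in the group of morphisms into A. (The published
statement takes Z to be the support of an effective divisor; this row allows any closed subset other
than A.) -/
theorem result
    (K : Type u) [Field K] [IsAlgClosed K] (A : Over (Spec (CommRingCat.of K)))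
    [GrpObj A] [IsProper A.hom] [Smooth A.hom] [IrreducibleSpace A.left]
    (Z : Set A.left) (hZ : IsClosed Z) (hZne : Z ≠ Set.univ)
    (z : 𝟙_ (Over (Spec (CommRingCat.of K))) ⟶ A) :
    ∃ x : 𝟙_ (Over (Spec (CommRingCat.of K))) ⟶ A,
      Disjoint (Set.range z.left.base)
        ((𝟙 A * (toUnit A ≫ x)).left.base '' Z ∪ (𝟙 A * (toUnit A ≫ x)⁻¹).left.base '' Z) := by
  classical
  -- the two "translation" maps
  set φ₁ : A ⟶ A := (toUnit A ≫ z) * 𝟙 A with hφ₁
  set φ₂ : A ⟶ A := (toUnit A ≫ z) * (𝟙 A)⁻¹ with hφ₂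
  have hU : (Zᶜ).Nonempty := by
    rw [Set.nonempty_compl]; exact hZne
  obtain ⟨u, hu⟩ := hU
  have hUo : IsOpen Zᶜ := hZ.isOpen_compl
  -- preimages nonempty
  have h1 : (φ₁.left.base ⁻¹' Zᶜ).Nonempty := by
    refine ⟨((toUnit A ≫ z)⁻¹ * 𝟙 A : A ⟶ A).left.base u, ?_⟩
    have := congrArg (fun f : A ⟶ A => f.left.base u) (ltrans_section z)
    simp only [Over.comp_left, Scheme.Hom.comp_base, TopCat.hom_comp, ContinuousMap.comp_apply,
      Over.id_left, Scheme.Hom.id_base, TopCat.hom_id, ContinuousMap.id_apply] at this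
    simp only [Set.mem_preimage]
    rw [hφ₁]
    erw [this]
    exact hu
  have h2 : (φ₂.left.base ⁻¹' Zᶜ).Nonempty := by
    refine ⟨(((𝟙 A)⁻¹ * (toUnit A ≫ z) : A ⟶ A)).left.base u, ?_⟩
    have := congrArg (fun f : A ⟶ A => f.left.base u) (ltrans_inv_section z)
    simp only [Over.comp_left, Scheme.Hom.comp_base, TopCat.hom_comp, ContinuousMap.comp_apply,
      Over.id_left, Scheme.Hom.id_base, TopCat.hom_id, ContinuousMap.id_apply] at this
    simp only [Set.mem_preimage]
    rw [hφ₂]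
    erw [this]
    exact hu
  have ho1 : IsOpen (φ₁.left.base ⁻¹' Zᶜ) := hUo.preimage φ₁.left.continuous
  have ho2 : IsOpen (φ₂.left.base ⁻¹' Zᶜ) := hUo.preimage φ₂.left.continuous
  have hW : ((φ₁.left.base ⁻¹' Zᶜ) ∩ (φ₂.left.base ⁻¹' Zᶜ)).Nonempty :=
    nonempty_preirreducible_inter ho1 ho2 h1 h2
  haveI : LocallyOfFiniteType A.hom := inferInstance
  haveI : JacobsonSpace A.left := LocallyOfFiniteType.jacobsonSpace A.hom
  obtain ⟨p, ⟨hp1, hp2⟩, hpc⟩ := nonempty_inter_closedPoints hW (ho1.inter ho2).isLocallyClosed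
  have hpc' : IsClosed ({p} : Set A.left) := hpc
  let x : 𝟙_ (Over (Spec (CommRingCat.of K))) ⟶ A :=
    Over.homMk (pointOfClosedPoint A.hom p hpc') (by simp)
  have hx : ∀ a, x.left.base a = p := fun a => pointOfClosedPoint_apply A.hom p hpc' a
  refine ⟨x, ?_⟩
  rw [Set.disjoint_left]
  rintro _ ⟨a, rfl⟩ (⟨w, hw, hwe⟩ | ⟨w, hw, hwe⟩)
  · -- z a = r_x w  ⟹  w = r_x⁻¹ (z a) = (z * x⁻¹) a = φ₂ (x a) = φ₂ p ∈ Zᶜ
    have e1 := congrArg (fun f : A ⟶ A => f.left.base w) (rtrans_comp x)
    simp only [Over.comp_left, Scheme.Hom.comp_base, TopCat.hom_comp, ContinuousMap.comp_apply,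
      Over.id_left, Scheme.Hom.id_base, TopCat.hom_id, ContinuousMap.id_apply] at e1
    erw [hwe] at e1
    have e2 := congrArg (fun f : 𝟙_ (Over (Spec (CommRingCat.of K))) ⟶ A => f.left.base a)
      ((pt_comp_rtrans_inv z x).trans (pt_comp_ltrans_inv z x).symm)
    simp only [Over.comp_left, Scheme.Hom.comp_base, TopCat.hom_comp, ContinuousMap.comp_apply] at e2
    erw [e1, hx a] at e2
    exact hp2 (e2 ▸ hw)
  · have e1 := congrArg (fun f : A ⟶ A => f.left.base w) (rtrans_comp' x)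
    simp only [Over.comp_left, Scheme.Hom.comp_base, TopCat.hom_comp, ContinuousMap.comp_apply,
      Over.id_left, Scheme.Hom.id_base, TopCat.hom_id, ContinuousMap.id_apply] at e1
    erw [hwe] at e1
    have e2 := congrArg (fun f : 𝟙_ (Over (Spec (CommRingCat.of K))) ⟶ A => f.left.base a)
      ((pt_comp_rtrans z x).trans (pt_comp_ltrans z x).symm)
    simp only [Over.comp_left, Scheme.Hom.comp_base, TopCat.hom_comp, ContinuousMap.comp_apply] at e2
    erw [e1, hx a] at e2
    exact hp1 (e2 ▸ hw)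

end Groth.Agent.S10959
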