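import Groth.Statements.S10961
import Mathlib
import Groth.Agent.Lib.Helper64.MeroGen2

set_option autoImplicit false
universe u
open CategoryTheory AlgebraicGeometry TopologicalSpace
open Mero

namespace Groth.Agent.S10961


/-- Let X be a reduced scheme with only finitely many irreducible components, with generic points x_1,
…, x_r, and let U be an open subset of X. Then the ring of sections over U of the sheaf of
meromorphic functions K_X maps bijectively, by evaluation, onto the product of the rings K_{X,x_i}
over those generic points x_i that lie in U; moreover for each generic point x_i the local ring of X
at x_i is a field and maps bijectively onto K_{X,x_i}, so that K_{X,x_i} is the residue field of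
x_i. (The hypothesis holds for every Noetherian scheme; for X integral it says that K_X is the
constant sheaf with value the function field.) -/
theorem result
    (X : Scheme.{u}) [IsReduced X] (hfin : (irreducibleComponents (X : Type u)).Finite) (U : X.Opens) :
    Function.Bijective (fun s : Γ(Mero.kmod X, U) =>
      fun x : {x : U // closure ({x.1} : Set X) ∈ irreducibleComponents (X : Type u)} =>
        Mero.evalK X U x.1 s) ∧
    (∀ x : X, closure ({x} : Set X) ∈ irreducibleComponents (X : Type u) →
      IsField (X.presheaf.stalk x) ∧
        Function.Bijective (algebraMap (X.presheaf.stalk x) (Mero.KStalk X x))) := by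
    exact ⟨Groth.Agent.Lib.Helper64.MeroGen.bijective_evalK hfin U, fun x hx =>
      ⟨Groth.Agent.Lib.Helper64.MeroGen.isField_stalk_of_isGen hx,
        Groth.Agent.Lib.Helper64.MeroGen.bijective_algebraMap_KStalk_of_isGen hx⟩⟩

end Groth.Agent.S10961
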