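import Groth.Statements.S10963
import Groth.Agent.Lib.Lead.CocycleMod

set_option autoImplicit false
universe u
open CategoryTheory AlgebraicGeometry TopologicalSpace Opposite
open PicF

namespace Groth.Agent.S10963

open Groth.Agent.Lib.Helper35.Gen Groth.Agent.Lib.Lead.CocycleMod

theorem result (X : Scheme.{u}) {ι : Type u} (U : ι → X.Opens)
    (hU : iSup U = ⊤) (η : ∀ i j : ι, (Γ(X, U i ⊓ U j))ˣ)
    (hη : ∀ i j k : ι,
      X.presheaf.map (homOfLE (inf_le_inf_right (U k) inf_le_left : U i ⊓ U j ⊓ U k ≤ U i ⊓ U k)).op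
          (η i k : Γ(X, U i ⊓ U k)) =
        X.presheaf.map (homOfLE (inf_le_left : U i ⊓ U j ⊓ U k ≤ U i ⊓ U j)).op (η i j : Γ(X, U i ⊓ U j)) *
          X.presheaf.map (homOfLE (inf_le_inf_right (U k) inf_le_right : U i ⊓ U j ⊓ U k ≤ U j ⊓ U k)).op
            (η j k : Γ(X, U j ⊓ U k))) :
    ∃ (L : X.Modules) (s : ∀ i : ι, Γ(L, U i)),
      PicF.IsInvertible L ∧
      (∀ (i : ι) (V : X.Opens) (h : V ≤ U i),
        Function.Bijective (fun r : Γ(X, V) => r • L.presheaf.map (homOfLE h).op (s i))) ∧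
      ∀ i j : ι, L.presheaf.map (homOfLE (inf_le_left : U i ⊓ U j ≤ U i)).op (s i) =
        (η i j : Γ(X, U i ⊓ U j)) • L.presheaf.map (homOfLE (inf_le_right : U i ⊓ U j ≤ U j)).op (s j) := by
  let η' : ∀ i j, Γ(X, U i ⊓ U j) := fun i j => (η i j : Γ(X, U i ⊓ U j))
  have hη' : ∀ (i j k : ι) (W : X.Opens) (h1 : W ≤ U i ⊓ U j) (h2 : W ≤ U j ⊓ U k)
      (h3 : W ≤ U i ⊓ U k), rr X h3 (η' i k) = rr X h1 (η' i j) * rr X h2 (η' j k) := by
    intro i j k W h1 h2 h3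
    have hW : W ≤ U i ⊓ U j ⊓ U k := le_inf h1 (h2.trans inf_le_right)
    have h0 : rr X (inf_le_inf_right (U k) inf_le_left : U i ⊓ U j ⊓ U k ≤ U i ⊓ U k) (η' i k) =
        rr X (inf_le_left : U i ⊓ U j ⊓ U k ≤ U i ⊓ U j) (η' i j) *
          rr X (inf_le_inf_right (U k) inf_le_right : U i ⊓ U j ⊓ U k ≤ U j ⊓ U k) (η' j k) :=
      hη i j k
    have := congrArg (rr X hW) h0
    rw [map_mul, rr_rr, rr_rr, rr_rr] at this
    exact this
  have hu : ∀ i, IsUnit (η' i i) := fun i => (η i i).isUnit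
  have hcov : ∀ x : X, ∃ i, x ∈ U i := by
    intro x
    have : x ∈ (iSup U : X.Opens) := by rw [hU]; trivial
    exact Opens.mem_iSup.mp this
  refine ⟨cocMod U η', gen hη', ?_, ?_, ?_⟩
  · rw [Groth.Agent.Lib.Lead.Inv.isInvertible_iff_exists_isGen]
    intro x
    obtain ⟨i, hi⟩ := hcov x
    exact ⟨U i, hi, gen hη' i, fun W h => gen_bijective hη' hu i W h⟩
  · intro i V h
    exact gen_bijective hη' hu i V h
  · intro i j
    exact gen_rel hη' i j

end Groth.Agent.S10963
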