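import Groth.Statements.S10964
import Groth.Agent.Lib.Helper60.HomOfGen

set_option autoImplicit false
universe u
open CategoryTheory AlgebraicGeometry TopologicalSpace Opposite
open PicF

namespace Groth.Agent.S10964

open Groth.Agent.Lib.Helper35.Gen Groth.Agent.Lib.Helper60.HomOfGen

variable {X : Scheme.{u}}

theorem rs_eq (M : X.Modules) {U V : X.Opens} (h : V ≤ U) (m : Γ(M, U)) :
    rs M h m = M.presheaf.map (homOfLE h).op m := rfl

theorem rr_eq {U V : X.Opens} (h : V ≤ U) (r : Γ(X, U)) :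
    rr X h r = X.presheaf.map (homOfLE h).op r := rfl

theorem hom_rs' {F G : X.Modules} (φ : F ⟶ G) {U V : X.Opens} (h : V ≤ U) (s : Γ(F, U)) :
    (φ.app V).hom (rs F h s) = rs G h ((φ.app U).hom s) := by
  have := congrArg (fun f => f.hom s) (φ.mapPresheaf.naturality (homOfLE h).op)
  exact this

theorem hom_smul' {F G : X.Modules} (φ : F ⟶ G) {U : X.Opens} (r : Γ(X, U)) (s : Γ(F, U)) :
    (φ.app U).hom (r • s) = r • (φ.app U).hom s :=
  Scheme.Modules.Hom.app_smul φ r s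

/-- two morphisms agreeing on local generators are equal -/
theorem hom_ext_gen {N P : X.Modules} {ι : Type*} {D : ι → X.Opens} {t : ∀ i, Γ(N, D i)}
    (ht : ∀ i, IsGen N (D i) (t i)) (hcov : ∀ x : X, ∃ i, x ∈ D i) (φ ψ : N ⟶ P)
    (h : ∀ i, (φ.app (D i)).hom (t i) = (ψ.app (D i)).hom (t i)) : φ = ψ := by
  apply Scheme.Modules.hom_ext
  intro V
  ext n
  apply Groth.Agent.Lib.Lead.SheafGlue.eq_of_locally_eq_pts P
  intro x hx
  obtain ⟨i, hi⟩ := hcov x
  refine ⟨V ⊓ D i, inf_le_left, ⟨hx, hi⟩, ?_⟩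
  change rs P _ ((φ.app V).hom n) = rs P _ ((ψ.app V).hom n)
  rw [← hom_rs', ← hom_rs']
  obtain ⟨c, hc⟩ := (ht i (V ⊓ D i) inf_le_right).2 (rs N inf_le_left n)
  rw [← hc]
  change (φ.app _).hom (c • rs N _ (t i)) = (ψ.app _).hom (c • rs N _ (t i))
  rw [hom_smul', hom_smul', hom_rs', hom_rs', h i]

theorem iso_apply {F G : X.Modules} (e : F ≅ G) (V : X.Opens) (m : Γ(F, V)) :
    (e.inv.app V).hom ((e.hom.app V).hom m) = m := by
  have h : e.hom ≫ e.inv = 𝟙 F := e.hom_inv_id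
  have := congrArg (fun φ : F ⟶ F => (φ.app V).hom m) h
  exact this

theorem result (X : Scheme.{u}) {ι : Type u} (U : ι → X.Opens)
    (hU : iSup U = ⊤) (L L' : X.Modules) (s : ∀ i : ι, Γ(L, U i)) (s' : ∀ i : ι, Γ(L', U i))
    (hs : ∀ (i : ι) (V : X.Opens) (h : V ≤ U i),
        Function.Bijective (fun r : Γ(X, V) => r • L.presheaf.map (homOfLE h).op (s i)))
    (hs' : ∀ (i : ι) (V : X.Opens) (h : V ≤ U i),
        Function.Bijective (fun r : Γ(X, V) => r • L'.presheaf.map (homOfLE h).op (s' i)))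
    (η η' : ∀ i j : ι, Γ(X, U i ⊓ U j))
    (hη : ∀ i j : ι, L.presheaf.map (homOfLE (inf_le_left : U i ⊓ U j ≤ U i)).op (s i) =
        η i j • L.presheaf.map (homOfLE (inf_le_right : U i ⊓ U j ≤ U j)).op (s j))
    (hη' : ∀ i j : ι, L'.presheaf.map (homOfLE (inf_le_left : U i ⊓ U j ≤ U i)).op (s' i) =
        η' i j • L'.presheaf.map (homOfLE (inf_le_right : U i ⊓ U j ≤ U j)).op (s' j)) :
    Nonempty (L ≅ L') ↔ ∃ u : ∀ i : ι, (Γ(X, U i))ˣ, ∀ i j : ι,
      η' i j * X.presheaf.map (homOfLE (inf_le_left : U i ⊓ U j ≤ U i)).op (u i : Γ(X, U i)) =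
        X.presheaf.map (homOfLE (inf_le_right : U i ⊓ U j ≤ U j)).op (u j : Γ(X, U j)) * η i j := by
  have hcov : ∀ x : X, ∃ i, x ∈ U i := by
    intro x
    have : x ∈ (iSup U : X.Opens) := by rw [hU]; trivial
    exact Opens.mem_iSup.mp this
  have hg : ∀ i, IsGen L (U i) (s i) := fun i W hW => hs i W hW
  have hg' : ∀ i, IsGen L' (U i) (s' i) := fun i W hW => hs' i W hW
  have hη₁ : ∀ i j, rs L (inf_le_left : U i ⊓ U j ≤ U i) (s i) =
      η i j • rs L (inf_le_right : U i ⊓ U j ≤ U j) (s j) := hη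
  have hη₂ : ∀ i j, rs L' (inf_le_left : U i ⊓ U j ≤ U i) (s' i) =
      η' i j • rs L' (inf_le_right : U i ⊓ U j ≤ U j) (s' j) := hη'
  -- general transfer of a family of multipliers into a morphism
  have key : ∀ (M M' : X.Modules) (t : ∀ i, Γ(M, U i)) (t' : ∀ i, Γ(M', U i))
      (ht : ∀ i, IsGen M (U i) (t i)) (ht' : ∀ i, IsGen M' (U i) (t' i))
      (θ θ' : ∀ i j : ι, Γ(X, U i ⊓ U j))
      (hθ : ∀ i j, rs M (inf_le_left : U i ⊓ U j ≤ U i) (t i) =
        θ i j • rs M (inf_le_right : U i ⊓ U j ≤ U j) (t j))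
      (hθ' : ∀ i j, rs M' (inf_le_left : U i ⊓ U j ≤ U i) (t' i) =
        θ' i j • rs M' (inf_le_right : U i ⊓ U j ≤ U j) (t' j))
      (a : ∀ i, Γ(X, U i))
      (ha : ∀ i j, θ' i j * rr X (inf_le_left : U i ⊓ U j ≤ U i) (a i) =
        rr X (inf_le_right : U i ⊓ U j ≤ U j) (a j) * θ i j),
      ∃ φ : M ⟶ M', ∀ i, (φ.app (U i)).hom (t i) = a i • t' i := by
    intro M M' t t' ht ht' θ θ' hθ hθ' a ha
    have hp : ∀ (i j : ι) (c : Γ(X, U i ⊓ U j)),
        rs M inf_le_right (t j) = c • rs M inf_le_left (t i) →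
        rs M' inf_le_right (a j • t' j) = c • rs M' inf_le_left (a i • t' i) := by
      intro i j c hc
      have h1 : θ i j * c = 1 := by
        apply (ht i (U i ⊓ U j) inf_le_left).1
        change (θ i j * c) • rs M _ (t i) = (1 : Γ(X, U i ⊓ U j)) • rs M _ (t i)
        rw [one_smul, mul_smul, ← hc, ← hθ]
      rw [rs_smul, rs_smul, hθ' i j, ← mul_smul, ← mul_smul]
      congr 1
      calc rr X inf_le_right (a j) = rr X inf_le_right (a j) * (θ i j * c) := by rw [h1, mul_one]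
        _ = c * (rr X inf_le_right (a j) * θ i j) := by ring
        _ = c * (θ' i j * rr X inf_le_left (a i)) := by rw [ha]
        _ = c * rr X inf_le_left (a i) * θ' i j := by ring
    exact ⟨hom ht (fun i => a i • t' i) hp hcov, fun i => hom_app_gen ht _ hp hcov i⟩
  constructor
  · rintro ⟨e⟩
    have hu : ∀ i, ∃ a : Γ(X, U i), a • s' i = (e.hom.app (U i)).hom (s i) := by
      intro i
      obtain ⟨a, ha⟩ := (hg' i (U i) le_rfl).2 ((e.hom.app (U i)).hom (s i))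
      refine ⟨a, ?_⟩
      simp only [rs_self] at ha
      exact ha
    have hv : ∀ i, ∃ b : Γ(X, U i), b • s i = (e.inv.app (U i)).hom (s' i) := by
      intro i
      obtain ⟨b, hb⟩ := (hg i (U i) le_rfl).2 ((e.inv.app (U i)).hom (s' i))
      refine ⟨b, ?_⟩
      simp only [rs_self] at hb
      exact hb
    choose a ha using hu
    choose b hb using hv
    have hab : ∀ i, a i * b i = 1 := by
      intro i
      apply (hg i (U i) le_rfl).1
      change (a i * b i) • rs L _ (s i) = (1 : Γ(X, U i)) • rs L _ (s i)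
      rw [one_smul, mul_smul, rs_self, hb, ← hom_smul', ha, iso_apply]
    refine ⟨fun i => ⟨a i, b i, hab i, (mul_comm _ _).trans (hab i)⟩, ?_⟩
    intro i j
    apply (hg' j (U i ⊓ U j) inf_le_right).1
    change (η' i j * rr X _ (a i)) • rs L' _ (s' j) = (rr X _ (a j) * η i j) • rs L' _ (s' j)
    rw [mul_comm (η' i j), mul_smul, ← hη₂, ← rs_smul, ha, ← hom_rs', hη₁, hom_smul', hom_rs',
      ← ha, rs_smul, ← mul_smul, mul_comm]
  · rintro ⟨u, hu⟩
    obtain ⟨φ, hφ⟩ := key L L' s s' hg hg' η η' hη₁ hη₂ (fun i => (u i : Γ(X, U i))) hu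
    have hu' : ∀ i j, η i j * rr X (inf_le_left : U i ⊓ U j ≤ U i) ((u i)⁻¹ : (Γ(X, U i))ˣ) =
        rr X (inf_le_right : U i ⊓ U j ≤ U j) ((u j)⁻¹ : (Γ(X, U j))ˣ) * η' i j := by
      intro i j
      have h1 : rr X (inf_le_left : U i ⊓ U j ≤ U i) (u i : Γ(X, U i)) *
          rr X (inf_le_left : U i ⊓ U j ≤ U i) ((u i)⁻¹ : (Γ(X, U i))ˣ) = 1 := by
        rw [← map_mul, Units.mul_inv, map_one]
      have h2 : rr X (inf_le_right : U i ⊓ U j ≤ U j) (u j : Γ(X, U j)) *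
          rr X (inf_le_right : U i ⊓ U j ≤ U j) ((u j)⁻¹ : (Γ(X, U j))ˣ) = 1 := by
        rw [← map_mul, Units.mul_inv, map_one]
      have h3 := hu i j
      change η' i j * rr X _ (u i : Γ(X, U i)) = rr X _ (u j : Γ(X, U j)) * η i j at h3
      linear_combination (-(η i j * rr X (inf_le_left : U i ⊓ U j ≤ U i) ((u i)⁻¹ : (Γ(X, U i))ˣ))) * h2 +
        (-(rr X (inf_le_left : U i ⊓ U j ≤ U i) ((u i)⁻¹ : (Γ(X, U i))ˣ) *
          rr X (inf_le_right : U i ⊓ U j ≤ U j) ((u j)⁻¹ : (Γ(X, U j))ˣ))) * h3 +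
        (η' i j * rr X (inf_le_right : U i ⊓ U j ≤ U j) ((u j)⁻¹ : (Γ(X, U j))ˣ)) * h1
    obtain ⟨ψ, hψ⟩ := key L' L s' s hg' hg η' η hη₂ hη₁
      (fun i => (((u i)⁻¹ : (Γ(X, U i))ˣ) : Γ(X, U i))) hu'
    refine ⟨⟨φ, ψ, ?_, ?_⟩⟩
    · apply hom_ext_gen hg hcov
      intro i
      change (ψ.app (U i)).hom ((φ.app (U i)).hom (s i)) = s i
      rw [hφ, hom_smul', hψ, ← mul_smul, Units.mul_inv, one_smul]
    · apply hom_ext_gen hg' hcov
      intro i
      change (φ.app (U i)).hom ((ψ.app (U i)).hom (s' i)) = s' i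
      rw [hψ, hom_smul', hφ, ← mul_smul, Units.inv_mul, one_smul]

end Groth.Agent.S10964
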