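import Groth.Statements.S10967
import Mathlib.AlgebraicGeometry.QuasiAffine
import Mathlib.AlgebraicGeometry.Morphisms.QuasiSeparated
-- import your own Groth.Agent.* helpers here

set_option autoImplicit false
universe u
open CategoryTheory AlgebraicGeometry TopologicalSpace
open MoreMor

namespace Groth.Agent.S10967

theorem result' {X Y : Scheme.{u}} [IsAffine Y]
    (f : X ⟶ Y) {ι : Type u} (V : ι → Y.Opens) (hV : iSup V = ⊤) (hVa : ∀ i, IsAffineOpen (V i))
    (hq : ∀ i, Scheme.IsQuasiAffine (↑(f ⁻¹ᵁ V i) : Scheme.{u})) :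
    X.IsQuasiAffine := by
  have hqc : QuasiCompact f :=
    (HasAffineProperty.iff_of_iSup_eq_top (P := @QuasiCompact) (fun i => ⟨V i, hVa i⟩) hV).mpr
      fun i => (hq i).toCompactSpace
  have hqs : QuasiSeparated f :=
    (HasAffineProperty.iff_of_iSup_eq_top (P := @QuasiSeparated) (fun i => ⟨V i, hVa i⟩) hV).mpr
      fun i => by
        have := hq i
        show QuasiSeparatedSpace (Scheme.Opens.toScheme (f ⁻¹ᵁ V i))
        infer_instance
  have : CompactSpace X := QuasiCompact.compactSpace_of_compactSpace f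
  have : QuasiSeparatedSpace X := quasiSeparatedSpace_of_quasiSeparated f
  refine Scheme.IsQuasiAffine.of_forall_exists_mem_basicOpen X fun x => ?_
  -- find i and a
  obtain ⟨i, hi⟩ : ∃ i, f.base x ∈ V i := by
    have : f.base x ∈ (⊤ : Y.Opens) := trivial
    rw [← hV] at this
    exact Opens.mem_iSup.mp this
  obtain ⟨_, ⟨_, ⟨a, rfl⟩, rfl⟩, hxa, haV⟩ :=
    (isBasis_basicOpen Y).exists_subset_of_mem_open hi (V i).isOpen
  set b : Γ(X, ⊤) := f.appTop a with hb
  have hbU : X.basicOpen b = f ⁻¹ᵁ Y.basicOpen a := (Scheme.preimage_basicOpen_top f a).symm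
  have hbV : X.basicOpen b ≤ f ⁻¹ᵁ V i := by
    rw [hbU]; exact fun z hz => haV hz
  have hxb : x ∈ X.basicOpen b := by rw [hbU]; exact hxa
  -- the basic open is quasi-affine
  have hcpt : CompactSpace (Scheme.Opens.toScheme (X.basicOpen b)) := by
    have h : IsCompact (X.basicOpen b : Set X) := by
      rw [hbU]
      exact f.isCompact_preimage ((isAffineOpen_top Y).basicOpen a).isCompact
    exact isCompact_iff_compactSpace.mp h
  have hqa : Scheme.IsQuasiAffine (Scheme.Opens.toScheme (X.basicOpen b)) := by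
    have := hq i
    exact Scheme.IsQuasiAffine.of_isImmersion (X.homOfLE hbV)
  obtain ⟨_, ⟨_, ⟨r', hr', rfl⟩, rfl⟩, hxr', -⟩ :=
    (Scheme.IsQuasiAffine.isBasis_basicOpen
      (Scheme.Opens.toScheme (X.basicOpen b))).exists_subset_of_mem_open
      (Set.mem_univ (⟨x, hxb⟩ : Scheme.Opens.toScheme (X.basicOpen b))) isOpen_univ
  set r'' : Γ(X, X.basicOpen b) := (X.basicOpen b).topIso.hom r' with hr''
  have hr'eq : r' = (X.basicOpen b).topIso.inv r'' := by
    rw [hr'', ← CommRingCat.comp_apply, Iso.hom_inv_id, CommRingCat.id_apply]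
  have himg : (X.basicOpen b).ι ''ᵁ (Scheme.Opens.toScheme (X.basicOpen b)).basicOpen r' =
      X.basicOpen r'' := by
    rw [hr'eq]; exact Scheme.Opens.ι_image_basicOpen_topIso_inv _ r''
  have haff : IsAffineOpen (X.basicOpen r'') := by
    rw [← himg]; exact hr'.image_of_isOpenImmersion _
  have hxr'' : x ∈ X.basicOpen r'' := by
    rw [← himg]; exact ⟨⟨x, hxb⟩, hxr', rfl⟩
  obtain ⟨n, s, hs⟩ := exists_eq_pow_mul_of_isCompact_of_isQuasiSeparated X ⊤
    isCompact_univ isQuasiSeparated_univ b r''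
  refine ⟨s * b, ?_⟩
  have key : X.basicOpen (s * b) = X.basicOpen r'' := by
    have hunit : IsUnit (b |_ X.basicOpen b) := RingedSpace.isUnit_res_basicOpen _ b
    have h1 : X.basicOpen (s |_ X.basicOpen b) = X.basicOpen b ⊓ X.basicOpen s :=
      Scheme.basicOpen_res X s _
    have h2 : X.basicOpen ((b |_ X.basicOpen b) ^ n * r'') = X.basicOpen r'' := by
      rw [Scheme.basicOpen_mul, Scheme.basicOpen_of_isUnit X (hunit.pow n)]
      exact inf_eq_right.mpr (X.basicOpen_le r'')
    rw [Scheme.basicOpen_mul, inf_comm, ← h1, hs, h2]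
  rw [key]
  exact ⟨haff, hxr''⟩

/-- Quasi-affine over an affine base: call a morphism f : X → Y quasi-affine when Y has a cover by
affine opens V_i whose preimages f⁻¹(V_i) are quasi-affine schemes (quasi-compact open subschemes of
affine schemes; equivalently quasi-compact with X → Spec Γ(X, O_X) an immersion). If Y is affine and
f is quasi-affine in this sense, then X is a quasi-affine scheme. -/
theorem result {X Y : Scheme.{u}} [IsAffine Y]
    (f : X ⟶ Y) {ι : Type u} (V : ι → Y.Opens) (hV : iSup V = ⊤) (hVa : ∀ i, IsAffineOpen (V i))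
    (hq : ∀ i, Scheme.IsQuasiAffine (↑(f ⁻¹ᵁ V i) : Scheme.{u})) :
    X.IsQuasiAffine := result' f V hV hVa hq

end Groth.Agent.S10967
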