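import Groth.Statements.S10969
-- import your own Groth.Agent.* helpers here
import Groth.Agent.Lib.Helper88.FunFldDeg

set_option autoImplicit false
open FunFld

namespace Groth.Agent.S10969

/-- For `x` transcendental over `k` in a function field of one variable `K/k`, the degree of the divisor
of zeros of `x` equals `[K : k(x)]`. -/
theorem result (k K : Type*) [Field k] [Field K] [Algebra k K]
    (hK : FunFld.IsFunctionField k K) (x : K) (hx : Transcendental k x) :
    (∑ P ∈ (FunFld.div k x).support with 0 < FunFld.div k x P,
        FunFld.div k x P * (P.deg : ℤ)) =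
      Module.finrank (IntermediateField.adjoin k ({x} : Set K)) K := by
  rw [← Groth.Agent.Lib.Helper88.FF.deg_zeroDiv_eq hK hx]
  have hsub : ((FunFld.div k x) ⊔ 0 : FunFld.Divisor k K).support ⊆
      (FunFld.div k x).support.filter (fun P => 0 < FunFld.div k x P) := by
    intro P hP
    rw [Finsupp.mem_support_iff, Finsupp.sup_apply] at hP
    have h0 : 0 < FunFld.div k x P := by
      by_contra hcon
      rw [not_lt] at hcon
      apply hP
      simpa using hcon
    rw [Finset.mem_filter, Finsupp.mem_support_iff]
    exact ⟨h0.ne', h0⟩
  rw [Groth.Agent.Lib.Helper88.FF.deg_eq_sum_of_support_subset _ hsub]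
  apply Finset.sum_congr rfl
  intro P hP
  rw [Finset.mem_filter] at hP
  rw [Finsupp.sup_apply]
  congr 1
  symm
  simpa using hP.2.le

end Groth.Agent.S10969
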