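import Groth.Statements.S10971
-- import your own Groth.Agent.* helpers here
import Groth.Agent.Lib.Helper88.FunFldResidue

set_option autoImplicit false
open FunFld

namespace Groth.Agent.S10971

/-- The residue field of a place of a function field of one variable `K/k` is finite over `k`. -/
theorem result (k K : Type*) [Field k] [Field K] [Algebra k K]
    (hK : FunFld.IsFunctionField k K) (P : FunFld.Place k K) :
    FiniteDimensional k (IsLocalRing.ResidueField P.O) := by
  exact Groth.Agent.Lib.Helper88.FF.finiteDimensional_residueField hK P

end Groth.Agent.S10971
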