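import Groth.Statements.S10974
-- import your own Groth.Agent.* helpers here
import Groth.Agent.Lib.Helper88.FunFldResidue

set_option autoImplicit false
open FunFld

namespace Groth.Agent.S10974

/-- For divisors `D₁ ≤ D₂` of a function field of one variable, `A(D₁) ⊆ A(D₂)` and `dim_k A(D₂)/A(D₁) =
deg D₂ - deg D₁` (repartitions with components in `K`). -/
theorem result (k K : Type*) [Field k] [Field K] [Algebra k K]
    (hK : FunFld.IsFunctionField k K) (D₁ D₂ : FunFld.Divisor k K) (h : D₁ ≤ D₂) :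
    FunFld.AD D₁ ≤ FunFld.AD D₂ ∧
    FiniteDimensional k (↥(FunFld.AD D₂) ⧸ Submodule.comap (FunFld.AD D₂).subtype (FunFld.AD D₁)) ∧
    (Module.finrank k
        (↥(FunFld.AD D₂) ⧸ Submodule.comap (FunFld.AD D₂).subtype (FunFld.AD D₁)) : ℤ) =
      D₂.deg - D₁.deg := by
  have h2 := Groth.Agent.Lib.Helper88.FF.finrank_AD_quot hK h
  exact ⟨Groth.Agent.Lib.Helper88.FF.AD_mono h, h2.1, h2.2⟩

end Groth.Agent.S10974
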