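import Groth.Statements.S11003
import Groth.Agent.Lib.Helper76.KaehlerField
import Mathlib.FieldTheory.SeparablyGenerated
import Mathlib.FieldTheory.IsAlgClosed.AlgebraicClosure
import Mathlib.RingTheory.AlgebraicIndependent.AlgebraicClosure
import Mathlib.RingTheory.Flat.Basic

set_option autoImplicit false
universe u v
open FunFld

namespace Groth.Agent.S11003


theorem eq_zero_of_pow_eq_zero_of_isField {R : Type*} [Semiring R] (h : IsField R) (z : R) (n : ℕ)
    (hz : z ^ n = 0) : z = 0 := by
  by_contra hz0
  obtain ⟨y, hy⟩ := h.mul_inv_cancel hz0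
  have h1 : (z * y) ^ n = 1 := by rw [hy, one_pow]
  rw [(show Commute z y from h.mul_comm z y).mul_pow, hz, zero_mul] at h1
  obtain ⟨u, v, huv⟩ := h.exists_pair_ne
  exact huv (by rw [← mul_one u, ← mul_one v, ← h1, mul_zero, mul_zero])

open TensorProduct in
theorem linearIndepOn_pow_of_isGeometric {k : Type u} {K : Type v} [Field k] [Field K]
    [Algebra k K] (hg : FunFld.IsGeometric k K) (p : ℕ) (hp : p.Prime) [CharP k p]
    (s : Finset K) (hs : LinearIndepOn k _root_.id (s : Set K)) :
    LinearIndepOn k (· ^ p) (s : Set K) := by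
  classical
  let kb := AlgebraicClosure k
  haveI : Fact p.Prime := ⟨hp⟩
  rw [LinearIndepOn, Fintype.linearIndependent_iff]
  intro c hc i
  choose a ha using fun j : (s : Set K) =>
    IsAlgClosed.exists_pow_nat_eq (algebraMap k kb (c j)) hp.pos
  let k' : IntermediateField k kb := IntermediateField.adjoin k (Set.range a)
  have hfd : FiniteDimensional k k' :=
    IntermediateField.finiteDimensional_adjoin fun x _ => Algebra.IsIntegral.isIntegral x
  have hF : IsField (k' ⊗[k] K) := hg k' hfd
  have hred : ∀ z : k' ⊗[k] K, z ^ p = 0 → z = 0 := fun z hz =>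
    eq_zero_of_pow_eq_zero_of_isField hF z p hz
  have hnt : Nontrivial (k' ⊗[k] K) := by
    obtain ⟨u, v, huv⟩ := hF.exists_pair_ne
    exact ⟨u, v, huv⟩
  haveI : CharP (k' ⊗[k] K) p :=
    charP_of_injective_algebraMap (algebraMap k (k' ⊗[k] K)).injective p
  let a' : ↥(s : Set K) → k' := fun j => ⟨a j, IntermediateField.subset_adjoin _ _ ⟨j, rfl⟩⟩
  have ha' : ∀ j, a' j ^ p = algebraMap k k' (c j) := fun j => Subtype.ext (ha j)
  have hx : (∑ j, a' j ⊗ₜ[k] (j : K)) ^ p = 0 := by
    have hsp := sum_pow_char (R := k' ⊗[k] K) p Finset.univ (fun j : ↥(s : Set K) => a' j ⊗ₜ[k] (j : K))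
    rw [hsp]
    simp only [Algebra.TensorProduct.tmul_pow, ha']
    have : ∀ j : (s : Set K), algebraMap k k' (c j) ⊗ₜ[k] ((j : K) ^ p) =
        (1 : k') ⊗ₜ[k] (c j • (j : K) ^ p) := by
      intro j; rw [Algebra.algebraMap_eq_smul_one, TensorProduct.smul_tmul]
    simp only [this, ← TensorProduct.tmul_sum]
    rw [hc, TensorProduct.tmul_zero]
  have hx0 : ∑ j, a' j ⊗ₜ[k] (j : K) = 0 := hred _ hx
  have hli := Module.Flat.linearIndependent_one_tmul (S := k') hs
  rw [Fintype.linearIndependent_iff] at hli
  have h1 := hli a' (by simpa [TensorProduct.smul_tmul', smul_eq_mul] using hx0) i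
  have h0 : algebraMap k k' (c i) = 0 := by rw [← ha' i, h1, zero_pow hp.ne_zero]
  exact (map_eq_zero _).mp h0

open KaehlerDifferential in
theorem aux (k : Type u) (K : Type v) [Field k] [Field K] [Algebra k K]
    (hK : FunFld.IsFunctionField k K) (hg : FunFld.IsGeometric k K) :
    Module.finrank K (Ω[K⁄k]) = 1 := by
  obtain ⟨⟨x, hx, hfin⟩, -⟩ := hK
  have : Algebra.EssFiniteType k (IntermediateField.adjoin k ({x} : Set K)) :=
    (IntermediateField.essFiniteType_iff).mpr ⟨{x}, by simp⟩
  have : Algebra.EssFiniteType k K :=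
    Algebra.EssFiniteType.comp k (IntermediateField.adjoin k ({x} : Set K)) K
  obtain ⟨s, hs, hsep⟩ : ∃ s : Finset K, IsTranscendenceBasis k ((↑) : s → K) ∧
      Algebra.IsSeparable (IntermediateField.adjoin k (s : Set K)) K := by
    obtain _ | ⟨p, hp, hpk⟩ := CharP.exists' k
    · exact exists_isTranscendenceBasis_and_isSeparable_of_perfectField k K
    · have : CharP k p := hpk
      exact exists_isTranscendenceBasis_and_isSeparable_of_linearIndepOn_pow_of_essFiniteType
        p hp.out (k := k) (K := K)
        (fun s hs => linearIndepOn_pow_of_isGeometric hg p hp.out s hs)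
  have hsep' : Algebra.IsSeparable
      (IntermediateField.adjoin k (Set.range ((↑) : s → K))) K := by
    convert hsep <;> simp
  obtain ⟨b, -⟩ := Groth.Agent.Lib.Helper76.exists_basis_kaehler_of_isSeparable
    ((↑) : s → K) hs.1
  have hind : AlgebraicIndependent k (fun _ : Fin 1 => x) :=
    algebraicIndependent_unique_type_iff.mpr hx
  have halg : Algebra.IsAlgebraic (Algebra.adjoin k (Set.range (fun _ : Fin 1 => x))) K := by
    rw [Set.range_const, ← IntermediateField.isAlgebraic_adjoin_iff_top]
    infer_instance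
  have hx1 : IsTranscendenceBasis k (fun _ : Fin 1 => x) :=
    hind.isTranscendenceBasis_iff_isAlgebraic.mpr halg
  have hcard := IsTranscendenceBasis.lift_cardinalMk_eq hs hx1
  rw [Module.finrank_eq_card_basis b]
  have : Cardinal.mk s = 1 := by simpa using hcard
  rw [Cardinal.mk_fintype] at this
  exact_mod_cast this

/-- `dim_K Ω_{K/k} = 1` for a geometric function field of one variable `K/k`. -/
theorem result (k : Type u) (K : Type v) [Field k] [Field K] [Algebra k K]
    (hK : FunFld.IsFunctionField k K) (hg : FunFld.IsGeometric k K) :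
    Module.finrank K (KaehlerDifferential k K) = 1 := by
  exact aux k K hK hg

end Groth.Agent.S11003
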