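import Groth.Statements.S11007
import Groth.Agent.Lib.Helper97.FunFldSep

set_option autoImplicit false
universe u v
open FunFld

namespace Groth.Agent.S11007


open Polynomial Groth.Agent.Lib.Helper97.FunFldSep in
theorem aux (k : Type u) (K : Type v) [Field k] [Field K] [Algebra k K] (p : ℕ) [Fact p.Prime]
    [CharP K p]
    (hK : FunFld.IsFunctionField k K) (hg : FunFld.IsGeometric k K)
    (K₀ : IntermediateField k K) :
    (IsPurelyInseparable K₀ K ∧ Module.finrank K₀ K = p) ↔
      K₀ = IntermediateField.adjoin k (Set.range fun y : K => y ^ p) := by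
  have hp : p.Prime := Fact.out
  obtain ⟨t, ht, hsep⟩ := exists_sepVar hK hg
  have hfr := finrank_kKp p t ht
  constructor
  · rintro ⟨hpi, hfr₀⟩
    have : CharP K₀ p := RingHom.charP (algebraMap K₀ K) (algebraMap K₀ K).injective p
    have : ExpChar K₀ p := ExpChar.prime hp
    have hfd₀ : FiniteDimensional K₀ K :=
      Module.finite_of_finrank_pos (by rw [hfr₀]; exact hp.pos)
    have hpow : ∀ y : K, y ^ p ∈ K₀ := by
      intro y
      obtain ⟨n, a, hmin⟩ := IsPurelyInseparable.minpoly_eq_X_pow_sub_C K₀ p y
      have hdeg : (minpoly K₀ y).natDegree ≤ Module.finrank K₀ K := minpoly.natDegree_le y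
      rw [hmin, natDegree_X_pow_sub_C, hfr₀] at hdeg
      have hn : n ≤ 1 := by
        by_contra hn
        have : p ^ 2 ≤ p ^ n := Nat.pow_le_pow_right hp.pos (by omega)
        have h2 : p < p ^ 2 := by
          have := hp.two_le
          nlinarith
        omega
      have hroot : aeval y (minpoly K₀ y) = 0 := minpoly.aeval K₀ y
      rw [hmin] at hroot
      simp only [map_sub, map_pow, aeval_X, aeval_C] at hroot
      have hya : y ^ p ^ n = algebraMap K₀ K a := sub_eq_zero.mp hroot
      interval_cases n
      · rw [pow_zero, pow_one] at hya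
        rw [hya]
        exact pow_mem a.2 p
      · rw [pow_one] at hya
        rw [hya]
        exact a.2
    have hle : kKp k K p ≤ K₀ := by
      rw [IntermediateField.adjoin_le_iff]
      rintro _ ⟨y, rfl⟩
      exact hpow y
    have hfd : FiniteDimensional (kKp k K p) K :=
      Module.finite_of_finrank_pos (by rw [hfr]; exact hp.pos)
    exact (IntermediateField.eq_of_le_of_finrank_eq' hle (by rw [hfr, hfr₀])).symm
  · rintro rfl
    refine ⟨?_, hfr⟩
    have : CharP (kKp k K p) p :=
      RingHom.charP (algebraMap (kKp k K p) K) (algebraMap (kKp k K p) K).injective p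
    have : ExpChar (kKp k K p) p := ExpChar.prime hp
    exact (isPurelyInseparable_iff_pow_mem (kKp k K p) p).mpr fun x =>
      ⟨1, ⟨⟨x ^ p, IntermediateField.subset_adjoin _ _ ⟨x, rfl⟩⟩, by simp⟩⟩

/-- In a geometric function field of one variable of characteristic `p > 0`, `kK^p` is the only
intermediate field over which `K` is purely inseparable of degree `p`. The companion assertion about
the natural map on Kähler differentials is not stated. -/
theorem result (k : Type u) (K : Type v) [Field k] [Field K] [Algebra k K] (p : ℕ) [Fact p.Prime] [CharP K p]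
    (hK : FunFld.IsFunctionField k K) (hg : FunFld.IsGeometric k K) (K₀ : IntermediateField k K) :
    (IsPurelyInseparable K₀ K ∧ Module.finrank K₀ K = p) ↔ K₀ = IntermediateField.adjoin k (Set.range fun y : K => y ^ p) := by
  exact aux k K p hK hg K₀

end Groth.Agent.S11007
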