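import Groth.Statements.S11008
-- import your own Groth.Agent.* helpers here
import Groth.Agent.Lib.Helper88.GeoD
import Groth.Agent.Lib.Helper88.PlaneGenus
import Groth.Agent.Lib.Helper88.FunFldSep

set_option autoImplicit false
universe u v
open FunFld

namespace Groth.Agent.S11008

/-- `K/k` is a geometric function field of one variable iff `K = k(x, y)` where the relation ideal of
`(x, y)` in `k[X, Y]` is generated by an absolutely irreducible polynomial `f`. -/
theorem result (k : Type u) (K : Type v) [Field k] [Field K] [Algebra k K] :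
    (FunFld.IsFunctionField k K ∧ FunFld.IsGeometric k K) ↔
      ∃ (x y : K) (f : MvPolynomial (Fin 2) k),
        IntermediateField.adjoin k ({x, y} : Set K) = ⊤ ∧
        (∀ (k' : Type u) [Field k'] [Algebra k k'], FiniteDimensional k k' →
          Irreducible (MvPolynomial.map (algebraMap k k') f)) ∧
        RingHom.ker (MvPolynomial.aeval ![x, y] : MvPolynomial (Fin 2) k →ₐ[k] K) = Ideal.span {f} := by
  constructor
  · rintro ⟨hK, hg⟩
    obtain ⟨x, hx, hsep⟩ := Groth.Agent.Lib.Helper88.FF.exists_separating hK hg
    haveI := Groth.Agent.Lib.Helper88.FF.finiteDimensional_adjoin_of_transcendental hK hx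
    obtain ⟨y, hy⟩ := Field.exists_primitive_element (IntermediateField.adjoin k ({x} : Set K)) K
    have hxy : IntermediateField.adjoin k ({x, y} : Set K) = ⊤ := by
      have h1 := hy
      rw [← IntermediateField.restrictScalars_eq_top_iff (K := k),
        IntermediateField.adjoin_adjoin_left, Set.singleton_union] at h1
      exact h1
    obtain ⟨f, hfirr, hfxy⟩ := Groth.Agent.Lib.Helper88.PC.exists_irreducible_relation hK x y
    have hker : ∀ p : MvPolynomial (Fin 2) k, MvPolynomial.aeval ![x, y] p = 0 → f ∣ p :=
      Groth.Agent.Lib.Helper88.GEO.dvd_of_aeval_eq_zero x y hx f hfirr hfxy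
    refine ⟨x, y, f, hxy, ?_, ?_⟩
    · intro k' _ _ hfd
      have hT : IsField (TensorProduct k k' K) := hg k' hfd
      have hT' : IsField (TensorProduct k K k') :=
        (Algebra.TensorProduct.comm k K k').toMulEquiv.isField hT
      exact Groth.Agent.Lib.Helper88.GEO.irreducible_map_of_isField hT' x y f hfirr.ne_zero hfxy hker
    · ext p
      rw [RingHom.mem_ker, Ideal.mem_span_singleton]
      constructor
      · exact hker p
      · rintro ⟨q, rfl⟩
        rw [map_mul, hfxy, zero_mul]
  · rintro ⟨x, y, f, hxy, habs, hkerf⟩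
    have hker : ∀ p : MvPolynomial (Fin 2) k, MvPolynomial.aeval ![x, y] p = 0 → f ∣ p := by
      intro p hp
      rw [← Ideal.mem_span_singleton, ← hkerf]
      exact (RingHom.mem_ker).2 hp
    have hfxy : MvPolynomial.aeval ![x, y] f = 0 := by
      have h1 : f ∈ Ideal.span ({f} : Set (MvPolynomial (Fin 2) k)) :=
        Ideal.mem_span_singleton_self f
      rw [← hkerf] at h1
      exact (RingHom.mem_ker).1 h1
    have hfirr : Irreducible f := by
      have h1 := habs k (inferInstance : FiniteDimensional k k)
      rw [Algebra.algebraMap_self, MvPolynomial.map_id] at h1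
      exact h1
    have hgeo' : ∀ (k' : Type u) [Field k'] [Algebra k k'], FiniteDimensional k k' →
        IsField (TensorProduct k K k') := fun k' _ _ hfd =>
      Groth.Agent.Lib.Helper88.GEO.isField_of_irreducible_map x y hxy f hfxy hker (habs k' hfd)
    have hcl := Groth.Agent.Lib.Helper88.GEO.mem_range_of_isAlgebraic hgeo'
    obtain ⟨z, hz, hfin⟩ :=
      Groth.Agent.Lib.Helper88.GEO.exists_transcendental x y hxy f hfirr hfxy hker hcl
    refine ⟨⟨⟨z, hz, hfin⟩, hcl⟩, ?_⟩
    intro k' _ _ hfd
    exact (Algebra.TensorProduct.comm k k' K).toMulEquiv.isField (hgeo' k' hfd)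

end Groth.Agent.S11008
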