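import Groth.Statements.S11010
import Mathlib
import Groth.Agent.S11006
import Groth.Agent.Lib.Helper61.AlgClosedIn
import Groth.Agent.Lib.Helper61.ArtinReduced
import Groth.Agent.Lib.Helper61.TensorIdem

set_option autoImplicit false
universe u v
open FunFld

namespace Groth.Agent.S11010

open TensorProduct IntermediateField Cardinal
open Groth.Agent.Lib.Helper61

section trdeg

open scoped IntermediateField.algebraAdjoinAdjoin in
theorem trdeg_le_one {k : Type u} {K : Type v} [Field k] [Field K] [Algebra k K] (x : K)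
    [FiniteDimensional k⟮x⟯ K] : Algebra.trdeg k K ≤ 1 := by
  haveI : Algebra.IsAlgebraic k⟮x⟯ K := Algebra.IsAlgebraic.of_finite _ _
  haveI : Algebra.IsAlgebraic (Algebra.adjoin k {x}) K :=
    Algebra.IsAlgebraic.trans (Algebra.adjoin k {x}) k⟮x⟯ K
  have := Algebra.IsAlgebraic.trdeg_le_cardinalMk (R := k) (A := K) ({x} : Set K)
  rwa [Cardinal.mk_singleton] at this

variable (k k' : Type u) (K K' : Type v) [Field k] [Field k'] [Field K] [Field K']
    [Algebra k k'] [Algebra k K] [Algebra K K'] [Algebra k' K'] [Algebra k K']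
    [IsScalarTower k k' K'] [IsScalarTower k K K'] [FiniteDimensional K K']

include K K' in
theorem isAlgebraic_const
    (hK : FunFld.IsFunctionField k K) (hK' : FunFld.IsFunctionField k' K') :
    Algebra.IsAlgebraic k k' := by
  obtain ⟨⟨x, hx, hfin⟩, -⟩ := hK
  obtain ⟨⟨x', hx', hfin'⟩, -⟩ := hK'
  haveI := hfin
  have h1 : Algebra.trdeg k K ≤ 1 := trdeg_le_one x
  haveI : Algebra.IsAlgebraic K K' := Algebra.IsAlgebraic.of_finite _ _
  have h2 := lift_trdeg_add_eq k K K'
  rw [trdeg_eq_zero (R := K) (A := K'), Cardinal.lift_zero, add_zero, Cardinal.lift_id,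
    Cardinal.lift_id] at h2
  have h3 : Algebra.trdeg k K' ≤ 1 := h2 ▸ h1
  have h4 := lift_trdeg_add_eq k k' K'
  haveI : Algebra.Transcendental k' K' := ⟨⟨x', hx'⟩⟩
  have h5 : 1 ≤ Algebra.trdeg k' K' := Cardinal.one_le_iff_pos.mpr (trdeg_pos k' K')
  have h6 : Cardinal.lift.{v} (Algebra.trdeg k k') + 1 ≤ 0 + 1 := by
    calc Cardinal.lift.{v} (Algebra.trdeg k k') + 1
        ≤ Cardinal.lift.{v} (Algebra.trdeg k k') + Cardinal.lift.{u} (Algebra.trdeg k' K') := by
          gcongr
          rw [← Cardinal.lift_one.{v, u}]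
          exact Cardinal.lift_le.mpr h5
      _ = Cardinal.lift.{u} (Algebra.trdeg k K') := h4
      _ ≤ 0 + 1 := by
          rw [zero_add, ← Cardinal.lift_one.{v, u}]
          exact Cardinal.lift_le.mpr h3
  have h7 : Cardinal.lift.{v} (Algebra.trdeg k k') ≤ 0 := Cardinal.add_one_le_add_one_iff.mp h6
  have h8 : Algebra.trdeg k k' = 0 := by
    have := le_antisymm h7 zero_le
    exact Cardinal.lift_eq_zero.mp this
  exact trdeg_eq_zero_iff.mp h8

end trdeg

theorem injective_of_isField {R S : Type*} [CommRing R] [CommRing S] [Nontrivial S]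
    (h : IsField R) (f : R →+* S) : Function.Injective f := by
  rw [injective_iff_map_eq_zero]
  intro x hx
  by_contra h0
  obtain ⟨y, hy⟩ := h.mul_inv_cancel h0
  have : f x * f y = 1 := by rw [← map_mul, hy, map_one]
  rw [hx, zero_mul] at this
  exact zero_ne_one this

section finite

variable (k k' : Type u) (K K' : Type v) [Field k] [Field k'] [Field K] [Field K']
    [Algebra k k'] [Algebra k K] [Algebra K K'] [Algebra k' K'] [Algebra k K']
    [IsScalarTower k k' K'] [IsScalarTower k K K'] [FiniteDimensional K K']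

include K K' in
theorem finiteDimensional_const (hg : FunFld.IsGeometric k K) [Algebra.IsAlgebraic k k'] :
    FiniteDimensional k k' := by
  by_contra hnfd
  obtain ⟨E, hEfin, hlt⟩ :=
    IntermediateField.exists_lt_finrank_of_infinite_dimensional hnfd (Module.finrank K K')
  haveI := hEfin
  have hfield : IsField (K ⊗[k] E) :=
    MulEquiv.isField (hg E hEfin) (Algebra.TensorProduct.comm k K E).toMulEquiv
  let φ : K ⊗[k] E →ₐ[K] K' :=
    Algebra.TensorProduct.lift (Algebra.ofId K K')
      ((IsScalarTower.toAlgHom k k' K').comp E.val) (fun _ _ => Commute.all _ _)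
  have hinj : Function.Injective φ := fun a b hab =>
    injective_of_isField hfield φ.toRingHom hab
  have h1 : Module.finrank K (K ⊗[k] E) ≤ Module.finrank K K' :=
    LinearMap.finrank_le_finrank_of_injective (f := φ.toLinearMap) hinj
  rw [Module.finrank_baseChange] at h1
  omega

end finite

theorem isReduced_tensor_of_isField {K₁ L K' : Type*} [Field K₁] [CommRing L] [Algebra K₁ L]
    (hL : IsField L) [Field K'] [Algebra K₁ K'] [FiniteDimensional K₁ K']
    [Algebra.IsSeparable K₁ K'] : IsReduced (L ⊗[K₁] K') := by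
  haveI : Algebra.FormallyUnramified K₁ K' := Algebra.FormallyUnramified.of_isSeparable K₁ K'
  haveI : Algebra.FormallyUnramified L (L ⊗[K₁] K') := inferInstance
  haveI : Algebra.EssFiniteType L (L ⊗[K₁] K') := inferInstance
  letI := hL.toField
  exact Algebra.FormallyUnramified.isReduced_of_field L (L ⊗[K₁] K')

section core

variable (k' : Type u) (K₁ K' : Type v) [Field k'] [Field K₁] [Field K'] [Algebra k' K₁]
  [Algebra K₁ K'] [Algebra k' K'] [IsScalarTower k' K₁ K'] [FiniteDimensional K₁ K']
  [Algebra.IsSeparable K₁ K']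

include K₁ in
theorem core (hg₁ : FunFld.IsGeometric k' K₁) (hcl : AlgClosedIn.IsAlgClosedIn k' K') :
    FunFld.IsGeometric k' K' := by
  intro k'' _ _ hfin
  haveI := hfin
  have hL : IsField (K₁ ⊗[k'] k'') :=
    MulEquiv.isField (hg₁ k'' hfin) (Algebra.TensorProduct.comm k' K₁ k'').toMulEquiv
  haveI : IsReduced ((K₁ ⊗[k'] k'') ⊗[K₁] K') := isReduced_tensor_of_isField hL
  let e₁ : K' ⊗[K₁] (K₁ ⊗[k'] k'') ≃ₐ[K'] K' ⊗[k'] k'' :=
    Algebra.TensorProduct.cancelBaseChange k' K₁ K' K' k''
  let e₂ : (K₁ ⊗[k'] k'') ⊗[K₁] K' ≃ₐ[K₁] K' ⊗[K₁] (K₁ ⊗[k'] k'') :=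
    Algebra.TensorProduct.comm K₁ _ _
  haveI : IsReduced (K' ⊗[k'] k'') :=
    isReduced_of_injective
      ((e₂.symm.toRingEquiv.toRingHom).comp (e₁.symm.toRingEquiv.toRingHom))
      (e₂.symm.injective.comp e₁.symm.injective)
  haveI : IsArtinianRing (K' ⊗[k'] k'') := IsArtinianRing.of_finite K' _
  haveI : Nontrivial (K' ⊗[k'] k'') :=
    Algebra.TensorProduct.nontrivial_of_algebraMap_injective_of_isDomain k' K' k''
      (algebraMap k' K').injective (algebraMap k' k'').injective
  haveI : Algebra.IsAlgebraic k' k'' := Algebra.IsAlgebraic.of_finite _ _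
  have hW : IsField (K' ⊗[k'] k'') :=
    ArtinReduced.isField_of_idempotents
      (fun e he => TensorIdem.idempotent_trivial hcl e he)
  exact MulEquiv.isField hW (Algebra.TensorProduct.comm k' k'' K').toMulEquiv

end core

section main

variable (k k' : Type u) (K K' : Type v) [Field k] [Field k'] [Field K] [Field K']
    [Algebra k k'] [Algebra k K] [Algebra K K'] [Algebra k' K'] [Algebra k K']
    [IsScalarTower k k' K'] [IsScalarTower k K K'] [FiniteDimensional K K']
    [Algebra.IsSeparable K K']

theorem main (hK : FunFld.IsFunctionField k K) (hg : FunFld.IsGeometric k K)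
    (hK' : FunFld.IsFunctionField k' K') : FunFld.IsGeometric k' K' := by
  haveI : Algebra.IsAlgebraic k k' := isAlgebraic_const k k' K K' hK hK'
  haveI : FiniteDimensional k k' := finiteDimensional_const k k' K K' hg
  let φ : k' ⊗[k] K →ₐ[k] K' :=
    Algebra.TensorProduct.productMap (IsScalarTower.toAlgHom k k' K') (IsScalarTower.toAlgHom k K K')
  have hφfield : IsField (k' ⊗[k] K) := hg k' inferInstance
  have hφinj : Function.Injective φ := fun a b hab =>
    injective_of_isField hφfield φ.toRingHom hab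
  have hφtmul : ∀ (c : k') (x : K), φ (c ⊗ₜ x) = algebraMap k' K' c * algebraMap K K' x :=
    fun c x => rfl
  -- the compositum as an intermediate field
  let S₁ : Subalgebra K K' :=
    { φ.range.toSubsemiring with
      algebraMap_mem' := fun x => ⟨1 ⊗ₜ x, by
        change φ (1 ⊗ₜ x) = _
        rw [hφtmul, map_one, one_mul]⟩ }
  have hS₁mem : ∀ y : K', y ∈ S₁ ↔ ∃ t, φ t = y := fun y => Iff.rfl
  let K₁ : IntermediateField K K' := Subalgebra.toIntermediateField S₁ (by
    intro y hy
    obtain ⟨t, rfl⟩ := (hS₁mem y).mp hy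
    by_cases ht : t = 0
    · rw [ht, map_zero, inv_zero]
      exact S₁.zero_mem
    · obtain ⟨s, hs⟩ := hφfield.mul_inv_cancel ht
      have : φ t * φ s = 1 := by rw [← map_mul, hs, map_one]
      rw [← eq_inv_of_mul_eq_one_right this]
      exact (hS₁mem _).mpr ⟨s, rfl⟩)
  have hK₁mem : ∀ y : K', y ∈ K₁ ↔ ∃ t, φ t = y := fun y => Iff.rfl
  let ι' : k' →+* K₁ := RingHom.codRestrict (algebraMap k' K') K₁
    (fun c => (hK₁mem _).mpr ⟨c ⊗ₜ 1, by rw [hφtmul, map_one, mul_one]⟩)
  letI : Algebra k' K₁ := ι'.toAlgebra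
  haveI : IsScalarTower k' K₁ K' := IsScalarTower.of_algebraMap_eq (fun x => rfl)
  haveI : IsScalarTower k k' K₁ := IsScalarTower.of_algebraMap_eq (fun x => by
    apply Subtype.ext
    change algebraMap k K' x = algebraMap k' K' (algebraMap k k' x)
    rw [← IsScalarTower.algebraMap_apply])
  have hbij : Function.Bijective (Algebra.TensorProduct.productMap
      (IsScalarTower.toAlgHom k k' K₁) (IsScalarTower.toAlgHom k K K₁)) := by
    have hval : ∀ t, ((Algebra.TensorProduct.productMap
        (IsScalarTower.toAlgHom k k' K₁) (IsScalarTower.toAlgHom k K K₁) t : K₁) : K') = φ t := by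
      intro t
      induction t using TensorProduct.induction_on with
      | zero => simp
      | tmul c x => rfl
      | add t₁ t₂ h₁ h₂ =>
        rw [map_add, map_add, ← h₁, ← h₂]
        rfl
    refine ⟨fun a b hab => hφinj ?_, fun y => ?_⟩
    · rw [← hval, ← hval, hab]
    · obtain ⟨t, ht⟩ := (hK₁mem y.1).mp y.2
      exact ⟨t, Subtype.ext ((hval t).trans ht)⟩
  obtain ⟨-, hg₁⟩ := Groth.Agent.S11006.result k k' K K₁ hbij hK hg
  exact core k' K₁ K' hg₁ hK'.2

end main

end Groth.Agent.S11010

namespace Groth.Agent.S11010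

/-- A finite separable extension `K'/k'` of a geometric function field of one variable `K/k` (with `k'`
the constant field of `K'`) is again geometric. (The published statement has no separability
hypothesis on `K'/K`; for `k = 𝔽_p(s,t)`, `K = k(x)` and `K' = K(y)` with `y^p = s x^p + t`, the
field `k` is algebraically closed in `K'` yet `k(s^{1/p}, t^{1/p}) ⊗_k K'` has nonzero nilpotents,
so `K'/K` is taken separable here.) -/
theorem result (k k' : Type u) (K K' : Type v) [Field k] [Field k'] [Field K] [Field K']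
    [Algebra k k'] [Algebra k K] [Algebra K K'] [Algebra k' K'] [Algebra k K']
    [IsScalarTower k k' K'] [IsScalarTower k K K'] [FiniteDimensional K K'] [Algebra.IsSeparable K K']
    (hK : FunFld.IsFunctionField k K) (hg : FunFld.IsGeometric k K)
    (hK' : FunFld.IsFunctionField k' K') : FunFld.IsGeometric k' K' := by
  exact main k k' K K' hK hg hK'

end Groth.Agent.S11010
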