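import Groth.Statements.S11014
import Groth.Agent.Lib.Helper44.FunFldHyperGenus
import Mathlib.FieldTheory.IntermediateField.Adjoin.Basic

set_option autoImplicit false
open FunFld
open Groth.Agent.Lib.Helper88.FF Groth.Agent.Lib.Helper44.FFExt

namespace Groth.Agent.S11014

/-- For `char k ≠ 2` and `K = k(x, y)` with `y² = f(x)`, `f` squarefree of degree `d ≥ 1`, the genus is
`(d - 2)/2` for `d` even and `(d - 1)/2` for `d` odd. -/
theorem result (k K : Type*) [Field k] [Field K] [Algebra k K]
    (hK : FunFld.IsFunctionField k K) (h2 : ringChar k ≠ 2) (x y : K) (hx : Transcendental k x)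
    (hxy : IntermediateField.adjoin k ({x, y} : Set K) = ⊤)
    (f : Polynomial k) (hf : Squarefree f) (hd : 1 ≤ f.natDegree)
    (heq : y ^ 2 = Polynomial.aeval x f) :
    FunFld.genus k K = (f.natDegree - 1) / 2 := by
  classical
  have hinj : Function.Injective (Polynomial.aeval x : Polynomial k →ₐ[k] K) :=
    transcendental_iff_injective.1 hx
  let φ : RatFunc k →ₐ[k] K := RatFunc.liftAlgHom (Polynomial.aeval x)
    (nonZeroDivisors_le_comap_nonZeroDivisors_of_injective _ hinj)
  letI : Algebra (RatFunc k) K := φ.toRingHom.toAlgebra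
  haveI : IsScalarTower k (RatFunc k) K :=
    IsScalarTower.of_algebraMap_eq (fun c => (φ.commutes c).symm)
  have hφp : ∀ g : Polynomial k,
      algebraMap (RatFunc k) K (algebraMap (Polynomial k) (RatFunc k) g) = Polynomial.aeval x g := by
    intro g
    show φ (algebraMap (Polynomial k) (RatFunc k) g) = _
    have := RatFunc.liftAlgHom_apply_div (Polynomial.aeval x)
      (nonZeroDivisors_le_comap_nonZeroDivisors_of_injective _ hinj) g 1
    simpa using this
  have hφX : algebraMap (RatFunc k) K RatFunc.X = x := by
    rw [← RatFunc.algebraMap_X, hφp, Polynomial.aeval_X]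
  have heq' : y ^ 2 = algebraMap (RatFunc k) K (algebraMap (Polynomial k) (RatFunc k) f) := by
    rw [heq, hφp]
  have hy : y ∉ Set.range (algebraMap (RatFunc k) K) := by
    rintro ⟨r, rfl⟩
    rw [← map_pow] at heq'
    exact not_sq_of_squarefree hf hd r ((algebraMap (RatFunc k) K).injective heq')
  have htop : IntermediateField.adjoin (RatFunc k) ({y} : Set K) = ⊤ := by
    have hxmem : x ∈ IntermediateField.adjoin (RatFunc k) ({y} : Set K) := by
      have : algebraMap (RatFunc k) K RatFunc.X ∈
          IntermediateField.adjoin (RatFunc k) ({y} : Set K) :=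
        IntermediateField.algebraMap_mem _ _
      rwa [hφX] at this
    have hymem : y ∈ IntermediateField.adjoin (RatFunc k) ({y} : Set K) :=
      IntermediateField.mem_adjoin_simple_self (RatFunc k) y
    rw [← IntermediateField.restrictScalars_eq_top_iff (K := k), eq_top_iff, ← hxy,
      IntermediateField.adjoin_le_iff]
    rintro w (rfl | rfl)
    · exact hxmem
    · exact hymem
  have hyint : IsIntegral (RatFunc k) y := by
    refine ⟨Polynomial.X ^ 2 - Polynomial.C (algebraMap (Polynomial k) (RatFunc k) f),
      Polynomial.monic_X_pow_sub_C _ two_ne_zero, ?_⟩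
    rw [Polynomial.eval₂_sub, Polynomial.eval₂_pow, Polynomial.eval₂_X, Polynomial.eval₂_C, heq']
    exact sub_self _
  have hdeg : Module.finrank (RatFunc k) K = 2 := by
    have h1 := IntermediateField.adjoin.finrank hyint
    rw [htop, IntermediateField.finrank_top'] at h1
    rw [h1]
    have hroot : Polynomial.aeval y (Polynomial.X ^ 2 -
        Polynomial.C (algebraMap (Polynomial k) (RatFunc k) f) : Polynomial (RatFunc k)) = 0 := by
      rw [map_sub, map_pow, Polynomial.aeval_X, Polynomial.aeval_C, heq', sub_self]
    have hdvd := minpoly.dvd (RatFunc k) y hroot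
    have hmon : (Polynomial.X ^ 2 -
        Polynomial.C (algebraMap (Polynomial k) (RatFunc k) f) : Polynomial (RatFunc k)).Monic :=
      Polynomial.monic_X_pow_sub_C _ two_ne_zero
    have hnat : (Polynomial.X ^ 2 -
        Polynomial.C (algebraMap (Polynomial k) (RatFunc k) f) :
          Polynomial (RatFunc k)).natDegree = 2 :=
      Polynomial.natDegree_X_pow_sub_C
    have h2le : 2 ≤ (minpoly (RatFunc k) y).natDegree :=
      (minpoly.two_le_natDegree_iff hyint).2 hy
    have hle : (minpoly (RatFunc k) y).natDegree ≤ 2 := by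
      rw [← hnat]
      exact Polynomial.natDegree_le_of_dvd hdvd hmon.ne_zero
    omega
  have hgen := hyper_genus hK h2 hdeg y f hf hd heq'
  have : ((FunFld.genus k K : ℕ) : ℤ) = (((f.natDegree - 1) / 2 : ℕ) : ℤ) := by
    rw [hgen]
    have h3 : (f.natDegree + 1) / 2 = (f.natDegree - 1) / 2 + 1 := by omega
    rw [h3]
    push_cast
    ring
  exact_mod_cast this

end Groth.Agent.S11014
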