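import Groth.Statements.S11016
-- import your own Groth.Agent.* helpers here
import Groth.Agent.Lib.Helper88.FunFldRiemann

set_option autoImplicit false
open FunFld

namespace Groth.Agent.S11016

/-- `L(D) ≠ 0` iff there is an effective divisor linearly equivalent to `D`. -/
theorem result (k K : Type*) [Field k] [Field K] [Algebra k K]
    (hK : FunFld.IsFunctionField k K) (D : FunFld.Divisor k K) :
    FunFld.L D ≠ ⊥ ↔ ∃ x : K, x ≠ 0 ∧ 0 ≤ D + FunFld.div k x := by
  rw [Submodule.ne_bot_iff]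
  constructor
  · rintro ⟨x, hx, hx0⟩
    refine ⟨x, hx0, ?_⟩
    rw [add_comm]
    exact (Groth.Agent.Lib.Helper88.FF.mem_L_iff_div hK hx0 D).1 hx
  · rintro ⟨x, hx0, hx⟩
    refine ⟨x, ?_, hx0⟩
    rw [Groth.Agent.Lib.Helper88.FF.mem_L_iff_div hK hx0 D, add_comm]
    exact hx

end Groth.Agent.S11016
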