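import Groth.Statements.S11017

set_option autoImplicit false
open FunFld

namespace Groth.Agent.S11017

theorem AD_le_adele {k K : Type*} [Field k] [Field K] [Algebra k K] (D : FunFld.Divisor k K)
    {a : FunFld.Place k K → K} (ha : a ∈ FunFld.AD D) : a ∈ FunFld.adele k K := by
  show ∀ᶠ P : FunFld.Place k K in Filter.cofinite, P.1 (a P) ≤ 1
  rw [Filter.eventually_cofinite]
  refine D.support.finite_toSet.subset ?_
  intro Q hQ
  by_contra hQs
  apply hQ
  have h0 : D Q = 0 := by
    simpa using hQs
  have := ha Q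
  rwa [h0, WithZero.exp_zero] at this

theorem mem_ADK_of_mem_AD {k K : Type*} [Field k] [Field K] [Algebra k K] (D : FunFld.Divisor k K)
    {a : FunFld.Place k K → K} (ha : a ∈ FunFld.AD D) (ha' : a ∈ FunFld.adele k K) :
    (⟨a, ha'⟩ : FunFld.adele k K) ∈ FunFld.ADK D := by
  show a ∈ FunFld.AD D ⊔ LinearMap.range (FunFld.diag k K)
  exact Submodule.mem_sup_left ha

theorem mem_ADK_of_diag {k K : Type*} [Field k] [Field K] [Algebra k K] (D : FunFld.Divisor k K)
    (x : K) (ha' : FunFld.diag k K x ∈ FunFld.adele k K) :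
    (⟨FunFld.diag k K x, ha'⟩ : FunFld.adele k K) ∈ FunFld.ADK D := by
  show FunFld.diag k K x ∈ FunFld.AD D ⊔ LinearMap.range (FunFld.diag k K)
  exact Submodule.mem_sup_right ⟨x, rfl⟩

/-- For a Weil differential `ω` with divisor `C`, `ord_P [ω] ≥ e` iff `ω` kills every repartition
concentrated at `P` with `P`-component of order at least `-e`. -/
theorem result (k K : Type*) [Field k] [Field K] [Algebra k K] (ω : Module.Dual k (FunFld.adele k K)) (C : FunFld.Divisor k K) (hω : FunFld.IsDivOf ω C)
    (P : FunFld.Place k K) (e : ℤ) :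
    e ≤ C P ↔ ∀ (a : FunFld.Place k K → K) (ha : a ∈ FunFld.adele k K),
      (∀ Q, Q ≠ P → a Q = 0) → P.1 (a P) ≤ WithZero.exp e → ω ⟨a, ha⟩ = 0 := by
  classical
  have hωC : ω ∈ FunFld.WD C := (hω C).mpr le_rfl
  have hkill : ∀ w ∈ FunFld.ADK C, ω w = 0 := fun w hw =>
    (Submodule.mem_dualAnnihilator ω).mp hωC w hw
  constructor
  · intro he a ha hconc hval
    apply hkill
    apply mem_ADK_of_mem_AD
    intro Q
    by_cases hQ : Q = P
    · subst hQ
      exact hval.trans (WithZero.exp_le_exp.mpr he)
    · rw [hconc Q hQ, map_zero]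
      exact zero_le'
  · intro H
    by_contra hlt
    rw [not_le] at hlt
    let E : FunFld.Divisor k K := C + Finsupp.single P (e - C P)
    have hEP : E P = e := by
      simp [E]
    have hEQ : ∀ Q, Q ≠ P → E Q = C Q := by
      intro Q hQ
      simp [E, Finsupp.single_apply, Ne.symm hQ]
    have hEC : ¬ E ≤ C := by
      intro hle
      have := hle P
      rw [hEP] at this
      exact absurd this (not_le.mpr hlt)
    have hωE : ω ∉ FunFld.WD E := fun h => hEC ((hω E).mp h)
    have : ¬ ∀ w ∈ FunFld.ADK E, ω w = 0 := fun h =>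
      hωE ((Submodule.mem_dualAnnihilator ω).mpr h)
    push Not at this
    obtain ⟨⟨b, hb⟩, hbE, hωb⟩ := this
    have hbE' : b ∈ FunFld.AD E ⊔ LinearMap.range (FunFld.diag k K) := hbE
    obtain ⟨a', ha', d, ⟨x, rfl⟩, hsum⟩ := Submodule.mem_sup.mp hbE'
    have ha'ad : a' ∈ FunFld.adele k K := AD_le_adele E ha'
    have hdad : FunFld.diag k K x ∈ FunFld.adele k K := by
      have : FunFld.diag k K x = b - a' := by rw [← hsum]; abel
      rw [this]
      exact (FunFld.adele k K).sub_mem hb ha'ad
    let a'' : FunFld.Place k K → K := Function.update a' P 0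
    let aP : FunFld.Place k K → K := Pi.single P (a' P)
    have ha''C : a'' ∈ FunFld.AD C := by
      intro Q
      by_cases hQ : Q = P
      · subst hQ
        simp [a'']
      · simp only [a'', Function.update_of_ne hQ]
        rw [← hEQ Q hQ]
        exact ha' Q
    have ha''ad : a'' ∈ FunFld.adele k K := AD_le_adele C ha''C
    have haPad : aP ∈ FunFld.adele k K := by
      have : aP = a' - a'' := by
        funext Q
        by_cases hQ : Q = P
        · subst hQ
          simp [aP, a'']
        · simp [aP, a'', Function.update_of_ne hQ, Pi.single_apply, hQ]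
      rw [this]
      exact (FunFld.adele k K).sub_mem ha'ad ha''ad
    have hdecomp : (⟨b, hb⟩ : FunFld.adele k K) =
        ⟨a'', ha''ad⟩ + ⟨aP, haPad⟩ + ⟨FunFld.diag k K x, hdad⟩ := by
      apply Subtype.ext
      show b = a'' + aP + FunFld.diag k K x
      rw [← hsum]
      congr 1
      funext Q
      by_cases hQ : Q = P
      · subst hQ
        simp [aP, a'']
      · simp [aP, a'', Function.update_of_ne hQ, Pi.single_apply, hQ]
    apply hωb
    rw [hdecomp, map_add, map_add, hkill _ (mem_ADK_of_mem_AD C ha''C ha''ad),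
      hkill _ (mem_ADK_of_diag C x hdad), zero_add, add_zero]
    apply H aP haPad
    · intro Q hQ
      simp [aP, Pi.single_apply, hQ]
    · have := ha' P
      rw [hEP] at this
      simpa [aP] using this

end Groth.Agent.S11017
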