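import Groth.Statements.S11019
import Groth.Agent.Lib.Helper44.FunFldRatPlace
import Groth.Agent.Lib.Helper44.FunFldQuad
import Mathlib.RingTheory.Polynomial.GaussLemma
import Mathlib.FieldTheory.IntermediateField.Adjoin.Basic

set_option autoImplicit false
open FunFld

namespace Groth.Agent.S11019

open Polynomial in
/-- A squarefree polynomial of positive degree is not a constant times a square in `k(X)`. -/
lemma not_const_mul_sq {k : Type*} [Field k] {f : k[X]} (hf : Squarefree f)
    (hd : 1 ≤ f.natDegree) (c : k) (hc : c ≠ 0) (r : RatFunc k) :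
    algebraMap k (RatFunc k) c * r ^ 2 ≠ algebraMap k[X] (RatFunc k) f := by
  intro hr
  have hr' : r ^ 2 = algebraMap k[X] (RatFunc k) (C c⁻¹ * f) := by
    rw [map_mul, RatFunc.algebraMap_C, ← RatFunc.algebraMap_eq_C, ← hr, ← mul_assoc, ← map_mul,
      inv_mul_cancel₀ hc, map_one, one_mul]
  have hdvd : C c⁻¹ * f ∣ f := ⟨C c, by
    rw [mul_comm (C c⁻¹ * f), ← mul_assoc, ← C_mul, mul_inv_cancel₀ hc, C_1, one_mul]⟩
  have hsf : Squarefree (C c⁻¹ * f) := Squarefree.squarefree_of_dvd hdvd hf
  have hd' : 1 ≤ (C c⁻¹ * f).natDegree := by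
    rw [natDegree_C_mul (inv_ne_zero hc)]
    exact hd
  exact Groth.Agent.Lib.Helper44.FFExt.not_sq_of_squarefree hsf hd' r hr'

open Polynomial in
/-- For `char k ≠ 2` and `K = k(x, y)` with `x` transcendental and `y² = f(x)`, `f` squarefree of degree
`≥ 1`: the field `k` is algebraically closed in `K` (whatever in `K` is algebraic over `k` lies in
`k`), and `K/k` is a function field of one variable. -/
theorem result (k K : Type*) [Field k] [Field K] [Algebra k K] (h2 : ringChar k ≠ 2) (x y : K) (hx : Transcendental k x)
    (hxy : IntermediateField.adjoin k ({x, y} : Set K) = ⊤)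
    (f : Polynomial k) (hf : Squarefree f) (hd : 1 ≤ f.natDegree)
    (heq : y ^ 2 = Polynomial.aeval x f) : FunFld.IsFunctionField k K := by
  classical
  refine ⟨⟨x, hx, ?_⟩, ?_⟩
  · -- `K` is finite over `k(x)`
    have hmem : aeval x f ∈ IntermediateField.adjoin k ({x} : Set K) :=
      IntermediateField.algebra_adjoin_le_adjoin k _ (aeval_mem_adjoin_singleton k x)
    have hyint : IsIntegral (IntermediateField.adjoin k ({x} : Set K)) y := by
      refine ⟨X ^ 2 - C ⟨aeval x f, hmem⟩, monic_X_pow_sub_C _ two_ne_zero, ?_⟩
      rw [eval₂_sub, eval₂_pow, eval₂_X, eval₂_C, heq]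
      exact sub_self _
    have hfin := IntermediateField.adjoin.finiteDimensional hyint
    have htop : IntermediateField.adjoin (IntermediateField.adjoin k ({x} : Set K)) ({y} : Set K)
        = ⊤ := by
      rw [← IntermediateField.restrictScalars_eq_top_iff (K := k),
        IntermediateField.adjoin_adjoin_left, ← hxy]
      congr 1
    rw [htop] at hfin
    exact LinearEquiv.finiteDimensional
      (IntermediateField.topEquiv (F := IntermediateField.adjoin k ({x} : Set K)) (E := K)).toLinearEquiv
  · -- constants
    have hinj : Function.Injective (aeval x : k[X] →ₐ[k] K) := transcendental_iff_injective.1 hx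
    let φ : RatFunc k →ₐ[k] K := RatFunc.liftAlgHom (aeval x)
      (nonZeroDivisors_le_comap_nonZeroDivisors_of_injective _ hinj)
    letI : Algebra (RatFunc k) K := φ.toRingHom.toAlgebra
    haveI : IsScalarTower k (RatFunc k) K :=
      IsScalarTower.of_algebraMap_eq (fun c => (φ.commutes c).symm)
    have hφp : ∀ g : k[X], algebraMap (RatFunc k) K (algebraMap k[X] (RatFunc k) g) = aeval x g := by
      intro g
      show φ (algebraMap k[X] (RatFunc k) g) = _
      have := RatFunc.liftAlgHom_apply_div (aeval x)
        (nonZeroDivisors_le_comap_nonZeroDivisors_of_injective _ hinj) g 1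
      simpa using this
    have hφX : algebraMap (RatFunc k) K RatFunc.X = x := by
      rw [← RatFunc.algebraMap_X, hφp, aeval_X]
    have heq' : y ^ 2 = algebraMap (RatFunc k) K (algebraMap k[X] (RatFunc k) f) := by
      rw [heq, hφp]
    have hy : y ∉ Set.range (algebraMap (RatFunc k) K) := by
      rintro ⟨r, rfl⟩
      rw [← map_pow] at heq'
      exact Groth.Agent.Lib.Helper44.FFExt.not_sq_of_squarefree hf hd r
        ((algebraMap (RatFunc k) K).injective heq')
    have htop : IntermediateField.adjoin (RatFunc k) ({y} : Set K) = ⊤ := by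
      have hxmem : x ∈ IntermediateField.adjoin (RatFunc k) ({y} : Set K) := by
        have : algebraMap (RatFunc k) K RatFunc.X ∈
            IntermediateField.adjoin (RatFunc k) ({y} : Set K) :=
          IntermediateField.algebraMap_mem _ _
        rwa [hφX] at this
      have hymem : y ∈ IntermediateField.adjoin (RatFunc k) ({y} : Set K) :=
        IntermediateField.mem_adjoin_simple_self (RatFunc k) y
      rw [← IntermediateField.restrictScalars_eq_top_iff (K := k), eq_top_iff, ← hxy,
        IntermediateField.adjoin_le_iff]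
      rintro w (rfl | rfl)
      · exact hxmem
      · exact hymem
    have hyint : IsIntegral (RatFunc k) y := by
      refine ⟨X ^ 2 - C (algebraMap k[X] (RatFunc k) f), monic_X_pow_sub_C _ two_ne_zero, ?_⟩
      rw [eval₂_sub, eval₂_pow, eval₂_X, eval₂_C, heq']
      exact sub_self _
    have hdeg : Module.finrank (RatFunc k) K = 2 := by
      have h1 := IntermediateField.adjoin.finrank hyint
      rw [htop, IntermediateField.finrank_top'] at h1
      rw [h1]
      have hroot : aeval y (X ^ 2 - C (algebraMap k[X] (RatFunc k) f) : (RatFunc k)[X]) = 0 := by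
        rw [map_sub, map_pow, aeval_X, aeval_C, heq', sub_self]
      have hdvd := minpoly.dvd (RatFunc k) y hroot
      have hmon : (X ^ 2 - C (algebraMap k[X] (RatFunc k) f) : (RatFunc k)[X]).Monic :=
        monic_X_pow_sub_C _ two_ne_zero
      have hnat : (X ^ 2 - C (algebraMap k[X] (RatFunc k) f) : (RatFunc k)[X]).natDegree = 2 :=
        natDegree_X_pow_sub_C
      have h2le : 2 ≤ (minpoly (RatFunc k) y).natDegree :=
        (minpoly.two_le_natDegree_iff hyint).2 hy
      have hle : (minpoly (RatFunc k) y).natDegree ≤ 2 := by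
        rw [← hnat]
        exact natDegree_le_of_dvd hdvd hmon.ne_zero
      omega
    haveI : FiniteDimensional (RatFunc k) K :=
      Module.finite_of_finrank_pos (by rw [hdeg]; norm_num)
    have hspan := Groth.Agent.Lib.Helper44.FFExt.exists_add_mul_eq hdeg hy
    have hconst := (Groth.Agent.Lib.Helper44.FFExt.isFunctionField_ratFunc k).2
    have h2F : (2 : RatFunc k) ≠ 0 := by
      have h2k : (2 : k) ≠ 0 := Ring.two_ne_zero h2
      have : (2 : RatFunc k) = algebraMap k (RatFunc k) 2 := (map_ofNat _ 2).symm
      rw [this]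
      exact (_root_.map_ne_zero _).2 h2k
    intro α hα
    obtain ⟨a, b, hab⟩ := hspan α
    rcases eq_or_ne b 0 with rfl | hb
    · -- `α` lies in `k(X)`
      rw [map_zero, zero_mul, add_zero] at hab
      have ha : IsAlgebraic k a := by
        rw [hab] at hα
        exact (isAlgebraic_algHom_iff φ φ.toRingHom.injective).1 hα
      obtain ⟨c, rfl⟩ := hconst a ha
      exact ⟨c, by rw [hab, ← IsScalarTower.algebraMap_apply]⟩
    · exfalso
      set F : RatFunc k := algebraMap k[X] (RatFunc k) f with hF
      have hαr : α ∉ Set.range (algebraMap (RatFunc k) K) := by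
        rintro ⟨c, hc⟩
        apply hy
        refine ⟨(c - a) / b, ?_⟩
        have hb' : algebraMap (RatFunc k) K b ≠ 0 := (_root_.map_ne_zero _).2 hb
        rw [map_div₀, map_sub, hc, hab]
        field_simp
        ring
      have hαint : IsIntegral (RatFunc k) α := Algebra.IsIntegral.isIntegral α
      -- the minimal polynomial of `α` over `k(X)`
      set q : (RatFunc k)[X] := X ^ 2 - C (2 * a) * X + C (a ^ 2 - b ^ 2 * F) with hq
      have hqroot : aeval α q = 0 := by
        rw [hq, map_add, map_sub, map_pow, map_mul, aeval_X, aeval_C, aeval_C, hab]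
        simp only [map_sub, map_mul, map_pow, map_ofNat]
        rw [← heq']
        ring
      have hq' : q = X ^ 2 + (C (-(2 * a)) * X + C (a ^ 2 - b ^ 2 * F)) := by
        rw [hq, C_neg]; ring
      have hlin : (C (-(2 * a)) * X + C (a ^ 2 - b ^ 2 * F) : (RatFunc k)[X]).degree < (2 : ℕ) :=
        degree_linear_le.trans_lt (by norm_num)
      have hqmon : q.Monic := by
        rw [hq']
        exact monic_X_pow_add hlin
      have hqnat : q.natDegree = 2 := by
        rw [hq', natDegree_add_eq_left_of_degree_lt (by rw [degree_X_pow]; exact hlin),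
          natDegree_X_pow]
      have h2le : 2 ≤ (minpoly (RatFunc k) α).natDegree :=
        (minpoly.two_le_natDegree_iff hαint).2 hαr
      have hdvd := minpoly.dvd (RatFunc k) α hqroot
      have hmin : q = minpoly (RatFunc k) α :=
        eq_of_monic_of_dvd_of_natDegree_le (minpoly.monic hαint) hqmon hdvd
          (by rw [hqnat]; exact h2le)
      have hαintk : IsIntegral k α := hα.isIntegral
      have hdvd2 : minpoly (RatFunc k) α ∣ (minpoly k α).map (algebraMap k (RatFunc k)) :=
        minpoly.dvd_map_of_isScalarTower k (RatFunc k) α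
      have hlift := integralClosure.mem_lifts_of_monic_of_dvd_map (RatFunc k)
        (minpoly.monic hαintk) (minpoly.monic hαint) hdvd2
      rw [← hmin] at hlift
      have hcoeff : ∀ n, ∃ c : k, algebraMap k (RatFunc k) c = q.coeff n := by
        intro n
        obtain ⟨z, hz⟩ := (lifts_iff_coeff_lifts _).1 hlift n
        have hzint : IsIntegral k (z : RatFunc k) := z.2
        obtain ⟨c, hc⟩ := hconst _ hzint.isAlgebraic
        exact ⟨c, by rw [hc, ← hz]; rfl⟩
      have hc1 : q.coeff 1 = -(2 * a) := by
        rw [hq', coeff_add, coeff_add, coeff_X_pow, coeff_C_mul, coeff_X_one, coeff_C]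
        norm_num
      have hc0 : q.coeff 0 = a ^ 2 - b ^ 2 * F := by
        rw [hq', coeff_add, coeff_add, coeff_X_pow, coeff_C_mul, coeff_X_zero, coeff_C_zero]
        norm_num
      obtain ⟨c₁, hc₁⟩ := hcoeff 1
      obtain ⟨c₀, hc₀⟩ := hcoeff 0
      rw [hc1] at hc₁
      rw [hc0] at hc₀
      have ha : a = algebraMap k (RatFunc k) (-c₁ / 2) := by
        rw [map_div₀, map_neg, hc₁, map_ofNat]
        field_simp
      have hbF : b ^ 2 * F = algebraMap k (RatFunc k) ((-c₁ / 2) ^ 2 - c₀) := by
        rw [map_sub, map_pow, ← ha, hc₀]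
        ring
      have hF0 : F ≠ 0 := (map_ne_zero_iff _ (RatFunc.algebraMap_injective k)).2 hf.ne_zero
      have hc0' : (-c₁ / 2) ^ 2 - c₀ ≠ 0 := by
        intro h
        rw [h, map_zero] at hbF
        rcases mul_eq_zero.1 hbF with h' | h'
        · exact hb (pow_eq_zero_iff two_ne_zero |>.1 h')
        · exact hF0 h'
      refine not_const_mul_sq hf hd _ hc0' (1 / b) ?_
      rw [← hbF, ← hF]
      field_simp

end Groth.Agent.S11019
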