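import Groth.Statements.S11021
import Groth.Agent.Lib.Helper44.FunFldGalois2

set_option autoImplicit false
open FunFld

namespace Groth.Agent.S11021

/-- For a place `Q` above `P` in a finite Galois extension of a geometric function field of one
variable, the decomposition group has order `e(Q|P) f(Q|P)`; stated as `|G₀| · deg P = e · deg_k Q`. -/
theorem result (k K K' : Type*) [Field k] [Field K] [Field K'] [Algebra k K] [Algebra K K'] [Algebra k K']
    [IsScalarTower k K K'] [FiniteDimensional K K'] (hK : FunFld.IsFunctionField k K) (hg : FunFld.IsGeometric k K) [IsGalois K K'] (Q : FunFld.Place k K') (P : FunFld.Place k K) (e : ℕ) (he : FunFld.IsOverWith Q P e) :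
    Nat.card ((Q.O).decompositionSubgroup K) * P.deg = e * Q.deg := by
  classical
  have hQP : FunFld.IsOver Q P := ⟨e, he⟩
  have hfin := Groth.Agent.Lib.Helper44.FFExt.finite_isOver (K' := K') hK P
  have hsum := Groth.Agent.Lib.Helper44.FFExt.sum_ramIdx_mul_deg (K' := K') hK P hfin.toFinset
    (fun Q' => by rw [Set.Finite.mem_toFinset]; rfl)
  have hterm : ∀ Q' ∈ hfin.toFinset, FunFld.ramIdx Q' P * Q'.deg = e * Q.deg := by
    intro Q' hQ'
    rw [Set.Finite.mem_toFinset] at hQ'
    obtain ⟨σ, rfl⟩ := Groth.Agent.Lib.Helper44.FFExt.exists_comapPlace_eq_of_isOver hQP hQ'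
    rw [Groth.Agent.Lib.Helper44.FFExt.ramIdx_eq
      (Groth.Agent.Lib.Helper44.FFExt.isOverWith_comapPlace he σ),
      Groth.Agent.Lib.Helper44.FFExt.deg_comapPlace]
  rw [Finset.sum_congr rfl hterm, Finset.sum_const, smul_eq_mul] at hsum
  have hcard := Groth.Agent.Lib.Helper44.FFExt.card_isOver_mul_card_decomposition hQP
  have hcard' : Nat.card {Q' : FunFld.Place k K' // FunFld.IsOver Q' P} = hfin.toFinset.card := by
    have h1 : Nat.card {Q' : FunFld.Place k K' // FunFld.IsOver Q' P} =
        Set.ncard {Q' : FunFld.Place k K' | FunFld.IsOver Q' P} := Nat.card_coe_set_eq _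
    rw [h1, Set.ncard_eq_toFinset_card _ hfin]
  rw [hcard'] at hcard
  rw [← hcard, mul_assoc] at hsum
  have hpos : 0 < hfin.toFinset.card := by
    apply Finset.card_pos.2
    exact ⟨Q, by rw [Set.Finite.mem_toFinset]; exact hQP⟩
  exact (Nat.eq_of_mul_eq_mul_left hpos hsum).symm

end Groth.Agent.S11021
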