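import Groth.Statements.S11026
import Groth.Agent.Lib.Helper97.FunFldSep
import Mathlib.FieldTheory.Perfect

set_option autoImplicit false
universe u v
open FunFld

namespace Groth.Agent.S11026


open KaehlerDifferential Groth.Agent.Lib.Helper97.FunFldSep in
theorem aux (k k' : Type u) (K K' : Type v) [Field k] [Field k'] [Field K] [Field K']
    [Algebra k k'] [Algebra k K] [Algebra K K'] [Algebra k' K'] [Algebra k K']
    [IsScalarTower k k' K'] [IsScalarTower k K K'] [FiniteDimensional K K']
    (hK : FunFld.IsFunctionField k K) (hg : FunFld.IsGeometric k K)
    (hK' : FunFld.IsFunctionField k' K') (hg' : FunFld.IsGeometric k' K')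
    (hw : Function.Injective (KaehlerDifferential.map k k' K K')) :
    Algebra.IsSeparable (IntermediateField.adjoin K (Set.range (algebraMap k' K'))) K' := by
  set M := IntermediateField.adjoin K (Set.range (algebraMap k' K')) with hM
  obtain _ | ⟨p, hp, hpk⟩ := CharP.exists' K'
  · -- characteristic zero
    have : CharZero M := (algebraMap M K').charZero
    have : Algebra.IsAlgebraic M K' := Algebra.IsAlgebraic.of_finite M K'
    infer_instance
  · have : CharP K' p := hpk
    obtain ⟨t, ht, hsep⟩ := exists_sepVar hK hg
    obtain ⟨t', ht', hsep'⟩ := exists_sepVar hK' hg'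
    have hess := essFiniteType_of_isFunctionField hK'
    have hDt : D k K t ≠ 0 := (D_sepVar t ht).1
    have hDt' : D k' K' (algebraMap K K' t) ≠ 0 := by
      rw [← KaehlerDifferential.map_D k k' K K']
      intro h0
      exact hDt (hw (h0.trans (map_zero _).symm))
    have hnot : algebraMap K K' t ∉ kKp k' K' p := fun h =>
      hDt' (D_eq_zero_of_mem_kKp p h)
    have hsepE := isSeparable_adjoin_of_not_mem p t' ht' (algebraMap K K' t) hnot
    set E := IntermediateField.adjoin k' ({algebraMap K K' t} : Set K') with hE
    have hle : E.toSubfield ≤ M.toSubfield := by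
      apply IntermediateField.adjoin_le_subfield
      · exact IntermediateField.subset_adjoin K _
      · rintro _ rfl
        exact M.algebraMap_mem t
    letI : Algebra E M := (Subfield.inclusion hle).toAlgebra
    have : IsScalarTower E M K' := IsScalarTower.of_algebraMap_eq fun x => rfl
    exact Algebra.isSeparable_tower_top_of_isSeparable E M K'

/-- A weakly separable finite extension `K'/k'` of a geometric function field `K/k` (the map `Ω_{K/k} →
Ω_{K'/k'}` injective) is separable over the compositum `k'K`. -/
theorem result (k k' : Type u) (K K' : Type v) [Field k] [Field k'] [Field K] [Field K']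
    [Algebra k k'] [Algebra k K] [Algebra K K'] [Algebra k' K'] [Algebra k K']
    [IsScalarTower k k' K'] [IsScalarTower k K K'] [FiniteDimensional K K']
    (hK : FunFld.IsFunctionField k K) (hg : FunFld.IsGeometric k K)
    (hK' : FunFld.IsFunctionField k' K') (hg' : FunFld.IsGeometric k' K')
    (hw : Function.Injective (KaehlerDifferential.map k k' K K')) :
    Algebra.IsSeparable (IntermediateField.adjoin K (Set.range (algebraMap k' K'))) K' := by
  exact aux k k' K K' hK hg hK' hg' hw

end Groth.Agent.S11026
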