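import Groth.Statements.S11028
import Groth.Agent.Lib.Helper44.FunFldASGenus

set_option autoImplicit false
open FunFld
open Groth.Agent.Lib.Helper88.FF Groth.Agent.Lib.Helper44.FFExt WithZero

namespace Groth.Agent.S11028

/-- For `k` perfect of characteristic `2` and `K = k(x, y)` with `y² + y = f(x)`, all poles of `f` of
odd order `2d_i - 1` at places `p_i` of `k(x)`, the genus of `K` is `-1 + ∑ d_i deg p_i`. -/
theorem result (k K : Type*) [Field k] [Field K] [PerfectField k] (h2 : ringChar k = 2) [Algebra k K]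
    [Algebra (RatFunc k) K] [IsScalarTower k (RatFunc k) K] (hK : FunFld.IsFunctionField k K)
    (hdeg : Module.finrank (RatFunc k) K = 2) (y : K) (hy : y ∉ Set.range (algebraMap (RatFunc k) K))
    (f : RatFunc k) (heq : y ^ 2 + y = algebraMap (RatFunc k) K f)
    (hodd : ∀ P : FunFld.Place k (RatFunc k), FunFld.div k f P < 0 → Odd (FunFld.div k f P)) :
    (FunFld.genus k K : ℤ) = -1 + ∑ P ∈ (FunFld.div k f).support with FunFld.div k f P < 0,
      (1 - FunFld.div k f P) / 2 * (P.deg : ℤ) := by
  classical
  have hF : IsFunctionField k (RatFunc k) := isFunctionField_ratFunc k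
  have : CharP k 2 := by rw [← h2]; exact ringChar.charP k
  have : CharP (RatFunc k) 2 :=
    charP_of_injective_algebraMap (algebraMap k (RatFunc k)).injective 2
  have : Algebra.IsSeparable (RatFunc k) K := AS_isSeparable hdeg hy heq
  set S : Finset (Place k (RatFunc k)) :=
    (FunFld.div k f).support.filter (fun P => FunFld.div k f P < 0) with hS
  set D₀ : Divisor k (RatFunc k) :=
    ∑ P ∈ S, Finsupp.single P ((1 - FunFld.div k f P) / 2) with hD₀
  have hD₀app : ∀ P, D₀ P = if P ∈ S then (1 - FunFld.div k f P) / 2 else 0 := by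
    intro P
    rw [hD₀, Finsupp.finsetSum_apply]
    simp only [Finsupp.single_apply]
    rw [Finset.sum_ite_eq' S P]
  have hmemS : ∀ P, P ∈ S ↔ P.ord f < 0 := by
    intro P
    rw [hS, Finset.mem_filter, Finsupp.mem_support_iff, div_apply hF]
    constructor
    · exact fun h => h.2
    · exact fun h => ⟨by omega, h⟩
  have hdegD₀ : D₀.deg = ∑ P ∈ S, (1 - FunFld.div k f P) / 2 * (P.deg : ℤ) := by
    rw [hD₀, deg_sum]
    apply Finset.sum_congr rfl
    intro P _
    rw [deg_single]
  have hpole : ∀ p : Place k (RatFunc k), p.ord f < 0 → p.ord f = 1 - 2 * D₀ p := by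
    intro p hp
    rw [hD₀app, if_pos ((hmemS p).2 hp), div_apply hF]
    have := hodd p (by rw [div_apply hF]; exact hp)
    rw [div_apply hF] at this
    obtain ⟨m, hm⟩ := this
    omega
  have hreg : ∀ p : Place k (RatFunc k), 0 ≤ p.ord f → D₀ p = 0 := by
    intro p hp
    rw [hD₀app, if_neg]
    rw [hmemS]
    omega
  have := AS_genus hK hdeg hy heq D₀ hpole hreg
  rw [this, hdegD₀]
  ring

end Groth.Agent.S11028
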