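import Groth.Statements.S11030
import Groth.Agent.S11002
import Groth.Agent.Lib.Helper34.FunFldNonsing
import Groth.Agent.Lib.Helper44.FunFldInertia2

set_option autoImplicit false
universe u v
open FunFld

namespace Groth.Agent.S11030

open Groth.Agent.Lib.Helper88.FF Groth.Agent.Lib.Helper34.FunFldNonsing WithZero
open scoped TensorProduct

/-- `kK^p` is the `k`-span of the `p`-th powers. -/
lemma mem_span_of_mem_kKp {k K : Type*} [Field k] [Field K] [Algebra k K] (p : ℕ) [Fact p.Prime]
    [CharP K p] {x : K}
    (hx : x ∈ IntermediateField.adjoin k (Set.range fun y : K => y ^ p)) :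
    x ∈ Submodule.span k (Set.range fun y : K => y ^ p) := by
  have hp : p.Prime := Fact.out
  set s : Set K := Set.range fun y : K => y ^ p with hs
  have hinv : ∀ z ∈ Algebra.adjoin k s, z⁻¹ ∈ Algebra.adjoin k s := by
    intro z hz
    rcases eq_or_ne z 0 with rfl | hz0
    · rw [inv_zero]; exact Subalgebra.zero_mem _
    have h1 : z⁻¹ = z ^ (p - 1) * (z⁻¹) ^ p := by
      have : p = (p - 1) + 1 := (Nat.sub_add_cancel hp.one_le).symm
      rw [inv_pow]
      field_simp
      conv_lhs => rw [this, pow_succ]
      ring
    rw [h1]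
    exact Subalgebra.mul_mem _ (Subalgebra.pow_mem _ hz _) (Algebra.subset_adjoin ⟨z⁻¹, rfl⟩)
  have h2 : (IntermediateField.adjoin k s).toSubalgebra = Algebra.adjoin k s :=
    IntermediateField.adjoin_eq_algebra_adjoin k s hinv
  have hx' : x ∈ Algebra.adjoin k s := by
    rw [← h2]; exact hx
  have hmon : (Submonoid.closure s : Set K) = s := by
    apply Set.Subset.antisymm _ Submonoid.subset_closure
    have : Submonoid.closure s ≤
        { carrier := s
          mul_mem' := by
            rintro _ _ ⟨a, rfl⟩ ⟨b, rfl⟩
            exact ⟨a * b, mul_pow a b p⟩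
          one_mem' := ⟨1, one_pow p⟩ } := Submonoid.closure_le.2 (fun _ h => h)
    exact this
  have hx'' : x ∈ Subalgebra.toSubmodule (Algebra.adjoin k s) := hx'
  rw [Algebra.adjoin_eq_span, hmon] at hx''
  exact hx''

/-- Descent: in a ring where `s` is a non-unit non-zero-divisor and `(s)` is radical-like,
no `p`-th power equals `s ^ (p N + 1)`. -/
lemma no_pow_eq {R : Type*} [CommRing R] (s : R) (hreg : IsLeftRegular s) (hunit : ¬ IsUnit s)
    (hrad : ∀ (τ : R) (m : ℕ), τ ^ m ∈ Ideal.span {s} → τ ∈ Ideal.span {s}) (p : ℕ) (hp : 2 ≤ p) :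
    ∀ (N : ℕ) (τ : R), τ ^ p ≠ s ^ (p * N + 1) := by
  intro N
  induction N with
  | zero =>
    intro τ h
    have h1 : τ ∈ Ideal.span {s} := hrad τ p (by
      rw [h, mul_zero, zero_add, pow_one]; exact Ideal.subset_span rfl)
    obtain ⟨τ₁, rfl⟩ := Ideal.mem_span_singleton'.1 h1
    rw [mul_zero, zero_add, pow_one, mul_pow] at h
    have h2 : s * (s ^ (p - 2) * τ₁ ^ p * s) = s * 1 := by
      have : p = (p - 2) + 2 := (Nat.sub_add_cancel hp).symm
      calc s * (s ^ (p - 2) * τ₁ ^ p * s) = τ₁ ^ p * s ^ ((p - 2) + 2) := by ring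
        _ = τ₁ ^ p * s ^ p := by rw [← this]
        _ = s * 1 := by rw [h, mul_one]
    have h3 := hreg h2
    exact hunit (IsUnit.of_mul_eq_one _ (by rw [mul_comm]; exact h3))
  | succ N ih =>
    intro τ h
    have h1 : τ ∈ Ideal.span {s} := hrad τ p (by
      rw [h, pow_succ]; exact Ideal.mul_mem_left _ _ (Ideal.subset_span rfl))
    obtain ⟨τ₁, rfl⟩ := Ideal.mem_span_singleton'.1 h1
    rw [mul_pow] at h
    have h2 : s ^ p * τ₁ ^ p = s ^ p * s ^ (p * N + 1) := by
      rw [mul_comm, h, ← pow_add]; congr 1; ring
    have hreg' : IsLeftRegular (s ^ p) := hreg.pow p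
    exact ih τ₁ (hreg' h2)

/-- In a geometric function field of one variable, a local parameter at a place with separable residue
field is a separating variable: `dt ≠ 0` in `Ω_{K/k}`. (The duality isomorphism `Ω_K ≅ W_K` and the
order of `dt` at `P` are not stated.) -/
theorem result (k : Type u) (K : Type v) [Field k] [Field K] [Algebra k K]
    (hK : FunFld.IsFunctionField k K) (hg : FunFld.IsGeometric k K) (P : FunFld.Place k K)
    [Algebra.IsSeparable k (IsLocalRing.ResidueField P.O)] (t : K) (ht : P.1 t = WithZero.exp (-1)) :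
    KaehlerDifferential.D k K t ≠ 0 := by
  classical
  have ht0 : t ≠ 0 := by
    rintro rfl
    rw [map_zero] at ht
    exact exp_ne_zero ht.symm
  have htc : t ∉ Set.range (algebraMap k K) := by
    rintro ⟨c, rfl⟩
    rcases eq_or_ne c 0 with rfl | hc
    · exact ht0 (map_zero _)
    · have h1 := val_algebraMap P hc
      rw [ht, ← exp_zero, exp_inj] at h1
      omega
  have httr : Transcendental k t := transcendental_of_not_mem_range hK htc
  obtain hchar | ⟨p, hp, hpK⟩ := CharP.exists' K
  · haveI := finiteDimensional_adjoin_of_transcendental hK httr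
    haveI : CharZero k := (algebraMap k K).charZero
    haveI : Algebra.IsSeparable (IntermediateField.adjoin k ({t} : Set K)) K := inferInstance
    exact (Groth.Agent.Lib.Helper97.FunFldSep.D_sepVar t httr).1
  · intro hD
    haveI := hp
    haveI := hpK
    have hpp : p.Prime := hp.out
    have hmem := ((Groth.Agent.S11002.result k K p hK hg t).1).2 hD
    have hspan := mem_span_of_mem_kKp p hmem
    obtain ⟨c, hc⟩ := Finsupp.mem_span_range_iff_exists_finsupp.1 hspan
    haveI : CharP k p := RingHom.charP (algebraMap k K) (algebraMap k K).injective p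
    haveI : CharP (AlgebraicClosure k) p :=
      charP_of_injective_algebraMap (algebraMap k (AlgebraicClosure k)).injective p
    -- p-th roots of the coefficients
    have hroot : ∀ y : K, ∃ d : AlgebraicClosure k, d ^ p = algebraMap k (AlgebraicClosure k) (c y) :=
      fun y => IsAlgClosed.exists_pow_nat_eq _ hpp.pos
    choose d hd using hroot
    set S := c.support with hS
    set N : ℕ := S.sup (fun y => (-(P.ord y)).toNat) with hN
    have hNy : ∀ y ∈ S, P.1 (t ^ N * y) ≤ 1 := by
      intro y hy
      rcases eq_or_ne y 0 with rfl | hy0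
      · simp
      · have h1 : (-(P.ord y)).toNat ≤ N := Finset.le_sup (f := fun y => (-(P.ord y)).toNat) hy
        rw [map_mul, map_pow, ht, val_eq_exp_neg_ord P hy0, ← exp_nsmul, ← exp_add, ← exp_zero,
          exp_le_exp]
        simp only [nsmul_eq_mul, mul_neg, mul_one]
        omega
    let u : K → P.O := fun y => if h : y ∈ S then ⟨t ^ N * y, hNy y h⟩ else 0
    have hu : ∀ y ∈ S, ((u y : P.O) : K) = t ^ N * y := by
      intro y hy
      simp only [u, dif_pos hy]
    have ht1 : P.1 t ≤ 1 := by rw [ht, ← exp_zero, exp_le_exp]; omega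
    set tO : P.O := ⟨t, ht1⟩ with htO
    have htO' : P.1 ((tO : P.O) : K) = exp (-1 : ℤ) := ht
    have htO0 : tO ≠ 0 := fun h => ht0 (congrArg Subtype.val h)
    -- the key identity in `O_P`
    have hkey : tO ^ (p * N + 1) = ∑ y ∈ S, algebraMap k P.O (c y) * (u y) ^ p := by
      apply Subtype.ext
      have h1 : ((∑ y ∈ S, algebraMap k P.O (c y) * (u y) ^ p : P.O) : K) =
          ∑ y ∈ S, algebraMap k K (c y) * (t ^ N * y) ^ p := by
        rw [← P.O.subtype_apply, map_sum]
        apply Finset.sum_congr rfl
        intro y hy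
        rw [P.O.subtype_apply]
        show algebraMap k K (c y) * ((u y : P.O) : K) ^ p = _
        rw [hu y hy]
      rw [h1]
      show t ^ (p * N + 1) = _
      have h2 : ∑ y ∈ S, algebraMap k K (c y) * (t ^ N * y) ^ p =
          t ^ (p * N) * ∑ y ∈ S, c y • y ^ p := by
        rw [Finset.mul_sum]
        apply Finset.sum_congr rfl
        intro y _
        rw [Algebra.smul_def, mul_pow, ← pow_mul, mul_comm N p]; ring
      have h3 : ∑ y ∈ S, c y • y ^ p = t := hc
      rw [h2, h3, pow_succ]
    -- the tensor element
    set R := AlgebraicClosure k ⊗[k] P.O with hR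
    haveI hntR : Nontrivial R :=
      Algebra.TensorProduct.nontrivial_of_algebraMap_injective_of_isDomain k (AlgebraicClosure k) P.O
        (algebraMap k (AlgebraicClosure k)).injective
        (fun a b hab => (algebraMap k K).injective (congrArg Subtype.val hab))
    haveI : CharP R p :=
      charP_of_injective_algebraMap (algebraMap (AlgebraicClosure k) R).injective p
    set τ : R := ∑ y ∈ S, d y ⊗ₜ[k] u y with hτ
    set s : R := (1 : AlgebraicClosure k) ⊗ₜ[k] tO with hs
    have hτp : τ ^ p = s ^ (p * N + 1) := by
      rw [hτ, sum_pow_char p S, hs, Algebra.TensorProduct.tmul_pow, one_pow, hkey,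
        TensorProduct.tmul_sum]
      apply Finset.sum_congr rfl
      intro y _
      rw [Algebra.TensorProduct.tmul_pow, hd y, Algebra.algebraMap_eq_smul_one,
        TensorProduct.smul_tmul, Algebra.smul_def]
    have hreg : IsLeftRegular s := by
      have hinj : Function.Injective (LinearMap.lTensor (AlgebraicClosure k)
          (LinearMap.mulLeft k tO)) :=
        Module.Flat.lTensor_preserves_injective_linearMap _ (mul_right_injective₀ htO0)
      have hmul : ∀ x : R, s * x = LinearMap.lTensor (AlgebraicClosure k)
          (LinearMap.mulLeft k tO) x := by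
        intro x
        induction x using TensorProduct.induction_on with
        | zero => simp
        | tmul a b =>
          rw [hs, Algebra.TensorProduct.tmul_mul_tmul, one_mul, LinearMap.lTensor_tmul,
            LinearMap.mulLeft_apply]
        | add x y hx hy => rw [mul_add, map_add, hx, hy]
      intro a b hab
      apply hinj
      rw [← hmul, ← hmul]
      exact hab
    have hunit : ¬ IsUnit s := by
      intro hu
      have hker := ker_rho (k' := AlgebraicClosure k) P htO'
      have h1 : (1 : R) ∈ Ideal.span {s} := by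
        rw [Ideal.span_singleton_eq_top.2 hu]; trivial
      rw [hs, ← hker, RingHom.mem_ker, map_one] at h1
      haveI : Nontrivial (AlgebraicClosure k ⊗[k] IsLocalRing.ResidueField P.O) :=
        Algebra.TensorProduct.nontrivial_of_algebraMap_injective_of_isDomain k (AlgebraicClosure k)
          (IsLocalRing.ResidueField P.O)
          (algebraMap k (AlgebraicClosure k)).injective
          (algebraMap k (IsLocalRing.ResidueField P.O)).injective
      exact one_ne_zero h1
    exact no_pow_eq s hreg hunit
      (fun τ' m h => dvd_of_pow_dvd (k' := AlgebraicClosure k) P hK htO' τ' m h) p hpp.two_le N τ hτp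

end Groth.Agent.S11030
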