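import Groth.Statements.S11034
import Groth.Agent.Lib.Helper44.FunFldRatPlace
import Groth.Agent.Lib.Helper44.FunFldQuad

set_option autoImplicit false
open FunFld

namespace Groth.Agent.S11034

/-- For `char k ≠ 2` and `K = k(x, y)`, `y² = f(x)` with `f` squarefree, each irreducible factor `p` of
`f` has a unique place `P` of `K` above it, with `e(P|p) = 2`, `f(P|p) = 1` and `deg P = deg p`. The
zero divisor of `y` and the behaviour above the infinite place of `k(x)` are not stated. -/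
theorem result (k K : Type*) [Field k] [Field K] (h2 : ringChar k ≠ 2) [Algebra k K]
    [Algebra (RatFunc k) K] [IsScalarTower k (RatFunc k) K]
    (hdeg : Module.finrank (RatFunc k) K = 2) (y : K) (f : Polynomial k) (hf : Squarefree f)
    (hd : 1 ≤ f.natDegree)
    (heq : y ^ 2 = algebraMap (RatFunc k) K (algebraMap (Polynomial k) (RatFunc k) f))
    (p : Polynomial k) (hp : Irreducible p) (hpf : p ∣ f)
    (P₀ : FunFld.Place k (RatFunc k)) (hP₀ : P₀.1 (algebraMap (Polynomial k) (RatFunc k) p) < 1) :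
    (∃! P : FunFld.Place k K, FunFld.IsOver P P₀) ∧
    ∀ P : FunFld.Place k K, FunFld.IsOver P P₀ → FunFld.IsOverWith P P₀ 2 ∧ P.deg = P₀.deg := by
  classical
  haveI : FiniteDimensional (RatFunc k) K :=
    Module.finite_of_finrank_pos (by rw [hdeg]; norm_num)
  have hK₀ := Groth.Agent.Lib.Helper44.FFExt.isFunctionField_ratFunc k
  have hf0 : f ≠ 0 := hf.ne_zero
  have hp0 : p ≠ 0 := hp.ne_zero
  have hp0' : algebraMap (Polynomial k) (RatFunc k) p ≠ 0 :=
    (map_ne_zero_iff _ (RatFunc.algebraMap_injective k)).2 hp0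
  have hf0' : algebraMap (Polynomial k) (RatFunc k) f ≠ 0 :=
    (map_ne_zero_iff _ (RatFunc.algebraMap_injective k)).2 hf0
  -- `X` is integral at `P₀`
  have hX : 0 ≤ P₀.ord (RatFunc.X : RatFunc k) := by
    by_contra hcon
    push Not at hcon
    have h1 := Groth.Agent.Lib.Helper44.FFExt.ord_poly_of_pole hcon hp0
    have h2 := (Groth.Agent.Lib.Helper88.FF.val_lt_one_iff P₀ hp0').1 hP₀
    omega
  have hX' : P₀.1 (RatFunc.X : RatFunc k) ≤ 1 :=
    (Groth.Agent.Lib.Helper88.FF.val_le_one_iff P₀ RatFunc.X_ne_zero).2 hX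
  -- `f` vanishes at `P₀`, to order one
  have hflt : P₀.1 (algebraMap (Polynomial k) (RatFunc k) f) < 1 := by
    obtain ⟨g, rfl⟩ := hpf
    rw [map_mul, map_mul]
    exact mul_lt_one_of_nonneg_of_lt_one_left zero_le hP₀
      (Groth.Agent.Lib.Helper44.FFExt.val_poly_le_one hX' g)
  have hford : P₀.ord (algebraMap (Polynomial k) (RatFunc k) f) = 1 :=
    Groth.Agent.Lib.Helper44.FFExt.ord_squarefree_of_pos hX hf
      ((Groth.Agent.Lib.Helper88.FF.val_lt_one_iff P₀ hf0').1 hflt)
  -- every place above `P₀` has `e = 2` and `ord y = 1`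
  have key : ∀ P : FunFld.Place k K, FunFld.IsOver P P₀ →
      FunFld.IsOverWith P P₀ 2 ∧ P.ord y = 1 := by
    intro P h
    have hk : 2 * P.ord y = (FunFld.ramIdx P P₀ : ℤ) *
        P₀.ord (algebraMap (Polynomial k) (RatFunc k) f) := by
      rw [← Groth.Agent.Lib.Helper44.FFExt.isOverWith_ord_eq
        (Groth.Agent.Lib.Helper44.FFExt.isOverWith_ramIdx h), ← heq,
        Groth.Agent.Lib.Helper88.FF.ord_pow]
      push_cast
      ring
    rw [hford, mul_one] at hk
    have hle := Groth.Agent.Lib.Helper44.FFExt.ramIdx_le_finrank h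
    rw [hdeg] at hle
    have hpos := Groth.Agent.Lib.Helper44.FFExt.ramIdx_pos h
    have he : FunFld.ramIdx P P₀ = 2 := by omega
    refine ⟨?_, ?_⟩
    · have := Groth.Agent.Lib.Helper44.FFExt.isOverWith_ramIdx h
      rwa [he] at this
    · rw [he] at hk
      push_cast at hk
      omega
  -- `y` is not in `k(X)`
  have hy : y ∉ Set.range (algebraMap (RatFunc k) K) := by
    rintro ⟨r, rfl⟩
    rw [← map_pow] at heq
    exact Groth.Agent.Lib.Helper44.FFExt.not_sq_of_squarefree hf hd r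
      ((algebraMap (RatFunc k) K).injective heq)
  have hspan := Groth.Agent.Lib.Helper44.FFExt.exists_add_mul_eq hdeg hy
  have huniq : ∀ P P' : FunFld.Place k K, FunFld.IsOver P P₀ → FunFld.IsOver P' P₀ → P = P' := by
    intro P P' h h'
    obtain ⟨h1, h2⟩ := key P h
    obtain ⟨h1', h2'⟩ := key P' h'
    exact Groth.Agent.Lib.Helper44.FFExt.eq_of_isOverWith_two_of_odd h1 h1'
      (by rw [h2]; exact odd_one) (by rw [h2, h2']) hspan
  obtain ⟨P₁, hP₁⟩ := Groth.Agent.Lib.Helper44.FFExt.exists_isOver_above (K' := K) hK₀ P₀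
  refine ⟨⟨P₁, hP₁, fun P' h' => huniq P' P₁ h' hP₁⟩, ?_⟩
  intro P h
  refine ⟨(key P h).1, ?_⟩
  have hsum := Groth.Agent.Lib.Helper44.FFExt.sum_ramIdx_mul_deg (K' := K) hK₀ P₀ {P}
    (by
      intro Q
      rw [Finset.mem_singleton]
      exact ⟨fun hQ => hQ ▸ h, fun hQ => huniq Q P hQ h⟩)
  rw [Finset.sum_singleton, hdeg,
    Groth.Agent.Lib.Helper44.FFExt.ramIdx_eq (key P h).1] at hsum
  omega

end Groth.Agent.S11034
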