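import Groth.Statements.S11043
import Mathlib.RingTheory.Polynomial.Cyclotomic.Basic
import Mathlib.GroupTheory.OrderOfElement
-- import your own Groth.Agent.* helpers here

set_option autoImplicit false
open FunFld

namespace Groth.Agent.S11043

section Aux

open Polynomial Finset

theorem prod_nthRootsFinset_eq_prod_range {R M : Type*} [CommRing R] [IsDomain R] [CommMonoid M]
    {ζ : R} {k : ℕ} (hk : 0 < k) (hζ : IsPrimitiveRoot ζ k) (F : R → M) :
    ∏ θ ∈ nthRootsFinset k (1 : R), F θ = ∏ i ∈ range k, F (ζ ^ i) := by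
  symm
  refine Finset.prod_nbij (fun i => ζ ^ i) ?_ ?_ ?_ (fun _ _ => rfl)
  · intro i _
    rw [mem_nthRootsFinset hk, ← pow_mul, mul_comm, pow_mul, hζ.pow_eq_one, one_pow]
  · intro i hi j hj hij
    exact hζ.pow_inj (by simpa using hi) (by simpa using hj) hij
  · intro θ hθ
    rw [Finset.mem_coe, mem_nthRootsFinset hk] at hθ
    have : NeZero k := ⟨hk.ne'⟩
    obtain ⟨i, hi, rfl⟩ := hζ.eq_pow_of_pow_eq_one hθ
    exact ⟨i, by simpa using hi, rfl⟩

theorem prod_range_mul_of_periodic {M : Type*} [CommMonoid M] (g : ℕ → M) (m e : ℕ)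
    (hg : ∀ i, g (i + m) = g i) :
    ∏ i ∈ range (m * e), g i = (∏ i ∈ range m, g i) ^ e := by
  have hper : ∀ a i, g (m * a + i) = g i := by
    intro a
    induction a with
    | zero => intro i; simp
    | succ a ih =>
      intro i
      rw [Nat.mul_succ, add_right_comm, hg, ih]
  induction e with
  | zero => simp
  | succ e ih =>
    rw [Nat.mul_succ, Finset.prod_range_add, ih, pow_succ]
    congr 1
    exact Finset.prod_congr rfl fun i _ => hper e i

theorem aux (n d : ℕ) (hn : 0 < n) (hd : 0 < d) :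
    ((1 : Polynomial ℂ) - Polynomial.X ^ (n * d / Nat.gcd n d)) ^ Nat.gcd n d =
      ∏ θ ∈ Polynomial.nthRootsFinset n (1 : ℂ),
        (1 - Polynomial.C (θ ^ d) * Polynomial.X ^ d) := by
  set e := Nat.gcd n d with he
  have he0 : 0 < e := Nat.gcd_pos_of_pos_left d hn
  obtain ⟨m, hm⟩ : e ∣ n := Nat.gcd_dvd_left n d
  have hm0 : 0 < m := by
    rcases Nat.eq_zero_or_pos m with h | h
    · rw [h, mul_zero] at hm; omega
    · exact h
  have hζ : IsPrimitiveRoot (Complex.exp (2 * Real.pi * Complex.I / n)) n :=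
    Complex.isPrimitiveRoot_exp n hn.ne'
  set ζ := Complex.exp (2 * Real.pi * Complex.I / n) with hζdef
  -- ξ = ζ^d is a primitive m-th root
  have hξ : IsPrimitiveRoot (ζ ^ d) m := by
    have h1 : orderOf (ζ ^ d) = m := by
      rw [orderOf_pow' ζ hd.ne', ← hζ.eq_orderOf, ← he, hm, Nat.mul_div_cancel_left m he0]
    rw [← h1]
    exact IsPrimitiveRoot.orderOf _
  rw [prod_nthRootsFinset_eq_prod_range hn hζ
    (fun θ => (1 : ℂ[X]) - C (θ ^ d) * X ^ d)]
  have hmn : n = m * e := by rw [hm, mul_comm]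
  have hper : ∀ i, (fun i => (1 : ℂ[X]) - C ((ζ ^ i) ^ d) * X ^ d) (i + m) =
      (fun i => (1 : ℂ[X]) - C ((ζ ^ i) ^ d) * X ^ d) i := by
    intro i
    simp only
    rw [← pow_mul, add_mul, pow_add, mul_comm m d, pow_mul ζ d m, hξ.pow_eq_one, mul_one, pow_mul]
  rw [hmn, prod_range_mul_of_periodic _ m e hper]
  congr 1
  · -- 1 - X^(n d / e) = ∏_{i<m} (1 - C ((ζ^i)^d) X^d)
    have hCξ : IsPrimitiveRoot (C (ζ ^ d) : ℂ[X]) m :=
      hξ.map_of_injective (C_injective)
    have key := hCξ.pow_sub_pow_eq_prod_sub_mul (1 : ℂ[X]) (X ^ d) hm0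
    rw [prod_nthRootsFinset_eq_prod_range hm0 hCξ (fun η => (1 : ℂ[X]) - η * X ^ d)] at key
    rw [one_pow] at key
    have hexp : m * e * d / e = d * m := by
      rw [mul_comm m e, mul_assoc, Nat.mul_div_cancel_left _ he0, mul_comm]
    rw [hexp, pow_mul, key]
    refine Finset.prod_congr rfl fun i _ => ?_
    rw [← C_pow, ← pow_mul, ← pow_mul, mul_comm d i]

end Aux

/-- For positive integers `n`, `d` with `e = gcd(n, d)`, in `ℂ[t]` one has `(1 - t^{nd/e})^e = ∏_{θⁿ =
1} (1 - (θ t)^d)`, the product over the complex `n`-th roots of unity. -/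
theorem result (n d : ℕ) (hn : 0 < n) (hd : 0 < d) :
    ((1 : Polynomial ℂ) - Polynomial.X ^ (n * d / Nat.gcd n d)) ^ Nat.gcd n d =
      ∏ θ ∈ Polynomial.nthRootsFinset n (1 : ℂ),
        (1 - Polynomial.C (θ ^ d) * Polynomial.X ^ d) := aux n d hn hd

end Groth.Agent.S11043
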