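import Groth.Statements.S11046
import Groth.Agent.Lib.Helper91.FunFldAC
import Groth.Agent.S11045

set_option autoImplicit false
open FunFld

namespace Groth.Agent.S11046


open Groth.Agent.Lib.Helper88.FF Groth.Agent.Lib.Helper91.FunFldAC

variable {k K : Type*} [Field k] [Field K] [Algebra k K]

/-- `m` is a gap number at `P`. -/
def Gap (P : FunFld.Place k K) (m : ℕ) : Prop :=
  FunFld.L (Finsupp.single P (m : ℤ)) = FunFld.L (Finsupp.single P ((m : ℤ) - 1))

open scoped Classical in
theorem ell_step (hK : FunFld.IsFunctionField k K) (P : FunFld.Place k K) (hP : P.deg = 1) (m : ℕ) :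
    FunFld.ell (Finsupp.single P ((m + 1 : ℕ) : ℤ)) =
      FunFld.ell (Finsupp.single P (m : ℤ)) + (if Gap P (m + 1) then 0 else 1) := by
  have hle : (Finsupp.single P (m : ℤ) : FunFld.Divisor k K) ≤ Finsupp.single P ((m + 1 : ℕ) : ℤ) := by
    rw [Finsupp.single_le_single]
    push_cast
    omega
  have e : (((m + 1 : ℕ) : ℤ) - 1) = (m : ℤ) := by push_cast; ring
  have h1 := ell_sub_ell_le hK hle
  rw [deg_single, deg_single, hP] at h1
  have hdeg : ((m + 1 : ℕ) : ℤ) * ((1 : ℕ) : ℤ) - (m : ℤ) * ((1 : ℕ) : ℤ) = 1 := by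
    push_cast; ring
  rw [hdeg] at h1
  have hfd := finiteDimensional_L hK (Finsupp.single P ((m + 1 : ℕ) : ℤ))
  have hmono := L_mono hle
  split_ifs with hg
  · unfold Gap at hg
    rw [e] at hg
    unfold FunFld.ell
    rw [hg, add_zero]
  · have hlt : FunFld.L (Finsupp.single P (m : ℤ)) < FunFld.L (Finsupp.single P ((m + 1 : ℕ) : ℤ)) := by
      refine lt_of_le_of_ne hmono ?_
      intro heq
      apply hg
      unfold Gap
      rw [e, heq]
    have h2 := Submodule.finrank_lt_finrank_of_lt hlt
    unfold FunFld.ell at h1 ⊢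
    omega

open scoped Classical in
theorem ell_add_card_gaps (hK : FunFld.IsFunctionField k K) (P : FunFld.Place k K) (hP : P.deg = 1)
    (n : ℕ) :
    FunFld.ell (Finsupp.single P (n : ℤ)) + ((Finset.Icc 1 n).filter (Gap P)).card = n + 1 := by
  induction n with
  | zero =>
    have : (Finsupp.single P ((0 : ℕ) : ℤ) : FunFld.Divisor k K) = 0 := by simp
    rw [this, ell_zero hK]
    simp
  | succ m ih =>
    rw [ell_step hK P hP m]
    have hIcc : Finset.Icc 1 (m + 1) = insert (m + 1) (Finset.Icc 1 m) := by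
      ext j
      simp only [Finset.mem_Icc, Finset.mem_insert]
      omega
    rw [hIcc, Finset.filter_insert]
    have hnm : m + 1 ∉ (Finset.Icc 1 m).filter (Gap P) := by
      simp only [Finset.mem_filter, Finset.mem_Icc]
      omega
    split_ifs with hg
    · rw [Finset.card_insert_of_notMem hnm]
      omega
    · omega

/-- Over an algebraically closed constant field, for a place `P` of a function field of genus `g` and a
natural number `n ≤ 2g - 2` one has `ℓ(nP) ≤ 1 + n/2` (Clifford's bound for multiples of a point). -/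
theorem result
    (k K : Type*) [Field k] [IsAlgClosed k] [Field K] [Algebra k K]
    (hK : FunFld.IsFunctionField k K) (P : FunFld.Place k K) (n : ℕ)
    (hn : (n : ℤ) ≤ 2 * (FunFld.genus k K : ℤ) - 2) :
    2 * FunFld.ell (Finsupp.single P (n : ℤ)) ≤ n + 2 := by
  classical
  have hP := deg_eq_one hK P
  have hA := ell_add_card_gaps hK P hP n
  suffices hB : n ≤ 2 * ((Finset.Icc 1 n).filter (Gap P)).card by omega
  by_cases hex : ∃ n', n < n' ∧ Gap P n'
  · obtain ⟨hn', hgap⟩ := Nat.find_spec hex
    have hmin : ∀ j, n < j → j < Nat.find hex → ¬ Gap P j :=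
      fun j h1 h2 hg => Nat.find_min hex h2 ⟨h1, hg⟩
    have h45 := Groth.Agent.S11045.result k K hK P (Nat.find hex) (by omega) hgap
    have hset : {m : ℕ | 1 ≤ m ∧ m < Nat.find hex ∧
        FunFld.L (Finsupp.single P (m : ℤ)) = FunFld.L (Finsupp.single P ((m : ℤ) - 1))} =
        ↑((Finset.Icc 1 n).filter (Gap P)) := by
      ext j
      simp only [Set.mem_setOf_eq, Finset.coe_filter, Finset.mem_Icc]
      constructor
      · rintro ⟨h1, h2, h3⟩
        refine ⟨⟨h1, ?_⟩, h3⟩
        by_contra hjn
        exact hmin j (by omega) h2 h3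
      · rintro ⟨⟨h1, h2⟩, h3⟩
        exact ⟨h1, by omega, h3⟩
    rw [hset, Set.ncard_coe_finset] at h45
    omega
  · push Not at hex
    have hAm := ell_add_card_gaps hK P hP (n + 2 * FunFld.genus k K)
    have hGm : (Finset.Icc 1 (n + 2 * FunFld.genus k K)).filter (Gap P) =
        (Finset.Icc 1 n).filter (Gap P) := by
      ext j
      simp only [Finset.mem_filter, Finset.mem_Icc]
      constructor
      · rintro ⟨⟨h1, h2⟩, h3⟩
        refine ⟨⟨h1, ?_⟩, h3⟩
        by_contra hjn
        exact hex j (by omega) h3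
      · rintro ⟨⟨h1, h2⟩, h3⟩
        exact ⟨⟨h1, by omega⟩, h3⟩
    rw [hGm] at hAm
    have hell := ell_eq_of_le_deg hK (Finsupp.single P ((n + 2 * FunFld.genus k K : ℕ) : ℤ))
      (by rw [deg_single, hP]; push_cast; omega)
    rw [deg_single, hP] at hell
    push_cast at hell
    zify at hAm ⊢
    omega

end Groth.Agent.S11046
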