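import Groth.Statements.S11049
import Mathlib.RingTheory.Length
import Mathlib.RingTheory.Ideal.Span
-- import your own Groth.Agent.* helpers here

set_option autoImplicit false
open CAlg

namespace Groth.Agent.S11049

open Submodule in
theorem finrank_eq_length_toNat (K M : Type*) [DivisionRing K] [AddCommGroup M] [Module K M] :
    Module.finrank K M = (Module.length K M).toNat := by
  rw [Module.length_eq_rank, Cardinal.toNat_toENat]
  rfl

open Submodule in
theorem aux
    (k R : Type*) [Field k] [CommRing R]
    [IsDomain R] [Algebra k R] (S : Subalgebra k R) (x : S) (hx : (x : R) ≠ 0)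
    [Module.Finite k (R ⧸ Subalgebra.toSubmodule S)] :
    Module.length k (R ⧸ Ideal.span {(x : R)}) = Module.length k (S ⧸ Ideal.span {x}) := by
  set A : Submodule k R := Subalgebra.toSubmodule S with hA
  set C : Submodule k R := A.map (LinearMap.mulLeft k (x : R)) with hC
  set I' : Submodule k S := (Ideal.span {x}).restrictScalars k with hI'
  set B' : Submodule k R := (Ideal.span {(x : R)}).restrictScalars k with hB'
  have hCA : C ≤ A := by
    rintro _ ⟨s, hs, rfl⟩
    exact S.mul_mem x.2 hs
  have hCB : C ≤ B' := by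
    rintro _ ⟨s, hs, rfl⟩
    exact Ideal.mul_mem_right _ _ (Ideal.mem_span_singleton_self _)
  have hI'C : I' ≤ C.comap S.val.toLinearMap := by
    intro s hs
    obtain ⟨t, rfl⟩ := Ideal.mem_span_singleton'.mp hs
    refine ⟨(t : R), t.2, ?_⟩
    simp [mul_comm]
  -- maps
  let α : (S ⧸ I') →ₗ[k] (R ⧸ C) := mapQ I' C S.val.toLinearMap hI'C
  let p : (R ⧸ C) →ₗ[k] (R ⧸ A) := mapQ C A LinearMap.id hCA
  let β : (R ⧸ A) →ₗ[k] (R ⧸ C) := mapQ A C (LinearMap.mulLeft k (x : R)) (le_comap_map _ _)
  let q : (R ⧸ C) →ₗ[k] (R ⧸ B') := mapQ C B' LinearMap.id hCB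
  have hα : Function.Injective α := by
    rw [injective_iff_map_eq_zero]
    intro y hy
    obtain ⟨s, rfl⟩ := Submodule.Quotient.mk_surjective _ y
    rw [Submodule.Quotient.mk_eq_zero]
    have : (s : R) ∈ C := by
      simpa [α, Submodule.Quotient.mk_eq_zero] using hy
    obtain ⟨t, ht, hts⟩ := this
    refine Ideal.mem_span_singleton'.mpr ⟨⟨t, ht⟩, ?_⟩
    ext
    simpa [mul_comm] using hts
  have hp : Function.Surjective p := by
    intro y
    obtain ⟨r, rfl⟩ := Submodule.Quotient.mk_surjective _ y
    exact ⟨Submodule.Quotient.mk r, rfl⟩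
  have hαp : Function.Exact α p := by
    intro y
    obtain ⟨r, rfl⟩ := Submodule.Quotient.mk_surjective _ y
    constructor
    · intro h
      have hr : r ∈ A := by simpa [p, Submodule.Quotient.mk_eq_zero] using h
      exact ⟨Submodule.Quotient.mk ⟨r, hr⟩, rfl⟩
    · rintro ⟨z, hz⟩
      obtain ⟨s, rfl⟩ := Submodule.Quotient.mk_surjective _ z
      rw [← hz]
      simp only [α, p, mapQ_apply, LinearMap.id_coe, id_eq, Submodule.Quotient.mk_eq_zero]
      exact s.2
  have hβ : Function.Injective β := by
    rw [injective_iff_map_eq_zero]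
    intro y hy
    obtain ⟨r, rfl⟩ := Submodule.Quotient.mk_surjective _ y
    rw [Submodule.Quotient.mk_eq_zero]
    have : (x : R) * r ∈ C := by
      simpa [β, Submodule.Quotient.mk_eq_zero] using hy
    obtain ⟨t, ht, hts⟩ := this
    have : t = r := mul_left_cancel₀ hx (by simpa using hts)
    exact this ▸ ht
  have hq : Function.Surjective q := by
    intro y
    obtain ⟨r, rfl⟩ := Submodule.Quotient.mk_surjective _ y
    exact ⟨Submodule.Quotient.mk r, rfl⟩
  have hβq : Function.Exact β q := by
    intro y
    obtain ⟨r, rfl⟩ := Submodule.Quotient.mk_surjective _ y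
    constructor
    · intro h
      have hr : r ∈ B' := by simpa [q, Submodule.Quotient.mk_eq_zero] using h
      obtain ⟨t, rfl⟩ := Ideal.mem_span_singleton'.mp hr
      refine ⟨Submodule.Quotient.mk t, ?_⟩
      simp [β, mul_comm]
    · rintro ⟨z, hz⟩
      obtain ⟨s, rfl⟩ := Submodule.Quotient.mk_surjective _ z
      rw [← hz]
      simp only [β, q, mapQ_apply, LinearMap.id_coe, id_eq, Submodule.Quotient.mk_eq_zero]
      exact Ideal.mul_mem_right _ _ (Ideal.mem_span_singleton_self _)
  have e1 := Module.length_eq_add_of_exact α p hα hp hαp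
  have e2 := Module.length_eq_add_of_exact β q hβ hq hβq
  have hfin : Module.length k (R ⧸ A) ≠ ⊤ := by
    rw [Module.length_eq_finrank]
    exact ENat.natCast_ne_top _
  have e3 : Module.length k (S ⧸ I') = Module.length k (R ⧸ B') := by
    rw [e1, add_comm] at e2
    exact ENat.add_right_injective_of_ne_top hfin e2
  rw [← (Submodule.Quotient.restrictScalarsEquiv k (Ideal.span {x})).length_eq,
    ← (Submodule.Quotient.restrictScalarsEquiv k (Ideal.span {(x : R)})).length_eq]
  exact e3.symm

/-- For `k`-algebras `S ⊆ R` with `R` an integral domain and a nonzero `x ∈ S`, if `R/S` and `R/Rx` are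
finite-dimensional over `k` then `dim_k R/Rx = dim_k S/Sx`. (The published statement allows `x = 0`;
then `R` is a field finite over `k` and the two sides are `dim_k R` and `dim_k S`, which differ for
`S = k ⊊ R`; the published proof multiplies by `x` as an injection, so `x ≠ 0` is assumed here.) -/
theorem result
    (k R : Type*) [Field k] [CommRing R]
    [IsDomain R] [Algebra k R] (S : Subalgebra k R) (x : S) (hx : (x : R) ≠ 0)
    [Module.Finite k (R ⧸ Subalgebra.toSubmodule S)]
    [Module.Finite k (R ⧸ Ideal.span {(x : R)})] :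
    Module.finrank k (R ⧸ Ideal.span {(x : R)}) = Module.finrank k (S ⧸ Ideal.span {x}) := by
  rw [finrank_eq_length_toNat, finrank_eq_length_toNat, aux k R S x hx]

end Groth.Agent.S11049
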