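import Groth.Statements.S11050
import Mathlib

set_option autoImplicit false
open FunFld

namespace Groth.Agent.S11050


open IntermediateField

variable {k K : Type*} [Field k] [Field K] [Algebra k K]

/-- In a function field of one variable a transcendental element is a transcendence basis. -/
theorem isTranscendenceBasis_singleton (hK : FunFld.IsFunctionField k K) {y : K}
    (hy : Transcendental k y) :
    IsTranscendenceBasis k (fun i : ({y} : Set K) => (i : K)) := by
  obtain ⟨⟨x, hx, hfin⟩, -⟩ := hK
  have h1 : Algebra.IsAlgebraic (IntermediateField.adjoin k ({x} : Set K)) K :=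
    Algebra.IsAlgebraic.of_finite _ _
  have h2 : Algebra.IsAlgebraic (Algebra.adjoin k ({x} : Set K)) K := by
    open scoped IntermediateField.algebraAdjoinAdjoin in
    exact Algebra.IsAlgebraic.trans (Algebra.adjoin k ({x} : Set K))
      (IntermediateField.adjoin k ({x} : Set K)) K
  have h3 : Algebra.trdeg k K ≤ 1 := by
    have := Algebra.IsAlgebraic.trdeg_le_cardinalMk k ({x} : Set K)
    simpa using this
  have hy' : AlgebraicIndependent k (fun i : ({y} : Set K) => (i : K)) := by
    rw [algebraicIndependent_unique_type_iff]
    exact hy
  exact hy'.isTranscendenceBasis_of_trdeg_le_of_finite (by simpa using h3)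

/-- The separable closure of `k(x)` in `K`, as an intermediate field of `K/k`. -/
noncomputable def sc (k : Type*) {K : Type*} [Field k] [Field K] [Algebra k K] (x : K) :
    IntermediateField k K :=
  (separableClosure (IntermediateField.adjoin k ({x} : Set K)) K).restrictScalars k

theorem mem_sc {x n : K} : n ∈ sc k x ↔ IsSeparable (IntermediateField.adjoin k ({x} : Set K)) n := by
  unfold sc
  rw [IntermediateField.mem_restrictScalars, mem_separableClosure_iff]

theorem self_mem_sc (x : K) : x ∈ sc k x :=
  le_restrictScalars_separableClosure _ (subset_adjoin k _ (Set.mem_singleton x))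

theorem sc_le_sc {x n : K} (h : x ∈ sc k n) : sc k x ≤ sc k n := by
  unfold sc
  rw [separableClosure_le_separableClosure_iff, adjoin_le_iff]
  intro z hz
  rw [Set.mem_singleton_iff] at hz
  subst hz
  exact h

/-- Exchange step (characteristic `p`, perfect constants): if `n` is not separable over `k(x)`,
then `n` is transcendental and `x` is separable over `k(n)`. -/
theorem exchange (hK : FunFld.IsFunctionField k K) (p : ℕ) (hp : p.Prime) [CharP k p]
    [PerfectField k] {x n : K} (hx : Transcendental k x) (hn : n ∉ sc k x) :
    Transcendental k n ∧ x ∈ sc k n := by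
  classical
  have : ExpChar k p := .prime hp
  have : CharP K p := .of_ringHom_of_ne_zero (algebraMap k K) p hp.ne_zero
  have : ExpChar K p := .prime hp
  have H : ∀ s : Finset K,
      LinearIndepOn k _root_.id (s : Set K) → LinearIndepOn k (· ^ p) (s : Set K) := by
    intro s hs
    apply hs.map_of_injective_injective (frobeniusEquiv k p).symm (frobenius K p).toAddMonoidHom <;>
      simp [frobenius, Algebra.smul_def, mul_pow, ← map_pow, frobeniusEquiv_symm_pow]
  have hnx : n ≠ x := by
    rintro rfl
    exact hn (self_mem_sc _)
  have hnx' : n ∉ ({x} : Set K) := by simpa using hnx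
  have hB := isTranscendenceBasis_singleton hK hx
  obtain ⟨i, hi1, hi2⟩ := exists_isTranscendenceBasis_and_isSeparable_of_linearIndepOn_pow'
    p hp (a := _root_.id) H ({x} : Set K) n hB hnx'
  rw [Set.image_id] at hi2
  have hnalg : IsAlgebraic (Algebra.adjoin k ({x} : Set K)) n := by
    have := hB.isAlgebraic
    have e : Set.range (fun i : ({x} : Set K) => (i : K)) = {x} := by
      ext z; simp
    rw [e] at this
    exact this.isAlgebraic n
  by_cases hin : i = n
  · -- then n is separable over k(x): contradiction
    exfalso
    apply hn
    rw [mem_sc]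
    have e : insert n ({x} : Set K) \ {i} = {x} := by
      rw [hin]
      ext z
      simp only [Set.mem_sdiff, Set.mem_insert_iff, Set.mem_singleton_iff]
      constructor
      · rintro ⟨h1 | h1, h2⟩
        · exact absurd h1 h2
        · exact h1
      · intro h1
        exact ⟨Or.inr h1, by rw [h1]; exact hnx.symm⟩
    rw [e, hin] at hi2
    exact hi2
  · by_cases hix : i = x
    · have e : insert n ({x} : Set K) \ {i} = {n} := by
        rw [hix]
        ext z
        simp only [Set.mem_sdiff, Set.mem_insert_iff, Set.mem_singleton_iff]
        constructor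
        · rintro ⟨h1 | h1, h2⟩
          · exact h1
          · exact absurd h1 h2
        · intro h1
          exact ⟨Or.inl h1, by rw [h1]; exact hnx⟩
      have hn_tr : Transcendental k n := by
        have h1 := hi1.1
        have h2 := h1.transcendental ⟨n, by rw [e]; exact Set.mem_singleton n⟩
        exact h2
      refine ⟨hn_tr, ?_⟩
      rw [mem_sc]
      rw [e, hix] at hi2
      exact hi2
    · -- i ∉ {n, x}: then {n, x} algebraically independent, contradiction
      exfalso
      have e : insert n ({x} : Set K) \ {i} = {n, x} := by
        ext z
        simp only [Set.mem_sdiff, Set.mem_insert_iff, Set.mem_singleton_iff]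
        constructor
        · rintro ⟨h1, -⟩
          exact h1
        · rintro (h1 | h1)
          · exact ⟨Or.inl h1, by rw [h1]; exact fun h => hin h.symm⟩
          · exact ⟨Or.inr h1, by rw [h1]; exact fun h => hix h.symm⟩
      have h1 : AlgebraicIndependent k (fun j : ↥(insert n ({x} : Set K) \ {i}) => (j : K)) := hi1.1
      have h2 := h1.transcendental_adjoin (s := {⟨x, by rw [e]; simp⟩})
        (i := ⟨n, by rw [e]; simp⟩)
        (by rw [Set.mem_singleton_iff, Subtype.mk.injEq]; exact hnx)
      apply h2
      have e2 : ((fun j : ↥(insert n ({x} : Set K) \ {i}) => (j : K)) '' {⟨x, by rw [e]; simp⟩}) =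
          ({x} : Set K) := by simp
      rw [e2]
      exact hnalg

/-- Over an algebraically closed constant field, let `W` be a finite-dimensional subspace of the
function field `K` containing `1` and generating `K` over `k` (the span of an effective birational
projective map). Then `W` contains a separating variable `x`, and for each separating `x ∈ W` some
`y ∈ W` gives `K = k(x, y)`. -/
theorem result
    (k K : Type*) [Field k] [IsAlgClosed k] [Field K] [Algebra k K]
    (hK : FunFld.IsFunctionField k K) (W : Submodule k K)
    [FiniteDimensional k W] (h1 : (1 : K) ∈ W)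
    (hW : IntermediateField.adjoin k (W : Set K) = ⊤) :
    (∃ x ∈ W, Algebra.IsSeparable (IntermediateField.adjoin k ({x} : Set K)) K) ∧
    ∀ x ∈ W, Algebra.IsSeparable (IntermediateField.adjoin k ({x} : Set K)) K →
      ∃ y ∈ W, IntermediateField.adjoin k ({x, y} : Set K) = ⊤ := by
  classical
  -- a finite generating set of `W`
  obtain ⟨B, hBW⟩ : ∃ B : Finset K, Submodule.span k (B : Set K) = W :=
    Module.Finite.iff_fg.mp inferInstance
  have hBsub : (B : Set K) ⊆ W := by
    rw [← hBW]
    exact Submodule.subset_span
  have hBtop : IntermediateField.adjoin k (B : Set K) = ⊤ := by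
    rw [eq_top_iff, ← hW, IntermediateField.adjoin_le_iff]
    intro w hw
    have hw' : w ∈ Submodule.span k (B : Set K) := by
      rw [hBW]
      exact hw
    exact (Submodule.span_le
      (p := (IntermediateField.adjoin k (B : Set K)).toSubalgebra.toSubmodule)).mpr
      (IntermediateField.subset_adjoin k _) hw'
  -- a transcendental element in `B`
  have hT : ∃ x ∈ B, Transcendental k x := by
    by_contra hcon
    push Not at hcon
    obtain ⟨⟨x₀, hx₀, -⟩, hconst⟩ := hK
    have hle : IntermediateField.adjoin k (B : Set K) ≤ ⊥ := by
      rw [IntermediateField.adjoin_le_iff]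
      intro b hb
      have hb' : IsAlgebraic k b := by
        have := hcon b hb
        rwa [Transcendental, not_not] at this
      obtain ⟨c, hc⟩ := hconst b hb'
      rw [← hc]
      exact IntermediateField.algebraMap_mem _ c
    rw [hBtop] at hle
    have hx₀' : x₀ ∈ (⊥ : IntermediateField k K) := hle IntermediateField.mem_top
    rw [IntermediateField.mem_bot] at hx₀'
    obtain ⟨c, rfl⟩ := hx₀'
    exact hx₀ (isAlgebraic_algebraMap c)
  have hsep_of_sc_top : ∀ x : K, (∀ b ∈ B, b ∈ sc k x) →
      Algebra.IsSeparable (IntermediateField.adjoin k ({x} : Set K)) K := by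
    intro x hx
    rw [← separableClosure.eq_top_iff, ← (IntermediateField.restrictScalars_injective k).eq_iff,
      IntermediateField.restrictScalars_top, eq_top_iff, ← hBtop, IntermediateField.adjoin_le_iff]
    exact hx
  have partA : ∃ x ∈ W, Algebra.IsSeparable (IntermediateField.adjoin k ({x} : Set K)) K := by
    obtain h0 | ⟨p, hp, hpk⟩ := CharP.exists' k
    · -- characteristic zero
      obtain ⟨x, hxB, hx⟩ := hT
      refine ⟨x, hBsub hxB, ?_⟩
      have hB := isTranscendenceBasis_singleton hK hx
      have halg := hB.isAlgebraic_field
      have e : Set.range (fun i : ({x} : Set K) => (i : K)) = {x} := by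
        ext z; simp
      rw [e] at halg
      exact Algebra.IsAlgebraic.isSeparable_of_perfectField
    · -- characteristic p
      let T := B.filter (fun x => Transcendental k x)
      have hTne : T.Nonempty := by
        obtain ⟨x, hxB, hx⟩ := hT
        exact ⟨x, Finset.mem_filter.mpr ⟨hxB, hx⟩⟩
      obtain ⟨x, hxmax⟩ := T.exists_maximalFor (sc k) hTne
      have hxT : x ∈ B ∧ Transcendental k x := Finset.mem_filter.mp hxmax.1
      refine ⟨x, hBsub hxT.1, hsep_of_sc_top x ?_⟩
      intro b hb
      by_contra hbn
      obtain ⟨hbtr, hxb⟩ := exchange hK p hp.out hxT.2 hbn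
      have hbT : b ∈ T := Finset.mem_filter.mpr ⟨hb, hbtr⟩
      have h1 : sc k x ≤ sc k b := sc_le_sc hxb
      have h2 := hxmax.2 hbT h1
      exact hbn (h2 (self_mem_sc b))
  refine ⟨partA, ?_⟩
  intro x hxW hsep
  have halg : Algebra.IsAlgebraic (IntermediateField.adjoin k ({x} : Set K)) K := inferInstance
  have hBtopF : IntermediateField.adjoin (IntermediateField.adjoin k ({x} : Set K)) (B : Set K) = ⊤ := by
    apply IntermediateField.restrictScalars_injective k
    rw [IntermediateField.adjoin_adjoin_left, IntermediateField.restrictScalars_top, eq_top_iff,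
      ← hBtop]
    exact IntermediateField.adjoin.mono _ _ _ Set.subset_union_right
  have hfin : FiniteDimensional (IntermediateField.adjoin k ({x} : Set K)) K := by
    have h1 := IntermediateField.finiteDimensional_adjoin
      (K := IntermediateField.adjoin k ({x} : Set K)) (S := (B : Set K))
      (fun b _ => (halg.isAlgebraic b).isIntegral)
    rw [hBtopF] at h1
    exact (IntermediateField.topEquiv
      (F := IntermediateField.adjoin k ({x} : Set K)) (E := K)).toLinearEquiv.finiteDimensional
  have hfinIF : Finite (IntermediateField (IntermediateField.adjoin k ({x} : Set K)) K) :=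
    Field.finite_intermediateField_of_exists_primitive_element _ _
      (Field.exists_primitive_element _ _)
  have hkinf : Infinite k := IsAlgClosed.instInfinite
  obtain ⟨y, hy⟩ := Submodule.exists_forall_notMem_of_forall_ne_top
    (K := k) (M := W)
    (ι := {E : IntermediateField (IntermediateField.adjoin k ({x} : Set K)) K // E ≠ ⊤})
    (fun E => Submodule.comap W.subtype ((E.1.restrictScalars k).toSubalgebra.toSubmodule))
    (by
      intro E hE
      apply E.2
      have hle : IntermediateField.adjoin (IntermediateField.adjoin k ({x} : Set K)) (B : Set K) ≤ E.1 := by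
        rw [IntermediateField.adjoin_le_iff]
        intro b hb
        have hbW : b ∈ W := hBsub hb
        have : (⟨b, hbW⟩ : W) ∈ Submodule.comap W.subtype
            ((E.1.restrictScalars k).toSubalgebra.toSubmodule) := by
          rw [hE]
          exact Submodule.mem_top
        exact this
      rw [hBtopF] at hle
      exact eq_top_iff.mpr hle)
  refine ⟨(y : K), y.2, ?_⟩
  have hytop : IntermediateField.adjoin (IntermediateField.adjoin k ({x} : Set K)) ({(y : K)} : Set K) = ⊤ := by
    by_contra hne
    apply hy ⟨_, hne⟩
    show (y : K) ∈ IntermediateField.adjoin (IntermediateField.adjoin k ({x} : Set K)) ({(y : K)} : Set K)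
    exact IntermediateField.subset_adjoin _ _ (Set.mem_singleton _)
  have h3 := IntermediateField.adjoin_adjoin_left k ({x} : Set K) ({(y : K)} : Set K)
  rw [hytop, IntermediateField.restrictScalars_top] at h3
  rw [Set.insert_eq, ← h3]

end Groth.Agent.S11050
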