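import Groth.Statements.S11053
-- import your own Groth.Agent.* helpers here
import Groth.Agent.Lib.Helper34.SV.StrongFixed

set_option autoImplicit false
open FunFld

namespace Groth.Agent.S11053

/-- Over an algebraically closed constant field, let `τ` be a `k`-embedding of the function field `K` of
genus `g` into itself, of degree `deg τ = [K : τ(K)]`. A place is a strong fixed point of `τ` when
`τ` maps its maximal ideal into the square of that ideal. For every integer `n > g` there are at
most `1 + deg τ + (n + deg τ / n) g + 2g²(g-1)/n` strong fixed points. -/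
theorem result
    (k K : Type*) [Field k] [IsAlgClosed k] [Field K] [Algebra k K]
    (hK : FunFld.IsFunctionField k K) (τ : K →ₐ[k] K) (n : ℕ)
    (hn : FunFld.genus k K < n) :
    {P : FunFld.Place k K | ∀ x : K, P.1 x < 1 → P.1 (τ x) ≤ WithZero.exp (-2)}.Finite ∧
    (Set.ncard {P : FunFld.Place k K | ∀ x : K, P.1 x < 1 → P.1 (τ x) ≤ WithZero.exp (-2)} : ℝ) ≤
      1 + Module.finrank τ.fieldRange K +
        (n + (Module.finrank τ.fieldRange K : ℝ) / n) * FunFld.genus k K +
        2 * (FunFld.genus k K : ℝ) ^ 2 * (FunFld.genus k K - 1) / n := by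
  classical
  have hset : {P : FunFld.Place k K | ∀ x : K, P.1 x < 1 → P.1 (τ x) ≤ WithZero.exp (-2)} =
      {P : FunFld.Place k K | FunFld.IsStrongFixedPt τ P} := rfl
  rw [hset]
  have hn0 : (0 : ℝ) < n := by
    have : 0 < n := by omega
    exact_mod_cast this
  by_cases hne : ∃ P₀ : FunFld.Place k K, FunFld.IsStrongFixedPt τ P₀
  · obtain ⟨P₀, hP₀⟩ := hne
    obtain ⟨hfin, hN⟩ := Groth.Agent.Lib.Helper34.SV.strongFixed_bound hK τ n hn P₀ hP₀
    refine ⟨hfin, ?_⟩
    have hN' : (n : ℝ) * (Set.ncard {P : FunFld.Place k K | FunFld.IsStrongFixedPt τ P} : ℝ) ≤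
        (Module.finrank τ.fieldRange K : ℝ) * n +
          (Module.finrank τ.fieldRange K : ℝ) * FunFld.genus k K +
          (FunFld.genus k K : ℝ) * n ^ 2 + n +
          2 * (FunFld.genus k K : ℝ) ^ 2 * ((FunFld.genus k K : ℝ) - 1) := by
      exact_mod_cast hN
    have hrhs : 1 + (Module.finrank τ.fieldRange K : ℝ) +
        (n + (Module.finrank τ.fieldRange K : ℝ) / n) * FunFld.genus k K +
        2 * (FunFld.genus k K : ℝ) ^ 2 * (FunFld.genus k K - 1) / n =
        ((Module.finrank τ.fieldRange K : ℝ) * n +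
          (Module.finrank τ.fieldRange K : ℝ) * FunFld.genus k K +
          (FunFld.genus k K : ℝ) * n ^ 2 + n +
          2 * (FunFld.genus k K : ℝ) ^ 2 * ((FunFld.genus k K : ℝ) - 1)) / n := by
      field_simp
      ring
    rw [hrhs, le_div_iff₀ hn0, mul_comm]
    exact hN'
  · have hempty : {P : FunFld.Place k K | FunFld.IsStrongFixedPt τ P} = ∅ := by
      ext P
      simp only [Set.mem_setOf_eq, Set.mem_empty_iff_false, iff_false]
      exact fun h => hne ⟨P, h⟩
    rw [hempty]
    refine ⟨Set.finite_empty, ?_⟩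
    rw [Set.ncard_empty]
    have hd : (0 : ℝ) ≤ (Module.finrank τ.fieldRange K : ℝ) := Nat.cast_nonneg _
    have hg : (0 : ℝ) ≤ (FunFld.genus k K : ℝ) := Nat.cast_nonneg _
    have h1 : 0 ≤ (n + (Module.finrank τ.fieldRange K : ℝ) / n) * FunFld.genus k K := by
      positivity
    have h2 : 0 ≤ 2 * (FunFld.genus k K : ℝ) ^ 2 * (FunFld.genus k K - 1) / n := by
      rcases Nat.eq_zero_or_pos (FunFld.genus k K) with h0 | h0
      · rw [h0]
        simp
      · have : (1 : ℝ) ≤ (FunFld.genus k K : ℝ) := by exact_mod_cast h0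
        have : (0 : ℝ) ≤ (FunFld.genus k K : ℝ) - 1 := by linarith
        positivity
    simp only [Nat.cast_zero]
    linarith

end Groth.Agent.S11053
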