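import Groth.Statements.S11054
-- import your own Groth.Agent.* helpers here
import Groth.Agent.Lib.Helper34.FunFldPlane
import Mathlib.FieldTheory.PrimitiveElement
import Mathlib.RingTheory.PowerBasis
import Mathlib.RingTheory.AlgebraTower
import Mathlib.Algebra.BigOperators.Intervals

set_option autoImplicit false
open FunFld

namespace Groth.Agent.S11054

section aux

open Groth.Agent.Lib.Helper88.FF WithZero Groth.Agent.Lib.Helper34.FunFldPlane
open scoped IntermediateField

variable {k K : Type*} [Field k] [Field K] [Algebra k K]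

/-- Counting: the monomials `x'^a y^b`, `b < d`, `a + b ≤ m`, are linearly independent elements of
`L(m D)`. -/
lemma count_le (hK : IsFunctionField k K) (D : Divisor k K) (hD0 : 0 ≤ D) (x' y : K)
    (hx'L : x' ∈ L D) (hyL : y ∈ L D) (hx't : Transcendental k x')
    (hFy : (IntermediateField.adjoin k ({x'} : Set K))⟮y⟯ = ⊤)
    [FiniteDimensional (IntermediateField.adjoin k ({x'} : Set K)) K] (m : ℕ) :
    ∑ b : Fin (Module.finrank (IntermediateField.adjoin k ({x'} : Set K)) K), (m + 1 - (b : ℕ)) ≤
      ell (m • D) := by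
  classical
  set F := IntermediateField.adjoin k ({x'} : Set K) with hF
  set d := Module.finrank F K with hd
  have hmin : (minpoly F y).natDegree = d :=
    (Field.primitive_element_iff_minpoly_natDegree_eq F y).1 hFy
  have hc' : LinearIndependent F (fun b : Fin d => y ^ (b : ℕ)) := by
    have := linearIndependent_pow (K := F) y
    rw [hmin] at this
    exact this
  have hgen : Transcendental k (IntermediateField.AdjoinSimple.gen k x') := by
    intro halg
    apply hx't
    have := halg.algebraMap (A := K)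
    simpa using this
  have hb : LinearIndependent k (fun a : ℕ => (IntermediateField.AdjoinSimple.gen k x') ^ a) :=
    linearIndependent_pow_of_transcendental hgen
  have hli := linearIndependent_smul hb hc'
  let inj : (Σ b : Fin d, Fin (m + 1 - (b : ℕ))) → ℕ × Fin d := fun s => ((s.2 : ℕ), s.1)
  have hinj : Function.Injective inj := by
    rintro ⟨b, a⟩ ⟨b', a'⟩ h
    simp only [inj, Prod.mk.injEq] at h
    obtain ⟨h1, rfl⟩ := h
    congr
    exact Fin.ext h1
  have hli2 := hli.comp inj hinj
  have hmem : ∀ s : (Σ b : Fin d, Fin (m + 1 - (b : ℕ))),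
      x' ^ (s.2 : ℕ) * y ^ (s.1 : ℕ) ∈ L (m • D) := by
    intro s
    have h1 := mul_mem_L (pow_mem_L hx'L (s.2 : ℕ)) (pow_mem_L hyL (s.1 : ℕ))
    rw [← add_nsmul] at h1
    refine L_mono ?_ h1
    have hs := s.2.2
    exact nsmul_le_nsmul_left hD0 (by omega)
  have hfdL := finiteDimensional_L hK (m • D)
  let f : (Σ b : Fin d, Fin (m + 1 - (b : ℕ))) → L (m • D) := fun s => ⟨_, hmem s⟩
  have hf : LinearIndependent k f := by
    apply LinearIndependent.of_comp (L (m • D)).subtype
    convert hli2 using 1
    funext s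
    show x' ^ (s.2 : ℕ) * y ^ (s.1 : ℕ) =
      ((IntermediateField.AdjoinSimple.gen k x') ^ (s.2 : ℕ) : IntermediateField.adjoin k ({x'} : Set K)) •
        y ^ (s.1 : ℕ)
    rw [IntermediateField.smul_def, smul_eq_mul]
    simp
  have h1 := hf.fintype_card_le_finrank
  rw [Fintype.card_sigma] at h1
  simp only [Fintype.card_fin] at h1
  exact h1

end aux

/-- Over an algebraically closed constant field, a function field `K = k(x, y)` of genus `g` with plane
model `(1 : x : y)` of degree `d` has `g ≤ (d - 1)(d - 2)/2`. -/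
theorem result
    (k K : Type*) [Field k] [IsAlgClosed k] [Field K] [Algebra k K]
    (hK : FunFld.IsFunctionField k K) (x y : K)
    (hxy : IntermediateField.adjoin k ({x, y} : Set K) = ⊤) :
    2 * (FunFld.genus k K : ℤ) ≤
      ((FunFld.mapDiv k ![(1 : K), x, y]).deg - 1) *
        ((FunFld.mapDiv k ![(1 : K), x, y]).deg - 2) := by
  classical
  obtain ⟨c, hc⟩ := Groth.Agent.Lib.Helper34.FunFldPlane.exists_generic hK x y
  set x' := x + c • y with hx'
  have hpole := Groth.Agent.Lib.Helper34.FunFldPlane.poleDiv_eq_mapDiv hK x y x' hc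
  have hxL := Groth.Agent.Lib.Helper34.FunFldPlane.x_mem_L hK x y
  have hyL := Groth.Agent.Lib.Helper34.FunFldPlane.y_mem_L hK x y
  have hD0 : (0 : FunFld.Divisor k K) ≤ FunFld.mapDiv k ![(1 : K), x, y] := fun Q =>
    Groth.Agent.Lib.Helper34.FunFldPlane.mapDiv_nonneg hK x y Q
  clear hc
  generalize hD : FunFld.mapDiv k ![(1 : K), x, y] = D at *
  have hx'L : x' ∈ FunFld.L D := (FunFld.L D).add_mem hxL ((FunFld.L D).smul_mem c hyL)
  -- `x'` is not constant
  have hx'nc : x' ∉ Set.range (algebraMap k K) := by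
    rintro ⟨a, ha⟩
    have hDz : D = 0 := by
      rw [← hpole, ← ha, Groth.Agent.Lib.Helper88.FF.div_algebraMap hK]
      simp
    have hconst : ∀ z ∈ FunFld.L D, z ∈ (⊥ : IntermediateField k K) := by
      intro z hz
      rw [hDz, Groth.Agent.Lib.Helper88.FF.L_zero_eq hK, Submodule.mem_one] at hz
      obtain ⟨b, rfl⟩ := hz
      exact IntermediateField.algebraMap_mem _ b
    have hle : IntermediateField.adjoin k ({x, y} : Set K) ≤ ⊥ := by
      apply IntermediateField.adjoin_le_iff.2
      rintro z (rfl | rfl)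
      · exact hconst _ hxL
      · exact hconst _ hyL
    obtain ⟨w, hw, -⟩ := hK.1
    have hwbot : w ∈ (⊥ : IntermediateField k K) := hle (by rw [hxy]; trivial)
    rw [IntermediateField.mem_bot] at hwbot
    obtain ⟨b, rfl⟩ := hwbot
    exact hw (isAlgebraic_algebraMap b)
  have hx't := Groth.Agent.Lib.Helper88.FF.transcendental_of_not_mem_range hK hx'nc
  have hfd := Groth.Agent.Lib.Helper88.FF.finiteDimensional_adjoin_of_transcendental hK hx't
  have hdeg : D.deg =
      (Module.finrank (IntermediateField.adjoin k ({x'} : Set K)) K : ℤ) := by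
    rw [← hpole]
    exact Groth.Agent.Lib.Helper88.FF.deg_poleDiv_eq hK hx't
  -- `k(x')(y) = K`
  have hFy : IntermediateField.adjoin (IntermediateField.adjoin k ({x'} : Set K))
      ({y} : Set K) = ⊤ := by
    have h1 := IntermediateField.adjoin_adjoin_left k ({x'} : Set K) ({y} : Set K)
    have h2 : IntermediateField.adjoin k (({x'} : Set K) ∪ {y}) = ⊤ := by
      rw [eq_top_iff, ← hxy]
      apply IntermediateField.adjoin_le_iff.2
      rintro z (rfl | rfl)
      · have e : z = x' - c • y := by rw [hx']; ring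
        rw [e]
        refine sub_mem (IntermediateField.subset_adjoin k _ (by simp)) ?_
        rw [Algebra.smul_def]
        exact mul_mem (IntermediateField.algebraMap_mem _ c)
          (IntermediateField.subset_adjoin k _ (by simp))
      · exact IntermediateField.subset_adjoin k _ (by simp)
    rw [h2] at h1
    rw [eq_top_iff]
    intro z _
    have : z ∈ (IntermediateField.adjoin (IntermediateField.adjoin k ({x'} : Set K))
        ({y} : Set K)).restrictScalars k := by
      rw [h1]; trivial
    exact this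
  set d := Module.finrank (IntermediateField.adjoin k ({x'} : Set K)) K with hd
  have hdpos : 0 < d := Module.finrank_pos
  set m := 2 * FunFld.genus k K + d with hm
  have hcount := count_le hK D hD0 x' y hx'L hyL hx't hFy m
  have hd1 : (1 : ℤ) ≤ (d : ℤ) := by exact_mod_cast hdpos
  have hg0 : (0 : ℤ) ≤ (FunFld.genus k K : ℤ) := Int.natCast_nonneg _
  have hmcast : (m : ℤ) = 2 * (FunFld.genus k K : ℤ) + d := by rw [hm]; push_cast; ring
  have hell := Groth.Agent.Lib.Helper88.FF.ell_eq_of_le_deg hK (D := m • D) (by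
    rw [Groth.Agent.Lib.Helper88.FF.deg_nsmul, hdeg, hmcast]
    nlinarith)
  rw [Groth.Agent.Lib.Helper88.FF.deg_nsmul, hdeg] at hell
  have hsum : (((∑ b : Fin d, (m + 1 - (b : ℕ)) : ℕ) : ℤ)) * 2 =
      2 * (d : ℤ) * ((m : ℤ) + 1) - (d : ℤ) * ((d : ℤ) - 1) := by
    have h1 : ((∑ b : Fin d, (m + 1 - (b : ℕ)) : ℕ) : ℤ) =
        ∑ b : Fin d, (((m : ℤ) + 1) - ((b : ℕ) : ℤ)) := by
      push_cast
      refine Finset.sum_congr rfl fun b _ => ?_
      have hb : (b : ℕ) ≤ m + 1 := by
        have := b.2
        omega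
      rw [Nat.cast_sub hb]
      push_cast
      ring
    have h2 : ∑ b : Fin d, (((b : ℕ) : ℤ)) = ((∑ i ∈ Finset.range d, i : ℕ) : ℤ) := by
      rw [Fin.sum_univ_eq_sum_range (fun i => (i : ℤ)) d]
      push_cast
      rfl
    have h3 := Finset.sum_range_id_mul_two d
    have h4 : (((∑ i ∈ Finset.range d, i : ℕ) : ℤ)) * 2 = (d : ℤ) * ((d : ℤ) - 1) := by
      have : ((((∑ i ∈ Finset.range d, i) * 2 : ℕ)) : ℤ) = ((d * (d - 1) : ℕ) : ℤ) := by
        rw [h3]
      rw [Nat.cast_mul, Nat.cast_mul, Nat.cast_sub hdpos] at this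
      simpa using this
    rw [h1, Finset.sum_sub_distrib, Finset.sum_const, Finset.card_univ, Fintype.card_fin, h2,
      sub_mul, h4]
    simp
    ring
  have hcz : ((∑ b : Fin d, (m + 1 - (b : ℕ)) : ℕ) : ℤ) ≤ (FunFld.ell (m • D) : ℤ) := by
    exact_mod_cast hcount
  rw [hdeg]
  nlinarith

end Groth.Agent.S11054
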