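import Groth.Statements.S11066
-- import your own Groth.Agent.* helpers here
import Groth.Agent.Lib.Helper68.FunFldRes
import Groth.Agent.Lib.Helper88.FunFldLocal
import Mathlib.Tactic.Ring
import Mathlib.Tactic.FieldSimp

set_option autoImplicit false
open FunFld

namespace Groth.Agent.S11066

section aux

open Groth.Agent.Lib.Helper88.FF WithZero

variable {k K : Type*} [Field k] [Field K] [Algebra k K]

lemma exists_val_one {n : ℕ} (φ : Fin (n + 1) → K) (P : Place k K)
    (heff : (1 : K) ∈ Submodule.span k (Set.range φ)) (hnorm : ∀ i, P.1 (φ i) ≤ 1) :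
    ∃ j, P.1 (φ j) = 1 := by
  by_contra hne
  have hne' : ∀ j, P.1 (φ j) ≠ 1 := fun j hj => hne ⟨j, hj⟩
  have h1 : Submodule.span k (Set.range φ) ≤ ball P (-1) := by
    rw [Submodule.span_le]
    rintro _ ⟨i, rfl⟩
    exact lt_one_iff_le_exp_neg_one.1 (lt_of_le_of_ne (hnorm i) (hne' i))
  have h2 : P.1 (1 : K) ≤ exp (-1) := h1 heff
  rw [map_one] at h2
  exact absurd (lt_one_iff_le_exp_neg_one.2 h2) (lt_irrefl _)

lemma div_mem_adjoin {ι : Type*} (φ : ι → K) (j : ι) {x : K}
    (hx : x ∈ Submodule.span k (Set.range φ)) :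
    x / φ j ∈ Algebra.adjoin k (Set.range fun i => φ i / φ j) := by
  induction hx using Submodule.span_induction with
  | mem x hx =>
    obtain ⟨i, rfl⟩ := hx
    exact Algebra.subset_adjoin ⟨i, rfl⟩
  | zero => simp
  | add x y _ _ hx hy => rw [add_div]; exact add_mem hx hy
  | smul a x _ hx => rw [smul_div_assoc]; exact Subalgebra.smul_mem _ hx a

lemma exp_neg_le_one {m : ℤ} (hm : m ≤ 0) : (exp m : ℤᵐ⁰) ≤ 1 := by
  rw [← exp_zero]; exact exp_le_exp.2 hm

lemma approx {ι : Type*} (P : Place k K) (r : ι → K) (c : ι → k)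
    (hc : ∀ i, P.1 (r i - algebraMap k K (c i)) ≤ exp (-1)) :
    ∀ x ∈ Algebra.adjoin k (Set.range r), ∃ a : k,
      ∃ ℓ ∈ Submodule.span k (Set.range fun i => r i - algebraMap k K (c i)),
        P.1 (x - algebraMap k K a - ℓ) ≤ exp (-2) := by
  intro x hx
  have hV : Submodule.span k (Set.range fun i => r i - algebraMap k K (c i)) ≤ ball P (-1) := by
    rw [Submodule.span_le]; rintro _ ⟨i, rfl⟩; exact hc i
  induction hx using Algebra.adjoin_induction with
  | mem x hx =>
    obtain ⟨i, rfl⟩ := hx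
    refine ⟨c i, r i - algebraMap k K (c i), Submodule.subset_span ⟨i, rfl⟩, ?_⟩
    simp
  | algebraMap a =>
    exact ⟨a, 0, zero_mem _, by simp⟩
  | add x y _ _ hx hy =>
    obtain ⟨a, ℓ, hℓ, h1⟩ := hx
    obtain ⟨a', ℓ', hℓ', h2⟩ := hy
    refine ⟨a + a', ℓ + ℓ', add_mem hℓ hℓ', ?_⟩
    have : x + y - algebraMap k K (a + a') - (ℓ + ℓ') =
        (x - algebraMap k K a - ℓ) + (y - algebraMap k K a' - ℓ') := by
      rw [map_add]; ring
    rw [this]
    exact (P.1.map_add _ _).trans (max_le h1 h2)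
  | mul x y _ _ hx hy =>
    obtain ⟨a, ℓ, hℓ, h1⟩ := hx
    obtain ⟨a', ℓ', hℓ', h2⟩ := hy
    have hl1 : P.1 ℓ ≤ exp (-1) := hV hℓ
    have hl2 : P.1 ℓ' ≤ exp (-1) := hV hℓ'
    have hy1 : P.1 y ≤ 1 := by
      have : y = (y - algebraMap k K a' - ℓ') + algebraMap k K a' + ℓ' := by ring
      rw [this]
      refine (P.1.map_add _ _).trans (max_le ((P.1.map_add _ _).trans (max_le ?_ ?_)) ?_)
      · exact h2.trans (exp_neg_le_one (by norm_num))
      · exact P.2.1 a'
      · exact hl2.trans (exp_neg_le_one (by norm_num))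
    have hx1 : P.1 (algebraMap k K a + ℓ) ≤ 1 :=
      (P.1.map_add _ _).trans (max_le (P.2.1 a) (hl1.trans (exp_neg_le_one (by norm_num))))
    refine ⟨a * a', a • ℓ' + a' • ℓ,
      add_mem (Submodule.smul_mem _ _ hℓ') (Submodule.smul_mem _ _ hℓ), ?_⟩
    have : x * y - algebraMap k K (a * a') - (a • ℓ' + a' • ℓ) =
        (x - algebraMap k K a - ℓ) * y + (algebraMap k K a + ℓ) * (y - algebraMap k K a' - ℓ')
          + ℓ * ℓ' := by
      rw [map_mul, Algebra.smul_def, Algebra.smul_def]; ring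
    rw [this]
    refine (P.1.map_add _ _).trans (max_le ((P.1.map_add _ _).trans (max_le ?_ ?_)) ?_)
    · rw [map_mul]
      calc _ ≤ exp (-2) * 1 := mul_le_mul' h1 hy1
        _ = exp (-2) := mul_one _
    · rw [map_mul]
      calc _ ≤ 1 * exp (-2) := mul_le_mul' hx1 h2
        _ = exp (-2) := one_mul _
    · rw [map_mul]
      calc _ ≤ exp (-1) * exp (-1) := mul_le_mul' hl1 hl2
        _ = exp (-2) := by rw [← exp_add]; norm_num

lemma mul_mem_span {ι : Type*} (φ : ι → K) (j : ι) (hj : φ j ≠ 0) (c : ι → k) {ℓ : K}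
    (hℓ : ℓ ∈ Submodule.span k (Set.range fun i => φ i / φ j - algebraMap k K (c i))) :
    ℓ * φ j ∈ Submodule.span k (Set.range φ) := by
  induction hℓ using Submodule.span_induction with
  | mem x hx =>
    obtain ⟨i, rfl⟩ := hx
    have : (φ i / φ j - algebraMap k K (c i)) * φ j = φ i - c i • φ j := by
      rw [Algebra.smul_def]; field_simp
    rw [this]
    exact sub_mem (Submodule.subset_span ⟨i, rfl⟩)
      (Submodule.smul_mem _ _ (Submodule.subset_span ⟨j, rfl⟩))
  | zero => simp
  | add x y _ _ hx hy => rw [add_mul]; exact add_mem hx hy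
  | smul a x _ hx => rw [smul_mul_assoc]; exact Submodule.smul_mem _ _ hx

end aux

/-- Over an algebraically closed constant field, for an effective projective map `φ` normalized at the
place `P` (`1` in the span of the entries, all entries integral at `P`), the local ring of `φ` at
`P` has an element of order one at `P` (a local parameter) exactly when the span of the entries has
one. The local ring consists of the quotients of polynomials over `k` in the ratios `φᵢ/φⱼ`, `φⱼ` of
least order at `P`, with denominator a unit at `P`. -/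
theorem result
    (k K : Type*) [Field k] [IsAlgClosed k] [Field K] [Algebra k K]
    (hK : FunFld.IsFunctionField k K) {n : ℕ} (φ : Fin (n + 1) → K)
    (P : FunFld.Place k K) (heff : (1 : K) ∈ Submodule.span k (Set.range φ))
    (hnorm : ∀ i, P.1 (φ i) ≤ 1) :
    (∃ t : K, FunFld.InLocRing φ P t ∧ P.1 t = WithZero.exp (-1)) ↔
      ∃ t ∈ Submodule.span k (Set.range φ), P.1 t = WithZero.exp (-1) := by
  classical
  obtain ⟨j0, hj0⟩ := exists_val_one φ P heff hnorm
  have hexp : (WithZero.exp (-1 : ℤ) : WithZero (Multiplicative ℤ)) < 1 :=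
    Groth.Agent.Lib.Helper88.FF.lt_one_iff_le_exp_neg_one.2 le_rfl
  constructor
  · rintro ⟨t, ⟨j, hjne, hle, u, hu, w, hw, hPw, htw⟩, hPt⟩
    have hPj : P.1 (φ j) = 1 := le_antisymm (hnorm j) (by have := hle j0; rwa [hj0] at this)
    have hPu : P.1 u = WithZero.exp (-1) := by
      rw [← htw, map_mul, hPw, mul_one, hPt]
    have hr : ∀ i, P.1 (φ i / φ j) ≤ 1 := by
      intro i
      rw [map_div₀, hPj, div_one]
      exact hnorm i
    choose c hc using fun i =>
      Groth.Agent.Lib.Helper68.FunFldRes.exists_const hK P (hr i)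
    have hc' : ∀ i, P.1 (φ i / φ j - algebraMap k K (c i)) ≤ WithZero.exp (-1) := fun i =>
      Groth.Agent.Lib.Helper88.FF.lt_one_iff_le_exp_neg_one.1 (hc i)
    obtain ⟨a, ℓ, hℓ, hle2⟩ := approx P (fun i => φ i / φ j) c hc' u hu
    have hV : Submodule.span k (Set.range fun i => φ i / φ j - algebraMap k K (c i)) ≤
        Groth.Agent.Lib.Helper88.FF.ball P (-1) := by
      rw [Submodule.span_le]; rintro _ ⟨i, rfl⟩; exact hc' i
    have hPℓ : P.1 ℓ ≤ WithZero.exp (-1) := hV hℓ
    have h21 : (WithZero.exp (-2 : ℤ) : WithZero (Multiplicative ℤ)) < WithZero.exp (-1) :=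
      WithZero.exp_lt_exp.2 (by norm_num)
    have ha : a = 0 := by
      by_contra ha
      have h1 : P.1 (algebraMap k K a) = 1 := Groth.Agent.Lib.Helper88.FF.val_algebraMap P ha
      have h2 : algebraMap k K a = u - ℓ - (u - algebraMap k K a - ℓ) := by ring
      have h3 : P.1 (algebraMap k K a) ≤ WithZero.exp (-1) := by
        rw [h2]
        refine (P.1.map_sub _ _).trans (max_le ((P.1.map_sub _ _).trans (max_le hPu.le hPℓ))
          (hle2.trans h21.le))
      rw [h1] at h3
      exact absurd h3 (not_le.2 hexp)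
    subst ha
    rw [map_zero, sub_zero] at hle2
    have hPℓ' : P.1 ℓ = WithZero.exp (-1) := by
      have h2 : ℓ = u - (u - ℓ) := by ring
      rw [h2, Valuation.map_sub_eq_of_lt_left _ (by rw [hPu]; exact lt_of_le_of_lt hle2 h21), hPu]
    refine ⟨ℓ * φ j, mul_mem_span φ j hjne c hℓ, ?_⟩
    rw [map_mul, hPj, mul_one, hPℓ']
  · rintro ⟨t, ht, hPt⟩
    have hjne : φ j0 ≠ 0 := by
      intro h
      rw [h, map_zero] at hj0
      exact zero_ne_one hj0
    refine ⟨t, ⟨j0, hjne, fun i => by rw [hj0]; exact hnorm i, t / φ j0, div_mem_adjoin φ j0 ht,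
      1 / φ j0, div_mem_adjoin φ j0 heff, ?_, ?_⟩, hPt⟩
    · rw [map_div₀, map_one, hj0, div_one]
    · rw [mul_one_div]

end Groth.Agent.S11066
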