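import Groth.Statements.S11055
-- import your own Groth.Agent.* helpers here
import Groth.Agent.Lib.Helper34.FunFldSep
import Groth.Agent.S11066

set_option autoImplicit false
open FunFld

namespace Groth.Agent.S11055

/-- Over an algebraically closed constant field, a projective map `φ = (φ₀, …, φₙ)`, `n ≥ 1`, with span
`W` and divisor `[φ]` is nonsingular at the place `P` if and only if `W ∩ L([φ] - P - Q)` has
codimension `2` in `W` for every place `Q`. Here a projective map is nonsingular at a place when its
local ring there (quotients of polynomials over `k` in the ratios `φᵢ/φⱼ`, `φⱼ` of least order at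
the place, with denominator a unit there) is the whole valuation ring. (The published statement is
for any projective map; the published proof uses the finiteness property of the local ring that is
established for birational maps, so `φ` is taken birational here: the ratios `φᵢ/φ₀` generate `K`
over `k`.) -/
theorem result
    (k K : Type*) [Field k] [IsAlgClosed k] [Field K] [Algebra k K]
    (hK : FunFld.IsFunctionField k K) {n : ℕ} (hn : 1 ≤ n)
    (φ : Fin (n + 1) → K) (hφ : LinearIndependent k φ)
    (hbir : IntermediateField.adjoin k (Set.range fun i => φ i / φ 0) = ⊤) (P : FunFld.Place k K) :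
    FunFld.IsNonsingularAt φ P ↔ ∀ Q : FunFld.Place k K,
      Module.finrank k ↥(Submodule.span k (Set.range φ) ⊓
          FunFld.L (FunFld.mapDiv k φ - Finsupp.single P 1 - Finsupp.single Q 1)) + 2 =
        Module.finrank k ↥(Submodule.span k (Set.range φ)) := by
  classical
  have hφ0 : ∀ i, φ i ≠ 0 := fun i => hφ.ne_zero i
  have hexp : (WithZero.exp (-1 : ℤ) : WithZero (Multiplicative ℤ)) < 1 :=
    Groth.Agent.Lib.Helper88.FF.lt_one_iff_le_exp_neg_one.2 le_rfl
  have hfdW : FiniteDimensional k ↥(Submodule.span k (Set.range φ)) :=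
    FiniteDimensional.span_of_finite k (Set.finite_range φ)
  -- entries of least order have exact value
  have hexact : ∀ (Q : FunFld.Place k K) (j : Fin (n + 1)), (∀ i, Q.1 (φ i) ≤ Q.1 (φ j)) →
      Q.1 (φ j) = WithZero.exp (FunFld.mapDiv k φ Q) := by
    intro Q j hj
    rw [Groth.Agent.Lib.Helper34.FunFldMapDiv.mapDiv_apply_of_max hK φ hφ0 Q j hj,
      Groth.Agent.Lib.Helper88.FF.val_eq_exp_neg_ord Q (hφ0 j)]
  have hmax : ∀ Q : FunFld.Place k K, ∃ j, ∀ i, Q.1 (φ i) ≤ Q.1 (φ j) :=
    fun Q => Finite.exists_max (fun i => Q.1 (φ i))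
  have hWL : Submodule.span k (Set.range φ) ≤ FunFld.L (FunFld.mapDiv k φ) := by
    rw [Submodule.span_le]
    rintro _ ⟨i, rfl⟩ Q
    obtain ⟨j, hj⟩ := hmax Q
    rw [← hexact Q j hj]
    exact hj i
  have h1 : ∀ Q : FunFld.Place k K, ∃ f ∈ Submodule.span k (Set.range φ),
      Q.1 f = WithZero.exp (FunFld.mapDiv k φ Q) := by
    intro Q
    obtain ⟨j, hj⟩ := hmax Q
    exact ⟨φ j, Submodule.subset_span ⟨j, rfl⟩, hexact Q j hj⟩
  obtain ⟨j, hjP⟩ := hmax P
  -- the two codimension steps
  have hA : Submodule.span k (Set.range φ) ⊓ FunFld.L (FunFld.mapDiv k φ) =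
      Submodule.span k (Set.range φ) := inf_eq_left.2 hWL
  have hB : Module.finrank k ↥(Submodule.span k (Set.range φ)) =
      Module.finrank k ↥(Submodule.span k (Set.range φ) ⊓
        FunFld.L (FunFld.mapDiv k φ - Finsupp.single P 1)) + 1 := by
    have h := (Groth.Agent.Lib.Helper34.FunFldSep.one_step hK (Submodule.span k (Set.range φ))
      (FunFld.mapDiv k φ) P).1 ⟨φ j, ⟨Submodule.subset_span ⟨j, rfl⟩,
        hWL (Submodule.subset_span ⟨j, rfl⟩)⟩, ?_⟩
    · rw [hA] at h
      exact h
    · intro hcon
      have h3 := hcon P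
      rw [Finsupp.sub_apply, Finsupp.single_eq_same, hexact P j hjP, WithZero.exp_le_exp] at h3
      omega
  have hC : ∀ Q : FunFld.Place k K,
      (Module.finrank k ↥(Submodule.span k (Set.range φ) ⊓
          FunFld.L (FunFld.mapDiv k φ - Finsupp.single P 1 - Finsupp.single Q 1)) + 2 =
        Module.finrank k ↥(Submodule.span k (Set.range φ))) ↔
      ∃ s ∈ Submodule.span k (Set.range φ) ⊓ FunFld.L (FunFld.mapDiv k φ - Finsupp.single P 1),
        s ∉ FunFld.L (FunFld.mapDiv k φ - Finsupp.single P 1 - Finsupp.single Q 1) := by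
    intro Q
    have hstep := Groth.Agent.Lib.Helper34.FunFldSep.one_step hK
      (Submodule.span k (Set.range φ)) (FunFld.mapDiv k φ - Finsupp.single P 1) Q
    constructor
    · intro h
      by_contra hno
      have := hstep.2 hno
      omega
    · intro h
      have := hstep.1 h
      omega
  simp only [hC]
  constructor
  · intro hns Q
    choose α hα using fun i => Groth.Agent.Lib.Helper68.FunFldRes.exists_const hK P
      ((Groth.Agent.Lib.Helper34.FunFldLocRing.val_div_le_one_iff φ P j (hφ0 j) i).2 (hjP i))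
    by_cases hQP : Q = P
    · subst hQP
      -- a local parameter in the span
      have heff : (1 : K) ∈ Submodule.span k (Set.range fun i => φ i / φ j) :=
        Submodule.subset_span ⟨j, div_self (hφ0 j)⟩
      have hnorm : ∀ i, Q.1 (φ i / φ j) ≤ 1 := fun i =>
        (Groth.Agent.Lib.Helper34.FunFldLocRing.val_div_le_one_iff φ Q j (hφ0 j) i).2 (hjP i)
      obtain ⟨t, ht⟩ := Groth.Agent.Lib.Helper88.FF.exists_uniformizer Q
      have htR : FunFld.InLocRing φ Q t := hns t (by rw [ht]; exact hexp.le)
      obtain ⟨t', ht'span, ht'P⟩ :=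
        (Groth.Agent.S11066.result k K hK (fun i => φ i / φ j) Q heff hnorm).1
          ⟨t, (Groth.Agent.Lib.Helper34.FunFldLocRing.inLocRing_div φ j (hφ0 j) Q t).2 htR, ht⟩
      have hmul : ∀ z ∈ Submodule.span k (Set.range fun i => φ i / φ j),
          z * φ j ∈ Submodule.span k (Set.range φ) := by
        intro z hz
        induction hz using Submodule.span_induction with
        | mem z hz =>
          obtain ⟨i, rfl⟩ := hz
          have e : φ i / φ j * φ j = φ i := div_mul_cancel₀ _ (hφ0 j)
          rw [e]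
          exact Submodule.subset_span ⟨i, rfl⟩
        | zero => rw [zero_mul]; exact Submodule.zero_mem _
        | add a b _ _ ha hb => rw [add_mul]; exact Submodule.add_mem _ ha hb
        | smul c a _ ha => rw [smul_mul_assoc]; exact Submodule.smul_mem _ _ ha
      have hsW : t' * φ j ∈ Submodule.span k (Set.range φ) := hmul t' ht'span
      have hsval : Q.1 (t' * φ j) = WithZero.exp (FunFld.mapDiv k φ Q - 1) := by
        rw [map_mul, ht'P, hexact Q j hjP, ← WithZero.exp_add]
        congr 1
        ring
      refine ⟨t' * φ j, ⟨hsW, ?_⟩, ?_⟩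
      · apply Groth.Agent.Lib.Helper34.FunFldSep.mem_L_sub_single_of_lt _ Q (hWL hsW)
        rw [hsval, WithZero.exp_lt_exp]
        omega
      · intro hcon
        have h3 := hcon Q
        rw [hsval, Finsupp.sub_apply, Finsupp.sub_apply, Finsupp.single_eq_same,
          WithZero.exp_le_exp] at h3
        omega
    · by_contra hno
      have hno' : ∀ s ∈ Submodule.span k (Set.range φ) ⊓
          FunFld.L (FunFld.mapDiv k φ - Finsupp.single P 1),
          s ∈ FunFld.L (FunFld.mapDiv k φ - Finsupp.single P 1 - Finsupp.single Q 1) := by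
        intro s hs
        by_contra hcon
        exact hno ⟨s, hs, hcon⟩
      -- the sections `φ i - α i φ j`
      have hsW : ∀ i, φ i - α i • φ j ∈ Submodule.span k (Set.range φ) := fun i =>
        Submodule.sub_mem _ (Submodule.subset_span ⟨i, rfl⟩)
          (Submodule.smul_mem _ _ (Submodule.subset_span ⟨j, rfl⟩))
      have hsdiv : ∀ i, φ i - α i • φ j = (φ i / φ j - algebraMap k K (α i)) * φ j := by
        intro i
        rw [Algebra.smul_def, sub_mul, div_mul_cancel₀ _ (hφ0 j)]
      have hsP : ∀ i, φ i - α i • φ j ∈ FunFld.L (FunFld.mapDiv k φ - Finsupp.single P 1) := by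
        intro i
        apply Groth.Agent.Lib.Helper34.FunFldSep.mem_L_sub_single_of_lt _ P (hWL (hsW i))
        rw [hsdiv i, map_mul, hexact P j hjP]
        calc P.1 (φ i / φ j - algebraMap k K (α i)) * WithZero.exp (FunFld.mapDiv k φ P)
            < 1 * WithZero.exp (FunFld.mapDiv k φ P) :=
              mul_lt_mul_of_pos_right (hα i) (zero_lt_iff.2 WithZero.exp_ne_zero)
          _ = WithZero.exp (FunFld.mapDiv k φ P) := one_mul _
      have hsQ : ∀ i, Q.1 (φ i - α i • φ j) ≤ WithZero.exp (FunFld.mapDiv k φ Q - 1) := by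
        intro i
        have h3 := hno' _ ⟨hsW i, hsP i⟩ Q
        rwa [Finsupp.sub_apply, Finsupp.sub_apply, Finsupp.single_eq_same, Finsupp.single_apply,
          if_neg (Ne.symm hQP), sub_zero] at h3
      have hlt1 : (WithZero.exp (FunFld.mapDiv k φ Q - 1) : WithZero (Multiplicative ℤ)) <
          WithZero.exp (FunFld.mapDiv k φ Q) := by
        rw [WithZero.exp_lt_exp]; omega
      obtain ⟨jQ, hjQ⟩ := hmax Q
      have hφjL : Q.1 (φ j) ≤ WithZero.exp (FunFld.mapDiv k φ Q) :=
        hWL (Submodule.subset_span ⟨j, rfl⟩) Q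
      have hQj : Q.1 (φ j) = WithZero.exp (FunFld.mapDiv k φ Q) := by
        refine le_antisymm hφjL ?_
        have h4 : Q.1 (α jQ • φ j) = Q.1 (φ jQ) := by
          apply Valuation.map_eq_of_sub_lt
          have e : α jQ • φ j - φ jQ = -(φ jQ - α jQ • φ j) := by ring
          rw [e, Valuation.map_neg, hexact Q jQ hjQ]
          exact lt_of_le_of_lt (hsQ jQ) hlt1
        rw [← hexact Q jQ hjQ, ← h4]
        exact Groth.Agent.Lib.Helper88.FF.val_smul_le Q _ _
      have hjQ' : ∀ i, Q.1 (φ i) ≤ Q.1 (φ j) := by
        intro i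
        rw [hQj]
        exact hWL (Submodule.subset_span ⟨i, rfl⟩) Q
      have hαQ : ∀ i, Q.1 (φ i / φ j - algebraMap k K (α i)) < 1 := by
        intro i
        have e : φ i / φ j - algebraMap k K (α i) = (φ i - α i • φ j) / φ j := by
          rw [hsdiv i, mul_div_cancel_right₀ _ (hφ0 j)]
        rw [e, map_div₀, hQj]
        have h5 : Q.1 (φ i - α i • φ j) / WithZero.exp (FunFld.mapDiv k φ Q) ≤
            WithZero.exp (FunFld.mapDiv k φ Q - 1) / WithZero.exp (FunFld.mapDiv k φ Q) :=
          div_le_div_of_nonneg_right (hsQ i) (by simp)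
        refine lt_of_le_of_lt h5 ?_
        rw [← WithZero.exp_sub]
        simpa using hexp
      have hSI : FunFld.SameImage φ P Q :=
        ⟨j, hφ0 j, hjP, hjQ', fun i => ⟨α i, hα i, hαQ i⟩⟩
      have hPQ : P = Q := Groth.Agent.Lib.Helper88.FF.place_eq_of_le (P := P) (Q := Q)
        (fun z hz => (Groth.Agent.S11078.forward φ P Q hSI z (hns z hz)).1)
      exact hQP hPQ.symm
  · intro h2
    exact Groth.Agent.Lib.Helper34.FunFldSep.isNonsingularAt_of_sections hK φ hφ0
      (FunFld.mapDiv k φ) hWL P h1 h2

end Groth.Agent.S11055
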