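import Groth.Statements.S11056
-- import your own Groth.Agent.* helpers here
import Groth.Agent.Lib.Helper34.FunFldEmb

set_option autoImplicit false
open FunFld

namespace Groth.Agent.S11056

/-- Over an algebraically closed constant field, if `deg D ≥ 2g + 1` then the projective map given by a
basis of `L(D)` is an embedding, i.e. nonsingular at every place. Here a projective map is
nonsingular at a place when its local ring there (quotients of polynomials over `k` in the ratios
`φᵢ/φⱼ`, `φⱼ` of least order at the place, with denominator a unit there) is the whole valuation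
ring. -/
theorem result
    (k K : Type*) [Field k] [IsAlgClosed k] [Field K] [Algebra k K]
    (hK : FunFld.IsFunctionField k K) (D : FunFld.Divisor k K)
    (hD : 2 * (FunFld.genus k K : ℤ) + 1 ≤ D.deg) {n : ℕ} (φ : Fin (n + 1) → K)
    (hφ : LinearIndependent k φ) (hspan : Submodule.span k (Set.range φ) = FunFld.L D)
    (P : FunFld.Place k K) : FunFld.IsNonsingularAt φ P := by
  classical
  have hφ0 : ∀ i, φ i ≠ 0 := fun i => hφ.ne_zero i
  have hdeg1 : ∀ Q : FunFld.Place k K, (D - Finsupp.single Q 1).deg = D.deg - 1 := by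
    intro Q
    rw [Groth.Agent.Lib.Helper88.FF.deg_sub, Groth.Agent.Lib.Helper88.FF.deg_single,
      Groth.Agent.Lib.Helper91.FunFldAC.deg_eq_one hK Q]
    simp
  have hdeg2 : ∀ Q : FunFld.Place k K,
      (D - Finsupp.single P 1 - Finsupp.single Q 1).deg = D.deg - 2 := by
    intro Q
    rw [Groth.Agent.Lib.Helper88.FF.deg_sub, hdeg1 P, Groth.Agent.Lib.Helper88.FF.deg_single,
      Groth.Agent.Lib.Helper91.FunFldAC.deg_eq_one hK Q]
    simp
    ring
  have e0 := Groth.Agent.Lib.Helper88.FF.ell_eq_of_le_deg hK (D := D) (by omega)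
  have e1 : ∀ Q : FunFld.Place k K, (FunFld.ell (D - Finsupp.single Q 1) : ℤ) =
      D.deg - 1 + 1 - FunFld.genus k K := by
    intro Q
    have := Groth.Agent.Lib.Helper88.FF.ell_eq_of_le_deg hK (D := D - Finsupp.single Q 1)
      (by rw [hdeg1 Q]; omega)
    rwa [hdeg1 Q] at this
  have e2 : ∀ Q : FunFld.Place k K,
      (FunFld.ell (D - Finsupp.single P 1 - Finsupp.single Q 1) : ℤ) =
      D.deg - 2 + 1 - FunFld.genus k K := by
    intro Q
    have := Groth.Agent.Lib.Helper88.FF.ell_eq_of_le_deg hK
      (D := D - Finsupp.single P 1 - Finsupp.single Q 1) (by rw [hdeg2 Q]; omega)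
    rwa [hdeg2 Q] at this
  refine Groth.Agent.Lib.Helper34.FunFldEmb.isNonsingularAt_of_ell hK φ hφ0 D hspan P ?_ ?_
  · intro Q
    have := e1 Q
    omega
  · intro Q
    have h1 := e1 P
    have h2 := e2 Q
    omega

end Groth.Agent.S11056
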