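import Groth.Statements.S11057
-- import your own Groth.Agent.* helpers here
import Groth.Agent.Lib.Helper34.FunFldEmb

set_option autoImplicit false
open FunFld

namespace Groth.Agent.S11057

/-- Over an algebraically closed constant field, if `K` has degree at least `3` over every subfield
`k(x)` generated by a nonconstant element, then the canonical map (given by a basis of `L(D)` for a
canonical divisor `D`) is an embedding, i.e. nonsingular at every place. Here a projective map is
nonsingular at a place when its local ring there (quotients of polynomials over `k` in the ratios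
`φᵢ/φⱼ`, `φⱼ` of least order at the place, with denominator a unit there) is the whole valuation
ring. -/
theorem result
    (k K : Type*) [Field k] [IsAlgClosed k] [Field K] [Algebra k K]
    (hK : FunFld.IsFunctionField k K)
    (h2 : ∀ x : K, Transcendental k x →
      2 < Module.finrank (IntermediateField.adjoin k ({x} : Set K)) K)
    (D : FunFld.Divisor k K) (hD : FunFld.IsCanonical k K D) {n : ℕ} (φ : Fin (n + 1) → K)
    (hφ : LinearIndependent k φ) (hspan : Submodule.span k (Set.range φ) = FunFld.L D)
    (P : FunFld.Place k K) : FunFld.IsNonsingularAt φ P := by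
  classical
  have hφ0 : ∀ i, φ i ≠ 0 := fun i => hφ.ne_zero i
  have hdegQ : ∀ Q : FunFld.Place k K, Q.deg = 1 :=
    fun Q => Groth.Agent.Lib.Helper91.FunFldAC.deg_eq_one hK Q
  -- `ℓ(P + Q) = 1`
  have hPQ : ∀ P Q : FunFld.Place k K,
      FunFld.ell (Finsupp.single P 1 + Finsupp.single Q 1 : FunFld.Divisor k K) = 1 := by
    intro P Q
    set E : FunFld.Divisor k K := Finsupp.single P 1 + Finsupp.single Q 1 with hE
    have hE0 : (0 : FunFld.Divisor k K) ≤ E :=
      add_nonneg (Finsupp.single_nonneg.2 zero_le_one) (Finsupp.single_nonneg.2 zero_le_one)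
    have hfd := Groth.Agent.Lib.Helper88.FF.finiteDimensional_L hK E
    have h1 : 1 ≤ FunFld.ell E := by
      have := Submodule.finrank_mono (Groth.Agent.Lib.Helper88.FF.L_mono hE0)
      have h0 := Groth.Agent.Lib.Helper88.FF.ell_zero hK (k := k) (K := K)
      unfold FunFld.ell at h0 ⊢
      omega
    by_contra hne
    have h2' : 2 ≤ FunFld.ell E := by omega
    obtain ⟨x, hxL, hxc⟩ := Groth.Agent.Lib.Helper91.FunFldAC.exists_nonconst_mem_L hK E h2'
    have hxt := Groth.Agent.Lib.Helper88.FF.transcendental_of_not_mem_range hK hxc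
    have hx0 : x ≠ 0 := by
      rintro rfl
      exact hxc ⟨0, map_zero _⟩
    have h3 := (Groth.Agent.Lib.Helper88.FF.mem_L_iff_div hK hx0 E).1 hxL
    have h4 : (-FunFld.div k x) ⊔ 0 ≤ E := by
      refine sup_le ?_ hE0
      have : -FunFld.div k x = (0 : FunFld.Divisor k K) - FunFld.div k x := by simp
      rw [this, sub_le_iff_le_add']
      exact h3
    have h5 := Groth.Agent.Lib.Helper88.FF.deg_mono h4
    rw [Groth.Agent.Lib.Helper88.FF.deg_poleDiv_eq hK hxt, hE,
      Groth.Agent.Lib.Helper88.FF.deg_add, Groth.Agent.Lib.Helper88.FF.deg_single,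
      Groth.Agent.Lib.Helper88.FF.deg_single, hdegQ P, hdegQ Q] at h5
    have h6 := h2 x hxt
    have h7 : (Module.finrank (IntermediateField.adjoin k ({x} : Set K)) K : ℤ) ≤ 2 := by
      simpa using h5
    omega
  have hQ1 : ∀ Q : FunFld.Place k K,
      FunFld.ell (Finsupp.single Q 1 : FunFld.Divisor k K) = 1 := by
    intro Q
    have hle0 : (0 : FunFld.Divisor k K) ≤ Finsupp.single Q 1 :=
      Finsupp.single_nonneg.2 zero_le_one
    have hle1 : (Finsupp.single Q 1 : FunFld.Divisor k K) ≤
        Finsupp.single Q 1 + Finsupp.single Q 1 := le_add_of_nonneg_right hle0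
    have hfd1 := Groth.Agent.Lib.Helper88.FF.finiteDimensional_L hK
      (Finsupp.single Q 1 : FunFld.Divisor k K)
    have hfd2 := Groth.Agent.Lib.Helper88.FF.finiteDimensional_L hK
      (Finsupp.single Q 1 + Finsupp.single Q 1 : FunFld.Divisor k K)
    have m1 := Submodule.finrank_mono (Groth.Agent.Lib.Helper88.FF.L_mono hle0)
    have m2 := Submodule.finrank_mono (Groth.Agent.Lib.Helper88.FF.L_mono hle1)
    have h0 := Groth.Agent.Lib.Helper88.FF.ell_zero hK (k := k) (K := K)
    have h2 := hPQ Q Q
    unfold FunFld.ell at h0 h2 ⊢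
    omega
  obtain ⟨hlW, hdW⟩ := (Groth.Agent.Lib.Helper88.FF.isCanonical_iff hK D).1 hD
  have e1 : ∀ Q : FunFld.Place k K, (FunFld.ell (D - Finsupp.single Q 1) : ℤ) =
      FunFld.genus k K - 1 := by
    intro Q
    have h := Groth.Agent.Lib.Helper88.FF.riemann_roch hK hD (D - Finsupp.single Q 1)
    rw [sub_sub_cancel, hQ1 Q, Groth.Agent.Lib.Helper88.FF.deg_sub,
      Groth.Agent.Lib.Helper88.FF.deg_single, hdegQ Q, hdW] at h
    push_cast at h
    linarith
  have e2 : ∀ P Q : FunFld.Place k K,
      (FunFld.ell (D - Finsupp.single P 1 - Finsupp.single Q 1) : ℤ) =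
      FunFld.genus k K - 2 := by
    intro P Q
    have h := Groth.Agent.Lib.Helper88.FF.riemann_roch hK hD
      (D - Finsupp.single P 1 - Finsupp.single Q 1)
    have e : D - (D - Finsupp.single P 1 - Finsupp.single Q 1) =
        (Finsupp.single P 1 + Finsupp.single Q 1 : FunFld.Divisor k K) := by abel
    rw [e, hPQ P Q, Groth.Agent.Lib.Helper88.FF.deg_sub, Groth.Agent.Lib.Helper88.FF.deg_sub,
      Groth.Agent.Lib.Helper88.FF.deg_single, Groth.Agent.Lib.Helper88.FF.deg_single,
      hdegQ P, hdegQ Q, hdW] at h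
    push_cast at h
    linarith
  refine Groth.Agent.Lib.Helper34.FunFldEmb.isNonsingularAt_of_ell hK φ hφ0 D hspan P ?_ ?_
  · intro Q
    have := e1 Q
    have h3 : (FunFld.ell D : ℤ) = FunFld.genus k K := by exact_mod_cast hlW
    omega
  · intro Q
    have h1 := e1 P
    have h2 := e2 P Q
    omega

end Groth.Agent.S11057
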