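import Groth.Statements.S11058
-- import your own Groth.Agent.* helpers here
import Groth.Agent.Lib.Helper34.FunFldLocRing

set_option autoImplicit false
open FunFld

namespace Groth.Agent.S11058

/-- Over an algebraically closed constant field, a birational projective map `φ = (φ₀, …, φₙ)` (the
ratios `φᵢ/φ₀` generate `K` over `k`) is nonsingular at all but finitely many places. Here a
projective map is nonsingular at a place when its local ring there (quotients of polynomials over
`k` in the ratios `φᵢ/φⱼ`, `φⱼ` of least order at the place, with denominator a unit there) is the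
whole valuation ring. -/
theorem result
    (k K : Type*) [Field k] [IsAlgClosed k] [Field K] [Algebra k K]
    (hK : FunFld.IsFunctionField k K) {n : ℕ} (hn : 1 ≤ n) (φ : Fin (n + 1) → K)
    (hφ : LinearIndependent k φ)
    (hbir : IntermediateField.adjoin k (Set.range fun i => φ i / φ 0) = ⊤) :
    {P : FunFld.Place k K | ¬ FunFld.IsNonsingularAt φ P}.Finite := by
  classical
  have hφ0 : ∀ i, φ i ≠ 0 := fun i => hφ.ne_zero i
  obtain ⟨c, hcA, hc0, hcond⟩ :=
    Groth.Agent.Lib.Helper34.FunFldCond.exists_conductor hK (fun i => φ i / φ 0) hbir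
  have hT := Groth.Agent.Lib.Helper34.FunFldCond.finite_poles hK (fun i => φ i / φ 0)
  have hZ : {P : FunFld.Place k K | P.1 c < 1}.Finite := by
    refine (Groth.Agent.Lib.Helper88.FF.finite_support_ord hK c).subset ?_
    intro P hP
    rw [Function.mem_support]
    have := (Groth.Agent.Lib.Helper88.FF.val_lt_one_iff P hc0).1 hP
    omega
  -- there is a pole
  have hpole : ∃ Pinf : FunFld.Place k K, ∃ i, 1 < Pinf.1 (φ i / φ 0) := by
    by_contra hcon
    obtain ⟨x, hx, -⟩ := hK.1
    have hall : ∀ i, φ i / φ 0 ∈ Set.range (algebraMap k K) := by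
      intro i
      by_contra hi
      obtain ⟨Q, hQ⟩ := Groth.Agent.Lib.Helper88.FF.exists_pole hK hi
      have hne : φ i / φ 0 ≠ 0 := div_ne_zero (hφ0 i) (hφ0 0)
      exact hcon ⟨Q, i, (Groth.Agent.Lib.Helper88.FF.one_lt_val_iff Q hne).2 hQ⟩
    have hle : IntermediateField.adjoin k (Set.range fun i => φ i / φ 0) ≤ ⊥ := by
      apply IntermediateField.adjoin_le_iff.2
      rintro _ ⟨i, rfl⟩
      obtain ⟨a, ha⟩ := hall i
      show φ i / φ 0 ∈ (⊥ : IntermediateField k K)
      rw [← ha]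
      exact IntermediateField.algebraMap_mem _ a
    have hxbot : x ∈ (⊥ : IntermediateField k K) := hle (by rw [hbir]; trivial)
    rw [IntermediateField.mem_bot] at hxbot
    obtain ⟨a, rfl⟩ := hxbot
    exact hx (isAlgebraic_algebraMap a)
  obtain ⟨Pinf, iinf, hPinf⟩ := hpole
  refine (hT.union hZ).subset ?_
  intro P hP
  by_contra hnot
  apply hP
  rw [Set.mem_union, not_or] at hnot
  obtain ⟨hnT, hnZ⟩ := hnot
  have hPr : ∀ i, P.1 (φ i / φ 0) ≤ 1 := by
    intro i
    by_contra h
    exact hnT ⟨i, not_le.1 h⟩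
  have hadm : ∀ i, P.1 (φ i) ≤ P.1 (φ 0) := fun i =>
    (Groth.Agent.Lib.Helper34.FunFldLocRing.val_div_le_one_iff φ P 0 (hφ0 0) i).1 (hPr i)
  have hPc : P.1 c = 1 :=
    le_antisymm (Groth.Agent.Lib.Helper34.FunFldLocRing.val_le_one_of_mem_adjoin P _ hPr hcA)
      (not_lt.1 hnZ)
  have hinA : ∀ x ∈ Algebra.adjoin k (Set.range fun i => φ i / φ 0), FunFld.InLocRing φ P x :=
    fun x hx => ⟨0, hφ0 0, hadm, x, hx, 1, Subalgebra.one_mem _, map_one _, mul_one _⟩
  have hfibP : ∀ Q : FunFld.Place k K, FunFld.SameImage φ P Q → Q = P := by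
    intro Q hQ
    by_contra hne
    have hQr : ∀ i, Q.1 (φ i / φ 0) ≤ 1 := fun i =>
      (Groth.Agent.S11078.forward φ P Q hQ _ (hinA _ (Algebra.subset_adjoin ⟨i, rfl⟩))).1
    have hPinfP : Pinf ≠ P := by
      rintro rfl
      exact absurd (hPr iinf) (not_le.2 hPinf)
    have hPinfQ : Pinf ≠ Q := by
      rintro rfl
      exact absurd (hQr iinf) (not_le.2 hPinf)
    obtain ⟨y, hy1, hy2⟩ := Groth.Agent.Lib.Helper88.FF.strong_approx_le hK Pinf {P, Q}
      (by
        rw [Finset.mem_insert, Finset.mem_singleton, not_or]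
        exact ⟨hPinfP, hPinfQ⟩)
      (fun R => if R = Q then 1 else 0) (fun _ => -1)
    have hyP : P.1 y ≤ WithZero.exp (-1) := by
      have := hy1 P (by simp)
      rwa [if_neg (Ne.symm hne), sub_zero] at this
    have hyQ : Q.1 (y - 1) ≤ WithZero.exp (-1) := by
      have := hy1 Q (by simp)
      rwa [if_pos rfl] at this
    have hexp : (WithZero.exp (-1 : ℤ) : WithZero (Multiplicative ℤ)) < 1 :=
      Groth.Agent.Lib.Helper88.FF.lt_one_iff_le_exp_neg_one.2 le_rfl
    have hQy : Q.1 y = 1 := by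
      have e : y = (y - 1) + 1 := by ring
      rw [e, Valuation.map_add_eq_of_lt_right _ (by rw [map_one]; exact lt_of_le_of_lt hyQ hexp),
        map_one]
    have hyB : ∀ Q' : FunFld.Place k K, (∀ i, Q'.1 (φ i / φ 0) ≤ 1) → Q'.1 y ≤ 1 := by
      intro Q' hQ'
      by_cases h1 : Q' = P
      · rw [h1]; exact hyP.trans hexp.le
      by_cases h2 : Q' = Q
      · rw [h2, hQy]
      refine hy2 Q' ?_ ?_
      · rintro rfl
        exact absurd (hQ' iinf) (not_le.2 hPinf)
      · rw [Finset.mem_insert, Finset.mem_singleton, not_or]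
        exact ⟨h1, h2⟩
    have hcy := hcond y hyB
    have h3 := (Groth.Agent.S11078.forward φ P Q hQ _ (hinA _ hcy)).2
    have h4 : P.1 (c * y) < 1 := by
      rw [map_mul, hPc, one_mul]
      exact lt_of_le_of_lt hyP hexp
    have h5 := h3.2 h4
    rw [map_mul, hQy, mul_one] at h5
    have h6 := (Groth.Agent.S11078.forward φ P Q hQ _ (hinA _ hcA)).2.1 h5
    rw [hPc] at h6
    exact lt_irrefl _ h6
  intro z hz
  have hy : ∀ Q : FunFld.Place k K, (∀ i, Q.1 (φ i) ≤ Q.1 (φ 0)) → 1 < Q.1 z →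
      ¬ FunFld.SameImage φ P Q := by
    intro Q _ h1 h2
    rw [hfibP Q h2] at h1
    exact absurd hz (not_le.2 h1)
  obtain ⟨w, hwA, hwP, hwB⟩ :=
    Groth.Agent.Lib.Helper34.FunFldLocRing.exists_clear φ hK P 0 (hφ0 0) hadm z hy
  have hmem : c * (w * z) ∈ Algebra.adjoin k (Set.range fun i => φ i / φ 0) :=
    hcond (w * z) (fun Q hQ => hwB Q (fun i =>
      (Groth.Agent.Lib.Helper34.FunFldLocRing.val_div_le_one_iff φ Q 0 (hφ0 0) i).1 (hQ i)))
  refine ⟨0, hφ0 0, hadm, c * (w * z), hmem, c * w, Subalgebra.mul_mem _ hcA hwA, ?_, ?_⟩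
  · rw [map_mul, hPc, hwP, one_mul]
  · ring

end Groth.Agent.S11058
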