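import Groth.Statements.S11063
-- import your own Groth.Agent.* helpers here
import Groth.Agent.Lib.Helper91.FunFldAC
import Groth.Agent.S11045
import Groth.Agent.S11046

set_option autoImplicit false
open FunFld

namespace Groth.Agent.S11063

/-- Over an algebraically closed constant field, for a place `P` of a function field of genus `g` and `1
≤ l ≤ g`, the `l`-th gap number at `P` is at most `2l - 1`, i.e. at least `l` of the integers `1 ≤ m
≤ 2l - 1` satisfy `L(mP) = L((m-1)P)`. (The published statement bounds the `l`-th order of the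
canonical map at `P` by `2l`; the orders of the canonical map at `P` are the gap numbers at `P` less
one, which gives the form stated here.) -/
theorem result
    (k K : Type*) [Field k] [IsAlgClosed k] [Field K] [Algebra k K]
    (hK : FunFld.IsFunctionField k K) (P : FunFld.Place k K) (l : ℕ)
    (hl : 1 ≤ l) (hlg : l ≤ FunFld.genus k K) :
    l ≤ Set.ncard {m : ℕ | 1 ≤ m ∧ m ≤ 2 * l - 1 ∧
      FunFld.L (Finsupp.single P (m : ℤ)) = FunFld.L (Finsupp.single P ((m : ℤ) - 1))} := by
  classical
  have hP := Groth.Agent.Lib.Helper91.FunFldAC.deg_eq_one hK P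
  set g := FunFld.genus k K with hg
  have hset : {m : ℕ | 1 ≤ m ∧ m ≤ 2 * l - 1 ∧
      FunFld.L (Finsupp.single P (m : ℤ)) = FunFld.L (Finsupp.single P ((m : ℤ) - 1))} =
      ↑((Finset.Icc 1 (2 * l - 1)).filter (Groth.Agent.S11046.Gap P)) := by
    ext j
    simp only [Set.mem_setOf_eq, Finset.coe_filter, Finset.mem_Icc, Groth.Agent.S11046.Gap]
    tauto
  rw [hset, Set.ncard_coe_finset]
  have hG2g : ((Finset.Icc 1 (2 * g)).filter (Groth.Agent.S11046.Gap P)).card = g := by
    have hA := Groth.Agent.S11046.ell_add_card_gaps hK P hP (2 * g)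
    have hell := Groth.Agent.Lib.Helper91.FunFldAC.ell_eq_of_le_deg hK
      (Finsupp.single P ((2 * g : ℕ) : ℤ))
      (by rw [Groth.Agent.Lib.Helper88.FF.deg_single, hP]; push_cast; omega)
    rw [Groth.Agent.Lib.Helper88.FF.deg_single, hP] at hell
    push_cast at hell
    zify at hA ⊢
    push_cast at hA
    omega
  have hmono : ∀ a b : ℕ, a ≤ b →
      ((Finset.Icc 1 a).filter (Groth.Agent.S11046.Gap P)).card ≤
        ((Finset.Icc 1 b).filter (Groth.Agent.S11046.Gap P)).card := fun a b h =>
    Finset.card_le_card (Finset.filter_subset_filter _ (Finset.Icc_subset_Icc_right h))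
  by_contra hlt
  rw [not_le] at hlt
  have hex : ∃ N, l ≤ ((Finset.Icc 1 N).filter (Groth.Agent.S11046.Gap P)).card :=
    ⟨2 * g, by rw [hG2g]; exact hlg⟩
  have hN := Nat.find_spec hex
  have hNmin := fun m => Nat.find_min hex (m := m)
  set N := Nat.find hex with hNdef
  have hNpos : N ≠ 0 := by
    intro h0
    rw [h0] at hN
    simp at hN
    omega
  have hNm1 : ((Finset.Icc 1 (N - 1)).filter (Groth.Agent.S11046.Gap P)).card < l := by
    have := hNmin (N - 1) (by omega)
    omega
  have hIcc : Finset.Icc 1 N = insert N (Finset.Icc 1 (N - 1)) := by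
    ext j
    simp only [Finset.mem_Icc, Finset.mem_insert]
    omega
  have hnm : N ∉ (Finset.Icc 1 (N - 1)).filter (Groth.Agent.S11046.Gap P) := by
    simp only [Finset.mem_filter, Finset.mem_Icc]
    omega
  have hgapN : Groth.Agent.S11046.Gap P N := by
    by_contra h
    rw [hIcc, Finset.filter_insert, if_neg h] at hN
    omega
  have hcardN : ((Finset.Icc 1 N).filter (Groth.Agent.S11046.Gap P)).card =
      ((Finset.Icc 1 (N - 1)).filter (Groth.Agent.S11046.Gap P)).card + 1 := by
    rw [hIcc, Finset.filter_insert, if_pos hgapN, Finset.card_insert_of_notMem hnm]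
  have h45 := Groth.Agent.S11045.result k K hK P N (by omega) hgapN
  have hset2 : {m : ℕ | 1 ≤ m ∧ m < N ∧
      FunFld.L (Finsupp.single P (m : ℤ)) = FunFld.L (Finsupp.single P ((m : ℤ) - 1))} =
      ↑((Finset.Icc 1 (N - 1)).filter (Groth.Agent.S11046.Gap P)) := by
    ext j
    simp only [Set.mem_setOf_eq, Finset.coe_filter, Finset.mem_Icc, Groth.Agent.S11046.Gap]
    constructor
    · rintro ⟨h1, h2, h3⟩
      exact ⟨⟨h1, by omega⟩, h3⟩
    · rintro ⟨⟨h1, h2⟩, h3⟩
      exact ⟨h1, by omega, h3⟩
  rw [hset2, Set.ncard_coe_finset] at h45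
  have hNbig : 2 * l - 1 < N := by
    by_contra h
    rw [not_lt] at h
    have := hmono N (2 * l - 1) h
    omega
  omega

end Groth.Agent.S11063
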