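import Groth.Statements.S11065
-- import your own Groth.Agent.* helpers here
import Groth.Agent.Lib.Helper34.FunFldLocRing

set_option autoImplicit false
open FunFld

namespace Groth.Agent.S11065

/-- Over an algebraically closed constant field, a projective map `φ = (φ₀, …, φₙ)`, `n ≥ 1`, is
nonsingular at the place `P` if and only if its local ring at `P` lies in the valuation ring of no
place other than `P` and contains a local parameter at `P`. Here the local ring of a projective map
at a place consists of the quotients of polynomials over `k` in the ratios `φᵢ/φⱼ`, `φⱼ` of least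
order at the place, with denominator a unit there; the map is nonsingular at the place when this
ring is the whole valuation ring. (The published statement is for any projective map; the published
proof uses the finiteness property of the local ring that is established for birational maps, so `φ`
is taken birational here: the ratios `φᵢ/φ₀` generate `K` over `k`.) -/
theorem result
    (k K : Type*) [Field k] [IsAlgClosed k] [Field K] [Algebra k K]
    (hK : FunFld.IsFunctionField k K) {n : ℕ} (hn : 1 ≤ n)
    (φ : Fin (n + 1) → K) (hφ : LinearIndependent k φ)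
    (hbir : IntermediateField.adjoin k (Set.range fun i => φ i / φ 0) = ⊤) (P : FunFld.Place k K) :
    FunFld.IsNonsingularAt φ P ↔
      (∀ Q : FunFld.Place k K, (∀ z : K, FunFld.InLocRing φ P z → Q.1 z ≤ 1) → Q = P) ∧
        ∃ t : K, FunFld.InLocRing φ P t ∧ P.1 t = WithZero.exp (-1) := by
  classical
  have hφ0 : ∀ i, φ i ≠ 0 := fun i => hφ.ne_zero i
  constructor
  · intro h
    refine ⟨fun Q hQ => ?_, ?_⟩
    · exact (Groth.Agent.Lib.Helper88.FF.place_eq_of_le (P := P) (Q := Q)
        (fun y hy => hQ y (h y hy))).symm
    · obtain ⟨t, ht⟩ := Groth.Agent.Lib.Helper88.FF.exists_uniformizer P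
      refine ⟨t, h t ?_, ht⟩
      rw [ht]
      exact (Groth.Agent.Lib.Helper88.FF.lt_one_iff_le_exp_neg_one.2 le_rfl).le
  · rintro ⟨h1, t, htR, htP⟩ z hz
    have hfibP : ∀ Q : FunFld.Place k K, FunFld.SameImage φ P Q → Q = P := fun Q hQ =>
      h1 Q (fun z hz => (Groth.Agent.S11078.forward φ P Q hQ z hz).1)
    have hfib : {Q : FunFld.Place k K | FunFld.SameImage φ P Q}.Finite :=
      (Set.finite_singleton P).subset (fun Q hQ => hfibP Q hQ)
    obtain ⟨N, hN⟩ := Groth.Agent.Lib.Helper34.FunFldLocRing.exists_bound φ hK hφ0 0 hbir P hfib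
    obtain ⟨j, hjmax⟩ := Finite.exists_max (fun i => P.1 (φ i))
    have hiff := Groth.Agent.Lib.Helper34.FunFldLocRing.inLocRing_iff φ P j (hφ0 j) hjmax
    have htL := (hiff t).1 htR
    have hbase : ∀ z : K, P.1 z ≤ WithZero.exp (-(N : ℤ)) →
        Groth.Agent.Lib.Helper34.FunFldLocRing.LocAt φ P j z := fun z hz =>
      (hiff z).1 (hN z (fun Q hQ => by rw [hfibP Q hQ]; exact hz))
    have hstep : ∀ m : ℕ, (∀ z : K, P.1 z ≤ WithZero.exp (-((m : ℤ) + 1)) →
        Groth.Agent.Lib.Helper34.FunFldLocRing.LocAt φ P j z) →
        ∀ z : K, P.1 z ≤ WithZero.exp (-(m : ℤ)) →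
          Groth.Agent.Lib.Helper34.FunFldLocRing.LocAt φ P j z := by
      intro m ih z hz
      have htm : P.1 (t ^ m) = WithZero.exp (-(m : ℤ)) := by
        rw [map_pow, htP, ← WithZero.exp_nsmul]
        congr 1
        simp
      have htm0 : t ^ m ≠ 0 := by
        intro h0
        rw [h0, map_zero] at htm
        exact WithZero.exp_ne_zero htm.symm
      have hz2 : P.1 z ≤ P.1 (t ^ m) := by rw [htm]; exact hz
      obtain ⟨c, hc⟩ := Groth.Agent.Lib.Helper34.FunFldCond.exists_sub_smul_lt hK P htm0 hz2
      rw [htm] at hc
      have h2 : P.1 (z - c • t ^ m) ≤ WithZero.exp (-((m : ℤ) + 1)) := by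
        apply Groth.Agent.Lib.Helper88.FF.lt_exp_succ_iff.1
        have e : -((m : ℤ) + 1) + 1 = -(m : ℤ) := by ring
        rw [e]
        exact hc
      have h3 := ih _ h2
      have e : z = (z - c • t ^ m) + c • t ^ m := by ring
      rw [e]
      exact h3.add ((htL.pow m).smul c)
    have hall : ∀ d : ℕ, d ≤ N → ∀ z : K, P.1 z ≤ WithZero.exp (-((N - d : ℕ) : ℤ)) →
        Groth.Agent.Lib.Helper34.FunFldLocRing.LocAt φ P j z := by
      intro d
      induction d with
      | zero =>
        intro _ z hz
        exact hbase z (by simpa using hz)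
      | succ d ih =>
        intro hd z hz
        apply hstep (N - (d + 1)) ?_ z hz
        intro z' hz'
        apply ih (by omega) z'
        have e : ((N - d : ℕ) : ℤ) = ((N - (d + 1) : ℕ) : ℤ) + 1 := by
          have : N - d = (N - (d + 1)) + 1 := by omega
          rw [this]
          push_cast
          ring
        rw [e]
        exact hz'
    have hfin := hall N le_rfl z (by simpa using hz)
    exact (hiff z).2 hfin

end Groth.Agent.S11065
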