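import Groth.Statements.S11071
-- import your own Groth.Agent.* helpers here
import Groth.Agent.Lib.Helper88.JacProj

set_option autoImplicit false
open FunFld

namespace Groth.Agent.S11071

/-- Over an algebraically closed constant field, let `φ = (φ₀, …, φₙ)`, `n ≥ 1`, be a birational
projective map, `f₁, …, f_r` homogeneous generators of its ideal of homogeneous relations (the ideal
of the image curve), and `P` a place at which all `φᵢ/φ₀` are integral, with image point `a`. Then
`φ` is nonsingular at `P` if and only if the matrix `(∂fᵢ/∂Xⱼ(a))`, `1 ≤ j ≤ n`, has rank `n - 1`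
(entries read in the residue field of `P`). Here the local ring of `φ` at `P` consists of the
quotients of polynomials over `k` in the ratios `φᵢ/φ₀` with denominator a unit at `P`; `φ` is
nonsingular at `P` when this ring is the whole valuation ring. -/
theorem result (k K : Type*) [Field k] [IsAlgClosed k] [Field K] [Algebra k K]
    (hK : FunFld.IsFunctionField k K) {n : ℕ} (hn : 1 ≤ n)
    (φ : Fin (n + 1) → K) (hφ : LinearIndependent k φ)
    (hbir : IntermediateField.adjoin k (Set.range fun i => φ i / φ 0) = ⊤)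
    (P : FunFld.Place k K) (hP : ∀ i, P.1 (φ i) ≤ P.1 (φ 0)) {r : ℕ}
    (f : Fin r → MvPolynomial (Fin (n + 1)) k)
    (hhom : ∀ i, (f i).IsHomogeneous (f i).totalDegree)
    (hgen : Ideal.span (Set.range f) =
      RingHom.ker (MvPolynomial.aeval fun i => Polynomial.C (φ i) * Polynomial.X))
    (M : Matrix (Fin r) (Fin n) P.O)
    (hM : ∀ i j, ((M i j : P.O) : K) =
      MvPolynomial.aeval (fun l => φ l / φ 0) (MvPolynomial.pderiv j.succ (f i))) :
    FunFld.IsNonsingularAt φ P ↔ (M.map (IsLocalRing.residue P.O)).rank = n - 1 := by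
  classical
  have hφ0 : ∀ i, φ i ≠ 0 := fun i => hφ.ne_zero i
  set w : Fin (n + 1) → K := fun i => φ i / φ 0 with hw
  have hr : ∀ i, P.1 (w i) ≤ 1 := fun i =>
    (Groth.Agent.Lib.Helper34.FunFldLocRing.val_div_le_one_iff φ P 0 (hφ0 0) i).2 (hP i)
  choose α hα using fun i => Groth.Agent.Lib.Helper68.FunFldRes.exists_const hK P (hr i)
  have hα0 : α 0 = 1 := by
    by_contra hne
    have h1 := hα 0
    have hw0 : w 0 = 1 := div_self (hφ0 0)
    rw [hw0] at h1
    have e : (1 : K) - algebraMap k K (α 0) = algebraMap k K (1 - α 0) := by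
      rw [map_sub, map_one]
    rw [e, Groth.Agent.Lib.Helper88.FF.val_algebraMap P (sub_ne_zero.2 (Ne.symm hne))] at h1
    exact lt_irrefl _ h1
  -- the generators vanish at `w`
  have hfφ : ∀ i, MvPolynomial.aeval φ (f i) = 0 := by
    intro i
    have hmem : f i ∈ RingHom.ker
        (MvPolynomial.aeval fun i => Polynomial.C (φ i) * Polynomial.X :
          MvPolynomial (Fin (n + 1)) k →ₐ[k] Polynomial K) := by
      rw [← hgen]
      exact Ideal.subset_span ⟨i, rfl⟩
    rw [RingHom.mem_ker] at hmem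
    exact (Groth.Agent.Lib.Helper88.AJ.aeval_CX_eq_zero_iff (hhom i) φ).1 hmem
  have hfw : ∀ i, MvPolynomial.aeval w (f i) = 0 := fun i =>
    (Groth.Agent.Lib.Helper88.AJ.aeval_div (hhom i) φ (φ 0) (hφ0 0)).2 (hfφ i)
  have hVeq := Groth.Agent.Lib.Helper88.AJ.gradSpace_eq φ P 0 (hφ0 0) α hα0 hα (Set.range f)
    (by rintro _ ⟨i, rfl⟩; exact hfw i)
    (by
      intro G m hG hGφ
      rw [hgen, RingHom.mem_ker]
      exact (Groth.Agent.Lib.Helper88.AJ.aeval_CX_eq_zero_iff hG φ).2 hGφ)
  -- the matrix over `k`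
  set M₀ : Matrix (Fin r) (Fin n) k :=
    fun i j => MvPolynomial.eval α (MvPolynomial.pderiv j.succ (f i)) with hM₀
  have hMres : M.map (IsLocalRing.residue P.O) =
      M₀.map (algebraMap k (IsLocalRing.ResidueField P.O)) := by
    ext i j
    simp only [Matrix.map_apply]
    apply Groth.Agent.Lib.Helper88.AJ.residue_eq
    rw [hM i j]
    exact Groth.Agent.Lib.Helper88.AJ.val_aeval_sub_lt P w α hα _
  have hrank : (M.map (IsLocalRing.residue P.O)).rank = M₀.rank := by
    rw [hMres]
    exact Groth.Agent.Lib.Helper88.AJ.rank_map_of_bijective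
      (Groth.Agent.Lib.Helper88.AJ.algebraMap_residue_bijective hK P) M₀
  have hfin : Module.finrank k (Groth.Agent.Lib.Helper88.AJ.gradSpace α w) = M₀.rank + 1 := by
    have hset : (LinearMap.funLeft k k Fin.succ : (Fin (n + 1) → k) →ₗ[k] (Fin n → k)) ''
        ((Groth.Agent.Lib.Helper88.AJ.gradL α) '' Set.range f) = Set.range M₀.row := by
      ext v
      constructor
      · rintro ⟨_, ⟨_, ⟨i, rfl⟩, rfl⟩, rfl⟩
        exact ⟨i, rfl⟩
      · rintro ⟨i, rfl⟩
        exact ⟨_, ⟨_, ⟨i, rfl⟩, rfl⟩, rfl⟩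
    rw [hVeq, Groth.Agent.Lib.Helper88.AJ.finrank_sup_single, Matrix.rank_eq_finrank_span_row,
      Submodule.map_span, hset]
  rw [hrank]
  constructor
  · intro hns
    have h1 := Groth.Agent.Lib.Helper88.AJ.finrank_of_nonsing hK φ P 0 (hφ0 0) hP α hα hns
    rw [Fintype.card_fin, hfin] at h1
    omega
  · intro h
    apply Groth.Agent.Lib.Helper88.AJ.nonsing_of_le φ P 0 (hφ0 0) hP hbir α hα
      (Groth.Agent.Lib.Helper88.AJ.gradSpace α w) le_rfl
    rw [Fintype.card_fin, hfin]
    omega

end Groth.Agent.S11071
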