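import Groth.Statements.S11072
-- import your own Groth.Agent.* helpers here
import Groth.Agent.Lib.Helper88.PlaneJac

set_option autoImplicit false
open FunFld

namespace Groth.Agent.S11072

/-- Over an algebraically closed constant field, a plane curve with defining irreducible homogeneous
polynomial `f` and birational natural map `φ = (φ₀ : φ₁ : φ₂)` is singular at the point `a = φ(P)`
(coordinates `(φᵢ/φⱼ)(P)` for an entry `φⱼ` of least order at `P`, read in the residue field) if and
only if `∂f/∂Xᵢ(a) = 0` for `i = 0, 1, 2`. Here `φ` is nonsingular at `P` when its local ring there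
(quotients of polynomials over `k` in the `φᵢ/φⱼ` with denominator a unit at `P`) is the whole
valuation ring. -/
theorem result (k K : Type*) [Field k] [IsAlgClosed k] [Field K] [Algebra k K]
    (hK : FunFld.IsFunctionField k K) (φ : Fin 3 → K)
    (hφ : LinearIndependent k φ)
    (hbir : IntermediateField.adjoin k (Set.range fun i => φ i / φ 0) = ⊤)
    (f : MvPolynomial (Fin 3) k) (hf : Irreducible f) (hhom : f.IsHomogeneous f.totalDegree)
    (hfφ : MvPolynomial.aeval φ f = 0) (P : FunFld.Place k K) (j : Fin 3)
    (hj : ∀ i, P.1 (φ i) ≤ P.1 (φ j)) (a : Fin 3 → P.O) (ha : ∀ i, ((a i : P.O) : K) = φ i / φ j) :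
    ¬ FunFld.IsNonsingularAt φ P ↔
      ∀ l : Fin 3, MvPolynomial.aeval (fun i => IsLocalRing.residue P.O (a i))
        (MvPolynomial.pderiv l f) = 0 := by
  classical
  have hφ0 : ∀ i, φ i ≠ 0 := fun i => hφ.ne_zero i
  set w : Fin 3 → K := fun i => φ i / φ j with hw
  have hr : ∀ i, P.1 (w i) ≤ 1 := fun i =>
    (Groth.Agent.Lib.Helper34.FunFldLocRing.val_div_le_one_iff φ P j (hφ0 j) i).2 (hj i)
  choose α hα using fun i => Groth.Agent.Lib.Helper68.FunFldRes.exists_const hK P (hr i)
  have hαj : α j = 1 := by
    by_contra hne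
    have h1 := hα j
    have hw0 : w j = 1 := div_self (hφ0 j)
    rw [hw0] at h1
    have e : (1 : K) - algebraMap k K (α j) = algebraMap k K (1 - α j) := by
      rw [map_sub, map_one]
    rw [e, Groth.Agent.Lib.Helper88.FF.val_algebraMap P (sub_ne_zero.2 (Ne.symm hne))] at h1
    exact lt_irrefl _ h1
  have hbirj : IntermediateField.adjoin k (Set.range fun i => φ i / φ j) = ⊤ :=
    Groth.Agent.Lib.Helper34.FunFldLocRing.frac_eq_top φ hφ0 j 0 hbir
  have hfw : MvPolynomial.aeval w f = 0 :=
    (Groth.Agent.Lib.Helper88.AJ.aeval_div hhom φ (φ j) (hφ0 j)).2 hfφ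
  have hVeq := Groth.Agent.Lib.Helper88.AJ.gradSpace_eq φ P j (hφ0 j) α hαj hα {f}
    (by
      intro s hs
      rw [Set.mem_singleton_iff] at hs
      rw [hs]
      exact hfw)
    (fun G m hG hGφ => Ideal.mem_span_singleton.2
      (Groth.Agent.Lib.Helper88.PK.dvd_of_form hK φ (hφ0 0) hbir f hf hhom hfφ G m hG hGφ))
  rw [Set.image_singleton] at hVeq
  -- residues
  have hres : ∀ l, IsLocalRing.residue P.O (a l) =
      algebraMap k (IsLocalRing.ResidueField P.O) (α l) := fun l =>
    Groth.Agent.Lib.Helper88.AJ.residue_eq P (a l) (α l) (by rw [ha l]; exact hα l)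
  have hcond : (∀ l : Fin 3, MvPolynomial.aeval (fun i => IsLocalRing.residue P.O (a i))
      (MvPolynomial.pderiv l f) = 0) ↔ Groth.Agent.Lib.Helper88.AJ.gradL α f = 0 := by
    have e : (fun i => IsLocalRing.residue P.O (a i)) =
        fun i => algebraMap k (IsLocalRing.ResidueField P.O) (α i) := funext hres
    rw [e]
    constructor
    · intro h
      funext l
      have h1 := h l
      rw [Groth.Agent.Lib.Helper88.AJ.aeval_residue] at h1
      apply (algebraMap k (IsLocalRing.ResidueField P.O)).injective
      rw [Groth.Agent.Lib.Helper88.AJ.gradL_apply, h1, Pi.zero_apply, map_zero]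
    · intro h l
      rw [Groth.Agent.Lib.Helper88.AJ.aeval_residue, ← Groth.Agent.Lib.Helper88.AJ.gradL_apply, h,
        Pi.zero_apply, map_zero]
  rw [hcond]
  -- Euler
  have hfα : MvPolynomial.eval α f = 0 := by
    apply Groth.Agent.Lib.Helper88.AJ.eval_eq_zero_of_lt P w α hα
    rw [hfw, map_zero]
    exact zero_lt_one
  have hE : ∑ i, α i * Groth.Agent.Lib.Helper88.AJ.gradL α f i = 0 := by
    have h1 := congrArg (MvPolynomial.eval α) hhom.sum_X_mul_pderiv
    rw [map_sum] at h1
    simp only [map_mul, MvPolynomial.eval_X, map_nsmul, hfα, smul_zero] at h1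
    exact h1
  constructor
  · intro hsing
    by_contra hne
    apply hsing
    have hli : LinearIndependent k
        ![Groth.Agent.Lib.Helper88.AJ.gradL α f, (Pi.single j 1 : Fin 3 → k)] := by
      rw [LinearIndependent.pair_iff]
      intro s t hst
      have h1 : ∑ i, α i * (s • Groth.Agent.Lib.Helper88.AJ.gradL α f +
          t • (Pi.single j 1 : Fin 3 → k)) i = 0 := by
        rw [hst]
        simp
      have h2 : ∑ i, α i * (s • Groth.Agent.Lib.Helper88.AJ.gradL α f +
          t • (Pi.single j 1 : Fin 3 → k)) i =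
          s * ∑ i, α i * Groth.Agent.Lib.Helper88.AJ.gradL α f i + t * α j := by
        simp only [Pi.add_apply, Pi.smul_apply, smul_eq_mul, mul_add, Finset.sum_add_distrib,
          Finset.mul_sum]
        congr 1
        · refine Finset.sum_congr rfl fun i _ => ?_
          ring
        · simp [Pi.single_apply, mul_comm]
      rw [h2, hE, mul_zero, zero_add, hαj, mul_one] at h1
      rw [h1, zero_smul, add_zero] at hst
      refine ⟨?_, h1⟩
      rcases smul_eq_zero.1 hst with h | h
      · exact h
      · exact absurd h hne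
    have hfr : Module.finrank k (Submodule.span k
        (Set.range ![Groth.Agent.Lib.Helper88.AJ.gradL α f, (Pi.single j 1 : Fin 3 → k)])) = 2 := by
      rw [finrank_span_eq_card hli]
      simp
    apply Groth.Agent.Lib.Helper88.AJ.nonsing_of_le φ P j (hφ0 j) hj hbirj α hα
      (Submodule.span k
        (Set.range ![Groth.Agent.Lib.Helper88.AJ.gradL α f, (Pi.single j 1 : Fin 3 → k)]))
    · rw [hVeq, Submodule.span_le]
      rintro _ ⟨i, rfl⟩
      fin_cases i
      · exact Submodule.mem_sup_left (Submodule.subset_span rfl)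
      · exact Submodule.mem_sup_right (Submodule.subset_span rfl)
    · rw [hfr]
      simp
  · intro hgrad hns
    have h1 := Groth.Agent.Lib.Helper88.AJ.finrank_of_nonsing hK φ P j (hφ0 j) hj α hα hns
    rw [hVeq, hgrad, Submodule.span_zero_singleton, bot_sup_eq] at h1
    have hne : (Pi.single j 1 : Fin 3 → k) ≠ 0 := by
      intro h
      have := congrFun h j
      simp at this
    rw [finrank_span_singleton hne] at h1
    simp at h1

end Groth.Agent.S11072
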