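import Groth.Statements.S11074
-- import your own Groth.Agent.* helpers here
import Groth.Agent.Lib.Helper34.FunFldLocRing
import Groth.Agent.S11075
import Mathlib.RingTheory.MvPolynomial.EulerIdentity
import Mathlib.RingTheory.MvPolynomial.Tower

set_option autoImplicit false
open FunFld

namespace Groth.Agent.S11074

section aux

open Groth.Agent.Lib.Helper88.FF WithZero MvPolynomial

variable {k K : Type*} [Field k] [Field K] [Algebra k K]

/-- Second order Taylor expansion of a polynomial at a point `α + s`, `s` in the maximal ideal. -/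
lemma taylor2 {σ : Type*} [Fintype σ] [DecidableEq σ] (P : Place k K) (α : σ → k) (s : σ → K)
    (hs : ∀ i, P.1 (s i) ≤ exp (-1)) (f : MvPolynomial σ k) :
    P.1 (aeval (fun i => algebraMap k K (α i) + s i) f - algebraMap k K (eval α f) -
      ∑ i, algebraMap k K (eval α (pderiv i f)) * s i) ≤ exp (-2) := by
  have h21 : (exp (-2 : ℤ) : ℤᵐ⁰) ≤ exp (-1) := exp_le_exp.2 (by norm_num)
  induction f using MvPolynomial.induction_on with
  | C a => simp
  | add p q hp hq =>
    have e : aeval (fun i => algebraMap k K (α i) + s i) (p + q) - algebraMap k K (eval α (p + q)) -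
        ∑ i, algebraMap k K (eval α (pderiv i (p + q))) * s i =
        (aeval (fun i => algebraMap k K (α i) + s i) p - algebraMap k K (eval α p) -
          ∑ i, algebraMap k K (eval α (pderiv i p)) * s i) +
        (aeval (fun i => algebraMap k K (α i) + s i) q - algebraMap k K (eval α q) -
          ∑ i, algebraMap k K (eval α (pderiv i q)) * s i) := by
      simp only [map_add, add_mul, Finset.sum_add_distrib]
      ring
    rw [e]
    exact (P.1.map_add _ _).trans (max_le hp hq)
  | mul_X p l hp =>
    set A := aeval (fun i => algebraMap k K (α i) + s i) p with hA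
    set B := algebraMap k K (eval α p) with hB
    have hD : ∀ i, algebraMap k K (eval α (pderiv i (p * X l))) =
        algebraMap k K (eval α (pderiv i p)) * algebraMap k K (α l) +
          B * (if l = i then 1 else 0) := by
      intro i
      rw [Derivation.leibniz, pderiv_X]
      simp only [smul_eq_mul, map_add, map_mul, eval_X, Pi.single_apply]
      split_ifs with h
      · simp [hB]; ring
      · simp; ring
    have hsum : ∑ i, algebraMap k K (eval α (pderiv i (p * X l))) * s i =
        algebraMap k K (α l) * ∑ i, algebraMap k K (eval α (pderiv i p)) * s i + B * s l := by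
      simp only [hD, add_mul, Finset.sum_add_distrib, Finset.mul_sum]
      congr 1
      · refine Finset.sum_congr rfl fun i _ => ?_
        ring
      · simp [mul_ite, ite_mul]
    have e : aeval (fun i => algebraMap k K (α i) + s i) (p * X l) -
        algebraMap k K (eval α (p * X l)) -
        ∑ i, algebraMap k K (eval α (pderiv i (p * X l))) * s i =
        algebraMap k K (α l) * (A - B - ∑ i, algebraMap k K (eval α (pderiv i p)) * s i) +
          s l * (A - B) := by
      rw [hsum, map_mul, aeval_X, map_mul, eval_X, map_mul]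
      ring
    rw [e]
    have hAB : P.1 (A - B) ≤ exp (-1) := by
      have e2 : A - B = (A - B - ∑ i, algebraMap k K (eval α (pderiv i p)) * s i) +
          ∑ i, algebraMap k K (eval α (pderiv i p)) * s i := by ring
      rw [e2]
      refine (P.1.map_add _ _).trans (max_le (hp.trans h21) ?_)
      refine Valuation.map_sum_le _ fun i _ => ?_
      rw [map_mul]
      calc P.1 (algebraMap k K (eval α (pderiv i p))) * P.1 (s i) ≤ 1 * exp (-1) :=
            mul_le_mul' (P.2.1 _) (hs i)
        _ = exp (-1) := one_mul _
    refine (P.1.map_add _ _).trans (max_le ?_ ?_)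
    · rw [map_mul]
      calc P.1 (algebraMap k K (α l)) * _ ≤ 1 * exp (-2) := mul_le_mul' (P.2.1 _) hp
        _ = exp (-2) := one_mul _
    · rw [map_mul]
      calc P.1 (s l) * P.1 (A - B) ≤ exp (-1) * exp (-1) := mul_le_mul' (hs l) hAB
        _ = exp (-2) := by rw [← exp_add]; norm_num

end aux

/-- Over an algebraically closed constant field, at a nonsingular point `a = φ(P)` of a plane curve
`V(f)` with birational natural map `φ = (φ₀ : φ₁ : φ₂)`, the tangent line is `(∂f/∂X₀(a) : ∂f/∂X₁(a)
: ∂f/∂X₂(a))`: the corresponding linear form, pulled back along `φ` normalized at `P`, vanishes to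
order at least `2` at `P` (the tangent line being the one line whose pullback vanishes to order `≥
2`). Nonsingular at `P` means that the local ring of `φ` at `P` (quotients of polynomials over `k`
in the `φᵢ/φⱼ`, `φⱼ` of least order at `P`, denominator a unit at `P`) is the whole valuation ring. -/
theorem result
    (k K : Type*) [Field k] [IsAlgClosed k] [Field K] [Algebra k K]
    (hK : FunFld.IsFunctionField k K) (φ : Fin 3 → K) (hφ : LinearIndependent k φ)
    (hbir : IntermediateField.adjoin k (Set.range fun i => φ i / φ 0) = ⊤)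
    (f : MvPolynomial (Fin 3) k) (hf : Irreducible f) (hhom : f.IsHomogeneous f.totalDegree)
    (hfφ : MvPolynomial.aeval φ f = 0) (P : FunFld.Place k K) (j : Fin 3)
    (hj : ∀ i, P.1 (φ i) ≤ P.1 (φ j)) (hns : FunFld.IsNonsingularAt φ P) (a : Fin 3 → P.O)
    (ha : ∀ i, ((a i : P.O) : K) = φ i / φ j) (c : Fin 3 → k)
    (hc : ∀ i, algebraMap k (IsLocalRing.ResidueField P.O) (c i) =
      MvPolynomial.aeval (fun l => IsLocalRing.residue P.O (a l)) (MvPolynomial.pderiv i f)) :
    P.1 (∑ i, c i • (φ i / φ j)) ≤ WithZero.exp (-2) := by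
  classical
  have hφj : φ j ≠ 0 := hφ.ne_zero j
  have hexp : (WithZero.exp (-1 : ℤ) : WithZero (Multiplicative ℤ)) < 1 :=
    Groth.Agent.Lib.Helper88.FF.lt_one_iff_le_exp_neg_one.2 le_rfl
  have hr : ∀ i, P.1 (φ i / φ j) ≤ 1 := fun i =>
    (Groth.Agent.Lib.Helper34.FunFldLocRing.val_div_le_one_iff φ P j hφj i).2 (hj i)
  choose α hα using fun i => Groth.Agent.Lib.Helper68.FunFldRes.exists_const hK P (hr i)
  set s : Fin 3 → K := fun i => φ i / φ j - algebraMap k K (α i) with hs
  have hs1 : ∀ i, P.1 (s i) ≤ WithZero.exp (-1) := fun i =>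
    Groth.Agent.Lib.Helper88.FF.lt_one_iff_le_exp_neg_one.1 (hα i)
  have hrs : (fun i => algebraMap k K (α i) + s i) = fun i => φ i / φ j := by
    funext i
    simp [hs]
  -- f(r) = 0
  have hfr : MvPolynomial.aeval (fun i => φ i / φ j) f = 0 := by
    have h1 := Groth.Agent.S11075.aeval_scale (n := 2) f hhom φ (φ j)⁻¹
    simp only [div_eq_inv_mul]
    rw [h1, hfφ, mul_zero]
  have hT := taylor2 P α s hs1 f
  rw [hrs, hfr, zero_sub] at hT
  have hsum1 : P.1 (∑ i, algebraMap k K (MvPolynomial.eval α (MvPolynomial.pderiv i f)) * s i) ≤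
      WithZero.exp (-1) := by
    refine Valuation.map_sum_le _ fun i _ => ?_
    rw [map_mul]
    calc P.1 (algebraMap k K _) * P.1 (s i) ≤ 1 * WithZero.exp (-1) :=
          mul_le_mul' (P.2.1 _) (hs1 i)
      _ = WithZero.exp (-1) := one_mul _
  -- f(α) = 0
  have hfα : MvPolynomial.eval α f = 0 := by
    by_contra hne
    have h1 : P.1 (algebraMap k K (MvPolynomial.eval α f)) = 1 :=
      Groth.Agent.Lib.Helper88.FF.val_algebraMap P hne
    have h21 : (WithZero.exp (-2 : ℤ) : WithZero (Multiplicative ℤ)) ≤ WithZero.exp (-1) :=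
      WithZero.exp_le_exp.2 (by norm_num)
    have e : algebraMap k K (MvPolynomial.eval α f) =
        -((-algebraMap k K (MvPolynomial.eval α f) -
          ∑ i, algebraMap k K (MvPolynomial.eval α (MvPolynomial.pderiv i f)) * s i) +
          ∑ i, algebraMap k K (MvPolynomial.eval α (MvPolynomial.pderiv i f)) * s i) := by ring
    have h2 : P.1 (algebraMap k K (MvPolynomial.eval α f)) ≤ WithZero.exp (-1) := by
      rw [e, Valuation.map_neg]
      exact (P.1.map_add _ _).trans (max_le (hT.trans h21) hsum1)
    rw [h1] at h2
    exact absurd h2 (not_le.2 hexp)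
  rw [hfα, map_zero, neg_zero, zero_sub, Valuation.map_neg] at hT
  -- the constants c i
  have hres : ∀ l, IsLocalRing.residue P.O (a l) =
      algebraMap k (IsLocalRing.ResidueField P.O) (α l) := by
    intro l
    have e1 : algebraMap k (IsLocalRing.ResidueField P.O) (α l) =
        IsLocalRing.residue P.O (algebraMap k P.O (α l)) := rfl
    rw [e1, ← sub_eq_zero, ← map_sub, IsLocalRing.residue_eq_zero_iff,
      Valuation.mem_maximalIdeal_iff]
    have e2 : ((a l - algebraMap k P.O (α l) : P.O) : K) = φ l / φ j - algebraMap k K (α l) := by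
      rw [← ha l]; rfl
    rw [e2]
    exact hα l
  have hci : ∀ i, c i = MvPolynomial.eval α (MvPolynomial.pderiv i f) := by
    intro i
    apply (algebraMap k (IsLocalRing.ResidueField P.O)).injective
    rw [hc i]
    have e3 : (fun l => IsLocalRing.residue P.O (a l)) =
        (algebraMap k (IsLocalRing.ResidueField P.O)) ∘ α := by
      funext l
      exact hres l
    rw [e3, MvPolynomial.aeval_def]
    have h4 := MvPolynomial.eval₂_comp_left (algebraMap k (IsLocalRing.ResidueField P.O))
      (RingHom.id k) α (MvPolynomial.pderiv i f)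
    rw [RingHom.comp_id] at h4
    rw [← h4]
    rfl
  -- Euler
  have hE : ∑ i, α i * MvPolynomial.eval α (MvPolynomial.pderiv i f) = 0 := by
    have h1 := congrArg (MvPolynomial.eval α) hhom.sum_X_mul_pderiv
    rw [map_sum] at h1
    simp only [map_mul, MvPolynomial.eval_X, map_nsmul, hfα, smul_zero] at h1
    exact h1
  have hfinal : ∑ i, c i • (φ i / φ j) =
      ∑ i, algebraMap k K (MvPolynomial.eval α (MvPolynomial.pderiv i f)) * s i := by
    have h1 : ∀ i, c i • (φ i / φ j) =
        algebraMap k K (α i * MvPolynomial.eval α (MvPolynomial.pderiv i f)) +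
          algebraMap k K (MvPolynomial.eval α (MvPolynomial.pderiv i f)) * s i := by
      intro i
      rw [hci i, Algebra.smul_def, map_mul, hs]
      ring
    simp only [h1, Finset.sum_add_distrib]
    rw [← map_sum, hE, map_zero, zero_add]
  rw [hfinal]
  exact hT

end Groth.Agent.S11074
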