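import Groth.Statements.S11076
-- import your own Groth.Agent.* helpers here
import Groth.Agent.Lib.Helper34.FunFldMapDiv
import Groth.Agent.S11065
import Groth.Agent.S11066
import Groth.Agent.S11075
import Mathlib.Algebra.BigOperators.Field

set_option autoImplicit false
open FunFld

namespace Groth.Agent.S11076

section aux

open Groth.Agent.Lib.Helper88.FF WithZero Groth.Agent.Lib.Helper68.FunFldRes
  Groth.Agent.Lib.Helper34.FunFldMapDiv Groth.Agent.Lib.Helper34.FunFldLocRing

variable {k K : Type*} [Field k] [Field K] [Algebra k K]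

/-- The intersection terms at the places of one fibre are nonnegative and positive together. -/
lemma term_facts (hK : IsFunctionField k K) {n : ℕ} (φ : Fin (n + 1) → K)
    (hφ0 : ∀ i, φ i ≠ 0) (c : Fin (n + 1) → k) (hl : ∑ i, c i • φ i ≠ 0) (P Q : Place k K)
    (h : SameImage φ P Q) :
    0 ≤ mapDiv k φ Q + Q.ord (∑ i, c i • φ i) ∧
      (0 < mapDiv k φ Q + Q.ord (∑ i, c i • φ i) ↔
        0 < mapDiv k φ P + P.ord (∑ i, c i • φ i)) := by
  obtain ⟨j, hj, hPj, hQj, hc⟩ := h
  choose α hαP hαQ using hc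
  rw [mapDiv_add_ord hK φ hφ0 Q j hQj hl, mapDiv_add_ord hK φ hφ0 P j hPj hl]
  have hne : (∑ i, c i • φ i) / φ j ≠ 0 := div_ne_zero hl hj
  have hsub : (∑ i, c i • φ i) / φ j - algebraMap k K (∑ i, c i * α i) =
      ∑ i, c i • (φ i / φ j - algebraMap k K (α i)) := by
    rw [Finset.sum_div, map_sum, ← Finset.sum_sub_distrib]
    refine Finset.sum_congr rfl fun i _ => ?_
    rw [smul_sub, smul_div_assoc, map_mul, Algebra.smul_def (c i) (algebraMap k K (α i))]
  have hlt : ∀ R : Place k K, (∀ i, R.1 (φ i / φ j - algebraMap k K (α i)) < 1) →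
      R.1 ((∑ i, c i • φ i) / φ j - algebraMap k K (∑ i, c i * α i)) < 1 := by
    intro R hR
    rw [hsub]
    refine Valuation.map_sum_lt _ one_ne_zero fun i _ => ?_
    exact lt_of_le_of_lt (val_smul_le R _ _) (hR i)
  have hP1 := hlt P hαP
  have hQ1 := hlt Q hαQ
  refine ⟨(val_le_one_iff Q hne).1 (v_le_of_sub_lt Q.1 hQ1 (Q.2.1 _)), ?_⟩
  rw [← val_lt_one_iff Q hne, ← val_lt_one_iff P hne, v_lt_iff_of_sub_lt Q.1 hQ1,
    v_lt_iff_of_sub_lt P.1 hP1, const_lt_one_iff, const_lt_one_iff]

end aux

/-- Over an algebraically closed constant field, a projective curve (given by a birational projective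
map `φ = (φ₀, …, φₙ)`, `n ≥ 1`) is nonsingular at the point `a = φ(P)` if and only if some
hyperplane `∑ cᵢ Xᵢ` has intersection multiplicity `1` with it at `a`: the sum over the places `Q`
of the fibre of `a` of `[φ](Q) + ord_Q(∑ cᵢ φᵢ)` is `1`. Nonsingular at `P` means that the local
ring of `φ` at `P` (quotients of polynomials over `k` in the `φᵢ/φⱼ`, `φⱼ` of least order at `P`,
denominator a unit at `P`) is the whole valuation ring. Two places have the same image point when
some entry `φⱼ` has least order at both and each `φᵢ/φⱼ` is congruent to one constant modulo both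
maximal ideals. -/
theorem result (k K : Type*) [Field k] [IsAlgClosed k] [Field K] [Algebra k K]
    (hK : FunFld.IsFunctionField k K) {n : ℕ} (hn : 1 ≤ n)
    (φ : Fin (n + 1) → K) (hφ : LinearIndependent k φ)
    (hbir : IntermediateField.adjoin k (Set.range fun i => φ i / φ 0) = ⊤)
    (P : FunFld.Place k K) :
    FunFld.IsNonsingularAt φ P ↔ ∃ c : Fin (n + 1) → k, ∑ i, c i • φ i ≠ 0 ∧
      ∑ᶠ Q ∈ {Q : FunFld.Place k K | FunFld.SameImage φ P Q},
        ((FunFld.mapDiv k φ) Q + Q.ord (∑ i, c i • φ i)) = 1 := by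
  classical
  have hφ0 : ∀ i, φ i ≠ 0 := fun i => hφ.ne_zero i
  have hfin := (Groth.Agent.S11075.result k K hK hn φ hφ).2 P
  have hPP : FunFld.SameImage φ P P :=
    Groth.Agent.Lib.Helper34.FunFldLocRing.sameImage_refl φ hK hφ0 P
  obtain ⟨j, hjmax⟩ := Finite.exists_max (fun i => P.1 (φ i))
  have hj := hφ0 j
  constructor
  · intro hns
    obtain ⟨h1, t, htR, htP⟩ := (Groth.Agent.S11065.result k K hK hn φ hφ hbir P).1 hns
    have hfibP : ∀ Q : FunFld.Place k K, FunFld.SameImage φ P Q → Q = P := fun Q hQ =>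
      h1 Q (fun z hz => (Groth.Agent.S11078.forward φ P Q hQ z hz).1)
    -- a uniformizer in the span of the normalized entries
    have heff : (1 : K) ∈ Submodule.span k (Set.range fun i => φ i / φ j) := by
      refine Submodule.subset_span ⟨j, ?_⟩
      exact div_self hj
    have hnorm : ∀ i, P.1 (φ i / φ j) ≤ 1 := fun i =>
      (Groth.Agent.Lib.Helper34.FunFldLocRing.val_div_le_one_iff φ P j hj i).2 (hjmax i)
    obtain ⟨t', ht'span, ht'P⟩ :=
      (Groth.Agent.S11066.result k K hK (fun i => φ i / φ j) P heff hnorm).1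
        ⟨t, (Groth.Agent.Lib.Helper34.FunFldLocRing.inLocRing_div φ j hj P t).2 htR, htP⟩
    obtain ⟨c, hc⟩ := (Submodule.mem_span_range_iff_exists_fun k).1 ht'span
    have ht'0 : t' ≠ 0 := by
      intro h0
      rw [h0, map_zero] at ht'P
      exact WithZero.exp_ne_zero ht'P.symm
    have hl : ∑ i, c i • φ i = t' * φ j := by
      rw [← hc, Finset.sum_mul]
      refine Finset.sum_congr rfl fun i _ => ?_
      rw [smul_mul_assoc, div_mul_cancel₀ _ hj]
    have hl0 : ∑ i, c i • φ i ≠ 0 := by
      rw [hl]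
      exact mul_ne_zero ht'0 hj
    refine ⟨c, hl0, ?_⟩
    have hset : {Q : FunFld.Place k K | FunFld.SameImage φ P Q} = {P} := by
      ext Q
      constructor
      · intro hQ
        exact hfibP Q hQ
      · intro hQ
        rw [Set.mem_singleton_iff] at hQ
        rw [hQ]
        exact hPP
    rw [hset, finsum_mem_singleton,
      Groth.Agent.Lib.Helper34.FunFldMapDiv.mapDiv_add_ord hK φ hφ0 P j hjmax hl0, hl,
      mul_div_cancel_right₀ _ hj]
    simp [FunFld.Place.ord, ht'P]
  · rintro ⟨c, hl0, hsum⟩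
    set term : FunFld.Place k K → ℤ := fun Q =>
      (FunFld.mapDiv k φ) Q + Q.ord (∑ i, c i • φ i) with hterm
    have hfacts : ∀ Q ∈ hfin.toFinset, 0 ≤ term Q ∧ (0 < term Q ↔ 0 < term P) := by
      intro Q hQ
      rw [Set.Finite.mem_toFinset] at hQ
      exact term_facts hK φ hφ0 c hl0 P Q hQ
    have hPmem : P ∈ hfin.toFinset := by
      rw [Set.Finite.mem_toFinset]
      exact hPP
    rw [finsum_mem_eq_finite_toFinset_sum _ hfin] at hsum
    have hsum' : ∑ Q ∈ hfin.toFinset, term Q = 1 := hsum
    have hpos : 0 < term P := by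
      by_contra hnp
      have hz : ∀ Q ∈ hfin.toFinset, term Q = 0 := by
        intro Q hQ
        obtain ⟨h0, hiff⟩ := hfacts Q hQ
        have : ¬ 0 < term Q := fun h => hnp (hiff.1 h)
        omega
      rw [Finset.sum_eq_zero hz] at hsum'
      exact zero_ne_one hsum'
    have hge : ∀ Q ∈ hfin.toFinset, 1 ≤ term Q := by
      intro Q hQ
      have := (hfacts Q hQ).2.2 hpos
      omega
    have hcard : hfin.toFinset.card ≤ 1 := by
      have h1 := Finset.card_nsmul_le_sum hfin.toFinset term 1 hge
      rw [hsum'] at h1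
      have h2 : (hfin.toFinset.card : ℤ) ≤ 1 := by simpa using h1
      exact_mod_cast h2
    have hfibP : ∀ Q : FunFld.Place k K, FunFld.SameImage φ P Q → Q = P := by
      intro Q hQ
      have hQmem : Q ∈ hfin.toFinset := by
        rw [Set.Finite.mem_toFinset]
        exact hQ
      exact Finset.card_le_one.1 hcard Q hQmem P hPmem
    have hsingle : hfin.toFinset = {P} := by
      ext Q
      rw [Finset.mem_singleton]
      constructor
      · intro hQ
        rw [Set.Finite.mem_toFinset] at hQ
        exact hfibP Q hQ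
      · rintro rfl
        exact hPmem
    rw [hsingle, Finset.sum_singleton] at hsum'
    have hord : P.ord ((∑ i, c i • φ i) / φ j) = 1 := by
      rw [← Groth.Agent.Lib.Helper34.FunFldMapDiv.mapDiv_add_ord hK φ hφ0 P j hjmax hl0]
      exact hsum'
    have hne : (∑ i, c i • φ i) / φ j ≠ 0 := div_ne_zero hl0 hj
    have hval : P.1 ((∑ i, c i • φ i) / φ j) = WithZero.exp (-1) := by
      rw [Groth.Agent.Lib.Helper88.FF.val_eq_exp_neg_ord P hne, hord]
    have hmem : (∑ i, c i • φ i) / φ j ∈ Algebra.adjoin k (Set.range fun i => φ i / φ j) := by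
      rw [Finset.sum_div]
      refine Subalgebra.sum_mem _ fun i _ => ?_
      rw [smul_div_assoc]
      exact Subalgebra.smul_mem _ (Algebra.subset_adjoin (Set.mem_range_self i)) _
    have htR : FunFld.InLocRing φ P ((∑ i, c i • φ i) / φ j) :=
      ⟨j, hj, hjmax, _, hmem, 1, Subalgebra.one_mem _, map_one _, mul_one _⟩
    exact Groth.Agent.Lib.Helper34.FunFldLocRing.isNonsingularAt_of φ hK hφ0 0 hbir P hfibP _
      htR hval

end Groth.Agent.S11076
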