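import Groth.Statements.S11079
import Mathlib.LinearAlgebra.Matrix.NonsingularInverse
import Mathlib.LinearAlgebra.Basis.VectorSpace
import Mathlib.LinearAlgebra.Dimension.StrongRankCondition
import Mathlib.LinearAlgebra.LinearIndependent.Lemmas
import Mathlib.LinearAlgebra.StdBasis
-- import your own Groth.Agent.* helpers here

set_option autoImplicit false
universe u
open CAlg

namespace Groth.Agent.S11079

section Aux

open Matrix

variable {K L : Type u} [Field K] [Field L] [Algebra K L] [FiniteDimensional K L] {n : ℕ}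

/-- b(x) = Σ_σ B_σ σ(x) -/
noncomputable def bvec (B : (L ≃ₐ[K] L) → GL (Fin n) L) (x : Fin n → L) : Fin n → L :=
  ∑ σ : L ≃ₐ[K] L, (B σ : Matrix (Fin n) (Fin n) L).mulVec (fun i => σ (x i))

theorem span_bvec_eq_top (B : (L ≃ₐ[K] L) → GL (Fin n) L) :
    Submodule.span L (Set.range (bvec B)) = ⊤ := by
  by_contra hne
  obtain ⟨u, hu0, hu⟩ := Submodule.exists_le_ker_of_lt_top _ (lt_top_iff_ne_top.mpr hne)
  apply hu0
  have hli : LinearIndependent L (fun (f : L ≃ₐ[K] L) => (f : L → L)) :=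
    LinearIndependent.comp (ι' := L ≃ₐ[K] L)
      (linearIndependent_monoidHom L L) (fun f => f)
      (fun x y h => by ext; exact DFunLike.ext_iff.1 h _)
  -- for every x, u (B 1 x) = 0
  have key : ∀ x : Fin n → L, u ((B 1 : Matrix (Fin n) (Fin n) L).mulVec x) = 0 := by
    intro x
    have h0 : ∀ lam : L, ∑ σ : L ≃ₐ[K] L,
        σ lam * u ((B σ : Matrix (Fin n) (Fin n) L).mulVec (fun i => σ (x i))) = 0 := by
      intro lam
      have hmem : bvec B (lam • x) ∈ LinearMap.ker u :=
        hu (Submodule.subset_span ⟨_, rfl⟩)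
      rw [LinearMap.mem_ker, bvec, map_sum] at hmem
      rw [← hmem]
      refine Finset.sum_congr rfl fun σ _ => ?_
      have : (fun i => σ ((lam • x) i)) = σ lam • (fun i => σ (x i)) := by
        funext i; simp
      rw [this, Matrix.mulVec_smul, map_smul, smul_eq_mul]
    have h1 := Fintype.linearIndependent_iff.mp hli
      (fun σ => u ((B σ : Matrix (Fin n) (Fin n) L).mulVec (fun i => σ (x i))))
      (by
        funext lam
        simp only [Finset.sum_apply, Pi.smul_apply, smul_eq_mul, Pi.zero_apply]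
        rw [← h0 lam]
        exact Finset.sum_congr rfl fun σ _ => mul_comm _ _) 1
    simpa using h1
  -- B 1 is invertible, so u = 0
  refine LinearMap.ext fun y => ?_
  have hy : y = (B 1 : Matrix (Fin n) (Fin n) L).mulVec
      ((((B 1)⁻¹ : GL (Fin n) L) : Matrix (Fin n) (Fin n) L).mulVec y) := by
    rw [Matrix.mulVec_mulVec, ← Units.val_mul, mul_inv_cancel, Units.val_one, Matrix.one_mulVec]
  rw [hy, key, LinearMap.zero_apply]

theorem exists_isUnit_sum (B : (L ≃ₐ[K] L) → GL (Fin n) L) :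
    ∃ C : Matrix (Fin n) (Fin n) L,
      IsUnit (∑ σ : L ≃ₐ[K] L, (B σ : Matrix (Fin n) (Fin n) L) * C.map σ) := by
  obtain ⟨κ, a, -, hsp, hli⟩ := exists_linearIndependent' L (bvec B)
  rw [span_bvec_eq_top B] at hsp
  let bas : Module.Basis κ L (Fin n → L) := Module.Basis.mk hli hsp.ge
  let e : Fin n ≃ κ := (Pi.basisFun L (Fin n)).indexEquiv bas
  refine ⟨Matrix.of (fun i j => a (e j) i), ?_⟩
  rw [← Matrix.linearIndependent_cols_iff_isUnit]
  have hcol : (∑ σ : L ≃ₐ[K] L,
      (B σ : Matrix (Fin n) (Fin n) L) * (Matrix.of (fun i j => a (e j) i)).map σ).col =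
      (bvec B ∘ a) ∘ e := by
    funext j i
    simp only [Matrix.col_apply, Matrix.sum_apply, Function.comp_apply, bvec, Finset.sum_apply]
    refine Finset.sum_congr rfl fun σ _ => ?_
    simp [Matrix.mul_apply, Matrix.mulVec, dotProduct]
  rw [hcol]
  exact hli.comp e e.injective

theorem aux (K L : Type u) [Field K] [Field L]
    [Algebra K L] [FiniteDimensional K L] [IsGalois K L] (n : ℕ)
    (B : (L ≃ₐ[K] L) → GL (Fin n) L)
    (hB : ∀ σ τ : L ≃ₐ[K] L,
      (B σ : Matrix (Fin n) (Fin n) L) * (B τ : Matrix (Fin n) (Fin n) L).map σ = (B (σ * τ) : Matrix (Fin n) (Fin n) L)) :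
    ∃ A : GL (Fin n) L, ∀ σ : L ≃ₐ[K] L,
      (B σ : Matrix (Fin n) (Fin n) L) = ((A⁻¹ : GL (Fin n) L) : Matrix (Fin n) (Fin n) L) * (A : Matrix (Fin n) (Fin n) L).map σ := by
  obtain ⟨C, hC⟩ := exists_isUnit_sum B
  obtain ⟨U, hU⟩ := hC
  -- invariance
  have hinv : ∀ τ : L ≃ₐ[K] L, (B τ : Matrix (Fin n) (Fin n) L) *
      (U : Matrix (Fin n) (Fin n) L).map τ = (U : Matrix (Fin n) (Fin n) L) := by
    intro τ
    have hmap : ∀ M : Matrix (Fin n) (Fin n) L, M.map τ =
        (τ : L →+* L).mapMatrix M := fun M => rfl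
    rw [hU, hmap, map_sum, Finset.mul_sum]
    rw [← Fintype.sum_equiv (Equiv.mulLeft τ) (fun σ => (B (τ * σ) : Matrix (Fin n) (Fin n) L) *
      C.map (τ * σ)) (fun σ => (B σ : Matrix (Fin n) (Fin n) L) * C.map σ) (fun σ => rfl)]
    refine Finset.sum_congr rfl fun σ _ => ?_
    rw [map_mul, ← mul_assoc, ← hmap, hB τ σ]
    congr 1
  refine ⟨U⁻¹, fun σ => ?_⟩
  rw [inv_inv]
  have h1 : (U : Matrix (Fin n) (Fin n) L).map σ *
      ((U⁻¹ : GL (Fin n) L) : Matrix (Fin n) (Fin n) L).map σ = 1 := by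
    have hmap : ∀ M : Matrix (Fin n) (Fin n) L, M.map σ =
        (σ : L →+* L).mapMatrix M := fun M => rfl
    rw [hmap, hmap, ← map_mul, ← Units.val_mul, mul_inv_cancel, Units.val_one, map_one]
  calc (B σ : Matrix (Fin n) (Fin n) L)
      = (B σ : Matrix (Fin n) (Fin n) L) * ((U : Matrix (Fin n) (Fin n) L).map σ *
          ((U⁻¹ : GL (Fin n) L) : Matrix (Fin n) (Fin n) L).map σ) := by rw [h1, mul_one]
    _ = (U : Matrix (Fin n) (Fin n) L) *
          ((U⁻¹ : GL (Fin n) L) : Matrix (Fin n) (Fin n) L).map σ := by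
        rw [← mul_assoc, hinv σ]

end Aux

/-- Let L/K be a finite Galois extension of fields, n a natural number, and B a map from the Galois
group of L over K to the invertible n × n matrices over L such that B(σ) · σ(B(τ)) = B(στ) for all
σ, τ, where σ acts on matrices entrywise and στ is the automorphism applying τ first. Then there is
an invertible matrix A over L with B(σ) = A⁻¹ · σ(A) for every σ; that is, every 1-cocycle of the
Galois group with values in GL_n(L) is a coboundary. -/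
theorem result (K L : Type u) [Field K] [Field L]
    [Algebra K L] [FiniteDimensional K L] [IsGalois K L] (n : ℕ)
    (B : (L ≃ₐ[K] L) → GL (Fin n) L)
    (hB : ∀ σ τ : L ≃ₐ[K] L,
      (B σ : Matrix (Fin n) (Fin n) L) * (B τ : Matrix (Fin n) (Fin n) L).map σ = (B (σ * τ) : Matrix (Fin n) (Fin n) L)) :
    ∃ A : GL (Fin n) L, ∀ σ : L ≃ₐ[K] L,
      (B σ : Matrix (Fin n) (Fin n) L) = ((A⁻¹ : GL (Fin n) L) : Matrix (Fin n) (Fin n) L) * (A : Matrix (Fin n) (Fin n) L).map σ := aux K L n B hB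

end Groth.Agent.S11079
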