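import Groth.Statements.S11080
-- import your own Groth.Agent.* helpers here

set_option autoImplicit false
universe u
open CAlg

namespace Groth.Agent.S11080

open IsDedekindDomain IsDedekindDomain.HeightOneSpectrum in
theorem aux (A K : Type u) [CommRing A]
    [IsDedekindDomain A] [Field K] [Algebra A K] [IsFractionRing A K] (O : ValuationSubring K) :
    ((algebraMap A K).range ≤ O.toSubring ∧ O ≠ ⊤) ↔
      ∃ v : IsDedekindDomain.HeightOneSpectrum A, O = (v.valuation K).valuationSubring := by
  constructor
  · rintro ⟨hAO, hO⟩
    have hmem : ∀ a : A, algebraMap A K a ∈ O := fun a => hAO ⟨a, rfl⟩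
    -- the ring hom A → O
    let φ : A →+* O := (algebraMap A K).codRestrict O.toSubring hmem
    let p : Ideal A := (IsLocalRing.maximalIdeal O).comap φ
    have hp : p.IsPrime := Ideal.comap_isPrime φ _
    have hpmem : ∀ a : A, a ∈ p ↔ ¬ IsUnit (φ a) := fun a => by
      simp only [p, Ideal.mem_comap, IsLocalRing.mem_maximalIdeal, mem_nonunits_iff]
    have hpbot : p ≠ ⊥ := by
      intro hbot
      apply hO
      rw [eq_top_iff]
      intro x _
      obtain ⟨a, b, hb, rfl⟩ := IsFractionRing.div_surjective (A := A) x
      have hb0 : b ≠ 0 := nonZeroDivisors.ne_zero hb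
      have hbp : b ∉ p := by rw [hbot]; simpa using hb0
      rw [hpmem, not_not] at hbp
      obtain ⟨u, hu⟩ := hbp
      have : (algebraMap A K b)⁻¹ ∈ O := by
        have h1 : ((u⁻¹ : Oˣ) : O) * φ b = 1 := by rw [← hu]; simp
        have h2 : (((u⁻¹ : Oˣ) : O) : K) * algebraMap A K b = 1 := by
          have := congrArg (Subtype.val) h1
          simpa [φ] using this
        have h3 : (algebraMap A K b)⁻¹ = (((u⁻¹ : Oˣ) : O) : K) := by
          exact (eq_inv_of_mul_eq_one_left h2).symm
        rw [h3]
        exact Subtype.property _
      rw [div_eq_mul_inv]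
      exact O.mul_mem _ _ (hmem a) this
    let v : HeightOneSpectrum A := ⟨p, hp, hpbot⟩
    refine ⟨v, ?_⟩
    rw [← valuationSubringAtPrime_eq_valuationSubring]
    symm
    refine ValuationSubring.eq_of_le_of_ne_top _ ?_ hO
    rintro x ⟨a, s, hs, rfl⟩
    have hsp : s ∉ p := hs
    rw [hpmem, not_not] at hsp
    obtain ⟨u, hu⟩ := hsp
    have : (algebraMap A K s)⁻¹ ∈ O := by
      have hs0 : algebraMap A K s ≠ 0 := by
        intro h0
        have : φ s = 0 := Subtype.ext h0
        rw [← hu] at this
        exact u.ne_zero this
      have h1 : ((u⁻¹ : Oˣ) : O) * φ s = 1 := by rw [← hu]; simp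
      have h2 : (((u⁻¹ : Oˣ) : O) : K) * algebraMap A K s = 1 := by
        have := congrArg (Subtype.val) h1
        simpa [φ] using this
      have h3 : (algebraMap A K s)⁻¹ = (((u⁻¹ : Oˣ) : O) : K) := by
        exact (eq_inv_of_mul_eq_one_left h2).symm
      rw [h3]
      exact Subtype.property _
    exact O.mul_mem _ _ (hmem a) this
  · rintro ⟨v, rfl⟩
    refine ⟨?_, ?_⟩
    · rintro _ ⟨a, rfl⟩
      exact v.valuation_le_one (K := K) a
    · simp only [ne_eq, Valuation.valuationSubring_eq_top_iff, not_not]
      infer_instance

/-- Valuation rings over a curve: let A be a Dedekind domain with fraction field K. A valuation subring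
O of K contains A and is different from K if and only if O is the valuation ring of the v-adic
valuation of K at some nonzero prime v of A (equivalently O is the local ring of A at a maximal
ideal, a discrete valuation ring). (The published statement takes A to be the coordinate ring of a
nonsingular affine curve over an algebraically closed field, which is such a Dedekind domain; its
proof uses only that the local rings of A at nonzero primes are discrete valuation rings and that
nonzero primes are maximal.) -/
theorem result (A K : Type u) [CommRing A]
    [IsDedekindDomain A] [Field K] [Algebra A K] [IsFractionRing A K] (O : ValuationSubring K) :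
    ((algebraMap A K).range ≤ O.toSubring ∧ O ≠ ⊤) ↔
      ∃ v : IsDedekindDomain.HeightOneSpectrum A, O = (v.valuation K).valuationSubring := aux A K O

end Groth.Agent.S11080
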