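import Groth.Statements.S11081
import Mathlib
import Groth.Agent.Lib.Helper91.TraceFilt

set_option autoImplicit false
universe u
attribute [local instance] FractionRing.liftAlgebra
open CAlg

set_option linter.unusedSectionVars false

namespace Groth.Agent.S11081Aux

open Ideal Module UniqueFactorizationMonoid Groth.Agent.Lib.Helper91.TraceFilt

set_option linter.deprecated false
set_option linter.unusedSectionVars false

attribute [local instance] Ideal.Quotient.field

variable {A B : Type u} [CommRing A] [CommRing B] [IsDedekindDomain A] [IsDedekindDomain B]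
  [Algebra A B] [Module.Finite A B] [Module.IsTorsionFree A B]
  (p : Ideal A) [p.IsMaximal]

/-- The local piece. -/
theorem trace_local (P : Ideal B) [P.IsPrime] [P.LiesOver p] (hP0 : P ≠ ⊥)
    (he : ramificationIdx' p P ≠ 0) (y : B) :
    LinearMap.trace (A ⧸ p) (B ⧸ P ^ ramificationIdx' p P)
        (Algebra.lmul (A ⧸ p) (B ⧸ P ^ ramificationIdx' p P) (Ideal.Quotient.mk _ y)) =
      ramificationIdx' p P • Algebra.trace (A ⧸ p) (B ⧸ P) (Ideal.Quotient.mk P y) := by
  have hle : P ^ ramificationIdx' p P ≤ P := Ideal.pow_le_self he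
  let π : (B ⧸ P ^ ramificationIdx' p P) →ₐ[A ⧸ p] (B ⧸ P) :=
    { Ideal.Quotient.factor hle with commutes' := by rintro ⟨a⟩; rfl }
  have hπ : Function.Surjective π := Ideal.Quotient.factor_surjective hle
  have hker : RingHom.ker π = P.map (Ideal.Quotient.mk (P ^ ramificationIdx' p P)) :=
    Ideal.Quotient.factor_ker hle
  have hPmax : P.IsMaximal := Ideal.IsPrime.isMaximal inferInstance hP0
  have hmax : (RingHom.ker π).IsMaximal := by
    let _ := Ideal.Quotient.field P
    exact RingHom.ker_isMaximal_of_surjective π hπ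
  have hnil : (RingHom.ker π) ^ ramificationIdx' p P = ⊥ := by
    rw [hker, ← Ideal.map_pow, Ideal.map_quotient_self]
  have hst : IsScalarTower A (A ⧸ p) (B ⧸ P ^ ramificationIdx' p P) :=
    IsScalarTower.of_algebraMap_eq' rfl
  have hfin : Module.Finite (A ⧸ p) (B ⧸ P ^ ramificationIdx' p P) :=
    Module.Finite.of_restrictScalars_finite A (A ⧸ p) _
  obtain ⟨d, hd1, hd2⟩ := trace_local_artinian π hπ hmax ⟨_, hnil⟩ _
    (B ⧸ P ^ ramificationIdx' p P) rfl
  have hfr := finrank_prime_pow_ramificationIdx p P hP0 he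
  have hfr' : finrank (A ⧸ p) (B ⧸ P ^ ramificationIdx' p P) =
      ramificationIdx' p P * finrank (A ⧸ p) (B ⧸ P) := hfr
  have hpos : 0 < finrank (A ⧸ p) (B ⧸ P) := by
    have h1 : 0 < finrank (A ⧸ p) (B ⧸ P ^ ramificationIdx' p P) := by
      have : Nontrivial (B ⧸ P ^ ramificationIdx' p P) :=
        Ideal.Quotient.nontrivial_iff.mpr (fun h => hPmax.ne_top (by
          rw [eq_top_iff, ← h]; exact hle))
      exact Module.finrank_pos
    rw [hfr'] at h1
    exact Nat.pos_of_mul_pos_left h1
  have hde : d = ramificationIdx' p P :=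
    Nat.eq_of_mul_eq_mul_right hpos (hd1.symm.trans hfr')
  have := hd2 (Ideal.Quotient.mk _ y)
  rw [hde] at this
  have hπy : π (Ideal.Quotient.mk _ y) = Ideal.Quotient.mk P y := rfl
  rw [hπy] at this
  rw [← this]
  congr 1

attribute [local instance] Ideal.Quotient.algebraQuotientOfRamificationIdxNeZero

theorem main (hp : p ≠ ⊥) (y : B) :
    Ideal.Quotient.mk p (Algebra.intTrace A B y) =
      ∑ᶠ Q : p.primesOver B,
        Q.1.ramificationIdx A •
          Algebra.trace (A ⧸ p) (B ⧸ Q.1) (Ideal.Quotient.mk Q.1 y) := by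
  classical
  have hp0 : map (algebraMap A B) p ≠ ⊥ := Ideal.map_ne_bot_of_ne_bot hp
  rw [← Algebra.trace_quotient_eq_of_isDedekindDomain, Algebra.trace_apply]
  let Φ := Factors.piQuotientLinearEquiv B p hp0
  rw [← LinearMap.trace_conj' _ Φ]
  have hΦmul : ∀ a b, Φ (a * b) = Φ a * Φ b := fun a b =>
    map_mul (Factors.piQuotientEquiv p hp0) a b
  have hΦmk : ∀ x : B, Φ (Ideal.Quotient.mk _ x) = fun _ => Ideal.Quotient.mk _ x := fun x => rfl
  have hconj : Φ.conj (Algebra.lmul (A ⧸ p) (B ⧸ map (algebraMap A B) p) (Ideal.Quotient.mk _ y)) =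
      LinearMap.pi fun P : (factors (map (algebraMap A B) p)).toFinset =>
        (Algebra.lmul (A ⧸ p) (B ⧸ P.1 ^ ramificationIdx' p P.1) (Ideal.Quotient.mk _ y)) ∘ₗ
          LinearMap.proj P := by
    apply LinearMap.ext
    intro z
    funext P
    rw [LinearEquiv.conj_apply_apply]
    show Φ (Ideal.Quotient.mk _ y * Φ.symm z) P = Ideal.Quotient.mk _ y * z P
    rw [hΦmul, LinearEquiv.apply_symm_apply, hΦmk]
    rfl
  rw [hconj, trace_pi]
  rw [← finsum_eq_sum_of_fintype]
  refine finsum_eq_of_bijective
    (fun P : (factors (map (algebraMap A B) p)).toFinset =>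
      (⟨P.1, (IsDedekindDomain.mem_primesOverFinset_iff hp B).mp P.2⟩ : p.primesOver B)) ?_ ?_
  · constructor
    · intro P P' h
      exact Subtype.ext (congrArg (fun Q : p.primesOver B => Q.1) h)
    · intro Q
      exact ⟨⟨Q.1, (IsDedekindDomain.mem_primesOverFinset_iff hp B).mpr Q.2⟩, rfl⟩
  · intro P
    have hprime : P.1.IsPrime := Factors.isPrime p P
    have hlies : P.1.LiesOver p := Factors.liesOver p P
    rw [trace_local p P.1 (Factors.ne_bot p P) (Factors.ramificationIdx_ne_zero p P) y,
      ramificationIdx'_eq_ramificationIdx p P.1 hp]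

end Groth.Agent.S11081Aux

namespace Groth.Agent.S11081

/-- Let A be a Dedekind domain, B a Dedekind domain which is a finitely generated torsion-free A-algebra
whose fraction field is separable over that of A (B is the integral closure of A in a finite
separable extension), p a nonzero prime ideal of A and y an element of B. Then the class modulo p of
the trace of y from B to A is the sum over the primes Q of B lying over p of e(Q|p) times the trace,
from B/Q to A/p, of the class of y modulo Q. -/
theorem result (A B : Type u) [CommRing A] [CommRing B]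
    [IsDedekindDomain A] [IsDedekindDomain B] [Algebra A B] [Module.Finite A B] [Module.IsTorsionFree A B]
    [Algebra.IsSeparable (FractionRing A) (FractionRing B)]
    (p : Ideal A) [p.IsMaximal] (hp : p ≠ ⊥) (y : B) :
    Ideal.Quotient.mk p (Algebra.intTrace A B y) =
      ∑ᶠ Q : p.primesOver B,
        Q.1.ramificationIdx A •
          Algebra.trace (A ⧸ p) (B ⧸ Q.1) (Ideal.Quotient.mk Q.1 y) := by
  exact Groth.Agent.S11081Aux.main p hp y

end Groth.Agent.S11081
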