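import Groth.Statements.S11082
import Groth.Agent.Lib.Helper76.KaehlerField
-- import your own Groth.Agent.* helpers here

set_option autoImplicit false
universe u v
open CAlg

namespace Groth.Agent.S11082

/-- Let k be an algebraically closed field, F a field extension of k which is finitely generated as a
field, and x a transcendence basis of F over k indexed by a type ι. Then F is a separable algebraic
extension of the subfield k(x) generated by the family (x is a separating transcendence basis) if
and only if the differentials d(x i) form a basis of the F-vector space of Kähler differentials of F
over k, i.e. they are linearly independent over F and span it. -/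
theorem result (k : Type u) (F : Type v)
    [Field k] [IsAlgClosed k] [Field F] [Algebra k F] (hF : (⊤ : IntermediateField k F).FG)
    {ι : Type v} (x : ι → F) (hx : IsTranscendenceBasis k x) :
    Algebra.IsSeparable (IntermediateField.adjoin k (Set.range x)) F ↔
      (LinearIndependent F (fun i : ι => KaehlerDifferential.D k F (x i)) ∧
        Submodule.span F (Set.range fun i : ι => KaehlerDifferential.D k F (x i)) = ⊤) := by
  have : Algebra.EssFiniteType k F := IntermediateField.fg_top_iff.mp hF
  have : Algebra.EssFiniteType (IntermediateField.adjoin k (Set.range x)) F :=
    Algebra.EssFiniteType.of_comp k _ F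
  constructor
  · intro hsep
    obtain ⟨b, hb⟩ := Groth.Agent.Lib.Helper76.exists_basis_kaehler_of_isSeparable x hx.1
    have hb' : (fun i : ι => KaehlerDifferential.D k F (x i)) = b := by
      funext i; exact (hb i).symm
    rw [hb']
    exact ⟨b.linearIndependent, b.span_eq⟩
  · rintro ⟨-, hspan⟩
    have hsub : Subsingleton (Ω[F⁄(IntermediateField.adjoin k (Set.range x))]) := by
      have hsurj := KaehlerDifferential.map_surjective k
        (IntermediateField.adjoin k (Set.range x)) F
      have hle : Submodule.span F (Set.range fun i : ι => KaehlerDifferential.D k F (x i)) ≤
          LinearMap.ker (KaehlerDifferential.map k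
            (IntermediateField.adjoin k (Set.range x)) F F) := by
        rw [Submodule.span_le]
        rintro _ ⟨i, rfl⟩
        have hxi : x i ∈ IntermediateField.adjoin k (Set.range x) :=
          IntermediateField.subset_adjoin _ _ ⟨i, rfl⟩
        have : x i = algebraMap (IntermediateField.adjoin k (Set.range x)) F ⟨x i, hxi⟩ := rfl
        simp only [SetLike.mem_coe, LinearMap.mem_ker, KaehlerDifferential.map_D]
        rw [this]
        simp only [RingHom.id_apply, Algebra.algebraMap_self]
        exact Derivation.map_algebraMap _ _
      rw [hspan, top_le_iff, LinearMap.ker_eq_top] at hle
      refine ⟨fun a b => ?_⟩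
      obtain ⟨a', rfl⟩ := hsurj a
      obtain ⟨b', rfl⟩ := hsurj b
      simp [hle]
    have : Algebra.FormallyUnramified (IntermediateField.adjoin k (Set.range x)) F := ⟨hsub⟩
    exact Algebra.FormallyUnramified.isSeparable _ F

end Groth.Agent.S11082
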