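import Groth.Statements.S11086
import Groth.Agent.Lib.Helper84.DiffLoc

set_option autoImplicit false
universe u
attribute [local instance] FractionRing.liftAlgebra
open CAlg

namespace Groth.Agent.S11086

/-- Let A be a Dedekind domain, B a Dedekind domain which is a finitely generated torsion-free A-algebra
with fraction field separable over that of A (the integral closure of A in a finite separable
extension), and S a submonoid of A consisting of non-zero-divisors. Let A_S and B_S be localizations
of A at S and of B at the image of S, with B_S an algebra over A_S compatibly with A and B (so A_S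
is integrally closed and B_S is a Dedekind domain, torsion-free over A_S). Then the ideal of B_S
generated by the different of B over A is the different of B_S over A_S. -/
theorem result (A B : Type u) [CommRing A] [CommRing B]
    [IsDedekindDomain A] [IsDedekindDomain B] [Algebra A B] [Module.Finite A B] [Module.IsTorsionFree A B]
    [Algebra.IsSeparable (FractionRing A) (FractionRing B)]
    (S : Submonoid A) (hS : S ≤ nonZeroDivisors A)
    (Aₛ Bₛ : Type u) [CommRing Aₛ] [CommRing Bₛ] [Algebra A Aₛ] [Algebra B Bₛ] [Algebra Aₛ Bₛ]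
    [Algebra A Bₛ] [IsScalarTower A Aₛ Bₛ] [IsScalarTower A B Bₛ]
    [IsLocalization S Aₛ] [IsLocalization (Algebra.algebraMapSubmonoid B S) Bₛ]
    [IsDomain Aₛ] [IsIntegrallyClosed Aₛ] [IsDedekindDomain Bₛ] [Module.IsTorsionFree Aₛ Bₛ] :
    Ideal.map (algebraMap B Bₛ) (differentIdeal A B) = differentIdeal Aₛ Bₛ := by
  classical
  have : IsScalarTower Aₛ (FractionRing Aₛ) (FractionRing Bₛ) :=
    FractionRing.isScalarTower_liftAlgebra Aₛ (FractionRing Bₛ)
  have hfA : IsFractionRing A (FractionRing Aₛ) :=
    Groth.Agent.Lib.Helper84.DiffLoc.isFractionRing_of_tower A Aₛ (FractionRing Aₛ) S hS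
  have hSB : Algebra.algebraMapSubmonoid B S ≤ nonZeroDivisors B := by
    rintro _ ⟨s, hs, rfl⟩
    rw [mem_nonZeroDivisors_iff_ne_zero]
    intro h0
    have h1 : s ≠ 0 := nonZeroDivisors.ne_zero (hS hs)
    exact h1 ((map_eq_zero_iff _ (FaithfulSMul.algebraMap_injective A B)).mp h0)
  have hfB : IsFractionRing B (FractionRing Bₛ) :=
    Groth.Agent.Lib.Helper84.DiffLoc.isFractionRing_of_tower B Bₛ (FractionRing Bₛ)
      (Algebra.algebraMapSubmonoid B S) hSB
  have hintAB : Algebra.IsIntegral A B := inferInstance
  have hintS : Algebra.IsIntegral Aₛ Bₛ := by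
    constructor
    intro z
    obtain ⟨⟨b, t⟩, hbt⟩ := IsLocalization.surj (Algebra.algebraMapSubmonoid B S) z
    obtain ⟨s, hs, hst⟩ := t.2
    have h1 : IsIntegral Aₛ (algebraMap B Bₛ b) :=
      ((Algebra.IsIntegral.isIntegral (R := A) b).map (IsScalarTower.toAlgHom A B Bₛ)).tower_top
    have h2 : z = algebraMap B Bₛ b * algebraMap Aₛ Bₛ (IsLocalization.mk' Aₛ 1 (⟨s, hs⟩ : S)) := by
      have hu : IsUnit (algebraMap Aₛ Bₛ (algebraMap A Aₛ s)) :=
        (IsLocalization.map_units Aₛ (⟨s, hs⟩ : S)).map _
      apply hu.mul_right_cancel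
      rw [mul_assoc, ← map_mul, IsLocalization.mk'_spec, map_one, map_one, mul_one, ← hbt,
        ← IsScalarTower.algebraMap_apply A Aₛ Bₛ, IsScalarTower.algebraMap_apply A B Bₛ, hst]
    rw [h2]
    exact h1.mul isIntegral_algebraMap
  have : IsIntegralClosure B A (FractionRing Bₛ) :=
    IsIntegralClosure.of_isIntegrallyClosed B A (FractionRing Bₛ)
  have : IsIntegralClosure Bₛ Aₛ (FractionRing Bₛ) :=
    IsIntegralClosure.of_isIntegrallyClosed Bₛ Aₛ (FractionRing Bₛ)
  have H : RingHom.comp (algebraMap (FractionRing Aₛ) (FractionRing Bₛ))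
      ↑(FractionRing.algEquiv A (FractionRing Aₛ)).toRingEquiv =
        RingHom.comp ↑(FractionRing.algEquiv B (FractionRing Bₛ)).toRingEquiv
          (algebraMap (FractionRing A) (FractionRing B)) := by
    apply IsLocalization.ringHom_ext (nonZeroDivisors A)
    ext a
    simp only [RingHom.coe_comp, RingHom.coe_coe, AlgEquiv.coe_ringEquiv, Function.comp_apply,
      AlgEquiv.commutes, ← IsScalarTower.algebraMap_apply]
    rw [IsScalarTower.algebraMap_apply A B (FractionRing B), AlgEquiv.commutes,
      ← IsScalarTower.algebraMap_apply]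
  have : FiniteDimensional (FractionRing A) (FractionRing B) :=
    .of_isLocalization A B (nonZeroDivisors A)
  have : Algebra.IsSeparable (FractionRing Aₛ) (FractionRing Bₛ) :=
    Algebra.IsSeparable.of_equiv_equiv _ _ H
  have : FiniteDimensional (FractionRing Aₛ) (FractionRing Bₛ) :=
    Module.Finite.of_equiv_equiv _ _ H
  exact Groth.Agent.Lib.Helper84.DiffLoc.map_differentIdeal_eq A B Aₛ Bₛ (FractionRing Aₛ)
    (FractionRing Bₛ) S

end Groth.Agent.S11086
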