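import Groth.Statements.S11091
import Groth.Agent.Lib.Helper25.CompleteFinite
import Mathlib

set_option autoImplicit false
universe u
attribute [local instance] FractionRing.liftAlgebra
open CAlg

namespace Groth.Agent.S11091

/-- Let A be a complete discrete valuation ring and B a Dedekind domain which is a finite torsion-free
A-algebra whose fraction field is separable over that of A (the integral closure of A in a finite
separable extension E of the fraction field F). Then B has exactly one maximal ideal; equivalently,
since the discrete valuations of E extending a multiple of the valuation of F correspond to the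
nonzero primes of B, the valuation of F extends uniquely to E, and B is a complete discrete
valuation ring. -/
theorem result (A B : Type u) [CommRing A] [IsDomain A] [IsDiscreteValuationRing A]
    [IsAdicComplete (IsLocalRing.maximalIdeal A) A]
    [CommRing B] [IsDedekindDomain B] [Algebra A B] [Module.Finite A B] [Module.IsTorsionFree A B]
    [Algebra.IsSeparable (FractionRing A) (FractionRing B)] :
    ∃! M : Ideal B, M.IsMaximal := by
  classical
  obtain ⟨-, hbij, -⟩ := Groth.Agent.Lib.Helper25.finite_algebra_over_complete_local A B
  obtain ⟨M, hM⟩ := Ideal.exists_maximal B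
  refine ⟨M, hM, ?_⟩
  intro M' hM'
  by_contra hne
  let m : MaximalSpectrum B := ⟨M, hM⟩
  let m' : MaximalSpectrum B := ⟨M', hM'⟩
  have hmm' : m' ≠ m := fun h => hne (congrArg MaximalSpectrum.asIdeal h)
  obtain ⟨x, hx⟩ := hbij.2 (Pi.single m 1)
  obtain ⟨y, hy⟩ := hbij.2 (Pi.single m' 1)
  have hxy : x * y = 0 := by
    apply hbij.1
    rw [map_mul, hx, hy, map_zero]
    funext i
    by_cases hi : i = m
    · subst hi
      simp [Pi.single_apply, hmm'.symm]
    · simp [Pi.single_apply, hi]
  have hx0 : x ≠ 0 := by
    rintro rfl
    rw [map_zero] at hx
    have := congrFun hx m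
    simp at this
  have hy0 : y ≠ 0 := by
    rintro rfl
    rw [map_zero] at hy
    have := congrFun hy m'
    simp at this
  exact (mul_ne_zero hx0 hy0) hxy

end Groth.Agent.S11091
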