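import Groth.Statements.S11087
import Mathlib
import Groth.Agent.S11091
import Groth.Agent.Lib.Helper25.CompleteFinite

set_option autoImplicit false
universe u
attribute [local instance] FractionRing.liftAlgebra
open CAlg

namespace Groth.Agent.S11087
open IsLocalRing

/-- a nonzero algebraic element of a domain over a field is a unit -/
theorem isUnit_of_isAlgebraic {K B : Type u} [Field K] [CommRing B] [IsDomain B] [Algebra K B]
    (x : B) (hx : IsAlgebraic K x) (h0 : x ≠ 0) : IsUnit x := by
  have hint : IsIntegral K x := hx.isIntegral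
  have hI : Algebra.IsIntegral K (Algebra.adjoin K {x}) := by
    rw [← le_integralClosure_iff_isIntegral, Algebra.adjoin_le_iff]
    rintro y rfl
    exact hint
  have hF : IsField (Algebra.adjoin K {x}) :=
    isField_of_isIntegral_of_isField' (Field.toIsField K)
  let x' : Algebra.adjoin K {x} := ⟨x, Algebra.subset_adjoin rfl⟩
  have hx' : x' ≠ 0 := fun h => h0 (congrArg Subtype.val h)
  obtain ⟨y, hy⟩ := hF.mul_inv_cancel hx'
  exact IsUnit.of_mul_eq_one (y : B) (congrArg Subtype.val hy)

theorem uniq {K B : Type u} [Field K] [CommRing B] [IsDomain B] [Algebra K B]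
    (M : Ideal B) (hM : M ≠ ⊤) (c c' : B) (hc : IsAlgebraic K c) (hc' : IsAlgebraic K c')
    (h : c - c' ∈ M) : c = c' := by
  by_contra hne
  have h0 : c - c' ≠ 0 := sub_ne_zero.mpr hne
  have hu := isUnit_of_isAlgebraic (c - c') (hc.sub hc') h0
  exact hM (Ideal.eq_top_of_isUnit_mem _ h hu)

open Polynomial in
theorem main (K A B : Type u) [Field K]
    [PerfectField K] [CommRing A] [IsDomain A] [IsDiscreteValuationRing A]
    [IsAdicComplete (IsLocalRing.maximalIdeal A) A]
    [Algebra K A] (hK : Function.Bijective ((IsLocalRing.residue A).comp (algebraMap K A)))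
    [CommRing B] [IsDedekindDomain B] [Algebra A B] [Module.Finite A B] [Module.IsTorsionFree A B]
    [Algebra.IsSeparable (FractionRing A) (FractionRing B)] [Algebra K B] [IsScalarTower K A B]
    (M : Ideal B) [hMmax : M.IsMaximal] (b : B) :
    ∃! c : B, IsAlgebraic K c ∧ b - c ∈ M := by
  classical
  have hloc : IsLocalRing B := IsLocalRing.of_unique_max_ideal (Groth.Agent.S11091.result A B)
  have hMeq : M = maximalIdeal B := IsLocalRing.eq_maximalIdeal hMmax
  have hcomp : IsAdicComplete (maximalIdeal B) B :=
    Groth.Agent.Lib.Helper25.isAdicComplete_of_finite_of_isLocalRing A B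
  have hHens : HenselianRing B (maximalIdeal B) := inferInstance
  letI : Field (B ⧸ M) := Ideal.Quotient.field M
  -- m B ≤ M
  have hint : Algebra.IsIntegral A B := inferInstance
  have hcm : (M.comap (algebraMap A B)).IsMaximal :=
    Ideal.isMaximal_comap_of_isIntegral_of_isMaximal M
  have hmle : ∀ a : A, a ∈ maximalIdeal A → algebraMap A B a ∈ M := by
    intro a ha
    rw [← IsLocalRing.eq_maximalIdeal hcm] at ha
    exact ha
  -- φ : A → K
  let e := RingEquiv.ofBijective _ hK
  let φ : A →+* K := (e.symm : ResidueField A →+* K).comp (IsLocalRing.residue A)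
  have hφ : ∀ a : A, a - algebraMap K A (φ a) ∈ maximalIdeal A := by
    intro a
    rw [← Ideal.Quotient.eq]
    have : e (φ a) = IsLocalRing.residue A a := e.apply_symm_apply _
    exact this.symm
  have hcompat : (algebraMap K (B ⧸ M)).comp φ = (Ideal.Quotient.mk M).comp (algebraMap A B) := by
    ext a
    simp only [RingHom.comp_apply]
    have hq : algebraMap K (B ⧸ M) (φ a) = Ideal.Quotient.mk M (algebraMap K B (φ a)) := rfl
    rw [hq, Ideal.Quotient.eq,
      IsScalarTower.algebraMap_apply K A B, ← map_sub, ← neg_sub]
    rw [map_neg]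
    exact M.neg_mem (hmle _ (hφ a))
  have hbint : IsIntegral K (Ideal.Quotient.mk M b) :=
    IsIntegral.map_of_comp_eq φ (Ideal.Quotient.mk M) hcompat (hint.isIntegral b)
  obtain ⟨p, hp⟩ : ∃ p, p = minpoly K (Ideal.Quotient.mk M b) := ⟨_, rfl⟩
  have hpsep : p.Separable := by
    rw [hp]; exact PerfectField.separable_of_irreducible (minpoly.irreducible hbint)
  have hpmonic : p.Monic := by rw [hp]; exact minpoly.monic hbint
  have hproot : aeval (Ideal.Quotient.mk M b) p = 0 := by rw [hp]; exact minpoly.aeval _ _
  have hhom : ∀ q : K[X], Ideal.Quotient.mk M ((q.map (algebraMap K B)).eval b) =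
      aeval (Ideal.Quotient.mk M b) q := by
    intro q
    rw [eval_map, hom_eval₂, aeval_def]
    rfl
  have h1 : (p.map (algebraMap K B)).eval b ∈ maximalIdeal B := by
    rw [← hMeq, ← Ideal.Quotient.eq_zero_iff_mem, hhom, hproot]
  have h2 : IsUnit (Ideal.Quotient.mk (maximalIdeal B) ((p.map (algebraMap K B)).derivative.eval b)) := by
    have h3 : Ideal.Quotient.mk M ((p.map (algebraMap K B)).derivative.eval b) ≠ 0 := by
      rw [derivative_map, hhom]
      exact hpsep.aeval_derivative_ne_zero hproot
    rw [Ne, Ideal.Quotient.eq_zero_iff_mem, hMeq] at h3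
    have hu : IsUnit ((p.map (algebraMap K B)).derivative.eval b) := by
      by_contra hnu
      exact h3 ((IsLocalRing.mem_maximalIdeal _).mpr hnu)
    exact hu.map _
  obtain ⟨c, hcroot, hcb⟩ := hHens.is_henselian (p.map (algebraMap K B)) (hpmonic.map _) b h1 h2
  have hcalg : IsAlgebraic K c := by
    refine ⟨p, hpmonic.ne_zero, ?_⟩
    rw [aeval_def, ← eval_map]
    exact hcroot
  have hbc : b - c ∈ M := by
    rw [hMeq, ← neg_sub]
    exact (maximalIdeal B).neg_mem hcb
  refine ⟨c, ⟨hcalg, hbc⟩, ?_⟩
  rintro c' ⟨hc'alg, hbc'⟩
  apply uniq M hMmax.ne_top c' c hc'alg hcalg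
  have : c' - c = (b - c) - (b - c') := by ring
  rw [this]
  exact M.sub_mem hbc hbc'

end Groth.Agent.S11087

namespace Groth.Agent.S11087

/-- Let A be a complete discrete valuation ring and K a perfect field contained in A such that K → A →
A/m is bijective. Let B be a Dedekind domain which is a finite torsion-free A-algebra with fraction
field separable over that of A (the integral closure of A in a finite separable extension of its
fraction field). Then for every maximal ideal M of B and every b in B there is exactly one element c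
of B which is algebraic over K and congruent to b modulo M; in other words the algebraic closure of
K in B is a subfield mapping isomorphically onto B/M. -/
theorem result (K A B : Type u) [Field K]
    [PerfectField K] [CommRing A] [IsDomain A] [IsDiscreteValuationRing A]
    [IsAdicComplete (IsLocalRing.maximalIdeal A) A]
    [Algebra K A] (hK : Function.Bijective ((IsLocalRing.residue A).comp (algebraMap K A)))
    [CommRing B] [IsDedekindDomain B] [Algebra A B] [Module.Finite A B] [Module.IsTorsionFree A B]
    [Algebra.IsSeparable (FractionRing A) (FractionRing B)] [Algebra K B] [IsScalarTower K A B]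
    (M : Ideal B) [M.IsMaximal] (b : B) :
    ∃! c : B, IsAlgebraic K c ∧ b - c ∈ M := by
  exact main K A B hK M b

end Groth.Agent.S11087
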