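import Groth.Statements.S11088
import Mathlib
import Groth.Agent.S11091

set_option autoImplicit false
universe u
attribute [local instance] FractionRing.liftAlgebra
open CAlg

namespace Groth.Agent.S11088
open Ideal

theorem main (A B : Type u) [CommRing A] [IsDomain A] [IsDiscreteValuationRing A]
    [IsAdicComplete (IsLocalRing.maximalIdeal A) A]
    [CommRing B] [IsDedekindDomain B] [Algebra A B] [Module.Finite A B] [Module.IsTorsionFree A B]
    [Algebra.IsSeparable (FractionRing A) (FractionRing B)]
    (M : Ideal B) [M.IsMaximal] (x : B) (hx : x ≠ 0) :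
    emultiplicity (IsLocalRing.maximalIdeal A) (Ideal.span {Algebra.intNorm A B x}) =
      (M.inertiaDeg A : ℕ∞) * emultiplicity M (Ideal.span {x}) := by
  classical
  set 𝔪 := IsLocalRing.maximalIdeal A with h𝔪
  have h𝔪0 : 𝔪 ≠ ⊥ := IsDiscreteValuationRing.not_a_field A
  have h𝔪top : 𝔪 ≠ ⊤ := Ideal.IsPrime.ne_top inferInstance
  obtain ⟨M₀, hM₀, huniq⟩ := Groth.Agent.S11091.result A B
  have hM_eq : ∀ P : Ideal B, P.IsMaximal → P = M := fun P hP =>
    (huniq P hP).trans (huniq M inferInstance).symm
  have hint : Algebra.IsIntegral A B := inferInstance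
  have hlies : M.LiesOver 𝔪 :=
    ⟨(IsLocalRing.eq_maximalIdeal (Ideal.isMaximal_comap_of_isIntegral_of_isMaximal M)).symm⟩
  have hMtop : M ≠ ⊤ := Ideal.IsPrime.ne_top inferInstance
  have hM0 : M ≠ ⊥ := by
    intro h0
    have h1 : 𝔪.map (algebraMap A B) ≤ M := by
      rw [Ideal.map_le_iff_le_comap, hlies.over]
    rw [h0, le_bot_iff] at h1
    exact Ideal.map_ne_bot_of_ne_bot h𝔪0 h1
  -- every nonzero ideal is a power of M
  have hpow : ∀ I : Ideal B, I ≠ ⊥ → ∃ n : ℕ, I = M ^ n := by
    intro I hI
    refine ⟨Multiset.card (UniqueFactorizationMonoid.normalizedFactors I), ?_⟩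
    have hall : ∀ p ∈ UniqueFactorizationMonoid.normalizedFactors I, p = M := by
      intro p hp
      have hprime := UniqueFactorizationMonoid.prime_of_normalized_factor p hp
      have hpp : p.IsPrime := Ideal.isPrime_of_prime hprime
      exact hM_eq p (hpp.isMaximal hprime.ne_zero)
    calc I = (UniqueFactorizationMonoid.normalizedFactors I).prod :=
          (Ideal.prod_normalizedFactors_eq_self hI).symm
      _ = (Multiset.replicate (Multiset.card (UniqueFactorizationMonoid.normalizedFactors I)) M).prod := by
          congr 1; exact Multiset.eq_replicate_of_mem hall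
      _ = M ^ _ := Multiset.prod_replicate _ _
  have hmultM : ∀ n : ℕ, emultiplicity M (M ^ n) = n := fun n =>
    emultiplicity_pow_self hM0 (by rwa [Ideal.isUnit_iff]) n
  have hmult𝔪 : ∀ n : ℕ, emultiplicity 𝔪 (𝔪 ^ n) = n := fun n =>
    emultiplicity_pow_self h𝔪0 (by rwa [Ideal.isUnit_iff]) n
  have hpowinj : ∀ a b : ℕ, 𝔪 ^ a = 𝔪 ^ b → a = b := by
    intro a b hab
    have := hmult𝔪 a
    rw [hab, hmult𝔪 b] at this
    exact_mod_cast this.symm
  -- relNorm of M
  obtain ⟨s, hs⟩ := Ideal.exists_relNorm_eq_pow_of_isPrime M 𝔪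
  -- ramification
  have hprimes : 𝔪.primesOver B = {M} := by
    ext P
    constructor
    · rintro ⟨hP, hPl⟩
      exact hM_eq P (Ideal.IsMaximal.of_liesOver_isMaximal P 𝔪)
    · rintro rfl
      exact ⟨inferInstance, hlies⟩
  have hmap : 𝔪.map (algebraMap A B) = M ^ (M.ramificationIdx A) := by
    rw [Ideal.map_algebraMap_eq_finsetProd_pow h𝔪0]
    have : (𝔪.primesOver B).toFinset = {M} := by
      ext P; rw [Set.mem_toFinset, hprimes]; simp
    rw [this, Finset.prod_singleton]
  have hsum : M.ramificationIdx A * M.inertiaDeg A = Module.finrank A B := by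
    have h := Ideal.sum_ramification_inertia_eq_finrank 𝔪 B
    rw [Finset.sum_set_coe (𝔪.primesOver B)
      (f := fun q : Ideal B => q.ramificationIdx A * q.inertiaDeg A)] at h
    have : (𝔪.primesOver B).toFinset = {M} := by
      ext P; rw [Set.mem_toFinset, hprimes]; simp
    rw [this, Finset.sum_singleton] at h
    exact h
  have hse : s * M.ramificationIdx A = Module.finrank A B := by
    apply hpowinj
    rw [← Ideal.relNorm_algebraMap B 𝔪, hmap, map_pow, hs, ← pow_mul]
  have hfin : 0 < Module.finrank A B := Module.finrank_pos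
  have hsf : s = M.inertiaDeg A := by
    have he : M.ramificationIdx A ≠ 0 := by
      intro h0; rw [h0, zero_mul] at hsum; omega
    have : s * M.ramificationIdx A = M.inertiaDeg A * M.ramificationIdx A := by
      rw [hse, ← hsum, mul_comm]
    exact Nat.eq_of_mul_eq_mul_right (Nat.pos_of_ne_zero he) this
  -- main
  have hx0 : Ideal.span {x} ≠ ⊥ := by
    rwa [Ne, Ideal.span_singleton_eq_bot]
  obtain ⟨w, hw⟩ := hpow _ hx0
  rw [hw, hmultM, ← Ideal.relNorm_singleton, hw, map_pow, hs, ← pow_mul, hmult𝔪, hsf]
  push_cast
  rfl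

end Groth.Agent.S11088

namespace Groth.Agent.S11088

/-- Let A be a complete discrete valuation ring with maximal ideal m and B a Dedekind domain which is a
finite torsion-free A-algebra with fraction field separable over that of A (the integral closure of
A in a finite separable extension). Then for every maximal ideal M of B, with f the degree of B/M
over A/m, and every nonzero x in B, the multiplicity of m in the ideal generated by the norm of x
equals f times the multiplicity of M in the ideal generated by x: v(N(x)) = f · w(x). -/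
theorem result (A B : Type u) [CommRing A] [IsDomain A] [IsDiscreteValuationRing A]
    [IsAdicComplete (IsLocalRing.maximalIdeal A) A]
    [CommRing B] [IsDedekindDomain B] [Algebra A B] [Module.Finite A B] [Module.IsTorsionFree A B]
    [Algebra.IsSeparable (FractionRing A) (FractionRing B)]
    (M : Ideal B) [M.IsMaximal] (x : B) (hx : x ≠ 0) :
    emultiplicity (IsLocalRing.maximalIdeal A) (Ideal.span {Algebra.intNorm A B x}) =
      (M.inertiaDeg A : ℕ∞) * emultiplicity M (Ideal.span {x}) := by
  exact main A B M x hx

end Groth.Agent.S11088
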