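import Groth.Statements.S11089
import Mathlib
import Groth.Agent.S11091
import Groth.Agent.Lib.Helper25.CompleteFinite

set_option autoImplicit false
universe u
attribute [local instance] FractionRing.liftAlgebra
open CAlg

namespace Groth.Agent.S11089
open IsLocalRing Polynomial

/-- Eisenstein: `X^n - c` is the minimal polynomial of any root when `c ∈ 𝔪 \ 𝔪²`. -/
theorem natDegree_minpoly_of_pow_eq {A B : Type u} [CommRing A] [IsDomain A] [IsIntegrallyClosed A]
    [CommRing B] [IsDomain B] [Algebra A B] [Module.IsTorsionFree A B]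
    (P : Ideal A) [P.IsPrime] (c : A) (hc1 : c ∈ P) (hc2 : c ∉ P ^ 2) (n : ℕ) (hn : 0 < n)
    (u : B) (hu : u ^ n = algebraMap A B c) : (minpoly A u).natDegree = n := by
  obtain ⟨p, hp⟩ : ∃ p : A[X], p = X ^ n - C c := ⟨_, rfl⟩
  have hpm : p.Monic := by rw [hp]; exact monic_X_pow_sub_C c hn.ne'
  have hpdeg : p.natDegree = n := by rw [hp]; exact natDegree_X_pow_sub_C
  have hpu : aeval u p = 0 := by
    rw [hp, map_sub, map_pow, aeval_X, aeval_C, hu, sub_self]
  have hint : IsIntegral A u := ⟨p, hpm, hpu⟩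
  have hE : p.IsEisensteinAt P := by
    refine ⟨?_, ?_, ?_⟩
    · rw [hpm.leadingCoeff]
      exact fun h => (Ideal.IsPrime.ne_top inferInstance) ((Ideal.eq_top_iff_one P).mpr h)
    · intro i hi
      rw [hpdeg] at hi
      rw [hp, coeff_sub, coeff_X_pow, if_neg hi.ne, coeff_C]
      split_ifs
      · rw [zero_sub]; exact P.neg_mem hc1
      · simp
    · rw [hp, coeff_sub, coeff_X_pow, if_neg hn.ne, coeff_C_zero, zero_sub]
      intro h
      exact hc2 (by simpa using (P ^ 2).neg_mem h)
  have hirr : Irreducible p := hE.irreducible inferInstance hpm.isPrimitive (by rw [hpdeg]; exact hn)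
  have hdvd : minpoly A u ∣ p := minpoly.isIntegrallyClosed_dvd hint hpu
  obtain ⟨q, hq⟩ := hdvd
  rcases hirr.isUnit_or_isUnit hq with h | h
  · exact absurd h (minpoly.not_isUnit A u)
  · have hassoc : Associated (minpoly A u) p := ⟨h.unit, by rw [hq]; rfl⟩
    rw [eq_of_monic_of_associated (minpoly.monic hint) hpm hassoc, hpdeg]

theorem setup (A B : Type u)
    [CommRing A] [IsDomain A] [IsDiscreteValuationRing A]
    [IsAdicComplete (IsLocalRing.maximalIdeal A) A]
    [CommRing B] [IsDedekindDomain B] [Algebra A B] [Module.Finite A B] [Module.IsTorsionFree A B]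
    [Algebra.IsSeparable (FractionRing A) (FractionRing B)]
    (M : Ideal B) [M.IsMaximal] (hram : M.ramificationIdx A = Module.finrank A B) :
    (maximalIdeal A).map (algebraMap A B) = M ^ Module.finrank A B ∧
      (∀ b : B, ∃ a : A, b - algebraMap A B a ∈ M) ∧
      (∀ a : A, algebraMap A B a ∈ M → a ∈ maximalIdeal A) := by
  classical
  obtain ⟨𝔪, h𝔪⟩ : ∃ 𝔪, 𝔪 = maximalIdeal A := ⟨_, rfl⟩
  rw [← h𝔪]
  have hmax : 𝔪.IsMaximal := by rw [h𝔪]; infer_instance
  have h𝔪0 : 𝔪 ≠ ⊥ := by rw [h𝔪]; exact IsDiscreteValuationRing.not_a_field A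
  obtain ⟨M₀, hM₀, huniq⟩ := Groth.Agent.S11091.result A B
  have hM_eq : ∀ P : Ideal B, P.IsMaximal → P = M := fun P hP =>
    (huniq P hP).trans (huniq M inferInstance).symm
  have hint : Algebra.IsIntegral A B := inferInstance
  have hlies : M.LiesOver 𝔪 := by
    rw [h𝔪]
    exact ⟨(IsLocalRing.eq_maximalIdeal (Ideal.isMaximal_comap_of_isIntegral_of_isMaximal M)).symm⟩
  have hprimes : 𝔪.primesOver B = {M} := by
    ext P
    constructor
    · rintro ⟨hP, hPl⟩
      exact hM_eq P (Ideal.IsMaximal.of_liesOver_isMaximal P 𝔪)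
    · rintro rfl
      exact ⟨inferInstance, hlies⟩
  have hfs : (𝔪.primesOver B).toFinset = {M} := by
    ext P; rw [Set.mem_toFinset, hprimes]; simp
  have hmap : 𝔪.map (algebraMap A B) = M ^ (M.ramificationIdx A) := by
    rw [Ideal.map_algebraMap_eq_finsetProd_pow h𝔪0, hfs, Finset.prod_singleton]
  have hsum : M.ramificationIdx A * M.inertiaDeg A = Module.finrank A B := by
    have h := Ideal.sum_ramification_inertia_eq_finrank 𝔪 B
    rw [Finset.sum_set_coe (𝔪.primesOver B)
      (f := fun q : Ideal B => q.ramificationIdx A * q.inertiaDeg A), hfs, Finset.sum_singleton] at h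
    exact h
  have hfin : 0 < Module.finrank A B := Module.finrank_pos
  have hf : M.inertiaDeg A = 1 := by
    rw [hram] at hsum
    exact Nat.eq_of_mul_eq_mul_left hfin (by rw [hsum, mul_one])
  rw [Ideal.inertiaDeg_eq_of_isMaximal 𝔪 M] at hf
  refine ⟨by rw [hmap, hram], ?_, ?_⟩
  · letI : Field (A ⧸ 𝔪) := Ideal.Quotient.field 𝔪
    letI : Field (B ⧸ M) := Ideal.Quotient.field M
    have hbt := Subalgebra.bot_eq_top_of_finrank_eq_one hf
    have hsurj : Function.Surjective (algebraMap (A ⧸ 𝔪) (B ⧸ M)) :=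
      Algebra.surjective_algebraMap_iff.mpr hbt.symm
    intro b
    obtain ⟨a', ha'⟩ := hsurj (Ideal.Quotient.mk M b)
    obtain ⟨a, rfl⟩ := Ideal.Quotient.mk_surjective a'
    refine ⟨a, ?_⟩
    rw [← Ideal.Quotient.eq, ← ha', Ideal.Quotient.algebraMap_mk_of_liesOver]
  · intro a ha
    have : a ∈ M.comap (algebraMap A B) := ha
    rwa [← Ideal.under_def, ← hlies.over] at this

theorem main (A B : Type u)
    [CommRing A] [IsDomain A] [IsDiscreteValuationRing A]
    [IsAdicComplete (IsLocalRing.maximalIdeal A) A]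
    [CommRing B] [IsDedekindDomain B] [Algebra A B] [Module.Finite A B] [Module.IsTorsionFree A B]
    [Algebra.IsSeparable (FractionRing A) (FractionRing B)]
    (M : Ideal B) [hMmax : M.IsMaximal] (hram : M.ramificationIdx A = Module.finrank A B)
    (hm : IsUnit ((Module.finrank A B : ℕ) : A)) :
    ∃ u : B, u ∈ M ∧ u ∉ M ^ 2 ∧ u ^ Module.finrank A B ∈ (algebraMap A B).range ∧
      (minpoly A u).natDegree = Module.finrank A B := by
  classical
  obtain ⟨hmap, hres, hunder⟩ := setup A B M hram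
  obtain ⟨n, hn⟩ : ∃ n, n = Module.finrank A B := ⟨_, rfl⟩
  rw [← hn] at hmap hm ⊢
  have hnpos : 0 < n := by rw [hn]; exact Module.finrank_pos
  have hloc : IsLocalRing B := IsLocalRing.of_unique_max_ideal (Groth.Agent.S11091.result A B)
  have hMeq : M = maximalIdeal B := IsLocalRing.eq_maximalIdeal hMmax
  have hcomp : IsAdicComplete (maximalIdeal B) B :=
    Groth.Agent.Lib.Helper25.isAdicComplete_of_finite_of_isLocalRing A B
  have hHens : HenselianRing B (maximalIdeal B) := inferInstance
  have h𝔪0 : maximalIdeal A ≠ ⊥ := IsDiscreteValuationRing.not_a_field A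
  have hmapne : (maximalIdeal A).map (algebraMap A B) ≠ ⊥ := Ideal.map_ne_bot_of_ne_bot h𝔪0
  have hM0 : M ≠ ⊥ := by
    intro h0
    rw [h0, ← Ideal.zero_eq_bot, zero_pow hnpos.ne'] at hmap
    exact hmapne hmap
  have hnf : ¬ IsField B := by
    intro hF
    letI := hF.toField
    exact hM0 ((Ideal.eq_bot_or_top M).resolve_right hMmax.ne_top)
  have hprinc : (maximalIdeal B).IsPrincipal :=
    ((tfae_of_isNoetherianRing_of_isLocalRing_of_isDomain (R := B)).out 2 4).mp
      (inferInstance : IsDedekindDomain B)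
  obtain ⟨t, ht⟩ := hprinc.principal
  have hMt : M = Ideal.span {t} := by rw [hMeq, ht]
  have ht0 : t ≠ 0 := by
    rintro rfl
    apply hM0
    rw [hMt]
    exact Ideal.span_singleton_eq_bot.mpr rfl
  obtain ⟨π, hπ⟩ := IsDiscreteValuationRing.exists_irreducible A
  have h𝔪 : maximalIdeal A = Ideal.span {π} := hπ.maximalIdeal_eq
  have hspan : Ideal.span {algebraMap A B π} = Ideal.span {t ^ n} := by
    rw [← Ideal.span_singleton_pow, ← hMt, ← hmap, h𝔪, Ideal.map_span, Set.image_singleton]
  obtain ⟨w, hw⟩ := Ideal.span_singleton_eq_span_singleton.mp hspan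
  -- hw : algebraMap π * w = t ^ n
  obtain ⟨a, ha⟩ := hres ((w⁻¹ : Bˣ) : B)
  have haunit : IsUnit a := by
    by_contra hnu
    have h1 : a ∈ maximalIdeal A := (IsLocalRing.mem_maximalIdeal a).mpr hnu
    have h2 : algebraMap A B a ∈ M := by
      have : algebraMap A B a ∈ (maximalIdeal A).map (algebraMap A B) := Ideal.mem_map_of_mem _ h1
      rw [hmap] at this
      exact Ideal.pow_le_self hnpos.ne' this
    have h3 : ((w⁻¹ : Bˣ) : B) ∈ M := by
      have := M.add_mem ha h2
      simpa using this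
    exact hMmax.ne_top (Ideal.eq_top_of_isUnit_mem _ h3 (w⁻¹).isUnit)
  obtain ⟨a', rfl⟩ := haunit
  obtain ⟨w1, hw1⟩ : ∃ w1 : B, w1 = ((w⁻¹ : Bˣ) : B) * algebraMap A B ((a'⁻¹ : Aˣ) : A) := ⟨_, rfl⟩
  have hw1M : 1 - w1 ∈ M := by
    have h1 : 1 - w1 = -((((w⁻¹ : Bˣ) : B) - algebraMap A B (a' : A)) * algebraMap A B ((a'⁻¹ : Aˣ) : A)) := by
      rw [hw1, sub_mul, ← map_mul, Units.mul_inv, map_one]; ring
    rw [h1]
    exact M.neg_mem (M.mul_mem_right _ ha)
  -- Hensel
  have hroot : ∃ z : B, z ^ n = w1 ∧ z - 1 ∈ M := by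
    have h1 : (X ^ n - C w1 : B[X]).eval 1 ∈ maximalIdeal B := by
      rw [← hMeq]
      simpa using hw1M
    have h2 : IsUnit (Ideal.Quotient.mk (maximalIdeal B) ((X ^ n - C w1 : B[X]).derivative.eval 1)) := by
      have h3 : (X ^ n - C w1 : B[X]).derivative.eval 1 = algebraMap A B ((n : ℕ) : A) := by
        rw [derivative_sub, derivative_C, sub_zero, derivative_X_pow, eval_mul, eval_pow, eval_X,
          one_pow, mul_one, map_natCast]
        simp
      rw [h3]
      exact (hm.map (algebraMap A B)).map _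
    obtain ⟨z, hz1, hz2⟩ := hHens.is_henselian (X ^ n - C w1) (monic_X_pow_sub_C w1 hnpos.ne') 1 h1 h2
    refine ⟨z, ?_, by rwa [hMeq]⟩
    have : (X ^ n - C w1 : B[X]).eval z = 0 := hz1
    simpa [sub_eq_zero] using this
  obtain ⟨z, hzn, hz1⟩ := hroot
  have hzM : z ∉ M := by
    intro hz
    have : (1 : B) ∈ M := by
      have := M.sub_mem hz hz1
      simpa using this
    exact hMmax.ne_top ((Ideal.eq_top_iff_one M).mpr this)
  obtain ⟨c, hc⟩ : ∃ c : A, c = ((a'⁻¹ : Aˣ) : A) * π := ⟨_, rfl⟩
  have hun : (z * t) ^ n = algebraMap A B c := by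
    rw [mul_pow, hzn, hw1, hc, map_mul, ← hw]
    have : ((w⁻¹ : Bˣ) : B) * (w : B) = 1 := Units.inv_mul w
    linear_combination (algebraMap A B ((a'⁻¹ : Aˣ) : A) * algebraMap A B π) * this
  have hc1 : c ∈ maximalIdeal A := by
    rw [hc, h𝔪]
    exact Ideal.mul_mem_left _ _ (Ideal.mem_span_singleton_self π)
  have hc2 : c ∉ maximalIdeal A ^ 2 := by
    rw [h𝔪, Ideal.span_singleton_pow, Ideal.mem_span_singleton, hc]
    rintro ⟨d, hd⟩
    have hπ0 : π ≠ 0 := hπ.ne_zero
    have h1 : ((a'⁻¹ : Aˣ) : A) = π * d := by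
      apply mul_right_cancel₀ hπ0
      rw [hd]; ring
    have h2 : ((a'⁻¹ : Aˣ) : A) ∈ maximalIdeal A := by
      rw [h1, h𝔪]
      exact Ideal.mul_mem_right _ _ (Ideal.mem_span_singleton_self π)
    exact (IsLocalRing.mem_maximalIdeal _).mp h2 (a'⁻¹).isUnit
  refine ⟨z * t, ?_, ?_, ⟨c, hun.symm⟩, ?_⟩
  · rw [hMt]
    exact Ideal.mul_mem_left _ _ (Ideal.mem_span_singleton_self t)
  · rw [hMt, Ideal.span_singleton_pow, Ideal.mem_span_singleton]
    rintro ⟨d, hd⟩
    apply hzM
    rw [hMt, Ideal.mem_span_singleton]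
    refine ⟨d, ?_⟩
    apply mul_right_cancel₀ ht0
    rw [hd]; ring
  · exact natDegree_minpoly_of_pow_eq (maximalIdeal A) c hc1 hc2 n hnpos (z * t) hun

end Groth.Agent.S11089

namespace Groth.Agent.S11089

/-- Let A be a complete discrete valuation ring containing a field K with K → A → A/m bijective, and B a
Dedekind domain which is a finite torsion-free A-algebra of rank m with fraction field separable
over that of A (the integral closure of A in a finite separable extension E of F = Frac A). If the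
extension is totally ramified — the maximal ideal M of B has ramification index m — and m is a unit
in A, then some uniformizer u of B (an element of M not in M²) satisfies u^m ∈ A and generates E
over F: its minimal polynomial over A has degree m. -/
theorem result (K A B : Type u) [Field K]
    [CommRing A] [IsDomain A] [IsDiscreteValuationRing A]
    [IsAdicComplete (IsLocalRing.maximalIdeal A) A]
    [Algebra K A] (hK : Function.Bijective ((IsLocalRing.residue A).comp (algebraMap K A)))
    [CommRing B] [IsDedekindDomain B] [Algebra A B] [Module.Finite A B] [Module.IsTorsionFree A B]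
    [Algebra.IsSeparable (FractionRing A) (FractionRing B)]
    (M : Ideal B) [M.IsMaximal] (hram : M.ramificationIdx A = Module.finrank A B)
    (hm : IsUnit ((Module.finrank A B : ℕ) : A)) :
    ∃ u : B, u ∈ M ∧ u ∉ M ^ 2 ∧ u ^ Module.finrank A B ∈ (algebraMap A B).range ∧
      (minpoly A u).natDegree = Module.finrank A B := by
  exact main A B M hram hm

end Groth.Agent.S11089
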