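import Groth.Statements.S11092
import Groth.Agent.S11083
import Groth.Agent.Lib.Helper97.KaehlerColim
import Mathlib.RingTheory.Unramified.Field
import Mathlib.RingTheory.Etale.Field
import Mathlib.RingTheory.Flat.FaithfullyFlat.Algebra

set_option autoImplicit false
universe u v
open CAlg

namespace Groth.Agent.S11092


open KaehlerDifferential TensorProduct in
theorem aux (k : Type u) (K L : Type v)
    [Field k] [IsAlgClosed k] [Field K] [Field L] [Algebra k K] [Algebra k L] [Algebra K L]
    [IsScalarTower k K L] (hK : (⊤ : IntermediateField k K).FG)
    (hx : ∃ x : K, IsTranscendenceBasis k (fun _ : Unit => x)) [FiniteDimensional K L] :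
    (KaehlerDifferential.map k k K L = 0 ∨ Function.Injective (KaehlerDifferential.map k k K L)) ∧
      (Function.Injective (KaehlerDifferential.map k k K L) ↔ Algebra.IsSeparable K L) := by
  obtain ⟨x, hx⟩ := hx
  have hxK : IsTranscendenceBasis k (fun _ : Fin 1 => x) :=
    (isTranscendenceBasis_equiv' (R := k) (f := fun _ : Unit => x) (g := fun _ : Fin 1 => x)
      (Equiv.equivPUnit (Fin 1)) rfl).mpr hx
  have hrK : Module.rank K (Ω[K⁄k]) = 1 := by
    simpa using Groth.Agent.S11083.result k K hK 1 _ hxK
  have : Algebra.EssFiniteType k K := IntermediateField.fg_top_iff.mp hK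
  have : Algebra.EssFiniteType k L := Algebra.EssFiniteType.comp k K L
  have hL : (⊤ : IntermediateField k L).FG := IntermediateField.fg_top_iff.mpr inferInstance
  have hxL : IsTranscendenceBasis k (algebraMap K L ∘ fun _ : Fin 1 => x) := hxK.algebraMap_comp
  have hrL : Module.rank L (Ω[L⁄k]) = 1 := by
    simpa using Groth.Agent.S11083.result k L hL 1 _ hxL
  have hfK : Module.finrank K (Ω[K⁄k]) = 1 := Module.finrank_eq_of_rank_eq hrK
  have hfL : Module.finrank L (Ω[L⁄k]) = 1 := Module.finrank_eq_of_rank_eq hrL
  obtain ⟨ω, hω0, hω⟩ := finrank_eq_one_iff'.mp hfK
  set f := KaehlerDifferential.map k k K L with hf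
  have hsmul : ∀ (c : K) (y : Ω[L⁄k]), c • y = 0 → c = 0 ∨ y = 0 := by
    intro c y h
    rw [← algebraMap_smul L c y] at h
    rcases smul_eq_zero.mp h with h | h
    · left; exact (map_eq_zero (algebraMap K L)).mp h
    · right; exact h
  have hinj_of : f ω ≠ 0 → Function.Injective f := by
    intro h0
    rw [injective_iff_map_eq_zero]
    intro v hv
    obtain ⟨c, rfl⟩ := hω v
    rw [map_smul] at hv
    rcases hsmul c _ hv with h | h
    · rw [h, zero_smul]
    · exact absurd h h0
  refine ⟨?_, ?_⟩
  · by_cases h0 : f ω = 0
    · left
      refine LinearMap.ext fun v => ?_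
      obtain ⟨c, rfl⟩ := hω v
      rw [map_smul, h0, smul_zero]; rfl
    · right; exact hinj_of h0
  · constructor
    · intro hinj
      have h0 : f ω ≠ 0 := fun h => hω0 (hinj (h.trans (map_zero f).symm))
      -- the base-changed map is injective
      have hgen : ∀ z : L ⊗[K] Ω[K⁄k], ∃ c : L, z = c • ((1 : L) ⊗ₜ[K] ω) := by
        intro z
        induction z using TensorProduct.induction_on with
        | zero => exact ⟨0, by simp⟩
        | tmul l v =>
          obtain ⟨c, rfl⟩ := hω v
          refine ⟨l * algebraMap K L c, ?_⟩
          rw [TensorProduct.tmul_smul, TensorProduct.smul_tmul', TensorProduct.smul_tmul',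
            smul_eq_mul, mul_one, Algebra.smul_def, mul_comm]
        | add a b ha hb =>
          obtain ⟨c, rfl⟩ := ha
          obtain ⟨d, rfl⟩ := hb
          exact ⟨c + d, by rw [add_smul]⟩
      have hbc : Function.Injective (KaehlerDifferential.mapBaseChange k K L) := by
        rw [injective_iff_map_eq_zero]
        intro z hz
        obtain ⟨c, rfl⟩ := hgen z
        rw [map_smul, KaehlerDifferential.mapBaseChange_tmul, one_smul] at hz
        rcases smul_eq_zero.mp hz with h | h
        · rw [h, zero_smul]
        · exact absurd h h0
      have hfin1 : Module.finrank L (L ⊗[K] Ω[K⁄k]) = 1 := by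
        rw [Module.finrank_baseChange, hfK]
      have : Module.Finite K (Ω[K⁄k]) := Module.finite_of_finrank_eq_succ hfK
      have : Module.Finite L (Ω[L⁄k]) := Module.finite_of_finrank_eq_succ hfL
      have hsurj : Function.Surjective (KaehlerDifferential.mapBaseChange k K L) :=
        (LinearMap.injective_iff_surjective_of_finrank_eq_finrank (hfin1.trans hfL.symm)).mp hbc
      have hsub : Subsingleton (Ω[L⁄K]) := by
        refine ⟨fun a b => ?_⟩
        have h0 : ∀ a : Ω[L⁄K], a = 0 := by
          intro a
          obtain ⟨y, rfl⟩ := KaehlerDifferential.map_surjective k K L a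
          obtain ⟨z, rfl⟩ := hsurj y
          exact (KaehlerDifferential.exact_mapBaseChange_map k K L).apply_apply_eq_zero z
        rw [h0 a, h0 b]
      have : Algebra.FormallyUnramified K L := ⟨hsub⟩
      exact Algebra.FormallyUnramified.isSeparable K L
    · intro hsep
      have : Algebra.FormallyEtale K L := Algebra.FormallyEtale.of_isSeparable K L
      have hbc : Function.Injective (KaehlerDifferential.mapBaseChange k K L) :=
        Groth.Agent.Lib.Helper97.KaehlerColim.mapBaseChange_injective_of_formallySmooth
      have hmk : Function.Injective (TensorProduct.mk K L (Ω[K⁄k]) 1) :=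
        Module.FaithfullyFlat.tensorProduct_mk_injective (A := K) (B := L) _
      intro a b hab
      apply hmk
      apply hbc
      simpa [KaehlerDifferential.mapBaseChange_tmul] using hab

/-- Let k be an algebraically closed field, K a field finitely generated over k admitting a one-element
transcendence basis over k (a function field of dimension one), and L a finite extension field of K
with the compatible k-algebra structure. Then the K-linear map from the Kähler differentials of K
over k to those of L over k induced by the inclusion is either the zero map or injective, and it is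
injective if and only if L is separable over K. (The published statement takes K ⊆ L to be the
function fields of two elliptic curves related by a nonzero homomorphism; its proof uses only that
they are function fields of dimension one over k.) -/
theorem result (k : Type u) (K L : Type v)
    [Field k] [IsAlgClosed k] [Field K] [Field L] [Algebra k K] [Algebra k L] [Algebra K L]
    [IsScalarTower k K L] (hK : (⊤ : IntermediateField k K).FG)
    (hx : ∃ x : K, IsTranscendenceBasis k (fun _ : Unit => x)) [FiniteDimensional K L] :
    (KaehlerDifferential.map k k K L = 0 ∨ Function.Injective (KaehlerDifferential.map k k K L)) ∧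
      (Function.Injective (KaehlerDifferential.map k k K L) ↔ Algebra.IsSeparable K L) := by
  exact aux k K L hK hx

end Groth.Agent.S11092
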