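import Groth.Statements.S11093
-- import your own Groth.Agent.* helpers here
import Groth.Agent.Lib.Helper34.ASBase

set_option autoImplicit false
universe u
attribute [local instance] FractionRing.liftAlgebra
open CAlg

namespace Groth.Agent.S11093

/-- Second assertion: (Artin–Schreier normal form): let K be a perfect field of characteristic p > 0, A
= K[[t]] the power series ring with fraction field F, and B a Dedekind domain which is a finite
torsion-free A-algebra whose fraction field E is Galois of degree p over F and totally ramified:
some maximal ideal of B has ramification index p over A. Then there are x in E generating E over F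
and α in F with x^p − x + α = 0, where α = a / t^m for a power series a with nonzero constant term
and a positive integer m not divisible by p. -/
theorem result (p : ℕ) [Fact p.Prime] (K : Type u) [Field K]
    [CharP K p] [PerfectField K] (B : Type u) [CommRing B] [IsDedekindDomain B]
    [Algebra (PowerSeries K) B] [Module.Finite (PowerSeries K) B] [Module.IsTorsionFree (PowerSeries K) B]
    [IsGalois (FractionRing (PowerSeries K)) (FractionRing B)]
    (hdeg : Module.finrank (FractionRing (PowerSeries K)) (FractionRing B) = p)
    (M : Ideal B) [M.IsMaximal] (hram : M.ramificationIdx (PowerSeries K) = p) :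
    ∃ x : FractionRing B, ∃ m : ℕ, ∃ a : PowerSeries K,
      IntermediateField.adjoin (FractionRing (PowerSeries K)) {x} = ⊤ ∧ 0 < m ∧ ¬ p ∣ m ∧
      PowerSeries.constantCoeff a ≠ 0 ∧
      x ^ p - x + algebraMap (FractionRing (PowerSeries K)) (FractionRing B)
        (algebraMap (PowerSeries K) (FractionRing (PowerSeries K)) a /
          algebraMap (PowerSeries K) (FractionRing (PowerSeries K)) (PowerSeries.X ^ m)) = 0 := by
  classical
  have hpA : CharP (PowerSeries K) p :=
    charP_of_injective_algebraMap (algebraMap K (PowerSeries K)).injective p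
  have hinjF : Function.Injective
      (algebraMap (PowerSeries K) (FractionRing (PowerSeries K))) :=
    IsFractionRing.injective (PowerSeries K) _
  have hpF : CharP (FractionRing (PowerSeries K)) p :=
    charP_of_injective_algebraMap hinjF p
  obtain ⟨x, α, hxα, hadj⟩ := Groth.Agent.Lib.Helper34.ArtinSchreier.exists_artinSchreier
    (F := FractionRing (PowerSeries K)) (E := FractionRing B) p hdeg
  obtain ⟨a, b, hb, hab⟩ := IsFractionRing.div_surjective (A := PowerSeries K) α
  have hb0 : b ≠ 0 := nonZeroDivisors.ne_zero hb
  obtain ⟨u, hu⟩ := PowerSeries.isUnit_divided_by_X_pow_order hb0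
  obtain ⟨n, hn⟩ : ∃ n : ℕ, n = b.order.toNat := ⟨_, rfl⟩
  have hbX : PowerSeries.X ^ n * (u : PowerSeries K) = b := by
    rw [hu, hn]; exact PowerSeries.X_pow_order_mul_divXPowOrder
  have hu0 : algebraMap (PowerSeries K) (FractionRing (PowerSeries K)) (u : PowerSeries K) ≠ 0 := by
    intro h0
    have := hinjF (h0.trans (map_zero _).symm)
    exact u.ne_zero this
  have hX0 : algebraMap (PowerSeries K) (FractionRing (PowerSeries K)) PowerSeries.X ≠ 0 := by
    intro h0
    exact PowerSeries.X_ne_zero (hinjF (h0.trans (map_zero _).symm))
  have huinv : algebraMap (PowerSeries K) (FractionRing (PowerSeries K)) ((u⁻¹ : (PowerSeries K)ˣ) : PowerSeries K) =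
      (algebraMap (PowerSeries K) (FractionRing (PowerSeries K)) (u : PowerSeries K))⁻¹ := by
    exact eq_inv_of_mul_eq_one_left (by rw [← map_mul, Units.inv_mul, map_one])
  have hα : α = algebraMap (PowerSeries K) (FractionRing (PowerSeries K))
        (a * ((u⁻¹ : (PowerSeries K)ˣ) : PowerSeries K)) /
      algebraMap (PowerSeries K) (FractionRing (PowerSeries K))
        (PowerSeries.X ^ n) := by
    rw [← hab, ← hbX, map_mul, map_mul, huinv, map_pow]
    field_simp
  refine Groth.Agent.Lib.Helper34.ASNormalForm.reduce p hX0
    (fun a x hx h => Groth.Agent.Lib.Helper34.ASNormalForm.base_false p K B M hram a x hx h)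
    n (a * ((u⁻¹ : (PowerSeries K)ˣ) : PowerSeries K)) x hadj ?_
  rw [← hα]
  exact hxα

end Groth.Agent.S11093
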