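import Groth.Statements.S11094
import Groth.Agent.Lib.Helper19.AbVar.IsogenyGalois
import Groth.Agent.Lib.Helper19.Grp.TorsionGalois

set_option autoImplicit false
universe u
open CategoryTheory CategoryTheory.Limits MonoidalCategory CartesianMonoidalCategory MonObj GrpObj AlgebraicGeometry
open AbVar

namespace Groth.Agent.S11094

/-- Let k be an algebraically closed field, E and E′ elliptic curves over k — group schemes over Spec k
whose underlying schemes are proper, smooth, integral and one-dimensional — and φ : E → E′ a
homomorphism which is finite, surjective and étale (a separable isogeny), sending the generic point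
of E to that of E′, so that the function field of E′ maps into the function field of E. Then the
function field of E is a Galois extension of that of E′, and the number of its automorphisms over
the function field of E′ equals the number of k-valued points of E that φ sends to the unit of E′. -/
theorem result (k : Type u) [Field k] [IsAlgClosed k]
    (E E' : Over (Spec (CommRingCat.of k)))
    [GrpObj E] [IsProper E.hom] [Smooth E.hom] [IsIntegral E.left] (hE : topologicalKrullDim E.left = 1)
    [GrpObj E'] [IsProper E'.hom] [Smooth E'.hom] [IsIntegral E'.left] (hE' : topologicalKrullDim E'.left = 1)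
    (φ : E ⟶ E') [IsMonHom φ] [IsFinite φ.left] [Surjective φ.left] [Etale φ.left]
    (e : φ.left (genericPoint E.left) = genericPoint E'.left) :
    letI := ((E'.left.presheaf.stalkSpecializes (specializes_of_eq e) ≫
      φ.left.stalkMap (genericPoint E.left)).hom).toAlgebra
    IsGalois E'.left.functionField E.left.functionField ∧
      Nat.card (E.left.functionField ≃ₐ[E'.left.functionField] E.left.functionField) =
        Nat.card {P : 𝟙_ (Over (Spec (CommRingCat.of k))) ⟶ E // P ≫ φ = η[E']} := by
  letI : Algebra E'.left.functionField E.left.functionField :=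
    ((E'.left.presheaf.stalkSpecializes (specializes_of_eq e) ≫
      φ.left.stalkMap (genericPoint E.left)).hom).toAlgebra
  haveI : IsSepClosed k := inferInstance
  have hηφ : η[E].left ≫ φ.left = η[E'].left := by
    rw [← Over.comp_left, IsMonHom.one_hom]
  obtain ⟨hfin, ⟨W, j, hj, hW⟩, ⟨Φ, hΦ⟩⟩ :=
    Groth.Agent.Lib.Helper19.IsogenyGalois.main φ.left e k
      (η[E].left : Spec (CommRingCat.of k) ⟶ E.left)
  haveI : FiniteDimensional E'.left.functionField E.left.functionField := hfin
  -- kernel points from `W`
  have hover : ∀ x : Spec (CommRingCat.of k) ⟶ E.left, x ≫ φ.left = η[E].left ≫ φ.left →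
      x ≫ E.hom = (𝟙_ (Over (Spec (CommRingCat.of k)))).hom := by
    intro x hx
    rw [← Over.w φ, ← Category.assoc, hx, Category.assoc, Over.w φ, Over.w η[E]]
  let j' : W → {P : 𝟙_ (Over (Spec (CommRingCat.of k))) ⟶ E // P ≫ φ = η[E']} := fun w ↦
    ⟨Over.homMk (j w).1 (hover _ (j w).2), by
      ext1
      exact ((j w).2).trans hηφ⟩
  have hj' : Function.Injective j' := by
    intro w w' h
    apply hj
    apply Subtype.ext
    have := congrArg (fun P ↦ P.1.left) h
    exact this
  -- automorphisms from kernel points
  have htr : ∀ P : {P : 𝟙_ (Over (Spec (CommRingCat.of k))) ⟶ E // P ≫ φ = η[E']},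
      ((Over.forget _).mapIso (Groth.Agent.Lib.Helper19.TorsionGalois.trIso P.1)).hom ≫ φ.left
        = φ.left := by
    intro P
    change (Groth.Agent.Lib.Helper19.TorsionGalois.tr P.1).left ≫ φ.left = φ.left
    rw [← Over.comp_left]
    congr 1
    rw [Groth.Agent.Lib.Helper19.TorsionGalois.tr, MonObj.mul_comp, Category.id_comp,
      Category.assoc, P.2, ← Hom.one_def, _root_.mul_one]
  let aut : {P : 𝟙_ (Over (Spec (CommRingCat.of k))) ⟶ E // P ≫ φ = η[E']} →
      (E.left.functionField ≃ₐ[E'.left.functionField] E.left.functionField) := fun P ↦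
    Φ ⟨(Over.forget _).mapIso (Groth.Agent.Lib.Helper19.TorsionGalois.trIso P.1), htr P⟩
  have haut : Function.Injective aut := by
    intro P Q h
    have h1 := hΦ _ _ h
    change η[E].left ≫ (Groth.Agent.Lib.Helper19.TorsionGalois.tr P.1).left =
      η[E].left ≫ (Groth.Agent.Lib.Helper19.TorsionGalois.tr Q.1).left at h1
    rw [← Over.comp_left, ← Over.comp_left,
      Groth.Agent.Lib.Helper19.TorsionGalois.unit_comp_tr,
      Groth.Agent.Lib.Helper19.TorsionGalois.unit_comp_tr] at h1
    apply Subtype.ext
    ext1
    exact h1
  haveI : Finite (E.left.functionField ≃ₐ[E'.left.functionField] E.left.functionField) :=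
    inferInstance
  haveI : Finite {P : 𝟙_ (Over (Spec (CommRingCat.of k))) ⟶ E // P ≫ φ = η[E']} :=
    Finite.of_injective aut haut
  have h1 : Nat.card W ≤ Nat.card {P : 𝟙_ (Over (Spec (CommRingCat.of k))) ⟶ E // P ≫ φ = η[E']} :=
    Nat.card_le_card_of_injective j' hj'
  have h2 : Nat.card {P : 𝟙_ (Over (Spec (CommRingCat.of k))) ⟶ E // P ≫ φ = η[E']} ≤
      Nat.card (E.left.functionField ≃ₐ[E'.left.functionField] E.left.functionField) :=
    Nat.card_le_card_of_injective aut haut
  have h3 : Nat.card (E.left.functionField ≃ₐ[E'.left.functionField] E.left.functionField) ≤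
      Module.finrank E'.left.functionField E.left.functionField := by
    rw [Nat.card_eq_fintype_card]
    exact AlgEquiv.card_le
  have h4 : Nat.card (E.left.functionField ≃ₐ[E'.left.functionField] E.left.functionField) =
      Module.finrank E'.left.functionField E.left.functionField := by omega
  exact ⟨IsGalois.of_card_aut_eq_finrank _ _ h4, by omega⟩

end Groth.Agent.S11094
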