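import Groth.Statements.S11097
import Mathlib

set_option autoImplicit false
universe u
open Polynomial
open Neron

namespace Groth.Agent.S11097
variable {R : Type u} [CommRing R] [IsDomain R] [IsDiscreteValuationRing R]
  (W : WeierstrassCurve.Affine R)

open WeierstrassCurve.Affine in
theorem a6_mem : algebraMap R W.CoordinateRing W.a₆ ∈
    Ideal.span {CoordinateRing.mk W (C X), CoordinateRing.mk W X} := by
  set I := Ideal.span {CoordinateRing.mk W (C X), CoordinateRing.mk W X} with hI
  have hx : CoordinateRing.mk W (C X) ∈ I := Ideal.subset_span (by simp)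
  have hy : CoordinateRing.mk W X ∈ I := Ideal.subset_span (by simp)
  have h0 : CoordinateRing.mk W W.polynomial = 0 := AdjoinRoot.mk_self
  have h1 : algebraMap R W.CoordinateRing W.a₆ = CoordinateRing.mk W (C (C W.a₆)) := rfl
  have h2 : C (C W.a₆) = X * (X + C (C W.a₁ * X + C W.a₃)) - C X * C (X ^ 2 + C W.a₂ * X + C W.a₄)
      - W.polynomial := by
    rw [WeierstrassCurve.Affine.polynomial]
    simp only [map_add, map_mul, map_pow]
    ring
  rw [h1, h2, map_sub, h0, sub_zero, map_sub, map_mul, map_mul]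
  exact I.sub_mem (I.mul_mem_right _ hy) (I.mul_mem_right _ hx)

theorem maxIdeal_eq (a : R) (h6 : a ∈ IsLocalRing.maximalIdeal R)
    (h6' : a ∉ IsLocalRing.maximalIdeal R ^ 2) : IsLocalRing.maximalIdeal R = Ideal.span {a} := by
  obtain ⟨ϖ, hϖ⟩ := IsDiscreteValuationRing.exists_irreducible R
  have hm := (IsDiscreteValuationRing.irreducible_iff_uniformizer ϖ).mp hϖ
  rw [hm, Ideal.mem_span_singleton'] at h6
  obtain ⟨u, rfl⟩ := h6
  have hu : IsUnit u := by
    by_contra hu
    apply h6'
    rw [pow_two]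
    exact Ideal.mul_mem_mul ((IsLocalRing.mem_maximalIdeal _).mpr hu)
      (hm ▸ Ideal.mem_span_singleton_self ϖ)
  rw [hm, Ideal.span_singleton_eq_span_singleton]
  exact (associated_unit_mul_right ϖ u hu)


open WeierstrassCurve.Affine in
theorem decomp (s : W.CoordinateRing) : ∃ r : R, s - algebraMap R W.CoordinateRing r ∈
    Ideal.span {CoordinateRing.mk W (C X), CoordinateRing.mk W X} := by
  set I := Ideal.span {CoordinateRing.mk W (C X), CoordinateRing.mk W X} with hI
  have hx : CoordinateRing.mk W (C X) ∈ I := Ideal.subset_span (by simp)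
  have hy : CoordinateRing.mk W X ∈ I := Ideal.subset_span (by simp)
  obtain ⟨p, q, rfl⟩ := CoordinateRing.exists_smul_basis_eq s
  refine ⟨p.coeff 0, ?_⟩
  have h1 : algebraMap R W.CoordinateRing (p.coeff 0) = CoordinateRing.mk W (C (C (p.coeff 0))) := rfl
  obtain ⟨p₁, hp₁⟩ : X ∣ p - C (p.coeff 0) := by
    rw [Polynomial.X_dvd_iff]; simp
  rw [CoordinateRing.smul, CoordinateRing.smul, h1, mul_one]
  have h2 : CoordinateRing.mk W (C p) - CoordinateRing.mk W (C (C (p.coeff 0))) =
      CoordinateRing.mk W (C X) * CoordinateRing.mk W (C p₁) := by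
    rw [← map_sub, ← map_mul, ← C_sub, hp₁, C_mul]
  rw [add_sub_right_comm, h2]
  exact I.add_mem (I.mul_mem_right _ hx) (I.mul_mem_left _ hy)

open WeierstrassCurve.Affine in
theorem P_eq (h6 : W.a₆ ∈ IsLocalRing.maximalIdeal R) (h6' : W.a₆ ∉ IsLocalRing.maximalIdeal R ^ 2)
    (P : Ideal W.CoordinateRing) [P.IsMaximal]
    (hx : WeierstrassCurve.Affine.CoordinateRing.mk W (C X) ∈ P)
    (hy : WeierstrassCurve.Affine.CoordinateRing.mk W X ∈ P) :
    P = Ideal.span {CoordinateRing.mk W (C X), CoordinateRing.mk W X} := by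
  set I := Ideal.span {CoordinateRing.mk W (C X), CoordinateRing.mk W X} with hI
  have hIP : I ≤ P := by
    rw [hI, Ideal.span_le]
    intro z hz
    rcases hz with rfl | rfl
    · exact hx
    · exact hy
  refine le_antisymm ?_ hIP
  intro s hs
  obtain ⟨r, hr⟩ := decomp W s
  have hrP : algebraMap R W.CoordinateRing r ∈ P := by
    have := P.sub_mem hs (hIP hr)
    simpa using this
  have hrm : r ∈ IsLocalRing.maximalIdeal R := by
    by_contra hrm
    have hu : IsUnit r := by
      by_contra hu; exact hrm ((IsLocalRing.mem_maximalIdeal _).mpr hu)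
    exact (Ideal.IsPrime.ne_top inferInstance) (P.eq_top_of_isUnit_mem hrP (hu.map _))
  rw [maxIdeal_eq W.a₆ h6 h6', Ideal.mem_span_singleton'] at hrm
  obtain ⟨c, rfl⟩ := hrm
  have : s = (s - algebraMap R W.CoordinateRing (c * W.a₆)) +
      algebraMap R W.CoordinateRing c * algebraMap R W.CoordinateRing W.a₆ := by
    rw [map_mul]; ring
  rw [this]
  exact I.add_mem hr (I.mul_mem_left _ (a6_mem W))


instance : IsNoetherianRing W.CoordinateRing :=
  isNoetherianRing_of_surjective _ _ (WeierstrassCurve.Affine.CoordinateRing.mk W)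
    AdjoinRoot.mk_surjective

open WeierstrassCurve.Affine in
theorem two_le_height (h6 : W.a₆ ∈ IsLocalRing.maximalIdeal R)
    (h6' : W.a₆ ∉ IsLocalRing.maximalIdeal R ^ 2)
    (P : Ideal W.CoordinateRing) [P.IsMaximal]
    (hP : ∀ r ∈ IsLocalRing.maximalIdeal R, algebraMap R W.CoordinateRing r ∈ P)
    (hx : WeierstrassCurve.Affine.CoordinateRing.mk W (C X) ∈ P) : 2 ≤ P.height := by
  set P₀ : Ideal R[X] := P.under R[X] with hP₀
  have : P.LiesOver P₀ := ⟨rfl⟩
  have hle : P₀.height ≤ P.height := by
    rw [Ideal.height_eq_height_add_of_liesOver_of_hasGoingDown P₀ P]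
    exact le_self_add
  refine le_trans ?_ hle
  have hXmem : (X : R[X]) ∈ P₀ := by
    rw [hP₀, Ideal.under_def, Ideal.mem_comap]
    exact hx
  have ha6 : C W.a₆ ∈ P₀ := by
    rw [hP₀, Ideal.under_def, Ideal.mem_comap]
    exact hP _ h6
  have ha6ne : W.a₆ ≠ 0 := by
    rintro h0
    apply h6'
    rw [h0]; exact Ideal.zero_mem _
  have hXprime : (Ideal.span {(X : R[X])}).IsPrime :=
    (Ideal.span_singleton_prime Polynomial.X_ne_zero).mpr Polynomial.prime_X
  have h1 : (⊥ : Ideal R[X]) < Ideal.span {(X : R[X])} := by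
    rw [bot_lt_iff_ne_bot, Ne, Ideal.span_singleton_eq_bot]
    exact Polynomial.X_ne_zero
  have h2 : Ideal.span {(X : R[X])} < P₀ := by
    refine lt_of_le_of_ne ((Ideal.span_singleton_le_iff_mem _).mpr hXmem) ?_
    intro h
    rw [← h, Ideal.mem_span_singleton, Polynomial.X_dvd_iff, coeff_C_zero] at ha6
    exact ha6ne ha6
  have hb : (⊥ : Ideal R[X]).IsPrime := Ideal.isPrime_bot
  have e1 := Ideal.height_strict_mono_of_isPrime h1
  have e2 := Ideal.height_strict_mono_of_isPrime h2
  have e3 : (1 : ℕ∞) ≤ (Ideal.span {(X : R[X])}).height := Order.one_le_iff_pos.mpr (lt_of_le_of_lt zero_le e1)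
  calc (2 : ℕ∞) = 1 + 1 := by norm_num
    _ ≤ (Ideal.span {(X : R[X])}).height + 1 := by gcongr
    _ ≤ P₀.height := Order.add_one_le_of_lt e2

open WeierstrassCurve.Affine in
theorem main
    (h3 : W.a₃ ∈ IsLocalRing.maximalIdeal R) (h4 : W.a₄ ∈ IsLocalRing.maximalIdeal R)
    (h6 : W.a₆ ∈ IsLocalRing.maximalIdeal R) (h6' : W.a₆ ∉ IsLocalRing.maximalIdeal R ^ 2)
    (P : Ideal W.CoordinateRing) [P.IsMaximal]
    (hP : ∀ r ∈ IsLocalRing.maximalIdeal R, algebraMap R W.CoordinateRing r ∈ P)
    (hx : WeierstrassCurve.Affine.CoordinateRing.mk W (C X) ∈ P)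
    (hy : WeierstrassCurve.Affine.CoordinateRing.mk W X ∈ P) :
    IsRegularLocalRing (Localization.AtPrime P) := by
  apply IsRegularLocalRing.of_spanFinrank_maximalIdeal_le
  rw [IsLocalization.AtPrime.ringKrullDim_eq_height P (Localization.AtPrime P)]
  have h2 := two_le_height W h6 h6' P hP hx
  have hPe := P_eq W h6 h6' P hx hy
  have hm : IsLocalRing.maximalIdeal (Localization.AtPrime P) =
      Ideal.span ((algebraMap W.CoordinateRing (Localization.AtPrime P)) ''
        {CoordinateRing.mk W (C X), CoordinateRing.mk W X}) := by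
    rw [← Localization.AtPrime.map_eq_maximalIdeal, ← Ideal.map_span, ← hPe]
  have h3 : (IsLocalRing.maximalIdeal (Localization.AtPrime P)).spanFinrank ≤ 2 := by
    rw [hm]
    refine le_trans (Submodule.spanFinrank_span_le_ncard_of_finite (Set.toFinite _)) ?_
    refine le_trans (Set.ncard_image_le (Set.toFinite _)) ?_
    exact Set.ncard_insert_le _ _ |>.trans (by simp)
  calc ((IsLocalRing.maximalIdeal (Localization.AtPrime P)).spanFinrank : WithBot ℕ∞)
      ≤ ((2 : ℕ) : WithBot ℕ∞) := by exact_mod_cast h3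
    _ ≤ (P.height : WithBot ℕ∞) := WithBot.coe_le_coe.mpr h2

end Groth.Agent.S11097

namespace Groth.Agent.S11097

/-- Let R be a discrete valuation ring with maximal ideal m and let y² + a₁xy + a₃y = x³ + a₂x² + a₄x +
a₆ be a Weierstrass equation with coefficients in R such that a₃, a₄, a₆ ∈ m and a₆ ∉ m². Then the
affine scheme defined by the equation over R is regular at the point π = x = y = 0 of its special
fibre: the localization of the coordinate ring at a maximal ideal containing the image of m and the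
classes of x and y is a regular local ring. (The published statement asserts regularity of the
projective Weierstrass scheme; this row states it at the point π = x = y = 0 of the special fibre.) -/
theorem result (R : Type u) [CommRing R] [IsDomain R]
    [IsDiscreteValuationRing R] (W : WeierstrassCurve.Affine R)
    (h3 : W.a₃ ∈ IsLocalRing.maximalIdeal R) (h4 : W.a₄ ∈ IsLocalRing.maximalIdeal R)
    (h6 : W.a₆ ∈ IsLocalRing.maximalIdeal R) (h6' : W.a₆ ∉ IsLocalRing.maximalIdeal R ^ 2)
    (P : Ideal W.CoordinateRing) [P.IsMaximal]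
    (hP : ∀ r ∈ IsLocalRing.maximalIdeal R, algebraMap R W.CoordinateRing r ∈ P)
    (hx : WeierstrassCurve.Affine.CoordinateRing.mk W (C X) ∈ P)
    (hy : WeierstrassCurve.Affine.CoordinateRing.mk W X ∈ P) :
    IsRegularLocalRing (Localization.AtPrime P) := by
  exact main W h3 h4 h6 h6' P hP hx hy

end Groth.Agent.S11097
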