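import Groth.Statements.S11103
import Groth.Agent.Lib.Lead.NeronTorsor

set_option autoImplicit false
universe u
open CategoryTheory CategoryTheory.Limits AlgebraicGeometry
open Neron

namespace Groth.Agent.S11103

open nonZeroDivisors in
/-- For a finite flat extension of domains `R → R'`, `Spec Frac R' = Spec R' ×_{Spec R} Spec Frac R`. -/
theorem isPullback_genPt (R R' : Type u) [CommRing R] [IsDomain R] [CommRing R'] [IsDomain R']
    [Algebra R R'] [Module.Finite R R'] [Module.Flat R R'] :
    ∃ q : Spec (CommRingCat.of (FractionRing R')) ⟶ Spec (CommRingCat.of (FractionRing R)),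
      IsPullback (Neron.genPt R') q (Spec.map (CommRingCat.ofHom (algebraMap R R')))
        (Neron.genPt R) := by
  have hinj : Function.Injective (algebraMap R R') := by
    rw [injective_iff_map_eq_zero]
    intro r hr
    by_contra hne
    have hreg : IsSMulRegular R' r :=
      Module.Flat.isSMulRegular_of_nonZeroDivisors (mem_nonZeroDivisors_of_ne_zero hne)
    have h10 : r • (1 : R') = r • (0 : R') := by
      rw [Algebra.smul_def, hr, smul_zero, zero_mul]
    exact one_ne_zero (hreg h10)
  haveI : FaithfulSMul R R' := (faithfulSMul_iff_algebraMap_injective R R').2 hinj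
  haveI : Algebra.IsIntegral R R' := Algebra.IsIntegral.of_finite R R'
  haveI : Algebra.IsAlgebraic R R' := inferInstance
  haveI hloc : IsLocalization (Algebra.algebraMapSubmonoid R' R⁰) (FractionRing R') := inferInstance
  haveI hloc' : IsLocalization (R⁰.map (algebraMap R R')) (FractionRing R') := hloc
  let fm : FractionRing R →+* FractionRing R' :=
    IsLocalization.map (M := R⁰) (T := R⁰.map (algebraMap R R')) (FractionRing R')
      (algebraMap R R') (Submonoid.le_comap_map _)
  have H : fm.comp (algebraMap R (FractionRing R)) =
      (algebraMap R' (FractionRing R')).comp (algebraMap R R') := IsLocalization.map_comp _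
  have hpo := CommRingCat.isPushout_of_isLocalization (algebraMap R R') fm H R⁰
  exact ⟨Spec.map (CommRingCat.ofHom fm), isPullback_SpecMap_of_isPushout _ _ _ _ hpo⟩

/-- Let R be a Dedekind domain with fraction field K, let R' be a Dedekind domain finite étale over R
(the integral closure of R in a finite unramified extension K' of K), and let N be a Néron model
over Spec R of its generic fibre N_K. Then the base change N' = N ×_R R' is a Néron model over Spec
R' of its generic fibre N'_{K'}: it is smooth, separated and of finite type over Spec R', and every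
K'-morphism from the generic fibre of a smooth R'-scheme to N'_{K'} extends uniquely to an
R'-morphism into N'. (The published statement concerns the Néron model of an elliptic curve with the
mapping property for rational maps; this row allows any N and tests the mapping property on
morphisms from smooth schemes. The property generally fails for ramified extensions.) -/
theorem result (R R' : Type u) [CommRing R] [IsDedekindDomain R]
    [CommRing R'] [IsDedekindDomain R'] [Algebra R R'] [Module.Finite R R'] [Algebra.Etale R R']
    (N : Over (Spec (CommRingCat.of R)))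
    (hN : Neron.IsNeronModelOf R N ((Neron.genericFibre R).obj N) (Iso.refl _)) :
    Neron.IsNeronModelOf R'
      ((Over.pullback (Spec.map (CommRingCat.ofHom (algebraMap R R')))).obj N)
      ((Neron.genericFibre R').obj ((Over.pullback (Spec.map (CommRingCat.ofHom (algebraMap R R')))).obj N))
      (Iso.refl _) := by
  classical
  open Groth.Agent.Lib.Lead.NeronTorsor in
  obtain ⟨hsm, hsep, hlft, hqc, hnmp⟩ := hN
  haveI := hsm
  haveI := hsep
  haveI := hlft
  haveI := hqc
  haveI hpet : Etale (Spec.map (CommRingCat.ofHom (algebraMap R R'))) := by
    rw [HasRingHomProperty.Spec_iff (P := @Etale)]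
    exact RingHom.etale_algebraMap.2 inferInstance
  refine ⟨?_, ?_, ?_, ?_, ?_⟩
  · change Smooth (pullback.snd N.hom _)
    infer_instance
  · change IsSeparated (pullback.snd N.hom _)
    infer_instance
  · change LocallyOfFiniteType (pullback.snd N.hom _)
    infer_instance
  · change QuasiCompact (pullback.snd N.hom _)
    infer_instance
  intro Y' hY'
  haveI := hY'
  obtain ⟨q, hq⟩ := isPullback_genPt R R'
  set p := Spec.map (CommRingCat.ofHom (algebraMap R R')) with hp
  set j := Neron.genPt R with hj
  set j' := Neron.genPt R' with hj'
  -- reduce to precomposition with the inclusion of the generic fibre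
  have hgoal : Function.Bijective (fun g : Y' ⟶ (Over.pullback p).obj N => res j' Y' ≫ g) := by
    let adj := Over.mapPullbackAdj p
    let Y : Over (Spec (CommRingCat.of R)) := (Over.map p).obj Y'
    have hYsm : Smooth Y.hom := by
      change Smooth (Y'.hom ≫ p)
      infer_instance
    have hYb : Function.Bijective (fun g : Y ⟶ N => res j Y ≫ g) := by
      rw [← bijective_iff]
      have := hnmp Y hYsm
      simpa using this
    -- the comparison isomorphism
    have hpaste : IsPullback (pullback.fst Y'.hom j') (pullback.snd Y'.hom j' ≫ q)
        (Y'.hom ≫ p) j :=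
      ((IsPullback.of_hasPullback Y'.hom j').flip.paste_horiz hq.flip).flip
    let θl : pullback Y'.hom j' ≅ pullback (Y'.hom ≫ p) j := hpaste.isoPullback
    have hθfst : θl.hom ≫ pullback.fst (Y'.hom ≫ p) j = pullback.fst Y'.hom j' :=
      hpaste.isoPullback_hom_fst
    let θ : (Over.map p).obj ((W j').obj Y') ≅ (W j).obj Y :=
      Over.isoMk θl (by
        change θl.hom ≫ (pullback.snd (Y'.hom ≫ p) j ≫ j) = (pullback.snd Y'.hom j' ≫ j') ≫ p
        rw [← pullback.condition, ← Category.assoc, hθfst, ← pullback.condition, Category.assoc])
    have hθ : θ.hom ≫ res j Y = (Over.map p).map (res j' Y') := by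
      apply Over.OverMorphism.ext
      simp only [res, Over.comp_left, Over.map_map_left, Over.mapPullbackAdj_counit_app]
      exact hθfst
    have h2 : Function.Bijective (fun g : Y ⟶ N => (Over.map p).map (res j' Y') ≫ g) := by
      have : (fun g : Y ⟶ N => (Over.map p).map (res j' Y') ≫ g) =
          (fun h : (W j).obj Y ⟶ N => θ.hom ≫ h) ∘ (fun g : Y ⟶ N => res j Y ≫ g) := by
        funext g
        change _ = θ.hom ≫ res j Y ≫ g
        rw [← Category.assoc, hθ]
      rw [this]
      refine Function.Bijective.comp ?_ hYb
      exact ⟨fun a b hab => (cancel_epi θ.hom).1 hab, fun h => ⟨θ.inv ≫ h, by simp⟩⟩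
    have h3 : (fun g : Y' ⟶ (Over.pullback p).obj N => res j' Y' ≫ g) =
        (adj.homEquiv ((W j').obj Y') N) ∘
          (fun g : Y ⟶ N => (Over.map p).map (res j' Y') ≫ g) ∘ (adj.homEquiv Y' N).symm := by
      funext g
      change _ = adj.homEquiv _ _ ((Over.map p).map (res j' Y') ≫ (adj.homEquiv Y' N).symm g)
      rw [adj.homEquiv_naturality_left, Equiv.apply_symm_apply]
    rw [h3]
    exact (adj.homEquiv _ N).bijective.comp (h2.comp (adj.homEquiv Y' N).symm.bijective)
  have := (bijective_iff j' Y' ((Over.pullback p).obj N)).2 hgoal
  simpa using this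

end Groth.Agent.S11103
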