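import Groth.Statements.S11107
-- import your own Groth.Agent.* helpers here
import Groth.Agent.Lib.Helper58.RatMap
import Groth.Agent.Lib.Helper30.SmoothLocal

set_option autoImplicit false
universe u
open CategoryTheory AlgebraicGeometry
open Neron

namespace Groth.Agent.S11107

/-- stalks of `Spec` of a Dedekind domain are integrally closed domains -/
theorem spec_stalk_normal (R : Type u) [CommRing R] [IsDedekindDomain R]
    (p : Spec (CommRingCat.of R)) :
    IsDomain ((Spec (CommRingCat.of R)).presheaf.stalk p) ∧
      IsIntegrallyClosed ((Spec (CommRingCat.of R)).presheaf.stalk p) := by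
  haveI : IsLocalization.AtPrime ((Spec.structureSheaf R).presheaf.stalk p) p.asIdeal :=
    inferInstance
  have hle : p.asIdeal.primeCompl ≤ nonZeroDivisors R := p.asIdeal.primeCompl_le_nonZeroDivisors
  constructor
  · exact IsLocalization.isDomain_of_le_nonZeroDivisors (R := R) (M := p.asIdeal.primeCompl)
      ((Spec.structureSheaf R).presheaf.stalk p) hle
  · exact isIntegrallyClosed_of_isLocalization ((Spec.structureSheaf R).presheaf.stalk p)
      p.asIdeal.primeCompl hle

theorem valuationRing_of_dim_lt_two (A : Type u) [CommRing A] [IsDomain A] [IsLocalRing A]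
    [IsNoetherianRing A] [IsIntegrallyClosed A]
    (h : ¬ (2 : WithBot ℕ∞) ≤ ringKrullDim A) : ValuationRing A := by
  have h1 : ringKrullDim A ≤ 1 := by
    have h0 := not_le.mp h
    cases hd : ringKrullDim A with
    | bot => exact bot_le
    | coe n =>
      rw [hd] at h0
      have h2 : (n : WithBot ℕ∞) < ((2 : ℕ∞) : WithBot ℕ∞) := h0
      rw [WithBot.coe_lt_coe] at h2
      have h3 : n ≤ 1 := by
        have : n < (1 : ℕ∞) + 1 := by simpa [one_add_one_eq_two] using h2
        exact (ENat.lt_add_one_iff (by simp)).mp this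
      exact_mod_cast h3
  have h2 : Ring.KrullDimLE 1 A := Ring.krullDimLE_iff.mpr (by simpa using h1)
  have h3 := Ring.krullDimLE_one_iff_of_noZeroDivisors.mp h2
  have h4 : IsIntegrallyClosed A ∧ ∀ P : Ideal A, P ≠ ⊥ → P.IsPrime → P = IsLocalRing.maximalIdeal A :=
    ⟨inferInstance, fun P hP hP' => IsLocalRing.eq_maximalIdeal (h3 P hP hP')⟩
  exact ((tfae_of_isNoetherianRing_of_isLocalRing_of_isDomain A).out 3 1).mp h4

/-- Let R be a Dedekind domain, X → Spec R a smooth morphism, Y → Spec R a proper morphism, U ⊆ X a
dense open subscheme and f : U → Y a morphism over Spec R (a rational map X ⇢ Y over R). Then f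
extends, over Spec R, to an open subscheme V ⊇ U of X such that every point of X outside V has a
local ring of Krull dimension at least 2: the locus where the rational map is undefined has
codimension at least two. (The published statement assumes the rational map dominant; this row does
not.) -/
theorem result {R : Type u} [CommRing R] [IsDedekindDomain R]
    {X Y : Scheme.{u}} (pX : X ⟶ Spec (CommRingCat.of R)) (pY : Y ⟶ Spec (CommRingCat.of R))
    [Smooth pX] [IsProper pY] (U : X.Opens) (hU : Dense (U : Set X))
    (f : (U : Scheme.{u}) ⟶ Y) (hf : f ≫ pY = U.ι ≫ pX) :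
    ∃ (V : X.Opens) (hUV : U ≤ V) (g : (V : Scheme.{u}) ⟶ Y),
      g ≫ pY = V.ι ≫ pX ∧ X.homOfLE hUV ≫ g = f ∧
      ∀ x : X, x ∉ V → (2 : WithBot ℕ∞) ≤ ringKrullDim (X.presheaf.stalk x) := by
  haveI : IsLocallyNoetherian (Spec (CommRingCat.of R)) := inferInstance
  haveI : IsLocallyNoetherian X := LocallyOfFiniteType.isLocallyNoetherian pX
  have hnorm : ∀ x : X, IsDomain (X.presheaf.stalk x) ∧ IsIntegrallyClosed (X.presheaf.stalk x) := by
    intro x
    have hx : x ∈ pX.smoothLocus := by rw [pX.smoothLocus_eq_top]; trivial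
    rw [Groth.Agent.Lib.Helper30.SmoothLocal.stalk_normal_iff_of_smoothAt pX x hx]
    exact spec_stalk_normal R _
  haveI : IsReduced X := by
    haveI : ∀ x : X, _root_.IsReduced (X.presheaf.stalk x) := fun x => by
      haveI := (hnorm x).1
      infer_instance
    exact isReduced_of_isReduced_stalk X
  have hex : ValuativeCriterion.Existence pY := by
    have h : UniversallyClosed pY := inferInstance
    rw [UniversallyClosed.eq_valuativeCriterion] at h
    exact h.1
  obtain ⟨V, hUV, g, hg1, hg2, hg3⟩ :=
    Groth.Agent.Lib.Helper58.RatMap.exists_extension pX pY hex U hU f hf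
  refine ⟨V, hUV, g, hg1, hg2, ?_⟩
  intro x hxV
  by_contra hdim
  apply hxV
  haveI := (hnorm x).1
  haveI := (hnorm x).2
  exact hg3 x (valuationRing_of_dim_lt_two _ hdim)

end Groth.Agent.S11107
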