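import Groth.Statements.S11108
-- import your own Groth.Agent.* helpers here
import Groth.Agent.S5038
import Groth.Agent.Lib.Helper58.FEtHens

set_option autoImplicit false
universe u
open CategoryTheory AlgebraicGeometry
open Neron

namespace Groth.Agent.S11108

open Groth.Agent.Lib.Helper58.FEtHens CategoryTheory.Limits

/-- A nonzero finite type algebra over an algebraically closed field has a rational point. -/
theorem exists_algHom_of_finiteType (k : Type u) [Field k] [IsAlgClosed k] (B : Type u)
    [CommRing B] [Algebra k B] [Algebra.FiniteType k B] [Nontrivial B] :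
    Nonempty (B →ₐ[k] k) := by
  obtain ⟨m, hm⟩ := Ideal.exists_maximal B
  let _ : Field (B ⧸ m) := Ideal.Quotient.field m
  have hft : Algebra.FiniteType k (B ⧸ m) :=
    Algebra.FiniteType.of_surjective (Ideal.Quotient.mkₐ k m) (Ideal.Quotient.mkₐ_surjective k m)
  have hfin : Module.Finite k (B ⧸ m) := finite_of_finite_type_of_isJacobsonRing k (B ⧸ m)
  have : Algebra.IsIntegral k (B ⧸ m) := Algebra.IsIntegral.of_finite k (B ⧸ m)
  have hbij : Function.Bijective (algebraMap k (B ⧸ m)) :=
    IsAlgClosed.algebraMap_bijective_of_isIntegral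
  let e : k ≃ₐ[k] (B ⧸ m) := AlgEquiv.ofBijective (Algebra.ofId k (B ⧸ m)) hbij
  exact ⟨(e.symm : (B ⧸ m) →ₐ[k] k).comp (Ideal.Quotient.mkₐ k m)⟩

/-- Every nonempty open of a scheme locally of finite type over an algebraically closed field
contains a rational point. -/
theorem exists_section_mem_open (k : Type u) [Field k] [IsAlgClosed k] {Z : Scheme.{u}}
    (q : Z ⟶ Spec (CommRingCat.of k)) [LocallyOfFiniteType q] (O : Z.Opens) (z : Z) (hz : z ∈ O) :
    ∃ v : Spec (CommRingCat.of k) ⟶ Z, v ≫ q = 𝟙 _ ∧ ∀ t, v t ∈ O := by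
  obtain ⟨W, hW, hzW, hWO⟩ : ∃ W : Z.Opens, IsAffineOpen W ∧ z ∈ W ∧ W ≤ O := by
    obtain ⟨_, ⟨W, hW, rfl⟩, hzW, hWO⟩ := Z.isBasis_affineOpens.exists_subset_of_mem_open
      hz O.2
    exact ⟨W, hW, hzW, hWO⟩
  have : IsAffine W.toScheme := hW
  obtain ⟨B, _, _, e, he⟩ := exists_iso_Spec_of_isAffine (W.ι ≫ q)
  have he' : Spec.map (CommRingCat.ofHom (algebraMap k B)) = e.inv ≫ W.ι ≫ q := by
    rw [he, Iso.inv_hom_id_assoc]
  have h1 : LocallyOfFiniteType (Spec.map (CommRingCat.ofHom (algebraMap k B))) := by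
    rw [he']; infer_instance
  have h1' : (algebraMap k B).FiniteType :=
    (HasRingHomProperty.Spec_iff (P := @LocallyOfFiniteType)).mp h1
  have hft : Algebra.FiniteType k B := by
    rwa [RingHom.finiteType_algebraMap] at h1'
  have hnt : Nontrivial B := by
    have : Nonempty (Spec (CommRingCat.of B)) := ⟨e.hom ⟨z, hzW⟩⟩
    by_contra hB
    rw [not_nontrivial_iff_subsingleton] at hB
    exact (PrimeSpectrum.instIsEmptyOfSubsingleton (R := B)).false (e.hom ⟨z, hzW⟩)
  obtain ⟨φ⟩ := exists_algHom_of_finiteType k B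
  refine ⟨Spec.map (CommRingCat.ofHom φ.toRingHom) ≫ e.inv ≫ W.ι, ?_, ?_⟩
  · rw [Category.assoc, Category.assoc, ← he', ← Spec.map_comp, ← Spec.map_id]
    congr 1
    ext a
    exact φ.commutes a
  · intro t
    apply hWO
    rw [← Category.assoc, Scheme.Hom.comp_apply]
    exact ((Spec.map (CommRingCat.ofHom φ.toRingHom) ≫ e.inv) t).2

/-- Let R be a strictly Henselian discrete valuation ring — Henselian with algebraically closed residue
field — and p : X → Spec R a smooth morphism. Then the image of the reduction map from R-valued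
points of X to the special fibre is dense in the special fibre: every point of X over the closed
point of Spec R lies in the closure of the set of points s(𝔪), s a section of p and 𝔪 the closed
point. -/
theorem result (R : Type u) [CommRing R] [IsDomain R]
    [IsDiscreteValuationRing R] [HenselianLocalRing R] [IsAlgClosed (IsLocalRing.ResidueField R)]
    {X : Scheme.{u}} (p : X ⟶ Spec (CommRingCat.of R)) [Smooth p]
    (x : X) (hx : p.base x = IsLocalRing.closedPoint R) :
    x ∈ closure {y : X | ∃ s : Spec (CommRingCat.of R) ⟶ X, s ≫ p = 𝟙 _ ∧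
      s.base (IsLocalRing.closedPoint R) = y} := by
  rw [mem_closure_iff]
  intro O hO hxO
  let ρ := Spec.map (CommRingCat.ofHom (IsLocalRing.residue R))
  -- the point `x` lifts to the special fibre
  have hxr : x ∈ Set.range (pullback.fst p ρ) := by
    rw [Scheme.Pullback.range_fst]
    refine ⟨IsLocalRing.closedPoint (IsLocalRing.ResidueField R), ?_⟩
    rw [hx]
    exact IsLocalRing.comap_closedPoint (IsLocalRing.residue R)
  obtain ⟨z, rfl⟩ := hxr
  let O' : (pullback p ρ).Opens := (pullback.fst p ρ) ⁻¹ᵁ ⟨O, hO⟩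
  obtain ⟨v, hv1, hv2⟩ := exists_section_mem_open (IsLocalRing.ResidueField R)
    (pullback.snd p ρ) O' z hxO
  obtain ⟨s, hs1, hs2⟩ := Groth.Agent.S5038.result R p (v ≫ pullback.fst p ρ) (by
    rw [Category.assoc, pullback.condition, ← Category.assoc, hv1, Category.id_comp])
  refine ⟨s (IsLocalRing.closedPoint R), ?_, s, hs1, rfl⟩
  have hcl : ρ (IsLocalRing.closedPoint (IsLocalRing.ResidueField R)) = IsLocalRing.closedPoint R := by
    exact IsLocalRing.comap_closedPoint (IsLocalRing.residue R)
  rw [← hcl, ← Scheme.Hom.comp_apply, hs2, Scheme.Hom.comp_apply]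
  exact hv2 _

end Groth.Agent.S11108
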