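import Groth.Statements.S11117
import Groth.Agent.Lib.Helper12.AdjLR2
import Groth.Agent.Lib.Helper12.WKI7

set_option autoImplicit false
universe u
open CategoryTheory CategoryTheory.Limits AlgebraicGeometry
attribute [local instance] HasDerivedCategory.standard
open Perf

namespace Groth.Agent.S11117

theorem result {X Y : Scheme.{u}} (f : X ⟶ Y) [DCoh.HasLpull f] {ι : Type u} (C : ι → DCoh.D Y)
    [HasCoproduct C] [HasCoproduct (fun i => (DCoh.Lpull f).obj (C i))] :
    IsIso (Sigma.desc (fun i => (DCoh.Lpull f).map (Sigma.ι C i))) := by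
  have : DCoh.HasRpush f := Groth.Agent.Lib.Helper12.WKI.hasRpush f
  have := (Groth.Agent.Lib.Helper12.AdjLR.adjLR f).leftAdjoint_preservesColimits
  exact inferInstanceAs (IsIso (sigmaComparison (DCoh.Lpull f) C))

end Groth.Agent.S11117
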