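import Groth.Statements.S11118
import Groth.Agent.Lib.Helper12.LTC5
import Groth.Agent.Lib.Helper12.DSigma2
import Groth.Agent.Lib.Helper53.ModGroth

set_option autoImplicit false
universe u
open CategoryTheory CategoryTheory.Limits AlgebraicGeometry
attribute [local instance] HasDerivedCategory.standard
open Perf

namespace Groth.Agent.S11118

theorem result (X : Scheme.{u}) (D : CochainComplex X.Modules ℤ) [DCoh.HasLTensorCx D] {ι : Type u}
    (C : ι → DCoh.D X) [HasCoproduct C] [HasCoproduct (fun i => (DCoh.LTensorCx D).obj (C i))] :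
    IsIso (Sigma.desc (fun i => (DCoh.LTensorCx D).map (Sigma.ι C i))) := by
  have : IsGrothendieckAbelian.{u} X.Modules :=
    Groth.Agent.Lib.Helper53.ModGroth.isGrothendieckAbelian _ X.ringCatSheaf
  have hres : ∀ i, ∃ P : CochainComplex X.Modules ℤ, DCoh.IsKFlat P ∧
      Nonempty (DerivedCategory.Q.obj P ≅ C i) := by
    intro i
    obtain ⟨K', q, hK', hq⟩ :=
      Groth.Agent.Lib.Helper12.LTC.exists_isKFlat_resolution (DerivedCategory.Q.objPreimage (C i))
    have hq' : IsIso (DerivedCategory.Q.map q) :=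
      (DerivedCategory.isIso_Q_map_iff_quasiIso X.Modules q).2 hq
    exact ⟨K', hK', ⟨asIso (DerivedCategory.Q.map q) ≪≫ DerivedCategory.Q.objObjPreimageIso (C i)⟩⟩
  choose P hP e using hres
  have h1 : PreservesColimit (Discrete.functor fun i => DerivedCategory.Q.obj (P i))
      (DCoh.LTensorCx D) := by
    refine preservesColimit_of_preserves_colimit_cocone (Helper89.SigmaExact.isColimitCofanQ P) ?_
    refine (isColimitMapCoconeCofanMkEquiv (DCoh.LTensorCx D) _ _).symm ?_
    have h0 := Groth.Agent.Lib.Helper12.DSigma.isColimitSigmaCx P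
    have hS : DCoh.IsKFlat (Helper89.SigmaExact.sigmaCx P) :=
      Groth.Agent.Lib.Helper12.LTC.isKFlat_of_isColimit_cofan P (Cofan.mk (Helper89.SigmaExact.sigmaCx P) (Helper89.SigmaExact.sigmaCxι P)) h0 hP
    have hR : IsColimit (Cofan.mk ((Groth.Agent.Lib.Helper12.LTC.RTX D).obj (Helper89.SigmaExact.sigmaCx P))
        fun i => (Groth.Agent.Lib.Helper12.LTC.RTX D).map (Helper89.SigmaExact.sigmaCxι P i)) :=
      isColimitMapCoconeCofanMkEquiv (Groth.Agent.Lib.Helper12.LTC.RTX D) _ _
        (Groth.Agent.Lib.Helper12.LTC.isColimit_RTX_mapCocone D P (Cofan.mk (Helper89.SigmaExact.sigmaCx P) (Helper89.SigmaExact.sigmaCxι P)) h0).some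
    have hd := Groth.Agent.Lib.Helper12.DSigma.isColimitCofanQOfIsColimit _ _ hR
    have hi : ∀ i, IsIso ((Groth.Agent.Lib.Helper12.LTC.couCx D).app (P i)) := fun i =>
      Groth.Agent.Lib.Helper12.LTC.isIso_couCx_app_of_isKFlat D (P i) (hP i)
    have hiS : IsIso ((Groth.Agent.Lib.Helper12.LTC.couCx D).app (Helper89.SigmaExact.sigmaCx P)) :=
      Groth.Agent.Lib.Helper12.LTC.isIso_couCx_app_of_isKFlat D _ hS
    exact Groth.Agent.Lib.Helper12.DSigma.isColimitCofanOfIso (fun i => asIso ((Groth.Agent.Lib.Helper12.LTC.couCx D).app (P i))) _ _ hd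
      (asIso ((Groth.Agent.Lib.Helper12.LTC.couCx D).app (Helper89.SigmaExact.sigmaCx P)))
      (fun i => (Groth.Agent.Lib.Helper12.LTC.couCx D).naturality (Helper89.SigmaExact.sigmaCxι P i))
  have h2 : PreservesColimit (Discrete.functor C) (DCoh.LTensorCx D) :=
    preservesColimit_of_iso_diagram (DCoh.LTensorCx D)
      (Discrete.natIso (F := Discrete.functor fun i => DerivedCategory.Q.obj (P i))
        (G := Discrete.functor C) fun ⟨i⟩ => (e i).some)
  exact inferInstanceAs (IsIso (sigmaComparison (DCoh.LTensorCx D) C))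

end Groth.Agent.S11118
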