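import Groth.Statements.S11121
import Groth.Agent.Lib.Helper40.QCohSmall
import Groth.Agent.S2128
import Mathlib.CategoryTheory.Adjunction.AdjointFunctorTheorems

set_option autoImplicit false
universe u u'
open CategoryTheory CategoryTheory.Limits AlgebraicGeometry
open QCohCat

namespace Groth.Agent.S11121

open Groth.Agent.Lib.Helper40.QCohSmall Groth.Agent.Lib.Helper40.QCohAb

theorem sep (X : Scheme.{u}) [CompactSpace X] [QuasiSeparatedSpace X] :
    (famP X).IsSeparating := by
  intro A B f g h
  apply ObjectProperty.hom_ext
  obtain ⟨I, _, _, D, c, hc, hfp, hpt⟩ := Groth.Agent.S2128.result X A.obj A.property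
  have key : eqToHom hpt ≫ f.hom = eqToHom hpt ≫ g.hom := by
    apply hc.hom_ext
    intro i
    haveI : SheafOfModules.IsFinitePresentation (R := X.ringCatSheaf) (D.obj i) := hfp i
    haveI : (D.obj i).IsQuasicoherent := inferInstance
    have hft : SheafOfModules.IsFiniteType (R := X.ringCatSheaf) (D.obj i) := inferInstance
    obtain ⟨idx, ⟨e⟩⟩ := exists_rep (D.obj i) hft
    have h1 := h (Gobj idx) ⟨idx, rfl⟩ (ObjectProperty.homMk (e.hom ≫ c.ι.app i ≫ eqToHom hpt))
    have h2 : (e.hom ≫ c.ι.app i ≫ eqToHom hpt) ≫ f.hom =
        (e.hom ≫ c.ι.app i ≫ eqToHom hpt) ≫ g.hom := congrArg (fun φ => φ.hom) h1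
    rw [Category.assoc, Category.assoc] at h2
    exact (cancel_epi e.hom).1 (by simpa only [Category.assoc] using h2)
  exact (cancel_epi (eqToHom hpt)).1 key

/-- Let X be a quasi-compact quasi-separated scheme and F an additive functor from the category QCoh(X)
of quasi-coherent O_X-modules (a full subcategory of all O_X-modules) to an abelian category A with
hom-sets in the same universe as those of QCoh(X). If F preserves small colimits, then F has a right
adjoint. (The converse, that a left adjoint preserves colimits, is formal and not asserted.) -/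
theorem result (X : Scheme.{u}) [CompactSpace X] [QuasiSeparatedSpace X]
    {A : Type u'} [Category.{u} A] [Abelian A] (F : QCohCat.QCoh X ⥤ A) [F.Additive]
    [PreservesColimitsOfSize.{u, u} F] : F.IsLeftAdjoint := by
  exact isLeftAdjoint_of_preservesColimits_of_isSeparating (sep X) F

end Groth.Agent.S11121
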