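import Groth.Statements.S11124
import Groth.Agent.Lib.Helper12.WKI7

set_option autoImplicit false
universe u
open CategoryTheory CategoryTheory.Limits AlgebraicGeometry
attribute [local instance] HasDerivedCategory.standard
open Perf

namespace Groth.Agent.S11124

/-- Let f : X ⟶ Y be a morphism of schemes, B a K-injective cochain complex of O_X-modules and U an open
subset of Y, and assume the unbounded derived functor of global sections on U exists. Then the
termwise direct image f_*B, restricted to U, is acyclic for global sections: the canonical map Γ(U,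
f_*B) ⟶ RΓ(U, (f_*B)|_U) in D(Ab), the unit of the total right derived functor at this complex, is
an isomorphism. (The published statement is for ringed spaces; this row is the case of schemes.) -/
theorem result {X Y : Scheme.{u}} (f : X ⟶ Y) (B : CochainComplex X.Modules ℤ)
    [B.IsKInjective] (U : Y.Opens) [DCoh.HasRΓ (U : Scheme.{u})] :
    IsIso (((DCoh.gammaKh (U : Scheme.{u})).totalRightDerivedUnit DerivedCategory.Qh
      (HomotopyCategory.quasiIso (U : Scheme.{u}).Modules (ComplexShape.up ℤ))).app
      ((HomotopyCategory.quotient (U : Scheme.{u}).Modules (ComplexShape.up ℤ)).obj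
        ((DCoh.restrictCx U).obj (((Scheme.Modules.pushforward f).mapHomologicalComplex (ComplexShape.up ℤ)).obj B)))) := by
  haveI : PreservesFiniteLimits (Scheme.Modules.restrictFunctor U.ι) := inferInstance
  haveI : PreservesFiniteLimits (Scheme.Modules.restrictFunctor (f ⁻¹ᵁ U).ι) := inferInstance
  have hK := Groth.Agent.Lib.Helper12.RDerSch.isKInjective_restrict (f ⁻¹ᵁ U) B inferInstance
  have h := Groth.Agent.Lib.Helper12.WKI.isIso_unit_app_gamma (f ∣_ U)
    (((Scheme.Modules.restrictFunctor (f ⁻¹ᵁ U).ι).mapHomologicalComplex (ComplexShape.up ℤ)).obj B)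
  refine (NatTrans.isIso_app_iff_of_iso _ ?_).2 h
  exact (HomotopyCategory.quotient _ _).mapIso
    ((NatIso.mapHomologicalComplex (Groth.Agent.Lib.Helper12.BCOpen.bcIso f U) (ComplexShape.up ℤ)).app B)

end Groth.Agent.S11124
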