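import Groth.Statements.S11129
import Groth.Agent.Lib.Helper40.ExtFP3
import Groth.Agent.Lib.Helper21.CohNoeth

set_option autoImplicit false
universe u
open CategoryTheory AlgebraicGeometry
open QCohCat

namespace Groth.Agent.S11129

open Limits Opposite TopologicalSpace Groth.Agent.Lib.Helper40 Groth.Agent.Lib.Helper40.ExtFP
  Groth.Agent.Lib.Helper21.QCohSections Groth.Agent.Lib.Lead.CohAff
  Groth.Agent.Lib.Helper40.SSh Groth.Agent.Lib.Helper40.SSh.SubSh

variable {Y : Scheme.{u}}

/-- monomorphisms of `QCoh Y` are monomorphisms of modules -/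
theorem mono_hom {A B : QCoh Y} (f : A ⟶ B) [Mono f] : Mono f.hom := by
  haveI : A.obj.IsQuasicoherent := A.property
  haveI : B.obj.IsQuasicoherent := B.property
  apply Preadditive.mono_of_kernel_zero
  let K : QCoh Y := ⟨kernel f.hom, Groth.Agent.Lib.Helper21.QCohKernel.isQuasicoherent_kernel f.hom⟩
  let κ : K ⟶ A := ObjectProperty.homMk (kernel.ι f.hom)
  let z : K ⟶ A := ObjectProperty.homMk 0
  have h : κ ≫ f = z ≫ f := by
    apply ObjectProperty.hom_ext
    change kernel.ι f.hom ≫ f.hom = 0 ≫ f.hom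
    rw [kernel.condition, zero_comp]
  have h2 := (cancel_mono f).mp h
  exact congrArg (fun φ => φ.hom) h2

theorem mono_homMk {A B : QCoh Y} (i : A.obj ⟶ B.obj) [Mono i] :
    Mono (ObjectProperty.homMk i : A ⟶ B) :=
  (isQCoh Y).ι.mono_of_mono_map (by exact ‹Mono i›)

theorem eq_of_le_of_range {M : QCoh Y} (𝒰 : Set Y.Opens) (h𝒰 : ∀ U ∈ 𝒰, IsAffineOpen U)
    (hcov : ∀ x : Y, ∃ U ∈ 𝒰, x ∈ U) (N N' : Subobject M) (h : N ≤ N')
    (hr : ∀ U ∈ 𝒰, ∀ t : Γ((N' : QCoh Y).obj, U), ∃ s : Γ((N : QCoh Y).obj, U),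
      N.arrow.hom.app U s = N'.arrow.hom.app U t) : N = N' := by
  let φ := Subobject.ofLE N N' h
  have hφ : φ ≫ N'.arrow = N.arrow := Subobject.ofLE_arrow h
  haveI : (N' : QCoh Y).obj.IsQuasicoherent := (N' : QCoh Y).property
  haveI : (N : QCoh Y).obj.IsQuasicoherent := (N : QCoh Y).property
  haveI := mono_hom N'.arrow
  haveI : Mono φ.hom := mono_hom φ
  haveI : Epi φ.hom := by
    apply epi_of_affine_cover φ.hom 𝒰 h𝒰 hcov
    intro U hU t
    obtain ⟨s, hs⟩ := hr U hU t
    refine ⟨s, ?_⟩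
    apply app_injective_of_mono N'.arrow.hom U
    rw [← hs, ← hφ]
    rfl
  haveI : IsIso φ.hom := isIso_of_mono_of_epi _
  haveI : IsIso φ := (ObjectProperty.isIso_hom_iff φ).mp inferInstance
  apply le_antisymm h
  apply Subobject.le_of_comm (inv φ)
  rw [IsIso.inv_comp_eq, hφ]

theorem noeth_of_coh [IsNoetherian Y] (M : QCoh Y)
    (hM : SheafOfModules.IsFiniteType (R := Y.ringCatSheaf) M.obj) : IsNoetherianObject M := by
  classical
  haveI : M.obj.IsQuasicoherent := M.property
  rw [isNoetherianObject_iff_monotone_chain_condition]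
  intro f
  obtain ⟨s, hs, hcov⟩ := (isCompact_iff_finite_and_eq_biUnion_affineOpens (U := (⊤ : Y.Opens))).mp
    (by simpa using (isCompact_univ : IsCompact (Set.univ : Set Y)))
  haveI : Finite s := hs.to_subtype
  cases nonempty_fintype s
  have hUcov : ∀ x : Y, ∃ U ∈ ((fun a : Y.affineOpens => a.1) '' s), x ∈ U := by
    intro x
    have hx : x ∈ (⊤ : Y.Opens) := trivial
    rw [hcov] at hx
    obtain ⟨i, hx⟩ := Opens.mem_iSup.mp hx
    obtain ⟨hi, hxi⟩ := Opens.mem_iSup.mp hx
    exact ⟨i.1, ⟨i, hi, rfl⟩, hxi⟩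
  -- the chains of section submodules
  have hst : ∀ a : s, ∃ n : ℕ, ∀ m : ℕ, n ≤ m →
      LinearMap.range (appL (f n).arrow.hom a.1.1) = LinearMap.range (appL (f m).arrow.hom a.1.1) := by
    intro a
    haveI : IsNoetherianRing Γ(Y, a.1.1) := IsLocallyNoetherian.component_noetherian a.1
    haveI : Module.Finite Γ(Y, a.1.1) Γ(M.obj, a.1.1) := finite_sections_of_isFiniteType M.obj hM a.1.2
    haveI : IsNoetherian Γ(Y, a.1.1) Γ(M.obj, a.1.1) := isNoetherian_of_isNoetherianRing_of_finite _ _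
    have hmono : Monotone (fun n : ℕ => LinearMap.range (appL (f n).arrow.hom a.1.1)) := by
      intro n m hnm
      have hle : f n ≤ f m := f.monotone hnm
      rintro _ ⟨x, rfl⟩
      refine ⟨(Subobject.ofLE _ _ hle).hom.app a.1.1 x, ?_⟩
      have := Subobject.ofLE_arrow hle
      rw [← this]
      rfl
    exact (monotone_stabilizes_iff_noetherian.mpr inferInstance) ⟨_, hmono⟩
  choose n hn using hst
  refine ⟨Finset.univ.sup n, fun m hm => ?_⟩
  apply eq_of_le_of_range ((fun a : Y.affineOpens => a.1) '' s) _ hUcov _ _ (f.monotone hm)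
  · rintro U ⟨a, ha, rfl⟩ t
    have h1 := hn ⟨a, ha⟩ (Finset.univ.sup n) (Finset.le_sup (f := n) (Finset.mem_univ _))
    have h2 := hn ⟨a, ha⟩ m ((Finset.le_sup (f := n) (Finset.mem_univ _)).trans hm)
    have h3 : (f m).arrow.hom.app a.1 t ∈ LinearMap.range (appL (f m).arrow.hom a.1) := ⟨t, rfl⟩
    rw [← h2, h1] at h3
    obtain ⟨x, hx⟩ := h3
    exact ⟨x, hx⟩
  · rintro U ⟨a, ha, rfl⟩
    exact a.2

theorem ft_of_noeth [IsNoetherian Y] (M : QCoh Y) [hN : IsNoetherianObject M] :
    SheafOfModules.IsFiniteType (R := Y.ringCatSheaf) M.obj := by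
  haveI : M.obj.IsQuasicoherent := M.property
  let S : Set (Subobject M) := {N | ∃ (G : QCoh Y) (i : G ⟶ M) (hm : Mono i),
    SheafOfModules.IsFiniteType (R := Y.ringCatSheaf) G.obj ∧ N = Subobject.mk i}
  have hne : S.Nonempty := by
    obtain ⟨G, i, hm, hq, hft, -⟩ := exists_ft_sub_of_fg_qcqs M.obj (isAffineOpen_bot Y) ⊥
      Submodule.fg_bot
    exact ⟨_, ⟨G, hq⟩, ObjectProperty.homMk i, mono_homMk (A := ⟨G, hq⟩) (B := M) i, hft, rfl⟩
  obtain ⟨N, ⟨G, i, hm, hft, rfl⟩, hmax⟩ := (wellFounded_gt (α := Subobject M)).has_min S hne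
  haveI : G.obj.IsQuasicoherent := G.property
  haveI := mono_hom i
  haveI : Epi i.hom := by
    apply epi_of_affine_cover i.hom {W | IsAffineOpen W} (fun W hW => hW)
    · intro x
      obtain ⟨_, ⟨W, hW : IsAffineOpen W, rfl⟩, hxW, -⟩ :=
        (Y.isBasis_affineOpens).exists_subset_of_mem_open (Set.mem_univ x) isOpen_univ
      exact ⟨W, hW, hxW⟩
    · intro W hW t
      obtain ⟨G', i', hm', hq', hft', hmem⟩ := exists_ft_sub_of_fg_qcqs M.obj hW
        (Submodule.span Γ(Y, W) {t}) (Submodule.fg_span_singleton _)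
      obtain ⟨g', hg'⟩ := hmem t (Submodule.subset_span rfl)
      haveI := hm'
      haveI := hq'
      obtain ⟨E, j, hmj, hqj, hftj, hA, hB⟩ := exists_sup i.hom i' hft hft'
      haveI := hmj
      let E' : QCoh Y := ⟨E, hqj⟩
      let j' : E' ⟶ M := ObjectProperty.homMk j
      haveI : Mono j' := mono_homMk (A := E') (B := M) j
      have hjS : Subobject.mk j' ∈ S := ⟨E', j', inferInstance, hftj, rfl⟩
      obtain ⟨k₀, hk₀⟩ := exists_factor_of_range_le i.hom j hA
      have hle : Subobject.mk i ≤ Subobject.mk j' :=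
        Subobject.mk_le_mk_of_comm (ObjectProperty.homMk k₀ : G ⟶ E') (by
          apply ObjectProperty.hom_ext
          exact hk₀)
      have heq : Subobject.mk j' = Subobject.mk i := by
        by_contra hne'
        exact hmax _ hjS (lt_of_le_of_ne hle (fun h => hne' h.symm))
      have hle' : Subobject.mk j' ≤ Subobject.mk i := heq.le
      have hcomp : Subobject.ofMkLEMk j' i hle' ≫ i = j' := Subobject.ofMkLEMk_comp hle'
      obtain ⟨e, he⟩ := hB W g'
      refine ⟨(Subobject.ofMkLEMk j' i hle').hom.app W e, ?_⟩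
      rw [← hg', ← he]
      have : j = (Subobject.ofMkLEMk j' i hle').hom ≫ i.hom := congrArg (fun φ => φ.hom) hcomp.symm
      rw [this]
      rfl
  exact Groth.Agent.Lib.Helper21.CohNoeth.isFiniteType_of_epi i.hom hft

/-- For a noetherian scheme Y, an object M of the category QCoh(O_Y) of quasi-coherent O_Y-modules (a
full subcategory of all O_Y-modules) is a noetherian object of that category if and only if M is
coherent (quasi-coherent of finite type). (The published statement also records that QCoh(O_Y) is a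
locally noetherian category; only the characterisation of its noetherian objects is stated here.) -/
theorem result (Y : Scheme.{u}) [IsNoetherian Y] (M : QCohCat.QCoh Y) :
    IsNoetherianObject M ↔ Coh.IsCoh M.obj := by
  constructor
  · intro h
    exact ⟨M.property, ft_of_noeth M⟩
  · intro h
    exact noeth_of_coh M h.2

end Groth.Agent.S11129
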