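import Groth.Statements.S1113
import Mathlib.Algebra.Homology.DerivedCategory.TStructure
import Mathlib.Algebra.Homology.DerivedCategory.ShortExact

set_option autoImplicit false
universe w v u
open CategoryTheory CategoryTheory.Limits
open CohDer

namespace Groth.Agent.S1113

open DerivedCategory Pretriangulated in
lemma factor_aux {A : Type u} [Category.{v} A] [Abelian A] [HasDerivedCategory.{w} A]
    (S : ShortComplex (CochainComplex A ℤ)) (hS : S.ShortExact) {Z : CochainComplex A ℤ}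
    (c : S.X₃ ⟶ Z) [QuasiIso c] {M : DerivedCategory A}
    (ψ : Q.obj S.X₂ ⟶ M) (hψ : Q.map S.f ≫ ψ = 0) :
    ∃ φ' : Q.obj Z ⟶ M, Q.map (S.g ≫ c) ≫ φ' = ψ := by
  obtain ⟨g, hg⟩ := Triangle.yoneda_exact₂ _ (triangleOfSES_distinguished hS) ψ hψ
  have : IsIso (Q.map c) := by rw [isIso_Q_map_iff_quasiIso]; infer_instance
  refine ⟨inv (Q.map c) ≫ g, ?_⟩
  rw [Functor.map_comp, Category.assoc, IsIso.hom_inv_id_assoc]
  exact hg.symm

open DerivedCategory Pretriangulated in
lemma factor_truncGE {A : Type u} [Category.{v} A] [Abelian A] [HasDerivedCategory.{w} A]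
    (T : CochainComplex A ℤ) (m m' : ℤ) (hm : m + 1 = m') {M : DerivedCategory A}
    (ψ : Q.obj T ⟶ M) (hψ : Q.map (T.ιTruncLE m) ≫ ψ = 0) :
    ∃ φ' : Q.obj (T.truncGE m') ⟶ M, Q.map (T.πTruncGE m') ≫ φ' = ψ := by
  have hS := T.shortComplexTruncLE_shortExact m
  obtain ⟨φ', h⟩ := factor_aux (T.shortComplexTruncLE m) hS
    (T.shortComplexTruncLEX₃ToTruncGE m m' hm) ψ hψ
  refine ⟨φ', ?_⟩
  have e := T.g_shortComplexTruncLEX₃ToTruncGE m m' hm
  rw [e] at h
  exact h

lemma eq_zero_of_homologyMap_eq_zero {A : Type u} [Category.{v} A] [Abelian A]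
    (E E' : CochainComplex A ℤ) (m : ℤ) [E.IsStrictlyGE m] [E.IsStrictlyLE m]
    [E'.IsStrictlyGE m] [E'.IsStrictlyLE m] (f : E ⟶ E')
    (hf : HomologicalComplex.homologyMap f m = 0) : f = 0 := by
  ext i
  by_cases hi : i = m
  · subst hi
    have h1 : IsIso (E.iCycles i) := E.isIso_iCycles i (i + 1) (by simp)
      ((E.isZero_of_isStrictlyLE i (i + 1) (by lia)).eq_of_tgt _ _)
    have h2 : IsIso (E'.homologyπ i) := E'.isIso_homologyπ (i - 1) i (by simp)
      ((E'.isZero_of_isStrictlyGE i (i - 1) (by lia)).eq_of_src _ _)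
    have h3 : HomologicalComplex.cyclesMap f i = 0 := by
      rw [← cancel_mono (E'.homologyπ i), zero_comp, ← HomologicalComplex.homologyπ_naturality,
        hf, comp_zero]
    rw [← cancel_epi (E.iCycles i), HomologicalComplex.zero_f, comp_zero,
      ← HomologicalComplex.cyclesMap_i, h3, zero_comp]
  · rcases lt_or_gt_of_ne hi with h | h
    · exact (E.isZero_of_isStrictlyGE m i h).eq_of_src _ _
    · exact (E.isZero_of_isStrictlyLE m i h).eq_of_src _ _

open HomologicalComplex in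
lemma homologyMap_truncLE_truncGE_eq_zero {A : Type u} [Category.{v} A] [Abelian A]
    {K L : CochainComplex A ℤ} (t : K ⟶ L) (m : ℤ) (ht : homologyMap t m = 0) :
    homologyMap (CochainComplex.truncLEMap (CochainComplex.truncGEMap t m) m) m = 0 := by
  have h1 : homologyMap (CochainComplex.truncGEMap t m) m = 0 := by
    rw [← cancel_epi (homologyMap (K.πTruncGE m) m), comp_zero, ← homologyMap_comp,
      CochainComplex.πTruncGE_naturality, homologyMap_comp, ht, zero_comp]
  rw [← cancel_mono (homologyMap ((L.truncGE m).ιTruncLE m) m), zero_comp, ← homologyMap_comp,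
    CochainComplex.ιTruncLE_naturality, homologyMap_comp, h1, comp_zero]

open DerivedCategory Opposite in
lemma aux {A : Type u} [Category.{v} A] [Abelian A] [HasDerivedCategory.{w} A]
    (K : ℕᵒᵖ ⥤ CochainComplex A ℤ) (n : ℕ)
    (h0 : ∀ i : ℤ, i < 0 → IsZero ((K.obj (Opposite.op 0)).homology i))
    (hz : ∀ j : ℕ, j < n → HomologicalComplex.homologyMap (K.map (homOfLE (Nat.le_succ j)).op) (j : ℤ) = 0) :
    ∀ m : ℕ, m ≤ n →
    ∃ φ : DerivedCategory.Q.obj ((K.obj (Opposite.op m)).truncGE (m : ℤ)) ⟶ DerivedCategory.Q.obj (K.obj (Opposite.op 0)),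
      DerivedCategory.Q.map ((K.obj (Opposite.op m)).πTruncGE (m : ℤ)) ≫ φ = DerivedCategory.Q.map (K.map (homOfLE (Nat.zero_le m)).op) := by
  intro m
  induction m with
  | zero =>
    intro _
    have : (K.obj (op 0)).IsGE ((0 : ℕ) : ℤ) := by
      rw [CochainComplex.isGE_iff]
      intro i hi
      rw [HomologicalComplex.exactAt_iff_isZero_homology]
      exact h0 i (by simpa using hi)
    have : IsIso (Q.map ((K.obj (op 0)).πTruncGE ((0 : ℕ) : ℤ))) := by
      rw [isIso_Q_map_iff_quasiIso]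
      infer_instance
    refine ⟨inv (Q.map ((K.obj (op 0)).πTruncGE ((0 : ℕ) : ℤ))), ?_⟩
    rw [IsIso.hom_inv_id]
    have e : (homOfLE (Nat.zero_le 0)).op = 𝟙 (op 0) := Subsingleton.elim _ _
    rw [e, K.map_id, Q.map_id]
  | succ m ih =>
    intro hm
    obtain ⟨φ, hφ⟩ := ih (by lia)
    let t : K.obj (op (m + 1)) ⟶ K.obj (op m) := K.map (homOfLE (Nat.le_succ m)).op
    have ht : HomologicalComplex.homologyMap t (m : ℤ) = 0 := hz m (by lia)
    let T := (K.obj (op (m + 1))).truncGE (m : ℤ)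
    let ψ : Q.obj T ⟶ Q.obj (K.obj (op 0)) := Q.map (CochainComplex.truncGEMap t (m : ℤ)) ≫ φ
    have hψ : Q.map (T.ιTruncLE (m : ℤ)) ≫ ψ = 0 := by
      have h1 : CochainComplex.truncLEMap (CochainComplex.truncGEMap t (m : ℤ)) (m : ℤ) = 0 :=
        eq_zero_of_homologyMap_eq_zero _ _ (m : ℤ) _
          (homologyMap_truncLE_truncGE_eq_zero t (m : ℤ) ht)
      dsimp only [ψ]
      rw [← Category.assoc, ← Functor.map_comp, ← CochainComplex.ιTruncLE_naturality, h1,
        zero_comp, Functor.map_zero, zero_comp]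
    obtain ⟨φ', hφ'⟩ := factor_truncGE T (m : ℤ) ((m + 1 : ℕ) : ℤ) (by push_cast; rfl) ψ hψ
    refine ⟨Q.map (CochainComplex.truncGEMap ((K.obj (op (m + 1))).πTruncGE (m : ℤ))
      ((m + 1 : ℕ) : ℤ)) ≫ φ', ?_⟩
    have e : (homOfLE (Nat.zero_le (m + 1))).op =
        (homOfLE (Nat.le_succ m)).op ≫ (homOfLE (Nat.zero_le m)).op := Subsingleton.elim _ _
    rw [← Category.assoc, ← Functor.map_comp, CochainComplex.πTruncGE_naturality,
      Functor.map_comp, Category.assoc, hφ']
    dsimp only [ψ]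
    rw [← Category.assoc, ← Functor.map_comp, CochainComplex.πTruncGE_naturality,
      Functor.map_comp, Category.assoc, hφ, e, K.map_comp, Functor.map_comp]

/-- Let K : ℕᵒᵖ ⥤ CochainComplex A ℤ be a sequence of cochain maps … → K₂ → K₁ → K₀ in an abelian
category with Hⁱ(K₀) = 0 for i < 0 and such that for every j < n the map Hʲ(Kⱼ₊₁) → Hʲ(Kⱼ) is zero.
Then in the derived category the composite Kₙ → K₀ factors through the canonical truncation Kₙ →
τ_{≥ n}Kₙ. -/
theorem result {A : Type u} [Category.{v} A] [Abelian A] [HasDerivedCategory.{w} A]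
    (K : ℕᵒᵖ ⥤ CochainComplex A ℤ) (n : ℕ)
    (h0 : ∀ i : ℤ, i < 0 → IsZero ((K.obj (Opposite.op 0)).homology i))
    (hz : ∀ j : ℕ, j < n → HomologicalComplex.homologyMap (K.map (homOfLE (Nat.le_succ j)).op) (j : ℤ) = 0) :
    ∃ φ : DerivedCategory.Q.obj ((K.obj (Opposite.op n)).truncGE (n : ℤ)) ⟶ DerivedCategory.Q.obj (K.obj (Opposite.op 0)),
      DerivedCategory.Q.map ((K.obj (Opposite.op n)).πTruncGE (n : ℤ)) ≫ φ = DerivedCategory.Q.map (K.map (homOfLE (Nat.zero_le n)).op) := by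
  exact aux K n h0 hz n le_rfl

end Groth.Agent.S1113
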