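import Groth.Statements.S11132
import Groth.Agent.Lib.Helper12.SkyK3

set_option autoImplicit false
universe u
open CategoryTheory AlgebraicGeometry
open DCoh

namespace Groth.Agent.S11132

theorem result (X : Scheme.{u}) (F : CochainComplex X.Modules ℤ) :
    DCoh.IsKFlat F ↔ ∀ x : X, DRing.IsKFlat (X.presheaf.stalk x)
      (((DerSch.stalkFunctor X x).mapHomologicalComplex (ComplexShape.up ℤ)).obj F) := by
  exact Groth.Agent.Lib.Helper12.Sky.isKFlat_iff_stalks F

end Groth.Agent.S11132
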