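import Groth.Statements.S11134
import Groth.Agent.Lib.Helper12.KFlat3

set_option autoImplicit false
universe u
open CategoryTheory
open ModSite

namespace Groth.Agent.S11134

theorem result {C : Type u} [SmallCategory C] {J : GrothendieckTopology C}
    (O : Sheaf J CommRingCat.{u}) (x : C) :
    ModSite.IsKFlat ((CochainComplex.singleFunctor (ModSite.Mod O) 0).obj (ModSite.freeOn O x)) := by
  apply Groth.Agent.Lib.Helper12.KFlat.isKFlat_of_concentrated _ 0
  · intro q hq
    exact HomologicalComplex.isZero_single_obj_X (ComplexShape.up ℤ) 0 (ModSite.freeOn O x) q hq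
  · exact Groth.Agent.Lib.Helper42.Flat2.isFlat_of_iso O
      (HomologicalComplex.singleObjXSelf (ComplexShape.up ℤ) 0 (ModSite.freeOn O x)).symm
      (Groth.Agent.Lib.Helper42.Flat2.isFlat_freeOn O x)

end Groth.Agent.S11134
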