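import Groth.Statements.S11135
import Mathlib.Algebra.Polynomial.Monic
import Mathlib.Algebra.Polynomial.Degree.Operations
import Mathlib.Tactic.FieldSimp
import Mathlib.Algebra.BigOperators.Pi
import Mathlib.Data.Fintype.Quotient
import Mathlib.Data.Fintype.BigOperators

set_option autoImplicit false
universe u
open InvTh

namespace Groth.Agent.S11135


open Polynomial

section HIC
variable (R : Type*) [CommRing R]

def HIC : Prop :=
  ∀ (n : ℕ) (c : Fin n → R) (a b : R), b ≠ 0 →
    a ^ n + ∑ k : Fin n, c k * a ^ (k : ℕ) * b ^ (n - k) = 0 → b ∣ a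

theorem rel_frac {K : Type*} [Field K] [Algebra R K] (n : ℕ) (c : Fin n → R) (a b : R)
    (hb : algebraMap R K b ≠ 0) :
    (algebraMap R K b) ^ n * ((algebraMap R K a / algebraMap R K b) ^ n +
      ∑ k : Fin n, algebraMap R K (c k) * (algebraMap R K a / algebraMap R K b) ^ (k : ℕ)) =
      algebraMap R K (a ^ n + ∑ k : Fin n, c k * a ^ (k : ℕ) * b ^ (n - k)) := by
  have hbn : (algebraMap R K b) ^ n ≠ 0 := pow_ne_zero _ hb
  simp only [map_add, map_sum, map_mul, map_pow]
  rw [mul_add, Finset.mul_sum]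
  congr 1
  · rw [div_pow, mul_div_cancel₀ _ hbn]
  · apply Finset.sum_congr rfl
    intro k _
    rw [div_pow]
    have hk : (algebraMap R K b) ^ n = (algebraMap R K b) ^ (n - k) * (algebraMap R K b) ^ (k : ℕ) := by
      rw [← pow_add, Nat.sub_add_cancel k.2.le]
    have hbk : (algebraMap R K b) ^ (k : ℕ) ≠ 0 := pow_ne_zero _ hb
    rw [hk]
    field_simp

theorem hic_of_isIntegrallyClosed [IsDomain R] [IsIntegrallyClosed R] : HIC R := by
  intro n c a b hb hrel
  have hbK : algebraMap R (FractionRing R) b ≠ 0 := by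
    rw [Ne, map_eq_zero_iff _ (IsFractionRing.injective R (FractionRing R))]
    exact hb
  have hint : IsIntegral R (algebraMap R (FractionRing R) a / algebraMap R (FractionRing R) b) := by
    refine ⟨X ^ n + ∑ k : Fin n, C (c k) * X ^ (k : ℕ), monic_X_pow_add (degree_sum_fin_lt c), ?_⟩
    have h := rel_frac R (K := FractionRing R) n c a b hbK
    rw [hrel, map_zero] at h
    have h2 := (mul_eq_zero.mp h).resolve_left (pow_ne_zero _ hbK)
    simp only [eval₂_add, eval₂_pow, eval₂_X, eval₂_finset_sum, eval₂_mul, eval₂_C]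
    exact h2
  obtain ⟨y, hy⟩ := IsIntegrallyClosed.isIntegral_iff.mp hint
  refine ⟨y, ?_⟩
  apply IsFractionRing.injective R (FractionRing R)
  rw [map_mul, hy, mul_div_cancel₀ _ hbK]

theorem isIntegrallyClosed_of_hic [IsDomain R] (h : HIC R) : IsIntegrallyClosed R := by
  rw [isIntegrallyClosed_iff (FractionRing R)]
  intro x hx
  obtain ⟨a, b, hb, rfl⟩ := IsFractionRing.div_surjective (A := R) x
  have hb0 : b ≠ 0 := nonZeroDivisors.ne_zero hb
  have hbK : algebraMap R (FractionRing R) b ≠ 0 := by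
    rw [Ne, map_eq_zero_iff _ (IsFractionRing.injective R (FractionRing R))]
    exact hb0
  obtain ⟨p, hp, hpx⟩ := hx
  have hrel := rel_frac R (K := FractionRing R) p.natDegree (fun k => p.coeff k) a b hbK
  have hz : (algebraMap R (FractionRing R) a / algebraMap R (FractionRing R) b) ^ p.natDegree +
      ∑ k : Fin p.natDegree, algebraMap R (FractionRing R) (p.coeff k) *
        (algebraMap R (FractionRing R) a / algebraMap R (FractionRing R) b) ^ (k : ℕ) = 0 := by
    rw [hp.as_sum] at hpx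
    simp only [eval₂_add, eval₂_pow, eval₂_X, eval₂_finset_sum, eval₂_mul, eval₂_C] at hpx
    rw [← hpx, Finset.sum_range]
  rw [hz, mul_zero] at hrel
  have hrel' := (IsFractionRing.injective R (FractionRing R)) (hrel.symm.trans (map_zero _).symm)
  obtain ⟨y, hy⟩ := h _ _ a b hb0 hrel'
  refine ⟨y, ?_⟩
  rw [hy, map_mul, mul_div_cancel_left₀ _ hbK]

end HIC


section Main
variable {ι : Type u} [Fintype ι] {D : ι → Type u} [∀ i, CommRing (D i)] [∀ i, IsDomain (D i)]
  {R : Type u} [CommRing R] {F : Set ((Π i, D i) →+* R)}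
  {A : Subring (Π i, D i)}

theorem mem_nzd_of_forall_ne_zero (x : Π i, D i) (hx : ∀ i, x i ≠ 0) :
    x ∈ nonZeroDivisors (Π i, D i) := by
  rw [mem_nonZeroDivisors_iff_right]
  intro z hz
  funext i
  have := congrFun hz i
  simp only [Pi.mul_apply, Pi.zero_apply] at this
  exact (mul_eq_zero.mp this).resolve_right (hx i)

open Classical in
noncomputable def ind (D : ι → Type u) [∀ i, CommRing (D i)] (T : Set ι) : Π i, D i :=
  fun i => if i ∈ T then 1 else 0

theorem ind_mul_self (T : Set ι) : ind D T * ind D T = ind D T := by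
  funext i
  simp only [Pi.mul_apply, ind]
  split_ifs <;> simp

theorem core_mem
    (hF : ∀ f ∈ F, ∀ s ∈ nonZeroDivisors (Π i, D i), f s ∈ nonZeroDivisors R)
    (hA : ∀ a, a ∈ A ↔ ∀ f ∈ F, ∀ f' ∈ F, f a = f' a)
    (e s a b : Π i, D i) (he : e ∈ A) (ha : a ∈ A) (hb : b ∈ A)
    (hse : s * e = s) (hsb : s * b = a) (hnzd : b + (1 - e) ∈ nonZeroDivisors (Π i, D i)) :
    s ∈ A := by
  rw [hA]
  intro f hf f' hf'
  have hfe : f e = f' e := (hA e).mp he f hf f' hf'
  have hfa : f a = f' a := (hA a).mp ha f hf f' hf'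
  have hfb : f b = f' b := (hA b).mp hb f hf f' hf'
  have h1 : f s * f b = f' s * f b := by
    rw [← map_mul, hsb, hfa, hfb, ← map_mul, hsb]
  have h2 : f s * (1 - f e) = 0 := by
    rw [mul_sub, mul_one, ← map_mul, hse, sub_self]
  have h3 : f' s * (1 - f e) = 0 := by
    rw [hfe, mul_sub, mul_one, ← map_mul, hse, sub_self]
  have h4 : (f s - f' s) * f (b + (1 - e)) = 0 := by
    rw [map_add, map_sub, map_one, mul_add, sub_mul, sub_mul, h1, sub_self, h2, h3, sub_self,
      add_zero]
  have := (mul_right_mem_nonZeroDivisors_eq_zero_iff (hF f hf _ hnzd)).mp h4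
  exact sub_eq_zero.mp this

theorem supp_ind_mem
    (hF : ∀ f ∈ F, ∀ s ∈ nonZeroDivisors (Π i, D i), f s ∈ nonZeroDivisors R)
    (hA : ∀ a, a ∈ A ↔ ∀ f ∈ F, ∀ f' ∈ F, f a = f' a)
    (a : Π i, D i) (ha : a ∈ A) : ind D {i | a i ≠ 0} ∈ A := by
  classical
  set e := ind D {i | a i ≠ 0} with he
  have hae : a * e = a := by
    funext i
    simp only [Pi.mul_apply, he, ind, Set.mem_setOf_eq]
    split_ifs with h
    · rw [mul_one]
    · push Not at h
      rw [h, mul_zero]
  have hnzd : a + (1 - e) ∈ nonZeroDivisors (Π i, D i) := by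
    apply mem_nzd_of_forall_ne_zero
    intro i
    simp only [Pi.add_apply, Pi.sub_apply, Pi.one_apply, he, ind, Set.mem_setOf_eq]
    split_ifs with h
    · simpa using h
    · push Not at h
      simp [h]
  have hee : e * e = e := ind_mul_self _
  rw [hA]
  intro f hf f' hf'
  have hfa : f a = f' a := (hA a).mp ha f hf f' hf'
  have key : ∀ g ∈ F, ∀ g' ∈ F, g a = g' a → g e * (1 - g' e) = 0 := by
    intro g hg g' hg' hga
    have hr1 : g a * g e = g a := by rw [← map_mul, hae]
    have hr2 : g a * g' e = g a := by rw [hga, ← map_mul, hae]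
    have huu : g e * g e = g e := by rw [← map_mul, hee]
    have h4 : (g e * (1 - g' e)) * g (a + (1 - e)) = 0 := by
      rw [map_add, map_sub, map_one]
      have : g e * (1 - g' e) * (g a + (1 - g e)) =
          (g a * g e - g a * g' e * g e) + (g e - g e * g e) * (1 - g' e) := by ring
      rw [this, hr2, hr1, huu, sub_self, sub_self, zero_mul, add_zero]
    exact (mul_right_mem_nonZeroDivisors_eq_zero_iff (hF g hg _ hnzd)).mp h4
  have k1 := key f hf f' hf' hfa
  have k2 := key f' hf' f hf hfa.symm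
  have e1 : f e = f e * f' e := by
    have : f e - f e * f' e = 0 := by rw [← k1]; ring
    exact sub_eq_zero.mp this
  have e2 : f' e = f' e * f e := by
    have : f' e - f' e * f e = 0 := by rw [← k2]; ring
    exact sub_eq_zero.mp this
  exact e1.trans ((mul_comm _ _).trans e2.symm)

def rel (A : Subring (Π i, D i)) (i j : ι) : Prop := ∀ a ∈ A, (a i = 0 ↔ a j = 0)

theorem rel_refl (i : ι) : rel A i i := fun _ _ => Iff.rfl

theorem rel_symm {i j : ι} (h : rel A i j) : rel A j i := fun a ha => (h a ha).symm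

theorem rel_trans {i j k : ι} (h : rel A i j) (h' : rel A j k) : rel A i k :=
  fun a ha => (h a ha).trans (h' a ha)

def relSetoid (A : Subring (Π i, D i)) : Setoid ι :=
  ⟨rel A, ⟨rel_refl, rel_symm, rel_trans⟩⟩

theorem exists_sep
    (hF : ∀ f ∈ F, ∀ s ∈ nonZeroDivisors (Π i, D i), f s ∈ nonZeroDivisors R)
    (hA : ∀ a, a ∈ A ↔ ∀ f ∈ F, ∀ f' ∈ F, f a = f' a)
    (i j : ι) (hij : ¬ rel A i j) :
    ∃ g ∈ A, (∀ i', rel A i i' → g i' = 1) ∧ g j = 0 := by
  classical
  unfold rel at hij
  push Not at hij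
  obtain ⟨a, ha, h⟩ := hij
  have hind := supp_ind_mem hF hA a ha
  rcases h with ⟨h1, h2⟩ | ⟨h1, h2⟩
  · refine ⟨1 - ind D {i | a i ≠ 0}, A.sub_mem A.one_mem hind, ?_, ?_⟩
    · intro i' hi'
      have : a i' = 0 := (hi' a ha).mp h1
      simp [ind, this]
    · simp [ind, h2]
  · refine ⟨ind D {i | a i ≠ 0}, hind, ?_, ?_⟩
    · intro i' hi'
      have : a i' ≠ 0 := fun h0 => h1 ((hi' a ha).mpr h0)
      simp [ind, this]
    · simp [ind, h2]

theorem exists_classInd
    (hF : ∀ f ∈ F, ∀ s ∈ nonZeroDivisors (Π i, D i), f s ∈ nonZeroDivisors R)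
    (hA : ∀ a, a ∈ A ↔ ∀ f ∈ F, ∀ f' ∈ F, f a = f' a) (i : ι) :
    ∃ ε ∈ A, (∀ j, rel A i j → ε j = 1) ∧ (∀ j, ¬ rel A i j → ε j = 0) := by
  classical
  have hsep := fun j (hj : ¬ rel A i j) => exists_sep hF hA i j hj
  let g : ι → (Π i, D i) := fun j => if hj : rel A i j then 1 else (hsep j hj).choose
  have hgA : ∀ j, g j ∈ A := by
    intro j
    simp only [g]
    split_ifs with hj
    · exact A.one_mem
    · exact (hsep j hj).choose_spec.1
  have hg1 : ∀ j i', rel A i i' → g j i' = 1 := by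
    intro j i' hi'
    simp only [g]
    split_ifs with hj
    · rfl
    · exact (hsep j hj).choose_spec.2.1 i' hi'
  have hg0 : ∀ j, ¬ rel A i j → g j j = 0 := by
    intro j hj
    simp only [g, dif_neg hj]
    exact (hsep j hj).choose_spec.2.2
  refine ⟨∏ j, g j, A.prod_mem fun j _ => hgA j, ?_, ?_⟩
  · intro j hj
    rw [Finset.prod_apply]
    exact Finset.prod_eq_one fun k _ => hg1 k j hj
  · intro j hj
    rw [Finset.prod_apply]
    exact Finset.prod_eq_zero (Finset.mem_univ j) (hg0 j hj)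

end Main


section Main2
variable {ι : Type u} [Fintype ι] {D : ι → Type u} [∀ i, CommRing (D i)] [∀ i, IsDomain (D i)]
  [∀ i, IsIntegrallyClosed (D i)]
  {R : Type u} [CommRing R] {F : Set ((Π i, D i) →+* R)}
  {A : Subring (Π i, D i)}

theorem hic_range
    (hF : ∀ f ∈ F, ∀ s ∈ nonZeroDivisors (Π i, D i), f s ∈ nonZeroDivisors R)
    (hA : ∀ a, a ∈ A ↔ ∀ f ∈ F, ∀ f' ∈ F, f a = f' a) (i0 : ι) :
    HIC (((Pi.evalRingHom D i0).comp A.subtype).range) := by
  classical
  intro n cc a b hb hrel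
  obtain ⟨ε, hεA, hε1, hε0⟩ := exists_classInd hF hA i0
  obtain ⟨⟨a', ha'A⟩, ha'⟩ := a.2
  obtain ⟨⟨b', hb'A⟩, hb'⟩ := b.2
  have hc' : ∀ k, ∃ c' : A, c'.1 i0 = (cc k).1 := fun k => (cc k).2
  choose c' hc' using hc'
  have ha0 : a' i0 = a.1 := ha'
  have hb0 : b' i0 = b.1 := hb'
  have hbne : b' i0 ≠ 0 := by
    rw [hb0]
    intro h
    exact hb (Subtype.ext h)
  let G : Π i, D i := a' ^ n + ∑ k : Fin n, (c' k).1 * a' ^ (k : ℕ) * b' ^ (n - k)
  have hGA : G ∈ A :=
    A.add_mem (A.pow_mem ha'A _) (A.sum_mem fun k _ =>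
      A.mul_mem (A.mul_mem (c' k).2 (A.pow_mem ha'A _)) (A.pow_mem hb'A _))
  have hG0 : G i0 = 0 := by
    have := congrArg Subtype.val hrel
    simp only [Subring.coe_add, Subring.coe_pow, AddSubmonoidClass.coe_finset_sum,
      Subring.coe_mul, Subring.coe_zero] at this
    simp only [G, Pi.add_apply, Pi.pow_apply, Finset.sum_apply, Pi.mul_apply, ha0, hb0, hc']
    exact this
  have hGrel : ∀ i', rel A i0 i' → G i' = 0 := fun i' hi' => (hi' G hGA).mp hG0
  have hdvd : ∀ i', rel A i0 i' → b' i' ∣ a' i' := by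
    intro i' hi'
    have hb'i : b' i' ≠ 0 := fun h0 => hbne ((hi' b' hb'A).mpr h0)
    have := hGrel i' hi'
    simp only [G, Pi.add_apply, Pi.pow_apply, Finset.sum_apply, Pi.mul_apply] at this
    exact hic_of_isIntegrallyClosed (D i') n (fun k => (c' k).1 i') (a' i') (b' i') hb'i this
  let s : Π i, D i := fun i' => if h : rel A i0 i' then (hdvd i' h).choose else 0
  have hs_spec : ∀ i' (h : rel A i0 i'), a' i' = b' i' * s i' := by
    intro i' h
    simp only [s, dif_pos h]
    exact (hdvd i' h).choose_spec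
  have hs0 : ∀ i', ¬ rel A i0 i' → s i' = 0 := by
    intro i' h
    simp only [s, dif_neg h]
  have hsε : s * ε = s := by
    funext i'
    by_cases h : rel A i0 i'
    · simp [hε1 i' h]
    · simp [hs0 i' h]
  have hsb : s * (ε * b') = ε * a' := by
    funext i'
    by_cases h : rel A i0 i'
    · simp only [Pi.mul_apply]
      rw [hε1 i' h, one_mul, one_mul, hs_spec i' h, mul_comm]
    · simp [hs0 i' h, hε0 i' h]
  have hnzd : ε * b' + (1 - ε) ∈ nonZeroDivisors (Π i, D i) := by
    apply mem_nzd_of_forall_ne_zero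
    intro i'
    by_cases h : rel A i0 i'
    · have hb'i : b' i' ≠ 0 := fun h0 => hbne ((h b' hb'A).mpr h0)
      simpa [hε1 i' h] using hb'i
    · simp [hε0 i' h]
  have hsA : s ∈ A :=
    core_mem hF hA ε s (ε * a') (ε * b') hεA (A.mul_mem hεA ha'A) (A.mul_mem hεA hb'A) hsε hsb hnzd
  refine ⟨⟨s i0, ⟨⟨s, hsA⟩, rfl⟩⟩, Subtype.ext ?_⟩
  rw [Subring.coe_mul, ← ha0, ← hb0]
  exact hs_spec i0 (rel_refl i0)

end Main2

/-- Suppose S is the product of a finite family of integrally closed domains (a finite product of normal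
domains), R is any commutative ring, and F is a family of ring maps S → R each carrying
non-zero-divisors of S to non-zero-divisors of R. Then the subring A of S on which all members of F
coincide (a ∈ A iff f(a) = f'(a) for all f, f' in F) is ring-isomorphic to a product of finitely
many integrally closed domains. -/
theorem result {ι : Type u} [Fintype ι] (D : ι → Type u)
    [∀ i, CommRing (D i)] [∀ i, IsDomain (D i)] [∀ i, IsIntegrallyClosed (D i)]
    (R : Type u) [CommRing R] (F : Set ((Π i, D i) →+* R))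
    (hF : ∀ f ∈ F, ∀ s ∈ nonZeroDivisors (Π i, D i), f s ∈ nonZeroDivisors R)
    (A : Subring (Π i, D i)) (hA : ∀ a, a ∈ A ↔ ∀ f ∈ F, ∀ f' ∈ F, f a = f' a) :
    ∃ (κ : Type u) (_ : Fintype κ) (E : κ → Type u) (_ : ∀ j, CommRing (E j)) (_ : ∀ j, IsDomain (E j))
      (_ : ∀ j, IsIntegrallyClosed (E j)), Nonempty (A ≃+* Π j, E j) := by
  classical
  let st : Setoid ι := relSetoid A
  have : Fintype (Quotient st) := Quotient.fintype st
  let ev : ∀ c : Quotient st, A →+* D c.out := fun c => (Pi.evalRingHom D c.out).comp A.subtype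
  have hrel_out : ∀ i : ι, rel A (Quotient.out (⟦i⟧ : Quotient st)) i :=
    fun i => Quotient.mk_out (s := st) i
  have hrel_iff : ∀ c c' : Quotient st, rel A c.out c'.out ↔ c = c' := by
    intro c c'
    constructor
    · intro h
      have : (⟦c.out⟧ : Quotient st) = ⟦c'.out⟧ := Quotient.sound h
      rwa [Quotient.out_eq, Quotient.out_eq] at this
    · rintro rfl
      exact rel_refl _
  refine ⟨Quotient st, inferInstance, fun c => (ev c).range, inferInstance, inferInstance,
    fun c => isIntegrallyClosed_of_hic _ (hic_range hF hA c.out), ⟨?_⟩⟩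
  let Ψ : A →+* Π c : Quotient st, (ev c).range := Pi.ringHom fun c => (ev c).rangeRestrict
  refine RingEquiv.ofBijective Ψ ⟨?_, ?_⟩
  · rw [injective_iff_map_eq_zero]
    intro a ha
    apply Subtype.ext
    funext i
    have h1 : a.1 (Quotient.out (⟦i⟧ : Quotient st)) = 0 := by
      have := congrArg Subtype.val (congrFun ha ⟦i⟧)
      exact this
    exact ((hrel_out i) a.1 a.2).mp h1
  · intro y
    have hy : ∀ c, ∃ a : A, a.1 c.out = (y c).1 := fun c => (y c).2
    choose a ha using hy
    have hε := fun c : Quotient st => exists_classInd hF hA c.out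
    choose ε hεA hε1 hε0 using hε
    refine ⟨⟨∑ c, ε c * (a c).1, A.sum_mem fun c _ => A.mul_mem (hεA c) (a c).2⟩, ?_⟩
    funext c'
    apply Subtype.ext
    change (∑ c, ε c * (a c).1) c'.out = (y c').1
    rw [Finset.sum_apply, Finset.sum_eq_single c']
    · rw [Pi.mul_apply, hε1 c' _ (rel_refl _), one_mul, ha]
    · intro c _ hc
      rw [Pi.mul_apply, hε0 c _ (fun h => hc ((hrel_iff c c').mp h)), zero_mul]
    · intro h
      exact absurd (Finset.mem_univ c') h

end Groth.Agent.S11135
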