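import Groth.Statements.S11136
import Mathlib

set_option autoImplicit false
universe u v
open InvTh

namespace Groth.Agent.S11136

section topology

variable {α : Type*} [TopologicalSpace α]

lemma isOpen_connectedComponent_of_noetherian [TopologicalSpace.NoetherianSpace α] (x : α) :
    IsOpen (connectedComponent x) := by
  have hfin : (irreducibleComponents α).Finite :=
    TopologicalSpace.NoetherianSpace.finite_irreducibleComponents
  have hcompl : (connectedComponent x)ᶜ =
      ⋃₀ {Z ∈ irreducibleComponents α | Disjoint Z (connectedComponent x)} := by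
    ext z
    constructor
    · intro hz
      refine ⟨irreducibleComponent z, ⟨irreducibleComponent_mem_irreducibleComponents z, ?_⟩,
        mem_irreducibleComponent⟩
      rw [Set.disjoint_left]
      intro w hwZ hwC
      apply hz
      have hpre : IsPreconnected (irreducibleComponent z) :=
        isIrreducible_irreducibleComponent.isPreirreducible.isPreconnected
      have h1 : irreducibleComponent z ⊆ connectedComponent w :=
        hpre.subset_connectedComponent hwZ
      rw [connectedComponent_eq hwC]
      exact h1 mem_irreducibleComponent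
    · rintro ⟨Z, ⟨-, hZ⟩, hzZ⟩ hzC
      exact Set.disjoint_left.1 hZ hzZ hzC
  rw [← isClosed_compl_iff, hcompl]
  rw [Set.sUnion_eq_biUnion]
  refine Set.Finite.isClosed_biUnion (hfin.subset (fun Z hZ => hZ.1)) ?_
  intro Z hZ
  exact isClosed_of_mem_irreducibleComponents Z hZ.1

lemma image_connectedComponent_of_inverse (f f' : α → α) (hf : Continuous f) (hf' : Continuous f')
    (h1 : ∀ z, f (f' z) = z) (h2 : ∀ z, f' (f z) = z) (x : α) :
    f '' connectedComponent x = connectedComponent (f x) := by
  apply Set.Subset.antisymm (hf.image_connectedComponent_subset x)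
  intro z hz
  refine ⟨f' z, ?_, h1 z⟩
  have := hf'.image_connectedComponent_subset (f x) ⟨z, hz, rfl⟩
  rwa [h2] at this

end topology

open Pointwise in
/-- Let a finite group G act on a Noetherian commutative ring R by ring automorphisms, with ring of
invariants A (A → R injective with image the fixed elements). When the prime spectrum of A is
connected, any two connected components of Spec R are exchanged by some element of G: for all points
x, y of Spec R there is g in G whose induced self-map of Spec R carries the connected component of x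
onto the connected component of y. -/
theorem result
    (A : Type u) (R : Type v) [CommRing A] [CommRing R] [Algebra A R] [IsNoetherianRing R]
    (G : Type u) [Group G] [Finite G] [MulSemiringAction G R] [SMulCommClass G A R]
    [Algebra.IsInvariant A R G] [FaithfulSMul A R]
    [ConnectedSpace (PrimeSpectrum A)] (x y : PrimeSpectrum R) :
    ∃ g : G, PrimeSpectrum.comap (MulSemiringAction.toRingHom G R g) '' connectedComponent x =
      connectedComponent y := by
  classical
  let σ : G → PrimeSpectrum R → PrimeSpectrum R := fun g =>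
    PrimeSpectrum.comap (MulSemiringAction.toRingHom G R g)
  let π : PrimeSpectrum R → PrimeSpectrum A := PrimeSpectrum.comap (algebraMap A R)
  have hσc : ∀ g, Continuous (σ g) := fun g => PrimeSpectrum.continuous_comap _
  have hσmul : ∀ g h z, σ g (σ h z) = σ (h * g) z := by
    intro g h z
    apply PrimeSpectrum.ext
    ext r
    simp [σ, mul_smul]
  have hσone : ∀ z, σ 1 z = z := by
    intro z
    apply PrimeSpectrum.ext
    ext r
    simp [σ]
  have hπσ : ∀ g z, π (σ g z) = π z := by
    intro g z
    apply PrimeSpectrum.ext
    ext a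
    simp [σ, π, smul_algebraMap]
  have hint : Algebra.IsIntegral A R := Algebra.IsInvariant.isIntegral A R G
  have hπclosed : IsClosedMap π :=
    PrimeSpectrum.isClosedMap_comap_of_isIntegral _ (algebraMap_isIntegral_iff.2 hint)
  have hπsurj : Function.Surjective π :=
    Algebra.IsIntegral.comap_surjective A R
  have htrans : ∀ z z' : PrimeSpectrum R, π z = π z' → ∃ g, z' = σ g z := by
    intro z z' h
    have h' : z.asIdeal.under A = z'.asIdeal.under A := congrArg PrimeSpectrum.asIdeal h
    obtain ⟨g, hg⟩ := Algebra.IsInvariant.exists_smul_of_under_eq A R G z.asIdeal z'.asIdeal h'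
    refine ⟨g⁻¹, PrimeSpectrum.ext ?_⟩
    rw [hg, Ideal.pointwise_smul_eq_comap]
    rfl
  -- the saturated clopen set
  let C := connectedComponent y
  have hC : IsClopen C := ⟨isClosed_connectedComponent, isOpen_connectedComponent_of_noetherian y⟩
  let S : Set (PrimeSpectrum R) := ⋃ g : G, (σ g) ⁻¹' C
  have hS : IsClopen S := isClopen_iUnion_of_finite (fun g => hC.preimage (hσc g))
  have hSstable : ∀ g z, z ∈ S → σ g z ∈ S := by
    intro g z hz
    obtain ⟨h, hh⟩ := Set.mem_iUnion.1 hz
    refine Set.mem_iUnion.2 ⟨g⁻¹ * h, ?_⟩
    show σ (g⁻¹ * h) (σ g z) ∈ C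
    rw [hσmul, ← mul_assoc, mul_inv_cancel, one_mul]
    exact hh
  have hyS : y ∈ S := Set.mem_iUnion.2 ⟨1, by
    show σ 1 y ∈ C
    rw [hσone]; exact mem_connectedComponent⟩
  have hcompl : (π '' S)ᶜ = π '' Sᶜ := by
    ext t
    constructor
    · intro ht
      obtain ⟨z, rfl⟩ := hπsurj t
      exact ⟨z, fun hz => ht ⟨z, hz, rfl⟩, rfl⟩
    · rintro ⟨z, hz, rfl⟩ ⟨z', hz', hzz'⟩
      obtain ⟨g, rfl⟩ := htrans z' z hzz'
      exact hz (hSstable g z' hz')
  have hclopen : IsClopen (π '' S) := by
    refine ⟨hπclosed _ hS.1, ?_⟩
    rw [← isClosed_compl_iff, hcompl]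
    exact hπclosed _ hS.compl.1
  have huniv : π '' S = Set.univ := hclopen.eq_univ ⟨π y, y, hyS, rfl⟩
  have hxS : x ∈ S := by
    have : π x ∈ π '' S := huniv ▸ Set.mem_univ _
    obtain ⟨z, hz, hzx⟩ := this
    obtain ⟨g, rfl⟩ := htrans z x hzx
    exact hSstable g z hz
  obtain ⟨g, hg⟩ := Set.mem_iUnion.1 hxS
  refine ⟨g, ?_⟩
  have himg := image_connectedComponent_of_inverse (σ g) (σ g⁻¹) (hσc g) (hσc g⁻¹)
    (fun z => by rw [hσmul, inv_mul_cancel, hσone]) (fun z => by rw [hσmul, mul_inv_cancel, hσone]) x
  show σ g '' connectedComponent x = connectedComponent y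
  rw [himg]
  exact (connectedComponent_eq hg).symm

end Groth.Agent.S11136
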