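import Groth.Statements.S11142
import Mathlib

set_option autoImplicit false
universe u
open CategoryTheory AlgebraicGeometry
open FlatMor

namespace Groth.Agent.S11142

section topology

variable {α : Type*} [TopologicalSpace α]

/-- generic point of the irreducible component through `x` -/
lemma exists_generic (x : α) [QuasiSober α] :
    ∃ ξ : α, IsGenericPoint ξ (irreducibleComponent x) :=
  ⟨_, isIrreducible_irreducibleComponent.isGenericPoint_genericPoint isClosed_irreducibleComponent⟩

lemma maximal_of_generic [T0Space α] (x ξ : α) (h : IsGenericPoint ξ (irreducibleComponent x)) :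
    ∀ ξ' : α, ξ' ⤳ ξ → ξ' = ξ := by
  intro ξ' hs
  have h1 : irreducibleComponent x ⊆ closure {ξ'} := by
    rw [← h.def]
    exact closure_minimal (Set.singleton_subset_iff.2 hs.mem_closure) isClosed_closure
  have h2 : closure {ξ'} = irreducibleComponent x :=
    eq_irreducibleComponent isIrreducible_singleton.closure.isPreirreducible h1
  have h3 : ξ ⤳ ξ' := h.specializes (h2 ▸ subset_closure (Set.mem_singleton ξ'))
  exact (hs.antisymm h3).eq

end topology

lemma mem_of_maximal (Y : Scheme.{u}) [IsLocallyNoetherian Y] (y : Y)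
    (hy : ∀ y' : Y, y' ⤳ y → y' = y) (U : Set Y) (hUo : IsOpen U) (hU : Dense U) : y ∈ U := by
  obtain ⟨_, ⟨V, hV : IsAffineOpen V, rfl⟩, hyV, -⟩ :=
    Y.isBasis_affineOpens.exists_subset_of_mem_open (Set.mem_univ y) isOpen_univ
  have : IsNoetherianRing Γ(Y, V) := IsLocallyNoetherian.component_noetherian ⟨V, hV⟩
  have : TopologicalSpace.NoetherianSpace (V : Set Y) := noetherianSpace_of_isAffineOpen V hV
  have : QuasiSober (V : Set Y) := V.isOpenEmbedding.quasiSober
  let y' : (V : Set Y) := ⟨y, hyV⟩
  obtain ⟨ξ, hξ⟩ := exists_generic y'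
  have h1 : ξ ⤳ y' := hξ.specializes mem_irreducibleComponent
  have h2 : (ξ : Y) ⤳ y := h1.map continuous_subtype_val
  have h3 : ξ = y' := Subtype.ext (hy _ h2)
  rw [h3] at hξ
  obtain ⟨o, ho, hne, hoZ⟩ :=
    TopologicalSpace.NoetherianSpace.exists_isOpen_nonempty_subset_irreducibleComponent
      (irreducibleComponent y') (irreducibleComponent_mem_irreducibleComponents y')
  have hO : IsOpen (Subtype.val '' o : Set Y) := V.isOpen.isOpenMap_subtype_val _ ho
  obtain ⟨z, ⟨w, hwo, rfl⟩, hzU⟩ := hU.inter_open_nonempty _ hO (hne.image _)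
  have h4 : y' ⤳ w := hξ.specializes (hoZ hwo)
  have h5 : y ⤳ (w : Y) := h4.map continuous_subtype_val
  exact h5.mem_open hUo hzU

/-- For a flat morphism f : X → Y between locally Noetherian schemes, the preimage under f of any dense
open subset of Y is dense in X. -/
theorem result (X Y : Scheme.{u}) [IsLocallyNoetherian X]
    [IsLocallyNoetherian Y] (f : X ⟶ Y) [Flat f] (U : Y.Opens) (hU : Dense (U : Set Y)) :
    Dense ((f ⁻¹ᵁ U : X.Opens) : Set X) := by
  intro x
  obtain ⟨ξ, hξ⟩ := exists_generic x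
  have hmax := maximal_of_generic x ξ hξ
  have hfmax : ∀ y' : Y, y' ⤳ f ξ → y' = f ξ := by
    intro y' hy'
    obtain ⟨ξ', hξ', rfl⟩ := Flat.generalizingMap f hy'
    rw [hmax ξ' hξ']
  have hmem : f ξ ∈ (U : Set Y) := mem_of_maximal Y (f ξ) hfmax U U.isOpen hU
  have hx : ξ ⤳ x := hξ.specializes mem_irreducibleComponent
  have hmem' : ξ ∈ ((f ⁻¹ᵁ U : X.Opens) : Set X) := hmem
  exact closure_mono (Set.singleton_subset_iff.2 hmem') hx.mem_closure

end Groth.Agent.S11142
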