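import Groth.Statements.S11147
import Mathlib.RingTheory.Unramified.Field
import Mathlib.FieldTheory.PurelyInseparable.PerfectClosure
import Mathlib.LinearAlgebra.TensorProduct.Basis
import Mathlib.RingTheory.Kaehler.Basic
import Mathlib.FieldTheory.IntermediateField.Adjoin.Algebra

set_option autoImplicit false
universe u
open FrobAlg

namespace Groth.Agent.S11147

open TensorProduct

section
variable (p : ℕ) [Fact p.Prime] (k K : Type u) [Field k]
    [Field K] [Algebra k K] [CharP k p] [CharP K p]

theorem relFrob_tmul (b : K) (t : Twist p k) :
    relFrob p k K (b ⊗ₜ[k] t) = b ^ p * algebraMap k K ((toTwist p k).symm t) := rfl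

theorem D_relFrob (t : BaseChange p k K) : KaehlerDifferential.D k K (relFrob p k K t) = 0 := by
  induction t using TensorProduct.induction_on with
  | zero => simp
  | tmul b t =>
    rw [relFrob_tmul, Derivation.leibniz, Derivation.map_algebraMap, smul_zero, zero_add,
      Derivation.leibniz_pow, ← Nat.cast_smul_eq_nsmul K p, CharP.cast_eq_zero K p, zero_smul,
      smul_zero]
  | add x y hx hy => rw [map_add, map_add, hx, hy, add_zero]

theorem relFrob_sum {ι : Type*} (b : ι → K) (c : ι →₀ Twist p k) :
    relFrob p k K (c.sum fun i n => b i ⊗ₜ[k] n) =
      c.sum fun i n => ((toTwist p k).symm n : k) • (b i) ^ p := by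
  rw [Finsupp.sum, map_sum, Finsupp.sum]
  refine Finset.sum_congr rfl fun i _ => ?_
  rw [relFrob_tmul, Algebra.smul_def, mul_comm]

end

/-- Let p be a prime and k ⊆ K fields of characteristic p such that K is finitely generated over k as a
field. Then the relative Frobenius ring homomorphism K ⊗_{k,Frob} k → K, b ⊗ a ↦ b^p a (the
Radu–André homomorphism of k → K), is bijective exactly when K is algebraic over k and every element
of K is separable over k. -/
theorem result (p : ℕ) [Fact p.Prime] (k K : Type u) [Field k]
    [Field K] [Algebra k K] [CharP k p] [CharP K p] (hfg : (⊤ : IntermediateField k K).FG) :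
    Function.Bijective (FrobAlg.relFrob p k K) ↔ Algebra.IsSeparable k K := by
  have hp : p.Prime := Fact.out
  constructor
  · intro hbij
    have hsub : Subsingleton (Ω[K⁄k]) := by
      rw [← Submodule.subsingleton_iff K, ← subsingleton_iff_bot_eq_top,
        ← KaehlerDifferential.span_range_derivation k K, eq_comm, Submodule.span_eq_bot]
      rintro _ ⟨x, rfl⟩
      obtain ⟨t, rfl⟩ := hbij.2 x
      exact D_relFrob p k K t
    have : Algebra.FormallyUnramified k K := ⟨hsub⟩
    have : Algebra.EssFiniteType k K := IntermediateField.fg_top_iff.mp hfg
    exact Algebra.FormallyUnramified.isSeparable k K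
  · intro hsep
    have : ExpChar k p := ExpChar.prime hp
    let b := Module.Free.chooseBasis k K
    have hli := b.linearIndependent.map_pow_expChar_pow_of_isSeparable p 1
    have hspan := Field.span_map_pow_expChar_pow_eq_top_of_isSeparable p 1 b.span_eq
    simp only [pow_one] at hli hspan
    constructor
    · rw [injective_iff_map_eq_zero]
      intro t ht
      obtain ⟨c, rfl⟩ := TensorProduct.eq_repr_basis_left b t
      rw [relFrob_sum] at ht
      have hc : ∀ i, c i = 0 := by
        intro i
        have := linearIndependent_iff.mp hli (c.mapRange (toTwist p k).symm (map_zero _)) (by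
          rw [Finsupp.linearCombination_apply, Finsupp.sum_mapRange_index (by simp)]
          exact ht)
        have := DFunLike.congr_fun this i
        simpa using this
      have : c = 0 := Finsupp.ext hc
      rw [this, Finsupp.sum_zero_index]
    · intro x
      have hx : x ∈ Submodule.span k (Set.range fun i => b i ^ p) := hspan ▸ Submodule.mem_top
      rw [← Set.image_univ, Finsupp.mem_span_image_iff_linearCombination] at hx
      obtain ⟨l, -, rfl⟩ := hx
      refine ⟨(l.mapRange (toTwist p k) (map_zero _)).sum fun i n => b i ⊗ₜ[k] n, ?_⟩
      rw [relFrob_sum, Finsupp.sum_mapRange_index (by simp), Finsupp.linearCombination_apply]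
      simp

end Groth.Agent.S11147
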