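import Groth.Statements.S11161
import Groth.Agent.Lib.Helper62.Coresol
import Groth.Agent.Lib.Helper62.LiftComplex

set_option autoImplicit false
universe w w' v v' u u'
open CategoryTheory CategoryTheory.Limits
open CohDer

namespace Groth.Agent.S11161

/-- Let ι : A' ⥤ A be an exact fully faithful functor of abelian categories whose essential image is
closed under extensions, and suppose every object of A' admits a monomorphism into an object of A'
whose image in A is injective. Then every object Z of D(A) with H^i(Z) = 0 for i < a and all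
cohomology objects in the essential image of ι is isomorphic to the image under D(A') ⥤ D(A) of a
complex I of objects of A', zero in degrees < a, whose terms are injective in A. -/
theorem result {A' : Type u'} [Category.{v'} A'] [Abelian A'] [HasDerivedCategory.{w'} A']
    {A : Type u} [Category.{v} A] [Abelian A] [HasDerivedCategory.{w} A]
    (ι : A' ⥤ A) [ι.Additive] [PreservesFiniteLimits ι] [PreservesFiniteColimits ι] [ι.Full] [ι.Faithful]
    (hext : ∀ S : ShortComplex A, S.ShortExact → ι.essImage S.X₁ → ι.essImage S.X₃ → ι.essImage S.X₂)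
    (hinj : ∀ X' : A', ∃ (Y' : A') (i : X' ⟶ Y'), Mono i ∧ Injective (ι.obj Y'))
    (Z : DerivedCategory A) (a : ℤ) [Z.IsGE a]
    (hZ : ∀ i : ℤ, ι.essImage ((DerivedCategory.homologyFunctor A i).obj Z)) :
    ∃ (I : CochainComplex A' ℤ), I.IsStrictlyGE a ∧ (∀ n : ℤ, Injective (ι.obj (I.X n))) ∧
      Nonempty (ι.mapDerivedCategory.obj (DerivedCategory.Q.obj I) ≅ Z) := by
  obtain ⟨K, hK, ⟨e⟩⟩ := Z.exists_iso_Q_obj_of_isGE a
  have hP : ∀ i, ι.essImage (K.homology i) := fun i =>
    (ι.essImage).prop_of_iso ((DerivedCategory.homologyFunctor A i).mapIso e ≪≫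
      (DerivedCategory.homologyFunctorFactors A i).app K) (hZ i)
  have hd : ∀ i < a, IsZero (K.homology i) := fun i hi =>
    ShortComplex.isZero_homology_of_isZero_X₂ _ (K.isZero_of_isStrictlyGE a i hi)
  let K'' : ObjectProperty A := fun X => ι.essImage X ∧ Injective X
  have : K''.IsClosedUnderIsomorphisms :=
    ⟨fun {X Y} e h => ⟨(ι.essImage).prop_of_iso e h.1, by
      have := h.2
      exact Injective.of_iso e inferInstance⟩⟩
  have hsub : K'' ≤ ι.essImage := fun X h => h.1
  have h1 : ∀ ⦃X' X : A⦄ (u : X' ⟶ X), ι.essImage X' → Mono u →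
      ∃ (B : A) (v : X ⟶ B), K'' B ∧ Mono (u ≫ v) := by
    intro X' X u hX' hu
    obtain ⟨Y', i, hi, hY'⟩ := hinj hX'.witness
    have : Mono (ι.map i) := inferInstance
    have hg : Mono (hX'.getIso.inv ≫ ι.map i) := mono_comp _ _
    refine ⟨ι.obj Y', Injective.factorThru (hX'.getIso.inv ≫ ι.map i) u,
      ⟨ι.obj_mem_essImage Y', hY'⟩, ?_⟩
    rw [Injective.comp_factorThru]
    exact hg
  have h2 : ∀ ⦃X Y : A⦄ (u : X ⟶ Y), ι.essImage X → ι.essImage Y → Mono u →
      ι.essImage (cokernel u) := by
    intro X Y u hX hY _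
    let φ := ι.preimage (hX.getIso.hom ≫ u ≫ hY.getIso.inv)
    have e1 : cokernel u ≅ cokernel (ι.map φ) :=
      cokernel.mapIso u (ι.map φ) hX.getIso.symm hY.getIso.symm (by
        rw [ι.map_preimage]
        simp)
    exact (ι.essImage).prop_of_iso ((PreservesCokernel.iso ι φ) ≪≫ e1.symm)
      (ι.obj_mem_essImage _)
  have h3 : ∀ ⦃B B' : A⦄, K'' B → K'' B' → K'' (B ⨿ B') := by
    intro B B' hB hB'
    refine ⟨?_, ?_⟩
    · exact (ι.essImage).prop_of_iso ((PreservesColimitPair.iso ι _ _).symm ≪≫
        coprod.mapIso hB.1.getIso hB'.1.getIso) (ι.obj_mem_essImage _)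
    · have := hB.2
      have := hB'.2
      exact Injective.of_iso (biprod.isoCoprod B B') inferInstance
  obtain ⟨L, f, hL, hL0, hf⟩ := Groth.Agent.Lib.Helper62.Resol.exists_coresolution
    ι.essImage K'' hsub h1 h2 h3 K hP a hd
  have hess : ∀ i, ι.essImage (L.X i) := fun i => by
    by_cases hi : a ≤ i
    · exact (hL i hi).1
    · exact Groth.Agent.Lib.Helper62.LiftComplex.essImage_of_isZero ι (hL0 i (by lia))
  let I := Groth.Agent.Lib.Helper62.LiftComplex.lift ι L hess
  let eI := Groth.Agent.Lib.Helper62.LiftComplex.liftIso ι L hess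
  have hXi : ∀ n, ι.obj (I.X n) ≅ L.X n := fun n => (hess n).getIso
  refine ⟨I, ?_, fun n => ?_, ⟨?_⟩⟩
  · rw [CochainComplex.isStrictlyGE_iff]
    intro i hi
    exact Groth.Agent.Lib.Helper62.LiftComplex.isZero_of_isZero_obj ι
      (IsZero.of_iso (hL0 i hi) (hXi i))
  · by_cases hn : a ≤ n
    · have := (hL n hn).2
      exact Injective.of_iso (hXi n).symm inferInstance
    · have hz : IsZero (L.X n) := hL0 n (by lia)
      have := hz.injective
      exact Injective.of_iso (hXi n).symm inferInstance
  · have : IsIso (DerivedCategory.Q.map f) := (DerivedCategory.isIso_Q_map_iff_quasiIso A f).2 hf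
    exact ι.mapDerivedCategoryFactors.app I ≪≫ DerivedCategory.Q.mapIso eI ≪≫
      (asIso (DerivedCategory.Q.map f)).symm ≪≫ e.symm

end Groth.Agent.S11161
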