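import Groth.Statements.S11165
import Groth.Agent.S11319
import Groth.Agent.S4456
import Groth.Agent.S0028

set_option autoImplicit false
universe u
open CategoryTheory CategoryTheory.Limits AlgebraicGeometry
open Coherent

namespace Groth.Agent.S11165

open CategoryTheory CategoryTheory.Limits AlgebraicGeometry

/-- an O-module whose underlying abelian sheaf is zero is zero -/
lemma isZero_of_isZero_toAb {Y : Scheme.{u}} (N : Y.Modules) (h : IsZero (Coh.toAb N)) :
    IsZero N := by
  have := Groth.Agent.S11319.additive_toAbF Y
  have : (Groth.Agent.S11319.toAbF Y).Faithful :=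
    inferInstanceAs (SheafOfModules.toSheaf.{u} Y.ringCatSheaf).Faithful
  rw [IsZero.iff_id_eq_zero]
  apply (Groth.Agent.S11319.toAbF Y).map_injective
  rw [CategoryTheory.Functor.map_id, CategoryTheory.Functor.map_zero]
  exact (IsZero.iff_id_eq_zero _).1 h



/-- Let f : X ⟶ Y be a separated morphism of schemes, U an open of X on which f restricts to an affine
morphism, i : U ⟶ X the inclusion and F a quasi-coherent O_X-module. Then i_*(F|_U) is acyclic for
f_*: its higher direct images R^j f_* vanish for j > 0. (The binder asserting injective resolutions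
of O_X-modules always holds.) -/
theorem result {X Y : Scheme.{u}} (f : X ⟶ Y) [IsSeparated f]
    (U : X.Opens) [IsAffineHom (U.ι ≫ f)] (F : X.Modules) (hF : Coh.IsQCoh F)
    [HasInjectiveResolutions X.Modules] (j : ℕ) (hj : 0 < j) :
    IsZero ((Coh.Rpush f j).obj ((Scheme.Modules.pushforward U.ι).obj ((Scheme.Modules.restrictFunctor U.ι).obj F))) := by
  apply isZero_of_isZero_toAb
  obtain ⟨e⟩ := Groth.Agent.S11319.result f
    ((Scheme.Modules.pushforward U.ι).obj ((Scheme.Modules.restrictFunctor U.ι).obj F)) j
  refine IsZero.of_iso ?_ e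
  have : IsAffineHom U.ι := IsAffineHom.of_comp U.ι f
  have : Coh.IsQCoh F := hF
  have : Coh.IsQCoh ((Scheme.Modules.restrictFunctor U.ι).obj F) :=
    Scheme.Modules.isQuasicoherent_restrictFunctor U.ι F
  obtain ⟨e2⟩ := Groth.Agent.S4456.result U.ι f ((Scheme.Modules.restrictFunctor U.ι).obj F) j
  refine IsZero.of_iso ?_ e2
  exact Groth.Agent.S0028.result (U.ι ≫ f) _ j hj

end Groth.Agent.S11165
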