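import Groth.Statements.S11174
import Mathlib.RingTheory.Length
import Mathlib.RingTheory.FiniteLength
import Mathlib.RingTheory.HopkinsLevitzki
import Mathlib.RingTheory.Filtration
import Mathlib.LinearAlgebra.LeftExact
import Mathlib.RingTheory.SimpleModule.Basic
import Mathlib.RingTheory.LocalRing.Quotient

set_option autoImplicit false
universe u
open CategoryTheory
open InjHull

namespace Groth.Agent.S11174

open IsLocalRing

variable {A : Type u} [CommRing A] (I : Type u) [AddCommGroup I] [Module A I]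


/-- length of the restriction exact sequence -/
lemma length_hom_eq {N : Type u} [AddCommGroup N] [Module A N] (N' : Submodule A N) :
    Module.length A (N →ₗ[A] I) =
      Module.length A ((N ⧸ N') →ₗ[A] I) +
        Module.length A (LinearMap.range (LinearMap.lcomp A I N'.subtype)) := by
  have hex : Function.Exact (LinearMap.lcomp A I N'.mkQ) (LinearMap.lcomp A I N'.subtype) :=
    LinearMap.exact_lcomp_of_exact_of_surjective I (LinearMap.exact_subtype_mkQ N') (Submodule.mkQ_surjective N')
  have hinj : Function.Injective (LinearMap.lcomp A I N'.mkQ) :=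
    LinearMap.lcomp_injective_of_surjective _ (Submodule.mkQ_surjective N')
  have hex' : Function.Exact (LinearMap.lcomp A I N'.mkQ)
      (LinearMap.lcomp A I N'.subtype).rangeRestrict := by
    intro x
    rw [← hex x]
    constructor
    · intro h
      have := congrArg Subtype.val h
      simpa using this
    · intro h
      ext1
      simpa using h
  exact Module.length_eq_add_of_exact _ _ hinj (LinearMap.surjective_rangeRestrict _) hex'


instance simple_resField [IsLocalRing A] : IsSimpleModule A (ResidueField A) :=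
  isSimpleModule_iff_quot_maximal.mpr ⟨maximalIdeal A, inferInstance, ⟨LinearEquiv.refl A _⟩⟩

lemma simple_equiv_resField [IsLocalRing A] (S : Type u) [AddCommGroup S] [Module A S]
    [IsSimpleModule A S] : Nonempty (S ≃ₗ[A] ResidueField A) := by
  obtain ⟨J, hJ, ⟨e⟩⟩ := isSimpleModule_iff_quot_maximal.mp (inferInstance : IsSimpleModule A S)
  have : J = maximalIdeal A := IsLocalRing.eq_maximalIdeal hJ
  subst this
  exact ⟨e⟩

lemma length_hom_simple [IsLocalRing A]
    (hb : Nonempty ((ResidueField A →ₗ[A] I) ≃ₗ[A] ResidueField A))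
    (S : Type u) [AddCommGroup S] [Module A S] [IsSimpleModule A S] :
    Module.length A (S →ₗ[A] I) = 1 := by
  obtain ⟨e⟩ := simple_equiv_resField (A := A) S
  obtain ⟨e'⟩ := hb
  have e2 : (S →ₗ[A] I) ≃ₗ[A] ResidueField A :=
    (LinearEquiv.arrowCongr e (LinearEquiv.refl A I)).trans e'
  rw [e2.length_eq]
  exact Module.length_eq_one A _


lemma length_hom_le [IsLocalRing A]
    (hb : Nonempty ((ResidueField A →ₗ[A] I) ≃ₗ[A] ResidueField A))
    {N : Type u} [AddCommGroup N] [Module A N] (hN : IsFiniteLength A N) :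
    Module.length A (N →ₗ[A] I) ≤ Module.length A N := by
  induction hN with
  | of_subsingleton =>
    rw [Module.length_eq_zero]
    exact bot_le
  | @of_simple_quotient M _ _ N' _ hN' ih =>
    rw [length_hom_eq I N', length_hom_simple I hb,
      Module.length_eq_add_of_exact N'.subtype N'.mkQ (Submodule.subtype_injective _)
        (Submodule.mkQ_surjective _) (LinearMap.exact_subtype_mkQ N'),
      Module.length_eq_one A (M ⧸ N'), add_comm]
    gcongr
    exact (Module.length_le_of_injective (Submodule.subtype _) (Submodule.subtype_injective _)).trans ih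


lemma restrict_surjective [IsLocalRing A]
    (hb : Nonempty ((ResidueField A →ₗ[A] I) ≃ₗ[A] ResidueField A))
    {N : Type u} [AddCommGroup N] [Module A N] (hN : IsFiniteLength A N)
    (heq : Module.length A N = Module.length A (N →ₗ[A] I)) (N' : Submodule A N) :
    Function.Surjective (LinearMap.lcomp A I N'.subtype) := by
  have hN' : IsFiniteLength A N' := hN.of_injective (f := N'.subtype) (Submodule.subtype_injective _)
  have hNq : IsFiniteLength A (N ⧸ N') := hN.of_surjective (f := N'.mkQ) (Submodule.mkQ_surjective _)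
  have h1 := length_hom_eq I N'
  have h2 := length_hom_le I hb hNq
  have h3 := length_hom_le I hb hN'
  have h4 := Module.length_eq_add_of_exact N'.subtype N'.mkQ (Submodule.subtype_injective _)
        (Submodule.mkQ_surjective _) (LinearMap.exact_subtype_mkQ N')
  have h5 : Module.length A (LinearMap.range (LinearMap.lcomp A I N'.subtype)) ≤
      Module.length A (N' →ₗ[A] I) :=
    Module.length_le_of_injective (Submodule.subtype _) (Submodule.subtype_injective _)
  have f1 := Module.length_ne_top_iff.mpr hN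
  have f2 := Module.length_ne_top_iff.mpr hN'
  have f3 := Module.length_ne_top_iff.mpr hNq
  obtain ⟨a, ha⟩ := ENat.ne_top_iff_exists.mp f1
  obtain ⟨b, hb'⟩ := ENat.ne_top_iff_exists.mp f2
  obtain ⟨c, hc⟩ := ENat.ne_top_iff_exists.mp f3
  rw [← hc] at h2
  rw [← hb'] at h3
  obtain ⟨d, hd⟩ := ENat.ne_top_iff_exists.mp (ne_top_of_le_ne_top (ENat.natCast_ne_top c) h2)
  obtain ⟨e, he⟩ := ENat.ne_top_iff_exists.mp (ne_top_of_le_ne_top (ENat.natCast_ne_top b) h3)
  rw [← he] at h5
  obtain ⟨r, hr⟩ := ENat.ne_top_iff_exists.mp (ne_top_of_le_ne_top (ENat.natCast_ne_top e) h5)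
  rw [← heq, ← ha, ← hd, ← hr] at h1
  rw [← ha, ← hb', ← hc] at h4
  rw [← hd] at h2
  rw [← he] at h3
  rw [← hr] at h5
  norm_cast at h1 h2 h3 h4 h5
  have hre : r = e := by omega
  -- now the range is everything
  have hfl : IsFiniteLength A (N' →ₗ[A] I) := by
    rw [← Module.length_ne_top_iff, ← he]
    exact ENat.natCast_ne_top e
  obtain ⟨_, _⟩ := isFiniteLength_iff_isNoetherian_isArtinian.mp hfl
  rw [← LinearMap.range_eq_top]
  by_contra hne
  have := Submodule.length_lt hne
  rw [← hr, ← he, hre] at this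
  exact lt_irrefl _ this


lemma isFiniteLength_quot [IsLocalRing A] [IsNoetherianRing A] (𝔞 : Ideal A) (N : ℕ)
    (h : maximalIdeal A ^ N ≤ 𝔞) : IsFiniteLength A (A ⧸ 𝔞) := by
  by_cases hI : 𝔞 = ⊤
  · subst hI
    exact IsFiniteLength.of_subsingleton
  have : Nontrivial (A ⧸ 𝔞) := Ideal.Quotient.nontrivial_iff.mpr hI
  have := IsLocalRing.of_surjective' (Ideal.Quotient.mk 𝔞) Ideal.Quotient.mk_surjective
  have := IsLocalHom.of_surjective (Ideal.Quotient.mk 𝔞) Ideal.Quotient.mk_surjective
  have hmap : (maximalIdeal A).map (Ideal.Quotient.mk 𝔞) = maximalIdeal (A ⧸ 𝔞) := by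
    ext x
    obtain ⟨x, rfl⟩ := Ideal.Quotient.mk_surjective x
    simp [sup_eq_left.mpr (le_maximalIdeal hI)]
  have hnil : IsNilpotent (maximalIdeal (A ⧸ 𝔞)) := by
    refine ⟨N, ?_⟩
    rw [← hmap, ← Ideal.map_pow, Ideal.zero_eq_bot, Ideal.map_eq_bot_iff_le_ker, Ideal.mk_ker]
    exact h
  have hart : IsArtinianRing (A ⧸ 𝔞) := (isArtinianRing_iff_isNilpotent_maximalIdeal _).mpr hnil
  have hfl : IsFiniteLength (A ⧸ 𝔞) (A ⧸ 𝔞) := (isArtinianRing_iff_isFiniteLength _).mp hart
  rw [← Module.length_ne_top_iff] at hfl ⊢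
  rwa [Module.length_eq_of_surjective (S := A) (R := A ⧸ 𝔞) Ideal.Quotient.mk_surjective]


lemma exists_pow_kill [IsLocalRing A] (ha : LocCoh.IsPowerTorsion (maximalIdeal A) I)
    (S : Submodule A I) (hS : S.FG) :
    ∃ N : ℕ, ∀ y ∈ S, ∀ b ∈ maximalIdeal A ^ N, b • y = 0 := by
  induction S, hS using Submodule.fg_induction with
  | singleton x =>
    obtain ⟨N, hN⟩ := ha x
    refine ⟨N, fun y hy b hb => ?_⟩
    obtain ⟨c, rfl⟩ := Submodule.mem_span_singleton.mp hy
    rw [smul_comm, hN b hb, smul_zero]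
  | sup M₁ M₂ _ _ h1 h2 =>
    obtain ⟨N1, hN1⟩ := h1
    obtain ⟨N2, hN2⟩ := h2
    refine ⟨max N1 N2, fun y hy b hb => ?_⟩
    obtain ⟨y1, hy1, y2, hy2, rfl⟩ := Submodule.mem_sup.mp hy
    rw [smul_add, hN1 y1 hy1 b (Ideal.pow_le_pow_right (le_max_left _ _) hb),
      hN2 y2 hy2 b (Ideal.pow_le_pow_right (le_max_right _ _) hb), add_zero]

lemma baer [IsLocalRing A] [IsNoetherianRing A]
    (ha : LocCoh.IsPowerTorsion (maximalIdeal A) I)
    (hb : Nonempty ((ResidueField A →ₗ[A] I) ≃ₗ[A] ResidueField A))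
    (a : ℕ → Ideal A)
    (hcof : ∀ n : ℕ, ∃ N : ℕ, maximalIdeal A ^ N ≤ a n)
    (hcof' : ∀ N : ℕ, ∃ n : ℕ, a n ≤ maximalIdeal A ^ N)
    (hlen : ∀ n : ℕ, Module.length A (A ⧸ a n) = Module.length A ((A ⧸ a n) →ₗ[A] I)) :
    Module.Baer A I := by
  intro J g
  have hfg : (LinearMap.range g).FG := by
    rw [LinearMap.range_eq_map]
    exact Submodule.FG.map g (Module.finite_def.mp inferInstance)
  obtain ⟨N, hN⟩ := exists_pow_kill I ha (LinearMap.range g) hfg
  obtain ⟨c, hc⟩ := Ideal.exists_pow_inf_eq_pow_smul (maximalIdeal A) (J : Submodule A A)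
  obtain ⟨n₀, hn₀⟩ := hcof' (N + c)
  obtain ⟨N', hN'⟩ := hcof n₀
  have hfl := isFiniteLength_quot (a n₀) N' hN'
  have hker : ∀ x (hx : x ∈ J), x ∈ a n₀ → g ⟨x, hx⟩ = 0 := by
    intro x hx hxa
    have h1 : x ∈ (maximalIdeal A ^ (N + c) • (⊤ : Submodule A A) ⊓ (J : Submodule A A)) := by
      refine ⟨?_, hx⟩
      rw [Ideal.smul_top_eq_map]
      simpa using hn₀ hxa
    rw [hc (N + c) (by omega), Nat.add_sub_cancel] at h1
    have h2 : maximalIdeal A ^ N • (maximalIdeal A ^ c • (⊤ : Submodule A A) ⊓ (J : Submodule A A))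
        ≤ Submodule.map J.subtype (LinearMap.ker g) := by
      rw [Submodule.smul_le]
      intro r hr y hy
      have hyJ : y ∈ J := (Submodule.mem_inf.mp hy).2
      refine ⟨r • ⟨y, hyJ⟩, ?_, rfl⟩
      show r • (⟨y, hyJ⟩ : J) ∈ LinearMap.ker g
      rw [LinearMap.mem_ker, map_smul]
      exact hN _ ⟨_, rfl⟩ r hr
    obtain ⟨z, hz, hzx⟩ := h2 h1
    have : z = ⟨x, hx⟩ := Subtype.ext hzx
    rw [← this]
    exact hz
  let π : A →ₗ[A] A ⧸ a n₀ := Submodule.mkQ (a n₀)
  let N'' : Submodule A (A ⧸ a n₀) := Submodule.map π J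
  let p : J →ₗ[A] N'' := π.submoduleMap J
  have hp : Function.Surjective p := π.submoduleMap_surjective J
  have hle : LinearMap.ker p ≤ LinearMap.ker g := by
    intro x hx
    rw [LinearMap.mem_ker] at hx ⊢
    have h1 : π x.1 = 0 := congrArg Subtype.val hx
    have h2 : x.1 ∈ a n₀ := (Submodule.Quotient.mk_eq_zero (a n₀)).mp h1
    exact hker x.1 x.2 h2
  let g' : N'' →ₗ[A] I :=
    ((LinearMap.ker p).liftQ g hle).comp (LinearMap.quotKerEquivOfSurjective p hp).symm.toLinearMap
  have hg' : ∀ x : J, g' (p x) = g x := by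
    intro x
    have : (LinearMap.quotKerEquivOfSurjective p hp).symm (p x) = Submodule.Quotient.mk x := by
      rw [LinearEquiv.symm_apply_eq]
      rfl
    simp only [g', LinearMap.comp_apply, LinearEquiv.coe_coe, this]
    rfl
  obtain ⟨G, hG⟩ := restrict_surjective I hb hfl (hlen n₀) N'' g'
  refine ⟨G.comp π, fun x hx => ?_⟩
  rw [← hg' ⟨x, hx⟩, ← hG]
  rfl

/-- Fix a Noetherian local ring A, write m for its maximal ideal and k for its residue field, and let I
be an A-module such that (a) every element of I is killed by some power of m, (b) the A-module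
Hom_A(k, I) is isomorphic to k, and (c) there is a decreasing sequence of ideals a_1 ⊇ a_2 ⊇ … of A,
cofinal with the powers of m in both directions (each a_n contains a power of m and each power of m
contains some a_n), with length_A(A/a_n) = length_A(Hom_A(A/a_n, I)) for every n. Then I is an
injective hull of k: some A-linear map k → I is an essential injection into an injective module. -/
theorem result (A : Type u) [CommRing A] [IsLocalRing A] [IsNoetherianRing A] (I : Type u) [AddCommGroup I] [Module A I] (ha : LocCoh.IsPowerTorsion (IsLocalRing.maximalIdeal A) I) (hb : Nonempty ((IsLocalRing.ResidueField A →ₗ[A] I) ≃ₗ[A] IsLocalRing.ResidueField A)) (a : ℕ → Ideal A) (hanti : Antitone a) (hcof : ∀ n : ℕ, ∃ N : ℕ, IsLocalRing.maximalIdeal A ^ N ≤ a n) (hcof' : ∀ N : ℕ, ∃ n : ℕ, a n ≤ IsLocalRing.maximalIdeal A ^ N) (hlen : ∀ n : ℕ, Module.length A (A ⧸ a n) = Module.length A ((A ⧸ a n) →ₗ[A] I)) : ∃ f : IsLocalRing.ResidueField A →ₗ[A] I, InjHull.IsInjectiveHull f := by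
  have hbaer := baer I ha hb a hcof hcof' hlen
  obtain ⟨e⟩ := hb
  let f : ResidueField A →ₗ[A] I := e.symm 1
  have hef : e f = 1 := e.apply_symm_apply 1
  have hf0 : f ≠ 0 := by
    intro h
    rw [h, map_zero] at hef
    exact zero_ne_one hef
  have hinj : Function.Injective f := (LinearMap.injective_or_eq_zero f).resolve_right hf0
  refine ⟨f, ⟨⟨hinj, ?_⟩, hbaer.injective⟩⟩
  intro N hN
  obtain ⟨x, hxN, hx0⟩ := Submodule.exists_mem_ne_zero_of_ne_bot hN
  classical
  have hn := Nat.find_spec (ha x)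
  have hn0 : Nat.find (ha x) ≠ 0 := by
    intro h
    rw [h] at hn
    have := hn 1 (by simp)
    rw [one_smul] at this
    exact hx0 this
  obtain ⟨n', hn'⟩ := Nat.exists_eq_succ_of_ne_zero hn0
  have hmin := Nat.find_min (ha x) (m := n') (by omega)
  push Not at hmin
  obtain ⟨b, hbm, hbx⟩ := hmin
  have hyN : b • x ∈ N := N.smul_mem b hxN
  have hym : ∀ c ∈ maximalIdeal A, c • (b • x) = 0 := by
    intro c hc
    rw [smul_smul]
    apply hn
    rw [hn', pow_succ']
    exact Ideal.mul_mem_mul hc hbm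
  let g : ResidueField A →ₗ[A] I :=
    Submodule.liftQ (maximalIdeal A) (LinearMap.toSpanSingleton A I (b • x)) (by
      intro c hc
      rw [LinearMap.mem_ker, LinearMap.toSpanSingleton_apply]
      exact hym c hc)
  obtain ⟨r, hr⟩ := Ideal.Quotient.mk_surjective (e g)
  have hr1 : r • (1 : ResidueField A) = e g := by
    rw [← hr]
    show r • (Submodule.Quotient.mk (1 : A) : A ⧸ maximalIdeal A) = Submodule.Quotient.mk r
    rw [← Submodule.Quotient.mk_smul, smul_eq_mul, mul_one]
  have hgf : g = r • f := by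
    apply e.injective
    rw [map_smul, hef, hr1]
  have hg1 : g (1 : ResidueField A) = b • x := by
    show (LinearMap.toSpanSingleton A I (b • x)) 1 = b • x
    rw [LinearMap.toSpanSingleton_apply, one_smul]
  intro hbot
  have hy : b • x ∈ N ⊓ LinearMap.range f := by
    refine ⟨hyN, ?_⟩
    rw [← hg1, hgf]
    exact ⟨r • (1 : ResidueField A), by rw [map_smul]; rfl⟩
  rw [hbot] at hy
  exact hbx ((Submodule.mem_bot A).mp hy)

end Groth.Agent.S11174
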