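import Groth.Statements.S11175
-- import your own Groth.Agent.* helpers here
import Groth.Agent.Lib.Helper85.CanonGorConv

set_option autoImplicit false
universe u
open CategoryTheory
open Goren

namespace Groth.Agent.S11175

/-- A Noetherian local ring A with maximal ideal m is Gorenstein (A has finite injective dimension as a
module over itself) if and only if there is a natural number d such that the local cohomology
modules H^i_m(A) (direct limits of Ext^i(A/m^n, A)) vanish for all i ≠ d and H^d_m(A) is an
injective A-module. -/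
theorem result (A : Type u) [CommRing A] [IsLocalRing A] [IsNoetherianRing A] : LocCoh.IsGorensteinLocalRing A ↔ ∃ d : ℕ, (∀ i : ℕ, i ≠ d → Subsingleton (LocCoh.H (IsLocalRing.maximalIdeal A) i A)) ∧ Module.Injective A (LocCoh.H (IsLocalRing.maximalIdeal A) d A) := by
  constructor
  · intro hG
    haveI := Groth.Agent.Lib.Helper4.GorCM.isCohenMacaulayLocalRing_of_gorenstein A
    obtain ⟨d, hdim, -, -⟩ := Groth.Agent.Lib.Helper4.GorCM.gorenstein_dim A
    have hN := Groth.Agent.Lib.Helper85.Canon.LCCM.self_of_CM A d hdim
    have hcd : LocCoh.CdLE A (IsLocalRing.maximalIdeal A) d :=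
      Groth.Agent.Lib.Helper92.LC.cdLE_of_ringKrullDim_le _ d (le_of_eq hdim)
    refine ⟨d, fun i hi => ?_, ?_⟩
    · rcases Nat.lt_or_gt_of_ne hi with h | h
      · exact hN.2 i h
      · exact hcd A i h
    · obtain ⟨E, _, _, f, hf⟩ :=
        Groth.Agent.Lib.Helper85.Hull.exists_injectiveHull (R := A) (IsLocalRing.ResidueField A)
      obtain ⟨θ⟩ := Groth.Agent.Lib.Helper85.Canon.gor_top_equiv A d hdim hf
      haveI := hf.isInjective
      exact Groth.Agent.Lib.Helper85.Hull.injective_of_linearEquiv θ.symm
  · rintro ⟨d, hvan, hinj⟩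
    exact { exists_hasInjectiveDimensionLT :=
      ⟨d + 1, Groth.Agent.Lib.Helper85.Canon.hasInjectiveDimensionLT_of_H A d hvan hinj⟩ }

end Groth.Agent.S11175
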