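import Groth.Statements.S11178
import Groth.Agent.Lib.Helper39.GMD.TorInj
import Groth.Agent.Lib.Helper84.DRingInj
-- import your own Groth.Agent.* helpers here

set_option autoImplicit false
universe u
open CategoryTheory
attribute [local instance] HasDerivedCategory.standard
open Dual

namespace Groth.Agent.S11178

/-- The affine form: let A be a Noetherian ring with a dualizing complex ω, and G a cochain complex of
A-modules whose cohomology modules are finite and vanish outside a bounded range of degrees, with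
RHom_A(G, −) existing as a total right derived functor. Then G has finite Tor-dimension (G is
isomorphic in D(A) to a bounded complex of flat modules) if and only if RHom_A(G, ω) has finite
injective dimension (is isomorphic in D(A) to a bounded complex of injective modules). -/
theorem result (A : Type u) [CommRing A] [IsNoetherianRing A] (ω : Dual.D A) (hω : Dual.IsDualizing A ω) (G : DRing.Cx A) [DRing.HasRHomCx G] (hfin : ∀ i : ℤ, Module.Finite A (Dual.HD A (DRing.toD G) i)) (hbdd : ∃ a b : ℤ, ∀ i : ℤ, (i < a ∨ b < i) → Subsingleton (Dual.HD A (DRing.toD G) i)) : DRing.HasFiniteTorDimCx A (DRing.toD G) ↔ DRing.HasFiniteInjDim A ((DRing.RHomCx G).obj ω) := by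
  classical
  obtain ⟨J, a, b, hJ, hb, ⟨eJ⟩⟩ :=
    Groth.Agent.Lib.Helper25.Bidual.exists_bounded_injective_model ω hω
  haveI : J.IsStrictlyGE a := by
    rw [CochainComplex.isStrictlyGE_iff]
    intro q hq
    exact hb q (Or.inl hq)
  haveI : J.IsKInjective := CochainComplex.isKInjective_of_injective J a
  have hωJ : Dual.IsDualizing A (DerivedCategory.Q.obj J) :=
    Groth.Agent.Lib.Helper25.Bidual.isDualizing_of_iso eJ.symm hω
  let i1 : (DRing.RHomCx G).obj ω ≅ DerivedCategory.Q.obj (DRing.homCx G J) :=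
    (DRing.RHomCx G).mapIso eJ.symm ≪≫ Groth.Agent.Lib.Helper25.RHomKInj.isoOfKInj G J
  obtain ⟨c, d, hcd⟩ := hbdd
  constructor
  · intro hG
    have hpc : ∀ m : ℤ, DRing.IsPseudoCoherent A m (DRing.toD G) := fun m =>
      ((Groth.Agent.S6942.result A m (DRing.toD G) A).1).2
        ⟨⟨d, fun q hq => hcd q (Or.inr hq)⟩, fun q _ => hfin q⟩
    have hpc' : DRing.IsPseudoCoherent' A (DRing.toD G) :=
      (Groth.Agent.S2066.result (DRing.toD G)).1.1 hpc
    obtain ⟨P, p₁, p₂, hP, hfp, ⟨eP⟩⟩ := (Groth.Agent.S6954.result A (DRing.toD G)).2 ⟨hpc', hG⟩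
    obtain ⟨i2⟩ := Groth.Agent.Lib.Helper39.GMD.Main.homCx_iso_of_Q_iso J eP
    exact Groth.Agent.Lib.Helper84.DRingInj.hasFiniteInjDim_of_iso (i2 ≪≫ i1.symm)
      (Groth.Agent.Lib.Helper39.GMD.TorInj.hasFiniteInjDim_homCx J a b hb P p₁ p₂ hP hfp)
  · rintro ⟨a', b', I, hI, hIinj, ⟨eI⟩⟩
    let θ : DerivedCategory.Q.obj (DRing.homCx G J) ≅ DerivedCategory.Q.obj I :=
      i1.symm ≪≫ eI.symm
    obtain ⟨i3⟩ := Groth.Agent.Lib.Helper39.GMD.Main.homCx_iso_of_Q_iso J θ
    have eH : ∀ j : ℤ, Dual.HD A (DRing.toD G) j ≃ₗ[A] G.homology j := fun j =>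
      ((DerivedCategory.homologyFunctorFactors (ModuleCat.{u} A) j).app G).toLinearEquiv
    have hq : QuasiIso (Groth.Agent.Lib.Helper39.LD.EtaC.etaC J G) :=
      Groth.Agent.Lib.Helper39.LD.BidualD.quasiIso_etaC J a b hJ hb hωJ G c d
        (fun j hj => by
          haveI := hcd j hj
          haveI : Subsingleton (G.homology j) := (eH j).symm.toEquiv.subsingleton
          exact ModuleCat.isZero_of_subsingleton _)
        (fun j => by
          haveI := hfin j
          exact Module.Finite.equiv (eH j))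
    haveI : IsIso (DerivedCategory.Q.map (Groth.Agent.Lib.Helper39.LD.EtaC.etaC J G)) :=
      (DerivedCategory.isIso_Q_map_iff_quasiIso _ _).2 hq
    let i4 : DerivedCategory.Q.obj G ≅
        DerivedCategory.Q.obj (DRing.homCx (DRing.homCx G J) J) :=
      asIso (DerivedCategory.Q.map (Groth.Agent.Lib.Helper39.LD.EtaC.etaC J G))
    obtain ⟨F, h1, h2, ⟨e⟩⟩ :=
      Groth.Agent.Lib.Helper39.GMD.TorInj.hasTorAmplitudeIn_homCx J a b hJ hb I a' b' hI hIinj
    exact ⟨a - b', b - a', F, h1, h2, ⟨e ≪≫ i3.symm ≪≫ i4.symm⟩⟩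

end Groth.Agent.S11178
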