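import Groth.Statements.S11180
import Groth.Agent.S0543
import Mathlib

set_option autoImplicit false
universe u
open scoped TensorProduct
open CAlg

namespace Groth.Agent.S11180

/-- Let A be a Noetherian ring and M an A-module. If an element m of M is such that 1 ⊗ m = 0 in B ⊗_A M
for every A-algebra B which is a complete Noetherian local ring, flat over A, then m = 0.
(Equivalently the natural map from M to the limit of the modules B ⊗_A M over all such B is
injective.) -/
theorem result (A : Type u) [CommRing A] [IsNoetherianRing A] (M : Type u) [AddCommGroup M] [Module A M] (m : M) (h : ∀ (B : Type u) [CommRing B] [Algebra A B] [IsNoetherianRing B] [IsLocalRing B], IsAdicComplete (IsLocalRing.maximalIdeal B) B → Module.Flat A B → (1 : B) ⊗ₜ[A] m = 0) : m = 0 := by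
  classical
  by_contra hm
  let g : A →ₗ[A] M := LinearMap.toSpanSingleton A M m
  set 𝔞 : Ideal A := LinearMap.ker g with h𝔞def
  have h𝔞 : 𝔞 ≠ ⊤ := by
    intro htop
    apply hm
    have h1 : (1 : A) ∈ 𝔞 := by rw [htop]; trivial
    rw [h𝔞def, LinearMap.mem_ker] at h1
    simpa [g] using h1
  obtain ⟨𝔭, h𝔭max, h𝔭⟩ := Ideal.exists_le_maximal 𝔞 h𝔞
  haveI := h𝔭max.isPrime
  let Ap := Localization.AtPrime 𝔭
  let B := AdicCompletion (IsLocalRing.maximalIdeal Ap) Ap
  haveI : IsScalarTower A Ap B := inferInstance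
  haveI : IsNoetherianRing Ap := IsLocalization.isNoetherianRing 𝔭.primeCompl Ap inferInstance
  haveI : IsNoetherianRing B := Groth.Agent.S0543.result Ap _
  haveI : Module.Flat A Ap := IsLocalization.flat Ap 𝔭.primeCompl
  haveI : Module.Flat Ap B := inferInstance
  haveI : Module.Flat A B := Module.Flat.trans A Ap B
  have h1 : (1 : B) ⊗ₜ[A] m = 0 := h B inferInstance inferInstance
  let gbar : (A ⧸ 𝔞) →ₗ[A] M := Submodule.liftQ 𝔞 g le_rfl
  have hgbar : Function.Injective gbar := by
    rw [← LinearMap.ker_eq_bot]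
    exact Submodule.ker_liftQ_eq_bot _ _ _ le_rfl
  have hinj : Function.Injective (gbar.lTensor B) :=
    Module.Flat.lTensor_preserves_injective_linearMap gbar hgbar
  have h2 : (1 : B) ⊗ₜ[A] (Ideal.Quotient.mk 𝔞 1) = 0 := by
    apply hinj
    rw [map_zero, LinearMap.lTensor_tmul]
    have : gbar (Ideal.Quotient.mk 𝔞 1) = m := by
      change g 1 = m
      simp [g]
    rw [this, h1]
  have h3 := congrArg (TensorProduct.tensorQuotEquivQuotSMul B 𝔞) h2
  rw [TensorProduct.tensorQuotEquivQuotSMul_tmul_mk, map_zero, one_smul,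
    Submodule.Quotient.mk_eq_zero] at h3
  have hle : 𝔞 • (⊤ : Submodule A B) ≤ (IsLocalRing.maximalIdeal B).restrictScalars A := by
    rw [Submodule.smul_le]
    intro a ha b _
    rw [Submodule.restrictScalars_mem, Algebra.smul_def]
    apply Ideal.mul_mem_right
    have ha' : algebraMap A Ap a ∈ IsLocalRing.maximalIdeal Ap :=
      (IsLocalization.AtPrime.to_map_mem_maximal_iff Ap 𝔭 a).mpr (h𝔭 ha)
    rw [IsScalarTower.algebraMap_apply A Ap B]
    exact IsLocalRing.map_maximalIdeal_le (algebraMap Ap B) (Ideal.mem_map_of_mem _ ha')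
  have h4 := hle h3
  rw [Submodule.restrictScalars_mem] at h4
  exact (IsLocalRing.mem_maximalIdeal _).mp h4 isUnit_one

end Groth.Agent.S11180
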