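import Groth.Statements.S11184
import Groth.Agent.Lib.Helper84.MatlisFin

set_option autoImplicit false
universe u
open Matlis

namespace Groth.Agent.S11184

/-- Let A be a Noetherian local ring with residue field k, k → E an injective hull of k, and B a finite
A-algebra (a semilocal ring all of whose maximal ideals lie over the maximal ideal of A). Then the
B-module Hom_A(B, E), with B acting by (b·φ)(b') = φ(bb'), is the internal direct sum over the
maximal ideals n of B of submodules J_n (independent, with supremum everything), where each J_n is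
an injective hull over B of the residue field B/n: each hull occurs exactly once. -/
theorem result (A B : Type u) [CommRing A] [IsLocalRing A] [IsNoetherianRing A] [CommRing B] [Algebra A B] [Module.Finite A B] (E : Type u) [AddCommGroup E] [Module A E] (f : IsLocalRing.ResidueField A →ₗ[A] E) (hf : InjHull.IsInjectiveHull f) : ∃ J : MaximalSpectrum B → Submodule B ((ModuleCat.coextendScalars (algebraMap A B)).obj (ModuleCat.of A E)), iSupIndep J ∧ iSup J = ⊤ ∧ ∀ n : MaximalSpectrum B, ∃ g : (B ⧸ n.asIdeal) →ₗ[B] J n, InjHull.IsInjectiveHull g := by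
  classical
  have hinj := hf.toIsEssentialInj.injective
  have hess := hf.toIsEssentialInj.essential
  haveI : Module.Injective A E := hf.isInjective
  haveI : Module.Injective B (Groth.Agent.Lib.Helper84.MatlisFin.HH A B E) :=
    Groth.Agent.Lib.Helper84.MatlisFin.injective_HH
  refine ⟨fun n => Groth.Agent.Lib.Helper84.MatlisFin.powTors _ n.asIdeal,
    Groth.Agent.Lib.Helper84.MatlisFin.iSupIndep_powTors,
    Groth.Agent.Lib.Helper84.MatlisFin.iSup_powTors_eq_top f hess, fun n => ?_⟩
  obtain ⟨g, hg1, hg2⟩ := Groth.Agent.Lib.Helper84.MatlisFin.exists_hull f hinj hess n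
  refine ⟨g, ⟨⟨hg1, hg2⟩, ?_⟩⟩
  exact Groth.Agent.Lib.Helper84.MatlisFin.injective_of_iSupIndep
    (fun n : MaximalSpectrum B => Groth.Agent.Lib.Helper84.MatlisFin.powTors
      (Groth.Agent.Lib.Helper84.MatlisFin.HH A B E) n.asIdeal)
    Groth.Agent.Lib.Helper84.MatlisFin.iSupIndep_powTors
    (Groth.Agent.Lib.Helper84.MatlisFin.iSup_powTors_eq_top f hess) n

end Groth.Agent.S11184
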