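import Groth.Statements.S11188
-- import your own Groth.Agent.* helpers here
import Groth.Agent.S11199
import Groth.Agent.Lib.Helper51.ObsTfaeT1
import Groth.Agent.Lib.Helper51.ObsTfaeT2
import Groth.Agent.Lib.Helper71.ObsTfaeT3
import Groth.Agent.Lib.Helper85.ObsTfaeT4
import Groth.Agent.Lib.Helper85.ObsTfaeT5
import Groth.Agent.Lib.Helper85.ObsTfaeT6
import Groth.Agent.Lib.Helper85.ObsTfaeT7
import Groth.Agent.Lib.Helper85.ObsTfaeT8
import Groth.Agent.Lib.Helper85.ObsTfaeT9

set_option autoImplicit false
universe u
open CategoryTheory MonoidalCategory CartesianMonoidalCategory MonObj GrpObj AlgebraicGeometry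
open scoped TensorProduct
open AGF

namespace Groth.Agent.S11188

/-- (1) ⇔ (2) ⇔ (3): let k be an algebraically closed field, G a linear algebraic group over k (an
affine smooth group scheme over k) and H a closed subgroup of G (a smooth closed subgroup scheme, i
: H → G). The following are equivalent: (i) H is observable in G, i.e. a rational point of G whose
right translation fixes every right-H-invariant global function on G lies in H; (ii) there are a
finite-dimensional rational G-module V and a vector v in V whose stabiliser, on rational points, is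
H; (iii) there are finitely many right-H-invariant global functions on G which separate the cosets
gH: two rational points of G at which they all take the same values differ by right multiplication
by a rational point of H. -/
theorem result (k : Type u) [Field k] [IsAlgClosed k]
    (G : Over (Spec (CommRingCat.of k))) [GrpObj G] [IsAffine G.left] [Smooth G.hom]
    (H : Over (Spec (CommRingCat.of k))) [GrpObj H] [Smooth H.hom] (i : H ⟶ G) [IsMonHom i]
    [IsClosedImmersion i.left] :
    List.TFAE [
      AGF.IsObservableIn k i,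
      ∃ (V : Type u) (_ : AddCommGroup V) (_ : Module k V) (_ : Module.Finite k V) (ρ : VecGrp.GMod G V) (v : V),
        AGF.IsStabOnPts k i ρ v,
      ∃ s : Finset Γ(G.left, ⊤), (∀ f ∈ s, AGF.IsRTransInv i f) ∧
        ∀ g g' : VecGrp.pt k k ⟶ G, (∀ f ∈ s, g.left.appTop f = g'.left.appTop f) →
          ∃ h : VecGrp.pt k k ⟶ H, g' = g * (h ≫ i)] := by
  have hH : IsAffine H.left := isAffine_of_isAffineHom i.left
  tfae_have 1 → 2 := by
    intro hobs
    obtain ⟨s, hs1, hs2⟩ := Groth.Agent.S11199.result k G H i
    obtain ⟨V, iV1, iV2, iV3, ρ, v, hv⟩ :=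
      Groth.Agent.Lib.Helper85.ObsTfaeT8.exists_gmod_stab_finset G
        (fun ρ₁ ρ₂ => Groth.Agent.Lib.Helper85.ObsTfaeT4.exists_gmod_prod G ρ₁ ρ₂)
        (fun f => Groth.Agent.Lib.Helper85.ObsTfaeT5.exists_gmod_stab G f) s
    refine ⟨V, iV1, iV2, iV3, ρ, v, fun g => ?_⟩
    rw [hv g]
    constructor
    · intro hg
      exact hobs g (hs2 g hg)
    · rintro ⟨h, rfl⟩ f hf
      exact Groth.Agent.Lib.Helper85.ObsTfaeT9.isRTransInv_pt G H i f (hs1 f hf) h
  tfae_have 2 → 3 := by
    rintro ⟨V, iV1, iV2, iV3, ρ, v, hst⟩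
    have hfix : v ∈ ρ.fixedUnder i :=
      Groth.Agent.Lib.Helper71.ObsTfaeT3.mem_fixedUnder_of_pts G H i ρ v
        (fun B _ _ x y h => Groth.Agent.Lib.Helper51.ObsTfaeT1.eq_of_coef_eq_B B x y h)
        (fun r hr => Groth.Agent.Lib.Helper51.ObsTfaeT2.eq_zero_of_forall_ev H r hr)
        (fun h => (hst (h ≫ i)).mpr ⟨h, rfl⟩)
    exact Groth.Agent.Lib.Helper85.ObsTfaeT7.sep_of_stab G H i ρ v hfix hst
  tfae_have 3 → 1 := by
    rintro ⟨s, hs, hsep⟩
    exact Groth.Agent.Lib.Helper85.ObsTfaeT6.observable_of_sep G H i s hs hsep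
  tfae_finish

end Groth.Agent.S11188
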