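import Groth.Statements.S11192
-- import your own Groth.Agent.* helpers here
import Groth.Agent.Lib.Helper85.EqLocusNormal
import Groth.Agent.Lib.Helper85.SmoothGammaNormal
import Groth.Agent.Lib.Helper19.Grp.ProperAffineConst

set_option autoImplicit false
universe u
open CategoryTheory MonoidalCategory CartesianMonoidalCategory MonObj GrpObj AlgebraicGeometry
open scoped TensorProduct
open AGF

namespace Groth.Agent.S11192

/-- Let k be an algebraically closed field, G a linear algebraic group over k (an affine smooth group
scheme over k) and H a closed subgroup of G (a smooth closed subgroup scheme, i : H → G), with G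
connected. Then the ring of global functions on G invariant under right translation by H is
integrally closed. -/
theorem result (k : Type u) [Field k] [IsAlgClosed k]
    (G : Over (Spec (CommRingCat.of k))) [GrpObj G] [IsAffine G.left] [Smooth G.hom]
    (H : Over (Spec (CommRingCat.of k))) [GrpObj H] [Smooth H.hom] (i : H ⟶ G) [IsMonHom i]
    [IsClosedImmersion i.left] [ConnectedSpace G.left] :
    IsIntegrallyClosed ↥(AGF.rTransInv i) := by
  have hint : IsIntegral G.left :=
    Groth.Agent.Lib.Helper19.QuotDesc.isIntegral_of_smooth_connected k G
  have hic : IsIntegrallyClosed Γ(G.left, ⊤) :=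
    Groth.Agent.Lib.Helper85.SmoothGammaNormal.isIntegrallyClosed_Gamma_of_smooth k G.hom
  have hdom : IsDomain Γ(G.left, ⊤) := inferInstance
  unfold AGF.rTransInv
  apply Groth.Agent.Lib.Helper85.EqLocusNormal.isIntegrallyClosed_eqLocus
  intro b hb
  have hHaff : IsAffine H.left := isAffine_of_isAffineHom i.left
  have hflat : Flat (fst G H).left := by rw [Over.fst_left]; infer_instance
  have haff : IsAffine (G ⊗ H).left := by rw [Over.tensorObj_left]; infer_instance
  exact Groth.Agent.Lib.Helper85.SmoothGammaNormal.appTop_mem_nonZeroDivisors_of_flat
    (fst G H).left (mem_nonZeroDivisors_of_ne_zero hb)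

end Groth.Agent.S11192
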