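import Groth.Statements.S11217
import Mathlib

set_option autoImplicit false
universe u
open CategoryTheory MonoidalCategory CartesianMonoidalCategory MonObj GrpObj AlgebraicGeometry
open scoped TensorProduct
open AGF

namespace Groth.Agent.S11217

open MvPolynomial

theorem der_sum_apply {k : Type u} [Field k] {σ : Type} [Fintype σ]
    (D : σ → Derivation k (MvPolynomial σ k) (MvPolynomial σ k)) (a : MvPolynomial σ k) :
    (∑ i, D i) a = ∑ i, D i a := by
  have h := congrFun (map_sum (Derivation.coeFnAddMonoidHom (R := k) (A := MvPolynomial σ k)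
    (M := MvPolynomial σ k)) D Finset.univ) a
  rw [Finset.sum_apply] at h
  exact h

theorem mkDerivation_eq_sum {k : Type u} [Field k] {σ : Type} [Fintype σ] [DecidableEq σ]
    (g : σ → MvPolynomial σ k) (f : MvPolynomial σ k) :
    mkDerivation k g f = ∑ i, g i * pderiv i f := by
  have h : mkDerivation k g = ∑ i, g i • (pderiv i : Derivation k (MvPolynomial σ k) (MvPolynomial σ k)) := by
    apply derivation_ext
    intro j
    rw [mkDerivation_X, der_sum_apply]
    simp only [Derivation.smul_apply, pderiv_X, smul_eq_mul]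
    rw [Finset.sum_eq_single j]
    · simp
    · intro b _ hb
      simp [Pi.single_apply, hb.symm]
    · simp
  rw [h, der_sum_apply]
  simp

theorem key {k : Type u} [Field k] [CharZero k] (f : MvPolynomial (Fin 7) k)
    (g : Fin 7 → MvPolynomial (Fin 7) k)
    (s : Fin 7 → (Fin 7 →₀ ℕ)) (c : Fin 7 → k) (hg : ∀ i, g i = monomial (s i) (c i))
    (hδ : ∑ i, g i * pderiv i f = 0) (d : Fin 7 →₀ ℕ) (i₀ : Fin 7) (hc : c i₀ = 1) (hd : 1 ≤ d i₀)
    (hother : ∀ i, i ≠ i₀ → c i = 0 ∨ ¬ (s i ≤ d - Finsupp.single i₀ 1 + s i₀)) : coeff d f = 0 := by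
  classical
  have h1 := congrArg (coeff (d - Finsupp.single i₀ 1 + s i₀)) hδ
  rw [coeff_sum, coeff_zero, Finset.sum_eq_single i₀] at h1
  · rw [hg i₀, coeff_monomial_mul', if_pos (by exact le_add_self), hc, _root_.one_mul,
      add_tsub_cancel_right, coeff_pderiv] at h1
    have h2 : d - Finsupp.single i₀ 1 + Finsupp.single i₀ 1 = d := by
      ext j
      by_cases hj : j = i₀
      · subst hj
        simp only [Finsupp.coe_add, Finsupp.coe_tsub, Pi.add_apply, Pi.sub_apply, Finsupp.single_eq_same]
        omega
      · simp [Finsupp.single_apply, Ne.symm hj]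
    rw [h2] at h1
    have h3 : ((d - Finsupp.single i₀ 1 : Fin 7 →₀ ℕ) i₀ + 1 : ℕ) = d i₀ := by
      simp only [Finsupp.coe_tsub, Pi.sub_apply, Finsupp.single_eq_same]
      omega
    have h4 : (((d - Finsupp.single i₀ 1 : Fin 7 →₀ ℕ) i₀ : ℕ) : k) + 1 = ((d i₀ : ℕ) : k) := by
      rw [← h3]; push_cast; ring
    rw [h4] at h1
    rcases mul_eq_zero.1 h1 with h | h
    · exact h
    · exfalso
      have : (d i₀ : k) ≠ 0 := by
        have : d i₀ ≠ 0 := by omega
        exact_mod_cast this
      exact this h
  · intro i _ hi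
    rw [hg i, coeff_monomial_mul']
    rcases hother i hi with h | h
    · rw [h]; simp
    · rw [if_neg h]
  · intro h; exact absurd (Finset.mem_univ _) h

theorem main (k : Type u) [Field k] [CharZero k] (m : ℕ) (hm : 2 ≤ m) (n : ℕ) (hn : 1 ≤ n)
    (f : MvPolynomial (Fin 7) k)
    (hf : MvPolynomial.IsWeightedHomogeneous (![0, 0, 0, 1, 1, 1, 1] : Fin 7 → ℕ) f n)
    (hδ : MvPolynomial.mkDerivation k
      (![0, 0, 0, MvPolynomial.X 0 ^ (m + 1), MvPolynomial.X 1 ^ (m + 1), MvPolynomial.X 2 ^ (m + 1),
        (MvPolynomial.X 0 * MvPolynomial.X 1 * MvPolynomial.X 2) ^ m] : Fin 7 → MvPolynomial (Fin 7) k) f = 0) :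
    ∀ d ∈ f.support, 0 < d 0 + d 1 + d 2 := by
  intro d hd
  by_contra hcon
  have h0 : d 0 = 0 ∧ d 1 = 0 ∧ d 2 = 0 := by omega
  obtain ⟨h00, h01, h02⟩ := h0
  have hcoef : coeff d f ≠ 0 := mem_support_iff.mp hd
  have hw := hf hcoef
  have hsum : d 3 + d 4 + d 5 + d 6 = n := by
    rw [← hw, Finsupp.weight_apply, Finsupp.sum_fintype _ _ (by simp)]
    simp [Fin.sum_univ_succ]
    ring
  rw [mkDerivation_eq_sum] at hδ
  let s : Fin 7 → (Fin 7 →₀ ℕ) := ![0, 0, 0, Finsupp.single 0 (m + 1), Finsupp.single 1 (m + 1),
    Finsupp.single 2 (m + 1), Finsupp.single 0 m + Finsupp.single 1 m + Finsupp.single 2 m]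
  let c : Fin 7 → k := ![0, 0, 0, 1, 1, 1, 1]
  have hg : ∀ i, (![0, 0, 0, MvPolynomial.X 0 ^ (m + 1), MvPolynomial.X 1 ^ (m + 1), MvPolynomial.X 2 ^ (m + 1),
        (MvPolynomial.X 0 * MvPolynomial.X 1 * MvPolynomial.X 2) ^ m] : Fin 7 → MvPolynomial (Fin 7) k) i
        = monomial (s i) (c i) := by
    intro i
    fin_cases i
    · simp [s, c]
    · simp [s, c]
    · simp [s, c]
    · simp [s, c, X_pow_eq_monomial]
    · simp [s, c, X_pow_eq_monomial]
    · simp [s, c, X_pow_eq_monomial]
    · simp [s, c, X, monomial_mul, monomial_pow]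
  apply hcoef
  have hcases : 1 ≤ d 3 ∨ 1 ≤ d 4 ∨ 1 ≤ d 5 ∨ 1 ≤ d 6 := by omega
  rcases hcases with h | h | h | h
  · refine key f _ s c hg hδ d 3 rfl h ?_
    intro i hi
    fin_cases i
    · left; rfl
    · left; rfl
    · left; rfl
    · exact absurd rfl hi
    · right
      intro hle
      have := hle 1
      simp [s, Finsupp.single_apply] at this
      omega
    · right
      intro hle
      have := hle 2
      simp [s, Finsupp.single_apply] at this
      omega
    · right
      intro hle
      have := hle 1
      simp [s, Finsupp.single_apply] at this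
      omega
  · refine key f _ s c hg hδ d 4 rfl h ?_
    intro i hi
    fin_cases i
    · left; rfl
    · left; rfl
    · left; rfl
    · right
      intro hle
      have := hle 0
      simp [s] at this
      omega
    · exact absurd rfl hi
    · right
      intro hle
      have := hle 2
      simp [s] at this
      omega
    · right
      intro hle
      have := hle 0
      simp [s] at this
      omega
  · refine key f _ s c hg hδ d 5 rfl h ?_
    intro i hi
    fin_cases i
    · left; rfl
    · left; rfl
    · left; rfl
    · right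
      intro hle
      have := hle 0
      simp [s] at this
      omega
    · right
      intro hle
      have := hle 1
      simp [s] at this
      omega
    · exact absurd rfl hi
    · right
      intro hle
      have := hle 0
      simp [s] at this
      omega
  · refine key f _ s c hg hδ d 6 rfl h ?_
    intro i hi
    fin_cases i
    · left; rfl
    · left; rfl
    · left; rfl
    · right
      intro hle
      have := hle 0
      simp [s] at this
      omega
    · right
      intro hle
      have := hle 1
      simp [s] at this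
      omega
    · right
      intro hle
      have := hle 2
      simp [s] at this
      omega
    · exact absurd rfl hi

/-- Let k be a field of characteristic zero and m ≥ 2; in the polynomial ring k[x, y, z, s, t, u, v]
(variables 0, …, 6) let δ be the k-derivation with δ(x) = δ(y) = δ(z) = 0, δ(s) = x^(m+1), δ(t) =
y^(m+1), δ(u) = z^(m+1), δ(v) = (xyz)^m, and grade by total degree in s, t, u, v. If f is
homogeneous of degree n ≥ 1 for this grading and δ(f) = 0, then every coefficient of f, as a
polynomial in s, t, u, v over k[x, y, z], lies in the ideal (x, y, z): every monomial of f has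
positive degree in x, y, z. (The published statement allows n = 0, where the constant 1 is a
counterexample; this row assumes n ≥ 1. The published definition of the derivation gives δ(v) =
(xyz)^(m+1), for which the assertion fails: v − (yz)^(m+1)·s is killed by δ and has the monomial v
with coefficient 1; this row uses δ(v) = (xyz)^m, the exponent of the published action formula and
of the published examples of invariants.) -/
theorem result (k : Type u) [Field k] [CharZero k] (m : ℕ) (hm : 2 ≤ m) (n : ℕ) (hn : 1 ≤ n)
    (f : MvPolynomial (Fin 7) k)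
    (hf : MvPolynomial.IsWeightedHomogeneous (![0, 0, 0, 1, 1, 1, 1] : Fin 7 → ℕ) f n)
    (hδ : MvPolynomial.mkDerivation k
      (![0, 0, 0, MvPolynomial.X 0 ^ (m + 1), MvPolynomial.X 1 ^ (m + 1), MvPolynomial.X 2 ^ (m + 1),
        (MvPolynomial.X 0 * MvPolynomial.X 1 * MvPolynomial.X 2) ^ m] : Fin 7 → MvPolynomial (Fin 7) k) f = 0) :
    ∀ d ∈ f.support, 0 < d 0 + d 1 + d 2 := by
  exact main k m hm n hn f hf hδ

end Groth.Agent.S11217
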