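import Groth.Statements.S11218
import Mathlib
import Groth.Agent.Lib.Helper61.QuotClosed

set_option autoImplicit false
universe u
open CategoryTheory MonoidalCategory CartesianMonoidalCategory MonObj GrpObj AlgebraicGeometry
open scoped TensorProduct
open AGF

namespace Groth.Agent.S11218
open CategoryTheory MonoidalCategory CartesianMonoidalCategory MonObj GrpObj AlgebraicGeometry CategoryTheory.Limits
open scoped TensorProduct
open AGF
open Groth.Agent.Lib.Helper61.QuotClosed
set_option backward.isDefEq.respectTransparency.types false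
set_option maxHeartbeats 400000

section Calc

variable {S : Scheme.{u}} {G P : Over S} [GrpObj G] (a : AlgGrp.Action G P)

/-- The action on `T`-points. -/
noncomputable def smul {T : Over S} (g : T ⟶ G) (x : T ⟶ P) : T ⟶ P := lift g x ≫ a.act

theorem mul_smul {T : Over S} (g h : T ⟶ G) (x : T ⟶ P) :
    smul a (g * h) x = smul a g (smul a h x) := by
  unfold smul
  rw [Hom.mul_def]
  have h1 : lift (lift g h ≫ μ[G]) x = lift (lift g h) x ≫ (μ[G] ▷ P) := by
    apply CartesianMonoidalCategory.hom_ext <;> simp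
  rw [h1, Category.assoc, a.mul_act]
  have h2 : lift (lift g h) x ≫ (α_ G G P).hom ≫ (G ◁ a.act) = lift g (lift h x ≫ a.act) := by
    apply CartesianMonoidalCategory.hom_ext <;> simp
  rw [← Category.assoc, ← Category.assoc, Category.assoc _ (α_ G G P).hom, h2]

theorem comp_smul {T T' : Over S} (q : T' ⟶ T) (g : T ⟶ G) (x : T ⟶ P) :
    q ≫ smul a g x = smul a (q ≫ g) (q ≫ x) := by
  unfold smul
  rw [← Category.assoc, CartesianMonoidalCategory.comp_lift]

theorem one_smul {T : Over S} (x : T ⟶ P) : smul a (1 : T ⟶ G) x = x := by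
  unfold smul
  have h1 : lift (1 : T ⟶ G) x = x ≫ (λ_ P).inv ≫ (η[G] ▷ P) := by
    apply CartesianMonoidalCategory.hom_ext
    · simp only [Category.assoc, lift_fst, whiskerRight_fst, leftUnitor_inv_fst_assoc]
      rw [Hom.one_def, ← Category.assoc, toUnit_unique (x ≫ toUnit P) (toUnit T)]
    · simp only [Category.assoc, lift_snd, whiskerRight_snd, leftUnitor_inv_snd, Category.comp_id]
  rw [h1, Category.assoc, Category.assoc, a.one_act, Iso.inv_hom_id, Category.comp_id]

theorem act_eq : a.act = smul a (fst G P) (snd G P) := by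
  unfold smul
  rw [lift_fst_snd, Category.id_comp]

theorem orbitMap_eq (x : 𝟙_ (Over S) ⟶ P) :
    a.orbitMap x = smul a (𝟙 G) (toUnit G ≫ x) := rfl

theorem comp_orbitMap (x : 𝟙_ (Over S) ⟶ P) {T : Over S} (g : T ⟶ G) :
    g ≫ a.orbitMap x = smul a g (toUnit T ≫ x) := by
  rw [orbitMap_eq, comp_smul, Category.comp_id, ← Category.assoc,
    toUnit_unique (g ≫ toUnit G) (toUnit T)]

theorem unit_orbit (x : 𝟙_ (Over S) ⟶ P) : η[G] ≫ a.orbitMap x = x := by
  rw [comp_orbitMap, toUnit_unique (toUnit (𝟙_ (Over S))) (𝟙 _), Category.id_comp]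
  have : (η[G] : 𝟙_ (Over S) ⟶ G) = 1 := by
    rw [Hom.one_def, toUnit_unique (toUnit (𝟙_ (Over S))) (𝟙 _), Category.id_comp]
  rw [this, one_smul]

/-- `(g, y) ↦ g⁻¹ y` -/
noncomputable def Phi : G ⊗ P ⟶ P := smul a (fst G P)⁻¹ (snd G P)

/-- `(g, y) ↦ (g, g y)` -/
noncomputable def Th : G ⊗ P ⟶ G ⊗ P := lift (fst G P) a.act

/-- `(g, y) ↦ (g, g⁻¹ y)` -/
noncomputable def Th' : G ⊗ P ⟶ G ⊗ P := lift (fst G P) (Phi a)

theorem Th_Phi : Th a ≫ Phi a = snd G P := by
  unfold Th Phi
  rw [comp_smul, GrpObj.comp_inv, lift_fst, lift_snd]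
  conv_lhs => rw [act_eq a]
  rw [← mul_smul, inv_mul_cancel, one_smul]

theorem Th'_act : Th' a ≫ a.act = snd G P := by
  conv_lhs => rw [act_eq a]
  unfold Th' Phi
  rw [comp_smul, lift_fst, lift_snd, ← mul_smul, mul_inv_cancel, one_smul]

theorem Th_snd : Th a ≫ snd G P = a.act := by
  unfold Th
  rw [lift_snd]

theorem Th'_snd : Th' a ≫ snd G P = Phi a := by
  unfold Th'
  rw [lift_snd]

end Calc

variable {k : Type u} [Field k]

instance subsingleton_Sk : Subsingleton (Spec (CommRingCat.of k)) :=
  inferInstanceAs (Subsingleton (PrimeSpectrum k))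

section Main

variable {G H X : Over (Spec (CommRingCat.of k))} [GrpObj G] [GrpObj H] (i : H ⟶ G) [IsMonHom i]
  (a : AlgGrp.Action G X) (x : 𝟙_ (Over (Spec (CommRingCat.of k))) ⟶ X)

/-- `(h, y) ↦ h⁻¹ y` -/
noncomputable def bet : H ⊗ X ⟶ X := smul a (fst H X ≫ i)⁻¹ (snd H X)

theorem whisker_bet :
    (H ◁ (i ≫ a.orbitMap x)) ≫ bet i a = ((fst H H)⁻¹ * snd H H) ≫ (i ≫ a.orbitMap x) := by
  unfold bet
  rw [comp_smul, GrpObj.comp_inv, ← Category.assoc, whiskerLeft_fst, whiskerLeft_snd,
    ← Category.assoc, comp_orbitMap, ← mul_smul, ← Category.assoc, comp_orbitMap,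
    MonObj.mul_comp, GrpObj.inv_comp]

theorem whisker_act :
    (G ◁ (i ≫ a.orbitMap x)) ≫ a.act = (fst G H * (snd G H ≫ i)) ≫ a.orbitMap x := by
  conv_lhs => rw [act_eq a]
  rw [comp_smul, whiskerLeft_fst, whiskerLeft_snd, ← Category.assoc, comp_orbitMap, ← mul_smul,
    comp_orbitMap]

theorem p2_Phi : (((G ◁ i) ≫ μ[G]) ▷ X) ≫ Phi a =
    lift (fst (G ⊗ H) X ≫ snd G H) ((fst G H ▷ X) ≫ Phi a) ≫ bet i a := by
  unfold bet Phi
  rw [comp_smul, comp_smul, comp_smul, GrpObj.comp_inv, GrpObj.comp_inv, GrpObj.comp_inv,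
    whiskerRight_fst, whiskerRight_snd, whiskerRight_fst, whiskerRight_snd, lift_snd,
    lift_fst_assoc, ← mul_smul]
  have e : (fst (G ⊗ H) X ≫ (G ◁ i)) ≫ μ[G] =
      (fst (G ⊗ H) X ≫ fst G H) * ((fst (G ⊗ H) X ≫ snd G H) ≫ i) := by
    rw [Hom.mul_def]
    congr 1
    apply CartesianMonoidalCategory.hom_ext
    · simp only [Category.assoc, whiskerLeft_fst, lift_fst]
    · simp only [Category.assoc, whiskerLeft_snd, lift_snd]
  rw [← Category.assoc, e, _root_.mul_inv_rev]

end Main

theorem main (G : Over (Spec (CommRingCat.of k))) [GrpObj G] [Smooth G.hom]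
    (H : Over (Spec (CommRingCat.of k))) [GrpObj H] (i : H ⟶ G) [IsMonHom i]
    (Y : Over (Spec (CommRingCat.of k))) (b : AlgGrp.Action G Y)
    (o' : 𝟙_ (Over (Spec (CommRingCat.of k))) ⟶ Y) (hY : AGF.IsQuotient i Y b o')
    [IsProper Y.hom]
    (X : Over (Spec (CommRingCat.of k))) (a : AlgGrp.Action G X)
    (x : 𝟙_ (Over (Spec (CommRingCat.of k))) ⟶ X) :
    closure (Set.range ⇑(a.orbitMap x).left.base) =
      ⇑a.act.left.base '' (⇑(snd G X).left.base ⁻¹'
        closure (Set.range ⇑(i ≫ a.orbitMap x).left.base)) := by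
  obtain ⟨hlft, hfl, hsurj, hpb⟩ := hY
  haveI : IsLocallyNoetherian Y.left := LocallyOfFiniteType.isLocallyNoetherian Y.hom
  haveI : LocallyOfFiniteType (b.orbitMap o').left := by
    have : LocallyOfFiniteType ((b.orbitMap o').left ≫ Y.hom) := by
      rw [Over.w]; infer_instance
    exact locallyOfFiniteType_of_comp (b.orbitMap o').left Y.hom
  haveI : LocallyOfFinitePresentation (b.orbitMap o').left := inferInstance
  haveI : UniversallyOpen (b.orbitMap o').left := inferInstance
  show closure (Set.range (a.orbitMap x).left) =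
    a.act.left '' ((snd G X).left ⁻¹' closure (Set.range (i ≫ a.orbitMap x).left))
  set R : Set X.left := Set.range (i ≫ a.orbitMap x).left with hR
  set W : Set (G ⊗ X).left := (Phi a).left ⁻¹' closure R with hWdef
  have hWc : IsClosed W := isClosed_closure.preimage (Phi a).left.continuous
  -- the two descriptions of `G · Z`
  have h5 : a.act.left '' ((snd G X).left ⁻¹' closure R) = (snd G X).left '' W := by
    apply Set.Subset.antisymm
    · rintro _ ⟨w, hw, rfl⟩
      refine ⟨(Th a).left w, ?_, ?_⟩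
      · show (Phi a).left ((Th a).left w) ∈ closure R
        have : (Phi a).left ((Th a).left w) = (Th a ≫ Phi a).left w := by
          rw [Over.comp_left]; rfl
        rw [this, Th_Phi]
        exact hw
      · have : (snd G X).left ((Th a).left w) = (Th a ≫ snd G X).left w := by
          rw [Over.comp_left]; rfl
        rw [this, Th_snd]
    · rintro _ ⟨w, hw, rfl⟩
      refine ⟨(Th' a).left w, ?_, ?_⟩
      · show (snd G X).left ((Th' a).left w) ∈ closure R
        have : (snd G X).left ((Th' a).left w) = (Th' a ≫ snd G X).left w := by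
          rw [Over.comp_left]; rfl
        rw [this, Th'_snd]
        exact hw
      · have : a.act.left ((Th' a).left w) = (Th' a ≫ a.act).left w := by
          rw [Over.comp_left]; rfl
        rw [this, Th'_act]
  -- open projections
  haveI : UniversallyOpen G.hom := inferInstance
  haveI : UniversallyOpen H.hom := inferInstance
  have hsndG : IsOpenMap (snd G X).left := by
    haveI : UniversallyOpen (snd G X).left := by
      rw [Over.snd_left]; infer_instance
    exact (snd G X).left.isOpenMap
  have hsndH : IsOpenMap (snd H X).left := by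
    haveI : UniversallyOpen (snd H X).left := by
      rw [Over.snd_left]; infer_instance
    exact (snd H X).left.isOpenMap
  -- `Z` is stable under `H`
  have hβ : ∀ z, (snd H X).left z ∈ closure R → (bet i a).left z ∈ closure R := by
    intro z hz
    have h1 : z ∈ closure ((snd H X).left ⁻¹' R) :=
      hsndH.preimage_closure_subset_closure_preimage hz
    have h2 : (bet i a).left z ∈ closure ((bet i a).left '' ((snd H X).left ⁻¹' R)) :=
      image_closure_subset_closure_image (bet i a).left.continuous ⟨z, h1, rfl⟩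
    refine closure_mono ?_ h2
    rintro _ ⟨z₁, hz₁, rfl⟩
    have hz₂ : z₁ ∈ Set.range (H ◁ (i ≫ a.orbitMap x)).left := by
      rw [range_whiskerLeft]
      exact hz₁
    obtain ⟨z', rfl⟩ := hz₂
    have : (bet i a).left ((H ◁ (i ≫ a.orbitMap x)).left z') =
        ((H ◁ (i ≫ a.orbitMap x)) ≫ bet i a).left z' := by
      rw [Over.comp_left]; rfl
    rw [this, whisker_bet, Over.comp_left]
    exact ⟨_, rfl⟩
  -- saturation
  have hsat : ((fst G H) ▷ X).left ⁻¹' W ⊆ (((G ◁ i) ≫ μ[G]) ▷ X).left ⁻¹' W := by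
    intro w hw
    show (Phi a).left ((((G ◁ i) ≫ μ[G]) ▷ X).left w) ∈ closure R
    have e1 : (Phi a).left ((((G ◁ i) ≫ μ[G]) ▷ X).left w) =
        ((((G ◁ i) ≫ μ[G]) ▷ X) ≫ Phi a).left w := by
      rw [Over.comp_left]; rfl
    rw [e1, p2_Phi, Over.comp_left]
    show (bet i a).left ((lift (fst (G ⊗ H) X ≫ snd G H) ((fst G H ▷ X) ≫ Phi a)).left w) ∈
      closure R
    apply hβ
    have : (snd H X).left ((lift (fst (G ⊗ H) X ≫ snd G H) ((fst G H ▷ X) ≫ Phi a)).left w) =
        (lift (fst (G ⊗ H) X ≫ snd G H) ((fst G H ▷ X) ≫ Phi a) ≫ snd H X).left w := by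
      rw [Over.comp_left]; rfl
    rw [this, lift_snd, Over.comp_left]
    exact hw
  have hcl : IsClosed ((snd G X).left '' W) := isClosed_snd_image hpb X W hWc hsat
  apply Set.Subset.antisymm
  · rw [h5]
    apply closure_minimal _ hcl
    rw [← h5]
    rintro _ ⟨g, rfl⟩
    refine ⟨(lift (𝟙 G) (toUnit G ≫ x)).left g, ?_, rfl⟩
    show (snd G X).left ((lift (𝟙 G) (toUnit G ≫ x)).left g) ∈ closure R
    have : (snd G X).left ((lift (𝟙 G) (toUnit G ≫ x)).left g) =
        (lift (𝟙 G) (toUnit G ≫ x) ≫ snd G X).left g := by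
      rw [Over.comp_left]; rfl
    rw [this, lift_snd]
    apply subset_closure
    have hx : x = η[H] ≫ (i ≫ a.orbitMap x) := by
      rw [← Category.assoc, IsMonHom.one_hom, unit_orbit]
    have : (toUnit G ≫ x).left g = (i ≫ a.orbitMap x).left ((η[H]).left ((toUnit G).left g)) := by
      conv_lhs => rw [hx]
      rw [Over.comp_left, Over.comp_left]
      rfl
    rw [this]
    exact ⟨_, rfl⟩
  · rintro _ ⟨v, hv, rfl⟩
    have h1 : v ∈ closure ((snd G X).left ⁻¹' R) :=
      hsndG.preimage_closure_subset_closure_preimage hv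
    have h2 : a.act.left v ∈ closure (a.act.left '' ((snd G X).left ⁻¹' R)) :=
      image_closure_subset_closure_image a.act.left.continuous ⟨v, h1, rfl⟩
    refine closure_mono ?_ h2
    rintro _ ⟨v₁, hv₁, rfl⟩
    have hv₂ : v₁ ∈ Set.range (G ◁ (i ≫ a.orbitMap x)).left := by
      rw [range_whiskerLeft]
      exact hv₁
    obtain ⟨v', rfl⟩ := hv₂
    have : a.act.left ((G ◁ (i ≫ a.orbitMap x)).left v') =
        ((G ◁ (i ≫ a.orbitMap x)) ≫ a.act).left v' := by
      rw [Over.comp_left]; rfl
    rw [this, whisker_act, Over.comp_left]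
    exact ⟨_, rfl⟩

end Groth.Agent.S11218

namespace Groth.Agent.S11218

/-- Let k be an algebraically closed field, G a linear algebraic group over k (an affine smooth group
scheme over k) and H a closed subgroup of G (a smooth closed subgroup scheme, i : H → G), such that
the quotient G/H (the scheme Y with action b and base point o′) is proper over k (complete). Let G
act on a variety X over k (separated, of finite type) and let x be a rational point of X; let Z ⊆ X
be the closure of the H-orbit of x. Then the closure of the G-orbit of x is G·Z, the image under the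
action map of the preimage of Z in G × X. (The published statement takes X affine; the argument does
not use this, and this row drops it.) -/
theorem result (k : Type u) [Field k] [IsAlgClosed k]
    (G : Over (Spec (CommRingCat.of k))) [GrpObj G] [IsAffine G.left] [Smooth G.hom]
    (H : Over (Spec (CommRingCat.of k))) [GrpObj H] [Smooth H.hom] (i : H ⟶ G) [IsMonHom i]
    [IsClosedImmersion i.left]
    (Y : Over (Spec (CommRingCat.of k))) (b : AlgGrp.Action G Y) (o' : 𝟙_ (Over (Spec (CommRingCat.of k))) ⟶ Y) (hY : AGF.IsQuotient i Y b o')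
    [IsProper Y.hom]
    (X : Over (Spec (CommRingCat.of k))) [IsSeparated X.hom] [LocallyOfFiniteType X.hom] [QuasiCompact X.hom]
    (a : AlgGrp.Action G X) (x : 𝟙_ (Over (Spec (CommRingCat.of k))) ⟶ X) :
    closure (Set.range ⇑(a.orbitMap x).left.base) =
      ⇑a.act.left.base '' (⇑(snd G X).left.base ⁻¹' closure (Set.range ⇑(i ≫ a.orbitMap x).left.base)) := by
  exact main G H i Y b o' hY X a x

end Groth.Agent.S11218
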