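import Groth.Statements.S11221
import Mathlib.RingTheory.Ideal.AssociatedPrime.Localization

set_option autoImplicit false
universe u
open CategoryTheory MonoidalCategory CartesianMonoidalCategory MonObj GrpObj AlgebraicGeometry
open scoped TensorProduct
open AGF

namespace Groth.Agent.S11221

/-- Let R be a Noetherian integrally closed domain with fraction field K and let p be a prime ideal of R
of height one. Then there is f ∈ K which is not in R but lies in the local ring R_q ⊆ K of every
height-one prime q ≠ p (f = a/b with b ∉ q): a rational function on Spec R with a pole along V(p)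
only. (The published statement is for the coordinate ring of a normal affine variety; this row is
for any Noetherian integrally closed domain, which is all the argument uses.) -/
theorem result (R : Type u) [CommRing R] [IsDomain R] [IsNoetherianRing R] [IsIntegrallyClosed R]
    (p : Ideal R) [p.IsPrime] (hp : p.height = 1) :
    ∃ f : FractionRing R, f ∉ Set.range ⇑(algebraMap R (FractionRing R)) ∧
      ∀ q : Ideal R, q.IsPrime → q.height = 1 → q ≠ p →
        ∃ a b : R, b ∉ q ∧ f * algebraMap R (FractionRing R) b = algebraMap R (FractionRing R) a := by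
  classical
  let K := FractionRing R
  -- p ≠ ⊥
  have hpbot : p ≠ ⊥ := by
    intro h
    have h0 : p.height = 0 := Ideal.height_eq_zero_iff_eq_bot.mpr h
    rw [hp] at h0
    exact one_ne_zero h0
  obtain ⟨a, hap, ha0⟩ := Submodule.exists_mem_ne_zero_of_ne_bot hpbot
  -- p is minimal over (a)
  have hmin : p ∈ (Ideal.span {a}).minimalPrimes := by
    refine ⟨⟨inferInstance, (Ideal.span_singleton_le_iff_mem p).mpr hap⟩, ?_⟩
    rintro q ⟨hq, haq⟩ hqp
    by_contra hnot
    have hlt : q < p := lt_of_le_of_ne hqp (fun h => hnot (h ▸ le_refl _))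
    haveI := hq
    have hqbot : q ≠ ⊥ := by
      intro h
      rw [h] at haq
      have : a ∈ (⊥ : Ideal R) := haq (Ideal.mem_span_singleton_self a)
      exact ha0 (by simpa using this)
    have hq1 : 1 ≤ q.height := by
      rw [Order.one_le_iff_pos, pos_iff_ne_zero]
      intro h0
      exact hqbot (Ideal.height_eq_zero_iff_eq_bot.mp h0)
    have h2 := Ideal.height_add_one_le_of_lt_of_isPrime hlt
    rw [hp] at h2
    have : (1 : ℕ∞) + 1 ≤ 1 := (add_le_add_left hq1 1).trans h2
    exact absurd this (by decide)
  -- p is an associated prime of R/(a)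
  have hass : p ∈ associatedPrimes R (R ⧸ Ideal.span {a}) := by
    apply Module.associatedPrimes.minimalPrimes_annihilator_subset_associatedPrimes R (R ⧸ Ideal.span {a})
    rw [Ideal.annihilator_quotient]
    exact hmin
  obtain ⟨_, x, hx⟩ := (isAssociatedPrime_iff).mp hass
  obtain ⟨b, rfl⟩ := Ideal.Quotient.mk_surjective x
  have hmem : ∀ r : R, r ∈ p ↔ r * b ∈ Ideal.span {a} := by
    intro r
    rw [hx, Submodule.mem_colon_singleton, Submodule.mem_bot]
    rw [← Ideal.Quotient.eq_zero_iff_mem]
    rfl
  have hb : b ∉ Ideal.span {a} := by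
    intro hb
    have : (1 : R) ∈ p := (hmem 1).mpr (by simpa using hb)
    exact (Ideal.IsPrime.ne_top inferInstance) ((Ideal.eq_top_iff_one p).mpr this)
  have haK : algebraMap R K a ≠ 0 := by
    intro h
    exact ha0 ((IsFractionRing.injective R K) (by simpa using h))
  refine ⟨algebraMap R K b / algebraMap R K a, ?_, ?_⟩
  · rintro ⟨r, hr⟩
    apply hb
    rw [Ideal.mem_span_singleton']
    refine ⟨r, ?_⟩
    apply IsFractionRing.injective R K
    rw [map_mul, hr, div_mul_cancel₀ _ haK]
  · intro q hq hq1 hqp
    haveI := hq
    -- p ⊄ q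
    have hnle : ¬ p ≤ q := by
      intro hle
      have hlt : p < q := lt_of_le_of_ne hle (fun h => hqp h.symm)
      have h2 := Ideal.height_add_one_le_of_lt_of_isPrime hlt
      rw [hp, hq1] at h2
      exact absurd h2 (by decide)
    obtain ⟨s, hsp, hsq⟩ := Set.not_subset.mp hnle
    obtain ⟨c, hc⟩ := Ideal.mem_span_singleton'.mp ((hmem s).mp hsp)
    refine ⟨c, s, hsq, ?_⟩
    rw [div_mul_eq_mul_div, div_eq_iff haK, ← map_mul, ← map_mul]
    congr 1
    rw [hc, mul_comm]

end Groth.Agent.S11221
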