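import Groth.Statements.S11223
import Mathlib
-- import your own Groth.Agent.* helpers here

set_option autoImplicit false
universe u
open CAlg

namespace Groth.Agent.S11223

attribute [local instance] MvPolynomial.gradedAlgebra in
theorem hc_mul {σ R : Type*} [CommSemiring R] (c z : MvPolynomial σ R) (d D : ℕ)
    (hz : z.IsHomogeneous d) :
    MvPolynomial.homogeneousComponent D (c * z) =
      if d ≤ D then MvPolynomial.homogeneousComponent (D - d) c * z else 0 := by
  have key : ∀ (φ : MvPolynomial σ R) (i : ℕ),
      (DirectSum.decompose (MvPolynomial.homogeneousSubmodule σ R) φ i : MvPolynomial σ R) =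
        MvPolynomial.homogeneousComponent i φ :=
    fun φ i => MvPolynomial.decomposition.decompose'_apply φ i
  split_ifs with h
  · rw [← key, ← key, DirectSum.coe_decompose_mul_of_right_mem_of_le _ hz h]
  · rw [← key, DirectSum.coe_decompose_mul_of_right_mem_of_not_le _ hz h]

/-- Let k be a field, let z_1, ..., z_m be homogeneous polynomials of positive degree in the polynomial
ring k[x_1, ..., x_n], and suppose the radical of the ideal (z_1, ..., z_m) is the ideal (x_1, ...,
x_n) generated by the variables. Then the polynomial ring is integral over the subalgebra generated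
by z_1, ..., z_m. (The published statement is over an algebraically closed field; this row takes any
field, which its proof allows.) -/
theorem result (k : Type u) [Field k] (n m : ℕ)
    (z : Fin m → MvPolynomial (Fin n) k) (d : Fin m → ℕ) (hd : ∀ i, 0 < d i)
    (hz : ∀ i, (z i).IsHomogeneous (d i))
    (hrad : (Ideal.span (Set.range z)).radical =
      Ideal.span (Set.range (MvPolynomial.X : Fin n → MvPolynomial (Fin n) k))) :
    Algebra.IsIntegral (Algebra.adjoin k (Set.range z)) (MvPolynomial (Fin n) k) := by
  classical
  obtain ⟨N, hN⟩ : ∃ N, MvPolynomial.idealOfVars (Fin n) k ^ N ≤ Ideal.span (Set.range z) := by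
    have := Ideal.exists_radical_pow_le_of_fg (Ideal.span (Set.range z))
      (by rw [hrad]; exact MvPolynomial.idealOfVars_fg _ _)
    rwa [hrad] at this
  let W : Submodule k (MvPolynomial (Fin n) k) :=
    ⨆ D ∈ Finset.range N, MvPolynomial.homogeneousSubmodule (Fin n) k D
  have hWfg : W.FG :=
    Submodule.fg_biSup _ _ (fun D _ => MvPolynomial.homogeneousSubmodule_fg (σ := Fin n) (R := k) D)
  let T : Submodule (Algebra.adjoin k (Set.range z)) (MvPolynomial (Fin n) k) :=
    Submodule.span (Algebra.adjoin k (Set.range z)) (W : Set (MvPolynomial (Fin n) k))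
  have hTfg : T.FG := by
    obtain ⟨s, hs⟩ := hWfg
    refine ⟨s, ?_⟩
    change _ = Submodule.span (Algebra.adjoin k (Set.range z)) (W : Set (MvPolynomial (Fin n) k))
    rw [← hs]
    exact (Submodule.span_span_of_tower k (Algebra.adjoin k (Set.range z))
      (s : Set (MvPolynomial (Fin n) k))).symm
  have hmain : ∀ D (f : MvPolynomial (Fin n) k), f.IsHomogeneous D → f ∈ T := by
    intro D
    induction D using Nat.strong_induction_on with
    | _ D ih =>
      intro f hf
      by_cases hDN : D < N
      · apply Submodule.subset_span
        exact Submodule.mem_iSup_of_mem D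
          (Submodule.mem_iSup_of_mem (Finset.mem_range.mpr hDN) hf)
      · rw [not_lt] at hDN
        have hfz : f ∈ Ideal.span (Set.range z) := by
          apply hN
          rw [MvPolynomial.mem_pow_idealOfVars_iff]
          intro x hx
          have := hf.degree_eq_sum_deg_support hx
          rw [Finsupp.degree_apply]
          omega
        obtain ⟨c, hc⟩ := (Ideal.mem_span_range_iff_exists_fun).mp hfz
        have hf' : f = ∑ i, MvPolynomial.homogeneousComponent D (c i * z i) := by
          rw [← map_sum, hc, MvPolynomial.homogeneousComponent_eq_self hf]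
        rw [hf']
        apply T.sum_mem
        intro i _
        rw [hc_mul _ _ _ _ (hz i)]
        split_ifs with h
        · have h1 : MvPolynomial.homogeneousComponent (D - d i) (c i) ∈ T :=
            ih (D - d i) (by have := hd i; omega) _
              (MvPolynomial.homogeneousComponent_isHomogeneous _ _)
          have h2 := T.smul_mem (⟨z i, Algebra.subset_adjoin ⟨i, rfl⟩⟩ :
            Algebra.adjoin k (Set.range z)) h1
          rw [mul_comm]
          exact h2
        · exact T.zero_mem
  have hT : T = ⊤ := by
    rw [eq_top_iff]
    intro f _
    rw [← MvPolynomial.sum_homogeneousComponent f]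
    apply T.sum_mem
    intro D _
    exact hmain D _ (MvPolynomial.homogeneousComponent_isHomogeneous _ _)
  have hfin : Module.Finite (Algebra.adjoin k (Set.range z)) (MvPolynomial (Fin n) k) :=
    ⟨hT ▸ hTfg⟩
  exact Algebra.IsIntegral.of_finite _ _

end Groth.Agent.S11223
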