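import Groth.Statements.S11231
-- import your own Groth.Agent.* helpers here

set_option autoImplicit false
universe u
open CategoryTheory MonoidalCategory CartesianMonoidalCategory MonObj GrpObj AlgebraicGeometry
open scoped TensorProduct
open AGF

namespace Groth.Agent.S11231

section Helpers

/-- a subalgebra of an integrally closed domain which is saturated under division is integrally
closed. -/
theorem isIntegrallyClosed_of_saturated {k A : Type u} [Field k] [CommRing A] [IsDomain A]
    [Algebra k A] [IsIntegrallyClosed A] (R : Subalgebra k A)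
    (hR : ∀ (a : A) (r s : R), s ≠ 0 → a * (s : A) = (r : A) → a ∈ R) :
    IsIntegrallyClosed R := by
  let K := FractionRing A
  let L := FractionRing R
  have hinj : Function.Injective ((algebraMap A K).comp (algebraMap R A)) :=
    (IsFractionRing.injective A K).comp Subtype.val_injective
  let φ : L →+* K := IsFractionRing.lift hinj
  have hφ : ∀ y : R, φ (algebraMap R L y) = algebraMap A K (y : A) := fun y =>
    IsFractionRing.lift_algebraMap hinj y
  rw [isIntegrallyClosed_iff L]
  intro x hx
  obtain ⟨r, s, rfl⟩ := IsLocalization.exists_mk'_eq (nonZeroDivisors R) x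
  have hint : IsIntegral A (φ (IsLocalization.mk' L r s)) := by
    obtain ⟨p, hp, hpx⟩ := hx
    refine ⟨p.map (algebraMap R A), hp.map _, ?_⟩
    rw [Polynomial.eval₂_map]
    have e : (algebraMap A K).comp (algebraMap R A) = φ.comp (algebraMap R L) := by
      ext y
      exact (hφ y).symm
    rw [e, ← Polynomial.hom_eval₂, hpx, map_zero]
  obtain ⟨a, ha⟩ := IsIntegrallyClosed.isIntegral_iff.1 hint
  have hs : (s : R) ≠ 0 := nonZeroDivisors.ne_zero s.2
  have has : a * ((s : R) : A) = (r : A) := by
    apply IsFractionRing.injective A K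
    rw [map_mul, ha, ← hφ, ← hφ, ← map_mul, IsLocalization.mk'_spec]
  have haR : a ∈ R := hR a r s hs has
  refine ⟨⟨a, haR⟩, ?_⟩
  rw [IsLocalization.eq_mk'_iff_mul_eq, ← map_mul]
  congr 1
  exact Subtype.ext has

theorem mul_tmul_injective {k A : Type u} [Field k] [CommRing A] [IsDomain A] [Algebra k A]
    (B : Type u) [CommRing B] [Algebra k B] (s : A) (hs : s ≠ 0) (x y : B ⊗[k] A)
    (h : x * ((1 : B) ⊗ₜ[k] s) = y * ((1 : B) ⊗ₜ[k] s)) : x = y := by
  have hinj : Function.Injective ((LinearMap.mulRight k s).lTensor B) :=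
    Module.Flat.lTensor_preserves_injective_linearMap _ (mul_left_injective₀ hs)
  have e : ∀ z : B ⊗[k] A, z * ((1 : B) ⊗ₜ[k] s) = (LinearMap.mulRight k s).lTensor B z := by
    intro z
    induction z using TensorProduct.induction_on with
    | zero => simp
    | tmul b a => simp [Algebra.TensorProduct.tmul_mul_tmul]
    | add z w hz hw => rw [add_mul, hz, hw, map_add]
  apply hinj
  rw [← e, ← e, h]

variable {k : Type u} [Field k] {G H : Over (Spec (CommRingCat.of k))} [GrpObj G]

theorem mem_fixedSubalgebra_of_mul {A : Type u} [CommRing A] [IsDomain A] [Algebra k A]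
    (ρ : VecGrp.GMod G A) (hρ : ρ.IsMult) (i : H ⟶ G) (a : A)
    (r s : ↥(ρ.fixedSubalgebra hρ i)) (hs : s ≠ 0) (has : a * (s : A) = (r : A)) :
    a ∈ ρ.fixedSubalgebra hρ i := by
  intro B _ _ h
  have hs' : (s : A) ≠ 0 := fun h0 => hs (Subtype.ext h0)
  apply mul_tmul_injective B (s : A) hs'
  have e : ((1 : B) ⊗ₜ[k] (r : A) : VecGrp.W k A B) = ((1 : B) ⊗ₜ[k] a) * ((1 : B) ⊗ₜ[k] (s : A)) := by
    rw [Algebra.TensorProduct.tmul_mul_tmul, _root_.one_mul, has]
  have h1 := r.2 B h
  rw [e, (hρ B (h ≫ i)).1, s.2 B h] at h1
  exact h1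


end Helpers

/-- Let k an algebraically closed field, G a connected reductive linear algebraic group over k, B a
Borel subgroup of G with unipotent radical U (a maximal unipotent subgroup), and let A be a
commutative k-algebra with a rational action of G by algebra automorphisms. If A is an integrally
closed domain then so is A^U. (The published statement is for A normal; its proof reduces to the
case of a domain, which is the case stated here.) -/
theorem result (k : Type u) [Field k] [IsAlgClosed k]
    (G : Over (Spec (CommRingCat.of k))) [GrpObj G] (hG : Red.IsReductiveOver k G)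
    (Bo : Over (Spec (CommRingCat.of k))) [GrpObj Bo] (iB : Bo ⟶ G) (hB : Red.IsBorelOver k iB)
    (U : Over (Spec (CommRingCat.of k))) [GrpObj U] (u : U ⟶ Bo) (hU : Par.IsUnipotentRadical u)
    (A : Type u) [CommRing A] [IsDomain A] [Algebra k A] [IsIntegrallyClosed A]
    (ρ : VecGrp.GMod G A) (hρ : ρ.IsMult) :
    IsIntegrallyClosed ↥(ρ.fixedSubalgebra hρ (u ≫ iB)) := by
  exact isIntegrallyClosed_of_saturated _
    (fun a r s hs has => mem_fixedSubalgebra_of_mul ρ hρ (u ≫ iB) a r s hs has)

end Groth.Agent.S11231
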