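import Groth.Statements.S11233
import Mathlib
-- import your own Groth.Agent.* helpers here

set_option autoImplicit false
universe u
open CAlg

namespace Groth.Agent.S11233

/-- Let k be an algebraically closed field, A an integral domain which is a k-algebra, T an m by m
matrix over A with invertible determinant, and let the additive group k^m act on the polynomial ring
A[y_1, ..., y_m] by the A-algebra maps y_s ↦ y_s + Σ_r h_r T_rs. Then the only invariant polynomials
are the constants: a polynomial fixed by all these substitutions lies in A. -/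
theorem result (k : Type u) [Field k] [IsAlgClosed k]
    (A : Type u) [CommRing A] [IsDomain A] [Algebra k A] (m : ℕ) (T : Matrix (Fin m) (Fin m) A)
    (hT : IsUnit T.det) (f : MvPolynomial (Fin m) A)
    (hf : ∀ h : Fin m → k, MvPolynomial.aeval
      (fun s : Fin m => MvPolynomial.X s + MvPolynomial.C (∑ r : Fin m, algebraMap k A (h r) * T r s)) f = f) :
    ∃ a : A, f = MvPolynomial.C a := by
  classical
  let R := MvPolynomial (Fin m) A
  let g : Fin m → MvPolynomial (Fin m) R := fun s =>
    MvPolynomial.C (MvPolynomial.X s) +
      ∑ r : Fin m, MvPolynomial.X r * MvPolynomial.C (MvPolynomial.C (T r s))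
  let G : MvPolynomial (Fin m) R := MvPolynomial.aeval g f - MvPolynomial.C f
  have heval : ∀ x : Fin m → R, MvPolynomial.eval x G =
      MvPolynomial.aeval (fun s => MvPolynomial.X s + ∑ r, x r * MvPolynomial.C (T r s)) f - f := by
    intro x
    simp only [G, map_sub, MvPolynomial.eval_C]
    congr 1
    have : (MvPolynomial.eval x : MvPolynomial (Fin m) R →+* R).comp
        (MvPolynomial.aeval g : MvPolynomial (Fin m) A →ₐ[A] MvPolynomial (Fin m) R).toRingHom =
        (MvPolynomial.aeval (fun s => MvPolynomial.X s + ∑ r, x r * MvPolynomial.C (T r s)) :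
          MvPolynomial (Fin m) A →ₐ[A] R).toRingHom := by
      apply MvPolynomial.ringHom_ext
      · intro a
        simp [MvPolynomial.algebraMap_apply]
      · intro i
        simp [g]
    exact RingHom.congr_fun this f
  have hinj : Function.Injective
      (fun c : k => (MvPolynomial.C (algebraMap k A c) : R)) := by
    intro c c' h
    exact (algebraMap k A).injective (MvPolynomial.C_injective (Fin m) A h)
  have hG : G = 0 := by
    apply MvPolynomial.funext_set
      (fun _ : Fin m => Set.range (fun c : k => (MvPolynomial.C (algebraMap k A c) : R)))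
      (fun _ => Set.infinite_range_of_injective hinj)
    intro x hx
    choose h hh using fun i => hx i (Set.mem_univ i)
    rw [heval, map_zero, sub_eq_zero]
    have := hf h
    convert this using 3
    funext s
    simp only [← hh, map_sum, map_mul]
  obtain ⟨Tinv, hTinv⟩ : ∃ Ti : Matrix (Fin m) (Fin m) A, Ti * T = 1 :=
    ⟨T⁻¹, Matrix.nonsing_inv_mul T hT⟩
  have h0 := heval (fun r => - ∑ s', MvPolynomial.X s' * MvPolynomial.C (Tinv s' r))
  rw [hG, map_zero] at h0
  have hzero : (fun s => (MvPolynomial.X s : R) + ∑ r,
      (- ∑ s', MvPolynomial.X s' * MvPolynomial.C (Tinv s' r)) * MvPolynomial.C (T r s)) =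
      0 := by
    funext s
    simp only [Pi.zero_apply, neg_mul, Finset.sum_neg_distrib, Finset.sum_mul]
    rw [Finset.sum_comm]
    have : ∀ s' : Fin m, ∑ r, (MvPolynomial.X s' : R) * MvPolynomial.C (Tinv s' r) *
        MvPolynomial.C (T r s) = MvPolynomial.X s' * MvPolynomial.C ((1 : Matrix _ _ A) s' s) := by
      intro s'
      rw [← hTinv, Matrix.mul_apply, map_sum, Finset.mul_sum]
      apply Finset.sum_congr rfl
      intro r _
      rw [map_mul, mul_assoc]
    simp only [this, Matrix.one_apply]
    simp
  rw [hzero, MvPolynomial.aeval_zero] at h0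
  refine ⟨MvPolynomial.constantCoeff f, ?_⟩
  rw [← sub_eq_zero, ← neg_eq_zero, neg_sub]
  exact h0.symm

end Groth.Agent.S11233
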