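import Groth.Statements.S11235
import Mathlib
-- import your own Groth.Agent.* helpers here

set_option autoImplicit false
universe u
open CAlg

namespace Groth.Agent.S11235

/-- Let k be an algebraically closed field, A a commutative k-algebra, α ∈ k, and M a maximal ideal of
the polynomial ring A[x] containing x - α. Let I ⊆ M be an ideal whose zero set in Spec A[x] is
invariant under the automorphisms x ↦ c·x, c ∈ k nonzero (equivalently: the image of I under each
such A-algebra automorphism has the same radical as I). Then there is a maximal ideal of A[x]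
containing I and x. -/
theorem result (k : Type u) [Field k] [IsAlgClosed k]
    (A : Type u) [CommRing A] [Algebra k A] (α : k)
    (M : Ideal (Polynomial A)) (hM : M.IsMaximal)
    (hα : Polynomial.X - Polynomial.C (algebraMap k A α) ∈ M)
    (I : Ideal (Polynomial A)) (hIM : I ≤ M)
    (hI : ∀ c : kˣ, (I.map (Polynomial.aeval (R := A)
      (algebraMap k A (c : k) • (Polynomial.X : Polynomial A)))).radical = I.radical) :
    ∃ N : Ideal (Polynomial A), N.IsMaximal ∧ I ≤ N ∧ Polynomial.X ∈ N := by
  classical
  by_cases hα0 : α = 0
  · refine ⟨M, hM, hIM, ?_⟩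
    simpa [hα0] using hα
  letI : Field (Polynomial A ⧸ M) := Ideal.Quotient.field M
  let F := Polynomial A ⧸ M
  let mk : Polynomial A →+* F := Ideal.Quotient.mk M
  let φ : A →+* F := mk.comp Polynomial.C
  let ι : k →+* F := φ.comp (algebraMap k A)
  have hmk : ∀ (p : Polynomial A) (y : Polynomial A), mk (p.eval₂ Polynomial.C y) = p.eval₂ φ (mk y) := by
    intro p y
    exact Polynomial.hom_eval₂ p Polynomial.C mk y
  have hX : mk Polynomial.X = ι α := by
    have : mk (Polynomial.X - Polynomial.C (algebraMap k A α)) = 0 :=
      Ideal.Quotient.eq_zero_iff_mem.mpr hα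
    rw [map_sub, sub_eq_zero] at this
    exact this
  have hφsurj : Function.Surjective φ := by
    intro y
    obtain ⟨p, rfl⟩ := Ideal.Quotient.mk_surjective y
    refine ⟨p.eval (algebraMap k A α), ?_⟩
    have h1 := hmk p Polynomial.X
    rw [Polynomial.eval₂_C_X, hX] at h1
    change mk p = _ at h1
    change _ = mk p
    rw [h1]
    exact (Polynomial.eval₂_at_apply φ (algebraMap k A α)).symm
  let ψ : Polynomial A →+* F := φ.comp (Polynomial.evalRingHom 0)
  have hψsurj : Function.Surjective ψ := by
    intro y
    obtain ⟨a, rfl⟩ := hφsurj y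
    exact ⟨Polynomial.C a, by simp [ψ]⟩
  refine ⟨RingHom.ker ψ, RingHom.ker_isMaximal_of_surjective ψ hψsurj, ?_, by simp [RingHom.mem_ker, ψ]⟩
  intro p hp
  rw [RingHom.mem_ker]
  have hroot : ∀ c : k, c ≠ 0 → (p.map φ).eval (ι (c * α)) = 0 := by
    intro c hc
    have h1 : Polynomial.aeval (R := A) (algebraMap k A c • (Polynomial.X : Polynomial A)) p ∈ M := by
      have h2 : Polynomial.aeval (R := A) (algebraMap k A c • (Polynomial.X : Polynomial A)) p ∈
          (I.map (Polynomial.aeval (R := A)
            (algebraMap k A ((Units.mk0 c hc : kˣ) : k) • (Polynomial.X : Polynomial A)))) :=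
        Ideal.mem_map_of_mem _ hp
      have h3 := Ideal.le_radical h2
      rw [hI] at h3
      exact (hM.isPrime.radical_le_iff.mpr hIM) h3
    have h4 : mk (Polynomial.aeval (R := A) (algebraMap k A c • (Polynomial.X : Polynomial A)) p) = 0 :=
      Ideal.Quotient.eq_zero_iff_mem.mpr h1
    rw [Polynomial.aeval_def, Polynomial.algebraMap_eq, hmk] at h4
    rw [Polynomial.eval_map, map_mul]
    rw [← h4]
    congr 1
    rw [Algebra.smul_def, Polynomial.algebraMap_eq, map_mul, hX]
    rfl
  have hq : Polynomial.X * p.map φ = 0 := by
    apply Polynomial.eq_zero_of_infinite_isRoot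
    have hinj : Function.Injective (fun c : k => ι (c * α)) := by
      intro c c' h
      have := ι.injective h
      exact mul_right_cancel₀ hα0 this
    apply (Set.infinite_range_of_injective hinj).mono
    rintro _ ⟨c, rfl⟩
    simp only [Set.mem_setOf_eq, Polynomial.IsRoot, Polynomial.eval_mul, Polynomial.eval_X]
    by_cases hc : c = 0
    · simp [hc]
    · rw [hroot c hc, mul_zero]
  have hq' : p.map φ = 0 := by
    rcases mul_eq_zero.mp hq with h | h
    · exact absurd h Polynomial.X_ne_zero
    · exact h
  have : (p.map φ).eval 0 = 0 := by rw [hq']; simp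
  rw [Polynomial.eval_map] at this
  change φ (p.eval 0) = 0
  rw [← this]
  have := Polynomial.eval₂_at_apply (p := p) φ (0 : A)
  rw [map_zero] at this
  exact this.symm

end Groth.Agent.S11235
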