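import Groth.Statements.S11239
import Mathlib.LinearAlgebra.Matrix.Block
-- import your own Groth.Agent.* helpers here

set_option autoImplicit false
universe u
open AGF

namespace Groth.Agent.S11239

/-- Let X be an m × n matrix over a commutative ring, u an upper triangular n × n matrix with ones on
the diagonal, t a diagonal n × n matrix and p ≤ n. For any choice of p rows, the minor of X·t·u
formed with these rows and the first p columns equals (t_11 ⋯ t_pp) times the corresponding minor of
X: the minors on the first p columns are semi-invariant of weight ω_p under right multiplication by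
the upper triangular group. (The published statement is for the generic matrix over an algebraically
closed field; this row states the identity over any commutative ring.) -/
theorem result (R : Type u) [CommRing R] (m n p : ℕ) (hp : p ≤ n)
    (X : Matrix (Fin m) (Fin n) R) (d : Fin n → R) (u : Matrix (Fin n) (Fin n) R)
    (hu1 : ∀ i, u i i = 1) (hu0 : ∀ i j, j < i → u i j = 0) (I : Fin p → Fin m) :
    ((X * Matrix.diagonal d * u).submatrix I (Fin.castLE hp)).det =
      (∏ i : Fin p, d (Fin.castLE hp i)) * (X.submatrix I (Fin.castLE hp)).det := by
  have key : (X * Matrix.diagonal d * u).submatrix I (Fin.castLE hp) =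
      X.submatrix I (Fin.castLE hp) *
        ((Matrix.diagonal d * u).submatrix (Fin.castLE hp) (Fin.castLE hp)) := by
    ext a c
    rw [Matrix.mul_assoc]
    simp only [Matrix.submatrix_apply, Matrix.mul_apply]
    have hinj : Function.Injective (Fin.castLE hp) := Fin.castLE_injective hp
    rw [← Finset.sum_image (s := Finset.univ) (g := Fin.castLE hp)
      (f := fun k => X (I a) k * ∑ l, Matrix.diagonal d k l * u l (Fin.castLE hp c))
      (fun x _ y _ h => hinj h)]
    symm
    apply Finset.sum_subset (Finset.subset_univ _)
    intro k _ hk
    have hk' : (p : ℕ) ≤ k := by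
      by_contra hlt
      rw [not_le] at hlt
      apply hk
      rw [Finset.mem_image]
      exact ⟨⟨k, hlt⟩, Finset.mem_univ _, Fin.ext rfl⟩
    have : ∑ l, Matrix.diagonal d k l * u l (Fin.castLE hp c) = 0 := by
      apply Finset.sum_eq_zero
      intro l _
      by_cases hkl : k = l
      · subst hkl
        rw [hu0 k (Fin.castLE hp c) (by
          rw [Fin.lt_def]
          have := c.isLt
          simp only [Fin.val_castLE]
          omega), mul_zero]
      · rw [Matrix.diagonal_apply_ne _ hkl, zero_mul]
    rw [this, mul_zero]
  rw [key, Matrix.det_mul, mul_comm]
  congr 1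
  rw [Matrix.det_of_isUpperTriangular]
  · apply Finset.prod_congr rfl
    intro i _
    simp [Matrix.mul_apply, Matrix.diagonal_apply, hu1]
  · intro i j hji
    simp only [id] at hji
    simp only [Matrix.submatrix_apply, Matrix.mul_apply, Matrix.diagonal_apply]
    simp only [ite_mul, zero_mul, Finset.sum_ite_eq, Finset.mem_univ, if_true]
    rw [hu0 _ _ (by
      rw [Fin.lt_def] at hji ⊢
      simpa only [Fin.val_castLE] using hji), mul_zero]

end Groth.Agent.S11239
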