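import Groth.Statements.S11240
import Mathlib.Algebra.MvPolynomial.Eval
import Mathlib.LinearAlgebra.Matrix.Determinant.Basic
-- import your own Groth.Agent.* helpers here

set_option autoImplicit false
universe u
open AGF

namespace Groth.Agent.S11240

theorem det_generic_ne_zero (k : Type u) [Field k] (n m p : ℕ)
    (I' : Fin p → Fin n) (J : Fin p → Fin m) (hI : Function.Injective I')
    (hJ : Function.Injective J) :
    (Matrix.of fun a c => (MvPolynomial.X (I' a, J c) : MvPolynomial (Fin n × Fin m) k)).det ≠ 0 := by
  classical
  intro h
  let φ : MvPolynomial (Fin n × Fin m) k →+* k :=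
    MvPolynomial.eval (fun ac => if ∃ a', I' a' = ac.1 ∧ J a' = ac.2 then 1 else 0)
  have h1 := congrArg φ h
  rw [RingHom.map_det, map_zero] at h1
  have h2 : φ.mapMatrix (Matrix.of fun a c =>
      (MvPolynomial.X (I' a, J c) : MvPolynomial (Fin n × Fin m) k)) = 1 := by
    ext a c
    simp only [RingHom.mapMatrix_apply, Matrix.map_apply, Matrix.of_apply, φ, MvPolynomial.eval_X,
      Matrix.one_apply]
    by_cases hac : a = c
    · subst hac
      rw [if_pos ⟨a, rfl, rfl⟩, if_pos rfl]
    · rw [if_neg hac, if_neg]
      rintro ⟨a', h3, h4⟩
      exact hac ((hI h3).symm.trans (hJ h4))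
  rw [h2, Matrix.det_one] at h1
  exact one_ne_zero h1

theorem submatrix_transvection_mem {R : Type*} [CommRing R] (n m p : ℕ)
    (Xm : Matrix (Fin n) (Fin m) R) (j : Fin n) (I : Fin p → Fin n) (J : Fin p → Fin m)
    (hI : Function.Injective I) (a₀ : Fin p) (c : R) :
    (Matrix.transvection (I a₀) j c * Xm).submatrix I J =
      (Xm.submatrix I J).updateRow a₀ ((Xm.submatrix I J) a₀ + c • (fun c' => Xm j (J c'))) := by
  refine Matrix.ext fun a c' => ?_
  by_cases ha : a = a₀
  · subst ha
    rw [Matrix.updateRow_self, Matrix.submatrix_apply, Matrix.transvection_mul_apply_same]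
    rfl
  · have : I a ≠ I a₀ := fun h => ha (hI h)
    rw [Matrix.updateRow_ne ha, Matrix.submatrix_apply,
      Matrix.transvection_mul_apply_of_ne _ _ _ _ this]
    rfl

theorem det_submatrix_transvection_mem {R : Type*} [CommRing R] (n m p : ℕ)
    (Xm : Matrix (Fin n) (Fin m) R) (j : Fin n) (I : Fin p → Fin n) (J : Fin p → Fin m)
    (hI : Function.Injective I) (a₀ : Fin p) (c : R) :
    ((Matrix.transvection (I a₀) j c * Xm).submatrix I J).det =
      (Xm.submatrix I J).det +
        c * ((Xm.submatrix I J).updateRow a₀ (fun c' => Xm j (J c'))).det := by
  rw [submatrix_transvection_mem n m p Xm j I J hI a₀ c, Matrix.det_updateRow_add,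
    Matrix.updateRow_eq_self, Matrix.det_updateRow_smul]

theorem submatrix_transvection_not_mem {R : Type*} [CommRing R] (n m p : ℕ)
    (Xm : Matrix (Fin n) (Fin m) R) (i j : Fin n) (I : Fin p → Fin n) (J : Fin p → Fin m)
    (hi : i ∉ Set.range I) (c : R) :
    (Matrix.transvection i j c * Xm).submatrix I J = Xm.submatrix I J := by
  refine Matrix.ext fun a c' => ?_
  have : I a ≠ i := fun h => hi ⟨a, h⟩
  rw [Matrix.submatrix_apply, Matrix.transvection_mul_apply_of_ne _ _ _ _ this]
  rfl

/-- For a single root subgroup: let k be an algebraically closed field and X = (x_ab) the generic n × m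
matrix over the polynomial ring k[x_ab]. Let i ≠ j be row indices and let I (rows) and J (columns)
be strictly increasing sequences of length p. The minor of X with rows I and columns J is invariant
under replacing X by (1 + b·E_ij)·X for every b ∈ k (the one-parameter unipotent group adding b
times row j to row i) if and only if j occurs in I whenever i does. (The published statement gives
the criterion for the group generated by several such root subgroups, which is the conjunction of
these.) -/
theorem result (k : Type u) [Field k] [IsAlgClosed k] (n m p : ℕ)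
    (i j : Fin n) (hij : i ≠ j) (I : Fin p ↪o Fin n) (J : Fin p ↪o Fin m) :
    (∀ b : k, ((Matrix.transvection i j (MvPolynomial.C b) *
        (Matrix.of fun a c => (MvPolynomial.X (a, c) : MvPolynomial (Fin n × Fin m) k))).submatrix I J).det =
        ((Matrix.of fun a c => (MvPolynomial.X (a, c) : MvPolynomial (Fin n × Fin m) k)).submatrix I J).det) ↔
      (i ∈ Set.range I → j ∈ Set.range I) := by
  classical
  by_cases hi : i ∈ Set.range I
  · obtain ⟨a₀, rfl⟩ := hi
    by_cases hj : j ∈ Set.range I
    · obtain ⟨a₁, rfl⟩ := hj
      have hne : a₀ ≠ a₁ := fun h => hij (by rw [h])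
      constructor
      · intro _ _
        exact ⟨a₁, rfl⟩
      · intro _ b
        rw [det_submatrix_transvection_mem n m p _ _ I J I.injective, add_eq_left]
        apply mul_eq_zero_of_right
        apply Matrix.det_zero_of_row_eq hne
        rw [Matrix.updateRow_self, Matrix.updateRow_ne hne.symm]
        rfl
    · constructor
      · intro h
        exfalso
        have h1 := h 1
        rw [det_submatrix_transvection_mem n m p _ _ I J I.injective, map_one, one_mul,
          add_eq_left] at h1
        have hinj : Function.Injective (Function.update (⇑I) a₀ j) := by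
          intro x y hxy
          by_cases hx : x = a₀ <;> by_cases hy : y = a₀
          · rw [hx, hy]
          · rw [hx, Function.update_self, Function.update_of_ne hy] at hxy
            exact absurd ⟨y, hxy.symm⟩ hj
          · rw [hy, Function.update_self, Function.update_of_ne hx] at hxy
            exact absurd ⟨x, hxy⟩ hj
          · rw [Function.update_of_ne hx, Function.update_of_ne hy] at hxy
            exact I.injective hxy
        refine det_generic_ne_zero k n m p (Function.update (⇑I) a₀ j) J hinj J.injective ?_
        rw [← h1]
        congr 1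
        refine Matrix.ext fun a c => ?_
        by_cases ha : a = a₀
        · subst ha
          rw [Matrix.updateRow_self, Matrix.of_apply, Function.update_self, Matrix.of_apply]
        · rw [Matrix.updateRow_ne ha, Matrix.of_apply, Function.update_of_ne ha,
            Matrix.submatrix_apply, Matrix.of_apply]
      · intro h
        exact absurd (h ⟨a₀, rfl⟩) hj
  · constructor
    · intro _ h
      exact absurd h hi
    · intro _ b
      rw [submatrix_transvection_not_mem n m p _ i j I J hi]

end Groth.Agent.S11240
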