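import Groth.Statements.S11243
import Mathlib
-- import your own Groth.Agent.* helpers here

set_option autoImplicit false
universe u v w
open RootD

namespace Groth.Agent.S11243

theorem posCoef {ι : Type*} {M : Type*} {N : Type*}
    [AddCommGroup M] [AddCommGroup N]
    (Q : RootPairing ι ℤ M N) (b' : Q.Base) (i : ι) (hi : b'.IsPos i) :
    ∃ f : ι → ℤ, (∀ j, 0 ≤ f j) ∧ Q.root i = ∑ j ∈ b'.support, f j • Q.root j ∧
      b'.height i = ∑ j ∈ b'.support, f j := by
  obtain ⟨f, hf₀, hf₁, hf₂⟩ := b'.exists_root_eq_sum_int i
  have hh := RootPairing.Base.height_eq_sum hf₂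
  refine ⟨f, ?_, hf₂, hh⟩
  have : 0 < f := by
    refine hf₁.resolve_right ?_
    rw [RootPairing.Base.isPos_iff, hh] at hi
    contrapose! hi
    exact Finset.sum_nonpos fun i _ ↦ hi.le i
  exact fun j => this.le j

/-- (b), for a connected group, as a statement about its root datum: let P be a finite reduced
crystallographic root pairing over ℤ with weight lattice M, and b a base of P (simple roots,
determining the positive roots). Then there is an additive map h : M → ℤ which is positive on every
positive root (so that h strictly increases along the dominance order) and non-negative on every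
dominant weight, i.e. on every ω ∈ M pairing non-negatively with all simple coroots. (Part (c),
invariance under the component group of a disconnected group, is not stated.) -/
theorem result {ι : Type u} {M : Type v} {N : Type w}
    [Fintype ι] [AddCommGroup M] [AddCommGroup N]
    (P : RootPairing ι ℤ M N) [P.IsReduced] [P.IsCrystallographic] (b : P.Base) :
    ∃ h : M →+ ℤ, (∀ i : ι, b.IsPos i → 0 < h (P.root i)) ∧
      ∀ ω : M, (∀ j ∈ b.support, 0 ≤ P.toLinearMap ω (P.coroot j)) → 0 ≤ h ω := by
  classical
  have hreflN : Module.IsReflexive ℤ N := Module.IsReflexive.of_isPerfPair P.flip.toLinearMap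
  have hreflM : Module.IsReflexive ℤ M := Module.IsReflexive.of_isPerfPair P.toLinearMap
  let c : P.flip.Base := b.flip
  let Pos : Finset ι := Finset.univ.filter (fun i => c.IsPos i)
  have hmemPos : ∀ i, i ∈ Pos ↔ c.IsPos i := by
    intro i
    simp [Pos]
  let hlin : M →ₗ[ℤ] ℤ := ∑ i ∈ Pos, P.toLinearMap.flip (P.coroot i)
  have hval : ∀ ω, hlin ω = ∑ i ∈ Pos, P.toLinearMap ω (P.coroot i) := by
    intro ω
    simp [hlin, LinearMap.sum_apply]
  have hsimple : ∀ j ∈ b.support, hlin (P.root j) = 2 := by
    intro j hj
    have hjc : j ∈ c.support := hj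
    rw [hval]
    simp only [P.root_coroot_eq_pairing]
    have hjPos : j ∈ Pos := (hmemPos j).mpr (RootPairing.Base.isPos_of_mem_support hjc)
    rw [← Finset.add_sum_erase _ _ hjPos, P.pairing_same, add_eq_left]
    apply Finset.sum_involution (fun i _ => P.reflectionPerm j i)
    · intro i hi
      rw [P.pairing_reflectionPerm, P.pairing_reflectionPerm_self_left]
      ring
    · intro i hi hne heq
      apply hne
      have h1 := P.pairing_reflectionPerm j j i
      rw [heq, P.pairing_reflectionPerm_self_left] at h1
      omega
    · intro i hi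
      rw [Finset.mem_erase] at hi ⊢
      obtain ⟨hij, hiPos⟩ := hi
      have hiPos' : c.IsPos i := (hmemPos i).mp hiPos
      refine ⟨?_, ?_⟩
      · intro heq
        have h2 : i = P.reflectionPerm j j := by
          have h5 := P.reflectionPerm_self j i
          rw [heq] at h5
          exact h5.symm
        have h3 := c.height_reflectionPerm_self j
        have h4 : c.height (P.reflectionPerm j j) = - c.height j := h3
        rw [RootPairing.Base.height_one_of_mem_support hjc] at h4
        rw [h2, RootPairing.Base.isPos_iff, h4] at hiPos'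
        omega
      · rw [hmemPos]
        exact hiPos'.reflectionPerm hjc hij
    · intro i hi
      exact P.reflectionPerm_self j i
  refine ⟨hlin.toAddMonoidHom, ?_, ?_⟩
  · intro i hi
    obtain ⟨f, hf0, hf1, hf2⟩ := posCoef P b i hi
    change 0 < hlin (P.root i)
    rw [hf1, map_sum]
    have : ∑ j ∈ b.support, hlin (f j • P.root j) = 2 * b.height i := by
      rw [hf2, Finset.mul_sum]
      apply Finset.sum_congr rfl
      intro j hj
      rw [map_zsmul, hsimple j hj, smul_eq_mul, mul_comm]
    rw [this]
    have := (RootPairing.Base.isPos_iff b).mp hi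
    omega
  · intro ω hω
    change 0 ≤ hlin ω
    rw [hval]
    apply Finset.sum_nonneg
    intro i hi
    obtain ⟨f, hf0, hf1, hf2⟩ := posCoef P.flip c i ((hmemPos i).mp hi)
    have hf1' : P.coroot i = ∑ j ∈ b.support, f j • P.coroot j := hf1
    rw [hf1', map_sum]
    apply Finset.sum_nonneg
    intro j hj
    rw [map_zsmul, smul_eq_mul]
    exact mul_nonneg (hf0 j) (hω j hj)

end Groth.Agent.S11243
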