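import Groth.Statements.S11249
import Mathlib.LinearAlgebra.Matrix.Adjugate
import Mathlib.LinearAlgebra.Matrix.NonsingularInverse
import Mathlib.LinearAlgebra.Matrix.ToLin
import Mathlib.LinearAlgebra.Basis.VectorSpace
import Mathlib.Data.Fin.Tuple.Sort
import Mathlib.Tactic

set_option autoImplicit false
universe u
open W4bk4grassmannian

namespace Groth.Agent.S11249

variable {K : Type u} [Field K] {d n : ℕ}

theorem ext_prop (A A' : Matrix (Fin n) (Fin d) K) (c : K)
    (h : ∀ θ : Idx d n, (A.submatrix θ.1 id).det = c * (A'.submatrix θ.1 id).det)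
    (θ : Fin d → Fin n) : (A.submatrix θ id).det = c * (A'.submatrix θ id).det := by
  by_cases hinj : Function.Injective θ
  · set σ := Tuple.sort θ with hσ
    have hmono : StrictMono (θ ∘ σ) :=
      (Tuple.monotone_sort θ).strictMono_of_injective (hinj.comp σ.injective)
    have h1 := h ⟨θ ∘ σ, hmono⟩
    have e1 : A.submatrix (θ ∘ σ) id = (A.submatrix θ id).submatrix σ id := rfl
    have e2 : A'.submatrix (θ ∘ σ) id = (A'.submatrix θ id).submatrix σ id := rfl
    simp only at h1
    rw [e1, e2, Matrix.det_permute, Matrix.det_permute] at h1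
    have hs : ((Equiv.Perm.sign σ : ℤˣ) : K) ≠ 0 := by
      rcases Int.units_eq_one_or (Equiv.Perm.sign σ) with h' | h' <;> rw [h'] <;> simp
    apply mul_left_cancel₀ hs
    push_cast at h1 ⊢
    linear_combination h1
  · rw [Function.Injective] at hinj
    push Not at hinj
    obtain ⟨i, j, hij, hne⟩ := hinj
    have r1 : (A.submatrix θ id).det = 0 := by
      apply Matrix.det_zero_of_row_eq hne
      funext t
      simp only [Matrix.submatrix_apply, hij]
    have r2 : (A'.submatrix θ id).det = 0 := by
      apply Matrix.det_zero_of_row_eq hne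
      funext t
      simp only [Matrix.submatrix_apply, hij]
    rw [r1, r2, mul_zero]

theorem exists_minor (A' : Matrix (Fin n) (Fin d) K) (hA' : LinearIndependent K A'.transpose) :
    ∃ θ : Fin d → Fin n, (A'.submatrix θ id).det ≠ 0 := by
  have hinj : Function.Injective A'.mulVec := Matrix.mulVec_injective_iff.mpr hA'
  have hker : LinearMap.ker A'.mulVecLin = ⊥ := by
    rw [LinearMap.ker_eq_bot]
    exact hinj
  obtain ⟨g, hg⟩ := LinearMap.exists_leftInverse_of_injective A'.mulVecLin hker
  set L : Matrix (Fin d) (Fin n) K := LinearMap.toMatrix' g with hL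
  have hLA : L * A' = 1 := by
    have : LinearMap.toMatrix' (g.comp A'.mulVecLin) = LinearMap.toMatrix' (LinearMap.id : (Fin d → K) →ₗ[K] _) := by
      rw [hg]
    rw [LinearMap.toMatrix'_comp, LinearMap.toMatrix'_id] at this
    rw [← this, hL]
    congr 1
    exact (LinearMap.toMatrix'_toLin' A').symm
  by_contra hcon
  push Not at hcon
  have hdet : (L * A').det = 0 := by
    have hrow : L * A' = Matrix.of (fun s : Fin d => ∑ r : Fin n, L s r • A' r) := by
      ext s t
      simp [Matrix.mul_apply, Finset.sum_apply]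
    rw [hrow]
    show Matrix.detRowAlternating (fun s : Fin d => ∑ r : Fin n, L s r • A' r) = 0
    have key : Matrix.detRowAlternating (fun s : Fin d => ∑ r : Fin n, L s r • A' r)
        = ∑ θ : Fin d → Fin n, Matrix.detRowAlternating (fun s => L s (θ s) • A' (θ s)) :=
      (Matrix.detRowAlternating (R := K) (n := Fin d)).toMultilinearMap.map_sum
        (fun (s : Fin d) (r : Fin n) => L s r • A' r)
    rw [key]
    apply Finset.sum_eq_zero
    intro θ _
    have h2 : Matrix.detRowAlternating (fun s => L s (θ s) • A' (θ s))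
        = (∏ s, L s (θ s)) • Matrix.detRowAlternating (fun s => A' (θ s)) :=
      (Matrix.detRowAlternating (R := K) (n := Fin d)).toMultilinearMap.map_smul_univ
        (fun s => L s (θ s)) (fun s => A' (θ s))
    rw [h2]
    have h3 : Matrix.detRowAlternating (fun s => A' (θ s)) = (A'.submatrix θ id).det := rfl
    rw [h3, hcon θ, smul_zero]
  rw [hLA, Matrix.det_one] at hdet
  exact one_ne_zero hdet


theorem cramer_rows (A : Matrix (Fin n) (Fin d) K) (θ0 : Fin d → Fin n) :
    (Matrix.of fun (r : Fin n) (s : Fin d) => (A.submatrix (Function.update θ0 s r) id).det) * A.submatrix θ0 id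
      = (A.submatrix θ0 id).det • A := by
  ext r j
  have h1 := Matrix.mulVec_cramer (A.submatrix θ0 id).transpose (A r)
  have h2 := congrFun h1 j
  rw [Matrix.det_transpose] at h2
  simp only [Matrix.mulVec, dotProduct, Matrix.transpose_apply, Pi.smul_apply, smul_eq_mul] at h2
  rw [Matrix.mul_apply, Matrix.smul_apply, smul_eq_mul, ← h2]
  apply Finset.sum_congr rfl
  intro s _
  rw [Matrix.of_apply, Matrix.cramer_transpose_apply, mul_comm]
  congr 2
  ext s' t
  simp only [Matrix.submatrix_apply, id_eq, Matrix.updateRow_apply, Function.update_apply]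
  split_ifs <;> rfl

theorem span_le (A A' : Matrix (Fin n) (Fin d) K) (c : K) (hc : c ≠ 0)
    (h : ∀ θ : Fin d → Fin n, (A.submatrix θ id).det = c * (A'.submatrix θ id).det)
    (θ0 : Fin d → Fin n) (h0 : (A'.submatrix θ0 id).det ≠ 0) :
    Submodule.span K (Set.range A.transpose) ≤ Submodule.span K (Set.range A'.transpose) := by
  obtain ⟨B, hB⟩ : ∃ B, B = A.submatrix θ0 id := ⟨_, rfl⟩
  obtain ⟨B', hB'⟩ : ∃ B', B' = A'.submatrix θ0 id := ⟨_, rfl⟩
  obtain ⟨X', hX'⟩ : ∃ X', X' = (Matrix.of fun (r : Fin n) (s : Fin d) =>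
      (A'.submatrix (Function.update θ0 s r) id).det) := ⟨_, rfl⟩
  have hdB : B.det = c * B'.det := by
    rw [hB, hB']
    exact h θ0
  have h0' : B'.det ≠ 0 := by
    rw [hB']
    exact h0
  have hdB0 : B.det ≠ 0 := by
    rw [hdB]
    exact mul_ne_zero hc h0'
  have hX : (Matrix.of fun (r : Fin n) (s : Fin d) => (A.submatrix (Function.update θ0 s r) id).det)
      = c • X' := by
    rw [hX']
    ext r s
    simp only [Matrix.of_apply, Matrix.smul_apply, smul_eq_mul]
    exact h _
  have e1 : (c • X') * B = B.det • A := by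
    rw [← hX, hB]
    exact cramer_rows A θ0
  have e2 : X' * B' = B'.det • A' := by
    rw [hX', hB']
    exact cramer_rows A' θ0
  have hinv' : B' * B'⁻¹ = 1 := Matrix.mul_nonsing_inv B' (isUnit_iff_ne_zero.mpr h0')
  have e3 : X' = B'.det • (A' * B'⁻¹) := by
    have : X' * B' * B'⁻¹ = (B'.det • A') * B'⁻¹ := by rw [e2]
    rw [Matrix.mul_assoc, hinv', Matrix.mul_one, Matrix.smul_mul] at this
    exact this
  have hAG : A = A' * (B'⁻¹ * B) := by
    rw [e3, Matrix.smul_mul, Matrix.smul_mul, smul_smul, Matrix.mul_assoc, ← hdB] at e1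
    have := congrArg (fun M => (B.det)⁻¹ • M) e1
    simp only [smul_smul, inv_mul_cancel₀ hdB0, one_smul] at this
    exact this.symm
  rw [Submodule.span_le]
  rintro _ ⟨j, rfl⟩
  have hcol : A.transpose j = ∑ t : Fin d, (B'⁻¹ * B) t j • A'.transpose t := by
    funext r
    have := congrFun (congrFun hAG r) j
    rw [Matrix.mul_apply] at this
    rw [Matrix.transpose_apply, this, Finset.sum_apply]
    apply Finset.sum_congr rfl
    intro t _
    rw [Pi.smul_apply, Matrix.transpose_apply, smul_eq_mul, mul_comm]
  rw [hcol]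
  apply Submodule.sum_mem
  intro t _
  exact Submodule.smul_mem _ _ (Submodule.subset_span ⟨t, rfl⟩)

/-- Injectivity of the Plücker map, in matrix form: let K be a field, A and A' two n × d matrices over K
with linearly independent columns, and suppose there is a nonzero scalar c with det A_θ = c · det
A'_θ for every strictly increasing d-tuple θ of row indices (A_θ the d × d submatrix on the rows θ).
Then the columns of A and of A' span the same subspace of K^n. (The published statement is over an
algebraically closed field; this row allows any field K.) -/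
theorem result (K : Type u) [Field K] (d n : ℕ)
    (A A' : Matrix (Fin n) (Fin d) K) (hA : LinearIndependent K A.transpose)
    (hA' : LinearIndependent K A'.transpose) (c : K) (hc : c ≠ 0)
    (h : ∀ θ : Idx d n, (A.submatrix θ.1 id).det = c * (A'.submatrix θ.1 id).det) :
    Submodule.span K (Set.range A.transpose) = Submodule.span K (Set.range A'.transpose) := by
  have hext := ext_prop A A' c h
  have hext' : ∀ θ : Fin d → Fin n, (A'.submatrix θ id).det = c⁻¹ * (A.submatrix θ id).det := by
    intro θ
    rw [hext θ, ← mul_assoc, inv_mul_cancel₀ hc, one_mul]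
  obtain ⟨θ0, h0⟩ := exists_minor A' hA'
  have h0' : (A.submatrix θ0 id).det ≠ 0 := by
    rw [hext θ0]
    exact mul_ne_zero hc h0
  apply le_antisymm
  · exact span_le A A' c hc hext θ0 h0
  · exact span_le A' A c⁻¹ (inv_ne_zero hc) hext' θ0 h0'

end Groth.Agent.S11249
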