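import Groth.Statements.S1125
import Mathlib.AlgebraicGeometry.Morphisms.FlatDescent
import Mathlib.AlgebraicGeometry.Morphisms.LocalFlatDescent
import Mathlib.AlgebraicGeometry.Morphisms.Immersion
import Mathlib.AlgebraicGeometry.Morphisms.UniversallyOpen
import Mathlib.AlgebraicGeometry.ZariskisMainTheorem

set_option autoImplicit false
open CategoryTheory CategoryTheory.Limits AlgebraicGeometry Opposite
universe u
open Desc

namespace Groth.Agent.S1125

set_option backward.isDefEq.respectTransparency.types false
set_option linter.style.haveILetI false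

open MorphismProperty in
/-- Monomorphisms satisfy fpqc descent. -/
theorem descendsAlong_monomorphisms_fpqc :
    DescendsAlong (monomorphisms Scheme.{u}) (@Surjective ⊓ @Flat ⊓ @QuasiCompact) := by
  rw [← diagonal_isomorphisms]
  infer_instance

open MorphismProperty in
/-- Closed immersions satisfy fpqc descent. -/
theorem descendsAlong_isClosedImmersion_fpqc :
    DescendsAlong @IsClosedImmersion.{u} (@Surjective ⊓ @Flat ⊓ @QuasiCompact) := by
  haveI := descendsAlong_monomorphisms_fpqc.{u}
  refine ⟨fun {A X Y Z fst snd f g} h hf hfst => ?_⟩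
  have h0 : IsClosedImmersion fst := hfst
  have h1 : UniversallyClosed g :=
    of_isPullback_of_descendsAlong (P := @UniversallyClosed) h hf inferInstance
  have h2 : LocallyOfFiniteType g :=
    of_isPullback_of_descendsAlong (P := @LocallyOfFiniteType) h hf inferInstance
  have h3 : Mono g :=
    of_isPullback_of_descendsAlong (P := monomorphisms Scheme.{u}) h hf
      (show Mono fst from inferInstance)
  exact (IsClosedImmersion.iff_isProper_and_mono g).mpr ⟨{}, h3⟩

/-- If the base change of a morphism along a flat, surjective morphism locally of finite presentation is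
an immersion, then the morphism is an immersion. (Single-cover form of the fppf-local statement;
Zariski-locality on the target gives the covering form.) -/
theorem result :
    MorphismProperty.DescendsAlong (@IsImmersion : MorphismProperty Scheme.{u})
      (@Surjective ⊓ @Flat ⊓ @LocallyOfFinitePresentation : MorphismProperty Scheme.{u}) := by
  haveI := descendsAlong_isClosedImmersion_fpqc.{u}
  apply MorphismProperty.DescendsAlong.mk'
  intro X Y Z f g _ hf hg
  haveI : IsImmersion (pullback.fst f g) := hg
  haveI : Surjective f := hf.1.1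
  haveI : Flat f := hf.1.2
  haveI : LocallyOfFinitePresentation f := hf.2
  have hopen : IsOpenMap f := f.isOpenMap
  have hrange : Set.range (pullback.fst f g) = f ⁻¹' Set.range g := Scheme.Pullback.range_fst f g
  have hcob : coborder (Set.range (pullback.fst f g)) = f ⁻¹' coborder (Set.range g) := by
    rw [hrange]
    exact coborder_preimage hopen f.continuous _
  have hU : IsOpen (coborder (Set.range g)) := by
    rw [← (hopen.isQuotientMap f.continuous f.surjective).isOpen_preimage, ← hcob]
    exact (pullback.fst f g).isLocallyClosed_range.isOpen_coborder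
  let U : Z.Opens := ⟨coborder (Set.range g), hU⟩
  have hgU : Set.range g ⊆ Set.range U.ι := by
    rw [Scheme.Opens.range_ι]
    exact subset_coborder
  let gU : Y ⟶ U := IsOpenImmersion.lift U.ι g hgU
  have hgU' : gU ≫ U.ι = g := IsOpenImmersion.lift_fac _ _ _
  have hkr : Set.range (pullback.fst f g) ⊆ Set.range (f ⁻¹ᵁ U).ι := by
    rw [Scheme.Opens.range_ι, hrange]
    exact Set.preimage_mono subset_coborder
  let k : pullback f g ⟶ f ⁻¹ᵁ U := IsOpenImmersion.lift (f ⁻¹ᵁ U).ι (pullback.fst f g) hkr
  have hk' : k ≫ (f ⁻¹ᵁ U).ι = pullback.fst f g := IsOpenImmersion.lift_fac _ _ _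
  -- the pullback square
  have sq : IsPullback k (pullback.snd f g) (f ∣_ U) gU := by
    refine IsPullback.of_right (h₁₂ := (f ⁻¹ᵁ U).ι) (h₂₂ := U.ι) (v₁₃ := f) ?_ ?_
      (isPullback_morphismRestrict f U).flip
    · rw [hk', hgU']
      exact IsPullback.of_hasPullback f g
    · rw [← cancel_mono U.ι, Category.assoc, Category.assoc, morphismRestrict_ι, reassoc_of% hk',
        hgU', pullback.condition]
  -- `k` is a closed immersion
  haveI : IsImmersion (k ≫ (f ⁻¹ᵁ U).ι) := by rw [hk']; infer_instance
  haveI : IsImmersion k := IsImmersion.of_comp k (f ⁻¹ᵁ U).ι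
  have hkcl : IsClosed (Set.range k) := by
    have : Set.range k = (f ⁻¹ᵁ U).ι ⁻¹' closure (Set.range (pullback.fst f g)) := by
      ext x
      constructor
      · rintro ⟨y, rfl⟩
        apply subset_closure
        refine ⟨y, ?_⟩
        rw [← hk']
        rfl
      · intro hx
        have hx1 : (f ⁻¹ᵁ U).ι x ∈ coborder (Set.range (pullback.fst f g)) := by
          rw [hcob]
          exact x.2
        have hx2 : (f ⁻¹ᵁ U).ι x ∈ Set.range (pullback.fst f g) := by
          rw [← coborder_inter_closure (s := Set.range (pullback.fst f g))]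
          exact ⟨hx1, hx⟩
        obtain ⟨y, hy⟩ := hx2
        refine ⟨y, ?_⟩
        apply (f ⁻¹ᵁ U).ι.injective
        rw [← hy, ← hk']
        rfl
    rw [this]
    exact isClosed_closure.preimage (f ⁻¹ᵁ U).ι.continuous
  have hk : IsClosedImmersion k := IsClosedImmersion.of_isPreimmersion k hkcl
  have hfU : (@Surjective ⊓ @Flat ⊓ @LocallyOfFinitePresentation : MorphismProperty Scheme.{u})
      (f ∣_ U) :=
    MorphismProperty.of_isPullback (isPullback_morphismRestrict f U).flip hf
  haveI : IsClosedImmersion gU :=
    MorphismProperty.of_isPullback_of_descendsAlong (P := @IsClosedImmersion)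
      (Q := @Surjective ⊓ @Flat ⊓ @LocallyOfFinitePresentation) sq hfU hk
  rw [← hgU']
  infer_instance

end Groth.Agent.S1125
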