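import Groth.Statements.S11250
import Groth.Agent.Lib.Helper99.SMTSchubert

set_option autoImplicit false
universe u
open W4bk4grassmannian
open Groth.Agent.Lib.Helper99

namespace Groth.Agent.S11250

open W4bk4grassmannian in
/-- The shuffle relations together with the vanishing coordinates generate the homogeneous ideal of a
Schubert variety: let K be an algebraically closed field, 0 < d < n, and I(d,n) the strictly
increasing maps Fin d → Fin n ordered entrywise; S = K[X_θ : θ ∈ I(d,n)] is the Plücker polynomial
ring and, for τ ∈ I(d,n), J(τ) ⊆ S is the ideal of polynomials vanishing at the d × d row-minors of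
every n × d matrix over K whose minors on rows φ ≰ τ are zero (the homogeneous ideal of the Schubert
variety X(τ) ⊆ G(d,n)). Then the ideal I(τ) generated by the quadratic shuffle relations at pivots
(for i, j ∈ I(d,n) and r with j_t ≤ i_t for t < r and i_r < j_r, the signed sum over all shuffles of
the rows i_0, …, i_r, j_r, …, j_{d-1}) together with the variables X_φ, φ ≰ τ, is equal to J(τ). For
τ the largest element this says that the shuffle relations generate the homogeneous ideal of the
Grassmannian G(d,n). -/
theorem result (K : Type u) [Field K] [IsAlgClosed K] (d n : ℕ)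
    (hd : 0 < d) (hdn : d < n) (τ : Idx d n) :
    plIdeal K τ = schubertVanishing K d n τ := by
  classical
  have _hdn := hdn
  have : Infinite K := IsAlgClosed.instInfinite
  apply le_antisymm (SMT.plIdeal_le_schubertVanishing K τ)
  intro f hf
  have hspan := SMT.std_span K (plIdeal K τ) (SMT.plIdealTop_le_plIdeal K τ)
    (fun _ c => ∀ k, (SMT.shapeLe τ).mem (c k))
    (by
      intro m' c _ hP
      push Not at hP
      obtain ⟨k, hk⟩ := hP
      rw [SMT.mem_shapeLe] at hk
      apply SMT.chainMon_mem_of_factor K _ c k
      exact Ideal.subset_span (Or.inr ⟨c k, hk, rfl⟩)) f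
  obtain ⟨g, hg, h, hh, rfl⟩ := Submodule.mem_sup.1 hspan
  have hh' : h ∈ plIdeal K τ := hh
  have hgJ : g ∈ schubertVanishing K d n τ := by
    have := Ideal.sub_mem _ hf (SMT.plIdeal_le_schubertVanishing K τ hh')
    rwa [add_sub_cancel_right] at this
  have hev := SMT.ev_eq_zero_of_mem_schubertVanishing K τ (SMT.shapeLe τ) (fun t => le_rfl) g hgJ
  have hg0 := SMT.eq_zero_of_mem_span_of_ev_eq_zero K MonomialOrder.lex SMT.diagLeading_lex hd
    (SMT.shapeLe τ) g hg hev
  rw [hg0, zero_add]
  exact hh'

end Groth.Agent.S11250
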