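import Groth.Statements.S11251
import Groth.Agent.Lib.Helper99.SMTStraight

set_option autoImplicit false
universe u
open W4bk4grassmannian

namespace Groth.Agent.S11251

open W4bk4grassmannian in
/-- Let K be a commutative ring, d, n natural numbers, S = K[X_θ : θ ∈ I(d,n)] the Plücker polynomial
ring on the strictly increasing maps Fin d → Fin n (ordered entrywise), and I ⊆ S the ideal
generated by the quadratic shuffle relations at pivots. Then the classes in S/I of the standard
monomials, the products X_{τ_1} ⋯ X_{τ_m} over all m ≥ 0 and all chains τ_1 ≥ ⋯ ≥ τ_m, span S/I as a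
K-module. (The published statement is over an algebraically closed field; this row allows any
commutative ring K, the straightening argument being formal.) -/
theorem result (K : Type u) [CommRing K] (d n : ℕ) :
    Submodule.span K (Set.range fun c : (Σ m : ℕ, {c : Fin m → Idx d n // Antitone c}) =>
        Ideal.Quotient.mk (plIdealTop (d := d) (n := n) K) (chainMon K c.2.1)) = ⊤ := by
  classical
  rw [eq_top_iff]
  rintro x -
  obtain ⟨f, rfl⟩ := Ideal.Quotient.mk_surjective x
  have h := Groth.Agent.Lib.Helper99.SMT.std_span K (plIdealTop (d := d) (n := n) K) le_rfl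
    (fun _ _ => True) (fun _ _ _ h => absurd trivial h) f
  obtain ⟨g, hg, h', hh', rfl⟩ := Submodule.mem_sup.1 h
  clear h
  have h0 : Ideal.Quotient.mk (plIdealTop (d := d) (n := n) K) h' = 0 :=
    Ideal.Quotient.eq_zero_iff_mem.2 hh'
  rw [map_add, h0, add_zero]
  induction hg using Submodule.span_induction with
  | mem g hg =>
    obtain ⟨m, c, hc, -, rfl⟩ := hg
    exact Submodule.subset_span ⟨⟨m, ⟨c, hc⟩⟩, rfl⟩
  | zero => rw [map_zero]; exact Submodule.zero_mem _
  | add f g _ _ hf hg => rw [map_add]; exact Submodule.add_mem _ hf hg
  | smul c f _ hf =>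
    have : Ideal.Quotient.mk (plIdealTop (d := d) (n := n) K) (c • f) =
        c • Ideal.Quotient.mk (plIdealTop (d := d) (n := n) K) f :=
      map_smul (Ideal.Quotient.mkₐ K (plIdealTop (d := d) (n := n) K)) c f
    rw [this]
    exact Submodule.smul_mem _ c hf

end Groth.Agent.S11251
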