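import Groth.Statements.S11252
import Groth.Agent.Lib.Helper99.SMTBasis

set_option autoImplicit false
universe u
open W4bk4grassmannian
open Groth.Agent.Lib.Helper99

namespace Groth.Agent.S11252

open W4bk4grassmannian in
/-- Standard monomial basis for a union of Schubert varieties: let K be an algebraically closed field, 0
< d < n, and I(d,n) the strictly increasing maps Fin d → Fin n ordered entrywise; S = K[X_θ : θ ∈
I(d,n)] is the Plücker polynomial ring and, for τ ∈ I(d,n), J(τ) ⊆ S is the ideal of polynomials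
vanishing at the d × d row-minors of every n × d matrix over K whose minors on rows φ ≰ τ are zero
(the homogeneous ideal of the Schubert variety X(τ) ⊆ G(d,n)). Let τ_1, …, τ_r ∈ I(d,n) and let J =
⋂_i J(τ_i) be the homogeneous ideal of the union ⋃_i X(τ_i). Then the classes in S/J of the
monomials X_{θ_1} ⋯ X_{θ_m} (m ≥ 0) along chains θ_1 ≥ ⋯ ≥ θ_m all of whose members lie below some
τ_i are linearly independent over K and span S/J. -/
theorem result (K : Type u) [Field K] [IsAlgClosed K] (d n : ℕ)
    (hd : 0 < d) (hdn : d < n) (r : ℕ) (τs : Fin r → Idx d n) :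
    LinearIndependent K (fun c : (Σ m : ℕ, {c : Fin m → Idx d n // Antitone c ∧ ∃ i, ∀ k, c k ≤ τs i}) =>
        Ideal.Quotient.mk (⨅ i, schubertVanishing K d n (τs i)) (chainMon K c.2.1)) ∧
      Submodule.span K (Set.range fun c : (Σ m : ℕ, {c : Fin m → Idx d n // Antitone c ∧ ∃ i, ∀ k, c k ≤ τs i}) =>
        Ideal.Quotient.mk (⨅ i, schubertVanishing K d n (τs i)) (chainMon K c.2.1)) = ⊤ := by
  classical
  have _hdn := hdn
  have : Infinite K := IsAlgClosed.instInfinite
  constructor
  · apply SMT.linearIndependent_mk_chainMon K hd (⨅ i, schubertVanishing K d n (τs i))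
      (fun m' c => ∃ i, ∀ k, c k ≤ τs i)
    rintro m' c _ ⟨i, hi⟩
    refine ⟨SMT.shapeLe (τs i), fun k => (SMT.mem_shapeLe (τs i) (c k)).2 (hi k), ?_⟩
    intro f hf
    apply SMT.ev_eq_zero_of_mem_schubertVanishing K (τs i) (SMT.shapeLe (τs i)) (fun t => le_rfl) f
    exact (Ideal.mem_iInf.1 hf) i
  · apply SMT.span_mk_chainMon_eq_top K (⨅ i, schubertVanishing K d n (τs i))
    · exact le_iInf (fun i => SMT.plIdealTop_le_schubertVanishing K (τs i))
    · intro m' c _ hQ
      push Not at hQ
      rw [Ideal.mem_iInf]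
      intro i
      obtain ⟨k, hk⟩ := hQ i
      exact SMT.chainMon_mem_of_factor K _ c k (SMT.X_mem_schubertVanishing K (τs i) (c k) hk)

end Groth.Agent.S11252
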