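import Groth.Statements.S11253
import Groth.Agent.Lib.Helper99.SMTBasis

set_option autoImplicit false
universe u
open W4bk4grassmannian
open Groth.Agent.Lib.Helper99

namespace Groth.Agent.S11253

open W4bk4grassmannian in
/-- Intersections of Schubert varieties are reduced: let K be an algebraically closed field, 0 < d < n,
and I(d,n) the strictly increasing maps Fin d → Fin n ordered entrywise; S = K[X_θ : θ ∈ I(d,n)] is
the Plücker polynomial ring and, for τ ∈ I(d,n), J(τ) ⊆ S is the ideal of polynomials vanishing at
the d × d row-minors of every n × d matrix over K whose minors on rows φ ≰ τ are zero (the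
homogeneous ideal of the Schubert variety X(τ) ⊆ G(d,n)). Then for all w₁, w₂ ∈ I(d,n) the ideal
J(w₁) + J(w₂) of S is radical. -/
theorem result (K : Type u) [Field K] [IsAlgClosed K] (d n : ℕ)
    (hd : 0 < d) (hdn : d < n) (w₁ w₂ : Idx d n) :
    (schubertVanishing K d n w₁ ⊔ schubertVanishing K d n w₂).IsRadical := by
  classical
  have _hdn := hdn
  have : Infinite K := IsAlgClosed.instInfinite
  set w := W4bk4grassmannian.inf w₁ w₂ with hw
  have hle_iff : ∀ θ : Idx d n, θ ≤ w ↔ θ ≤ w₁ ∧ θ ≤ w₂ := by
    intro θ
    rw [SMT.idx_le_iff, SMT.idx_le_iff, SMT.idx_le_iff]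
    constructor
    · intro h
      exact ⟨fun t => le_trans (h t) (Fin.le_def.1 (min_le_left _ _)),
        fun t => le_trans (h t) (Fin.le_def.1 (min_le_right _ _))⟩
    · rintro ⟨h1, h2⟩ t
      exact Fin.le_def.1 (le_min (Fin.le_def.2 (h1 t)) (Fin.le_def.2 (h2 t)))
  have hw1 : w ≤ w₁ := ((hle_iff w).1 le_rfl).1
  have hw2 : w ≤ w₂ := ((hle_iff w).1 le_rfl).2
  have heq : schubertVanishing K d n w₁ ⊔ schubertVanishing K d n w₂ = schubertVanishing K d n w := by
    apply le_antisymm
    · exact sup_le (SMT.schubertVanishing_anti K hw1) (SMT.schubertVanishing_anti K hw2)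
    · intro f hf
      have hspan := SMT.std_span K (schubertVanishing K d n w₁ ⊔ schubertVanishing K d n w₂)
        (le_sup_of_le_left (SMT.plIdealTop_le_schubertVanishing K w₁))
        (fun _ c => ∀ k, (SMT.shapeLe w).mem (c k))
        (by
          intro m' c _ hP
          push Not at hP
          obtain ⟨k, hk⟩ := hP
          rw [SMT.mem_shapeLe, hle_iff] at hk
          apply SMT.chainMon_mem_of_factor K _ c k
          by_cases h1 : c k ≤ w₁
          · have h2 : ¬ c k ≤ w₂ := fun h2 => hk ⟨h1, h2⟩
            exact Ideal.mem_sup_right (SMT.X_mem_schubertVanishing K w₂ (c k) h2)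
          · exact Ideal.mem_sup_left (SMT.X_mem_schubertVanishing K w₁ (c k) h1)) f
      obtain ⟨g, hg, h, hh, rfl⟩ := Submodule.mem_sup.1 hspan
      have hh' : h ∈ schubertVanishing K d n w₁ ⊔ schubertVanishing K d n w₂ := hh
      have hhw : h ∈ schubertVanishing K d n w :=
        (sup_le (SMT.schubertVanishing_anti K hw1) (SMT.schubertVanishing_anti K hw2)) hh'
      have hgJ : g ∈ schubertVanishing K d n w := by
        have := Ideal.sub_mem _ hf hhw
        rwa [add_sub_cancel_right] at this
      have hev := SMT.ev_eq_zero_of_mem_schubertVanishing K w (SMT.shapeLe w) (fun t => le_rfl) g hgJ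
      have hg0 := SMT.eq_zero_of_mem_span_of_ev_eq_zero K MonomialOrder.lex SMT.diagLeading_lex hd
        (SMT.shapeLe w) g hg hev
      rw [hg0, zero_add]
      exact hh'
  rw [heq]
  -- a vanishing ideal is radical
  intro f hf
  obtain ⟨N, hN⟩ := hf
  rw [SMT.mem_schubertVanishing_iff] at hN ⊢
  intro A hA
  have := hN A hA
  rw [map_pow] at this
  exact pow_eq_zero_iff (by
    rintro rfl
    rw [pow_zero] at this
    exact one_ne_zero this) |>.1 this

end Groth.Agent.S11253
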