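import Groth.Statements.S11254
import Groth.Agent.Lib.Helper99.SMTDivisor

set_option autoImplicit false
universe u
open W4bk4grassmannian
open Groth.Agent.Lib.Helper99

namespace Groth.Agent.S11254

open W4bk4grassmannian in
/-- Let K be an algebraically closed field, 0 < d < n, and I(d,n) the strictly increasing maps Fin d →
Fin n ordered entrywise; S = K[X_θ : θ ∈ I(d,n)] is the Plücker polynomial ring and, for τ ∈ I(d,n),
J(τ) ⊆ S is the ideal of polynomials vanishing at the d × d row-minors of every n × d matrix over K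
whose minors on rows φ ≰ τ are zero (the homogeneous ideal of the Schubert variety X(τ) ⊆ G(d,n)).
Let τ ∈ I(d,n) admit some φ < τ (X(τ) has positive dimension). Then J(τ) + (X_τ) = ⋂_φ J(φ), the
intersection over the Schubert divisors φ of τ, i.e. the φ < τ with Σ_t (φ_t - t) + 1 = Σ_t (τ_t -
t). (For the zero-dimensional Schubert variety there is no divisor and the left side is the
irrelevant ideal, so positive dimension is required at the level of ideals.) -/
theorem result (K : Type u) [Field K] [IsAlgClosed K]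
    (d n : ℕ) (hd : 0 < d) (hdn : d < n) (τ : Idx d n) (hτ : ∃ φ : Idx d n, φ < τ) :
    schubertVanishing K d n τ ⊔ Ideal.span {MvPolynomial.X τ} =
      ⨅ φ ∈ divisors τ, schubertVanishing K d n φ := by
  classical
  have _hdn := hdn
  have : Infinite K := IsAlgClosed.instInfinite
  have hle : schubertVanishing K d n τ ⊔ Ideal.span {MvPolynomial.X τ} ≤
      ⨅ φ ∈ divisors τ, schubertVanishing K d n φ := by
    apply le_iInf
    intro φ
    apply le_iInf
    intro hφ
    apply sup_le
    · exact SMT.schubertVanishing_anti K hφ.1.le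
    · rw [Ideal.span_le, Set.singleton_subset_iff]
      exact SMT.X_mem_schubertVanishing K φ τ (not_le_of_gt hφ.1)
  apply le_antisymm hle
  intro f hf
  have hspan := SMT.std_span K (schubertVanishing K d n τ ⊔ Ideal.span {MvPolynomial.X τ})
    (le_sup_of_le_left (SMT.plIdealTop_le_schubertVanishing K τ))
    (fun _ c => ∀ k, c k < τ)
    (by
      intro m' c _ hP
      push Not at hP
      obtain ⟨k, hk⟩ := hP
      apply SMT.chainMon_mem_of_factor K _ c k
      by_cases h1 : c k ≤ τ
      · have h2 : c k = τ := by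
          by_contra hne
          exact hk (lt_of_le_of_ne h1 hne)
        rw [h2]
        exact Ideal.mem_sup_right (Ideal.subset_span rfl)
      · exact Ideal.mem_sup_left (SMT.X_mem_schubertVanishing K τ (c k) h1)) f
  obtain ⟨g, hg, h, hh, rfl⟩ := Submodule.mem_sup.1 hspan
  have hh' : h ∈ schubertVanishing K d n τ ⊔ Ideal.span {MvPolynomial.X τ} := hh
  have hgJ : g ∈ ⨅ φ ∈ divisors τ, schubertVanishing K d n φ := by
    have := Ideal.sub_mem _ hf (hle hh')
    rwa [add_sub_cancel_right] at this
  have hg0 := SMT.eq_zero_of_mem_span_of_mem K hd (⨅ φ ∈ divisors τ, schubertVanishing K d n φ)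
    (fun _ c => ∀ k, c k < τ)
    (by
      intro m' c hc hQ
      -- a divisor above the whole chain
      have hexφ : ∃ φ ∈ divisors τ, ∀ k, c k ≤ φ := by
        rcases Nat.eq_zero_or_pos m' with hm | hm
        · subst hm
          obtain ⟨θ, hθ⟩ := hτ
          obtain ⟨φ, hφ, -⟩ := SMT.exists_divisor_ge θ τ hθ
          exact ⟨φ, hφ, fun k => k.elim0⟩
        · obtain ⟨φ, hφ, hφ'⟩ := SMT.exists_divisor_ge (c ⟨0, hm⟩) τ (hQ ⟨0, hm⟩)
          exact ⟨φ, hφ, fun k => le_trans (hc (Fin.le_def.2 (Nat.zero_le k.val))) hφ'⟩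
      obtain ⟨φ, hφ, hφ'⟩ := hexφ
      refine ⟨SMT.shapeLe φ, fun k => (SMT.mem_shapeLe φ (c k)).2 (hφ' k), ?_⟩
      intro f hf
      apply SMT.ev_eq_zero_of_mem_schubertVanishing K φ (SMT.shapeLe φ) (fun t => le_rfl) f
      have := (Ideal.mem_iInf.1 hf) φ
      exact (Ideal.mem_iInf.1 this) hφ) g hg hgJ
  rw [hg0, zero_add]
  exact hh'

end Groth.Agent.S11254
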