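import Groth.Statements.S11257
import Mathlib.RingTheory.Regular.IsSMulRegular
import Mathlib.RingTheory.QuotSMulTop
import Mathlib.Algebra.Exact.Basic
import Mathlib.Tactic
import Mathlib.Algebra.Regular.Prod

set_option autoImplicit false
universe u
open W4bk4grassmannian

namespace Groth.Agent.S11257

open RingTheory.Sequence

section Aux

universe u1 u2 u3 v

theorem isWeaklyRegular_of_exact {R : Type v} [CommRing R] (rs : List R) :
    ∀ {M' : Type u1} {M : Type u2} {M'' : Type u3} [AddCommGroup M'] [Module R M']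
      [AddCommGroup M] [Module R M] [AddCommGroup M''] [Module R M'']
      (i : M' →ₗ[R] M) (p : M →ₗ[R] M''), Function.Injective i → Function.Exact i p →
      Function.Surjective p → IsWeaklyRegular M rs → IsWeaklyRegular M'' rs.dropLast →
      IsWeaklyRegular M' rs := by
  induction rs with
  | nil =>
    intro M' M M'' _ _ _ _ _ _ i p _ _ _ _ _
    exact IsWeaklyRegular.nil R M'
  | cons r rs' ih =>
    intro M' M M'' _ _ _ _ _ _ i p hi hex hp hM hM''
    rw [isWeaklyRegular_cons_iff] at hM ⊢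
    obtain ⟨hr, hM⟩ := hM
    refine ⟨hr.of_injective i hi, ?_⟩
    cases rs' with
    | nil => exact IsWeaklyRegular.nil R _
    | cons r' rs'' =>
      rw [List.dropLast_cons_cons, isWeaklyRegular_cons_iff] at hM''
      obtain ⟨hr'', hM''⟩ := hM''
      have h0 : Function.Exact (0 : PUnit.{u1 + 1} →ₗ[R] M') i :=
        (LinearMap.exact_zero_iff_injective PUnit i).mpr hi
      have h1 := QuotSMulTop.map_first_exact_on_four_term_exact_of_isSMulRegular_last h0 hex hr''
      have hinj : Function.Injective (QuotSMulTop.map r i) := by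
        rw [injective_iff_map_eq_zero]
        intro x hx
        obtain ⟨y, hy⟩ := (h1 x).mp hx
        rw [← hy, map_zero (QuotSMulTop.map r), LinearMap.zero_apply]
      exact ih (QuotSMulTop.map r i) (QuotSMulTop.map r p) hinj (QuotSMulTop.map_exact r hex hp)
        (QuotSMulTop.map_surjective r hp) hM hM''

noncomputable def quotProdEquiv {R : Type v} [CommRing R] (r : R) (M : Type u1) (N : Type u2)
    [AddCommGroup M] [Module R M] [AddCommGroup N] [Module R N] :
    QuotSMulTop r (M × N) ≃ₗ[R] QuotSMulTop r M × QuotSMulTop r N :=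
  LinearEquiv.ofLinearMap
    ((QuotSMulTop.map r (LinearMap.fst R M N)).prod (QuotSMulTop.map r (LinearMap.snd R M N)))
    ((QuotSMulTop.map r (LinearMap.inl R M N)).coprod (QuotSMulTop.map r (LinearMap.inr R M N)))
    (by
      apply LinearMap.ext
      rintro ⟨x, y⟩
      obtain ⟨m, rfl⟩ := Submodule.mkQ_surjective _ x
      obtain ⟨n, rfl⟩ := Submodule.mkQ_surjective _ y
      simp [Submodule.mkQ_apply])
    (by
      apply LinearMap.ext
      intro x
      obtain ⟨⟨m, n⟩, rfl⟩ := Submodule.mkQ_surjective _ x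
      change QuotSMulTop.map r (LinearMap.inl R M N)
          (QuotSMulTop.map r (LinearMap.fst R M N) (Submodule.Quotient.mk (m, n))) +
        QuotSMulTop.map r (LinearMap.inr R M N)
          (QuotSMulTop.map r (LinearMap.snd R M N) (Submodule.Quotient.mk (m, n))) =
        Submodule.Quotient.mk (m, n)
      rw [QuotSMulTop.map_apply_mk, QuotSMulTop.map_apply_mk, QuotSMulTop.map_apply_mk,
        QuotSMulTop.map_apply_mk, ← Submodule.Quotient.mk_add]
      simp)

theorem isWeaklyRegular_prod {R : Type v} [CommRing R] (rs : List R) :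
    ∀ {M : Type u1} {N : Type u2} [AddCommGroup M] [Module R M] [AddCommGroup N] [Module R N],
      IsWeaklyRegular M rs → IsWeaklyRegular N rs → IsWeaklyRegular (M × N) rs := by
  induction rs with
  | nil =>
    intro M N _ _ _ _ _ _
    exact IsWeaklyRegular.nil R _
  | cons r rs' ih =>
    intro M N _ _ _ _ hM hN
    rw [isWeaklyRegular_cons_iff] at hM hN ⊢
    refine ⟨Prod.isSMulRegular_iff.mpr ⟨hM.1, hN.1⟩, ?_⟩
    exact ((quotProdEquiv r M N).isWeaklyRegular_congr rs').mpr (ih hM.2 hN.2)

end Aux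

/-- Let A be a Noetherian local integral domain with maximal ideal m, I and J ideals of A, d ≥ 1, and
f_1, …, f_d ∈ m. Assume depth A/(I+J) ≥ d - 1, depth A/I ≥ d and depth A/J ≥ d (depths of the
quotients as A-modules), that f_1, …, f_d is a regular sequence on A/I and on A/J, and that f_1, …,
f_{d-1} is a regular sequence on A/(I+J). Then f_1, …, f_d is a regular sequence on A/(I ∩ J). -/
theorem result (A : Type u) [CommRing A] [IsDomain A]
    [IsNoetherianRing A] [IsLocalRing A] (I J : Ideal A) (d : ℕ) (hd : 0 < d) (f : Fin d → A)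
    (hf : ∀ k, f k ∈ IsLocalRing.maximalIdeal A)
    (hIJd : ((d - 1 : ℕ) : ℕ∞) ≤ LocCoh.depth A (A ⧸ (I ⊔ J)))
    (hId : (d : ℕ∞) ≤ LocCoh.depth A (A ⧸ I)) (hJd : (d : ℕ∞) ≤ LocCoh.depth A (A ⧸ J))
    (hI : RingTheory.Sequence.IsRegular (A ⧸ I) (List.ofFn f))
    (hJ : RingTheory.Sequence.IsRegular (A ⧸ J) (List.ofFn f))
    (hIJ : RingTheory.Sequence.IsRegular (A ⧸ (I ⊔ J)) ((List.ofFn f).take (d - 1))) :
    RingTheory.Sequence.IsRegular (A ⧸ (I ⊓ J)) (List.ofFn f) := by
  classical
  have hntI : Nontrivial (A ⧸ I) := hI.nontrivial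
  have hle1 : I ⊓ J ≤ I := inf_le_left
  have hle2 : I ⊓ J ≤ J := inf_le_right
  have hle3 : I ≤ I ⊔ J := le_sup_left
  have hle4 : J ≤ I ⊔ J := le_sup_right
  let i1 : (A ⧸ (I ⊓ J)) →ₗ[A] (A ⧸ I) := Submodule.mapQ (I ⊓ J) I LinearMap.id (by
    intro x hx; exact hle1 hx)
  let i2 : (A ⧸ (I ⊓ J)) →ₗ[A] (A ⧸ J) := Submodule.mapQ (I ⊓ J) J LinearMap.id (by
    intro x hx; exact hle2 hx)
  let p1 : (A ⧸ I) →ₗ[A] (A ⧸ (I ⊔ J)) := Submodule.mapQ I (I ⊔ J) LinearMap.id (by
    intro x hx; exact hle3 hx)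
  let p2 : (A ⧸ J) →ₗ[A] (A ⧸ (I ⊔ J)) := Submodule.mapQ J (I ⊔ J) LinearMap.id (by
    intro x hx; exact hle4 hx)
  let i : (A ⧸ (I ⊓ J)) →ₗ[A] (A ⧸ I) × (A ⧸ J) := i1.prod i2
  let p : (A ⧸ I) × (A ⧸ J) →ₗ[A] (A ⧸ (I ⊔ J)) := p1.coprod (-p2)
  have hi1 : ∀ a : A, i1 (Submodule.Quotient.mk a) = Submodule.Quotient.mk a := fun a => rfl
  have hi2 : ∀ a : A, i2 (Submodule.Quotient.mk a) = Submodule.Quotient.mk a := fun a => rfl
  have hp1 : ∀ a : A, p1 (Submodule.Quotient.mk a) = Submodule.Quotient.mk a := fun a => rfl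
  have hp2 : ∀ a : A, p2 (Submodule.Quotient.mk a) = Submodule.Quotient.mk a := fun a => rfl
  have hi : Function.Injective i := by
    rw [injective_iff_map_eq_zero]
    intro x hx
    obtain ⟨a, rfl⟩ := Submodule.Quotient.mk_surjective _ x
    have h1 : i1 (Submodule.Quotient.mk a) = 0 := congrArg Prod.fst hx
    have h2 : i2 (Submodule.Quotient.mk a) = 0 := congrArg Prod.snd hx
    rw [hi1, Submodule.Quotient.mk_eq_zero] at h1
    rw [hi2, Submodule.Quotient.mk_eq_zero] at h2
    rw [Submodule.Quotient.mk_eq_zero]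
    exact ⟨h1, h2⟩
  have hp : Function.Surjective p := by
    intro z
    obtain ⟨a, rfl⟩ := Submodule.Quotient.mk_surjective _ z
    refine ⟨(Submodule.Quotient.mk a, 0), ?_⟩
    change p1 (Submodule.Quotient.mk a) + (-p2) 0 = _
    rw [hp1, map_zero, add_zero]
  have hex : Function.Exact i p := by
    intro y
    obtain ⟨y1, y2⟩ := y
    obtain ⟨a, rfl⟩ := Submodule.Quotient.mk_surjective _ y1
    obtain ⟨b, rfl⟩ := Submodule.Quotient.mk_surjective _ y2
    have hpy : p (Submodule.Quotient.mk a, Submodule.Quotient.mk b) =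
        Submodule.Quotient.mk (a - b) := by
      change p1 (Submodule.Quotient.mk a) + (-p2) (Submodule.Quotient.mk b) = _
      rw [LinearMap.neg_apply, hp1, hp2, ← sub_eq_add_neg, ← Submodule.Quotient.mk_sub]
    rw [hpy, Submodule.Quotient.mk_eq_zero]
    constructor
    · intro h
      obtain ⟨x, hx, y, hy, hxy⟩ := Submodule.mem_sup.mp h
      refine ⟨Submodule.Quotient.mk (a - x), ?_⟩
      change (i1 (Submodule.Quotient.mk (a - x)), i2 (Submodule.Quotient.mk (a - x))) = _
      rw [hi1, hi2]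
      apply Prod.ext
      · change (Submodule.Quotient.mk (a - x) : A ⧸ I) = Submodule.Quotient.mk a
        rw [Submodule.Quotient.eq]
        have : a - x - a = -x := by ring
        rw [this]
        exact I.neg_mem hx
      · change (Submodule.Quotient.mk (a - x) : A ⧸ J) = Submodule.Quotient.mk b
        rw [Submodule.Quotient.eq]
        have : a - x - b = y := by
          have h' : a - x - b = (a - b) - x := by ring
          rw [h', ← hxy]
          ring
        rw [this]
        exact hy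
    · rintro ⟨z, hz⟩
      obtain ⟨c, rfl⟩ := Submodule.Quotient.mk_surjective _ z
      have h1 : i1 (Submodule.Quotient.mk c) = Submodule.Quotient.mk a := congrArg Prod.fst hz
      have h2 : i2 (Submodule.Quotient.mk c) = Submodule.Quotient.mk b := congrArg Prod.snd hz
      rw [hi1, Submodule.Quotient.eq] at h1
      rw [hi2, Submodule.Quotient.eq] at h2
      have : a - b = -(c - a) + (c - b) := by ring
      rw [this]
      exact Submodule.add_mem _ (hle3 (I.neg_mem h1)) (hle4 h2)
  have hmid : IsWeaklyRegular ((A ⧸ I) × (A ⧸ J)) (List.ofFn f) :=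
    isWeaklyRegular_prod _ hI.toIsWeaklyRegular hJ.toIsWeaklyRegular
  have hlast : IsWeaklyRegular (A ⧸ (I ⊔ J)) (List.ofFn f).dropLast := by
    rw [List.dropLast_eq_take, List.length_ofFn]
    exact hIJ.toIsWeaklyRegular
  have hweak := isWeaklyRegular_of_exact (List.ofFn f) i p hi hex hp hmid hlast
  have hnt : Nontrivial (A ⧸ (I ⊓ J)) := by
    have hsurj : Function.Surjective i1 := by
      intro z
      obtain ⟨a, rfl⟩ := Submodule.Quotient.mk_surjective _ z
      exact ⟨Submodule.Quotient.mk a, rfl⟩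
    exact hsurj.nontrivial
  have hfin : Module.Finite A (A ⧸ (I ⊓ J)) := inferInstance
  rw [IsLocalRing.isRegular_iff_isWeaklyRegular_of_subset_maximalIdeal]
  · exact hweak
  · intro r hr
    rw [List.mem_ofFn] at hr
    obtain ⟨k, rfl⟩ := hr
    exact hf k

end Groth.Agent.S11257
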