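import Groth.Statements.S1126
import Mathlib.AlgebraicGeometry.Morphisms.FlatDescent
-- import your own Groth.Agent.* helpers here

set_option autoImplicit false
open CategoryTheory CategoryTheory.Limits AlgebraicGeometry Opposite
universe u
open Desc

namespace Groth.Agent.S1126

lemma isUnivHomeo_eq :
    FlatMor.IsUnivHomeo.{u} = (@UniversallyInjective ⊓ @Surjective ⊓ @UniversallyClosed :
      MorphismProperty Scheme.{u}) := by
  ext X Y f
  constructor
  · intro hf
    refine ⟨⟨⟨?_⟩, ?_⟩, ⟨?_⟩⟩
    · intro X' Y' i₁ i₂ f' hsq
      exact (hf i₁ i₂ f' hsq : IsHomeomorph f').injective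
    · exact ⟨(MorphismProperty.universally_le _ _ hf : IsHomeomorph f).surjective⟩
    · intro X' Y' i₁ i₂ f' hsq
      exact (hf i₁ i₂ f' hsq : IsHomeomorph f').isClosedMap
  · rintro ⟨⟨h1, h2⟩, h3⟩
    intro X' Y' i₁ i₂ f' hsq
    have h1' : UniversallyInjective f' :=
      MorphismProperty.of_isPullback (P := @UniversallyInjective) hsq.flip h1
    have h2' : Surjective f' := MorphismProperty.of_isPullback (P := @Surjective) hsq.flip h2
    have h3' : UniversallyClosed f' :=
      MorphismProperty.of_isPullback (P := @UniversallyClosed) hsq.flip h3
    show IsHomeomorph f'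
    have hbij : Function.Bijective f' := ⟨f'.injective, f'.surjective⟩
    exact isHomeomorph_iff_continuous_isClosedMap_bijective.mpr
      ⟨f'.continuous, f'.isClosedMap, hbij⟩

/-- If the base change of a morphism along a quasi-compact flat surjective morphism to its target is a
universal homeomorphism, then the morphism is a universal homeomorphism. (Stated for a single
quasi-compact flat surjective base change; combined with Zariski-locality on the target this gives
the fpqc-local form.) -/
theorem result :
    MorphismProperty.DescendsAlong (FlatMor.IsUnivHomeo.{u})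
      (@Surjective ⊓ @Flat ⊓ @QuasiCompact : MorphismProperty Scheme.{u}) := by
  rw [isUnivHomeo_eq]
  infer_instance

end Groth.Agent.S1126
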