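import Groth.Statements.S11262
import Mathlib.RingTheory.MvPolynomial.Ideal
import Mathlib.Algebra.Order.Antidiag.FinsuppEquiv
import Mathlib.LinearAlgebra.Dimension.Constructions
import Mathlib.RingTheory.MvPolynomial.Basic
import Mathlib.Data.Finsupp.Indicator

set_option autoImplicit false
universe u v
open W4bk4grassmannian

namespace Groth.Agent.S11262

open MvPolynomial

section
variable (K : Type u) [Field K] (L : Type v) [DistribLattice L] [Fintype L]

/-- the monomial ideal -/
noncomputable abbrev II : Ideal (MvPolynomial L K) :=
  Ideal.span {f : MvPolynomial L K | ∃ a b : L, ¬ a ≤ b ∧ ¬ b ≤ a ∧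
    f = MvPolynomial.X a * MvPolynomial.X b}

/-- exponents of the generators -/
def genExp : Set (L →₀ ℕ) :=
  {e | ∃ a b : L, ¬ a ≤ b ∧ ¬ b ≤ a ∧ e = Finsupp.single a 1 + Finsupp.single b 1}

lemma gens_eq : {f : MvPolynomial L K | ∃ a b : L, ¬ a ≤ b ∧ ¬ b ≤ a ∧
    f = MvPolynomial.X a * MvPolynomial.X b} =
    (fun e => monomial e (1 : K)) '' genExp L := by
  ext f
  constructor
  · rintro ⟨a, b, h1, h2, rfl⟩
    refine ⟨_, ⟨a, b, h1, h2, rfl⟩, ?_⟩
    simp [MvPolynomial.X, monomial_mul]
  · rintro ⟨e, ⟨a, b, h1, h2, rfl⟩, rfl⟩
    refine ⟨a, b, h1, h2, ?_⟩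
    simp [MvPolynomial.X, monomial_mul]

lemma exists_gen_le_iff (d : L →₀ ℕ) :
    (∃ e ∈ genExp L, e ≤ d) ↔ ¬ IsChain (fun a b : L => a ≤ b) (↑d.support : Set L) := by
  classical
  constructor
  · rintro ⟨e, ⟨a, b, h1, h2, rfl⟩, hle⟩ hchain
    have hab : a ≠ b := fun h => h1 (h ▸ le_refl a)
    have ha : a ∈ d.support := by
      rw [Finsupp.mem_support_iff]
      have := hle a
      simp only [Finsupp.add_apply, Finsupp.single_eq_same, Finsupp.single_apply, hab.symm,
        if_false, add_zero] at this
      omega
    have hb : b ∈ d.support := by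
      rw [Finsupp.mem_support_iff]
      have := hle b
      simp only [Finsupp.add_apply, Finsupp.single_eq_same, Finsupp.single_apply, hab,
        if_false, zero_add] at this
      omega
    rcases hchain ha hb hab with h | h
    · exact h1 h
    · exact h2 h
  · intro hchain
    simp only [IsChain, Set.Pairwise, not_forall] at hchain
    obtain ⟨a, ha, b, hb, hab, hnot⟩ := hchain
    push Not at hnot
    refine ⟨_, ⟨a, b, hnot.1, hnot.2, rfl⟩, ?_⟩
    intro x
    simp only [Finsupp.add_apply, Finsupp.single_apply]
    have ha' : d a ≠ 0 := Finsupp.mem_support_iff.1 ha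
    have hb' : d b ≠ 0 := Finsupp.mem_support_iff.1 hb
    by_cases hxa : a = x
    · subst hxa
      have : ¬ b = a := fun h => hab h.symm
      simp only [if_true, this, if_false]
      omega
    · by_cases hxb : b = x
      · subst hxb
        simp only [hxa, if_false, if_true]
        omega
      · simp [hxa, hxb]

lemma mem_II_iff (p : MvPolynomial L K) :
    p ∈ II K L ↔ ∀ d ∈ p.support, ¬ IsChain (fun a b : L => a ≤ b) (↑d.support : Set L) := by
  rw [II, gens_eq, mem_ideal_span_monomial_image]
  exact forall₂_congr fun d _ => exists_gen_le_iff L d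

end


section main
open Classical
variable (K : Type u) [Field K] (L : Type v) [DistribLattice L] [Fintype L] (m : ℕ)

/-- chain-supported exponent vectors of degree `m` -/
noncomputable def D : Finset (L →₀ ℕ) :=
  (Finset.univ.finsuppAntidiag m).filter
    (fun d => IsChain (fun a b : L => a ≤ b) (↑d.support : Set L))

lemma mem_D (d : L →₀ ℕ) :
    d ∈ D L m ↔ d.degree = m ∧ IsChain (fun a b : L => a ≤ b) (↑d.support : Set L) := by
  simp [D, Finsupp.degree_eq_sum]

/-- the family of monomial classes -/
noncomputable def vv : D L m → MvPolynomial L K ⧸ II K L :=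
  fun d => Ideal.Quotient.mkₐ K (II K L) (monomial d.1 1)

lemma support_subset_of_mem_span (p : MvPolynomial L K)
    (hp : p ∈ Submodule.span K (Set.range (fun d : D L m => monomial d.1 (1 : K)))) :
    ∀ d ∈ p.support, d ∈ D L m := by
  induction hp using Submodule.span_induction with
  | mem x hx =>
    obtain ⟨d, rfl⟩ := hx
    intro e he
    have := MvPolynomial.support_monomial_subset he
    rw [Finset.mem_singleton] at this
    rw [this]; exact d.2
  | zero => simp
  | add x y _ _ hx hy =>
    intro e he
    rcases Finset.mem_union.1 (MvPolynomial.support_add he) with h | h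
    · exact hx e h
    · exact hy e h
  | smul a x _ hx =>
    intro e he
    exact hx e (MvPolynomial.support_smul he)

lemma linearIndependent_vv : LinearIndependent K (vv K L m) := by
  have h0 : LinearIndependent K (fun d : D L m => monomial d.1 (1 : K)) := by
    have := (MvPolynomial.basisMonomials L K).linearIndependent.comp
      (Subtype.val : D L m → (L →₀ ℕ)) Subtype.val_injective
    simpa [Function.comp_def] using this
  have := h0.map (f := (Ideal.Quotient.mkₐ K (II K L)).toLinearMap) ?_
  · exact this
  · rw [Submodule.disjoint_def]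
    intro p hp hker
    have hpI : p ∈ II K L := by
      have : (Ideal.Quotient.mkₐ K (II K L)) p = 0 := hker
      rwa [Ideal.Quotient.mkₐ_eq_mk, Ideal.Quotient.eq_zero_iff_mem] at this
    have h1 := support_subset_of_mem_span K L m p hp
    have h2 := (mem_II_iff K L p).1 hpI
    rw [← MvPolynomial.support_eq_empty]
    apply Finset.eq_empty_of_forall_notMem
    intro d hd
    exact h2 d hd ((mem_D L m d).1 (h1 d hd)).2

lemma map_eq_span :
    (MvPolynomial.homogeneousSubmodule L K m).map
        (Ideal.Quotient.mkₐ K (II K L)).toLinearMap =
      Submodule.span K (Set.range (vv K L m)) := by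
  apply le_antisymm
  · rintro _ ⟨p, hp, rfl⟩
    rw [← MvPolynomial.support_sum_monomial_coeff p, map_sum]
    apply Submodule.sum_mem
    intro d hd
    have hdeg : d.degree = m := by
      have := hp (MvPolynomial.mem_support_iff.1 hd)
      rw [Finsupp.degree_eq_weight_one]; exact this
    have hmon : monomial d (coeff d p) = coeff d p • monomial d (1 : K) := by
      rw [MvPolynomial.smul_monomial, smul_eq_mul, mul_one]
    rw [hmon, map_smul]
    apply Submodule.smul_mem
    by_cases hch : IsChain (fun a b : L => a ≤ b) (↑d.support : Set L)
    · exact Submodule.subset_span ⟨⟨d, (mem_D L m d).2 ⟨hdeg, hch⟩⟩, rfl⟩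
    · have : monomial d (1 : K) ∈ II K L := by
        rw [mem_II_iff]
        intro e he
        have := MvPolynomial.support_monomial_subset he
        rw [Finset.mem_singleton] at this
        rw [this]; exact hch
      have h0 : (Ideal.Quotient.mkₐ K (II K L)).toLinearMap (monomial d (1 : K)) = 0 := by
        show (Ideal.Quotient.mkₐ K (II K L)) (monomial d (1 : K)) = 0
        rwa [Ideal.Quotient.mkₐ_eq_mk, Ideal.Quotient.eq_zero_iff_mem]
      rw [h0]; exact Submodule.zero_mem _
  · rw [Submodule.span_le]
    rintro _ ⟨d, rfl⟩
    refine ⟨monomial d.1 1, ?_, rfl⟩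
    exact MvPolynomial.isHomogeneous_monomial 1 ((mem_D L m d.1).1 d.2).1

lemma finrank_eq_card_D :
    Module.finrank K ((MvPolynomial.homogeneousSubmodule L K m).map
        (Ideal.Quotient.mkₐ K (II K L)).toLinearMap) = (D L m).card := by
  rw [map_eq_span, finrank_span_eq_card (linearIndependent_vv K L m), Fintype.card_coe]

end main


section count
open Classical
variable (L : Type v) [DistribLattice L] [Fintype L] (m : ℕ)

/-- indicator vector -/
noncomputable def one (C : Finset L) : L →₀ ℕ := Finsupp.indicator C (fun _ _ => 1)

lemma one_apply (C : Finset L) (a : L) : one L C a = if a ∈ C then 1 else 0 := by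
  simp [one, Finsupp.indicator_apply]

lemma sum_one (C : Finset L) : ∑ a, one L C a = C.card := by
  simp [one_apply]

lemma card_fiber (hm : 1 ≤ m) (C : Finset L) (hC : C.Nonempty) :
    ((Finset.univ.finsuppAntidiag m).filter (fun d : L →₀ ℕ => d.support = C)).card =
      Nat.choose (m - 1) (C.card - 1) := by
  have hCpos : 1 ≤ C.card := Finset.card_pos.2 hC
  by_cases hle : C.card ≤ m
  · have hcard : ((Finset.univ.finsuppAntidiag m).filter
        (fun d : L →₀ ℕ => d.support = C)).card = (C.finsuppAntidiag (m - C.card)).card := by
      symm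
      apply Finset.card_nbij' (fun e => e + one L C) (fun d => d - one L C)
      · intro e he
        rw [Finset.mem_coe, Finset.mem_finsuppAntidiag] at he
        obtain ⟨hsum, hsupp⟩ := he
        have hsumu : ∑ a, e a = m - C.card := by
          rw [← hsum]
          symm
          apply Finset.sum_subset (Finset.subset_univ C)
          intro x _ hx
          exact Finsupp.notMem_support_iff.1 (fun h => hx (hsupp h))
        rw [Finset.mem_coe, Finset.mem_filter, Finset.mem_finsuppAntidiag]
        refine ⟨⟨?_, Finset.subset_univ _⟩, ?_⟩
        · simp only [Finsupp.add_apply, Finset.sum_add_distrib, hsumu, sum_one]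
          omega
        · ext a
          rw [Finsupp.mem_support_iff, Finsupp.add_apply, one_apply]
          by_cases ha : a ∈ C
          · simp [ha]
          · have : e a = 0 := Finsupp.notMem_support_iff.1 (fun h => ha (hsupp h))
            simp [ha, this]
      · intro d hd
        rw [Finset.mem_coe, Finset.mem_filter, Finset.mem_finsuppAntidiag] at hd
        obtain ⟨⟨hsum, -⟩, hsupp⟩ := hd
        have hsumC : ∑ a ∈ C, d a = m := by
          rw [← hsum]
          apply Finset.sum_subset (Finset.subset_univ C)
          intro x _ hx
          rw [← hsupp] at hx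
          exact Finsupp.notMem_support_iff.1 hx
        rw [Finset.mem_coe, Finset.mem_finsuppAntidiag]
        refine ⟨?_, ?_⟩
        · have h1 : ∑ a ∈ C, (d - one L C) a + C.card = m := by
            rw [Finset.card_eq_sum_ones, ← Finset.sum_add_distrib, ← hsumC]
            apply Finset.sum_congr rfl
            intro a ha
            have hda : d a ≠ 0 := by
              rw [← hsupp] at ha
              exact Finsupp.mem_support_iff.1 ha
            rw [Finsupp.tsub_apply, one_apply, if_pos ha]
            omega
          show ∑ a ∈ C, (d - one L C) a = m - C.card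
          omega
        · intro a ha
          rw [Finsupp.mem_support_iff, Finsupp.tsub_apply] at ha
          rw [← hsupp, Finsupp.mem_support_iff]
          omega
      · intro e _
        exact add_tsub_cancel_right e (one L C)
      · intro d hd
        rw [Finset.mem_coe, Finset.mem_filter] at hd
        apply tsub_add_cancel_of_le
        intro a
        rw [one_apply]
        split_ifs with ha
        · have : d a ≠ 0 := by
            rw [← hd.2] at ha
            exact Finsupp.mem_support_iff.1 ha
          omega
        · exact Nat.zero_le _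
    rw [hcard, Finset.card_finsuppAntidiag_nat_eq_choose]
    have h1 : C.card + (m - C.card) - 1 = m - 1 := by omega
    rw [h1]
    apply Nat.choose_symm_of_eq_add
    omega
  · rw [Nat.choose_eq_zero_of_lt (by omega), Finset.card_eq_zero, Finset.filter_eq_empty_iff]
    intro d hd hsupp
    rw [Finset.mem_finsuppAntidiag] at hd
    have h0 : ∑ a, d a = m := hd.1
    have h1 : C.card ≤ ∑ a, d a := by
      calc C.card = ∑ a ∈ C, 1 := Finset.card_eq_sum_ones C
        _ ≤ ∑ a ∈ C, d a := by
            apply Finset.sum_le_sum
            intro a ha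
            have : d a ≠ 0 := by
              rw [← hsupp] at ha
              exact Finsupp.mem_support_iff.1 ha
            omega
        _ ≤ ∑ a, d a := Finset.sum_le_sum_of_subset (Finset.subset_univ C)
    omega

lemma card_D (hm : 1 ≤ m) : (D L m).card =
    ∑ C ∈ (Finset.univ.filter (fun C : Finset L => C.Nonempty ∧
        IsChain (fun a b : L => a ≤ b) (↑C : Set L))), Nat.choose (m - 1) (C.card - 1) := by
  rw [Finset.card_eq_sum_card_fiberwise (f := fun d : L →₀ ℕ => d.support)
    (t := Finset.univ.filter (fun C : Finset L => C.Nonempty ∧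
        IsChain (fun a b : L => a ≤ b) (↑C : Set L)))]
  · apply Finset.sum_congr rfl
    intro C hC
    rw [Finset.mem_filter] at hC
    rw [← card_fiber L m hm C hC.2.1]
    congr 1
    ext d
    simp only [D, Finset.mem_filter]
    constructor
    · rintro ⟨⟨h1, _⟩, h3⟩
      exact ⟨h1, h3⟩
    · rintro ⟨h1, h3⟩
      exact ⟨⟨h1, h3 ▸ hC.2.2⟩, h3⟩
  · intro d hd
    rw [Finset.mem_coe, mem_D] at hd
    rw [Finset.mem_coe, Finset.mem_filter]
    refine ⟨Finset.mem_univ _, ?_, hd.2⟩
    rw [Finset.nonempty_iff_ne_empty]
    intro h
    rw [Finsupp.support_eq_empty] at h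
    rw [h] at hd
    simp at hd
    omega

end count

/-- Hilbert function of the Stanley–Reisner ring of a finite distributive lattice: let K be a field, L a
finite distributive lattice, R = K[x_α : α ∈ L], I ⊆ R the ideal generated by the products x_α x_β
over the incomparable (skew) pairs α, β, and m ≥ 1. Then the image in R/I of the homogeneous
polynomials of degree m has K-dimension equal to the sum, over the nonempty chains C ⊆ L, of the
binomial coefficient (m - 1 choose |C| - 1). (The published statement is that the degree of R/I
equals the number of maximal chains of L; this row states the Hilbert function from which that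
degree is read off.) -/
theorem result (K : Type u) [Field K] (L : Type v) [DistribLattice L]
    [Fintype L] (m : ℕ) (hm : 1 ≤ m) :
    Module.finrank K ((MvPolynomial.homogeneousSubmodule L K m).map
        (Ideal.Quotient.mkₐ K (Ideal.span {f : MvPolynomial L K | ∃ a b : L, ¬ a ≤ b ∧ ¬ b ≤ a ∧
          f = MvPolynomial.X a * MvPolynomial.X b})).toLinearMap) =
      ∑ᶠ C : {C : Finset L // C.Nonempty ∧ IsChain (fun a b : L => a ≤ b) (↑C : Set L)},
        Nat.choose (m - 1) (C.1.card - 1) := by
  classical
  refine (finrank_eq_card_D K L m).trans ?_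
  rw [card_D L m hm, finsum_eq_sum_of_fintype]
  exact Finset.sum_subtype _ (by simp) _

end Groth.Agent.S11262
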