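import Groth.Statements.S11268
import Mathlib

set_option autoImplicit false
open W4bk4grassmannian

namespace Groth.Agent.S11268

lemma val_le_apply {d n : ℕ} (τ : Idx d n) : ∀ (k : ℕ) (hk : k < d), k ≤ (τ.1 ⟨k, hk⟩).val := by
  intro k
  induction k with
  | zero => intro _; exact Nat.zero_le _
  | succ k ih =>
    intro hk
    have h1 := ih (by omega)
    have h2 : τ.1 ⟨k, by omega⟩ < τ.1 ⟨k + 1, hk⟩ := τ.2 (by simp [Fin.lt_def])
    rw [Fin.lt_def] at h2
    omega

open W4bk4grassmannian in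
/-- Let τ < w in I(d,n), the strictly increasing maps Fin d → Fin n ordered entrywise. Then there is a
Schubert divisor φ of w, i.e. φ < w with Σ_t (φ_t - t) + 1 = Σ_t (w_t - t), such that τ ≤ φ: every
proper Schubert subvariety of X(w) lies in a Schubert divisor of X(w). -/
theorem result (d n : ℕ) (τ w : Idx d n) (h : τ < w) :
    ∃ φ ∈ divisors w, τ ≤ φ := by
  classical
  have hle : ∀ t, τ.1 t ≤ w.1 t := fun t => h.le t
  have hne : ∃ t, τ.1 t < w.1 t := by
    by_contra hcon
    push Not at hcon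
    exact h.not_ge (fun t => hcon t)
  let S : Finset (Fin d) := Finset.univ.filter (fun t => τ.1 t < w.1 t)
  have hS : S.Nonempty := by
    obtain ⟨t, ht⟩ := hne
    exact ⟨t, by simp [S, ht]⟩
  obtain ⟨t₀, ht₀def⟩ : ∃ t₀, t₀ = S.min' hS := ⟨_, rfl⟩
  have ht₀ : τ.1 t₀ < w.1 t₀ := by
    have := S.min'_mem hS
    rw [← ht₀def] at this
    exact (Finset.mem_filter.mp this).2
  have hmin : ∀ t, t < t₀ → τ.1 t = w.1 t := by
    intro t ht
    refine le_antisymm (hle t) (not_lt.mp (fun hlt => ?_))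
    have : t ∈ S := by simp [S, hlt]
    have := S.min'_le t this
    rw [← ht₀def] at this
    exact absurd this (not_le.mpr ht)
  have ht₀v : (τ.1 t₀).val < (w.1 t₀).val := ht₀
  have hwn : (w.1 t₀).val < n := (w.1 t₀).isLt
  let φf : Fin d → Fin n := fun t => if t = t₀ then ⟨(w.1 t₀).val - 1, by omega⟩ else w.1 t
  have hφt₀ : (φf t₀).val = (w.1 t₀).val - 1 := by simp [φf]
  have hφne : ∀ t, t ≠ t₀ → φf t = w.1 t := fun t ht => by simp [φf, ht]
  have hφmono : StrictMono φf := by
    intro a b hab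
    by_cases ha : a = t₀
    · have hb : b ≠ t₀ := fun hb => by rw [ha, hb] at hab; exact lt_irrefl _ hab
      rw [hφne b hb, Fin.lt_def, ha, hφt₀]
      have : w.1 t₀ < w.1 b := w.2 (ha ▸ hab)
      rw [Fin.lt_def] at this
      omega
    · by_cases hb : b = t₀
      · rw [hφne a ha, Fin.lt_def, hb, hφt₀]
        have h1 : τ.1 a = w.1 a := hmin a (hb ▸ hab)
        have h2 : τ.1 a < τ.1 t₀ := τ.2 (hb ▸ hab)
        rw [h1, Fin.lt_def] at h2
        omega
      · rw [hφne a ha, hφne b hb]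
        exact w.2 hab
  let φ : Idx d n := ⟨φf, hφmono⟩
  have hτφ : τ ≤ φ := by
    intro t
    by_cases ht : t = t₀
    · change τ.1 t ≤ φf t
      rw [Fin.le_def, ht, hφt₀]
      omega
    · change τ.1 t ≤ φf t
      rw [hφne t ht]
      exact hle t
  have hφw : φ < w := by
    refine lt_of_le_of_ne (fun t => ?_) (fun heq => ?_)
    · by_cases ht : t = t₀
      · change φf t ≤ w.1 t
        rw [Fin.le_def, ht, hφt₀]
        omega
      · change φf t ≤ w.1 t
        rw [hφne t ht]
    · have : (φf t₀).val = (w.1 t₀).val := by rw [← heq]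
      rw [hφt₀] at this
      omega
  refine ⟨φ, ⟨hφw, ?_⟩, hτφ⟩
  have hτt₀ : t₀.val ≤ (τ.1 t₀).val := val_le_apply τ t₀.val t₀.isLt
  unfold codeg
  rw [← Finset.add_sum_erase _ _ (Finset.mem_univ t₀), ← Finset.add_sum_erase _ _ (Finset.mem_univ t₀)]
  have hrest : ∑ x ∈ Finset.univ.erase t₀, ((φ.1 x).val - x.val) =
      ∑ x ∈ Finset.univ.erase t₀, ((w.1 x).val - x.val) := by
    apply Finset.sum_congr rfl
    intro x hx
    have : x ≠ t₀ := Finset.ne_of_mem_erase hx
    change (φf x).val - x.val = _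
    rw [hφne x this]
  rw [hrest]
  change (φf t₀).val - t₀.val + _ + 1 = _
  rw [hφt₀]
  omega

end Groth.Agent.S11268
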