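import Groth.Statements.S11269
import Groth.Agent.Lib.Helper67.SuppLoc
import Groth.Agent.Lib.Helper56.Serre1

set_option autoImplicit false
universe u
open W4bk4grassmannian

namespace Groth.Agent.S11269

/-- Let R be a Noetherian integral domain. Then R satisfies Serre's condition (S_2) (depth R_P ≥ min(2,
dim R_P) for all primes P) if and only if, for every nonzero a ∈ R, every associated prime of the
R-module R/(a) has height one. -/
theorem result (R : Type u) [CommRing R] [IsDomain R]
    [IsNoetherianRing R] :
    LocCoh.HasSk 2 R R ↔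
      ∀ a : R, a ≠ 0 → ∀ P : Ideal R, P ∈ associatedPrimes R (R ⧸ Ideal.span {a}) → P.height = 1 := by
  open Groth.Agent.Lib.Helper67 in
  have he : ∀ a : R, Nonempty (QuotSMulTop a R ≃ₗ[R] (R ⧸ Ideal.span {a})) := fun a =>
    ⟨Submodule.quotEquivOfEq _ _ (by
      ext x
      exact Groth.Agent.Lib.Helper56.mem_smul_top_iff_mem_span a x)⟩
  constructor
  · intro hS2 a ha P hP
    obtain ⟨e⟩ := he a
    rw [← LinearEquiv.AssociatedPrimes.eq e] at hP
    have hreg : IsSMulRegular R a := IsSMulRegular.of_ne_zero ha
    have h1 := Groth.Agent.Lib.Helper56.height_le_one_of_mem_ass_quotSMulTop hS2 a hreg P hP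
    have haP := Groth.Agent.Lib.Helper56.self_mem_of_mem_ass_quotSMulTop a P hP
    have hPne : P ≠ ⊥ := by
      rintro rfl
      exact ha ((Submodule.mem_bot R).mp haP)
    have h0 : P.height ≠ 0 := fun h => hPne (Ideal.height_eq_zero_iff_eq_bot.mp h)
    exact le_antisymm h1 (Order.one_le_iff_ne_zero.mpr h0)
  · intro h
    rw [Groth.Agent.Lib.Helper56.hasSk_self_iff]
    intro p _
    set Rp := Localization.AtPrime p
    rw [IsLocalization.AtPrime.ringKrullDim_eq_height p Rp]
    by_cases hp0 : p = ⊥
    · have : p.height = 0 := Ideal.height_eq_zero_iff_eq_bot.mpr hp0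
      rw [this]
      exact le_trans (min_le_right _ _) (by exact_mod_cast bot_le)
    · obtain ⟨a, hap, ha0⟩ := Submodule.exists_mem_ne_zero_of_ne_bot hp0
      have hreg : IsSMulRegular R a := IsSMulRegular.of_ne_zero ha0
      have ham : algebraMap R Rp a ∈ IsLocalRing.maximalIdeal Rp :=
        (IsLocalization.AtPrime.to_map_mem_maximal_iff _ p a).mpr hap
      have ha0' : algebraMap R Rp a ≠ 0 := by
        intro h0
        apply ha0
        exact (IsLocalization.injective Rp (Ideal.primeCompl_le_nonZeroDivisors p))
          (by rw [h0, map_zero])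
      have hreg' : IsSMulRegular Rp (algebraMap R Rp a) := IsSMulRegular.of_ne_zero ha0'
      have hd := depth_quotSMulTop_add_one Rp ham hreg'
      by_cases hz : LocCoh.depth Rp (QuotSMulTop (algebraMap R Rp a) Rp) = 0
      · -- then `p ∈ Ass (R/(a))`, so `ht p = 1`
        have hass := (depth_eq_zero_iff _).mp hz
        have e1 : QuotSMulTop (algebraMap R Rp a) Rp ≃ₗ[Rp]
            LocalizedModule p.primeCompl (QuotSMulTop a R) :=
          QuotSMulTop.congr _ (Groth.Agent.Lib.Helper56.locSelfEquiv p.primeCompl).symm ≪≫ₗ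
            quotSMulTopLocalizedEquiv p.primeCompl a R
        rw [LinearEquiv.AssociatedPrimes.eq e1] at hass
        have hass' := Module.associatedPrimes.comap_mem_associatedPrimes_of_mem_associatedPrimes_of_isLocalizedModule_of_fg
          p.primeCompl (LocalizedModule.mkLinearMap p.primeCompl (QuotSMulTop a R)) _ hass
          ((isNoetherianRing_iff_ideal_fg R).mp inferInstance _)
        rw [show Ideal.comap (algebraMap R Rp) (IsLocalRing.maximalIdeal Rp) = p from
          Localization.AtPrime.under_maximalIdeal] at hass'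
        obtain ⟨e⟩ := he a
        rw [LinearEquiv.AssociatedPrimes.eq e] at hass'
        have hht := h a ha0 p hass'
        rw [hht, ← hd, hz]
        exact le_trans (min_le_right _ _) (by norm_num)
      · have h1 : (1 : ℕ∞) ≤ LocCoh.depth Rp (QuotSMulTop (algebraMap R Rp a) Rp) :=
          Order.one_le_iff_ne_zero.mpr hz
        have h2 : (2 : ℕ∞) ≤ LocCoh.depth Rp Rp := by
          rw [← hd]
          have : (1 : ℕ∞) + 1 ≤ LocCoh.depth Rp (QuotSMulTop (algebraMap R Rp a) Rp) + 1 := by
            gcongr
          exact le_trans (by norm_num) this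
        refine le_trans (min_le_left _ _) ?_
        have h3 : ((2 : ℕ∞) : WithBot ℕ∞) ≤ ((LocCoh.depth Rp Rp : ℕ∞) : WithBot ℕ∞) :=
          WithBot.coe_le_coe.mpr h2
        exact h3

end Groth.Agent.S11269
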