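import Groth.Statements.S11270
import Groth.Agent.Lib.Helper99.SMTDivisor

set_option autoImplicit false
universe u
open W4bk4grassmannian
open Groth.Agent.Lib.Helper99

namespace Groth.Agent.S11270

/-- the least index `(0, 1, …, d-1)` -/
def iota (d n : ℕ) (hdn : d < n) : Idx d n :=
  ⟨fun t => ⟨t.val, lt_trans t.isLt hdn⟩, fun _ _ h => h⟩

/-- the unique cover `(0, 1, …, d-2, d)` of the least index -/
def iota' (d n : ℕ) (hdn : d < n) : Idx d n :=
  ⟨fun t => if t.val + 1 = d then ⟨d, hdn⟩ else ⟨t.val, lt_trans t.isLt hdn⟩, by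
    intro a b hab
    have hab' : a.val < b.val := hab
    have hb := b.isLt
    show (if a.val + 1 = d then (⟨d, hdn⟩ : Fin n) else ⟨a.val, lt_trans a.isLt hdn⟩) <
      (if b.val + 1 = d then (⟨d, hdn⟩ : Fin n) else ⟨b.val, lt_trans b.isLt hdn⟩)
    by_cases h1 : a.val + 1 = d
    · omega
    · rw [if_neg h1]
      by_cases h2 : b.val + 1 = d
      · rw [if_pos h2, Fin.lt_def]; simp only; omega
      · rw [if_neg h2]; exact hab'⟩

lemma iota'_val (d n : ℕ) (hdn : d < n) (t : Fin d) :
    ((iota' d n hdn).1 t).val = if t.val + 1 = d then d else t.val := by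
  unfold iota'
  simp only
  split_ifs <;> rfl

lemma gap_le {d n : ℕ} (θ : Idx d n) :
    ∀ (g : ℕ) (a b : Fin d), a.val + g = b.val → (θ.1 a).val + g ≤ (θ.1 b).val := by
  intro g
  induction g with
  | zero =>
    intro a b hab
    have : a = b := Fin.ext (by omega)
    rw [this]; omega
  | succ g ih =>
    intro a b hab
    have hb := b.isLt
    have h1 := ih a ⟨b.val - 1, by omega⟩ (by simp only; omega)
    have h2 : (θ.1 ⟨b.val - 1, by omega⟩).val < (θ.1 b).val :=
      θ.2 (by rw [Fin.lt_def]; simp only; omega)
    omega

lemma eq_iota_of_not_ge {d n : ℕ} (hdn : d < n) (θ : Idx d n) (h : ¬ iota' d n hdn ≤ θ) :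
    θ = iota d n hdn := by
  rw [SMT.idx_le_iff] at h
  push Not at h
  obtain ⟨t, ht⟩ := h
  rw [iota'_val] at ht
  have hge := SMT.idx_val_ge θ t
  have htd : t.val + 1 = d := by
    by_contra hne
    rw [if_neg hne] at ht
    omega
  rw [if_pos htd] at ht
  apply Subtype.ext
  funext s
  apply Fin.ext
  show (θ.1 s).val = s.val
  have h1 := SMT.idx_val_ge θ s
  have hs := s.isLt
  have h2 := gap_le θ (t.val - s.val) s t (by omega)
  omega


open W4bk4grassmannian in
/-- The least Plücker coordinate is a prime element on every Schubert variety: let K be an algebraically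
closed field, 0 < d < n, and I(d,n) the strictly increasing maps Fin d → Fin n ordered entrywise; S
= K[X_θ : θ ∈ I(d,n)] is the Plücker polynomial ring and, for τ ∈ I(d,n), J(τ) ⊆ S is the ideal of
polynomials vanishing at the d × d row-minors of every n × d matrix over K whose minors on rows φ ≰
τ are zero (the homogeneous ideal of the Schubert variety X(τ) ⊆ G(d,n)). Let w ∈ I(d,n) and let ι =
(0, 1, …, d - 1) be the least element of I(d,n), written (1, …, d) in 1-based indexing. Then the
class of X_ι in S/J(w) is a prime element; it generates the kernel of the restriction to the section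
of X(w) by the opposite Schubert divisor. -/
theorem result (K : Type u) [Field K] [IsAlgClosed K] (d n : ℕ)
    (hd : 0 < d) (hdn : d < n) (w : Idx d n) :
    Prime (Ideal.Quotient.mk (schubertVanishing K d n w)
      (MvPolynomial.X (⟨fun t => ⟨t.val, lt_trans t.isLt hdn⟩, fun a b h => h⟩ : Idx d n))) := by
  classical
  have : Infinite K := IsAlgClosed.instInfinite
  change Prime (Ideal.Quotient.mk (schubertVanishing K d n w) (MvPolynomial.X (iota d n hdn)))
  set ι := iota d n hdn with hι
  set S := SMT.shapeIcc (iota' d n hdn) w with hS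
  -- the kernel of the evaluation at the generic matrix of `[ι', w]`
  have hker : RingHom.ker (SMT.ev K S).toRingHom =
      schubertVanishing K d n w ⊔ Ideal.span {MvPolynomial.X ι} := by
    apply le_antisymm
    · intro f hf
      have hf' : SMT.ev K S f = 0 := hf
      have hspan := SMT.std_span K (schubertVanishing K d n w ⊔ Ideal.span {MvPolynomial.X ι})
        (le_sup_of_le_left (SMT.plIdealTop_le_schubertVanishing K w))
        (fun _ c => ∀ k, S.mem (c k))
        (by
          intro m' c _ hP
          push Not at hP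
          obtain ⟨k, hk⟩ := hP
          rw [hS, SMT.mem_shapeIcc] at hk
          apply SMT.chainMon_mem_of_factor K _ c k
          by_cases h1 : c k ≤ w
          · have h2 : ¬ iota' d n hdn ≤ c k := fun h2 => hk ⟨h2, h1⟩
            rw [eq_iota_of_not_ge hdn (c k) h2]
            exact Ideal.mem_sup_right (Ideal.subset_span rfl)
          · exact Ideal.mem_sup_left (SMT.X_mem_schubertVanishing K w (c k) h1)) f
      obtain ⟨g, hg, h, hh, rfl⟩ := Submodule.mem_sup.1 hspan
      have hh' : h ∈ schubertVanishing K d n w ⊔ Ideal.span {MvPolynomial.X ι} := hh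
      have hevh : SMT.ev K S h = 0 := by
        obtain ⟨a, ha, b, hb, rfl⟩ := Submodule.mem_sup.1 hh'
        rw [map_add, SMT.ev_eq_zero_of_mem_schubertVanishing K w S (fun t => le_rfl) a ha, zero_add]
        obtain ⟨q, rfl⟩ := Ideal.mem_span_singleton'.1 hb
        rw [map_mul, SMT.ev_X_eq_zero K S ι, mul_zero]
        rw [hS, SMT.mem_shapeIcc]
        rintro ⟨h1, -⟩
        rw [SMT.idx_le_iff] at h1
        have := h1 ⟨d - 1, by omega⟩
        rw [iota'_val, if_pos (by simp only; omega)] at this
        simp only [hι, iota] at this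
        omega
      have hevg : SMT.ev K S g = 0 := by
        rw [map_add, hevh, add_zero] at hf'
        exact hf'
      have hg0 := SMT.eq_zero_of_mem_span_of_ev_eq_zero K MonomialOrder.lex SMT.diagLeading_lex hd
        S g hg hevg
      rw [hg0, zero_add]
      exact hh'
    · apply sup_le
      · intro f hf
        exact SMT.ev_eq_zero_of_mem_schubertVanishing K w S (fun t => le_rfl) f hf
      · rw [Ideal.span_le, Set.singleton_subset_iff]
        show SMT.ev K S (MvPolynomial.X ι) = 0
        apply SMT.ev_X_eq_zero K S ι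
        rw [hS, SMT.mem_shapeIcc]
        rintro ⟨h1, -⟩
        rw [SMT.idx_le_iff] at h1
        have := h1 ⟨d - 1, by omega⟩
        rw [iota'_val, if_pos (by simp only; omega)] at this
        simp only [hι, iota] at this
        omega
  have hprime : (schubertVanishing K d n w ⊔ Ideal.span {MvPolynomial.X ι}).IsPrime := by
    rw [← hker]
    exact RingHom.ker_isPrime _
  -- the class of `X ι` is nonzero
  have hne : Ideal.Quotient.mk (schubertVanishing K d n w) (MvPolynomial.X ι) ≠ 0 := by
    intro h0
    rw [Ideal.Quotient.eq_zero_iff_mem] at h0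
    have hev := SMT.ev_eq_zero_of_mem_schubertVanishing K w (SMT.shapeLe w) (fun t => le_rfl) _ h0
    have hmem : (SMT.shapeLe w).mem ι := by
      rw [SMT.mem_shapeLe, SMT.idx_le_iff]
      intro t
      exact SMT.idx_val_ge w t
    have hmonic := (SMT.ev_X_monic K MonomialOrder.lex SMT.diagLeading_lex hd (SMT.shapeLe w) ι hmem).1
    exact hmonic.ne_zero hev
  rw [← Ideal.span_singleton_prime hne]
  have hmap : Ideal.span {Ideal.Quotient.mk (schubertVanishing K d n w) (MvPolynomial.X ι)} =
      Ideal.map (Ideal.Quotient.mk (schubertVanishing K d n w))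
        (schubertVanishing K d n w ⊔ Ideal.span {MvPolynomial.X ι}) := by
    rw [Ideal.map_sup, Ideal.map_quotient_self, bot_sup_eq, Ideal.map_span, Set.image_singleton]
  rw [hmap]
  apply Ideal.map_isPrime_of_surjective Ideal.Quotient.mk_surjective
  rw [Ideal.mk_ker]
  exact le_sup_left

end Groth.Agent.S11270
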