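import Groth.Statements.S11271
import Mathlib

set_option autoImplicit false
universe u
open W4bk4grassmannian

namespace Groth.Agent.S11271

open MvPolynomial Matrix

lemma eval_det_mul {K : Type u} [Field K] {d n : ℕ} (B : Matrix (Fin d) (Fin n) K)
    (x : Fin n × Fin d → K) :
    MvPolynomial.eval x (Matrix.det (Matrix.of fun s t : Fin d =>
      ∑ k : Fin n, (C (B s k) : MvPolynomial (Fin n × Fin d) K) * X (k, t))) =
      Matrix.det (B * Matrix.of fun i j => x (i, j)) := by
  rw [RingHom.map_det]
  congr 1
  ext s t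
  simp [Matrix.mul_apply]

lemma forward {K : Type u} [Field K] {d n : ℕ} (hd : 0 < d) (A : Matrix (Fin n) (Fin d) K)
    (hA : LinearIndependent K A.transpose) :
    ∃ f : MvPolynomial (Fin n × Fin d) K, (∀ g : Matrix.SpecialLinearGroup (Fin d) K,
        MvPolynomial.eval (fun p : Fin n × Fin d => (A * (g : Matrix (Fin d) (Fin d) K)) p.1 p.2) f = 0) ∧
        MvPolynomial.eval (fun _ : Fin n × Fin d => (0 : K)) f ≠ 0 := by
  have hinj : Function.Injective A.mulVec := Matrix.mulVec_injective_iff.mpr hA
  have hker : LinearMap.ker A.mulVecLin = ⊥ := LinearMap.ker_eq_bot.mpr hinj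
  obtain ⟨gl, hgl⟩ := LinearMap.exists_leftInverse_of_injective A.mulVecLin hker
  let B : Matrix (Fin d) (Fin n) K := LinearMap.toMatrix' gl
  have hBA : B * A = 1 := by
    have : LinearMap.toMatrix' (gl.comp A.mulVecLin) = 1 := by rw [hgl, LinearMap.toMatrix'_id]
    rwa [LinearMap.toMatrix'_comp, ← Matrix.toLin'_apply', LinearMap.toMatrix'_toLin'] at this
  refine ⟨Matrix.det (Matrix.of fun s t : Fin d =>
      ∑ k : Fin n, (C (B s k) : MvPolynomial (Fin n × Fin d) K) * X (k, t)) - 1, ?_, ?_⟩
  · intro g
    rw [map_sub, map_one, eval_det_mul]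
    have : (Matrix.of fun i j => (A * (g : Matrix (Fin d) (Fin d) K)) i j) =
        A * (g : Matrix (Fin d) (Fin d) K) := rfl
    rw [this, ← Matrix.mul_assoc, hBA, Matrix.one_mul, g.det_coe, sub_self]
  · rw [map_sub, map_one, eval_det_mul]
    have : (Matrix.of fun (i : Fin n) (j : Fin d) => (0 : K)) = 0 := rfl
    have hne : Nonempty (Fin d) := ⟨⟨0, hd⟩⟩
    rw [this, Matrix.mul_zero, Matrix.det_zero]
    simp

lemma backward {K : Type u} [Field K] [Infinite K] {d n : ℕ} (hd : 0 < d)
    (A : Matrix (Fin n) (Fin d) K) (f : MvPolynomial (Fin n × Fin d) K)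
    (hf : ∀ g : Matrix.SpecialLinearGroup (Fin d) K,
      MvPolynomial.eval (fun p : Fin n × Fin d => (A * (g : Matrix (Fin d) (Fin d) K)) p.1 p.2) f = 0)
    (hA : ¬ LinearIndependent K A.transpose) :
    MvPolynomial.eval (fun _ : Fin n × Fin d => (0 : K)) f = 0 := by
  classical
  rw [Fintype.not_linearIndependent_iff] at hA
  obtain ⟨v, hv, i, hvi⟩ := hA
  have hAv : A *ᵥ v = 0 := by
    ext r
    have := congrFun hv r
    simpa [Matrix.mulVec, dotProduct, mul_comm] using this
  let lam : Fin d → K := Pi.single i (v i)⁻¹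
  have hlam : lam ⬝ᵥ v = 1 := by simp [lam, hvi]
  obtain ⟨e, rfl⟩ : ∃ e, d = e + 1 := ⟨d - 1, by omega⟩
  have key : ∀ t : K, t ≠ 0 →
      MvPolynomial.eval (fun p : Fin n × Fin (e + 1) => t * A p.1 p.2) f = 0 := by
    intro t ht
    let c : K := (t⁻¹) ^ e - t
    let M : Matrix (Fin (e + 1)) (Fin (e + 1)) K :=
      t • (1 + replicateCol Unit ((c / t) • v) * replicateRow Unit lam)
    have hdet : M.det = 1 := by
      simp only [M]
      rw [Matrix.det_smul, det_one_add_replicateCol_mul_replicateRow, dotProduct_smul, hlam,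
        Fintype.card_fin]
      simp only [c, smul_eq_mul, mul_one]
      have h2 : 1 + (t⁻¹ ^ e - t) / t = t⁻¹ ^ e / t := by
        rw [sub_div, div_self ht]; ring
      rw [h2, pow_succ, mul_assoc, mul_comm t, div_mul_cancel₀ _ ht, ← mul_pow,
        mul_inv_cancel₀ ht, one_pow]
    have hAM : A * M = t • A := by
      simp only [M]
      rw [Matrix.mul_smul, Matrix.mul_add, Matrix.mul_one, ← Matrix.mul_assoc,
        ← Matrix.replicateCol_mulVec, Matrix.mulVec_smul, hAv, smul_zero, Matrix.replicateCol_zero,
        Matrix.zero_mul, add_zero]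
    have := hf ⟨M, hdet⟩
    simp only [hAM] at this
    exact this
  let p : Polynomial K := MvPolynomial.aeval
    (fun q : Fin n × Fin (e + 1) => Polynomial.C (A q.1 q.2) * Polynomial.X) f
  have hp : ∀ t : K, p.eval t =
      MvPolynomial.eval (fun q : Fin n × Fin (e + 1) => t * A q.1 q.2) f := by
    intro t
    have : (Polynomial.evalRingHom t).comp (MvPolynomial.aeval
        (fun q : Fin n × Fin (e + 1) => Polynomial.C (A q.1 q.2) * Polynomial.X) :
          MvPolynomial (Fin n × Fin (e + 1)) K →ₐ[K] Polynomial K).toRingHom =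
        MvPolynomial.eval (fun q : Fin n × Fin (e + 1) => t * A q.1 q.2) := by
      apply MvPolynomial.ringHom_ext
      · intro r
        change Polynomial.eval t (MvPolynomial.aeval _ (C r)) = MvPolynomial.eval _ (C r)
        rw [MvPolynomial.aeval_C, MvPolynomial.eval_C, ← Polynomial.C_eq_algebraMap,
          Polynomial.eval_C]
      · intro q
        change Polynomial.eval t (MvPolynomial.aeval _ (X q)) = MvPolynomial.eval _ (X q)
        rw [MvPolynomial.aeval_X, MvPolynomial.eval_X, Polynomial.eval_mul, Polynomial.eval_C,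
          Polynomial.eval_X, mul_comm]
    exact RingHom.congr_fun this f
  have hp0 : p = 0 := by
    apply Polynomial.eq_zero_of_infinite_isRoot
    refine Set.Infinite.mono ?_ (Set.finite_singleton (0 : K)).infinite_compl
    intro t ht
    rw [Set.mem_compl_iff, Set.mem_singleton_iff] at ht
    change p.eval t = 0
    rw [hp t, key t ht]
  have h0 := hp 0
  rw [hp0, Polynomial.eval_zero] at h0
  simpa using h0.symm

open W4bk4grassmannian in
/-- Semistable matrices are the matrices of full rank: let K be an algebraically closed field, 0 < d <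
n, and let SL_d(K) act on n × d matrices by right multiplication; a matrix A is semistable when the
zero matrix is not in the Zariski closure of its orbit, i.e. when some polynomial in the entries
vanishes at A g for every g ∈ SL_d(K) but not at 0. Then A is semistable if and only if its columns
are linearly independent. -/
theorem result (K : Type u) [Field K]
    [IsAlgClosed K] (d n : ℕ) (hd : 0 < d) (hdn : d < n) (A : Matrix (Fin n) (Fin d) K) :
    LinearIndependent K A.transpose ↔
      ∃ f : MatRing K d n, (∀ g : Matrix.SpecialLinearGroup (Fin d) K,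
        MvPolynomial.eval (fun p : Fin n × Fin d => (A * (g : Matrix (Fin d) (Fin d) K)) p.1 p.2) f = 0) ∧
        MvPolynomial.eval (fun _ : Fin n × Fin d => (0 : K)) f ≠ 0 := by
  constructor
  · intro hA
    exact forward hd A hA
  · rintro ⟨f, hf, hf0⟩
    by_contra hA
    exact hf0 (backward hd A f hf hA)

end Groth.Agent.S11271
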