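import Groth.Statements.S11275
import Groth.Agent.Lib.Helper16.CellMinor

set_option autoImplicit false
universe u
open W4bk4grassmannian

namespace Groth.Agent.S11275

open W4bk4grassmannian in
/-- Ideal-theoretic form; determinantal ideals as ideals of opposite cells of Schubert varieties: let K
be a commutative ring, d, r ≥ 1, 1 ≤ t ≤ min(d, r), Z the generic r × d matrix over K[z_{ij}] and
[I_d ; Z] the (d + r) × d matrix with the identity block on top. For θ ∈ I(d, d + r) let q_θ be the
d × d minor of [I_d ; Z] on the rows θ (the Plücker coordinate p_θ on the opposite big cell). Then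
the ideal generated by the q_θ with θ_{d-t} ≥ d (0-indexed; these are the θ not below the index φ =
(t-1, …, d-1, d+r+1-t, …, d+r-1) of the Schubert variety whose opposite cell is D_t) equals the
ideal generated by the t × t minors of Z. (The published statement is over an algebraically closed
field and identifies the determinantal variety D_t with the opposite cell of the Schubert variety
X(φ); this row states the equality of ideals behind that identification, over any commutative ring
K.) -/
theorem result (K : Type u) [CommRing K] (d r t : ℕ) (hd : 0 < d)
    (ht : 0 < t) (htd : t ≤ d) (htr : t ≤ r) :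
    Ideal.span {f : CellRing K d r | ∃ θ : Idx d (d + r),
        d ≤ (θ.1 ⟨d - t, Nat.sub_lt hd ht⟩).val ∧ f = cellMinor K d r θ} =
      CAlgX.minorIdeal (genMatrix K r d) t := by
  classical
  apply le_antisymm
  · rw [Ideal.span_le]
    rintro q ⟨θ, hθ, rfl⟩
    exact Groth.Agent.Lib.Helper16.CellMinor.cellMinor_mem K d r t hd ht htd θ hθ
  · unfold CAlgX.minorIdeal
    rw [Ideal.span_le]
    rintro q ⟨⟨f, g⟩, rfl⟩
    simp only
    by_cases hf : Function.Injective f
    · by_cases hg : Function.Injective g
      · obtain ⟨f', π, hf', rfl⟩ := Groth.Agent.Lib.Helper16.CellMinor.exists_sort f hf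
        obtain ⟨θ, ε, hθ, hdet⟩ :=
          Groth.Agent.Lib.Helper16.CellMinor.minor_eq_sign_mul_cellMinor K d r t hd ht htd f' hf' g hg
        have h1 : (genMatrix K r d).submatrix (f' ∘ π) g =
            ((genMatrix K r d).submatrix f' g).submatrix π id := by
          ext a b
          simp
        rw [SetLike.mem_coe, h1, Matrix.det_permute, hdet]
        apply Ideal.mul_mem_left
        apply Ideal.mul_mem_left
        exact Ideal.subset_span ⟨θ, hθ, rfl⟩
      · rw [Function.Injective] at hg
        push Not at hg
        obtain ⟨a, b, hab, hne⟩ := hg
        rw [SetLike.mem_coe, Matrix.det_zero_of_column_eq hne (fun k => by simp [hab])]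
        exact Ideal.zero_mem _
    · rw [Function.Injective] at hf
      push Not at hf
      obtain ⟨a, b, hab, hne⟩ := hf
      rw [SetLike.mem_coe, Matrix.det_zero_of_row_eq hne (by ext k; simp [hab])]
      exact Ideal.zero_mem _

end Groth.Agent.S11275
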