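import Groth.Statements.S11280
import Groth.Agent.Lib.Helper76.DefoDiff

set_option autoImplicit false
universe u
open Deform

namespace Groth.Agent.S11280


open Groth.Agent.Lib.Helper76.DefoDiff

section Aux

variable {A : Type u} [CommRing A] [IsLocalRing A] {B : Type u} [CommRing B] [Algebra A B]

/-- in a flat algebra, the annihilator of (the image of) a nonzero `t` lies in `𝔪 B` -/
theorem mem_map_of_mul_eq_zero [Module.Flat A B] (t : A) (ht0 : t ≠ 0) (x : B)
    (h : algebraMap A B t * x = 0) :
    x ∈ (IsLocalRing.maximalIdeal A).map (algebraMap A B) := by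
  obtain ⟨κ, a, y, hx, ha⟩ := Module.Flat.isTrivialRelation_of_sum_smul_eq_zero (R := A) (M := B)
    (f := fun _ : Fin 1 => t) (x := fun _ : Fin 1 => x) (by
      rw [Fin.sum_univ_one, Algebra.smul_def]
      exact h)
  have h2 := hx 0
  simp only at h2
  rw [h2]
  apply Ideal.sum_mem
  intro j _
  rw [Algebra.smul_def]
  apply Ideal.mul_mem_right
  apply Ideal.mem_map_of_mem
  have h3 := ha j
  rw [Fin.sum_univ_one] at h3
  by_contra hu
  have hunit : IsUnit (a 0 j) := by
    by_contra hnu
    exact hu ((IsLocalRing.mem_maximalIdeal _).2 hnu)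
  exact ht0 (hunit.mul_left_eq_zero.1 h3)

/-- formal smoothness of the residue extension over the residue ring -/
theorem formallySmooth_quotientMap {k : Type u} [Field k] [Algebra k A] [Algebra k B]
    [IsScalarTower k A B]
    (hres : ∀ a : A, ∃ c : k, a - algebraMap k A c ∈ IsLocalRing.maximalIdeal A)
    (hsm : Algebra.FormallySmooth k (B ⧸ (IsLocalRing.maximalIdeal A).map (algebraMap A B))) :
    (Ideal.quotientMap ((IsLocalRing.maximalIdeal A).map (algebraMap A B)) (algebraMap A B)
      Ideal.le_comap_map : A ⧸ IsLocalRing.maximalIdeal A →+*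
        B ⧸ (IsLocalRing.maximalIdeal A).map (algebraMap A B)).FormallySmooth := by
  set g : A ⧸ IsLocalRing.maximalIdeal A →+*
      B ⧸ (IsLocalRing.maximalIdeal A).map (algebraMap A B) :=
    Ideal.quotientMap ((IsLocalRing.maximalIdeal A).map (algebraMap A B)) (algebraMap A B)
      Ideal.le_comap_map with hg
  letI : Algebra (A ⧸ IsLocalRing.maximalIdeal A)
      (B ⧸ (IsLocalRing.maximalIdeal A).map (algebraMap A B)) := g.toAlgebra
  haveI : IsScalarTower k (A ⧸ IsLocalRing.maximalIdeal A)
      (B ⧸ (IsLocalRing.maximalIdeal A).map (algebraMap A B)) := by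
    apply IsScalarTower.of_algebraMap_eq
    intro c
    show Ideal.Quotient.mk _ (algebraMap k B c) = g (Ideal.Quotient.mk _ (algebraMap k A c))
    rw [hg, Ideal.quotientMap_mk, ← IsScalarTower.algebraMap_apply]
  have hsurj : Function.Surjective (Algebra.ofId k (A ⧸ IsLocalRing.maximalIdeal A)) := by
    intro y
    obtain ⟨a, rfl⟩ := Ideal.Quotient.mk_surjective y
    obtain ⟨c, hc⟩ := hres a
    refine ⟨c, ?_⟩
    show Ideal.Quotient.mk _ (algebraMap k A c) = Ideal.Quotient.mk _ a
    rw [eq_comm, Ideal.Quotient.eq]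
    exact hc
  haveI : Algebra.FormallyUnramified k (A ⧸ IsLocalRing.maximalIdeal A) :=
    Algebra.FormallyUnramified.of_surjective (Algebra.ofId k _) hsurj
  exact Algebra.FormallySmooth.of_restrictScalars k (A ⧸ IsLocalRing.maximalIdeal A)
    (B ⧸ (IsLocalRing.maximalIdeal A).map (algebraMap A B))

end Aux


/-- Let k be an algebraically closed field, A a local Artinian k-algebra with residue field k and t an
element of the maximal ideal of A annihilated by the maximal ideal, so that A is a small extension
of A/tA. Let B be a flat A-algebra whose closed fibre B/m_A B is a formally smooth k-algebra (an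
infinitesimal deformation over A of a formally smooth k-algebra). Then every A-algebra automorphism
of B/tB is induced by an A-algebra automorphism of B. (The published statement asks the automorphism
of B/tB to induce the identity on B/m_A B; this row does not. The published statement takes the
closed fibre smooth, that is formally smooth and essentially of finite type; this row asks the
closed fibre to be formally smooth over k in the sense of lifting along all square-zero surjections
of commutative k-algebras, with no finiteness condition.) -/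
theorem result
    {k : Type u} [Field k] [IsAlgClosed k]
    {A : Type u} [CommRing A] [Algebra k A] [IsLocalRing A] [IsArtinianRing A]
    (hres : ∀ a : A, ∃ c : k, a - algebraMap k A c ∈ IsLocalRing.maximalIdeal A)
    (t : A) (ht : t ∈ IsLocalRing.maximalIdeal A)
    (htm : ∀ a ∈ IsLocalRing.maximalIdeal A, a * t = 0)
    {B : Type u} [CommRing B] [Algebra A B] [Module.Flat A B] [Algebra k B] [IsScalarTower k A B]
    (hsm : Algebra.FormallySmooth k (B ⧸ (IsLocalRing.maximalIdeal A).map (algebraMap A B)))
    (σ : (B ⧸ Ideal.span {algebraMap A B t}) ≃ₐ[A] (B ⧸ Ideal.span {algebraMap A B t})) :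
    ∃ τ : B ≃ₐ[A] B, ∀ b : B,
      Ideal.Quotient.mk (Ideal.span {algebraMap A B t}) (τ b) =
        σ (Ideal.Quotient.mk (Ideal.span {algebraMap A B t}) b) := by
  classical
  -- formal smoothness of `B` over `A`
  obtain ⟨N, hN⟩ : ∃ N : ℕ, IsLocalRing.maximalIdeal A ^ (N + 1) = ⊥ := by
    have h1 := IsArtinianRing.isNilpotent_jacobson_bot (R := A)
    rw [IsLocalRing.jacobson_eq_maximalIdeal ⊥ bot_ne_top] at h1
    obtain ⟨n, hn⟩ := h1
    refine ⟨n, ?_⟩
    rw [eq_bot_iff, ← Ideal.zero_eq_bot, ← hn]
    exact Ideal.pow_le_pow_right (Nat.le_succ n)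
  have hflat : (algebraMap A B).Flat := RingHom.flat_algebraMap_iff.mpr inferInstance
  have hfs : (algebraMap A B).FormallySmooth :=
    formallySmooth_of_flat_of_nilpotent N (algebraMap A B) hflat
      (Ideal.Quotient.mk (IsLocalRing.maximalIdeal A))
      (Ideal.Quotient.mk ((IsLocalRing.maximalIdeal A).map (algebraMap A B)))
      (Ideal.quotientMap ((IsLocalRing.maximalIdeal A).map (algebraMap A B)) (algebraMap A B)
        Ideal.le_comap_map)
      Ideal.Quotient.mk_surjective Ideal.Quotient.mk_surjective
      (by ext a; rfl)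
      (by rw [Ideal.mk_ker]; exact hN)
      (by rw [Ideal.mk_ker, Ideal.mk_ker])
      (formallySmooth_quotientMap hres hsm)
  haveI : Algebra.FormallySmooth A B := RingHom.formallySmooth_algebraMap.mp hfs
  -- the lift
  have htt : (algebraMap A B t) * (algebraMap A B t) = 0 := by
    rw [← map_mul, htm t ht, map_zero]
  have hI : IsNilpotent (Ideal.span {(algebraMap A B t)}) := by
    refine ⟨2, ?_⟩
    rw [Ideal.span_singleton_pow, sq, htt, Ideal.zero_eq_bot, Ideal.span_singleton_eq_bot]
  obtain ⟨τ, hτ⟩ := Algebra.FormallySmooth.exists_lift (Ideal.span {(algebraMap A B t)}) hI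
    ((σ : _ →ₐ[A] _).comp (Ideal.Quotient.mkₐ A (Ideal.span {(algebraMap A B t)})))
  have hτ' : ∀ b : B, Ideal.Quotient.mk (Ideal.span {(algebraMap A B t)}) (τ b) =
      σ (Ideal.Quotient.mk (Ideal.span {(algebraMap A B t)}) b) := fun b => AlgHom.congr_fun hτ b
  have hτt : ∀ c : B, τ (c * (algebraMap A B t)) = τ c * (algebraMap A B t) := by
    intro c
    rw [map_mul, τ.commutes]
  -- surjectivity
  have hstep : ∀ b : B, ∃ b' c : B, b = τ b' + c * (algebraMap A B t) := by
    intro b
    obtain ⟨y, hy⟩ := σ.surjective (Ideal.Quotient.mk _ b)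
    obtain ⟨b', rfl⟩ := Ideal.Quotient.mk_surjective y
    rw [← hτ', Ideal.Quotient.eq, Ideal.mem_span_singleton'] at hy
    obtain ⟨c, hc⟩ := hy
    refine ⟨b', -c, ?_⟩
    rw [neg_mul, hc]
    ring
  have hsurj : Function.Surjective τ := by
    intro b
    obtain ⟨b', c, hb⟩ := hstep b
    obtain ⟨c', d, hc⟩ := hstep c
    refine ⟨b' + c' * (algebraMap A B t), ?_⟩
    rw [map_add, hτt, hb, hc, add_mul, mul_assoc, htt, mul_zero, add_zero]
  -- injectivity
  have hmt : ∀ c ∈ (IsLocalRing.maximalIdeal A).map (algebraMap A B), c * (algebraMap A B t) = 0 := by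
    intro c hc
    refine Submodule.span_induction (p := fun c _ => c * (algebraMap A B t) = 0) ?_ ?_ ?_ ?_ hc
    · rintro _ ⟨a, ha, rfl⟩
      rw [← map_mul, htm a ha, map_zero]
    · exact zero_mul _
    · intro x y _ _ hx hy
      rw [add_mul, hx, hy, add_zero]
    · intro a x _ hx
      rw [smul_eq_mul, mul_assoc, hx, mul_zero]
  have htB : (algebraMap A B t) ∈ (IsLocalRing.maximalIdeal A).map (algebraMap A B) :=
    Ideal.mem_map_of_mem _ ht
  have hmapmk : ((IsLocalRing.maximalIdeal A).map (algebraMap A B)).map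
      (Ideal.Quotient.mk (Ideal.span {(algebraMap A B t)})) =
      (IsLocalRing.maximalIdeal A).map (algebraMap A (B ⧸ Ideal.span {(algebraMap A B t)})) := by
    rw [Ideal.map_map]
    rfl
  have hσm : ∀ x, x ∈ (IsLocalRing.maximalIdeal A).map (algebraMap A (B ⧸ Ideal.span {(algebraMap A B t)})) →
      σ.symm x ∈ (IsLocalRing.maximalIdeal A).map (algebraMap A (B ⧸ Ideal.span {(algebraMap A B t)})) := by
    intro x hx
    have h1 := Ideal.mem_map_of_mem (σ.symm : (B ⧸ Ideal.span {(algebraMap A B t)}) →+* (B ⧸ Ideal.span {(algebraMap A B t)})) hx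
    rw [Ideal.map_map] at h1
    have h2 : ((σ.symm : (B ⧸ Ideal.span {(algebraMap A B t)}) →+* (B ⧸ Ideal.span {(algebraMap A B t)}))).comp
        (algebraMap A (B ⧸ Ideal.span {(algebraMap A B t)})) = algebraMap A (B ⧸ Ideal.span {(algebraMap A B t)}) := by
      ext a
      exact σ.symm.commutes a
    rw [h2] at h1
    exact h1
  have hinj : Function.Injective τ := by
    rw [injective_iff_map_eq_zero]
    intro b hb
    have h1 : Ideal.Quotient.mk (Ideal.span {(algebraMap A B t)}) b = 0 := by
      apply σ.injective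
      rw [← hτ', hb, map_zero, map_zero]
    rw [Ideal.Quotient.eq_zero_iff_mem, Ideal.mem_span_singleton'] at h1
    obtain ⟨c, rfl⟩ := h1
    by_cases ht0 : t = 0
    · rw [ht0, map_zero, mul_zero]
    · rw [hτt] at hb
      have h2 : τ c ∈ (IsLocalRing.maximalIdeal A).map (algebraMap A B) :=
        mem_map_of_mul_eq_zero t ht0 (τ c) (by rw [mul_comm]; exact hb)
      have h3 : Ideal.Quotient.mk (Ideal.span {(algebraMap A B t)}) (τ c) ∈
          (IsLocalRing.maximalIdeal A).map (algebraMap A (B ⧸ Ideal.span {(algebraMap A B t)})) := by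
        rw [← hmapmk]
        exact Ideal.mem_map_of_mem _ h2
      rw [hτ'] at h3
      have h4 := hσm _ h3
      rw [AlgEquiv.symm_apply_apply, ← hmapmk] at h4
      obtain ⟨c', hc', hc''⟩ :=
        (Ideal.mem_map_iff_of_surjective _ Ideal.Quotient.mk_surjective).1 h4
      rw [Ideal.Quotient.eq, Ideal.mem_span_singleton'] at hc''
      obtain ⟨d, hd⟩ := hc''
      have h5 : c = c' - d * (algebraMap A B t) := by rw [hd]; ring
      rw [h5, sub_mul, hmt c' hc', mul_assoc, htt, mul_zero, sub_zero]
  exact ⟨AlgEquiv.ofBijective τ ⟨hinj, hsurj⟩, fun b => hτ' b⟩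

end Groth.Agent.S11280
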