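import Groth.Statements.S11281
import Mathlib

set_option autoImplicit false
universe u
open Deform

namespace Groth.Agent.S11281


open IsLocalRing in
/-- (a) ⇒ (b): pull the small extension `B → B/tB` back along `φ`. -/
theorem forward
    {k : Type u} [Field k]
    {Λ : Type u} [CommRing Λ] [Algebra k Λ]
    {R : Type u} [CommRing R] [Algebra Λ R] [IsLocalRing R]
    (hR : ∀ r : R, ∃ c : k, r - algebraMap Λ R (algebraMap k Λ c) ∈ IsLocalRing.maximalIdeal R)
    (hX : ∀ X : Exal.Ext Λ R (IsLocalRing.ResidueField R), X.IsTrivial)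
    (B : Type u) [CommRing B] [Algebra Λ B] [IsLocalRing B]
    (hB : ∀ b : B, ∃ c : k, b - algebraMap Λ B (algebraMap k Λ c) ∈ IsLocalRing.maximalIdeal B)
    (t : B) (ht : t ∈ IsLocalRing.maximalIdeal B)
    (htm : ∀ b ∈ IsLocalRing.maximalIdeal B, b * t = 0)
    (φ : R →ₐ[Λ] B ⧸ Ideal.span {t}) :
    ∃ φ' : R →ₐ[Λ] B, (Ideal.Quotient.mkₐ Λ (Ideal.span {t})).comp φ' = φ := by
  classical
  by_cases ht0 : t = 0
  · have hinj : Function.Injective (Ideal.Quotient.mkₐ Λ (Ideal.span {t})) := by
      rw [injective_iff_map_eq_zero]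
      intro b hb
      rw [Ideal.Quotient.mkₐ_eq_mk, Ideal.Quotient.eq_zero_iff_mem, ht0,
        Ideal.mem_span_singleton'] at hb
      obtain ⟨a, ha⟩ := hb
      rw [← ha, mul_zero]
    let e : B ≃ₐ[Λ] B ⧸ Ideal.span {t} :=
      AlgEquiv.ofBijective (Ideal.Quotient.mkₐ Λ (Ideal.span {t}))
        ⟨hinj, Ideal.Quotient.mkₐ_surjective _ _⟩
    refine ⟨(e.symm : (B ⧸ Ideal.span {t}) →ₐ[Λ] B).comp φ, ?_⟩
    apply AlgHom.ext
    intro r
    exact e.apply_symm_apply (φ r)
  · -- ring maps from `k`
    let ι : k →+* R := (algebraMap Λ R).comp (algebraMap k Λ)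
    let υ : k →+* B := (algebraMap Λ B).comp (algebraMap k Λ)
    let ε : k →+* ResidueField R := (residue R).comp ι
    have hε : Function.Bijective ε := by
      refine ⟨ε.injective, ?_⟩
      intro z
      obtain ⟨r, rfl⟩ := residue_surjective z
      obtain ⟨c, hc⟩ := hR r
      refine ⟨c, ?_⟩
      symm
      rw [← sub_eq_zero]
      have : residue R (r - ι c) = 0 := (residue_eq_zero_iff _).mpr hc
      rw [map_sub] at this
      exact this
    let e : k ≃+* ResidueField R := RingEquiv.ofBijective ε hε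
    have he : ∀ c, e c = residue R (ι c) := fun c => rfl
    let π : B →ₐ[Λ] B ⧸ Ideal.span {t} := Ideal.Quotient.mkₐ Λ (Ideal.span {t})
    have hπι : ∀ c : k, φ (ι c) = π (υ c) := by
      intro c
      show φ (algebraMap Λ R (algebraMap k Λ c)) = π (algebraMap Λ B (algebraMap k Λ c))
      rw [AlgHom.commutes, AlgHom.commutes]
    have hunit : ∀ c : k, c ≠ 0 → IsUnit (υ c) := fun c hc => (IsUnit.mk0 c hc).map υ
    have hunitR : ∀ c : k, c ≠ 0 → IsUnit (ι c) := fun c hc => (IsUnit.mk0 c hc).map ι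
    -- lemma A
    have hA : ∀ y ∈ maximalIdeal B, ¬ IsUnit (π y) := by
      intro y hy hu
      obtain ⟨w, hw⟩ := hu.exists_right_inv
      obtain ⟨z, rfl⟩ := Ideal.Quotient.mkₐ_surjective Λ (Ideal.span {t}) w
      have h1 : π (y * z - 1) = 0 := by rw [map_sub, map_mul, hw, map_one, sub_self]
      have h2 : y * z - 1 ∈ Ideal.span {t} := Ideal.Quotient.eq_zero_iff_mem.mp h1
      have h3 : y * z - 1 ∈ maximalIdeal B :=
        (Ideal.span_singleton_le_iff_mem _).mpr ht h2
      have h4 : (1 : B) ∈ maximalIdeal B := by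
        have := Ideal.sub_mem _ (Ideal.mul_mem_right z _ hy) h3
        rwa [sub_sub_cancel] at this
      exact (Ideal.ne_top_iff_one _).mp (maximalIdeal.isMaximal B).ne_top h4
    -- lemma B
    have hBm : ∀ (r : R) (b : B), φ r = π b → r ∈ maximalIdeal R → b ∈ maximalIdeal B := by
      intro r b hrb hr
      obtain ⟨c', hc'⟩ := hB b
      by_cases hc0 : c' = 0
      · rw [hc0] at hc'
        simpa using hc'
      · exfalso
        apply hA _ hc'
        have h1 : π (b - υ c') = φ (r - ι c') := by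
          rw [map_sub, map_sub, hrb, hπι]
        show IsUnit (π (b - υ c'))
        rw [h1]
        apply IsUnit.map
        by_contra hnu
        have h2 : r - ι c' ∈ maximalIdeal R := hnu
        have h3 : ι c' ∈ maximalIdeal R := by
          have := Ideal.sub_mem _ hr h2
          simpa using this
        exact h3 (hunitR c' hc0)
    have hbt : ∀ (r : R) (b : B), φ r = π b → b * t = υ (e.symm (residue R r)) * t := by
      intro r b hrb
      have h1 : r - ι (e.symm (residue R r)) ∈ maximalIdeal R := by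
        rw [← residue_eq_zero_iff, map_sub, ← he, RingEquiv.apply_symm_apply, sub_self]
      have h2 : φ (r - ι (e.symm (residue R r))) = π (b - υ (e.symm (residue R r))) := by
        rw [map_sub, map_sub, hrb, hπι]
      have h3 := htm _ (hBm _ _ h2 h1)
      rw [sub_mul, sub_eq_zero] at h3
      exact h3
    -- the pulled back extension
    let E : Subalgebra Λ (R × B) :=
      AlgHom.equalizer (φ.comp (AlgHom.fst Λ R B)) (π.comp (AlgHom.snd Λ R B))
    have hE : ∀ x : R × B, x ∈ E ↔ φ x.1 = π x.2 := fun x => Iff.rfl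
    have hmemt : ∀ d : B, π (d * t) = 0 := by
      intro d
      exact Ideal.Quotient.eq_zero_iff_mem.mpr (Ideal.mem_span_singleton'.mpr ⟨d, rfl⟩)
    let incl : ResidueField R →+ E :=
      { toFun := fun z => ⟨(0, υ (e.symm z) * t), by
          rw [hE]
          show φ 0 = π (υ (e.symm z) * t)
          rw [map_zero, hmemt]⟩
        map_zero' := by
          apply Subtype.ext
          show ((0 : R), υ (e.symm 0) * t) = 0
          rw [map_zero, map_zero, zero_mul]
          rfl
        map_add' := fun z z' => by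
          apply Subtype.ext
          show ((0 : R), υ (e.symm (z + z')) * t) =
            ((0 : R), υ (e.symm z) * t) + ((0 : R), υ (e.symm z') * t)
          rw [map_add, map_add, add_mul, Prod.mk_add_mk, add_zero] }
    have hincl : ∀ z, (incl z : R × B) = (0, υ (e.symm z) * t) := fun z => rfl
    let proj : E →ₐ[Λ] R := (AlgHom.fst Λ R B).comp E.val
    have hproj : ∀ x : E, proj x = (x : R × B).1 := fun x => rfl
    have hext : Exal.IsExtension proj incl := by
      refine ⟨?_, ?_, ?_, ?_⟩
      · intro r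
        obtain ⟨b, hb⟩ := Ideal.Quotient.mkₐ_surjective Λ (Ideal.span {t}) (φ r)
        exact ⟨⟨(r, b), (hE _).mpr hb.symm⟩, rfl⟩
      · rw [injective_iff_map_eq_zero]
        intro z hz
        have h1 : υ (e.symm z) * t = 0 := by
          have := congrArg (fun x : E => (x : R × B).2) hz
          exact this
        by_contra hz0
        have h2 : e.symm z ≠ 0 := by
          intro h
          apply hz0
          have := congrArg e h
          rwa [RingEquiv.apply_symm_apply, map_zero] at this
        exact ht0 (((hunit _ h2).mul_right_eq_zero).mp h1)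
      · intro x
        constructor
        · intro hx
          obtain ⟨⟨r, b⟩, hrb⟩ := x
          have hr : r = 0 := hx
          subst hr
          have h1 : π b = 0 := by
            have := (hE _).mp hrb
            rw [← this]
            exact map_zero φ
          have h2 : b ∈ Ideal.span {t} := Ideal.Quotient.eq_zero_iff_mem.mp h1
          obtain ⟨d, rfl⟩ := Ideal.mem_span_singleton'.mp h2
          obtain ⟨c, hc⟩ := hB d
          have h3 := htm _ hc
          rw [sub_mul, sub_eq_zero] at h3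
          refine ⟨e c, ?_⟩
          apply Subtype.ext
          rw [hincl, RingEquiv.symm_apply_apply]
          show ((0 : R), υ c * t) = (0, d * t)
          rw [h3]
          rfl
        · rintro ⟨z, rfl⟩
          rw [hproj, hincl]
      · intro x z
        apply Subtype.ext
        obtain ⟨⟨r, b⟩, hrb⟩ := x
        have h1 : proj ⟨(r, b), hrb⟩ • z = residue R r * z := Algebra.smul_def _ _
        rw [h1, hincl, map_mul, map_mul]
        show ((r, b) : R × B) * ((incl z : E) : R × B) = _
        rw [hincl, Prod.mk_mul_mk, mul_zero, mul_left_comm, hbt r b ((hE _).mp hrb)]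
        congr 1
        ring
    obtain ⟨s, hs⟩ := hX ⟨E, proj, incl, hext⟩
    have hs' : ∀ r : R, proj (s r) = r := hs
    refine ⟨(AlgHom.snd Λ R B).comp (E.val.comp s), ?_⟩
    apply AlgHom.ext
    intro r
    have h1 := (hE _).mp (s r).2
    have h2 : ((s r : E) : R × B).1 = r := hs' r
    rw [h2] at h1
    exact h1.symm



/-- A ring surjecting onto a Noetherian ring, all of whose ideals inside the kernel are finitely
generated, is Noetherian. -/
theorem isNoetherianRing_of_surjective_of_ker {E R : Type*} [CommRing E] [CommRing R]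
    [IsNoetherianRing R] (p : E →+* R) (hp : Function.Surjective p)
    (hK : ∀ I : Ideal E, I ≤ RingHom.ker p → I.FG) : IsNoetherianRing E := by
  classical
  rw [isNoetherianRing_iff_ideal_fg]
  intro I
  obtain ⟨S, hS⟩ := (isNoetherianRing_iff_ideal_fg R).mp inferInstance (I.map p)
  have hmap : ∀ r ∈ I.map p, ∃ x ∈ I, p x = r :=
    fun r hr => (Ideal.mem_map_iff_of_surjective p hp).mp hr
  have hS' : ∀ r ∈ S, r ∈ I.map p := fun r hr => hS ▸ Ideal.subset_span hr
  choose f hfI hfp using fun (r : S) => hmap r.1 (hS' r.1 r.2)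
  let G : Ideal E := Ideal.span (Set.range f)
  have hG : G.FG := ⟨Finset.univ.image f, by simp [G]⟩
  have hGI : G ≤ I := Ideal.span_le.mpr (by rintro _ ⟨r, rfl⟩; exact hfI r)
  have hGmap : G.map p = I.map p := by
    apply le_antisymm (Ideal.map_mono hGI)
    rw [← hS, Ideal.span_le]
    intro r hr
    have : p (f ⟨r, hr⟩) ∈ G.map p := Ideal.mem_map_of_mem p (Ideal.subset_span ⟨_, rfl⟩)
    rwa [hfp] at this
  have hI : I = G ⊔ (I ⊓ RingHom.ker p) := by
    apply le_antisymm
    · intro x hx
      have : p x ∈ G.map p := hGmap ▸ Ideal.mem_map_of_mem p hx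
      obtain ⟨y, hy, hyx⟩ := (Ideal.mem_map_iff_of_surjective p hp).mp this
      have : x = y + (x - y) := by ring
      rw [this]
      refine Submodule.add_mem_sup hy ⟨I.sub_mem hx (hGI hy), ?_⟩
      rw [SetLike.mem_coe, RingHom.mem_ker, map_sub, hyx, sub_self]
    · exact sup_le hGI inf_le_left
  rw [hI]
  exact Submodule.FG.sup hG (hK _ inf_le_right)

open IsLocalRing in
/-- (b) ⇒ (a). -/
theorem backward
    {k : Type u} [Field k]
    {Λ : Type u} [CommRing Λ] [Algebra k Λ]
    {R : Type u} [CommRing R] [Algebra Λ R] [IsLocalRing R] [IsNoetherianRing R]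
    (hR : ∀ r : R, ∃ c : k, r - algebraMap Λ R (algebraMap k Λ c) ∈ IsLocalRing.maximalIdeal R)
    (h : ∀ (B : Type u) [CommRing B] [Algebra Λ B] [IsLocalRing B] [IsArtinianRing B],
      (∀ b : B, ∃ c : k, b - algebraMap Λ B (algebraMap k Λ c) ∈ IsLocalRing.maximalIdeal B) →
      ∀ t : B, t ∈ IsLocalRing.maximalIdeal B → (∀ b ∈ IsLocalRing.maximalIdeal B, b * t = 0) →
      ∀ φ : R →ₐ[Λ] B ⧸ Ideal.span {t},
        ∃ φ' : R →ₐ[Λ] B, (Ideal.Quotient.mkₐ Λ (Ideal.span {t})).comp φ' = φ)
    (X : Exal.Ext Λ R (IsLocalRing.ResidueField R)) : X.IsTrivial := by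
  classical
  have hp := X.isExtension
  -- the kernel has square zero
  have hpi : ∀ z, X.proj (X.incl z) = 0 := fun z => (hp.exact _).mpr ⟨z, rfl⟩
  have hii : ∀ z z', X.incl z * X.incl z' = 0 := by
    intro z z'
    rw [hp.mul_incl, hpi, zero_smul, map_zero]
  have hxi : ∀ (x : X.E) (z : ResidueField R), x * X.incl z = X.incl (residue R (X.proj x) * z) :=
    fun x z => hp.mul_incl x z
  -- units
  have hunit : ∀ x : X.E, IsUnit (X.proj x) → IsUnit x := by
    intro x hx
    obtain ⟨r, hr⟩ := hx.exists_right_inv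
    obtain ⟨y, rfl⟩ := hp.proj_surjective r
    have h1 : X.proj (x * y - 1) = 0 := by rw [map_sub, map_mul, hr, map_one, sub_self]
    obtain ⟨z, hz⟩ := (hp.exact _).mp h1
    have h2 : x * (y * (1 - X.incl z)) = 1 := by
      have h3 : x * y = 1 + X.incl z := by rw [hz]; ring
      calc x * (y * (1 - X.incl z)) = (x * y) * (1 - X.incl z) := by ring
        _ = (1 + X.incl z) * (1 - X.incl z) := by rw [h3]
        _ = 1 - X.incl z * X.incl z := by ring
        _ = 1 := by rw [hii, sub_zero]
    exact IsUnit.of_mul_eq_one _ h2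
  have hloc : IsLocalRing X.E := by
    have : Nontrivial X.E := X.proj.toRingHom.domain_nontrivial
    refine IsLocalRing.of_isUnit_or_isUnit_one_sub_self fun x => ?_
    rcases IsLocalRing.isUnit_or_isUnit_one_sub_self (X.proj x) with h' | h'
    · exact Or.inl (hunit x h')
    · right
      apply hunit
      rwa [map_sub, map_one]
  have hmE : ∀ x : X.E, x ∈ maximalIdeal X.E ↔ X.proj x ∈ maximalIdeal R := by
    intro x
    rw [mem_maximalIdeal, mem_maximalIdeal, mem_nonunits_iff, mem_nonunits_iff, not_iff_not]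
    exact ⟨fun h' => h'.map X.proj, hunit x⟩
  -- the generator of the kernel
  let t : X.E := X.incl 1
  have ht_ne : t ≠ 0 := by
    intro h0
    have : X.incl 1 = X.incl 0 := by rw [map_zero]; exact h0
    exact one_ne_zero (hp.incl_injective this)
  have hlift : ∀ z : ResidueField R, ∃ w : X.E, residue R (X.proj w) = z := by
    intro z
    obtain ⟨r, rfl⟩ := residue_surjective z
    obtain ⟨w, rfl⟩ := hp.proj_surjective r
    exact ⟨w, rfl⟩
  have hincl_t : ∀ z : ResidueField R, ∃ w : X.E, X.incl z = w * t := by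
    intro z
    obtain ⟨w, hw⟩ := hlift z
    refine ⟨w, ?_⟩
    rw [hxi, hw, mul_one]
  have hpt : X.proj t = 0 := hpi 1
  have hmt : ∀ x ∈ maximalIdeal X.E, x * t = 0 := by
    intro x hx
    rw [hxi, (residue_eq_zero_iff _).mpr ((hmE x).mp hx), zero_mul, map_zero]
  -- Noetherian
  have hnoeth : IsNoetherianRing X.E := by
    apply isNoetherianRing_of_surjective_of_ker X.proj.toRingHom hp.proj_surjective
    intro I hI
    by_cases hI0 : I = ⊥
    · rw [hI0]; exact Submodule.fg_bot
    · obtain ⟨x, hxI, hx0⟩ := Submodule.exists_mem_ne_zero_of_ne_bot hI0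
      obtain ⟨z, hz⟩ := (hp.exact x).mp (hI hxI)
      have hz0 : z ≠ 0 := by
        intro h0
        rw [h0, map_zero] at hz
        exact hx0 hz.symm
      have : I = Ideal.span {x} := by
        apply le_antisymm
        · intro y hy
          obtain ⟨z', hz'⟩ := (hp.exact y).mp (hI hy)
          obtain ⟨w, hw⟩ := hlift (z' * z⁻¹)
          rw [Ideal.mem_span_singleton']
          refine ⟨w, ?_⟩
          rw [← hz, ← hz', hxi, hw, inv_mul_cancel_right₀ hz0]
        · exact (Ideal.span_singleton_le_iff_mem _).mpr hxI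
      rw [this]
      exact ⟨{x}, by simp⟩
  -- Krull
  have hkrull : ∃ n, t ∉ maximalIdeal X.E ^ n := by
    by_contra hcon
    push Not at hcon
    have h1 : t ∈ ⨅ n, maximalIdeal X.E ^ n := (Submodule.mem_iInf _).mpr hcon
    rw [Ideal.iInf_pow_eq_bot_of_isLocalRing _ (maximalIdeal.isMaximal _).ne_top] at h1
    exact ht_ne h1
  obtain ⟨n, hn⟩ := hkrull
  have hn0 : n ≠ 0 := by
    rintro rfl
    apply hn
    rw [pow_zero, Ideal.one_eq_top]
    trivial
  -- the Artinian quotient
  let I : Ideal X.E := maximalIdeal X.E ^ n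
  have hIm : I ≤ maximalIdeal X.E := Ideal.pow_le_self hn0
  have hItop : I ≠ ⊤ := fun h' => (maximalIdeal.isMaximal X.E).ne_top (top_le_iff.mp (h' ▸ hIm))
  let mk : X.E →ₐ[Λ] X.E ⧸ I := Ideal.Quotient.mkₐ Λ I
  have hmk_surj : Function.Surjective mk := Ideal.Quotient.mkₐ_surjective Λ I
  have hmk0 : ∀ x, mk x = 0 ↔ x ∈ I := fun x => Ideal.Quotient.eq_zero_iff_mem
  have hBnt : Nontrivial (X.E ⧸ I) := Ideal.Quotient.nontrivial_iff.mpr hItop
  have hBloc : IsLocalRing (X.E ⧸ I) :=
    IsLocalRing.of_surjective' (Ideal.Quotient.mk I) Ideal.Quotient.mk_surjective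
  have hmemB : ∀ x : X.E, mk x ∈ maximalIdeal (X.E ⧸ I) ↔ x ∈ maximalIdeal X.E := by
    intro x
    constructor
    · intro hx
      by_contra hx'
      have hu : IsUnit x := by
        by_contra hnu
        exact hx' hnu
      exact hx (hu.map mk)
    · intro hx hu
      obtain ⟨w', hw'⟩ := hu.exists_right_inv
      obtain ⟨w, rfl⟩ := hmk_surj w'
      have h1 : mk (x * w - 1) = 0 := by rw [map_sub, map_mul, hw', map_one, sub_self]
      have h2 : x * w - 1 ∈ maximalIdeal X.E := hIm ((hmk0 _).mp h1)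
      have h3 : (1 : X.E) ∈ maximalIdeal X.E := by
        have := Ideal.sub_mem _ (Ideal.mul_mem_right w _ hx) h2
        rwa [sub_sub_cancel] at this
      exact (Ideal.ne_top_iff_one _).mp (maximalIdeal.isMaximal X.E).ne_top h3
  have hBart : IsArtinianRing (X.E ⧸ I) := by
    rw [isArtinianRing_iff_isNilpotent_maximalIdeal]
    refine ⟨n, ?_⟩
    have hle : maximalIdeal (X.E ⧸ I) ≤ (maximalIdeal X.E).map (Ideal.Quotient.mk I) := by
      intro b hb
      obtain ⟨x, rfl⟩ := hmk_surj b
      exact Ideal.mem_map_of_mem _ ((hmemB x).mp hb)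
    rw [Ideal.zero_eq_bot, eq_bot_iff]
    refine (Ideal.pow_right_mono hle n).trans ?_
    rw [← Ideal.map_pow, Ideal.map_quotient_self]
  have hBres : ∀ b : X.E ⧸ I, ∃ c : k,
      b - algebraMap Λ (X.E ⧸ I) (algebraMap k Λ c) ∈ maximalIdeal (X.E ⧸ I) := by
    intro b
    obtain ⟨x, rfl⟩ := hmk_surj b
    obtain ⟨c, hc⟩ := hR (X.proj x)
    refine ⟨c, ?_⟩
    have h1 : mk x - algebraMap Λ (X.E ⧸ I) (algebraMap k Λ c) =
        mk (x - algebraMap Λ X.E (algebraMap k Λ c)) := by
      rw [map_sub, AlgHom.commutes]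
    rw [h1, hmemB, hmE, map_sub, AlgHom.commutes]
    exact hc
  let tb : X.E ⧸ I := mk t
  have htb_ne : tb ≠ 0 := fun h0 => hn ((hmk0 t).mp h0)
  have htb_mem : tb ∈ maximalIdeal (X.E ⧸ I) := by
    rw [hmemB, hmE, hpt]
    exact zero_mem _
  have htb_m : ∀ b ∈ maximalIdeal (X.E ⧸ I), b * tb = 0 := by
    intro b hb
    obtain ⟨x, rfl⟩ := hmk_surj b
    show mk x * mk t = 0
    rw [← map_mul, hmt x ((hmemB x).mp hb), map_zero]
  -- the map `R → B/tB`
  let mk2 : (X.E ⧸ I) →ₐ[Λ] (X.E ⧸ I) ⧸ Ideal.span {tb} := Ideal.Quotient.mkₐ Λ (Ideal.span {tb})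
  let ψ : X.E →ₐ[Λ] (X.E ⧸ I) ⧸ Ideal.span {tb} := mk2.comp mk
  have hmk2 : ∀ b, mk2 b = 0 ↔ b ∈ Ideal.span {tb} := fun b => Ideal.Quotient.eq_zero_iff_mem
  have hψker : RingHom.ker X.proj.toRingHom ≤ RingHom.ker ψ.toRingHom := by
    intro x hx
    obtain ⟨z, rfl⟩ := (hp.exact x).mp hx
    obtain ⟨w, hw⟩ := hincl_t z
    rw [RingHom.mem_ker]
    show mk2 (mk (X.incl z)) = 0
    rw [hw, map_mul, hmk2]
    exact Ideal.mem_span_singleton'.mpr ⟨mk w, rfl⟩
  let φ : R →ₐ[Λ] (X.E ⧸ I) ⧸ Ideal.span {tb} :=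
    AlgHom.liftOfSurjective X.proj hp.proj_surjective ψ hψker
  have hφ : ∀ x : X.E, φ (X.proj x) = ψ x :=
    fun x => AlgHom.liftOfSurjective_apply X.proj hp.proj_surjective ψ hψker x
  obtain ⟨φ', hφ'⟩ := h (X.E ⧸ I) hBres tb htb_mem htb_m φ
  have hφ'_apply : ∀ r : R, mk2 (φ' r) = φ r := fun r => congrArg (fun g => g r) hφ'
  -- the equalizer
  let E₀ : Subalgebra Λ X.E := AlgHom.equalizer mk (φ'.comp X.proj)
  have hE₀ : ∀ x : X.E, x ∈ E₀ ↔ mk x = φ' (X.proj x) := fun x => Iff.rfl
  let p₀ : E₀ →ₐ[Λ] R := X.proj.comp E₀.val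
  have hp₀ : Function.Bijective p₀ := by
    constructor
    · rw [injective_iff_map_eq_zero]
      rintro ⟨x, hx⟩ hx0
      have hx0' : X.proj x = 0 := hx0
      obtain ⟨z, rfl⟩ := (hp.exact x).mp hx0'
      have h1 : mk (X.incl z) = 0 := by
        rw [(hE₀ _).mp hx, hx0', map_zero]
      by_contra hne
      have hz0 : z ≠ 0 := by
        intro h0
        apply hne
        apply Subtype.ext
        show X.incl z = 0
        rw [h0, map_zero]
      obtain ⟨w, hw⟩ := hlift z
      have hwu : IsUnit w := by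
        apply hunit
        by_contra hnu
        have : X.proj w ∈ maximalIdeal R := hnu
        rw [← residue_eq_zero_iff, hw] at this
        exact hz0 this
      have h2 : X.incl z = w * t := by rw [hxi, hw, mul_one]
      rw [h2, map_mul] at h1
      exact htb_ne (((hwu.map mk).mul_right_eq_zero).mp h1)
    · intro r
      obtain ⟨x, rfl⟩ := hp.proj_surjective r
      have h1 : mk2 (mk x - φ' (X.proj x)) = 0 := by
        rw [map_sub, hφ'_apply, hφ]
        exact sub_self _
      obtain ⟨d, hd⟩ := Ideal.mem_span_singleton'.mp ((hmk2 _).mp h1)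
      obtain ⟨y, rfl⟩ := hmk_surj d
      have hmem : x - y * t ∈ E₀ := by
        rw [hE₀, map_sub, map_sub, map_mul, map_mul, hpt, mul_zero, sub_zero]
        show mk x - mk y * tb = _
        rw [hd]
        ring
      refine ⟨⟨x - y * t, hmem⟩, ?_⟩
      show X.proj (x - y * t) = X.proj x
      rw [map_sub, map_mul, hpt, mul_zero, sub_zero]
  let e₀ : E₀ ≃ₐ[Λ] R := AlgEquiv.ofBijective p₀ hp₀
  refine ⟨E₀.val.comp (e₀.symm : R →ₐ[Λ] E₀), ?_⟩
  intro r
  show p₀ (e₀.symm r) = r
  exact e₀.apply_symm_apply r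

/-- Let k be an algebraically closed field, Λ a local Noetherian k-algebra with residue field k, and R a
local Noetherian Λ-algebra, with local structure map and residue field k. The following are
equivalent: (a) every Λ-extension of R by its residue field k is trivial, i.e. the relative
obstruction space o(R/Λ) = Ex_Λ(R, k) vanishes; (b) for every local Artinian Λ-algebra B with
residue field k and every t in the maximal ideal of B annihilated by the maximal ideal, every
Λ-algebra map R → B/tB lifts to a Λ-algebra map R → B (formal smoothness of R over Λ tested on small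
extensions of Artinian rings). The test algebras B range over the universe of R. -/
theorem result
    {k : Type u} [Field k] [IsAlgClosed k]
    {Λ : Type u} [CommRing Λ] [Algebra k Λ] [IsLocalRing Λ] [IsNoetherianRing Λ]
    (hΛ : ∀ a : Λ, ∃ c : k, a - algebraMap k Λ c ∈ IsLocalRing.maximalIdeal Λ)
    {R : Type u} [CommRing R] [Algebra Λ R] [IsLocalRing R] [IsNoetherianRing R]
    [IsLocalHom (algebraMap Λ R)]
    (hR : ∀ r : R, ∃ c : k, r - algebraMap Λ R (algebraMap k Λ c) ∈ IsLocalRing.maximalIdeal R) :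
    (∀ X : Exal.Ext Λ R (IsLocalRing.ResidueField R), X.IsTrivial) ↔
    (∀ (B : Type u) [CommRing B] [Algebra Λ B] [IsLocalRing B] [IsArtinianRing B],
      (∀ b : B, ∃ c : k, b - algebraMap Λ B (algebraMap k Λ c) ∈ IsLocalRing.maximalIdeal B) →
      ∀ t : B, t ∈ IsLocalRing.maximalIdeal B → (∀ b ∈ IsLocalRing.maximalIdeal B, b * t = 0) →
      ∀ φ : R →ₐ[Λ] B ⧸ Ideal.span {t},
        ∃ φ' : R →ₐ[Λ] B, (Ideal.Quotient.mkₐ Λ (Ideal.span {t})).comp φ' = φ) := by
  constructor
  · intro hX B _ _ _ _ hB t ht htm φ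
    exact forward hR hX B hB t ht htm φ
  · intro h X
    exact backward hR h X


end Groth.Agent.S11281
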