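import Groth.Statements.S11282
import Groth.Agent.Lib.Helper63.ComplFlat

set_option autoImplicit false
universe u
open Deform

namespace Groth.Agent.S11282

theorem core (R : Type u) [CommRing R] [IsLocalRing R] [IsNoetherianRing R] :
    ∃ n : ℕ, ∀ (E : Type u) [CommRing E] (p : E →+* R), Function.Surjective p →
      (∀ a ∈ RingHom.ker p, ∀ b ∈ (IsLocalRing.maximalIdeal R).comap p, a * b = 0) →
      ∀ x ∈ ((IsLocalRing.maximalIdeal R).comap p) ^ (n + 1), p x = 0 → x = 0 := by
  classical
  set m := IsLocalRing.maximalIdeal R with hm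
  obtain ⟨d, xs, hxs⟩ := Submodule.fg_iff_exists_fin_generating_family.mp
    (IsNoetherian.noetherian m)
  let π : (Fin d → R) →ₗ[R] R := Fintype.linearCombination R xs
  let Z : Submodule R (Fin d → R) := LinearMap.ker π
  obtain ⟨c, hc⟩ := Ideal.exists_pow_inf_eq_pow_smul m Z
  refine ⟨c + 1, ?_⟩
  intro E _ p hp hk x hx hpx
  set mE := m.comap p with hmE
  have hker_le : RingHom.ker p ≤ mE := fun a ha => by
    rw [hmE, Ideal.mem_comap, (RingHom.mem_ker).mp ha]
    exact Ideal.zero_mem _
  choose ys hys using fun i => hp (xs i)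
  have hxs_mem : ∀ i, xs i ∈ m := fun i => by
    rw [← hxs]
    exact Submodule.subset_span (Set.mem_range_self i)
  have hys_mem : ∀ i, ys i ∈ mE := fun i => by
    rw [hmE, Ideal.mem_comap, hys]
    exact hxs_mem i
  let Θ : (Fin d → E) → E := fun a => ∑ i, a i * ys i
  have hΘ_add : ∀ a b, Θ (a + b) = Θ a + Θ b := fun a b => by
    simp only [Θ, Pi.add_apply, add_mul, Finset.sum_add_distrib]
  have hΘ_sub : ∀ a b, Θ (a - b) = Θ a - Θ b := fun a b => by
    simp only [Θ, Pi.sub_apply, sub_mul, Finset.sum_sub_distrib]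
  have hΘ_smul : ∀ (e : E) a, Θ (e • a) = e * Θ a := fun e a => by
    simp only [Θ, Pi.smul_apply, smul_eq_mul, Finset.mul_sum, mul_assoc]
  have hΘ_p : ∀ a, p (Θ a) = π (fun i => p (a i)) := fun a => by
    simp only [Θ, π, map_sum, map_mul, hys, Fintype.linearCombination_apply, smul_eq_mul]
  have hΘ_ker : ∀ a, (∀ i, p (a i) = 0) → Θ a = 0 := fun a ha => by
    refine Finset.sum_eq_zero (fun i _ => ?_)
    exact hk _ ((RingHom.mem_ker).mpr (ha i)) _ (hys_mem i)
  have hΘ_congr : ∀ a b, (∀ i, p (a i) = p (b i)) → Θ a = Θ b := fun a b hab => by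
    rw [← sub_eq_zero, ← hΘ_sub]
    exact hΘ_ker _ (fun i => by rw [Pi.sub_apply, map_sub, hab i, sub_self])
  have hlift : ∀ v : Fin d → R, ∃ a : Fin d → E, ∀ i, p (a i) = v i := fun v => by
    choose a ha using fun i => hp (v i)
    exact ⟨a, ha⟩
  have hmZ : ∀ v ∈ (m • Z : Submodule R (Fin d → R)), ∀ a : Fin d → E,
      (∀ i, p (a i) = v i) → Θ a = 0 := by
    intro v hv
    refine Submodule.smul_induction_on hv ?_ ?_
    · intro μ hμ z hz a ha
      obtain ⟨μ', hμ'⟩ := hp μ
      obtain ⟨z', hz'⟩ := hlift z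
      have h1 : Θ a = Θ (μ' • z') := hΘ_congr _ _ (fun i => by
        simp only [ha i, Pi.smul_apply, smul_eq_mul, map_mul, hμ', hz' i])
      rw [h1, hΘ_smul, mul_comm]
      refine hk _ ?_ _ ?_
      · rw [RingHom.mem_ker, hΘ_p]
        have : (fun i => p (z' i)) = z := funext hz'
        rw [this]
        exact hz
      · rw [hmE, Ideal.mem_comap, hμ']
        exact hμ
    · intro v1 v2 h1 h2 a ha
      obtain ⟨a1, ha1⟩ := hlift v1
      have h3 : Θ a = Θ a1 + Θ (a - a1) := by rw [← hΘ_add]; congr 1; abel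
      rw [h3, h1 a1 ha1, h2 (a - a1) (fun i => by
        rw [Pi.sub_apply, map_sub, ha i, ha1 i, Pi.add_apply, add_sub_cancel_left]), add_zero]
  have hmE_eq : mE = Ideal.span (Set.range ys) ⊔ RingHom.ker p := by
    apply le_antisymm
    · intro e he
      have h1 : p e ∈ Ideal.span (Set.range xs) := by
        change p e ∈ Submodule.span R (Set.range xs)
        rw [hxs]
        exact he
      obtain ⟨r, hr⟩ := (Ideal.mem_span_range_iff_exists_fun).mp h1
      obtain ⟨r', hr'⟩ := hlift r
      have h2 : e - ∑ i, r' i * ys i ∈ RingHom.ker p := by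
        rw [RingHom.mem_ker, map_sub, map_sum, ← hr, sub_eq_zero]
        refine Finset.sum_congr rfl (fun i _ => ?_)
        rw [map_mul, hr' i, hys i]
      have h3 : e = ∑ i, r' i * ys i + (e - ∑ i, r' i * ys i) := by ring
      rw [h3]
      refine Submodule.add_mem_sup ?_ h2
      exact Ideal.sum_mem _ (fun i _ => Ideal.mul_mem_left _ _
        (Ideal.subset_span (Set.mem_range_self i)))
    · exact sup_le (Ideal.span_le.mpr (by rintro _ ⟨i, rfl⟩; exact hys_mem i)) hker_le
  have hx2 : x ∈ mE ^ (c + 1) * Ideal.span (Set.range ys) := by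
    rw [pow_succ (n := c + 1), hmE_eq, Ideal.mul_sup] at hx
    obtain ⟨u, hu, w, hw, huw⟩ := Submodule.mem_sup.mp hx
    have hw0 : w = 0 := by
      have hle : (Ideal.span (Set.range ys) ⊔ RingHom.ker p) ^ (c + 1) * RingHom.ker p ≤ ⊥ := by
        rw [Ideal.mul_le]
        intro b hb a ha
        rw [Ideal.mem_bot, mul_comm]
        refine hk a ha b ?_
        rw [hmE_eq]
        exact Ideal.pow_le_self (by lia) hb
      exact (Ideal.mem_bot).mp (hle hw)
    rw [← huw, hw0, add_zero, hmE_eq]
    exact hu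
  rw [← smul_eq_mul, Ideal.span, Submodule.mem_ideal_smul_span_iff_exists_sum] at hx2
  obtain ⟨a, ha, hax⟩ := hx2
  rw [Finsupp.sum_fintype a (fun i c => c • ys i) (fun i => zero_smul _ _)] at hax
  have hxΘ : x = Θ a := by
    rw [← hax]
    rfl
  rw [hxΘ]
  refine hmZ (fun i => p (a i)) ?_ a (fun i => rfl)
  have hv1 : (fun i => p (a i)) ∈ (m ^ (c + 1) • ⊤ : Submodule R (Fin d → R)) := by
    rw [Groth.Agent.Lib.Helper63.ComplFlat.pi_mem_smul_top]
    intro i
    rw [smul_eq_mul, Ideal.mul_top]
    have := Ideal.mem_map_of_mem p (ha i)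
    rwa [Ideal.map_pow, hmE, Ideal.map_comap_of_surjective p hp] at this
  have hv2 : (fun i => p (a i)) ∈ Z := by
    change π (fun i => p (a i)) = 0
    rw [← hΘ_p, ← hxΘ, hpx]
  have hv3 : (fun i => p (a i)) ∈ (m ^ (c + 1) • ⊤ ⊓ Z : Submodule R (Fin d → R)) := ⟨hv1, hv2⟩
  rw [hc (c + 1) (by lia), Nat.add_sub_cancel_left, pow_one] at hv3
  exact Submodule.smul_mono le_rfl inf_le_right hv3

/-- Let k be an algebraically closed field, Λ a complete local Noetherian k-algebra with residue field
k, and R a local Noetherian Λ-algebra with local structure map, residue field k and maximal ideal m.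
Then for some n the pull-back map o((R/m^(n+1))/Λ) → o(R/Λ) on obstruction spaces is onto: every
Λ-extension 0 → k → E → R → 0 of R by its residue field is the inverse image of a Λ-extension of
R/m^(n+1) by k. Concretely, the middle ring E of every such extension contains an ideal I which
meets the kernel k only in 0 and whose image in R is exactly m^(n+1) (then E/I is an extension of
R/m^(n+1) by k whose inverse image along R → R/m^(n+1) is E). -/
theorem result
    {k : Type u} [Field k] [IsAlgClosed k]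
    {Λ : Type u} [CommRing Λ] [Algebra k Λ] [IsLocalRing Λ] [IsNoetherianRing Λ]
    [IsAdicComplete (IsLocalRing.maximalIdeal Λ) Λ]
    (hΛ : ∀ a : Λ, ∃ c : k, a - algebraMap k Λ c ∈ IsLocalRing.maximalIdeal Λ)
    {R : Type u} [CommRing R] [Algebra Λ R] [IsLocalRing R] [IsNoetherianRing R]
    [IsLocalHom (algebraMap Λ R)]
    (hR : ∀ r : R, ∃ c : k, r - algebraMap Λ R (algebraMap k Λ c) ∈ IsLocalRing.maximalIdeal R) :
    ∃ n : ℕ, ∀ X : Exal.Ext Λ R (IsLocalRing.ResidueField R),
      ∃ I : Ideal X.E, (∀ x ∈ I, X.proj x = 0 → x = 0) ∧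
        Ideal.map X.proj I = IsLocalRing.maximalIdeal R ^ (n + 1) := by
  obtain ⟨n, hn⟩ := core R
  refine ⟨n, fun X => ?_⟩
  have hk : ∀ a ∈ RingHom.ker X.proj.toRingHom,
      ∀ b ∈ (IsLocalRing.maximalIdeal R).comap X.proj.toRingHom, a * b = 0 := by
    intro a ha b hb
    obtain ⟨z, rfl⟩ := (X.isExtension.exact a).mp ha
    rw [mul_comm, X.isExtension.mul_incl]
    have h0 : X.proj b • z = 0 := by
      rw [Algebra.smul_def]
      have : algebraMap R (IsLocalRing.ResidueField R) (X.proj b) = 0 := by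
        rw [IsLocalRing.ResidueField.algebraMap_eq, IsLocalRing.residue_eq_zero_iff]
        exact hb
      rw [this, zero_mul]
    rw [h0, map_zero]
  refine ⟨((IsLocalRing.maximalIdeal R).comap X.proj.toRingHom) ^ (n + 1), ?_, ?_⟩
  · intro x hx hpx
    exact hn X.E X.proj.toRingHom X.isExtension.proj_surjective hk x hx hpx
  · change Ideal.map X.proj.toRingHom _ = _
    rw [Ideal.map_pow, Ideal.map_comap_of_surjective X.proj.toRingHom X.isExtension.proj_surjective]

end Groth.Agent.S11282
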