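import Groth.Statements.S11283
import Groth.Agent.Lib.Helper76.ExalCompl
import Groth.Agent.Lib.Helper76.ComplFacts
import Groth.Agent.S0542

set_option autoImplicit false
universe u
open Deform

namespace Groth.Agent.S11283

/-- Let k be an algebraically closed field, Λ a complete local Noetherian k-algebra with residue field
k, R a local Noetherian Λ-algebra with local structure map and residue field k, and R̂ the
completion of R at its maximal ideal. Let L be a simple R-module (a one-dimensional k-vector space
on which R acts through its residue field) carrying a compatible R̂-module structure. Then inverse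
image of Λ-extensions along R → R̂ induces a bijection o(R̂/Λ) → o(R/Λ) on classes of Λ-extensions
by L: two Λ-extensions of R̂ by L whose inverse images over R are equivalent are equivalent, and
every Λ-extension of R by L is equivalent to the inverse image of one of R̂. -/
theorem result
    {k : Type u} [Field k] [IsAlgClosed k]
    {Λ : Type u} [CommRing Λ] [Algebra k Λ] [IsLocalRing Λ] [IsNoetherianRing Λ]
    [IsAdicComplete (IsLocalRing.maximalIdeal Λ) Λ]
    (hΛ : ∀ a : Λ, ∃ c : k, a - algebraMap k Λ c ∈ IsLocalRing.maximalIdeal Λ)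
    {R : Type u} [CommRing R] [Algebra Λ R] [IsLocalRing R] [IsNoetherianRing R]
    [IsLocalHom (algebraMap Λ R)]
    (hR : ∀ r : R, ∃ c : k, r - algebraMap Λ R (algebraMap k Λ c) ∈ IsLocalRing.maximalIdeal R)
    (L : Type u) [AddCommGroup L] [Module (AdicCompletion (IsLocalRing.maximalIdeal R) R) L] [Module R L]
    [IsScalarTower R (AdicCompletion (IsLocalRing.maximalIdeal R) R) L] [IsSimpleModule R L] :
    (∀ X X' : Exal.Ext Λ (AdicCompletion (IsLocalRing.maximalIdeal R) R) L,
        Nonempty ((X.pullback R).Equiv (X'.pullback R)) → Nonempty (X.Equiv X')) ∧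
    (∀ Y : Exal.Ext Λ R L, ∃ X : Exal.Ext Λ (AdicCompletion (IsLocalRing.maximalIdeal R) R) L,
        Nonempty ((X.pullback R).Equiv Y)) := by
  classical
  have fg : (IsLocalRing.maximalIdeal R).FG := Ideal.fg_of_isNoetherianRing _
  haveI : IsNoetherianRing (AdicCompletion (IsLocalRing.maximalIdeal R) R) :=
    Groth.Agent.S0542.result R (IsLocalRing.maximalIdeal R) fg
  haveI hc : IsAdicComplete ((IsLocalRing.maximalIdeal R).map
      (algebraMap R (AdicCompletion (IsLocalRing.maximalIdeal R) R)))
      (AdicCompletion (IsLocalRing.maximalIdeal R) R) :=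
    AdicCompletion.isAdicComplete_self _ fg
  have hdense := Groth.Agent.Lib.Helper76.ComplFacts.exists_sub_mem (IsLocalRing.maximalIdeal R) fg
  have hcl := Groth.Agent.Lib.Helper76.ComplFacts.mem_pow_of_algebraMap_mem
    (IsLocalRing.maximalIdeal R) fg
  have hann : Module.annihilator R L = IsLocalRing.maximalIdeal R :=
    IsLocalRing.eq_maximalIdeal IsSimpleModule.annihilator_isMaximal
  have hkill : ∀ c ∈ (IsLocalRing.maximalIdeal R).map
      (algebraMap R (AdicCompletion (IsLocalRing.maximalIdeal R) R)), ∀ z : L, c • z = 0 := by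
    have hle : (IsLocalRing.maximalIdeal R).map
        (algebraMap R (AdicCompletion (IsLocalRing.maximalIdeal R) R)) ≤
        Module.annihilator (AdicCompletion (IsLocalRing.maximalIdeal R) R) L := by
      rw [Ideal.map_le_iff_le_comap]
      intro a ha
      rw [Ideal.mem_comap, Module.mem_annihilator]
      intro z
      rw [algebraMap_smul]
      rw [← hann, Module.mem_annihilator] at ha
      exact ha z
    intro c hc z
    exact Module.mem_annihilator.1 (hle hc) z
  have hsimple : ∀ z : L, z ≠ 0 → ∀ z' : L, ∃ b : R, z' = b • z := by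
    intro z hz z'
    obtain ⟨b, hb⟩ := IsSimpleModule.toSpanSingleton_surjective R hz z'
    exact ⟨b, hb.symm⟩
  refine ⟨?_, ?_⟩
  · rintro X X' ⟨θ⟩
    exact Groth.Agent.Lib.Helper76.ExalCompl.equiv_of_pullback_equiv_of_complete
      (IsLocalRing.maximalIdeal R) _ rfl hdense hcl hkill hsimple X X' θ
  · intro Y
    exact Groth.Agent.Lib.Helper76.ExalCompl.exists_ext_of_complete
      (IsLocalRing.maximalIdeal R) _ rfl hdense hcl hkill hsimple Y

end Groth.Agent.S11283
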