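import Groth.Statements.S11284
import Mathlib
import Groth.Agent.Lib.Helper65.GenericSmooth
-- import your own Groth.Agent.* helpers here

set_option autoImplicit false
universe u
open Deform

namespace Groth.Agent.S11284

open TensorProduct KaehlerDifferential IsLocalRing
set_option linter.style.haveILetI false
set_option linter.unusedVariables false

/-- In a projective module over a reduced ring, an element killed generically at every minimal
prime is zero. -/
theorem eq_zero_of_forall_minimalPrimes {B C : Type*} [CommRing B] [IsReduced B] [AddCommGroup C]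
    [Module B C] [Module.Projective B C] (x : C)
    (h : ∀ 𝔭 ∈ minimalPrimes B, ∃ s ∉ 𝔭, s • x = 0) : x = 0 := by
  obtain ⟨j, hj⟩ := Module.projective_def'.mp ‹Module.Projective B C›
  by_contra hx
  have hjx : j x ≠ 0 := fun h0 => hx (by
    have := LinearMap.congr_fun hj x
    rw [LinearMap.comp_apply, h0, map_zero] at this
    exact this.symm)
  obtain ⟨m, hm⟩ := Finsupp.ne_iff.mp hjx
  have hrad : sInf (minimalPrimes B) = ⊥ := by
    rw [minimalPrimes, Ideal.sInf_minimalPrimes]
    exact nilradical_eq_zero B
  have hc : j x m ∉ sInf (minimalPrimes B) := by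
    rw [hrad]
    simpa using hm
  rw [Ideal.mem_sInf] at hc
  push Not at hc
  obtain ⟨𝔭, h𝔭, hc𝔭⟩ := hc
  obtain ⟨s, hs, hsx⟩ := h 𝔭 h𝔭
  have h1 : s * j x m = 0 := by
    have := congrArg (fun f => f m) (congrArg j hsx)
    simpa using this
  have h2 : s * j x m ∈ 𝔭 := h1 ▸ 𝔭.zero_mem
  rcases h𝔭.1.1.mem_or_mem h2 with h3 | h3
  · exact hs h3
  · exact hc𝔭 h3

theorem exists_mul_eq_zero {A E B : Type u} [CommRing A] [CommRing E] [CommRing B] [Algebra A E]
    [Algebra A B] [Algebra E B] [IsScalarTower A E B]
    (hsurj : Function.Surjective (algebraMap E B)) (hsq : (RingHom.ker (algebraMap E B)) ^ 2 = ⊥)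
    (𝔭 : Ideal B) [𝔭.IsPrime] [Algebra.FormallySmooth A (Localization.AtPrime 𝔭)]
    (i : E) (hi : i ∈ RingHom.ker (algebraMap E B))
    (hD : D A E i ∈ RingHom.ker (algebraMap E B) • (⊤ : Submodule E Ω[E⁄A])) :
    ∃ t : E, algebraMap E B t ∉ 𝔭 ∧ t * i = 0 := by
  set 𝔮 : Ideal E := 𝔭.comap (algebraMap E B) with h𝔮
  haveI : 𝔭.LiesOver 𝔮 := ⟨rfl⟩
  letI := Localization.AtPrime.algebraOfLiesOver 𝔮 𝔭
  let T := Localization.AtPrime 𝔮
  let S := Localization.AtPrime 𝔭
  have hsurj' : Function.Surjective (algebraMap T S) :=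
    RingHom.surjective_localRingHom_of_surjective (algebraMap E B) hsurj 𝔭
  have hker : RingHom.ker (algebraMap T S) = (RingHom.ker (algebraMap E B)).map (algebraMap E T) := by
    have hT : Submonoid.map (algebraMap E B) 𝔮.primeCompl = 𝔭.primeCompl :=
      Submonoid.map_comap_eq_of_surjective hsurj 𝔭.primeCompl
    exact IsLocalization.ker_map (S := T) S (algebraMap E B) hT
  have hsq' : RingHom.ker (algebraMap T S) ^ 2 = ⊥ := by
    rw [hker, ← Ideal.map_pow, hsq, Ideal.map_bot]
  have hnil : IsNilpotent (RingHom.ker (IsScalarTower.toAlgHom A T S)) := ⟨2, hsq'⟩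
  let τ : S →ₐ[A] T := Algebra.FormallySmooth.liftOfSurjective (AlgHom.id A S)
    (IsScalarTower.toAlgHom A T S) hsurj' hnil
  have hτ : ∀ s : S, algebraMap T S (τ s) = s := fun s =>
    AlgHom.congr_fun (Algebra.FormallySmooth.comp_liftOfSurjective (AlgHom.id A S)
      (IsScalarTower.toAlgHom A T S) hsurj' hnil) s
  let l : E →ₗ[A] T := (IsScalarTower.toAlgHom A E T).toLinearMap -
    τ.toLinearMap ∘ₗ (IsScalarTower.toAlgHom A E S).toLinearMap
  have hl : ∀ e, l e = algebraMap E T e - τ (algebraMap E S e) := fun e => rfl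
  have hlker : ∀ e, l e ∈ RingHom.ker (algebraMap T S) := by
    intro e
    rw [hl, RingHom.mem_ker, map_sub, hτ, ← IsScalarTower.algebraMap_apply, sub_self]
  have hmul0 : ∀ u v : T, u ∈ RingHom.ker (algebraMap T S) → v ∈ RingHom.ker (algebraMap T S) →
      u * v = 0 := by
    intro u v hu hv
    have : u * v ∈ RingHom.ker (algebraMap T S) ^ 2 := by
      rw [pow_two]; exact Ideal.mul_mem_mul hu hv
    rw [hsq'] at this
    exact this
  let d' : Derivation A E T := Derivation.mk' l (by
    intro a b
    have h0 := hmul0 _ _ (hlker a) (hlker b)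
    rw [hl, hl] at h0
    rw [hl, hl, hl, map_mul, map_mul, map_mul, Algebra.smul_def, Algebra.smul_def]
    linear_combination (-1 : T) * h0)
  let L : Ω[E⁄A] →ₗ[E] T := d'.liftKaehlerDifferential
  have hLD : ∀ e, L (D A E e) = l e := fun e => Derivation.liftKaehlerDifferential_comp_D d' e
  have hLker : ∀ ω, L ω ∈ RingHom.ker (algebraMap T S) := by
    intro ω
    have hω : ω ∈ Submodule.span E (Set.range (D A E)) := by
      rw [KaehlerDifferential.span_range_derivation]; trivial
    induction hω using Submodule.span_induction with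
    | mem w hw =>
      obtain ⟨e, rfl⟩ := hw
      rw [hLD]; exact hlker e
    | zero => simp
    | add w w' _ _ h h' => rw [map_add]; exact Ideal.add_mem _ h h'
    | smul e w _ h =>
      rw [map_smul, Algebra.smul_def]
      exact Ideal.mul_mem_left _ _ h
  have hIker : ∀ a ∈ RingHom.ker (algebraMap E B), algebraMap E T a ∈ RingHom.ker (algebraMap T S) := by
    intro a ha
    rw [hker]
    exact Ideal.mem_map_of_mem _ ha
  have hL0 : ∀ ω ∈ RingHom.ker (algebraMap E B) • (⊤ : Submodule E Ω[E⁄A]), L ω = 0 := by
    intro ω hω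
    refine Submodule.smul_induction_on hω ?_ ?_
    · intro a ha w _
      rw [map_smul, Algebra.smul_def]
      exact hmul0 _ _ (hIker a ha) (hLker w)
    · intro x y hx hy
      rw [map_add, hx, hy, add_zero]
  have h1 : L (D A E i) = algebraMap E T i := by
    rw [hLD, hl]
    have : algebraMap E S i = 0 := by
      rw [IsScalarTower.algebraMap_apply E B S, RingHom.mem_ker.mp hi, map_zero]
    rw [this, map_zero, sub_zero]
  have h2 : algebraMap E T i = 0 := by rw [← h1]; exact hL0 _ hD
  obtain ⟨⟨t, ht⟩, hti⟩ := (IsLocalization.map_eq_zero_iff 𝔮.primeCompl T i).mp h2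
  exact ⟨t, ht, hti⟩


/-- Let k be an algebraically closed field and A → B a map of finitely generated k-algebras with B
reduced and smooth over A at every minimal prime of B (the morphism Spec B → Spec A is smooth on a
dense open subset). Let E → B be a surjection of A-algebras whose kernel I has square zero and is,
as a B-module, finitely generated and projective (an extension of B over A by a locally free
module). Then the conormal map I = I/I^2 → B ⊗_E Ω_{E/A} is injective, so that the relative conormal
sequence 0 → I → B ⊗_E Ω_{E/A} → Ω_{B/A} → 0 of the extension is exact also on the left. This is the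
affine case of the statement for a morphism of finite type of algebraic schemes and a coherent
locally free kernel. -/
theorem result
    {k : Type u} [Field k] [IsAlgClosed k]
    {A B : Type u} [CommRing A] [CommRing B] [Algebra k A] [Algebra k B] [Algebra A B]
    [IsScalarTower k A B] [Algebra.FiniteType k A] [Algebra.FiniteType k B] [IsReduced B]
    (hsm : ∀ p : PrimeSpectrum B, p.asIdeal ∈ minimalPrimes B → Algebra.IsSmoothAt A p.asIdeal)
    (P : Algebra.Extension.{u} A B) (hsq : P.ker ^ 2 = ⊥)
    [Module.Finite B P.Cotangent] [Module.Projective B P.Cotangent] :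
    Function.Injective P.cotangentComplex := by
  rw [injective_iff_map_eq_zero]
  intro x hx
  obtain ⟨i, rfl⟩ := Algebra.Extension.Cotangent.mk_surjective x
  rw [Algebra.Extension.cotangentComplex_mk] at hx
  have hD : D A P.Ring (i : P.Ring) ∈ RingHom.ker (algebraMap P.Ring B) •
      (⊤ : Submodule P.Ring Ω[P.Ring⁄A]) :=
    (Groth.Agent.Lib.Helper65.GenericSmooth.alg_one_tmul_eq_zero_iff P.algebraMap_surjective _).mp hx
  apply eq_zero_of_forall_minimalPrimes (B := B)
  intro 𝔭 h𝔭
  haveI : 𝔭.IsPrime := h𝔭.1.1
  haveI : Algebra.FormallySmooth A (Localization.AtPrime 𝔭) := hsm ⟨𝔭, inferInstance⟩ h𝔭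
  obtain ⟨t, ht, hti⟩ := exists_mul_eq_zero (A := A) P.algebraMap_surjective hsq 𝔭 (i : P.Ring)
    i.2 hD
  refine ⟨algebraMap P.Ring B t, ht, ?_⟩
  rw [algebraMap_smul, ← map_smul]
  have : t • i = 0 := Subtype.ext (by simpa using hti)
  rw [this, map_zero]


end Groth.Agent.S11284
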