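import Groth.Statements.S11285
import Mathlib
-- import your own Groth.Agent.* helpers here

set_option autoImplicit false
universe u
open Deform

namespace Groth.Agent.S11285

open TensorProduct KaehlerDifferential
set_option linter.style.haveILetI false
set_option linter.unusedVariables false

section Construction

variable {A B : Type u} [CommRing A] [CommRing B] [Algebra A B]
  {N : Type u} [AddCommGroup N] [Module B N]

/-- The (central) right action of `B` on a `B`-module. -/
@[reducible] def opModule (B N : Type*) [CommRing B] [AddCommGroup N] [Module B N] : Module Bᵐᵒᵖ N :=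
  Module.compHom N ((RingHom.id B).fromOpposite fun _ _ => mul_comm _ _)

attribute [local instance] opModule

local instance : IsCentralScalar B N := ⟨fun b n => rfl⟩

/-- The fibre product `B ×_{Ω} N` as a subring of the trivial square-zero extension. -/
def fibreRing (q : N →ₗ[B] Ω[B⁄A]) : Subring (TrivSqZeroExt B N) where
  carrier := {x | D A B x.fst = q x.snd}
  mul_mem' := by
    intro x y hx hy
    simp only [Set.mem_ofPred_eq] at hx hy ⊢
    rw [TrivSqZeroExt.fst_mul, TrivSqZeroExt.snd_mul, Derivation.leibniz, map_add, map_smul, hx, hy]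
    congr 1
    change _ = q (y.fst • x.snd)
    rw [map_smul]
  one_mem' := by simp
  add_mem' := by
    intro x y hx hy
    simp only [Set.mem_ofPred_eq] at hx hy ⊢
    rw [TrivSqZeroExt.fst_add, TrivSqZeroExt.snd_add, map_add, map_add, hx, hy]
  zero_mem' := by simp
  neg_mem' := by
    intro x hx
    simp only [Set.mem_ofPred_eq] at hx ⊢
    rw [TrivSqZeroExt.fst_neg, TrivSqZeroExt.snd_neg, map_neg, map_neg, hx]

theorem mem_fibreRing (q : N →ₗ[B] Ω[B⁄A]) (x : TrivSqZeroExt B N) :
    x ∈ fibreRing (A := A) q ↔ D A B x.fst = q x.snd := Iff.rfl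

/-- The structure map `A → B ×_{Ω} N`. -/
def fibreRingAlgA (q : N →ₗ[B] Ω[B⁄A]) : A →+* fibreRing (A := A) q :=
  RingHom.codRestrict ((TrivSqZeroExt.inlHom B N).comp (algebraMap A B)) (fibreRing (A := A) q)
    (fun a => by simp [mem_fibreRing, TrivSqZeroExt.inlHom])

/-- The projection `B ×_{Ω} N → B`. -/
def fibreRingAlgB (q : N →ₗ[B] Ω[B⁄A]) : fibreRing (A := A) q →+* B where
  toFun x := x.1.fst
  map_one' := rfl
  map_mul' _ _ := rfl
  map_zero' := rfl
  map_add' _ _ := rfl

/-- The projection `B ×_{Ω} N → N`. -/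
def fibreRingSnd (q : N →ₗ[B] Ω[B⁄A]) : fibreRing (A := A) q →+ N where
  toFun x := x.1.snd
  map_zero' := rfl
  map_add' _ _ := rfl

theorem exists_extension (q : N →ₗ[B] Ω[B⁄A]) (hq : Function.Surjective q) :
    ∃ (P : Algebra.Extension.{u} A B) (s : P.Ring →+ N),
      (∀ x y, s (x * y) = algebraMap P.Ring B x • s y + algebraMap P.Ring B y • s x) ∧
      (∀ a, s (algebraMap A P.Ring a) = 0) ∧
      (∀ x, q (s x) = D A B (algebraMap P.Ring B x)) ∧
      (∀ x, algebraMap P.Ring B x = 0 → s x = 0 → x = 0) ∧
      (∀ b n, D A B b = q n → ∃ x, algebraMap P.Ring B x = b ∧ s x = n) := by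
  letI : Algebra A (fibreRing (A := A) q) := (fibreRingAlgA q).toAlgebra
  letI : Algebra (fibreRing (A := A) q) B := (fibreRingAlgB q).toAlgebra
  haveI : IsScalarTower A (fibreRing (A := A) q) B := .of_algebraMap_eq' (RingHom.ext fun a => rfl)
  have hsurj : ∀ b : B, ∃ x : fibreRing (A := A) q, algebraMap (fibreRing (A := A) q) B x = b := by
    intro b
    obtain ⟨n, hn⟩ := hq (D A B b)
    exact ⟨⟨(b, n), hn.symm⟩, rfl⟩
  choose σ hσ using hsurj
  refine ⟨{ Ring := fibreRing (A := A) q, σ := σ, algebraMap_σ := hσ }, fibreRingSnd q, ?_, ?_, ?_, ?_, ?_⟩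
  · intro x y
    rfl
  · intro a
    rfl
  · intro x
    exact x.2.symm
  · intro x h1 h2
    exact Subtype.ext (TrivSqZeroExt.ext h1 h2)
  · intro b n h
    exact ⟨⟨(b, n), h⟩, rfl, rfl⟩

end Construction

theorem exists_equivs {A B : Type u} [CommRing A] [CommRing B] [Algebra A B]
    {M N : Type u} [AddCommGroup M] [Module B M] [AddCommGroup N] [Module B N]
    (i : M →ₗ[B] N) (q : N →ₗ[B] Ω[B⁄A]) (hi : Function.Injective i) (hex : Function.Exact i q)
    (P : Algebra.Extension.{u} A B) (s : P.Ring →+ N)
    (hmul : ∀ x y, s (x * y) = algebraMap P.Ring B x • s y + algebraMap P.Ring B y • s x)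
    (halg : ∀ a, s (algebraMap A P.Ring a) = 0)
    (hqs : ∀ x, q (s x) = D A B (algebraMap P.Ring B x))
    (hinj : ∀ x, algebraMap P.Ring B x = 0 → s x = 0 → x = 0)
    (hsurj : ∀ b n, D A B b = q n → ∃ x, algebraMap P.Ring B x = b ∧ s x = n) :
    P.ker ^ 2 = ⊥ ∧
      ∃ (e₁ : P.Cotangent ≃ₗ[B] M) (e₂ : P.CotangentSpace ≃ₗ[B] N),
        (∀ x, e₂ (P.cotangentComplex x) = i (e₁ x)) ∧ (∀ y, q (e₂ y) = P.toKaehler y) := by
  have hsq : P.ker ^ 2 = ⊥ := by
    rw [eq_bot_iff, pow_two, Ideal.mul_le]
    intro x hx y hy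
    rw [RingHom.mem_ker] at hx hy
    refine (Submodule.mem_bot _).mpr (hinj _ ?_ ?_)
    · rw [map_mul, hx, zero_mul]
    · rw [hmul, hx, hy, zero_smul, zero_smul, add_zero]
  refine ⟨hsq, ?_⟩
  -- the map M → ker
  have hg : ∀ m : M, ∃ x : P.Ring, algebraMap P.Ring B x = 0 ∧ s x = i m := by
    intro m
    exact hsurj 0 (i m) (by rw [map_zero, hex.apply_apply_eq_zero])
  choose g hg0 hgs using hg
  have hgadd : ∀ m m', g (m + m') = g m + g m' := by
    intro m m'
    refine sub_eq_zero.mp (hinj _ ?_ ?_)
    · rw [map_sub, map_add, hg0, hg0, hg0, add_zero, sub_zero]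
    · rw [map_sub, map_add, hgs, hgs, hgs, map_add, sub_self]
  have hgsmul : ∀ (r : P.Ring) (m : M), g (algebraMap P.Ring B r • m) = r * g m := by
    intro r m
    refine sub_eq_zero.mp (hinj _ ?_ ?_)
    · rw [map_sub, map_mul, hg0, hg0, mul_zero, sub_zero]
    · rw [map_sub, hmul, hgs, hgs, hg0, zero_smul, add_zero, map_smul, sub_self]
  let e₁inv : M →ₗ[B] P.Cotangent :=
    { toFun := fun m => Algebra.Extension.Cotangent.mk ⟨g m, hg0 m⟩
      map_add' := by
        intro m m'
        rw [← map_add]
        congr 1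
        exact Subtype.ext (hgadd m m')
      map_smul' := by
        intro b m
        obtain ⟨r, rfl⟩ := P.algebraMap_surjective b
        have h1 : (RingHom.id B) (algebraMap P.Ring B r) •
            Algebra.Extension.Cotangent.mk (⟨g m, hg0 m⟩ : P.ker) =
            Algebra.Extension.Cotangent.mk (r • (⟨g m, hg0 m⟩ : P.ker)) := by
          rw [map_smul]; rfl
        rw [h1]
        congr 1
        exact Subtype.ext (hgsmul r m) }
  have he₁inv : ∀ m, e₁inv m = Algebra.Extension.Cotangent.mk ⟨g m, hg0 m⟩ := fun m => rfl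
  have hbij : Function.Bijective e₁inv := by
    constructor
    · rw [injective_iff_map_eq_zero]
      intro m hm
      rw [he₁inv, Algebra.Extension.Cotangent.mk_eq_zero_iff, hsq] at hm
      have h1 : g m = 0 := hm
      have h2 := hgs m
      rw [h1, map_zero] at h2
      exact (injective_iff_map_eq_zero i).mp hi m h2.symm
    · intro c
      obtain ⟨y, rfl⟩ := Algebra.Extension.Cotangent.mk_surjective c
      have hy : algebraMap P.Ring B y.1 = 0 := y.2
      have h1 : q (s y.1) = 0 := by rw [hqs, hy, map_zero]
      obtain ⟨m, hm⟩ := (hex _).mp h1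
      refine ⟨m, ?_⟩
      rw [he₁inv]
      congr 1
      refine Subtype.ext (sub_eq_zero.mp (hinj _ ?_ ?_))
      · rw [map_sub, hg0, hy, sub_zero]
      · rw [map_sub, hgs, hm, sub_self]
  let e₁ : P.Cotangent ≃ₗ[B] M := (LinearEquiv.ofBijective e₁inv hbij).symm
  have he₁ : ∀ m, e₁ (e₁inv m) = m := fun m => (LinearEquiv.ofBijective e₁inv hbij).symm_apply_apply m
  -- the derivation
  letI : Module P.Ring N := Module.compHom N (algebraMap P.Ring B)
  haveI : IsScalarTower P.Ring B N := IsScalarTower.of_algebraMap_smul fun _ _ => rfl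
  letI : Module A N := Module.compHom N (algebraMap A B)
  haveI : IsScalarTower A B N := IsScalarTower.of_algebraMap_smul fun _ _ => rfl
  haveI : IsScalarTower A P.Ring N := IsScalarTower.of_algebraMap_smul fun a n => by
    change algebraMap P.Ring B (algebraMap A P.Ring a) • n = algebraMap A B a • n
    rw [← IsScalarTower.algebraMap_apply]
  let sl : P.Ring →ₗ[A] N :=
    { toFun := s
      map_add' := s.map_add
      map_smul' := fun a x => by
        rw [Algebra.smul_def, hmul, halg, smul_zero, add_zero, ← IsScalarTower.algebraMap_apply]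
        rfl }
  let δ : Derivation A P.Ring N := Derivation.mk' sl (fun x y => hmul x y)
  let φ : P.CotangentSpace →ₗ[B] N := LinearMap.liftBaseChange B δ.liftKaehlerDifferential
  have hφ : ∀ (b : B) (x : P.Ring), φ (b ⊗ₜ D A P.Ring x) = b • s x := by
    intro b x
    simp only [φ, LinearMap.liftBaseChange_tmul, Derivation.liftKaehlerDifferential_comp_D]
    rfl
  have hc1 : ∀ c, φ (P.cotangentComplex c) = i (e₁ c) := by
    intro c
    obtain ⟨m, rfl⟩ := hbij.2 c
    rw [he₁, he₁inv, Algebra.Extension.cotangentComplex_mk, hφ, one_smul, hgs]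
  have hc2 : ∀ y, q (φ y) = P.toKaehler y := by
    have key : ∀ ω : Ω[P.Ring⁄A], ∀ b : B, q (φ (b ⊗ₜ ω)) = P.toKaehler (b ⊗ₜ ω) := by
      intro ω
      have hω : ω ∈ Submodule.span P.Ring (Set.range (D A P.Ring)) := by
        rw [KaehlerDifferential.span_range_derivation]; trivial
      induction hω using Submodule.span_induction with
      | mem x hx =>
        obtain ⟨x, rfl⟩ := hx
        intro b
        rw [hφ, map_smul, hqs]
        simp [Algebra.Extension.toKaehler]
      | zero => intro b; simp
      | add x y _ _ hx hy => intro b; rw [TensorProduct.tmul_add, map_add, map_add, map_add, hx, hy]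
      | smul r x _ hx =>
        intro b
        rw [TensorProduct.tmul_smul, TensorProduct.smul_tmul', hx]
    intro y
    induction y using TensorProduct.induction_on with
    | zero => simp
    | tmul b ω => exact key ω b
    | add x y hx hy => rw [map_add, map_add, map_add, hx, hy]
  have hφbij : Function.Bijective φ := by
    constructor
    · rw [injective_iff_map_eq_zero]
      intro y hy
      have h1 : P.toKaehler y = 0 := by rw [← hc2, hy, map_zero]
      obtain ⟨c, rfl⟩ := (P.exact_cotangentComplex_toKaehler _).mp h1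
      rw [hc1] at hy
      have h2 : e₁ c = 0 := (injective_iff_map_eq_zero i).mp hi _ hy
      rw [e₁.map_eq_zero_iff.mp h2, map_zero]
    · intro n
      obtain ⟨y, hy⟩ := P.toKaehler_surjective (q n)
      have h1 : q (n - φ y) = 0 := by rw [map_sub, hc2, hy, sub_self]
      obtain ⟨m, hm⟩ := (hex _).mp h1
      refine ⟨y + P.cotangentComplex (e₁.symm m), ?_⟩
      rw [map_add, hc1, e₁.apply_symm_apply, hm]
      abel
  refine ⟨e₁, LinearEquiv.ofBijective φ hφbij, ?_, ?_⟩
  · intro x
    exact hc1 x
  · intro y
    exact hc2 y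


/-- Let k be an algebraically closed field and A → B a map of finitely generated k-algebras with B
reduced and smooth over A at every minimal prime of B (the morphism Spec B → Spec A is smooth on a
dense open subset). Let M be a finitely generated projective B-module and 0 → M → N → Ω_{B/A} → 0 an
exact sequence of B-modules (i injective, q surjective, image of i = kernel of q). Then there is an
A-algebra extension E → B with square-zero kernel, together with a B-linear identification of its
kernel with M and a B-linear isomorphism of B ⊗_E Ω_{E/A} with N, carrying the conormal map of the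
extension to i and q to the canonical map B ⊗_E Ω_{E/A} → Ω_{B/A}. Together with the injectivity
statement for such conormal sequences this is the surjectivity half of the identification of Ex_A(B,
M) with Ext^1_B(Ω_{B/A}, M); affine case of the statement for algebraic schemes. The module N ranges
over the universe of B. -/
theorem result
    {k : Type u} [Field k] [IsAlgClosed k]
    {A B : Type u} [CommRing A] [CommRing B] [Algebra k A] [Algebra k B] [Algebra A B]
    [IsScalarTower k A B] [Algebra.FiniteType k A] [Algebra.FiniteType k B] [IsReduced B]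
    (hsm : ∀ p : PrimeSpectrum B, p.asIdeal ∈ minimalPrimes B → Algebra.IsSmoothAt A p.asIdeal)
    (M N : Type u) [AddCommGroup M] [Module B M] [Module.Finite B M] [Module.Projective B M]
    [AddCommGroup N] [Module B N]
    (i : M →ₗ[B] N) (q : N →ₗ[B] Ω[B⁄A]) (hi : Function.Injective i) (hq : Function.Surjective q)
    (hex : Function.Exact i q) :
    ∃ P : Algebra.Extension.{u} A B, P.ker ^ 2 = ⊥ ∧
      ∃ (e₁ : P.Cotangent ≃ₗ[B] M) (e₂ : P.CotangentSpace ≃ₗ[B] N),
        (∀ x, e₂ (P.cotangentComplex x) = i (e₁ x)) ∧ (∀ y, q (e₂ y) = P.toKaehler y) := by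
  obtain ⟨P, s, hmul, halg, hqs, hinj, hsurj⟩ := exists_extension (A := A) q hq
  obtain ⟨hsq, e₁, e₂, h1, h2⟩ := exists_equivs i q hi hex P s hmul halg hqs hinj hsurj
  exact ⟨P, hsq, e₁, e₂, h1, h2⟩


end Groth.Agent.S11285
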