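import Groth.Statements.S11286
import Mathlib
import Groth.Agent.S11284
-- import your own Groth.Agent.* helpers here

set_option autoImplicit false
universe u
open Deform

namespace Groth.Agent.S11286

open TensorProduct KaehlerDifferential
set_option linter.style.haveILetI false
set_option linter.unusedVariables false

/-- For a square-zero extension with injective conormal map, an element of the extension ring is
uniquely determined by its image in `B` and its differential. -/
theorem existsUnique_of_toKaehler {A B : Type u} [CommRing A] [CommRing B] [Algebra A B]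
    (P : Algebra.Extension.{u} A B) (hsq : P.ker ^ 2 = ⊥)
    (hinj : Function.Injective P.cotangentComplex) (b : B) (ω : P.CotangentSpace)
    (h : P.toKaehler ω = D A B b) :
    ∃! x : P.Ring, algebraMap P.Ring B x = b ∧ (1 : B) ⊗ₜ[P.Ring] D A P.Ring x = ω := by
  have hmap : ∀ x : P.Ring, P.toKaehler ((1 : B) ⊗ₜ[P.Ring] D A P.Ring x) =
      D A B (algebraMap P.Ring B x) := by
    intro x
    simp [Algebra.Extension.toKaehler]
  refine existsUnique_of_exists_of_unique ?_ ?_
  · have h0 : P.toKaehler (ω - (1 : B) ⊗ₜ[P.Ring] D A P.Ring (P.σ b)) = 0 := by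
      rw [map_sub, h, hmap, P.algebraMap_σ, sub_self]
    obtain ⟨c, hc⟩ := (P.exact_cotangentComplex_toKaehler _).mp h0
    obtain ⟨y, rfl⟩ := Algebra.Extension.Cotangent.mk_surjective c
    refine ⟨P.σ b + y.1, ?_, ?_⟩
    · rw [map_add, P.algebraMap_σ, (RingHom.mem_ker.mp y.2 : algebraMap P.Ring B y.1 = 0), add_zero]
    · rw [map_add, TensorProduct.tmul_add, ← Algebra.Extension.cotangentComplex_mk, hc]
      abel
  · rintro x₁ x₂ ⟨h1, h1'⟩ ⟨h2, h2'⟩
    have hz : x₁ - x₂ ∈ P.ker := by
      rw [RingHom.mem_ker, map_sub, h1, h2, sub_self]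
    have h3 : P.cotangentComplex (Algebra.Extension.Cotangent.mk ⟨x₁ - x₂, hz⟩) = 0 := by
      rw [Algebra.Extension.cotangentComplex_mk]
      simp only [map_sub, TensorProduct.tmul_sub, h1', h2', sub_self]
    have h4 := (injective_iff_map_eq_zero _).mp hinj _ h3
    rw [Algebra.Extension.Cotangent.mk_eq_zero_iff, hsq] at h4
    exact sub_eq_zero.mp h4

theorem one_tmul_D_mul {A B : Type u} [CommRing A] [CommRing B] [Algebra A B]
    (P : Algebra.Extension.{u} A B) (x y : P.Ring) :
    (1 : B) ⊗ₜ[P.Ring] D A P.Ring (x * y) =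
      algebraMap P.Ring B x • ((1 : B) ⊗ₜ[P.Ring] D A P.Ring y) +
      algebraMap P.Ring B y • ((1 : B) ⊗ₜ[P.Ring] D A P.Ring x) := by
  rw [Derivation.leibniz, TensorProduct.tmul_add, TensorProduct.tmul_smul, TensorProduct.tmul_smul,
    algebraMap_smul, algebraMap_smul]

theorem exists_hom {A B : Type u} [CommRing A] [CommRing B] [Algebra A B]
    (P P' : Algebra.Extension.{u} A B) (hsq' : P'.ker ^ 2 = ⊥)
    (hinj' : Function.Injective P'.cotangentComplex)
    (e₂ : P.CotangentSpace →ₗ[B] P'.CotangentSpace)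
    (h₂ : ∀ y, P'.toKaehler (e₂ y) = P.toKaehler y) :
    ∃ f : P.Hom P', ∀ x : P.Ring, (1 : B) ⊗ₜ[P'.Ring] D A P'.Ring (f.toRingHom x) =
      e₂ ((1 : B) ⊗ₜ[P.Ring] D A P.Ring x) := by
  have key : ∀ x : P.Ring, ∃ x' : P'.Ring, (algebraMap P'.Ring B x' = algebraMap P.Ring B x ∧
      (1 : B) ⊗ₜ[P'.Ring] D A P'.Ring x' = e₂ ((1 : B) ⊗ₜ[P.Ring] D A P.Ring x)) ∧
      ∀ y : P'.Ring, (algebraMap P'.Ring B y = algebraMap P.Ring B x ∧
      (1 : B) ⊗ₜ[P'.Ring] D A P'.Ring y = e₂ ((1 : B) ⊗ₜ[P.Ring] D A P.Ring x)) → y = x' := by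
    intro x
    exact existsUnique_of_toKaehler P' hsq' hinj' _ _ (by rw [h₂]; simp [Algebra.Extension.toKaehler])
  choose φ hφ hφu using key
  let f : P.Ring →+* P'.Ring :=
    { toFun := φ
      map_one' := by
        refine (hφu 1 1 ⟨by simp, by simp⟩).symm
      map_mul' := by
        intro x y
        refine (hφu (x * y) (φ x * φ y) ⟨?_, ?_⟩).symm
        · rw [map_mul, map_mul, (hφ x).1, (hφ y).1]
        · rw [one_tmul_D_mul, one_tmul_D_mul, map_add, map_smul, map_smul, (hφ x).1, (hφ y).1,
            (hφ x).2, (hφ y).2]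
      map_zero' := by
        refine (hφu 0 0 ⟨by simp, by simp⟩).symm
      map_add' := by
        intro x y
        refine (hφu (x + y) (φ x + φ y) ⟨?_, ?_⟩).symm
        · rw [map_add, map_add, (hφ x).1, (hφ y).1]
        · rw [map_add, map_add, TensorProduct.tmul_add, TensorProduct.tmul_add, map_add,
            (hφ x).2, (hφ y).2] }
  refine ⟨⟨f, ?_, ?_⟩, fun x => (hφ x).2⟩
  · intro a
    refine (hφu _ _ ⟨?_, ?_⟩).symm
    · rw [Algebra.algebraMap_self, RingHom.id_apply, ← IsScalarTower.algebraMap_apply,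
        ← IsScalarTower.algebraMap_apply]
    · simp
  · intro x
    exact (hφ x).1


/-- Let k be an algebraically closed field and A → B a map of finitely generated k-algebras with B
reduced and smooth over A at every minimal prime of B (the morphism Spec B → Spec A is smooth on a
dense open subset). Let E → B and E' → B be two A-algebra extensions with square-zero kernels I, I',
where I is a finitely generated projective B-module, and suppose their relative conormal sequences
are isomorphic as extensions of Ω_{B/A}: there are B-linear isomorphisms I ≅ I' and B ⊗_E Ω_{E/A} ≅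
B ⊗_{E'} Ω_{E'/A} commuting with the conormal maps and with the canonical maps to Ω_{B/A}. Then
there is a homomorphism of extensions E → E' (a ring map over A and over B) which is bijective and
induces the given isomorphism I ≅ I'. This is the injectivity half of the identification of Ex_A(B,
M) with Ext^1_B(Ω_{B/A}, M); affine case of the statement for algebraic schemes. -/
theorem result
    {k : Type u} [Field k] [IsAlgClosed k]
    {A B : Type u} [CommRing A] [CommRing B] [Algebra k A] [Algebra k B] [Algebra A B]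
    [IsScalarTower k A B] [Algebra.FiniteType k A] [Algebra.FiniteType k B] [IsReduced B]
    (hsm : ∀ p : PrimeSpectrum B, p.asIdeal ∈ minimalPrimes B → Algebra.IsSmoothAt A p.asIdeal)
    (P P' : Algebra.Extension.{u} A B) (hsq : P.ker ^ 2 = ⊥) (hsq' : P'.ker ^ 2 = ⊥)
    [Module.Finite B P.Cotangent] [Module.Projective B P.Cotangent]
    (e₁ : P.Cotangent ≃ₗ[B] P'.Cotangent) (e₂ : P.CotangentSpace ≃ₗ[B] P'.CotangentSpace)
    (h₁ : ∀ x, e₂ (P.cotangentComplex x) = P'.cotangentComplex (e₁ x))
    (h₂ : ∀ y, P'.toKaehler (e₂ y) = P.toKaehler y) :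
    ∃ f : P.Hom P', Function.Bijective f.toRingHom ∧
      Algebra.Extension.Cotangent.map f = e₁.toLinearMap := by
  have hinj : Function.Injective P.cotangentComplex := Groth.Agent.S11284.result (k := k) hsm P hsq
  haveI : Module.Finite B P'.Cotangent := Module.Finite.equiv e₁
  haveI : Module.Projective B P'.Cotangent := Module.Projective.of_equiv e₁
  have hinj' : Function.Injective P'.cotangentComplex := Groth.Agent.S11284.result (k := k) hsm P' hsq'
  obtain ⟨f, hf⟩ := exists_hom P P' hsq' hinj' e₂.toLinearMap h₂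
  refine ⟨f, ⟨?_, ?_⟩, ?_⟩
  · rw [injective_iff_map_eq_zero]
    intro x hx
    have h1 : algebraMap P.Ring B x = 0 := by
      have := f.algebraMap_toRingHom x
      rw [hx, map_zero] at this
      simpa using this.symm
    have h2 : (1 : B) ⊗ₜ[P.Ring] D A P.Ring x = 0 := by
      have := hf x
      rw [hx, map_zero, TensorProduct.tmul_zero] at this
      exact e₂.map_eq_zero_iff.mp this.symm
    have h3 : P.cotangentComplex (Algebra.Extension.Cotangent.mk ⟨x, h1⟩) = 0 := by
      rw [Algebra.Extension.cotangentComplex_mk]; exact h2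
    have h4 := (injective_iff_map_eq_zero _).mp hinj _ h3
    rw [Algebra.Extension.Cotangent.mk_eq_zero_iff, hsq] at h4
    exact h4
  · intro x'
    obtain ⟨x, ⟨hx1, hx2⟩, -⟩ := existsUnique_of_toKaehler P hsq hinj (algebraMap P'.Ring B x')
      (e₂.symm ((1 : B) ⊗ₜ[P'.Ring] D A P'.Ring x'))
      (by rw [← h₂, e₂.apply_symm_apply]; simp [Algebra.Extension.toKaehler])
    refine ⟨x, ?_⟩
    refine (existsUnique_of_toKaehler P' hsq' hinj' (algebraMap P'.Ring B x')
      ((1 : B) ⊗ₜ[P'.Ring] D A P'.Ring x') (by simp [Algebra.Extension.toKaehler])).unique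
      ⟨?_, ?_⟩ ⟨rfl, rfl⟩
    · rw [f.algebraMap_toRingHom, hx1]; simp
    · rw [hf, hx2]; simp
  · refine LinearMap.ext fun c => ?_
    obtain ⟨y, rfl⟩ := Algebra.Extension.Cotangent.mk_surjective c
    apply hinj'
    rw [LinearEquiv.coe_coe, ← h₁, Algebra.Extension.Cotangent.map_mk,
      Algebra.Extension.cotangentComplex_mk, Algebra.Extension.cotangentComplex_mk]
    exact hf y.1


end Groth.Agent.S11286
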