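import Groth.Statements.S11287
import Groth.Agent.Lib.Helper76.ExalT1
import Groth.Agent.Lib.Helper76.PowEval
import Groth.Agent.Lib.Helper76.ExtComplete
import Groth.Agent.Lib.Helper76.ExalLift

set_option autoImplicit false
universe u
open Deform

namespace Groth.Agent.S11287


open Groth.Agent.Lib.Helper76 Groth.Agent.Lib.Helper76.ExalT1 Groth.Agent.Lib.Helper76.ExtComplete Exal

section Setup

variable {Λ : Type u} [CommRing Λ] [IsLocalRing Λ]
variable {d : ℕ} (J : Ideal (MvPowerSeries (Fin d) Λ))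

theorem bigIdeal_ne_top :
    (bigIdeal (IsLocalRing.maximalIdeal Λ) : Ideal (MvPowerSeries (Fin d) Λ)) ≠ ⊤ := by
  intro h
  have h1 : (1 : MvPowerSeries (Fin d) Λ) ∈ bigIdeal (IsLocalRing.maximalIdeal Λ) := by
    rw [h]; trivial
  have h2 := bigIdeal_le_coeffIdeal_one _ h1
  rw [mem_coeffIdeal] at h2
  have h3 := h2 0
  rw [map_zero, Nat.sub_zero, pow_one, MvPowerSeries.coeff_zero_one] at h3
  exact (IsLocalRing.maximalIdeal.isMaximal Λ).ne_top ((Ideal.eq_top_iff_one _).2 h3)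

theorem bigIdeal_le_maximalIdeal :
    (bigIdeal (IsLocalRing.maximalIdeal Λ) : Ideal (MvPowerSeries (Fin d) Λ)) ≤
      IsLocalRing.maximalIdeal (MvPowerSeries (Fin d) Λ) :=
  IsLocalRing.le_maximalIdeal bigIdeal_ne_top

theorem span_X_le_bigIdeal :
    Ideal.span (Set.range (MvPowerSeries.X : Fin d → MvPowerSeries (Fin d) Λ)) ≤
      bigIdeal (IsLocalRing.maximalIdeal Λ) := le_sup_right

variable (L : Type u) [AddCommGroup L] [Module (MvPowerSeries (Fin d) Λ ⧸ J) L]
  [IsSimpleModule (MvPowerSeries (Fin d) Λ ⧸ J) L]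

/-- the maximal ideal of the power series ring kills a simple module over a quotient -/
theorem mk_smul_eq_zero (p : MvPowerSeries (Fin d) Λ)
    (hp : p ∈ IsLocalRing.maximalIdeal (MvPowerSeries (Fin d) Λ)) (l : L) :
    Ideal.Quotient.mk J p • l = 0 := by
  have h1 : (Module.annihilator (MvPowerSeries (Fin d) Λ ⧸ J) L).IsMaximal :=
    IsSimpleModule.annihilator_isMaximal
  have h2 : ((Module.annihilator (MvPowerSeries (Fin d) Λ ⧸ J) L).comap
      (Ideal.Quotient.mk J)).IsMaximal :=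
    Ideal.comap_isMaximal_of_surjective _ Ideal.Quotient.mk_surjective
  have h3 := IsLocalRing.eq_maximalIdeal h2
  rw [← h3, Ideal.mem_comap, Module.mem_annihilator] at hp
  exact hp l

end Setup



open Groth.Agent.Lib.Helper76 Groth.Agent.Lib.Helper76.ExalT1 Groth.Agent.Lib.Helper76.ExtComplete Exal

section Lift

variable {Λ : Type u} [CommRing Λ] [IsLocalRing Λ] [IsNoetherianRing Λ]
  [IsAdicComplete (IsLocalRing.maximalIdeal Λ) Λ]
variable {d : ℕ} (J : Ideal (MvPowerSeries (Fin d) Λ))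
variable (L : Type u) [AddCommGroup L] [Module (MvPowerSeries (Fin d) Λ ⧸ J) L]
  [IsSimpleModule (MvPowerSeries (Fin d) Λ ⧸ J) L]

theorem exists_lift (hJ : J ≠ ⊤) (X : Exal.Ext Λ (MvPowerSeries (Fin d) Λ ⧸ J) L) :
    ∃ u : MvPowerSeries (Fin d) Λ →ₐ[Λ] X.E, ∀ p, X.proj (u p) = Ideal.Quotient.mk J p := by
  classical
  let 𝔟 : Ideal (MvPowerSeries (Fin d) Λ) := bigIdeal (IsLocalRing.maximalIdeal Λ)
  haveI : IsAdicComplete 𝔟 (MvPowerSeries (Fin d) Λ) := isAdicComplete_bigIdeal _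
  let 𝔪R : Ideal (MvPowerSeries (Fin d) Λ ⧸ J) := 𝔟.map (Ideal.Quotient.mk J)
  let pr : X.E →+* (MvPowerSeries (Fin d) Λ ⧸ J) := X.proj
  have hpr : Function.Surjective pr := X.isExtension.proj_surjective
  let 𝔫 : Ideal X.E := 𝔪R.comap pr
  have hmap : 𝔫.map pr = 𝔪R := Ideal.map_comap_of_surjective pr hpr 𝔪R
  haveI : Nontrivial (MvPowerSeries (Fin d) Λ ⧸ J) := Ideal.Quotient.nontrivial_iff.2 hJ
  haveI : IsLocalRing (MvPowerSeries (Fin d) Λ ⧸ J) :=
    IsLocalRing.of_surjective' (Ideal.Quotient.mk J) Ideal.Quotient.mk_surjective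
  have hkill : ∀ y ∈ 𝔪R, ∀ l : L, y • l = 0 := by
    intro y hy l
    obtain ⟨p, hp, rfl⟩ := (Ideal.mem_map_iff_of_surjective _ Ideal.Quotient.mk_surjective).1 hy
    exact mk_smul_eq_zero J L p (bigIdeal_le_maximalIdeal hp) l
  have hne : 𝔪R ≠ ⊤ := by
    intro h
    haveI := IsSimpleModule.nontrivial (MvPowerSeries (Fin d) Λ ⧸ J) L
    obtain ⟨l, hl⟩ := exists_ne (0 : L)
    apply hl
    have := hkill 1 (h ▸ Submodule.mem_top) l
    rwa [one_smul] at this
  haveI : IsHausdorff (𝔫.map pr) (MvPowerSeries (Fin d) Λ ⧸ J) := by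
    rw [hmap]
    exact IsHausdorff.of_isLocalRing _ _ hne
  haveI : IsPrecomplete (𝔫.map pr) (MvPowerSeries (Fin d) Λ ⧸ J) := by
    rw [hmap]
    exact isPrecomplete_map_of_surjective _ Ideal.Quotient.mk_surjective 𝔟
  have hker : ∀ x ∈ RingHom.ker pr, ∃ z : L, X.incl z = x := by
    intro x hx
    exact (X.isExtension.exact x).1 hx
  have hk : ∀ r ∈ 𝔫, ∀ x ∈ RingHom.ker pr, r * x = 0 := by
    intro r hr x hx
    obtain ⟨z, rfl⟩ := hker x hx
    rw [X.isExtension.mul_incl]
    have : X.proj r • z = 0 := hkill _ hr z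
    rw [this, map_zero]
  have hs : ∀ x ∈ RingHom.ker pr, x ≠ 0 → ∀ y ∈ RingHom.ker pr, ∃ c : X.E, y = c * x := by
    intro x hx hx0 y hy
    obtain ⟨z, rfl⟩ := hker x hx
    obtain ⟨z', rfl⟩ := hker y hy
    have hz : z ≠ 0 := by
      rintro rfl
      exact hx0 (map_zero _)
    obtain ⟨r, hr⟩ := IsSimpleModule.toSpanSingleton_surjective (MvPowerSeries (Fin d) Λ ⧸ J) hz z'
    obtain ⟨c, rfl⟩ := hpr r
    refine ⟨c, ?_⟩
    rw [X.isExtension.mul_incl, ← hr]
    rfl
  haveI : IsAdicComplete 𝔫 X.E := isAdicComplete_of_ker_simple pr hpr 𝔫 hk hs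
  -- lifts of the variables
  have h1 : ∀ i : Fin d, ∃ e : X.E, pr e = Ideal.Quotient.mk J (MvPowerSeries.X i) := fun i => hpr _
  choose e he using h1
  have he' : ∀ i, e i ∈ 𝔫 := by
    intro i
    show pr (e i) ∈ 𝔪R
    rw [he]
    exact Ideal.mem_map_of_mem _ (span_X_le_bigIdeal (Ideal.subset_span ⟨i, rfl⟩))
  obtain ⟨f, hf⟩ := exists_mvPowerSeries_eval' (Q := Λ) e 𝔫 he'
  have hfC : ∀ a : Λ, f (MvPowerSeries.C a) = algebraMap Λ X.E a := by
    intro a
    have := hf (MvPolynomial.C a)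
    rw [MvPolynomial.coe_C, MvPolynomial.aeval_C] at this
    exact this
  have hfX : ∀ i, f (MvPowerSeries.X i) = e i := by
    intro i
    have := hf (MvPolynomial.X i)
    rw [MvPolynomial.coe_X, MvPolynomial.aeval_X] at this
    exact this
  let u : MvPowerSeries (Fin d) Λ →ₐ[Λ] X.E :=
    { f with
      commutes' := fun a => hfC a }
  refine ⟨u, ?_⟩
  haveI : IsHausdorff 𝔪R (MvPowerSeries (Fin d) Λ ⧸ J) := IsHausdorff.of_isLocalRing _ _ hne
  have key : pr.comp f = Ideal.Quotient.mk J := by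
    apply mvPowerSeries_ringHom_ext 𝔪R
    · intro a
      rw [RingHom.comp_apply, hfC]
      exact X.proj.commutes a
    · intro i
      rw [RingHom.comp_apply, hfX, he]
    · intro i
      rw [RingHom.comp_apply, hfX, he]
      exact Ideal.mem_map_of_mem _ (span_X_le_bigIdeal (Ideal.subset_span ⟨i, rfl⟩))
  intro p
  exact RingHom.congr_fun key p

end Lift



open Groth.Agent.Lib.Helper76 Groth.Agent.Lib.Helper76.ExalT1 Groth.Agent.Lib.Helper76.ExtComplete Exal

section Classes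

attribute [local instance] Exal.opModule Exal.isCentralScalar_opModule

variable {Λ : Type u} [CommRing Λ] [IsLocalRing Λ]
variable {d : ℕ} (J : Ideal (MvPowerSeries (Fin d) Λ))

/-- the power series ring as an extension of its quotient -/
noncomputable def PP : Algebra.Extension.{u} Λ (MvPowerSeries (Fin d) Λ ⧸ J) where
  Ring := MvPowerSeries (Fin d) Λ
  σ := fun x => Quotient.out x
  algebraMap_σ := fun x => Ideal.Quotient.mk_out x

omit [IsLocalRing Λ] in
theorem mem_ker_iff (x : MvPowerSeries (Fin d) Λ) : x ∈ (PP J).ker ↔ x ∈ J := by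
  show x ∈ RingHom.ker (algebraMap (MvPowerSeries (Fin d) Λ) (MvPowerSeries (Fin d) Λ ⧸ J)) ↔ _
  rw [RingHom.mem_ker, Ideal.Quotient.algebraMap_eq, Ideal.Quotient.eq_zero_iff_mem]

variable (L : Type u) [AddCommGroup L] [Module (MvPowerSeries (Fin d) Λ ⧸ J) L]
  [IsSimpleModule (MvPowerSeries (Fin d) Λ ⧸ J) L]

/-- the ideal of the variables, in the ring of the extension -/
noncomputable def IX : Ideal (PP J).Ring :=
  (Ideal.span (Set.range (MvPowerSeries.X : Fin d → MvPowerSeries (Fin d) Λ)) :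
    Ideal (MvPowerSeries (Fin d) Λ))

theorem IX_smul (a : (PP J).Ring) (ha : a ∈ IX J) (m : MR (PP J) L) : a • m = 0 := by
  rw [smul_MR]
  exact mk_smul_eq_zero J L a (bigIdeal_le_maximalIdeal (span_X_le_bigIdeal ha)) m

omit [IsLocalRing Λ] in
variable {J} in
theorem ker_le_IX_sq
    (hJ : J ≤ Ideal.span (Set.range (MvPowerSeries.X : Fin d → MvPowerSeries (Fin d) Λ)) ^ 2) :
    (PP J).ker ≤ IX J ^ 2 := by
  intro x hx
  exact hJ ((mem_ker_iff J x).1 hx)

end Classes


attribute [local instance] Exal.opModule Exal.isCentralScalar_opModule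

/-- Let k be an algebraically closed field, Λ a complete local Noetherian k-algebra with residue field
k, P = Λ[[X_1, …, X_d]] the power series ring, J an ideal of P contained in (X_1, …, X_d)^2, R =
P/J, and L a simple R-module (a copy of the residue field k). Then: (a) for every Λ-extension 0 → L
→ E → R → 0 the quotient map P → R lifts to a Λ-algebra map u : P → E; (b) for two such extensions
E, E' with lifts u, u', the extensions are equivalent if and only if u and u' send every element of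
J to the images of the same element of L (the restrictions J → L of the lifts agree); (c) every
P-linear map J → L is the restriction of a lift for some extension. Thus the classes of Λ-extensions
of R by L correspond bijectively to Hom_P(J, L), the dual of J/m_P J; this is the identification of
the obstruction space o(R/Λ) for a complete R (the general case reduces to it by passing to the
completion). -/
theorem result
    {k : Type u} [Field k] [IsAlgClosed k]
    {Λ : Type u} [CommRing Λ] [Algebra k Λ] [IsLocalRing Λ] [IsNoetherianRing Λ]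
    [IsAdicComplete (IsLocalRing.maximalIdeal Λ) Λ]
    (hΛ : ∀ a : Λ, ∃ c : k, a - algebraMap k Λ c ∈ IsLocalRing.maximalIdeal Λ)
    (d : ℕ) (J : Ideal (MvPowerSeries (Fin d) Λ))
    (hJ : J ≤ Ideal.span (Set.range (MvPowerSeries.X : Fin d → MvPowerSeries (Fin d) Λ)) ^ 2)
    (L : Type u) [AddCommGroup L] [Module (MvPowerSeries (Fin d) Λ ⧸ J) L] [Module (MvPowerSeries (Fin d) Λ) L]
    [IsScalarTower (MvPowerSeries (Fin d) Λ) (MvPowerSeries (Fin d) Λ ⧸ J) L] [IsSimpleModule (MvPowerSeries (Fin d) Λ ⧸ J) L] :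
    (∀ X : Exal.Ext Λ (MvPowerSeries (Fin d) Λ ⧸ J) L,
        ∃ u : MvPowerSeries (Fin d) Λ →ₐ[Λ] X.E, ∀ p, X.proj (u p) = Ideal.Quotient.mk J p) ∧
    (∀ (X X' : Exal.Ext Λ (MvPowerSeries (Fin d) Λ ⧸ J) L) (u : MvPowerSeries (Fin d) Λ →ₐ[Λ] X.E) (u' : MvPowerSeries (Fin d) Λ →ₐ[Λ] X'.E),
        (∀ p, X.proj (u p) = Ideal.Quotient.mk J p) → (∀ p, X'.proj (u' p) = Ideal.Quotient.mk J p) →
        (Nonempty (X.Equiv X') ↔ ∀ j ∈ J, ∃ z : L, X.incl z = u j ∧ X'.incl z = u' j)) ∧
    (∀ δ : J →ₗ[MvPowerSeries (Fin d) Λ] L, ∃ (X : Exal.Ext Λ (MvPowerSeries (Fin d) Λ ⧸ J) L) (u : MvPowerSeries (Fin d) Λ →ₐ[Λ] X.E),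
        (∀ p, X.proj (u p) = Ideal.Quotient.mk J p) ∧ ∀ j : J, X.incl (δ j) = u j) := by
  have hJtop : J ≠ ⊤ := by
    intro h
    have h1 : (1 : MvPowerSeries (Fin d) Λ) ∈ J := h ▸ Submodule.mem_top
    have h2 := hJ h1
    have h3 : Ideal.span (Set.range (MvPowerSeries.X : Fin d → MvPowerSeries (Fin d) Λ)) ^ 2 ≤
        bigIdeal (IsLocalRing.maximalIdeal Λ) :=
      (Ideal.pow_le_self two_ne_zero).trans span_X_le_bigIdeal
    exact bigIdeal_ne_top ((Ideal.eq_top_iff_one _).2 (h3 h2))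
  refine ⟨fun X => exists_lift J L hJtop X, ?_, ?_⟩
  · intro X X' u u' hu hu'
    have key := equiv_iff_of_sq (PP J) (IX J) (IX_smul J L) (ker_le_IX_sq hJ) X X' u u' hu hu'
    rw [key]
    constructor
    · intro h j hj
      exact h j ((mem_ker_iff J j).2 hj)
    · intro h j hj
      exact h j ((mem_ker_iff J j).1 hj)
  · intro δ
    let φ₀ : (PP J).ker →ₗ[(PP J).Ring] MR (PP J) L :=
      { toFun := fun x => toMR (PP J) L (δ ⟨x.1, (mem_ker_iff J x.1).1 x.2⟩)
        map_add' := fun x y => by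
          rw [← map_add, ← map_add]
          rfl
        map_smul' := fun r x => by
          let r' : MvPowerSeries (Fin d) Λ := r
          have h1 : δ ⟨(r • x).1, (mem_ker_iff J (r • x).1).1 (r • x).2⟩ =
              r' • δ ⟨x.1, (mem_ker_iff J x.1).1 x.2⟩ := by
            rw [← map_smul]
            rfl
          have h2 : r' • δ ⟨x.1, (mem_ker_iff J x.1).1 x.2⟩ =
              (Ideal.Quotient.mk J r') • δ ⟨x.1, (mem_ker_iff J x.1).1 x.2⟩ :=
            (IsScalarTower.algebraMap_smul (MvPowerSeries (Fin d) Λ ⧸ J) r' _).symm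
          rw [RingHom.id_apply, smul_MR, h1, h2]
          rfl }
    obtain ⟨X, g, hg, hg'⟩ := exists_ext_of_linear (PP J) φ₀
    refine ⟨X, g, hg, ?_⟩
    intro j
    exact hg' ⟨j.1, (mem_ker_iff J j.1).2 j.2⟩

end Groth.Agent.S11287
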