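import Groth.Statements.S11288
import Mathlib
-- import your own Groth.Agent.* helpers here

set_option autoImplicit false
universe u
open Deform

namespace Groth.Agent.S11288

/-- Let K be a field, R' a local Artinian K-algebra with residue field K, and t a nonzero element of the
maximal ideal m' of R' with m' t = 0, so that R' → R = R'/(t) is a small extension of R. Then the
extension is trivial, i.e. the projection admits a section which is a K-algebra map, if and only if
t is not in m'^2; equivalently, iff the surjection m'/m'^2 → m_R/m_R^2 induced on cotangent spaces,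
whose kernel is spanned by the class of t, is not bijective. For instance K[t]/(t^(n+1)) →
K[t]/(t^n) is a non-trivial small extension for n ≥ 2. (The published example allows any local
K-algebra with residue field K; the row takes R' Artinian, the case in which the subalgebra
generated by lifts of a basis of the cotangent space maps onto R.) -/
theorem result
    {K : Type u} [Field K]
    {R' : Type u} [CommRing R'] [Algebra K R'] [IsLocalRing R'] [IsArtinianRing R']
    (hres : ∀ a : R', ∃ c : K, a - algebraMap K R' c ∈ IsLocalRing.maximalIdeal R')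
    (t : R') (ht : t ∈ IsLocalRing.maximalIdeal R') (ht0 : t ≠ 0)
    (htm : ∀ a ∈ IsLocalRing.maximalIdeal R', a * t = 0) :
    (∃ s : (R' ⧸ Ideal.span {t}) →ₐ[K] R', ∀ x, Ideal.Quotient.mk (Ideal.span {t}) (s x) = x) ↔
      t ∉ IsLocalRing.maximalIdeal R' ^ 2 := by
  classical
  set m := IsLocalRing.maximalIdeal R' with hm
  have htt : t * t = 0 := htm t ht
  have hKunit : ∀ c : K, algebraMap K R' c ∈ m → c = 0 := by
    intro c hc
    by_contra hc0
    have : IsUnit (algebraMap K R' c) := (IsUnit.mk0 c hc0).map (algebraMap K R')
    exact (IsLocalRing.mem_maximalIdeal _).mp hc this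
  have hspan : ∀ x : R', x ∈ Ideal.span {t} → ∃ c : K, x = algebraMap K R' c * t := by
    intro x hx
    obtain ⟨r, rfl⟩ := Ideal.mem_span_singleton'.mp hx
    obtain ⟨c, hc⟩ := hres r
    refine ⟨c, ?_⟩
    have := htm _ hc
    rw [sub_mul, sub_eq_zero] at this
    exact this
  constructor
  · rintro ⟨s, hs⟩ htsq
    apply ht0
    let ψ : R' →+ R' :=
      (AddMonoidHom.id R') - (s.toRingHom.toAddMonoidHom.comp
        (Ideal.Quotient.mk (Ideal.span {t})).toAddMonoidHom)
    have hψ : ∀ x, ψ x = x - s (Ideal.Quotient.mk (Ideal.span {t}) x) := fun x => rfl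
    have hψt : ∀ x, ∃ c : K, ψ x = algebraMap K R' c * t := by
      intro x
      apply hspan
      rw [hψ, ← Ideal.Quotient.eq, hs]
    have hψmul : ∀ a ∈ m, ∀ b ∈ m, ψ (a * b) = 0 := by
      intro a ha b hb
      obtain ⟨ca, hca⟩ := hψt a
      obtain ⟨cb, hcb⟩ := hψt b
      rw [hψ] at hca hcb
      have ha' : a = s (Ideal.Quotient.mk (Ideal.span {t}) a) + algebraMap K R' ca * t := by
        rw [← hca]; ring
      have hb' : b = s (Ideal.Quotient.mk (Ideal.span {t}) b) + algebraMap K R' cb * t := by
        rw [← hcb]; ring
      have hsa : s (Ideal.Quotient.mk (Ideal.span {t}) a) ∈ m := by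
        have : s (Ideal.Quotient.mk (Ideal.span {t}) a) = a - algebraMap K R' ca * t := by
          rw [← hca]; ring
        rw [this]
        exact m.sub_mem ha (m.mul_mem_left _ ht)
      have hsb : s (Ideal.Quotient.mk (Ideal.span {t}) b) ∈ m := by
        have : s (Ideal.Quotient.mk (Ideal.span {t}) b) = b - algebraMap K R' cb * t := by
          rw [← hcb]; ring
        rw [this]
        exact m.sub_mem hb (m.mul_mem_left _ ht)
      rw [hψ, map_mul, map_mul, sub_eq_zero]
      conv_lhs => rw [ha', hb']
      have e1 := htm _ hsa
      have e2 := htm _ hsb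
      linear_combination (algebraMap K R' cb) * e1 + (algebraMap K R' ca) * e2 +
        (algebraMap K R' ca) * (algebraMap K R' cb) * htt
    have hψsq : ∀ x ∈ m ^ 2, ψ x = 0 := by
      intro x hx
      rw [pow_two] at hx
      refine Submodule.mul_induction_on hx ?_ ?_
      · intro a ha b hb
        exact hψmul a ha b hb
      · intro x y hx hy
        rw [map_add, hx, hy, add_zero]
    have h1 := hψsq t htsq
    rw [hψ] at h1
    have h2 : Ideal.Quotient.mk (Ideal.span {t}) t = 0 :=
      Ideal.Quotient.eq_zero_iff_mem.mpr (Ideal.mem_span_singleton_self t)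
    rw [h2, map_zero, sub_zero] at h1
    exact h1
  · intro htsq
    let U : Submodule K R' := (K ∙ (1 : R')) ⊔ (m ^ 2).restrictScalars K
    let L : Submodule K R' := K ∙ t
    have hUL : Disjoint U L := by
      rw [Submodule.disjoint_def]
      intro x hxU hxL
      obtain ⟨c, rfl⟩ := Submodule.mem_span_singleton.mp hxL
      obtain ⟨y, hy, z, hz, hyz⟩ := Submodule.mem_sup.mp hxU
      obtain ⟨e, rfl⟩ := Submodule.mem_span_singleton.mp hy
      have hz' : z ∈ m ^ 2 := hz
      have hzm : z ∈ m := Ideal.pow_le_self two_ne_zero hz'
      have he : e = 0 := by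
        apply hKunit
        have : algebraMap K R' e = c • t - z := by
          rw [← hyz, Algebra.algebraMap_eq_smul_one]; ring
        rw [this]
        exact m.sub_mem (by rw [Algebra.smul_def]; exact m.mul_mem_left _ ht) hzm
      rw [he, zero_smul, zero_add] at hyz
      by_contra hne
      have hc0 : c ≠ 0 := by
        rintro rfl
        exact hne (zero_smul _ _)
      apply htsq
      have : t = c⁻¹ • z := by
        rw [hyz, smul_smul, inv_mul_cancel₀ hc0, one_smul]
      rw [this, Algebra.smul_def]
      exact (m ^ 2).mul_mem_left _ hz'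
    obtain ⟨S, hUS, hSL⟩ := hUL.exists_isCompl
    have h1S : ∀ c : K, algebraMap K R' c ∈ S := by
      intro c
      apply hUS
      apply Submodule.mem_sup_left
      rw [Algebra.algebraMap_eq_smul_one]
      exact Submodule.smul_mem _ _ (Submodule.mem_span_singleton_self _)
    have hsqS : ∀ x ∈ m, ∀ y ∈ m, x * y ∈ S := by
      intro x hx y hy
      apply hUS
      apply Submodule.mem_sup_right
      change x * y ∈ m ^ 2
      rw [pow_two]
      exact Ideal.mul_mem_mul hx hy
    let Sa : Subalgebra K R' :=
      { carrier := S
        add_mem' := fun hx hy => S.add_mem hx hy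
        mul_mem' := by
          intro x y hx hy
          obtain ⟨cx, hcx⟩ := hres x
          obtain ⟨cy, hcy⟩ := hres y
          have hvx : x - algebraMap K R' cx ∈ S := S.sub_mem hx (h1S cx)
          have hvy : y - algebraMap K R' cy ∈ S := S.sub_mem hy (h1S cy)
          have e : x * y = (x - algebraMap K R' cx) * (y - algebraMap K R' cy) +
              cx • (y - algebraMap K R' cy) + cy • (x - algebraMap K R' cx) +
              algebraMap K R' (cx * cy) := by
            rw [Algebra.smul_def, Algebra.smul_def, map_mul]; ring
          change x * y ∈ S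
          rw [e]
          exact S.add_mem (S.add_mem (S.add_mem (hsqS _ hcx _ hcy) (S.smul_mem _ hvy))
            (S.smul_mem _ hvx)) (h1S _)
        algebraMap_mem' := h1S }
    let π : Sa →ₐ[K] R' ⧸ Ideal.span {t} := (Ideal.Quotient.mkₐ K (Ideal.span {t})).comp Sa.val
    have hπ : Function.Bijective π := by
      constructor
      · rw [injective_iff_map_eq_zero]
        rintro ⟨x, hx⟩ hx0
        have hx1 : x ∈ Ideal.span {t} := Ideal.Quotient.eq_zero_iff_mem.mp hx0
        obtain ⟨c, hc⟩ := hspan x hx1
        have hxL : x ∈ L := by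
          rw [hc, ← Algebra.smul_def]
          exact Submodule.smul_mem _ _ (Submodule.mem_span_singleton_self _)
        have : x = 0 := (Submodule.disjoint_def.mp hSL.disjoint) x hx hxL
        exact Subtype.ext this
      · intro y
        obtain ⟨r, rfl⟩ := Ideal.Quotient.mk_surjective y
        have hr : r ∈ S ⊔ L := by rw [hSL.sup_eq_top]; trivial
        obtain ⟨a, ha, b, hb, rfl⟩ := Submodule.mem_sup.mp hr
        refine ⟨⟨a, ha⟩, ?_⟩
        change Ideal.Quotient.mk (Ideal.span {t}) a = Ideal.Quotient.mk (Ideal.span {t}) (a + b)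
        rw [map_add, left_eq_add, Ideal.Quotient.eq_zero_iff_mem]
        obtain ⟨c, rfl⟩ := Submodule.mem_span_singleton.mp hb
        rw [Algebra.smul_def]
        exact Ideal.mul_mem_left _ _ (Ideal.mem_span_singleton_self t)
    let eπ : Sa ≃ₐ[K] R' ⧸ Ideal.span {t} := AlgEquiv.ofBijective π hπ
    refine ⟨Sa.val.comp eπ.symm.toAlgHom, ?_⟩
    intro x
    have : π (eπ.symm x) = x := eπ.apply_symm_apply x
    exact this

end Groth.Agent.S11288
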