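import Groth.Statements.S11291
import Groth.Agent.Lib.Helper94.ArtVersal
import Groth.Agent.Lib.Helper76.ArtBasic

set_option autoImplicit false
universe u
open Deform

namespace Groth.Agent.S11291

open ArtFun ArtFun.Art Groth.Agent.Lib.Helper94 Groth.Agent.Lib.Helper76 CategoryTheory in

/-- Let k be an algebraically closed field and A a local Artinian k-algebra with residue field k and
non-zero maximal ideal, i.e. A is not k. Then the obstruction space o(A) = Ex_k(A, k) is not zero:
there is a k-extension 0 → k → E → A → 0 of A by its residue field which is not trivial (admits no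
k-algebra section). Equivalently, k is the only formally smooth object among local Artinian
k-algebras with residue field k. -/
theorem result
    {k : Type u} [Field k] [IsAlgClosed k]
    {A : Type u} [CommRing A] [Algebra k A] [IsLocalRing A] [IsArtinianRing A]
    (hres : ∀ a : A, ∃ c : k, a - algebraMap k A c ∈ IsLocalRing.maximalIdeal A)
    (hA : IsLocalRing.maximalIdeal A ≠ ⊥) :
    ∃ X : Exal.Ext k A (IsLocalRing.ResidueField A), ¬ X.IsTrivial := by
  classical
  -- the augmentation `A → k`
  have hbij : Function.Bijective (algebraMap k (IsLocalRing.ResidueField A)) := by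
    constructor
    · exact (algebraMap k (IsLocalRing.ResidueField A)).injective
    · intro z
      obtain ⟨a, rfl⟩ := IsLocalRing.residue_surjective z
      obtain ⟨c, hc⟩ := hres a
      refine ⟨c, ?_⟩
      rw [IsScalarTower.algebraMap_apply k A (IsLocalRing.ResidueField A)]
      symm
      rw [← sub_eq_zero]
      have : IsLocalRing.residue A (a - algebraMap k A c) = 0 :=
        (IsLocalRing.residue_eq_zero_iff _).mpr hc
      rw [map_sub] at this
      exact this
  let e : k ≃ₐ[k] IsLocalRing.ResidueField A :=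
    AlgEquiv.ofBijective (Algebra.ofId k (IsLocalRing.ResidueField A)) hbij
  let res : A →ₐ[k] k :=
    (e.symm : IsLocalRing.ResidueField A →ₐ[k] k).comp
      (IsScalarTower.toAlgHom k A (IsLocalRing.ResidueField A))
  have hres_apply : ∀ a : A, res a = e.symm (algebraMap A (IsLocalRing.ResidueField A) a) :=
    fun a => rfl
  have hres_surj : Function.Surjective res := fun c => ⟨algebraMap k A c, res.commutes c⟩
  let R : Art k k := Art.of A res hres_surj
  have hmk : IsLocalRing.maximalIdeal k = ⊥ := IsLocalRing.maximalIdeal_eq_bot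
  obtain ⟨B, p, hp, hcot, -, hne⟩ :=
    exists_versal_semismall_aux (Λ := k) (k := k) (fun c => ⟨c, rfl⟩) R
  have hker_ne : RingHom.ker p.toAlgHom ≠ ⊥ := hne hmk hA
  have hcot' : RingHom.ker p.toAlgHom ≤ IsLocalRing.maximalIdeal B.carrier ^ 2 := by
    rw [hmk, Ideal.map_bot, sup_bot_eq] at hcot
    exact hcot
  obtain ⟨J', x, hJ'lt, hxJ, hxJ', hsup, hmJ⟩ := exists_lt_sup_span B (RingHom.ker p.toAlgHom) hker_ne
  have hJ'ker : J' ≤ RingHom.ker p.toAlgHom := hJ'lt.le
  have hJ'm : J' ≤ IsLocalRing.maximalIdeal B.carrier := hJ'ker.trans (ker_le_maximalIdeal p)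
  let E : Art k k := Art.quot B J' hJ'm
  let q : E ⟶ R := Art.quotFactor hJ'm p hJ'ker
  let ξ : E.carrier := Art.quotMk B J' hJ'm x
  have hq_mk : ∀ b : B.carrier, q (Art.quotMk B J' hJ'm b) = p b := fun b => rfl
  have hξ0 : ξ ≠ 0 := by
    show Art.quotMk B J' hJ'm x ≠ 0
    rw [Ne, quotMk_eq_zero_iff]
    exact hxJ'
  have hqξ : q ξ = 0 := hxJ
  have hmξ : ∀ z ∈ IsLocalRing.maximalIdeal E.carrier, z * ξ = 0 := by
    intro z hz
    obtain ⟨b, rfl⟩ := Art.quotMk_surjective B J' hJ'm z
    have hb : b ∈ IsLocalRing.maximalIdeal B.carrier := by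
      rw [Art.mem_maximalIdeal_iff] at hz ⊢
      rwa [Art.res_app] at hz
    have hbx : b * x ∈ J' := hmJ (Ideal.mul_mem_mul hb hxJ)
    have h1 : Art.quotMk B J' hJ'm b * Art.quotMk B J' hJ'm x = Art.quotMk B J' hJ'm (b * x) :=
      (map_mul (Art.quotMk B J' hJ'm).toAlgHom b x).symm
    show Art.quotMk B J' hJ'm b * Art.quotMk B J' hJ'm x = 0
    rw [h1, quotMk_eq_zero_iff]
    exact hbx
  have hsub_mem : ∀ z : E.carrier, z - algebraMap k E.carrier (E.res z) ∈
      IsLocalRing.maximalIdeal E.carrier := by
    intro z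
    rw [Art.mem_maximalIdeal_iff, map_sub, AlgHom.commutes]
    exact sub_self _
  have hzξ : ∀ z : E.carrier, z * ξ = algebraMap k E.carrier (E.res z) * ξ := by
    intro z
    have := hmξ _ (hsub_mem z)
    rw [sub_mul, sub_eq_zero] at this
    exact this
  have hkerq : ∀ z : E.carrier, q z = 0 → ∃ c : k, z = algebraMap k E.carrier c * ξ := by
    intro z hz
    obtain ⟨b, rfl⟩ := Art.quotMk_surjective B J' hJ'm z
    have hb : b ∈ RingHom.ker p.toAlgHom := hz
    rw [← hsup] at hb
    obtain ⟨j, hj, y, hy, rfl⟩ := Submodule.mem_sup.mp hb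
    obtain ⟨d, rfl⟩ := Ideal.mem_span_singleton'.mp hy
    refine ⟨E.res (Art.quotMk B J' hJ'm d), ?_⟩
    rw [← hzξ]
    have h1 : Art.quotMk B J' hJ'm (j + d * x) =
        Art.quotMk B J' hJ'm j + Art.quotMk B J' hJ'm d * Art.quotMk B J' hJ'm x := by
      have := map_add (Art.quotMk B J' hJ'm).toAlgHom j (d * x)
      rw [map_mul] at this
      exact this
    rw [h1, (quotMk_eq_zero_iff B J' hJ'm j).mpr hj, zero_add]
  have hξsq : ξ ∈ IsLocalRing.maximalIdeal E.carrier ^ 2 := by
    have := Ideal.mem_map_of_mem (Art.quotMk B J' hJ'm).toAlgHom (hcot' hxJ)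
    rw [Ideal.map_pow, ← maximalIdeal_quot B J' hJ'm] at this
    exact this
  have hqsurj : Function.Surjective q := by
    intro r
    obtain ⟨b, hb⟩ := hp.1 r
    exact ⟨Art.quotMk B J' hJ'm b, hb⟩
  -- the extension
  let incl : IsLocalRing.ResidueField A →+ E.carrier :=
    { toFun := fun c => algebraMap k E.carrier (e.symm c) * ξ
      map_zero' := by rw [map_zero, map_zero, zero_mul]
      map_add' := fun c c' => by rw [map_add, map_add, add_mul] }
  have hincl : ∀ c, incl c = algebraMap k E.carrier (e.symm c) * ξ := fun c => rfl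
  let proj : E.carrier →ₐ[k] A := q.toAlgHom
  have hext : Exal.IsExtension proj incl := by
    refine ⟨hqsurj, ?_, ?_, ?_⟩
    · rw [injective_iff_map_eq_zero]
      intro c hc
      rw [hincl] at hc
      by_contra hc0
      have hc1 : e.symm c ≠ 0 := by
        intro h
        apply hc0
        have := congrArg e h
        rwa [AlgEquiv.apply_symm_apply, map_zero] at this
      have hu : IsUnit (algebraMap k E.carrier (e.symm c)) := (IsUnit.mk0 _ hc1).map _
      exact hξ0 ((hu.mul_right_eq_zero).mp hc)
    · intro z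
      constructor
      · intro hz
        obtain ⟨c, rfl⟩ := hkerq z hz
        refine ⟨e c, ?_⟩
        rw [hincl, AlgEquiv.symm_apply_apply]
      · rintro ⟨c, rfl⟩
        rw [hincl]
        show q (algebraMap k E.carrier (e.symm c) * ξ) = 0
        have : q (algebraMap k E.carrier (e.symm c) * ξ) =
            q (algebraMap k E.carrier (e.symm c)) * q ξ := map_mul q.toAlgHom _ _
        rw [this, hqξ, mul_zero]
    · intro z c
      rw [hincl, hincl]
      have h1 : proj z • c = algebraMap A (IsLocalRing.ResidueField A) (q z) * c :=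
        Algebra.smul_def _ _
      rw [h1, map_mul, map_mul]
      have h2 : e.symm (algebraMap A (IsLocalRing.ResidueField A) (q z)) = E.res z := by
        exact (hres_apply (q z)).symm.trans (Art.res_app q z)
      rw [h2, mul_left_comm, hzξ z, mul_left_comm, mul_assoc]
  refine ⟨⟨E.carrier, proj, incl, hext⟩, ?_⟩
  rintro ⟨s, hs⟩
  have hs' : ∀ a : A, q (s a) = a := hs
  obtain ⟨N', hN'⟩ := exists_maximalIdeal_pow_eq_bot E
  have hmem_iff : ∀ w : E.carrier, w ∈ IsLocalRing.maximalIdeal E.carrier ↔
      q w ∈ IsLocalRing.maximalIdeal R.carrier := by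
    intro w
    rw [Art.mem_maximalIdeal_iff, Art.mem_maximalIdeal_iff, Art.res_app]
  let S : Subalgebra k E.carrier := s.range
  have hS : S = ⊤ := by
    apply subalgebra_eq_top_of_span_inter S (N' + 1) hN'
    · intro z
      exact ⟨E.res z, hsub_mem z⟩
    · have hfg : (IsLocalRing.maximalIdeal E.carrier : Submodule E.carrier E.carrier).FG :=
        IsNoetherian.noetherian _
      have hjac : IsLocalRing.maximalIdeal E.carrier ≤ Ideal.jacobson ⊥ := by
        rw [IsLocalRing.jacobson_eq_maximalIdeal ⊥ bot_ne_top]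
      apply Submodule.le_of_le_smul_of_le_jacobson_bot hfg hjac
      intro z hz
      have hsq : q (s (q z)) = q z := hs' (q z)
      have hz1 : s (q z) ∈ IsLocalRing.maximalIdeal E.carrier := by
        rw [hmem_iff, hsq]
        exact (hmem_iff z).mp hz
      have hz2 : q (z - s (q z)) = 0 := by
        have : q (z - s (q z)) = q z - q (s (q z)) := map_sub q.toAlgHom _ _
        rw [this, hsq, sub_self]
      obtain ⟨c, hc⟩ := hkerq _ hz2
      have hz3 : z = s (q z) + algebraMap k E.carrier c * ξ := by
        rw [← hc]; ring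
      rw [hz3]
      refine Submodule.add_mem_sup (Ideal.subset_span ⟨⟨q z, rfl⟩, hz1⟩) ?_
      rw [Ideal.smul_eq_mul, ← pow_two]
      exact Ideal.mul_mem_left _ _ hξsq
  have hξS : ξ ∈ S := by rw [hS]; trivial
  obtain ⟨a, ha⟩ := hξS
  have ha' : s a = ξ := ha
  have ha0 : a = 0 := by
    rw [← hs' a, ha']
    exact hqξ
  apply hξ0
  rw [← ha', ha0, map_zero]


end Groth.Agent.S11291
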