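import Groth.Statements.S11294
-- import your own Groth.Agent.* helpers here

set_option autoImplicit false
universe u
open Deform

namespace Groth.Agent.S11294

open TrivSqZeroExt in
def graphIdeal (P : Type u) [CommRing P] (J : Ideal P) (φ : J →ₗ[P] (P ⧸ J)) :
    Ideal (DualNumber P) where
  carrier := {x | ∃ h : x.fst ∈ J, Ideal.Quotient.mk J x.snd = φ ⟨x.fst, h⟩}
  add_mem' := by
    rintro x y ⟨hx, hx'⟩ ⟨hy, hy'⟩
    refine ⟨by rw [fst_add]; exact J.add_mem hx hy, ?_⟩
    have : (⟨(x + y).fst, by rw [fst_add]; exact J.add_mem hx hy⟩ : J) =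
        ⟨x.fst, hx⟩ + ⟨y.fst, hy⟩ := rfl
    rw [this, map_add, ← hx', ← hy', snd_add, map_add]
  zero_mem' := by
    refine ⟨by rw [fst_zero]; exact J.zero_mem, ?_⟩
    have : (⟨(0 : DualNumber P).fst, by rw [fst_zero]; exact J.zero_mem⟩ : J) = 0 := rfl
    rw [this, map_zero, snd_zero, map_zero]
  smul_mem' := by
    rintro c x ⟨hx, hx'⟩
    have h1 : (c • x).fst ∈ J := by
      rw [smul_eq_mul, fst_mul]
      exact J.mul_mem_left _ hx
    refine ⟨h1, ?_⟩
    have : (⟨(c • x).fst, h1⟩ : J) = c.fst • ⟨x.fst, hx⟩ := rfl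
    rw [this, map_smul, ← hx', smul_eq_mul, DualNumber.snd_mul, map_add]
    have h2 : Ideal.Quotient.mk J (c.snd * x.fst) = 0 :=
      Ideal.Quotient.eq_zero_iff_mem.mpr (J.mul_mem_left _ hx)
    rw [h2, add_zero]
    rfl

open TrivSqZeroExt in
theorem mem_graphIdeal (P : Type u) [CommRing P] (J : Ideal P) (φ : J →ₗ[P] (P ⧸ J)) (a b : P) :
    (inl a + inr b : DualNumber P) ∈ graphIdeal P J φ ↔
      ∃ h : a ∈ J, Ideal.Quotient.mk J b = φ ⟨a, h⟩ := by
  change (∃ h : (inl a + inr b : DualNumber P).fst ∈ J,
    Ideal.Quotient.mk J (inl a + inr b : DualNumber P).snd = φ ⟨(inl a + inr b : DualNumber P).fst, h⟩) ↔ _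
  have h1 : (inl a + inr b : DualNumber P).fst = a := by simp
  have h2 : (inl a + inr b : DualNumber P).snd = b := by simp
  simp only [h1, h2]

open TrivSqZeroExt in
theorem ideal_ext_of_forall (P : Type u) [CommRing P] (J₁ J₂ : Ideal (DualNumber P))
    (h : ∀ a b : P, (inl a + inr b : DualNumber P) ∈ J₁ ↔ (inl a + inr b : DualNumber P) ∈ J₂) :
    J₁ = J₂ := by
  ext x
  rw [← inl_fst_add_inr_snd_eq x]
  exact h _ _

open TrivSqZeroExt in
theorem graphIdeal_map (P : Type u) [CommRing P] (J : Ideal P) (φ : J →ₗ[P] (P ⧸ J)) :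
    (graphIdeal P J φ).map (TrivSqZeroExt.fstHom P P P) = J := by
  apply le_antisymm
  · rw [Ideal.map_le_iff_le_comap]
    intro x hx
    obtain ⟨h, _⟩ := hx
    exact h
  · intro a ha
    obtain ⟨b, hb⟩ := Ideal.Quotient.mk_surjective (φ ⟨a, ha⟩)
    have h1 : (inl a + inr b : DualNumber P) ∈ graphIdeal P J φ :=
      (mem_graphIdeal P J φ a b).mpr ⟨ha, hb⟩
    have h2 := Ideal.mem_map_of_mem (TrivSqZeroExt.fstHom P P P) h1
    simpa using h2

open TrivSqZeroExt in
theorem graphIdeal_flat (P : Type u) [CommRing P] (J : Ideal P) (φ : J →ₗ[P] (P ⧸ J))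
    (m : DualNumber P ⧸ graphIdeal P J φ)
    (hm : Ideal.Quotient.mk (graphIdeal P J φ) DualNumber.eps * m = 0) :
    ∃ m' : DualNumber P ⧸ graphIdeal P J φ,
      m = Ideal.Quotient.mk (graphIdeal P J φ) DualNumber.eps * m' := by
  obtain ⟨x, rfl⟩ := Ideal.Quotient.mk_surjective m
  rw [← map_mul, Ideal.Quotient.eq_zero_iff_mem] at hm
  obtain ⟨h1, h2⟩ := hm
  have h3 : (⟨(DualNumber.eps * x).fst, h1⟩ : J) = 0 := Subtype.ext (by simp)
  rw [h3, map_zero] at h2
  have hx : x.fst ∈ J := by
    rw [← Ideal.Quotient.eq_zero_iff_mem, ← h2]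
    congr 1
    simp
  obtain ⟨c, hc⟩ := Ideal.Quotient.mk_surjective (φ ⟨x.fst, hx⟩)
  refine ⟨Ideal.Quotient.mk _ (inl (x.snd - c)), ?_⟩
  rw [← map_mul, Ideal.Quotient.eq]
  have h4 : (x - DualNumber.eps * inl (x.snd - c)).fst = x.fst := by simp
  have h5 : (x - DualNumber.eps * inl (x.snd - c)).snd = c := by simp
  refine ⟨by rw [h4]; exact hx, ?_⟩
  have h6 : (⟨(x - DualNumber.eps * inl (x.snd - c)).fst, by rw [h4]; exact hx⟩ : J) =
      ⟨x.fst, hx⟩ := Subtype.ext h4
  rw [h6, h5, hc]

open TrivSqZeroExt in
/-- Let P be a commutative ring, J an ideal, and P[ε] the ring of dual numbers over P. First-order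
embedded deformations of Spec(P/J) in Spec P, namely ideals J' of P[ε] lifting J (the image of J'
under ε ↦ 0 is J) with P[ε]/J' flat over the dual numbers — flatness being replaced by the condition
that every element of P[ε]/J' annihilated by ε is a multiple of ε (equivalent to flatness over k[ε]
when P is an algebra over a field k) — are in canonical bijection with Hom_P(J, P/J) =
Hom_{P/J}(J/J^2, P/J), the normal module: to φ corresponds the ideal of all a + εb with a in J and b
reducing to φ(a) modulo J. The first clause says this rule defines exactly one ideal for each φ; the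
second says an ideal J' is a flat lift of J precisely when its membership is given by this rule for
some φ. (The published statement is the global one, identifying first-order deformations of a closed
subscheme X of an algebraic scheme Y with H^0(X, N_{X/Y}); this row is the affine computation in its
proof, valid for every commutative ring P.) -/
theorem result (P : Type u) [CommRing P] (J : Ideal P) :
    (∀ φ : J →ₗ[P] (P ⧸ J), ∃! J' : Ideal (DualNumber P),
        ∀ a b : P, (inl a + inr b : DualNumber P) ∈ J' ↔ ∃ h : a ∈ J, Ideal.Quotient.mk J b = φ ⟨a, h⟩) ∧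
    (∀ J' : Ideal (DualNumber P),
      (J'.map (TrivSqZeroExt.fstHom P P P) = J ∧
        ∀ m : DualNumber P ⧸ J', Ideal.Quotient.mk J' DualNumber.eps * m = 0 →
          ∃ m' : DualNumber P ⧸ J', m = Ideal.Quotient.mk J' DualNumber.eps * m') ↔
      ∃ φ : J →ₗ[P] (P ⧸ J), ∀ a b : P,
        (inl a + inr b : DualNumber P) ∈ J' ↔ ∃ h : a ∈ J, Ideal.Quotient.mk J b = φ ⟨a, h⟩) := by
  constructor
  · intro φ
    refine ⟨graphIdeal P J φ, mem_graphIdeal P J φ, ?_⟩
    intro J' hJ'
    apply ideal_ext_of_forall
    intro a b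
    rw [hJ', mem_graphIdeal]
  · intro J'
    constructor
    · rintro ⟨hmap, hflat⟩
      have L1 : ∀ x ∈ J', x.fst ∈ J := by
        intro x hx
        rw [← hmap]
        exact Ideal.mem_map_of_mem (TrivSqZeroExt.fstHom P P P) hx
      have L2 : ∀ a ∈ J, ∃ b, (inl a + inr b : DualNumber P) ∈ J' := by
        intro a ha
        rw [← hmap] at ha
        have hsurj : Function.Surjective (TrivSqZeroExt.fstHom P P P) := fun a => ⟨inl a, by simp⟩
        obtain ⟨x, hx, rfl⟩ := (Ideal.mem_map_iff_of_surjective _ hsurj).mp ha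
        refine ⟨x.snd, ?_⟩
        change (inl x.fst + inr x.snd : DualNumber P) ∈ J'
        rw [inl_fst_add_inr_snd_eq]
        exact hx
      have L3 : ∀ c : P, (inr c : DualNumber P) ∈ J' ↔ c ∈ J := by
        intro c
        constructor
        · intro hc
          have h1 : (DualNumber.eps * inl c : DualNumber P) = inr c := by
            ext <;> simp
          have h2 : Ideal.Quotient.mk J' DualNumber.eps * Ideal.Quotient.mk J' (inl c) = 0 := by
            rw [← map_mul, h1, Ideal.Quotient.eq_zero_iff_mem]
            exact hc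
          obtain ⟨m', hm'⟩ := hflat _ h2
          obtain ⟨y, rfl⟩ := Ideal.Quotient.mk_surjective m'
          rw [← map_mul, Ideal.Quotient.eq] at hm'
          have := L1 _ hm'
          simpa using this
        · intro hc
          obtain ⟨b, hb⟩ := L2 c hc
          have h1 : (DualNumber.eps * (inl c + inr b) : DualNumber P) = inr c := by
            ext <;> simp
          rw [← h1]
          exact J'.mul_mem_left _ hb
      have L4 : ∀ a b b' : P, (inl a + inr b : DualNumber P) ∈ J' →
          ((inl a + inr b' : DualNumber P) ∈ J' ↔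
            Ideal.Quotient.mk J b' = Ideal.Quotient.mk J b) := by
        intro a b b' hb
        rw [Ideal.Quotient.eq, ← L3]
        have h1 : (inl a + inr b' : DualNumber P) = (inl a + inr b) + inr (b' - b) := by
          ext <;> simp
        rw [h1]
        constructor
        · intro h
          have := J'.sub_mem h hb
          simpa using this
        · intro h
          exact J'.add_mem hb h
      choose bsel hbsel using fun a : J => L2 a.1 a.2
      let φ : J →ₗ[P] (P ⧸ J) :=
        { toFun := fun a => Ideal.Quotient.mk J (bsel a)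
          map_add' := by
            intro a a'
            rw [← map_add]
            symm
            refine (L4 (a + a' : J) _ _ (hbsel (a + a'))).mp ?_
            have := J'.add_mem (hbsel a) (hbsel a')
            convert this using 1
            ext <;> simp
          map_smul' := by
            intro r a
            have h1 : r • Ideal.Quotient.mk J (bsel a) = Ideal.Quotient.mk J (r * bsel a) := rfl
            rw [RingHom.id_apply, h1]
            symm
            refine (L4 (r • a : J) _ _ (hbsel (r • a))).mp ?_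
            have := J'.mul_mem_left (inl r) (hbsel a)
            convert this using 1
            ext <;> simp }
      refine ⟨φ, ?_⟩
      intro a b
      constructor
      · intro hab
        have ha : a ∈ J := by simpa using L1 _ hab
        exact ⟨ha, (L4 a _ _ (hbsel ⟨a, ha⟩)).mp hab⟩
      · rintro ⟨ha, hb⟩
        exact (L4 a _ _ (hbsel ⟨a, ha⟩)).mpr hb
    · rintro ⟨φ, hφ⟩
      have hJ' : J' = graphIdeal P J φ := by
        apply ideal_ext_of_forall
        intro a b
        rw [hφ, mem_graphIdeal]
      subst hJ'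
      exact ⟨graphIdeal_map P J φ, graphIdeal_flat P J φ⟩

end Groth.Agent.S11294
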