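import Groth.Statements.S11298
-- import your own Groth.Agent.* helpers here

set_option autoImplicit false
universe u v
open LocCoh

namespace Groth.Agent.S11298

open scoped Pointwise in
theorem regular_hom {B : Type u} [CommRing B] {M : Type v} [AddCommGroup M] [Module B M]
    (a b : B) (ha : IsSMulRegular B a) (hb : IsSMulRegular (QuotSMulTop a B) b) :
    RingTheory.Sequence.IsWeaklyRegular (M →ₗ[B] B) [a, b] := by
  rw [RingTheory.Sequence.isWeaklyRegular_cons_iff, RingTheory.Sequence.isWeaklyRegular_cons_iff]
  refine ⟨?_, ?_, RingTheory.Sequence.IsWeaklyRegular.nil _ _⟩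
  · intro f g hfg
    ext m
    apply ha
    have := congrArg (fun φ : M →ₗ[B] B => φ m) hfg
    simpa using this
  · -- b is regular on Hom(M,B)/a Hom(M,B)
    rw [isSMulRegular_iff_right_eq_zero_of_smul]
    intro x hx
    obtain ⟨f, rfl⟩ := Submodule.Quotient.mk_surjective _ x
    rw [← Submodule.Quotient.mk_smul, Submodule.Quotient.mk_eq_zero,
      Submodule.mem_smul_pointwise_iff_exists] at hx
    obtain ⟨g, -, hg⟩ := hx
    -- hg : a • g = b • f
    have hfm : ∀ m : M, ∃ c : B, a * c = f m := by
      intro m
      have h1 : b • (Submodule.Quotient.mk (f m) : QuotSMulTop a B) = 0 := by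
        rw [← Submodule.Quotient.mk_smul, Submodule.Quotient.mk_eq_zero,
          Submodule.mem_smul_pointwise_iff_exists]
        refine ⟨g m, trivial, ?_⟩
        have := congrArg (fun φ : M →ₗ[B] B => φ m) hg
        simpa using this
      have h2 := (isSMulRegular_iff_right_eq_zero_of_smul.mp hb) _ h1
      rw [Submodule.Quotient.mk_eq_zero, Submodule.mem_smul_pointwise_iff_exists] at h2
      obtain ⟨c, -, hc⟩ := h2
      exact ⟨c, hc⟩
    choose h hh using hfm
    have hha : ∀ x y : B, a * x = a * y → x = y := fun x y hxy => ha hxy
    let φ : M →ₗ[B] B :=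
      { toFun := h
        map_add' := by
          intro m n
          apply hha
          rw [mul_add, hh, hh, hh, map_add]
        map_smul' := by
          intro r m
          apply hha
          rw [hh, RingHom.id_apply, smul_eq_mul, mul_left_comm, hh, map_smul, smul_eq_mul] }
    rw [Submodule.Quotient.mk_eq_zero, Submodule.mem_smul_pointwise_iff_exists]
    refine ⟨φ, trivial, ?_⟩
    ext m
    show a * h m = f m
    exact hh m

/-- Let X = Spec B be an affine Noetherian scheme, Z = V(I) a closed subscheme and G a coherent sheaf,
i.e. a finitely generated B-module M, with dual G^v = Hom_B(M, B). If depth_Z(O_X) ≥ 2 then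
depth_Z(G^v) ≥ 2. Here the depth along I of a module N is the supremum of the lengths of N-regular
sequences contained in I (and is infinite when I N = N). (The published statement adds that sections
of the dual over X and over X minus Z agree; this row omits that clause.) -/
theorem result (B : Type u) [CommRing B] [IsNoetherianRing B]
    (I : Ideal B) (M : Type v) [AddCommGroup M] [Module B M] [Module.Finite B M]
    (h : 2 ≤ LocCoh.idealDepth I B) : 2 ≤ LocCoh.idealDepth I (M →ₗ[B] B) := by
  classical
  unfold LocCoh.idealDepth at h ⊢
  split_ifs with htop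
  · exact le_top
  · split_ifs at h with hI
    · exfalso
      apply htop
      have hI' : I = ⊤ := by
        rw [← hI]
        simp
      rw [hI', Submodule.top_smul]
    · -- extract a list of length at least two
      have hex : ∃ rs : List B, (RingTheory.Sequence.IsWeaklyRegular B rs ∧ ∀ r ∈ rs, r ∈ I) ∧
          2 ≤ rs.length := by
        by_contra hcon
        push Not at hcon
        have hle : (⨆ (rs : List B) (_ : RingTheory.Sequence.IsWeaklyRegular B rs ∧ ∀ r ∈ rs, r ∈ I),
            (rs.length : ℕ∞)) ≤ 1 := by
          apply iSup₂_le
          intro rs hrs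
          have := hcon rs hrs
          have h1 : rs.length ≤ 1 := by omega
          exact_mod_cast h1
        have : (2 : ℕ∞) ≤ 1 := h.trans hle
        exact absurd this (by norm_num)
      obtain ⟨rs, ⟨hreg, hmem⟩, hlen⟩ := hex
      match rs, hreg, hmem, hlen with
      | a :: b :: rest, hreg, hmem, _ =>
        rw [RingTheory.Sequence.isWeaklyRegular_cons_iff,
          RingTheory.Sequence.isWeaklyRegular_cons_iff] at hreg
        have hab := regular_hom (M := M) a b hreg.1 hreg.2.1
        have hmem' : ∀ r ∈ [a, b], r ∈ I := by
          intro r hr
          apply hmem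
          simp only [List.mem_cons, List.not_mem_nil, or_false] at hr ⊢
          rcases hr with rfl | rfl
          · exact Or.inl rfl
          · exact Or.inr (Or.inl rfl)
        exact le_iSup₂_of_le [a, b] ⟨hab, hmem'⟩ (by simp)

end Groth.Agent.S11298
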