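import Groth.Statements.S11299
import Mathlib.Algebra.Module.Projective
import Mathlib.Tactic
-- import your own Groth.Agent.* helpers here

set_option autoImplicit false
universe u
open CAlg

namespace Groth.Agent.S11299

section Aux

variable {P : Type u} [CommRing P] (J : Ideal P)
variable {F : Type u} [AddCommGroup F] [Module P F] (j : F →ₗ[P] P)
variable {F' : Type u} [AddCommGroup F'] [Module P F'] (j' : F' →ₗ[P] P)

def trivRel : Submodule P F := Submodule.span P {y : F | ∃ u v : F, y = j u • v - j v • u}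

def Kmod : Submodule P (LinearMap.ker j →ₗ[P] P ⧸ J) :=
  LinearMap.ker (LinearMap.lcomp P (P ⧸ J)
    (Submodule.comap (LinearMap.ker j).subtype (trivRel j)).subtype)

def Restr : Submodule P (LinearMap.ker j →ₗ[P] P ⧸ J) :=
  LinearMap.range (LinearMap.lcomp P (P ⧸ J) (LinearMap.ker j).subtype)

def T2 : Submodule P ((LinearMap.ker j →ₗ[P] P ⧸ J) ⧸ Restr J j) :=
  Submodule.map (Restr J j).mkQ (Kmod J j)

theorem mem_Kmod (φ : LinearMap.ker j →ₗ[P] P ⧸ J) :
    φ ∈ Kmod J j ↔ ∀ x : LinearMap.ker j, (x : F) ∈ trivRel j → φ x = 0 := by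
  unfold Kmod
  rw [LinearMap.mem_ker]
  constructor
  · intro h x hx
    have := LinearMap.congr_fun h ⟨x, hx⟩
    simpa using this
  · intro h
    ext ⟨x, hx⟩
    simpa using h x hx

variable {j j'}

theorem map_trivRel (α : F →ₗ[P] F') (hα : ∀ x, j' (α x) = j x) (x : F) (hx : x ∈ trivRel j) :
    α x ∈ trivRel j' := by
  unfold trivRel at hx ⊢
  induction hx using Submodule.span_induction with
  | mem y hy =>
    obtain ⟨u, v, rfl⟩ := hy
    apply Submodule.subset_span
    refine ⟨α u, α v, ?_⟩
    simp [hα]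
  | zero => simp
  | add a b _ _ ha hb => rw [map_add]; exact Submodule.add_mem _ ha hb
  | smul c a _ ha => rw [map_smul]; exact Submodule.smul_mem _ c ha

def restrKer (α : F →ₗ[P] F') (hα : ∀ x, j' (α x) = j x) :
    LinearMap.ker j →ₗ[P] LinearMap.ker j' :=
  α.restrict (fun x hx => by
    rw [LinearMap.mem_ker] at hx ⊢
    rw [hα, hx])

theorem restrKer_coe (α : F →ₗ[P] F') (hα : ∀ x, j' (α x) = j x) (x : LinearMap.ker j) :
    (restrKer α hα x : F') = α x := rfl

theorem restr_le (α : F →ₗ[P] F') (hα : ∀ x, j' (α x) = j x) :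
    Restr J j' ≤ (Restr J j).comap (LinearMap.lcomp P (P ⧸ J) (restrKer α hα)) := by
  rintro _ ⟨ψ, rfl⟩
  rw [Submodule.mem_comap]
  refine ⟨ψ ∘ₗ α, ?_⟩
  ext x
  rfl

def quotMap (α : F →ₗ[P] F') (hα : ∀ x, j' (α x) = j x) :
    ((LinearMap.ker j' →ₗ[P] P ⧸ J) ⧸ Restr J j') →ₗ[P]
      ((LinearMap.ker j →ₗ[P] P ⧸ J) ⧸ Restr J j) :=
  Submodule.mapQ (Restr J j') (Restr J j) (LinearMap.lcomp P (P ⧸ J) (restrKer α hα))
    (restr_le J α hα)

theorem quotMap_mem (α : F →ₗ[P] F') (hα : ∀ x, j' (α x) = j x)
    (y : (LinearMap.ker j' →ₗ[P] P ⧸ J) ⧸ Restr J j') (hy : y ∈ T2 J j') :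
    quotMap J α hα y ∈ T2 J j := by
  obtain ⟨φ, hφ, rfl⟩ := hy
  refine ⟨φ ∘ₗ restrKer α hα, ?_, rfl⟩
  rw [SetLike.mem_coe] at hφ ⊢
  rw [mem_Kmod] at hφ ⊢
  intro x hx
  exact hφ (restrKer α hα x) (map_trivRel α hα x hx)

theorem quotMap_comp (α : F →ₗ[P] F') (hα : ∀ x, j' (α x) = j x)
    (β : F' →ₗ[P] F) (hβ : ∀ x, j (β x) = j' x)
    (y : (LinearMap.ker j →ₗ[P] P ⧸ J) ⧸ Restr J j) :
    quotMap J α hα (quotMap J β hβ y) = y := by
  obtain ⟨φ, rfl⟩ := Submodule.Quotient.mk_surjective _ y
  change Submodule.Quotient.mk ((φ ∘ₗ restrKer β hβ) ∘ₗ restrKer α hα) = Submodule.Quotient.mk φ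
  rw [Submodule.Quotient.eq]
  let γ : F →ₗ[P] LinearMap.ker j := (β ∘ₗ α - LinearMap.id).codRestrict (LinearMap.ker j) (by
    intro x
    rw [LinearMap.mem_ker]
    simp [hα, hβ])
  refine ⟨φ ∘ₗ γ, ?_⟩
  ext x
  change φ (γ x) = φ (restrKer β hβ (restrKer α hα x)) - φ x
  rw [← map_sub]
  congr 1

def t2Map (α : F →ₗ[P] F') (hα : ∀ x, j' (α x) = j x) : T2 J j' →ₗ[P] T2 J j :=
  (quotMap J α hα).restrict (quotMap_mem J α hα)

def t2Equiv (α : F →ₗ[P] F') (hα : ∀ x, j' (α x) = j x)
    (β : F' →ₗ[P] F) (hβ : ∀ x, j (β x) = j' x) : T2 J j' ≃ₗ[P] T2 J j :=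
  LinearEquiv.ofLinearMap (t2Map J α hα) (t2Map J β hβ)
    (by
      ext y
      exact quotMap_comp J α hα β hβ y)
    (by
      ext y
      exact quotMap_comp J β hβ α hα y)

theorem exists_lift [Module.Projective P F] (hjj' : LinearMap.range j ≤ LinearMap.range j') :
    ∃ α : F →ₗ[P] F', ∀ x, j' (α x) = j x := by
  obtain ⟨α, hα⟩ := Module.projective_lifting_property j'.rangeRestrict
    (j.codRestrict (LinearMap.range j') (fun x => hjj' ⟨x, rfl⟩)) j'.surjective_rangeRestrict
  refine ⟨α, fun x => ?_⟩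
  have := LinearMap.congr_fun hα x
  exact congrArg Subtype.val this

end Aux

/-- The second cotangent module does not depend on the presentation: let P be a commutative ring, J an
ideal and B = P/J. For a presentation of J, i.e. a finitely generated free P-module F with a
P-linear map j : F → P with image J, let R = ker j be the relation module and R^tr ⊆ R the span of
the trivial relations j(u) • v - j(v) • u; the module T^2 of the presentation is the quotient of
Hom_B(R/R^tr, B), realised as the P-linear maps R → P/J vanishing on R^tr, by the restrictions to R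
of the P-linear maps F → P/J (here: the image of that submodule in the quotient of Hom_P(R, P/J) by
the restrictions). Then for two presentations (F, j) and (F', j') of the same ideal J the two
modules T^2 are isomorphic as P-modules (existence of an isomorphism; the comparison maps depend on
expressing one system of generators through the other). (The published statement takes B essentially
of finite type over a field and P smooth; this row allows any commutative ring P and ideal J.) -/
theorem result (P : Type u) [CommRing P] (J : Ideal P)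
    (F : Type u) [AddCommGroup F] [Module P F] [Module.Free P F] [Module.Finite P F]
    (F' : Type u) [AddCommGroup F'] [Module P F'] [Module.Free P F'] [Module.Finite P F']
    (j : F →ₗ[P] P) (j' : F' →ₗ[P] P) (hj : LinearMap.range j = J) (hj' : LinearMap.range j' = J) :
    Nonempty (↥(Submodule.map
          (LinearMap.range (LinearMap.lcomp P (P ⧸ J) (LinearMap.ker j).subtype)).mkQ
          (LinearMap.ker (LinearMap.lcomp P (P ⧸ J)
            (Submodule.comap (LinearMap.ker j).subtype
              (Submodule.span P {y : F | ∃ u v : F, y = j u • v - j v • u})).subtype))) ≃ₗ[P]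
      ↥(Submodule.map
          (LinearMap.range (LinearMap.lcomp P (P ⧸ J) (LinearMap.ker j').subtype)).mkQ
          (LinearMap.ker (LinearMap.lcomp P (P ⧸ J)
            (Submodule.comap (LinearMap.ker j').subtype
              (Submodule.span P {y : F' | ∃ u v : F', y = j' u • v - j' v • u})).subtype)))) := by
  obtain ⟨α, hα⟩ := exists_lift (j := j) (j' := j') (by rw [hj, hj'])
  obtain ⟨β, hβ⟩ := exists_lift (j := j') (j' := j) (by rw [hj, hj'])
  exact ⟨t2Equiv J β hβ α hα⟩

end Groth.Agent.S11299
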