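import Groth.Statements.S11302
import Mathlib

set_option autoImplicit false
universe u
open Deform

namespace Groth.Agent.S11302

section helpers
open MvPolynomial RingTheory.Sequence

variable {P : Type*} [CommRing P]

theorem coeff_mem_of_relation : ∀ {n : ℕ} (f : Fin n → P),
    (∀ i : Fin n, ∀ a : P, a * f i ∈ Ideal.span (f '' {j | j < i}) →
      a ∈ Ideal.span (f '' {j | j < i})) →
    ∀ a : Fin n → P, ∑ i, a i * f i = 0 → ∀ i, a i ∈ Ideal.span (Set.range f) := by
  intro n
  induction n with
  | zero => intro f _ a _ i; exact i.elim0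
  | succ n ih =>
    intro f hreg a hrel
    set f' : Fin n → P := fun i => f i.castSucc with hf'
    have himg : ∀ i : Fin n, f' '' {j | j < i} = f '' {j | j < i.castSucc} := by
      intro i
      ext x
      simp only [Set.mem_image, Set.mem_ofPred_eq]
      constructor
      · rintro ⟨j, hj, rfl⟩
        exact ⟨j.castSucc, Fin.castSucc_lt_castSucc_iff.mpr hj, rfl⟩
      · rintro ⟨j, hj, rfl⟩
        have hjn : (j : ℕ) < n := by
          have := Fin.lt_def.mp hj
          have h2 := i.isLt
          simp at this
          omega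
        refine ⟨⟨j, hjn⟩, ?_, ?_⟩
        · have := Fin.lt_def.mp hj
          simp at this
          exact Fin.lt_def.mpr this
        · simp [hf']
    have hlast : f '' {j | j < Fin.last n} = Set.range f' := by
      ext x
      simp only [Set.mem_image, Set.mem_ofPred_eq, Set.mem_range]
      constructor
      · rintro ⟨j, hj, rfl⟩
        have hjn : (j : ℕ) < n := by
          have := Fin.lt_def.mp hj
          simpa using this
        exact ⟨⟨j, hjn⟩, by simp [hf']⟩
      · rintro ⟨j, rfl⟩
        exact ⟨j.castSucc, Fin.castSucc_lt_last j, rfl⟩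
    have hle : Ideal.span (Set.range f') ≤ Ideal.span (Set.range f) := by
      apply Ideal.span_mono
      rintro x ⟨j, rfl⟩
      exact ⟨j.castSucc, rfl⟩
    rw [Fin.sum_univ_castSucc] at hrel
    have h1 : a (Fin.last n) * f (Fin.last n) ∈ Ideal.span (f '' {j | j < Fin.last n}) := by
      rw [hlast]
      have : a (Fin.last n) * f (Fin.last n) = - ∑ i : Fin n, a i.castSucc * f' i := by
        rw [eq_neg_iff_add_eq_zero, add_comm]; exact hrel
      rw [this]
      apply Ideal.neg_mem_iff _ |>.mpr
      apply Ideal.sum_mem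
      intro i _
      exact Ideal.mul_mem_left _ _ (Ideal.subset_span ⟨i, rfl⟩)
    have h2 := hreg (Fin.last n) _ h1
    rw [hlast] at h2
    obtain ⟨c, hc⟩ := (Ideal.mem_span_range_iff_exists_fun).mp h2
    have hrel' : ∑ i : Fin n, (a i.castSucc + c i * f (Fin.last n)) * f' i = 0 := by
      have : ∑ i : Fin n, (a i.castSucc + c i * f (Fin.last n)) * f' i =
          ∑ i : Fin n, a i.castSucc * f' i + f (Fin.last n) * ∑ i : Fin n, c i * f' i := by
        rw [Finset.mul_sum, ← Finset.sum_add_distrib]
        apply Finset.sum_congr rfl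
        intro i _
        ring
      rw [this, hc, mul_comm (f (Fin.last n))]
      exact hrel
    have hreg' : ∀ i : Fin n, ∀ a : P, a * f' i ∈ Ideal.span (f' '' {j | j < i}) →
        a ∈ Ideal.span (f' '' {j | j < i}) := by
      intro i b hb
      rw [himg] at hb ⊢
      exact hreg i.castSucc b hb
    have h3 := ih f' hreg' _ hrel'
    intro i
    refine Fin.lastCases ?_ ?_ i
    · exact hle h2
    · intro i
      have h4 := hle (h3 i)
      have h5 : c i * f (Fin.last n) ∈ Ideal.span (Set.range f) :=
        Ideal.mul_mem_left _ _ (Ideal.subset_span ⟨_, rfl⟩)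
      have := Ideal.sub_mem _ h4 h5
      simpa using this

theorem elemReg_of_isWeaklyRegular {n : ℕ} (f : Fin n → P)
    (h : IsWeaklyRegular P (List.ofFn f)) :
    ∀ i : Fin n, ∀ a : P, a * f i ∈ Ideal.span (f '' {j | j < i}) →
      a ∈ Ideal.span (f '' {j | j < i}) := by
  intro i a ha
  have hi : (i : ℕ) < (List.ofFn f).length := by simp
  have h1 := h.regular_mod_prev i hi
  have hset : (Ideal.ofList ((List.ofFn f).take i) • ⊤ : Submodule P P) =
      Ideal.span (f '' {j | j < i}) := by
    rw [smul_eq_mul, Ideal.mul_top]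
    unfold Ideal.ofList
    congr 1
    ext x
    simp only [Set.mem_ofPred_eq, Set.mem_image, List.mem_take_iff_getElem]
    constructor
    · rintro ⟨j, hj, rfl⟩
      simp at hj
      refine ⟨⟨j, by omega⟩, Fin.lt_def.mpr (by simp; omega), by simp⟩
    · rintro ⟨j, hj, rfl⟩
      refine ⟨j, ?_, by simp⟩
      simp only [List.length_ofFn, lt_inf_iff]
      exact ⟨Fin.lt_def.mp hj, j.isLt⟩
  have h2 : f i • a ∈ (Ideal.ofList ((List.ofFn f).take i) • ⊤ : Submodule P P) := by
    rw [hset, smul_eq_mul, mul_comm]; exact ha
  have h3 : (List.ofFn f)[(i : ℕ)] = f i := by simp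
  rw [h3] at h1
  have := (isSMulRegular_on_quot_iff_lsmul_comap_le _ _).mp h1 h2
  rw [hset] at this
  exact this

end helpers

section deriv
open MvPolynomial

variable {k : Type*} [Field k] {d : ℕ} (J : Ideal (MvPolynomial (Fin d) k))

theorem smul_quot_eq (p : MvPolynomial (Fin d) k) (b : MvPolynomial (Fin d) k ⧸ J) :
    p • b = Ideal.Quotient.mk J p * b := by
  obtain ⟨x, rfl⟩ := Ideal.Quotient.mk_surjective b
  rfl

theorem derivation_formula
    (D : Derivation k (MvPolynomial (Fin d) k) (MvPolynomial (Fin d) k ⧸ J))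
    (p : MvPolynomial (Fin d) k) :
    D p = ∑ j, Ideal.Quotient.mk J (pderiv j p) * D (X j) := by
  induction p using MvPolynomial.induction_on with
  | C a => simp [MvPolynomial.derivation_C]
  | add p q hp hq =>
    rw [map_add, hp, hq, ← Finset.sum_add_distrib]
    apply Finset.sum_congr rfl
    intro j _
    rw [map_add, map_add, add_mul]
  | mul_X p i hp =>
    rw [Derivation.leibniz, hp]
    have : ∀ j, Ideal.Quotient.mk J (pderiv j (p * X i)) * D (X j) =
        (X i : MvPolynomial (Fin d) k) • (Ideal.Quotient.mk J (pderiv j p) * D (X j)) +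
        (if j = i then p • D (X j) else 0) := by
      intro j
      rw [Derivation.leibniz, pderiv_X]
      split_ifs with h
      · subst h
        simp only [Pi.single_eq_same, smul_quot_eq, map_add, smul_eq_mul, mul_one, if_true]
        rw [map_mul]
        ring
      · have : (Pi.single (M := fun _ => MvPolynomial (Fin d) k) j (1 : MvPolynomial (Fin d) k) i) = 0 :=
          Pi.single_eq_of_ne' h _
        rw [this]
        simp only [smul_quot_eq, map_add, smul_eq_mul, mul_zero, map_zero, zero_mul, zero_add, if_false]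
        rw [map_mul]
        ring
    simp_rw [this]
    rw [Finset.sum_add_distrib, Finset.smul_sum]
    simp [add_comm]

end deriv

open MvPolynomial in
/-- T^1 of a complete intersection; the hypersurface case P/(f, ∂f/∂X_1, ..., ∂f/∂X_d) is n = 1: let k
be an algebraically closed field, P = k[X_1, ..., X_d], f_1, ..., f_n a regular sequence in P (each
f_i a non-zero-divisor modulo the preceding ones), J the ideal they generate and B = P/J. The first
cotangent module T^1_B — the cokernel of Der_k(P, B) → Hom_P(J, B), a derivation being restricted to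
J — is isomorphic, as a P-module, to B^n modulo the B-submodule generated by the d columns
(∂f_1/∂X_j, ..., ∂f_n/∂X_j), j = 1, ..., d, of the Jacobian matrix reduced modulo J, through the map
sending the class of φ : J → B to the class of (φ(f_1), ..., φ(f_n)). (The published formula allows
P to be a localisation of the polynomial ring; this row takes the polynomial ring.) -/
theorem result (k : Type u) [Field k] [IsAlgClosed k] (d n : ℕ)
    (f : Fin n → MvPolynomial (Fin d) k) (hreg : RingTheory.Sequence.IsWeaklyRegular (MvPolynomial (Fin d) k) (List.ofFn f)) :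
    ∃ e : ((↥(Ideal.span (Set.range f)) →ₗ[MvPolynomial (Fin d) k] (MvPolynomial (Fin d) k ⧸ Ideal.span (Set.range f))) ⧸
            Submodule.span (MvPolynomial (Fin d) k)
              {ψ : ↥(Ideal.span (Set.range f)) →ₗ[MvPolynomial (Fin d) k] (MvPolynomial (Fin d) k ⧸ Ideal.span (Set.range f)) |
                ∃ D : Derivation k (MvPolynomial (Fin d) k) (MvPolynomial (Fin d) k ⧸ Ideal.span (Set.range f)), ∀ a : ↥(Ideal.span (Set.range f)), ψ a = D (a : MvPolynomial (Fin d) k)}) ≃ₗ[MvPolynomial (Fin d) k]
          ((Fin n → MvPolynomial (Fin d) k ⧸ Ideal.span (Set.range f)) ⧸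
            Submodule.span (MvPolynomial (Fin d) k ⧸ Ideal.span (Set.range f))
              (Set.range fun j : Fin d => fun i : Fin n => Ideal.Quotient.mk (Ideal.span (Set.range f)) (pderiv j (f i)))),
      ∀ φ : ↥(Ideal.span (Set.range f)) →ₗ[MvPolynomial (Fin d) k] (MvPolynomial (Fin d) k ⧸ Ideal.span (Set.range f)),
        e (Submodule.Quotient.mk φ) =
          Submodule.Quotient.mk (fun i : Fin n => φ ⟨f i, Ideal.subset_span (Set.mem_range_self i)⟩) := by
  classical
  have hel := elemReg_of_isWeaklyRegular f hreg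
  have hkey := coeff_mem_of_relation f hel
  -- generators of J as elements of J
  let gen : Fin n → ↥(Ideal.span (Set.range f)) :=
    fun i => ⟨f i, Ideal.subset_span (Set.mem_range_self i)⟩
  let π : (Fin n → MvPolynomial (Fin d) k) →ₗ[MvPolynomial (Fin d) k] ↥(Ideal.span (Set.range f)) :=
    Fintype.linearCombination (MvPolynomial (Fin d) k) gen
  have hπval : ∀ c, ((π c : ↥(Ideal.span (Set.range f))) : MvPolynomial (Fin d) k) = ∑ i, c i * f i := by
    intro c
    simp [π, Fintype.linearCombination_apply, gen]
  have hπ : Function.Surjective π := by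
    rintro ⟨a, ha⟩
    obtain ⟨c, hc⟩ := Ideal.mem_span_range_iff_exists_fun.mp ha
    exact ⟨c, Subtype.ext (by rw [hπval, hc])⟩
  let ev : (↥(Ideal.span (Set.range f)) →ₗ[MvPolynomial (Fin d) k]
        (MvPolynomial (Fin d) k ⧸ Ideal.span (Set.range f))) →ₗ[MvPolynomial (Fin d) k]
      (Fin n → MvPolynomial (Fin d) k ⧸ Ideal.span (Set.range f)) :=
    { toFun := fun φ i => φ (gen i), map_add' := fun _ _ => rfl, map_smul' := fun _ _ => rfl }
  have hφπ : ∀ (φ : ↥(Ideal.span (Set.range f)) →ₗ[MvPolynomial (Fin d) k]
        (MvPolynomial (Fin d) k ⧸ Ideal.span (Set.range f))) (c : Fin n → MvPolynomial (Fin d) k),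
      φ (π c) = ∑ i, c i • ev φ i := by
    intro φ c
    simp [π, ev, Fintype.linearCombination_apply, map_sum, map_smul]
  have hev_inj : Function.Injective ev := by
    intro φ ψ h
    ext a
    obtain ⟨c, rfl⟩ := hπ a
    rw [hφπ, hφπ, h]
  have hJsmul : ∀ (a : MvPolynomial (Fin d) k), a ∈ Ideal.span (Set.range f) →
      ∀ b : MvPolynomial (Fin d) k ⧸ Ideal.span (Set.range f), a • b = 0 := by
    intro a ha b
    rw [smul_quot_eq, Ideal.Quotient.eq_zero_iff_mem.mpr ha, zero_mul]
  have hev_surj : Function.Surjective ev := by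
    intro b
    let β : (Fin n → MvPolynomial (Fin d) k) →ₗ[MvPolynomial (Fin d) k]
        (MvPolynomial (Fin d) k ⧸ Ideal.span (Set.range f)) :=
      Fintype.linearCombination (MvPolynomial (Fin d) k) b
    have hkβ : LinearMap.ker π ≤ LinearMap.ker β := by
      intro c hc
      rw [LinearMap.mem_ker] at hc ⊢
      have h0 : ∑ i, c i * f i = 0 := by rw [← hπval, hc]; rfl
      have hc' := hkey c h0
      simp only [β, Fintype.linearCombination_apply]
      exact Finset.sum_eq_zero fun i _ => hJsmul _ (hc' i) _
    refine ⟨((LinearMap.ker π).liftQ β hkβ) ∘ₗ (π.quotKerEquivOfSurjective hπ).symm.toLinearMap, ?_⟩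
    funext i
    have hgen : gen i = π (Pi.single i 1) := by
      simp [π, Fintype.linearCombination_apply_single]
    have hsymm : (π.quotKerEquivOfSurjective hπ).symm (π (Pi.single i 1)) =
        Submodule.Quotient.mk (Pi.single i 1) := by
      rw [LinearEquiv.symm_apply_eq]
      rfl
    change ((LinearMap.ker π).liftQ β hkβ) ((π.quotKerEquivOfSurjective hπ).symm (gen i)) = b i
    rw [hgen, hsymm, Submodule.liftQ_apply]
    simp [β, Fintype.linearCombination_apply_single]
  let mkQ' : (Fin n → MvPolynomial (Fin d) k ⧸ Ideal.span (Set.range f)) →ₗ[MvPolynomial (Fin d) k]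
      ((Fin n → MvPolynomial (Fin d) k ⧸ Ideal.span (Set.range f)) ⧸
        Submodule.span (MvPolynomial (Fin d) k ⧸ Ideal.span (Set.range f))
          (Set.range fun j : Fin d => fun i : Fin n =>
            Ideal.Quotient.mk (Ideal.span (Set.range f)) (pderiv j (f i)))) :=
    { toFun := fun v => Submodule.Quotient.mk v, map_add' := fun _ _ => rfl,
      map_smul' := fun _ _ => rfl }
  let g := mkQ' ∘ₗ ev
  have hgsurj : Function.Surjective g := by
    intro y
    obtain ⟨v, rfl⟩ := Submodule.Quotient.mk_surjective _ y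
    obtain ⟨φ, rfl⟩ := hev_surj v
    exact ⟨φ, rfl⟩
  have hDf : ∀ (D : Derivation k (MvPolynomial (Fin d) k)
      (MvPolynomial (Fin d) k ⧸ Ideal.span (Set.range f))) (c : Fin n → MvPolynomial (Fin d) k),
      D (∑ i, c i * f i) = ∑ i, c i • D (f i) := by
    intro D c
    rw [map_sum]
    apply Finset.sum_congr rfl
    intro i _
    rw [Derivation.leibniz, hJsmul (f i) (Ideal.subset_span (Set.mem_range_self i)), add_zero]
  have hker : LinearMap.ker g = Submodule.span (MvPolynomial (Fin d) k)
      {ψ : ↥(Ideal.span (Set.range f)) →ₗ[MvPolynomial (Fin d) k]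
          (MvPolynomial (Fin d) k ⧸ Ideal.span (Set.range f)) |
        ∃ D : Derivation k (MvPolynomial (Fin d) k)
          (MvPolynomial (Fin d) k ⧸ Ideal.span (Set.range f)),
          ∀ a : ↥(Ideal.span (Set.range f)), ψ a = D (a : MvPolynomial (Fin d) k)} := by
    apply le_antisymm
    · intro φ hφ
      rw [LinearMap.mem_ker] at hφ
      have hφ' : ev φ ∈ Submodule.span (MvPolynomial (Fin d) k ⧸ Ideal.span (Set.range f))
          (Set.range fun j : Fin d => fun i : Fin n =>
            Ideal.Quotient.mk (Ideal.span (Set.range f)) (pderiv j (f i))) :=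
        (Submodule.Quotient.mk_eq_zero _).mp hφ
      obtain ⟨c, hc⟩ := (Submodule.mem_span_range_iff_exists_fun _).mp hφ'
      apply Submodule.subset_span
      refine ⟨mkDerivation k c, ?_⟩
      intro a
      obtain ⟨c', rfl⟩ := hπ a
      rw [hφπ, hπval, hDf]
      apply Finset.sum_congr rfl
      intro i _
      congr 1
      rw [derivation_formula, ← hc]
      simp [mkDerivation_X, mul_comm]
    · rw [Submodule.span_le]
      rintro ψ ⟨D, hD⟩
      rw [SetLike.mem_coe, LinearMap.mem_ker]
      apply (Submodule.Quotient.mk_eq_zero _).mpr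
      have : ev ψ = ∑ j : Fin d, D (X j) • (fun i : Fin n =>
          Ideal.Quotient.mk (Ideal.span (Set.range f)) (pderiv j (f i))) := by
        funext i
        change ψ (gen i) = _
        rw [hD, derivation_formula]
        simp [mul_comm, gen]
      rw [this]
      exact Submodule.sum_mem _ fun j _ => Submodule.smul_mem _ _ (Submodule.subset_span ⟨j, rfl⟩)
  let e0 := (Submodule.span (MvPolynomial (Fin d) k)
      {ψ : ↥(Ideal.span (Set.range f)) →ₗ[MvPolynomial (Fin d) k]
          (MvPolynomial (Fin d) k ⧸ Ideal.span (Set.range f)) |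
        ∃ D : Derivation k (MvPolynomial (Fin d) k)
          (MvPolynomial (Fin d) k ⧸ Ideal.span (Set.range f)),
          ∀ a : ↥(Ideal.span (Set.range f)), ψ a = D (a : MvPolynomial (Fin d) k)}).liftQ g
      (le_of_eq hker.symm)
  have he0inj : Function.Injective e0 := by
    rw [← LinearMap.ker_eq_bot]
    exact Submodule.ker_liftQ_eq_bot _ _ _ (le_of_eq hker)
  have he0surj : Function.Surjective e0 := by
    intro y
    obtain ⟨φ, rfl⟩ := hgsurj y
    exact ⟨Submodule.Quotient.mk φ, rfl⟩
  exact ⟨LinearEquiv.ofBijective e0 ⟨he0inj, he0surj⟩, fun φ => rfl⟩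

end Groth.Agent.S11302
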