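import Groth.Statements.S11306
import Mathlib

set_option autoImplicit false
universe u
open TensorProduct
open CAlg

namespace Groth.Agent.S11306

/-- Take a Noetherian local domain A, with residue field k and fraction field K, and let M be a finitely
generated A-module. If k ⊗_A M and K ⊗_A M have the same dimension r (over k and over K
respectively), then M is a free A-module of rank r. -/
theorem result (A : Type u) [CommRing A] [IsDomain A]
    [IsNoetherianRing A] [IsLocalRing A] (M : Type u) [AddCommGroup M] [Module A M] [Module.Finite A M] (r : ℕ)
    (hk : Module.finrank (IsLocalRing.ResidueField A) (IsLocalRing.ResidueField A ⊗[A] M) = r)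
    (hK : Module.finrank (FractionRing A) (FractionRing A ⊗[A] M) = r) :
    Module.Free A M ∧ Module.finrank A M = r := by
  classical
  let k := IsLocalRing.ResidueField A
  let K := FractionRing A
  let w : Module.Basis (Fin r) k (k ⊗[A] M) := Module.finBasisOfFinrankEq k _ hk
  have hsurj : Function.Surjective (TensorProduct.mk A k M 1) :=
    TensorProduct.mk_surjective A M k Ideal.Quotient.mk_surjective
  choose v hv using fun i => hsurj (w i)
  have hspan : Submodule.span A (Set.range v) = ⊤ :=
    IsLocalRing.span_eq_top_of_tmul_eq_basis v w hv
  let vK : Fin r → K ⊗[A] M := fun i => (1 : K) ⊗ₜ[A] v i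
  have hspanK : ⊤ ≤ Submodule.span K (Set.range vK) := by
    have h1 : (Submodule.span A (Set.range v)).baseChange K = ⊤ := by
      rw [hspan, Submodule.baseChange_top]
    rw [Submodule.baseChange_span, ← Set.range_comp] at h1
    rw [← h1]
    rfl
  have hliK : LinearIndependent K vK :=
    linearIndependent_of_top_le_span_of_card_eq_finrank hspanK (by rw [Fintype.card_fin, hK])
  have hliA : LinearIndependent A vK := by
    apply LinearIndependent.restrict_scalars _ hliK
    intro a b hab
    simp only [Algebra.smul_def, mul_one] at hab
    exact IsFractionRing.injective A K hab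
  have hli : LinearIndependent A v :=
    LinearIndependent.of_comp (TensorProduct.mk A K M 1) hliA
  let b : Module.Basis (Fin r) A M := Module.Basis.mk hli hspan.ge
  exact ⟨Module.Free.of_basis b, by rw [Module.finrank_eq_card_basis b, Fintype.card_fin]⟩

end Groth.Agent.S11306
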