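import Groth.Statements.S11311
import Mathlib
import Groth.Agent.Lib.Helper65.RegularSmooth
-- import your own Groth.Agent.* helpers here

set_option autoImplicit false
universe u
open CAlg

namespace Groth.Agent.S11311
open IsLocalRing TensorProduct KaehlerDifferential


/-- Let k be a field and B a local ring containing k whose residue field is k (the composite k → B → B/m
is bijective), and which is a localization of a finitely generated k-algebra (essentially of finite
type over k); let d = dim B. If the module of differentials Ω_{B/k} is free of rank d then B is a
regular local ring. Conversely, if k is perfect and B is a regular local ring, then Ω_{B/k} is free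
of rank d. (The published statement assumes k perfect as one of its hypotheses and asserts the
equivalence; its proof of the first implication does not use perfectness, so that hypothesis is
placed on the converse only.) -/
theorem result (k B : Type u) [Field k] [CommRing B] [Algebra k B]
    [IsLocalRing B] [Algebra.EssFiniteType k B]
    (hres : Function.Bijective (algebraMap k (IsLocalRing.ResidueField B)))
    (d : ℕ) (hd : ringKrullDim B = (d : WithBot ℕ∞)) :
    ((Module.Free B (KaehlerDifferential k B) ∧ Module.finrank B (KaehlerDifferential k B) = d) →
        IsRegularLocalRing B) ∧
      (PerfectField k → IsRegularLocalRing B →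
        Module.Free B (KaehlerDifferential k B) ∧ Module.finrank B (KaehlerDifferential k B) = d) := by
  have hN : IsNoetherianRing B := Algebra.EssFiniteType.isNoetherianRing k B
  have hfr := Groth.Agent.Lib.Helper65.RegularSmooth.finrank_cotangentSpace_eq k B hres
  constructor
  · rintro ⟨hfree, hrank⟩
    rw [IsRegularLocalRing.iff_finrank_cotangentSpace, hfr, Module.finrank_baseChange, hrank, hd]
  · intro hperf hreg
    have : Algebra.EssFiniteType k (ResidueField B) :=
      inferInstanceAs (Algebra.EssFiniteType k (B ⧸ maximalIdeal B))
    have : Algebra.FormallySmooth k (ResidueField B) := Algebra.FormallySmooth.of_perfectField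
    have : Algebra.FormallySmooth k B :=
      Groth.Agent.Lib.Helper65.RegularSmooth.formallySmooth_of_isRegularLocalRing k B
    have : Module.Free B Ω[B⁄k] := Module.free_of_flat_of_isLocalRing
    refine ⟨this, ?_⟩
    have h1 := (IsRegularLocalRing.iff_finrank_cotangentSpace B).mp hreg
    rw [hfr, Module.finrank_baseChange, hd] at h1
    exact_mod_cast h1


end Groth.Agent.S11311
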