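import Groth.Statements.S11320
import Groth.Agent.Lib.Helper28.FiltSheaf
import Mathlib.Topology.NoetherianSpace

set_option autoImplicit false
universe u
open CategoryTheory CategoryTheory.Limits
open CohTop

namespace Groth.Agent.S11320

open Groth.Agent.Lib.Helper28 TopologicalSpace Opposite

lemma finCovers {X : TopCat.{u}} [TopologicalSpace.NoetherianSpace X] :
    FiltSheaf.FinCovers.{u} (Opens.grothendieckTopology X) Set.univ := by
  intro W _ T hT
  have hpt : ∀ x : W, ∃ W' : Opens X, ∃ f : W' ⟶ W, T.arrows f ∧ (x : X) ∈ W' := fun x => hT x.1 x.2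
  choose W' f hfT hxW using hpt
  have hWc : IsCompact (W : Set X) := TopologicalSpace.NoetherianSpace.isCompact _
  obtain ⟨t, ht⟩ := hWc.elim_finite_subcover (fun x : W => ((W' x : Opens X) : Set X))
    (fun x => (W' x).2) (fun x hx => Set.mem_iUnion.2 ⟨⟨x, hx⟩, hxW ⟨x, hx⟩⟩)
  refine ⟨↥t, inferInstance, fun i => W' i.1, fun i => f i.1, fun i j => W' i.1 ⊓ W' j.1,
    fun i j => homOfLE inf_le_left, fun i j => homOfLE inf_le_right, fun i => hfT i.1, ?_,
    fun _ _ => Set.mem_univ _, fun _ _ => Subsingleton.elim _ _, ?_⟩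
  · intro x hx
    obtain ⟨i, hi, hxi⟩ := Set.mem_iUnion₂.1 (ht hx)
    exact ⟨W' i, f i, Sieve.ofArrows_mk _ _ (⟨i, hi⟩ : ↥t), hxi⟩
  · intro i j Z' g₁ g₂ _
    exact ⟨homOfLE (le_inf (leOfHom g₁) (leOfHom g₂)), Subsingleton.elim _ _,
      Subsingleton.elim _ _⟩

/-- On a Noetherian topological space X, the direct limit, in the category of abelian sheaves, of a
directed system (F_i) of flasque abelian sheaves indexed by a nonempty directed preorder is flasque
(all its restriction maps are surjective). -/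
theorem result {X : TopCat.{u}} [TopologicalSpace.NoetherianSpace X]
    (ι : Type u) [Preorder ι] [IsDirected ι (· ≤ ·)] [Nonempty ι]
    (D : ι ⥤ CohTop.Ab X) (hD : ∀ i : ι, TopCat.Sheaf.IsFlasque (D.obj i)) :
    TopCat.Sheaf.IsFlasque (colimit D : CohTop.Ab X) := by
  constructor
  intro U V i
  rw [AddCommGrpCat.epi_iff_surjective]
  intro t
  have hp := FiltSheaf.preservesColimit_sections (Opens.grothendieckTopology X) D Set.univ
    finCovers (Set.mem_univ V.unop)
  have hc := isColimitOfPreserves (sheafToPresheaf (Opens.grothendieckTopology X)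
    AddCommGrpCat.{u} ⋙ (evaluation (Opens X)ᵒᵖ AddCommGrpCat.{u}).obj (op V.unop))
      (colimit.isColimit D)
  obtain ⟨k, tk, htk⟩ := Concrete.isColimit_exists_rep _ hc t
  have hepi := (hD k).epi i
  rw [AddCommGrpCat.epi_iff_surjective] at hepi
  obtain ⟨sk, hsk⟩ := hepi tk
  refine ⟨(colimit.ι D k).hom.app U sk, ?_⟩
  have hn := NatTrans.naturality_apply (colimit.ι D k).hom i sk
  rw [← hn, hsk]
  exact htk

end Groth.Agent.S11320
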