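import Groth.Statements.S11321
import Mathlib
import Groth.Agent.Lib.Helper7.FlatClosure2

set_option autoImplicit false
set_option linter.style.haveILetI false
universe u
open CategoryTheory CategoryTheory.Limits AlgebraicGeometry
open FlatMor

namespace Groth.Agent.S11321

open CategoryTheory.Limits TopologicalSpace Opposite
open FlatMor
open Groth.Agent.Lib.Helper7.GenFibreDense Groth.Agent.Lib.Helper7.FlatClosure

/-- General form: flat limits along a dense open of a "Dedekind" base, inside any scheme over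
the base. -/
lemma flat_limit {Y W : Scheme.{u}} [IsIntegral Y] [IsLocallyNoetherian Y]
    (hY : ∀ y : Y, ValuationRing (Y.presheaf.stalk y)) (p : W ⟶ Y) (U : Y.Opens)
    (hU : (U : Set Y).Nonempty)
    (X : Scheme.{u}) (i : X ⟶ ↑(p ⁻¹ᵁ U)) [IsClosedImmersion i]
    [Flat (i ≫ (p ⁻¹ᵁ U).ι ≫ p)] :
    ∃ (X' : Scheme.{u}) (i' : X' ⟶ W) (j : X ⟶ X'),
      IsClosedImmersion i' ∧ Flat (i' ≫ p) ∧
      IsPullback j i i' (p ⁻¹ᵁ U).ι ∧
      ∀ (X'' : Scheme.{u}) (i'' : X'' ⟶ W) (j'' : X ⟶ X''),
        IsClosedImmersion i'' → Flat (i'' ≫ p) →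
        IsPullback j'' i i'' (p ⁻¹ᵁ U).ι →
        ∃ e : X' ≅ X'', e.hom ≫ i'' = i' := by
  haveI : QuasiCompact U.ι := inferInstance
  haveI : QuasiCompact (p ⁻¹ᵁ U).ι :=
    MorphismProperty.of_isPullback (P := @QuasiCompact) (isPullback_morphismRestrict p U)
      inferInstance
  haveI : IsSchemeTheoreticallyDominant U.ι := by
    haveI : IsDominant U.ι := by
      constructor
      rw [DenseRange, Scheme.Opens.range_ι]
      exact U.isOpen.dense hU
    exact IsSchemeTheoreticallyDominant.of_isDominant _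
  let h : X ⟶ W := i ≫ (p ⁻¹ᵁ U).ι
  haveI : QuasiCompact h := inferInstance
  haveI : Flat (h.toImage ≫ h.imageι ≫ p) := by
    rw [Scheme.Hom.toImage_imageι_assoc]
    change Flat ((i ≫ (p ⁻¹ᵁ U).ι) ≫ p)
    rw [Category.assoc]
    infer_instance
  refine ⟨h.image, h.imageι, h.toImage, inferInstance,
    flat_of_flat_comp hY (h.imageι ≫ p) h.toImage, isPullback_toImage _ _, ?_⟩
  intro X'' i'' j'' _ _ hpb
  have h3 := (hpb.paste_vert (isPullback_morphismRestrict p U).flip).flip
  haveI : IsSchemeTheoreticallyDominant j'' := IsSchemeTheoreticallyDominant.of_isPullback h3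
  have hk : i''.ker = h.imageι.ker := by
    rw [Scheme.IdealSheafData.ker_subschemeι]
    change i''.ker = (i ≫ (p ⁻¹ᵁ U).ι).ker
    rw [← hpb.w, Scheme.Hom.ker_comp, j''.ker_eq_bot, Scheme.IdealSheafData.map_bot]
  refine ⟨⟨IsClosedImmersion.lift i'' h.imageι hk.le,
    IsClosedImmersion.lift h.imageι i'' hk.ge, ?_, ?_⟩, ?_⟩
  · rw [← cancel_mono h.imageι, Category.assoc, IsClosedImmersion.lift_fac,
      IsClosedImmersion.lift_fac, Category.id_comp]
  · rw [← cancel_mono i'', Category.assoc, IsClosedImmersion.lift_fac,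
      IsClosedImmersion.lift_fac, Category.id_comp]
  · exact IsClosedImmersion.lift_fac _ _ _

lemma genericPoint_mem_of_compl_singleton {Y : Scheme.{u}} [IsIntegral Y]
    (hY : topologicalKrullDim ↥Y = 1) (P : Y) (U : Y.Opens) (hU : (U : Set ↥Y) = {P}ᶜ) :
    genericPoint Y ∈ (U : Set Y) := by
  by_contra hmem
  have hP : genericPoint Y = P := by
    rw [hU] at hmem
    simpa using hmem
  have hcl : IsClosed ({P} : Set Y) := by
    have : IsOpen ({P}ᶜ : Set Y) := hU ▸ U.isOpen
    exact isOpen_compl_iff.mp this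
  have huniv : ({P} : Set Y) = Set.univ := by
    rw [← hcl.closure_eq, ← hP]
    exact genericPoint_spec Y
  haveI : Subsingleton Y := by
    constructor
    intro a b
    have ha : a ∈ ({P} : Set Y) := huniv ▸ Set.mem_univ a
    have hb : b ∈ ({P} : Set Y) := huniv ▸ Set.mem_univ b
    rw [Set.mem_singleton_iff.mp ha, Set.mem_singleton_iff.mp hb]
  have := topologicalKrullDim_zero_of_discreteTopology Y
  rw [hY] at this
  exact absurd this (by decide)


/-- Flat limits over a curve: let Y be a locally Noetherian integral scheme of dimension one all of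
whose local rings are regular local rings, P a closed point of Y with open complement U, V = P^n_U
the inverse image of U in P^n_Y, and X a closed subscheme of V (a closed immersion i : X → V) which
is flat over Y, equivalently over U. Then X extends to a closed subscheme X' of P^n_Y which is flat
over Y and whose restriction to V is X — there are a closed immersion i' : X' → P^n_Y with X' → Y
flat and a morphism j : X → X' making X the fibre product of X' and V over P^n_Y — and such an
extension is unique: for any second one (X'', i'', j'') there is an isomorphism X' ≅ X'' over P^n_Y.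
(The published statement does not say that Y is locally Noetherian; the printed argument, through
associated points and the scheme-theoretic closure, uses it, and this row assumes it.) -/
theorem result
    {Y : Scheme.{u}} [IsIntegral Y] [IsLocallyNoetherian Y] (hreg : ∀ y : Y, IsRegularLocalRing (Y.presheaf.stalk y))
    (hY : topologicalKrullDim ↥Y = 1) (P : Y) (U : Y.Opens) (hU : (U : Set ↥Y) = {P}ᶜ) (n : ℕ)
    (X : Scheme.{u}) (i : X ⟶ ↑(CohB1.ProjSpaceOver.toBase n Y ⁻¹ᵁ U)) [IsClosedImmersion i]
    [Flat (i ≫ (CohB1.ProjSpaceOver.toBase n Y ⁻¹ᵁ U).ι ≫ CohB1.ProjSpaceOver.toBase n Y)] :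
    ∃ (X' : Scheme.{u}) (i' : X' ⟶ CohB1.ProjSpaceOver n Y) (j : X ⟶ X'),
      IsClosedImmersion i' ∧ Flat (i' ≫ CohB1.ProjSpaceOver.toBase n Y) ∧
      IsPullback j i i' (CohB1.ProjSpaceOver.toBase n Y ⁻¹ᵁ U).ι ∧
      ∀ (X'' : Scheme.{u}) (i'' : X'' ⟶ CohB1.ProjSpaceOver n Y) (j'' : X ⟶ X''),
        IsClosedImmersion i'' → Flat (i'' ≫ CohB1.ProjSpaceOver.toBase n Y) →
        IsPullback j'' i i'' (CohB1.ProjSpaceOver.toBase n Y ⁻¹ᵁ U).ι →
        ∃ e : X' ≅ X'', e.hom ≫ i'' = i' := by
  have hY' : ∀ y : Y, ValuationRing (Y.presheaf.stalk y) := fun y => by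
    haveI := hreg y
    apply valuationRing_of_regular
    rw [← PrimeSpectrum.topologicalKrullDim_eq_ringKrullDim, ← hY]
    exact (Y.fromSpecStalk y).isEmbedding.isInducing.topologicalKrullDim_le
  exact flat_limit hY' (CohB1.ProjSpaceOver.toBase n Y) U
    ⟨genericPoint Y, genericPoint_mem_of_compl_singleton hY P U hU⟩ X i

end Groth.Agent.S11321
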