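import Groth.Statements.S11322
import Groth.Agent.Lib.Helper22.FlatDim

set_option autoImplicit false
universe u
open CategoryTheory AlgebraicGeometry
open FlatMor

namespace Groth.Agent.S11322

/-- Let k be a field, X and Y schemes of finite type over k with Y irreducible, f : X → Y a flat
k-morphism and n a natural number. Then all irreducible components of X have dimension dim Y + n if
and only if, for each point y of Y (generic points included), all irreducible components of the
fibre of f over y have dimension n. -/
theorem result (k : Type u) [Field k]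
    {X Y : Scheme.{u}} (qX : X ⟶ Spec (CommRingCat.of k)) (qY : Y ⟶ Spec (CommRingCat.of k))
    [LocallyOfFiniteType qX] [QuasiCompact qX] [LocallyOfFiniteType qY] [QuasiCompact qY]
    [IrreducibleSpace ↥Y] (f : X ⟶ Y) (hf : f ≫ qY = qX) [Flat f] (n : ℕ) :
    (∀ Z : Set ↥X, Z ∈ irreducibleComponents ↥X → topologicalKrullDim ↥Z = topologicalKrullDim ↥Y + (n : WithBot ℕ∞)) ↔
      ∀ (y : Y) (Z : Set ↥(f.fiber y)), Z ∈ irreducibleComponents ↥(f.fiber y) →
        topologicalKrullDim ↥Z = (n : WithBot ℕ∞) := by
  obtain ⟨d, hd, hY⟩ :=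
    Groth.Agent.Lib.Helper22.FlatDim.exists_dim_irreducibleComponents_of_irreducible qY
  have key := Groth.Agent.Lib.Helper22.FlatDim.equidim_iff_fibres_equidim_of_flat qX qY f hf d n hY
  rw [hd]
  have hcast : ((d : ℕ) : WithBot ℕ∞) + (n : WithBot ℕ∞) = ((d + n : ℕ) : WithBot ℕ∞) := by
    push_cast; rfl
  rw [hcast]
  exact key

end Groth.Agent.S11322
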