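import Groth.Statements.S11328
import Groth.Agent.Lib.Helper26.SheafHomRestr
import Groth.Agent.Lib.Helper26.DerivedExactComp
import Groth.Agent.Lib.Helper26.DegComposite

set_option autoImplicit false
universe u
open CategoryTheory AlgebraicGeometry
open Coherent

namespace Groth.Agent.S11328


section Aux
open Groth.Agent.Lib.Helper26 Scheme.Modules Limits

universe v₁ v₂ v₃ v₄ u₁ u₂ u₃ u₄

/-- right derived functors commute with exact "restriction" functors which preserve injectives -/
theorem derived_conj {A : Type u₁} [Category.{v₁} A] [Abelian A] [EnoughInjectives A]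
    {A' : Type u₂} [Category.{v₂} A'] [Abelian A'] [HasInjectiveResolutions A']
    {C : Type u₃} [Category.{v₃} C] [Abelian C] {C' : Type u₄} [Category.{v₄} C'] [Abelian C']
    (H : A ⥤ C) (hH : H.Additive) (H' : A' ⥤ C') (hH' : H'.Additive)
    (hH'l : PreservesFiniteLimits H')
    (r : A ⥤ A') (hr : r.Additive) (hrl : PreservesFiniteLimits r)
    (hrc : PreservesFiniteColimits r)
    (r' : C ⥤ C') (hr' : r'.Additive) (hrl' : PreservesFiniteLimits r')
    (hrc' : PreservesFiniteColimits r')
    (hinj : ∀ I : A, Injective I → Injective (r.obj I))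
    (e : H ⋙ r' ≅ r ⋙ H') (G : A) (i : ℕ) :
    Nonempty (r'.obj ((H.rightDerived i).obj G) ≅ (H'.rightDerived i).obj (r.obj G)) := by
  obtain ⟨e₁⟩ := DerivedExactComp.nonempty_rightDerived_comp_exact_iso H r' G i
  let e₂ := (DegComposite.rightDerivedMapIso e i).app G
  obtain ⟨e₃⟩ := DegComposite.nonempty_iso r H'
    (fun I _ q => by
      have : Injective (r.obj I) := hinj I inferInstance
      exact Functor.isZero_rightDerived_obj_injective_succ H' q _) G
    (fun q => DerivedExactComp.isZero_rightDerived_succ_of_exact r G q) i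
  exact ⟨e₁.symm ≪≫ e₂ ≪≫ e₃⟩

lemma preservesFiniteLimits_sheafHom {X : Scheme.{u}} (F : X.Modules)
    [ModSite.HasSheafHom (O := X.sheaf) F] :
    PreservesFiniteLimits (ModSite.sheafHom (O := X.sheaf) F) := by
  have := (ModSite.sheafHomAdj (O := X.sheaf) F).rightAdjoint_preservesLimits
  infer_instance

theorem main (X : Scheme.{u}) (U : X.Opens) (F G : X.Modules) (i : ℕ)
    [ModSite.HasSheafHom (O := X.sheaf) F] [HasInjectiveResolutions (ModSite.Mod X.sheaf)]
    [ModSite.HasSheafHom (O := (↑U : Scheme.{u}).sheaf) (F.restrict U.ι)]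
    [HasInjectiveResolutions (ModSite.Mod (↑U : Scheme.{u}).sheaf)] :
    Nonempty ((Scheme.Modules.restrictFunctor U.ι).obj ((ModSite.extSh (O := X.sheaf) F i).obj G) ≅
      (ModSite.extSh (O := (↑U : Scheme.{u}).sheaf) (F.restrict U.ι) i).obj (G.restrict U.ι)) := by
  have hei := QCohRpush.enoughInjectives_modules X
  have hra := ModMV.restrictFunctor_additive U.ι
  let H : X.Modules ⥤ X.Modules := ModSite.sheafHom (O := X.sheaf) F
  let H' : (U : Scheme.{u}).Modules ⥤ (U : Scheme.{u}).Modules :=
    ModSite.sheafHom (O := (↑U : Scheme.{u}).sheaf) (F.restrict U.ι)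
  have hH : H.Additive := ModSite.sheafHom_additive (O := X.sheaf) F
  have hH' : H'.Additive :=
    ModSite.sheafHom_additive (O := (↑U : Scheme.{u}).sheaf) (F.restrict U.ι)
  have hH'l : PreservesFiniteLimits H' := preservesFiniteLimits_sheafHom (F.restrict U.ι)
  have hirU : HasInjectiveResolutions (U : Scheme.{u}).Modules :=
    ‹HasInjectiveResolutions (ModSite.Mod (↑U : Scheme.{u}).sheaf)›
  have key := derived_conj (A := X.Modules) (A' := (U : Scheme.{u}).Modules) (C := X.Modules)
    (C' := (U : Scheme.{u}).Modules) H hH H' hH' hH'l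
    (restrictFunctor U.ι) hra inferInstance inferInstance
    (restrictFunctor U.ι) hra inferInstance inferInstance
    (fun I hI => ExtZeroSch.injective_restrict U I)
    (SheafHomRestr.homRestrIso U F) G i
  exact key
end Aux



/-- Let X be a scheme, U an open subscheme, F and G O_X-modules and i ≥ 0. Then the restriction to U of
the Ext sheaf Ext^i_X(F, G) — the i-th right derived functor of the internal Hom functor Hom(F, -)
on O_X-modules, evaluated at G — is isomorphic to the Ext sheaf Ext^i_U(F|_U, G|_U) formed on U.
(The internal Hom functors and injective resolutions on X and on U are the stated instance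
hypotheses, all true; stated for schemes, the published statement being for ringed spaces; existence
of an isomorphism of O_U-modules.) -/
theorem result (X : Scheme.{u}) (U : X.Opens) (F G : X.Modules) (i : ℕ)
    [ModSite.HasSheafHom (O := X.sheaf) F] [HasInjectiveResolutions (ModSite.Mod X.sheaf)]
    [ModSite.HasSheafHom (O := (↑U : Scheme.{u}).sheaf) (F.restrict U.ι)]
    [HasInjectiveResolutions (ModSite.Mod (↑U : Scheme.{u}).sheaf)] :
    Nonempty ((Scheme.Modules.restrictFunctor U.ι).obj ((ModSite.extSh (O := X.sheaf) F i).obj G) ≅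
      (ModSite.extSh (O := (↑U : Scheme.{u}).sheaf) (F.restrict U.ι) i).obj (G.restrict U.ι)) := by
  exact main X U F G i

end Groth.Agent.S11328
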