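import Groth.Statements.S11329
import Groth.Agent.Lib.Helper42.LCSpec3
import Groth.Agent.Lib.Helper98.KoszulCechLim
import Groth.Agent.Lib.Helper98.CechLC

set_option autoImplicit false
universe u
open CategoryTheory AlgebraicGeometry Opposite
open Coherent

namespace Groth.Agent.S11329

/-- Let A be a Noetherian ring and I an injective A-module. Then the quasi-coherent sheaf I~ on Spec A
associated with I is flasque: for all opens U ⊆ V of Spec A the restriction map I~(V) → I~(U) is
surjective. -/
theorem result (A : Type u) [CommRing A] [IsNoetherianRing A]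
    (I : Type u) [AddCommGroup I] [Module A I] [Module.Injective A I]
    (U V : (Spec (CommRingCat.of A)).Opens) (hUV : U ≤ V) :
    Function.Surjective ((tilde (ModuleCat.of A I)).val.map (homOfLE hUV).op).hom := by
  have hfl : TopCat.Sheaf.IsFlasque (Coh.toAb (tilde (R := CommRingCat.of A) (ModuleCat.of A I))) := by
    apply Groth.Agent.Lib.Helper42.LCSpec3.isFlasque_of_subsingleton A (ModuleCat.of A I)
    intro fs
    obtain ⟨e⟩ := Groth.Agent.Lib.Helper98.KoszulCechLim.koszulHLim_equiv fs (ModuleCat.of A I) 1
    haveI : Injective (ModuleCat.of A I) := Module.injective_object_of_injective_module A I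
    have hz := Helper98.CechLC.cech_injective_zero (ModuleCat.of A I) fs 1 le_rfl
    haveI := ModuleCat.isZero_iff_subsingleton.mp hz
    exact e.toEquiv.subsingleton
  have hepi := hfl.epi (homOfLE hUV).op
  have hs := (AddCommGrpCat.epi_iff_surjective _).1 hepi
  exact hs

end Groth.Agent.S11329
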