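import Groth.Statements.S11360
import Groth.Agent.Lib.Helper39.Dual.LocalGlobal
-- import your own Groth.Agent.* helpers here

set_option autoImplicit false
universe u
open CategoryTheory
attribute [local instance] HasDerivedCategory.standard
open Dual

namespace Groth.Agent.S11360

/-- Let A be a Noetherian ring and R an object of D(A) with finite cohomology modules and of finite
injective dimension (isomorphic to a bounded complex of injective modules). If for every prime p of
A the derived base change of R to A_p (the total left derived functor of extension of scalars,
assumed to exist) is a dualizing complex for A_p, then R is a dualizing complex for A. (The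
published statement is for a locally Noetherian scheme and the stalks at all points; this row is the
affine case. Without the global finite injective dimension hypothesis the conclusion fails, e.g. for
a regular Noetherian ring of infinite Krull dimension.) -/
theorem result (A : Type u) [CommRing A] [IsNoetherianRing A] (R : Dual.D A) (hfin : ∀ i : ℤ, Module.Finite A (Dual.HD A R i)) (hfid : DRing.HasFiniteInjDim A R) [∀ p : PrimeSpectrum A, DRing.HasLBaseChange (algebraMap A (Localization.AtPrime p.asIdeal))] (h : ∀ p : PrimeSpectrum A, Dual.IsDualizing (Localization.AtPrime p.asIdeal) ((DRing.LBaseChange (algebraMap A (Localization.AtPrime p.asIdeal))).obj R)) : Dual.IsDualizing A R := by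
  obtain ⟨a, b, E, hvan, hinj, ⟨e⟩⟩ := hfid
  refine Lib.Helper39.Dual.isDualizing_of_forall_LBaseChange R E a b
    (fun n => (Module.injective_iff_injective_object A (E.X n)).mp (hinj n)) hvan e hfin
    Set.univ (fun 𝔞 h𝔞 => ?_) (fun p _ => ⟨inferInstance, h p⟩)
  obtain ⟨m, hm, hle⟩ := Ideal.exists_le_maximal 𝔞 h𝔞
  exact ⟨⟨m, hm.isPrime⟩, Set.mem_univ _, hle⟩

end Groth.Agent.S11360
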