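import Groth.Statements.S11377
import Groth.Agent.S10947
import Groth.Agent.Lib.Helper38.LocSpanPow
import Groth.Agent.Lib.Helper93.SerreVan

set_option autoImplicit false
universe u
open CategoryTheory CategoryTheory.Limits AlgebraicGeometry TopologicalSpace
open CohDim

namespace Groth.Agent.S11377

/-- Let S be an integral scheme, separated and of finite type over an algebraically closed field k, with
all local rings regular, let L be an ample invertible O_S-module with tensor inverse M (so S is
quasi-projective and M^{⊗m} plays the role of O_S(-m)), and let r ≥ 0. If there is m₀ such that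
H^i(S, M^{⊗m}) = 0 for every i > r and every m ≥ m₀, then H^i(S, F) = 0 for every i > r and every
coherent O_S-module F. (The published statement takes O_S(1) from a quasi-projective embedding; the
printed proof uses only that F ⊗ O_S(m) is generated by finitely many global sections for m ≫ 0,
which holds for any ample L.) -/
theorem result (k : Type u) [Field k] [IsAlgClosed k] (S : Scheme.{u})
    [S.Over (Spec (CommRingCat.of k))] [IsSeparated (S ↘ (Spec (CommRingCat.of k)))]
    [LocallyOfFiniteType (S ↘ (Spec (CommRingCat.of k)))] [QuasiCompact (S ↘ (Spec (CommRingCat.of k)))]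
    [IsIntegral S] (hreg : ∀ x : S, IsRegularLocalRing (S.presheaf.stalk x))
    (L M : S.Modules) (hL : CohB1.IsAmple L) (hM : ClSub.IsInverseOf M L) (r : ℕ)
    (hneg : ∃ m₀ : ℕ, ∀ m : ℕ, m₀ ≤ m → ∀ i : ℕ, r < i → Subsingleton (Coh.HH S (CohB1.tensorPow M m) i))
    (F : S.Modules) (hF : Coh.IsCoh F) (i : ℕ) (hi : r < i) :
    Subsingleton (Coh.HH S F i) := by
  classical
  haveI : CompactSpace S :=
    QuasiCompact.compactSpace_of_compactSpace (S ↘ (Spec (CommRingCat.of k)))
  haveI : S.IsSeparated := by
    refine ⟨?_⟩
    rw [← Limits.terminal.comp_from (S ↘ (Spec (CommRingCat.of k)))]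
    infer_instance
  haveI : IsLocallyNoetherian S :=
    LocallyOfFiniteType.isLocallyNoetherian (S ↘ (Spec (CommRingCat.of k)))
  obtain ⟨m₀, hm₀⟩ := hneg
  obtain ⟨m, hm⟩ := Groth.Agent.S10947.exists_bound_of_compact_separated S
  have hInvM : PicF.IsInvertible M := by
    obtain ⟨e₀⟩ := hM
    exact Groth.Agent.Lib.Helper35.TensorInv.isInvertible_of_tensor_iso M L e₀
  have key : ∀ (d : ℕ) (F : S.Modules), Coh.IsCoh F → ∀ i : ℕ, r < i → m ≤ i + d →
      Subsingleton (Coh.HH S F i) := by
    intro d
    induction d with
    | zero =>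
      intro F hF i _ hmi
      exact hm F hF.1 i (by simpa using hmi)
    | succ d ih =>
      intro F hF i hi hmi
      obtain ⟨a, ha, kk, π, hπ⟩ :=
        Groth.Agent.Lib.Helper38.LocSpanPow.exists_epi_sigma_tensorPow_inverse hL hM F hF m₀
      haveI := hπ
      have hInva : PicF.IsInvertible (CohB1.tensorPow M a) :=
        Groth.Agent.Lib.Lead.Inv.isInvertible_tensorPow hInvM a
      have hE : FlatMod.IsFinLocFree (∐ fun _ : Fin kk => CohB1.tensorPow M a) :=
        Groth.Agent.Lib.Helper35.ResProp.isFinLocFree_sigma hInva kk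
      have hEc : Coh.IsCoh (∐ fun _ : Fin kk => CohB1.tensorPow M a) :=
        Groth.Agent.Lib.Helper15.DCohLocal.isCoh_of_isFinLocFree _ hE
      haveI : (∐ fun _ : Fin kk => CohB1.tensorPow M a).IsQuasicoherent := hEc.1
      haveI : F.IsQuasicoherent := hF.1
      haveI : (Limits.kernel π).IsQuasicoherent :=
        Groth.Agent.Lib.Helper21.QCohKernel.isQuasicoherent_kernel π
      have hKc : Coh.IsCoh (Limits.kernel π) :=
        ⟨inferInstance, Groth.Agent.Lib.Helper21.CohNoeth.isFiniteType_of_mono
          (Limits.kernel.ι π) hEc.2⟩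
      let T : ShortComplex S.Modules :=
        ShortComplex.mk (Limits.kernel.ι π) π (Limits.kernel.condition π)
      have hT : T.ShortExact :=
        { exact := ShortComplex.exact_of_f_is_kernel T (Limits.kernelIsKernel π)
          mono_f := inferInstanceAs (Mono (Limits.kernel.ι π))
          epi_g := hπ }
      have hEvan : Subsingleton (Coh.HH S (∐ fun _ : Fin kk => CohB1.tensorPow M a) i) := by
        haveI : Limits.HasFiniteBiproducts S.Modules := Abelian.hasFiniteBiproducts
        have h1 : Subsingleton (Coh.HH S (⨁ fun _ : Fin kk => CohB1.tensorPow M a) i) :=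
          Groth.Agent.Lib.Helper93.SerreVan.subsingleton_HH_biproduct k
            (fun _ : Fin kk => CohB1.tensorPow M a) i (fun _ => hm₀ a ha i hi)
        exact Groth.Agent.Lib.Helper97.TwistExact.subsingleton_HH_of_iso'
          (Limits.biproduct.isoCoproduct (fun _ : Fin kk => CohB1.tensorPow M a)) i h1
      exact Groth.Agent.Lib.Helper97.TwistExact.subsingleton_HH_X₃ hT i hEvan
        (ih (Limits.kernel π) hKc (i + 1) (by omega) (by omega))
  exact key m F hF i hi (by omega)

end Groth.Agent.S11377
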