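import Groth.Statements.S11393
import Groth.Agent.Lib.Helper38.FormalLocal2

set_option autoImplicit false
universe u
open CategoryTheory CategoryTheory.Limits AlgebraicGeometry TopologicalSpace
open Variety

namespace Groth.Agent.S11393

/-- Let X be proper over an algebraically closed field k and 𝓘 a quasi-coherent ideal whose closed
subscheme Y is connected (and nonempty); let Y_m be the closed subscheme of 𝓘^{m+1} and A = lim_m
Γ(Y_m, O_{Y_m}) the ring of formal-regular functions along Y (global sections of the structure sheaf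
of the formal completion), formed as the limit in commutative rings along the restriction maps
Γ(Y_{m+1}, O) → Γ(Y_m, O). Then A is a local ring, and every element a of A differs from the image
of some constant c ∈ k by an element whose image in each Γ(Y_m, O_{Y_m}) is nilpotent (so the
residue field of A is k through the structure map). (The published statement also asserts that A is
a complete local ring; that clause is not included here.) -/
theorem result (k : Type u) [Field k] [IsAlgClosed k] (X : Scheme.{u})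
    [X.Over (Spec (CommRingCat.of k))] [IsProper (X ↘ (Spec (CommRingCat.of k)))]
    (𝓘 : X.IdealSheafData) (hY : _root_.IsConnected (𝓘.support : Set X)) :
    IsLocalRing ↑(limit (Functor.ofOpSequence
        (X := fun m : ℕ => Γ((𝓘 ^ (m + 1)).subscheme, ⊤))
        (fun m : ℕ => (Scheme.IdealSheafData.inclusion (Lef.pow_succ_le 𝓘 m)).appTop))) ∧
      ∀ a : ↑(limit (Functor.ofOpSequence
        (X := fun m : ℕ => Γ((𝓘 ^ (m + 1)).subscheme, ⊤))
        (fun m : ℕ => (Scheme.IdealSheafData.inclusion (Lef.pow_succ_le 𝓘 m)).appTop))),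
        ∃ c : k, ∀ m : ℕ, IsNilpotent (Sub.sub (α := ↑Γ((𝓘 ^ (m + 1)).subscheme, ⊤))
          ((limit.π (Functor.ofOpSequence
              (X := fun m : ℕ => Γ((𝓘 ^ (m + 1)).subscheme, ⊤))
              (fun m : ℕ => (Scheme.IdealSheafData.inclusion (Lef.pow_succ_le 𝓘 m)).appTop)) (Opposite.op m)).hom a)
          (((𝓘 ^ (m + 1)).subschemeι ≫ (X ↘ Spec (CommRingCat.of k))).appTop.hom
            ((Scheme.ΓSpecIso (CommRingCat.of k)).inv.hom c))) := by
  have hφ : ∀ m : ℕ,
      ((Scheme.IdealSheafData.inclusion (Lef.pow_succ_le 𝓘 m)).appTop).hom.comp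
        ((((𝓘 ^ (m + 1 + 1)).subschemeι ≫ (X ↘ Spec (CommRingCat.of k))).appTop.hom.comp
          (Scheme.ΓSpecIso (CommRingCat.of k)).inv.hom)) =
      (((𝓘 ^ (m + 1)).subschemeι ≫ (X ↘ Spec (CommRingCat.of k))).appTop.hom.comp
          (Scheme.ΓSpecIso (CommRingCat.of k)).inv.hom) := by
    intro m
    have h1 : Scheme.IdealSheafData.inclusion (Lef.pow_succ_le 𝓘 m) ≫
        ((𝓘 ^ (m + 1 + 1)).subschemeι ≫ (X ↘ Spec (CommRingCat.of k))) =
        (𝓘 ^ (m + 1)).subschemeι ≫ (X ↘ Spec (CommRingCat.of k)) := by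
      rw [← Category.assoc, Scheme.IdealSheafData.inclusion_subschemeι]
    have h2 := congrArg Scheme.Hom.appTop h1
    rw [Scheme.Hom.comp_appTop] at h2
    rw [← h2]
    rfl
  have hconn : ∀ m : ℕ, ConnectedSpace ↥((𝓘 ^ (m + 1)).subscheme) :=
    fun m => Groth.Agent.Lib.Helper38.FormalLocal2.connectedSpace_subscheme_pow 𝓘 hY m
  have hnt : ∀ m : ℕ, Nontrivial ↑(Γ((𝓘 ^ (m + 1)).subscheme, ⊤)) := by
    intro m
    haveI := hconn m
    exact Groth.Agent.Lib.Helper38.FormalLocal2.nontrivial_top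
  have hnil : ∀ (m : ℕ) (x : ↑(Γ((𝓘 ^ (m + 1)).subscheme, ⊤))),
      ∃ c : k, IsNilpotent (x -
        (((𝓘 ^ (m + 1)).subschemeι ≫ (X ↘ Spec (CommRingCat.of k))).appTop.hom.comp
          (Scheme.ΓSpecIso (CommRingCat.of k)).inv.hom) c) := by
    intro m x
    haveI := hconn m
    exact Groth.Agent.Lib.Helper38.FormalLocal2.exists_isNilpotent_sub_of_universallyClosed
      ((𝓘 ^ (m + 1)).subschemeι ≫ (X ↘ Spec (CommRingCat.of k))) x
  refine ⟨Groth.Agent.Lib.Helper38.FormalLocal1.isLocalRing_limit_ofOpSequence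
    (X := fun m : ℕ => Γ((𝓘 ^ (m + 1)).subscheme, ⊤))
    (fun m : ℕ => (Scheme.IdealSheafData.inclusion (Lef.pow_succ_le 𝓘 m)).appTop)
    (fun m => (((𝓘 ^ (m + 1)).subschemeι ≫ (X ↘ Spec (CommRingCat.of k))).appTop.hom.comp
          (Scheme.ΓSpecIso (CommRingCat.of k)).inv.hom)) hφ hnt hnil, ?_⟩
  intro a
  obtain ⟨c, hc⟩ := Groth.Agent.Lib.Helper38.FormalLocal1.exists_const_ofOpSequence
    (X := fun m : ℕ => Γ((𝓘 ^ (m + 1)).subscheme, ⊤))
    (fun m : ℕ => (Scheme.IdealSheafData.inclusion (Lef.pow_succ_le 𝓘 m)).appTop)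
    (fun m => (((𝓘 ^ (m + 1)).subschemeι ≫ (X ↘ Spec (CommRingCat.of k))).appTop.hom.comp
          (Scheme.ΓSpecIso (CommRingCat.of k)).inv.hom)) hφ hnt hnil a
  exact ⟨c, fun m => hc m⟩

end Groth.Agent.S11393
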