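import Groth.Statements.S11395
import Groth.Agent.Lib.Helper19.Grp.RigidityPoint

set_option autoImplicit false
universe u
open CategoryTheory MonoidalCategory CartesianMonoidalCategory MonObj GrpObj AlgebraicGeometry CategoryTheory.Limits
open AlgGrp

namespace Groth.Agent.S11395

/-- Over an algebraically closed field k, let X, Y and Z be k-schemes of finite type such that the only
global functions on X are the constants, Y is connected and Z is separated over k. Let f : X × Y → Z
be a k-morphism and y₀, z₀ rational points of Y, Z such that the restriction of f to X × y₀ is the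
constant morphism with value z₀ (as a morphism of schemes; for reduced X this is the condition on
closed points). Then there is a unique morphism g : Y → Z with f = g ∘ pr₂. -/
theorem result (k : Type u) [Field k] [IsAlgClosed k]
    (X Y Z : Over (Spec (CommRingCat.of k))) [LocallyOfFiniteType X.hom] [QuasiCompact X.hom]
    [LocallyOfFiniteType Y.hom] [QuasiCompact Y.hom] [LocallyOfFiniteType Z.hom] [QuasiCompact Z.hom]
    (hX : Function.Bijective ((Scheme.ΓSpecIso (CommRingCat.of k)).inv ≫ X.hom.appTop).hom)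
    [ConnectedSpace ↥Y.left] [IsSeparated Z.hom]
    (f : X ⊗ Y ⟶ Z) (y₀ : 𝟙_ (Over (Spec (CommRingCat.of k))) ⟶ Y) (z₀ : 𝟙_ (Over (Spec (CommRingCat.of k))) ⟶ Z)
    (hf : (X ◁ y₀) ≫ f = toUnit _ ≫ z₀) :
    ∃! g : Y ⟶ Z, f = snd X Y ≫ g := by
  haveI : IsLocallyNoetherian X.left := LocallyOfFiniteType.isLocallyNoetherian X.hom
  haveI : QuasiSeparatedSpace X.left := inferInstance
  haveI : CompactSpace X.left := QuasiCompact.compactSpace_of_compactSpace X.hom
  have hXiso : IsIso X.hom.appTop :=
    (Groth.Agent.Lib.Helper19.AntiAffine.bijective_iff_isIso X).mp hX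
  -- a rational point of `X`
  haveI hne : Nonempty X.left := by
    by_contra hemp
    rw [not_nonempty_iff] at hemp
    haveI : Subsingleton Γ(X.left, ⊤) := inferInstance
    have h01 : (0 : k) = 1 := hX.1 (Subsingleton.elim _ _)
    exact zero_ne_one h01
  haveI : JacobsonSpace X.left := LocallyOfFiniteType.jacobsonSpace (Y := Spec _) X.hom
  obtain ⟨xp, -, hxp⟩ := nonempty_inter_closedPoints (X := X.left) (Z := Set.univ)
    Set.univ_nonempty isOpen_univ.isLocallyClosed
  let x₀ : 𝟙_ (Over (Spec (CommRingCat.of k))) ⟶ X :=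
    Over.homMk (pointOfClosedPoint X.hom xp hxp) (pointOfClosedPoint_comp X.hom xp hxp)
  let sw : Y ⊗ X ⟶ X ⊗ Y := lift (snd Y X) (fst Y X)
  let sw' : X ⊗ Y ⟶ Y ⊗ X := lift (snd X Y) (fst X Y)
  have hsw : sw' ≫ sw = 𝟙 _ := by
    apply CartesianMonoidalCategory.hom_ext
    · rw [Category.assoc, lift_fst, lift_snd, Category.id_comp]
    · rw [Category.assoc, lift_snd, lift_fst, Category.id_comp]
  let F : Y ⊗ X ⟶ Z := sw ≫ f
  let g₀ : Y ⟶ Z := lift (𝟙 Y) (toUnit Y ≫ x₀) ≫ F
  have hconst : Groth.Agent.Lib.Helper19.Rigidity.constX X Y Z F x₀ = fst Y X ≫ g₀ := rfl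
  have hF : F = fst Y X ≫ g₀ := by
    rw [← hconst]
    apply Groth.Agent.Lib.Helper19.Rigidity.eq_constX_of_point X Y Z F x₀ hXiso y₀
    rw [hconst]
    have e1 : (y₀ ▷ X) ≫ sw = lift (snd _ X) (fst _ X) ≫ (X ◁ y₀) := by
      apply CartesianMonoidalCategory.hom_ext
      · rw [Category.assoc, lift_fst, whiskerRight_snd, Category.assoc, whiskerLeft_fst, lift_fst]
      · rw [Category.assoc, lift_snd, whiskerRight_fst, Category.assoc, whiskerLeft_snd,
          lift_snd_assoc]
    have e2 : y₀ ≫ lift (𝟙 Y) (toUnit Y ≫ x₀) ≫ sw =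
        lift x₀ (𝟙 (𝟙_ (Over (Spec (CommRingCat.of k))))) ≫ (X ◁ y₀) := by
      apply CartesianMonoidalCategory.hom_ext
      · simp only [Category.assoc, lift_fst, lift_snd, whiskerLeft_fst, sw]
        rw [← Category.assoc, toUnit_unique (y₀ ≫ toUnit Y) (𝟙 _), Category.id_comp]
      · simp only [Category.assoc, lift_fst, lift_snd, whiskerLeft_snd, sw]
        rw [lift_snd_assoc, Category.comp_id, Category.id_comp]
    change (y₀ ▷ X) ≫ sw ≫ f = (y₀ ▷ X) ≫ fst Y X ≫ lift (𝟙 Y) (toUnit Y ≫ x₀) ≫ sw ≫ f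
    rw [← Category.assoc, e1, Category.assoc, hf, whiskerRight_fst_assoc, ← Category.assoc y₀,
      ← Category.assoc (y₀ ≫ _), Category.assoc y₀, e2, Category.assoc, hf, ← Category.assoc,
      ← Category.assoc, ← Category.assoc]
    congr 1
    exact toUnit_unique _ _
  refine ⟨g₀, ?_, ?_⟩
  · have : f = sw' ≫ F := by
      change f = sw' ≫ sw ≫ f
      rw [← Category.assoc, hsw, Category.id_comp]
    rw [this, hF, ← Category.assoc, lift_fst]
  · intro g' hg'
    change g' = lift (𝟙 Y) (toUnit Y ≫ x₀) ≫ sw ≫ f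
    rw [hg', ← Category.assoc sw, lift_snd, lift_fst_assoc, Category.id_comp]

end Groth.Agent.S11395
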