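import Groth.Statements.S14578
import Groth.Agent.Lib.Helper19.Grp.RigidityPoint
import Groth.Agent.Lib.Helper19.Grp.InnerAutBC
import Groth.Agent.Lib.Helper51.SchemeIdem

set_option autoImplicit false
universe u
open CategoryTheory MonoidalCategory CartesianMonoidalCategory MonObj GrpObj AlgebraicGeometry CategoryTheory.Limits
open AlgGrp

namespace Groth.Agent.S14578

/-- Let k be a field, H an anti-affine k-group scheme of finite type (its only global functions are the
constants), G a k-group scheme of finite type and f : H → G a morphism of k-schemes with f(e_H) =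
e_G. Then f is a homomorphism. (The second assertion, that f factors through the centre of the
neutral component of G, is not restated here.) -/
theorem result (k : Type u) [Field k]
    (H G : Over (Spec (CommRingCat.of k))) [GrpObj H] [GrpObj G] [LocallyOfFiniteType H.hom] [QuasiCompact H.hom]
    [LocallyOfFiniteType G.hom] [QuasiCompact G.hom]
    (hH : Function.Bijective ((Scheme.ΓSpecIso (CommRingCat.of k)).inv ≫ H.hom.appTop).hom) (f : H ⟶ G) (hf : η[H] ≫ f = η[G]) : IsMonHom f := by
  haveI : IsLocallyNoetherian H.left := LocallyOfFiniteType.isLocallyNoetherian H.hom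
  haveI : QuasiSeparatedSpace H.left := inferInstance
  haveI : CompactSpace H.left := QuasiCompact.compactSpace_of_compactSpace H.hom
  have hHiso : IsIso H.hom.appTop :=
    (Groth.Agent.Lib.Helper19.AntiAffine.bijective_iff_isIso H).mp hH
  haveI : Nonempty H.left := ⟨η[H].left.base (IsLocalRing.closedPoint k)⟩
  haveI hconn : ConnectedSpace H.left := by
    apply Groth.Agent.Lib.Helper51.connectedSpace_of_forall_idempotent
    intro e he
    obtain ⟨a, rfl⟩ := hH.2 e
    have ha : a * a = a := by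
      apply hH.1
      rw [map_mul]
      exact he
    have ha' : a * (a - 1) = 0 := by rw [mul_sub, ha, _root_.mul_one, sub_self]
    rcases mul_eq_zero.mp ha' with h0 | h1
    · left
      rw [h0, map_zero]
    · right
      rw [sub_eq_zero.mp h1, map_one]
  haveI : IsSeparated G.hom := Groth.Agent.Lib.Helper81.KPointsDense.isSeparated_grp k G
  have h1f : (1 : 𝟙_ (Over (Spec (CommRingCat.of k))) ⟶ H) ≫ f = 1 := by
    rw [← MonObj.one_eq_one, hf, MonObj.one_eq_one]
  have h1f' : ∀ T : Over (Spec (CommRingCat.of k)), (1 : T ⟶ H) ≫ f = 1 := by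
    intro T
    rw [Hom.one_def, Category.assoc, hf, ← Hom.one_def]
  let Φ : H ⊗ H ⟶ G := (μ[H] ≫ f) * (snd H H ≫ f)⁻¹ * (fst H H ≫ f)⁻¹
  have hconst : Groth.Agent.Lib.Helper19.Rigidity.constX H H G Φ η[H] = 1 := by
    unfold Groth.Agent.Lib.Helper19.Rigidity.constX
    have : lift (𝟙 H) (toUnit H ≫ η[H]) ≫ Φ = 1 := by
      change lift (𝟙 H) (toUnit H ≫ η[H]) ≫ ((μ[H] ≫ f) * (snd H H ≫ f)⁻¹ * (fst H H ≫ f)⁻¹) = 1
      rw [MonObj.comp_mul, MonObj.comp_mul, GrpObj.comp_inv, GrpObj.comp_inv, lift_fst_assoc,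
        lift_snd_assoc, Category.id_comp, ← Category.assoc, ← Hom.mul_def, ← Hom.one_def,
        _root_.mul_one, h1f', inv_one, _root_.mul_one, Category.id_comp, mul_inv_cancel]
    rw [this, MonObj.comp_one]
  have hΦ : Φ = 1 := by
    rw [← hconst]
    apply Groth.Agent.Lib.Helper19.Rigidity.eq_constX_of_point H H G Φ η[H] hHiso η[H]
    rw [hconst, MonObj.comp_one]
    change (η[H] ▷ H) ≫ ((μ[H] ≫ f) * (snd H H ≫ f)⁻¹ * (fst H H ≫ f)⁻¹) = 1
    rw [MonObj.comp_mul, MonObj.comp_mul, GrpObj.comp_inv, GrpObj.comp_inv, whiskerRight_fst_assoc,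
      whiskerRight_snd_assoc, MonObj.one_mul_assoc, leftUnitor_hom, hf,
      toUnit_unique (fst (𝟙_ (Over (Spec (CommRingCat.of k)))) H) (toUnit _),
      ← Hom.one_def, inv_one, _root_.mul_one, mul_inv_cancel]
  apply Groth.Agent.Lib.Helper19.InnerAut.isMonHom_of_mul f h1f
  rw [← MonObj.mul_eq_mul]
  have h2 : (μ[H] ≫ f) * (snd H H ≫ f)⁻¹ * (fst H H ≫ f)⁻¹ = 1 := hΦ
  rw [mul_inv_eq_one, mul_inv_eq_iff_eq_mul] at h2
  exact h2

end Groth.Agent.S14578
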