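import Groth.Statements.S11421
import Groth.Agent.Lib.Helper19.Grp.RigidityPoint
import Groth.Agent.Lib.Helper19.Grp.InnerAutBC
import Groth.Agent.S14578

set_option autoImplicit false
universe u
open CategoryTheory MonoidalCategory CartesianMonoidalCategory MonObj GrpObj AlgebraicGeometry CategoryTheory.Limits
open AlgGrp

namespace Groth.Agent.S11421

/-- Over an algebraically closed field k, let G be an algebraic group (smooth k-group scheme of finite
type) whose only global functions are the constants, H a connected algebraic group, S a connected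
k-scheme of finite type and f : G × S → H a morphism of k-schemes. Then there are a unique
k-morphism φ : S → H and a unique homomorphism ψ : G → H with f(g, s) = φ(s) · ψ(g) on points. (This
is the decomposition, over a connected base, behind the identification of the functor of morphisms
from G to H with H × Hom_gp(G, H); the published statement is the equivalence of representability of
that functor with anti-affineness of G, whose converse direction is not stated here.) -/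
theorem result (k : Type u) [Field k] [IsAlgClosed k]
    (G H S : Over (Spec (CommRingCat.of k))) [GrpObj G] [Smooth G.hom] [QuasiCompact G.hom]
    (hG : Function.Bijective ((Scheme.ΓSpecIso (CommRingCat.of k)).inv ≫ G.hom.appTop).hom)
    [GrpObj H] [Smooth H.hom] [QuasiCompact H.hom] [ConnectedSpace ↥H.left]
    [LocallyOfFiniteType S.hom] [QuasiCompact S.hom] [ConnectedSpace ↥S.left]
    (f : G ⊗ S ⟶ H) :
    ∃ (φ : S ⟶ H) (ψ : G ⟶ H), IsMonHom ψ ∧ f = (snd G S ≫ φ) * (fst G S ≫ ψ) ∧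
      ∀ (φ' : S ⟶ H) (ψ' : G ⟶ H), IsMonHom ψ' → f = (snd G S ≫ φ') * (fst G S ≫ ψ') → φ' = φ ∧ ψ' = ψ := by
  haveI : LocallyOfFiniteType G.hom := inferInstance
  haveI : LocallyOfFiniteType H.hom := inferInstance
  haveI : IsLocallyNoetherian G.left := LocallyOfFiniteType.isLocallyNoetherian G.hom
  haveI : QuasiSeparatedSpace G.left := inferInstance
  haveI : CompactSpace G.left := QuasiCompact.compactSpace_of_compactSpace G.hom
  have hGiso : IsIso G.hom.appTop :=
    (Groth.Agent.Lib.Helper19.AntiAffine.bijective_iff_isIso G).mp hG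
  haveI : IsSeparated H.hom := Groth.Agent.Lib.Helper81.KPointsDense.isSeparated_grp k H
  -- a rational point of `S`
  haveI : JacobsonSpace S.left := LocallyOfFiniteType.jacobsonSpace (Y := Spec _) S.hom
  obtain ⟨sp, -, hsp⟩ := nonempty_inter_closedPoints (X := S.left) (Z := Set.univ)
    Set.univ_nonempty isOpen_univ.isLocallyClosed
  let s₀ : 𝟙_ (Over (Spec (CommRingCat.of k))) ⟶ S :=
    Over.homMk (pointOfClosedPoint S.hom sp hsp) (pointOfClosedPoint_comp S.hom sp hsp)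
  let φ : S ⟶ H := lift (toUnit S ≫ η[G]) (𝟙 S) ≫ f
  let ψ₀ : G ⟶ H := lift (𝟙 G) (toUnit G ≫ s₀) ≫ f
  let ψ : G ⟶ H := (toUnit G ≫ s₀ ≫ φ)⁻¹ * ψ₀
  let sw : S ⊗ G ⟶ G ⊗ S := lift (snd S G) (fst S G)
  let sw' : G ⊗ S ⟶ S ⊗ G := lift (snd G S) (fst G S)
  have hsw : sw' ≫ sw = 𝟙 _ := by
    apply CartesianMonoidalCategory.hom_ext
    · rw [Category.assoc, lift_fst, lift_snd, Category.id_comp]
    · rw [Category.assoc, lift_snd, lift_fst, Category.id_comp]
  have hηψ₀ : η[G] ≫ ψ₀ = s₀ ≫ φ := by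
    change η[G] ≫ lift (𝟙 G) (toUnit G ≫ s₀) ≫ f = s₀ ≫ lift (toUnit S ≫ η[G]) (𝟙 S) ≫ f
    rw [← Category.assoc, ← Category.assoc]
    congr 1
    apply CartesianMonoidalCategory.hom_ext
    · rw [Category.assoc, lift_fst, Category.assoc, lift_fst, Category.comp_id, ← Category.assoc,
        toUnit_unique (s₀ ≫ toUnit S) (𝟙 _), Category.id_comp]
    · rw [Category.assoc, lift_snd, Category.assoc, lift_snd, Category.comp_id, ← Category.assoc,
        toUnit_unique (η[G] ≫ toUnit G) (𝟙 _), Category.id_comp]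
  let F' : S ⊗ G ⟶ H :=
    (fst S G ≫ φ)⁻¹ * (sw ≫ f) * (snd S G ≫ ψ₀)⁻¹ * (toUnit _ ≫ s₀ ≫ φ)
  have hconst : Groth.Agent.Lib.Helper19.Rigidity.constX G S H F' η[G] = 1 := by
    unfold Groth.Agent.Lib.Helper19.Rigidity.constX
    have : lift (𝟙 S) (toUnit S ≫ η[G]) ≫ F' = 1 := by
      change lift (𝟙 S) (toUnit S ≫ η[G]) ≫
        ((fst S G ≫ φ)⁻¹ * (sw ≫ f) * (snd S G ≫ ψ₀)⁻¹ * (toUnit _ ≫ s₀ ≫ φ)) = 1
      have e1 : lift (𝟙 S) (toUnit S ≫ η[G]) ≫ sw ≫ f = φ := by
        change lift (𝟙 S) (toUnit S ≫ η[G]) ≫ lift (snd S G) (fst S G) ≫ f =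
          lift (toUnit S ≫ η[G]) (𝟙 S) ≫ f
        rw [← Category.assoc]
        congr 1
        apply CartesianMonoidalCategory.hom_ext
        · rw [Category.assoc, lift_fst, lift_snd, lift_fst]
        · rw [Category.assoc, lift_snd, lift_fst, lift_snd]
      have e3 : lift (𝟙 S) (toUnit S ≫ η[G]) ≫ toUnit (S ⊗ G) ≫ s₀ ≫ φ = toUnit S ≫ s₀ ≫ φ := by
        rw [← Category.assoc]
        congr 1
        exact toUnit_unique _ _
      rw [MonObj.comp_mul, MonObj.comp_mul, MonObj.comp_mul, GrpObj.comp_inv, GrpObj.comp_inv,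
        lift_fst_assoc, lift_snd_assoc, Category.id_comp, e1, Category.assoc, hηψ₀,
        inv_mul_cancel, _root_.one_mul, e3, inv_mul_cancel]
    rw [this, MonObj.comp_one]
  have hF' : F' = 1 := by
    rw [← hconst]
    apply Groth.Agent.Lib.Helper19.Rigidity.eq_constX_of_point G S H F' η[G] hGiso s₀
    rw [hconst, MonObj.comp_one]
    change (s₀ ▷ G) ≫
      ((fst S G ≫ φ)⁻¹ * (sw ≫ f) * (snd S G ≫ ψ₀)⁻¹ * (toUnit _ ≫ s₀ ≫ φ)) = 1
    have e1 : (s₀ ▷ G) ≫ sw ≫ f = (s₀ ▷ G) ≫ snd S G ≫ ψ₀ := by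
      change (s₀ ▷ G) ≫ lift (snd S G) (fst S G) ≫ f =
        (s₀ ▷ G) ≫ snd S G ≫ lift (𝟙 G) (toUnit G ≫ s₀) ≫ f
      rw [← Category.assoc, ← Category.assoc (s₀ ▷ G), ← Category.assoc ((s₀ ▷ G) ≫ _)]
      congr 1
      apply CartesianMonoidalCategory.hom_ext
      · rw [Category.assoc, lift_fst, Category.assoc, lift_fst, Category.comp_id]
      · simp only [Category.assoc, lift_snd, whiskerRight_fst, whiskerRight_snd_assoc]
        rw [← Category.assoc]
        congr 1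
        exact toUnit_unique _ _
    have e2 : (s₀ ▷ G) ≫ fst S G ≫ φ = (s₀ ▷ G) ≫ toUnit _ ≫ s₀ ≫ φ := by
      rw [whiskerRight_fst_assoc, ← Category.assoc (s₀ ▷ G)]
      congr 1
      exact toUnit_unique _ _
    rw [MonObj.comp_mul, MonObj.comp_mul, MonObj.comp_mul, GrpObj.comp_inv, GrpObj.comp_inv,
      e1, e2, mul_inv_cancel_right, inv_mul_cancel]
  -- the decomposition on `S ⊗ G`
  have hdec : sw ≫ f = (fst S G ≫ φ) * (snd S G ≫ ψ) := by
    have h2 : (fst S G ≫ φ)⁻¹ * (sw ≫ f) * (snd S G ≫ ψ₀)⁻¹ * (toUnit _ ≫ s₀ ≫ φ) = 1 := hF'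
    have h3 : snd S G ≫ ψ = (toUnit _ ≫ s₀ ≫ φ)⁻¹ * (snd S G ≫ ψ₀) := by
      change snd S G ≫ ((toUnit G ≫ s₀ ≫ φ)⁻¹ * ψ₀) = _
      rw [MonObj.comp_mul, GrpObj.comp_inv, ← Category.assoc (snd S G),
        toUnit_unique (snd S G ≫ toUnit G) (toUnit _)]
    rw [h3]
    rw [mul_eq_one_iff_eq_inv, mul_inv_eq_iff_eq_mul, inv_mul_eq_iff_eq_mul] at h2
    exact h2
  have hψ1 : η[G] ≫ ψ = η[H] := by
    change η[G] ≫ ((toUnit G ≫ s₀ ≫ φ)⁻¹ * ψ₀) = _
    rw [MonObj.comp_mul, GrpObj.comp_inv, hηψ₀, ← Category.assoc,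
      toUnit_unique (η[G] ≫ toUnit G) (𝟙 _), Category.id_comp, inv_mul_cancel,
      MonObj.one_eq_one]
  have hψ : IsMonHom ψ := Groth.Agent.S14578.result k G H hG ψ hψ1
  refine ⟨φ, ψ, hψ, ?_, ?_⟩
  · have : f = sw' ≫ sw ≫ f := by
      rw [← Category.assoc, hsw, Category.id_comp]
    rw [this, hdec, MonObj.comp_mul, lift_fst_assoc, lift_snd_assoc]
  · intro φ' ψ' hψ' hf'
    have hφ' : φ' = φ := by
      change φ' = lift (toUnit S ≫ η[G]) (𝟙 S) ≫ f
      rw [hf', MonObj.comp_mul, lift_snd_assoc, lift_fst_assoc, Category.id_comp, Category.assoc,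
        IsMonHom.one_hom, ← Hom.one_def, _root_.mul_one]
    refine ⟨hφ', ?_⟩
    change ψ' = (toUnit G ≫ s₀ ≫ φ)⁻¹ * (lift (𝟙 G) (toUnit G ≫ s₀) ≫ f)
    rw [hf', MonObj.comp_mul, lift_snd_assoc, lift_fst_assoc, Category.id_comp, Category.assoc,
      hφ', inv_mul_cancel_left]

end Groth.Agent.S11421
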