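import Groth.Statements.S11404
import Groth.Agent.S11421
import Groth.Agent.Lib.Helper22.Rigidity
import Groth.Agent.Lib.Helper19.Grp.ProperAffineConst

set_option autoImplicit false
universe u
open CategoryTheory MonoidalCategory CartesianMonoidalCategory MonObj GrpObj AlgebraicGeometry CategoryTheory.Limits
open AlgGrp

namespace Groth.Agent.S11404

/-- Over an algebraically closed field k, let A be an abelian variety (a proper, smooth, connected
k-group scheme) and S a connected k-scheme of finite type. For every automorphism f of A × S over S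
there are a unique k-morphism g : S → A and a unique group automorphism h of A with f(a, s) = (g(s)
· h(a), s) on points. (This is the functor-of-points form, over a connected base, of the
identification of the automorphism group scheme of A with the semidirect product of A, acting by
translations, and the constant group of group automorphisms; in particular the neutral component is
A.) -/
theorem result (k : Type u) [Field k] [IsAlgClosed k]
    (A S : Over (Spec (CommRingCat.of k))) [GrpObj A] [IsProper A.hom] [Smooth A.hom] [ConnectedSpace ↥A.left]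
    [LocallyOfFiniteType S.hom] [QuasiCompact S.hom] [ConnectedSpace ↥S.left]
    (f : A ⊗ S ≅ A ⊗ S) (hf : f.hom ≫ snd A S = snd A S) :
    ∃ (g : S ⟶ A) (h : A ⟶ A), IsMonHom h ∧ IsIso h ∧
      f.hom ≫ fst A S = (snd A S ≫ g) * (fst A S ≫ h) ∧
      ∀ (g' : S ⟶ A) (h' : A ⟶ A), IsMonHom h' →
        f.hom ≫ fst A S = (snd A S ≫ g') * (fst A S ≫ h') → g' = g ∧ h' = h := by
  haveI : IsIntegral A.left := Groth.Agent.Lib.Helper19.QuotDesc.isIntegral_of_smooth_connected k A
  have hA : Function.Bijective ((Scheme.ΓSpecIso (CommRingCat.of k)).inv ≫ A.hom.appTop).hom := by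
    have h1 := Groth.Agent.Lib.Helper22.Rigidity.appTop_bijective (K := k) A.hom
    have h2 : Function.Bijective (Scheme.ΓSpecIso (CommRingCat.of k)).inv.hom :=
      ConcreteCategory.bijective_of_isIso (Scheme.ΓSpecIso (CommRingCat.of k)).inv
    rw [CommRingCat.hom_comp]
    exact h1.comp h2
  obtain ⟨g, h, hh, hdec, huniq⟩ := Groth.Agent.S11421.result k A A S hA (f.hom ≫ fst A S)
  have hf' : f.inv ≫ snd A S = snd A S := by
    conv_lhs => rw [← hf]
    rw [Iso.inv_hom_id_assoc]
  obtain ⟨g', h', hh', hdec', -⟩ := Groth.Agent.S11421.result k A A S hA (f.inv ≫ fst A S)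
  obtain ⟨φ₀, ψ₀, -, -, huniq₀⟩ := Groth.Agent.S11421.result k A A S hA (fst A S)
  have hid : fst A S = (snd A S ≫ (1 : S ⟶ A)) * (fst A S ≫ 𝟙 A) := by
    rw [MonObj.comp_one, _root_.one_mul, Category.comp_id]
  have hψ₀ : 𝟙 A = ψ₀ := (huniq₀ 1 (𝟙 A) inferInstance hid).2
  -- `h ≫ h' = 𝟙`
  have e1 : fst A S = (snd A S ≫ (g' * (g ≫ h'))) * (fst A S ≫ h ≫ h') := by
    have h3 : f.hom ≫ f.inv ≫ fst A S =
        (snd A S ≫ (g' * (g ≫ h'))) * (fst A S ≫ h ≫ h') := by
      rw [hdec', MonObj.comp_mul, ← Category.assoc, hf, ← Category.assoc f.hom (fst A S), hdec,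
        MonObj.mul_comp, MonObj.comp_mul, Category.assoc, Category.assoc, _root_.mul_assoc]
    rwa [Iso.hom_inv_id_assoc] at h3
  have e2 : fst A S = (snd A S ≫ (g * (g' ≫ h))) * (fst A S ≫ h' ≫ h) := by
    have h3 : f.inv ≫ f.hom ≫ fst A S =
        (snd A S ≫ (g * (g' ≫ h))) * (fst A S ≫ h' ≫ h) := by
      rw [hdec, MonObj.comp_mul, ← Category.assoc, hf', ← Category.assoc f.inv (fst A S), hdec',
        MonObj.mul_comp, MonObj.comp_mul, Category.assoc, Category.assoc, _root_.mul_assoc]
    rwa [Iso.inv_hom_id_assoc] at h3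
  have hhh' : h ≫ h' = 𝟙 A := by
    rw [hψ₀]
    exact (huniq₀ _ _ inferInstance e1).2
  have hh'h : h' ≫ h = 𝟙 A := by
    rw [hψ₀]
    exact (huniq₀ _ _ inferInstance e2).2
  exact ⟨g, h, hh, ⟨h', hhh', hh'h⟩, hdec, huniq⟩

end Groth.Agent.S11404
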