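import Groth.Statements.S11405
import Groth.Agent.Lib.Helper19.Grp.AntiAffineRep
import Groth.Agent.Lib.Helper19.Grp.ActionPts
import Groth.Agent.Lib.Helper19.Grp.GModTriv
import Groth.Agent.Lib.Helper19.Grp.GModMatrix

set_option autoImplicit false
universe u
open CategoryTheory MonoidalCategory CartesianMonoidalCategory MonObj GrpObj AlgebraicGeometry CategoryTheory.Limits
open AlgGrp

namespace Groth.Agent.S11405

/-- Over an algebraically closed field k, the following are equivalent for an algebraic group G (a
smooth k-group scheme of finite type): (i) the only global functions on G are the constants; (ii)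
every finite-dimensional linear representation of G is trivial (every point of G with values in a
k-algebra B acts as the identity on B ⊗ M, for every G-module structure on a finite-dimensional
k-vector space M); (iii) every action of G on a variety (integral, separated k-scheme of finite
type) with a fixed rational point is the trivial action. Stated as (i) ⇔ (ii) and (i) ⇔ (iii). -/
theorem result (k : Type u) [Field k] [IsAlgClosed k]
    (G : Over (Spec (CommRingCat.of k))) [GrpObj G] [Smooth G.hom] [QuasiCompact G.hom] :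
    (Function.Bijective ((Scheme.ΓSpecIso (CommRingCat.of k)).inv ≫ G.hom.appTop).hom ↔
      ∀ (M : Type u) [AddCommGroup M] [Module k M] [Module.Finite k M] (m : VecGrp.GMod G M)
        (B : Type u) [CommRing B] [Algebra k B] (g : VecGrp.pt k B ⟶ G), m.ρ B g = 1) ∧
    (Function.Bijective ((Scheme.ΓSpecIso (CommRingCat.of k)).inv ≫ G.hom.appTop).hom ↔
      ∀ (X : Over (Spec (CommRingCat.of k))) [LocallyOfFiniteType X.hom] [QuasiCompact X.hom] [IsSeparated X.hom]
        [IsIntegral X.left] (a : AlgGrp.Action G X) (x : 𝟙_ (Over (Spec (CommRingCat.of k))) ⟶ X), a.IsFixedPt x → a.act = snd G X) := by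
  haveI : LocallyOfFiniteType G.hom := inferInstance
  haveI : IsLocallyNoetherian G.left := LocallyOfFiniteType.isLocallyNoetherian G.hom
  haveI : QuasiSeparatedSpace G.left := inferInstance
  haveI : CompactSpace G.left := QuasiCompact.compactSpace_of_compactSpace G.hom
  haveI : Nonempty (⊤ : G.left.Opens) :=
    ⟨⟨η[G].left.base (IsLocalRing.closedPoint k), trivial⟩⟩
  haveI : Nontrivial Γ(G.left, ⊤) := Scheme.component_nontrivial G.left ⊤
  refine ⟨⟨?_, ?_⟩, ⟨?_, ?_⟩⟩
  · -- (i) ⇒ (ii)
    intro hG M _ _ _ m B _ _ g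
    exact Groth.Agent.Lib.Helper19.GModTriv.rho_eq_one_of_finite G m hG.2 B g
  · -- (ii) ⇒ (i)
    intro H
    refine ⟨RingHom.injective _, ?_⟩
    apply Groth.Agent.Lib.Helper19.AntiAffineRep.surjective_of_forall_matrix G
    intro J hJ hJ' c hmul hone
    haveI : Finite J := Finite.of_fintype J
    exact Groth.Agent.Lib.Helper19.GModMatrix.eq_one_of_trivial G c hmul hone
      (fun B _ _ g => H (J → k) (Groth.Agent.Lib.Helper19.GModMatrix.gmod G c hmul hone) B g)
  · -- (i) ⇒ (iii)
    intro hG X _ _ _ _ a x hx
    have hGiso : IsIso G.hom.appTop :=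
      (Groth.Agent.Lib.Helper19.AntiAffine.bijective_iff_isIso G).mp hG
    haveI : ConnectedSpace X.left := inferInstance
    let sw : X ⊗ G ⟶ G ⊗ X := lift (snd X G) (fst X G)
    have hsw : ∀ {T : Over (Spec (CommRingCat.of k))} (y : T ⟶ X) (g : T ⟶ G),
        lift y g ≫ sw = lift g y := by
      intro T y g
      apply CartesianMonoidalCategory.hom_ext
      · rw [Category.assoc, lift_fst, lift_snd, lift_fst]
      · rw [Category.assoc, lift_snd, lift_fst, lift_snd]
    have key : ∀ {T : Over (Spec (CommRingCat.of k))} (y : T ⟶ X) (g : T ⟶ G),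
        lift y g ≫ sw ≫ a.act = lift y (toUnit T ≫ η[G]) ≫ sw ≫ a.act := by
      intro T y g
      apply Groth.Agent.Lib.Helper19.Rigidity.lift_comp_eq G X X (sw ≫ a.act) η[G] hGiso x
      rw [← Category.assoc, hsw, ← Category.assoc (lift x η[G]), hsw]
      have h1 := hx G (𝟙 G)
      have h2 := Groth.Agent.Lib.Helper19.ActionPts.one_act' a x
      rw [toUnit_unique (toUnit (𝟙_ (Over (Spec (CommRingCat.of k))))) (𝟙 _), Category.id_comp] at h2
      rw [h2]
      exact h1
    have h3 := key (snd G X) (fst G X)
    rw [← Category.assoc, hsw, lift_fst_snd, Category.id_comp, ← Category.assoc, hsw,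
      Groth.Agent.Lib.Helper19.ActionPts.one_act'] at h3
    exact h3
  · -- (iii) ⇒ (i)
    intro H
    refine ⟨RingHom.injective _, ?_⟩
    apply Groth.Agent.Lib.Helper19.AntiAffineRep.surjective_of_forall_matAct G
    intro J hJ hJ' c hmul hone
    let A := Groth.Agent.Lib.Helper19.MatrixAction.matAction G c hmul hone
    let x : 𝟙_ (Over (Spec (CommRingCat.of k))) ⟶
        Groth.Agent.Lib.Helper19.MatrixAction.AffJ k J :=
      Groth.Agent.Lib.Helper19.MatrixAction.pt fun _ => 0
    have hfix : A.IsFixedPt x := by
      intro T g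
      apply Groth.Agent.Lib.Helper19.MatrixAction.ext_crd
      intro i
      change Groth.Agent.Lib.Helper19.MatrixAction.crd
        (lift g (toUnit T ≫ x) ≫ Groth.Agent.Lib.Helper19.MatrixAction.matAct G c) i = _
      rw [Groth.Agent.Lib.Helper19.MatrixAction.crd_matAct]
      simp only [Groth.Agent.Lib.Helper19.MatrixAction.crd_comp, x,
        Groth.Agent.Lib.Helper19.MatrixAction.crd_pt, map_zero, mul_zero, Finset.sum_const_zero]
    haveI : Finite J := Finite.of_fintype J
    haveI : LocallyOfFiniteType (Groth.Agent.Lib.Helper19.MatrixAction.AffJ k J).hom :=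
      inferInstanceAs (LocallyOfFiniteType (𝔸(J; Spec (CommRingCat.of k)) ↘ Spec (CommRingCat.of k)))
    haveI : QuasiCompact (Groth.Agent.Lib.Helper19.MatrixAction.AffJ k J).hom :=
      inferInstanceAs (QuasiCompact (𝔸(J; Spec (CommRingCat.of k)) ↘ Spec (CommRingCat.of k)))
    haveI : IsSeparated (Groth.Agent.Lib.Helper19.MatrixAction.AffJ k J).hom :=
      inferInstanceAs (IsSeparated (𝔸(J; Spec (CommRingCat.of k)) ↘ Spec (CommRingCat.of k)))
    haveI : GeometricallyIntegral (Groth.Agent.Lib.Helper19.MatrixAction.AffJ k J).hom :=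
      inferInstanceAs
        (GeometricallyIntegral (𝔸(J; Spec (CommRingCat.of k)) ↘ Spec (CommRingCat.of k)))
    haveI : IsIntegral (Groth.Agent.Lib.Helper19.MatrixAction.AffJ k J).left :=
      GeometricallyIntegral.isIntegral_of_subsingleton
        (Groth.Agent.Lib.Helper19.MatrixAction.AffJ k J).hom
    exact H (Groth.Agent.Lib.Helper19.MatrixAction.AffJ k J) A x hfix

end Groth.Agent.S11405
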