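import Groth.Statements.S11411
import Groth.Agent.Lib.Helper87.AntiAffine

set_option autoImplicit false
universe u
open CategoryTheory MonoidalCategory CartesianMonoidalCategory MonObj GrpObj AlgebraicGeometry CategoryTheory.Limits
open AlgGrp

namespace Groth.Agent.S11411

theorem fst_hom_eq_snd {k : Type u} [Field k] (G : Over (Spec (CommRingCat.of k))) [GrpObj G]
    {N : Scheme.{u}} (p₁ : N ⟶ G.left) (p₂ : N ⟶ (𝟙_ (Over (Spec (CommRingCat.of k)))).left)
    (hc : p₁ ≫ G.left.toSpecΓ = p₂ ≫ η[G].left ≫ G.left.toSpecΓ) :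
    p₁ ≫ G.hom = p₂ := by
  have hw : η[G].left ≫ G.hom = 𝟙 _ := Over.w η[G]
  rw [← cancel_mono (Spec (CommRingCat.of k)).toSpecΓ, Category.assoc,
    Scheme.toSpecΓ_naturality, reassoc_of% hc, ← Scheme.toSpecΓ_naturality, reassoc_of% hw]

theorem comp_q_eq {k : Type u} [Field k] (G Q : Over (Spec (CommRingCat.of k))) [GrpObj G]
    [GrpObj Q] (q : G ⟶ Q) [IsMonHom q] [IsAffine Q.left]
    {N : Scheme.{u}} (p₁ : N ⟶ G.left) (p₂ : N ⟶ (𝟙_ (Over (Spec (CommRingCat.of k)))).left)
    (hc : p₁ ≫ G.left.toSpecΓ = p₂ ≫ η[G].left ≫ G.left.toSpecΓ) :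
    p₁ ≫ q.left = p₂ ≫ η[Q].left := by
  have hq1 : η[G] ≫ q = η[Q] := IsMonHom.one_hom q
  have hq1' : η[G].left ≫ q.left = η[Q].left := by
    rw [← Over.comp_left, hq1]
  rw [← cancel_mono Q.left.toSpecΓ, Category.assoc, Scheme.toSpecΓ_naturality, reassoc_of% hc,
    ← Scheme.toSpecΓ_naturality, reassoc_of% hq1', Category.assoc]

theorem part_a {k : Type u} [Field k] (G : Over (Spec (CommRingCat.of k))) [GrpObj G]
    (H Q : Over (Spec (CommRingCat.of k))) [GrpObj Q] (h : H ⟶ G) (q : G ⟶ Q) [IsMonHom q]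
    (hker : AlgGrp.IsKernel h q) (hQ : IsAffine Q.left) :
    ∃ f : pullback G.left.toSpecΓ (η[G].left ≫ G.left.toSpecΓ) ⟶ H.left,
      f ≫ h.left = pullback.fst G.left.toSpecΓ (η[G].left ≫ G.left.toSpecΓ) := by
  have hc := pullback.condition (f := G.left.toSpecΓ) (g := η[G].left ≫ G.left.toSpecΓ)
  let N' : Over (Spec (CommRingCat.of k)) :=
    Over.mk (pullback.fst G.left.toSpecΓ (η[G].left ≫ G.left.toSpecΓ) ≫ G.hom)
  let a : N' ⟶ G := Over.homMk (pullback.fst G.left.toSpecΓ (η[G].left ≫ G.left.toSpecΓ)) rfl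
  have hw : a ≫ q = toUnit N' ≫ η[Q] := by
    apply Over.OverMorphism.ext
    show pullback.fst G.left.toSpecΓ (η[G].left ≫ G.left.toSpecΓ) ≫ q.left =
      (pullback.fst G.left.toSpecΓ (η[G].left ≫ G.left.toSpecΓ) ≫ G.hom) ≫ η[Q].left
    rw [fst_hom_eq_snd G _ _ hc]
    exact comp_q_eq G Q q _ _ hc
  refine ⟨(hker.lift a (toUnit N') hw).left, ?_⟩
  rw [← Over.comp_left, hker.lift_fst]
  rfl

theorem part_b {k : Type u} [Field k] (G : Over (Spec (CommRingCat.of k))) [GrpObj G]
    (M : Over (Spec (CommRingCat.of k))) [GrpObj M] (j : M ⟶ G) [IsMonHom j]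
    (hM : Function.Bijective ((Scheme.ΓSpecIso (CommRingCat.of k)).inv ≫ M.hom.appTop).hom) :
    ∃ f : M.left ⟶ pullback G.left.toSpecΓ (η[G].left ≫ G.left.toSpecΓ),
      f ≫ pullback.fst G.left.toSpecΓ (η[G].left ≫ G.left.toSpecΓ) = j.left := by
  have hj1 : η[M] ≫ j = η[G] := IsMonHom.one_hom j
  have hj1' : η[M].left ≫ j.left = η[G].left := by
    rw [← Over.comp_left, hj1]
  have hconst := Lib.Helper87.antiAffine_const M hM η[M] (j.left ≫ G.left.toSpecΓ)
  rw [reassoc_of% hj1'] at hconst
  exact ⟨pullback.lift j.left M.hom hconst, pullback.lift_fst _ _ _⟩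

/-- Over an algebraically closed field k, let G be an algebraic group (a smooth k-group scheme of finite
type) and N the kernel of the canonical morphism ρ : G → Spec O(G), i.e. the fibre of ρ over the
image of the unit. Then N is the smallest normal subgroup scheme of G with affine quotient: for
every closed normal subgroup scheme H of G with a flat surjective homomorphism G → Q of k-group
schemes of finite type with kernel H and Q affine, the inclusion of N factors through H. And N is
the largest anti-affine subgroup scheme: every homomorphism and closed immersion into G from a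
k-group scheme whose only global functions are the constants factors through N. (The published
statement also asserts O(N) = k, that N is a connected algebraic group central in G⁰, and O(G/N) =
O(G) finitely generated; those parts are not restated here.) -/
theorem result (k : Type u) [Field k] [IsAlgClosed k]
    (G : Over (Spec (CommRingCat.of k))) [GrpObj G] [Smooth G.hom] [QuasiCompact G.hom] :
    (∀ (H Q : Over (Spec (CommRingCat.of k))) [GrpObj H] [GrpObj Q] (h : H ⟶ G) [IsMonHom h] [IsClosedImmersion h.left]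
        [LocallyOfFiniteType Q.hom] [QuasiCompact Q.hom] (q : G ⟶ Q) [IsMonHom q] [Surjective q.left] [Flat q.left],
        AlgGrp.IsKernel h q → IsAffine Q.left →
        ∃ f : pullback G.left.toSpecΓ (η[G].left ≫ G.left.toSpecΓ) ⟶ H.left, f ≫ h.left = pullback.fst G.left.toSpecΓ (η[G].left ≫ G.left.toSpecΓ)) ∧
    (∀ (M : Over (Spec (CommRingCat.of k))) [GrpObj M] (j : M ⟶ G) [IsMonHom j] [IsClosedImmersion j.left],
        Function.Bijective ((Scheme.ΓSpecIso (CommRingCat.of k)).inv ≫ M.hom.appTop).hom →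
        ∃ f : M.left ⟶ pullback G.left.toSpecΓ (η[G].left ≫ G.left.toSpecΓ), f ≫ pullback.fst G.left.toSpecΓ (η[G].left ≫ G.left.toSpecΓ) = j.left) := by
  refine ⟨?_, ?_⟩
  · intro H Q _ _ h _ _ _ _ q _ _ _ hker hQ
    exact part_a G H Q h q hker hQ
  · intro M _ j _ _ hM
    exact part_b G M j hM

end Groth.Agent.S11411
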