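import Groth.Statements.S11418
-- import your own Groth.Agent.* helpers here


set_option autoImplicit false
universe u
open CategoryTheory MonoidalCategory CartesianMonoidalCategory MonObj GrpObj AlgebraicGeometry CategoryTheory.Limits
open AlgGrp

namespace Groth.Agent.S11418

section Aux
variable {S : Scheme.{u}} {G P : Over S} [GrpObj G] (a : AlgGrp.Action G P)

theorem mul_act_pt {Z : Over S} (g g' : Z ⟶ G) (x : Z ⟶ P) :
    lift g (lift g' x ≫ a.act) ≫ a.act = lift (g * g') x ≫ a.act := by
  have e1 : lift (g * g') x = lift (lift g g') x ≫ (μ[G] ▷ P) := by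
    rw [lift_whiskerRight]; rfl
  have e2 : lift g (lift g' x ≫ a.act) = lift g (lift g' x) ≫ (G ◁ a.act) := by
    rw [lift_whiskerLeft]
  rw [e1, e2, Category.assoc, Category.assoc, a.mul_act, ← Category.assoc (lift (lift g g') x),
    lift_lift_associator_hom]

end Aux



/-- Over an algebraically closed field k, let G be an affine algebraic group (smooth affine k-group
scheme of finite type) and π : X → Y a principal G-bundle of k-schemes of finite type: G acts on X,
π is G-invariant, faithfully flat, and the square formed by the action, the second projection G × X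
→ X and π is cartesian. Then the map θ sending a G-equivariant morphism f : X → G (for the
conjugation action on G, i.e. f(g·x) = g f(x) g⁻¹ on points) to the automorphism x ↦ f(x)·x is a
bijection onto the bundle automorphisms: every G-equivariant automorphism φ of X with π ∘ φ = π
equals θ(f) for exactly one such f. -/
theorem result (k : Type u) [Field k] [IsAlgClosed k]
    (G X Y : Over (Spec (CommRingCat.of k))) [GrpObj G] [Smooth G.hom] [QuasiCompact G.hom] [IsAffine G.left]
    [LocallyOfFiniteType X.hom] [QuasiCompact X.hom] [LocallyOfFiniteType Y.hom] [QuasiCompact Y.hom]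
    (a : AlgGrp.Action G X) (π : X ⟶ Y) (hinv : a.act ≫ π = snd G X ≫ π) [Flat π.left] [Surjective π.left]
    (hcart : IsPullback (snd G X) a.act π π)
    (φ : X ≅ X) (hφ : φ.hom ≫ π = π) (hφeq : (G ◁ φ.hom) ≫ a.act = a.act ≫ φ.hom) :
    ∃! f : X ⟶ G, (∀ (S : Over (Spec (CommRingCat.of k))) (g : S ⟶ G) (x : S ⟶ X),
        lift g x ≫ a.act ≫ f = g * (x ≫ f) * g⁻¹) ∧ φ.hom = lift f (𝟙 X) ≫ a.act := by
  have hw : 𝟙 X ≫ π = φ.hom ≫ π := by rw [Category.id_comp, hφ]
  set t : X ⟶ G ⊗ X := hcart.lift (𝟙 X) φ.hom hw with ht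
  have ht1 : t ≫ snd G X = 𝟙 X := hcart.lift_fst _ _ _
  have ht2 : t ≫ a.act = φ.hom := hcart.lift_snd _ _ _
  have htf : t = lift (t ≫ fst G X) (𝟙 X) := by
    apply CartesianMonoidalCategory.hom_ext
    · rw [lift_fst]
    · rw [lift_snd, ht1]
  have hφf : φ.hom = lift (t ≫ fst G X) (𝟙 X) ≫ a.act := by rw [← htf, ht2]
  refine ⟨t ≫ fst G X, ⟨?_, hφf⟩, ?_⟩
  · intro S g x
    set f := t ≫ fst G X with hf
    set y := lift g x ≫ a.act with hy
    have hp : lift (y ≫ f) y = lift (g * (x ≫ f) * g⁻¹) y := by
      apply hcart.hom_ext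
      · rw [lift_snd, lift_snd]
      · have h1 : lift (y ≫ f) y = y ≫ lift f (𝟙 X) := by
          rw [comp_lift, Category.comp_id]
        rw [h1, Category.assoc, ← hφf]
        have h2 : lift (g * (x ≫ f) * g⁻¹) y ≫ a.act = lift (g * (x ≫ f)) x ≫ a.act := by
          rw [hy, mul_act_pt, inv_mul_cancel_right]
        rw [h2, ← mul_act_pt]
        have h3 : lift (x ≫ f) x = x ≫ lift f (𝟙 X) := by
          rw [comp_lift, Category.comp_id]
        rw [h3]
        simp only [Category.assoc]
        rw [← hφf]
        have h4 : lift g (x ≫ φ.hom) = lift g x ≫ (G ◁ φ.hom) := by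
          rw [lift_whiskerLeft]
        rw [h4]
        simp only [Category.assoc]
        rw [hφeq, hy, Category.assoc]
    have := congrArg (· ≫ fst G X) hp
    simp only [lift_fst] at this
    rw [← Category.assoc]
    exact this
  · rintro f' ⟨-, hf'⟩
    have : lift f' (𝟙 X) = t := by
      apply hcart.hom_ext
      · rw [lift_snd, ht1]
      · rw [← hf', ht2]
    rw [← this, lift_fst]

end Groth.Agent.S11418
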