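import Groth.Statements.S11420
import Groth.Agent.Lib.Helper19.Grp.ActionPts
import Groth.Agent.Lib.Helper22.Rigidity
import Groth.Agent.S5342

set_option autoImplicit false
universe u
open CategoryTheory MonoidalCategory CartesianMonoidalCategory MonObj GrpObj AlgebraicGeometry CategoryTheory.Limits
open AlgGrp

namespace Groth.Agent.S11420

/-- Over an algebraically closed field k, let X and Y be complete varieties (proper, integral, separated
k-schemes of finite type) and let a connected k-group scheme of finite type G act on X × Y. Then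
there are unique actions of G on X and on Y such that the given action is the product action g·(x,
y) = (g·x, g·y). (This is the form, for actions of connected group schemes, of the identification of
the neutral component of the automorphism group scheme of X × Y with the product of those of X and
Y; the representability of these group schemes is not asserted here.) -/
theorem result (k : Type u) [Field k] [IsAlgClosed k]
    (G X Y : Over (Spec (CommRingCat.of k))) [GrpObj G] [LocallyOfFiniteType G.hom] [QuasiCompact G.hom] [ConnectedSpace ↥G.left]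
    [IsProper X.hom] [IsIntegral X.left]
    [IsProper Y.hom] [IsIntegral Y.left]
    (a : AlgGrp.Action G (X ⊗ Y)) :
    ∃ (b : AlgGrp.Action G X) (c : AlgGrp.Action G Y),
      a.act = lift ((G ◁ fst X Y) ≫ b.act) ((G ◁ snd X Y) ≫ c.act) ∧
      ∀ (b' : AlgGrp.Action G X) (c' : AlgGrp.Action G Y),
        a.act = lift ((G ◁ fst X Y) ≫ b'.act) ((G ◁ snd X Y) ≫ c'.act) → b' = b ∧ c' = c := by
  haveI : LocallyOfFiniteType X.hom := inferInstance
  haveI : LocallyOfFiniteType Y.hom := inferInstance
  haveI : IsSeparated X.hom := inferInstance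
  haveI : IsSeparated Y.hom := inferInstance
  haveI : QuasiCompact X.hom := inferInstance
  haveI : QuasiCompact Y.hom := inferInstance
  haveI : IsLocallyNoetherian X.left := LocallyOfFiniteType.isLocallyNoetherian X.hom
  haveI : IsLocallyNoetherian Y.left := LocallyOfFiniteType.isLocallyNoetherian Y.hom
  haveI : QuasiSeparatedSpace X.left := inferInstance
  haveI : QuasiSeparatedSpace Y.left := inferInstance
  haveI : CompactSpace X.left := QuasiCompact.compactSpace_of_compactSpace X.hom
  haveI : CompactSpace Y.left := QuasiCompact.compactSpace_of_compactSpace Y.hom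
  have hXiso : IsIso X.hom.appTop := by
    rw [ConcreteCategory.isIso_iff_bijective]
    exact Groth.Agent.Lib.Helper22.Rigidity.appTop_bijective (K := k) X.hom
  have hYiso : IsIso Y.hom.appTop := by
    rw [ConcreteCategory.isIso_iff_bijective]
    exact Groth.Agent.Lib.Helper22.Rigidity.appTop_bijective (K := k) Y.hom
  -- rational points
  haveI : JacobsonSpace X.left := LocallyOfFiniteType.jacobsonSpace (Y := Spec _) X.hom
  haveI : JacobsonSpace Y.left := LocallyOfFiniteType.jacobsonSpace (Y := Spec _) Y.hom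
  obtain ⟨xp, -, hxp⟩ := nonempty_inter_closedPoints (X := X.left) (Z := Set.univ)
    Set.univ_nonempty isOpen_univ.isLocallyClosed
  obtain ⟨yp, -, hyp⟩ := nonempty_inter_closedPoints (X := Y.left) (Z := Set.univ)
    Set.univ_nonempty isOpen_univ.isLocallyClosed
  let x₀ : 𝟙_ (Over (Spec (CommRingCat.of k))) ⟶ X :=
    Over.homMk (pointOfClosedPoint X.hom xp hxp) (pointOfClosedPoint_comp X.hom xp hxp)
  let y₀ : 𝟙_ (Over (Spec (CommRingCat.of k))) ⟶ Y :=
    Over.homMk (pointOfClosedPoint Y.hom yp hyp) (pointOfClosedPoint_comp Y.hom yp hyp)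
  haveI : ConnectedSpace (G ⊗ X).left :=
    Groth.Agent.S5342.result k G.left X.left G.hom X.hom η[G].left (Over.w η[G])
  haveI : ConnectedSpace (G ⊗ Y).left :=
    Groth.Agent.S5342.result k G.left Y.left G.hom Y.hom η[G].left (Over.w η[G])
  haveI : LocallyOfFiniteType (G ⊗ X).hom := by
    rw [Over.tensorObj_hom]
    infer_instance
  haveI : LocallyOfFiniteType (G ⊗ Y).hom := by
    rw [Over.tensorObj_hom]
    infer_instance
  have one' := fun {T : Over (Spec (CommRingCat.of k))} (p : T ⟶ X ⊗ Y) =>
    Groth.Agent.Lib.Helper19.ActionPts.one_act' a p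
  have mul' := fun {T : Over (Spec (CommRingCat.of k))} (g h : T ⟶ G) (p : T ⟶ X ⊗ Y) =>
    Groth.Agent.Lib.Helper19.ActionPts.mul_act' a g h p
  have one'' : ∀ (p : 𝟙_ (Over (Spec (CommRingCat.of k))) ⟶ X ⊗ Y)
      {Z : Over (Spec (CommRingCat.of k))} (q : X ⊗ Y ⟶ Z), lift η[G] p ≫ a.act ≫ q = p ≫ q := by
    intro p Z q
    have h2 := one' p
    rw [toUnit_unique (toUnit (𝟙_ (Over (Spec (CommRingCat.of k))))) (𝟙 _), Category.id_comp] at h2
    rw [← Category.assoc, h2]
  -- first rigidity: the `X`-component does not depend on `y`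
  let F1 : (G ⊗ X) ⊗ Y ⟶ X :=
    lift (fst _ _ ≫ fst _ _) (lift (fst _ _ ≫ snd _ _) (snd _ _)) ≫ a.act ≫ fst X Y
  have hF1 : ∀ {T : Over (Spec (CommRingCat.of k))} (g : T ⟶ G) (x : T ⟶ X) (y : T ⟶ Y),
      lift (lift g x) y ≫ F1 = lift g (lift x y) ≫ a.act ≫ fst X Y := by
    intro T g x y
    change lift (lift g x) y ≫ lift (fst _ _ ≫ fst _ _) (lift (fst _ _ ≫ snd _ _) (snd _ _)) ≫
      a.act ≫ fst X Y = _
    rw [← Category.assoc]
    congr 1
    apply CartesianMonoidalCategory.hom_ext
    · rw [Category.assoc, lift_fst, lift_fst_assoc, lift_fst, lift_fst]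
    · rw [Category.assoc, lift_snd, lift_snd]
      apply CartesianMonoidalCategory.hom_ext
      · rw [Category.assoc, lift_fst, lift_fst_assoc, lift_snd, lift_fst]
      · rw [Category.assoc, lift_snd, lift_snd, lift_snd]
  have K1 : ∀ {T : Over (Spec (CommRingCat.of k))} (g : T ⟶ G) (x : T ⟶ X) (y : T ⟶ Y),
      lift g (lift x y) ≫ a.act ≫ fst X Y =
        lift g (lift x (toUnit T ≫ y₀)) ≫ a.act ≫ fst X Y := by
    intro T g x y
    rw [← hF1, ← hF1]
    apply Groth.Agent.Lib.Helper19.Rigidity.lift_comp_eq Y (G ⊗ X) X F1 y₀ hYiso (lift η[G] x₀)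
    have e1 : lift (toUnit Y ≫ lift η[G] x₀) (𝟙 Y) =
        lift (lift (toUnit Y ≫ η[G]) (toUnit Y ≫ x₀)) (𝟙 Y) := by
      rw [comp_lift]
    rw [e1, hF1, ← Category.assoc, one', lift_fst, hF1, one'', lift_fst]
  -- second rigidity: the `Y`-component does not depend on `x`
  let F2 : (G ⊗ Y) ⊗ X ⟶ Y :=
    lift (fst _ _ ≫ fst _ _) (lift (snd _ _) (fst _ _ ≫ snd _ _)) ≫ a.act ≫ snd X Y
  have hF2 : ∀ {T : Over (Spec (CommRingCat.of k))} (g : T ⟶ G) (x : T ⟶ X) (y : T ⟶ Y),
      lift (lift g y) x ≫ F2 = lift g (lift x y) ≫ a.act ≫ snd X Y := by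
    intro T g x y
    change lift (lift g y) x ≫ lift (fst _ _ ≫ fst _ _) (lift (snd _ _) (fst _ _ ≫ snd _ _)) ≫
      a.act ≫ snd X Y = _
    rw [← Category.assoc]
    congr 1
    apply CartesianMonoidalCategory.hom_ext
    · rw [Category.assoc, lift_fst, lift_fst_assoc, lift_fst, lift_fst]
    · rw [Category.assoc, lift_snd, lift_snd]
      apply CartesianMonoidalCategory.hom_ext
      · rw [Category.assoc, lift_fst, lift_snd, lift_fst]
      · rw [Category.assoc, lift_snd, lift_fst_assoc, lift_snd, lift_snd]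
  have K2 : ∀ {T : Over (Spec (CommRingCat.of k))} (g : T ⟶ G) (x : T ⟶ X) (y : T ⟶ Y),
      lift g (lift x y) ≫ a.act ≫ snd X Y =
        lift g (lift (toUnit T ≫ x₀) y) ≫ a.act ≫ snd X Y := by
    intro T g x y
    rw [← hF2, ← hF2]
    apply Groth.Agent.Lib.Helper19.Rigidity.lift_comp_eq X (G ⊗ Y) Y F2 x₀ hXiso (lift η[G] y₀)
    have e1 : lift (toUnit X ≫ lift η[G] y₀) (𝟙 X) =
        lift (lift (toUnit X ≫ η[G]) (toUnit X ≫ y₀)) (𝟙 X) := by
      rw [comp_lift]
    rw [e1, hF2, ← Category.assoc, one', lift_snd, hF2, one'', lift_snd]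
  -- the two actions
  let bact : G ⊗ X ⟶ X :=
    lift (fst G X) (lift (snd G X) (toUnit _ ≫ y₀)) ≫ a.act ≫ fst X Y
  let cact : G ⊗ Y ⟶ Y :=
    lift (fst G Y) (lift (toUnit _ ≫ x₀) (snd G Y)) ≫ a.act ≫ snd X Y
  have hb : ∀ {T : Over (Spec (CommRingCat.of k))} (g : T ⟶ G) (x : T ⟶ X),
      lift g x ≫ bact = lift g (lift x (toUnit T ≫ y₀)) ≫ a.act ≫ fst X Y := by
    intro T g x
    change lift g x ≫ lift (fst G X) (lift (snd G X) (toUnit _ ≫ y₀)) ≫ a.act ≫ fst X Y = _
    rw [← Category.assoc]
    congr 1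
    apply CartesianMonoidalCategory.hom_ext
    · rw [Category.assoc, lift_fst, lift_fst, lift_fst]
    · rw [Category.assoc, lift_snd, lift_snd]
      apply CartesianMonoidalCategory.hom_ext
      · rw [Category.assoc, lift_fst, lift_snd, lift_fst]
      · rw [Category.assoc, lift_snd, lift_snd, ← Category.assoc]
        congr 1
        exact toUnit_unique _ _
  have hc : ∀ {T : Over (Spec (CommRingCat.of k))} (g : T ⟶ G) (y : T ⟶ Y),
      lift g y ≫ cact = lift g (lift (toUnit T ≫ x₀) y) ≫ a.act ≫ snd X Y := by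
    intro T g y
    change lift g y ≫ lift (fst G Y) (lift (toUnit _ ≫ x₀) (snd G Y)) ≫ a.act ≫ snd X Y = _
    rw [← Category.assoc]
    congr 1
    apply CartesianMonoidalCategory.hom_ext
    · rw [Category.assoc, lift_fst, lift_fst, lift_fst]
    · rw [Category.assoc, lift_snd, lift_snd]
      apply CartesianMonoidalCategory.hom_ext
      · rw [Category.assoc, lift_fst, lift_fst, ← Category.assoc]
        congr 1
        exact toUnit_unique _ _
      · rw [Category.assoc, lift_snd, lift_snd, lift_snd]
  have hA : ∀ {T : Over (Spec (CommRingCat.of k))} (g : T ⟶ G) (x : T ⟶ X) (y : T ⟶ Y),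
      lift g (lift x y) ≫ a.act = lift (lift g x ≫ bact) (lift g y ≫ cact) := by
    intro T g x y
    apply CartesianMonoidalCategory.hom_ext
    · rw [Category.assoc, lift_fst, hb, K1]
    · rw [Category.assoc, lift_snd, hc, K2]
  let b : AlgGrp.Action G X := Groth.Agent.Lib.Helper19.ActionPts.mkOfPts bact
    (by
      intro T x
      rw [hb, ← Category.assoc, one', lift_fst])
    (by
      intro T g h x
      rw [hb, ← Category.assoc, mul', hA, Category.assoc, K1, ← hb])
  let c : AlgGrp.Action G Y := Groth.Agent.Lib.Helper19.ActionPts.mkOfPts cact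
    (by
      intro T y
      rw [hc, ← Category.assoc, one', lift_snd])
    (by
      intro T g h y
      rw [hc, ← Category.assoc, mul', hA, Category.assoc, K2, ← hc])
  have key : ∀ (b' : AlgGrp.Action G X) (c' : AlgGrp.Action G Y),
      a.act = lift ((G ◁ fst X Y) ≫ b'.act) ((G ◁ snd X Y) ≫ c'.act) →
        b'.act = bact ∧ c'.act = cact := by
    intro b' c' hbc
    constructor
    · have : ∀ {T : Over (Spec (CommRingCat.of k))} (g : T ⟶ G) (x : T ⟶ X),
          lift g x ≫ b'.act = lift g x ≫ bact := by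
        intro T g x
        rw [hb, hbc, lift_fst, Groth.Agent.Lib.Helper19.ActionPts.whiskerLeft_eq_lift,
          ← Category.assoc]
        congr 1
        apply CartesianMonoidalCategory.hom_ext
        · simp only [Category.assoc, lift_fst, lift_snd, lift_fst_assoc, lift_snd_assoc]
        · simp only [Category.assoc, lift_fst, lift_snd, lift_fst_assoc, lift_snd_assoc]
      have h2 := this (fst G X) (snd G X)
      rwa [lift_fst_snd, Category.id_comp, Category.id_comp] at h2
    · have : ∀ {T : Over (Spec (CommRingCat.of k))} (g : T ⟶ G) (y : T ⟶ Y),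
          lift g y ≫ c'.act = lift g y ≫ cact := by
        intro T g y
        rw [hc, hbc, lift_snd, Groth.Agent.Lib.Helper19.ActionPts.whiskerLeft_eq_lift,
          ← Category.assoc]
        congr 1
        apply CartesianMonoidalCategory.hom_ext
        · simp only [Category.assoc, lift_fst, lift_snd, lift_fst_assoc, lift_snd_assoc]
        · simp only [Category.assoc, lift_fst, lift_snd, lift_fst_assoc, lift_snd_assoc]
      have h2 := this (fst G Y) (snd G Y)
      rwa [lift_fst_snd, Category.id_comp, Category.id_comp] at h2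
  refine ⟨b, c, ?_, ?_⟩
  · have h2 := hA (fst G (X ⊗ Y)) (snd G (X ⊗ Y) ≫ fst X Y) (snd G (X ⊗ Y) ≫ snd X Y)
    rw [← comp_lift, lift_fst_snd, Category.comp_id, lift_fst_snd, Category.id_comp] at h2
    rw [h2, Groth.Agent.Lib.Helper19.ActionPts.whiskerLeft_eq_lift,
      Groth.Agent.Lib.Helper19.ActionPts.whiskerLeft_eq_lift]
    rfl
  · intro b' c' hbc
    obtain ⟨h1, h2⟩ := key b' c' hbc
    exact ⟨Groth.Agent.Lib.Helper19.ActionPts.ext' h1, Groth.Agent.Lib.Helper19.ActionPts.ext' h2⟩

end Groth.Agent.S11420
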