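import Groth.Statements.S11428
import Mathlib
import Groth.Agent.Lib.Helper81.GeomQuotSep

set_option autoImplicit false
universe u
open CategoryTheory MonoidalCategory CartesianMonoidalCategory MonObj GrpObj AlgebraicGeometry Topology
open GIT

namespace Groth.Agent.S11428

/-- If (Y, φ) is a geometric quotient of X by G over S, then Y is separated over S exactly when the
action is separated, i.e. the image of (σ, p₂) : G ×_S X → X ×_S X is closed. -/
theorem result (S : Scheme.{u}) (G X Y : Over S) [GrpObj G]
    (a : AlgGrp.Action G X) (φ : X ⟶ Y) (h : GIT.IsGeomQuot a φ) :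
    IsSeparated Y.hom ↔ IsClosed (Set.range (GIT.psi a (𝟙 X)).left.base) := by
  have e1 : (GIT.psi a (𝟙 X)).left ≫ Limits.pullback.fst X.hom X.hom = a.act.left := by
    have : GIT.psi a (𝟙 X) ≫ fst X X = a.act := by
      unfold GIT.psi
      rw [lift_fst, whiskerLeft_id, Category.id_comp]
    exact congrArg CommaMorphism.left this
  have e2 : (GIT.psi a (𝟙 X)).left ≫ Limits.pullback.snd X.hom X.hom = (snd G X).left := by
    have : GIT.psi a (𝟙 X) ≫ snd X X = snd G X := by
      unfold GIT.psi
      rw [lift_snd]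
    exact congrArg CommaMorphism.left this
  have hψ : ((GIT.psi a (𝟙 X)).left ≫ Limits.pullback.fst X.hom X.hom) ≫ φ.left =
      ((GIT.psi a (𝟙 X)).left ≫ Limits.pullback.snd X.hom X.hom) ≫ φ.left := by
    rw [e1, e2]
    exact h.inv.left
  have hL : (Limits.pullback.lift ((GIT.psi a (𝟙 X)).left ≫ Limits.pullback.fst X.hom X.hom)
      ((GIT.psi a (𝟙 X)).left ≫ Limits.pullback.snd X.hom X.hom) hψ :
        (G ⊗ X).left ⟶ Limits.pullback φ.left φ.left) = GIT.PsiY a φ h.inv := by
    unfold GIT.PsiY
    apply Limits.pullback.hom_ext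
    · rw [Limits.pullback.lift_fst, Limits.pullback.lift_fst, e1]
    · rw [Limits.pullback.lift_snd, Limits.pullback.lift_snd, e2]
  exact Groth.Agent.Lib.Helper81.GeomQuotSep.main φ.left Y.hom X.hom (Over.w φ) h.subm
    (GIT.psi a (𝟙 X)).left hψ (by rw [hL]; exact h.orbit)

end Groth.Agent.S11428
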