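import Groth.Statements.S18384
import Mathlib
import Groth.Agent.Lib.Helper11.KrullSpec

set_option autoImplicit false
universe u
open CategoryTheory CategoryTheory.Limits AlgebraicGeometry
open Coherent

namespace Groth.Agent.S18384

section helpers
open CategoryTheory AlgebraicGeometry Limits
open Groth.Agent.Lib.Helper11.KrullSpec


/-- the local statement: `Spec O_{X,x} ⟶ X` factors through the closed subscheme. -/
theorem local_factor {X S : Scheme.{u}} [IsLocallyNoetherian X] (p : X ⟶ S) (x : X)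
    (I : X.IdealSheafData)
    (h : ∀ n : ℕ, ∃ g : pullback p (Spec.map (CommRingCat.ofHom (Ideal.Quotient.mk
        (IsLocalRing.maximalIdeal ↑(S.presheaf.stalk (p x)) ^ (n + 1)))) ≫ S.fromSpecStalk (p x)) ⟶
          I.subscheme, g ≫ I.subschemeι = pullback.fst p _) :
    ∃ σ : Spec (X.presheaf.stalk x) ⟶ I.subscheme, σ ≫ I.subschemeι = X.fromSpecStalk x := by
  let ψ := p.stalkMap x
  let J : Ideal (X.presheaf.stalk x) := Ideal.map ψ.hom (IsLocalRing.maximalIdeal _)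
  have hJle : J ≤ IsLocalRing.maximalIdeal (X.presheaf.stalk x) :=
    IsLocalRing.map_maximalIdeal_le ψ.hom
  have hJ : J ≠ ⊤ := fun h => (IsLocalRing.maximalIdeal.isMaximal _).ne_top (top_le_iff.mp (h ▸ hJle))
  have hle : ∀ n : ℕ, IsLocalRing.maximalIdeal ↑(S.presheaf.stalk (p x)) ^ (n + 1) ≤
      Ideal.comap ψ.hom (J ^ (n + 1)) := by
    intro n
    rw [← Ideal.map_le_iff_le_comap, Ideal.map_pow]
  have hlift : ∀ n : ℕ, ∃ g : Spec (CommRingCat.of ((X.presheaf.stalk x : Type u) ⧸ J ^ (n + 1))) ⟶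
      pullback (X.fromSpecStalk x) I.subschemeι,
      g ≫ pullback.fst (X.fromSpecStalk x) I.subschemeι =
        Spec.map (CommRingCat.ofHom (Ideal.Quotient.mk (J ^ (n + 1)))) := by
    intro n
    obtain ⟨g, hg⟩ := h n
    have compat : (Spec.map (CommRingCat.ofHom (Ideal.Quotient.mk (J ^ (n + 1)))) ≫
        X.fromSpecStalk x) ≫ p =
        Spec.map (CommRingCat.ofHom (Ideal.quotientMap (J ^ (n + 1)) ψ.hom (hle n))) ≫
          (Spec.map (CommRingCat.ofHom (Ideal.Quotient.mk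
            (IsLocalRing.maximalIdeal ↑(S.presheaf.stalk (p x)) ^ (n + 1)))) ≫
              S.fromSpecStalk (p x)) := by
      rw [Category.assoc, ← Scheme.SpecMap_stalkMap_fromSpecStalk, ← Category.assoc,
        ← Category.assoc, ← Spec.map_comp, ← Spec.map_comp]
      congr 2
    let r := pullback.lift _ _ compat
    have hr : r ≫ pullback.fst p _ =
        Spec.map (CommRingCat.ofHom (Ideal.Quotient.mk (J ^ (n + 1)))) ≫ X.fromSpecStalk x :=
      pullback.lift_fst _ _ _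
    refine ⟨pullback.lift (Spec.map (CommRingCat.ofHom (Ideal.Quotient.mk (J ^ (n + 1)))))
      (r ≫ g) ?_, pullback.lift_fst _ _ _⟩
    rw [Category.assoc, hg, hr]
    rfl
  haveI := isIso_of_isClosedImmersion_of_forall_lift (R := (X.presheaf.stalk x : Type u)) J hJ
    (pullback.fst (X.fromSpecStalk x) I.subschemeι) hlift
  refine ⟨inv (pullback.fst (X.fromSpecStalk x) I.subschemeι) ≫ pullback.snd _ _, ?_⟩
  rw [Category.assoc, ← pullback.condition, IsIso.inv_hom_id_assoc]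

theorem glue {X Z : Scheme.{u}} (ι : Z ⟶ X) [Mono ι] {T : Type*} (V : T → X.Opens)
    (g : ∀ i, (V i : Scheme.{u}) ⟶ Z) (hg : ∀ i, g i ≫ ι = (V i).ι) :
    ∃ G : ((⨆ i, V i : X.Opens) : Scheme.{u}) ⟶ Z, G ≫ ι = (⨆ i, V i : X.Opens).ι := by
  let 𝒰 := Scheme.Opens.iSupOpenCover V
  have hf : ∀ i : T, 𝒰.f i ≫ (⨆ i, V i : X.Opens).ι = (V i).ι := fun i => X.homOfLE_ι (le_iSup V i)
  have hcomp : ∀ i j : T, pullback.fst (𝒰.f i) (𝒰.f j) ≫ g i = pullback.snd (𝒰.f i) (𝒰.f j) ≫ g j := by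
    intro i j
    rw [← cancel_mono ι, Category.assoc, Category.assoc]
    have e1 : g i ≫ ι = 𝒰.f i ≫ (⨆ i, V i : X.Opens).ι := (hg i).trans (hf i).symm
    have e2 : g j ≫ ι = 𝒰.f j ≫ (⨆ i, V i : X.Opens).ι := (hg j).trans (hf j).symm
    calc pullback.fst (𝒰.f i) (𝒰.f j) ≫ g i ≫ ι
        = pullback.fst (𝒰.f i) (𝒰.f j) ≫ 𝒰.f i ≫ (⨆ i, V i : X.Opens).ι :=
          congrArg (pullback.fst (𝒰.f i) (𝒰.f j) ≫ ·) e1
      _ = pullback.snd (𝒰.f i) (𝒰.f j) ≫ 𝒰.f j ≫ (⨆ i, V i : X.Opens).ι :=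
          pullback.condition_assoc _
      _ = pullback.snd (𝒰.f i) (𝒰.f j) ≫ g j ≫ ι :=
          (congrArg (pullback.snd (𝒰.f i) (𝒰.f j) ≫ ·) e2).symm
  let G := 𝒰.glueMorphisms g hcomp
  refine ⟨G, ?_⟩
  apply 𝒰.hom_ext
  intro i
  have h1 : 𝒰.f i ≫ G = g i := 𝒰.ι_glueMorphisms g hcomp i
  rw [← Category.assoc, h1]
  exact (hg i).trans (hf i).symm

end helpers

/-- Let p : X → S be a morphism of locally Noetherian schemes, t a point of S, m the maximal ideal of
the local ring O_{S,t}, and Z the closed subscheme of X defined by a quasi-coherent ideal I. Suppose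
that for every n ≥ 1 the projection X ×_S Spec(O_{S,t}/m^n) → X factors through Z. Then there is an
open subscheme U of X containing every point of the fibre p⁻¹(t) such that the inclusion U → X
factors through Z. -/
theorem result {X S : Scheme.{u}}
    [IsLocallyNoetherian X] [IsLocallyNoetherian S] (p : X ⟶ S) (t : S) (I : X.IdealSheafData)
    (h : ∀ n : ℕ, ∃ g : pullback p (Spec.map (CommRingCat.ofHom (Ideal.Quotient.mk
        (IsLocalRing.maximalIdeal ↑(S.presheaf.stalk t) ^ (n + 1)))) ≫ S.fromSpecStalk t) ⟶ I.subscheme,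
        g ≫ I.subschemeι = pullback.fst p _) :
    ∃ U : X.Opens, (∀ x : X, p.base x = t → x ∈ U) ∧
      ∃ g : (U : Scheme.{u}) ⟶ I.subscheme, g ≫ I.subschemeι = U.ι := by
  have key : ∀ x : {x : X // p.base x = t}, ∃ (V : X.Opens) (_ : x.1 ∈ V)
      (g : (V : Scheme.{u}) ⟶ I.subscheme), g ≫ I.subschemeι = V.ι := by
    rintro ⟨x, hx⟩
    subst hx
    obtain ⟨σ, hσ⟩ := local_factor p x I h
    obtain ⟨V, hxV, g, -, hg⟩ := spread_out_of_isGermInjective' (𝟙 X) I.subschemeι σ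
      (by rw [hσ, Category.comp_id])
    exact ⟨V, hxV, g, by rw [hg, Category.comp_id]⟩
  choose V hxV g hg using key
  obtain ⟨G, hG⟩ := glue I.subschemeι V g hg
  refine ⟨⨆ i, V i, fun x hx => ?_, G, hG⟩
  exact TopologicalSpace.Opens.mem_iSup.mpr ⟨⟨x, hx⟩, hxV ⟨x, hx⟩⟩

end Groth.Agent.S18384
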