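import Groth.Statements.S15364
import Mathlib
import Groth.Agent.Lib.Helper19.Act.SectionRigid
import Groth.Agent.S18384

set_option autoImplicit false
universe u
open CategoryTheory CategoryTheory.Limits MonoidalCategory CartesianMonoidalCategory AlgebraicGeometry
open AbSch

namespace Groth.Agent.S15364

section helpers
open CategoryTheory CategoryTheory.Limits MonoidalCategory CartesianMonoidalCategory AlgebraicGeometry
open AbSch


section Alg
open TensorProduct

/-- flatness: `(JB : s) = (J : s) B`, in the form needed. -/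
theorem flat_colon {R B : Type*} [CommRing R] [CommRing B] [Algebra R B] [Module.Flat R B]
    (J m : Ideal R) (s : R) (hs : ∀ r : R, r * s ∈ J → r ∈ m) (b : B)
    (hb : b * algebraMap R B s ∈ J.map (algebraMap R B)) : b ∈ m.map (algebraMap R B) := by
  let I' : Ideal R := Submodule.colon (J : Submodule R R) {s}
  have hI' : ∀ r, r ∈ I' ↔ r * s ∈ J := fun r => by
    change r ∈ Submodule.colon (J : Submodule R R) {s} ↔ _
    rw [Submodule.mem_colon_singleton, smul_eq_mul]
  have hle : I' ≤ m := fun r hr => hs r ((hI' r).1 hr)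
  let μ : (R ⧸ I') →ₗ[R] (R ⧸ J) := Submodule.mapQ I' J (LinearMap.mulRight R s) (by
    intro r hr
    rw [Submodule.mem_comap]
    exact (hI' r).1 hr)
  have hμ : Function.Injective μ := by
    rw [injective_iff_map_eq_zero]
    intro x hx
    obtain ⟨r, rfl⟩ := Submodule.Quotient.mk_surjective _ x
    have h1 : μ (Submodule.Quotient.mk r) = Submodule.Quotient.mk (r * s) := rfl
    rw [h1, Submodule.Quotient.mk_eq_zero] at hx
    rw [Submodule.Quotient.mk_eq_zero]
    exact (hI' r).2 hx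
  have hinj := Module.Flat.lTensor_preserves_injective_linearMap (M := B) μ hμ
  have h2 : (μ.lTensor B) (b ⊗ₜ[R] (Ideal.Quotient.mk I' 1)) = 0 := by
    rw [LinearMap.lTensor_tmul]
    have h3 : μ (Ideal.Quotient.mk I' 1) = Ideal.Quotient.mk J s := by
      change Submodule.Quotient.mk ((1 : R) * s) = _
      rw [one_mul]; rfl
    rw [h3]
    apply (tensorQuotEquivQuotSMul B J).injective
    rw [tensorQuotEquivQuotSMul_tmul_mk, map_zero, Submodule.Quotient.mk_eq_zero,
      Ideal.smul_top_eq_map, Submodule.restrictScalars_mem, Algebra.smul_def, mul_comm]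
    exact hb
  have h4 : b ⊗ₜ[R] (Ideal.Quotient.mk I' 1) = 0 := by
    apply hinj
    rw [h2, map_zero]
  have h5 := congrArg (tensorQuotEquivQuotSMul B I') h4
  rw [tensorQuotEquivQuotSMul_tmul_mk, map_zero, Submodule.Quotient.mk_eq_zero,
    Ideal.smul_top_eq_map, Submodule.restrictScalars_mem, one_smul] at h5
  exact Ideal.map_mono hle h5

/-- kernel of `B → B ⊗_R C` for `R → C` surjective. -/
theorem ker_of_pushout {R B C P : Type*} [CommRing R] [CommRing B] [CommRing C] [CommRing P]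
    [Algebra R B] [Algebra R C] [Algebra B P] [Algebra C P] [Algebra R P]
    [IsScalarTower R B P] [IsScalarTower R C P] (hp : Algebra.IsPushout R B C P)
    (hsurj : Function.Surjective (algebraMap R C)) (b : B) (hb : algebraMap B P b = 0) :
    b ∈ (RingHom.ker (algebraMap R C)).map (algebraMap R B) := by
  set I := (RingHom.ker (algebraMap R C)).map (algebraMap R B) with hI
  let f : B →ₐ[R] (B ⧸ I) := Ideal.Quotient.mkₐ R I
  let g0 : C →+* (B ⧸ I) := (algebraMap R C).liftOfSurjective hsurj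
    ⟨(Ideal.Quotient.mk I).comp (algebraMap R B), by
      intro r hr
      rw [RingHom.mem_ker, RingHom.comp_apply, Ideal.Quotient.eq_zero_iff_mem]
      exact Ideal.mem_map_of_mem _ hr⟩
  have hg0 : ∀ r : R, g0 (algebraMap R C r) = Ideal.Quotient.mk I (algebraMap R B r) := fun r =>
    RingHom.liftOfSurjective_comp_apply _ hsurj _ r
  let g : C →ₐ[R] (B ⧸ I) := ⟨g0, fun r => (hg0 r).trans rfl⟩
  have key := Algebra.pushoutDesc_left P f g (fun x y => mul_comm _ _) b
  rw [hb, map_zero] at key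
  have : f b = Ideal.Quotient.mk I b := rfl
  rw [this] at key
  exact Ideal.Quotient.eq_zero_iff_mem.1 key.symm

/-- socle-type element. -/
theorem exists_socle {R : Type*} [CommRing R] [IsLocalRing R] (N : ℕ)
    (hN : IsLocalRing.maximalIdeal R ^ N = ⊥) (J : Ideal R) (hJ : J ≠ ⊤) :
    ∃ s : R, s ∉ J ∧ (∀ r ∈ IsLocalRing.maximalIdeal R, r * s ∈ J) ∧
      ∀ r : R, r * s ∈ J → r ∈ IsLocalRing.maximalIdeal R := by
  classical
  have hex : ∃ k, IsLocalRing.maximalIdeal R ^ k ≤ J := ⟨N, by rw [hN]; exact bot_le⟩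
  set k0 := Nat.find hex with hk0
  have hk0le : IsLocalRing.maximalIdeal R ^ k0 ≤ J := Nat.find_spec hex
  have hk0ne : k0 ≠ 0 := by
    intro h0
    rw [h0, pow_zero, Ideal.one_eq_top, top_le_iff] at hk0le
    exact hJ hk0le
  obtain ⟨k1, hk1⟩ := Nat.exists_eq_succ_of_ne_zero hk0ne
  have hnot : ¬ IsLocalRing.maximalIdeal R ^ k1 ≤ J := by
    apply Nat.find_min hex
    rw [← hk0, hk1]; exact Nat.lt_succ_self k1
  obtain ⟨s, hs, hsJ⟩ := SetLike.not_le_iff_exists.1 hnot
  refine ⟨s, hsJ, fun r hr => ?_, fun r hr => ?_⟩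
  · apply hk0le
    rw [hk1, pow_succ']
    exact Ideal.mul_mem_mul hr hs
  · by_contra hrm
    have hu : IsUnit r := by
      by_contra h
      exact hrm ((IsLocalRing.mem_maximalIdeal r).2 h)
    obtain ⟨u, rfl⟩ := hu
    apply hsJ
    have := J.mul_mem_left (↑u⁻¹ : R) hr
    rwa [← mul_assoc, Units.inv_mul, one_mul] at this

end Alg

section Key

variable {R : Type u} [CommRing R] {Y : Scheme.{u}} (q : Y ⟶ Spec (CommRingCat.of R))

theorem hleTop (U : Y.Opens) : U ≤ q ⁻¹ᵁ ⊤ := fun _ _ => trivial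

/-- structure map to sections over `U`. -/
noncomputable def ρ (U : Y.Opens) : R →+* Γ(Y, U) :=
  ((Scheme.ΓSpecIso (CommRingCat.of R)).inv ≫ q.appLE ⊤ U (hleTop q U)).hom

theorem ρ_res {U W : Y.Opens} (h : W ≤ U) (r : R) :
    (Y.presheaf.map (homOfLE h).op).hom (ρ q U r) = ρ q W r := by
  have := Scheme.Hom.appLE_map q (hleTop q U) (homOfLE h).op
  simp only [ρ, CommRingCat.hom_comp, RingHom.comp_apply]
  rw [← this]
  rfl

theorem res_mem {U W : Y.Opens} (h : W ≤ U) (J : Ideal R) (x : Γ(Y, U))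
    (hx : x ∈ J.map (ρ q U)) : (Y.presheaf.map (homOfLE h).op).hom x ∈ J.map (ρ q W) := by
  have h1 := Ideal.mem_map_of_mem (Y.presheaf.map (homOfLE h).op).hom hx
  rw [Ideal.map_map] at h1
  have h2 : (Y.presheaf.map (homOfLE h).op).hom.comp (ρ q U) = ρ q W :=
    RingHom.ext fun r => ρ_res q h r
  rwa [h2] at h1

theorem flat_ρ [Flat q] (U : Y.affineOpens) : (ρ q U.1).Flat := by
  have h1 : (q.appLE ⊤ U.1 (hleTop q U.1)).hom.Flat :=
    HasRingHomProperty.appLE @Flat q inferInstance ⟨⊤, isAffineOpen_top _⟩ U _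
  have h2 : ((Scheme.ΓSpecIso (CommRingCat.of R)).inv).hom.Flat :=
    RingHom.Flat.of_bijective
      (ConcreteCategory.bijective_of_isIso (Scheme.ΓSpecIso (CommRingCat.of R)).inv)
  exact RingHom.Flat.comp h2 h1

end Key

section Fibre

variable {R : Type u} [CommRing R] [IsLocalRing R] {Y : Scheme.{u}}
  (q : Y ⟶ Spec (CommRingCat.of R))

/-- the closed point as a morphism. -/
noncomputable abbrev fres (R : Type u) [CommRing R] [IsLocalRing R] :
    Spec (CommRingCat.of (IsLocalRing.ResidueField R)) ⟶ Spec (CommRingCat.of R) :=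
  Spec.map (CommRingCat.ofHom (IsLocalRing.residue R))

theorem appLE_congr_hom {X Y : Scheme.{u}} {f f' : X ⟶ Y} (h : f = f') (U : Y.Opens) (V : X.Opens)
    (e : V ≤ f ⁻¹ᵁ U) (e' : V ≤ f' ⁻¹ᵁ U) : f.appLE U V e = f'.appLE U V e' := by
  subst h
  rfl

theorem fres_appTop (r : R) :
    ((fres R).appTop).hom ((Scheme.ΓSpecIso (CommRingCat.of R)).inv.hom r) =
      (Scheme.ΓSpecIso (CommRingCat.of (IsLocalRing.ResidueField R))).inv.hom
        (IsLocalRing.residue R r) := by
  have := Scheme.ΓSpecIso_inv_naturality (CommRingCat.ofHom (IsLocalRing.residue R))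
  have h2 := congrArg (fun φ => φ.hom r) this
  simp only [CommRingCat.hom_comp, RingHom.comp_apply, CommRingCat.hom_ofHom] at h2
  exact h2.symm

theorem sq_apply (U : Y.Opens) (x : Γ(Spec (CommRingCat.of R), ⊤)) :
    ((pullback.fst q (fres R)).app U).hom ((q.appLE ⊤ U (hleTop q U)).hom x) =
      ((pullback.snd q (fres R)).appLE ⊤ ((pullback.fst q (fres R)) ⁻¹ᵁ U)
        (fun _ _ => trivial)).hom ((fres R).appTop.hom x) := by
  have h1 : q.appLE ⊤ U (hleTop q U) ≫ (pullback.fst q (fres R)).app U =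
      (fres R).appTop ≫ (pullback.snd q (fres R)).appLE ⊤ ((pullback.fst q (fres R)) ⁻¹ᵁ U)
        (fun _ _ => trivial) := by
    have hA : (fres R).appTop = (fres R).appLE ⊤ ⊤ (fun _ _ => trivial) := by
      rw [Scheme.Hom.appTop, Scheme.Hom.app_eq_appLE]
      rfl
    rw [hA, Scheme.Hom.app_eq_appLE, Scheme.Hom.appLE_comp_appLE, Scheme.Hom.appLE_comp_appLE]
    exact appLE_congr_hom pullback.condition _ _ _ _
  have := congrArg (fun φ => φ.hom x) h1
  simpa only [CommRingCat.hom_comp, RingHom.comp_apply] using this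

theorem fact1 (U : Y.Opens) (r : R) (hr : r ∈ IsLocalRing.maximalIdeal R) :
    ((pullback.fst q (fres R)).app U).hom (ρ q U r) = 0 := by
  have h1 : ρ q U r = (q.appLE ⊤ U (hleTop q U)).hom
      ((Scheme.ΓSpecIso (CommRingCat.of R)).inv.hom r) := rfl
  rw [h1, sq_apply, fres_appTop]
  have : IsLocalRing.residue R r = 0 := (IsLocalRing.residue_eq_zero_iff r).2 hr
  rw [this, map_zero, map_zero]

theorem fact1' (U : Y.Opens) (x : Γ(Y, U)) (hx : x ∈ (IsLocalRing.maximalIdeal R).map (ρ q U)) :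
    ((pullback.fst q (fres R)).app U).hom x = 0 := by
  have hle : (IsLocalRing.maximalIdeal R).map (ρ q U) ≤
      RingHom.ker ((pullback.fst q (fres R)).app U).hom := by
    rw [Ideal.map_le_iff_le_comap]
    intro r hr
    rw [Ideal.mem_comap, RingHom.mem_ker]
    exact fact1 q U r hr
  exact hle hx

theorem fact2 (U : Y.affineOpens) (b : Γ(Y, U.1))
    (hb : ((pullback.fst q (fres R)).app U.1).hom b = 0) :
    b ∈ (IsLocalRing.maximalIdeal R).map (ρ q U.1) := by
  have H : IsPullback (pullback.fst q (fres R)) (pullback.snd q (fres R)) q (fres R) :=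
    IsPullback.of_hasPullback q (fres R)
  have hUST : (⊤ : (Spec (CommRingCat.of (IsLocalRing.ResidueField R))).Opens) ≤
      (fres R) ⁻¹ᵁ ⊤ := fun _ _ => trivial
  have hUSX : U.1 ≤ q ⁻¹ᵁ ⊤ := hleTop q U.1
  have hiso := isIso_pushoutSection_of_isAffineOpen H (US := ⊤) (UT := ⊤) (UX := U.1)
    (UY := (pullback.fst q (fres R)) ⁻¹ᵁ U.1 ⊓ (pullback.snd q (fres R)) ⁻¹ᵁ ⊤) hUST hUSX rfl
    (isAffineOpen_top _) (isAffineOpen_top _) U.2
  have hpo := (isIso_pushoutSection_iff H (US := ⊤) (UT := ⊤) (UX := U.1)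
    (UY := (pullback.fst q (fres R)) ⁻¹ᵁ U.1 ⊓ (pullback.snd q (fres R)) ⁻¹ᵁ ⊤)
    hUST hUSX rfl).mp hiso
  set UY := (pullback.fst q (fres R)) ⁻¹ᵁ U.1 ⊓ (pullback.snd q (fres R)) ⁻¹ᵁ ⊤ with hUY
  letI a1 : Algebra Γ(Spec (CommRingCat.of R), ⊤) Γ(Y, U.1) :=
    (q.appLE ⊤ U.1 hUSX).hom.toAlgebra
  letI a2 : Algebra Γ(Spec (CommRingCat.of R), ⊤)
      Γ(Spec (CommRingCat.of (IsLocalRing.ResidueField R)), ⊤) :=
    ((fres R).appLE ⊤ ⊤ hUST).hom.toAlgebra
  letI a3 : Algebra Γ(Y, U.1) Γ(pullback q (fres R), UY) :=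
    ((pullback.fst q (fres R)).appLE U.1 UY inf_le_left).hom.toAlgebra
  letI a4 : Algebra Γ(Spec (CommRingCat.of (IsLocalRing.ResidueField R)), ⊤)
      Γ(pullback q (fres R), UY) :=
    ((pullback.snd q (fres R)).appLE ⊤ UY inf_le_right).hom.toAlgebra
  letI a5 : Algebra Γ(Spec (CommRingCat.of R), ⊤) Γ(pullback q (fres R), UY) :=
    (q.appLE ⊤ U.1 hUSX ≫ (pullback.fst q (fres R)).appLE U.1 UY inf_le_left).hom.toAlgebra
  haveI t1 : IsScalarTower Γ(Spec (CommRingCat.of R), ⊤) Γ(Y, U.1)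
      Γ(pullback q (fres R), UY) := .of_algebraMap_eq' rfl
  haveI t2 : IsScalarTower Γ(Spec (CommRingCat.of R), ⊤)
      Γ(Spec (CommRingCat.of (IsLocalRing.ResidueField R)), ⊤) Γ(pullback q (fres R), UY) :=
    .of_algebraMap_eq' (congr_arg CommRingCat.Hom.hom hpo.w)
  have hp : Algebra.IsPushout Γ(Spec (CommRingCat.of R), ⊤) Γ(Y, U.1)
      Γ(Spec (CommRingCat.of (IsLocalRing.ResidueField R)), ⊤) Γ(pullback q (fres R), UY) :=
    (CommRingCat.isPushout_iff_isPushout).mp hpo
  have hA : (fres R).appLE ⊤ ⊤ hUST = (fres R).appTop := by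
    rw [Scheme.Hom.appTop, Scheme.Hom.app_eq_appLE]
    rfl
  have hsurj : Function.Surjective (algebraMap Γ(Spec (CommRingCat.of R), ⊤)
      Γ(Spec (CommRingCat.of (IsLocalRing.ResidueField R)), ⊤)) := by
    intro y
    obtain ⟨r, hr⟩ := IsLocalRing.residue_surjective
      ((Scheme.ΓSpecIso (CommRingCat.of (IsLocalRing.ResidueField R))).hom.hom y)
    refine ⟨(Scheme.ΓSpecIso (CommRingCat.of R)).inv.hom r, ?_⟩
    change ((fres R).appLE ⊤ ⊤ hUST).hom _ = y
    rw [hA, fres_appTop, hr]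
    exact congr($((Scheme.ΓSpecIso (CommRingCat.of (IsLocalRing.ResidueField R))).hom_inv_id) y)
  have hb' : algebraMap Γ(Y, U.1) Γ(pullback q (fres R), UY) b = 0 := by
    change ((pullback.fst q (fres R)).appLE U.1 UY inf_le_left).hom b = 0
    rw [Scheme.Hom.appLE, CommRingCat.hom_comp, RingHom.comp_apply, hb, map_zero]
  have h1 := ker_of_pushout hp hsurj b hb'
  refine (Ideal.map_le_iff_le_comap.2 ?_) h1
  intro x hx
  rw [Ideal.mem_comap]
  rw [RingHom.mem_ker] at hx
  change ((fres R).appLE ⊤ ⊤ hUST).hom x = 0 at hx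
  set r := (Scheme.ΓSpecIso (CommRingCat.of R)).hom.hom x with hr
  have hxr : x = (Scheme.ΓSpecIso (CommRingCat.of R)).inv.hom r :=
    (congr($((Scheme.ΓSpecIso (CommRingCat.of R)).hom_inv_id) x)).symm
  rw [hA, hxr, fres_appTop] at hx
  have hr0 : IsLocalRing.residue R r = 0 := by
    have := congrArg (Scheme.ΓSpecIso (CommRingCat.of (IsLocalRing.ResidueField R))).hom.hom hx
    rw [map_zero] at this
    rw [← this]
    exact (congr($((Scheme.ΓSpecIso (CommRingCat.of (IsLocalRing.ResidueField R))).inv_hom_id)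
      (IsLocalRing.residue R r))).symm
  have hrm : r ∈ IsLocalRing.maximalIdeal R := (IsLocalRing.residue_eq_zero_iff r).1 hr0
  have : algebraMap Γ(Spec (CommRingCat.of R), ⊤) Γ(Y, U.1) x = ρ q U.1 r := by
    rw [hxr]; rfl
  rw [this]
  exact Ideal.mem_map_of_mem _ hrm

end Fibre

section KeyThm

variable {R : Type u} [CommRing R] [IsLocalRing R] [IsNoetherianRing R] {Y : Scheme.{u}}
  (q : Y ⟶ Spec (CommRingCat.of R))

theorem map_map_apply' {X : Scheme.{u}} {U V W : X.Opens} (i : V ⟶ U) (j : W ⟶ V) (k : W ⟶ U)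
    (s : Γ(X, U)) :
    (X.presheaf.map j.op).hom ((X.presheaf.map i.op).hom s) = (X.presheaf.map k.op).hom s := by
  rw [← RingHom.comp_apply, ← CommRingCat.hom_comp, ← Functor.map_comp]
  rfl

/-- naturality of `ι.app` w.r.t. restriction, elementwise. -/
theorem app_res {X Y : Scheme.{u}} (ι : X ⟶ Y) {U W : Y.Opens} (h : W ≤ U) (x : Γ(Y, U)) :
    (ι.app W).hom ((Y.presheaf.map (homOfLE h).op).hom x) =
      (X.presheaf.map (homOfLE (show ι ⁻¹ᵁ W ≤ ι ⁻¹ᵁ U from fun _ hx => h hx)).op).hom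
        ((ι.app U).hom x) := by
  have := ι.naturality (homOfLE h).op
  exact congr($this x)

theorem key [Flat q] (N : ℕ) (hN : IsLocalRing.maximalIdeal R ^ N = ⊥)
    (e : Spec (CommRingCat.of R) ⟶ Y) (he : e ≫ q = 𝟙 _)
    (h0 : ∀ c : Γ(pullback q (fres R), ⊤), ∃ r : R,
      c = ((pullback.fst q (fres R)).app ⊤).hom (ρ q ⊤ r))
    (g : Γ(Y, ⊤)) (hg : e.appTop.hom g = 0) : g = 0 := by
  classical
  set ι0 := pullback.fst q (fres R) with hι0
  set m := IsLocalRing.maximalIdeal R with hm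
  -- an affine open containing the image of the closed point
  obtain ⟨_, ⟨U0, hU0 : IsAffineOpen U0, rfl⟩, hxU0, -⟩ :=
    (Y.isBasis_affineOpens).exists_subset_of_mem_open
      (Set.mem_univ (e.base (IsLocalRing.closedPoint R))) isOpen_univ
  have heU0 : e ⁻¹ᵁ U0 = ⊤ := (IsLocalRing.closedPoint_mem_iff _).mp hxU0
  have heU0' : (⊤ : (Spec (CommRingCat.of R)).Opens) ≤ e ⁻¹ᵁ U0 := by rw [heU0]
  -- evaluation at e
  let E0 : Γ(Y, U0) →+* R :=
    ((e.appLE U0 ⊤ heU0') ≫ (Scheme.ΓSpecIso (CommRingCat.of R)).hom).hom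
  have hE0ρ : ∀ r : R, E0 (ρ q U0 r) = r := by
    intro r
    have h1 : q.appLE ⊤ U0 (hleTop q U0) ≫ e.appLE U0 ⊤ heU0' = 𝟙 _ := by
      rw [Scheme.Hom.appLE_comp_appLE]
      rw [appLE_congr_hom he ⊤ ⊤ _ (fun _ _ => trivial)]
      simp [Scheme.Hom.appLE]
    have h2 := congr($h1 ((Scheme.ΓSpecIso (CommRingCat.of R)).inv.hom r))
    simp only [CommRingCat.hom_comp, RingHom.comp_apply, CommRingCat.hom_id, RingHom.id_apply]
      at h2
    change (Scheme.ΓSpecIso (CommRingCat.of R)).hom.hom ((e.appLE U0 ⊤ heU0').hom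
      ((q.appLE ⊤ U0 (hleTop q U0)).hom ((Scheme.ΓSpecIso (CommRingCat.of R)).inv.hom r))) = r
    rw [h2]
    exact congr($((Scheme.ΓSpecIso (CommRingCat.of R)).inv_hom_id) r)
  have hE0g : E0 ((Y.presheaf.map (homOfLE (le_top : U0 ≤ ⊤)).op).hom g) = 0 := by
    have h1 := Scheme.Hom.map_appLE e heU0' (homOfLE (le_top : U0 ≤ ⊤)).op
    have h2 := congr($h1 g)
    simp only [CommRingCat.hom_comp, RingHom.comp_apply] at h2
    change (Scheme.ΓSpecIso (CommRingCat.of R)).hom.hom ((e.appLE U0 ⊤ heU0').hom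
      ((Y.presheaf.map (homOfLE (le_top : U0 ≤ ⊤)).op).hom g)) = 0
    rw [h2]
    have h3 : (e.appLE ⊤ ⊤ (heU0'.trans ((TopologicalSpace.Opens.map e.base).map
        (homOfLE (le_top : U0 ≤ ⊤)).op.unop).le)).hom g = e.appTop.hom g := by
      rw [Scheme.Hom.appTop, Scheme.Hom.app_eq_appLE]
      rfl
    rw [h3, hg, map_zero]
  have P : ∀ J : Ideal R, ∀ U : Y.affineOpens,
      (Y.presheaf.map (homOfLE (le_top : U.1 ≤ ⊤)).op).hom g ∈ J.map (ρ q U.1) := by
    intro J
    refine IsNoetherian.induction (P := fun J : Ideal R => ∀ U : Y.affineOpens,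
      (Y.presheaf.map (homOfLE (le_top : U.1 ≤ ⊤)).op).hom g ∈ J.map (ρ q U.1))
      (fun (J : Ideal R) (IH : ∀ J' : Ideal R, J' > J → ∀ U : Y.affineOpens,
        (Y.presheaf.map (homOfLE (le_top : U.1 ≤ ⊤)).op).hom g ∈ J'.map (ρ q U.1)) => ?_) J
    by_cases hJ : J = ⊤
    · intro U
      rw [hJ, Ideal.map_top]
      trivial
    obtain ⟨s, hsJ, hms, hcolon⟩ := exists_socle N hN J hJ
    have hlt : J < J ⊔ Ideal.span {s} := by
      refine lt_of_le_of_ne le_sup_left fun h => hsJ ?_
      rw [h]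
      exact Ideal.mem_sup_right (Ideal.mem_span_singleton_self s)
    have hP := IH _ hlt
    have hdec : ∀ U : Y.affineOpens, ∃ j ∈ J.map (ρ q U.1), ∃ b : Γ(Y, U.1),
        (Y.presheaf.map (homOfLE (le_top : U.1 ≤ ⊤)).op).hom g = j + b * ρ q U.1 s := by
      intro U
      have := hP U
      rw [Ideal.map_sup, Ideal.map_span, Set.image_singleton] at this
      obtain ⟨j, hj, z, hz, hjz⟩ := Submodule.mem_sup.1 this
      obtain ⟨b, hb⟩ := Ideal.mem_span_singleton'.1 hz
      exact ⟨j, hj, b, by rw [← hjz, ← hb]⟩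
    choose j hj b hgb using hdec
    have UQ : ∀ (W : Y.affineOpens) (j' : Γ(Y, W.1)) (b' : Γ(Y, W.1)), j' ∈ J.map (ρ q W.1) →
        (Y.presheaf.map (homOfLE (le_top : W.1 ≤ ⊤)).op).hom g = j' + b' * ρ q W.1 s →
        (ι0.app W.1).hom b' = (ι0.app W.1).hom (b W) := by
      intro W j' b' hj' hgb'
      have h1 : (b' - b W) * ρ q W.1 s ∈ J.map (ρ q W.1) := by
        have : (b' - b W) * ρ q W.1 s = j W - j' := by
          have := hgb W
          rw [hgb'] at this
          linear_combination this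
        rw [this]
        exact Ideal.sub_mem _ (hj W) hj'
      have h2 : b' - b W ∈ m.map (ρ q W.1) := by
        letI := (ρ q W.1).toAlgebra
        haveI : Module.Flat R Γ(Y, W.1) := flat_ρ q W
        exact flat_colon J m s hcolon (b' - b W) h1
      have h3 := fact1' q W.1 _ h2
      rw [map_sub, sub_eq_zero] at h3
      exact h3
    let V : Y.affineOpens → (pullback q (fres R)).Opens := fun U => ι0 ⁻¹ᵁ U.1
    let c : ∀ U : Y.affineOpens, Γ(pullback q (fres R), V U) := fun U => (ι0.app U.1).hom (b U)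
    have e1 : ∀ (U W : Y.affineOpens) (hWU : W.1 ≤ U.1),
        ((pullback q (fres R)).presheaf.map
          (homOfLE (show ι0 ⁻¹ᵁ W.1 ≤ ι0 ⁻¹ᵁ U.1 from fun _ hy => hWU hy)).op).hom (c U) = c W := by
      intro U W hWU
      change _ = (ι0.app W.1).hom (b W)
      rw [← app_res ι0 hWU (b U)]
      apply UQ W ((Y.presheaf.map (homOfLE hWU).op).hom (j U))
      · exact res_mem q hWU J _ (hj U)
      · have := congrArg (Y.presheaf.map (homOfLE hWU).op).hom (hgb U)
        rw [map_add, map_mul, ρ_res q hWU] at this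
        rw [← this]
        exact (map_map_apply' _ _ _ _).symm
    have hcompat : TopCat.Presheaf.IsCompatible (pullback q (fres R)).presheaf V c := by
      intro U U'
      apply (pullback q (fres R)).IsSheaf.section_ext
      intro x hx
      obtain ⟨_, ⟨W, hW : IsAffineOpen W, rfl⟩, hxW, hWUU'⟩ :=
        (Y.isBasis_affineOpens).exists_subset_of_mem_open
          (show ι0.base x ∈ ((U.1 ⊓ U'.1 : Y.Opens) : Set Y) from hx) (U.1 ⊓ U'.1).2
      have hWU : W ≤ U.1 := fun y hy => (hWUU' hy).1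
      have hWU' : W ≤ U'.1 := fun y hy => (hWUU' hy).2
      refine ⟨ι0 ⁻¹ᵁ W, fun y hy => ⟨hWU hy, hWU' hy⟩, hxW, ?_⟩
      have a1 := e1 U ⟨W, hW⟩ hWU
      have a2 := e1 U' ⟨W, hW⟩ hWU'
      change ((pullback q (fres R)).presheaf.map _).hom
        (((pullback q (fres R)).presheaf.map _).hom (c U)) =
        ((pullback q (fres R)).presheaf.map _).hom
        (((pullback q (fres R)).presheaf.map _).hom (c U'))
      rw [map_map_apply' _ _ (homOfLE (show ι0 ⁻¹ᵁ W ≤ ι0 ⁻¹ᵁ U.1 from fun _ hy => hWU hy)),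
        map_map_apply' _ _ (homOfLE (show ι0 ⁻¹ᵁ W ≤ ι0 ⁻¹ᵁ U'.1 from fun _ hy => hWU' hy))]
      exact a1.trans a2.symm
    obtain ⟨c0, hc0, -⟩ := (pullback q (fres R)).sheaf.existsUnique_gluing' V ⊤
      (fun U => homOfLE le_top)
      (fun x _ => by
        obtain ⟨_, ⟨W, hW, rfl⟩, hxW, -⟩ :=
          (Y.isBasis_affineOpens).exists_subset_of_mem_open (Set.mem_univ (ι0.base x)) isOpen_univ
        exact TopologicalSpace.Opens.mem_iSup.2 ⟨⟨W, hW⟩, hxW⟩) c hcompat
    obtain ⟨r, hr⟩ := h0 c0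
    have hbr : ∀ U : Y.affineOpens, b U - ρ q U.1 r ∈ m.map (ρ q U.1) := by
      intro U
      apply fact2 q U
      rw [map_sub, sub_eq_zero]
      have h1 := hc0 U
      rw [hr] at h1
      rw [← ρ_res q (le_top : U.1 ≤ ⊤) r, app_res ι0 le_top]
      exact h1.symm
    have hdag : ∀ U : Y.affineOpens,
        (Y.presheaf.map (homOfLE (le_top : U.1 ≤ ⊤)).op).hom g - ρ q U.1 (r * s) ∈
          J.map (ρ q U.1) := by
      intro U
      have : (Y.presheaf.map (homOfLE (le_top : U.1 ≤ ⊤)).op).hom g - ρ q U.1 (r * s) =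
          j U + (b U - ρ q U.1 r) * ρ q U.1 s := by
        rw [hgb U, map_mul]
        ring
      rw [this]
      refine Ideal.add_mem _ (hj U) ?_
      have hle : m.map (ρ q U.1) * Ideal.span {ρ q U.1 s} ≤ J.map (ρ q U.1) := by
        rw [← Set.image_singleton, ← Ideal.map_span, ← Ideal.map_mul]
        apply Ideal.map_mono
        rw [Ideal.mul_le]
        intro a ha t ht
        obtain ⟨t', rfl⟩ := Ideal.mem_span_singleton'.1 ht
        have := J.mul_mem_left t' (hms a ha)
        convert this using 1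
        ring
      exact hle (Ideal.mul_mem_mul (hbr U) (Ideal.mem_span_singleton_self _))
    have hrs : r * s ∈ J := by
      have h1 := Ideal.mem_map_of_mem E0 (hdag ⟨U0, hU0⟩)
      rw [Ideal.map_map] at h1
      have h2 : E0.comp (ρ q U0) = RingHom.id R := RingHom.ext hE0ρ
      rw [h2, Ideal.map_id, map_sub, hE0g, hE0ρ, zero_sub] at h1
      exact (Ideal.neg_mem_iff _).1 h1
    intro U
    have := Ideal.add_mem _ (hdag U) (Ideal.mem_map_of_mem (ρ q U.1) hrs)
    rwa [sub_add_cancel] at this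
  have hP0 := P ⊥
  apply Y.IsSheaf.section_ext
  intro x hx
  obtain ⟨_, ⟨W, hW, rfl⟩, hxW, -⟩ :=
    (Y.isBasis_affineOpens).exists_subset_of_mem_open (Set.mem_univ x) isOpen_univ
  refine ⟨W, le_top, hxW, ?_⟩
  have := hP0 ⟨W, hW⟩
  rw [Ideal.map_bot, Ideal.mem_bot] at this
  rw [map_zero]
  exact this

end KeyThm

section Main

/-- H0 of the special fibre is the residue field. -/
theorem h0_of_smooth {R : Type u} [CommRing R] [IsLocalRing R] {Y : Scheme.{u}}
    (q : Y ⟶ Spec (CommRingCat.of R)) [Smooth q] [UniversallyClosed q] [GeometricallyConnected q]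
    (e : Spec (CommRingCat.of R) ⟶ Y) (he : e ≫ q = 𝟙 _) :
    ∀ c : Γ(pullback q (fres R), ⊤), ∃ r : R,
      c = ((pullback.fst q (fres R)).app ⊤).hom (ρ q ⊤ r) := by
  intro c
  set q0 := pullback.snd q (fres R) with hq0
  haveI : IsReduced (pullback q (fres R)) :=
    Groth.Agent.Lib.Helper19.Act.isReduced_of_smooth q0
  let σ : Spec (CommRingCat.of (IsLocalRing.ResidueField R)) ⟶ pullback q (fres R) :=
    pullback.lift (fres R ≫ e) (𝟙 _)
      (by rw [Category.assoc, he, Category.comp_id, Category.id_comp])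
  have hσ : σ ≫ q0 = 𝟙 _ := pullback.lift_snd _ _ _
  have hconn : ∀ z, _root_.IsPreconnected (q0 ⁻¹' {z}) := fun z =>
    (q0.isConnected_preimage_singleton z).isPreconnected
  have hσq : ∀ y, σ.appTop.hom (q0.appTop.hom y) = y := by
    intro y
    have h1 : q0.appTop ≫ σ.appTop = 𝟙 _ := by
      rw [← Scheme.Hom.comp_appTop, hσ]
      rfl
    exact congr($h1 y)
  set d := c - q0.appTop.hom (σ.appTop.hom c) with hd
  have hσd : σ.appTop.hom d = 0 := by
    rw [hd, map_sub, hσq, sub_self]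
  obtain ⟨P, hPmonic, hPd⟩ := isIntegral_appTop_of_universallyClosed q0 d
  let i : IsLocalRing.ResidueField R →+* Γ(pullback q (fres R), ⊤) :=
    q0.appTop.hom.comp (Scheme.ΓSpecIso (CommRingCat.of (IsLocalRing.ResidueField R))).inv.hom
  let P' : Polynomial (IsLocalRing.ResidueField R) :=
    P.map (Scheme.ΓSpecIso (CommRingCat.of (IsLocalRing.ResidueField R))).hom.hom
  have hP' : P' ≠ 0 := (hPmonic.map _).ne_zero
  have hP'd : P'.eval₂ i d = 0 := by
    rw [Polynomial.eval₂_map]
    have : i.comp (Scheme.ΓSpecIso (CommRingCat.of (IsLocalRing.ResidueField R))).hom.hom =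
        q0.appTop.hom := by
      ext x
      simp only [i, RingHom.comp_apply]
      congr 1
      exact congr($((Scheme.ΓSpecIso (CommRingCat.of (IsLocalRing.ResidueField R))).hom_inv_id) x)
    rw [this]
    exact hPd
  have hd0 : d = 0 := Groth.Agent.Lib.Helper19.Act.eq_zero_of_section_of_eval₂ q0 σ hσ hconn
    i d P' hP' hP'd hσd
  obtain ⟨r, hr⟩ := IsLocalRing.residue_surjective
    ((Scheme.ΓSpecIso (CommRingCat.of (IsLocalRing.ResidueField R))).hom.hom (σ.appTop.hom c))
  refine ⟨r, ?_⟩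
  have h1 : ρ q ⊤ r = (q.appLE ⊤ ⊤ (hleTop q ⊤)).hom
      ((Scheme.ΓSpecIso (CommRingCat.of R)).inv.hom r) := rfl
  rw [h1, sq_apply, fres_appTop, hr]
  have h2 : (Scheme.ΓSpecIso (CommRingCat.of (IsLocalRing.ResidueField R))).inv.hom
      ((Scheme.ΓSpecIso (CommRingCat.of (IsLocalRing.ResidueField R))).hom.hom
        (σ.appTop.hom c)) = σ.appTop.hom c :=
    congr($((Scheme.ΓSpecIso (CommRingCat.of (IsLocalRing.ResidueField R))).hom_inv_id)
      (σ.appTop.hom c))
  rw [h2]
  have h3 : c = q0.appTop.hom (σ.appTop.hom c) := sub_eq_zero.1 (hd.symm.trans hd0)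
  conv_lhs => rw [h3]
  rw [Scheme.Hom.appTop, Scheme.Hom.app_eq_appLE]
  rfl

/-- the infinitesimal neighbourhood morphism. -/
noncomputable abbrev τ (T : Scheme.{u}) (t : T) (n : ℕ) :
    Spec (CommRingCat.of (↑(T.presheaf.stalk t) ⧸
      (IsLocalRing.maximalIdeal ↑(T.presheaf.stalk t) ^ (n + 1)))) ⟶ T :=
  Spec.map (CommRingCat.ofHom (Ideal.Quotient.mk
    (IsLocalRing.maximalIdeal ↑(T.presheaf.stalk t) ^ (n + 1)))) ≫ T.fromSpecStalk t

theorem quot_local {S : Type u} [CommRing S] [IsLocalRing S] (n : ℕ) :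
    ∃ _ : IsLocalRing (S ⧸ (IsLocalRing.maximalIdeal S ^ (n + 1))),
      IsLocalRing.maximalIdeal (S ⧸ (IsLocalRing.maximalIdeal S ^ (n + 1))) ^ (n + 1) = ⊥ := by
  have hne : IsLocalRing.maximalIdeal S ^ (n + 1) ≠ ⊤ := by
    intro h
    have h1 : IsLocalRing.maximalIdeal S ^ (n + 1) ≤ IsLocalRing.maximalIdeal S :=
      Ideal.pow_le_self (Nat.succ_ne_zero n)
    rw [h, top_le_iff] at h1
    exact (IsLocalRing.maximalIdeal.isMaximal S).ne_top h1
  haveI : Nontrivial (S ⧸ (IsLocalRing.maximalIdeal S ^ (n + 1))) :=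
    Ideal.Quotient.nontrivial_iff.2 hne
  haveI hloc : IsLocalRing (S ⧸ (IsLocalRing.maximalIdeal S ^ (n + 1))) :=
    IsLocalRing.of_surjective' (Ideal.Quotient.mk _) Ideal.Quotient.mk_surjective
  refine ⟨hloc, ?_⟩
  have hle : IsLocalRing.maximalIdeal (S ⧸ (IsLocalRing.maximalIdeal S ^ (n + 1))) ≤
      (IsLocalRing.maximalIdeal S).map (Ideal.Quotient.mk (IsLocalRing.maximalIdeal S ^ (n + 1))) := by
    intro x hx
    obtain ⟨y, rfl⟩ := Ideal.Quotient.mk_surjective x
    apply Ideal.mem_map_of_mem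
    by_contra hy
    have hu : IsUnit y := by
      by_contra h
      exact hy ((IsLocalRing.mem_maximalIdeal y).2 h)
    exact (IsLocalRing.mem_maximalIdeal _).1 hx (hu.map _)
  rw [eq_bot_iff]
  refine (Ideal.pow_right_mono hle (n + 1)).trans ?_
  rw [← Ideal.map_pow, Ideal.map_quotient_self]

theorem inf_eq {T X Hs : Scheme.{u}} [IsLocallyNoetherian T] (p : X ⟶ T) [IsProper p] [Smooth p]
    [GeometricallyConnected p] (h : Hs ⟶ T) [IsAffineHom h] (e : T ⟶ X) (he : e ≫ p = 𝟙 T)
    (φ : X ⟶ Hs) (hφ : φ ≫ h = p) (t : T) (n : ℕ) :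
    pullback.fst p (τ T t n) ≫ φ = pullback.fst p (τ T t n) ≫ p ≫ e ≫ φ := by
  obtain ⟨hloc, hN⟩ := quot_local (S := ↑(T.presheaf.stalk t)) n
  set q := pullback.snd p (τ T t n) with hq
  let en : Spec (CommRingCat.of (↑(T.presheaf.stalk t) ⧸
      (IsLocalRing.maximalIdeal ↑(T.presheaf.stalk t) ^ (n + 1)))) ⟶ pullback p (τ T t n) :=
    pullback.lift (τ T t n ≫ e) (𝟙 _) (by rw [Category.assoc, he, Category.comp_id, Category.id_comp])
  have hen : en ≫ q = 𝟙 _ := pullback.lift_snd _ _ _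
  have hen1 : en ≫ pullback.fst p (τ T t n) = τ T t n ≫ e := pullback.lift_fst _ _ _
  set a := pullback.fst p (τ T t n) ≫ φ with ha
  -- reduce to a = q ≫ en ≫ a
  have hgoal : pullback.fst p (τ T t n) ≫ p ≫ e ≫ φ = q ≫ en ≫ a := by
    rw [ha, ← Category.assoc en, hen1, pullback.condition_assoc]
    simp only [Category.assoc]
    rfl
  rw [hgoal]
  haveI : IsAffine (pullback h (τ T t n)) := isAffine_of_isAffineHom (pullback.snd h (τ T t n))
  have hah : a ≫ h = q ≫ τ T t n := by
    rw [ha, Category.assoc, hφ, pullback.condition]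
  let a' : pullback p (τ T t n) ⟶ pullback h (τ T t n) := pullback.lift a q hah
  have ha'1 : a' ≫ pullback.fst h (τ T t n) = a := pullback.lift_fst _ _ _
  have ha'2 : a' ≫ pullback.snd h (τ T t n) = q := pullback.lift_snd _ _ _
  have key1 : a' = q ≫ en ≫ a' := by
    apply ext_of_isAffine
    ext x
    have h1 : (q ≫ en ≫ a').appTop.hom x = q.appTop.hom (en.appTop.hom (a'.appTop.hom x)) := by
      simp only [Scheme.Hom.comp_appTop, CommRingCat.hom_comp, RingHom.comp_apply]
    rw [h1]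
    set y := a'.appTop.hom x with hy
    have hkey := key q (n + 1) hN en hen (h0_of_smooth q en hen)
      (y - q.appTop.hom (en.appTop.hom y)) (by
        rw [map_sub, sub_eq_zero]
        have h2 : q.appTop ≫ en.appTop = 𝟙 _ := by
          rw [← Scheme.Hom.comp_appTop, hen]
          rfl
        exact (congr($h2 (en.appTop.hom y))).symm)
    exact sub_eq_zero.1 hkey
  calc a = a' ≫ pullback.fst h (τ T t n) := ha'1.symm
    _ = (q ≫ en ≫ a') ≫ pullback.fst h (τ T t n) := by rw [← key1]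
    _ = q ≫ en ≫ a := by simp only [Category.assoc, ha'1]

theorem auxMain {T : Scheme.{u}} [IsLocallyNoetherian T]
    (A : Over T) [GrpObj A] [IsProper A.hom] [Smooth A.hom] [GeometricallyConnected A.hom]
    (H : Over T) [IsFinite H.hom] (φ : A ⟶ H) : toUnit A ≫ (MonObj.one (X := A)) ≫ φ = φ := by
  set ψ : A ⟶ H := toUnit A ≫ (MonObj.one (X := A)) ≫ φ with hψ
  let e : T ⟶ A.left := ((MonObj.one (X := A))).left
  have he : e ≫ A.hom = 𝟙 T := Over.w (MonObj.one (X := A))
  have hψl : ψ.left = A.hom ≫ e ≫ φ.left := rfl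
  haveI : IsLocallyNoetherian A.left := LocallyOfFiniteType.isLocallyNoetherian A.hom
  let ι := (equalizer.ι φ ψ).left
  haveI : IsClosedImmersion ι := inferInstance
  have hιeq : ι ≫ φ.left = ι ≫ ψ.left := by
    have := congrArg (fun f => f.left) (equalizer.condition φ ψ)
    simpa only [Over.comp_left] using this
  have hsub : ι.ker.subschemeι ≫ φ.left = ι.ker.subschemeι ≫ ψ.left := by
    have h1 : ι.toImage ≫ ι.ker.subschemeι = ι := ι.toImage_imageι
    rw [← cancel_epi ι.toImage, ← Category.assoc, ← Category.assoc, h1]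
    exact hιeq
  have hloc : ∀ t : T, ∃ U : A.left.Opens, (∀ x : A.left, A.hom.base x = t → x ∈ U) ∧
      U.ι ≫ φ.left = U.ι ≫ ψ.left := by
    intro t
    obtain ⟨U, hU, g, hg⟩ := Groth.Agent.S18384.result A.hom t ι.ker (fun n => by
      have hinf := inf_eq A.hom H.hom e he φ.left (Over.w φ) t n
      let k : Over.mk (pullback.fst A.hom (τ T t n) ≫ A.hom) ⟶ A :=
        Over.homMk (pullback.fst A.hom (τ T t n)) rfl
      have hk : k ≫ φ = k ≫ ψ := by
        apply Over.OverMorphism.ext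
        change pullback.fst A.hom (τ T t n) ≫ φ.left = pullback.fst A.hom (τ T t n) ≫ ψ.left
        rw [hψl]
        exact hinf
      refine ⟨(equalizer.lift k hk).left ≫ ι.toImage, ?_⟩
      have h1 : ι.toImage ≫ ι.ker.subschemeι = ι := ι.toImage_imageι
      rw [Category.assoc, h1]
      have := congrArg (fun f => f.left) (equalizer.lift_ι k hk)
      exact this)
    exact ⟨U, hU, by rw [← hg, Category.assoc, Category.assoc, hsub]⟩
  apply Over.OverMorphism.ext
  change ψ.left = φ.left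
  choose U hU hUeq using hloc
  have hcov : TopologicalSpace.IsOpenCover (fun x : A.left => U (A.hom.base x)) :=
    TopologicalSpace.IsOpenCover.mk
      (eq_top_iff.2 fun x _ => TopologicalSpace.Opens.mem_iSup.2 ⟨x, hU _ x rfl⟩)
  refine ((A.left.openCoverOfIsOpenCover _ hcov).hom_ext _ _ fun x => ?_).symm
  exact hUeq (A.hom.base x)

end Main

end helpers

/-- For an abelian scheme f : A → T (a commutative T-group scheme, proper and smooth over T with
geometrically connected fibres) and a commutative group scheme H finite and locally free over T, the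
adjunction map H → f_* f^* H of fppf sheaves on T is an isomorphism, i.e. for every T-scheme U the
map H(U) → H(A ×_T U), s ↦ s ∘ pr, is bijective. This row states the case U = T, to which the
general case reduces by base change: composition with the structure morphism A → T is a bijection
from the sections of H over T onto the T-morphisms A → H. The group structure of H plays no role and
is not assumed. (The published statement has an arbitrary base T; the published argument rests on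
the rigidity lemma in its form for Noetherian schemes, so T is taken locally Noetherian here.) -/
theorem result {T : Scheme.{u}} [IsLocallyNoetherian T]
    (A : Over T) [GrpObj A] [IsCommMonObj A] [IsProper A.hom] [Smooth A.hom] [GeometricallyConnected A.hom]
    (H : Over T) [IsFinite H.hom] [Flat H.hom] [LocallyOfFinitePresentation H.hom] :
    Function.Bijective fun s : (𝟙_ (Over T) ⟶ H) => toUnit A ≫ s := by
  constructor
  · intro s s' hss
    have h1 : (MonObj.one (X := A)) ≫ toUnit A = 𝟙 _ := toUnit_unique _ _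
    have := congrArg (fun f => (MonObj.one (X := A)) ≫ f) hss
    simp only [← Category.assoc, h1, Category.id_comp] at this
    exact this
  · intro φ
    exact ⟨(MonObj.one (X := A)) ≫ φ, auxMain A H φ⟩

end Groth.Agent.S15364
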