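import Groth.Statements.S14141
import Mathlib
import Groth.Agent.S15364
import Groth.Agent.S18384

set_option autoImplicit false
universe u
open CategoryTheory CategoryTheory.Limits AlgebraicGeometry
open AbSch

namespace Groth.Agent.S14141

section helpers
open CategoryTheory CategoryTheory.Limits AlgebraicGeometry
open AbSch


open Groth.Agent.S15364

section Fibre

variable {R : Type u} [CommRing R] [IsLocalRing R] {Y Y0 : Scheme.{u}}
  (q : Y ⟶ Spec (CommRingCat.of R)) (K : CommRingCat.{u}) (φ0 : CommRingCat.of R ⟶ K)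
  (ι0 : Y0 ⟶ Y) (q0 : Y0 ⟶ Spec K) (H : IsPullback ι0 q0 q (Spec.map φ0))

theorem f0_appTop (r : R) :
    ((Spec.map φ0).appTop).hom ((Scheme.ΓSpecIso (CommRingCat.of R)).inv.hom r) =
      (Scheme.ΓSpecIso K).inv.hom (φ0.hom r) := by
  have := Scheme.ΓSpecIso_inv_naturality φ0
  have h2 := congrArg (fun φ => φ.hom r) this
  simp only [CommRingCat.hom_comp, RingHom.comp_apply] at h2
  exact h2.symm

include H in
theorem sq_apply' (U : Y.Opens) (x : Γ(Spec (CommRingCat.of R), ⊤)) :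
    (ι0.app U).hom ((q.appLE ⊤ U (hleTop q U)).hom x) =
      (q0.appLE ⊤ (ι0 ⁻¹ᵁ U) (fun _ _ => trivial)).hom ((Spec.map φ0).appTop.hom x) := by
  have h1 : q.appLE ⊤ U (hleTop q U) ≫ ι0.app U =
      (Spec.map φ0).appTop ≫ q0.appLE ⊤ (ι0 ⁻¹ᵁ U) (fun _ _ => trivial) := by
    have hA : (Spec.map φ0).appTop = (Spec.map φ0).appLE ⊤ ⊤ (fun _ _ => trivial) := by
      rw [Scheme.Hom.appTop, Scheme.Hom.app_eq_appLE]
      rfl
    rw [hA, Scheme.Hom.app_eq_appLE, Scheme.Hom.appLE_comp_appLE, Scheme.Hom.appLE_comp_appLE]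
    exact appLE_congr_hom H.w _ _ _ _
  have := congrArg (fun φ => φ.hom x) h1
  simpa only [CommRingCat.hom_comp, RingHom.comp_apply] using this

include H in
theorem fact1g (hk : ∀ r ∈ IsLocalRing.maximalIdeal R, φ0.hom r = 0)
    (U : Y.Opens) (x : Γ(Y, U)) (hx : x ∈ (IsLocalRing.maximalIdeal R).map (ρ q U)) :
    (ι0.app U).hom x = 0 := by
  have hle : (IsLocalRing.maximalIdeal R).map (ρ q U) ≤ RingHom.ker (ι0.app U).hom := by
    rw [Ideal.map_le_iff_le_comap]
    intro r hr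
    rw [Ideal.mem_comap, RingHom.mem_ker]
    have h1 : ρ q U r = (q.appLE ⊤ U (hleTop q U)).hom
        ((Scheme.ΓSpecIso (CommRingCat.of R)).inv.hom r) := rfl
    rw [h1, sq_apply' q K φ0 ι0 q0 H, f0_appTop, hk r hr, map_zero, map_zero]
  exact hle hx

include H in
theorem fact2g (hsurj0 : Function.Surjective φ0.hom)
    (hk' : ∀ r, φ0.hom r = 0 → r ∈ IsLocalRing.maximalIdeal R)
    (U : Y.affineOpens) (b : Γ(Y, U.1)) (hb : (ι0.app U.1).hom b = 0) :
    b ∈ (IsLocalRing.maximalIdeal R).map (ρ q U.1) := by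
  have hUST : (⊤ : (Spec K).Opens) ≤ (Spec.map φ0) ⁻¹ᵁ ⊤ := fun _ _ => trivial
  have hUSX : U.1 ≤ q ⁻¹ᵁ ⊤ := hleTop q U.1
  have hiso := isIso_pushoutSection_of_isAffineOpen H (US := ⊤) (UT := ⊤) (UX := U.1)
    (UY := ι0 ⁻¹ᵁ U.1 ⊓ q0 ⁻¹ᵁ ⊤) hUST hUSX rfl
    (isAffineOpen_top _) (isAffineOpen_top _) U.2
  have hpo := (isIso_pushoutSection_iff H (US := ⊤) (UT := ⊤) (UX := U.1)
    (UY := ι0 ⁻¹ᵁ U.1 ⊓ q0 ⁻¹ᵁ ⊤) hUST hUSX rfl).mp hiso
  set UY := ι0 ⁻¹ᵁ U.1 ⊓ q0 ⁻¹ᵁ ⊤ with hUY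
  letI a1 : Algebra Γ(Spec (CommRingCat.of R), ⊤) Γ(Y, U.1) :=
    (q.appLE ⊤ U.1 hUSX).hom.toAlgebra
  letI a2 : Algebra Γ(Spec (CommRingCat.of R), ⊤) Γ(Spec K, ⊤) :=
    ((Spec.map φ0).appLE ⊤ ⊤ hUST).hom.toAlgebra
  letI a3 : Algebra Γ(Y, U.1) Γ(Y0, UY) := (ι0.appLE U.1 UY inf_le_left).hom.toAlgebra
  letI a4 : Algebra Γ(Spec K, ⊤) Γ(Y0, UY) := (q0.appLE ⊤ UY inf_le_right).hom.toAlgebra
  letI a5 : Algebra Γ(Spec (CommRingCat.of R), ⊤) Γ(Y0, UY) :=
    (q.appLE ⊤ U.1 hUSX ≫ ι0.appLE U.1 UY inf_le_left).hom.toAlgebra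
  haveI t1 : IsScalarTower Γ(Spec (CommRingCat.of R), ⊤) Γ(Y, U.1) Γ(Y0, UY) :=
    .of_algebraMap_eq' rfl
  haveI t2 : IsScalarTower Γ(Spec (CommRingCat.of R), ⊤) Γ(Spec K, ⊤) Γ(Y0, UY) :=
    .of_algebraMap_eq' (congr_arg CommRingCat.Hom.hom hpo.w)
  have hp : Algebra.IsPushout Γ(Spec (CommRingCat.of R), ⊤) Γ(Y, U.1) Γ(Spec K, ⊤) Γ(Y0, UY) :=
    (CommRingCat.isPushout_iff_isPushout).mp hpo
  have hA : (Spec.map φ0).appLE ⊤ ⊤ hUST = (Spec.map φ0).appTop := by
    rw [Scheme.Hom.appTop, Scheme.Hom.app_eq_appLE]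
    rfl
  have hsurj : Function.Surjective (algebraMap Γ(Spec (CommRingCat.of R), ⊤) Γ(Spec K, ⊤)) := by
    intro y
    obtain ⟨r, hr⟩ := hsurj0 ((Scheme.ΓSpecIso K).hom.hom y)
    refine ⟨(Scheme.ΓSpecIso (CommRingCat.of R)).inv.hom r, ?_⟩
    change ((Spec.map φ0).appLE ⊤ ⊤ hUST).hom _ = y
    rw [hA, f0_appTop, hr]
    exact congr($((Scheme.ΓSpecIso K).hom_inv_id) y)
  have hb' : algebraMap Γ(Y, U.1) Γ(Y0, UY) b = 0 := by
    change (ι0.appLE U.1 UY inf_le_left).hom b = 0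
    rw [Scheme.Hom.appLE, CommRingCat.hom_comp, RingHom.comp_apply, hb, map_zero]
  have h1 := ker_of_pushout hp hsurj b hb'
  refine (Ideal.map_le_iff_le_comap.2 ?_) h1
  intro x hx
  rw [Ideal.mem_comap]
  rw [RingHom.mem_ker] at hx
  change ((Spec.map φ0).appLE ⊤ ⊤ hUST).hom x = 0 at hx
  set r := (Scheme.ΓSpecIso (CommRingCat.of R)).hom.hom x with hr
  have hxr : x = (Scheme.ΓSpecIso (CommRingCat.of R)).inv.hom r :=
    (congr($((Scheme.ΓSpecIso (CommRingCat.of R)).hom_inv_id) x)).symm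
  rw [hA, hxr, f0_appTop] at hx
  have hr0 : φ0.hom r = 0 := by
    have := congrArg (Scheme.ΓSpecIso K).hom.hom hx
    rw [map_zero] at this
    rw [← this]
    exact (congr($((Scheme.ΓSpecIso K).inv_hom_id) (φ0.hom r))).symm
  have hrm : r ∈ IsLocalRing.maximalIdeal R := hk' r hr0
  have : algebraMap Γ(Spec (CommRingCat.of R), ⊤) Γ(Y, U.1) x = ρ q U.1 r := by
    rw [hxr]; rfl
  rw [this]
  exact Ideal.mem_map_of_mem _ hrm

end Fibre

section KeyThm

variable {R : Type u} [CommRing R] [IsLocalRing R] [IsNoetherianRing R] {Y Y0 : Scheme.{u}}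
  (q : Y ⟶ Spec (CommRingCat.of R)) (K : CommRingCat.{u}) (φ0 : CommRingCat.of R ⟶ K)
  (ι0 : Y0 ⟶ Y) (q0 : Y0 ⟶ Spec K) (H : IsPullback ι0 q0 q (Spec.map φ0))

include H in
theorem keyS [Flat q] (N : ℕ) (hN : IsLocalRing.maximalIdeal R ^ N = ⊥)
    (hsurj0 : Function.Surjective φ0.hom)
    (hk : ∀ r, φ0.hom r = 0 ↔ r ∈ IsLocalRing.maximalIdeal R)
    (h0 : ∀ c : Γ(Y0, ⊤), ∃ r : R, c = (ι0.app ⊤).hom (ρ q ⊤ r))
    (g : Γ(Y, ⊤)) : ∃ r : R, g = ρ q ⊤ r := by
  classical
  set m := IsLocalRing.maximalIdeal R with hm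
  have P : ∀ J : Ideal R, ∃ r : R, ∀ U : Y.affineOpens,
      (Y.presheaf.map (homOfLE (le_top : U.1 ≤ ⊤)).op).hom (g - ρ q ⊤ r) ∈ J.map (ρ q U.1) := by
    intro J
    refine IsNoetherian.induction (P := fun J : Ideal R => ∃ r : R, ∀ U : Y.affineOpens,
      (Y.presheaf.map (homOfLE (le_top : U.1 ≤ ⊤)).op).hom (g - ρ q ⊤ r) ∈ J.map (ρ q U.1))
      (fun (J : Ideal R) (IH : ∀ J' : Ideal R, J' > J → ∃ r : R, ∀ U : Y.affineOpens,
        (Y.presheaf.map (homOfLE (le_top : U.1 ≤ ⊤)).op).hom (g - ρ q ⊤ r) ∈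
          J'.map (ρ q U.1)) => ?_) J
    by_cases hJ : J = ⊤
    · refine ⟨0, fun U => ?_⟩
      rw [hJ, Ideal.map_top]
      trivial
    obtain ⟨s, hsJ, hms, hcolon⟩ := exists_socle N hN J hJ
    have hlt : J < J ⊔ Ideal.span {s} := by
      refine lt_of_le_of_ne le_sup_left fun h => hsJ ?_
      rw [h]
      exact Ideal.mem_sup_right (Ideal.mem_span_singleton_self s)
    obtain ⟨r', hP⟩ := IH _ hlt
    set g' := g - ρ q ⊤ r' with hg'
    have hdec : ∀ U : Y.affineOpens, ∃ j ∈ J.map (ρ q U.1), ∃ b : Γ(Y, U.1),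
        (Y.presheaf.map (homOfLE (le_top : U.1 ≤ ⊤)).op).hom g' = j + b * ρ q U.1 s := by
      intro U
      have := hP U
      rw [Ideal.map_sup, Ideal.map_span, Set.image_singleton] at this
      obtain ⟨j, hj, z, hz, hjz⟩ := Submodule.mem_sup.1 this
      obtain ⟨b, hb⟩ := Ideal.mem_span_singleton'.1 hz
      exact ⟨j, hj, b, by rw [← hjz, ← hb]⟩
    choose j hj b hgb using hdec
    have UQ : ∀ (W : Y.affineOpens) (j' : Γ(Y, W.1)) (b' : Γ(Y, W.1)), j' ∈ J.map (ρ q W.1) →
        (Y.presheaf.map (homOfLE (le_top : W.1 ≤ ⊤)).op).hom g' = j' + b' * ρ q W.1 s →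
        (ι0.app W.1).hom b' = (ι0.app W.1).hom (b W) := by
      intro W j' b' hj' hgb'
      have h1 : (b' - b W) * ρ q W.1 s ∈ J.map (ρ q W.1) := by
        have : (b' - b W) * ρ q W.1 s = j W - j' := by
          have := hgb W
          rw [hgb'] at this
          linear_combination this
        rw [this]
        exact Ideal.sub_mem _ (hj W) hj'
      have h2 : b' - b W ∈ m.map (ρ q W.1) := by
        letI := (ρ q W.1).toAlgebra
        haveI : Module.Flat R Γ(Y, W.1) := flat_ρ q W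
        exact flat_colon J m s hcolon (b' - b W) h1
      have h3 := fact1g q K φ0 ι0 q0 H (fun r hr => (hk r).2 hr) W.1 _ h2
      rw [map_sub, sub_eq_zero] at h3
      exact h3
    let V : Y.affineOpens → Y0.Opens := fun U => ι0 ⁻¹ᵁ U.1
    let c : ∀ U : Y.affineOpens, Γ(Y0, V U) := fun U => (ι0.app U.1).hom (b U)
    have e1 : ∀ (U W : Y.affineOpens) (hWU : W.1 ≤ U.1),
        (Y0.presheaf.map
          (homOfLE (show ι0 ⁻¹ᵁ W.1 ≤ ι0 ⁻¹ᵁ U.1 from fun _ hy => hWU hy)).op).hom (c U) = c W := by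
      intro U W hWU
      change _ = (ι0.app W.1).hom (b W)
      rw [← app_res ι0 hWU (b U)]
      apply UQ W ((Y.presheaf.map (homOfLE hWU).op).hom (j U))
      · exact res_mem q hWU J _ (hj U)
      · have := congrArg (Y.presheaf.map (homOfLE hWU).op).hom (hgb U)
        rw [map_add, map_mul, ρ_res q hWU] at this
        rw [← this]
        exact (map_map_apply' _ _ _ _).symm
    have hcompat : TopCat.Presheaf.IsCompatible Y0.presheaf V c := by
      intro U U'
      apply Y0.IsSheaf.section_ext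
      intro x hx
      obtain ⟨_, ⟨W, hW : IsAffineOpen W, rfl⟩, hxW, hWUU'⟩ :=
        (Y.isBasis_affineOpens).exists_subset_of_mem_open
          (show ι0.base x ∈ ((U.1 ⊓ U'.1 : Y.Opens) : Set Y) from hx) (U.1 ⊓ U'.1).2
      have hWU : W ≤ U.1 := fun y hy => (hWUU' hy).1
      have hWU' : W ≤ U'.1 := fun y hy => (hWUU' hy).2
      refine ⟨ι0 ⁻¹ᵁ W, fun y hy => ⟨hWU hy, hWU' hy⟩, hxW, ?_⟩
      have a1 := e1 U ⟨W, hW⟩ hWU
      have a2 := e1 U' ⟨W, hW⟩ hWU'
      change (Y0.presheaf.map _).hom ((Y0.presheaf.map _).hom (c U)) =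
        (Y0.presheaf.map _).hom ((Y0.presheaf.map _).hom (c U'))
      rw [map_map_apply' _ _ (homOfLE (show ι0 ⁻¹ᵁ W ≤ ι0 ⁻¹ᵁ U.1 from fun _ hy => hWU hy)),
        map_map_apply' _ _ (homOfLE (show ι0 ⁻¹ᵁ W ≤ ι0 ⁻¹ᵁ U'.1 from fun _ hy => hWU' hy))]
      exact a1.trans a2.symm
    obtain ⟨c0, hc0, -⟩ := Y0.sheaf.existsUnique_gluing' V ⊤
      (fun U => homOfLE le_top)
      (fun x _ => by
        obtain ⟨_, ⟨W, hW, rfl⟩, hxW, -⟩ :=
          (Y.isBasis_affineOpens).exists_subset_of_mem_open (Set.mem_univ (ι0.base x)) isOpen_univ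
        exact TopologicalSpace.Opens.mem_iSup.2 ⟨⟨W, hW⟩, hxW⟩) c hcompat
    obtain ⟨r, hr⟩ := h0 c0
    have hbr : ∀ U : Y.affineOpens, b U - ρ q U.1 r ∈ m.map (ρ q U.1) := by
      intro U
      apply fact2g q K φ0 ι0 q0 H hsurj0 (fun r hr => (hk r).1 hr) U
      rw [map_sub, sub_eq_zero]
      have h1 := hc0 U
      rw [hr] at h1
      rw [← ρ_res q (le_top : U.1 ≤ ⊤) r, app_res ι0 le_top]
      exact h1.symm
    have hdag : ∀ U : Y.affineOpens,
        (Y.presheaf.map (homOfLE (le_top : U.1 ≤ ⊤)).op).hom g' - ρ q U.1 (r * s) ∈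
          J.map (ρ q U.1) := by
      intro U
      have : (Y.presheaf.map (homOfLE (le_top : U.1 ≤ ⊤)).op).hom g' - ρ q U.1 (r * s) =
          j U + (b U - ρ q U.1 r) * ρ q U.1 s := by
        rw [hgb U, map_mul]
        ring
      rw [this]
      refine Ideal.add_mem _ (hj U) ?_
      have hle : m.map (ρ q U.1) * Ideal.span {ρ q U.1 s} ≤ J.map (ρ q U.1) := by
        rw [← Set.image_singleton, ← Ideal.map_span, ← Ideal.map_mul]
        apply Ideal.map_mono
        rw [Ideal.mul_le]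
        intro a ha t ht
        obtain ⟨t', rfl⟩ := Ideal.mem_span_singleton'.1 ht
        have := J.mul_mem_left t' (hms a ha)
        convert this using 1
        ring
      exact hle (Ideal.mul_mem_mul (hbr U) (Ideal.mem_span_singleton_self _))
    refine ⟨r' + r * s, fun U => ?_⟩
    have h2 : g - ρ q ⊤ (r' + r * s) = g' - ρ q ⊤ (r * s) := by
      rw [hg', map_add]
      ring
    rw [h2, map_sub, ρ_res q (le_top : U.1 ≤ ⊤)]
    exact hdag U
  obtain ⟨r, hr⟩ := P ⊥
  refine ⟨r, ?_⟩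
  rw [← sub_eq_zero]
  apply Y.IsSheaf.section_ext
  intro x hx
  obtain ⟨_, ⟨W, hW, rfl⟩, hxW, -⟩ :=
    (Y.isBasis_affineOpens).exists_subset_of_mem_open (Set.mem_univ x) isOpen_univ
  refine ⟨W, le_top, hxW, ?_⟩
  have := hr ⟨W, hW⟩
  rw [Ideal.map_bot, Ideal.mem_bot] at this
  rw [map_zero]
  exact this

end KeyThm

section Inf

variable {X Y S : Scheme.{u}}

/-- residue map on the truncated local ring. -/
noncomputable def φ0 (S : Scheme.{u}) (t : S) (n : ℕ) :
    CommRingCat.of (↑(S.presheaf.stalk t) ⧸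
      (IsLocalRing.maximalIdeal ↑(S.presheaf.stalk t) ^ (n + 1))) ⟶ S.residueField t :=
  CommRingCat.ofHom (Ideal.Quotient.lift _ (IsLocalRing.residue ↑(S.presheaf.stalk t)) (by
    intro a ha
    exact (IsLocalRing.residue_eq_zero_iff a).2 (Ideal.pow_le_self (Nat.succ_ne_zero n) ha)))

theorem φ0_comp (S : Scheme.{u}) (t : S) (n : ℕ) :
    Spec.map (φ0 S t n) ≫ τ S t n = S.fromSpecResidueField t := by
  rw [τ, ← Category.assoc, ← Spec.map_comp, Scheme.fromSpecResidueField]
  congr 2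

theorem φ0_surj (S : Scheme.{u}) (t : S) (n : ℕ) : Function.Surjective (φ0 S t n).hom := by
  intro k
  obtain ⟨a, rfl⟩ := IsLocalRing.residue_surjective k
  exact ⟨Ideal.Quotient.mk _ a, rfl⟩

theorem τ_apply (S : Scheme.{u}) (t : S) (n : ℕ)
    (z : Spec (CommRingCat.of (↑(S.presheaf.stalk t) ⧸
      (IsLocalRing.maximalIdeal ↑(S.presheaf.stalk t) ^ (n + 1))))) : (τ S t n) z = t := by
  obtain ⟨hloc, hN⟩ := quot_local (S := ↑(S.presheaf.stalk t)) n
  have hz : z = IsLocalRing.closedPoint _ := by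
    apply PrimeSpectrum.ext
    apply le_antisymm (IsLocalRing.le_maximalIdeal z.2.ne_top)
    intro x hx
    have h1 : x ^ (n + 1) ∈ IsLocalRing.maximalIdeal (↑(S.presheaf.stalk t) ⧸
      (IsLocalRing.maximalIdeal ↑(S.presheaf.stalk t) ^ (n + 1))) ^ (n + 1) :=
      Ideal.pow_mem_pow hx _
    rw [hN, Ideal.mem_bot] at h1
    exact z.2.mem_of_pow_mem (n + 1) (by rw [h1]; exact z.asIdeal.zero_mem)
  haveI : Nontrivial (↑(S.presheaf.stalk t) ⧸
      (IsLocalRing.maximalIdeal ↑(S.presheaf.stalk t) ^ (n + 1))) := hloc.toNontrivial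
  haveI : IsLocalHom (Ideal.Quotient.mk
      (IsLocalRing.maximalIdeal ↑(S.presheaf.stalk t) ^ (n + 1))) :=
    IsLocalHom.of_surjective _ Ideal.Quotient.mk_surjective
  have h0 : Spec.map (CommRingCat.ofHom (Ideal.Quotient.mk
      (IsLocalRing.maximalIdeal ↑(S.presheaf.stalk t) ^ (n + 1))))
      (IsLocalRing.closedPoint _) = IsLocalRing.closedPoint _ :=
    IsLocalRing.comap_closedPoint (Ideal.Quotient.mk
      (IsLocalRing.maximalIdeal ↑(S.presheaf.stalk t) ^ (n + 1)))
  rw [hz, τ, Scheme.Hom.comp_apply, h0]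
  exact Scheme.fromSpecStalk_closedPoint

theorem inf_eq' [IsLocallyNoetherian S] (f : X ⟶ S) [IsProper f] [Flat f]
    (t : S) (hfib : Function.Bijective (algebraMap (S.residueField t) Γ(f.fiber t, ⊤)))
    (π : X ⟶ Y) (y0 : Y) (hy0 : ∀ x : X, f.base x = t → π.base x = y0) (n : ℕ)
    {P : Scheme.{u}} (u1 u2 : P ⟶ pullback f (τ S t n))
    (hu : u1 ≫ pullback.snd f (τ S t n) = u2 ≫ pullback.snd f (τ S t n)) :
    u1 ≫ pullback.fst f (τ S t n) ≫ π = u2 ≫ pullback.fst f (τ S t n) ≫ π := by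
  obtain ⟨hloc, hN⟩ := quot_local (S := ↑(S.presheaf.stalk t)) n
  set q := pullback.snd f (τ S t n) with hq
  let ι0 : f.fiber t ⟶ pullback f (τ S t n) :=
    pullback.lift (f.fiberι t) (f.fiberToSpecResidueField t ≫ Spec.map (φ0 S t n)) (by
      rw [Category.assoc, φ0_comp]
      exact pullback.condition)
  have hι0 : ι0 ≫ pullback.fst f (τ S t n) = f.fiberι t := pullback.lift_fst _ _ _
  have hι0' : ι0 ≫ q = f.fiberToSpecResidueField t ≫ Spec.map (φ0 S t n) :=
    pullback.lift_snd _ _ _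
  have H : IsPullback ι0 (f.fiberToSpecResidueField t) q (Spec.map (φ0 S t n)) := by
    refine IsPullback.of_right ?_ hι0' (IsPullback.of_hasPullback f (τ S t n))
    rw [hι0, φ0_comp]
    exact IsPullback.of_hasPullback f (S.fromSpecResidueField t)
  have hk : ∀ r, (φ0 S t n).hom r = 0 ↔ r ∈ IsLocalRing.maximalIdeal _ := by
    intro r
    have hmax : (RingHom.ker (φ0 S t n).hom).IsMaximal :=
      RingHom.ker_isMaximal_of_surjective _ (φ0_surj S t n)
    rw [← IsLocalRing.eq_maximalIdeal hmax, RingHom.mem_ker]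
  have h0 : ∀ c : Γ(f.fiber t, ⊤), ∃ r, c = (ι0.app ⊤).hom (ρ q ⊤ r) := by
    intro c
    obtain ⟨k, hkc⟩ := hfib.2 c
    obtain ⟨r, hr⟩ := φ0_surj S t n k
    refine ⟨r, ?_⟩
    have h1 : ρ q ⊤ r = (q.appLE ⊤ ⊤ (hleTop q ⊤)).hom ((Scheme.ΓSpecIso _).inv.hom r) := rfl
    rw [h1, sq_apply' q _ (φ0 S t n) ι0 _ H, f0_appTop, hr, ← hkc]
    change (f.fiberToSpecResidueField t).appTop.hom ((Scheme.ΓSpecIso _).inv.hom k) = _
    rw [Scheme.Hom.appTop, Scheme.Hom.app_eq_appLE]
    rfl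
  obtain ⟨_, ⟨V, hV : IsAffineOpen V, rfl⟩, hyV, -⟩ :=
    (Y.isBasis_affineOpens).exists_subset_of_mem_open (Set.mem_univ y0) isOpen_univ
  set a' := pullback.fst f (τ S t n) ≫ π with ha'
  have hrange : Set.range a'.base ⊆ Set.range (Scheme.Opens.ι V).base := by
    rintro _ ⟨z, rfl⟩
    rw [Scheme.Opens.range_ι]
    have h1 : f.base ((pullback.fst f (τ S t n)).base z) = t := by
      have := congrArg (fun g => g.base z) (pullback.condition (f := f) (g := τ S t n))
      simp only [Scheme.Hom.comp_base, TopCat.comp_app] at this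
      rw [this]
      exact τ_apply S t n _
    have h2 := hy0 _ h1
    change π.base ((pullback.fst f (τ S t n)).base z) ∈ V
    rw [h2]
    exact hyV
  let a := IsOpenImmersion.lift (Scheme.Opens.ι V) a' hrange
  have ha : a ≫ (Scheme.Opens.ι V) = a' := IsOpenImmersion.lift_fac _ _ _
  haveI : IsAffine (V : Y.Opens) := hV
  have key2 : u1 ≫ a = u2 ≫ a := by
    apply ext_of_isAffine
    ext v
    simp only [Scheme.Hom.comp_appTop, CommRingCat.hom_comp, RingHom.comp_apply]
    obtain ⟨r, hr⟩ := keyS q _ (φ0 S t n) ι0 _ H (n + 1) hN (φ0_surj S t n) hk h0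
      (a.appTop.hom v)
    rw [hr]
    have h1 : ρ q ⊤ r = q.appTop.hom ((Scheme.ΓSpecIso _).inv.hom r) := by
      change (q.appLE ⊤ ⊤ _).hom _ = _
      rw [Scheme.Hom.appTop, Scheme.Hom.app_eq_appLE]
      rfl
    rw [h1]
    have h2 : ∀ (u : P ⟶ pullback f (τ S t n)) x,
        u.appTop.hom (q.appTop.hom x) = (u ≫ q).appTop.hom x := fun u x => by
      simp only [Scheme.Hom.comp_appTop, CommRingCat.hom_comp, RingHom.comp_apply]
    rw [h2, h2, hu]
  calc u1 ≫ pullback.fst f (τ S t n) ≫ π = (u1 ≫ a) ≫ (Scheme.Opens.ι V) := by rw [Category.assoc, ha]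
    _ = (u2 ≫ a) ≫ (Scheme.Opens.ι V) := by rw [key2]
    _ = _ := by rw [Category.assoc, ha]

end Inf

section Global

theorem auxMain {X Y S : Scheme.{u}} [IsNoetherian S] [ConnectedSpace ↥S]
    (f : X ⟶ S) [IsProper f] [Flat f]
    (hfib : ∀ s : ↥S, Function.Bijective (algebraMap (S.residueField s) Γ(f.fiber s, ⊤)))
    (g : Y ⟶ S) [IsSeparated g] (π : X ⟶ Y) (hπ : π ≫ g = f) (s : ↥S)
    (hs : ∃ y : Spec (S.residueField s) ⟶ Y, f.fiberι s ≫ π = f.fiberToSpecResidueField s ≫ y) :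
    pullback.fst f f ≫ π = pullback.snd f f ≫ π := by
  set p1 := pullback.fst f f with hp1
  set p2 := pullback.snd f f with hp2
  have hp12 : p1 ≫ f = p2 ≫ f := pullback.condition
  set pW := p1 ≫ f with hpW
  haveI : IsLocallyNoetherian (pullback f f) := LocallyOfFiniteType.isLocallyNoetherian pW
  let Wo : Over S := Over.mk pW
  let Yo : Over S := Over.mk g
  haveI : IsSeparated Yo.hom := ‹IsSeparated g›
  let α : Wo ⟶ Yo := Over.homMk (p1 ≫ π) (by
    change (p1 ≫ π) ≫ g = pW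
    rw [Category.assoc, hπ])
  let β : Wo ⟶ Yo := Over.homMk (p2 ≫ π) (by
    change (p2 ≫ π) ≫ g = pW
    rw [Category.assoc, hπ]
    exact hp12.symm)
  let ι := (equalizer.ι α β).left
  haveI : IsClosedImmersion ι := inferInstance
  have hιeq : ι ≫ p1 ≫ π = ι ≫ p2 ≫ π := by
    have := congrArg (fun f => f.left) (equalizer.condition α β)
    exact this
  have hlift : ∀ {P : Scheme.{u}} (k : P ⟶ pullback f f), k ≫ p1 ≫ π = k ≫ p2 ≫ π →
      ∃ l : P ⟶ (equalizer α β).left, l ≫ ι = k := by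
    intro P k hk
    let ko : Over.mk (k ≫ pW) ⟶ Wo := Over.homMk k rfl
    have hko : ko ≫ α = ko ≫ β := by
      apply Over.OverMorphism.ext
      exact hk
    exact ⟨(equalizer.lift ko hko).left, congrArg (fun f => f.left) (equalizer.lift_ι ko hko)⟩
  have hsub : ι.ker.subschemeι ≫ p1 ≫ π = ι.ker.subschemeι ≫ p2 ≫ π := by
    have h1 : ι.toImage ≫ ι.ker.subschemeι = ι := ι.toImage_imageι
    have h1' : ∀ {Z : Scheme.{u}} (h : pullback f f ⟶ Z),
        ι.toImage ≫ ι.ker.subschemeι ≫ h = ι ≫ h := fun h => by rw [← Category.assoc, h1]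
    rw [← cancel_epi ι.toImage, h1', h1']
    exact hιeq
  let A : Set S := {t | ∀ w : ↥(pullback f f), pW.base w = t → w ∈ Set.range ι.base}
  have hAB : ∀ t ∈ A, ∃ U : (pullback f f).Opens, (∀ w, pW.base w = t → w ∈ U) ∧
      U.ι ≫ p1 ≫ π = U.ι ≫ p2 ≫ π := by
    intro t ht
    by_cases hne : ∃ x0 : X, f.base x0 = t
    · obtain ⟨x0, hx0⟩ := hne
      have hy0 : ∀ x : X, f.base x = t → π.base x = π.base x0 := by
        intro x hx
        obtain ⟨w, hw1, hw2⟩ := Scheme.Pullback.exists_preimage_pullback (f := f) (g := f) x x0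
          (hx.trans hx0.symm)
        have hwt : pW.base w = t := by
          change f.base (p1.base w) = t
          rw [hw1, hx]
        obtain ⟨z, hz⟩ := ht w hwt
        have := congrArg (fun g => g.base z) hιeq
        simp only [Scheme.Hom.comp_base, TopCat.comp_app] at this
        rw [hz, hw1, hw2] at this
        exact this
      obtain ⟨U, hU, g', hg'⟩ := Groth.Agent.S18384.result pW t ι.ker (fun n => by
        let u1 : pullback pW (τ S t n) ⟶ pullback f (τ S t n) :=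
          pullback.lift (pullback.fst pW (τ S t n) ≫ p1) (pullback.snd pW (τ S t n)) (by
            rw [Category.assoc]
            exact pullback.condition)
        let u2 : pullback pW (τ S t n) ⟶ pullback f (τ S t n) :=
          pullback.lift (pullback.fst pW (τ S t n) ≫ p2) (pullback.snd pW (τ S t n)) (by
            rw [Category.assoc, ← hp12]
            exact pullback.condition)
        have hu : u1 ≫ pullback.snd f (τ S t n) = u2 ≫ pullback.snd f (τ S t n) := by
          rw [pullback.lift_snd, pullback.lift_snd]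
        have h1 := inf_eq' f t (hfib t) π (π.base x0) hy0 n u1 u2 hu
        rw [← Category.assoc, ← Category.assoc, pullback.lift_fst, pullback.lift_fst,
          Category.assoc, Category.assoc] at h1
        obtain ⟨l, hl⟩ := hlift (pullback.fst pW (τ S t n)) h1
        refine ⟨l ≫ ι.toImage, ?_⟩
        have h2 : ι.toImage ≫ ι.ker.subschemeι = ι := ι.toImage_imageι
        rw [Category.assoc, h2]
        exact hl)
      exact ⟨U, hU, by rw [← hg', Category.assoc, Category.assoc, hsub]⟩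
    · refine ⟨⊥, fun w hw => absurd ⟨p1.base w, hw⟩ hne, ?_⟩
      haveI : IsEmpty ↥((⊥ : (pullback f f).Opens) : Scheme.{u}) := ⟨fun x => x.2⟩
      exact (isInitialOfIsEmpty).hom_ext _ _
  have hAopen : IsOpen A := by
    rw [isOpen_iff_forall_mem_open]
    intro t ht
    obtain ⟨U, hU, hUeq⟩ := hAB t ht
    refine ⟨(pW.base '' ((U : Set ↥(pullback f f))ᶜ))ᶜ, ?_, ?_, ?_⟩
    · intro t' ht' w hw
      have hwU : w ∈ U := by
        by_contra hc
        exact ht' ⟨w, hc, hw⟩
      obtain ⟨l, hl⟩ := hlift U.ι hUeq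
      refine ⟨l.base ⟨w, hwU⟩, ?_⟩
      have := congrArg (fun g => g.base ⟨w, hwU⟩) hl
      simp only [Scheme.Hom.comp_base, TopCat.comp_app] at this
      rw [this]
      rfl
    · exact (pW.isClosedMap _ U.2.isClosed_compl).isOpen_compl
    · rintro ⟨w, hwc, hw⟩
      exact hwc (hU w hw)
  have hAclosed : IsClosed A := by
    have : Aᶜ = pW.base '' (Set.range ι.base)ᶜ := by
      ext t
      simp only [A, Set.mem_compl_iff, Set.mem_setOf_eq, Set.mem_image]
      push_neg
      constructor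
      · rintro ⟨w, hw, hwn⟩
        exact ⟨w, hwn, hw⟩
      · rintro ⟨w, hwn, hw⟩
        exact ⟨w, hw, hwn⟩
    rw [← isOpen_compl_iff, this]
    exact pW.isOpenMap _ ι.isClosedEmbedding.isClosed_range.isOpen_compl
  have hAs : s ∈ A := by
    obtain ⟨y, hy⟩ := hs
    intro w hw
    subst hw
    let zw := (pullback f f).fromSpecResidueField w
    let ρw : Spec ((pullback f f).residueField w) ⟶ Spec (S.residueField (pW.base w)) :=
      Spec.map (pW.residueFieldMap w)
    have hρ : ρw ≫ S.fromSpecResidueField (pW.base w) = zw ≫ pW :=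
      Scheme.Hom.SpecMap_residueFieldMap_fromSpecResidueField pW w
    have key : ∀ (pi : pullback f f ⟶ X), pi ≫ f = pW → zw ≫ pi ≫ π = ρw ≫ y := by
      intro pi hpi
      let l : Spec ((pullback f f).residueField w) ⟶ f.fiber (pW.base w) :=
        pullback.lift (zw ≫ pi) ρw (by rw [Category.assoc, hpi, hρ])
      have hl1 : l ≫ f.fiberι _ = zw ≫ pi := pullback.lift_fst _ _ _
      have hl2 : l ≫ f.fiberToSpecResidueField _ = ρw := pullback.lift_snd _ _ _
      rw [← Category.assoc, ← hl1, Category.assoc, hy, ← Category.assoc, hl2]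
    have h12 : zw ≫ p1 ≫ π = zw ≫ p2 ≫ π := (key p1 rfl).trans (key p2 hp12.symm).symm
    obtain ⟨l, hl⟩ := hlift zw h12
    have hpt : Nonempty (Spec ((pullback f f).residueField w)) := inferInstance
    obtain ⟨pt⟩ := hpt
    refine ⟨l.base pt, ?_⟩
    have := congrArg (fun g => g.base pt) hl
    simp only [Scheme.Hom.comp_base, TopCat.comp_app] at this
    rw [this]
    exact Scheme.fromSpecResidueField_apply _ _
  have hAuniv : A = Set.univ := IsClopen.eq_univ ⟨hAclosed, hAopen⟩ ⟨s, hAs⟩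
  have hall : ∀ t : S, ∃ U : (pullback f f).Opens, (∀ w, pW.base w = t → w ∈ U) ∧
      U.ι ≫ p1 ≫ π = U.ι ≫ p2 ≫ π := fun t => hAB t (hAuniv ▸ Set.mem_univ t)
  choose U hU hUeq using hall
  have hcov : TopologicalSpace.IsOpenCover (fun w : ↥(pullback f f) => U (pW.base w)) :=
    TopologicalSpace.IsOpenCover.mk
      (eq_top_iff.2 fun w _ => TopologicalSpace.Opens.mem_iSup.2 ⟨w, hU _ w rfl⟩)
  refine ((pullback f f).openCoverOfIsOpenCover _ hcov).hom_ext _ _ fun w => ?_
  exact hUeq (pW.base w)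

end Global

end helpers

/-- Let S be a connected Noetherian scheme, f : X → S a proper flat morphism such that for every point s
of S the natural map κ(s) → H^0(X_s, O_{X_s}) on global sections of the fibre is bijective, g : Y →
S a separated morphism and π : X → Y a morphism over S. If for some point s of S the restriction of
π to the fibre X_s is constant, i.e. factors through the projection X_s → Spec κ(s), then π is
constant over all of S: it factors as f followed by a section S → Y of g. (The published statement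
is for arbitrary Noetherian S with the conclusion over the connected component of s; this row
assumes S connected, the reduction made in the first line of the printed proof.) -/
theorem result {X Y S : Scheme.{u}} [IsNoetherian S] [ConnectedSpace ↥S]
    (f : X ⟶ S) [IsProper f] [Flat f]
    (hfib : ∀ s : ↥S, Function.Bijective (algebraMap (S.residueField s) Γ(f.fiber s, ⊤)))
    (g : Y ⟶ S) [IsSeparated g] (π : X ⟶ Y) (hπ : π ≫ g = f) (s : ↥S)
    (hs : ∃ y : Spec (S.residueField s) ⟶ Y, f.fiberι s ≫ π = f.fiberToSpecResidueField s ≫ y) :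
    ∃ σ : S ⟶ Y, σ ≫ g = 𝟙 S ∧ π = f ≫ σ := by
  have h12 := auxMain f hfib g π hπ s hs
  -- surjectivity of f
  haveI : Surjective f := by
    constructor
    intro t
    by_contra hne
    haveI : IsEmpty ↥(f.fiber t) := by
      constructor
      intro x
      apply hne
      refine ⟨(f.fiberι t).base x, ?_⟩
      have := congrArg (fun g => g.base x) (pullback.condition (f := f) (g := S.fromSpecResidueField t))
      simp only [Scheme.Hom.comp_base, TopCat.comp_app] at this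
      change f.base ((pullback.fst f (S.fromSpecResidueField t)).base x) = t
      rw [this]
      exact Scheme.fromSpecResidueField_apply _ _
    have h01 : (0 : Γ(f.fiber t, ⊤)) = 1 := by
      apply (f.fiber t).IsSheaf.section_ext
      intro x hx
      exact (IsEmpty.false x).elim
    have h2 : algebraMap (S.residueField t) Γ(f.fiber t, ⊤) (0 : S.residueField t) =
        algebraMap (S.residueField t) Γ(f.fiber t, ⊤) (1 : S.residueField t) := by
      rw [map_zero, map_one, h01]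
    exact zero_ne_one ((hfib t).1 h2)
  haveI : EffectiveEpi f := inferInstance
  let σ : S ⟶ Y := EffectiveEpi.desc f π (fun {Z} g₁ g₂ h => by
    have h1 : g₁ = pullback.lift g₁ g₂ h ≫ pullback.fst f f := (pullback.lift_fst _ _ _).symm
    have h2 : g₂ = pullback.lift g₁ g₂ h ≫ pullback.snd f f := (pullback.lift_snd _ _ _).symm
    rw [h1, Category.assoc, h12, ← Category.assoc, ← h2])
  have hσ : f ≫ σ = π := EffectiveEpi.fac f π _
  refine ⟨σ, ?_, hσ.symm⟩
  haveI : Epi f := inferInstance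
  rw [← cancel_epi f, ← Category.assoc, hσ, hπ, Category.comp_id]

end Groth.Agent.S14141
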