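import Groth.Statements.S11438
import Mathlib
import Groth.Agent.S14141

set_option autoImplicit false
universe u
open CategoryTheory MonoidalCategory CartesianMonoidalCategory MonObj GrpObj AlgebraicGeometry Topology
open GIT

namespace Groth.Agent.S11438

section helpers
open CategoryTheory MonoidalCategory CartesianMonoidalCategory MonObj GrpObj AlgebraicGeometry Topology
open GIT


section helpers
open CategoryTheory CategoryTheory.Limits AlgebraicGeometry
open AbSch
open Groth.Agent.S15364 Groth.Agent.S14141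

theorem auxMainLN {X Y S : Scheme.{u}} [IsLocallyNoetherian S] [ConnectedSpace ↥S]
    (f : X ⟶ S) [IsProper f] [Flat f]
    (hfib : ∀ s : ↥S, Function.Bijective (algebraMap (S.residueField s) Γ(f.fiber s, ⊤)))
    (g : Y ⟶ S) [IsSeparated g] (π : X ⟶ Y) (hπ : π ≫ g = f) (s : ↥S)
    (hs : ∃ y : Spec (S.residueField s) ⟶ Y, f.fiberι s ≫ π = f.fiberToSpecResidueField s ≫ y) :
    pullback.fst f f ≫ π = pullback.snd f f ≫ π := by
  set p1 := pullback.fst f f with hp1
  set p2 := pullback.snd f f with hp2
  have hp12 : p1 ≫ f = p2 ≫ f := pullback.condition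
  set pW := p1 ≫ f with hpW
  haveI : IsLocallyNoetherian (pullback f f) := LocallyOfFiniteType.isLocallyNoetherian pW
  let Wo : Over S := Over.mk pW
  let Yo : Over S := Over.mk g
  haveI : IsSeparated Yo.hom := ‹IsSeparated g›
  let α : Wo ⟶ Yo := Over.homMk (p1 ≫ π) (by
    change (p1 ≫ π) ≫ g = pW
    rw [Category.assoc, hπ])
  let β : Wo ⟶ Yo := Over.homMk (p2 ≫ π) (by
    change (p2 ≫ π) ≫ g = pW
    rw [Category.assoc, hπ]
    exact hp12.symm)
  let ιe := (equalizer.ι α β).left
  haveI : IsClosedImmersion ιe := inferInstance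
  have hιeq : ιe ≫ p1 ≫ π = ιe ≫ p2 ≫ π := by
    have := congrArg (fun f => f.left) (equalizer.condition α β)
    exact this
  have hlift : ∀ {P : Scheme.{u}} (k : P ⟶ pullback f f), k ≫ p1 ≫ π = k ≫ p2 ≫ π →
      ∃ l : P ⟶ (equalizer α β).left, l ≫ ιe = k := by
    intro P k hk
    let ko : Over.mk (k ≫ pW) ⟶ Wo := Over.homMk k rfl
    have hko : ko ≫ α = ko ≫ β := by
      apply Over.OverMorphism.ext
      exact hk
    exact ⟨(equalizer.lift ko hko).left, congrArg (fun f => f.left) (equalizer.lift_ι ko hko)⟩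
  have hsub : ιe.ker.subschemeι ≫ p1 ≫ π = ιe.ker.subschemeι ≫ p2 ≫ π := by
    have h1 : ιe.toImage ≫ ιe.ker.subschemeι = ιe := ιe.toImage_imageι
    have h1' : ∀ {Z : Scheme.{u}} (h : pullback f f ⟶ Z),
        ιe.toImage ≫ ιe.ker.subschemeι ≫ h = ιe ≫ h := fun h => by rw [← Category.assoc, h1]
    rw [← cancel_epi ιe.toImage, h1', h1']
    exact hιeq
  let A : Set S := {t | ∀ w : ↥(pullback f f), pW.base w = t → w ∈ Set.range ιe.base}
  have hAB : ∀ t ∈ A, ∃ U : (pullback f f).Opens, (∀ w, pW.base w = t → w ∈ U) ∧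
      U.ι ≫ p1 ≫ π = U.ι ≫ p2 ≫ π := by
    intro t ht
    by_cases hne : ∃ x0 : X, f.base x0 = t
    · obtain ⟨x0, hx0⟩ := hne
      have hy0 : ∀ x : X, f.base x = t → π.base x = π.base x0 := by
        intro x hx
        obtain ⟨w, hw1, hw2⟩ := Scheme.Pullback.exists_preimage_pullback (f := f) (g := f) x x0
          (hx.trans hx0.symm)
        have hwt : pW.base w = t := by
          change f.base (p1.base w) = t
          rw [hw1, hx]
        obtain ⟨z, hz⟩ := ht w hwt
        have := congrArg (fun g => g.base z) hιeq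
        simp only [Scheme.Hom.comp_base, TopCat.comp_app] at this
        rw [hz, hw1, hw2] at this
        exact this
      obtain ⟨U, hU, g', hg'⟩ := Groth.Agent.S18384.result pW t ιe.ker (fun n => by
        let u1 : pullback pW (τ S t n) ⟶ pullback f (τ S t n) :=
          pullback.lift (pullback.fst pW (τ S t n) ≫ p1) (pullback.snd pW (τ S t n)) (by
            rw [Category.assoc]
            exact pullback.condition)
        let u2 : pullback pW (τ S t n) ⟶ pullback f (τ S t n) :=
          pullback.lift (pullback.fst pW (τ S t n) ≫ p2) (pullback.snd pW (τ S t n)) (by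
            rw [Category.assoc, ← hp12]
            exact pullback.condition)
        have hu : u1 ≫ pullback.snd f (τ S t n) = u2 ≫ pullback.snd f (τ S t n) := by
          rw [pullback.lift_snd, pullback.lift_snd]
        have h1 := inf_eq' f t (hfib t) π (π.base x0) hy0 n u1 u2 hu
        rw [← Category.assoc, ← Category.assoc, pullback.lift_fst, pullback.lift_fst,
          Category.assoc, Category.assoc] at h1
        obtain ⟨l, hl⟩ := hlift (pullback.fst pW (τ S t n)) h1
        refine ⟨l ≫ ιe.toImage, ?_⟩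
        have h2 : ιe.toImage ≫ ιe.ker.subschemeι = ιe := ιe.toImage_imageι
        rw [Category.assoc, h2]
        exact hl)
      exact ⟨U, hU, by rw [← hg', Category.assoc, Category.assoc, hsub]⟩
    · refine ⟨⊥, fun w hw => absurd ⟨p1.base w, hw⟩ hne, ?_⟩
      haveI : IsEmpty ↥((⊥ : (pullback f f).Opens) : Scheme.{u}) := ⟨fun x => x.2⟩
      exact (isInitialOfIsEmpty).hom_ext _ _
  have hAopen : IsOpen A := by
    rw [isOpen_iff_forall_mem_open]
    intro t ht
    obtain ⟨U, hU, hUeq⟩ := hAB t ht
    refine ⟨(pW.base '' ((U : Set ↥(pullback f f))ᶜ))ᶜ, ?_, ?_, ?_⟩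
    · intro t' ht' w hw
      have hwU : w ∈ U := by
        by_contra hc
        exact ht' ⟨w, hc, hw⟩
      obtain ⟨l, hl⟩ := hlift U.ι hUeq
      refine ⟨l.base ⟨w, hwU⟩, ?_⟩
      have := congrArg (fun g => g.base ⟨w, hwU⟩) hl
      simp only [Scheme.Hom.comp_base, TopCat.comp_app] at this
      rw [this]
      rfl
    · exact (pW.isClosedMap _ U.2.isClosed_compl).isOpen_compl
    · rintro ⟨w, hwc, hw⟩
      exact hwc (hU w hw)
  have hAclosed : IsClosed A := by
    have : Aᶜ = pW.base '' (Set.range ιe.base)ᶜ := by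
      ext t
      simp only [A, Set.mem_compl_iff, Set.mem_setOf_eq, Set.mem_image]
      push_neg
      constructor
      · rintro ⟨w, hw, hwn⟩
        exact ⟨w, hwn, hw⟩
      · rintro ⟨w, hwn, hw⟩
        exact ⟨w, hw, hwn⟩
    rw [← isOpen_compl_iff, this]
    exact pW.isOpenMap _ ιe.isClosedEmbedding.isClosed_range.isOpen_compl
  have hAs : s ∈ A := by
    obtain ⟨y, hy⟩ := hs
    intro w hw
    subst hw
    let zw := (pullback f f).fromSpecResidueField w
    let ρw : Spec ((pullback f f).residueField w) ⟶ Spec (S.residueField (pW.base w)) :=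
      Spec.map (pW.residueFieldMap w)
    have hρ : ρw ≫ S.fromSpecResidueField (pW.base w) = zw ≫ pW :=
      Scheme.Hom.SpecMap_residueFieldMap_fromSpecResidueField pW w
    have key : ∀ (pi : pullback f f ⟶ X), pi ≫ f = pW → zw ≫ pi ≫ π = ρw ≫ y := by
      intro pi hpi
      let l : Spec ((pullback f f).residueField w) ⟶ f.fiber (pW.base w) :=
        pullback.lift (zw ≫ pi) ρw (by rw [Category.assoc, hpi, hρ])
      have hl1 : l ≫ f.fiberι _ = zw ≫ pi := pullback.lift_fst _ _ _
      have hl2 : l ≫ f.fiberToSpecResidueField _ = ρw := pullback.lift_snd _ _ _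
      rw [← Category.assoc, ← hl1, Category.assoc, hy, ← Category.assoc, hl2]
    have h12 : zw ≫ p1 ≫ π = zw ≫ p2 ≫ π := (key p1 rfl).trans (key p2 hp12.symm).symm
    obtain ⟨l, hl⟩ := hlift zw h12
    have hpt : Nonempty (Spec ((pullback f f).residueField w)) := inferInstance
    obtain ⟨pt⟩ := hpt
    refine ⟨l.base pt, ?_⟩
    have := congrArg (fun g => g.base pt) hl
    simp only [Scheme.Hom.comp_base, TopCat.comp_app] at this
    rw [this]
    exact Scheme.fromSpecResidueField_apply _ _
  have hAuniv : A = Set.univ := IsClopen.eq_univ ⟨hAclosed, hAopen⟩ ⟨s, hAs⟩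
  have hall : ∀ t : S, ∃ U : (pullback f f).Opens, (∀ w, pW.base w = t → w ∈ U) ∧
      U.ι ≫ p1 ≫ π = U.ι ≫ p2 ≫ π := fun t => hAB t (hAuniv ▸ Set.mem_univ t)
  choose U hU hUeq using hall
  have hcov : TopologicalSpace.IsOpenCover (fun w : ↥(pullback f f) => U (pW.base w)) :=
    TopologicalSpace.IsOpenCover.mk
      (eq_top_iff.2 fun w _ => TopologicalSpace.Opens.mem_iSup.2 ⟨w, hU _ w rfl⟩)
  refine ((pullback f f).openCoverOfIsOpenCover _ hcov).hom_ext _ _ fun w => ?_
  exact hUeq (pW.base w)

theorem rigidLN {X Y S : Scheme.{u}} [IsLocallyNoetherian S] [ConnectedSpace ↥S]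
    (f : X ⟶ S) [IsProper f] [Flat f]
    (hfib : ∀ s : ↥S, Function.Bijective (algebraMap (S.residueField s) Γ(f.fiber s, ⊤)))
    (g : Y ⟶ S) [IsSeparated g] (π : X ⟶ Y) (hπ : π ≫ g = f) (s : ↥S)
    (hs : ∃ y : Spec (S.residueField s) ⟶ Y, f.fiberι s ≫ π = f.fiberToSpecResidueField s ≫ y) :
    ∃ σ : S ⟶ Y, σ ≫ g = 𝟙 S ∧ π = f ≫ σ := by
  have h12 := auxMainLN f hfib g π hπ s hs
  -- surjectivity of f
  haveI : Surjective f := by
    constructor
    intro t
    by_contra hne
    haveI : IsEmpty ↥(f.fiber t) := by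
      constructor
      intro x
      apply hne
      refine ⟨(f.fiberι t).base x, ?_⟩
      have := congrArg (fun g => g.base x) (pullback.condition (f := f) (g := S.fromSpecResidueField t))
      simp only [Scheme.Hom.comp_base, TopCat.comp_app] at this
      change f.base ((pullback.fst f (S.fromSpecResidueField t)).base x) = t
      rw [this]
      exact Scheme.fromSpecResidueField_apply _ _
    have h01 : (0 : Γ(f.fiber t, ⊤)) = 1 := by
      apply (f.fiber t).IsSheaf.section_ext
      intro x hx
      exact (IsEmpty.false x).elim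
    have h2 : algebraMap (S.residueField t) Γ(f.fiber t, ⊤) (0 : S.residueField t) =
        algebraMap (S.residueField t) Γ(f.fiber t, ⊤) (1 : S.residueField t) := by
      rw [map_zero, map_one, h01]
    exact zero_ne_one ((hfib t).1 h2)
  haveI : EffectiveEpi f := inferInstance
  let σ : S ⟶ Y := EffectiveEpi.desc f π (fun {Z} g₁ g₂ h => by
    have h1 : g₁ = pullback.lift g₁ g₂ h ≫ pullback.fst f f := (pullback.lift_fst _ _ _).symm
    have h2 : g₂ = pullback.lift g₁ g₂ h ≫ pullback.snd f f := (pullback.lift_snd _ _ _).symm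
    rw [h1, Category.assoc, h12, ← Category.assoc, ← h2])
  have hσ : f ≫ σ = π := EffectiveEpi.fac f π _
  refine ⟨σ, ?_, hσ.symm⟩
  haveI : Epi f := inferInstance
  rw [← cancel_epi f, ← Category.assoc, hσ, hπ, Category.comp_id]

end helpers

end helpers

/-- Let S be connected and locally Noetherian, G a locally Noetherian group scheme separated over S, X →
S proper and flat with κ(s) → H⁰(X_s, O_{X_s}) bijective for every s, and f, g : X → G morphisms
over S which agree on one fibre X_s. Then there is a section t of G over S with f = (t ∘ p) · g, the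
product taken in the group of X-valued points of G. -/
theorem result (S : Scheme.{u}) [IsLocallyNoetherian S] [ConnectedSpace S]
    (X G : Over S) [GrpObj G] [IsLocallyNoetherian G.left] [IsSeparated G.hom] [IsProper X.hom] [Flat X.hom]
    (h0 : ∀ s : S, Function.Bijective (Limits.pullback.snd X.hom (S.fromSpecResidueField s)).appTop)
    (f g : X ⟶ G) (s : S)
    (hs : Limits.pullback.fst X.hom (S.fromSpecResidueField s) ≫ f.left =
      Limits.pullback.fst X.hom (S.fromSpecResidueField s) ≫ g.left) :
    ∃ t : 𝟙_ (Over S) ⟶ G, f = (toUnit X ≫ t) * g := by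
  have hfib : ∀ s : ↥S, Function.Bijective (algebraMap (S.residueField s) Γ(X.hom.fiber s, ⊤)) := by
    intro s
    have hb : Function.Bijective (Scheme.ΓSpecIso (S.residueField s)).inv :=
      ConcreteCategory.bijective_of_isIso _
    exact (h0 s).comp hb
  set h : X ⟶ G := f / g with hh
  let Xs : Over S := Over.mk (Limits.pullback.fst X.hom (S.fromSpecResidueField s) ≫ X.hom)
  let k : Xs ⟶ X := Over.homMk (Limits.pullback.fst X.hom (S.fromSpecResidueField s)) rfl
  have hk : k ≫ f = k ≫ g := by
    apply Over.OverMorphism.ext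
    exact hs
  have hk1 : k ≫ h = 1 := by
    rw [hh, GrpObj.comp_div, hk, div_self']
  have hk2 : Limits.pullback.fst X.hom (S.fromSpecResidueField s) ≫ h.left =
      (Limits.pullback.fst X.hom (S.fromSpecResidueField s) ≫ X.hom) ≫ (η[G]).left := by
    have := congrArg (fun m => m.left) hk1
    exact this
  obtain ⟨σ, hσ1, hσ2⟩ := rigidLN X.hom hfib G.hom h.left (Over.w h) s
    ⟨S.fromSpecResidueField s ≫ (η[G]).left, by
      change Limits.pullback.fst X.hom (S.fromSpecResidueField s) ≫ h.left = _
      rw [hk2, Limits.pullback.condition, Category.assoc]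
      rfl⟩
  let t : 𝟙_ (Over S) ⟶ G := Over.homMk σ (by
    change σ ≫ G.hom = 𝟙 S
    exact hσ1)
  refine ⟨t, ?_⟩
  have ht : h = toUnit X ≫ t := by
    apply Over.OverMorphism.ext
    exact hσ2
  rw [← ht, hh, div_mul_cancel]

end Groth.Agent.S11438
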