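import Groth.Statements.S11434
import Mathlib
import Groth.Agent.S11438
import Groth.Agent.Lib.Helper72.TauTop

set_option autoImplicit false
universe u
open CategoryTheory MonoidalCategory CartesianMonoidalCategory MonObj GrpObj AlgebraicGeometry Topology
open GIT

namespace Groth.Agent.S11434

section helpers
open CategoryTheory MonoidalCategory CartesianMonoidalCategory MonObj GrpObj AlgebraicGeometry Topology
open GIT


section helpers
open CategoryTheory CategoryTheory.Limits AlgebraicGeometry
open AbSch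
open Groth.Agent.S15364 Groth.Agent.S14141

variable {X Y S : Scheme.{u}}

theorem infEqNP [IsLocallyNoetherian S] (f : X ⟶ S) [Flat f]
    (t : S) (hfib : Function.Bijective (algebraMap (S.residueField t) Γ(f.fiber t, ⊤)))
    (π : X ⟶ Y) (y0 : Y) (hy0 : ∀ x : X, f.base x = t → π.base x = y0) (n : ℕ)
    {P : Scheme.{u}} (u1 u2 : P ⟶ pullback f (τ S t n))
    (hu : u1 ≫ pullback.snd f (τ S t n) = u2 ≫ pullback.snd f (τ S t n)) :
    u1 ≫ pullback.fst f (τ S t n) ≫ π = u2 ≫ pullback.fst f (τ S t n) ≫ π := by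
  obtain ⟨hloc, hN⟩ := quot_local (S := ↑(S.presheaf.stalk t)) n
  set q := pullback.snd f (τ S t n) with hq
  let ι0 : f.fiber t ⟶ pullback f (τ S t n) :=
    pullback.lift (f.fiberι t) (f.fiberToSpecResidueField t ≫ Spec.map (φ0 S t n)) (by
      rw [Category.assoc, φ0_comp]
      exact pullback.condition)
  have hι0 : ι0 ≫ pullback.fst f (τ S t n) = f.fiberι t := pullback.lift_fst _ _ _
  have hι0' : ι0 ≫ q = f.fiberToSpecResidueField t ≫ Spec.map (φ0 S t n) :=
    pullback.lift_snd _ _ _
  have H : IsPullback ι0 (f.fiberToSpecResidueField t) q (Spec.map (φ0 S t n)) := by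
    refine IsPullback.of_right ?_ hι0' (IsPullback.of_hasPullback f (τ S t n))
    rw [hι0, φ0_comp]
    exact IsPullback.of_hasPullback f (S.fromSpecResidueField t)
  have hk : ∀ r, (φ0 S t n).hom r = 0 ↔ r ∈ IsLocalRing.maximalIdeal _ := by
    intro r
    have hmax : (RingHom.ker (φ0 S t n).hom).IsMaximal :=
      RingHom.ker_isMaximal_of_surjective _ (φ0_surj S t n)
    rw [← IsLocalRing.eq_maximalIdeal hmax, RingHom.mem_ker]
  have h0 : ∀ c : Γ(f.fiber t, ⊤), ∃ r, c = (ι0.app ⊤).hom (ρ q ⊤ r) := by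
    intro c
    obtain ⟨k, hkc⟩ := hfib.2 c
    obtain ⟨r, hr⟩ := φ0_surj S t n k
    refine ⟨r, ?_⟩
    have h1 : ρ q ⊤ r = (q.appLE ⊤ ⊤ (hleTop q ⊤)).hom ((Scheme.ΓSpecIso _).inv.hom r) := rfl
    rw [h1, sq_apply' q _ (φ0 S t n) ι0 _ H, f0_appTop, hr, ← hkc]
    change (f.fiberToSpecResidueField t).appTop.hom ((Scheme.ΓSpecIso _).inv.hom k) = _
    rw [Scheme.Hom.appTop, Scheme.Hom.app_eq_appLE]
    rfl
  obtain ⟨_, ⟨V, hV : IsAffineOpen V, rfl⟩, hyV, -⟩ :=
    (Y.isBasis_affineOpens).exists_subset_of_mem_open (Set.mem_univ y0) isOpen_univ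
  set a' := pullback.fst f (τ S t n) ≫ π with ha'
  have hrange : Set.range a'.base ⊆ Set.range (Scheme.Opens.ι V).base := by
    rintro _ ⟨z, rfl⟩
    rw [Scheme.Opens.range_ι]
    have h1 : f.base ((pullback.fst f (τ S t n)).base z) = t := by
      have := congrArg (fun g => g.base z) (pullback.condition (f := f) (g := τ S t n))
      simp only [Scheme.Hom.comp_base, TopCat.comp_app] at this
      rw [this]
      exact τ_apply S t n _
    have h2 := hy0 _ h1
    change π.base ((pullback.fst f (τ S t n)).base z) ∈ V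
    rw [h2]
    exact hyV
  let a := IsOpenImmersion.lift (Scheme.Opens.ι V) a' hrange
  have ha : a ≫ (Scheme.Opens.ι V) = a' := IsOpenImmersion.lift_fac _ _ _
  haveI : IsAffine (V : Y.Opens) := hV
  have key2 : u1 ≫ a = u2 ≫ a := by
    apply ext_of_isAffine
    ext v
    simp only [Scheme.Hom.comp_appTop, CommRingCat.hom_comp, RingHom.comp_apply]
    obtain ⟨r, hr⟩ := keyS q _ (φ0 S t n) ι0 _ H (n + 1) hN (φ0_surj S t n) hk h0
      (a.appTop.hom v)
    rw [hr]
    have h1 : ρ q ⊤ r = q.appTop.hom ((Scheme.ΓSpecIso _).inv.hom r) := by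
      change (q.appLE ⊤ ⊤ _).hom _ = _
      rw [Scheme.Hom.appTop, Scheme.Hom.app_eq_appLE]
      rfl
    rw [h1]
    have h2 : ∀ (u : P ⟶ pullback f (τ S t n)) x,
        u.appTop.hom (q.appTop.hom x) = (u ≫ q).appTop.hom x := fun u x => by
      simp only [Scheme.Hom.comp_appTop, CommRingCat.hom_comp, RingHom.comp_apply]
    rw [h2, h2, hu]
  calc u1 ≫ pullback.fst f (τ S t n) ≫ π = (u1 ≫ a) ≫ (Scheme.Opens.ι V) := by rw [Category.assoc, ha]
    _ = (u2 ≫ a) ≫ (Scheme.Opens.ι V) := by rw [key2]
    _ = _ := by rw [Category.assoc, ha]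

/-- a morphism collapsing `Z` to a point factors through `Spec K` when `K ≅ Γ(Z, O)`. -/
theorem const_of_collapse {Z Y : Scheme.{u}} {K : CommRingCat.{u}} [Nonempty Z] (c : Z ⟶ Spec K)
    (hc : Function.Bijective c.appTop) (g : Z ⟶ Y) (hg : ∀ z z' : Z, g.base z = g.base z') :
    ∃ y : Spec K ⟶ Y, g = c ≫ y := by
  obtain ⟨z₀⟩ := (inferInstance : Nonempty Z)
  obtain ⟨_, ⟨V, hV : IsAffineOpen V, rfl⟩, hyV, -⟩ :=
    (Y.isBasis_affineOpens).exists_subset_of_mem_open (Set.mem_univ (g.base z₀)) isOpen_univ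
  have hrange : Set.range g.base ⊆ Set.range (Scheme.Opens.ι V).base := by
    rintro _ ⟨z, rfl⟩
    rw [Scheme.Opens.range_ι, hg z z₀]
    exact hyV
  let g' := IsOpenImmersion.lift (Scheme.Opens.ι V) g hrange
  have hg' : g' ≫ (Scheme.Opens.ι V) = g := IsOpenImmersion.lift_fac _ _ _
  haveI : IsAffine (V : Y.Opens) := hV
  haveI : IsIso (V : Scheme.{u}).toSpecΓ := IsAffine.affine
  have n1 : g' ≫ (V : Scheme.{u}).toSpecΓ = Z.toSpecΓ ≫ Spec.map g'.appTop :=
    Scheme.toSpecΓ_naturality g'
  have n2 : c ≫ (Spec K).toSpecΓ = Z.toSpecΓ ≫ Spec.map c.appTop :=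
    Scheme.toSpecΓ_naturality c
  haveI : IsIso c.appTop := (ConcreteCategory.isIso_iff_bijective _).2 hc
  haveI : IsIso (Spec.map c.appTop) := inferInstance
  have n3 : Z.toSpecΓ = c ≫ (Spec K).toSpecΓ ≫ inv (Spec.map c.appTop) := by
    rw [← Category.assoc, n2, Category.assoc, IsIso.hom_inv_id, Category.comp_id]
  have n4 : g' = Z.toSpecΓ ≫ Spec.map g'.appTop ≫ inv (V : Scheme.{u}).toSpecΓ := by
    rw [← Category.assoc, ← n1, Category.assoc, IsIso.hom_inv_id, Category.comp_id]
  refine ⟨(Spec K).toSpecΓ ≫ inv (Spec.map c.appTop) ≫ Spec.map g'.appTop ≫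
    inv (V : Scheme.{u}).toSpecΓ ≫ Scheme.Opens.ι V, ?_⟩
  rw [← hg']
  conv_lhs => rw [n4, n3]
  simp only [Category.assoc]

end helpers

end helpers

/-- Let S, X, Y be locally Noetherian, p : X → S flat, q : Y → S separated, f : X → Y over S, with S
connected and κ(s) → H⁰(X_s, O_{X_s}) bijective for every point s of S; assume either that p is
proper, or that p is a closed map and has a section. If f collapses one fibre p⁻¹(s) to a single
point, then f = t ∘ p for a section t of q. (The published statement assumes all schemes separated;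
this row assumes only that q is separated, which is what the proof uses.) -/
theorem result (S X Y : Scheme.{u}) [IsLocallyNoetherian S] [IsLocallyNoetherian X]
    [IsLocallyNoetherian Y] (p : X ⟶ S) (q : Y ⟶ S) (f : X ⟶ Y) (hf : f ≫ q = p) [Flat p] [IsSeparated q]
    [ConnectedSpace S]
    (h0 : ∀ s : S, Function.Bijective (Limits.pullback.snd p (S.fromSpecResidueField s)).appTop)
    (hp : IsProper p ∨ (IsClosedMap p.base ∧ ∃ e : S ⟶ X, e ≫ p = 𝟙 S))
    (s : S) (hs : ∀ x x' : X, p.base x = s → p.base x' = s → f.base x = f.base x') :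
    ∃ t : S ⟶ Y, t ≫ q = 𝟙 S ∧ f = p ≫ t := by
  have hfib : ∀ s : ↥S, Function.Bijective (algebraMap (S.residueField s) Γ(p.fiber s, ⊤)) := by
    intro s
    have hb : Function.Bijective (Scheme.ΓSpecIso (S.residueField s)).inv :=
      ConcreteCategory.bijective_of_isIso _
    exact (h0 s).comp hb
  -- fibres are nonempty
  have hne : ∀ t : S, Nonempty ↥(p.fiber t) := by
    intro t
    by_contra hne
    haveI : IsEmpty ↥(p.fiber t) := not_nonempty_iff.1 hne
    have h01 : (0 : Γ(p.fiber t, ⊤)) = 1 := by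
      apply (p.fiber t).IsSheaf.section_ext
      intro x hx
      exact (IsEmpty.false x).elim
    have h2 : algebraMap (S.residueField t) Γ(p.fiber t, ⊤) (0 : S.residueField t) =
        algebraMap (S.residueField t) Γ(p.fiber t, ⊤) (1 : S.residueField t) := by
      rw [map_zero, map_one, h01]
    exact zero_ne_one ((hfib t).1 h2)
  -- scheme-theoretic constancy on the fibre over `s`
  have hsch : ∃ y : Spec (S.residueField s) ⟶ Y,
      p.fiberι s ≫ f = p.fiberToSpecResidueField s ≫ y := by
    haveI := hne s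
    refine const_of_collapse (p.fiberToSpecResidueField s) (h0 s) (p.fiberι s ≫ f) ?_
    intro z z'
    have hz : ∀ z : ↥(p.fiber s), p.base ((p.fiberι s).base z) = s := by
      intro z
      have := congrArg (fun g => g.base z) (p.fiber_fac s)
      simp only [Scheme.Hom.comp_base, TopCat.comp_app] at this
      rw [this]
      exact Scheme.fromSpecResidueField_apply _ _
    simp only [Scheme.Hom.comp_base, TopCat.comp_app]
    exact hs _ _ (hz z) (hz z')
  rcases hp with hproper | ⟨hclosed, e, he⟩
  · haveI := hproper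
    obtain ⟨σ, h1, h2⟩ := Groth.Agent.S11438.rigidLN p hfib q f hf s hsch
    exact ⟨σ, h1, h2⟩
  · set t : S ⟶ Y := e ≫ f with ht
    have htq : t ≫ q = 𝟙 S := by rw [ht, Category.assoc, hf, he]
    refine ⟨t, htq, ?_⟩
    set π₂ : X ⟶ Y := p ≫ t with hπ₂
    let Xo : Over S := Over.mk p
    let Yo : Over S := Over.mk q
    haveI : IsSeparated Yo.hom := ‹IsSeparated q›
    let α : Xo ⟶ Yo := Over.homMk f hf
    let β : Xo ⟶ Yo := Over.homMk π₂ (by
      change π₂ ≫ q = p
      rw [hπ₂, Category.assoc, htq, Category.comp_id])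
    let ιe := (Limits.equalizer.ι α β).left
    haveI : IsClosedImmersion ιe := inferInstance
    have hιeq : ιe ≫ f = ιe ≫ π₂ := by
      have := congrArg (fun f => f.left) (Limits.equalizer.condition α β)
      exact this
    have hlift : ∀ {P : Scheme.{u}} (k : P ⟶ X), k ≫ f = k ≫ π₂ →
        ∃ l : P ⟶ (Limits.equalizer α β).left, l ≫ ιe = k := by
      intro P k hk
      let ko : Over.mk (k ≫ p) ⟶ Xo := Over.homMk k rfl
      have hko : ko ≫ α = ko ≫ β := by
        apply Over.OverMorphism.ext
        exact hk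
      exact ⟨(Limits.equalizer.lift ko hko).left,
        congrArg (fun f => f.left) (Limits.equalizer.lift_ι ko hko)⟩
    have hsub : ιe.ker.subschemeι ≫ f = ιe.ker.subschemeι ≫ π₂ := by
      have h1 : ιe.toImage ≫ ιe.ker.subschemeι = ιe := ιe.toImage_imageι
      have h1' : ∀ {Z : Scheme.{u}} (h : X ⟶ Z),
          ιe.toImage ≫ ιe.ker.subschemeι ≫ h = ιe ≫ h := fun h => by rw [← Category.assoc, h1]
      rw [← cancel_epi ιe.toImage, h1', h1']
      exact hιeq
    let A : Set S := {t' | ∀ x : X, p.base x = t' → x ∈ Set.range ιe.base}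
    have hAB : ∀ t' ∈ A, ∃ U : X.Opens, (∀ x, p.base x = t' → x ∈ U) ∧
        U.ι ≫ f = U.ι ≫ π₂ := by
      intro t' ht'
      have hy0 : ∀ x : X, p.base x = t' → f.base x = t.base t' := by
        intro x hx
        obtain ⟨z, hz⟩ := ht' x hx
        have := congrArg (fun g => g.base z) hιeq
        simp only [Scheme.Hom.comp_base, TopCat.comp_app] at this
        rw [hz] at this
        rw [this, hπ₂, Scheme.Hom.comp_base, TopCat.comp_app, hx]
      obtain ⟨U, hU, g', hg'⟩ := Groth.Agent.S18384.result p t' ιe.ker (fun n => by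
        let sec : Spec (CommRingCat.of (↑(S.presheaf.stalk t') ⧸
            (IsLocalRing.maximalIdeal ↑(S.presheaf.stalk t') ^ (n + 1)))) ⟶
            Limits.pullback p (Groth.Agent.S15364.τ S t' n) :=
          Limits.pullback.lift (Groth.Agent.S15364.τ S t' n ≫ e) (𝟙 _) (by
            rw [Category.assoc, he, Category.comp_id, Category.id_comp])
        let u2 : Limits.pullback p (Groth.Agent.S15364.τ S t' n) ⟶
            Limits.pullback p (Groth.Agent.S15364.τ S t' n) :=
          Limits.pullback.snd p (Groth.Agent.S15364.τ S t' n) ≫ sec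
        have hu : 𝟙 _ ≫ Limits.pullback.snd p (Groth.Agent.S15364.τ S t' n) =
            u2 ≫ Limits.pullback.snd p (Groth.Agent.S15364.τ S t' n) := by
          rw [Category.id_comp, Category.assoc, Limits.pullback.lift_snd, Category.comp_id]
        have h1 := infEqNP p t' (hfib t') f (t.base t') hy0 n (𝟙 _) u2 hu
        rw [Category.id_comp] at h1
        have h2 : u2 ≫ Limits.pullback.fst p (Groth.Agent.S15364.τ S t' n) ≫ f =
            Limits.pullback.fst p (Groth.Agent.S15364.τ S t' n) ≫ π₂ := by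
          rw [Category.assoc, ← Category.assoc sec, Limits.pullback.lift_fst, hπ₂, ht,
            ← Category.assoc (Limits.pullback.fst p _), Limits.pullback.condition]
          simp only [Category.assoc]
        rw [h2] at h1
        obtain ⟨l, hl⟩ := hlift (Limits.pullback.fst p (Groth.Agent.S15364.τ S t' n)) h1
        refine ⟨l ≫ ιe.toImage, ?_⟩
        have h3 : ιe.toImage ≫ ιe.ker.subschemeι = ιe := ιe.toImage_imageι
        rw [Category.assoc, h3]
        exact hl)
      exact ⟨U, hU, by rw [← hg', Category.assoc, Category.assoc, hsub]⟩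
    have hAopen : IsOpen A := by
      rw [isOpen_iff_forall_mem_open]
      intro t' ht'
      obtain ⟨U, hU, hUeq⟩ := hAB t' ht'
      refine ⟨(p.base '' ((U : Set ↥X)ᶜ))ᶜ, ?_, ?_, ?_⟩
      · intro t'' ht'' x hx
        have hxU : x ∈ U := by
          by_contra hc
          exact ht'' ⟨x, hc, hx⟩
        obtain ⟨l, hl⟩ := hlift U.ι hUeq
        refine ⟨l.base ⟨x, hxU⟩, ?_⟩
        have := congrArg (fun g => g.base ⟨x, hxU⟩) hl
        simp only [Scheme.Hom.comp_base, TopCat.comp_app] at this
        rw [this]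
        rfl
      · exact (hclosed _ U.2.isClosed_compl).isOpen_compl
      · rintro ⟨x, hxc, hx⟩
        exact hxc (hU x hx)
    have hAspec : StableUnderSpecialization A := by
      intro a b hab ha x hx
      have hgen : GeneralizingMap p.base := Flat.generalizingMap p
      obtain ⟨x', hx'x, hx'a⟩ := hgen (a := x) (b := a) (by rw [hx]; exact hab)
      exact hx'x.mem_closed ιe.isClosedEmbedding.isClosed_range (ha x' hx'a)
    have hAclosed : IsClosed A :=
      Groth.Agent.Lib.Helper72.TauTop.isClosed_of_isOpen_of_stableUnderSpecialization hAopen hAspec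
    have hAs : s ∈ A := by
      obtain ⟨y, hy⟩ := hsch
      intro x hx
      subst hx
      let zx := X.fromSpecResidueField x
      let ρx : Spec (X.residueField x) ⟶ Spec (S.residueField (p.base x)) :=
        Spec.map (p.residueFieldMap x)
      have hρ : ρx ≫ S.fromSpecResidueField (p.base x) = zx ≫ p :=
        Scheme.Hom.SpecMap_residueFieldMap_fromSpecResidueField p x
      have k1 : zx ≫ f = ρx ≫ y := by
        let l : Spec (X.residueField x) ⟶ p.fiber (p.base x) :=
          Limits.pullback.lift zx ρx (by rw [hρ])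
        have hl1 : l ≫ p.fiberι _ = zx := Limits.pullback.lift_fst _ _ _
        have hl2 : l ≫ p.fiberToSpecResidueField _ = ρx := Limits.pullback.lift_snd _ _ _
        rw [← hl1, Category.assoc, hy, ← Category.assoc, hl2]
      have k2 : zx ≫ π₂ = ρx ≫ y := by
        let l₀ : Spec (S.residueField (p.base x)) ⟶ p.fiber (p.base x) :=
          Limits.pullback.lift (S.fromSpecResidueField (p.base x) ≫ e) (𝟙 _) (by
            rw [Category.assoc, he, Category.comp_id, Category.id_comp])
        have hl1 : l₀ ≫ p.fiberι _ = S.fromSpecResidueField (p.base x) ≫ e :=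
          Limits.pullback.lift_fst _ _ _
        have hl2 : l₀ ≫ p.fiberToSpecResidueField _ = 𝟙 _ := Limits.pullback.lift_snd _ _ _
        have h3 : S.fromSpecResidueField (p.base x) ≫ e ≫ f = y := by
          rw [← Category.assoc, ← hl1, Category.assoc, hy, ← Category.assoc, hl2,
            Category.id_comp]
        rw [hπ₂, ht, ← Category.assoc, ← hρ, Category.assoc, h3]
      obtain ⟨l, hl⟩ := hlift zx (k1.trans k2.symm)
      obtain ⟨pt⟩ := (inferInstance : Nonempty (Spec (X.residueField x)))
      refine ⟨l.base pt, ?_⟩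
      have := congrArg (fun g => g.base pt) hl
      simp only [Scheme.Hom.comp_base, TopCat.comp_app] at this
      rw [this]
      exact Scheme.fromSpecResidueField_apply _ _
    have hAuniv : A = Set.univ := IsClopen.eq_univ ⟨hAclosed, hAopen⟩ ⟨s, hAs⟩
    have hall : ∀ t' : S, ∃ U : X.Opens, (∀ x, p.base x = t' → x ∈ U) ∧
        U.ι ≫ f = U.ι ≫ π₂ := fun t' => hAB t' (hAuniv ▸ Set.mem_univ t')
    choose U hU hUeq using hall
    have hcov : TopologicalSpace.IsOpenCover (fun x : ↥X => U (p.base x)) :=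
      TopologicalSpace.IsOpenCover.mk
        (eq_top_iff.2 fun x _ => TopologicalSpace.Opens.mem_iSup.2 ⟨x, hU _ x rfl⟩)
    refine (X.openCoverOfIsOpenCover _ hcov).hom_ext _ _ fun x => ?_
    exact hUeq (p.base x)

end Groth.Agent.S11434
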