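import Groth.Statements.S11435
import Groth.Agent.Lib.Helper72.OrbitFlat
import Groth.Agent.Lib.Helper72.StabPullback
import Groth.Agent.Lib.Helper62.GrpSeparated
import Groth.Agent.Lib.Helper72.OrbitAct
import Mathlib.AlgebraicGeometry.Group.Abelian

set_option autoImplicit false
universe u
open CategoryTheory MonoidalCategory CartesianMonoidalCategory MonObj GrpObj AlgebraicGeometry Topology
open GIT

namespace Groth.Agent.S11435

open CategoryTheory.Limits Groth.Agent.Lib.Helper72

section aux

variable {k : Type u} [Field k]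
  {G X : Over (Spec (CommRingCat.of k))} [GrpObj G] (a : AlgGrp.Action G X)
  (x : 𝟙_ (Over (Spec (CommRingCat.of k))) ⟶ X)

lemma psi_fst : GIT.psi a x ≫ fst X (𝟙_ _) = fst G (𝟙_ _) ≫ a.orbitMap x := by
  rw [GIT.psi, lift_fst, a.comp_orbitMap]
  congr 1
  rw [toUnit_unique (toUnit (G ⊗ 𝟙_ (Over (Spec (CommRingCat.of k))))) (snd G (𝟙_ _))]
  rfl

lemma pt_fst : lift x (𝟙 (𝟙_ (Over (Spec (CommRingCat.of k))))) ≫ fst X (𝟙_ _) = x := lift_fst _ _

instance isIso_fst_unit (Y : Over (Spec (CommRingCat.of k))) : IsIso (fst Y (𝟙_ _)) := by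
  rw [← rightUnitor_hom]; infer_instance

instance isIso_fst_unit_left (Y : Over (Spec (CommRingCat.of k))) : IsIso (fst Y (𝟙_ _)).left :=
  inferInstanceAs (IsIso ((Over.forget _).map (fst Y (𝟙_ _))))

lemma psi_left : (GIT.psi a x).left ≫ (fst X (𝟙_ _)).left =
    (fst G (𝟙_ _)).left ≫ (a.orbitMap x).left := by
  rw [← Over.comp_left, ← Over.comp_left, psi_fst]

lemma isProper_psi_iff : IsProper (GIT.psi a x).left ↔ IsProper (a.orbitMap x).left := by
  rw [← MorphismProperty.cancel_right_of_respectsIso @IsProper (GIT.psi a x).left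
    (fst X (𝟙_ _)).left, psi_left, MorphismProperty.cancel_left_of_respectsIso @IsProper]

lemma isClosed_range_psi_iff : IsClosed (Set.range (GIT.psi a x).left.base) ↔
    IsClosed (Set.range (a.orbitMap x).left) := by
  have h1 : Set.range (a.orbitMap x).left =
      (fst X (𝟙_ _)).left '' Set.range (GIT.psi a x).left := by
    ext y
    constructor
    · rintro ⟨g, rfl⟩
      obtain ⟨g', rfl⟩ := (fst G (𝟙_ _)).left.surjective g
      refine ⟨_, ⟨g', rfl⟩, ?_⟩
      rw [← Scheme.Hom.comp_apply, psi_left, Scheme.Hom.comp_apply]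
    · rintro ⟨_, ⟨g, rfl⟩, rfl⟩
      refine ⟨(fst G (𝟙_ _)).left g, ?_⟩
      rw [← Scheme.Hom.comp_apply, ← psi_left, Scheme.Hom.comp_apply]
  rw [h1]
  exact ((fst X (𝟙_ _)).left.homeomorph.isClosed_image).symm

end aux

/-- Over an algebraically closed field k, let a group scheme G of finite type act on a scheme X of
finite type and let x be a k-rational point of X. Then the orbit morphism ψ_x : G × Spec k → X ×
Spec k, g ↦ (g · x, pt), is proper if and only if the orbit of x (the image of ψ_x) is closed and
the stabilizer of x (the fibre of ψ_x over (x, pt)) is proper over k. -/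
theorem result (k : Type u) [Field k] [IsAlgClosed k]
    (G X : Over (Spec (CommRingCat.of k))) [GrpObj G] [LocallyOfFiniteType G.hom] [QuasiCompact G.hom]
    [LocallyOfFiniteType X.hom] [QuasiCompact X.hom] (a : AlgGrp.Action G X)
    (x : 𝟙_ (Over (Spec (CommRingCat.of k))) ⟶ X) :
    IsProper (GIT.psi a x).left ↔
      IsClosed (Set.range (GIT.psi a x).left.base) ∧
        IsProper (Limits.pullback.snd (GIT.psi a x).left (lift x (𝟙 (𝟙_ (Over (Spec (CommRingCat.of k)))))).left ≫
          (𝟙_ (Over (Spec (CommRingCat.of k)))).hom) := by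
  rw [isProper_psi_iff, isClosed_range_psi_iff]
  have hunit : (𝟙_ (Over (Spec (CommRingCat.of k)))).hom = 𝟙 _ := rfl
  rw [hunit, Category.comp_id]
  have hS : IsPullback
      (pullback.fst (GIT.psi a x).left (lift x (𝟙 (𝟙_ (Over (Spec (CommRingCat.of k)))))).left ≫
        (fst G (𝟙_ _)).left)
      (pullback.snd (GIT.psi a x).left (lift x (𝟙 (𝟙_ (Over (Spec (CommRingCat.of k)))))).left)
      (a.orbitMap x).left x.left :=
    (IsPullback.of_hasPullback (GIT.psi a x).left
      (lift x (𝟙 (𝟙_ (Over (Spec (CommRingCat.of k)))))).left).of_iso (Iso.refl _)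
      (asIso (fst G (𝟙_ _)).left) (Iso.refl _) (asIso (fst X (𝟙_ _)).left)
      (by simp) (by simp) (psi_left a x)
      (by
        simp only [asIso_hom, Iso.refl_hom, Category.id_comp]
        rw [← Over.comp_left, pt_fst])
  constructor
  · intro hp
    refine ⟨(a.orbitMap x).left.isClosedMap.isClosed_range, ?_⟩
    exact MorphismProperty.of_isPullback (P := @IsProper) hS hp
  · rintro ⟨hcl, hst⟩
    -- the stabilizer as an object over `k`
    let Go : Over (Spec (CommRingCat.of k)) := pullback (a.orbitMap x) x
    let i : Go ⟶ G := pullback.fst (a.orbitMap x) x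
    have hGo : IsPullback i (toUnit Go) (a.orbitMap x) x := by
      have := IsPullback.of_hasPullback (a.orbitMap x) x
      rwa [toUnit_unique (pullback.snd (a.orbitMap x) x) (toUnit Go)] at this
    have hGo' := hGo.map (Over.forget _)
    simp only [Over.forget_obj, Over.forget_map] at hGo'
    have hGoP : IsProper Go.hom := by
      have e : Go.hom = (toUnit Go).left := by
        rw [← Over.w (toUnit Go)]
        exact Category.comp_id _
      rw [e, ← hGo'.isoIsPullback_hom_snd _ _ hS]
      infer_instance
    have hW := (StabPullback.isPullback_fst_mul a x i hGo).map (Over.forget _)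
    simp only [Over.forget_obj, Over.forget_map] at hW
    have hfst : UniversallyClosed (fst G Go).left := by
      show UniversallyClosed (pullback.fst G.hom Go.hom)
      infer_instance
    have huc : UniversallyClosed (a.orbitMap x).left :=
      OrbitFlat.universallyClosed_of_homog G.hom X.hom (a.orbitMap x).left (Over.w _)
        (OrbitAct.homog_orbitMap G X a x) hcl _ _ hW
    have hsepG : IsSeparated G.hom :=
      Groth.Agent.Lib.Helper62.isSeparated_of_isClosedImmersion_unit _ G inferInstance
    have hsep : IsSeparated (a.orbitMap x).left := by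
      have : IsSeparated ((a.orbitMap x).left ≫ X.hom) := by rw [Over.w]; exact hsepG
      exact IsSeparated.of_comp _ X.hom
    have hlft : LocallyOfFiniteType (a.orbitMap x).left := by
      have : LocallyOfFiniteType ((a.orbitMap x).left ≫ X.hom) := by rw [Over.w]; infer_instance
      exact locallyOfFiniteType_of_comp _ X.hom
    exact { }

end Groth.Agent.S11435
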