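import Groth.Statements.S11439
import Mathlib
import Groth.Agent.S11438

set_option autoImplicit false
universe u
open CategoryTheory MonoidalCategory CartesianMonoidalCategory MonObj GrpObj AlgebraicGeometry Topology
open GIT

namespace Groth.Agent.S11439

section helpers
open CategoryTheory MonoidalCategory CartesianMonoidalCategory MonObj GrpObj AlgebraicGeometry Topology
open GIT


section helpers
open CategoryTheory.Limits

/-- flat base change of `H⁰ = κ` along the residue field extension, for fibres of a base change -/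
theorem hfib_bc {S X Y : Scheme.{u}} (p : X ⟶ S) (q : Y ⟶ S) [QuasiCompact p] [QuasiSeparated p]
    (h0 : ∀ s : S, Function.Bijective (pullback.snd p (S.fromSpecResidueField s)).appTop)
    (y : Y) :
    Function.Bijective (algebraMap (Y.residueField y) Γ((pullback.snd p q).fiber y, ⊤)) := by
  have H := isPullback_fiberToSpecResidueField_of_isPullback (IsPullback.of_hasPullback p q) y
  set m := pullback.map (pullback.snd p q) (Y.fromSpecResidueField y) p
    (S.fromSpecResidueField (q y)) (pullback.fst p q) (Spec.map (q.residueFieldMap y)) q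
    (IsPullback.of_hasPullback p q).w.symm (by simp) with hm
  set iY := (pullback.snd p q).fiberToSpecResidueField y with hiY
  set iX := p.fiberToSpecResidueField (q y) with hiX
  set fK := Spec.map (q.residueFieldMap y) with hfK
  haveI : Flat fK := by
    rw [hfK, HasRingHomProperty.Spec_iff (P := @Flat)]
    rw [RingHom.Flat]
    infer_instance
  haveI : CompactSpace (p.fiber (q y)) := inferInstance
  haveI : QuasiSeparatedSpace (p.fiber (q y)) := by
    haveI : QuasiSeparated iX := by
      rw [hiX]
      exact MorphismProperty.pullback_snd (P := @QuasiSeparated) _ _ inferInstance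
    exact quasiSeparatedSpace_of_quasiSeparated iX
  haveI : QuasiSeparatedSpace ↥(pullback p (S.fromSpecResidueField (q y))) :=
    ‹QuasiSeparatedSpace (p.fiber (q y))›
  haveI : CompactSpace ↥(pullback p (S.fromSpecResidueField (q y))) :=
    ‹CompactSpace (p.fiber (q y))›
  have hiso := isIso_pushoutSection_of_isQuasiSeparated_of_flat_right H
    (US := ⊤) (UT := ⊤) (UX := ⊤) (UY := ⊤) le_top le_top (by simp)
    (isAffineOpen_top _) (isAffineOpen_top _) isCompact_univ isQuasiSeparated_univ
  have hpo := (isIso_pushoutSection_iff H (US := ⊤) (UT := ⊤) (UX := ⊤) (UY := ⊤)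
    le_top le_top (by simp)).mp hiso
  have e1 : iX.appLE ⊤ ⊤ le_top = iX.appTop := by
    simp [Scheme.Hom.appLE, Scheme.Hom.appTop]
  have e2 : iY.appLE ⊤ ⊤ (by simp) = iY.appTop := by
    simp [Scheme.Hom.appLE, Scheme.Hom.appTop]
  have hi1 : IsIso (iX.appLE ⊤ ⊤ le_top) := by
    rw [e1]
    exact (ConcreteCategory.isIso_iff_bijective _).2 (h0 (q y))
  have hi : IsIso (iY.appTop) := by
    rw [← e2]
    exact hpo.isIso_inr_of_isIso hi1
  have hb : Function.Bijective (Scheme.ΓSpecIso (Y.residueField y)).inv :=
    ConcreteCategory.bijective_of_isIso _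
  have hb2 : Function.Bijective iY.appTop := ConcreteCategory.bijective_of_isIso _
  exact hb2.comp hb

end helpers

end helpers

/-- Let S be locally Noetherian, G a locally Noetherian group scheme separated over S, X → S proper and
flat with κ(s) → H⁰(X_s, O_{X_s}) bijective for every s, and Y connected, locally Noetherian,
separated over S with a section over S. Then every morphism f : X ×_S Y → G over S factors as f = (g
∘ p₁) · (h ∘ p₂) with g : X → G and h : Y → G. -/
theorem result (S : Scheme.{u}) [IsLocallyNoetherian S]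
    (X Y G : Over S) [GrpObj G] [IsLocallyNoetherian G.left] [IsSeparated G.hom] [IsProper X.hom] [Flat X.hom]
    (h0 : ∀ s : S, Function.Bijective (Limits.pullback.snd X.hom (S.fromSpecResidueField s)).appTop)
    [IsLocallyNoetherian Y.left] [IsSeparated Y.hom] [ConnectedSpace Y.left] (e : 𝟙_ (Over S) ⟶ Y)
    (f : X ⊗ Y ⟶ G) :
    ∃ (g : X ⟶ G) (h : Y ⟶ G), f = (fst X Y ≫ g) * (snd X Y ≫ h) := by
  set g₀ : X ⟶ G := lift (𝟙 X) (toUnit X ≫ e) ≫ f with hg₀
  set F : X ⊗ Y ⟶ G := (fst X Y ≫ g₀)⁻¹ * f with hF
  suffices hh : ∃ h : Y ⟶ G, F = snd X Y ≫ h by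
    obtain ⟨h, hh⟩ := hh
    refine ⟨g₀, h, ?_⟩
    rw [← hh, hF, mul_inv_cancel_left]
  let eL : S ⟶ Y.left := e.left
  have he : eL ≫ Y.hom = 𝟙 S := Over.w e
  obtain ⟨y₀⟩ := (inferInstance : Nonempty Y.left)
  set s : S := Y.hom.base y₀ with hs
  set y : Y.left := eL.base s with hy
  -- the residue field point at `y` factors through the section
  have hψ : ∃ ψ : Spec (Y.left.residueField y) ⟶ S,
      Y.left.fromSpecResidueField y = ψ ≫ eL := by
    have h1 : Spec.map (eL.residueFieldMap s) ≫ Y.left.fromSpecResidueField (eL.base s) =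
        S.fromSpecResidueField s ≫ eL :=
      Scheme.Hom.SpecMap_residueFieldMap_fromSpecResidueField _ _
    have hbij : Function.Bijective (eL.residueFieldMap s) := by
      constructor
      · exact (eL.residueFieldMap s).hom.injective
      · have h2 := Scheme.residueFieldMap_comp eL Y.hom s
        have h3 := Scheme.Hom.residueFieldMap_congr he s
        rw [h2] at h3
        have hiso : IsIso (Y.hom.residueFieldMap (eL.base s) ≫ eL.residueFieldMap s) := by
          have hid : IsIso (Scheme.Hom.residueFieldMap (𝟙 S) s) := by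
            rw [Scheme.residueFieldMap_id]
            exact IsIso.id (S.residueField s)
          rw [h3]
          exact IsIso.comp_isIso' (Iso.isIso_hom _) hid
        have hsj := (ConcreteCategory.bijective_of_isIso
          (Y.hom.residueFieldMap (eL.base s) ≫ eL.residueFieldMap s)).2
        intro b
        obtain ⟨a, ha⟩ := hsj b
        exact ⟨Y.hom.residueFieldMap (eL.base s) a, ha⟩
    haveI : IsIso (eL.residueFieldMap s) := (ConcreteCategory.isIso_iff_bijective _).2 hbij
    refine ⟨inv (Spec.map (eL.residueFieldMap s)) ≫ S.fromSpecResidueField s, ?_⟩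
    rw [Category.assoc, ← h1, IsIso.inv_hom_id_assoc]
  obtain ⟨ψ, hψ⟩ := hψ
  let pY := Limits.pullback.snd X.hom Y.hom
  let pG := Limits.pullback.snd G.hom Y.hom
  let c := pY.fiberToSpecResidueField y
  have hfac : pY.fiberι y ≫ pY = c ≫ Y.left.fromSpecResidueField y := pY.fiber_fac y
  let T : Over S := Over.mk (c ≫ ψ)
  let k : T ⟶ X ⊗ Y := Over.homMk (pY.fiberι y) (by
    change pY.fiberι y ≫ (Limits.pullback.fst X.hom Y.hom ≫ X.hom) = c ≫ ψ
    rw [Limits.pullback.condition, ← Category.assoc]
    change (pY.fiberι y ≫ pY) ≫ Y.hom = c ≫ ψ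
    rw [hfac, hψ, Category.assoc, Category.assoc, he, Category.comp_id])
  have hk2 : k ≫ snd X Y = toUnit T ≫ e := by
    apply Over.OverMorphism.ext
    change pY.fiberι y ≫ pY = (c ≫ ψ) ≫ eL
    rw [hfac, hψ, Category.assoc]
  have hk3 : (k ≫ fst X Y) ≫ lift (𝟙 X) (toUnit X ≫ e) = k := by
    apply CartesianMonoidalCategory.hom_ext
    · rw [Category.assoc, lift_fst, Category.comp_id]
    · rw [Category.assoc, lift_snd, hk2, ← Category.assoc]
      congr 1
      exact toUnit_unique _ _
  have hkF : k ≫ F = 1 := by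
    rw [hF, MonObj.comp_mul, GrpObj.comp_inv, hg₀, ← Category.assoc, ← Category.assoc, hk3,
      inv_mul_cancel]
  have hkF' : pY.fiberι y ≫ F.left = (c ≫ ψ) ≫ (η[G]).left := by
    have := congrArg (fun m => m.left) hkF
    exact this
  have hFw : F.left ≫ G.hom = pY ≫ Y.hom := by
    have h1 : F.left ≫ G.hom = Limits.pullback.fst X.hom Y.hom ≫ X.hom := Over.w F
    rw [h1]
    exact Limits.pullback.condition
  let π : Limits.pullback X.hom Y.hom ⟶ Limits.pullback G.hom Y.hom :=
    Limits.pullback.lift F.left pY hFw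
  have hπ : π ≫ pG = pY := Limits.pullback.lift_snd _ _ _
  have hπ1 : π ≫ Limits.pullback.fst G.hom Y.hom = F.left := Limits.pullback.lift_fst _ _ _
  have hηw : (η[G]).left ≫ G.hom = 𝟙 S := Over.w (η[G])
  have hfib : ∀ y : Y.left, Function.Bijective
      (algebraMap (Y.left.residueField y) Γ(pY.fiber y, ⊤)) :=
    fun y => hfib_bc X.hom Y.hom h0 y
  obtain ⟨σ, hσ1, hσ2⟩ := Groth.Agent.S11438.rigidLN pY hfib pG π hπ y
    ⟨Limits.pullback.lift (ψ ≫ (η[G]).left) (Y.left.fromSpecResidueField y) (by
        rw [Category.assoc, hηw, Category.comp_id, hψ, Category.assoc, he, Category.comp_id]), by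
      apply Limits.pullback.hom_ext
      · rw [Category.assoc, hπ1, Category.assoc, Limits.pullback.lift_fst, hkF', Category.assoc]
      · rw [Category.assoc, Category.assoc, Limits.pullback.lift_snd, Limits.pullback.lift_snd]
        exact hfac⟩
  let h : Y ⟶ G := Over.homMk (σ ≫ Limits.pullback.fst G.hom Y.hom) (by
    change (σ ≫ Limits.pullback.fst G.hom Y.hom) ≫ G.hom = Y.hom
    rw [Category.assoc, Limits.pullback.condition, ← Category.assoc]
    change (σ ≫ pG) ≫ Y.hom = Y.hom
    rw [hσ1, Category.id_comp])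
  refine ⟨h, ?_⟩
  apply Over.OverMorphism.ext
  change F.left = pY ≫ σ ≫ Limits.pullback.fst G.hom Y.hom
  rw [← hπ1, hσ2, Category.assoc]

end Groth.Agent.S11439
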