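import Groth.Statements.S11440
import Mathlib
import Groth.Agent.S11439
import Groth.Agent.Lib.Helper59.AbSchPow
import Groth.Agent.Lib.Helper78.GeomConnBase
import Groth.Agent.Lib.Helper51.H0Const

set_option autoImplicit false
universe u
open CategoryTheory MonoidalCategory CartesianMonoidalCategory MonObj GrpObj AlgebraicGeometry Topology
open GIT

namespace Groth.Agent.S11440

section helpers
open CategoryTheory MonoidalCategory CartesianMonoidalCategory MonObj GrpObj AlgebraicGeometry Topology
open GIT


section helpers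
open CategoryTheory CategoryTheory.Limits AlgebraicGeometry
open AbSch
open Groth.Agent.S15364 Groth.Agent.S14141

theorem auxMainCl {X Y S : Scheme.{u}} [IsLocallyNoetherian S]
    (f : X ⟶ S) [IsProper f] [Flat f]
    (hfib : ∀ s : ↥S, Function.Bijective (algebraMap (S.residueField s) Γ(f.fiber s, ⊤)))
    (g : Y ⟶ S) [IsSeparated g] (π : X ⟶ Y) (hπ : π ≫ g = f) 
    (hcl : ∀ A : Set ↥S, IsClopen A → (∀ s : ↥S, (∃ y : Spec (S.residueField s) ⟶ Y,
      f.fiberι s ≫ π = f.fiberToSpecResidueField s ≫ y) → s ∈ A) → A = Set.univ) :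
    pullback.fst f f ≫ π = pullback.snd f f ≫ π := by
  set p1 := pullback.fst f f with hp1
  set p2 := pullback.snd f f with hp2
  have hp12 : p1 ≫ f = p2 ≫ f := pullback.condition
  set pW := p1 ≫ f with hpW
  haveI : IsLocallyNoetherian (pullback f f) := LocallyOfFiniteType.isLocallyNoetherian pW
  let Wo : Over S := Over.mk pW
  let Yo : Over S := Over.mk g
  haveI : IsSeparated Yo.hom := ‹IsSeparated g›
  let α : Wo ⟶ Yo := Over.homMk (p1 ≫ π) (by
    change (p1 ≫ π) ≫ g = pW
    rw [Category.assoc, hπ])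
  let β : Wo ⟶ Yo := Over.homMk (p2 ≫ π) (by
    change (p2 ≫ π) ≫ g = pW
    rw [Category.assoc, hπ]
    exact hp12.symm)
  let ιe := (equalizer.ι α β).left
  haveI : IsClosedImmersion ιe := inferInstance
  have hιeq : ιe ≫ p1 ≫ π = ιe ≫ p2 ≫ π := by
    have := congrArg (fun f => f.left) (equalizer.condition α β)
    exact this
  have hlift : ∀ {P : Scheme.{u}} (k : P ⟶ pullback f f), k ≫ p1 ≫ π = k ≫ p2 ≫ π →
      ∃ l : P ⟶ (equalizer α β).left, l ≫ ιe = k := by
    intro P k hk
    let ko : Over.mk (k ≫ pW) ⟶ Wo := Over.homMk k rfl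
    have hko : ko ≫ α = ko ≫ β := by
      apply Over.OverMorphism.ext
      exact hk
    exact ⟨(equalizer.lift ko hko).left, congrArg (fun f => f.left) (equalizer.lift_ι ko hko)⟩
  have hsub : ιe.ker.subschemeι ≫ p1 ≫ π = ιe.ker.subschemeι ≫ p2 ≫ π := by
    have h1 : ιe.toImage ≫ ιe.ker.subschemeι = ιe := ιe.toImage_imageι
    have h1' : ∀ {Z : Scheme.{u}} (h : pullback f f ⟶ Z),
        ιe.toImage ≫ ιe.ker.subschemeι ≫ h = ιe ≫ h := fun h => by rw [← Category.assoc, h1]
    rw [← cancel_epi ιe.toImage, h1', h1']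
    exact hιeq
  let A : Set S := {t | ∀ w : ↥(pullback f f), pW.base w = t → w ∈ Set.range ιe.base}
  have hAB : ∀ t ∈ A, ∃ U : (pullback f f).Opens, (∀ w, pW.base w = t → w ∈ U) ∧
      U.ι ≫ p1 ≫ π = U.ι ≫ p2 ≫ π := by
    intro t ht
    by_cases hne : ∃ x0 : X, f.base x0 = t
    · obtain ⟨x0, hx0⟩ := hne
      have hy0 : ∀ x : X, f.base x = t → π.base x = π.base x0 := by
        intro x hx
        obtain ⟨w, hw1, hw2⟩ := Scheme.Pullback.exists_preimage_pullback (f := f) (g := f) x x0
          (hx.trans hx0.symm)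
        have hwt : pW.base w = t := by
          change f.base (p1.base w) = t
          rw [hw1, hx]
        obtain ⟨z, hz⟩ := ht w hwt
        have := congrArg (fun g => g.base z) hιeq
        simp only [Scheme.Hom.comp_base, TopCat.comp_app] at this
        rw [hz, hw1, hw2] at this
        exact this
      obtain ⟨U, hU, g', hg'⟩ := Groth.Agent.S18384.result pW t ιe.ker (fun n => by
        let u1 : pullback pW (τ S t n) ⟶ pullback f (τ S t n) :=
          pullback.lift (pullback.fst pW (τ S t n) ≫ p1) (pullback.snd pW (τ S t n)) (by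
            rw [Category.assoc]
            exact pullback.condition)
        let u2 : pullback pW (τ S t n) ⟶ pullback f (τ S t n) :=
          pullback.lift (pullback.fst pW (τ S t n) ≫ p2) (pullback.snd pW (τ S t n)) (by
            rw [Category.assoc, ← hp12]
            exact pullback.condition)
        have hu : u1 ≫ pullback.snd f (τ S t n) = u2 ≫ pullback.snd f (τ S t n) := by
          rw [pullback.lift_snd, pullback.lift_snd]
        have h1 := inf_eq' f t (hfib t) π (π.base x0) hy0 n u1 u2 hu
        rw [← Category.assoc, ← Category.assoc, pullback.lift_fst, pullback.lift_fst,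
          Category.assoc, Category.assoc] at h1
        obtain ⟨l, hl⟩ := hlift (pullback.fst pW (τ S t n)) h1
        refine ⟨l ≫ ιe.toImage, ?_⟩
        have h2 : ιe.toImage ≫ ιe.ker.subschemeι = ιe := ιe.toImage_imageι
        rw [Category.assoc, h2]
        exact hl)
      exact ⟨U, hU, by rw [← hg', Category.assoc, Category.assoc, hsub]⟩
    · refine ⟨⊥, fun w hw => absurd ⟨p1.base w, hw⟩ hne, ?_⟩
      haveI : IsEmpty ↥((⊥ : (pullback f f).Opens) : Scheme.{u}) := ⟨fun x => x.2⟩
      exact (isInitialOfIsEmpty).hom_ext _ _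
  have hAopen : IsOpen A := by
    rw [isOpen_iff_forall_mem_open]
    intro t ht
    obtain ⟨U, hU, hUeq⟩ := hAB t ht
    refine ⟨(pW.base '' ((U : Set ↥(pullback f f))ᶜ))ᶜ, ?_, ?_, ?_⟩
    · intro t' ht' w hw
      have hwU : w ∈ U := by
        by_contra hc
        exact ht' ⟨w, hc, hw⟩
      obtain ⟨l, hl⟩ := hlift U.ι hUeq
      refine ⟨l.base ⟨w, hwU⟩, ?_⟩
      have := congrArg (fun g => g.base ⟨w, hwU⟩) hl
      simp only [Scheme.Hom.comp_base, TopCat.comp_app] at this
      rw [this]
      rfl
    · exact (pW.isClosedMap _ U.2.isClosed_compl).isOpen_compl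
    · rintro ⟨w, hwc, hw⟩
      exact hwc (hU w hw)
  have hAclosed : IsClosed A := by
    have : Aᶜ = pW.base '' (Set.range ιe.base)ᶜ := by
      ext t
      simp only [A, Set.mem_compl_iff, Set.mem_setOf_eq, Set.mem_image]
      push_neg
      constructor
      · rintro ⟨w, hw, hwn⟩
        exact ⟨w, hwn, hw⟩
      · rintro ⟨w, hwn, hw⟩
        exact ⟨w, hw, hwn⟩
    rw [← isOpen_compl_iff, this]
    exact pW.isOpenMap _ ιe.isClosedEmbedding.isClosed_range.isOpen_compl
  have hAs : ∀ s : ↥S, (∃ y : Spec (S.residueField s) ⟶ Y,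
      f.fiberι s ≫ π = f.fiberToSpecResidueField s ≫ y) → s ∈ A := by
    intro s hs
    obtain ⟨y, hy⟩ := hs
    intro w hw
    subst hw
    let zw := (pullback f f).fromSpecResidueField w
    let ρw : Spec ((pullback f f).residueField w) ⟶ Spec (S.residueField (pW.base w)) :=
      Spec.map (pW.residueFieldMap w)
    have hρ : ρw ≫ S.fromSpecResidueField (pW.base w) = zw ≫ pW :=
      Scheme.Hom.SpecMap_residueFieldMap_fromSpecResidueField pW w
    have key : ∀ (pi : pullback f f ⟶ X), pi ≫ f = pW → zw ≫ pi ≫ π = ρw ≫ y := by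
      intro pi hpi
      let l : Spec ((pullback f f).residueField w) ⟶ f.fiber (pW.base w) :=
        pullback.lift (zw ≫ pi) ρw (by rw [Category.assoc, hpi, hρ])
      have hl1 : l ≫ f.fiberι _ = zw ≫ pi := pullback.lift_fst _ _ _
      have hl2 : l ≫ f.fiberToSpecResidueField _ = ρw := pullback.lift_snd _ _ _
      rw [← Category.assoc, ← hl1, Category.assoc, hy, ← Category.assoc, hl2]
    have h12 : zw ≫ p1 ≫ π = zw ≫ p2 ≫ π := (key p1 rfl).trans (key p2 hp12.symm).symm
    obtain ⟨l, hl⟩ := hlift zw h12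
    have hpt : Nonempty (Spec ((pullback f f).residueField w)) := inferInstance
    obtain ⟨pt⟩ := hpt
    refine ⟨l.base pt, ?_⟩
    have := congrArg (fun g => g.base pt) hl
    simp only [Scheme.Hom.comp_base, TopCat.comp_app] at this
    rw [this]
    exact Scheme.fromSpecResidueField_apply _ _
  have hAuniv : A = Set.univ := hcl A ⟨hAclosed, hAopen⟩ hAs
  have hall : ∀ t : S, ∃ U : (pullback f f).Opens, (∀ w, pW.base w = t → w ∈ U) ∧
      U.ι ≫ p1 ≫ π = U.ι ≫ p2 ≫ π := fun t => hAB t (hAuniv ▸ Set.mem_univ t)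
  choose U hU hUeq using hall
  have hcov : TopologicalSpace.IsOpenCover (fun w : ↥(pullback f f) => U (pW.base w)) :=
    TopologicalSpace.IsOpenCover.mk
      (eq_top_iff.2 fun w _ => TopologicalSpace.Opens.mem_iSup.2 ⟨w, hU _ w rfl⟩)
  refine ((pullback f f).openCoverOfIsOpenCover _ hcov).hom_ext _ _ fun w => ?_
  exact hUeq (pW.base w)

theorem rigidCl {X Y S : Scheme.{u}} [IsLocallyNoetherian S]
    (f : X ⟶ S) [IsProper f] [Flat f]
    (hfib : ∀ s : ↥S, Function.Bijective (algebraMap (S.residueField s) Γ(f.fiber s, ⊤)))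
    (g : Y ⟶ S) [IsSeparated g] (π : X ⟶ Y) (hπ : π ≫ g = f) 
    (hcl : ∀ A : Set ↥S, IsClopen A → (∀ s : ↥S, (∃ y : Spec (S.residueField s) ⟶ Y,
      f.fiberι s ≫ π = f.fiberToSpecResidueField s ≫ y) → s ∈ A) → A = Set.univ) :
    ∃ σ : S ⟶ Y, σ ≫ g = 𝟙 S ∧ π = f ≫ σ := by
  have h12 := auxMainCl f hfib g π hπ hcl
  -- surjectivity of f
  haveI : Surjective f := by
    constructor
    intro t
    by_contra hne
    haveI : IsEmpty ↥(f.fiber t) := by
      constructor
      intro x
      apply hne
      refine ⟨(f.fiberι t).base x, ?_⟩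
      have := congrArg (fun g => g.base x) (pullback.condition (f := f) (g := S.fromSpecResidueField t))
      simp only [Scheme.Hom.comp_base, TopCat.comp_app] at this
      change f.base ((pullback.fst f (S.fromSpecResidueField t)).base x) = t
      rw [this]
      exact Scheme.fromSpecResidueField_apply _ _
    have h01 : (0 : Γ(f.fiber t, ⊤)) = 1 := by
      apply (f.fiber t).IsSheaf.section_ext
      intro x hx
      exact (IsEmpty.false x).elim
    have h2 : algebraMap (S.residueField t) Γ(f.fiber t, ⊤) (0 : S.residueField t) =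
        algebraMap (S.residueField t) Γ(f.fiber t, ⊤) (1 : S.residueField t) := by
      rw [map_zero, map_one, h01]
    exact zero_ne_one ((hfib t).1 h2)
  haveI : EffectiveEpi f := inferInstance
  let σ : S ⟶ Y := EffectiveEpi.desc f π (fun {Z} g₁ g₂ h => by
    have h1 : g₁ = pullback.lift g₁ g₂ h ≫ pullback.fst f f := (pullback.lift_fst _ _ _).symm
    have h2 : g₂ = pullback.lift g₁ g₂ h ≫ pullback.snd f f := (pullback.lift_snd _ _ _).symm
    rw [h1, Category.assoc, h12, ← Category.assoc, ← h2])
  have hσ : f ≫ σ = π := EffectiveEpi.fac f π _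
  refine ⟨σ, ?_, hσ.symm⟩
  haveI : Epi f := inferInstance
  rw [← cancel_epi f, ← Category.assoc, hσ, hπ, Category.comp_id]

end helpers

section grp
open CategoryTheory.Limits

/-- rigidity for group-valued maps on a product: `F(x, e) = 1` forces `F = h ∘ p₂`. -/
theorem rigid_grp (S : Scheme.{u}) [IsLocallyNoetherian S]
    (X Y G : Over S) [GrpObj G] [IsSeparated G.hom] [IsProper X.hom] [Flat X.hom]
    (h0 : ∀ s : S, Function.Bijective (Limits.pullback.snd X.hom (S.fromSpecResidueField s)).appTop)
    [IsLocallyNoetherian Y.left] (e : 𝟙_ (Over S) ⟶ Y)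
    (hYcl : ∀ A : Set ↥Y.left, IsClopen A → (∀ s : S, (e.left : S ⟶ Y.left).base s ∈ A) →
      A = Set.univ)
    (F : X ⊗ Y ⟶ G) (hF1 : lift (𝟙 X) (toUnit X ≫ e) ≫ F = 1) :
    ∃ h : Y ⟶ G, F = snd X Y ≫ h := by
  let eL : S ⟶ Y.left := e.left
  have he : eL ≫ Y.hom = 𝟙 S := Over.w e
  let pY := Limits.pullback.snd X.hom Y.hom
  let pG := Limits.pullback.snd G.hom Y.hom
  have hFw : F.left ≫ G.hom = pY ≫ Y.hom := by
    have h1 : F.left ≫ G.hom = Limits.pullback.fst X.hom Y.hom ≫ X.hom := Over.w F
    rw [h1]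
    exact Limits.pullback.condition
  let π : Limits.pullback X.hom Y.hom ⟶ Limits.pullback G.hom Y.hom :=
    Limits.pullback.lift F.left pY hFw
  have hπ : π ≫ pG = pY := Limits.pullback.lift_snd _ _ _
  have hπ1 : π ≫ Limits.pullback.fst G.hom Y.hom = F.left := Limits.pullback.lift_fst _ _ _
  have hηw : (η[G]).left ≫ G.hom = 𝟙 S := Over.w (η[G])
  have hfib : ∀ y : Y.left, Function.Bijective
      (algebraMap (Y.left.residueField y) Γ(pY.fiber y, ⊤)) :=
    fun y => Groth.Agent.S11439.hfib_bc X.hom Y.hom h0 y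
  have hgood : ∀ s : S, ∃ y₁ : Spec (Y.left.residueField (eL.base s)) ⟶ Limits.pullback G.hom Y.hom,
      pY.fiberι (eL.base s) ≫ π = pY.fiberToSpecResidueField (eL.base s) ≫ y₁ := by
    intro s
    set y : Y.left := eL.base s with hy
    have hψ : ∃ ψ : Spec (Y.left.residueField y) ⟶ S,
        Y.left.fromSpecResidueField y = ψ ≫ eL := by
      have h1 : Spec.map (eL.residueFieldMap s) ≫ Y.left.fromSpecResidueField (eL.base s) =
          S.fromSpecResidueField s ≫ eL :=
        Scheme.Hom.SpecMap_residueFieldMap_fromSpecResidueField _ _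
      have hbij : Function.Bijective (eL.residueFieldMap s) := by
        constructor
        · exact (eL.residueFieldMap s).hom.injective
        · have h2 := Scheme.residueFieldMap_comp eL Y.hom s
          have h3 := Scheme.Hom.residueFieldMap_congr he s
          rw [h2] at h3
          have hiso : IsIso (Y.hom.residueFieldMap (eL.base s) ≫ eL.residueFieldMap s) := by
            have hid : IsIso (Scheme.Hom.residueFieldMap (𝟙 S) s) := by
              rw [Scheme.residueFieldMap_id]
              exact IsIso.id (S.residueField s)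
            rw [h3]
            exact IsIso.comp_isIso' (Iso.isIso_hom _) hid
          have hsj := (ConcreteCategory.bijective_of_isIso
            (Y.hom.residueFieldMap (eL.base s) ≫ eL.residueFieldMap s)).2
          intro b
          obtain ⟨a, ha⟩ := hsj b
          exact ⟨Y.hom.residueFieldMap (eL.base s) a, ha⟩
      haveI : IsIso (eL.residueFieldMap s) := (ConcreteCategory.isIso_iff_bijective _).2 hbij
      refine ⟨inv (Spec.map (eL.residueFieldMap s)) ≫ S.fromSpecResidueField s, ?_⟩
      rw [Category.assoc, ← h1, IsIso.inv_hom_id_assoc]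
    obtain ⟨ψ, hψ⟩ := hψ
    let c := pY.fiberToSpecResidueField y
    have hfac : pY.fiberι y ≫ pY = c ≫ Y.left.fromSpecResidueField y := pY.fiber_fac y
    let T : Over S := Over.mk (c ≫ ψ)
    let k : T ⟶ X ⊗ Y := Over.homMk (pY.fiberι y) (by
      change pY.fiberι y ≫ (Limits.pullback.fst X.hom Y.hom ≫ X.hom) = c ≫ ψ
      rw [Limits.pullback.condition, ← Category.assoc]
      change (pY.fiberι y ≫ pY) ≫ Y.hom = c ≫ ψ
      rw [hfac, hψ, Category.assoc, Category.assoc, he, Category.comp_id])
    have hk2 : k ≫ snd X Y = toUnit T ≫ e := by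
      apply Over.OverMorphism.ext
      change pY.fiberι y ≫ pY = (c ≫ ψ) ≫ eL
      rw [hfac, hψ, Category.assoc]
    have hk3 : (k ≫ fst X Y) ≫ lift (𝟙 X) (toUnit X ≫ e) = k := by
      apply CartesianMonoidalCategory.hom_ext
      · rw [Category.assoc, lift_fst, Category.comp_id]
      · rw [Category.assoc, lift_snd, hk2, ← Category.assoc]
        congr 1
        exact toUnit_unique _ _
    have hkF : k ≫ F = 1 := by
      rw [← hk3, Category.assoc, hF1, MonObj.comp_one]
    have hkF' : pY.fiberι y ≫ F.left = (c ≫ ψ) ≫ (η[G]).left := by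
      have := congrArg (fun m => m.left) hkF
      exact this
    refine ⟨Limits.pullback.lift (ψ ≫ (η[G]).left) (Y.left.fromSpecResidueField y) (by
        rw [Category.assoc, hηw, Category.comp_id, hψ, Category.assoc, he, Category.comp_id]), ?_⟩
    apply Limits.pullback.hom_ext
    · rw [Category.assoc, hπ1, Category.assoc, Limits.pullback.lift_fst, hkF', Category.assoc]
    · rw [Category.assoc, Category.assoc, Limits.pullback.lift_snd, Limits.pullback.lift_snd]
      exact hfac
  obtain ⟨σ, hσ1, hσ2⟩ := rigidCl pY hfib pG π hπ (by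
    intro A hA hgA
    exact hYcl A hA (fun s => hgA _ (hgood s)))
  let h : Y ⟶ G := Over.homMk (σ ≫ Limits.pullback.fst G.hom Y.hom) (by
    change (σ ≫ Limits.pullback.fst G.hom Y.hom) ≫ G.hom = Y.hom
    rw [Category.assoc, Limits.pullback.condition, ← Category.assoc]
    change (σ ≫ pG) ≫ Y.hom = Y.hom
    rw [hσ1, Category.id_comp])
  refine ⟨h, ?_⟩
  apply Over.OverMorphism.ext
  change F.left = pY ≫ σ ≫ Limits.pullback.fst G.hom Y.hom
  rw [← hπ1, hσ2, Category.assoc]

/-- connectedness of the fibre from connectedness of the geometric fibre -/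
theorem conn_fibre {S : Scheme.{u}} (X : Over S) (s : S)
    (hc : ConnectedSpace (Red.geomFibre s X).left) : ConnectedSpace (X.hom.fiber s) := by
  let m : (Red.geomFibre s X).left ⟶ X.hom.fiber s :=
    Limits.pullback.lift (Limits.pullback.fst X.hom (Red.geomPt s))
      (Limits.pullback.snd X.hom (Red.geomPt s) ≫
        Spec.map (CommRingCat.ofHom (algebraMap (S.residueField s)
          (AlgebraicClosure (S.residueField s)))))
      (by rw [Category.assoc]; exact Limits.pullback.condition)
  have hm1 : m ≫ X.hom.fiberι s = Limits.pullback.fst X.hom (Red.geomPt s) :=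
    Limits.pullback.lift_fst _ _ _
  have hsurj : Function.Surjective m.base := by
    intro x
    let pt : Spec (CommRingCat.of (AlgebraicClosure (S.residueField s))) :=
      IsLocalRing.closedPoint _
    have hpt : (Red.geomPt s).base pt = s := by
      change (Spec.map _ ≫ S.fromSpecResidueField s).base pt = s
      rw [Scheme.Hom.comp_base, TopCat.comp_app]
      exact Scheme.fromSpecResidueField_apply _ _
    have hx : X.hom.base ((X.hom.fiberι s).base x) = s := by
      have := congrArg (fun g => g.base x) (X.hom.fiber_fac s)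
      simp only [Scheme.Hom.comp_base, TopCat.comp_app] at this
      rw [this]
      exact Scheme.fromSpecResidueField_apply _ _
    obtain ⟨w, hw1, hw2⟩ := Scheme.Pullback.exists_preimage_pullback (f := X.hom)
      (g := Red.geomPt s) ((X.hom.fiberι s).base x) pt (hx.trans hpt.symm)
    refine ⟨w, ?_⟩
    apply (X.hom.fiberι s).isEmbedding.injective
    have := congrArg (fun g => g.base w) hm1
    simp only [Scheme.Hom.comp_base, TopCat.comp_app] at this
    rw [this]
    exact hw1
  exact hsurj.connectedSpace m.continuous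

end grp

end helpers

/-- Let S be Noetherian, X an abelian scheme over S (smooth proper group scheme with connected geometric
fibres), G any locally Noetherian group scheme separated over S, and f : X → G a morphism over S
carrying the unit of X to the unit of G. Then f is a homomorphism. -/
theorem result (S : Scheme.{u}) [IsNoetherian S]
    (X G : Over S) [GrpObj X] [GrpObj G] [Smooth X.hom] [IsProper X.hom]
    (hc : ∀ s : S, ConnectedSpace (Red.geomFibre s X).left)
    [IsLocallyNoetherian G.left] [IsSeparated G.hom] (f : X ⟶ G) (hf : η[X] ≫ f = η[G]) :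
    IsMonHom f := by
  have hconn : ∀ s : S, ConnectedSpace (X.hom.fiber s) := fun s => conn_fibre X s (hc s)
  haveI : GeometricallyConnected X.hom :=
    Groth.Agent.Lib.Helper78.GeomConn.geometricallyConnected_of_grpObj X hconn
  haveI : Flat X.hom := inferInstance
  haveI : IsLocallyNoetherian X.left := LocallyOfFiniteType.isLocallyNoetherian X.hom
  have h0 : ∀ s : S, Function.Bijective
      (Limits.pullback.snd X.hom (S.fromSpecResidueField s)).appTop := by
    intro s
    let q : Limits.pullback X.hom (S.fromSpecResidueField s) ⟶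
        Spec (CommRingCat.of ↑(S.residueField s)) :=
      Limits.pullback.snd X.hom (S.fromSpecResidueField s)
    haveI : IsProper q :=
      inferInstanceAs (IsProper (Limits.pullback.snd X.hom (S.fromSpecResidueField s)))
    haveI : Smooth q :=
      inferInstanceAs (Smooth (Limits.pullback.snd X.hom (S.fromSpecResidueField s)))
    haveI : GeometricallyReduced q :=
      Groth.Agent.Lib.Helper59.AbSchPow.geometricallyReduced_of_smooth q
    haveI : GeometricallyConnected q :=
      inferInstanceAs (GeometricallyConnected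
        (Limits.pullback.snd X.hom (S.fromSpecResidueField s)))
    have hb := Groth.Agent.Lib.Helper51.bijective_toGlobal q
    have hinv : Function.Bijective (Scheme.ΓSpecIso (CommRingCat.of ↑(S.residueField s))).inv :=
      ConcreteCategory.bijective_of_isIso _
    exact (Function.Bijective.of_comp_iff _ hinv).1 hb
  have hYcl : ∀ A : Set ↥X.left, IsClopen A →
      (∀ s : S, ((η[X]).left : S ⟶ X.left).base s ∈ A) → A = Set.univ := by
    intro A hA hAe
    rw [Set.eq_univ_iff_forall]
    intro x
    set s := X.hom.base x with hs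
    haveI := hconn s
    let B : Set (X.hom.fiber s) := (X.hom.fiberι s).base ⁻¹' A
    have hB : IsClopen B := hA.preimage (X.hom.fiberι s).continuous
    have hr : Set.range (X.hom.fiberι s).base = X.hom.base ⁻¹' {s} := X.hom.range_fiberι s
    have hηw : (η[X]).left ≫ X.hom = 𝟙 S := Over.w (η[X])
    have he_mem : ((η[X]).left : S ⟶ X.left).base s ∈ Set.range (X.hom.fiberι s).base := by
      rw [hr]
      change X.hom.base (((η[X]).left : S ⟶ X.left).base s) = s
      have := congrArg (fun g => g.base s) hηw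
      simp only [Scheme.Hom.comp_base, TopCat.comp_app] at this
      exact this
    obtain ⟨z, hz⟩ := he_mem
    have hBne : B.Nonempty := ⟨z, by
      change (X.hom.fiberι s).base z ∈ A
      rw [hz]
      exact hAe s⟩
    have hBuniv : B = Set.univ := IsClopen.eq_univ hB hBne
    have hx_mem : x ∈ Set.range (X.hom.fiberι s).base := by
      rw [hr]
      rfl
    obtain ⟨z', hz'⟩ := hx_mem
    have hz'B : z' ∈ B := hBuniv ▸ Set.mem_univ z'
    rw [← hz']
    exact hz'B
  set Φ : X ⊗ X ⟶ G := (μ[X] ≫ f) * (snd X X ≫ f)⁻¹ * (fst X X ≫ f)⁻¹ with hΦ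
  have hone : ∀ {T : Over S} (t : T ⟶ 𝟙_ (Over S)), t ≫ η[X] ≫ f = 1 := by
    intro T t
    rw [hf, Hom.one_def]
    congr 1
    exact toUnit_unique _ _
  have hΦ1 : lift (𝟙 X) (toUnit X ≫ η[X]) ≫ Φ = 1 := by
    have e1 : lift (𝟙 X) (toUnit X ≫ η[X]) ≫ μ[X] ≫ f = f := by
      rw [← Category.assoc, MonObj.lift_comp_one_right, Category.id_comp]
    have e2 : lift (𝟙 X) (toUnit X ≫ η[X]) ≫ snd X X ≫ f = 1 := by
      rw [← Category.assoc, lift_snd, Category.assoc, hone]
    have e3 : lift (𝟙 X) (toUnit X ≫ η[X]) ≫ fst X X ≫ f = f := by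
      rw [← Category.assoc, lift_fst, Category.id_comp]
    rw [hΦ, MonObj.comp_mul, MonObj.comp_mul, GrpObj.comp_inv, GrpObj.comp_inv, e1, e2, e3]
    group
  obtain ⟨h, hh⟩ := rigid_grp S X X G h0 η[X] hYcl Φ hΦ1
  have hh1 : h = 1 := by
    have h2 : lift (toUnit X ≫ η[X]) (𝟙 X) ≫ Φ = h := by
      rw [hh, ← Category.assoc, lift_snd, Category.id_comp]
    have e1 : lift (toUnit X ≫ η[X]) (𝟙 X) ≫ μ[X] ≫ f = f := by
      rw [← Category.assoc, MonObj.lift_comp_one_left, Category.id_comp]
    have e2 : lift (toUnit X ≫ η[X]) (𝟙 X) ≫ snd X X ≫ f = f := by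
      rw [← Category.assoc, lift_snd, Category.id_comp]
    have e3 : lift (toUnit X ≫ η[X]) (𝟙 X) ≫ fst X X ≫ f = 1 := by
      rw [← Category.assoc, lift_fst, Category.assoc, hone]
    rw [← h2, hΦ, MonObj.comp_mul, MonObj.comp_mul, GrpObj.comp_inv, GrpObj.comp_inv, e1, e2, e3]
    group
  have hΦeq : Φ = 1 := by
    rw [hh, hh1, MonObj.comp_one]
  have hmul : μ[X] ≫ f = (fst X X ≫ f) * (snd X X ≫ f) := by
    have h3 : (μ[X] ≫ f) * (snd X X ≫ f)⁻¹ * (fst X X ≫ f)⁻¹ = 1 := hΦeq
    calc μ[X] ≫ f = ((μ[X] ≫ f) * (snd X X ≫ f)⁻¹ * (fst X X ≫ f)⁻¹) * (fst X X ≫ f) *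
          (snd X X ≫ f) := by group
      _ = (fst X X ≫ f) * (snd X X ≫ f) := by rw [h3, _root_.one_mul]
  refine ⟨hf, ?_⟩
  rw [hmul, Hom.mul_def, lift_fst_comp_snd_comp]

end Groth.Agent.S11440
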