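import Mathlib
-- Template for statement S11449 (row 11448; see the milestone table for weights).
-- Copy to Groth/Agent/S11449.lean and replace the sorry. The statement below is byte-identical to the frozen
-- statement DefT.GrothFrozen.S11449 (Groth/Statements/S11449.lean; the theorem DefT.exists_matrix_maximalMinors_resolution_of_isCohenMacaulayLocalRing_codim_two);
-- the grader kernel-checks Groth.Agent.S11449.result against that frozen type. Keep the theorem IN THIS FILE
-- (a `result` declared elsewhere and merely imported here is not credited); helpers may live anywhere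
-- under Groth/Agent/.
import Groth.Statements.S11449
import Groth.Agent.Lib.Helper71.HilbertBurch
import Groth.Agent.Lib.Helper77.RegularAB
import Groth.Agent.Lib.Helper64.DepthQuot
import Groth.Agent.Lib.Helper68.TorMod

set_option autoImplicit false
universe u
section Helpers
open CategoryTheory LocCoh IsLocalRing
namespace Groth.Agent.S11449
open Groth.Agent.Lib.Helper68

theorem pd_quot_lt_three (A : Type u) [CommRing A] [IsRegularLocalRing A] (I : Ideal A)
    [LocCoh.IsCohenMacaulayLocalRing (A ⧸ I)]
    (hcodim : ringKrullDim (A ⧸ I) + 2 = ringKrullDim A) :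
    HasProjectiveDimensionLT (ModuleCat.of A (A ⧸ I)) 3 := by
  obtain ⟨e, he, hdim⟩ := Groth.Agent.Lib.Helper77.RegularAB.exists_pd_add_depth_eq_dim A (A ⧸ I)
  have h1 : depth A (A ⧸ I) = depth (A ⧸ I) (A ⧸ I) :=
    (Groth.Agent.Lib.Helper64.DepthQuot.depth_quotient A I).symm
  have h2 := IsCohenMacaulayLocalRing.supportDim_eq_depth (R := A ⧸ I)
  rw [Module.supportDim_self_eq_ringKrullDim] at h2
  rw [h1] at hdim
  rw [h2, hdim] at hcodim
  generalize depth (A ⧸ I) (A ⧸ I) = d at hcodim hdim
  have hd : d ≠ ⊤ := by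
    rintro rfl
    have : ringKrullDim A ≠ ⊤ := ringKrullDim_ne_top
    apply this
    rw [hdim]; simp
  lift d to ℕ using hd
  have : (((d + 2 : ℕ) : ℕ∞) : WithBot ℕ∞) = (((e + d : ℕ) : ℕ∞) : WithBot ℕ∞) := by
    push_cast
    exact hcodim
  have h3 : d + 2 = e + d := by exact_mod_cast this
  have h4 : e = 2 := by omega
  subst h4
  rw [← projectiveDimension_lt_iff, he]
  exact_mod_cast (by norm_num : (2 : ℕ) < 3)


/-- kernel of a presentation of `I` is projective when `pd (A/I) < 3` -/
theorem projective_ker (A : Type u) [CommRing A] (I : Ideal A)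
    (h3 : HasProjectiveDimensionLT (ModuleCat.of A (A ⧸ I)) 3)
    {P : Type u} [AddCommGroup P] [Module A P] [Module.Projective A P] (p : P →ₗ[A] A)
    (hp : LinearMap.range p = I) :
    Module.Projective A (LinearMap.ker p) := by
  have hS1 := TorMod.sc_shortExact (I.subtype) (I.mkQ) (LinearMap.exact_subtype_mkQ I)
    (Submodule.subtype_injective _) (Submodule.mkQ_surjective _)
  have hA : HasProjectiveDimensionLT (ModuleCat.of A A) 2 := by
    have : HasProjectiveDimensionLT (ModuleCat.of A A) 1 := by
      rw [← projective_iff_hasProjectiveDimensionLT_one]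
      exact (IsProjective.iff_projective _).mp inferInstance
    exact hasProjectiveDimensionLT_of_ge _ 1 2 (by omega)
  have hI : HasProjectiveDimensionLT (ModuleCat.of A I) 2 :=
    hS1.hasProjectiveDimensionLT_X₁ 2 hA h3
  let p' : P →ₗ[A] I := p.codRestrict I (fun x => hp ▸ LinearMap.mem_range_self p x)
  have hp' : Function.Surjective p' := by
    rintro ⟨y, hy⟩
    rw [← hp] at hy
    obtain ⟨x, rfl⟩ := hy
    exact ⟨x, rfl⟩
  have hker : LinearMap.ker p' = LinearMap.ker p := LinearMap.ker_codRestrict _ _ _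
  have hS2 := TorMod.sc_shortExact (LinearMap.ker p').subtype p' (LinearMap.exact_subtype_ker_map p')
    (Submodule.subtype_injective _) hp'
  have hP : HasProjectiveDimensionLT (ModuleCat.of A P) 1 := by
    rw [← projective_iff_hasProjectiveDimensionLT_one]
    exact (IsProjective.iff_projective _).mp inferInstance
  have hK : HasProjectiveDimensionLT (ModuleCat.of A (LinearMap.ker p')) 1 :=
    hS2.hasProjectiveDimensionLT_X₁ 1 hP hI
  rw [← projective_iff_hasProjectiveDimensionLT_one] at hK
  rw [← hker]
  exact (IsProjective.iff_projective _).mpr hK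


theorem main (A : Type u) [CommRing A] [IsRegularLocalRing A] (I : Ideal A)
    [LocCoh.IsCohenMacaulayLocalRing (A ⧸ I)]
    (hcodim : ringKrullDim (A ⧸ I) + 2 = ringKrullDim A) :
    ∃ (r : ℕ) (φ : Matrix (Fin (r + 1)) (Fin r) A),
      Ideal.span (Set.range (fun i : Fin (r + 1) => (-1 : A) ^ (i : ℕ) * (φ.submatrix i.succAbove id).det)) = I ∧
      I.spanFinrank = r + 1 ∧
      Function.Injective φ.mulVecLin ∧
      LinearMap.range φ.mulVecLin =
        LinearMap.ker (Fintype.linearCombination A (fun i : Fin (r + 1) => (-1 : A) ^ (i : ℕ) * (φ.submatrix i.succAbove id).det)) := by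
  classical
  have h3 := pd_quot_lt_three A I hcodim
  have hIfg : I.FG := IsNoetherian.noetherian I
  obtain ⟨d, hd⟩ := Groth.Agent.Lib.Helper77.RegularAB.exists_ringKrullDim_eq A
  -- I ≠ ⊥
  have hI0 : I ≠ ⊥ := by
    rintro rfl
    have e : (A ⧸ (⊥ : Ideal A)) ≃+* A := RingEquiv.quotientBot A
    rw [ringKrullDim_eq_of_ringEquiv e, hd] at hcodim
    have : (((d + 2 : ℕ) : ℕ∞) : WithBot ℕ∞) = (((d : ℕ) : ℕ∞) : WithBot ℕ∞) := by
      push_cast; exact hcodim
    have : d + 2 = d := by exact_mod_cast this
    omega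
  obtain ⟨s, hscard, hsspan⟩ := Submodule.FG.exists_span_finset_card_eq_spanFinrank hIfg
  have hpos : 0 < I.spanFinrank := by
    rw [Nat.pos_iff_ne_zero, Ne, Submodule.spanFinrank_eq_zero_iff_eq_bot hIfg]; exact hI0
  obtain ⟨r, hr⟩ : ∃ r, I.spanFinrank = r + 1 := ⟨I.spanFinrank - 1, by omega⟩
  -- enumerate s
  have hcard : Fintype.card s = r + 1 := by simp [hscard, hr]
  let e : Fin (r+1) ≃ s := (Fintype.equivFinOfCardEq hcard).symm
  let g : Fin (r + 1) → A := fun i => (e i : A)
  have hg : Ideal.span (Set.range g) = I := by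
    rw [← hsspan]; congr 1; ext x; constructor
    · rintro ⟨i, rfl⟩; exact (e i).2
    · intro hx; exact ⟨e.symm ⟨x, hx⟩, by simp [g]⟩
  let π : (Fin (r + 1) → A) →ₗ[A] A := Fintype.linearCombination A g
  have hπ : LinearMap.range π = I := by
    rw [Fintype.range_linearCombination]; exact hg
  have hproj := projective_ker A I h3 π hπ
  -- free
  have hfree : Module.Free A (LinearMap.ker π) := Module.free_of_flat_of_isLocalRing
  obtain ⟨m, ⟨b⟩⟩ : ∃ m : ℕ, Nonempty (Module.Basis (Fin m) A (LinearMap.ker π)) :=
    ⟨_, ⟨Module.finBasis A _⟩⟩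
  let ψ : (Fin m → A) →ₗ[A] (Fin (r + 1) → A) :=
    (LinearMap.ker π).subtype ∘ₗ b.equivFun.symm.toLinearMap
  let Ψ : Matrix (Fin (r + 1)) (Fin m) A := LinearMap.toMatrix' ψ
  have hΨ : Ψ.mulVecLin = ψ := Matrix.toLin'_toMatrix' ψ
  have hψinj : Function.Injective ψ :=
    (Submodule.subtype_injective _).comp b.equivFun.symm.injective
  have hψrange : LinearMap.range ψ = LinearMap.ker π := by
    rw [LinearMap.range_comp, LinearMap.range_eq_top.mpr b.equivFun.symm.surjective,
      Submodule.map_top, Submodule.range_subtype]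
  have hker : LinearMap.ker Ψ.mulVecLin = ⊥ := by
    rw [hΨ]; exact LinearMap.ker_eq_bot.mpr hψinj
  have hex : LinearMap.ker π = LinearMap.range Ψ.mulVecLin := by rw [hΨ, hψrange]
  obtain ⟨hnm, ⟨a, ha, haI⟩, hdepth⟩ := Helper71.HB.main_forward m (r + 1) Ψ π hker hex
    (by rw [hπ]; exact hI0)
  obtain rfl : r = m := by omega
  -- `a` is a unit
  have hau : IsUnit a := by
    by_contra hu
    have ham : a ∈ maximalIdeal A := hu
    have hIle : I ≤ Ideal.span {a} := by
      rw [← hπ, haI]; exact Ideal.mul_le_left (R := A)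
    have h1 : ringKrullDim (A ⧸ Ideal.span {a}) ≤ ringKrullDim (A ⧸ I) :=
      ringKrullDim_le_of_surjective (Ideal.Quotient.factor hIle) (Ideal.Quotient.factor_surjective hIle)
    have hjac : Ring.jacobson A = maximalIdeal A := IsLocalRing.ringJacobson_eq_maximalIdeal A
    have h2 := ringKrullDim_le_ringKrullDim_quotient_add_encard ({a} : Set A)
      (by rw [hjac]; simpa using ham)
    rw [Set.encard_singleton] at h2
    have hx' : ringKrullDim (A ⧸ I) ≠ ⊥ := ringKrullDim_ne_bot
    have hx'' : ringKrullDim (A ⧸ I) ≠ ⊤ := ringKrullDim_ne_top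
    obtain ⟨x, hx⟩ : ∃ x : ℕ, ringKrullDim (A ⧸ I) = x := by
      cases h : ringKrullDim (A ⧸ I) with
      | bot => exact absurd h hx'
      | coe a => cases a with
        | top => exact absurd h hx''
        | coe n => exact ⟨n, rfl⟩
    have h4 : ringKrullDim A ≤ ringKrullDim (A ⧸ I) + ((1 : ℕ∞) : WithBot ℕ∞) := h2.trans (by gcongr)
    rw [hx, hd] at hcodim
    rw [hx, hd] at h4
    have e1 : x + 2 = d := by exact_mod_cast hcodim
    have e2 : d ≤ x + 1 := by exact_mod_cast h4
    omega
  have hJ : CAlgX.minorIdeal Ψ r = I := by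
    rw [← hπ, haI, Ideal.span_singleton_eq_top.mpr hau, Ideal.top_mul]
  obtain ⟨k1, k2, k3⟩ := Helper71.HB.main r Ψ hdepth 1 (one_mem _)
  simp only [one_mul] at k2 k3
  refine ⟨r, Ψ, ?_, hr, ?_, k2.symm⟩
  · rw [← hJ, Helper71.HB.minorIdeal_eq]; rfl
  · exact LinearMap.ker_eq_bot.mp k1


end Groth.Agent.S11449
end Helpers

open DefT

namespace Groth.Agent.S11449

/-- Let A be a regular local ring and I an ideal such that A/I is a Cohen–Macaulay local ring whose
Krull dimension is dim A − 2. Then for some r there is an (r+1) × r matrix φ with entries in A such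
that, writing f_i for (−1)^i times the determinant of φ with its i-th row removed (i = 0, …, r), the
elements f_0, …, f_r generate I, no family of fewer than r + 1 elements generates I, multiplication
by φ is an injective map A^r → A^{r+1}, and the image of that map is exactly the kernel of the map
A^{r+1} → A sending v to Σ_i v_i f_i; together with A → A/I this is a free resolution 0 → A^r →
A^{r+1} → A → A/I → 0. -/
theorem result
    (A : Type u) [CommRing A] [IsRegularLocalRing A] (I : Ideal A)
    [LocCoh.IsCohenMacaulayLocalRing (A ⧸ I)]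
    (hcodim : ringKrullDim (A ⧸ I) + 2 = ringKrullDim A) :
    ∃ (r : ℕ) (φ : Matrix (Fin (r + 1)) (Fin r) A),
      Ideal.span (Set.range (fun i : Fin (r + 1) => (-1 : A) ^ (i : ℕ) * (φ.submatrix i.succAbove id).det)) = I ∧
      I.spanFinrank = r + 1 ∧
      Function.Injective φ.mulVecLin ∧
      LinearMap.range φ.mulVecLin =
        LinearMap.ker (Fintype.linearCombination A (fun i : Fin (r + 1) => (-1 : A) ^ (i : ℕ) * (φ.submatrix i.succAbove id).det)) := by
  exact main A I hcodim

end Groth.Agent.S11449
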