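import Groth.Statements.S11450
import Groth.Agent.Lib.Helper68.TorMod2
import Mathlib.RingTheory.Ideal.AssociatedPrime.Finiteness
import Mathlib.RingTheory.Flat.Tensor

set_option autoImplicit false
universe u
open CategoryTheory
open DefT

namespace Groth.Agent.S11450

open Groth.Agent.Lib.Helper68

section

variable {A : Type u} [CommRing A] (M : ModuleCat.{u} A)

lemma isZero_tF_mid {N₁ N₂ N₃ : Type u} [AddCommGroup N₁] [Module A N₁] [AddCommGroup N₂]
    [Module A N₂] [AddCommGroup N₃] [Module A N₃] (f : N₁ →ₗ[A] N₂) (g : N₂ →ₗ[A] N₃)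
    (hf : Function.Injective f) (hg : Function.Surjective g) (h : Function.Exact f g) (n : ℕ)
    (h₁ : Limits.IsZero (((TorMod.tF M).leftDerived n).obj (ModuleCat.of A N₁)))
    (h₃ : Limits.IsZero (((TorMod.tF M).leftDerived n).obj (ModuleCat.of A N₃))) :
    Limits.IsZero (((TorMod.tF M).leftDerived n).obj (ModuleCat.of A N₂)) := by
  have hS := TorMod.sc_shortExact f g h hf hg
  have h1 := LeftDerivedLES.isZero_mid (TorMod.tF M) hS n h₁ h₃
  exact h1

lemma isZero_tF_of_finite [IsNoetherianRing A]
    (hp : ∀ p : Ideal A, p.IsPrime →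
      Limits.IsZero (((TorMod.tF M).leftDerived 1).obj (ModuleCat.of A (A ⧸ p))))
    (N : Type u) [AddCommGroup N] [Module A N] (hN : Module.Finite A N) :
    Limits.IsZero (((TorMod.tF M).leftDerived 1).obj (ModuleCat.of A N)) := by
  induction hN using IsNoetherianRing.induction_on_isQuotientEquivQuotientPrime A with
  | subsingleton N =>
    exact isZero_Tor_succ_of_projective _ M (ModuleCat.of A N) 0
  | quotient N p e =>
    exact Limits.IsZero.of_iso (hp p.1 p.2) (((TorMod.tF M).leftDerived 1).mapIso e.toModuleIso)
  | exact N₁ N₂ N₃ f g hf hg h h₁ h₃ =>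
    exact isZero_tF_mid M f g hf hg h 1 h₁ h₃

end

/-- A module M over a Noetherian commutative ring A is flat if and only if Tor_1^A(M, A/p) vanishes for
every prime ideal p of A. -/
theorem result (A : Type u) [CommRing A]
    [IsNoetherianRing A] (M : Type u) [AddCommGroup M] [Module A M] :
    Module.Flat A M ↔ ∀ p : Ideal A, p.IsPrime →
      Limits.IsZero (((CategoryTheory.Tor (ModuleCat.{u} A) 1).obj (ModuleCat.of A M)).obj (ModuleCat.of A (A ⧸ p))) := by
  constructor
  · intro hflat p _
    let g : (A ⧸ p →₀ A) →ₗ[A] (A ⧸ p) := Finsupp.linearCombination A id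
    have hg : Function.Surjective g := Finsupp.linearCombination_id_surjective A (A ⧸ p)
    have hex : Function.Exact (LinearMap.ker g).subtype g := LinearMap.exact_subtype_ker_map g
    have hinj : Function.Injective ((LinearMap.ker g).subtype.lTensor M) :=
      Module.Flat.lTensor_preserves_injective_linearMap _ (Submodule.subtype_injective _)
    exact TorMod.isZero_tor_one_of_injective (A := LinearMap.ker g) (ModuleCat.of A M)
      (LinearMap.ker g).subtype g hex (Submodule.subtype_injective _) hg
      (TorMod.isZero_tor_succ_of_projective _ (A ⧸ p →₀ A) 0) hinj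
  · intro hp
    rw [Module.Flat.iff_lTensor_injective]
    intro I hI
    have hz : Limits.IsZero (((TorMod.tF (ModuleCat.of A M)).leftDerived 1).obj
        (ModuleCat.of A (A ⧸ I))) :=
      isZero_tF_of_finite (ModuleCat.of A M) hp (A ⧸ I) inferInstance
    have hex : Function.Exact I.subtype I.mkQ := LinearMap.exact_subtype_mkQ I
    have key := TorMod.epi_tF_one_map_iff (ModuleCat.of A M) I.subtype I.mkQ hex
      (Submodule.subtype_injective _) (Submodule.mkQ_surjective _)
    exact key.mp ⟨fun {Z} u v _ => hz.eq_of_src u v⟩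

end Groth.Agent.S11450
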