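import Groth.Statements.S11451
import Mathlib
import Groth.Agent.Lib.Helper65.RegularSmooth
-- import your own Groth.Agent.* helpers here

set_option autoImplicit false
universe u
open DefT

namespace Groth.Agent.S11451
open IsLocalRing TensorProduct KaehlerDifferential Groth.Agent.Lib.Helper65.RegularSmooth


/-- Let k be an algebraically closed field and A a local k-algebra essentially of finite type over k
with residue field k. Then regularity of A as a local ring is equivalent to the following: for every
local k-algebra B' of finite dimension over k, every ideal J of B' of square zero and every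
k-algebra homomorphism f : A → B'/J, there is a k-algebra homomorphism g : A → B' lifting f. (Local
k-algebras of finite k-dimension are exactly the local Artin rings finite over k; lifting against
square-zero kernels is equivalent to lifting against nilpotent ones by induction.) -/
theorem result (k : Type u) [Field k] [IsAlgClosed k]
    (A : Type u) [CommRing A] [IsLocalRing A] [Algebra k A] [Algebra.EssFiniteType k A]
    (hres : Function.Surjective (algebraMap k (IsLocalRing.ResidueField A))) :
    IsRegularLocalRing A ↔
      ∀ (B' : Type u) [CommRing B'] [IsLocalRing B'] [Algebra k B'] [Module.Finite k B']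
        (J : Ideal B'), J ^ 2 = ⊥ → ∀ f : A →ₐ[k] B' ⧸ J,
          ∃ g : A →ₐ[k] B', (Ideal.Quotient.mkₐ k J).comp g = f := by
  constructor
  · intro hreg B' _ _ _ _ J hJ f
    have : Algebra.EssFiniteType k (ResidueField A) :=
      inferInstanceAs (Algebra.EssFiniteType k (A ⧸ maximalIdeal A))
    have : Algebra.FormallySmooth k (ResidueField A) := Algebra.FormallySmooth.of_perfectField
    have : Algebra.FormallySmooth k A := formallySmooth_of_isRegularLocalRing k A
    exact Algebra.FormallySmooth.comp_surjective k A J hJ f
  · intro hlift
    obtain ⟨R, _, _, _, _, _, _, _, ψ, hψ⟩ := exists_presentation k A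
    let e : (R ⧸ RingHom.ker ψ.toRingHom) ≃ₐ[k] A := Ideal.quotientKerAlgEquivOfSurjective hψ
    have hJ : RingHom.ker ψ.toRingHom ≠ ⊤ := RingHom.ker_ne_top _
    have : IsLocalHom ψ :=
      ⟨fun a ha => (Function.Surjective.isLocalHom ψ.toRingHom hψ).map_nonunit a ha⟩
    let φ : ResidueField R →ₐ[k] ResidueField A := ResidueField.mapAlgHom ψ
    have hresR : Function.Surjective (algebraMap k (ResidueField R)) := by
      intro y
      obtain ⟨c, hc⟩ := hres (φ y)
      refine ⟨c, φ.toRingHom.injective ?_⟩
      change φ (algebraMap k _ c) = φ y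
      rw [φ.commutes, hc]
    have hlift' : ∀ (B' : Type u) [CommRing B'] [IsLocalRing B'] [Algebra k B']
        [Module.Finite k B'] (J : Ideal B'), J ^ 2 = ⊥ →
        ∀ f : R ⧸ RingHom.ker ψ.toRingHom →ₐ[k] B' ⧸ J,
          ∃ g : R ⧸ RingHom.ker ψ.toRingHom →ₐ[k] B', (Ideal.Quotient.mkₐ k J).comp g = f := by
      intro B' _ _ _ _ J hJ2 f
      obtain ⟨g', hg'⟩ := hlift B' J hJ2 (f.comp e.symm.toAlgHom)
      refine ⟨g'.comp e.toAlgHom, ?_⟩
      rw [← AlgHom.comp_assoc, hg']
      ext x
      change f (e.symm (e x)) = f x
      rw [AlgEquiv.symm_apply_apply]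
    have h := inf_sq_le_of_lifting k R (RingHom.ker ψ.toRingHom) hJ hresR hlift'
    have := isRegularLocalRing_quotient_of_inf_sq_le R (RingHom.ker ψ.toRingHom) hJ h
    exact IsRegularLocalRing.of_ringEquiv e.toRingEquiv


end Groth.Agent.S11451
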