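import Groth.Statements.S11455
import Groth.Agent.Lib.Helper67.RegFlat4

set_option autoImplicit false
universe u
open DefT

namespace Groth.Agent.S11455

/-- Let C' be a local Artin ring, J ⊊ C' a proper ideal annihilated by the maximal ideal, C = C'/J, A' a
flat C'-algebra whose reduction modulo the maximal ideal of C' is a Cohen–Macaulay local ring, A =
A'/JA', and a_1, …, a_r a regular sequence on A with A/(a_1, …, a_r) flat over C. Then every ideal
I' of A' with A'/I' flat over C' and with image (a_1, …, a_r) in A is generated by some lifts a'_1,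
…, a'_r of the a_i. -/
theorem result (C' : Type u) [CommRing C'] [IsLocalRing C'] [IsArtinianRing C'] (J : Ideal C')
    (hJ : IsLocalRing.maximalIdeal C' * J = ⊥) (hJne : J ≠ ⊤) (A' : Type u) [CommRing A'] [Algebra C' A'] [Module.Flat C' A']
    [LocCoh.IsCohenMacaulayLocalRing (A' ⧸ (IsLocalRing.maximalIdeal C').map (algebraMap C' A'))]
    (r : ℕ) (a : Fin r → A' ⧸ J.map (algebraMap C' A'))
    (hreg : RingTheory.Sequence.IsRegular (A' ⧸ J.map (algebraMap C' A')) (List.ofFn a))
    [Module.Flat (C' ⧸ J) ((A' ⧸ J.map (algebraMap C' A')) ⧸ Ideal.span (Set.range a))]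
    (I' : Ideal A') [Module.Flat C' (A' ⧸ I')]
    (hI' : I'.map (Ideal.Quotient.mk (J.map (algebraMap C' A'))) = Ideal.span (Set.range a)) :
    ∃ a' : Fin r → A', (∀ i, Ideal.Quotient.mk (J.map (algebraMap C' A')) (a' i) = a i) ∧
      I' = Ideal.span (Set.range a') := by
  have hex : ∀ i, ∃ x ∈ I', Ideal.Quotient.mk (J.map (algebraMap C' A')) x = a i := by
    intro i
    have hai : a i ∈ I'.map (Ideal.Quotient.mk (J.map (algebraMap C' A'))) := by
      rw [hI']
      exact Ideal.subset_span ⟨i, rfl⟩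
    exact (Ideal.mem_map_iff_of_surjective _ Ideal.Quotient.mk_surjective).mp hai
  choose a' haI hab using hex
  refine ⟨a', hab, ?_⟩
  have hJm : J ≤ IsLocalRing.maximalIdeal C' := IsLocalRing.le_maximalIdeal hJne
  have hnil : IsNilpotent J := by
    refine ⟨2, ?_⟩
    rw [pow_two, Ideal.zero_eq_bot, ← le_bot_iff, ← hJ]
    exact Ideal.mul_mono_left hJm
  apply Groth.Agent.Lib.Helper67.eq_of_le_of_map_eq_of_isNilpotent I' (Ideal.span (Set.range a')) J hnil
  · rw [Ideal.span_le]
    rintro _ ⟨i, rfl⟩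
    exact haI i
  · rw [hI', Ideal.map_span]
    congr 1
    ext x
    constructor
    · rintro ⟨i, rfl⟩
      exact ⟨a' i, ⟨i, rfl⟩, hab i⟩
    · rintro ⟨_, ⟨i, rfl⟩, rfl⟩
      exact ⟨i, (hab i).symm⟩

end Groth.Agent.S11455
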