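import Groth.Statements.S11458
import Groth.Agent.Lib.Helper75.SqLift8

set_option autoImplicit false
universe u
open DefT

namespace Groth.Agent.S11458

/-- Let C be a local Artin ring with maximal ideal m, A a flat C-algebra of finite type whose special
fibre A₀ = A/mA is smooth over C/m, and I ⊆ A an ideal with A/I flat over C whose image I₀ in A₀ has
height ≥ 2 at every prime containing it (A₀/I₀ of codimension 2) and is generated by the signed
maximal minors of an (r+1) × r matrix φ₀ over A₀ for which 0 → A₀^r → A₀^{r+1} → A₀ (matrix, then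
minors) is exact. Then there is an (r+1) × r matrix φ over A whose signed maximal minors generate I
and for which 0 → A^r → A^{r+1} → A is exact, so that 0 → A^r → A^{r+1} → A → A/I → 0 is a
resolution. -/
theorem result (C : Type u) [CommRing C]
    [IsLocalRing C] [IsArtinianRing C] (A : Type u) [CommRing A] [Algebra C A] [Module.Flat C A]
    [Algebra.FiniteType C A]
    [Algebra.Smooth (C ⧸ IsLocalRing.maximalIdeal C) (A ⧸ (IsLocalRing.maximalIdeal C).map (algebraMap C A))]
    (I : Ideal A) [Module.Flat C (A ⧸ I)]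
    (hcodim : ∀ p : Ideal (A ⧸ (IsLocalRing.maximalIdeal C).map (algebraMap C A)), p.IsPrime →
      I.map (Ideal.Quotient.mk ((IsLocalRing.maximalIdeal C).map (algebraMap C A))) ≤ p → (2 : ℕ∞) ≤ p.height)
    (r : ℕ)
    (φ₀ : Matrix (Fin (r + 1)) (Fin r) (A ⧸ (IsLocalRing.maximalIdeal C).map (algebraMap C A)))
    (h₀ : (Ideal.span (Set.range (fun i : Fin (r + 1) => (-1 : (A ⧸ (IsLocalRing.maximalIdeal C).map (algebraMap C A))) ^ (i : ℕ) * ((φ₀).submatrix i.succAbove id).det)) = I.map (Ideal.Quotient.mk ((IsLocalRing.maximalIdeal C).map (algebraMap C A))) ∧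
        Function.Injective (φ₀).mulVecLin ∧
        LinearMap.range (φ₀).mulVecLin = LinearMap.ker (Fintype.linearCombination (A ⧸ (IsLocalRing.maximalIdeal C).map (algebraMap C A)) (fun i : Fin (r + 1) => (-1 : (A ⧸ (IsLocalRing.maximalIdeal C).map (algebraMap C A))) ^ (i : ℕ) * ((φ₀).submatrix i.succAbove id).det)))) :
    ∃ φ : Matrix (Fin (r + 1)) (Fin r) A, (Ideal.span (Set.range (fun i : Fin (r + 1) => (-1 : A) ^ (i : ℕ) * ((φ).submatrix i.succAbove id).det)) = I ∧
        Function.Injective (φ).mulVecLin ∧
        LinearMap.range (φ).mulVecLin = LinearMap.ker (Fintype.linearCombination A (fun i : Fin (r + 1) => (-1 : A) ^ (i : ℕ) * ((φ).submatrix i.succAbove id).det))) := by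
  obtain ⟨hspan, hinj, hex⟩ := h₀
  have hnil : IsNilpotent (IsLocalRing.maximalIdeal C) := by
    have := IsArtinianRing.isNilpotent_jacobson_bot (R := C)
    rwa [IsLocalRing.jacobson_eq_maximalIdeal ⊥ bot_ne_top] at this
  by_cases hsub : Subsingleton (A ⧸ (IsLocalRing.maximalIdeal C).map (algebraMap C A))
  · have hK : (IsLocalRing.maximalIdeal C).map (algebraMap C A) = ⊤ :=
      Ideal.Quotient.subsingleton_iff.mp hsub
    obtain ⟨N, hN⟩ := hnil
    have h01 : (1 : A) = 0 := by
      have : (1 : A) ∈ ((IsLocalRing.maximalIdeal C).map (algebraMap C A)) ^ N := by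
        rw [hK, Ideal.top_pow]
        exact Submodule.mem_top
      rwa [← Ideal.map_pow, hN, Ideal.zero_eq_bot, Ideal.map_bot, Ideal.mem_bot] at this
    haveI : Subsingleton A := subsingleton_of_zero_eq_one h01.symm
    refine ⟨0, ?_, Function.injective_of_subsingleton _, Subsingleton.elim _ _⟩
    ext x
    rw [Subsingleton.elim x 0]
    simp
  · rw [not_subsingleton_iff_nontrivial] at hsub
    have hne : Ideal.span (Set.range (Groth.Agent.Lib.Helper75.SqLift.minor φ₀)) ≠ ⊥ := by
      intro h0
      obtain ⟨p, hp⟩ := Ideal.nonempty_minimalPrimes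
        (R := A ⧸ (IsLocalRing.maximalIdeal C).map (algebraMap C A)) (I := ⊥) top_ne_bot.symm
      have hpp : p.IsPrime := Ideal.minimalPrimes_isPrime hp
      have h2 := hcodim p hpp (by
        rw [← hspan]
        change Ideal.span (Set.range (Groth.Agent.Lib.Helper75.SqLift.minor φ₀)) ≤ p
        rw [h0]; exact bot_le)
      rw [Ideal.height_eq_zero_iff.mpr hp] at h2
      norm_num at h2
    have hbot : (IsLocalRing.maximalIdeal C).map (Ideal.Quotient.mk (IsLocalRing.maximalIdeal C)) = ⊥ :=
      Ideal.map_quotient_self _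
    obtain ⟨φ, -, h1, h2, h3⟩ := Groth.Agent.Lib.Helper75.SqLift.lift_ideal_of_fibre
      (IsLocalRing.maximalIdeal C) le_rfl hnil r φ₀ hinj hex
      (by
        intro x hx
        rw [hbot, Submodule.bot_smul, Submodule.mem_bot] at hx ⊢
        exact hinj (hx.trans (map_zero _).symm))
      (by
        intro y hy
        rw [hbot, Submodule.bot_smul, Submodule.mem_bot] at hy
        have : y ∈ LinearMap.range φ₀.mulVecLin := by
          rw [hex]
          exact hy
        obtain ⟨x, hx⟩ := this
        refine ⟨x, ?_⟩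
        rw [hx, sub_self]
        exact Submodule.zero_mem _)
      hne I hspan.symm
    exact ⟨φ, h1.symm, h2, h3⟩

end Groth.Agent.S11458
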