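import Groth.Statements.S11459
import Groth.Agent.Lib.Helper75.SqLift7

set_option autoImplicit false
universe u
open DefT

namespace Groth.Agent.S11459

/-- Let C' be a local Artin ring, J ⊊ C' a proper ideal annihilated by the maximal ideal, C = C'/J, A' a
flat C'-algebra of finite type with smooth special fibre, A = A'/JA', and φ an (r+1) × r matrix over
A with 0 → A^r → A^{r+1} → A exact (matrix, then signed maximal minors f_i) A/(f_0, …, f_r) flat
over C, and every prime of A containing (f_0, …, f_r) of height ≥ 2 (codimension 2). Then any ideal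
I' ⊆ A' such that A'/I' is flat over C' and the image of I' in A is (f_0, …, f_r) is generated by
the signed maximal minors of some matrix φ' over A' reducing to φ. -/
theorem result (C' : Type u) [CommRing C'] [IsLocalRing C'] [IsArtinianRing C'] (J : Ideal C')
    (hJ : IsLocalRing.maximalIdeal C' * J = ⊥) (hJne : J ≠ ⊤) (A' : Type u) [CommRing A'] [Algebra C' A'] [Module.Flat C' A']
    [Algebra.FiniteType C' A']
    [Algebra.Smooth (C' ⧸ IsLocalRing.maximalIdeal C') (A' ⧸ (IsLocalRing.maximalIdeal C').map (algebraMap C' A'))]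
    (r : ℕ) (φ : Matrix (Fin (r + 1)) (Fin r) (A' ⧸ J.map (algebraMap C' A')))
    (hφ : Function.Injective φ.mulVecLin ∧
      LinearMap.range φ.mulVecLin = LinearMap.ker (Fintype.linearCombination (A' ⧸ J.map (algebraMap C' A')) (fun i : Fin (r + 1) => (-1 : (A' ⧸ J.map (algebraMap C' A'))) ^ (i : ℕ) * ((φ).submatrix i.succAbove id).det)))
    [Module.Flat (C' ⧸ J) ((A' ⧸ J.map (algebraMap C' A')) ⧸ Ideal.span (Set.range (fun i : Fin (r + 1) => (-1 : (A' ⧸ J.map (algebraMap C' A'))) ^ (i : ℕ) * ((φ).submatrix i.succAbove id).det)))]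
    (hcodim : ∀ p : Ideal (A' ⧸ J.map (algebraMap C' A')), p.IsPrime →
      Ideal.span (Set.range (fun i : Fin (r + 1) => (-1 : (A' ⧸ J.map (algebraMap C' A'))) ^ (i : ℕ) * ((φ).submatrix i.succAbove id).det)) ≤ p → (2 : ℕ∞) ≤ p.height)
    (I' : Ideal A') [Module.Flat C' (A' ⧸ I')]
    (hI' : I'.map (Ideal.Quotient.mk (J.map (algebraMap C' A'))) = Ideal.span (Set.range (fun i : Fin (r + 1) => (-1 : (A' ⧸ J.map (algebraMap C' A'))) ^ (i : ℕ) * ((φ).submatrix i.succAbove id).det))) :
    ∃ φ' : Matrix (Fin (r + 1)) (Fin r) A', φ'.map (Ideal.Quotient.mk (J.map (algebraMap C' A'))) = φ ∧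
      I' = Ideal.span (Set.range (fun i : Fin (r + 1) => (-1 : A') ^ (i : ℕ) * ((φ').submatrix i.succAbove id).det)) := by
  by_cases hsub : Subsingleton (A' ⧸ J.map (algebraMap C' A'))
  · have hK : J.map (algebraMap C' A') = ⊤ := Ideal.Quotient.subsingleton_iff.mp hsub
    have hJJ : J * J = ⊥ := by
      rw [eq_bot_iff, ← hJ]
      exact Ideal.mul_mono_left (IsLocalRing.le_maximalIdeal hJne)
    have hKK : J.map (algebraMap C' A') * J.map (algebraMap C' A') = ⊥ := by
      rw [← Ideal.map_mul, hJJ, Ideal.map_bot]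
    have h01 : (1 : A') = 0 := by
      have : (1 : A') ∈ J.map (algebraMap C' A') * J.map (algebraMap C' A') := by
        rw [hK, Ideal.top_mul]
        exact Submodule.mem_top
      rwa [hKK, Ideal.mem_bot] at this
    haveI : Subsingleton A' := subsingleton_of_zero_eq_one h01.symm
    refine ⟨0, Subsingleton.elim _ _, ?_⟩
    ext x
    rw [Subsingleton.elim x 0]
    simp
  · rw [not_subsingleton_iff_nontrivial] at hsub
    have hne : Ideal.span (Set.range (Groth.Agent.Lib.Helper75.SqLift.minor φ)) ≠ ⊥ := by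
      intro h0
      obtain ⟨p, hp⟩ := Ideal.nonempty_minimalPrimes
        (R := A' ⧸ J.map (algebraMap C' A')) (I := ⊥) top_ne_bot.symm
      haveI := Ideal.minimalPrimes_isPrime hp
      have h2 := hcodim p inferInstance (by
        change Ideal.span (Set.range (Groth.Agent.Lib.Helper75.SqLift.minor φ)) ≤ p
        rw [h0]; exact bot_le)
      rw [Ideal.height_eq_zero_iff.mpr hp] at h2
      norm_num at h2
    exact Groth.Agent.Lib.Helper75.SqLift.lift_ideal J hJ hJne r φ hφ.1 hφ.2 hne I' hI'

end Groth.Agent.S11459
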