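import Groth.Statements.S1146
-- import your own Groth.Agent.* helpers here
import Groth.Agent.Lib.Helper36.EtaleLocalDim

set_option autoImplicit false
open CategoryTheory CategoryTheory.Limits AlgebraicGeometry Opposite
universe u
open Desc

namespace Groth.Agent.S1146

/-- Let f : U ⟶ V be an etale morphism of schemes and u a point of U. Then the local dimension of U at u
(the infimum of the Krull dimensions of open neighbourhoods) equals the local dimension of V at
f(u). -/
theorem result {U V : Scheme.{u}} (f : U ⟶ V) [Etale f] (u : U) :
    FlatMor.localDim U u = FlatMor.localDim V (f.base u) := by
  exact Groth.Agent.Lib.Helper36.EtaleLocalDim.localDim_eq_of_etale f u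

end Groth.Agent.S1146
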