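import Groth.Statements.S11460
import Groth.Agent.S11449
import Groth.Agent.Lib.Helper30.SmoothRegular
import Groth.Agent.Lib.Helper56.FibreCM
import Groth.Agent.Lib.Helper75.HBSpread2

set_option autoImplicit false
universe u
open CategoryTheory AlgebraicGeometry
open DefT

namespace Groth.Agent.S11460

/-- Let X be smooth over a field k and Y ⊆ X a closed subscheme which is Cohen–Macaulay of codimension 2
(all local rings of Y Cohen–Macaulay, and dim O_{X,y} = dim O_{Y,y} + 2 at every point y of Y). Then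
each point of Y has an affine open neighbourhood U in X and an (r+1) × r matrix φ of functions on U
whose signed maximal minors f_i generate the ideal of Y ∩ U and give an exact sequence 0 → O(U)^r →
O(U)^{r+1} → O(U), hence a resolution of O_{Y ∩ U} on the affine U. -/
theorem result (k : Type u) [Field k]
    (X Y : Scheme.{u}) (f : X ⟶ Spec (CommRingCat.of k)) [Smooth f] (ι : Y ⟶ X) [IsClosedImmersion ι]
    (hCM : ∀ y : Y, LocCoh.IsCohenMacaulayLocalRing (Y.presheaf.stalk y))
    (hcodim : ∀ y : Y, ringKrullDim (Y.presheaf.stalk y) + 2 = ringKrullDim (X.presheaf.stalk (ι.base y)))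
    (y : Y) :
    ∃ U : X.affineOpens, ι.base y ∈ (U : X.Opens) ∧ ∃ (r : ℕ) (φ : Matrix (Fin (r + 1)) (Fin r) Γ(X, U)),
      (Ideal.span (Set.range (fun i : Fin (r + 1) => (-1 : Γ(X, U)) ^ (i : ℕ) * ((φ).submatrix i.succAbove id).det)) = ι.ker.ideal U ∧
        Function.Injective (φ).mulVecLin ∧
        LinearMap.range (φ).mulVecLin = LinearMap.ker (Fintype.linearCombination Γ(X, U) (fun i : Fin (r + 1) => (-1 : Γ(X, U)) ^ (i : ℕ) * ((φ).submatrix i.succAbove id).det))) := by
  classical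
  have hreg : IsRegularLocalRing (X.presheaf.stalk (ι.base y)) :=
    Groth.Agent.Lib.Helper30.SmoothRegular.stalk_regular_of_smooth_field k f (ι.base y)
  have hLN : IsLocallyNoetherian X :=
    Groth.Agent.Lib.Helper30.SmoothRegular.isLocallyNoetherian_of_smooth_field k f
  have hsurj : Function.Surjective (ι.stalkMap y).hom := ι.stalkMap_surjective y
  let e : (X.presheaf.stalk (ι.base y) ⧸ RingHom.ker (ι.stalkMap y).hom) ≃+* Y.presheaf.stalk y :=
    RingHom.quotientKerEquivOfSurjective hsurj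
  have : LocCoh.IsCohenMacaulayLocalRing
      (X.presheaf.stalk (ι.base y) ⧸ RingHom.ker (ι.stalkMap y).hom) :=
    Groth.Agent.Lib.Helper56.isCohenMacaulayLocalRing_of_ringEquiv e.symm (hCM y)
  have hcod : ringKrullDim (X.presheaf.stalk (ι.base y) ⧸ RingHom.ker (ι.stalkMap y).hom) + 2 =
      ringKrullDim (X.presheaf.stalk (ι.base y)) := by
    rw [ringKrullDim_eq_of_ringEquiv e]; exact hcodim y
  obtain ⟨r, φ', h1, -, h3, h4⟩ :=
    Groth.Agent.S11449.result (X.presheaf.stalk (ι.base y)) (RingHom.ker (ι.stalkMap y).hom) hcod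
  obtain ⟨U, hU, hxU, a, ha⟩ := Groth.Agent.Lib.Helper75.HBSpread.exists_affine_germ (ι.base y)
    (fun p : Fin (r + 1) × Fin r => φ' p.1 p.2)
  let φ₀ : Matrix (Fin (r + 1)) (Fin r) Γ(X, U) := Matrix.of fun i j => a (i, j)
  let algX : Algebra Γ(X, U) (X.presheaf.stalk (ι.base y)) :=
    TopCat.Presheaf.algebra_section_stalk X.presheaf ⟨ι.base y, hxU⟩
  have hloc := hU.isLocalization_stalk ⟨ι.base y, hxU⟩
  have hφ : φ₀.map (algebraMap Γ(X, U) (X.presheaf.stalk (ι.base y))) = φ' := by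
    ext i j
    exact ha (i, j)
  have hN : IsNoetherianRing Γ(X, U) := IsLocallyNoetherian.component_noetherian ⟨U, hU⟩
  have hker := Groth.Agent.Lib.Helper75.HBSpread.ker_stalkMap_eq ι y U hU hxU
  obtain ⟨g, hgM, hgood⟩ := Groth.Agent.Lib.Helper75.HBSpread.exists_good
    (hU.primeIdealOf ⟨ι.base y, hxU⟩).asIdeal.primeCompl (L := X.presheaf.stalk (ι.base y))
    (ι.ker.ideal ⟨U, hU⟩) φ₀
    (by rw [hφ]; exact h1.trans hker) (by rw [hφ]; exact h3) (by rw [hφ]; exact h4)
  have hlocg := hU.isLocalization_basicOpen g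
  obtain ⟨k1, k2, k3⟩ := Groth.Agent.Lib.Helper75.HBSpread.of_good (ι.ker.ideal ⟨U, hU⟩) φ₀ g hgood
    Γ(X, X.basicOpen g)
  refine ⟨X.affineBasicOpen (U := ⟨U, hU⟩) g, ?_, r,
    φ₀.map (algebraMap Γ(X, U) Γ(X, X.basicOpen g)), ?_, k2, k3⟩
  · change ι.base y ∈ X.basicOpen g
    rw [Scheme.mem_basicOpen X g (ι.base y) hxU]
    exact (IsLocalization.AtPrime.isUnit_to_map_iff (X.presheaf.stalk (ι.base y))
      (hU.primeIdealOf ⟨ι.base y, hxU⟩).asIdeal g).mpr hgM
  · rw [← (ι.ker).map_ideal_basicOpen ⟨U, hU⟩ g]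
    exact k1

end Groth.Agent.S11460
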