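import Groth.Statements.S11462
-- import your own Groth.Agent.* helpers here
import Groth.Agent.Lib.Helper64.HartogsRing
import Groth.Agent.Lib.Helper64.HartogsRel
import Groth.Agent.Lib.Helper73.Sk.FibLocQuot
import Groth.Agent.Lib.Helper77.FlatDepth2
import Groth.Agent.Lib.Helper56.Serre3

set_option autoImplicit false
universe u
open CategoryTheory AlgebraicGeometry Opposite
open DefT

namespace Groth.Agent.S11462

open IsLocalRing LocCoh Groth.Agent.Lib.Helper73 Groth.Agent.Lib.Helper77.FlatDepth

set_option linter.style.haveILetI false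

/-- elements of the maximal ideal of an Artinian local ring are nilpotent -/
theorem isNilpotent_of_mem_maximalIdeal {C : Type u} [CommRing C] [IsLocalRing C]
    [IsArtinianRing C] {c : C} (hc : c ∈ maximalIdeal C) : IsNilpotent c := by
  obtain ⟨n, hn⟩ := IsArtinianRing.isNilpotent_jacobson_bot (R := C)
  rw [IsLocalRing.jacobson_eq_maximalIdeal ⊥ bot_ne_top] at hn
  refine ⟨n, ?_⟩
  have : c ^ n ∈ maximalIdeal C ^ n := Ideal.pow_mem_pow hc n
  rw [hn] at this
  simpa using this

theorem ringKrullDim_eq_zero_of_artinian_local (C : Type u) [CommRing C] [IsLocalRing C]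
    [IsArtinianRing C] : ringKrullDim C = 0 := by
  rw [← ringKrullDimZero_iff_ringKrullDim_eq_zero]
  infer_instance

theorem two_le_depth_aux (C : Type u) [CommRing C] [IsLocalRing C] [IsArtinianRing C]
    (A : Type u) [CommRing A] [IsNoetherianRing A] [Algebra C A] [Module.Flat C A]
    (I : Ideal A) (hI : I = (maximalIdeal C).map (algebraMap C A))
    (q : Ideal (A ⧸ I)) [q.IsPrime] (P : Ideal A) [P.IsPrime] (hP : P = q.comap (Ideal.Quotient.mk I))
    (hN : IsDomain (Localization.AtPrime q) ∧ IsIntegrallyClosed (Localization.AtPrime q))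
    (hht : (2 : ℕ∞) ≤ P.height) :
    2 ≤ depth (Localization.AtPrime P) (Localization.AtPrime P) := by
  subst hP
  haveI : IsNoetherianRing (Localization.AtPrime (q.comap (Ideal.Quotient.mk I))) :=
    IsLocalization.isNoetherianRing (q.comap (Ideal.Quotient.mk I)).primeCompl _ inferInstance
  haveI : Module.Flat C (Localization.AtPrime (q.comap (Ideal.Quotient.mk I))) :=
    Module.Flat.trans C A (Localization.AtPrime (q.comap (Ideal.Quotient.mk I)))
  haveI : IsLocalHom (algebraMap C (Localization.AtPrime (q.comap (Ideal.Quotient.mk I)))) :=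
    ⟨fun c hc => by
      by_contra hcu
      have hcm : c ∈ maximalIdeal C := (mem_maximalIdeal c).2 hcu
      obtain ⟨n, hn⟩ := isNilpotent_of_mem_maximalIdeal hcm
      have h0 : (algebraMap C (Localization.AtPrime (q.comap (Ideal.Quotient.mk I))) c) ^ n = 0 := by
        rw [← map_pow, hn, map_zero]
      exact (hc.pow n).ne_zero h0⟩
  haveI : IsNoetherianRing C := inferInstance
  have hdepth := depth_ring_eq_add C (Localization.AtPrime (q.comap (Ideal.Quotient.mk I)))
  have hdim := dim_eq_add C (Localization.AtPrime (q.comap (Ideal.Quotient.mk I)))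
  have hker : (maximalIdeal C).map
      (algebraMap C (Localization.AtPrime (q.comap (Ideal.Quotient.mk I)))) =
      RingHom.ker (locQuotMap I q) := by
    rw [ker_locQuotMap, IsScalarTower.algebraMap_eq C A
      (Localization.AtPrime (q.comap (Ideal.Quotient.mk I))), ← Ideal.map_map, ← hI]
  let e : (Localization.AtPrime (q.comap (Ideal.Quotient.mk I)) ⧸ (maximalIdeal C).map
      (algebraMap C (Localization.AtPrime (q.comap (Ideal.Quotient.mk I))))) ≃+*
      Localization.AtPrime q :=
    (Ideal.quotEquivOfEq hker).trans
      (RingHom.quotientKerEquivOfSurjective (locQuotMap_surjective I q))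
  haveI : IsNoetherianRing (Localization.AtPrime q) :=
    IsLocalization.isNoetherianRing q.primeCompl _ inferInstance
  obtain ⟨hN1, hN2⟩ := hN
  have hdimN : 2 ≤ ringKrullDim (Localization.AtPrime q) := by
    rw [← ringKrullDim_eq_of_ringEquiv e]
    rw [ringKrullDim_eq_zero_of_artinian_local C, zero_add] at hdim
    rw [← hdim, IsLocalization.AtPrime.ringKrullDim_eq_height (q.comap (Ideal.Quotient.mk I))
      (Localization.AtPrime (q.comap (Ideal.Quotient.mk I)))]
    have h' : ((2 : ℕ∞) : WithBot ℕ∞) ≤ ((q.comap (Ideal.Quotient.mk I)).height : WithBot ℕ∞) :=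
      WithBot.coe_le_coe.2 hht
    exact h'
  have h2 := Groth.Agent.Lib.Helper56.two_le_depth_of_normal_local (Localization.AtPrime q) hdimN
  rw [← Groth.Agent.Lib.Helper56.depth_self_of_ringEquiv e] at h2
  rw [hdepth]
  exact h2.trans le_add_self

/-- Let C be a local Artin ring with maximal ideal m, A a Noetherian C-algebra flat over C such that
Spec(A/mA) is a normal scheme, and U ⊆ X = Spec A an open subset whose closed complement has
codimension ≥ 2, i.e. every prime of A not in U has height at least 2. Then the restriction map Γ(X,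
O_X) → Γ(U, O_X) is bijective. (The published statement assumes only that A is flat over C with
normal special fibre; this row also assumes A Noetherian: for a valuation ring of rank two over a
field, which is normal and flat, the functions on the complement of the closed point are not all
global.) -/
theorem result (C : Type u) [CommRing C]
    [IsLocalRing C] [IsArtinianRing C] (A : Type u) [CommRing A] [IsNoetherianRing A] [Algebra C A]
    [Module.Flat C A]
    (hnorm : Pi1.IsNormalScheme (Spec (CommRingCat.of (A ⧸ (IsLocalRing.maximalIdeal C).map (algebraMap C A)))))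
    (U : (Spec (CommRingCat.of A)).Opens)
    (hU : ∀ p : ↥(Spec (CommRingCat.of A)), p ∉ U → (2 : ℕ∞) ≤ p.asIdeal.height) :
    Function.Bijective ((Spec (CommRingCat.of A)).presheaf.map (homOfLE (le_top : U ≤ ⊤)).op) := by
  have hreg : ∀ x : (Spec (CommRingCat.of A)), x ∉ U →
      Groth.Agent.Lib.Helper64.HartogsRing.HasRegPair ((Spec (CommRingCat.of A)).presheaf.stalk x) := by
    intro x hx
    have hht := hU x hx
    have hIle : (maximalIdeal C).map (algebraMap C A) ≤ x.asIdeal := by
      rw [Ideal.map_le_iff_le_comap]
      have hmax : (x.asIdeal.comap (algebraMap C A)).IsMaximal := inferInstance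
      rw [IsLocalRing.eq_maximalIdeal hmax]
    let q : Ideal (A ⧸ (maximalIdeal C).map (algebraMap C A)) :=
      x.asIdeal.map (Ideal.Quotient.mk ((maximalIdeal C).map (algebraMap C A)))
    have hqP : x.asIdeal = q.comap (Ideal.Quotient.mk ((maximalIdeal C).map (algebraMap C A))) := by
      rw [Ideal.comap_map_of_surjective _ Ideal.Quotient.mk_surjective, ← RingHom.ker_eq_comap_bot,
        Ideal.mk_ker, sup_eq_left.2 hIle]
    haveI hqp : q.IsPrime := Ideal.map_isPrime_of_surjective Ideal.Quotient.mk_surjective
      (by rw [Ideal.mk_ker]; exact hIle)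
    have hN : IsDomain (Localization.AtPrime q) ∧ IsIntegrallyClosed (Localization.AtPrime q) := by
      obtain ⟨h1, h2⟩ := hnorm ⟨q, hqp⟩
      let eq := (Spec.stalkIso (CommRingCat.of (A ⧸ (maximalIdeal C).map (algebraMap C A)))
        ⟨q, hqp⟩).commRingCatIsoToRingEquiv
      exact ⟨eq.symm.toMulEquiv.isDomain _, IsIntegrallyClosed.of_equiv eq⟩
    have hd := two_le_depth_aux C A _ rfl q x.asIdeal hqP hN hht
    let eA := (Spec.stalkIso (CommRingCat.of A) x).commRingCatIsoToRingEquiv
    have hrp : Groth.Agent.Lib.Helper64.HartogsRing.HasRegPair (Localization.AtPrime x.asIdeal) :=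
      Groth.Agent.Lib.Helper64.HartogsRing.hasRegPair_of_two_le_depth hd
    exact Groth.Agent.Lib.Helper64.HartogsRel.HasRegPair.of_ringEquiv eA.symm hrp
  exact Groth.Agent.Lib.Helper64.HartogsRing.bijective_res U hreg le_top (by simp)

end Groth.Agent.S11462
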