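import Groth.Statements.S11465
import Mathlib
import Groth.Agent.Lib.Helper27.FlatLiftExist

set_option autoImplicit false
universe u
open scoped TensorProduct
open DefT

namespace Groth.Agent.S11465

open Groth.Agent.Lib.Helper27.FlatLift

/-- Let C' be a local Artin ring, J ⊊ C' a proper ideal annihilated by the maximal ideal, C = C'/J, A' a
flat C'-algebra, A = A'/JA', I ⊆ A an ideal with B = A/I flat over C, I' ⊆ A' an ideal with C'-flat
quotient reducing to I, and φ : I → B ⊗_{C'} J an A'-linear map. Then there is exactly one ideal I''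
⊆ A' with C'-flat quotient reducing to I whose difference from I' is φ: for all x ∈ I, all lifts x'
∈ I', x'' ∈ I'' of x and all z ∈ A' ⊗_{C'} J mapping to x'' − x', the image of z in B ⊗_{C'} J is
φ(x). -/
theorem result (C' : Type u) [CommRing C'] [IsLocalRing C'] [IsArtinianRing C'] (J : Ideal C')
    (hJ : IsLocalRing.maximalIdeal C' * J = ⊥) (hJne : J ≠ ⊤) (A' : Type u) [CommRing A'] [Algebra C' A'] [Module.Flat C' A']
    (I : Ideal (A' ⧸ J.map (algebraMap C' A')))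
    [Module.Flat (C' ⧸ J) ((A' ⧸ J.map (algebraMap C' A')) ⧸ I)]
    (I' : Ideal A') [Module.Flat C' (A' ⧸ I')]
    (hI' : I'.map (Ideal.Quotient.mk (J.map (algebraMap C' A'))) = I)
    (φ : ↥I →ₗ[A'] (((A' ⧸ J.map (algebraMap C' A')) ⧸ I) ⊗[C'] ↥J)) :
    ∃! I'' : Ideal A', Module.Flat C' (A' ⧸ I'') ∧
      I''.map (Ideal.Quotient.mk (J.map (algebraMap C' A'))) = I ∧
      (∀ (x : (A' ⧸ J.map (algebraMap C' A'))) (hx : x ∈ I) (x' x'' : A'), x' ∈ I' → x'' ∈ I'' →
          Ideal.Quotient.mk (J.map (algebraMap C' A')) x' = x → Ideal.Quotient.mk (J.map (algebraMap C' A')) x'' = x →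
          ∀ z : A' ⊗[C'] ↥J, TensorProduct.rid C' A' (LinearMap.lTensor A' (Submodule.subtype J) z) = x'' - x' →
            LinearMap.rTensor ↥J (IsScalarTower.toAlgHom C' A' ((A' ⧸ J.map (algebraMap C' A')) ⧸ I)).toLinearMap z = φ ⟨x, hx⟩) := by
  have hJJ : J * J = ⊥ := by
    have hle : J ≤ IsLocalRing.maximalIdeal C' := IsLocalRing.le_maximalIdeal hJne
    exact le_bot_iff.mp (hJ ▸ Ideal.mul_mono_left hle)
  let π := IsScalarTower.toAlgHom C' A' ((A' ⧸ (J.map (algebraMap C' A'))) ⧸ I)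
  have hπ' : ∀ a ∈ I', π a = 0 := fun a ha => pi_eq_zero_of_mem J I hI' ha
  have hmem : ∀ a ∈ I', Ideal.Quotient.mk (J.map (algebraMap C' A')) a ∈ I :=
    fun a ha => hI' ▸ Ideal.mem_map_of_mem _ ha
  have hρsurj : Function.Surjective (LinearMap.rTensor ↥J π.toLinearMap) := by
    apply LinearMap.rTensor_surjective
    intro b
    obtain ⟨b', rfl⟩ := Ideal.Quotient.mk_surjective b
    obtain ⟨a, rfl⟩ := Ideal.Quotient.mk_surjective b'
    exact ⟨a, rfl⟩
  let I'' : Ideal A' :=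
    { carrier := {a | ∃ (x' : A') (hx' : x' ∈ I') (w : A' ⊗[C'] ↥J),
        LinearMap.rTensor ↥J π.toLinearMap w = φ ⟨_, hmem x' hx'⟩ ∧ a = x' + mulJ J A' w}
      zero_mem' := by
        refine ⟨0, I'.zero_mem, 0, ?_, by simp⟩
        rw [map_zero]
        have : (⟨Ideal.Quotient.mk (J.map (algebraMap C' A')) 0, hmem 0 I'.zero_mem⟩ : ↥I) = 0 :=
          Subtype.ext (map_zero _)
        rw [this, map_zero]
      add_mem' := by
        rintro a b ⟨x', hx', w, hw, rfl⟩ ⟨y', hy', v, hv, rfl⟩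
        refine ⟨x' + y', I'.add_mem hx' hy', w + v, ?_, by rw [map_add]; ring⟩
        rw [map_add, hw, hv, ← map_add]
        congr 1
      smul_mem' := by
        rintro c a ⟨x', hx', w, hw, rfl⟩
        refine ⟨c * x', I'.mul_mem_left c hx', c • w, ?_, by rw [mulJ_smul, smul_eq_mul]; ring⟩
        rw [rTensor_smul, hw, ← map_smul]
        congr 1 }
  have hmap'' : I''.map (Ideal.Quotient.mk (J.map (algebraMap C' A'))) = I := by
    apply le_antisymm
    · rw [Ideal.map_le_iff_le_comap]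
      rintro a ⟨x', hx', w, hw, rfl⟩
      rw [Ideal.mem_comap, map_add,
        Ideal.Quotient.eq_zero_iff_mem.mpr (mulJ_mem J A' w), add_zero]
      exact hmem x' hx'
    · intro x hx
      have h1 : x ∈ I'.map (Ideal.Quotient.mk (J.map (algebraMap C' A'))) := hI' ▸ hx
      obtain ⟨x', hx', rfl⟩ :=
        (Ideal.mem_map_iff_of_surjective _ Ideal.Quotient.mk_surjective).mp h1
      obtain ⟨w, hw⟩ := hρsurj (φ ⟨_, hmem x' hx'⟩)
      have h2 : x' + mulJ J A' w ∈ I'' := ⟨x', hx', w, hw, rfl⟩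
      have h3 := Ideal.mem_map_of_mem (Ideal.Quotient.mk (J.map (algebraMap C' A'))) h2
      rwa [map_add, Ideal.Quotient.eq_zero_iff_mem.mpr (mulJ_mem J A' w), add_zero] at h3
  have hdiff : ∀ (I₂ : Ideal A'),
      I₂.map (Ideal.Quotient.mk (J.map (algebraMap C' A'))) = I →
      (∀ a ∈ I₂, ∃ (x' : A') (hx' : x' ∈ I') (w : A' ⊗[C'] ↥J),
        LinearMap.rTensor ↥J π.toLinearMap w = φ ⟨_, hmem x' hx'⟩ ∧ a = x' + mulJ J A' w) →
      (∀ (x : (A' ⧸ J.map (algebraMap C' A'))) (hx : x ∈ I) (x' x'' : A'), x' ∈ I' → x'' ∈ I₂ →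
          Ideal.Quotient.mk (J.map (algebraMap C' A')) x' = x →
          Ideal.Quotient.mk (J.map (algebraMap C' A')) x'' = x →
          ∀ z : A' ⊗[C'] ↥J, mulJ J A' z = x'' - x' →
            LinearMap.rTensor ↥J π.toLinearMap z = φ ⟨x, hx⟩) := by
    intro I₂ _ hI₂ x hx x' x'' hx' hx'' e' e'' z hz
    obtain ⟨y', hy', w, hw, rfl⟩ := hI₂ x'' hx''
    have e3 : Ideal.Quotient.mk (J.map (algebraMap C' A')) y' = x := by
      rw [← e'', map_add, Ideal.Quotient.eq_zero_iff_mem.mpr (mulJ_mem J A' w), add_zero]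
    have hk : y' - x' ∈ J.map (algebraMap C' A') := by
      rw [← Ideal.Quotient.eq, e3, e']
    obtain ⟨v, hv⟩ := exists_mulJ_eq J A' hk
    have hv0 : LinearMap.rTensor ↥J π.toLinearMap v = 0 :=
      rTensor_eq_zero_of_mem J π I' hπ' v (hv ▸ I'.sub_mem hy' hx')
    have hzz : z = v + w := by
      apply mulJ_injective J A'
      rw [hz, map_add, hv]
      ring
    rw [hzz, map_add, hv0, zero_add, hw]
    congr 1
    exact Subtype.ext e3
  have hcrit : ∀ z : A' ⊗[C'] ↥J, mulJ J A' z ∈ I'' →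
      LinearMap.rTensor ↥J π.toLinearMap z = 0 := by
    rintro z ⟨x', hx', w, hw, e⟩
    have hx'K : x' ∈ J.map (algebraMap C' A') := by
      have : x' = mulJ J A' (z - w) := by rw [map_sub, e]; ring
      rw [this]
      exact mulJ_mem J A' _
    have h0 : (⟨Ideal.Quotient.mk (J.map (algebraMap C' A')) x', hmem x' hx'⟩ : ↥I) = 0 :=
      Subtype.ext (Ideal.Quotient.eq_zero_iff_mem.mpr hx'K)
    rw [h0, map_zero] at hw
    have h1 : LinearMap.rTensor ↥J π.toLinearMap (z - w) = 0 := by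
      apply rTensor_eq_zero_of_mem J π I' hπ'
      rw [map_sub, e]
      simpa using hx'
    rw [map_sub, hw, sub_zero] at h1
    exact h1
  have hflat'' : Module.Flat C' (A' ⧸ I'') := flat_quotient_of_crit J I hJJ hmap'' hcrit
  refine ⟨I'', ⟨hflat'', hmap'', ?_⟩, ?_⟩
  · intro x hx x' x'' hx' hx'' e' e'' z hz
    exact hdiff I'' hmap'' (fun a ha => ha) x hx x' x'' hx' hx'' e' e'' z hz
  · rintro I₂ ⟨_, hmap₂, hd₂⟩
    have key : ∀ (I₃ I₄ : Ideal A'),
        I₃.map (Ideal.Quotient.mk (J.map (algebraMap C' A'))) = I →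
        I₄.map (Ideal.Quotient.mk (J.map (algebraMap C' A'))) = I →
        (∀ (x : (A' ⧸ J.map (algebraMap C' A'))) (hx : x ∈ I) (x' x'' : A'), x' ∈ I' → x'' ∈ I₃ →
          Ideal.Quotient.mk (J.map (algebraMap C' A')) x' = x →
          Ideal.Quotient.mk (J.map (algebraMap C' A')) x'' = x →
          ∀ z : A' ⊗[C'] ↥J, mulJ J A' z = x'' - x' →
            LinearMap.rTensor ↥J π.toLinearMap z = φ ⟨x, hx⟩) →
        (∀ (x : (A' ⧸ J.map (algebraMap C' A'))) (hx : x ∈ I) (x' x'' : A'), x' ∈ I' → x'' ∈ I₄ →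
          Ideal.Quotient.mk (J.map (algebraMap C' A')) x' = x →
          Ideal.Quotient.mk (J.map (algebraMap C' A')) x'' = x →
          ∀ z : A' ⊗[C'] ↥J, mulJ J A' z = x'' - x' →
            LinearMap.rTensor ↥J π.toLinearMap z = φ ⟨x, hx⟩) → I₃ ≤ I₄ := by
      intro I₃ I₄ h₃ h₄ d₃ d₄ a ha
      have hx : Ideal.Quotient.mk (J.map (algebraMap C' A')) a ∈ I :=
        h₃ ▸ Ideal.mem_map_of_mem _ ha
      have h1 : Ideal.Quotient.mk (J.map (algebraMap C' A')) a ∈
          I'.map (Ideal.Quotient.mk (J.map (algebraMap C' A'))) := hI' ▸ hx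
      have h2 : Ideal.Quotient.mk (J.map (algebraMap C' A')) a ∈
          I₄.map (Ideal.Quotient.mk (J.map (algebraMap C' A'))) := h₄ ▸ hx
      obtain ⟨x', hx', e'⟩ :=
        (Ideal.mem_map_iff_of_surjective _ Ideal.Quotient.mk_surjective).mp h1
      obtain ⟨a₄, ha₄, e₄⟩ :=
        (Ideal.mem_map_iff_of_surjective _ Ideal.Quotient.mk_surjective).mp h2
      have hk₁ : a - x' ∈ J.map (algebraMap C' A') := by rw [← Ideal.Quotient.eq, e']
      have hk₂ : a₄ - x' ∈ J.map (algebraMap C' A') := by rw [← Ideal.Quotient.eq, e', e₄]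
      obtain ⟨z₁, hz₁⟩ := exists_mulJ_eq J A' hk₁
      obtain ⟨z₂, hz₂⟩ := exists_mulJ_eq J A' hk₂
      have r₁ := d₃ _ hx x' a hx' ha e' rfl z₁ hz₁
      have r₂ := d₄ _ hx x' a₄ hx' ha₄ e' e₄ z₂ hz₂
      have hzero : LinearMap.rTensor ↥J π.toLinearMap (z₁ - z₂) = 0 := by
        rw [map_sub, r₁, r₂, sub_self]
      have hmem₄ := mulJ_mem_of_rTensor_pi J I hJJ h₄ (z₁ - z₂) hzero
      rw [map_sub, hz₁, hz₂] at hmem₄
      have : a = (a - x' - (a₄ - x')) + a₄ := by ring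
      rw [this]
      exact I₄.add_mem hmem₄ ha₄
    have d'' := hdiff I'' hmap'' (fun a ha => ha)
    exact le_antisymm (key I₂ I'' hmap₂ hmap'' hd₂ d'') (key I'' I₂ hmap'' hmap₂ d'' hd₂)

end Groth.Agent.S11465
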