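import Groth.Statements.S11466
import Groth.Agent.Lib.Helper94.ObsBound

set_option autoImplicit false
universe u
open DefT

namespace Groth.Agent.S11466


/-- Let P be a regular local k-algebra with residue field k, I ⊆ m_P² an ideal, and A = P/I. If A has an
obstruction theory whose obstruction space is a finite-dimensional k-vector space V (obstructions in
V ⊗ J attached to k-algebra maps A → C'/J for small extensions 0 → J → C' → C'/J → 0 of local
Artinian k-algebras with residue field k, vanishing exactly when the map lifts to C', and compatible
with passing to C'/K for ideals K ≤ J), then I is generated by at most dim_k V elements. (The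
published statement gives a natural injection of the dual of I/m_P·I into V; this row asserts the
resulting bound on the number of generators.) -/
theorem result (k : Type u) [Field k] (P : Type u) [CommRing P]
    [IsRegularLocalRing P] [Algebra k P]
    (hres : Function.Surjective (algebraMap k (IsLocalRing.ResidueField P)))
    (I : Ideal P) (hI : I ≤ IsLocalRing.maximalIdeal P ^ 2)
    (V : Type u) [AddCommGroup V] [Module k V] [Module.Finite k V]
    (T : W4bk4hartshdef114.ObsTheory k (P ⧸ I) V) :
    I.spanFinrank ≤ Module.finrank k V := by
  obtain ⟨s, hs, hcard⟩ := Groth.Agent.Lib.Helper94.ObsDim.exists_finset_of_w4 hres I hI V T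
  refine le_trans ?_ hcard
  rw [← hs]
  have h := Submodule.spanFinrank_span_le_ncard_of_finite (R := P) s.finite_toSet
  rwa [Set.ncard_coe_finset] at h


end Groth.Agent.S11466
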