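import Groth.Statements.S11469
import Mathlib
import Groth.Agent.Lib.Helper27.FlatLiftAut

set_option autoImplicit false
universe u
open scoped TensorProduct
open DefT

namespace Groth.Agent.S11469

open Groth.Agent.Lib.Helper27.FlatLift

/-- Let C' be a local Artin ring with maximal ideal m, J ⊊ C' a proper ideal with mJ = 0, A' a
C'-algebra, M' an A'-module flat over C', and M₀ = M'/mM'. Then (1) every A'-linear endomorphism σ
of M' that is the identity modulo JM' is bijective, and there is exactly one A'-linear τ : M₀ → M₀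
⊗_{C'} J such that, for all x ∈ M' and all z ∈ M' ⊗_{C'} J mapping to σ(x) − x in M', the image of z
in M₀ ⊗_{C'} J is τ applied to the class of x; and (2) every A'-linear τ : M₀ → M₀ ⊗_{C'} J comes in
this way from some such σ. Thus the automorphisms of the extension M' inducing the identity on
M'/JM' correspond to Hom(M₀, M₀ ⊗ J). -/
theorem result (C' : Type u) [CommRing C'] [IsLocalRing C']
    [IsArtinianRing C'] (J : Ideal C') (hJ : IsLocalRing.maximalIdeal C' * J = ⊥) (hJne : J ≠ ⊤)
    (A' : Type u) [CommRing A'] [Algebra C' A'] (M' : Type u) [AddCommGroup M'] [Module A' M'] [Module C' M']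
    [IsScalarTower C' A' M'] [Module.Flat C' M'] :
    (∀ σ : M' →ₗ[A'] M', (∀ x : M', σ x - x ∈ (J.map (algebraMap C' A')) • (⊤ : Submodule A' M')) →
      Function.Bijective σ ∧
        ∃! τ : (M' ⧸ ((IsLocalRing.maximalIdeal C').map (algebraMap C' A')) • (⊤ : Submodule A' M')) →ₗ[A'] ((M' ⧸ ((IsLocalRing.maximalIdeal C').map (algebraMap C' A')) • (⊤ : Submodule A' M')) ⊗[C'] ↥J),
          (∀ (x : M') (z : M' ⊗[C'] ↥J), TensorProduct.rid C' M' (LinearMap.lTensor M' (Submodule.subtype J) z) = σ x - x →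
            LinearMap.rTensor ↥J ((Submodule.mkQ (((IsLocalRing.maximalIdeal C').map (algebraMap C' A')) • (⊤ : Submodule A' M'))).restrictScalars C') z =
              τ (Submodule.mkQ _ x))) ∧
    (∀ τ : (M' ⧸ ((IsLocalRing.maximalIdeal C').map (algebraMap C' A')) • (⊤ : Submodule A' M')) →ₗ[A'] ((M' ⧸ ((IsLocalRing.maximalIdeal C').map (algebraMap C' A')) • (⊤ : Submodule A' M')) ⊗[C'] ↥J),
      ∃ σ : M' →ₗ[A'] M', (∀ x : M', σ x - x ∈ (J.map (algebraMap C' A')) • (⊤ : Submodule A' M')) ∧
          (∀ (x : M') (z : M' ⊗[C'] ↥J), TensorProduct.rid C' M' (LinearMap.lTensor M' (Submodule.subtype J) z) = σ x - x →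
            LinearMap.rTensor ↥J ((Submodule.mkQ (((IsLocalRing.maximalIdeal C').map (algebraMap C' A')) • (⊤ : Submodule A' M'))).restrictScalars C') z =
              τ (Submodule.mkQ _ x))) := by
  have hle : J ≤ IsLocalRing.maximalIdeal C' := IsLocalRing.le_maximalIdeal hJne
  set 𝔪 := IsLocalRing.maximalIdeal C' with h𝔪
  set N := (𝔪.map (algebraMap C' A')) • (⊤ : Submodule A' M') with hN
  have hJN : (J.map (algebraMap C' A')) • (⊤ : Submodule A' M') ≤ N :=
    Submodule.smul_mono_left (Ideal.map_mono hle)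
  have hμinj : Function.Injective (mulJ J M') := mulJ_injective J M'
  have hr : Function.Bijective (redJ J A' M' 𝔪) := redJ_bijective J M' 𝔪 hJ
  have hkillN : ∀ (δ : M' →ₗ[A'] M'),
      (∀ x, δ x ∈ (J.map (algebraMap C' A')) • (⊤ : Submodule A' M')) → ∀ n ∈ N, δ n = 0 := by
    intro δ hδ n hn
    refine Submodule.smul_induction_on hn ?_ ?_
    · intro a ha m _
      obtain ⟨z, hz⟩ := exists_mulJ_eq_of_mem J M' (hδ m)
      rw [map_smul, ← hz, ← mulJ_smul', smul_eq_zero_of_mem J M' 𝔪 hJ ha, map_zero]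
    · intro x y hx hy
      rw [map_add, hx, hy, add_zero]
  constructor
  · intro σ hσ
    let δ : M' →ₗ[A'] M' := σ - LinearMap.id
    have hδ : ∀ x, δ x ∈ (J.map (algebraMap C' A')) • (⊤ : Submodule A' M') := fun x => hσ x
    have hδN : ∀ n ∈ N, δ n = 0 := hkillN δ hδ
    have hδδ : ∀ x, δ (δ x) = 0 := fun x => hδN _ (hJN (hδ x))
    have hσδ : ∀ x, σ x = x + δ x := fun x => by
      change σ x = x + (σ x - x)
      abel
    refine ⟨?_, ?_⟩
    · constructor
      · rw [injective_iff_map_eq_zero]
        intro x hx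
        have h1 : x = - δ x := by
          have := hσδ x
          rw [hx] at this
          exact eq_neg_of_add_eq_zero_left this.symm
        have h2 : δ x = 0 := by
          have := congrArg δ h1
          rw [map_neg, hδδ, neg_zero] at this
          exact this
        rw [h1, h2, neg_zero]
      · intro y
        refine ⟨y - δ y, ?_⟩
        rw [hσδ, map_sub, hδδ]
        abel
    · let e : (M' ⊗[C'] ↥J) ≃ₗ[A']
          ↥((J.map (algebraMap C' A')) • (⊤ : Submodule A' M')) :=
        LinearEquiv.ofBijective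
          ((mulJA J A' M').codRestrict _ (fun z => mulJ_mem_map_smul_top J M' z))
          ⟨fun x y hxy => hμinj (congrArg Subtype.val hxy),
            fun y => by
              obtain ⟨z, hz⟩ := exists_mulJ_eq_of_mem J M' y.2
              exact ⟨z, Subtype.ext hz⟩⟩
      have he : ∀ z, ((e z : ↥((J.map (algebraMap C' A')) • (⊤ : Submodule A' M'))) : M')
          = mulJ J M' z := fun z => rfl
      let T : M' →ₗ[A'] (M' ⧸ N) ⊗[C'] ↥J :=
        (redJ J A' M' 𝔪) ∘ₗ e.symm.toLinearMap ∘ₗ (δ.codRestrict _ hδ)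
      have hT : ∀ x z, mulJ J M' z = δ x → T x = redJ J A' M' 𝔪 z := by
        intro x z hz
        change redJ J A' M' 𝔪 (e.symm (δ.codRestrict _ hδ x)) = _
        congr 1
        rw [LinearEquiv.symm_apply_eq]
        exact Subtype.ext hz.symm
      have hTN : N ≤ LinearMap.ker T := by
        intro n hn
        rw [LinearMap.mem_ker]
        have := hT n 0 (by rw [map_zero, hδN n hn])
        rw [this, map_zero]
      refine ⟨N.liftQ T hTN, ?_, ?_⟩
      · intro x z hz
        rw [Submodule.mkQ_apply, Submodule.liftQ_apply]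
        exact (hT x z hz).symm
      · intro τ' hτ'
        apply LinearMap.ext
        intro y
        obtain ⟨x, rfl⟩ := Submodule.mkQ_surjective N y
        obtain ⟨z, hz⟩ := exists_mulJ_eq_of_mem J M' (hδ x)
        rw [Submodule.mkQ_apply, Submodule.liftQ_apply, hT x z hz]
        exact (hτ' x z hz).symm
  · intro τ
    let re : (M' ⊗[C'] ↥J) ≃ₗ[A'] (M' ⧸ N) ⊗[C'] ↥J := LinearEquiv.ofBijective _ hr
    let δ : M' →ₗ[A'] M' := (mulJA J A' M') ∘ₗ re.symm.toLinearMap ∘ₗ τ ∘ₗ N.mkQ
    have hδ : ∀ x, δ x = mulJ J M' (re.symm (τ (N.mkQ x))) := fun x => rfl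
    refine ⟨LinearMap.id + δ, ?_, ?_⟩
    · intro x
      rw [LinearMap.add_apply, LinearMap.id_apply, add_sub_cancel_left, hδ]
      exact mulJ_mem_map_smul_top J M' _
    · intro x z hz
      rw [LinearMap.add_apply, LinearMap.id_apply, add_sub_cancel_left, hδ] at hz
      have hz' : z = re.symm (τ (N.mkQ x)) := hμinj hz
      have : re z = τ (N.mkQ x) := by rw [hz', LinearEquiv.apply_symm_apply]
      exact this

end Groth.Agent.S11469
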