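import Groth.Statements.S9432
import Groth.Agent.Lib.Helper15.QFCover

set_option autoImplicit false
universe u
open CAlg
open CategoryTheory AlgebraicGeometry

namespace Groth.Agent.S9432

/-- For a faithfully flat ring map R → S of finite presentation there is a quasi-finite (of finite type
with finite fibres), faithfully flat, finitely presented R-algebra S' together with an R-algebra map
S → S'. -/
theorem result (R : Type u) [CommRing R]
    (S : Type u) [CommRing S] [Algebra R S] [Module.FaithfullyFlat R S]
    [Algebra.FinitePresentation R S] :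
    ∃ (S' : Type u) (_ : CommRing S') (_ : Algebra R S'),
      Algebra.QuasiFinite R S' ∧ Algebra.FiniteType R S' ∧ Module.FaithfullyFlat R S' ∧
        Algebra.FinitePresentation R S' ∧ Nonempty (S →ₐ[R] S') := by
  classical
  let alg : CommRingCat.of R ⟶ CommRingCat.of S := CommRingCat.ofHom (algebraMap R S)
  let f : Spec (CommRingCat.of S) ⟶ Spec (CommRingCat.of R) := Spec.map alg
  have hff : alg.hom.FaithfullyFlat := by
    show (algebraMap R S).FaithfullyFlat
    rw [RingHom.faithfullyFlat_algebraMap_iff]
    infer_instance
  have hfs := (flat_and_surjective_SpecMap_iff alg).2 hff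
  haveI : Flat f := hfs.1
  haveI : Surjective f := hfs.2
  haveI : LocallyOfFinitePresentation f := by
    rw [HasRingHomProperty.Spec_iff (P := @LocallyOfFinitePresentation)]
    show (algebraMap R S).FinitePresentation
    rw [RingHom.finitePresentation_algebraMap]
    infer_instance
  obtain ⟨T, h, hT, hfl, hfp, hqf, hsurj⟩ :=
    Groth.Agent.Lib.Helper15.QFCover.exists_affine_qf_cover f
  let B : CommRingCat.{u} := Γ(T, ⊤)
  let φ : CommRingCat.of R ⟶ B := Spec.preimage (T.isoSpec.inv ≫ h ≫ f)
  let ψ : CommRingCat.of S ⟶ B := Spec.preimage (T.isoSpec.inv ≫ h)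
  have hφ : Spec.map φ = T.isoSpec.inv ≫ h ≫ f := Spec.map_preimage _
  have hψ : Spec.map ψ = T.isoSpec.inv ≫ h := Spec.map_preimage _
  have hcomp : alg ≫ ψ = φ := by
    apply Spec.map_injective
    rw [Spec.map_comp, hφ, hψ, Category.assoc]
  have h1 : Flat (Spec.map φ) := by rw [hφ]; infer_instance
  have h2 : LocallyOfFinitePresentation (Spec.map φ) := by rw [hφ]; infer_instance
  have h3 : LocallyQuasiFinite (Spec.map φ) := by rw [hφ]; infer_instance
  have h4 : Surjective (Spec.map φ) := by rw [hφ]; infer_instance
  have hFF : φ.hom.FaithfullyFlat := (flat_and_surjective_SpecMap_iff φ).1 ⟨h1, h4⟩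
  have hFP : φ.hom.FinitePresentation :=
    (HasRingHomProperty.Spec_iff (P := @LocallyOfFinitePresentation)).1 h2
  have hQF : φ.hom.QuasiFinite :=
    (HasRingHomProperty.Spec_iff (P := @LocallyQuasiFinite)).1 h3
  letI : Algebra R B := φ.hom.toAlgebra
  have hFP' : Algebra.FinitePresentation R B := hFP
  refine ⟨B, inferInstance, φ.hom.toAlgebra, hQF, ?_, hFF, hFP', ⟨?_⟩⟩
  · exact Algebra.FiniteType.of_finitePresentation
  · exact
      { ψ.hom with
        commutes' := fun r => by
          have := congrArg (fun g => g.hom r) hcomp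
          exact this }

end Groth.Agent.S9432
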