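import Groth.Statements.S1147
import Groth.Agent.Lib.Helper63.JacDesc
import Groth.Agent.S9432

set_option autoImplicit false
universe u
open Desc

namespace Groth.Agent.S1147

/-- Let A → B be a faithfully flat ring map of finite presentation. If B is a Jacobson ring then so is
A. (This is the affine descent direction of the statement that the Jacobson property is fppf local.) -/
theorem result (A B : Type u) [CommRing A] [CommRing B] [Algebra A B]
    [Module.FaithfullyFlat A B] [Algebra.FinitePresentation A B] [IsJacobsonRing B] : IsJacobsonRing A := by
  obtain ⟨S', _, _, hqf, hft, hff, hfp, ⟨φ⟩⟩ := Groth.Agent.S9432.result A B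
  let _ : Algebra B S' := φ.toRingHom.toAlgebra
  have hst : IsScalarTower A B S' := IsScalarTower.of_algebraMap_eq (fun a => (φ.commutes a).symm)
  have hft' : Algebra.FiniteType B S' := Algebra.FiniteType.of_restrictScalars_finiteType A B S'
  have hJ : IsJacobsonRing S' := isJacobsonRing_of_finiteType (A := B)
  exact Groth.Agent.Lib.Helper63.JacDesc.isJacobsonRing_of_quasiFinite_faithfullyFlat A S'

end Groth.Agent.S1147
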