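import Groth.Statements.S11470
import Mathlib

set_option autoImplicit false
universe u
open Curves

namespace Groth.Agent.S11470

open Polynomial

section general
variable {k : Type*} [Field k] {K : Type*} [Field K] [Algebra k K]

theorem aeval_inv_mul_pow (x : K) (hx : x ≠ 0) (N : ℕ) (f : k[X]) (hf : f.natDegree ≤ N) :
    aeval x⁻¹ f * x ^ N = aeval x (reflect N f) := by
  let _ : Invertible x := invertibleOfNonzero hx
  have h1 : (reflect N f).natDegree ≤ N := by
    refine le_trans natDegree_reflect_le ?_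
    simp [hf]
  have := eval₂_reflect_mul_pow (algebraMap k K) x N (reflect N f) h1
  rw [reflect_reflect, invOf_eq_inv] at this
  exact this

theorem eval_one_reflect (N : ℕ) (f : k[X]) (hf : f.natDegree ≤ N) :
    (reflect N f).eval 1 = f.eval 1 := by
  have := aeval_inv_mul_pow (k := k) (K := k) (1 : k) one_ne_zero N f hf
  simp only [inv_one, one_pow, mul_one] at this
  simpa [Polynomial.coe_aeval_eq_eval] using this.symm

theorem reflect_lemma (x : K) (htr : Transcendental k x) (P : k[X]) (M : ℕ) (ε : k) (hε : ε ≠ 0)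
    (h : aeval x⁻¹ P * x ^ M * algebraMap k K ε = aeval x P) :
    P.natDegree ≤ M ∧ C ε * reflect M P = P := by
  have hinj : Function.Injective (aeval (R := k) x) := transcendental_iff_injective.mp htr
  have hx : x ≠ 0 := by
    intro h0
    have : aeval (R := k) x X = aeval (R := k) x 0 := by simp [h0]
    exact X_ne_zero (hinj this)
  set N := max P.natDegree M with hN
  have h1 := aeval_inv_mul_pow x hx N P (le_max_left _ _)
  have hNM : N = M + (N - M) := by
    have : M ≤ N := le_max_right _ _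
    omega
  have h2 : aeval x (C ε * reflect N P) = aeval x (P * X ^ (N - M)) := by
    rw [map_mul, map_mul, aeval_C, ← h1, map_pow, aeval_X, ← h]
    conv_lhs => rw [hNM, pow_add]
    ring
  have h3 := hinj h2
  by_cases hlt : M < P.natDegree
  · exfalso
    have hNP : N = P.natDegree := max_eq_left hlt.le
    have hP0 : P ≠ 0 := by
      rintro rfl
      simp at hlt
    have h4 := congrArg (fun q => coeff q 0) h3
    simp only [coeff_C_mul, coeff_reflect, revAt_zero] at h4
    rw [coeff_mul_X_pow', if_neg (by omega), hNP, coeff_natDegree] at h4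
    exact (mul_ne_zero hε (leadingCoeff_ne_zero.mpr hP0)) h4
  · push Not at hlt
    have hNM' : N = M := max_eq_right hlt
    rw [hNM', Nat.sub_self, pow_zero, mul_one] at h3
    exact ⟨hlt, h3⟩

end general

section specific
variable (k : Type u) [Field k]

local notation "𝕩" => (RatFunc.X : RatFunc k)

/-- the j-function -/
noncomputable def jj : RatFunc k :=
  (256 : RatFunc k) * ((RatFunc.X : RatFunc k) ^ 2 - RatFunc.X + 1) ^ 3 /
        ((RatFunc.X : RatFunc k) ^ 2 * ((RatFunc.X : RatFunc k) - 1) ^ 2)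

theorem X_sub_one_ne_zero : (𝕩 - 1) ≠ 0 := by
  have h : (𝕩 - 1) = algebraMap k[X] (RatFunc k) (X - C 1) := by
    simp [RatFunc.algebraMap_X]
  rw [h]
  exact RatFunc.algebraMap_ne_zero (X_sub_C_ne_zero 1)

variable {k}

theorem sigma_jj (σ : RatFunc k ≃ₐ[k] RatFunc k) (hσ : σ RatFunc.X = (RatFunc.X : RatFunc k)⁻¹) :
    σ (jj k) = jj k := by
  have hx : 𝕩 ≠ 0 := RatFunc.X_ne_zero
  have hx1 : (𝕩 - 1) ≠ 0 := X_sub_one_ne_zero k
  have hx2 : (1 - 𝕩) ≠ 0 := by
    intro h; apply hx1; linear_combination -h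
  unfold jj
  simp only [map_div₀, map_mul, map_pow, map_sub, map_add, map_one, map_ofNat, hσ]
  field_simp
  ring

theorem tau_jj (τ : RatFunc k ≃ₐ[k] RatFunc k) (hτ : τ RatFunc.X = 1 - (RatFunc.X : RatFunc k)) :
    τ (jj k) = jj k := by
  unfold jj
  simp only [map_div₀, map_mul, map_pow, map_sub, map_add, map_one, map_ofNat, hτ]
  ring

end specific

section specific2
variable (k : Type u) [Field k]

local notation "𝕩" => (RatFunc.X : RatFunc k)

noncomputable def ss : RatFunc k := 𝕩 * (𝕩 - 1)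
noncomputable def SS : k[X] := X * (X - 1)
noncomputable def UU : k[X] := X ^ 2 - X + 1

theorem aeval_SS : aeval 𝕩 (SS k) = ss k := by simp [SS, ss]

theorem ss_ne_zero : ss k ≠ 0 := mul_ne_zero RatFunc.X_ne_zero (X_sub_one_ne_zero k)

theorem aeval_injective : Function.Injective (aeval (R := k) 𝕩) :=
  transcendental_iff_injective.mp RatFunc.transcendental_X

theorem jj_mul : jj k * ss k ^ 2 = 256 * aeval 𝕩 (UU k) ^ 3 := by
  have hx : 𝕩 ≠ 0 := RatFunc.X_ne_zero
  have hx1 : (𝕩 - 1) ≠ 0 := X_sub_one_ne_zero k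
  simp only [jj, ss, UU, map_add, map_sub, map_pow, aeval_X, map_one]
  field_simp

theorem UU_monic : (UU k).Monic := by
  unfold UU
  monicity!

theorem UU_natDegree : (UU k).natDegree = 2 := by
  unfold UU
  compute_degree!

variable {k}

theorem repr_of_mem (b : RatFunc k)
    (hb : b ∈ Algebra.adjoin k ({𝕩, 𝕩⁻¹, (𝕩 - 1)⁻¹} : Set (RatFunc k))) :
    ∃ (P : k[X]) (m : ℕ), b * (ss k) ^ m = aeval 𝕩 P := by
  have hx : 𝕩 ≠ 0 := RatFunc.X_ne_zero
  have hx1 : (𝕩 - 1) ≠ 0 := X_sub_one_ne_zero k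
  induction hb using Algebra.adjoin_induction with
  | mem y hy =>
    rcases hy with rfl | rfl | rfl
    · exact ⟨X, 0, by simp⟩
    · refine ⟨X - 1, 1, ?_⟩
      simp only [ss, pow_one, map_sub, aeval_X, map_one]
      field_simp
    · refine ⟨X, 1, ?_⟩
      simp only [ss, pow_one, aeval_X]
      field_simp
  | algebraMap c => exact ⟨C c, 0, by simp⟩
  | add y z _ _ hy hz =>
    obtain ⟨P, m, hP⟩ := hy
    obtain ⟨Q, n, hQ⟩ := hz
    refine ⟨P * SS k ^ n + Q * SS k ^ m, m + n, ?_⟩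
    simp only [map_add, map_mul, map_pow, aeval_SS, ← hP, ← hQ]
    ring
  | mul y z _ _ hy hz =>
    obtain ⟨P, m, hP⟩ := hy
    obtain ⟨Q, n, hQ⟩ := hz
    refine ⟨P * Q, m + n, ?_⟩
    rw [map_mul, ← hP, ← hQ]; ring

theorem tau_poly (τ : RatFunc k ≃ₐ[k] RatFunc k) (hτ : τ RatFunc.X = 1 - (RatFunc.X : RatFunc k))
    (b : RatFunc k) (P : k[X]) (m : ℕ) (hb : b * ss k ^ m = aeval 𝕩 P) (hτb : τ b = b) :
    P.comp (1 - X) = P := by
  apply aeval_injective k
  have hs : τ (ss k) = ss k := by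
    simp only [ss, map_mul, map_sub, map_one, hτ]; ring
  have h1 := congrArg τ hb
  rw [map_mul, map_pow, hτb, hs, hb] at h1
  have h2 : τ (aeval 𝕩 P) = aeval (1 - 𝕩) P := by
    rw [← hτ]
    exact (Polynomial.aeval_algHom_apply (τ : RatFunc k →ₐ[k] RatFunc k) 𝕩 P).symm
  rw [aeval_comp]
  simp only [map_sub, map_one, aeval_X]
  rw [← h2, ← h1]

theorem sigma_poly (σ : RatFunc k ≃ₐ[k] RatFunc k) (hσ : σ RatFunc.X = (RatFunc.X : RatFunc k)⁻¹)
    (b : RatFunc k) (P : k[X]) (m : ℕ) (hb : b * ss k ^ m = aeval 𝕩 P) (hσb : σ b = b) :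
    P.natDegree ≤ 3 * m ∧ C ((-1 : k) ^ m) * reflect (3 * m) P = P := by
  have hx : 𝕩 ≠ 0 := RatFunc.X_ne_zero
  have hx1 : (𝕩 - 1) ≠ 0 := X_sub_one_ne_zero k
  apply reflect_lemma 𝕩 RatFunc.transcendental_X P (3 * m) ((-1) ^ m) (pow_ne_zero _ (by simp))
  have hs : σ (ss k) * 𝕩 ^ 3 * (-1) = ss k := by
    simp only [ss, map_mul, map_sub, map_one, hσ]
    field_simp
    ring
  have h1 := congrArg σ hb
  rw [map_mul, map_pow, hσb] at h1
  have h2 : σ (aeval 𝕩 P) = aeval 𝕩⁻¹ P := by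
    rw [← hσ]
    exact (Polynomial.aeval_algHom_apply (σ : RatFunc k →ₐ[k] RatFunc k) 𝕩 P).symm
  rw [← h2, ← h1, ← hb, map_pow, map_neg, map_one, pow_mul]
  conv_rhs => rw [← hs]
  ring

end specific2

section mainproof
variable {k : Type u} [Field k]

local notation "𝕩" => (RatFunc.X : RatFunc k)

theorem main_induction (h2 : (2 : k) ≠ 0)
    (σ τ : RatFunc k ≃ₐ[k] RatFunc k) (hσ : σ RatFunc.X = (RatFunc.X : RatFunc k)⁻¹)
    (hτ : τ RatFunc.X = 1 - (RatFunc.X : RatFunc k)) :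
    ∀ (m : ℕ) (b : RatFunc k) (P : k[X]), b * ss k ^ m = aeval 𝕩 P → σ b = b → τ b = b →
      b ∈ Algebra.adjoin k ({jj k} : Set (RatFunc k)) := by
  intro m
  induction m with
  | zero =>
    intro b P hb hσb hτb
    obtain ⟨hdeg, -⟩ := sigma_poly σ hσ b P 0 hb hσb
    have hP : P = C (coeff P 0) := eq_C_of_natDegree_le_zero (by simpa using hdeg)
    rw [pow_zero, mul_one, hP, aeval_C] at hb
    rw [hb]
    exact Subalgebra.algebraMap_mem _ _
  | succ m ih =>
    have claim : ∀ (b : RatFunc k) (P : k[X]), b * ss k ^ (m + 1) = aeval 𝕩 P → σ b = b →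
        τ b = b → P.eval 1 = 0 → b ∈ Algebra.adjoin k ({jj k} : Set (RatFunc k)) := by
      intro b P hb hσb hτb h1
      have hτP := tau_poly τ hτ b P (m + 1) hb hτb
      have h0 : P.eval 0 = 0 := by
        rw [← hτP, eval_comp]
        simpa using h1
      have hX : (X - C (0 : k)) ∣ P := dvd_iff_isRoot.mpr h0
      obtain ⟨Q, hQ⟩ := hX
      have hQ1 : Q.eval 1 = 0 := by
        rw [hQ] at h1
        simpa using h1
      obtain ⟨Q', hQ'⟩ := dvd_iff_isRoot.mpr (show IsRoot Q 1 from hQ1)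
      have hP : P = SS k * Q' := by
        rw [hQ, hQ', SS]; simp; ring
      rw [hP, map_mul, aeval_SS, pow_succ, ← mul_assoc, mul_comm _ (ss k)] at hb
      have hb' := mul_left_cancel₀ (ss_ne_zero k) hb
      exact ih b Q' hb' hσb hτb
    intro b P hb hσb hτb
    obtain ⟨hdeg, hrefl⟩ := sigma_poly σ hσ b P (m + 1) hb hσb
    rcases Nat.even_or_odd (m + 1) with he | ho
    · obtain ⟨r, hr⟩ := he
      set c := coeff P (3 * (m + 1)) with hc
      have h256 : (256 : k) ≠ 0 := by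
        have : (256 : k) = 2 ^ 8 := by norm_num
        rw [this]; exact pow_ne_zero _ h2
      set P'' := P - C c * UU k ^ (3 * r) with hP''
      set b' := b - algebraMap k (RatFunc k) (c / 256 ^ r) * jj k ^ r with hb'def
      have hjr : jj k ^ r * ss k ^ (m + 1) = 256 ^ r * aeval 𝕩 (UU k) ^ (3 * r) := by
        rw [hr, ← two_mul, pow_mul, ← mul_pow, jj_mul, mul_pow, ← pow_mul]
      have hb' : b' * ss k ^ (m + 1) = aeval 𝕩 P'' := by
        rw [hb'def, sub_mul, hb, mul_assoc, hjr, hP'', map_sub, map_mul, aeval_C, map_pow,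
          map_div₀, map_pow, map_ofNat]
        have : (256 : RatFunc k) ≠ 0 := by
          rw [← map_ofNat (algebraMap k (RatFunc k)) 256]
          exact (_root_.map_ne_zero _).mpr h256
        field_simp
      have hσb' : σ b' = b' := by
        rw [hb'def, map_sub, map_mul, map_pow, sigma_jj σ hσ, AlgEquiv.commutes, hσb]
      have hτb' : τ b' = b' := by
        rw [hb'def, map_sub, map_mul, map_pow, tau_jj τ hτ, AlgEquiv.commutes, hτb]
      obtain ⟨hdeg'', hrefl''⟩ := sigma_poly σ hσ b' P'' (m + 1) hb' hσb'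
      have hUpow : coeff (UU k ^ (3 * r)) (3 * (m + 1)) = 1 := by
        have hm : ((UU k) ^ (3 * r)).Monic := (UU_monic k).pow _
        have hd : ((UU k) ^ (3 * r)).natDegree = 3 * (m + 1) := by
          rw [(UU_monic k).natDegree_pow, UU_natDegree, hr]; ring
        rw [← hd]
        exact hm.coeff_natDegree
      have hcM : coeff P'' (3 * (m + 1)) = 0 := by
        rw [hP'', coeff_sub, coeff_C_mul, hUpow, mul_one, hc, sub_self]
      have hc0 : coeff P'' 0 = 0 := by
        rw [← hrefl'', coeff_C_mul, coeff_reflect, revAt_zero, hcM, mul_zero]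
      have hτP'' := tau_poly τ hτ b' P'' (m + 1) hb' hτb'
      have h1 : P''.eval 1 = 0 := by
        have : P''.eval 0 = 0 := by rw [← coeff_zero_eq_eval_zero]; exact hc0
        rw [← hτP'', eval_comp] at this
        simpa using this
      have hmem := claim b' P'' hb' hσb' hτb' h1
      have : b = b' + algebraMap k (RatFunc k) (c / 256 ^ r) * jj k ^ r := by
        rw [hb'def]; ring
      have hj : jj k ∈ Algebra.adjoin k ({jj k} : Set (RatFunc k)) :=
        Algebra.subset_adjoin (Set.mem_singleton _)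
      have hj2 : algebraMap k (RatFunc k) (c / 256 ^ r) * jj k ^ r ∈
          Algebra.adjoin k ({jj k} : Set (RatFunc k)) :=
        Subalgebra.mul_mem _ (Subalgebra.algebraMap_mem _ _) (Subalgebra.pow_mem _ hj _)
      have hfin := Subalgebra.add_mem _ hmem hj2
      rw [← this] at hfin
      exact hfin
    · have hε : (-1 : k) ^ (m + 1) = -1 := ho.neg_one_pow
      rw [hε] at hrefl
      have h1 : P.eval 1 = 0 := by
        have h := congrArg (fun q => eval 1 q) hrefl
        simp only [eval_mul, eval_C, eval_one_reflect _ P hdeg] at h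
        have : (2 : k) * P.eval 1 = 0 := by linear_combination -h
        exact (mul_eq_zero.mp this).resolve_left h2
      exact claim b P hb hσb hτb h1

end mainproof

section final
variable {k : Type u} [Field k]

local notation "𝕩" => (RatFunc.X : RatFunc k)

theorem jj_mem : jj k ∈ Algebra.adjoin k ({𝕩, 𝕩⁻¹, (𝕩 - 1)⁻¹} : Set (RatFunc k)) := by
  have hx : 𝕩 ≠ 0 := RatFunc.X_ne_zero
  have hx1 : (𝕩 - 1) ≠ 0 := X_sub_one_ne_zero k
  have h1 : 𝕩 ∈ Algebra.adjoin k ({𝕩, 𝕩⁻¹, (𝕩 - 1)⁻¹} : Set (RatFunc k)) :=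
    Algebra.subset_adjoin (by simp)
  have h2 : 𝕩⁻¹ ∈ Algebra.adjoin k ({𝕩, 𝕩⁻¹, (𝕩 - 1)⁻¹} : Set (RatFunc k)) :=
    Algebra.subset_adjoin (by simp)
  have h3 : (𝕩 - 1)⁻¹ ∈ Algebra.adjoin k ({𝕩, 𝕩⁻¹, (𝕩 - 1)⁻¹} : Set (RatFunc k)) :=
    Algebra.subset_adjoin (by simp)
  have h256 : (256 : RatFunc k) ∈ Algebra.adjoin k ({𝕩, 𝕩⁻¹, (𝕩 - 1)⁻¹} : Set (RatFunc k)) := by
    rw [← map_ofNat (algebraMap k (RatFunc k)) 256]
    exact Subalgebra.algebraMap_mem _ _
  have hj : jj k = 256 * (𝕩 ^ 2 - 𝕩 + 1) ^ 3 * (𝕩⁻¹ ^ 2 * (𝕩 - 1)⁻¹ ^ 2) := by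
    unfold jj
    field_simp
  rw [hj]
  refine Subalgebra.mul_mem _ (Subalgebra.mul_mem _ h256 (Subalgebra.pow_mem _ ?_ _))
    (Subalgebra.mul_mem _ (Subalgebra.pow_mem _ h2 _) (Subalgebra.pow_mem _ h3 _))
  exact Subalgebra.add_mem _ (Subalgebra.sub_mem _ (Subalgebra.pow_mem _ h1 _) h1)
    (Subalgebra.one_mem _)

theorem final (h2 : (2 : k) ≠ 0)
    (σ τ : RatFunc k ≃ₐ[k] RatFunc k) (hσ : σ RatFunc.X = (RatFunc.X : RatFunc k)⁻¹)
    (hτ : τ RatFunc.X = 1 - (RatFunc.X : RatFunc k)) (b : RatFunc k) :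
    (b ∈ Algebra.adjoin k ({𝕩, 𝕩⁻¹, (𝕩 - 1)⁻¹} : Set (RatFunc k)) ∧ σ b = b ∧ τ b = b) ↔
      b ∈ Algebra.adjoin k ({jj k} : Set (RatFunc k)) := by
  constructor
  · rintro ⟨hb, hσb, hτb⟩
    obtain ⟨P, m, hP⟩ := repr_of_mem b hb
    exact main_induction h2 σ τ hσ hτ m b P hP hσb hτb
  · intro hb
    induction hb using Algebra.adjoin_induction with
    | mem y hy =>
      rw [Set.mem_singleton_iff] at hy
      subst hy
      exact ⟨jj_mem, sigma_jj σ hσ, tau_jj τ hτ⟩
    | algebraMap c =>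
      exact ⟨Subalgebra.algebraMap_mem _ _, AlgEquiv.commutes _ _, AlgEquiv.commutes _ _⟩
    | add y z _ _ hy hz =>
      exact ⟨Subalgebra.add_mem _ hy.1 hz.1, by rw [map_add, hy.2.1, hz.2.1],
        by rw [map_add, hy.2.2, hz.2.2]⟩
    | mul y z _ _ hy hz =>
      exact ⟨Subalgebra.mul_mem _ hy.1 hz.1, by rw [map_mul, hy.2.1, hz.2.1],
        by rw [map_mul, hy.2.2, hz.2.2]⟩

end final

/-- The algebraic step of its proof: Fix an algebraically closed field k whose characteristic is neither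
2 nor 3, let B ⊆ k(λ) be the k-subalgebra generated by λ, λ⁻¹ and (λ - 1)⁻¹ (the coordinate ring of
the λ-line with 0 and 1 removed), and let σ and τ be the k-algebra automorphisms of k(λ) determined
by σ(λ) = λ⁻¹ and τ(λ) = 1 - λ (they generate the group of order six permuting λ, 1/λ, 1-λ, 1/(1-λ),
λ/(λ-1), (λ-1)/λ). Then the elements of B fixed by σ and τ are exactly the elements of the
k-subalgebra generated by j = 256 (λ² - λ + 1)³ / (λ² (λ - 1)²); in other words the ring of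
invariants of B is the polynomial ring k[j]. -/
theorem result (k : Type u) [Field k] [IsAlgClosed k]
    (h2 : (2 : k) ≠ 0) (h3 : (3 : k) ≠ 0)
    (σ τ : RatFunc k ≃ₐ[k] RatFunc k) (hσ : σ RatFunc.X = (RatFunc.X : RatFunc k)⁻¹)
    (hτ : τ RatFunc.X = 1 - (RatFunc.X : RatFunc k)) (b : RatFunc k) :
    (b ∈ Algebra.adjoin k ({RatFunc.X, (RatFunc.X : RatFunc k)⁻¹, ((RatFunc.X : RatFunc k) - 1)⁻¹} : Set (RatFunc k)) ∧
        σ b = b ∧ τ b = b) ↔
      b ∈ Algebra.adjoin k ({(256 : RatFunc k) * ((RatFunc.X : RatFunc k) ^ 2 - RatFunc.X + 1) ^ 3 /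
        ((RatFunc.X : RatFunc k) ^ 2 * ((RatFunc.X : RatFunc k) - 1) ^ 2)} : Set (RatFunc k)) := by
  exact final h2 σ τ hσ hτ b

end Groth.Agent.S11470
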