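import Groth.Statements.S15797
import Mathlib
import Groth.Agent.Lib.Helper77.RegularCM
import Groth.Agent.Lib.Helper67.CM
-- import your own Groth.Agent.* helpers here

set_option autoImplicit false
universe u v
open WildQuot

namespace Groth.Agent.S15797
open RingTheory.Sequence

/-- In a regular local ring of dimension `m+1`, if `y_0..y_m ∈ m` generate an ideal whose only prime
divisor is `m`, each `y_k` is regular modulo the others. -/
theorem regular_of_primary (A : Type u) [CommRing A] [IsRegularLocalRing A] (m : ℕ)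
    (hn : ringKrullDim A = ((m + 1 : ℕ) : WithBot ℕ∞)) (y : Fin (m + 1) → A)
    (hy : ∀ i, y i ∈ IsLocalRing.maximalIdeal A)
    (hprim : ∀ P : Ideal A, P.IsPrime → Ideal.span (Set.range y) ≤ P →
      P = IsLocalRing.maximalIdeal A)
    (k : Fin (m + 1)) (x : A)
    (hx : y k * x ∈ Ideal.span (Set.range (y ∘ k.succAbove))) :
    x ∈ Ideal.span (Set.range (y ∘ k.succAbove)) := by
  set L' : List A := List.ofFn (y ∘ k.succAbove) with hL'
  have hL'span : Ideal.ofList L' = Ideal.span (Set.range (y ∘ k.succAbove)) := by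
    have : {r | r ∈ L'} = Set.range (y ∘ k.succAbove) := by
      ext r
      simp [hL', List.mem_ofFn]
    change Ideal.span {r | r ∈ L'} = _
    rw [this]
  set L : List A := L' ++ [y k] with hL
  have hLspan : Ideal.ofList L = Ideal.span (Set.range y) := by
    rw [hL, Ideal.ofList_append, Ideal.ofList_singleton, hL'span]
    apply le_antisymm
    · rw [sup_le_iff]
      constructor
      · apply Ideal.span_mono
        rintro _ ⟨j, rfl⟩
        exact ⟨_, rfl⟩
      · rw [Ideal.span_le, Set.singleton_subset_iff]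
        exact Ideal.subset_span ⟨k, rfl⟩
    · rw [Ideal.span_le]
      rintro _ ⟨i, rfl⟩
      by_cases hik : i = k
      · subst hik
        exact Ideal.mem_sup_right (Ideal.subset_span rfl)
      · obtain ⟨j, rfl⟩ := Fin.exists_succAbove_eq hik
        exact Ideal.mem_sup_left (Ideal.subset_span ⟨j, rfl⟩)
  have hLlen : L.length = m + 1 := by simp [hL, hL']
  have hLmem : ∀ r ∈ L, r ∈ IsLocalRing.maximalIdeal A := by
    intro r hr
    rw [hL, List.mem_append, List.mem_singleton] at hr
    rcases hr with hr | rfl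
    · rw [hL', List.mem_ofFn] at hr
      obtain ⟨j, rfl⟩ := hr
      exact hy _
    · exact hy k
  have hCM : LocCoh.IsCohenMacaulayModule A A :=
    (Groth.Agent.Lib.Helper77.RegularCM.isCohenMacaulayLocalRing A).supportDim_eq_depth
  have hdimA : Module.supportDim A A = ((m + 1 : ℕ) : WithBot ℕ∞) := by
    rw [Module.supportDim_self_eq_ringKrullDim, hn]
  have hle : Module.supportDim A (A ⧸ Ideal.ofList L • (⊤ : Submodule A A)) ≤ 0 := by
    unfold Module.supportDim
    have : Subsingleton (Module.support A (A ⧸ Ideal.ofList L • (⊤ : Submodule A A))) := by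
      constructor
      rintro ⟨P, hP⟩ ⟨P', hP'⟩
      rw [Module.support_quotient, hLspan] at hP hP'
      have h1 := hprim P.asIdeal P.isPrime ((PrimeSpectrum.mem_zeroLocus _ _).mp hP.2)
      have h2 := hprim P'.asIdeal P'.isPrime ((PrimeSpectrum.mem_zeroLocus _ _).mp hP'.2)
      apply Subtype.ext
      apply PrimeSpectrum.ext
      rw [h1, h2]
    exact Order.krullDim_nonpos_of_subsingleton
  have hdim : Module.supportDim A (A ⧸ Ideal.ofList L • (⊤ : Submodule A A)) + L.length =
      Module.supportDim A A := by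
    apply le_antisymm
    · rw [hdimA, hLlen]
      calc Module.supportDim A (A ⧸ Ideal.ofList L • (⊤ : Submodule A A)) + ((m + 1 : ℕ) : WithBot ℕ∞)
          ≤ 0 + ((m + 1 : ℕ) : WithBot ℕ∞) := by gcongr
        _ = _ := zero_add _
    · exact Groth.Agent.Lib.Helper67.supportDim_le_supportDim_quot_ofList_add_length L A hLmem
  have hreg := Groth.Agent.Lib.Helper67.isWeaklyRegular_of_supportDim_of_CM L A hCM hLmem hdim
  rw [hL, isWeaklyRegular_append_iff] at hreg
  have h1 := (isWeaklyRegular_singleton_iff _ _).mp hreg.2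
  have h2 : (y k) • (Submodule.Quotient.mk x : A ⧸ Ideal.ofList L' • (⊤ : Submodule A A)) = 0 := by
    rw [← Submodule.Quotient.mk_smul, Submodule.Quotient.mk_eq_zero, smul_eq_mul, smul_eq_mul,
      Ideal.mul_top, hL'span]
    exact hx
  have h3 := h1 (h2.trans (smul_zero (y k)).symm)
  rw [Submodule.Quotient.mk_eq_zero, smul_eq_mul, Ideal.mul_top, hL'span] at h3
  exact h3

section
variable {A : Type*} [CommRing A]

theorem length_mul_eq (I : Ideal A) (a b : A) (ha : ∀ x, a * x ∈ I → x ∈ I) :
    Module.length A (A ⧸ (I ⊔ Ideal.span {a * b})) =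
      Module.length A (A ⧸ (I ⊔ Ideal.span {b})) + Module.length A (A ⧸ (I ⊔ Ideal.span {a})) := by
  have h1 : I ⊔ Ideal.span {b} ≤ Submodule.comap (LinearMap.lsmul A A a) (I ⊔ Ideal.span {a * b}) := by
    rw [sup_le_iff]
    constructor
    · intro i hi
      exact Ideal.mem_sup_left (I.mul_mem_left a hi)
    · rw [Ideal.span_le, Set.singleton_subset_iff]
      exact Ideal.mem_sup_right (Ideal.mem_span_singleton_self _)
  have h2 : I ⊔ Ideal.span {a * b} ≤ Submodule.comap (LinearMap.id : A →ₗ[A] A) (I ⊔ Ideal.span {a}) := by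
    rw [sup_le_iff]
    constructor
    · intro i hi
      exact Ideal.mem_sup_left hi
    · rw [Ideal.span_le, Set.singleton_subset_iff]
      exact Ideal.mem_sup_right (Ideal.mem_span_singleton'.mpr ⟨b, mul_comm _ _⟩)
  let f : (A ⧸ (I ⊔ Ideal.span {b})) →ₗ[A] (A ⧸ (I ⊔ Ideal.span {a * b})) :=
    Submodule.mapQ _ _ (LinearMap.lsmul A A a) h1
  let g : (A ⧸ (I ⊔ Ideal.span {a * b})) →ₗ[A] (A ⧸ (I ⊔ Ideal.span {a})) :=
    Submodule.mapQ _ _ LinearMap.id h2
  have hmem : ∀ (c r : A), r ∈ I ⊔ Ideal.span {c} ↔ ∃ i ∈ I, ∃ d, r = i + c * d := by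
    intro c r
    rw [Submodule.mem_sup]
    constructor
    · rintro ⟨i, hi, s, hs, rfl⟩
      obtain ⟨d, rfl⟩ := Ideal.mem_span_singleton'.mp hs
      exact ⟨i, hi, d, by ring⟩
    · rintro ⟨i, hi, d, rfl⟩
      exact ⟨i, hi, c * d, Ideal.mem_span_singleton'.mpr ⟨d, mul_comm _ _⟩, rfl⟩
  have hf : Function.Injective f := by
    rw [← LinearMap.ker_eq_bot, LinearMap.ker_eq_bot']
    intro y hy
    obtain ⟨r, rfl⟩ := Submodule.mkQ_surjective _ y
    have : a * r ∈ I ⊔ Ideal.span {a * b} := by
      have h3 : f (Submodule.Quotient.mk r) = Submodule.Quotient.mk (a * r) := rfl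
      rw [Submodule.mkQ_apply, h3, Submodule.Quotient.mk_eq_zero] at hy
      exact hy
    obtain ⟨i, hi, d, hd⟩ := (hmem _ _).mp this
    have h4 : r - b * d ∈ I := ha _ (by rw [mul_sub, hd]; ring_nf; exact hi)
    rw [Submodule.mkQ_apply, Submodule.Quotient.mk_eq_zero, hmem]
    exact ⟨r - b * d, h4, d, by ring⟩
  have hg : Function.Surjective g := by
    intro y
    obtain ⟨r, rfl⟩ := Submodule.mkQ_surjective _ y
    exact ⟨Submodule.Quotient.mk r, rfl⟩
  have hex : Function.Exact f g := by
    intro y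
    obtain ⟨r, rfl⟩ := Submodule.mkQ_surjective _ y
    have h3 : g (Submodule.Quotient.mk r) = Submodule.Quotient.mk r := rfl
    rw [Submodule.mkQ_apply, h3, Submodule.Quotient.mk_eq_zero, hmem]
    constructor
    · rintro ⟨i, hi, d, rfl⟩
      refine ⟨Submodule.Quotient.mk d, ?_⟩
      have h5 : f (Submodule.Quotient.mk d) = Submodule.Quotient.mk (a * d) := rfl
      rw [h5, Submodule.Quotient.eq]
      rw [show a * d - (i + a * d) = -i by ring]
      exact Ideal.mem_sup_left (I.neg_mem hi)
    · rintro ⟨z, hz⟩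
      obtain ⟨d, rfl⟩ := Submodule.mkQ_surjective _ z
      have h5 : f (Submodule.Quotient.mk d) = Submodule.Quotient.mk (a * d) := rfl
      rw [Submodule.mkQ_apply, h5, Submodule.Quotient.eq, hmem] at hz
      obtain ⟨i, hi, e, he⟩ := hz
      refine ⟨-i, I.neg_mem hi, d - b * e, ?_⟩
      linear_combination (-1 : A) * he
  exact Module.length_eq_add_of_exact f g hf hg hex



theorem length_prod_ge {ι : Type*} (I : Ideal A) (S : Finset ι) (a : ι → A)
    (ha : ∀ σ ∈ S, ∀ x, a σ * x ∈ I → x ∈ I) :
    ∑ σ ∈ S, Module.length A (A ⧸ (I ⊔ Ideal.span {a σ})) ≤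
      Module.length A (A ⧸ (I ⊔ Ideal.span {∏ σ ∈ S, a σ})) := by
  classical
  induction S using Finset.induction_on with
  | empty =>
    rw [Finset.sum_empty]
    exact bot_le
  | insert x S hx ih =>
    rw [Finset.prod_insert hx, Finset.sum_insert hx,
      length_mul_eq I (a x) _ (ha x (Finset.mem_insert_self x S)), add_comm]
    exact add_le_add (ih fun σ hσ => ha σ (Finset.mem_insert_of_mem hσ)) le_rfl

/-- regularity hypothesis for the multi-index induction -/
def Reg {G : Type*} [Fintype G] {n : ℕ} (J : Ideal A) (a : Fin n → G → A) : Prop :=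
  ∀ y : Fin n → A, (∀ i, (∃ σ, y i = a i σ) ∨ y i = ∏ σ, a i σ) → ∀ k : Fin n, ∀ x : A,
    y k * x ∈ J ⊔ Ideal.span (y '' {k}ᶜ) → x ∈ J ⊔ Ideal.span (y '' {k}ᶜ)

theorem image_compl_succ {n : ℕ} (p : A) (y' : Fin n → A) (k' : Fin n) :
    (Fin.cons p y' : Fin (n + 1) → A) '' {k'.succ}ᶜ = insert p (y' '' {k'}ᶜ) := by
  ext r
  constructor
  · rintro ⟨i, hi, rfl⟩
    induction i using Fin.cases with
    | zero => exact Set.mem_insert _ _
    | succ j =>
      refine Set.mem_insert_of_mem _ ⟨j, ?_, by simp⟩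
      intro h
      exact hi (by rw [Set.mem_singleton_iff] at h ⊢; rw [h])
  · intro hr
    rcases hr with rfl | ⟨j, hj, rfl⟩
    · exact ⟨0, fun h => (Fin.succ_ne_zero k' (Set.mem_singleton_iff.mp h).symm), by simp⟩
    · exact ⟨j.succ, fun h => hj (by
        rw [Set.mem_singleton_iff] at h ⊢; exact Fin.succ_injective _ h), by simp⟩

theorem image_compl_zero {n : ℕ} (y : Fin (n + 1) → A) :
    y '' {(0 : Fin (n + 1))}ᶜ = Set.range (Fin.tail y) := by
  ext r
  constructor
  · rintro ⟨i, hi, rfl⟩
    induction i using Fin.cases with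
    | zero => exact absurd rfl hi
    | succ j => exact ⟨j, rfl⟩
  · rintro ⟨j, rfl⟩
    exact ⟨j.succ, fun h => Fin.succ_ne_zero j (Set.mem_singleton_iff.mp h), rfl⟩



theorem length_multi_ge {G : Type*} [Fintype G] (n : ℕ) :
    ∀ (J : Ideal A) (a : Fin n → G → A), Reg J a →
      ∑ τ : Fin n → G, Module.length A (A ⧸ (J ⊔ Ideal.span (Set.range fun i => a i (τ i)))) ≤
        Module.length A (A ⧸ (J ⊔ Ideal.span (Set.range fun i => ∏ σ : G, a i σ))) := by
  classical
  induction n with
  | zero =>
    intro J a _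
    rw [Fintype.sum_unique, Set.range_eq_empty, Set.range_eq_empty]
  | succ n ih =>
    intro J a hreg
    have hsplit : ∀ f : Fin (n + 1) → A, ∀ K : Ideal A,
        K ⊔ Ideal.span (Set.range f) =
          (K ⊔ Ideal.span (Set.range (Fin.tail f))) ⊔ Ideal.span {f 0} := by
      intro f K
      rw [Fin.range_fin_succ, Ideal.span_insert, sup_assoc, sup_comm (Ideal.span {f 0})]
    have hsplit' : ∀ f : Fin (n + 1) → A, ∀ K : Ideal A,
        K ⊔ Ideal.span (Set.range f) =
          (K ⊔ Ideal.span {f 0}) ⊔ Ideal.span (Set.range (Fin.tail f)) := by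
      intro f K
      rw [hsplit, sup_assoc, sup_assoc, sup_comm (Ideal.span {f 0})]
    -- regularity hypothesis for the tail
    have hreg' : Reg (J ⊔ Ideal.span {∏ σ : G, a 0 σ}) (Fin.tail a) := by
      intro y' hy' k' x hx
      have hy : ∀ i, (∃ σ, (Fin.cons (∏ σ : G, a 0 σ) y' : Fin (n + 1) → A) i = a i σ) ∨
          (Fin.cons (∏ σ : G, a 0 σ) y' : Fin (n + 1) → A) i = ∏ σ, a i σ := by
        intro i
        induction i using Fin.cases with
        | zero => exact Or.inr rfl
        | succ j =>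
          rw [Fin.cons_succ]
          exact hy' j
      have key := hreg (Fin.cons (∏ σ : G, a 0 σ) y') hy k'.succ x
      rw [image_compl_succ, Ideal.span_insert, ← sup_assoc, Fin.cons_succ] at key
      exact key hx
    rw [hsplit']
    refine le_trans ?_ (ih (J ⊔ Ideal.span {∏ σ : G, a 0 σ}) (Fin.tail a) hreg')
    rw [← (Fin.consEquiv (fun _ : Fin (n + 1) => G)).sum_comp, Fintype.sum_prod_type,
      Finset.sum_comm]
    refine Finset.sum_le_sum fun τ' _ => ?_
    have e1 : (J ⊔ Ideal.span {∏ σ : G, a 0 σ}) ⊔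
        Ideal.span (Set.range fun i => Fin.tail a i (τ' i)) =
        (J ⊔ Ideal.span (Set.range fun i => Fin.tail a i (τ' i))) ⊔
          Ideal.span {∏ σ : G, a 0 σ} := by
      rw [sup_assoc, sup_assoc, sup_comm (Ideal.span {∏ σ : G, a 0 σ})]
    rw [e1]
    have hreg0 : ∀ σ ∈ (Finset.univ : Finset G), ∀ x,
        a 0 σ * x ∈ J ⊔ Ideal.span (Set.range fun i => Fin.tail a i (τ' i)) →
        x ∈ J ⊔ Ideal.span (Set.range fun i => Fin.tail a i (τ' i)) := by
      intro σ _ x hx
      have hy : ∀ i, (∃ σ', (Fin.cons (a 0 σ) (fun i => Fin.tail a i (τ' i)) : Fin (n + 1) → A) i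
          = a i σ') ∨
          (Fin.cons (a 0 σ) (fun i => Fin.tail a i (τ' i)) : Fin (n + 1) → A) i = ∏ σ, a i σ := by
        intro i
        induction i using Fin.cases with
        | zero => exact Or.inl ⟨σ, rfl⟩
        | succ j => exact Or.inl ⟨τ' j, rfl⟩
      have key := hreg (Fin.cons (a 0 σ) (fun i => Fin.tail a i (τ' i))) hy 0 x
      rw [image_compl_zero, Fin.tail_cons, Fin.cons_zero] at key
      exact key hx
    refine le_trans ?_ (length_prod_ge _ Finset.univ (a 0) hreg0)
    refine Finset.sum_le_sum fun σ _ => ?_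
    rw [hsplit (fun i => a i (Fin.consEquiv (fun _ : Fin (n + 1) => G) (σ, τ') i)) J]
    exact le_of_eq rfl

end


/-- Let `A` be a regular local ring of Krull dimension `n` with maximal ideal `m` generated by `u_1, …,
u_n`, let a finite group `G` of order `g` act on `A` by ring automorphisms, and suppose `u` is
weakly admissible: for every choice `σ_1, …, σ_n ∈ G` the radical of `(σ_1 u_1, …, σ_n u_n)`
contains `m`. With `x_i = ∏_{σ ∈ G} σ u_i` the norms, the length of `A / (x_1, …, x_n)` is at least
`g ^ n` (so the finite flat map from `k[[x_1, …, x_n]]` has degree at least `g ^ n`). (The published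
statement is for a complete regular local ring containing a `G`-fixed field of representatives; this
row does not assume those.) -/
theorem result
    (A : Type u) [CommRing A] [IsRegularLocalRing A]
    (G : Type v) [Group G] [Fintype G] [MulSemiringAction G A]
    (n : ℕ) (hn : ringKrullDim A = n) (u : Fin n → A)
    (hu : Ideal.span (Set.range u) = IsLocalRing.maximalIdeal A)
    (hwa : ∀ τ : Fin n → G,
      IsLocalRing.maximalIdeal A ≤ (Ideal.span (Set.range fun i => τ i • u i)).radical) :
    ((Fintype.card G ^ n : ℕ) : ℕ∞) ≤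
      Module.length A (A ⧸ Ideal.span (Set.range fun i => ∏ σ : G, σ • u i)) := by
  classical
  have hum : ∀ i, u i ∈ IsLocalRing.maximalIdeal A := fun i => by
    rw [← hu]; exact Ideal.subset_span ⟨i, rfl⟩
  have hsm : ∀ (σ : G) i, σ • u i ∈ IsLocalRing.maximalIdeal A := by
    intro σ i
    rw [IsLocalRing.mem_maximalIdeal, mem_nonunits_iff]
    intro h
    have h2 := h.map (MulSemiringAction.toRingHom G A σ⁻¹)
    have h3 : (MulSemiringAction.toRingHom G A σ⁻¹) (σ • u i) = u i := inv_smul_smul σ (u i)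
    rw [h3] at h2
    exact (IsLocalRing.mem_maximalIdeal _).mp (hum i) h2
  have hReg : Reg (⊥ : Ideal A) (fun i (σ : G) => σ • u i) := by
    intro y hy k x hx
    rw [bot_sup_eq] at hx ⊢
    cases n with
    | zero => exact k.elim0
    | succ m =>
      have himg : y '' {k}ᶜ = Set.range (y ∘ k.succAbove) := by
        rw [Set.range_comp, Fin.range_succAbove]
      rw [himg] at hx ⊢
      refine regular_of_primary A m (by rw [hn]) y ?_ ?_ k x hx
      · intro i
        rcases hy i with ⟨σ, h⟩ | h
        · rw [h]; exact hsm σ i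
        · rw [h]
          exact Ideal.prod_mem _ (Finset.mem_univ (1 : G)) (hsm 1 i)
      · intro P hP hle
        have hex : ∀ i, ∃ σ : G, σ • u i ∈ P := by
          intro i
          have hyi : y i ∈ P := hle (Ideal.subset_span ⟨i, rfl⟩)
          rcases hy i with ⟨σ, h⟩ | h
          · exact ⟨σ, by rw [h] at hyi; exact hyi⟩
          · rw [h, Ideal.IsPrime.prod_mem_iff] at hyi
            obtain ⟨σ, -, hσ⟩ := hyi
            exact ⟨σ, hσ⟩
        choose τ hτ using hex
        have h1 : Ideal.span (Set.range fun i => τ i • u i) ≤ P := by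
          rw [Ideal.span_le]
          rintro _ ⟨i, rfl⟩
          exact hτ i
        have h2 : IsLocalRing.maximalIdeal A ≤ P :=
          (hwa τ).trans ((Ideal.IsPrime.radical_le_iff hP).mpr h1)
        exact ((IsLocalRing.maximalIdeal.isMaximal A).eq_of_le hP.ne_top h2).symm
  have h := length_multi_ge (A := A) (G := G) n ⊥ (fun i σ => σ • u i) hReg
  have e : ∀ K : Ideal A, Module.length A (A ⧸ (⊥ ⊔ K)) = Module.length A (A ⧸ K) :=
    fun K => by rw [bot_sup_eq]
  simp only [e] at h
  refine le_trans ?_ h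
  have h1 : ∀ τ : Fin n → G,
      1 ≤ Module.length A (A ⧸ Ideal.span (Set.range fun i => τ i • u i)) := by
    intro τ
    rw [Order.one_le_iff_pos, Module.length_pos_iff, Submodule.Quotient.nontrivial_iff]
    intro htop
    have hle : Ideal.span (Set.range fun i => τ i • u i) ≤ IsLocalRing.maximalIdeal A := by
      rw [Ideal.span_le]
      rintro _ ⟨i, rfl⟩
      exact hsm (τ i) i
    rw [htop] at hle
    exact (IsLocalRing.maximalIdeal.isMaximal A).ne_top (top_le_iff.mp hle)
  calc ((Fintype.card G ^ n : ℕ) : ℕ∞) = ∑ _τ : Fin n → G, (1 : ℕ∞) := by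
        rw [Finset.sum_const, Finset.card_univ, Fintype.card_fun, Fintype.card_fin, nsmul_eq_mul,
          mul_one]
    _ ≤ _ := Finset.sum_le_sum fun τ _ => h1 τ


end Groth.Agent.S15797
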