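import Groth.Statements.S1148
import Mathlib.RingTheory.Ideal.GoingDown
import Mathlib.RingTheory.LocalRing.ResidueField.Fiber
import Mathlib.RingTheory.Ideal.MinimalPrime.Noetherian
import Mathlib.RingTheory.Spectrum.Prime.Topology
import Mathlib.RingTheory.FiniteStability

set_option autoImplicit false
universe u
open Desc

namespace Groth.Agent.S1148

lemma finite_irreducibleComponents_iff (R : Type*) [CommRing R] :
    (irreducibleComponents (PrimeSpectrum R)).Finite ↔ (minimalPrimes R).Finite := by
  rw [← Set.finite_coe_iff, ← Set.finite_coe_iff]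
  exact (Equiv.finite_iff
    ((minimalPrimes.equivIrreducibleComponents R).toEquiv.trans OrderDual.ofDual)).symm

lemma under_mem_minimalPrimes (A B : Type*) [CommRing A] [CommRing B] [Algebra A B]
    [Algebra.HasGoingDown A B] (q : Ideal B) (hq : q ∈ minimalPrimes B) :
    q.under A ∈ minimalPrimes A := by
  have hqp : q.IsPrime := Ideal.minimalPrimes_isPrime hq
  rw [minimalPrimes_eq_minimals] at hq ⊢
  refine ⟨inferInstance, fun p' hp' hle => ?_⟩
  have : p'.IsPrime := hp'
  obtain ⟨q', hq'le, hq'p, hq'o⟩ := Ideal.exists_ideal_le_liesOver_of_le (p := p') (q := q.under A) q hle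
  have : q ≤ q' := hq.2 hq'p hq'le
  have e : q' = q := le_antisymm hq'le this
  rw [hq'o.over, e]

open TensorProduct in
lemma minimalPrimes_finite (A B : Type*) [CommRing A] [CommRing B] [Algebra A B]
    [Module.Flat A B] [Algebra.FiniteType A B] (h : (minimalPrimes A).Finite) :
    (minimalPrimes B).Finite := by
  classical
  let F : Ideal A → Set (Ideal B) := fun p =>
    if hp : p.IsPrime then
      (Ideal.comap (Algebra.TensorProduct.includeRight : B →ₐ[A] p.Fiber B).toRingHom) ''
        (minimalPrimes (p.Fiber B))
    else ∅
  have hF : ∀ p, (F p).Finite := by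
    intro p
    by_cases hp : p.IsPrime
    · simp only [F, dif_pos hp]
      have : IsNoetherianRing (p.Fiber B) :=
        Algebra.FiniteType.isNoetherianRing p.ResidueField (p.Fiber B)
      exact (minimalPrimes.finite_of_isNoetherianRing _).image _
    · simp only [F, dif_neg hp]
      exact Set.finite_empty
  refine Set.Finite.subset (h.biUnion (fun p _ => hF p)) ?_
  intro q hq
  have hqp : q.IsPrime := Ideal.minimalPrimes_isPrime hq
  have hp : q.under A ∈ minimalPrimes A := under_mem_minimalPrimes A B q hq
  refine Set.mem_biUnion hp ?_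
  have hpp : (q.under A).IsPrime := inferInstance
  simp only [F, dif_pos hpp]
  let e := PrimeSpectrum.primesOverOrderIsoFiber A B (q.under A)
  let q0 : (q.under A).primesOver B := ⟨q, ⟨hqp, ⟨rfl⟩⟩⟩
  refine ⟨(e q0).asIdeal, ?_, ?_⟩
  · rw [minimalPrimes_eq_minimals]
    refine ⟨(e q0).2, fun Q' hQ' hle => ?_⟩
    have : Q'.IsPrime := hQ'
    let Q'' : PrimeSpectrum ((q.under A).Fiber B) := ⟨Q', hQ'⟩
    have h1 : Q'' ≤ e q0 := hle
    have h2 : e.symm Q'' ≤ q0 := by
      rw [← e.symm_apply_apply q0]
      exact e.symm.monotone h1
    have h3 : (e.symm Q'').1 = q := by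
      rw [minimalPrimes_eq_minimals] at hq
      exact le_antisymm h2 (hq.2 (e.symm Q'').2.1 h2)
    have h4 : e.symm Q'' = q0 := Subtype.ext h3
    have h5 : Q'' = e q0 := by rw [← h4, e.apply_symm_apply]
    exact (PrimeSpectrum.ext_iff.mp h5).ge
  · have := PrimeSpectrum.coe_primesOverOrderIsoFiber_symm_apply (R := A) (S := B) (p := q.under A) (e q0)
    rw [e.symm_apply_apply] at this
    exact this.symm

/-- Affine form (finiteness of irreducible components of quasi-compact opens is fppf local; this is the
ascent direction for a morphism of affine schemes). Let A → B be a flat ring map of finite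
presentation. If Spec A has finitely many irreducible components, then so does Spec B. -/
theorem result (A B : Type u) [CommRing A] [CommRing B] [Algebra A B]
    [Module.Flat A B] [Algebra.FinitePresentation A B] (h : (irreducibleComponents (PrimeSpectrum A)).Finite) :
    (irreducibleComponents (PrimeSpectrum B)).Finite := by
  rw [finite_irreducibleComponents_iff] at h ⊢
  exact minimalPrimes_finite A B h

end Groth.Agent.S1148
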