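import Groth.Statements.S11484
import Mathlib
import Groth.Agent.Lib.Helper93.SplitLift
import Groth.Agent.S0844

set_option autoImplicit false
universe u
open VBPn

namespace Groth.Agent.S11484

open CategoryTheory CategoryTheory.Limits AlgebraicGeometry in
/-- Let k be an algebraically closed field of characteristic zero and n ≥ 2. On P^n_k every short exact
sequence of O-modules whose first term is isomorphic to O(a) and whose third term is isomorphic to
O(b), for integers a and b, admits a splitting; in particular its middle term is isomorphic to O(a)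
⊕ O(b). -/
theorem result (k : Type u) [Field k] [IsAlgClosed k] [CharZero k]
    (n : ℕ) (hn : 2 ≤ n) (a b : ℤ) (S : ShortComplex (CohB1.ProjSpace n k).Modules) (hS : S.ShortExact)
    (ha : Nonempty (S.X₁ ≅ Twist.twistProjSpace n k a)) (hb : Nonempty (S.X₃ ≅ Twist.twistProjSpace n k b)) :
    Nonempty S.Splitting := by
  obtain ⟨ea⟩ := ha
  obtain ⟨eb⟩ := hb
  have hL : PicF.IsInvertible (Twist.twistProjSpace n k (-b)) :=
    Groth.Agent.Lib.Helper93.SerreVan.isInvertible_twist n k (-b)
  have hL' : PicF.IsInvertible (Twist.twistProjSpace n k b) :=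
    Groth.Agent.Lib.Helper93.SerreVan.isInvertible_twist n k b
  obtain ⟨z⟩ := Groth.Agent.Lib.Helper35.ProjRes.twist_zero_iso (CohB1.polyGrading n k)
  -- `O(-b) ⊗ O(b) ≅ O`
  obtain ⟨μ0⟩ := Groth.Agent.Lib.Helper93.SerreVan.nonempty_twist_mul n k (-b) b
  have hz : (-b + b) = 0 := by ring
  let μ : CohB1.tensorMod (Twist.twistProjSpace n k (-b)) (Twist.twistProjSpace n k b) ≅
      Coh.structureModule (CohB1.ProjSpace n k) :=
    μ0 ≪≫ eqToIso (by rw [hz]; rfl) ≪≫ z
  -- the twisted sequence
  have hS' := Groth.Agent.Lib.Helper97.TwistExact.shortExact_twist (Twist.twistProjSpace n k (-b))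
    (Groth.Agent.Lib.Helper93.SerreVan.isFlat_twist n k (-b)) S hS
  -- `H^1` of the twisted kernel vanishes
  have h1 : Subsingleton (Coh.HH (CohB1.ProjSpace n k)
      (S.map (Groth.Agent.Lib.Helper97.TwistExact.twistF (Twist.twistProjSpace n k (-b)))).X₁ 1) := by
    obtain ⟨e1⟩ := Groth.Agent.Lib.Helper93.SerreVan.nonempty_twist_mul n k a (-b)
    have e2 : (Groth.Agent.Lib.Helper97.TwistExact.twistF (Twist.twistProjSpace n k (-b))).obj S.X₁ ≅
        Twist.twistProjSpace n k (a + -b) :=
      (Groth.Agent.Lib.Helper97.TwistExact.twistF (Twist.twistProjSpace n k (-b))).mapIso ea ≪≫ e1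
    exact Groth.Agent.Lib.Helper97.TwistExact.subsingleton_HH_of_iso' e2.symm 1
      (Groth.Agent.S0844.result k n (a + -b) 1 (by omega) (by omega))
  -- the twisted cokernel is the structure sheaf
  obtain ⟨e3⟩ := Groth.Agent.Lib.Helper93.SerreVan.nonempty_twist_mul n k b (-b)
  have hz' : (b + -b) = 0 := by ring
  let ι : Coh.structureModule (CohB1.ProjSpace n k) ≅
      (Groth.Agent.Lib.Helper97.TwistExact.twistF (Twist.twistProjSpace n k (-b))).obj S.X₃ :=
    (((Groth.Agent.Lib.Helper97.TwistExact.twistF (Twist.twistProjSpace n k (-b))).mapIso eb ≪≫ e3) ≪≫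
      eqToIso (by rw [hz']; rfl) ≪≫ z).symm
  obtain ⟨σ₀, hσ₀⟩ := Groth.Agent.Lib.Helper93.SplitLift.exists_lift _ hS' h1 ι.hom
  have hσ' : (ι.inv ≫ σ₀) ≫
      (Groth.Agent.Lib.Helper97.TwistExact.twistF (Twist.twistProjSpace n k (-b))).map S.g = 𝟙 _ := by
    rw [Category.assoc]
    have : σ₀ ≫ (Groth.Agent.Lib.Helper97.TwistExact.twistF (Twist.twistProjSpace n k (-b))).map S.g =
        ι.hom := hσ₀
    rw [this, Iso.inv_hom_id]
  obtain ⟨s, hs⟩ := Groth.Agent.Lib.Helper93.SplitLift.exists_section_of_twist μ hL hL' S.g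
    (ι.inv ≫ σ₀) hσ'
  haveI := hS.mono_f
  exact ⟨ShortComplex.Splitting.ofExactOfSection S hS.exact s hs inferInstance⟩

end Groth.Agent.S11484
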