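import Groth.Statements.S11493
import Mathlib

set_option autoImplicit false
universe u
open CategoryTheory
open VBPn

namespace Groth.Agent.S11493

section aux

open Abelian

variable {A : Type u} [CommRing A]

/-- If `Ext¹(T.X₃, Y) = 0` for a short exact `T`, every map `T.X₁ → Y` extends along `T.f`. -/
lemma exists_extension (T : ShortComplex (ModuleCat.{u} A)) (hT : T.ShortExact)
    (Y : ModuleCat.{u} A) (h0 : ∀ y : Ext T.X₃ Y 1, y = 0) (c : T.X₁ ⟶ Y) :
    ∃ r : T.X₂ ⟶ Y, T.f ≫ r = c := by
  obtain ⟨x₂, hx₂⟩ := Ext.contravariant_sequence_exact₁ hT Y (Ext.mk₀ c) (add_zero 1) (h0 _)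
  obtain ⟨r, rfl⟩ := (Ext.mk₀_bijective _ _).2 x₂
  refine ⟨r, ?_⟩
  rw [Ext.mk₀_comp_mk₀] at hx₂
  exact (Ext.mk₀_bijective _ _).1 hx₂

/-- A short exact sequence `0 → N → F → M → 0` with `N ≃ A^s` and `Ext¹(M, Y) = 0`, `Y ≃ A`,
admits a retraction of `N → F`. -/
lemma exists_retraction (T : ShortComplex (ModuleCat.{u} A)) (hT : T.ShortExact)
    (Y : ModuleCat.{u} A) (eY : Y ≃ₗ[A] A) (h0 : ∀ y : Ext T.X₃ Y 1, y = 0)
    {ι : Type} [Finite ι] (e : T.X₁ ≃ₗ[A] (ι → A)) :
    ∃ r : T.X₂ ⟶ T.X₁, T.f ≫ r = 𝟙 _ := by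
  have key : ∀ j : ι, ∃ r : T.X₂ →ₗ[A] A, ∀ x : T.X₁, r (T.f.hom x) = e x j := by
    intro j
    obtain ⟨r, hr⟩ := exists_extension T hT Y h0
      (ModuleCat.ofHom (eY.symm.toLinearMap ∘ₗ LinearMap.proj j ∘ₗ e.toLinearMap))
    refine ⟨eY.toLinearMap ∘ₗ r.hom, fun x => ?_⟩
    have := congrArg (fun k => k.hom x) hr
    simp only [ModuleCat.hom_comp, LinearMap.coe_comp, Function.comp_apply, ModuleCat.hom_ofHom,
      LinearEquiv.coe_coe, LinearMap.proj_apply] at this
    simp [this]
  choose r hr using key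
  refine ⟨ModuleCat.ofHom (e.symm.toLinearMap ∘ₗ LinearMap.pi r), ?_⟩
  apply ModuleCat.hom_ext
  apply LinearMap.ext
  intro x
  simp only [ModuleCat.hom_comp, LinearMap.coe_comp, Function.comp_apply, ModuleCat.hom_ofHom,
    LinearEquiv.coe_coe, ModuleCat.hom_id, LinearMap.id_coe, id_eq]
  apply e.injective
  rw [LinearEquiv.apply_symm_apply]
  funext j
  simp [hr]

end aux

/-- Let A be a Noetherian local ring and I an ideal with a free resolution of length 1, 0 → A^p → A^q →
I → 0 (equivalently: a surjection A^q → I with free kernel). Let 0 → A → M → I → 0 be an extension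
with class e ∈ Ext^1(I, A). Then M is free if and only if e generates the A-module Ext^1(I, A); the
A-module structure being through End(A) = A, this says every element of Ext^1(I, A) is the composite
of e with an endomorphism of A. -/
theorem result (A : Type u) [CommRing A] [IsNoetherianRing A] [IsLocalRing A]
    (I : Ideal A)
    (hres : ∃ (q : ℕ) (φ : (Fin q → A) →ₗ[A] ↥I), Function.Surjective φ ∧ Module.Free A ↥(LinearMap.ker φ))
    (S : ShortComplex (ModuleCat.{u} A)) (hS : S.ShortExact)
    (h₁ : Nonempty (S.X₁ ≅ ModuleCat.of A A)) (h₃ : Nonempty (S.X₃ ≅ ModuleCat.of A ↥I)) :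
    Module.Free A S.X₂ ↔
      ∀ x : Abelian.Ext S.X₃ S.X₁ 1, ∃ f : S.X₁ ⟶ S.X₁, hS.extClass.comp (Abelian.Ext.mk₀ f) (add_zero 1) = x := by
  obtain ⟨i₁⟩ := h₁
  obtain ⟨i₃⟩ := h₃
  obtain ⟨q, φ, hφ, hK⟩ := hres
  haveI : Module.Free A S.X₁ := Module.Free.of_equiv i₁.toLinearEquiv.symm
  haveI : Projective S.X₁ := inferInstance
  constructor
  · intro hfree x
    haveI : Projective S.X₂ := inferInstance
    obtain ⟨x₁, hx₁⟩ := Abelian.Ext.contravariant_sequence_exact₃ hS _ x
      (Abelian.Ext.eq_zero_of_projective _) (add_zero 1)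
    obtain ⟨f, rfl⟩ := (Abelian.Ext.mk₀_bijective _ _).2 x₁
    exact ⟨f, hx₁⟩
  · intro hgen
    -- Step 1 : `Ext¹(X₂, X₁) = 0`
    have h0 : ∀ y : Abelian.Ext S.X₂ S.X₁ 1, y = 0 := by
      intro y
      obtain ⟨x₃, rfl⟩ := Abelian.Ext.contravariant_sequence_exact₂ hS _ y
        (Abelian.Ext.eq_zero_of_projective _)
      obtain ⟨f, rfl⟩ := hgen x₃
      exact hS.comp_extClass_assoc _ _
    -- Step 2 : `pd X₂ ≤ 1`
    have hT₃ : (φ.shortComplexKer).ShortExact := LinearMap.shortExact_shortComplexKer hφ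
    haveI : Projective (φ.shortComplexKer).X₁ := by
      haveI : Module.Free A (φ.shortComplexKer).X₁ := hK
      infer_instance
    haveI : Projective (φ.shortComplexKer).X₂ := by
      haveI : Module.Free A (φ.shortComplexKer).X₂ := inferInstanceAs (Module.Free A (Fin q → A))
      infer_instance
    have pdI : HasProjectiveDimensionLT (φ.shortComplexKer).X₃ 2 :=
      hT₃.hasProjectiveDimensionLT_X₃ 1 inferInstance inferInstance
    have pd₃ : HasProjectiveDimensionLT S.X₃ 2 := hasProjectiveDimensionLT_of_iso i₃.symm 2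
    have pd₂ : HasProjectiveDimensionLT S.X₂ 2 :=
      hS.hasProjectiveDimensionLT_X₂ 2 inferInstance pd₃
    -- Step 3 : `X₂` is finite
    haveI : Module.Finite A S.X₁ := Module.Finite.equiv i₁.toLinearEquiv.symm
    haveI : Module.Finite A S.X₃ := Module.Finite.equiv i₃.toLinearEquiv.symm
    haveI : Module.Finite A S.X₂ := Module.Finite.of_exact
      ((ShortComplex.ShortExact.moduleCat_exact_iff_function_exact _).mp hS.exact)
      ((ModuleCat.epi_iff_surjective _).mp hS.epi_g)
    obtain ⟨n, p, hp⟩ := Module.Finite.exists_fin' A S.X₂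
    have hT : (p.shortComplexKer).ShortExact := LinearMap.shortExact_shortComplexKer hp
    haveI : Projective (p.shortComplexKer).X₂ := by
      haveI : Module.Free A (p.shortComplexKer).X₂ := inferInstanceAs (Module.Free A (Fin n → A))
      infer_instance
    have pdN : HasProjectiveDimensionLT (p.shortComplexKer).X₁ 1 :=
      hT.hasProjectiveDimensionLT_X₁ 1 inferInstance pd₂
    haveI : Projective (p.shortComplexKer).X₁ := inferInstance
    haveI : Module.Projective A (LinearMap.ker p) :=
      (IsProjective.iff_projective (R := A) (LinearMap.ker p)).mpr this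
    haveI : Module.Free A (LinearMap.ker p) := Module.free_of_flat_of_isLocalRing
    let e : (p.shortComplexKer).X₁ ≃ₗ[A] (Fin (Module.finrank A (LinearMap.ker p)) → A) :=
      (Module.finBasis A (LinearMap.ker p)).equivFun
    obtain ⟨r, hr⟩ := exists_retraction (p.shortComplexKer) hT S.X₁ i₁.toLinearEquiv h0 e
    let spl := ShortComplex.Splitting.ofExactOfRetraction _ hT.exact r hr hT.epi_g
    haveI : Module.Projective A S.X₂ := by
      refine Module.Projective.of_split (M := (Fin n → A)) spl.s.hom p ?_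
      have := spl.s_g
      apply LinearMap.ext
      intro x
      exact congrArg (fun k => k.hom x) this
    exact Module.free_of_flat_of_isLocalRing

end Groth.Agent.S11493
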