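import Groth.Statements.S11496
import Groth.Agent.Lib.Helper77.RegularAB
import Groth.Agent.Lib.Helper77.RegularLocalization

set_option autoImplicit false
universe u
open CategoryTheory
open VBPn

namespace Groth.Agent.S11496

section Aux
open IsLocalRing CategoryTheory LocCoh


theorem main (A : Type u) [CommRing A] [IsRegularLocalRing A]
    (M : Type u) [AddCommGroup M] [Module A M] [Module.Finite A M] (i : ℕ) (p : Ideal A) [p.IsPrime]
    (h : Nontrivial (Abelian.Ext
      (ModuleCat.of (Localization.AtPrime p) (LocalizedModule p.primeCompl M))
      (ModuleCat.of (Localization.AtPrime p) (Localization.AtPrime p)) i)) :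
    ringKrullDim (A ⧸ p) + (i : WithBot ℕ∞) ≤ ringKrullDim A := by
  have hreg : IsRegularLocalRing (Localization.AtPrime p) :=
    Groth.Agent.Lib.Helper77.RegularLocalization.localization_regular A p
  obtain ⟨d, hd⟩ := Groth.Agent.Lib.Helper77.RegularAB.exists_ringKrullDim_eq (Localization.AtPrime p)
  have h1 : HasProjectiveDimensionLT (ModuleCat.of (Localization.AtPrime p)
      (LocalizedModule p.primeCompl M)) (d + 1) :=
    Groth.Agent.Lib.Helper76.hasProjectiveDimensionLT_of_isRegularLocalRing _ d hd _
  have hid : i ≤ d := by
    by_contra hcon
    push Not at hcon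
    have := HasProjectiveDimensionLT.subsingleton (ModuleCat.of (Localization.AtPrime p)
      (LocalizedModule p.primeCompl M)) (d + 1) i (by omega)
      (ModuleCat.of (Localization.AtPrime p) (Localization.AtPrime p))
    exact not_subsingleton _ this
  have h6 : ringKrullDim (Localization.AtPrime p) = p.height :=
    IsLocalization.AtPrime.ringKrullDim_eq_height p (Localization.AtPrime p)
  rw [hd] at h6
  have h7 : p.height = (d : ℕ∞) := by exact_mod_cast h6.symm
  have h3 := Groth.Agent.Lib.Helper77.RegularAB.height_add_ringKrullDim_quotient_le A p
  rw [h7, add_comm] at h3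
  refine le_trans (add_le_add le_rfl ?_) h3
  exact_mod_cast hid


end Aux

/-- Let A be a regular local ring, M a finitely generated A-module and i ≥ 0. The support of Ext^i_A(M,
A) has dimension at most dim A − i: for every prime ideal p of A such that Ext^i over the
localization A_p of M_p into A_p is nonzero (this Ext group is the localization at p of Ext^i_A(M,
A)), one has dim(A/p) + i ≤ dim A. The published statement is for coherent analytic sheaves on an
n-dimensional complex manifold; this row is stated for any regular local ring. -/
theorem result (A : Type u) [CommRing A] [IsRegularLocalRing A]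
    (M : Type u) [AddCommGroup M] [Module A M] [Module.Finite A M] (i : ℕ) (p : Ideal A) [p.IsPrime]
    (h : Nontrivial (Abelian.Ext
      (ModuleCat.of (Localization.AtPrime p) (LocalizedModule p.primeCompl M))
      (ModuleCat.of (Localization.AtPrime p) (Localization.AtPrime p)) i)) :
    ringKrullDim (A ⧸ p) + (i : WithBot ℕ∞) ≤ ringKrullDim A := by
  exact main A M i p h

end Groth.Agent.S11496
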