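import Groth.Statements.S11497
import Mathlib

set_option autoImplicit false
universe w v u
open CategoryTheory
open VBPn

namespace Groth.Agent.S11497

open CategoryTheory.Limits Abelian

section

variable {C : Type u} [Category.{v} C] [Abelian C] [HasExt.{w} C]

/-- the short exact sequence `0 ⟶ cycles ⟶ X₂ ⟶ X₃ ⟶ 0` -/
lemma shortExact_cycles (M : ShortComplex C) [Epi M.g] :
    (ShortComplex.mk M.iCycles M.g M.iCycles_g).ShortExact where
  exact := ShortComplex.exact_of_f_is_kernel _ M.cyclesIsKernel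

/-- the short exact sequence `0 ⟶ X₁ ⟶ cycles ⟶ homology ⟶ 0` -/
lemma shortExact_homology (M : ShortComplex C) [Mono M.f] :
    (ShortComplex.mk M.toCycles M.homologyπ M.toCycles_comp_homologyπ).ShortExact where
  exact := ShortComplex.exact_of_g_is_cokernel _ M.homologyIsCokernel
  mono_f := by
    dsimp
    have : Mono (M.toCycles ≫ M.iCycles) := by rw [M.toCycles_i]; infer_instance
    exact mono_of_mono M.toCycles M.iCycles

variable (M M' : ShortComplex C) [Mono M.f] [Epi M.g] [Mono M'.f] [Epi M'.g]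
    (hBA : ∀ f : M.X₂ ⟶ M'.X₁, f = 0) (hCB : ∀ f : M.X₃ ⟶ M'.X₂, f = 0)
    (hCA₁ : Subsingleton (Abelian.Ext M.X₃ M'.X₁ 1)) (hBA₁ : Subsingleton (Abelian.Ext M.X₂ M'.X₁ 1))
    (hCB₁ : Subsingleton (Abelian.Ext M.X₃ M'.X₂ 1)) (hCA₂ : Subsingleton (Abelian.Ext M.X₃ M'.X₁ 2))

include hBA hCA₁ in
lemma F1 (h : M.cycles ⟶ M'.X₁) : h = 0 := by
  have hS := shortExact_cycles M
  obtain ⟨x₂, hx₂⟩ := Ext.contravariant_sequence_exact₁ hS M'.X₁ (Ext.mk₀ h) (n₁ := 1) (by lia)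
    (Subsingleton.elim _ _)
  obtain ⟨b, rfl⟩ := (Ext.mk₀_bijective _ _).2 x₂
  dsimp at hx₂ b
  rw [hBA b, Ext.mk₀_zero, Ext.comp_zero] at hx₂
  exact (Ext.mk₀_eq_zero_iff h).1 hx₂.symm

include hBA₁ hCA₂ in
lemma F2 : Subsingleton (Abelian.Ext M.cycles M'.X₁ 1) := by
  have hS := shortExact_cycles M
  refine ⟨fun x y => ?_⟩
  suffices ∀ x : Abelian.Ext M.cycles M'.X₁ 1, x = 0 by rw [this x, this y]
  intro x
  obtain ⟨x₂, hx₂⟩ := Ext.contravariant_sequence_exact₁ hS M'.X₁ x (n₁ := 2) (by lia)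
    (Subsingleton.elim _ _)
  dsimp at x₂ hx₂
  rw [Subsingleton.elim x₂ 0, Ext.comp_zero] at hx₂
  exact hx₂.symm

include hBA hCA₁ in
lemma F3_inj (ψ₁ ψ₂ : M.cycles ⟶ M'.cycles) (h : ψ₁ ≫ M'.homologyπ = ψ₂ ≫ M'.homologyπ) :
    ψ₁ = ψ₂ := by
  have hS' := shortExact_homology M'
  rw [← sub_eq_zero]
  have h0 : (ψ₁ - ψ₂) ≫ M'.homologyπ = 0 := by rw [Preadditive.sub_comp, h, sub_self]
  have : Mono M'.toCycles := hS'.mono_f
  obtain ⟨l, hl⟩ : ∃ l : M.cycles ⟶ M'.X₁, l ≫ M'.toCycles = ψ₁ - ψ₂ :=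
    ⟨hS'.exact.lift (ψ₁ - ψ₂) h0, hS'.exact.lift_f _ _⟩
  rw [← hl, F1 M M' hBA hCA₁ l, zero_comp]

include hBA₁ hCA₂ in
lemma F3_surj (θ : M.cycles ⟶ M'.homology) : ∃ ψ : M.cycles ⟶ M'.cycles, ψ ≫ M'.homologyπ = θ := by
  have hS' := shortExact_homology M'
  have := F2 M M' hBA₁ hCA₂
  obtain ⟨x₂, hx₂⟩ := Ext.covariant_sequence_exact₃ M.cycles hS' (Ext.mk₀ θ) (n₁ := 1) (by lia)
    (Subsingleton.elim _ _)
  obtain ⟨ψ, rfl⟩ := (Ext.mk₀_bijective _ _).2 x₂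
  dsimp at ψ hx₂
  rw [Ext.mk₀_comp_mk₀] at hx₂
  exact ⟨ψ, (Ext.mk₀_bijective _ _).1 hx₂⟩

include hCB in
lemma F4_inj (β₁ β₂ : M.X₂ ⟶ M'.X₂) (h : M.iCycles ≫ β₁ = M.iCycles ≫ β₂) : β₁ = β₂ := by
  have hS := shortExact_cycles M
  rw [← sub_eq_zero]
  have h0 : M.iCycles ≫ (β₁ - β₂) = 0 := by rw [Preadditive.comp_sub, h, sub_self]
  have : Epi M.g := inferInstance
  obtain ⟨l, hl⟩ : ∃ l : M.X₃ ⟶ M'.X₂, M.g ≫ l = β₁ - β₂ :=
    ⟨hS.exact.desc (β₁ - β₂) h0, hS.exact.g_desc _ _⟩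
  rw [← hl, hCB l, comp_zero]

include hCB₁ in
lemma F4_surj (κ : M.cycles ⟶ M'.X₂) : ∃ β : M.X₂ ⟶ M'.X₂, M.iCycles ≫ β = κ := by
  have hS := shortExact_cycles M
  obtain ⟨x₂, hx₂⟩ := Ext.contravariant_sequence_exact₁ hS M'.X₂ (Ext.mk₀ κ) (n₁ := 1) (by lia)
    (Subsingleton.elim _ _)
  obtain ⟨β, rfl⟩ := (Ext.mk₀_bijective _ _).2 x₂
  dsimp at β hx₂
  rw [Ext.mk₀_comp_mk₀] at hx₂
  exact ⟨β, (Ext.mk₀_bijective _ _).1 hx₂⟩

end

/-- In an abelian category, let M : A → B → C and M' : A' → B' → C' be monads, i.e. short complexes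
whose first map is a monomorphism and whose second map is an epimorphism, with cohomology (homology)
objects E and E'. Suppose Hom(B, A') = 0, Hom(C, B') = 0 and Ext^1(C, A') = Ext^1(B, A') = Ext^1(C,
B') = Ext^2(C, A') = 0. Then the map sending a morphism of monads M → M' to the induced morphism E →
E' is bijective. The published statement is for monads of vector bundles on a complex manifold X,
with Ext^i(C, A') written H^i(X, C^* ⊗ A'); this row is stated in any abelian category. -/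
theorem result {C : Type u} [Category.{v} C] [Abelian C] [HasExt.{w} C]
    (M M' : ShortComplex C) [Mono M.f] [Epi M.g] [Mono M'.f] [Epi M'.g]
    (hBA : ∀ f : M.X₂ ⟶ M'.X₁, f = 0) (hCB : ∀ f : M.X₃ ⟶ M'.X₂, f = 0)
    (hCA₁ : Subsingleton (Abelian.Ext M.X₃ M'.X₁ 1)) (hBA₁ : Subsingleton (Abelian.Ext M.X₂ M'.X₁ 1))
    (hCB₁ : Subsingleton (Abelian.Ext M.X₃ M'.X₂ 1)) (hCA₂ : Subsingleton (Abelian.Ext M.X₃ M'.X₁ 2)) :
    Function.Bijective (fun φ : M ⟶ M' => ShortComplex.homologyMap φ) := by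
  have hS := shortExact_cycles M
  have hS' := shortExact_homology M'
  have hT := shortExact_homology M
  constructor
  · intro Φ Φ' h
    dsimp only at h
    have h1 : ShortComplex.cyclesMap Φ = ShortComplex.cyclesMap Φ' := by
      apply F3_inj M M' hBA hCA₁
      rw [← ShortComplex.homologyπ_naturality, ← ShortComplex.homologyπ_naturality, h]
    have h2 : Φ.τ₂ = Φ'.τ₂ := by
      apply F4_inj M M' hCB
      rw [← ShortComplex.cyclesMap_i, ← ShortComplex.cyclesMap_i, h1]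
    have h1' : Φ.τ₁ = Φ'.τ₁ := by
      rw [← cancel_mono M'.f, Φ.comm₁₂, Φ'.comm₁₂, h2]
    have h3 : Φ.τ₃ = Φ'.τ₃ := by
      rw [← cancel_epi M.g, ← Φ.comm₂₃, ← Φ'.comm₂₃, h2]
    exact ShortComplex.hom_ext _ _ h1' h2 h3
  · intro φ
    obtain ⟨ψ, hψ⟩ := F3_surj M M' hBA₁ hCA₂ (M.homologyπ ≫ φ)
    obtain ⟨β, hβ⟩ := F4_surj M M' hCB₁ (ψ ≫ M'.iCycles)
    have : Mono M'.toCycles := hS'.mono_f
    have hα0 : (M.toCycles ≫ ψ) ≫ M'.homologyπ = 0 := by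
      rw [Category.assoc, hψ, M.toCycles_comp_homologyπ_assoc, zero_comp]
    obtain ⟨α, hα⟩ : ∃ α : M.X₁ ⟶ M'.X₁, α ≫ M'.toCycles = M.toCycles ≫ ψ :=
      ⟨hS'.exact.lift _ hα0, hS'.exact.lift_f _ _⟩
    have hγ0 : M.iCycles ≫ (β ≫ M'.g) = 0 := by
      rw [← Category.assoc, hβ, Category.assoc, M'.iCycles_g, comp_zero]
    obtain ⟨γ, hγ⟩ : ∃ γ : M.X₃ ⟶ M'.X₃, M.g ≫ γ = β ≫ M'.g :=
      ⟨hS.exact.desc _ hγ0, hS.exact.g_desc _ _⟩
    have comm₁₂ : α ≫ M'.f = M.f ≫ β := by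
      rw [← M'.toCycles_i, ← Category.assoc, hα, Category.assoc, ← hβ, ← Category.assoc,
        M.toCycles_i]
    let Φ : M ⟶ M' := ⟨α, β, γ, comm₁₂, hγ.symm⟩
    refine ⟨Φ, ?_⟩
    dsimp only
    rw [← cancel_epi M.homologyπ, ShortComplex.homologyπ_naturality]
    have hc : ShortComplex.cyclesMap Φ = ψ := by
      rw [← cancel_mono M'.iCycles, ShortComplex.cyclesMap_i]
      exact hβ
    rw [hc, hψ]

end Groth.Agent.S11497
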