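import Groth.Statements.S11499
import Mathlib

set_option autoImplicit false
universe u
open TensorProduct
open VBPn

namespace Groth.Agent.S11499

/-- Let A be an integral domain with fraction field K and M a finitely generated torsion-free A-module
of rank r (K ⊗_A M is r-dimensional over K). Then there is an injective A-linear map M → A^r. The
published statement is for torsion-free coherent sheaves on a complex manifold, locally near a
point; this row is its statement for one stalk, over any domain. -/
theorem result (A : Type u) [CommRing A] [IsDomain A]
    (M : Type u) [AddCommGroup M] [Module A M] [Module.Finite A M] [NoZeroSMulDivisors A M] (r : ℕ)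
    (hr : Module.finrank (FractionRing A) (FractionRing A ⊗[A] M) = r) :
    ∃ f : M →ₗ[A] (Fin r → A), Function.Injective f := by
  classical
  let K := FractionRing A
  let ι : M →ₗ[A] K ⊗[A] M := TensorProduct.mk A K M 1
  have hι : Function.Injective ι := by
    rw [← LinearMap.ker_eq_bot, LinearMap.ker_eq_bot']
    intro m hm
    obtain ⟨s, hs⟩ := (IsLocalizedModule.eq_zero_iff (nonZeroDivisors A) ι).mp hm
    rcases smul_eq_zero.mp hs with h | h
    · exact absurd h (nonZeroDivisors.coe_ne_zero s)
    · exact h
  have : Module.Finite K (K ⊗[A] M) := inferInstance
  let b : Module.Basis (Fin r) K (K ⊗[A] M) := Module.finBasisOfFinrankEq K _ hr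
  -- coordinates map, A-linear
  let c : M →ₗ[A] (Fin r → K) := (b.equivFun.toLinearMap.restrictScalars A).comp ι
  have hc : Function.Injective c := by
    intro x y hxy
    apply hι
    exact b.equivFun.injective hxy
  obtain ⟨S, hS⟩ := Module.Finite.fg_top (R := A) (M := M)
  -- clear denominators
  obtain ⟨d, hd⟩ := IsLocalization.exist_integer_multiples_of_finset (nonZeroDivisors A)
    ((S.product Finset.univ).image (fun p : M × Fin r => c p.1 p.2))
  let j : (Fin r → A) →ₗ[A] (Fin r → K) :=
    LinearMap.pi (fun i => (Algebra.linearMap A K).comp (LinearMap.proj i))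
  have hj : Function.Injective j := by
    intro x y hxy
    funext i
    have := congrFun hxy i
    exact IsFractionRing.injective A K this
  let g : M →ₗ[A] (Fin r → K) := (d : A) • c
  have hg : Function.Injective g := by
    intro x y hxy
    apply hc
    have h : (d : A) • c x = (d : A) • c y := hxy
    funext i
    have hi := congrFun h i
    simp only [Pi.smul_apply, Algebra.smul_def] at hi
    have hne : algebraMap A K (d : A) ≠ 0 := by
      intro h0
      exact nonZeroDivisors.coe_ne_zero d ((IsFractionRing.injective A K) (by simpa using h0))
    exact mul_left_cancel₀ hne hi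
  have hrange : LinearMap.range g ≤ LinearMap.range j := by
    rw [LinearMap.range_eq_map, ← hS, Submodule.map_span, Submodule.span_le]
    rintro _ ⟨m, hm, rfl⟩
    have : ∀ i, ∃ a : A, algebraMap A K a = (d : A) • c m i := by
      intro i
      have := hd (c m i) (Finset.mem_image.mpr ⟨(m, i), Finset.mem_product.mpr ⟨hm, Finset.mem_univ i⟩, rfl⟩)
      exact this
    choose a ha using this
    refine ⟨a, ?_⟩
    funext i
    simp [j, g, ha i]
  let e := LinearEquiv.ofInjective j hj
  refine ⟨e.symm.toLinearMap.comp (g.codRestrict (LinearMap.range j) (fun m => hrange ⟨m, rfl⟩)), ?_⟩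
  intro x y hxy
  apply hg
  have := e.symm.injective hxy
  exact congrArg Subtype.val this

end Groth.Agent.S11499
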