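import Groth.Statements.S11523
import Mathlib

set_option autoImplicit false
universe v u v' u'
open CategoryTheory CategoryTheory.Limits
open PervT

namespace Groth.Agent.S11523

section

variable {A : Type u} [Category.{v} A] [Abelian A] {B : Type u'} [Category.{v'} B] [Abelian B]
    (u : A ⥤ B) [PreservesFiniteLimits u] [PreservesFiniteColimits u]

/-- if `p` is epi and `ker (p ≫ q) ≤ ker p` then `q` is mono -/
lemma mono_of_kernelSubobject_le {X₀ X Q : A} (p : X₀ ⟶ X) [Epi p] (q : X ⟶ Q)
    (h : kernelSubobject (p ≫ q) ≤ kernelSubobject p) : Mono q := by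
  apply Preadditive.mono_of_cancel_zero
  intro Z z hz
  have : Epi (pullback.fst z p) := Abelian.epi_pullback_of_epi_g z p
  have h1 : pullback.snd z p ≫ (p ≫ q) = 0 := by
    rw [← Category.assoc, ← pullback.condition, Category.assoc, hz, comp_zero]
  have h2 : (kernelSubobject p).Factors (pullback.snd z p) :=
    Subobject.factors_of_le _ h ((kernelSubobject_factors_iff _ _).2 h1)
  have h3 : pullback.snd z p ≫ p = 0 := (kernelSubobject_factors_iff _ _).1 h2
  rw [← cancel_epi (pullback.fst z p), pullback.condition, h3, comp_zero]

variable (hart : ∀ X : A, IsArtinianObject X)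
    (hsimple : ∀ X : A, Simple X → Simple (u.obj X))

include hart hsimple in
lemma key (X₀ : A) [IsNoetherianObject X₀] : ∀ (X' : Subobject X₀) (X : A) (p : X₀ ⟶ X) [Epi p],
    kernelSubobject p = X' → ∀ (K : B) (k : K ⟶ u.obj X) [Mono k],
    (∀ (S : A) (g : u.obj S ⟶ K), g = 0) → IsZero K := by
  intro X'
  induction X' using WellFoundedGT.induction with
  | _ X' ih =>
    intro X p _ hp K k _ hK
    by_contra hK0
    have hX : ¬ IsZero X := by
      intro hX
      apply hK0
      have h0 : IsZero (u.obj X) := u.map_isZero hX
      rw [IsZero.iff_id_eq_zero, ← cancel_mono k]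
      exact h0.eq_of_tgt _ _
    have := hart X
    let S := simpleSubobject hX
    let s : S ⟶ X := simpleSubobjectArrow hX
    have : Simple (u.obj S) := hsimple S inferInstance
    let q : X ⟶ cokernel s := cokernel.π s
    have hSE : (ShortComplex.mk s q (cokernel.condition s)).ShortExact :=
      { exact := ShortComplex.exact_cokernel s }
    have hSE' := hSE.map_of_exact u
    -- k ≫ u.map q is mono
    have hmono : Mono (k ≫ u.map q) := by
      apply Preadditive.mono_of_kernel_zero
      set z := kernel.ι (k ≫ u.map q) with hz
      have hz0 : (z ≫ k) ≫ u.map q = 0 := by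
        rw [Category.assoc]; exact kernel.condition _
      have hm : Mono ((ShortComplex.mk s q (cokernel.condition s)).map u).f := hSE'.mono_f
      let l : kernel (k ≫ u.map q) ⟶ u.obj S := hSE'.exact.lift (z ≫ k) hz0
      have hl : l ≫ u.map s = z ≫ k := hSE'.exact.lift_f _ _
      have : Mono (l ≫ u.map s) := by rw [hl]; infer_instance
      have : Mono l := mono_of_mono l (u.map s)
      by_cases hl0 : l = 0
      · rw [← cancel_mono k, zero_comp, ← hl, hl0, zero_comp]
      · have : IsIso l := isIso_of_mono_of_nonzero hl0
        have h1 : inv l ≫ z = 0 := hK S _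
        rw [← cancel_epi (inv l), h1, comp_zero]
    -- strictness
    have hlt : X' < kernelSubobject (p ≫ q) := by
      rw [← hp]
      refine lt_of_le_of_ne (kernelSubobject_comp_le p q) ?_
      intro heq
      have : Mono q := mono_of_kernelSubobject_le p q heq.symm.le
      have hs0 : s = 0 := by
        rw [← cancel_mono q, zero_comp]; exact cokernel.condition s
      exact Simple.not_isZero S (by
        rw [IsZero.iff_id_eq_zero, ← cancel_mono s, hs0, comp_zero, comp_zero])
    exact hK0 (ih _ hlt (cokernel s) (p ≫ q) rfl K (k ≫ u.map q) hK)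

end

/-- Let `u : A ⥤ B` be a fully faithful exact functor of abelian categories admitting a left adjoint and
a right adjoint `uStar`. Suppose every object of `A` has finite length (it is both an artinian and a
noetherian object) and that `u` sends simple objects to simple objects. Then for every object `Y` of
`B` the counit `u (uStar Y) ⟶ Y` of the adjunction `u ⊣ uStar` is a monomorphism. (The published
statement also lists two further conditions equivalent to this one: that for every object `Y` of `B`
the unit `Y ⟶ u (L Y)` of the adjunction `L ⊣ u` of the left adjoint `L` is an epimorphism, and that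
the essential image of `u` is stable under subobjects and quotients; this row states only the counit
condition.) -/
theorem result {A : Type u} [Category.{v} A] [Abelian A] {B : Type u'} [Category.{v'} B] [Abelian B]
    (u : A ⥤ B) [u.Full] [u.Faithful] [PreservesFiniteLimits u] [PreservesFiniteColimits u] [u.IsRightAdjoint]
    (uStar : B ⥤ A) (adj : u ⊣ uStar)
    (hlen : ∀ X : A, IsArtinianObject X ∧ IsNoetherianObject X)
    (hsimple : ∀ X : A, Simple X → Simple (u.obj X)) (Y : B) :
    Mono (adj.counit.app Y) := by
  apply Preadditive.mono_of_kernel_zero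
  set ε := adj.counit.app Y with hε
  have hK : ∀ (S : A) (g : u.obj S ⟶ kernel ε), g = 0 := by
    intro S g
    obtain ⟨g', hg'⟩ := u.map_surjective (g ≫ kernel.ι ε)
    have h1 : (adj.homEquiv S Y).symm g' = (adj.homEquiv S Y).symm 0 := by
      rw [Adjunction.homEquiv_counit, Adjunction.homEquiv_counit, hg', Category.assoc,
        kernel.condition, comp_zero, u.map_zero, zero_comp]
    have h2 : g' = 0 := (adj.homEquiv S Y).symm.injective h1
    rw [← cancel_mono (kernel.ι ε), ← hg', h2, u.map_zero, zero_comp]
  have := (hlen (uStar.obj Y)).2
  have hz : IsZero (kernel ε) :=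
    key u (fun X => (hlen X).1) hsimple (uStar.obj Y) _ (uStar.obj Y) (𝟙 _) rfl (kernel ε)
      (kernel.ι ε) hK
  exact hz.eq_of_src _ _

end Groth.Agent.S11523
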