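import Groth.Statements.S1153
import Groth.Agent.S0081
import Groth.Agent.Lib.Helper63.DescendSurj
import Mathlib.AlgebraicGeometry.Morphisms.FlatDescent
import Mathlib.AlgebraicGeometry.Morphisms.Proper
import Mathlib.AlgebraicGeometry.PullbackCarrier

set_option autoImplicit false
open CategoryTheory CategoryTheory.Limits AlgebraicGeometry Opposite
universe u
open Desc

namespace Groth.Agent.S1153

/-- Let f : X ⟶ Y be locally of finite type, Z a closed subset of X and g : Y' ⟶ Y quasi-compact, flat
and surjective. If the preimage of Z in X ×_Y Y' is proper over Y', then Z is proper over Y. -/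
theorem result {X Y Y' : Scheme.{u}} (f : X ⟶ Y) [LocallyOfFiniteType f] (Z : Set X) (hZ : IsClosed Z)
    (g : Y' ⟶ Y) [QuasiCompact g] [Flat g] [Surjective g]
    (h : ClSub.IsProperOver (pullback.snd f g) ((pullback.fst f g).base ⁻¹' Z)) :
    ClSub.IsProperOver f Z := by
  obtain ⟨hZ', hprop⟩ := h
  refine ⟨hZ, ?_⟩
  set I := Scheme.IdealSheafData.vanishingIdeal ⟨Z, hZ⟩ with hI
  set I' := Scheme.IdealSheafData.vanishingIdeal ⟨(pullback.fst f g).base ⁻¹' Z, hZ'⟩ with hI'
  have hIsupp : (I.support : Set X) = Z := by
    rw [hI, Scheme.IdealSheafData.coe_support_vanishingIdeal]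
    rfl
  have hI'supp : (I'.support : Set ↥(pullback f g)) = (pullback.fst f g).base ⁻¹' Z := by
    rw [hI', Scheme.IdealSheafData.coe_support_vanishingIdeal]
    rfl
  let k := pullback.snd I.subschemeι (pullback.fst f g)
  let q := pullback.fst I.subschemeι (pullback.fst f g)
  have hrange_k : Set.range k = (pullback.fst f g).base ⁻¹' Z := by
    rw [Scheme.Pullback.range_snd, I.range_subschemeι, hIsupp]
  have hker : k.ker ≤ I'.subschemeι.ker := by
    rw [Scheme.IdealSheafData.ker_subschemeι, ← Scheme.IdealSheafData.le_support_iff_le_vanishingIdeal]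
    intro x hx
    show x ∈ (k.ker.support : Set _)
    rw [Scheme.Hom.support_ker, k.isClosedEmbedding.isClosed_range.closure_eq, hrange_k]
    exact hx
  let hh := IsClosedImmersion.lift k I'.subschemeι hker
  have hfac : hh ≫ k = I'.subschemeι := IsClosedImmersion.lift_fac k I'.subschemeι hker
  haveI : IsClosedImmersion (hh ≫ k) := by
    rw [hfac]
    infer_instance
  haveI : IsClosedImmersion hh := IsClosedImmersion.of_comp_isClosedImmersion hh k
  haveI : Surjective hh := by
    refine ⟨fun t => ?_⟩
    have ht : k t ∈ Set.range I'.subschemeι := by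
      rw [I'.range_subschemeι, hI'supp, ← hrange_k]
      exact ⟨t, rfl⟩
    obtain ⟨w, hw⟩ := ht
    refine ⟨w, k.isClosedEmbedding.injective ?_⟩
    rw [← hw, ← hfac]
    rfl
  haveI : IsProper (hh ≫ (k ≫ pullback.snd f g)) := by
    rw [← Category.assoc, hfac]
    exact hprop
  haveI : UniversallyClosed (k ≫ pullback.snd f g) := UniversallyClosed.of_comp_surjective hh _
  haveI : IsSeparated (k ≫ pullback.snd f g) :=
    Groth.Agent.Lib.Helper63.DescendSurj.isSeparated_of_comp_surjective hh _
  have sq : IsPullback (k ≫ pullback.snd f g) q g (I.subschemeι ≫ f) :=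
    (IsPullback.of_hasPullback I.subschemeι (pullback.fst f g)).flip.paste_horiz
      (IsPullback.of_hasPullback f g).flip
  have hQ : (@Surjective ⊓ @Flat ⊓ @QuasiCompact : MorphismProperty Scheme.{u}) g :=
    ⟨⟨inferInstance, inferInstance⟩, inferInstance⟩
  haveI : IsSeparated (I.subschemeι ≫ f) :=
    (Groth.Agent.S0081.result.{u}).of_isPullback sq hQ inferInstance
  haveI : UniversallyClosed (I.subschemeι ≫ f) :=
    MorphismProperty.DescendsAlong.of_isPullback (P := @UniversallyClosed)
      (Q := (@Surjective ⊓ @Flat ⊓ @QuasiCompact : MorphismProperty Scheme.{u})) sq hQ inferInstance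
  haveI : LocallyOfFiniteType (I.subschemeι ≫ f) := inferInstance
  exact {}

end Groth.Agent.S1153
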