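import Groth.Statements.S1154
import Groth.Agent.Lib.Helper35.PowDescent
import Groth.Agent.Lib.Helper35.PerfPic
import Groth.Agent.Lib.Helper35.ModRestrict
import Groth.Agent.Lib.Lead.Ample1

set_option autoImplicit false
open CategoryTheory CategoryTheory.Limits AlgebraicGeometry Opposite
universe u
open PicF

namespace Groth.Agent.S1154

/-- Let k have characteristic p > 0, let X be quasi-compact and quasi-separated over k whose ring of
global functions is k itself (the structure morphism induces an isomorphism on global sections), let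
n be prime to p and k'/k purely inseparable. Then every isomorphism class of invertible modules M on
X_{k'} with M^n trivial is the pullback of such a class on X (injectivity of this pullback on
classes being a separate fact). -/
theorem result (k : Type u) [Field k] (p : ℕ) [Fact p.Prime] [CharP k p]
    (X : Scheme.{u}) (f : X ⟶ Spec (CommRingCat.of k)) [CompactSpace X] [QuasiSeparatedSpace X]
    (hH0 : IsIso f.appTop) (n : ℕ) (hn : ¬ p ∣ n) (k' : Type u) [Field k'] [Algebra k k'] [IsPurelyInseparable k k'] :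
    ∀ d : PicF.Cl (pullback f (Spec.map (CommRingCat.ofHom (algebraMap k k')))), (PicF.IsInvertibleCl d ∧ ∃ M : ((pullback f (Spec.map (CommRingCat.ofHom (algebraMap k k'))))).Modules, PicF.cl M = d ∧ Nonempty (CohB1.tensorPow M n ≅ Coh.structureModule ((pullback f (Spec.map (CommRingCat.ofHom (algebraMap k k'))))))) →
      ∃ c : PicF.Cl X, (PicF.IsInvertibleCl c ∧ ∃ M : (X).Modules, PicF.cl M = c ∧ Nonempty (CohB1.tensorPow M n ≅ Coh.structureModule (X))) ∧ PicF.pullCl (pullback.fst f (Spec.map (CommRingCat.ofHom (algebraMap k k')))) c = d := by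
  rintro d ⟨⟨L, hLd, hL⟩, M, hMd, htors⟩
  obtain ⟨e0⟩ := Groth.Agent.Lib.Helper35.PerfPic.cl_eq_iff.mp (hLd.trans hMd.symm)
  have hM : PicF.IsInvertible M := Groth.Agent.Lib.Helper35.ModRestrict.isInvertible_of_iso e0 hL
  haveI : FrobSch.IsCharP X p := FrobSch.IsCharP.of_hom f p
  have hhomeo : IsHomeomorph (pullback.fst f (Spec.map (CommRingCat.ofHom (algebraMap k k')))) :=
    Groth.Agent.Lib.Helper35.PInsep.isHomeomorph_fst p f
  haveI : Surjective (pullback.fst f (Spec.map (CommRingCat.ofHom (algebraMap k k')))) :=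
    ⟨hhomeo.surjective⟩
  haveI : Flat (Spec.map (CommRingCat.ofHom (algebraMap k k'))) :=
    Groth.Agent.Lib.Helper35.PInsep.flat_specMap
  haveI : Flat (pullback.fst f (Spec.map (CommRingCat.ofHom (algebraMap k k')))) := inferInstance
  have hinj : ∀ U : X.Opens, Function.Injective
      (Groth.Agent.Lib.Helper35.PerfAmple.papp
        (pullback.fst f (Spec.map (CommRingCat.ofHom (algebraMap k k')))) U) := fun U =>
    Groth.Agent.Lib.Helper35.PInsep.app_injective _ U
  obtain ⟨m, N, hN, ⟨eN⟩, ⟨ψ⟩⟩ := Groth.Agent.Lib.Helper35.PowDescent.exists_descent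
    (pullback.fst f (Spec.map (CommRingCat.ofHom (algebraMap k k')))) p hhomeo hinj
    (fun U => Groth.Agent.Lib.Helper35.PInsep.powLifts_affine p f U) hM n htors
  -- arithmetic
  have hn0 : n ≠ 0 := by
    rintro rfl
    exact hn (dvd_zero p)
  have hcop : Nat.Coprime (p ^ m) n :=
    Nat.Coprime.pow_left m ((Nat.Prime.coprime_iff_not_dvd Fact.out).mpr hn)
  obtain ⟨a, b, hab⟩ : ∃ a b : ℕ, p ^ m * a = b * n + 1 := by
    rcases Nat.lt_or_ge 1 n with h1 | h1
    · obtain ⟨a, -, ha⟩ := Nat.exists_mul_mod_eq_one_of_coprime hcop h1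
      refine ⟨a, p ^ m * a / n, ?_⟩
      have := Nat.div_add_mod (p ^ m * a) n
      rw [ha] at this
      rw [mul_comm (p ^ m * a / n) n]
      exact this.symm
    · have hn1 : n = 1 := by omega
      subst hn1
      have hq : 0 < p ^ m := pow_pos (Fact.out : p.Prime).pos m
      exact ⟨1, p ^ m - 1, by omega⟩
  refine ⟨PicF.cl (CohB1.tensorPow N a),
    ⟨⟨CohB1.tensorPow N a, rfl, Groth.Agent.Lib.Helper35.Gen.isInvertible_tensorPow hN a⟩,
      CohB1.tensorPow N a, rfl, ?_⟩, ?_⟩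
  · obtain ⟨e1⟩ := Groth.Agent.Lib.Lead.Inv.nonempty_tensorPow_mul hN a n
    obtain ⟨e2⟩ := Groth.Agent.Lib.Lead.Inv.nonempty_tensorPow_mul hN n a
    obtain ⟨e3⟩ := Groth.Agent.Lib.Lead.Inv.nonempty_tensorPow_congr eN a
    obtain ⟨e4⟩ := Groth.Agent.Lib.Lead.Inv.nonempty_tensorPow_unit (X := X) a
    exact ⟨e1 ≪≫ eqToIso (by rw [mul_comm]) ≪≫ e2.symm ≪≫ e3 ≪≫ e4⟩
  · rw [← hMd]
    apply Groth.Agent.Lib.Helper35.PerfPic.cl_eq_iff.mpr
    obtain ⟨f1⟩ := Groth.Agent.Lib.Helper35.PbTensor.nonempty_pullback_tensorPow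
      (u := pullback.fst f (Spec.map (CommRingCat.ofHom (algebraMap k k')))) hN a
    obtain ⟨f2⟩ := Groth.Agent.Lib.Lead.Inv.nonempty_tensorPow_congr ψ a
    obtain ⟨f3⟩ := Groth.Agent.Lib.Lead.Inv.nonempty_tensorPow_mul hM (p ^ m) a
    -- M^(b*n+1) = tensorMod (M^(b*n)) M
    obtain ⟨f4⟩ := Groth.Agent.Lib.Lead.Inv.nonempty_tensorPow_mul hM n b
    obtain ⟨f5⟩ := Groth.Agent.Lib.Lead.Inv.nonempty_tensorPow_congr htors.some b
    obtain ⟨f6⟩ := Groth.Agent.Lib.Lead.Inv.nonempty_tensorPow_unit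
      (X := pullback f (Spec.map (CommRingCat.ofHom (algebraMap k k')))) b
    obtain ⟨f7⟩ := Groth.Agent.Lib.Helper60.TensorLib.nonempty_tensorMod_unit_left M
    have g1 : CohB1.tensorPow M (n * b) ≅ Coh.structureModule _ := f4.symm ≪≫ f5 ≪≫ f6
    have g2 : CohB1.tensorPow M (p ^ m * a) ≅ CohB1.tensorPow M (n * b + 1) :=
      eqToIso (by rw [hab, mul_comm b n])
    have g3 : CohB1.tensorPow M (n * b + 1) ≅ M :=
      Groth.Agent.Lib.Helper60.TensorLib.tensorModCongrLeft g1 M ≪≫ f7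
    exact ⟨f1 ≪≫ f2 ≪≫ f3 ≪≫ g2 ≪≫ g3⟩

end Groth.Agent.S1154
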