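import Mathlib
import Groth.Statements.S11544
import Groth.Agent.Lib.Helper9.HenselVal

set_option autoImplicit false
universe u
open AdicRing

namespace Groth.Agent.S11544

open Polynomial IsLocalRing IntermediateField Groth.Agent.Lib.Helper9.HenselVal

/-- Let R be a complete valuation ring of height one with t a nonzero element generating an ideal of
definition, K its field of fractions, L an algebraic extension field of K and α an element of L.
Then α is integral over R if and only if the norm of α from K(α) down to K lies in R. -/
theorem result
    (R : Type u) [CommRing R] [IsDomain R] [ValuationRing R] [Ring.KrullDimLE 1 R]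
    (t : R) (ht : t ≠ 0) [IsAdicComplete (Ideal.span {t}) R]
    (L : Type u) [Field L] [Algebra R L] [Algebra (FractionRing R) L]
    [IsScalarTower R (FractionRing R) L] [Algebra.IsAlgebraic (FractionRing R) L] (α : L) :
    IsIntegral R α ↔
      Algebra.norm (FractionRing R) (IntermediateField.AdjoinSimple.gen (FractionRing R) α) ∈
        (algebraMap R (FractionRing R)).range := by
  have hR : HenselianLocalRing R := henselianLocalRing_of_valuationRing t ht
  have hαK : IsIntegral (FractionRing R) α := Algebra.IsIntegral.isIntegral α
  have hnorm : Algebra.norm (FractionRing R) (AdjoinSimple.gen (FractionRing R) α) =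
      (-1) ^ (minpoly (FractionRing R) α).natDegree * (minpoly (FractionRing R) α).coeff 0 := by
    have := Algebra.PowerBasis.norm_gen_eq_coeff_zero_minpoly (adjoin.powerBasis hαK)
    rwa [adjoin.powerBasis_gen, minpoly_gen, adjoin.powerBasis_dim] at this
  constructor
  · intro hint
    have htow : IsScalarTower R (FractionRing R)⟮α⟯ L :=
      IsScalarTower.to₁₃₄ R (FractionRing R) (FractionRing R)⟮α⟯ L
    have hgen : IsIntegral R (AdjoinSimple.gen (FractionRing R) α) := by
      rw [← isIntegral_algebraMap_iff (algebraMap (FractionRing R)⟮α⟯ L).injective,
        AdjoinSimple.algebraMap_gen]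
      exact hint
    have h1 := Algebra.isIntegral_norm (FractionRing R) hgen
    obtain ⟨y, hy⟩ := IsIntegrallyClosed.isIntegral_iff.1 h1
    exact ⟨y, hy⟩
  · intro hmem
    have h0 : (minpoly (FractionRing R) α).coeff 0 ∈ (algebraMap R (FractionRing R)).range := by
      have h1 : (minpoly (FractionRing R) α).coeff 0 =
          (-1) ^ (minpoly (FractionRing R) α).natDegree *
            Algebra.norm (FractionRing R) (AdjoinSimple.gen (FractionRing R) α) := by
        rw [hnorm, ← mul_assoc, ← mul_pow, neg_one_mul, neg_neg, one_pow, one_mul]
      rw [h1]
      exact mul_mem (pow_mem (neg_mem (one_mem _)) _) hmem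
    have hall := coeff_mem_range_of_irreducible hR (minpoly (FractionRing R) α)
      (minpoly.irreducible hαK) (minpoly.monic hαK) h0
    have hl : minpoly (FractionRing R) α ∈ lifts (algebraMap R (FractionRing R)) :=
      (lifts_iff_coeff_lifts _).2 hall
    obtain ⟨p, hp, -, hpm⟩ := lifts_and_degree_eq_and_monic hl (minpoly.monic hαK)
    refine ⟨p, hpm, ?_⟩
    have h2 : aeval α (p.map (algebraMap R (FractionRing R))) = 0 := by
      rw [hp]; exact minpoly.aeval _ α
    rwa [aeval_map_algebraMap] at h2

end Groth.Agent.S11544
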