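import Groth.Statements.S11545
import Mathlib.RingTheory.AdicCompletion.RingHom
import Mathlib.RingTheory.AdicCompletion.Completeness
import Mathlib.Tactic

set_option autoImplicit false
universe u
open AdicRing

namespace Groth.Agent.S11545

section Chart

variable {R : Type u} [CommRing R] {A : Type u} [CommRing A] [Algebra R A]
  {ι : Type} (f : ι → A) (i : ι) {B : Type u} [CommRing B] [Algebra R B]

/-- the polynomial-level map `A[ζ_j] → B`, `ζ_j ↦ b_j` -/
noncomputable def g₀ (φ : A →ₐ[R] B) (b : {j : ι // j ≠ i} → B) :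
    MvPolynomial {j : ι // j ≠ i} A →ₐ[R] B where
  toRingHom := MvPolynomial.eval₂Hom (φ : A →+* B) b
  commutes' x := by
    have : algebraMap R (MvPolynomial {j : ι // j ≠ i} A) x = MvPolynomial.C (algebraMap R A x) := rfl
    simp only [RingHom.toMonoidHom_eq_coe, OneHom.toFun_eq_coe, MonoidHom.toOneHom_coe,
      MonoidHom.coe_coe, this, MvPolynomial.coe_eval₂Hom, MvPolynomial.eval₂_C]
    exact φ.commutes x

theorem g₀_C (φ : A →ₐ[R] B) (b : {j : ι // j ≠ i} → B) (a : A) :
    g₀ i φ b (MvPolynomial.C a) = φ a := by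
  change MvPolynomial.eval₂Hom (φ : A →+* B) b (MvPolynomial.C a) = φ a
  simp

theorem g₀_X (φ : A →ₐ[R] B) (b : {j : ι // j ≠ i} → B) (j : {j : ι // j ≠ i}) :
    g₀ i φ b (MvPolynomial.X j) = b j := by
  change MvPolynomial.eval₂Hom (φ : A →+* B) b (MvPolynomial.X j) = b j
  simp

/-- the map on the chart algebra -/
noncomputable def g (φ : A →ₐ[R] B) (b : {j : ι // j ≠ i} → B)
    (hb : ∀ j : {j : ι // j ≠ i}, φ (f i) * b j = φ (f j.1)) : chartAlg f i →ₐ[R] B :=
  Ideal.Quotient.liftₐ _ (g₀ i φ b) (by
    intro a ha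
    have : Ideal.span (Set.range fun j : {j : ι // j ≠ i} =>
        MvPolynomial.C (f i) * MvPolynomial.X j - MvPolynomial.C (f j.1)) ≤
        RingHom.ker (g₀ i φ b : MvPolynomial {j : ι // j ≠ i} A →+* B) := by
      rw [Ideal.span_le]
      rintro _ ⟨j, rfl⟩
      rw [SetLike.mem_coe, RingHom.mem_ker]
      change g₀ i φ b _ = 0
      rw [map_sub, map_mul, g₀_C, g₀_X, g₀_C, hb, sub_self]
    exact this ha)

theorem g_mk (φ : A →ₐ[R] B) (b : {j : ι // j ≠ i} → B)
    (hb : ∀ j : {j : ι // j ≠ i}, φ (f i) * b j = φ (f j.1)) (p : MvPolynomial {j : ι // j ≠ i} A) :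
    g f i φ b hb (Ideal.Quotient.mk _ p) = g₀ i φ b p := rfl

end Chart

section Ext

variable {R : Type u} [CommRing R] (I : Ideal R) {C : Type u} [CommRing C] [Algebra R C]
  {B : Type u} [CommRing B] [Algebra R B]

theorem map_pow_le_comap (g : C →ₐ[R] B) (n : ℕ) :
    (I.map (algebraMap R C)) ^ n ≤ Ideal.comap g ((I.map (algebraMap R B)) ^ n) := by
  have h1 : I.map (algebraMap R C) ≤ Ideal.comap g (I.map (algebraMap R B)) := by
    rw [Ideal.map_le_iff_le_comap]
    intro x hx
    rw [Ideal.mem_comap, Ideal.mem_comap, g.commutes]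
    exact Ideal.mem_map_of_mem _ hx
  exact le_trans (Ideal.pow_right_mono h1 n) (Ideal.le_comap_pow _ n)

variable [IsAdicComplete (I.map (algebraMap R B)) B]

/-- the level-`n` map -/
noncomputable def hn (g : C →ₐ[R] B) (n : ℕ) :
    AdicCompletion (I.map (algebraMap R C)) C →ₐ[R] B ⧸ (I.map (algebraMap R B)) ^ n :=
  (Ideal.quotientMapₐ ((I.map (algebraMap R B)) ^ n) g (map_pow_le_comap I g n)).comp
    ((AdicCompletion.evalₐ (I.map (algebraMap R C)) n).restrictScalars R)

theorem hn_mk (g : C →ₐ[R] B) (n : ℕ) (s : AdicCompletion.AdicCauchySequence (I.map (algebraMap R C)) C) :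
    hn I g n (AdicCompletion.mk _ C s) = Ideal.Quotient.mk _ (g (s.val n)) := by
  unfold hn
  rw [AlgHom.comp_apply, AlgHom.restrictScalars_apply, AdicCompletion.evalₐ_mk]
  rfl

theorem hn_compat (g : C →ₐ[R] B) {m n : ℕ} (hle : m ≤ n) :
    (Ideal.Quotient.factorₐ R (Ideal.pow_le_pow_right hle)).comp (hn I g n) = hn I g m := by
  ext x
  obtain ⟨s, rfl⟩ := AdicCompletion.mk_surjective _ _ x
  rw [AlgHom.comp_apply, hn_mk, hn_mk]
  change Ideal.Quotient.mk _ (g (s.val n)) = Ideal.Quotient.mk _ (g (s.val m))
  rw [Ideal.Quotient.eq, ← map_sub]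
  have h1 : s.val n - s.val m ∈ (I.map (algebraMap R C)) ^ m := by
    have := s.2 hle
    rw [SModEq.sub_mem] at this
    have h2 : s.val m - s.val n ∈ (I.map (algebraMap R C)) ^ m := by simpa using this
    have := neg_mem h2
    simpa using this
  exact map_pow_le_comap I g m h1

/-- extension of `g` to the completion -/
noncomputable def extCompl (g : C →ₐ[R] B) : AdicCompletion (I.map (algebraMap R C)) C →ₐ[R] B :=
  IsAdicComplete.liftAlgHom (I.map (algebraMap R B)) (hn I g) (hn_compat I g)

theorem mk_extCompl (g : C →ₐ[R] B) (n : ℕ) (x : AdicCompletion (I.map (algebraMap R C)) C) :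
    Ideal.Quotient.mk ((I.map (algebraMap R B)) ^ n) (extCompl I g x) = hn I g n x :=
  IsAdicComplete.mk_liftAlgHom _ _ (hn_compat I g) n x

theorem extCompl_of (g : C →ₐ[R] B) (c : C) :
    extCompl I g (AdicCompletion.of _ C c) = g c := by
  have := IsHausdorff.funext' (I.map (algebraMap R B))
    (f := fun c : C => extCompl I g (AdicCompletion.of _ C c)) (g := fun c => g c) (by
      intro n c
      rw [mk_extCompl]
      unfold hn
      rw [AlgHom.comp_apply, AlgHom.restrictScalars_apply, AdicCompletion.evalₐ_of]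
      rfl)
  exact congrFun this c

omit [IsAdicComplete (I.map (algebraMap R B)) B] in
theorem map_pow_le_comap' (ρ : C →+* B) (hρ : ∀ r, ρ (algebraMap R C r) = algebraMap R B r) (n : ℕ) :
    (I.map (algebraMap R C)) ^ n ≤ Ideal.comap ρ ((I.map (algebraMap R B)) ^ n) := by
  have h1 : I.map (algebraMap R C) ≤ Ideal.comap ρ (I.map (algebraMap R B)) := by
    rw [Ideal.map_le_iff_le_comap]
    intro x hx
    rw [Ideal.mem_comap, Ideal.mem_comap, hρ]
    exact Ideal.mem_map_of_mem _ hx
  exact le_trans (Ideal.pow_right_mono h1 n) (Ideal.le_comap_pow _ n)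

omit [IsAdicComplete (I.map (algebraMap R B)) B] in
/-- automatic continuity: an `R`-algebra map out of the completion sends `ker (eval n)` into `I^n B` -/
theorem algHom_mem_of_eval_eq_zero (hI : I.FG)
    (θ : AdicCompletion (I.map (algebraMap R C)) C →ₐ[R] B) (n : ℕ)
    (y : AdicCompletion (I.map (algebraMap R C)) C)
    (hy : AdicCompletion.eval (I.map (algebraMap R C)) C n y = 0) :
    θ y ∈ (I.map (algebraMap R B)) ^ n := by
  have hFG : (I.map (algebraMap R C)).FG := hI.map _
  have hmem : y ∈ ((I.map (algebraMap R C)) ^ n • ⊤ :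
      Submodule C (AdicCompletion (I.map (algebraMap R C)) C)) := by
    rw [AdicCompletion.pow_smul_top_eq_ker_eval hFG]
    exact hy
  refine Submodule.smul_induction_on hmem ?_ ?_
  · intro s hs z _
    rw [Algebra.smul_def, map_mul]
    apply Ideal.mul_mem_right
    have := map_pow_le_comap' I ((θ : _ →+* B).comp
      (algebraMap C (AdicCompletion (I.map (algebraMap R C)) C))) (by
        intro r
        rw [RingHom.comp_apply, ← IsScalarTower.algebraMap_apply]
        exact θ.commutes r) n hs
    exact this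
  · intro a b ha hb
    rw [map_add]
    exact add_mem ha hb

omit [IsAdicComplete (I.map (algebraMap R B)) B] in
/-- density: every element of the completion is congruent to an element of `C` modulo `ker (eval n)` -/
theorem exists_of_sub_eval_eq_zero (n : ℕ) (x : AdicCompletion (I.map (algebraMap R C)) C) :
    ∃ c : C, AdicCompletion.eval (I.map (algebraMap R C)) C n
      (x - AdicCompletion.of _ C c) = 0 := by
  obtain ⟨s, rfl⟩ := AdicCompletion.mk_surjective _ _ x
  refine ⟨s.val n, ?_⟩
  rw [map_sub, sub_eq_zero]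
  rfl

end Ext

/-- Let R be a base ring of class (N) or (V) for the ideal I, A an admissible R-algebra, f_0, ..., f_r
elements generating an open ideal 𝔞 of A, and A_i = C_i/(f_i-power torsion) the i-th chart algebra
of the formal blowing-up of 𝔞. Let B be an R-algebra complete and separated for the I-adic topology
and φ : A → B an R-algebra homomorphism such that the ideal 𝔞B is generated by φ(f_i), a
non-zero-divisor of B. Then there is exactly one R-algebra homomorphism A_i → B whose composite with
A → A_i is φ. -/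
theorem result
    (R : Type u) [CommRing R] (I : Ideal R) (hR : AdicRing.IsBase R I)
    (A : Type u) [CommRing A] [Algebra R A] (hA : AdicRing.Admissible R I A)
    (r : ℕ) (f : Fin (r + 1) → A) (k : ℕ)
    (hopen : (I ^ k).map (algebraMap R A) ≤ Ideal.span (Set.range f)) (i : Fin (r + 1))
    (B : Type u) [CommRing B] [Algebra R B] [IsAdicComplete (I.map (algebraMap R B)) B]
    (φ : A →ₐ[R] B) (hnzd : φ (f i) ∈ nonZeroDivisors B)
    (hgen : (Ideal.span (Set.range f)).map φ = Ideal.span {φ (f i)}) :
    ∃! ψ : AdicRing.chartAdm I f i →ₐ[R] B,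
      ψ.comp (IsScalarTower.toAlgHom R A (AdicRing.chartAdm I f i)) = φ := by
  classical
  have hIfg : I.FG := by
    rcases hR.2 with ⟨hN, _⟩ | ⟨_, _, _, t, _, rfl⟩
    · exact IsNoetherian.noetherian I
    · exact ⟨{t}, by simp⟩
  have hbex : ∀ j : {j : Fin (r + 1) // j ≠ i}, ∃ b : B, φ (f i) * b = φ (f j.1) := by
    intro j
    have h1 : φ (f j.1) ∈ (Ideal.span (Set.range f)).map φ :=
      Ideal.mem_map_of_mem _ (Ideal.subset_span ⟨j.1, rfl⟩)
    rw [hgen, Ideal.mem_span_singleton'] at h1
    obtain ⟨b, hb⟩ := h1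
    exact ⟨b, by rw [mul_comm]; exact hb⟩
  choose b hb using hbex
  let gg : chartAlg f i →ₐ[R] B := g f i φ b hb
  let ψhat : chartCompl I f i →ₐ[R] B := extCompl I gg
  have hggC : ∀ a : A, gg (algebraMap A (chartAlg f i) a) = φ a := fun a => g₀_C i φ b a
  have hψA : ∀ a : A, ψhat (algebraMap A (chartCompl I f i) a) = φ a := by
    intro a
    have : algebraMap A (chartCompl I f i) a =
        AdicCompletion.of _ _ (algebraMap A (chartAlg f i) a) := rfl
    rw [this, extCompl_of, hggC]
  have hT0 : ∀ x ∈ (⨆ n : ℕ, Submodule.torsionBy (chartCompl I f i) (chartCompl I f i)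
      (algebraMap A (chartCompl I f i) (f i) ^ n) : Ideal (chartCompl I f i)), ψhat x = 0 := by
    have : (⨆ n : ℕ, Submodule.torsionBy (chartCompl I f i) (chartCompl I f i)
      (algebraMap A (chartCompl I f i) (f i) ^ n) : Ideal (chartCompl I f i)) ≤
        RingHom.ker (ψhat : chartCompl I f i →+* B) := by
      apply iSup_le
      intro n x hx
      rw [Submodule.mem_torsionBy_iff] at hx
      rw [RingHom.mem_ker]
      have h2 : φ (f i) ^ n * ψhat x = 0 := by
        rw [← hψA, ← map_pow, ← map_mul, ← smul_eq_mul, hx, map_zero]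
      exact (mul_left_mem_nonZeroDivisors_eq_zero_iff (pow_mem hnzd n)).mp h2
    exact fun x hx => this hx
  let ψ : chartAdm I f i →ₐ[R] B := Ideal.Quotient.liftₐ _ ψhat hT0
  refine ⟨ψ, ?_, ?_⟩
  · ext a
    exact hψA a
  · intro ψ' hψ'
    let θ' : chartCompl I f i →ₐ[R] B := ψ'.comp (Ideal.Quotient.mkₐ R _)
    have hθA : ∀ a : A, θ' (algebraMap A (chartCompl I f i) a) = φ a := fun a =>
      AlgHom.congr_fun hψ' a
    have hE : ∀ c : chartAlg f i, θ' (AdicCompletion.of _ _ c) = gg c := by
      have hring : (θ' : chartCompl I f i →+* B).comp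
          (algebraMap (chartAlg f i) (chartCompl I f i)) = (gg : chartAlg f i →+* B) := by
        apply Ideal.Quotient.ringHom_ext
        apply MvPolynomial.ringHom_ext
        · intro a
          change θ' (algebraMap A (chartCompl I f i) a) = gg (algebraMap A (chartAlg f i) a)
          rw [hθA, hggC]
        · intro j
          have hrel : (Ideal.Quotient.mk _ (MvPolynomial.C (f i) * MvPolynomial.X j) : chartAlg f i) =
              Ideal.Quotient.mk _ (MvPolynomial.C (f j.1)) := by
            rw [Ideal.Quotient.eq]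
            exact Ideal.subset_span ⟨j, rfl⟩
          set ρ := (θ' : chartCompl I f i →+* B).comp
            (algebraMap (chartAlg f i) (chartCompl I f i)) with hρ
          have hρC : ∀ a : A, ρ (Ideal.Quotient.mk _ (MvPolynomial.C a)) = φ a := fun a => hθA a
          have h3 : φ (f i) * ρ (Ideal.Quotient.mk _ (MvPolynomial.X j)) = φ (f i) * b j := by
            calc φ (f i) * ρ (Ideal.Quotient.mk _ (MvPolynomial.X j))
                = ρ (Ideal.Quotient.mk _ (MvPolynomial.C (f i))) *
                    ρ (Ideal.Quotient.mk _ (MvPolynomial.X j)) := by rw [hρC]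
              _ = ρ (Ideal.Quotient.mk _ (MvPolynomial.C (f i) * MvPolynomial.X j)) := by
                    rw [← map_mul, ← map_mul]
              _ = ρ (Ideal.Quotient.mk _ (MvPolynomial.C (f j.1))) := by rw [hrel]
              _ = φ (f j.1) := hρC _
              _ = φ (f i) * b j := (hb j).symm
          have h4 : ρ (Ideal.Quotient.mk _ (MvPolynomial.X j)) = b j := by
            have h5 : φ (f i) * (ρ (Ideal.Quotient.mk _ (MvPolynomial.X j)) - b j) = 0 := by
              rw [mul_sub, h3, sub_self]
            exact sub_eq_zero.mp ((mul_left_mem_nonZeroDivisors_eq_zero_iff hnzd).mp h5)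
          change ρ (Ideal.Quotient.mk _ (MvPolynomial.X j)) = gg (Ideal.Quotient.mk _ (MvPolynomial.X j))
          rw [h4]
          exact (g₀_X i φ b j).symm
      intro c
      exact RingHom.congr_fun hring c
    have key : θ' = ψhat := by
      apply IsAdicComplete.algHom_ext (I.map (algebraMap R B))
      intro n
      ext x
      simp only [AlgHom.comp_apply, Ideal.Quotient.mkₐ_eq_mk]
      rw [Ideal.Quotient.eq]
      obtain ⟨c, hc⟩ := exists_of_sub_eval_eq_zero I n x
      have h1 := algHom_mem_of_eval_eq_zero I hIfg θ' n _ hc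
      have h2 := algHom_mem_of_eval_eq_zero I hIfg ψhat n _ hc
      rw [map_sub, hE] at h1
      rw [map_sub, extCompl_of] at h2
      have := sub_mem h1 h2
      convert this using 1
      ring
    apply AlgHom.ext
    intro y
    obtain ⟨x, rfl⟩ := Ideal.Quotient.mk_surjective y
    exact AlgHom.congr_fun key x

end Groth.Agent.S11545
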