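import Groth.Statements.S11546
import Mathlib.RingTheory.AdicCompletion.AsTensorProduct
import Mathlib.RingTheory.Flat.TorsionFree
import Mathlib.Tactic
-- import your own Groth.Agent.* helpers here

set_option autoImplicit false
universe u
open AdicRing

namespace Groth.Agent.S11546


/-- In a valuation ring which is `t`-adically separated, every nonzero `r` divides a power of `t`. -/
theorem exists_dvd_pow (R : Type u) [CommRing R] [PreValuationRing R] (t : R)
    [IsHausdorff (Ideal.span {t}) R] (r : R) (hr : r ≠ 0) : ∃ m : ℕ, r ∣ t ^ m := by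
  by_contra hcon
  push_neg at hcon
  apply hr
  apply IsHausdorff.haus (I := Ideal.span {t}) ‹_› r
  intro k
  have h1 : t ^ k ∣ r := by
    obtain ⟨c, hc | hc⟩ := PreValuationRing.cond (t ^ k) r
    · exact ⟨c, by rw [hc]⟩
    · exact absurd ⟨c, by rw [hc]⟩ (hcon k)
  rw [SModEq.zero, smul_eq_mul, Ideal.mul_top, Ideal.span_singleton_pow,
    Ideal.mem_span_singleton]
  exact h1

/-- The `t`-adic completion of a domain `P` has no `t`-power torsion. -/
theorem eq_zero_of_pow_smul_eq_zero (P : Type u) [CommRing P] [IsDomain P] (c : P) (hc : c ≠ 0)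
    (J : Ideal P) (hJ : J = Ideal.span {c})
    (m : ℕ) (x : AdicCompletion J P) (hx : c ^ m • x = 0) : x = 0 := by
  subst hJ
  ext k
  have h1 : (c ^ m • x).val (k + m) = 0 := by rw [hx]; rfl
  rw [AdicCompletion.val_smul_apply] at h1
  obtain ⟨y, hy⟩ := Submodule.Quotient.mk_surjective _ (x.val (k + m))
  rw [← hy, ← Submodule.Quotient.mk_smul, Submodule.Quotient.mk_eq_zero, smul_eq_mul,
    smul_eq_mul, Ideal.mul_top, Ideal.span_singleton_pow, Ideal.mem_span_singleton] at h1
  obtain ⟨z, hz⟩ := h1
  have h2 : y = c ^ k * z := by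
    have : c ^ m * y = c ^ m * (c ^ k * z) := by rw [hz]; ring
    exact mul_left_cancel₀ (pow_ne_zero m hc) this
  have h3 := x.property (Nat.le_add_right k m)
  rw [← h3, ← hy]
  simp only [AdicCompletion.val_zero, Pi.zero_apply]
  change Submodule.factor _ (Submodule.mkQ _ y) = 0
  rw [Submodule.factor_mk, Submodule.mkQ_apply, Submodule.Quotient.mk_eq_zero, smul_eq_mul, Ideal.mul_top, Ideal.span_singleton_pow,
    Ideal.mem_span_singleton]
  exact ⟨z, h2⟩

theorem aux
    (R : Type u) [CommRing R] (I : Ideal R) (hR : AdicRing.IsBase R I) (n : ℕ) :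
    Module.Flat R (AdicRing.RPow R I n) := by
  obtain ⟨hc, h | h⟩ := hR
  · obtain ⟨hN, -⟩ := h
    have := hN
    have : Module.Flat (MvPolynomial (Fin n) R) (RPow R I n) :=
      AdicCompletion.flat_of_isNoetherian _
    exact Module.Flat.trans R (MvPolynomial (Fin n) R) _
  · obtain ⟨hD, hV, hK, t, ht, rfl⟩ := h
    have : ValuationRing R := {}
    rw [Module.Flat.flat_iff_torsion_eq_bot_of_isBezout, Submodule.eq_bot_iff]
    intro x hx
    rw [Submodule.mem_torsion_iff] at hx
    obtain ⟨⟨r, hr⟩, hrx⟩ := hx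
    have hr0 : r ≠ 0 := nonZeroDivisors.ne_zero hr
    obtain ⟨m, s, hs⟩ := exists_dvd_pow R t r hr0
    have h1 : (MvPolynomial.C (t ^ m) : MvPolynomial (Fin n) R) • x = 0 := by
      have : (t ^ m) • x = 0 := by
        rw [hs, mul_comm, mul_smul]
        change s • (r • x) = 0
        rw [show r • x = 0 from hrx, smul_zero]
      rw [← this]
      ext k
      rw [AdicCompletion.val_smul_apply, AdicCompletion.val_smul_apply]
      obtain ⟨y, hy⟩ := Submodule.Quotient.mk_surjective _ (x.val k)
      rw [← hy, ← Submodule.Quotient.mk_smul, ← Submodule.Quotient.mk_smul]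
      congr 1
      rw [MvPolynomial.smul_eq_C_mul, smul_eq_mul]
    rw [map_pow] at h1
    have hspan : Ideal.map (MvPolynomial.C : R →+* MvPolynomial (Fin n) R) (Ideal.span {t}) =
        Ideal.span {MvPolynomial.C t} := by
      rw [Ideal.map_span, Set.image_singleton]
    exact eq_zero_of_pow_smul_eq_zero _ (MvPolynomial.C t)
      (by simpa using ht) _ hspan m x h1

/-- Let R be a base ring of class (N) or (V) for the ideal I. Then the restricted power series ring
R⟨ζ_1, ..., ζ_n⟩ is flat over R. -/
theorem result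
    (R : Type u) [CommRing R] (I : Ideal R) (hR : AdicRing.IsBase R I) (n : ℕ) :
    Module.Flat R (AdicRing.RPow R I n) := by
  exact aux R I hR n

end Groth.Agent.S11546
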