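import Groth.Statements.S1156
import Mathlib
-- import your own Groth.Agent.* helpers here

set_option autoImplicit false
universe u
open scoped TensorProduct
open Desc

namespace Groth.Agent.S1156

section
variable (R A : Type u) [CommRing R] [CommRing A] [Algebra R A]

noncomputable def mulFirst (N : Type u) [AddCommGroup N] [Module R N] :
    A ⊗[R] (A ⊗[R] N) →ₗ[R] A ⊗[R] N :=
  (LinearMap.mul' R A).rTensor N ∘ₗ (TensorProduct.assoc R A A N).symm.toLinearMap

@[simp]
lemma mulFirst_tmul (N : Type u) [AddCommGroup N] [Module R N] (a b : A) (n : N) :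
    mulFirst R A N (a ⊗ₜ (b ⊗ₜ n)) = (a * b) ⊗ₜ n := by
  simp [mulFirst]

variable (M : Type u) [AddCommGroup M] [Module R M]

noncomputable def dmap : A ⊗[R] M →ₗ[R] A ⊗[R] (A ⊗[R] M) :=
  TensorProduct.mk R A (A ⊗[R] M) 1 - LinearMap.lTensor A (TensorProduct.mk R A M 1)

lemma homotopy_id :
    (TensorProduct.mk R A M 1).lTensor A ∘ₗ mulFirst R A M +
      mulFirst R A (A ⊗[R] M) ∘ₗ (dmap R A M).lTensor A = LinearMap.id := by
  ext a b m
  simp [dmap, TensorProduct.tmul_sub]

lemma dmap_comp : dmap R A M ∘ₗ TensorProduct.mk R A M 1 = 0 := by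
  ext m
  simp [dmap]

lemma exact_lTensor :
    Function.Exact ((TensorProduct.mk R A M 1).lTensor A) ((dmap R A M).lTensor A) := by
  intro y
  constructor
  · intro hy
    refine ⟨mulFirst R A M y, ?_⟩
    have := LinearMap.congr_fun (homotopy_id R A M) y
    simp only [LinearMap.add_apply, LinearMap.comp_apply, hy, map_zero, add_zero,
      LinearMap.id_apply] at this
    exact this
  · rintro ⟨w, rfl⟩
    rw [← LinearMap.comp_apply, ← LinearMap.lTensor_comp, dmap_comp]
    simp

end

/-- Exactness of the extended Amitsur complex in degree 0 (injectivity in degree −1 being standard). Let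
R → A be faithfully flat and M an R-module. An element x of A ⊗_R M with 1 ⊗ x = (a ⊗ m ↦ a ⊗ 1 ⊗
m)(x) in A ⊗_R A ⊗_R M lies in the image of m ↦ 1 ⊗ m. -/
theorem result (R A : Type u) [CommRing R] [CommRing A] [Algebra R A] [Module.FaithfullyFlat R A]
    (M : Type u) [AddCommGroup M] [Module R M] (x : A ⊗[R] M)
    (hx : TensorProduct.mk R A (A ⊗[R] M) 1 x = LinearMap.lTensor A (TensorProduct.mk R A M 1) x) :
    x ∈ LinearMap.range (TensorProduct.mk R A M 1) := by
  have hex : Function.Exact (TensorProduct.mk R A M 1) (dmap R A M) :=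
    Module.FaithfullyFlat.lTensor_reflects_exact R A _ _ (exact_lTensor R A M)
  have hd : dmap R A M x = 0 := by
    simp only [dmap, LinearMap.sub_apply, hx, sub_self]
  exact (hex x).mp hd

end Groth.Agent.S1156
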