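import Groth.Statements.S8916
import Mathlib
import Groth.Agent.S5022
import Groth.Agent.Lib.Helper48.OmegaAff17
import Groth.Agent.Lib.Helper73.DimFT.Scheme
import Groth.Agent.Lib.Helper73.DimFormula.Fiber
-- import your own Groth.Agent.* helpers here

set_option autoImplicit false
universe u
open CategoryTheory CategoryTheory.Limits AlgebraicGeometry TopologicalSpace
open SDiv

namespace Groth.Agent.S8916

section Pieces
open Groth.Agent.Lib.Helper73 Groth.Agent.Lib.Lead.QCohAff

theorem localDim_eq_of_components {k : Type u} [Field k] {Y : Scheme.{u}}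
    (g : Y ⟶ Spec (CommRingCat.of k)) [LocallyOfFiniteType g] (d : ℕ)
    (h : ∀ T ∈ irreducibleComponents Y, topologicalKrullDim ↥T = d) (y : Y) :
    FlatMor.localDim Y y = d := by
  have hgen : ∀ w : Y, ∃ η : Y, η ⤳ w ∧ trdegNat g η = d := by
    intro w
    have hT := irreducibleComponent_mem_irreducibleComponents w
    obtain ⟨η, hη⟩ := QuasiSober.sober hT.1 (isClosed_of_mem_irreducibleComponents _ hT)
    have hdimT := h _ hT
    rw [← hη.def, (isDimFun_trdegNat g).topologicalKrullDim_closure_singleton η] at hdimT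
    refine ⟨η, ?_, by exact_mod_cast hdimT⟩
    rw [specializes_iff_mem_closure, hη.def]
    exact mem_irreducibleComponent
  unfold FlatMor.localDim
  apply le_antisymm
  · refine (iInf_le _ ⟨⊤, trivial⟩).trans ?_
    rw [topologicalKrullDim_open_eq_iSup_trdegNat g (⊤ : Opens Y).isOpen]
    refine iSup_le fun w => ?_
    obtain ⟨η, hηw, hη⟩ := hgen w.1
    have := (isDimFun_trdegNat g).le_of_specializes hηw
    rw [hη] at this
    exact_mod_cast this
  · refine le_iInf fun U => ?_
    rw [topologicalKrullDim_open_eq_iSup_trdegNat g U.1.isOpen]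
    obtain ⟨η, hηy, hη⟩ := hgen y
    have hηU : η ∈ U.1 := hηy.mem_open U.1.isOpen U.2
    refine le_trans ?_ (le_iSup (fun w : ↥(U.1 : Set Y) => ((trdegNat g w.1 : ℕ∞) : WithBot ℕ∞))
      ⟨η, hηU⟩)
    rw [hη]
    rfl


theorem mem_support_sheafIdeal_iff {X : Scheme.{u}} (F : X.Modules) [F.IsQuasicoherent]
    [SheafOfModules.IsFiniteType (R := X.ringCatSheaf) F] (k : ℕ) {U : X.Opens}
    (hU : IsAffineOpen U) (x : X) (hx : x ∈ U) :
    x ∈ (Fitt.sheafIdeal F k).support ↔
      Fitt.ideal Γ(X, U) Γ(F, U) k ≤ (hU.primeIdealOf ⟨x, hx⟩).asIdeal := by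
  set p := (hU.primeIdealOf ⟨x, hx⟩).asIdeal with hp
  rw [Scheme.IdealSheafData.mem_support_iff_of_mem (U := ⟨U, hU⟩) hx,
    Groth.Agent.Lib.Helper2.FittSheaf.sheafIdeal_ideal F k ⟨U, hU⟩]
  rw [Scheme.mem_zeroLocus_iff]
  constructor
  · intro h r hr
    by_contra hrp
    exact h r hr ((mem_basicOpen_iff_notMem_primeIdealOf hU x hx r).2 hrp)
  · intro h r hr hxr
    exact (mem_basicOpen_iff_notMem_primeIdealOf hU x hx r).1 hxr (h hr)

theorem exists_smooth_nhd_iff {X S : Scheme.{u}} (f : X ⟶ S) [LocallyOfFinitePresentation f] (x : X) :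
    (∃ U : X.Opens, x ∈ U ∧ Smooth (U.ι ≫ f)) ↔ x ∈ f.smoothLocus := by
  constructor
  · rintro ⟨U, hxU, hsm⟩
    have h1 := (U.ι ≫ f).smoothLocus_eq_top
    rw [← Scheme.Hom.preimage_smoothLocus_eq] at h1
    have h2 : (⟨x, hxU⟩ : U) ∈ U.ι ⁻¹ᵁ f.smoothLocus := by rw [h1]; trivial
    exact h2
  · intro hx
    refine ⟨f.smoothLocus, hx, ?_⟩
    rw [← Scheme.Hom.smoothLocus_eq_top_iff, ← Scheme.Hom.preimage_smoothLocus_eq]
    rw [eq_top_iff]
    intro y _
    exact y.2


end Pieces

section RingLevel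
open TensorProduct KaehlerDifferential Algebra.TensorProduct
open Groth.Agent.Lib.Helper75.Fitting

attribute [local instance] Algebra.TensorProduct.rightAlgebra in
set_option backward.isDefEq.respectTransparency false in
theorem isSmoothAt_of_flat_of_not_fitt_le {A B : Type u} [CommRing A] [CommRing B] [Algebra A B]
    [Algebra.FinitePresentation A B] (p : Ideal A) [p.IsPrime] (q : Ideal B) [q.IsPrime]
    [q.LiesOver p] (d : ℕ) (Q : PrimeSpectrum (p.Fiber B))
    (hQ : Q.asIdeal.comap includeRight = q)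
    (hflat : letI := Localization.AtPrime.algebraOfLiesOver p q
      Module.Flat (Localization.AtPrime p) (Localization.AtPrime q))
    (hfitt : ¬ Fitt.ideal B Ω[B⁄A] d ≤ q)
    (hdim : (d : WithBot ℕ∞) ≤ FlatMor.localDim (PrimeSpectrum (p.Fiber B)) Q) :
    Algebra.IsSmoothAt A q := by
  subst hQ
  refine Groth.Agent.S5022.isSmoothAt_of_flat_of_isSmoothAt_fiber p Q.asIdeal hflat ?_
  rw [Groth.Agent.S2063.result (k := p.ResidueField) (S := p.Fiber B) Q.asIdeal]
  refine le_trans ?_ hdim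
  let e1 : p.Fiber B ⊗[B] Ω[B⁄A] ≃ₗ[p.Fiber B] Ω[p.Fiber B⁄p.ResidueField] :=
    KaehlerDifferential.tensorKaehlerEquiv A p.ResidueField B (p.Fiber B)
  have h1 : ¬ Fitt.ideal (p.Fiber B) Ω[p.Fiber B⁄p.ResidueField] d ≤ Q.asIdeal := by
    rw [← fitt_congr e1 d, fitt_baseChange]
    intro hle
    apply hfitt
    intro a ha
    exact hle (Ideal.mem_map_of_mem _ ha)
  have h2 := (not_fitt_le_iff_finrank d Q.asIdeal).mp h1
  exact_mod_cast h2


end RingLevel

theorem fibreDimAt_eq_of_components {X S : Scheme.{u}} (f : X ⟶ S) [LocallyOfFiniteType f]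
    (d : ℕ) (hdim : ∀ s : ↥S, ∀ T ∈ irreducibleComponents ↥(f.fiber s), topologicalKrullDim ↥T = d)
    (x : X) : FlatMor.fibreDimAt f x = d := by
  unfold FlatMor.fibreDimAt
  exact @localDim_eq_of_components (S.residueField (f.base x)) _ _
    (f.fiberToSpecResidueField (f.base x))
    (Groth.Agent.Lib.Helper73.locallyOfFiniteType_fiberToSpecResidueField f (f.base x))
    d (hdim (f.base x)) _

open Groth.Agent.Lib.Helper48.OmegaAff Groth.Agent.Lib.Helper2.FreeModAff
  Groth.Agent.Lib.Helper75.Fitting in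

/-- Let f : X ⟶ S be flat, locally of finite presentation and quasi-separated, and d ≥ 0 such that all
irreducible components of each nonempty fibre of f have dimension d. Then the closed subset of X
defined by the Fitting ideal Fit_d(Ω_{X/S}) is exactly the set of points at which f is not smooth,
i.e. which have no open neighbourhood on which f is smooth. The published statement does not assume
f quasi-separated; this row does, because the module Ω_{X/S} used here is defined for
quasi-separated f. -/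
theorem result {X S : Scheme.{u}} (f : X ⟶ S) [Flat f] [LocallyOfFinitePresentation f] [QuasiSeparated f]
    (d : ℕ) (hdim : ∀ s : ↥S, ∀ T ∈ irreducibleComponents ↥(f.fiber s), topologicalKrullDim ↥T = d) (x : ↥X) :
    x ∈ (Fitt.sheafIdeal (Omega.sheaf f) d).support ↔ ¬ ∃ U : X.Opens, x ∈ U ∧ Smooth (U.ι ≫ f) := by
  have hfib : ∀ y : X, FlatMor.fibreDimAt f y = d := fibreDimAt_eq_of_components f d hdim
  set Ω' := Omega.sheaf f with hΩ'
  let dΩ := OmegaSh.dOmega f
  have hd := isUniversal_dOmega f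
  haveI : Ω'.IsQuasicoherent := isQuasicoherent_of_universal f dΩ hd
  haveI hft : SheafOfModules.IsFiniteType (R := X.ringCatSheaf) Ω' :=
    isFiniteType_of_universal f dΩ hd
  rw [exists_smooth_nhd_iff f x]
  constructor
  · intro hsupp hx
    obtain ⟨hflat, U, n, hxU, hfree, hn⟩ :=
      Groth.Agent.S5022.flat_and_free_of_mem_smoothLocus f Ω' dΩ hd x hx
    have hnd : n = d := by
      rw [hfib x] at hn
      exact_mod_cast hn.symm
    subst hnd
    obtain ⟨_, ⟨V, hV, rfl⟩, hxV, hVU⟩ :=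
      X.isBasis_affineOpens.exists_subset_of_mem_open hxU U.2
    obtain ⟨e1⟩ := (nonempty_iso_freeMod_iff Ω' hV n).mp
      (nonempty_iso_freeMod_of_le Ω' hVU n hfree)
    rw [mem_support_sheafIdeal_iff Ω' n hV x hxV] at hsupp
    have htop : Fitt.ideal Γ(X, V) Γ(Ω', V) n = ⊤ := by
      let b : Module.Basis (Fin n) Γ(X, V) Γ(Ω', V) := Module.Basis.ofEquivFun e1
      exact fitt_eq_top b b.span_eq
    rw [htop] at hsupp
    exact (hV.primeIdealOf ⟨x, hxV⟩).2.ne_top (top_le_iff.mp hsupp)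
  · intro hns
    by_contra hsupp
    apply hns
    obtain ⟨_, ⟨W, hW, rfl⟩, hxW, -⟩ :=
      S.isBasis_affineOpens.exists_subset_of_mem_open (Set.mem_univ (f x)) isOpen_univ
    obtain ⟨_, ⟨V, hV, rfl⟩, hxV, hVW⟩ :=
      X.isBasis_affineOpens.exists_subset_of_mem_open (show x ∈ f ⁻¹ᵁ W from hxW) (f ⁻¹ᵁ W).2
    have hfp := f.finitePresentation_appLE hW hV hVW
    letI := (f.appLE W V hVW).hom.toAlgebra
    haveI : Algebra.FinitePresentation Γ(S, W) Γ(X, V) := hfp
    obtain ⟨e0, -⟩ := Groth.Agent.S12423.exists_kaehler_equiv_sections f dΩ hd hV hW hVW rfl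
    rw [mem_support_sheafIdeal_iff Ω' d hV x hxV, ← fitt_congr e0 d] at hsupp
    set P := hW.primeIdealOf ⟨f x, hVW hxV⟩ with hP
    set q := hV.primeIdealOf ⟨x, hxV⟩ with hq
    have hcomap : q.comap (algebraMap Γ(S, W) Γ(X, V)) = P :=
      IsAffineOpen.comap_primeIdealOf_appLE W hW V hV hVW hxV
    haveI : q.asIdeal.LiesOver P.asIdeal := ⟨congr($(hcomap).1).symm⟩
    rw [Scheme.Hom.mem_smoothLocus, formallySmooth_stalkMap_iff W hW V hV hVW hxV]
    change Algebra.IsSmoothAt Γ(S, W) q.asIdeal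
    have hqmem : q ∈ PrimeSpectrum.comap (algebraMap Γ(S, W) Γ(X, V)) ⁻¹' {P} := hcomap
    set Q := PrimeSpectrum.preimageHomeomorphFiber Γ(S, W) Γ(X, V) P ⟨q, hqmem⟩ with hQdef
    have hsymm : (PrimeSpectrum.preimageHomeomorphFiber Γ(S, W) Γ(X, V) P).symm Q = ⟨q, hqmem⟩ :=
      Homeomorph.symm_apply_apply _ _
    have hQ : Q.asIdeal.comap Algebra.TensorProduct.includeRight = q.asIdeal := by
      have := congrArg (fun z => z.1.asIdeal) hsymm
      exact this
    refine isSmoothAt_of_flat_of_not_fitt_le P.asIdeal q.asIdeal d Q hQ ?_ hsupp ?_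
    · letI := Localization.AtPrime.algebraOfLiesOver P.asIdeal q.asIdeal
      rw [← RingHom.flat_algebraMap_iff]
      exact (RingHom.Flat.respectsIso.arrow_mk_iso_iff
        (IsAffineOpen.arrowStalkMapIso f W hW V hV hVW hxV)).mp (Flat.stalkMap f x)
    · have comm : Spec.map (f.appLE W V hVW) ≫ hW.fromSpec = hV.fromSpec ≫ f :=
        IsAffineOpen.SpecMap_appLE_fromSpec f hW hV hVW
      have h1 := Groth.Agent.Lib.Helper36.FibreEtale.fibreDimAt_eq f (Spec.map (f.appLE W V hVW))
        hV.fromSpec hW.fromSpec comm q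
      rw [hV.fromSpec_primeIdealOf ⟨x, hxV⟩] at h1
      have h2 := Groth.Agent.Lib.Helper73.fibreDimAt_SpecMap_eq_localDim Γ(S, W) Γ(X, V) P Q
      rw [hsymm] at h2
      have h3 : FlatMor.fibreDimAt (Spec.map (f.appLE W V hVW)) q =
          FlatMor.localDim (PrimeSpectrum (P.asIdeal.Fiber Γ(X, V))) Q := h2
      rw [← h3, ← h1, hfib x]


end Groth.Agent.S8916
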