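import Groth.Statements.S16256
import Mathlib
import Groth.Agent.S8916
import Groth.Agent.Lib.Helper65.JacobiLCI
import Groth.Agent.Lib.Helper43.KoszulH1
import Groth.Agent.Lib.Helper43.KoszulAtPerf
import Groth.Agent.Lib.Helper43.RegImmComp
import Groth.Agent.Lib.Helper22.SmoothDim
-- import your own Groth.Agent.* helpers here

set_option autoImplicit false
universe u
open CategoryTheory CategoryTheory.Limits AlgebraicGeometry TopologicalSpace
open SDiv

namespace Groth.Agent.S16256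

open TensorProduct in
theorem finrank_tensor_eq_rankAtStalk (C K M : Type u) [CommRing C] [Field K] [Algebra C K]
    [AddCommGroup M] [Module C M] [Module.Finite C M] [Module.Flat C M] (p : PrimeSpectrum C)
    (hp : RingHom.ker (algebraMap C K) = p.asIdeal) :
    Module.finrank K (K ⊗[C] M) = Module.rankAtStalk M p := by
  have h1 := Module.rankAtStalk_baseChange (R := C) (M := M) (S := K) (⊥ : PrimeSpectrum K)
  have h2 : (⊥ : PrimeSpectrum K).comap (algebraMap C K) = p := by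
    apply PrimeSpectrum.ext
    rw [← hp]
    rfl
  rw [h2] at h1
  rw [← h1, Module.rankAtStalk_eq_finrank_of_free]
  rfl



theorem appLE_congr_hom {X Y : Scheme.{u}} {g g' : X ⟶ Y} (h : g = g') (W : Y.Opens) (O : X.Opens)
    (e : O ≤ g ⁻¹ᵁ W) : g.appLE W O e = g'.appLE W O (by subst h; exact e) := by
  subst h; rfl

theorem tower_aux {Y X P : Scheme.{u}} (f : Y ⟶ X) (U : Y.Opens) (i : (U : Scheme.{u}) ⟶ P) (π : P ⟶ X)
    (hcomm : i ≫ π = U.ι ≫ f) (W : X.Opens) (U₂ : P.Opens) (hU₂W : U₂ ≤ π ⁻¹ᵁ W)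
    (hV'W : U.ι ''ᵁ (i ⁻¹ᵁ U₂) ≤ f ⁻¹ᵁ W) :
    π.appLE W U₂ hU₂W ≫ i.app U₂ ≫ (U.ι.appIso (i ⁻¹ᵁ U₂)).inv =
      f.appLE W (U.ι ''ᵁ (i ⁻¹ᵁ U₂)) hV'W := by
  rw [← Category.assoc, Iso.comp_inv_eq, Scheme.Hom.appIso_hom', Scheme.Hom.appLE_comp_appLE,
    Scheme.Hom.app_eq_appLE, Scheme.Hom.appLE_comp_appLE]
  exact appLE_congr_hom hcomm _ _ _


open TensorProduct Groth.Agent.Lib.Helper65.JacobiLCI in
theorem isSmoothAt_iff_finrank_le (A C B K : Type u) [CommRing A] [CommRing C] [CommRing B] [Field K]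
    [Algebra A C] [Algebra A B] [Algebra C B] [IsScalarTower A C B]
    [Algebra B K] [Algebra C K] [IsScalarTower C B K]
    [Algebra.FormallySmooth A C] [Module.Projective C Ω[C⁄A]] [Module.Finite C Ω[C⁄A]]
    (h₁ : Function.Surjective (algebraMap C B)) {c m : ℕ}
    (r : Fin c → C) (hr : Ideal.span (Set.range r) = RingHom.ker (algebraMap C B))
    (hH1 : CAlgX.IsH1Regular r)
    (q : Ideal B) [q.IsPrime] (hq : RingHom.ker (algebraMap B K) = q)
    (hrankAll : ∀ p : PrimeSpectrum C, Module.rankAtStalk (R := C) Ω[C⁄A] p = m + c) :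
    Algebra.IsSmoothAt A q ↔ Module.finrank K (K ⊗[B] Ω[B⁄A]) ≤ m := by
  have hrank : Module.finrank K (K ⊗[C] Ω[C⁄A]) = m + c := by
    let p : PrimeSpectrum C := ⟨q.comap (algebraMap C B), inferInstance⟩
    rw [finrank_tensor_eq_rankAtStalk C K _ p ?_, hrankAll p]
    rw [IsScalarTower.algebraMap_eq C B K, ← RingHom.comap_ker, hq]
  constructor
  · intro hsm
    exact finrank_le_of_isSmoothAt A C B K h₁ r hr hH1 q hq hrank hsm
  · intro hB
    exact isSmoothAt_of_finrank_le A C B K h₁ r hr q hq hrank hB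

open Groth.Agent.Lib.Helper48.OmegaAff Groth.Agent.Lib.Helper75.Fitting
  Groth.Agent.Lib.Helper65.JacobiLCI TensorProduct in

/-- Let f : Y ⟶ X be locally of finite presentation and quasi-separated, m ≥ 0, and y a point of Y near
which f is a local complete intersection of virtual dimension m, in the factorisation sense: some
open neighbourhood U of y admits a Koszul-regular immersion i of constant codimension c into a
scheme P smooth of relative dimension m + c over X, compatibly with f. Then f is smooth on some open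
neighbourhood of y if and only if y does not lie in the m-th Jacobian locus of Y over X, the closed
subset cut out by the m-th Fitting ideal of Ω_{Y/X}. (Quasi-separatedness of f is assumed because
the module Ω_{Y/X} used here is defined for such f.) -/
theorem result
    {Y X : Scheme.{u}} (f : Y ⟶ X) [LocallyOfFinitePresentation f] [QuasiSeparated f] (m : ℕ) (y : ↥Y)
    (hlci : ∃ (U : Y.Opens) (P : Scheme.{u}) (i : (U : Scheme.{u}) ⟶ P) (π : P ⟶ X) (c : ℕ),
      y ∈ U ∧ RegImm.IsRegularImmersionOfCodim RegImm.Kind.koszul c i ∧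
        SmoothOfRelativeDimension (m + c) π ∧ i ≫ π = U.ι ≫ f) :
    (∃ V : Y.Opens, y ∈ V ∧ Smooth (V.ι ≫ f)) ↔ y ∉ (Fitt.sheafIdeal (Omega.sheaf f) m).support := by
  obtain ⟨U, P, i, π, c, hyU, ⟨himm, hreg⟩, hπ, hcomm⟩ := hlci
  rw [Groth.Agent.S8916.exists_smooth_nhd_iff f y]
  set Ω' := Omega.sheaf f with hΩ'
  let dΩ := OmegaSh.dOmega f
  have hd := isUniversal_dOmega f
  haveI : Ω'.IsQuasicoherent := isQuasicoherent_of_universal f dΩ hd
  haveI hft : SheafOfModules.IsFiniteType (R := Y.ringCatSheaf) Ω' :=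
    isFiniteType_of_universal f dΩ hd
  let z : (U : Scheme.{u}) := ⟨y, hyU⟩
  obtain ⟨U₁, hz₁, hci, rs, hlen, hkos, hker⟩ := hreg z
  haveI := hci
  obtain ⟨_, ⟨W, hW, rfl⟩, hyW, -⟩ :=
    X.isBasis_affineOpens.exists_subset_of_mem_open (Set.mem_univ (f y)) isOpen_univ
  have hπz : π (i z) = f y := by
    rw [← Scheme.Hom.comp_apply, hcomm, Scheme.Hom.comp_apply]
    rfl
  obtain ⟨_, ⟨U₂, hU₂, rfl⟩, hzU₂, hU₂le⟩ :=
    P.isBasis_affineOpens.exists_subset_of_mem_open
      (show i z ∈ U₁.1 ⊓ π ⁻¹ᵁ W from ⟨hz₁, by show π (i z) ∈ W; rw [hπz]; exact hyW⟩)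
      (U₁.1 ⊓ π ⁻¹ᵁ W).2
  have hU₂U₁ : U₂ ≤ U₁.1 := fun w hw => (hU₂le hw).1
  have hU₂W : U₂ ≤ π ⁻¹ᵁ W := fun w hw => (hU₂le hw).2
  obtain ⟨hci₂, rs₂, hlen₂, hkos₂, hker₂⟩ :=
    Groth.Agent.Lib.Helper43.RegImmComp.chart_restrict .koszul i U₁.1 U₁.2 rs hkos hker
      U₂ hU₂ hU₂U₁ z hzU₂
  haveI := hci₂
  have hO : IsAffineOpen (i ⁻¹ᵁ U₂) :=
    Groth.Agent.Lib.Helper43.KoszulAtPerf.isAffineOpen_preimage_of_restrict i U₂ hU₂
  have hsurj : Function.Surjective (i.app U₂).hom :=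
    Groth.Agent.Lib.Helper43.KoszulAtPerf.app_surjective_of_restrict i U₂ hU₂
  set O : (U : Scheme.{u}).Opens := i ⁻¹ᵁ U₂ with hOdef
  set V' : Y.Opens := U.ι ''ᵁ O with hV'def
  have hV' : IsAffineOpen V' := hO.image_of_isOpenImmersion U.ι
  have hyV' : y ∈ V' := ⟨z, hzU₂, rfl⟩
  have hV'W : V' ≤ f ⁻¹ᵁ W := by
    rintro _ ⟨w, hw, rfl⟩
    show f (U.ι w) ∈ W
    rw [← Scheme.Hom.comp_apply, ← hcomm, Scheme.Hom.comp_apply]
    exact hU₂W hw
  have htow := tower_aux f U i π hcomm W U₂ hU₂W hV'W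
  letI algAC : Algebra Γ(X, W) Γ(P, U₂) := (π.appLE W U₂ hU₂W).hom.toAlgebra
  letI algAB : Algebra Γ(X, W) Γ(Y, V') := (f.appLE W V' hV'W).hom.toAlgebra
  let ψ : Γ(P, U₂) →+* Γ(Y, V') := ((i.app U₂) ≫ (U.ι.appIso O).inv).hom
  letI algCB : Algebra Γ(P, U₂) Γ(Y, V') := ψ.toAlgebra
  haveI : IsScalarTower Γ(X, W) Γ(P, U₂) Γ(Y, V') := by
    refine IsScalarTower.of_algebraMap_eq' ?_
    show (f.appLE W V' hV'W).hom = ψ.comp (π.appLE W U₂ hU₂W).hom
    rw [← htow]
    rfl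
  have hψsurj : Function.Surjective (algebraMap Γ(P, U₂) Γ(Y, V')) := by
    show Function.Surjective ψ
    have h2 : Function.Surjective ((U.ι.appIso O).inv).hom :=
      ((U.ι.appIso O).symm.commRingCatIsoToRingEquiv).surjective
    exact h2.comp hsurj
  -- the sequence
  have hlenc : rs₂.length = c := hlen₂.trans hlen
  let r : Fin c → Γ(P, U₂) := rs₂.get ∘ Fin.cast hlenc.symm
  have hkerψ : RingHom.ker (algebraMap Γ(P, U₂) Γ(Y, V')) = RingHom.ker (i.app U₂).hom := by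
    ext x
    show ψ x = 0 ↔ (i.app U₂).hom x = 0
    show ((U.ι.appIso O).inv).hom ((i.app U₂).hom x) = 0 ↔ _
    constructor
    · intro h
      have h2 : Function.Injective ((U.ι.appIso O).inv).hom :=
        ((U.ι.appIso O).symm.commRingCatIsoToRingEquiv).injective
      exact h2 (by rw [h, map_zero])
    · intro h
      rw [h, map_zero]
  have hr : Ideal.span (Set.range r) = RingHom.ker (algebraMap Γ(P, U₂) Γ(Y, V')) := by
    rw [hkerψ, hker₂]
    have : Set.range r = {x | x ∈ rs₂} := by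
      ext x
      simp only [r, Set.mem_range, Function.comp_apply, Set.mem_ofPred_eq]
      constructor
      · rintro ⟨j, rfl⟩
        exact List.get_mem _ _
      · intro hx
        obtain ⟨j, rfl⟩ := List.get_of_mem hx
        exact ⟨Fin.cast hlenc j, by simp⟩
    rw [this]
  have hH1 : CAlgX.IsH1Regular r :=
    Groth.Agent.Lib.Helper43.SeqFlatBC.h1_cast hlenc.symm _
      (Groth.Agent.Lib.Helper43.KoszulH1.isH1Regular_of_isKoszulRegularSeq rs₂ hkos₂)
  -- smoothness of C over A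
  haveI hπsm : Smooth π := by
    haveI := hπ
    exact SmoothOfRelativeDimension.smooth (m + c) π
  have hsmAC : (π.appLE W U₂ hU₂W).hom.Smooth :=
    HasRingHomProperty.appLE @Smooth π inferInstance ⟨W, hW⟩ ⟨U₂, hU₂⟩ hU₂W
  haveI : Algebra.Smooth Γ(X, W) Γ(P, U₂) := hsmAC
  have hrankAll : ∀ p : PrimeSpectrum Γ(P, U₂),
      Module.rankAtStalk (R := Γ(P, U₂)) Ω[Γ(P, U₂)⁄Γ(X, W)] p = m + c := by
    intro p
    have hmem : hU₂.fromSpec p ∈ U₂ := by
      have h1 : hU₂.fromSpec p ∈ Set.range hU₂.fromSpec := ⟨_, rfl⟩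
      rw [hU₂.range_fromSpec] at h1
      exact h1
    have hp : hU₂.primeIdealOf ⟨hU₂.fromSpec p, hmem⟩ = p := by
      apply hU₂.fromSpec.isOpenEmbedding.injective
      exact hU₂.fromSpec_primeIdealOf ⟨_, hmem⟩
    have h1 := Groth.Agent.S5021.fibreDimAt_eq_rankAtStalk π hU₂ hW hU₂W _ hmem hsmAC
    haveI := hπ
    rw [Groth.Agent.Lib.Helper22.SmoothDim.fibreDimAt_eq_of_smoothOfRelativeDimension (m + c) π,
      hp] at h1
    exact_mod_cast h1.symm
  set q := hV'.primeIdealOf ⟨y, hyV'⟩ with hqdef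
  letI algCK : Algebra Γ(P, U₂) q.asIdeal.ResidueField :=
    ((algebraMap Γ(Y, V') q.asIdeal.ResidueField).comp (algebraMap Γ(P, U₂) Γ(Y, V'))).toAlgebra
  haveI : IsScalarTower Γ(P, U₂) Γ(Y, V') q.asIdeal.ResidueField := IsScalarTower.of_algebraMap_eq' rfl
  have hq : RingHom.ker (algebraMap Γ(Y, V') q.asIdeal.ResidueField) = q.asIdeal := Ideal.ker_algebraMap_residueField _
  have hfp := f.finitePresentation_appLE hW hV' hV'W
  haveI : Algebra.FinitePresentation Γ(X, W) Γ(Y, V') := hfp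
  obtain ⟨e0, -⟩ := Groth.Agent.S12423.exists_kaehler_equiv_sections f dΩ hd hV' hW hV'W rfl
  rw [Groth.Agent.S8916.mem_support_sheafIdeal_iff Ω' m hV' y hyV', ← fitt_congr e0 m]
  rw [Scheme.Hom.mem_smoothLocus, formallySmooth_stalkMap_iff W hW V' hV' hV'W hyV']
  change Algebra.IsSmoothAt Γ(X, W) q.asIdeal ↔ _
  rw [not_fitt_le_iff_finrank m q.asIdeal]
  exact isSmoothAt_iff_finrank_le Γ(X, W) Γ(P, U₂) Γ(Y, V') q.asIdeal.ResidueField hψsurj r hr hH1
    q.asIdeal hq hrankAll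


end Groth.Agent.S16256
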