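import Groth.Statements.S16253
import Mathlib
import Groth.Agent.S16256
import Groth.Agent.Lib.Helper59.StdSmoothNbhd
-- import your own Groth.Agent.* helpers here

set_option autoImplicit false
universe u
open CategoryTheory CategoryTheory.Limits AlgebraicGeometry TopologicalSpace
open SDiv

namespace Groth.Agent.S16253

section Alg

variable (R : Type u) [CommRing R] (σ : Type) [Finite σ]

set_option backward.isDefEq.respectTransparency false in
/-- The tautological presentation of a polynomial ring, with no relations (after helper22). -/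
noncomputable def mvPres : Algebra.Presentation R (MvPolynomial σ R) σ PEmpty.{1} where
  __ := Algebra.Generators.mvPolynomial R σ
  relation := PEmpty.elim
  span_range_relation_eq_ker := by
    simp only [Set.range_eq_empty, Ideal.span_empty]
    symm
    rw [← RingHom.injective_iff_ker_eq_bot]
    change Function.Injective (MvPolynomial.aeval MvPolynomial.X)
    intro a b hab
    simpa using hab

noncomputable def mvPreSub :
    Algebra.PreSubmersivePresentation R (MvPolynomial σ R) σ PEmpty.{1} where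
  toPresentation := mvPres R σ
  map := PEmpty.elim
  map_inj (a b : PEmpty) h := by contradiction

set_option backward.isDefEq.respectTransparency false in
lemma mvPreSub_jacobian : (mvPreSub R σ).jacobian = 1 := by
  rw [Algebra.PreSubmersivePresentation.jacobian_eq_jacobiMatrix_det, Matrix.det_isEmpty, map_one]

noncomputable def mvSub : Algebra.SubmersivePresentation R (MvPolynomial σ R) σ PEmpty.{1} where
  __ := mvPreSub R σ
  jacobian_isUnit := by
    rw [mvPreSub_jacobian]
    exact isUnit_one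

theorem isStandardSmoothOfRelativeDimension_mvPolynomial (n : ℕ) (hn : Nat.card σ = n) :
    Algebra.IsStandardSmoothOfRelativeDimension n R (MvPolynomial σ R) :=
  (mvSub R σ).isStandardSmoothOfRelativeDimension (by
    simp [Algebra.Presentation.dimension, hn])

end Alg

open TensorProduct in
/-- algebraic core: a finite type algebra with `dim Ω ⊗ κ(q) ≤ p` is near `q` a quotient of a
standard smooth algebra of relative dimension `p`. -/
theorem exists_stdSmooth_surjective (A B : Type u) [CommRing A] [CommRing B] [Algebra A B]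
    [Algebra.FiniteType A B] (q : Ideal B) [q.IsPrime] (p : ℕ)
    (hr : Module.finrank q.ResidueField (q.ResidueField ⊗[B] Ω[B⁄A]) ≤ p) :
    ∃ g : B, g ∉ q ∧ ∃ (D : Type u) (_ : CommRing D) (_ : Algebra A D),
      Algebra.IsStandardSmoothOfRelativeDimension p A D ∧
        ∃ φ : D →ₐ[A] Localization.Away g, Function.Surjective φ := by
  obtain ⟨g, hg, D, _, _, hD, φ, hφ⟩ :=
    Groth.Agent.Lib.Helper59.StdSmoothNbhd.main A B q _ rfl
  set r := Module.finrank q.ResidueField (q.ResidueField ⊗[B] Ω[B⁄A]) with hrdef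
  refine ⟨g, hg, MvPolynomial (Fin (p - r)) D, inferInstance, inferInstance, ?_, ?_⟩
  · haveI : Algebra.IsStandardSmoothOfRelativeDimension (p - r) D (MvPolynomial (Fin (p - r)) D) :=
      isStandardSmoothOfRelativeDimension_mvPolynomial D (Fin (p - r)) (p - r) (by simp)
    have h := Algebra.IsStandardSmoothOfRelativeDimension.trans (n := r) (m := p - r) A D
      (MvPolynomial (Fin (p - r)) D)
    have e : p - r + r = p := by omega
    rwa [e] at h
  · let ev : MvPolynomial (Fin (p - r)) D →ₐ[D] D := MvPolynomial.aeval (fun _ => (0 : D))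
    refine ⟨φ.comp (ev.restrictScalars A), ?_⟩
    intro b
    obtain ⟨d, rfl⟩ := hφ b
    exact ⟨MvPolynomial.C d, by simp [ev]⟩


theorem exists_closedImmersion_aux {X Y : Scheme.{u}} (f : X ⟶ Y) (p : ℕ)
    {W : Y.Opens} (hW : IsAffineOpen W) {U : X.Opens} (hU : IsAffineOpen U) (hUW : U ≤ f ⁻¹ᵁ W)
    (D : Type u) [CommRing D] (α : Γ(Y, W) →+* D) (hα : α.IsStandardSmoothOfRelativeDimension p)
    (χ : D →+* Γ(X, U)) (hχ : Function.Surjective χ)
    (hcomp : χ.comp α = (f.appLE W U hUW).hom) :
    ∃ (U' : Scheme.{u}) (i : (U : Scheme.{u}) ⟶ U') (g : U' ⟶ Y),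
        IsClosedImmersion i ∧ SmoothOfRelativeDimension p g ∧ i ≫ g = U.ι ≫ f := by
  haveI h0 : IsClosedImmersion (Spec.map (CommRingCat.ofHom χ)) :=
    IsClosedImmersion.spec_of_surjective _ hχ
  haveI h1 : SmoothOfRelativeDimension p (Spec.map (CommRingCat.ofHom α)) := by
    rw [HasRingHomProperty.Spec_iff (P := @SmoothOfRelativeDimension p)]
    exact RingHom.locally_of RingHom.isStandardSmoothOfRelativeDimension_respectsIso _ hα
  refine ⟨Spec (CommRingCat.of D), hU.isoSpec.hom ≫ Spec.map (CommRingCat.ofHom χ),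
    Spec.map (CommRingCat.ofHom α) ≫ hW.fromSpec, inferInstance, ?_, ?_⟩
  · have : SmoothOfRelativeDimension (p + 0) (Spec.map (CommRingCat.ofHom α) ≫ hW.fromSpec) :=
      inferInstance
    simpa using this
  · have hc : CommRingCat.ofHom α ≫ CommRingCat.ofHom χ = f.appLE W U hUW := by
      ext a
      exact congrArg (fun h => h a) hcomp
    rw [Category.assoc, ← Spec.map_comp_assoc, hc, IsAffineOpen.SpecMap_appLE_fromSpec f hW hU hUW,
      IsAffineOpen.isoSpec_hom_fromSpec_assoc]



open TensorProduct Groth.Agent.Lib.Helper65.JacobiPoint in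
theorem finrank_le_of_surjective (A C B K : Type u) [CommRing A] [CommRing C] [CommRing B] [Field K]
    [Algebra A C] [Algebra A B] [Algebra C B] [IsScalarTower A C B]
    [Algebra B K] [Algebra C K] [IsScalarTower C B K]
    [Module.Flat C Ω[C⁄A]] [Module.Finite C Ω[C⁄A]]
    (h₁ : Function.Surjective (algebraMap C B)) {p : ℕ}
    (q : Ideal B) [q.IsPrime] (hq : RingHom.ker (algebraMap B K) = q)
    (hrankAll : ∀ p' : PrimeSpectrum C, Module.rankAtStalk (R := C) Ω[C⁄A] p' = p) :
    Module.finrank K (K ⊗[B] Ω[B⁄A]) ≤ p := by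
  have hrank : Module.finrank K (K ⊗[C] Ω[C⁄A]) = p := by
    let p' : PrimeSpectrum C := ⟨q.comap (algebraMap C B), inferInstance⟩
    rw [Groth.Agent.S16256.finrank_tensor_eq_rankAtStalk C K _ p' ?_, hrankAll p']
    rw [IsScalarTower.algebraMap_eq C B K, ← RingHom.comap_ker, hq]
  obtain ⟨g, hgs, -, -⟩ := exists_baseChange_exact A C B K h₁
  have hrn := LinearMap.finrank_range_add_finrank_ker g
  rw [LinearMap.range_eq_top.mpr hgs, finrank_top, hrank] at hrn
  omega

open Groth.Agent.Lib.Helper48.OmegaAff Groth.Agent.Lib.Helper75.Fitting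
  Groth.Agent.Lib.Lead.QCohAff TensorProduct in

/-- Let f : X ⟶ Y be locally of finite presentation and quasi-separated and p ≥ 0, and let J^p(X/Y) ⊆ X
be the closed subset cut out by the p-th Fitting ideal of the module of differentials Ω_{X/Y} (the
p-th Jacobian locus). Then a point x of X lies outside J^p(X/Y) if and only if x has an open
neighbourhood U admitting a closed immersion over Y into a Y-scheme U' which is smooth of relative
dimension p over Y. (The published statement takes f of finite presentation and asks U' smooth over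
Y with fibre dimension p at x; after shrinking U' this is smoothness of relative dimension p.
Quasi-separatedness of f is assumed because the module Ω_{X/Y} used here is defined for such f.) -/
theorem result
    {X Y : Scheme.{u}} (f : X ⟶ Y) [LocallyOfFinitePresentation f] [QuasiSeparated f] (p : ℕ) (x : ↥X) :
    x ∉ (Fitt.sheafIdeal (Omega.sheaf f) p).support ↔
      ∃ (U : X.Opens) (U' : Scheme.{u}) (i : (U : Scheme.{u}) ⟶ U') (g : U' ⟶ Y),
        x ∈ U ∧ IsClosedImmersion i ∧ SmoothOfRelativeDimension p g ∧ i ≫ g = U.ι ≫ f := by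
  set Ω' := Omega.sheaf f with hΩ'
  let dΩ := OmegaSh.dOmega f
  have hd := isUniversal_dOmega f
  haveI : Ω'.IsQuasicoherent := isQuasicoherent_of_universal f dΩ hd
  haveI hft : SheafOfModules.IsFiniteType (R := X.ringCatSheaf) Ω' :=
    isFiniteType_of_universal f dΩ hd
  constructor
  · intro hns
    obtain ⟨_, ⟨W, hW, rfl⟩, hxW, -⟩ :=
      Y.isBasis_affineOpens.exists_subset_of_mem_open (Set.mem_univ (f x)) isOpen_univ
    obtain ⟨_, ⟨V, hV, rfl⟩, hxV, hVW⟩ :=
      X.isBasis_affineOpens.exists_subset_of_mem_open (show x ∈ f ⁻¹ᵁ W from hxW) (f ⁻¹ᵁ W).2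
    have hfp := f.finitePresentation_appLE hW hV hVW
    letI := (f.appLE W V hVW).hom.toAlgebra
    haveI : Algebra.FinitePresentation Γ(Y, W) Γ(X, V) := hfp
    obtain ⟨e0, -⟩ := Groth.Agent.S12423.exists_kaehler_equiv_sections f dΩ hd hV hW hVW rfl
    rw [Groth.Agent.S8916.mem_support_sheafIdeal_iff Ω' p hV x hxV, ← fitt_congr e0 p] at hns
    set q := hV.primeIdealOf ⟨x, hxV⟩ with hq
    rw [not_fitt_le_iff_finrank p q.asIdeal] at hns
    obtain ⟨g, hgq, D, _, _, hD, φ, hφ⟩ :=
      exists_stdSmooth_surjective Γ(Y, W) Γ(X, V) q.asIdeal p hns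
    have hU : IsAffineOpen (X.basicOpen g) := hV.basicOpen g
    have hUV : X.basicOpen g ≤ V := X.basicOpen_le g
    have hUW : X.basicOpen g ≤ f ⁻¹ᵁ W := hUV.trans hVW
    haveI := hV.isLocalization_basicOpen g
    let e : Localization.Away g ≃ₐ[Γ(X, V)] Γ(X, X.basicOpen g) :=
      IsLocalization.algEquiv (Submonoid.powers g) _ _
    obtain ⟨U', i, g', hi, hg', hcomm⟩ := exists_closedImmersion_aux f p hW hU hUW D
      (algebraMap Γ(Y, W) D) ((RingHom.isStandardSmoothOfRelativeDimension_algebraMap p).mpr hD)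
      ((e : Localization.Away g →+* Γ(X, X.basicOpen g)).comp (φ : D →+* Localization.Away g))
      (e.surjective.comp hφ) (by
        ext a
        show e (φ (algebraMap Γ(Y, W) D a)) = (f.appLE W (X.basicOpen g) hUW).hom a
        rw [AlgHom.commutes, IsScalarTower.algebraMap_apply Γ(Y, W) Γ(X, V) (Localization.Away g),
          AlgEquiv.commutes]
        show (X.presheaf.map (homOfLE hUV).op).hom ((f.appLE W V hVW).hom a) = _
        rw [← Scheme.Hom.appLE_map f hVW (homOfLE hUV).op]
        rfl)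
    exact ⟨X.basicOpen g, U', i, g', (mem_basicOpen_iff_notMem_primeIdealOf hV x hxV g).2 hgq,
      hi, hg', hcomm⟩
  · rintro ⟨U, U', i, g, hxU, hci, hsm, hcomm⟩
    haveI := hci
    let z : (U : Scheme.{u}) := ⟨x, hxU⟩
    obtain ⟨_, ⟨W, hW, rfl⟩, hyW, -⟩ :=
      Y.isBasis_affineOpens.exists_subset_of_mem_open (Set.mem_univ (f x)) isOpen_univ
    have hπz : g (i z) = f x := by
      rw [← Scheme.Hom.comp_apply, hcomm, Scheme.Hom.comp_apply]
      rfl
    obtain ⟨_, ⟨U₂, hU₂, rfl⟩, hzU₂, hU₂W⟩ :=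
      U'.isBasis_affineOpens.exists_subset_of_mem_open
        (show i z ∈ g ⁻¹ᵁ W by show g (i z) ∈ W; rw [hπz]; exact hyW) (g ⁻¹ᵁ W).2
    have hO : IsAffineOpen (i ⁻¹ᵁ U₂) := hU₂.preimage i
    have hsurj : Function.Surjective (i.app U₂).hom := Scheme.Hom.app_surjective i U₂ hU₂
    set O : (U : Scheme.{u}).Opens := i ⁻¹ᵁ U₂ with hOdef
    set V' : X.Opens := U.ι ''ᵁ O with hV'def
    have hV' : IsAffineOpen V' := hO.image_of_isOpenImmersion U.ι
    have hxV' : x ∈ V' := ⟨z, hzU₂, rfl⟩
    have hV'W : V' ≤ f ⁻¹ᵁ W := by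
      rintro _ ⟨w, hw, rfl⟩
      show f (U.ι w) ∈ W
      rw [← Scheme.Hom.comp_apply, ← hcomm, Scheme.Hom.comp_apply]
      exact hU₂W hw
    have htow := Groth.Agent.S16256.tower_aux f U i g hcomm W U₂ hU₂W hV'W
    letI algAC : Algebra Γ(Y, W) Γ(U', U₂) := (g.appLE W U₂ hU₂W).hom.toAlgebra
    letI algAB : Algebra Γ(Y, W) Γ(X, V') := (f.appLE W V' hV'W).hom.toAlgebra
    let ψ : Γ(U', U₂) →+* Γ(X, V') := ((i.app U₂) ≫ (U.ι.appIso O).inv).hom
    letI algCB : Algebra Γ(U', U₂) Γ(X, V') := ψ.toAlgebra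
    haveI : IsScalarTower Γ(Y, W) Γ(U', U₂) Γ(X, V') := by
      refine IsScalarTower.of_algebraMap_eq' ?_
      show (f.appLE W V' hV'W).hom = ψ.comp (g.appLE W U₂ hU₂W).hom
      rw [← htow]
      rfl
    have hψsurj : Function.Surjective (algebraMap Γ(U', U₂) Γ(X, V')) := by
      show Function.Surjective ψ
      have h2 : Function.Surjective ((U.ι.appIso O).inv).hom :=
        ((U.ι.appIso O).symm.commRingCatIsoToRingEquiv).surjective
      exact h2.comp hsurj
    haveI hπsm : Smooth g := by
      haveI := hsm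
      exact SmoothOfRelativeDimension.smooth p g
    have hsmAC : (g.appLE W U₂ hU₂W).hom.Smooth :=
      HasRingHomProperty.appLE @Smooth g inferInstance ⟨W, hW⟩ ⟨U₂, hU₂⟩ hU₂W
    haveI : Algebra.Smooth Γ(Y, W) Γ(U', U₂) := hsmAC
    have hrankAll : ∀ p' : PrimeSpectrum Γ(U', U₂),
        Module.rankAtStalk (R := Γ(U', U₂)) Ω[Γ(U', U₂)⁄Γ(Y, W)] p' = p := by
      intro p'
      have hmem : hU₂.fromSpec p' ∈ U₂ := by
        have h1 : hU₂.fromSpec p' ∈ Set.range hU₂.fromSpec := ⟨_, rfl⟩
        rw [hU₂.range_fromSpec] at h1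
        exact h1
      have hp : hU₂.primeIdealOf ⟨hU₂.fromSpec p', hmem⟩ = p' := by
        apply hU₂.fromSpec.isOpenEmbedding.injective
        exact hU₂.fromSpec_primeIdealOf ⟨_, hmem⟩
      have h1 := Groth.Agent.S5021.fibreDimAt_eq_rankAtStalk g hU₂ hW hU₂W _ hmem hsmAC
      haveI := hsm
      rw [Groth.Agent.Lib.Helper22.SmoothDim.fibreDimAt_eq_of_smoothOfRelativeDimension p g,
        hp] at h1
      exact_mod_cast h1.symm
    set q := hV'.primeIdealOf ⟨x, hxV'⟩ with hqdef
    letI algCK : Algebra Γ(U', U₂) q.asIdeal.ResidueField :=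
      ((algebraMap Γ(X, V') q.asIdeal.ResidueField).comp (algebraMap Γ(U', U₂) Γ(X, V'))).toAlgebra
    haveI : IsScalarTower Γ(U', U₂) Γ(X, V') q.asIdeal.ResidueField :=
      IsScalarTower.of_algebraMap_eq' rfl
    have hq : RingHom.ker (algebraMap Γ(X, V') q.asIdeal.ResidueField) = q.asIdeal :=
      Ideal.ker_algebraMap_residueField _
    have hfp := f.finitePresentation_appLE hW hV' hV'W
    haveI : Algebra.FinitePresentation Γ(Y, W) Γ(X, V') := hfp
    obtain ⟨e0, -⟩ := Groth.Agent.S12423.exists_kaehler_equiv_sections f dΩ hd hV' hW hV'W rfl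
    rw [Groth.Agent.S8916.mem_support_sheafIdeal_iff Ω' p hV' x hxV', ← fitt_congr e0 p,
      not_fitt_le_iff_finrank p q.asIdeal]
    exact finrank_le_of_surjective Γ(Y, W) Γ(U', U₂) Γ(X, V') q.asIdeal.ResidueField hψsurj
      q.asIdeal hq hrankAll


end Groth.Agent.S16253
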