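import Groth.Statements.S1162
import Mathlib

set_option autoImplicit false
open CategoryTheory CategoryTheory.Limits AlgebraicGeometry Opposite
universe u
open Desc

namespace Groth.Agent.S1162

open IsLocalRing

/-- In a sober T0 space, the generic points of irreducible components are exactly the points
without proper generizations. -/
lemma eq_of_specializes_of_mem_irreducibleComponents {Z : Type*} [TopologicalSpace Z] [T0Space Z]
    {ζ ζ' : Z} (hζ : closure ({ζ} : Set Z) ∈ irreducibleComponents Z) (h : ζ' ⤳ ζ) : ζ' = ζ := by
  have hsub : closure ({ζ} : Set Z) ⊆ closure ({ζ'} : Set Z) :=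
    (specializes_iff_closure_subset.mp h)
  have hirr : IsIrreducible (closure ({ζ'} : Set Z)) := isIrreducible_singleton.closure
  have heq : closure ({ζ'} : Set Z) ⊆ closure ({ζ} : Set Z) := hζ.2 hirr hsub
  have h' : ζ ⤳ ζ' := specializes_iff_closure_subset.mpr heq
  exact (h.antisymm h').eq

lemma mem_irreducibleComponents_of_forall_specializes {Z : Type*} [TopologicalSpace Z]
    [QuasiSober Z] {ξ : Z} (h : ∀ ξ' : Z, ξ' ⤳ ξ → ξ' = ξ) :
    closure ({ξ} : Set Z) ∈ irreducibleComponents Z := by
  have hC : irreducibleComponent ξ ∈ irreducibleComponents Z :=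
    irreducibleComponent_mem_irreducibleComponents ξ
  obtain ⟨ξ', hξ'⟩ := QuasiSober.sober (isIrreducible_irreducibleComponent (x := ξ))
    isClosed_irreducibleComponent
  have h1 : ξ' ⤳ ξ := by
    rw [specializes_iff_mem_closure, hξ'.def]
    exact mem_irreducibleComponent
  rw [← h ξ' h1, hξ'.def]
  exact hC

lemma exists_generic_specializes {Z : Type*} [TopologicalSpace Z] [QuasiSober Z] (z : Z) :
    ∃ ζ : Z, closure ({ζ} : Set Z) ∈ irreducibleComponents Z ∧ ζ ⤳ z := by
  have hC : irreducibleComponent z ∈ irreducibleComponents Z :=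
    irreducibleComponent_mem_irreducibleComponents z
  obtain ⟨ζ, hζ⟩ := QuasiSober.sober (isIrreducible_irreducibleComponent (x := z))
    isClosed_irreducibleComponent
  refine ⟨ζ, by rw [hζ.def]; exact hC, ?_⟩
  rw [specializes_iff_mem_closure, hζ.def]
  exact mem_irreducibleComponent

set_option backward.isDefEq.respectTransparency.types false in
set_option backward.defeqAttrib.useBackward true in
/-- Two field-valued points with the same image point agree as soon as they agree after composing
with `f`, when the residue field extension at the image point is trivial. -/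
lemma eq_of_comp_eq {X Y : Scheme.{u}} (f : X ⟶ Y) (K : Type u) [Field K]
    (g₁ g₂ : Spec (CommRingCat.of K) ⟶ X) (hg : g₁ ≫ f = g₂ ≫ f)
    (e : g₁ (closedPoint K) = g₂ (closedPoint K))
    (hsurj : Function.Surjective (f.residueFieldMap (g₁ (closedPoint K))).hom) : g₁ = g₂ := by
  obtain ⟨e', h⟩ := Scheme.SpecToEquivOfField_eq_iff.mp congr((Y.SpecToEquivOfField K) $(hg))
  apply (X.SpecToEquivOfField K).injective
  dsimp at e' h
  simp only [Scheme.descResidueField_stalkClosedPointTo_comp] at e' h
  rw [← f.residueFieldMap_congr'_assoc e, CommRingCat.hom_ext_iff] at h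
  rw [Scheme.SpecToEquivOfField_eq_iff]
  refine ⟨e, CommRingCat.hom_ext ?_⟩
  apply RingHom.ext
  intro a
  obtain ⟨b, rfl⟩ := hsurj a
  exact congrArg (fun t => t b) h

/-- Let f : X ⟶ Y be flat and separated. Write X⁰ for the generic points of the irreducible components
of X. If for every ξ in X⁰ the residue field extension κ(f ξ) ⊆ κ(ξ) is trivial and f is injective
on X⁰, then f is universally injective. -/
theorem result {X Y : Scheme.{u}} (f : X ⟶ Y) [Flat f] [IsSeparated f]
    (h2 : ∀ ξ : X, closure ({ξ} : Set X) ∈ irreducibleComponents (X : Type u) →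
      Function.Surjective (f.residueFieldMap ξ).hom)
    (h3 : Set.InjOn f.base {ξ : X | closure ({ξ} : Set X) ∈ irreducibleComponents (X : Type u)}) :
    UniversallyInjective f := by
  rw [UniversallyInjective.iff_diagonal]
  constructor
  intro z
  obtain ⟨ζ, hζ, hζz⟩ := exists_generic_specializes z
  have hclosed : IsClosed (Set.range (pullback.diagonal f)) :=
    (pullback.diagonal f).isClosedEmbedding.isClosed_range
  refine hζz.mem_closed hclosed ?_
  -- the projections of `ζ` are generic points of `X`
  have hgen : ∀ (p : pullback f f ⟶ X), GeneralizingMap p →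
      closure ({p ζ} : Set X) ∈ irreducibleComponents (X : Type u) := by
    intro p hp
    apply mem_irreducibleComponents_of_forall_specializes
    intro ξ' hξ'
    obtain ⟨ζ', hζ'ζ, hζ'⟩ := hp hξ'
    rw [← hζ', eq_of_specializes_of_mem_irreducibleComponents hζ hζ'ζ]
  have h1 := hgen (pullback.fst f f) (Flat.generalizingMap _)
  have h2' := hgen (pullback.snd f f) (Flat.generalizingMap _)
  have hff : f (pullback.fst f f ζ) = f (pullback.snd f f ζ) := by
    rw [← Scheme.Hom.comp_apply, ← Scheme.Hom.comp_apply, pullback.condition]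
  have heq : pullback.fst f f ζ = pullback.snd f f ζ := h3 h1 h2' hff
  -- the residue field point of `ζ`
  let φ := (pullback f f).fromSpecResidueField ζ
  have hφ : φ (closedPoint ((pullback f f).residueField ζ)) = ζ :=
    Scheme.fromSpecResidueField_apply _ _
  have hg₁ : (φ ≫ pullback.fst f f) (closedPoint ((pullback f f).residueField ζ)) =
      pullback.fst f f ζ := by rw [Scheme.Hom.comp_apply, hφ]
  have hg₂ : (φ ≫ pullback.snd f f) (closedPoint ((pullback f f).residueField ζ)) =
      pullback.snd f f ζ := by rw [Scheme.Hom.comp_apply, hφ]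
  have hφ₁ : φ ≫ pullback.fst f f = φ ≫ pullback.snd f f := by
    apply eq_of_comp_eq f ((pullback f f).residueField ζ)
    · rw [Category.assoc, Category.assoc, pullback.condition]
    · rw [hg₁, hg₂, heq]
    · rw [hg₁]
      exact h2 _ h1
  have hφ₂ : φ = (φ ≫ pullback.fst f f) ≫ pullback.diagonal f := by
    apply pullback.hom_ext
    · simp
    · simp [hφ₁]
  refine ⟨(φ ≫ pullback.fst f f) (closedPoint _), ?_⟩
  rw [← Scheme.Hom.comp_apply, ← hφ₂, hφ]

end Groth.Agent.S1162
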