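import Groth.Statements.S1163
import Groth.Agent.Lib.Helper62.FlatDescent
-- import your own Groth.Agent.* helpers here

set_option autoImplicit false
open CategoryTheory CategoryTheory.Limits AlgebraicGeometry Opposite
universe u
open Desc

namespace Groth.Agent.S1163

/-- The case P = flat, single fppf cover: Let f : X ⟶ Y and q : Y ⟶ Z be morphisms of schemes, and
suppose there is a flat, surjective morphism g : Y' ⟶ Y locally of finite presentation which factors
through f. If f ≫ q is flat, then q is flat. -/
theorem result {X Y Z Y' : Scheme.{u}} (f : X ⟶ Y) (q : Y ⟶ Z) (g : Y' ⟶ Y) [Flat g] [Surjective g]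
    [LocallyOfFinitePresentation g] (l : Y' ⟶ X) (hl : l ≫ f = g) [Flat (f ≫ q)] : Flat q := by
  let s : Y' ⟶ pullback f g := pullback.lift l (𝟙 Y') (by rw [hl, Category.id_comp])
  have hs : s ≫ pullback.snd f g = 𝟙 Y' := pullback.lift_snd _ _ _
  have hcomp : pullback.snd f g ≫ g ≫ q = pullback.fst f g ≫ f ≫ q := by
    rw [← Category.assoc, ← pullback.condition, Category.assoc]
  haveI : Flat (pullback.snd f g ≫ g ≫ q) := by
    rw [hcomp]; infer_instance
  haveI : Flat (g ≫ q) :=
    Groth.Agent.Lib.Helper62.flat_of_section s (pullback.snd f g) hs (g ≫ q)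
  exact Groth.Agent.Lib.Helper62.flat_of_flat_comp_of_surjective g q

end Groth.Agent.S1163
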