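import Groth.Statements.S1164
import Groth.Agent.Lib.Helper62.FlatDescent
-- import your own Groth.Agent.* helpers here

set_option autoImplicit false
universe u
open Desc

namespace Groth.Agent.S1164

lemma flat_localization_of_etale (R R' : Type u) [CommRing R] [CommRing R']
    [Algebra R R']
    (E : Type u) [CommRing E] [Algebra R E] [Algebra.Etale R E] (P : Ideal E) [P.IsPrime]
    [Algebra E R'] [IsScalarTower R E R'] [IsLocalization.AtPrime R' P] : Module.Flat R R' := by
  haveI : Module.Flat E R' := IsLocalization.flat R' P.primeCompl
  exact Module.Flat.trans R E R'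

lemma flat_over_localization_of_etale (R R' S' : Type u) [CommRing R] [CommRing R'] [CommRing S']
    [Algebra R R'] [Algebra R' S'] [Algebra R S'] [IsScalarTower R R' S']
    (E : Type u) [CommRing E] [Algebra R E] [Algebra.Etale R E] (P : Ideal E) [P.IsPrime]
    [Algebra E R'] [IsScalarTower R E R'] [IsLocalization.AtPrime R' P]
    [Module.Flat R S'] : Module.Flat R' S' := by
  letI : Algebra E S' := ((algebraMap R' S').comp (algebraMap E R')).toAlgebra
  haveI : IsScalarTower E R' S' := IsScalarTower.of_algebraMap_eq (fun x ↦ rfl)
  haveI : IsScalarTower R E S' := IsScalarTower.of_algebraMap_eq (fun x ↦ by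
    rw [IsScalarTower.algebraMap_apply R R' S', IsScalarTower.algebraMap_apply R E R']
    rfl)
  haveI : Module.Flat E S' := Algebra.FormallyUnramified.flat_of_restrictScalars R E S'
  exact (Module.flat_iff_of_isLocalization R' P.primeCompl S').mpr inferInstance

/-- Let R → S be a local homomorphism of local rings. Let R' be a local ring which is a localization at
a prime of an etale R-algebra, with R → R' local, and similarly S' for S, and suppose S' is an
R'-algebra compatibly with the given maps. Then R → S is flat if and only if R' → S' is flat. (This
is the statement that flatness of a morphism of germs is etale local on source and target together.) -/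
theorem result (R S R' S' : Type u) [CommRing R] [CommRing S] [CommRing R'] [CommRing S']
    [IsLocalRing R] [IsLocalRing S] [IsLocalRing R'] [IsLocalRing S']
    [Algebra R S] [IsLocalHom (algebraMap R S)] [Algebra R R'] [IsLocalHom (algebraMap R R')]
    [Algebra S S'] [IsLocalHom (algebraMap S S')] [Algebra R' S'] [Algebra R S']
    [IsScalarTower R R' S'] [IsScalarTower R S S']
    (E : Type u) [CommRing E] [Algebra R E] [Algebra.Etale R E] (P : Ideal E) [P.IsPrime]
    [Algebra E R'] [IsScalarTower R E R'] [IsLocalization.AtPrime R' P]
    (F : Type u) [CommRing F] [Algebra S F] [Algebra.Etale S F] (Q : Ideal F) [Q.IsPrime]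
    [Algebra F S'] [IsScalarTower S F S'] [IsLocalization.AtPrime S' Q] :
    Module.Flat R S ↔ Module.Flat R' S' := by
  haveI hRR' : Module.Flat R R' := flat_localization_of_etale R R' E P
  haveI hSS' : Module.Flat S S' := flat_localization_of_etale S S' F Q
  haveI : Module.FaithfullyFlat S S' := Module.FaithfullyFlat.of_flat_of_isLocalHom
  constructor
  · intro h
    haveI : Module.Flat R S' := Module.Flat.trans R S S'
    exact flat_over_localization_of_etale R R' S' E P
  · intro h
    haveI : Module.Flat R S' := Module.Flat.trans R R' S'
    exact Groth.Agent.Lib.Helper62.flat_of_faithfullyFlat_of_flat R S S'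

end Groth.Agent.S1164
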