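import Groth.Statements.S5160
-- import your own Groth.Agent.* helpers here
import Groth.Agent.Lib.Helper85.CanonReg

set_option autoImplicit false
universe u
open Dual

namespace Groth.Agent.S5160

theorem isInjectiveHull_of_equiv {R : Type u} [CommRing R] {M E E' : Type u} [AddCommGroup M]
    [Module R M] [AddCommGroup E] [Module R E] [AddCommGroup E'] [Module R E']
    {f : M →ₗ[R] E} (hf : InjHull.IsInjectiveHull f) (θ : E ≃ₗ[R] E') :
    InjHull.IsInjectiveHull (θ.toLinearMap ∘ₗ f) := by
  haveI := hf.isInjective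
  refine { injective := θ.injective.comp hf.injective, essential := ?_,
           isInjective := Groth.Agent.Lib.Helper85.Hull.injective_of_linearEquiv θ }
  intro N hN
  have h1 : N.map θ.symm.toLinearMap ≠ ⊥ := by
    intro h
    apply hN
    rw [eq_bot_iff]
    intro y hy
    have : θ.symm y ∈ N.map θ.symm.toLinearMap := Submodule.mem_map_of_mem hy
    rw [h, Submodule.mem_bot] at this
    rw [Submodule.mem_bot]
    exact θ.symm.map_eq_zero_iff.1 this
  have h2 := hf.essential _ h1
  obtain ⟨e, he, he0⟩ := Submodule.exists_mem_ne_zero_of_ne_bot h2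
  obtain ⟨⟨y, hy, rfl⟩, ⟨c, hc⟩⟩ := he
  intro hbot
  have hmem : y ∈ N ⊓ LinearMap.range (θ.toLinearMap ∘ₗ f) := by
    refine ⟨hy, ⟨c, ?_⟩⟩
    rw [LinearMap.comp_apply, hc]
    exact θ.apply_symm_apply y
  rw [hbot, Submodule.mem_bot] at hmem
  apply he0
  rw [hmem, map_zero]


/-- Let A be a regular local ring of dimension n with maximal ideal m. Then the local cohomology module
H^n_m(A), the direct limit of the Ext^n_A(A/m^r, A), is an injective hull of the residue field (it
is the dualizing module of A). -/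
theorem result (A : Type u) [CommRing A] [IsRegularLocalRing A] (n : ℕ) (hn : ringKrullDim A = n) : ∃ f : IsLocalRing.ResidueField A →ₗ[A] LocCoh.H (IsLocalRing.maximalIdeal A) n A, InjHull.IsInjectiveHull f := by
  obtain ⟨E, _, _, f, hf⟩ :=
    Groth.Agent.Lib.Helper85.Hull.exists_injectiveHull (R := A) (IsLocalRing.ResidueField A)
  obtain ⟨θ⟩ := Groth.Agent.Lib.Helper85.Canon.regular_top_equiv A n hn hf
  exact ⟨θ.symm.toLinearMap ∘ₗ f, isInjectiveHull_of_equiv hf θ.symm⟩

end Groth.Agent.S5160
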