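import Groth.Statements.S1167
import Groth.Agent.Lib.Helper6.HilbIncl

set_option autoImplicit false
open CategoryTheory CategoryTheory.Limits AlgebraicGeometry
universe u
open HilbD

namespace Groth.Agent.S1167

/-- Let f : X → S be a separated morphism of schemes and let (H, Z) represent the Hilbert functor of
points of degree d of X over S (Z the universal object on H). Then H → S is separated. -/
theorem result {X S : Scheme.{u}} (f : X ⟶ S) [IsSeparated f] (d : ℕ)
    (H : Over S) (Z : HilbD.Obj f d H) (hZ : HilbD.IsUniversal f d H Z) : IsSeparated H.hom := by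
  open Groth.Agent.Lib.Helper6.HilbIncl Groth.Agent.Lib.Helper6.HilbDesc
    Groth.Agent.Lib.Helper6.EssFreeLocal in
  let P : Over S := Over.mk (pullback.fst H.hom H.hom ≫ H.hom)
  let a : P ⟶ H := Over.homMk (pullback.fst H.hom H.hom) rfl
  let b : P ⟶ H := Over.homMk (pullback.snd H.hom H.hom) pullback.condition.symm
  let I := HilbD.pull f a Z.1
  let K := HilbD.pull f b Z.1
  have hI := finLocFree_pull f a d Z.1 Z.2
  have hK := finLocFree_pull f b d Z.1 Z.2
  obtain ⟨E₁, t₁, ht₁ci, ht₁⟩ := incl_locus f P I K hI.1.1 hI.1.2.1 hI.1.2.2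
  obtain ⟨E₂, t₂, ht₂ci, ht₂⟩ := incl_locus f P K I hK.1.1 hK.1.2.1 hK.1.2.2
  have key : ∀ (W : Over S) (w : W ⟶ P), (Fac t₁ w.left ∧ Fac t₂ w.left) ↔ w ≫ a = w ≫ b := by
    intro W w
    rw [ht₁, ht₂]
    have eI : I.comap (PicF.XTmap f w) = HilbD.pull f (w ≫ a) Z.1 := by
      change (HilbD.pull f a Z.1).comap (PicF.XTmap f w) = HilbD.pull f (w ≫ a) Z.1
      rw [pull_eq_comap f a, pull_eq_comap f (w ≫ a), XTmap_comp,
        Scheme.IdealSheafData.comap_comp]
    have eK : K.comap (PicF.XTmap f w) = HilbD.pull f (w ≫ b) Z.1 := by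
      change (HilbD.pull f b Z.1).comap (PicF.XTmap f w) = HilbD.pull f (w ≫ b) Z.1
      rw [pull_eq_comap f b, pull_eq_comap f (w ≫ b), XTmap_comp,
        Scheme.IdealSheafData.comap_comp]
    rw [eI, eK]
    constructor
    · rintro ⟨h1, h2⟩
      have heq : HilbD.pull f (w ≫ a) Z.1 = HilbD.pull f (w ≫ b) Z.1 := le_antisymm h2 h1
      obtain ⟨g, hg, huniq⟩ :=
        hZ W ⟨HilbD.pull f (w ≫ a) Z.1, finLocFree_pull f (w ≫ a) d Z.1 Z.2⟩
      exact (huniq (w ≫ a) rfl).trans (huniq (w ≫ b) heq.symm).symm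
    · intro h
      rw [h]
      exact ⟨le_rfl, le_rfl⟩
  -- the closed immersion `t`
  let t : pullback t₁ t₂ ⟶ P.left := pullback.fst t₁ t₂ ≫ t₁
  have : IsClosedImmersion t := by dsimp only [t]; infer_instance
  have hfac : ∀ {W : Scheme.{u}} (w : W ⟶ P.left), Fac t w ↔ (Fac t₁ w ∧ Fac t₂ w) := by
    intro W w
    constructor
    · rintro ⟨l, hl⟩
      refine ⟨⟨l ≫ pullback.fst t₁ t₂, by rw [Category.assoc]; exact hl⟩,
        ⟨l ≫ pullback.snd t₁ t₂, ?_⟩⟩
      rw [Category.assoc, ← pullback.condition]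
      exact hl
    · rintro ⟨⟨l₁, hl₁⟩, ⟨l₂, hl₂⟩⟩
      refine ⟨pullback.lift l₁ l₂ (hl₁.trans hl₂.symm), ?_⟩
      dsimp only [t]
      rw [pullback.lift_fst_assoc, hl₁]
  -- the diagonal
  let Δ : H.left ⟶ P.left := pullback.diagonal H.hom
  let Δo : H ⟶ P := Over.homMk Δ (by
    change pullback.diagonal H.hom ≫ pullback.fst H.hom H.hom ≫ H.hom = H.hom
    rw [pullback.diagonal_fst_assoc])
  have hΔa : Δo ≫ a = 𝟙 H := by
    apply Over.OverMorphism.ext
    exact pullback.diagonal_fst H.hom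
  have hΔb : Δo ≫ b = 𝟙 H := by
    apply Over.OverMorphism.ext
    exact pullback.diagonal_snd H.hom
  obtain ⟨l, hl⟩ := (hfac Δ).mpr ((key H Δo).mpr (hΔa.trans hΔb.symm))
  let Eo : Over S := Over.mk (t ≫ P.hom)
  let tE : Eo ⟶ P := Over.homMk t rfl
  have hto : tE ≫ a = tE ≫ b := (key Eo tE).mp ((hfac t).mp ⟨𝟙 _, Category.id_comp _⟩)
  have hts : t ≫ pullback.fst H.hom H.hom = t ≫ pullback.snd H.hom H.hom :=
    congrArg (fun m => m.left) hto
  have htΔ : (t ≫ pullback.fst H.hom H.hom) ≫ Δ = t := by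
    apply pullback.hom_ext
    · rw [Category.assoc, Category.assoc, pullback.diagonal_fst, Category.comp_id]
    · rw [Category.assoc, Category.assoc, pullback.diagonal_snd, Category.comp_id, hts]
  have : IsIso l := by
    refine ⟨t ≫ pullback.fst H.hom H.hom, ?_, ?_⟩
    · rw [← Category.assoc, hl]
      exact pullback.diagonal_fst H.hom
    · rw [← cancel_mono t, Category.assoc, hl, htΔ, Category.id_comp]
  refine ⟨?_⟩
  change IsClosedImmersion Δ
  rw [← hl]
  infer_instance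

end Groth.Agent.S1167
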