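import Groth.Statements.S1168
import Groth.Agent.Lib.Helper6.HilbClosed2

set_option autoImplicit false
open CategoryTheory CategoryTheory.Limits AlgebraicGeometry
universe u
open HilbD

namespace Groth.Agent.S1168

/-- Let i : X ⟶ Y be a closed immersion of schemes over S (structure morphisms i ≫ g and g) and suppose
(H, Z) represents the degree-d Hilbert functor of points of Y over S. Then the degree-d Hilbert
functor of points of X over S is representable, and for any representing pair (H', Z') the unique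
S-morphism H' ⟶ H classifying the image of Z' in Y ×_S H' is a closed immersion. -/
theorem result {X Y S : Scheme.{u}} (i : X ⟶ Y) [IsClosedImmersion i] (g : Y ⟶ S)
    (d : ℕ) (H : Over S) (Z : HilbD.Obj g d H) (hZ : HilbD.IsUniversal g d H Z) :
    HilbD.Representable (i ≫ g) d ∧
    ∀ (H' : Over S) (Z' : HilbD.Obj (i ≫ g) d H') (_ : HilbD.IsUniversal (i ≫ g) d H' Z') (m : H' ⟶ H),
      HilbD.pull g m Z.1 = HilbD.push i g H' Z'.1 → IsClosedImmersion m.left := by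
  open Groth.Agent.Lib.Helper6.HilbIncl Groth.Agent.Lib.Helper6.HilbDesc
    Groth.Agent.Lib.Helper6.EssFreeLocal Groth.Agent.Lib.Helper6.HilbClosed in
  obtain ⟨E, t, htci, ht'⟩ := incl_locus g H Z.1 (Kc i g H) Z.2.1.1 Z.2.1.2.1 Z.2.1.2.2
  have := htci
  have ht : ∀ (W : Over S) (w : W ⟶ H), Fac t w.left ↔ Kc i g W ≤ HilbD.pull g w Z.1 := by
    intro W w
    rw [ht' W w, Kc_comap, ← pull_eq_comap]
  have hZ₀ : Mor2.IsFinLocFreeOfDeg d
      ((Z₀ i g d H Z t).subschemeι ≫ PicF.XTproj (i ≫ g) (H₀ H t)) := by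
    apply obj_comap i g d (H₀ H t) (HilbD.pull g (t₀ H t) Z.1)
    · have := le_of_t₀ i g d H Z t ht (𝟙 (H₀ H t))
      rwa [Category.id_comp] at this
    · exact finLocFree_pull g (t₀ H t) d Z.1 Z.2
  have huniv := universal i g d H Z t ht hZ hZ₀
  refine ⟨⟨H₀ H t, ⟨Z₀ i g d H Z t, hZ₀⟩, huniv⟩, ?_⟩
  intro H' Z' hZ' m hm
  obtain ⟨θ, hθm, hθZ⟩ := star2 i g d H Z t ht m Z'.1 hm
  obtain ⟨θ', hθ', -⟩ := hZ' (H₀ H t) ⟨Z₀ i g d H Z t, hZ₀⟩
  have hθ'' : HilbD.pull (i ≫ g) θ' Z'.1 = Z₀ i g d H Z t := hθ'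
  have h1 : θ ≫ θ' = 𝟙 H' := by
    obtain ⟨u, hu, huniq⟩ := hZ' H' Z'
    have a1 : HilbD.pull (i ≫ g) (θ ≫ θ') Z'.1 = Z'.1 := by rw [pull_comp, hθ'', hθZ]
    have a2 : HilbD.pull (i ≫ g) (𝟙 H') Z'.1 = Z'.1 := pull_id _ _ _
    exact (huniq _ a1).trans (huniq _ a2).symm
  have h2 : θ' ≫ θ = 𝟙 (H₀ H t) := by
    obtain ⟨u, hu, huniq⟩ := huniv (H₀ H t) ⟨Z₀ i g d H Z t, hZ₀⟩
    have a1 : HilbD.pull (i ≫ g) (θ' ≫ θ) (Z₀ i g d H Z t) = Z₀ i g d H Z t := by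
      rw [pull_comp, hθZ, hθ'']
    have a2 : HilbD.pull (i ≫ g) (𝟙 (H₀ H t)) (Z₀ i g d H Z t) = Z₀ i g d H Z t :=
      pull_id _ _ _
    exact (huniq _ a1).trans (huniq _ a2).symm
  have hiso : IsIso θ.left :=
    ⟨θ'.left, congrArg (fun a => a.left) h1, congrArg (fun a => a.left) h2⟩
  have hm' : m.left = θ.left ≫ t := (congrArg (fun a => a.left) hθm).symm
  rw [hm']
  infer_instance

end Groth.Agent.S1168
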