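import Groth.Statements.S9738
import Groth.Agent.Lib.Helper6.LocalFlat4
import Groth.Agent.Lib.Helper22.RelCartierRing

set_option autoImplicit false
universe u
open FlatMor

namespace Groth.Agent.S9738

open AlgebraicGeometry CategoryTheory Limits TensorProduct

/-- Bridge: flatness of the base change of `f` to the closed subscheme `V(K)` gives flatness of
`A/K(V) → A/K(V) ⊗_A B` on affine charts. -/
theorem flat_quotient_tensor {X S : Scheme.{u}} (f : X ⟶ S) (K : S.IdealSheafData)
    (hfl : Flat (pullback.snd f K.subschemeι)) (V : S.affineOpens) {U : X.Opens}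
    (hU : IsAffineOpen U) (e : U ≤ f ⁻¹ᵁ V.1) (J : Ideal Γ(S, V.1)) (hJ : K.ideal V = J) :
    letI := (f.appLE V.1 U e).hom.toAlgebra
    Module.Flat (Γ(S, V.1) ⧸ J) ((Γ(S, V.1) ⧸ J) ⊗[Γ(S, V.1)] Γ(X, U)) := by
  subst hJ
  letI := (f.appLE V.1 U e).hom.toAlgebra
  have hV : IsAffineOpen V.1 := V.2
  -- notation
  let A : Type u := Γ(S, V.1)
  let B : Type u := Γ(X, U)
  let Q : Type u := A ⧸ K.ideal V
  let jZ : Spec (CommRingCat.of Q) ⟶ K.subscheme := K.subschemeCover.f V
  have hjZ : jZ ≫ K.subschemeι =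
      Spec.map (CommRingCat.ofHom (algebraMap A Q)) ≫ hV.fromSpec := by
    exact (K.subschemeCover_map_subschemeι V).trans (K.glueDataObjι_ι V)
  -- step 1: flip
  have h1 : Flat (pullback.fst K.subschemeι f) := by
    rw [← pullbackSymmetry_hom_comp_snd]
    infer_instance
  -- step 2: base change along jZ
  have h2 : Flat (pullback.fst (jZ ≫ K.subschemeι) f) := by
    let l : pullback (jZ ≫ K.subschemeι) f ⟶ pullback K.subschemeι f :=
      pullback.lift (pullback.fst _ _ ≫ jZ) (pullback.snd _ _) (by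
        rw [Category.assoc, pullback.condition])
    have hbig : IsPullback (pullback.fst (jZ ≫ K.subschemeι) f) (l ≫ pullback.snd K.subschemeι f)
        (jZ ≫ K.subschemeι) f := by
      have : l ≫ pullback.snd K.subschemeι f = pullback.snd (jZ ≫ K.subschemeι) f :=
        pullback.lift_snd _ _ _
      rw [this]
      exact IsPullback.of_hasPullback _ _
    have hsq : IsPullback (pullback.fst (jZ ≫ K.subschemeι) f) l jZ
        (pullback.fst K.subschemeι f) :=
      IsPullback.of_bot hbig (pullback.lift_fst _ _ _).symm (IsPullback.of_hasPullback _ _)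
    exact MorphismProperty.of_isPullback hsq.flip h1
  -- step 3: restrict to the affine chart
  have e₁ : Spec.map (CommRingCat.ofHom (algebraMap A Q)) ≫ hV.fromSpec =
      𝟙 _ ≫ jZ ≫ K.subschemeι := by
    rw [Category.id_comp, hjZ]
  have e₂ : Spec.map (CommRingCat.ofHom (algebraMap A B)) ≫ hV.fromSpec = hU.fromSpec ≫ f :=
    hV.SpecMap_appLE_fromSpec f hU e
  let o := pullback.map (Spec.map (CommRingCat.ofHom (algebraMap A Q)))
    (Spec.map (CommRingCat.ofHom (algebraMap A B))) (jZ ≫ K.subschemeι) f (𝟙 _) hU.fromSpec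
    hV.fromSpec e₁ e₂
  have h3 : Flat (pullback.fst (Spec.map (CommRingCat.ofHom (algebraMap A Q)))
      (Spec.map (CommRingCat.ofHom (algebraMap A B)))) := by
    have : o ≫ pullback.fst (jZ ≫ K.subschemeι) f = pullback.fst _ _ ≫ 𝟙 _ :=
      pullback.lift_fst _ _ _
    rw [Category.comp_id] at this
    rw [← this]
    have ho : IsOpenImmersion o := Scheme.pullback_map_isOpenImmersion _ _ _ _ _ _ _ e₁ e₂
    infer_instance
  -- step 4: Spec of the tensor product
  have h4 : Flat (Spec.map (CommRingCat.ofHom (algebraMap Q (Q ⊗[A] B)))) := by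
    rw [← pullbackSpecIso_inv_fst' A Q B]
    infer_instance
  have h5 := (HasRingHomProperty.Spec_iff (P := @Flat)).mp h4
  exact RingHom.flat_algebraMap_iff.mp h5

/-- ring-level conclusion: `B_q` flat over `A` implies the local homomorphism `A_p → B_q` flat. -/
theorem flat_localRingHom {A B : Type u} [CommRing A] [CommRing B] [Algebra A B]
    (p : Ideal A) [p.IsPrime] (q : Ideal B) [q.IsPrime] (hpq : p = q.comap (algebraMap A B))
    (h : Module.Flat A (LocalizedModule q.primeCompl B)) :
    (Localization.localRingHom p q (algebraMap A B) hpq).Flat := by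
  let g := Localization.localRingHom p q (algebraMap A B) hpq
  letI : Algebra (Localization.AtPrime p) (Localization.AtPrime q) := g.toAlgebra
  have htower : IsScalarTower A (Localization.AtPrime p) (Localization.AtPrime q) := by
    refine IsScalarTower.of_algebraMap_eq' ?_
    ext a
    simp only [RingHom.comp_apply, RingHom.algebraMap_toAlgebra]
    rw [IsScalarTower.algebraMap_apply A B (Localization.AtPrime q)]
    exact (Localization.localRingHom_to_map p q (algebraMap A B) hpq a).symm
  have e : LocalizedModule q.primeCompl B ≃ₗ[B] Localization.AtPrime q :=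
    IsLocalizedModule.iso q.primeCompl (Algebra.linearMap B (Localization.AtPrime q))
  have h1 : Module.Flat A (Localization.AtPrime q) :=
    Module.Flat.of_linearEquiv (e.restrictScalars A).symm
  exact (Module.flat_iff_of_isLocalization (R := A) (S := Localization.AtPrime p) p.primeCompl
    (Localization.AtPrime q)).mpr h1


open AlgebraicGeometry CategoryTheory Limits in
/-- For a morphism f : X ⟶ S between locally Noetherian schemes, an ideal sheaf I on S with closed
subscheme Z, and Z_n the closed subscheme cut out by I^(n+1): if each base change X ×_S Z_n ⟶ Z_n is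
flat, then f is flat at each point of X lying over Z. -/
theorem result {X S : Scheme.{u}} (f : X ⟶ S) [IsLocallyNoetherian X] [IsLocallyNoetherian S]
    (I : S.IdealSheafData) (h : ∀ n : ℕ, Flat (pullback.snd f (I ^ (n + 1)).subschemeι)) (x : X) (hx : f x ∈ I.support) :
    (f.stalkMap x).hom.Flat := by
  obtain ⟨V, hV, hxV, -⟩ := exists_isAffineOpen_mem_and_subset (x := f x) (U := ⊤) trivial
  obtain ⟨U, hU, hxU, hUV⟩ := exists_isAffineOpen_mem_and_subset (x := x) (U := f ⁻¹ᵁ V) hxV
  have e : U ≤ f ⁻¹ᵁ V := hUV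
  rw [RingHom.Flat.respectsIso.arrow_mk_iso_iff (IsAffineOpen.arrowStalkMapIso f V hV U hU e hxU)]
  letI := (f.appLE V U e).hom.toAlgebra
  have : IsNoetherianRing Γ(S, V) := IsLocallyNoetherian.component_noetherian ⟨V, hV⟩
  have : IsNoetherianRing Γ(X, U) := IsLocallyNoetherian.component_noetherian ⟨U, hU⟩
  let J : Ideal Γ(S, V) := I.ideal ⟨V, hV⟩
  have hflatq : ∀ n : ℕ, 0 < n →
      Module.Flat (Γ(S, V) ⧸ J ^ n) ((Γ(S, V) ⧸ J ^ n) ⊗[Γ(S, V)] Γ(X, U)) := by
    intro n hn
    obtain ⟨m, rfl⟩ := Nat.exists_eq_succ_of_ne_zero hn.ne'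
    exact flat_quotient_tensor f (I ^ (m + 1)) (h m) ⟨V, hV⟩ hU e (J ^ (m + 1)) (by
      rw [Scheme.IdealSheafData.ideal_pow]
      rfl)
  have hcomap := IsAffineOpen.comap_primeIdealOf_appLE V hV U hU e hxU
  have hJp : J ≤ (hV.primeIdealOf ⟨f x, e hxU⟩).asIdeal := by
    have h1 := (Scheme.IdealSheafData.mem_support_iff_of_mem (I := I) (U := ⟨V, hV⟩) hxV).mp hx
    have h2 : hV.primeIdealOf ⟨f x, e hxU⟩ ∈
        hV.fromSpec ⁻¹' S.zeroLocus (U := V) (J : Set Γ(S, V)) := by
      show hV.fromSpec (hV.primeIdealOf ⟨f x, e hxU⟩) ∈ S.zeroLocus (U := V) (J : Set Γ(S, V))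
      rw [hV.fromSpec_primeIdealOf ⟨f x, e hxU⟩]
      exact h1
    rw [hV.fromSpec_preimage_zeroLocus] at h2
    exact h2
  have hq : J.map (algebraMap Γ(S, V) Γ(X, U)) ≤ (hU.primeIdealOf ⟨x, hxU⟩).asIdeal := by
    rw [Ideal.map_le_iff_le_comap]
    have : (hU.primeIdealOf ⟨x, hxU⟩).asIdeal.comap (algebraMap Γ(S, V) Γ(X, U)) =
        (hV.primeIdealOf ⟨f x, e hxU⟩).asIdeal := congrArg PrimeSpectrum.asIdeal hcomap
    rw [this]
    exact hJp
  have hflat := Groth.Agent.Lib.Helper6.LocalFlat.flat_localizedModule_of_flat_quotients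
    (M := Γ(X, U)) J hflatq (hU.primeIdealOf ⟨x, hxU⟩).asIdeal hq
  exact flat_localRingHom (A := Γ(S, V)) (B := Γ(X, U)) (hV.primeIdealOf ⟨f x, e hxU⟩).asIdeal
    (hU.primeIdealOf ⟨x, hxU⟩).asIdeal (congrArg PrimeSpectrum.asIdeal hcomap).symm hflat

end Groth.Agent.S9738
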