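import Groth.Statements.S1177
import Groth.Agent.Lib.Helper21.FPDescentSch
import Groth.Agent.Lib.Lead.PullbackAff6
import Mathlib.RingTheory.Flat.FaithfullyFlat.Algebra

set_option autoImplicit false
open CategoryTheory CategoryTheory.Limits AlgebraicGeometry Opposite
universe u
open Desc

namespace Groth.Agent.S1177

/-- Let g : X' ⟶ X be quasi-compact, flat and surjective and F a quasi-coherent O_X-module. If the
pullback g^*F is a finite locally free O_{X'}-module, then F is finite locally free. -/
theorem result {X X' : Scheme.{u}} (g : X' ⟶ X) [QuasiCompact g] [Flat g] [Surjective g]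
    (F : X.Modules) [F.IsQuasicoherent] (h : FlatMod.IsFinLocFree ((Scheme.Modules.pullback g).obj F)) :
    FlatMod.IsFinLocFree F := by
  haveI : ((Scheme.Modules.pullback g).obj F).IsQuasicoherent := inferInstance
  have hfp' := Groth.Agent.Lib.Helper2.FinLocFreeAff.isFP_of_isFinLocFree _ h
  have hfp := Groth.Agent.Lib.Helper21.FPDescentSch.isFinitePresentation_of_pullback g F hfp'
  refine Groth.Agent.Lib.Helper2.FinLocFreeAff.isFinLocFree_of_flat_of_isFP F ?_ hfp
  intro x
  obtain ⟨x', rfl⟩ := g.surjective x
  change Module.Flat (X.presheaf.stalk (g x')) (F.presheaf.stalk (g x'))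
  letI := (g.stalkMap x').hom.toAlgebra
  haveI : Module.Flat (X.presheaf.stalk (g x')) (X'.presheaf.stalk x') :=
    (Flat.stalkMap g x' : (g.stalkMap x').hom.Flat)
  haveI : IsLocalHom (algebraMap (X.presheaf.stalk (g x')) (X'.presheaf.stalk x')) :=
    inferInstanceAs (IsLocalHom (g.stalkMap x').hom)
  haveI : Module.FaithfullyFlat (X.presheaf.stalk (g x')) (X'.presheaf.stalk x') :=
    Module.FaithfullyFlat.of_flat_of_isLocalHom
  obtain ⟨e⟩ := Groth.Agent.Lib.Lead.PullbackAff.nonempty_stalk_pullback_equiv g F x'
  haveI : Module.Free (X'.presheaf.stalk x')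
      (((Scheme.Modules.pullback g).obj F).presheaf.stalk x') :=
    Groth.Agent.Lib.Helper2.FinLocFreeAff.free_stalk_of_isFinLocFree _ h x'
  haveI : Module.Flat (X'.presheaf.stalk x')
      (TensorProduct (X.presheaf.stalk (g x')) (X'.presheaf.stalk x') (F.presheaf.stalk (g x'))) :=
    Module.Flat.of_linearEquiv e.symm
  exact Module.Flat.of_flat_tensorProduct _ _ (X'.presheaf.stalk x')

end Groth.Agent.S1177
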