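import Groth.Statements.S1178
import Groth.Agent.S0019
import Groth.Agent.Lib.Helper2.FinLocFreeAff
import Mathlib.RingTheory.Finiteness.ModuleFinitePresentation

set_option autoImplicit false
open CategoryTheory CategoryTheory.Limits AlgebraicGeometry Opposite
universe u
open Desc

namespace Groth.Agent.S1178

open AlgebraicGeometry CategoryTheory Scheme.Modules TopologicalSpace
open Groth.Agent.Lib.Lead.QCohAff Groth.Agent.Lib.Lead.CohAff Groth.Agent.Lib.Lead.QCohPush

theorem fp_of_fp_restrictScalars (R S M : Type*) [CommRing R] [CommRing S] [Algebra R S]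
    [AddCommGroup M] [Module R M] [Module S M] [IsScalarTower R S M] [Module.Finite R S]
    [Module.FinitePresentation R M] : Module.FinitePresentation S M := by
  haveI : Module.Finite S M := Module.Finite.of_restrictScalars_finite R S M
  obtain ⟨n, g, hg⟩ := Module.Finite.exists_fin' S M
  refine Module.finitePresentation_of_surjective g hg ?_
  have h1 : (LinearMap.ker (g.restrictScalars R)).FG :=
    Module.FinitePresentation.fg_ker (g.restrictScalars R) hg
  obtain ⟨T, hT⟩ := h1
  refine ⟨T, ?_⟩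
  apply le_antisymm
  · rw [Submodule.span_le]
    intro x hx
    have : x ∈ LinearMap.ker (g.restrictScalars R) := hT ▸ Submodule.subset_span hx
    exact this
  · intro x hx
    have hx' : x ∈ LinearMap.ker (g.restrictScalars R) := hx
    rw [← hT] at hx'
    exact Submodule.span_le_restrictScalars R S _ hx'

theorem fp_sections_pushforward_iff {X Y : Scheme.{u}} (f : X ⟶ Y) (M : X.Modules)
    (V : Y.Opens) (hR : (f.app V).hom.Finite) (hP : (f.app V).hom.FinitePresentation) :
    Module.FinitePresentation Γ(Y, V) Γ((Scheme.Modules.pushforward f).obj M, V) ↔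
      Module.FinitePresentation Γ(X, f ⁻¹ᵁ V) Γ(M, f ⁻¹ᵁ V) := by
  letI : Algebra Γ(Y, V) Γ(X, f ⁻¹ᵁ V) := (f.app V).hom.toAlgebra
  letI : Module Γ(Y, V) Γ(M, f ⁻¹ᵁ V) := Module.compHom _ (f.app V).hom
  haveI : IsScalarTower Γ(Y, V) Γ(X, f ⁻¹ᵁ V) Γ(M, f ⁻¹ᵁ V) :=
    IsScalarTower.of_algebraMap_smul fun r m => rfl
  haveI : Module.Finite Γ(Y, V) Γ(X, f ⁻¹ᵁ V) := hR
  haveI : Algebra.FinitePresentation Γ(Y, V) Γ(X, f ⁻¹ᵁ V) := hP
  haveI : Module.FinitePresentation Γ(Y, V) Γ(X, f ⁻¹ᵁ V) :=
    Module.FinitePresentation.of_finite_of_finitePresentation _ _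
  let e : Γ(M, f ⁻¹ᵁ V) ≃ₗ[Γ(Y, V)] Γ((Scheme.Modules.pushforward f).obj M, V) :=
    { toFun := fun s => pfSec' f M s
      invFun := fun s => pfSec f M s
      left_inv := fun _ => rfl
      right_inv := fun _ => rfl
      map_add' := fun _ _ => rfl
      map_smul' := fun _ _ => rfl }
  constructor
  · intro h
    haveI : Module.FinitePresentation Γ(Y, V) Γ(M, f ⁻¹ᵁ V) :=
      Module.FinitePresentation.of_equiv e.symm
    exact fp_of_fp_restrictScalars Γ(Y, V) Γ(X, f ⁻¹ᵁ V) Γ(M, f ⁻¹ᵁ V)
  · intro h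
    haveI : Module.FinitePresentation Γ(Y, V) Γ(M, f ⁻¹ᵁ V) :=
      Module.FinitePresentation.trans Γ(Y, V) Γ(M, f ⁻¹ᵁ V) Γ(X, f ⁻¹ᵁ V)
    exact Module.FinitePresentation.of_equiv e

/-- Let f : X ⟶ Y be finite and locally of finite presentation and F a quasi-coherent O_X-module. Then F
is finitely presented exactly when its pushforward f_*F is a finitely presented O_Y-module. -/
theorem result {X Y : Scheme.{u}} (f : X ⟶ Y) [IsFinite f] [LocallyOfFinitePresentation f]
    (F : X.Modules) [F.IsQuasicoherent] :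
    CohB1.IsFP F ↔ CohB1.IsFP ((Scheme.Modules.pushforward f).obj F) := by
  haveI : ((Scheme.Modules.pushforward f).obj F).IsQuasicoherent := inferInstance
  have key : ∀ (V : Y.Opens) (hV : IsAffineOpen V),
      Module.FinitePresentation Γ(Y, V) Γ((Scheme.Modules.pushforward f).obj F, V) ↔
        Module.FinitePresentation Γ(X, f ⁻¹ᵁ V) Γ(F, f ⁻¹ᵁ V) := by
    intro V hV
    apply fp_sections_pushforward_iff f F V (IsFinite.finite_app f V hV)
    have := f.finitePresentation_appLE hV (hV.preimage f) le_rfl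
    rwa [← Scheme.Hom.app_eq_appLE] at this
  constructor
  · intro h
    have h' := (Groth.Agent.Lib.Helper2.FinLocFreeAff.isFinitePresentation_iff_sections F).1 h
    apply (Groth.Agent.Lib.Helper2.FinLocFreeAff.isFinitePresentation_iff_sections _).2
    intro V hV
    exact (key V hV).2 (h' _ (hV.preimage f))
  · intro h'
    have h := (Groth.Agent.Lib.Helper2.FinLocFreeAff.isFinitePresentation_iff_sections _).1 h'
    apply Groth.Agent.Lib.Helper2.FinLocFreeAff.isFinitePresentation_of_sections
    intro x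
    obtain ⟨_, ⟨V, hV : IsAffineOpen V, rfl⟩, hyV, -⟩ :=
      (Y.isBasis_affineOpens).exists_subset_of_mem_open (Set.mem_univ (f x)) isOpen_univ
    exact ⟨f ⁻¹ᵁ V, hV.preimage f, hyV, (key V hV).1 (h V hV)⟩

end Groth.Agent.S1178
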