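import Groth.Statements.S1181
import Groth.Agent.Lib.Helper6.HilbDesc

set_option autoImplicit false
open CategoryTheory CategoryTheory.Limits AlgebraicGeometry
universe u
open HilbD

namespace Groth.Agent.S1181

/-- Let f : X ⟶ S, d a natural number, T an S-scheme and g : T' ⟶ T quasi-compact, flat and surjective,
viewed over S. Let Z' be a closed subscheme of X ×_S T' finite locally free of degree d over T'
whose two pullbacks to X ×_S (T' ×_T T') coincide. Then there is exactly one closed subscheme of X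
×_S T, finite locally free of degree d over T, pulling back to Z'. -/
theorem result {X S : Scheme.{u}} (f : X ⟶ S) (d : ℕ) (T : Over S) {T' : Scheme.{u}} (g : T' ⟶ T.left)
    [QuasiCompact g] [Flat g] [Surjective g] (Z' : HilbD.Obj f d (HilbD.coverOver T g))
    (hZ' : HilbD.pull f (HilbD.overlapFst T g) Z'.1 = HilbD.pull f (HilbD.overlapSnd T g) Z'.1) :
    ∃! I : (PicF.XT f T).IdealSheafData, Mor2.IsFinLocFreeOfDeg d (I.subschemeι ≫ PicF.XTproj f T) ∧
      HilbD.pull f (HilbD.coverHom T g) I = Z'.1 := by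
  open Groth.Agent.Lib.Helper6.HilbDesc in
  have hQ : (@Surjective ⊓ @Flat ⊓ @QuasiCompact : MorphismProperty Scheme.{u}) g :=
    ⟨⟨inferInstance, inferInstance⟩, inferInstance⟩
  -- descent of the closed subscheme
  have hcov : Presieve.ofArrows (fun _ : PUnit.{u + 1} => PicF.XT f (HilbD.coverOver T g))
      (fun _ => G f T g) ∈ Scheme.fpqcPrecoverage (PicF.XT f T) := by
    rw [Presieve.ofArrows_pUnit]
    exact Scheme.Hom.singleton_mem_fpqcPrecoverage (G f T g)
  obtain ⟨J, hJ, hJuniq⟩ := Groth.Agent.Lib.Helper5.DescClosed.existsUnique_comap_eq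
    (fun _ : PUnit.{u + 1} => G f T g) (fun _ => Z'.1)
    (fun _ _ => overlap_comap f T g Z'.1 hZ') hcov
  have hJ' : J.comap (G f T g) = Z'.1 := hJ PUnit.unit
  refine ⟨J, ⟨?_, ?_⟩, ?_⟩
  · -- finite locally free of degree d
    have h2 := Z'.2
    rw [← hJ'] at h2
    obtain ⟨⟨hfin, hflat, hfp⟩, hrank⟩ := h2
    have sq := isPullback_sub f T g J
    have : MorphismProperty.DescendsAlong @IsFinite
        (@Surjective ⊓ @Flat ⊓ @QuasiCompact : MorphismProperty Scheme.{u}) :=
      Groth.Agent.S0084.result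
    have : MorphismProperty.DescendsAlong @Flat
        (@Surjective ⊓ @Flat ⊓ @QuasiCompact : MorphismProperty Scheme.{u}) :=
      Groth.Agent.Lib.Helper14.QuotStGeom.flat_descendsAlong_fpqc
    have h1 : IsFinite (J.subschemeι ≫ PicF.XTproj f T) :=
      MorphismProperty.of_isPullback_of_descendsAlong (P := @IsFinite)
        (Q := (@Surjective ⊓ @Flat ⊓ @QuasiCompact : MorphismProperty Scheme.{u})) sq.flip hQ hfin
    have h2 : Flat (J.subschemeι ≫ PicF.XTproj f T) :=
      MorphismProperty.of_isPullback_of_descendsAlong (P := @Flat)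
        (Q := (@Surjective ⊓ @Flat ⊓ @QuasiCompact : MorphismProperty Scheme.{u})) sq.flip hQ hflat
    have h3 : LocallyOfFinitePresentation (J.subschemeι ≫ PicF.XTproj f T) :=
      MorphismProperty.of_isPullback_of_descendsAlong (P := @LocallyOfFinitePresentation)
        (Q := (@Surjective ⊓ @Flat ⊓ @QuasiCompact : MorphismProperty Scheme.{u})) sq.flip hQ hfp
    refine ⟨⟨h1, h2, h3⟩, fun t => ?_⟩
    obtain ⟨t', rfl⟩ := (inferInstance : Surjective g).surj t
    rw [← Scheme.Hom.finrank_of_isPullback _ _ _ _ sq t']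
    exact hrank t'
  · rw [pull_eq_comap]
    exact hJ'
  · rintro I ⟨-, hI⟩
    apply hJuniq
    intro _
    rw [pull_eq_comap] at hI
    exact hI

end Groth.Agent.S1181
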