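import Groth.Statements.S1182
import Groth.Agent.Lib.Helper30.SmoothNormal

set_option autoImplicit false
universe u
open Desc

namespace Groth.Agent.S1182

/-- Let A → B be a smooth ring map. If A is a normal ring (all local rings integrally closed domains)
then so is B; and if moreover A → B is faithfully flat and B is normal, then A is normal. So
normality can be checked smooth-locally. -/
theorem result (A B : Type u) [CommRing A] [CommRing B] [Algebra A B] [Algebra.Smooth A B] :
    (EGA4.IsNormalRing A → EGA4.IsNormalRing B) ∧
    (Module.FaithfullyFlat A B → EGA4.IsNormalRing B → EGA4.IsNormalRing A) := by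
  refine ⟨fun hA q _ => ?_, fun hff hB p _ => ?_⟩
  · exact Groth.Agent.Lib.Helper30.SmoothNormal.normal_of_smooth A B (fun p _ => hA p) q
  · exact Groth.Agent.Lib.Helper30.SmoothNormal.normal_of_faithfullyFlat A B (fun q _ => hB q) p

end Groth.Agent.S1182
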