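import Groth.Statements.S1186
import Groth.Agent.Lib.Helper79.FerrandRelCart3
import Groth.Agent.S1442

set_option autoImplicit false
universe u
open Pi1

namespace Groth.Agent.S1186

open AlgebraicGeometry CategoryTheory CategoryTheory.Limits in
/-- Let i : Z ⟶ X be a closed immersion and j : Z ⟶ Y an integral morphism such that every fibre of j
lies in the preimage under i of some affine open of X, and let a : X ⟶ W, b : Y ⟶ W exhibit W as the
pushout of i and j in the category of schemes. If U is finite étale over X and V is finite étale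
over Y with U ×_X Z ≅ V ×_Y Z over Z, then there is a finite étale cover T of W whose restrictions
to X and to Y are isomorphic to U and to V respectively. (This is the essential-surjectivity part of
an equivalence between finite étale covers of W and the 2-fibre product of the categories of finite
étale covers of X and of Y over that of Z; only the gluing of objects is asserted, and the
compatibility of the two identifications over Z is not asserted.) -/
theorem result {Z X Y W : Scheme.{u}} (i : Z ⟶ X) [IsClosedImmersion i] (j : Z ⟶ Y) [IsIntegralHom j]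
    (h3 : ∀ y : Y, ∃ U : X.Opens, IsAffineOpen U ∧ ∀ z : Z, j.base z = y → i.base z ∈ U)
    (a : X ⟶ W) (b : Y ⟶ W) (hpo : IsPushout i j a b)
    (U : FEt.Cat X) (V : FEt.Cat Y) (e : (FEt.restrict i).obj U ≅ (FEt.restrict j).obj V) :
    ∃ T : FEt.Cat W, Nonempty ((FEt.restrict a).obj T ≅ U) ∧ Nonempty ((FEt.restrict b).obj T ≅ V) := by
  classical
  have hF : Groth.Agent.Lib.Helper79.Ferrand.Cond i j := fun y => by
    obtain ⟨U₀, V₀, hU₀, hV₀, hy, e'⟩ := Groth.Agent.S1442.result i j
      (fun y => by
        obtain ⟨U₁, hU₁, h⟩ := h3 y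
        exact ⟨U₁, hU₁, fun z hz => h z hz⟩) y
    exact ⟨⟨U₀, V₀, hU₀, hV₀, e'⟩, hy⟩
  haveI hfinU : IsFinite U.hom := U.prop.1
  haveI hetU : Etale U.hom := U.prop.2
  haveI hfinV : IsFinite V.hom := V.prop.1
  haveI hetV : Etale V.hom := V.prop.2
  -- the iso of the restrictions on the level of schemes
  let ε : pullback U.hom i ≅ pullback V.hom j :=
    (MorphismProperty.Over.forget FEt.prop ⊤ Z ⋙ CategoryTheory.Over.forget Z).mapIso e
  have hε : ε.hom ≫ pullback.snd V.hom j = pullback.snd U.hom i := Over.w e.hom.hom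
  let i' : pullback U.hom i ⟶ U.left := pullback.fst U.hom i
  let c : pullback U.hom i ⟶ Z := pullback.snd U.hom i
  let j' : pullback U.hom i ⟶ V.left := ε.hom ≫ pullback.fst V.hom j
  have hX : IsPullback i' c U.hom i := IsPullback.of_hasPullback _ _
  have hY : IsPullback j' c V.hom j := by
    refine IsPullback.of_iso_pullback ⟨?_⟩ ε rfl hε
    change (ε.hom ≫ pullback.fst V.hom j) ≫ V.hom = pullback.snd U.hom i ≫ j
    rw [Category.assoc, pullback.condition, ← Category.assoc, hε]
  haveI hi' : IsClosedImmersion i' :=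
    MorphismProperty.of_isPullback (P := @IsClosedImmersion) hX.flip inferInstance
  have hF' : Groth.Agent.Lib.Helper79.Ferrand.Cond i' j' :=
    Groth.Agent.Lib.Helper79.Ferrand.cond_pre hX hY hF
  have hP' := Groth.Agent.Lib.Helper79.Ferrand.isPushout hF'
  have hcomm : i' ≫ U.hom ≫ a = j' ≫ V.hom ≫ b := by
    rw [← Category.assoc, hX.w, ← Category.assoc j', hY.w, Category.assoc, Category.assoc, hpo.w]
  let h : Groth.Agent.Lib.Helper79.Ferrand.P i' j' ⟶ W := hP'.desc (U.hom ≫ a) (V.hom ≫ b) hcomm
  have ha : Groth.Agent.Lib.Helper79.Ferrand.a hF' ≫ h = U.hom ≫ a := hP'.inl_desc _ _ _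
  have hb : Groth.Agent.Lib.Helper79.Ferrand.b hF' ≫ h = V.hom ≫ b := hP'.inr_desc _ _ _
  have hfin : IsFinite h :=
    Groth.Agent.Lib.Helper79.Ferrand.isFinite_rel hX hY hF hpo hF' hP' h ha hb
  have het : Etale h := by
    have hcp := fun τ τ' hU hV =>
      Groth.Agent.Lib.Helper79.Ferrand.chart_props (i := i) (j := j) (i' := i') (j' := j')
        hX hY τ τ' hU hV
    refine (Groth.Agent.Lib.Helper79.Ferrand.rel_iff hF hpo hF' hP' hX hY h ha hb
      @Etale
      (fun u v _ hu => MorphismProperty.comp_mem _ u v hu inferInstance)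
      (fun u v _ huv => MorphismProperty.of_postcomp (W := @Etale)
        (W' := MorphismProperty.monomorphisms Scheme) u v (inferInstanceAs (Mono v)) huv) ?_).mpr
      ⟨hetU, hetV⟩
    intro τ τ' hU hV
    simp only [HasRingHomProperty.Spec_iff (P := @Etale), CommRingCat.hom_ofHom]
    exact (hcp τ τ' hU hV).2.2.2.2
  have hpa : IsPullback (Groth.Agent.Lib.Helper79.Ferrand.a hF') U.hom h a :=
    Groth.Agent.Lib.Helper79.Ferrand.isPullback_a_rel hX hY hF hpo hF' hP' h ha hb
  have hpb : IsPullback (Groth.Agent.Lib.Helper79.Ferrand.b hF') V.hom h b :=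
    Groth.Agent.Lib.Helper79.Ferrand.isPullback_b_rel hX hY hF hpo hF' hP' h ha hb
  refine ⟨MorphismProperty.Over.mk ⊤ h ⟨hfin, het⟩, ⟨?_⟩, ⟨?_⟩⟩
  · exact MorphismProperty.Over.isoMk hpa.isoPullback.symm hpa.isoPullback_inv_snd
  · exact MorphismProperty.Over.isoMk hpb.isoPullback.symm hpb.isoPullback_inv_snd

end Groth.Agent.S1186
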