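import Groth.Statements.S1191
-- import your own Groth.Agent.* helpers here
import Mathlib.RingTheory.LocalRing.ResidueField.Fiber
import Mathlib.RingTheory.Ideal.AssociatedPrime.Finiteness
import Mathlib.RingTheory.FiniteType
import Mathlib.Tactic

set_option autoImplicit false
universe u
open FlatMor

namespace Groth.Agent.S1191

attribute [local instance] Algebra.TensorProduct.rightAlgebra

theorem isUnit_algebraMap_fiber {R S : Type u} [CommRing R] [CommRing S] [Algebra R S]
    (p : Ideal R) [p.IsPrime] (r : R) (hr : r ∉ p) : IsUnit (algebraMap R (p.Fiber S) r) := by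
  rw [IsScalarTower.algebraMap_apply R p.ResidueField (p.Fiber S)]
  apply IsUnit.map
  rw [isUnit_iff_ne_zero, Ne, Ideal.algebraMap_residueField_eq_zero]
  exact hr

open TensorProduct in
/-- For a finitely presented algebra S over R, a finitely presented S-module N and a prime q of S over
p, some element of S outside q maps into every associated prime of the fibre module of N over p that
is not contained in the extension of q to the fibre ring. -/
theorem result {R S : Type u} [CommRing R] [CommRing S] [Algebra R S] [Algebra.FinitePresentation R S]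
    (N : Type u) [AddCommGroup N] [Module S N] [Module R N] [IsScalarTower R S N] [Module.FinitePresentation S N]
    (p : Ideal R) [p.IsPrime] (q : Ideal S) [q.IsPrime] [q.LiesOver p] :
    ∃ g : S, g ∉ q ∧ ∀ r ∈ associatedPrimes (p.Fiber S) (FlatCA.fiberMod p S N),
      ¬ r ≤ FlatCA.fiberIdeal p q → (1 : p.ResidueField) ⊗ₜ[R] g ∈ r := by
  classical
  have hN : IsNoetherianRing (p.Fiber S) :=
    Algebra.FiniteType.isNoetherianRing p.ResidueField (p.Fiber S)
  have hfin : Module.Finite (p.Fiber S) (FlatCA.fiberMod p S N) :=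
    inferInstanceAs (Module.Finite (p.Fiber S) ((p.Fiber S) ⊗[S] N))
  have hAss : (associatedPrimes (p.Fiber S) (FlatCA.fiberMod p S N)).Finite :=
    associatedPrimes.finite _ _
  -- for each bad prime pick an element
  have hex : ∀ r : Ideal (p.Fiber S), ¬ r ≤ FlatCA.fiberIdeal p q →
      ∃ g : S, g ∉ q ∧ (1 : p.ResidueField) ⊗ₜ[R] g ∈ r := by
    intro r hr
    obtain ⟨x, hxr, hxq⟩ := Set.not_subset.mp hr
    obtain ⟨b, hb, g, hg⟩ := Ideal.Fiber.exists_smul_eq_one_tmul p x
    refine ⟨g, ?_, ?_⟩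
    · intro hgq
      apply hxq
      have h1 : (1 : p.ResidueField) ⊗ₜ[R] g ∈ FlatCA.fiberIdeal p q :=
        Ideal.mem_map_of_mem _ hgq
      rw [← hg, Algebra.smul_def] at h1
      exact (Ideal.unit_mul_mem_iff_mem _ (isUnit_algebraMap_fiber p b hb)).mp h1
    · rw [← hg, Algebra.smul_def]
      exact Ideal.mul_mem_left _ _ hxr
  let T : Finset (Ideal (p.Fiber S)) := hAss.toFinset.filter (fun r => ¬ r ≤ FlatCA.fiberIdeal p q)
  have hexT : ∀ r ∈ T, ∃ g : S, g ∉ q ∧ (1 : p.ResidueField) ⊗ₜ[R] g ∈ r := by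
    intro r hr
    exact hex r (Finset.mem_filter.mp hr).2
  choose! γ hγq hγr using hexT
  refine ⟨∏ r ∈ T, γ r, ?_, ?_⟩
  · intro hmem
    obtain ⟨r, hrT, hr⟩ := (Ideal.IsPrime.prod_mem_iff (hp := inferInstance)).mp hmem
    exact hγq r hrT hr
  · intro r hr hrq
    have hrT : r ∈ T := Finset.mem_filter.mpr ⟨hAss.mem_toFinset.mpr hr, hrq⟩
    have h1 : (1 : p.ResidueField) ⊗ₜ[R] (∏ r ∈ T, γ r) =
        (1 ⊗ₜ[R] (∏ r' ∈ T.erase r, γ r')) * ((1 : p.ResidueField) ⊗ₜ[R] γ r) := by
      rw [Algebra.TensorProduct.tmul_mul_tmul, one_mul, Finset.prod_erase_mul _ _ hrT]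
    rw [h1]
    exact Ideal.mul_mem_left _ _ (hγr r hrT)

end Groth.Agent.S1191
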