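import Groth.Statements.S1193
import Mathlib.RingTheory.Ideal.AssociatedPrime.Finiteness
import Mathlib.RingTheory.Localization.Ideal

set_option autoImplicit false
universe u
open FlatMor

namespace Groth.Agent.S1193

section abs

variable {S A : Type u} [CommRing S] [CommRing A] (π : S →+* A)
    (V : Type u) [AddCommGroup V] [Module A V] [Module S V]
    (hsm : ∀ (s : S) (v : V), s • v = π s • v)

include hsm in
theorem comap_colon (x : V) :
    ((⊥ : Submodule A V).colon {x}).comap π = (⊥ : Submodule S V).colon {x} := by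
  ext s
  simp only [Ideal.mem_comap, Submodule.mem_colon_singleton, Submodule.mem_bot, hsm]

include hsm in
theorem comap_mem_ass {P : Ideal A} (hP : P ∈ associatedPrimes A V) :
    P.comap π ∈ associatedPrimes S V := by
  obtain ⟨hPp, x, hx⟩ := hP
  refine ⟨Ideal.comap_isPrime π P, x, ?_⟩
  rw [hx, Ideal.comap_radical, comap_colon π V hsm]

theorem not_mem_nzd_of_mem_ass {q' : Ideal S} (hq' : q' ∈ associatedPrimes S V) {s : S}
    (hs : s ∈ q') : s ∉ nonZeroSMulDivisors S V := by
  obtain ⟨hp, x, hx⟩ := hq'
  intro hsM
  rw [hx] at hs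
  obtain ⟨n, hn⟩ := hs
  rw [Submodule.mem_colon_singleton, Submodule.mem_bot] at hn
  have hx0 : x = 0 := (mem_nonZeroSMulDivisors_iff.mp (pow_mem hsM n)) x hn
  apply hp.ne_top
  rw [hx, hx0]
  simp

theorem disjoint_of_mem_ass {q' : Ideal S} (hq' : q' ∈ associatedPrimes S V) :
    Disjoint ((nonZeroSMulDivisors S V : Submonoid S) : Set S) (q' : Set S) :=
  Set.disjoint_left.mpr fun _ hsM hsq => not_mem_nzd_of_mem_ass V hq' hsq hsM

include hsm in
theorem exists_ass_of_not_mem_nzd [IsNoetherianRing A] {s : S}
    (hs : s ∉ nonZeroSMulDivisors S V) :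
    ∃ P ∈ associatedPrimes A V, π s ∈ P := by
  rw [mem_nonZeroSMulDivisors_iff] at hs
  push Not at hs
  obtain ⟨x, hx, hx0⟩ := hs
  have : π s ∈ ⋃ p ∈ associatedPrimes A V, (p : Set A) := by
    rw [biUnion_associatedPrimes_eq_zero_divisors]
    exact ⟨x, hx0, by rw [← hsm]; exact hx⟩
  simpa using this

include hsm in
theorem exists_le_comap_of_disjoint [IsNoetherianRing A] [Module.Finite A V]
    (q : Ideal S) (hq : Disjoint (q : Set S) (nonZeroSMulDivisors S V)) :
    ∃ P ∈ associatedPrimes A V, q ≤ P.comap π := by
  classical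
  let T : Finset (Ideal A) := (associatedPrimes.finite A V).toFinset
  have hsub : (q : Set S) ⊆ ⋃ P ∈ (T : Set (Ideal A)), ((P.comap π : Ideal S) : Set S) := by
    intro s hs
    have hsM : s ∉ nonZeroSMulDivisors S V := fun h => Set.disjoint_left.mp hq hs h
    obtain ⟨P, hP, hsP⟩ := exists_ass_of_not_mem_nzd π V hsm hsM
    refine Set.mem_iUnion₂.mpr ⟨P, ?_, hsP⟩
    simpa [T] using hP
  have hp : ∀ P ∈ T, P ≠ ⊥ → P ≠ ⊥ → (P.comap π).IsPrime := by
    intro P hP _ _
    have hP' : P ∈ associatedPrimes A V := by simpa [T] using hP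
    have : P.IsPrime := hP'.1
    exact Ideal.comap_isPrime π P
  obtain ⟨P, hP, hle⟩ := (Ideal.subset_union_prime (s := T) (f := fun P => P.comap π) ⊥ ⊥ hp).mp hsub
  exact ⟨P, by simpa [T] using hP, hle⟩

include hsm in
theorem absCore [IsNoetherianRing A] [Module.Finite A V] :
    (∀ (q : Ideal S) [q.IsPrime], Disjoint (q : Set S) (nonZeroSMulDivisors S V) ↔
        ∃ q' ∈ associatedPrimes S V, q ≤ q') ∧
    {Q : Ideal (Localization (nonZeroSMulDivisors S V)) | Q.IsMaximal}.Finite ∧
    (∀ Q : Ideal (Localization (nonZeroSMulDivisors S V)), Q.IsMaximal ↔ (Q.IsPrime ∧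
        Maximal (fun r => r ∈ associatedPrimes S V)
          (Q.comap (algebraMap S (Localization (nonZeroSMulDivisors S V)))))) := by
  set M := nonZeroSMulDivisors S V with hM
  set L := Localization M with hL
  -- key: a maximal ideal contracts to some `comap π P`
  have key : ∀ Q : Ideal L, Q.IsMaximal →
      ∃ P ∈ associatedPrimes A V, Q.comap (algebraMap S L) = P.comap π := by
    intro Q hQ
    have hQp : Q.IsPrime := hQ.isPrime
    obtain ⟨hcp, hcd⟩ := (IsLocalization.isPrime_iff_isPrime_disjoint M L Q).mp hQp
    obtain ⟨P, hP, hle⟩ := exists_le_comap_of_disjoint π V hsm (Q.comap (algebraMap S L)) hcd.symm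
    refine ⟨P, hP, ?_⟩
    have ht : P.comap π ∈ associatedPrimes S V := comap_mem_ass π V hsm hP
    have htp : (P.comap π).IsPrime := ht.1
    have htd : Disjoint (M : Set S) (P.comap π : Set S) := disjoint_of_mem_ass V ht
    have hQ'p : ((P.comap π).map (algebraMap S L)).IsPrime :=
      IsLocalization.isPrime_of_isPrime_disjoint M L _ htp htd
    have hQle : Q ≤ (P.comap π).map (algebraMap S L) := by
      rw [← IsLocalization.map_under M L Q]
      exact Ideal.map_mono hle
    have hQeq : Q = (P.comap π).map (algebraMap S L) := hQ.eq_of_le hQ'p.ne_top hQle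
    rw [hQeq]
    exact IsLocalization.under_map_of_isPrime_disjoint M L htp htd
  refine ⟨?_, ?_, ?_⟩
  · intro q _
    constructor
    · intro hq
      obtain ⟨P, hP, hle⟩ := exists_le_comap_of_disjoint π V hsm q hq
      exact ⟨P.comap π, comap_mem_ass π V hsm hP, hle⟩
    · rintro ⟨q', hq', hle⟩
      exact Set.disjoint_left.mpr fun s hsq hsM => not_mem_nzd_of_mem_ass V hq' (hle hsq) hsM
  · have hfin : ((fun P : Ideal A => P.comap π) '' associatedPrimes A V).Finite :=
      (associatedPrimes.finite A V).image _
    have hinj : Function.Injective (fun Q : Ideal L => Q.comap (algebraMap S L)) :=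
      (IsLocalization.orderEmbedding M L).injective
    refine (hfin.preimage (hinj.injOn)).subset ?_
    intro Q hQ
    obtain ⟨P, hP, hQP⟩ := key Q hQ
    exact ⟨P, hP, hQP.symm⟩
  · intro Q
    constructor
    · intro hQ
      refine ⟨hQ.isPrime, ?_, ?_⟩
      · obtain ⟨P, hP, hQP⟩ := key Q hQ
        change Q.comap (algebraMap S L) ∈ associatedPrimes S V
        rw [hQP]
        exact comap_mem_ass π V hsm hP
      · intro y hy hle
        have hyp : y.IsPrime := hy.1
        have hyd : Disjoint (M : Set S) (y : Set S) := disjoint_of_mem_ass V hy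
        have hQ'p : (y.map (algebraMap S L)).IsPrime :=
          IsLocalization.isPrime_of_isPrime_disjoint M L _ hyp hyd
        have hQle : Q ≤ y.map (algebraMap S L) := by
          rw [← IsLocalization.map_under M L Q]
          exact Ideal.map_mono hle
        have hQeq : Q = y.map (algebraMap S L) := hQ.eq_of_le hQ'p.ne_top hQle
        rw [hQeq]
        exact (IsLocalization.under_map_of_isPrime_disjoint M L hyp hyd).ge
    · rintro ⟨hQp, hmem, hmax⟩
      obtain ⟨Q₁, hQ₁, hle⟩ := Ideal.exists_le_maximal Q hQp.ne_top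
      obtain ⟨P, hP, hQP⟩ := key Q₁ hQ₁
      have h1 : Q₁.comap (algebraMap S L) ∈ associatedPrimes S V := by
        rw [hQP]; exact comap_mem_ass π V hsm hP
      have h2 : Q₁.comap (algebraMap S L) ≤ Q.comap (algebraMap S L) :=
        hmax h1 (Ideal.comap_mono hle)
      have h3 : Q₁ ≤ Q := (IsLocalization.under_le_under_iff M L).mp h2
      have : Q = Q₁ := le_antisymm hle h3
      rw [this]; exact hQ₁

end abs

open TensorProduct in
attribute [local instance] Algebra.TensorProduct.rightAlgebra in
theorem smul_fiber {R S : Type u} [CommRing R] [CommRing S] [Algebra R S] (p : Ideal R) [p.IsPrime]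
    (N : Type u) [AddCommGroup N] [Module S N] (s : S) (v : (p.Fiber S) ⊗[S] N) :
    s • v = (Algebra.TensorProduct.includeRight (R := R) (A := p.ResidueField) (B := S) s) • v := by
  induction v using TensorProduct.induction_on with
  | zero => simp
  | tmul a n =>
    rw [TensorProduct.smul_tmul', TensorProduct.smul_tmul', Algebra.smul_def, smul_eq_mul]
    rfl
  | add x y hx hy => rw [smul_add, smul_add, hx, hy]

end Groth.Agent.S1193

namespace Groth.Agent.S1193

open IsLocalRing in
/-- Let R be a local ring, S an R-algebra whose closed fibre ring is Noetherian and N an S-module whose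
closed fibre module N/𝔪N is finite. Let Σ be the set of elements of S acting injectively on N/𝔪N.
Then a prime of S is disjoint from Σ exactly when it lies inside an associated prime of N/𝔪N (the
primes of the localization at Σ), the localization of S at Σ has finitely many maximal ideals, and
an ideal of that localization is maximal exactly when it is prime and contracts to a maximal member
of the set of associated primes of N/𝔪N. -/
theorem result {R S : Type u} [CommRing R] [IsLocalRing R] [CommRing S] [Algebra R S]
    (N : Type u) [AddCommGroup N] [Module S N] [Module R N] [IsScalarTower R S N]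
    [IsNoetherianRing ((maximalIdeal R).Fiber S)]
    [Module.Finite ((maximalIdeal R).Fiber S) (FlatCA.fiberMod (maximalIdeal R) S N)] :
    (∀ (q : Ideal S) [q.IsPrime], Disjoint (q : Set S) (FlatCA.nzdFiber R S N) ↔
        ∃ q' ∈ associatedPrimes S (FlatCA.fiberMod (maximalIdeal R) S N), q ≤ q') ∧
    {Q : Ideal (Localization (FlatCA.nzdFiber R S N)) | Q.IsMaximal}.Finite ∧
    (∀ Q : Ideal (Localization (FlatCA.nzdFiber R S N)), Q.IsMaximal ↔ (Q.IsPrime ∧
        Maximal (fun r => r ∈ associatedPrimes S (FlatCA.fiberMod (maximalIdeal R) S N))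
          (Q.comap (algebraMap S (Localization (FlatCA.nzdFiber R S N)))))) := by
  refine absCore (Algebra.TensorProduct.includeRight (R := R)
    (A := (maximalIdeal R).ResidueField) (B := S)).toRingHom
    (FlatCA.fiberMod (maximalIdeal R) S N) ?_
  intro s v
  exact smul_fiber (maximalIdeal R) N s v

end Groth.Agent.S1193
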