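import Groth.Statements.S1194
import Groth.Agent.Lib.Helper55.FL.EssFp
import Groth.Agent.Lib.Helper55.FL.UnivInjLoc
import Groth.Agent.Lib.Helper24.FiberAss

set_option autoImplicit false
universe u
open FlatMor

namespace Groth.Agent.S1194

open IsLocalRing in
/-- Let R → S be a local homomorphism of local rings which is essentially of finite presentation, and N
a finitely presented S-module flat over R. Then multiplication by any element of S acting
injectively on N/𝔪_R N is a universally injective map of R-modules on N, and the localization map
from N to its localization at all such elements is universally injective over R. -/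
theorem result {R S : Type u} [CommRing R] [IsLocalRing R] [CommRing S] [IsLocalRing S] [Algebra R S]
    [IsLocalHom (algebraMap R S)] (hS : FlatCA.EssFinitePresentation R S)
    (N : Type u) [AddCommGroup N] [Module S N] [Module R N] [IsScalarTower R S N] [Module.FinitePresentation S N] [Module.Flat R N] :
    (∀ s ∈ FlatCA.nzdFiber R S N, FlatCA.UnivInj R ((LinearMap.lsmul S N s).restrictScalars R)) ∧
    FlatCA.UnivInj R ((LocalizedModule.mkLinearMap (FlatCA.nzdFiber R S N) N).restrictScalars R) := by
  classical
  have part1 : ∀ s ∈ FlatCA.nzdFiber R S N,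
      FlatCA.UnivInj R ((LinearMap.lsmul S N s).restrictScalars R) := by
    intro s hs Q _ _
    have hu : ∀ x : N, (LinearMap.lsmul S N s) x ∈ (maximalIdeal R) • (⊤ : Submodule R N) →
        x ∈ (maximalIdeal R) • (⊤ : Submodule R N) := by
      intro x hx
      have hx' : s • x ∈ (maximalIdeal R) • (⊤ : Submodule R N) := hx
      rw [← Groth.Agent.Lib.Helper24.FiberAss.fiber_one_tmul_eq_zero_iff (S := S)] at hx' ⊢
      have h1 : s • (FlatCA.toFiberMod (maximalIdeal R) S N x) = 0 := by
        rw [← map_smul]
        exact hx'
      exact (mem_nonZeroSMulDivisors_iff.1 hs) _ h1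
    exact Groth.Agent.Lib.Helper55.FL.lTensor_injective_of_ui
      ((LinearMap.lsmul S N s).restrictScalars R)
      (fun 𝔞 x hx => Groth.Agent.Lib.Helper55.FL.ess_ui_local hS (LinearMap.lsmul S N s) hu 𝔞 x hx)
      Q
  refine ⟨part1, ?_⟩
  intro Q _ _
  exact Groth.Agent.Lib.Helper55.FL.lTensor_mkLinearMap_injective (FlatCA.nzdFiber R S N) Q
    (fun t ht => part1 t ht Q)

end Groth.Agent.S1194
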