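import Groth.Statements.S1196
import Groth.Agent.Lib.Helper55.FL.UnivInjFF

set_option autoImplicit false
universe u
open FlatMor

namespace Groth.Agent.S1196

attribute [local instance] Algebra.TensorProduct.rightAlgebra
set_option linter.style.haveILetI false

open TensorProduct IsLocalRing in
/-- Let R → S be a local homomorphism of local rings, essentially of finite presentation, N a finitely
presented S-module flat over R, and S' a flat S-algebra such that every prime of S which is an
associated prime of N/𝔪_R N is the contraction of a prime of S'. Then N → S' ⊗_S N is universally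
injective as a map of R-modules. -/
theorem result {R S S' : Type u} [CommRing R] [IsLocalRing R] [CommRing S] [IsLocalRing S] [CommRing S'] [Algebra R S] [IsLocalHom (algebraMap R S)] [Algebra S S'] [Algebra R S'] [IsScalarTower R S S']
    (hS : FlatCA.EssFinitePresentation R S) [Module.Flat S S']
    (N : Type u) [AddCommGroup N] [Module S N] [Module R N] [IsScalarTower R S N] [Module.FinitePresentation S N] [Module.Flat R N]
    (h : ∀ q ∈ associatedPrimes S (FlatCA.fiberMod (maximalIdeal R) S N),
      ∃ q' : Ideal S', q'.IsPrime ∧ q'.comap (algebraMap S S') = q) :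
    FlatCA.UnivInj R ((TensorProduct.mk S S' N 1).restrictScalars R) := by
  classical
  intro Q _ _
  have part1 : ∀ s ∈ FlatCA.nzdFiber R S N,
      Function.Injective (((LinearMap.lsmul S N s).restrictScalars R).lTensor Q) := by
    intro s hs
    have hu : ∀ x : N, (LinearMap.lsmul S N s) x ∈ (maximalIdeal R) • (⊤ : Submodule R N) →
        x ∈ (maximalIdeal R) • (⊤ : Submodule R N) := by
      intro x hx
      have hx' : s • x ∈ (maximalIdeal R) • (⊤ : Submodule R N) := hx
      rw [← Groth.Agent.Lib.Helper24.FiberAss.fiber_one_tmul_eq_zero_iff (S := S)] at hx' ⊢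
      have h1 : s • (FlatCA.toFiberMod (maximalIdeal R) S N x) = 0 := by
        rw [← map_smul]
        exact hx'
      exact (mem_nonZeroSMulDivisors_iff.1 hs) _ h1
    exact Groth.Agent.Lib.Helper55.FL.lTensor_injective_of_ui
      ((LinearMap.lsmul S N s).restrictScalars R)
      (fun 𝔞 x hx => Groth.Agent.Lib.Helper55.FL.ess_ui_local hS (LinearMap.lsmul S N s) hu 𝔞 x hx)
      Q
  haveI : IsNoetherianRing ((maximalIdeal R).Fiber S) :=
    Groth.Agent.Lib.Helper55.FL.isNoetherianRing_fiber_of_ess hS (maximalIdeal R)
  haveI : Module.Finite ((maximalIdeal R).Fiber S) (FlatCA.fiberMod (maximalIdeal R) S N) :=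
    inferInstanceAs (Module.Finite ((maximalIdeal R).Fiber S)
      (((maximalIdeal R).Fiber S) ⊗[S] N))
  haveI : IsScalarTower S ((maximalIdeal R).Fiber S) (FlatCA.fiberMod (maximalIdeal R) S N) :=
    inferInstanceAs (IsScalarTower S ((maximalIdeal R).Fiber S)
      (((maximalIdeal R).Fiber S) ⊗[S] N))
  haveI : Module.FaithfullyFlat (Localization (FlatCA.nzdFiber R S N))
      ((Localization (FlatCA.nzdFiber R S N)) ⊗[S] S') := by
    apply Groth.Agent.Lib.Helper55.FL.faithfullyFlat_localization_tensor
    intro P _ hdisj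
    have hP : ∀ s ∈ P, ∃ v : FlatCA.fiberMod (maximalIdeal R) S N, v ≠ 0 ∧ s • v = 0 := by
      intro s hs
      have hns : s ∉ FlatCA.nzdFiber R S N := fun h' => (Set.disjoint_left.1 hdisj) h' hs
      rw [mem_nonZeroSMulDivisors_iff] at hns
      push Not at hns
      obtain ⟨v, hv, hv0⟩ := hns
      exact ⟨v, hv0, hv⟩
    obtain ⟨q, hq, hPq⟩ := Groth.Agent.Lib.Helper55.FL.exists_le_associatedPrime
      (F := (maximalIdeal R).Fiber S) P hP
    obtain ⟨q', hq', hq'q⟩ := h q hq
    refine ⟨q', hq', hq'q ▸ hPq, ?_⟩
    rw [hq'q]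
    exact Groth.Agent.Lib.Helper55.FL.disjoint_nonZeroSMulDivisors_of_mem_associatedPrimes q hq
  exact Groth.Agent.Lib.Helper55.FL.lTensor_mk_injective_of_faithfullyFlat
    (FlatCA.nzdFiber R S N) N Q part1

end Groth.Agent.S1196
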