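import Groth.Statements.S1798
import Groth.Agent.Lib.Helper98.FinLocFreeAnn
import Groth.Agent.Lib.Helper2.RankSections

set_option autoImplicit false
universe u
open CategoryTheory AlgebraicGeometry
open LocCoh

namespace Groth.Agent.S1798

section Helpers

open TopologicalSpace Opposite
open Groth.Agent.Lib.Helper98.FinLocFreeAnn Groth.Agent.Lib.Helper98.QcohCechLoc

variable (A : Type u) [CommRing A] (I : Ideal A)

/-- the punctured spectrum as a scheme -/
noncomputable abbrev YY : Scheme.{u} := ↑(LocCoh.puncturedOpen A I)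

/-- functions of `A` as global functions on the punctured spectrum -/
noncomputable abbrev toT : A →+* Coh.Γtop (YY A I) :=
  Coh.toGlobal ((YY A I) ↘ Spec (CommRingCat.of A))

lemma basicOpen_toT (a : A) :
    (YY A I).basicOpen (fΓ (toT A I a)) =
      (LocCoh.puncturedOpen A I).ι ⁻¹ᵁ (PrimeSpectrum.basicOpen a) := by
  have h1 := basicOpen_eq_of_affine (R := CommRingCat.of A) a
  have h2 := Scheme.preimage_basicOpen_top (LocCoh.puncturedOpen A I).ι
    ((Scheme.ΓSpecIso (CommRingCat.of A)).inv a)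
  rw [h1] at h2
  exact h2.symm

lemma smul_def' (F : (YY A I).Modules) (p : ℕ) (a : A) (x : Coh.HH (YY A I) F p) :
    a • x = toT A I a • x := rfl

lemma compactSpace_YY (hI : I.FG) : CompactSpace (YY A I) := by
  have h : IsCompact ((LocCoh.puncturedOpen A I : (Spec (CommRingCat.of A)).Opens) :
      Set (Spec (CommRingCat.of A))) := by
    have := (PrimeSpectrum.isCompact_isOpen_iff_ideal
      (s := (PrimeSpectrum.zeroLocus (R := A) (I : Set A))ᶜ)).2 ⟨I, hI, rfl⟩
    exact this.1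
  exact isCompact_iff_compactSpace.mp h

instance quasiSeparatedSpace_YY : QuasiSeparatedSpace (YY A I) :=
  QuasiSeparatedSpace.of_isOpenEmbedding (LocCoh.puncturedOpen A I).ι.isOpenEmbedding

/-- goodness of a function: its basic open is affine and trivializes `F` -/
def Good (F : (YY A I).Modules) (a : A) : Prop :=
  IsAffineOpen ((YY A I).basicOpen (fΓ (toT A I a))) ∧
  ∃ n : ℕ, Nonempty (F.restrict ((YY A I).basicOpen (fΓ (toT A I a))).ι ≅
    FlatMod.freeMod (↑((YY A I).basicOpen (fΓ (toT A I a)))) n)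

lemma exists_good (F : (YY A I).Modules) (hF : FlatMod.IsFinLocFree F) (y : YY A I) :
    ∃ a : A, Good A I F a ∧ y ∈ (YY A I).basicOpen (fΓ (toT A I a)) := by
  obtain ⟨V, n, hyV, hV⟩ := hF y
  have hopen : IsOpen (((LocCoh.puncturedOpen A I).ι ''ᵁ V : (Spec (CommRingCat.of A)).Opens) :
      Set (Spec (CommRingCat.of A))) := ((LocCoh.puncturedOpen A I).ι ''ᵁ V).2
  have hx : (LocCoh.puncturedOpen A I).ι.base y ∈
      (((LocCoh.puncturedOpen A I).ι ''ᵁ V : (Spec (CommRingCat.of A)).Opens) :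
        Set (Spec (CommRingCat.of A))) := ⟨y, hyV, rfl⟩
  obtain ⟨_, ⟨a, rfl⟩, hxa, haV⟩ :=
    PrimeSpectrum.isTopologicalBasis_basic_opens.exists_subset_of_mem_open hx hopen
  have hle : (YY A I).basicOpen (fΓ (toT A I a)) ≤ V := by
    rw [basicOpen_toT]
    intro z hz
    obtain ⟨v, hv, hvz⟩ := haV hz
    have : v = z := (LocCoh.puncturedOpen A I).ι.isOpenEmbedding.injective hvz
    rw [← this]
    exact hv
  refine ⟨a, ⟨?_, n, ?_⟩, ?_⟩
  · rw [basicOpen_toT]
    apply IsAffineOpen.preimage_of_isOpenImmersion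
    · rw [← basicOpen_eq_of_affine (R := CommRingCat.of A) a]
      exact (isAffineOpen_top (Spec (CommRingCat.of A))).basicOpen _
    · intro z hz
      obtain ⟨v, -, hvz⟩ := haV hz
      exact ⟨v, hvz⟩
  · exact Groth.Agent.Lib.Helper2.FreeModAff.nonempty_iso_freeMod_of_le F hle n hV
  · rw [basicOpen_toT]
    exact hxa

lemma exists_list (F : (YY A I).Modules) (hI : I.FG) (hF : FlatMod.IsFinLocFree F) :
    ∃ gs : List A, (∀ a ∈ gs, Good A I F a) ∧
      ∀ y : YY A I, ∃ a ∈ gs, y ∈ (YY A I).basicOpen (fΓ (toT A I a)) := by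
  have := compactSpace_YY A I hI
  choose a ha hya using exists_good A I F hF
  obtain ⟨t, ht⟩ := isCompact_univ.elim_finite_subcover
    (fun y : YY A I => (((YY A I).basicOpen (fΓ (toT A I (a y))) : (YY A I).Opens) :
      Set (YY A I)))
    (fun y => ((YY A I).basicOpen (fΓ (toT A I (a y)))).2)
    (fun y _ => Set.mem_iUnion.2 ⟨y, hya y⟩)
  refine ⟨t.toList.map a, ?_, ?_⟩
  · intro b hb
    obtain ⟨y, -, rfl⟩ := List.mem_map.1 hb
    exact ha y
  · intro y
    obtain ⟨z, hz, hyz⟩ := Set.mem_iUnion₂.1 (ht (Set.mem_univ y))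
    exact ⟨a z, List.mem_map.2 ⟨z, Finset.mem_toList.2 hz, rfl⟩, hyz⟩

lemma exists_K (F : (YY A I).Modules) [F.IsQuasicoherent] (hI : I.FG) (gs : List A)
    (hgs : ∀ a ∈ gs, Good A I F a)
    (hcov : ∀ y : YY A I, ∃ a ∈ gs, y ∈ (YY A I).basicOpen (fΓ (toT A I a))) (p : ℕ)
    (g : A) (hg : g ∈ gs) :
    ∃ K : ℕ, ∀ v : A,
      (∀ x : Coh.HH (YY A I) (Coh.structureModule (YY A I)) p, v • x = 0) →
      ∀ x : Coh.HH (YY A I) F p, (v * g ^ K) • x = 0 := by
  have := compactSpace_YY A I hI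
  let fs : List Γ(YY A I, ⊤) := gs.map (fun a => fΓ (toT A I a))
  have hget : ∀ i : Fin fs.length, ∃ a ∈ gs, fs.get i = fΓ (toT A I a) := by
    intro i
    have := List.get_mem fs i
    obtain ⟨a, ha, h⟩ := List.mem_map.1 this
    exact ⟨a, ha, h.symm⟩
  have haff : ∀ i : Fin fs.length, IsAffineOpen ((YY A I).basicOpen (fs.get i)) := by
    intro i
    obtain ⟨a, ha, h⟩ := hget i
    rw [h]
    exact (hgs a ha).1
  have hfree : ∀ i : Fin fs.length, ∃ n : ℕ,
      Nonempty (F.restrict ((YY A I).basicOpen (fs.get i)).ι ≅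
        FlatMod.freeMod (↑((YY A I).basicOpen (fs.get i))) n) := by
    intro i
    obtain ⟨a, ha, h⟩ := hget i
    rw [h]
    exact (hgs a ha).2
  have hcov' : (⨆ i : Fin fs.length, (YY A I).basicOpen (fs.get i)) = ⊤ := by
    rw [eq_top_iff]
    intro y _
    obtain ⟨a, ha, hya⟩ := hcov y
    have hm : fΓ (toT A I a) ∈ fs := List.mem_map.2 ⟨a, ha, rfl⟩
    obtain ⟨i, hi⟩ := List.get_of_mem hm
    refine Opens.mem_iSup.2 ⟨i, ?_⟩
    rw [hi]
    exact hya
  obtain ⟨hgaff, n, hn⟩ := hgs g hg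
  obtain ⟨e⟩ := (Groth.Agent.Lib.Helper2.FreeModAff.nonempty_iso_freeMod_iff F hgaff n).1 hn
  obtain ⟨K, hK⟩ := exists_pow_mul_kills F fs haff hcov' hfree (toT A I g) hgaff e p
  refine ⟨K, fun v hv x => ?_⟩
  rw [smul_def', map_mul, map_pow]
  exact hK (toT A I v) (fun x' => hv x') x

end Helpers


/-- Let A be a ring, J ⊆ I finitely generated ideals, U the open complement of V(I) in Spec A and p ≥ 0.
If some power of J kills H^p(U, O_U), then for each finite locally free O_U-module F some power of J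
kills H^p(U, F). -/
theorem result (A : Type u) [CommRing A] (J I : Ideal A) (hJI : J ≤ I) (hJ : J.FG) (hI : I.FG) (p n : ℕ) (hO : ∀ a ∈ J ^ n, ∀ x : Coh.HH (↑(LocCoh.puncturedOpen A I)) (Coh.structureModule (↑(LocCoh.puncturedOpen A I))) p, a • x = 0) (F : (↑(LocCoh.puncturedOpen A I) : Scheme.{u}).Modules) (hF : FlatMod.IsFinLocFree F) : ∃ m : ℕ, ∀ a ∈ J ^ m, ∀ x : Coh.HH (↑(LocCoh.puncturedOpen A I)) F p, a • x = 0 := by
  have hq : F.IsQuasicoherent :=
    Groth.Agent.Lib.Helper2.RankSections.isQuasicoherent_of_isFinLocFree F hF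
  obtain ⟨gs, hgs, hcov⟩ := exists_list A I F hI hF
  have hK : ∀ g : A, ∃ K : ℕ, g ∈ gs → ∀ v : A,
      (∀ x : Coh.HH (YY A I) (Coh.structureModule (YY A I)) p, v • x = 0) →
      ∀ x : Coh.HH (YY A I) F p, (v * g ^ K) • x = 0 := by
    intro g
    by_cases hg : g ∈ gs
    · obtain ⟨K, hK⟩ := exists_K A I F hI gs hgs hcov p g hg
      exact ⟨K, fun _ => hK⟩
    · exact ⟨0, fun h => absurd h hg⟩
  choose K hK using hK
  let 𝔞 : Ideal A := Ideal.span {b | ∃ g ∈ gs, b = g ^ K g}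
  have hrad : I ≤ 𝔞.radical := by
    rw [← PrimeSpectrum.zeroLocus_subset_zeroLocus_iff]
    intro x hx
    by_contra hxI
    let y : YY A I := ⟨x, hxI⟩
    obtain ⟨g, hg, hyg⟩ := hcov y
    rw [basicOpen_toT] at hyg
    have h1 : g ^ K g ∈ x.asIdeal := hx (Ideal.subset_span ⟨g, hg, rfl⟩)
    exact hyg (x.2.mem_of_pow_mem _ h1)
  obtain ⟨M, hM⟩ := Ideal.exists_pow_le_of_le_radical_of_fg hrad hI
  refine ⟨M + n, fun a ha x => ?_⟩
  have ha' : a ∈ 𝔞 * J ^ n := by
    rw [pow_add] at ha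
    exact Ideal.mul_mono ((Ideal.pow_right_mono hJI M).trans hM) le_rfl ha
  revert x
  refine Submodule.mul_induction_on ha' ?_ ?_
  · intro u hu v hv
    refine Submodule.span_induction (p := fun u _ => ∀ x : Coh.HH (YY A I) F p, (u * v) • x = 0)
      ?_ ?_ ?_ ?_ hu
    · rintro _ ⟨g, hg, rfl⟩ x
      rw [mul_comm]
      exact hK g hg v (hO v hv) x
    · intro x
      rw [zero_mul, zero_smul]
    · intro u1 u2 _ _ h1 h2 x
      rw [add_mul, add_smul, h1, h2, add_zero]
    · intro c u _ h x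
      rw [smul_eq_mul, mul_assoc, mul_smul, h, smul_zero]
  · intro b1 b2 h1 h2 x
    rw [add_smul, h1, h2, add_zero]

end Groth.Agent.S1798
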