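import Mathlib
-- Template for statement S1197 (row 1197; see the milestone table for weights).
-- Copy to Groth/Agent/S1197.lean and replace the sorry. The statement below is byte-identical to the frozen
-- statement FlatMor.GrothFrozen.S1197 (Groth/Statements/S1197.lean; the theorem FlatMor.flat_and_mittagLeffler_adicCompletion_finsupp);
-- the grader kernel-checks Groth.Agent.S1197.result against that frozen type. Keep the theorem IN THIS FILE
-- (a `result` declared elsewhere and merely imported here is not credited); helpers may live anywhere
-- under Groth/Agent/.
import Groth.Statements.S1197
import Groth.Agent.Lib.Helper24.DecayingCompl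

set_option autoImplicit false
universe u
open FlatMor

namespace Groth.Agent.S1197

/-- Over a Noetherian ring R which is I-adically complete, the I-adic completion of a free module on an
arbitrary index set is a flat and Mittag-Leffler R-module. (Flatness alone, without completeness of
R, is stated separately.) -/
theorem result (R : Type u) [CommRing R] [IsNoetherianRing R] (I : Ideal R) [IsAdicComplete I R] (α : Type u) :
    Module.Flat R (AdicCompletion I (α →₀ R)) ∧ CAlg.IsMittagLeffler R (AdicCompletion I (α →₀ R)) := by
  obtain ⟨e, -⟩ := Groth.Agent.Lib.Helper24.DecayingCompl.exists_equiv I α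
  have hflat := Groth.Agent.Lib.Helper24.DecayingCompl.flat_decaying_completion I α
  refine ⟨Module.Flat.of_linearEquiv e, ?_⟩
  intro ι Q _ _
  let c : AdicCompletion I R ≃ₗ[R] R := (AdicCompletion.ofLinearEquiv I R).symm
  let d := Groth.Agent.Lib.Helper97.Decaying.decayingCongr I α c
  exact Groth.Agent.Lib.Helper24.DecayingTau.piRightHom_injective I α (e.trans d) Q

end Groth.Agent.S1197
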