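import Mathlib
-- Template for statement S1198 (row 1198; see the milestone table for weights).
-- Copy to Groth/Agent/S1198.lean and replace the sorry. The statement below is byte-identical to the frozen
-- statement FlatMor.GrothFrozen.S1198 (Groth/Statements/S1198.lean; the theorem FlatMor.flat_and_mittagLeffler_adicCompletion_of_quotient_projective);
-- the grader kernel-checks Groth.Agent.S1198.result against that frozen type. Keep the theorem IN THIS FILE
-- (a `result` declared elsewhere and merely imported here is not credited); helpers may live anywhere
-- under Groth/Agent/.
import Groth.Statements.S1198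
import Groth.Agent.S1197
import Groth.Agent.Lib.Helper24.ComplFlatProj

set_option autoImplicit false
universe u
open FlatMor

namespace Groth.Agent.S1198

/-- Let R be a Noetherian ring complete with respect to an ideal I and M a flat R-module whose reduction
M/IM is projective over R/I. Then M's I-adic completion is a flat and Mittag-Leffler R-module. -/
theorem result (R : Type u) [CommRing R] [IsNoetherianRing R] (I : Ideal R) [IsAdicComplete I R]
    (M : Type u) [AddCommGroup M] [Module R M] [Module.Flat R M]
    [Module.Projective (R ⧸ I) (M ⧸ (I • ⊤ : Submodule R M))] :
    Module.Flat R (AdicCompletion I M) ∧ CAlg.IsMittagLeffler R (AdicCompletion I M) := by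
  obtain ⟨Z, i, s, h⟩ := Groth.Agent.Lib.Helper24.ComplFlatProj.exists_retract R I M
  obtain ⟨hflat, hML⟩ := Groth.Agent.S1197.result R I Z
  refine ⟨Module.Flat.of_retract i s h, ?_⟩
  intro ι Q _ _
  exact Groth.Agent.Lib.Helper24.ComplFlatProj.piRightHom_injective_of_retract Q i s h (hML ι Q)

end Groth.Agent.S1198
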