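import Mathlib
-- Template for statement S1199 (row 1199; see the milestone table for weights).
-- Copy to Groth/Agent/S1199.lean and replace the sorry. The statement below is byte-identical to the frozen
-- statement FlatMor.GrothFrozen.S1199 (Groth/Statements/S1199.lean; the theorem FlatMor.univInj_toAdicCompletion_of_assoc_meet);
-- the grader kernel-checks Groth.Agent.S1199.result against that frozen type. Keep the theorem IN THIS FILE
-- (a `result` declared elsewhere and merely imported here is not credited); helpers may live anywhere
-- under Groth/Agent/.
import Groth.Statements.S1199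
import Groth.Agent.Lib.Helper24.UnivInjCompl

set_option autoImplicit false
universe u
open FlatMor

namespace Groth.Agent.S1199

open TensorProduct in
/-- Let R → S be a map of Noetherian rings, I an ideal of R and N a finite S-module. Assume that for
every finite R-module Q and every associated prime q of the S-module N ⊗_R Q the ideal IS + q is
proper. Then the canonical map from N to its I-adic completion is universally injective as a map of
R-modules. -/
theorem result {R S : Type u} [CommRing R] [CommRing S] [Algebra R S] [IsNoetherianRing R] [IsNoetherianRing S] (I : Ideal R)
    (N : Type u) [AddCommGroup N] [Module S N] [Module R N] [IsScalarTower R S N] [Module.Finite S N]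
    (h : ∀ (Q : Type u) [AddCommGroup Q] [Module R Q], Module.Finite R Q →
      ∀ q ∈ associatedPrimes S (N ⊗[R] Q), I.map (algebraMap R S) ⊔ q ≠ ⊤) :
    FlatCA.UnivInj R (AdicCompletion.of I N) := by
  have key : CAlgX.UniversallyInjective R (AdicCompletion.of I N) := by
    rw [Groth.Agent.S2056.result]
    intro Q _ _ hQ
    haveI : Module.Finite R Q := inferInstance
    haveI : Module.Finite S (N ⊗[R] Q) := Groth.Agent.Lib.Helper24.UnivInjCompl.finite_tensor N Q
    haveI : IsHausdorff I (N ⊗[R] Q) :=
      Groth.Agent.Lib.Helper24.UnivInjCompl.isHausdorff_of_forall_ass I (N ⊗[R] Q)
        (h Q inferInstance)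
    exact Groth.Agent.Lib.Helper24.UnivInjCompl.rTensor_of_injective I N Q
  intro Q _ _
  rw [LinearMap.lTensor_inj_iff_rTensor_inj]
  exact key Q

end Groth.Agent.S1199
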