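import Groth.Statements.S1200
import Groth.Agent.S1199
import Groth.Agent.Lib.Helper74.FlatFiber

set_option autoImplicit false
universe u
open FlatMor

namespace Groth.Agent.S1200

open FlatCA TensorProduct Groth.Agent.Lib.Helper74.FiberAss

attribute [local instance] Algebra.TensorProduct.rightAlgebra

/-- Mathlib associated primes over a Noetherian ring are annihilator primes. -/
theorem mem_ass_of_mem_associatedPrimes {A : Type u} [CommRing A] [IsNoetherianRing A]
    {M : Type u} [AddCommGroup M] [Module A M] {q : Ideal A} (hq : q ∈ associatedPrimes A M) :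
    q ∈ FlatCA.ass A M := by
  have hq' : IsAssociatedPrime q M := hq
  rw [isAssociatedPrime_iff] at hq'
  obtain ⟨hp, x, hx⟩ := hq'
  refine ⟨hp, x, ?_⟩
  rw [hx]
  ext r
  rw [Submodule.mem_annihilator_span_singleton]
  simp

/-- annihilator primes are Mathlib associated primes. -/
theorem mem_associatedPrimes_of_mem_ass {A : Type u} [CommRing A]
    {M : Type u} [AddCommGroup M] [Module A M] {q : Ideal A} (hq : q ∈ FlatCA.ass A M) :
    q ∈ associatedPrimes A M := by
  obtain ⟨hp, x, hx⟩ := hq
  have : IsAssociatedPrime q M := by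
    refine ⟨hp, x, ?_⟩
    have e : (⊥ : Submodule A M).colon {x} = q := by
      rw [hx]
      ext r
      rw [Submodule.mem_annihilator_span_singleton]
      simp
    rw [e, hp.radical]
  exact this

theorem map_comap_includeRight {R S : Type u} [CommRing R] [CommRing S] [Algebra R S]
    (p : Ideal R) [p.IsPrime] (Q' : Ideal (p.Fiber S)) :
    (Q'.comap (Algebra.TensorProduct.includeRight (R := R) (A := p.ResidueField)
      (B := S)).toRingHom).map (Algebra.TensorProduct.includeRight (R := R) (A := p.ResidueField)
      (B := S)).toRingHom = Q' := by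
  apply le_antisymm Ideal.map_comap_le
  intro x hx
  obtain ⟨r, hr, s, e⟩ := Ideal.Fiber.exists_smul_eq_one_tmul p x
  have hu : IsUnit (algebraMap R (p.Fiber S) r) := isUnit_algebraMap_fiber (S := S) p hr
  have h1 : (1 : p.ResidueField) ⊗ₜ[R] s ∈ Q' := by
    rw [← e, Algebra.smul_def]
    exact Q'.mul_mem_left _ hx
  have h2 : (Algebra.TensorProduct.includeRight (R := R) (A := p.ResidueField)
      (B := S)).toRingHom s ∈ (Q'.comap (Algebra.TensorProduct.includeRight (R := R)
      (A := p.ResidueField) (B := S)).toRingHom).map (Algebra.TensorProduct.includeRight (R := R)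
      (A := p.ResidueField) (B := S)).toRingHom := Ideal.mem_map_of_mem _ h1
  have h3 : x = ((hu.unit⁻¹ : (p.Fiber S)ˣ) : p.Fiber S) * ((1 : p.ResidueField) ⊗ₜ[R] s) := by
    rw [← e, Algebra.smul_def, ← mul_assoc]
    have : ((hu.unit⁻¹ : (p.Fiber S)ˣ) : p.Fiber S) * algebraMap R (p.Fiber S) r = 1 :=
      hu.val_inv_mul
    rw [this, one_mul]
  rw [h3]
  exact Ideal.mul_mem_left _ _ h2


/-- Let R → S be a map of Noetherian rings, I an ideal of R and N a finite S-module which is flat over
R. Assume that for every prime q of S, over p in R, whose extension to the fibre ring over p is an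
associated prime of the fibre module of N, the ideal IS + q is proper. Then the canonical map from N
to its I-adic completion is universally injective as a map of R-modules. -/
theorem result {R S : Type u} [CommRing R] [CommRing S] [Algebra R S] [IsNoetherianRing R] [IsNoetherianRing S] (I : Ideal R)
    (N : Type u) [AddCommGroup N] [Module S N] [Module R N] [IsScalarTower R S N] [Module.Finite S N] [Module.Flat R N]
    (h : ∀ (p : Ideal R) (q : Ideal S) [p.IsPrime] [q.IsPrime] [q.LiesOver p],
      FlatCA.fiberIdeal p q ∈ associatedPrimes (p.Fiber S) (FlatCA.fiberMod p S N) → I.map (algebraMap R S) ⊔ q ≠ ⊤) :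
    FlatCA.UnivInj R (AdicCompletion.of I N) := by
  refine Groth.Agent.S1199.result (S := S) I N ?_
  intro Q _ _ hfin q hq
  have hqp : q.IsPrime := hq.isPrime
  obtain ⟨p, hp⟩ : ∃ p : Ideal R, q.comap (algebraMap R S) = p := ⟨_, rfl⟩
  have hpp : p.IsPrime := hp ▸ Ideal.comap_isPrime _ _
  have hlo : q.LiesOver p := ⟨hp.symm⟩
  have h1 : q ∈ FlatCA.ass S (N ⊗[R] Q) := mem_ass_of_mem_associatedPrimes hq
  have h2 := mem_ass_quotient_of_mem_ass_tensor (R := R) S N Q q h1 p hp
  have h3 : q ∈ FlatCA.ass S (fiberMod p S N) :=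
    mem_ass_fiberMod_of_mem_ass_quotient S N p hp h2
  obtain ⟨Q', hQ', hcomap⟩ := (mem_ass_fiberMod_iff N p q).mp h3
  have hQ'eq : Q' = FlatCA.fiberIdeal p q := by
    unfold FlatCA.fiberIdeal
    rw [← hcomap, map_comap_includeRight]
  apply h p q
  rw [← hQ'eq]
  exact mem_associatedPrimes_of_mem_ass hQ'

end Groth.Agent.S1200
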