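import Mathlib
-- Template for statement S1203 (row 1203; see the milestone table for weights).
-- Copy to Groth/Agent/S1203.lean and replace the sorry. The statement below is byte-identical to the frozen
-- statement FlatMor.GrothFrozen.S1203 (Groth/Statements/S1203.lean; the theorem FlatMor.projective_of_flat_over_adicComplete_of_fibers);
-- the grader kernel-checks Groth.Agent.S1203.result against that frozen type. Keep the theorem IN THIS FILE
-- (a `result` declared elsewhere and merely imported here is not credited); helpers may live anywhere
-- under Groth/Agent/.
import Groth.Statements.S1203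
import Groth.Agent.S1198
import Groth.Agent.S1200
import Groth.Agent.S0584
import Groth.Agent.Lib.Helper24.ComplFlatProj

set_option autoImplicit false
universe u
open FlatMor

namespace Groth.Agent.S1203

/-- Let R be a Noetherian ring complete with respect to an ideal I, S a finite type R-algebra and N a
finite S-module which is flat over R, such that N/IN is a projective R/I-module and such that for
every prime q of S, over p in R, whose extension to the fibre ring over p is an associated prime of
the fibre module of N, the ideal IS + q is proper. Then N is a projective R-module. -/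
theorem result {R S : Type u} [CommRing R] [CommRing S] [Algebra R S] [IsNoetherianRing R] (I : Ideal R) [IsAdicComplete I R]
    [Algebra.FiniteType R S]
    (N : Type u) [AddCommGroup N] [Module S N] [Module R N] [IsScalarTower R S N] [Module.Finite S N] [Module.Flat R N]
    [Module.Projective (R ⧸ I) (N ⧸ (I • ⊤ : Submodule R N))]
    (h : ∀ (p : Ideal R) (q : Ideal S) [p.IsPrime] [q.IsPrime] [q.LiesOver p],
      FlatCA.fiberIdeal p q ∈ associatedPrimes (p.Fiber S) (FlatCA.fiberMod p S N) → I.map (algebraMap R S) ⊔ q ≠ ⊤) :
    Module.Projective R N := by
  have : IsNoetherianRing S := Algebra.FiniteType.isNoetherianRing R S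
  have hUI := Groth.Agent.S1200.result (R := R) (S := S) I N h
  obtain ⟨hflat, hML⟩ := Groth.Agent.S1198.result R I N
  rw [Groth.Agent.S0584.result R N]
  refine ⟨inferInstance, ?_, ?_⟩
  · intro ι Q _ _
    refine Groth.Agent.Lib.Helper24.ComplFlatProj.piRightHom_injective_of_rTensor_injective Q
      (AdicCompletion.of I N) ?_ (hML ι Q)
    rw [← LinearMap.lTensor_inj_iff_rTensor_inj]
    exact hUI (∀ i, Q i)
  · obtain ⟨s, hs, hspan⟩ :=
      Groth.Agent.Lib.Helper24.ComplFlatProj.exists_countable_span_eq_top R S N
    refine ⟨PUnit, fun _ => ⊤, ?_, ?_⟩
    · apply DirectSum.isInternal_submodule_of_iSupIndep_of_iSup_eq_top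
        (dec_ι := fun a b => Classical.propDecidable (a = b)) (iSupIndep_subsingleton _)
      simp
    · intro _
      refine ⟨(Submodule.topEquiv (R := R) (M := N)).symm '' s, hs.image _, ?_⟩
      have h1 : Submodule.span R ((Submodule.topEquiv (R := R) (M := N)).symm '' s) =
          (Submodule.span R s).map (Submodule.topEquiv (R := R) (M := N)).symm.toLinearMap :=
        Submodule.span_image _
      rw [h1, hspan, Submodule.map_top, LinearMap.range_eq_top]
      exact (Submodule.topEquiv (R := R) (M := N)).symm.surjective

end Groth.Agent.S1203
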