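import Groth.Statements.S9769
import Groth.Agent.Lib.Helper55.FL.FreeLocusBC

set_option autoImplicit false
universe u
open FlatMor

namespace Groth.Agent.S9769

open AlgebraicGeometry CategoryTheory Limits in
/-- Let f : X ⟶ S be locally of finite presentation and F a finitely presented O_X-module which is flat
over S. Then the formation of the locus of points of X near which F is free (equivalently, for
finitely presented F, where the stalk of F is a free module) commutes with arbitrary base change:
for a cartesian square with g' : X' ⟶ X over S' ⟶ S, the free locus of (g')^*F is the preimage of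
that of F. The published statement also asserts that this locus is open; this row states only that
its formation commutes with base change. -/
theorem result {X S X' S' : Scheme.{u}} (f : X ⟶ S) [LocallyOfFinitePresentation f]
    (F : X.Modules) (hF : CohB1.IsFP F) (hfl : FlatMod.IsFlatOver f F)
    (g : S' ⟶ S) (f' : X' ⟶ S') (g' : X' ⟶ X) (hc : IsPullback g' f' f g) :
    {x' : ↑X' | Module.Free ↑(X'.presheaf.stalk x') ↑(((Scheme.Modules.pullback g').obj F).presheaf.stalk x')} =
      g' ⁻¹' {x : ↑X | Module.Free ↑(X.presheaf.stalk x) ↑(F.presheaf.stalk x)} := by
  haveI hq : F.IsQuasicoherent :=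
    SheafOfModules.QuasicoherentData.isQuasicoherent (R := X.ringCatSheaf) (M := F)
      (SheafOfModules.IsFinitePresentation.exists_quasicoherentData
        (R := X.ringCatSheaf) F).choose
  haveI : SheafOfModules.IsFinitePresentation (R := X.ringCatSheaf) F := hF
  ext x'
  constructor
  · intro hfree
    exact Groth.Agent.Lib.Helper55.FL.free_stalk_of_free_stalk_pullback f f' g' g hc F x'
      (hfl (g' x')) hfree
  · intro hfree
    obtain ⟨eq⟩ := Groth.Agent.Lib.Lead.PullbackAff.nonempty_stalk_pullback_equiv g' F x'
    letI := (g'.stalkMap x').hom.toAlgebra
    haveI hfr : Module.Free (X.presheaf.stalk (g' x')) (F.presheaf.stalk (g' x')) := hfree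
    change Module.Free (X'.presheaf.stalk x')
      (((Scheme.Modules.pullback g').obj F).presheaf.stalk x')
    exact Module.Free.of_equiv eq.symm

end Groth.Agent.S9769
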