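import Groth.Statements.S12056
import Mathlib

set_option autoImplicit false
open Red

namespace Groth.Agent.S12056


open PowerSeries

theorem pderiv_subst_coe {R : Type*} [CommRing R] {τ : Type*} (p : Polynomial R) (i : τ)
    {a : MvPowerSeries τ R} (ha : HasSubst a) :
    MvPowerSeries.pderiv R i ((p : R⟦X⟧).subst a) =
      ((d⁄dX R (p : R⟦X⟧)).subst a) * MvPowerSeries.pderiv R i a := by
  simp [subst_coe ha, derivative_coe, Derivation.comp_aeval_eq (a := a) (MvPowerSeries.pderiv R i) p,
    smul_eq_mul]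

theorem coeff_subst_trunc {R : Type*} [CommRing R] {τ : Type*} {a : MvPowerSeries τ R}
    (ha0 : MvPowerSeries.constantCoeff a = 0) (g : R⟦X⟧) (M : ℕ) (e : τ →₀ ℕ)
    (he : e.degree < M) :
    MvPowerSeries.coeff e (g.subst a) =
      MvPowerSeries.coeff e ((↑(trunc M g) : R⟦X⟧).subst a) := by
  have ha : HasSubst a := HasSubst.of_constantCoeff_zero ha0
  rw [coeff_subst ha, coeff_subst ha]
  refine finsum_congr fun d => ?_
  obtain hd | hd := lt_or_ge d M
  · rw [coeff_coe_trunc_of_lt hd]
  · have : MvPowerSeries.coeff e (a ^ d) = 0 := by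
      apply MvPowerSeries.coeff_of_lt_order
      calc ((e.degree : ℕ) : ℕ∞) < (d : ℕ∞) := by exact_mod_cast (by omega)
        _ ≤ (a ^ d).order := MvPowerSeries.le_order_pow_of_constantCoeff_eq_zero d ha0
    rw [this]
    simp

theorem pderiv_subst {R : Type*} [CommRing R] {τ : Type*} (i : τ)
    {a : MvPowerSeries τ R} (ha0 : MvPowerSeries.constantCoeff a = 0) (f : R⟦X⟧) :
    MvPowerSeries.pderiv R i (f.subst a) =
      (d⁄dX R f).subst a * MvPowerSeries.pderiv R i a := by
  classical
  have ha : HasSubst a := HasSubst.of_constantCoeff_zero ha0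
  ext n
  rw [MvPowerSeries.coeff_pderiv,
    coeff_subst_trunc ha0 f (n.degree + 2) _ (by simp [map_add, Finsupp.degree_single]),
    ← MvPowerSeries.coeff_pderiv, pderiv_subst_coe _ i ha, MvPowerSeries.coeff_mul,
    MvPowerSeries.coeff_mul]
  refine Finset.sum_congr rfl fun ⟨p, q⟩ hpq => ?_
  congr 1
  have hp : p.degree < n.degree + 1 := by
    have := Finset.HasAntidiagonal.mem_antidiagonal.mp hpq
    simp only at this
    rw [← this, map_add]
    omega
  rw [coeff_subst_trunc ha0 (d⁄dX R f) (n.degree + 1) p hp, derivative_coe,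
    ← trunc_derivative' f (n.degree + 2)]
  rfl


theorem ev_subst {R : Type*} [CommRing R] (b : Fin 2 → PowerSeries R)
    (hb : ∀ s, PowerSeries.constantCoeff (b s) = 0)
    (A : MvPowerSeries (Fin 2) R) (hA : MvPowerSeries.constantCoeff A = 0) (f : R⟦X⟧) :
    MvPowerSeries.subst b (f.subst A) = f.subst (MvPowerSeries.subst b A) := by
  have hb' : MvPowerSeries.HasSubst b := MvPowerSeries.hasSubst_of_constantCoeff_zero hb
  have hA' : HasSubst A := HasSubst.of_constantCoeff_zero hA
  exact MvPowerSeries.subst_comp_subst_apply (a := fun _ : Unit => A) hA'.const hb' f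


/-- In formal-power-series form, let R be a commutative ring and F ∈ R⟦X⟧ with constant term 1 whose
linear coefficient a is a unit of R. Suppose that in R⟦X₀, X₁⟧ one has F(X₀ + X₁ · F(X₀)) = F(X₀) ·
F(X₁) (the functional equation F(x + y F(x)) = F(x) F(y)). Then F = 1 + a X. (The published
statement concerns a morphism to the multiplicative group from an open neighbourhood of the zero
section in the additive group over a base scheme, the identity holding on an open neighbourhood of
the origin of the plane on which all terms are defined, with a the derivative at 0; this row states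
it for formal power series over a ring.) -/
theorem result (R : Type) [CommRing R] (F : PowerSeries R)
    (h0 : PowerSeries.constantCoeff F = 1) (ha : IsUnit (PowerSeries.coeff 1 F))
    (hFE : PowerSeries.subst
        (MvPowerSeries.X (0 : Fin 2) + MvPowerSeries.X 1 * PowerSeries.subst (MvPowerSeries.X (0 : Fin 2)) F :
          MvPowerSeries (Fin 2) R) F =
      PowerSeries.subst (MvPowerSeries.X (0 : Fin 2)) F * PowerSeries.subst (MvPowerSeries.X (1 : Fin 2)) F) :
    F = 1 + PowerSeries.C (PowerSeries.coeff 1 F) * PowerSeries.X := by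
  set a := PowerSeries.coeff 1 F with ha_def
  set F' := d⁄dX R F with hF'
  have hF'0 : PowerSeries.constantCoeff F' = a := by
    rw [hF', ← PowerSeries.coeff_zero_eq_constantCoeff_apply, PowerSeries.coeff_derivative]
    simp [ha_def]
  have hX0 : MvPowerSeries.constantCoeff (MvPowerSeries.X (0 : Fin 2) : MvPowerSeries (Fin 2) R) = 0 :=
    MvPowerSeries.constantCoeff_X 0
  have hX1 : MvPowerSeries.constantCoeff (MvPowerSeries.X (1 : Fin 2) : MvPowerSeries (Fin 2) R) = 0 :=
    MvPowerSeries.constantCoeff_X 1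
  set G := PowerSeries.subst (MvPowerSeries.X (0 : Fin 2) : MvPowerSeries (Fin 2) R) F with hG
  set A := (MvPowerSeries.X (0 : Fin 2) : MvPowerSeries (Fin 2) R) + MvPowerSeries.X 1 * G with hA
  have hA0 : MvPowerSeries.constantCoeff A = 0 := by
    simp [hA, hX0, hX1]
  have d0X0 : MvPowerSeries.pderiv R (0 : Fin 2) (MvPowerSeries.X 0) = 1 :=
    MvPowerSeries.pderiv_X_self
  have d1X1 : MvPowerSeries.pderiv R (1 : Fin 2) (MvPowerSeries.X 1) = 1 :=
    MvPowerSeries.pderiv_X_self
  have d1X0 : MvPowerSeries.pderiv R (1 : Fin 2) (MvPowerSeries.X 0) = 0 :=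
    MvPowerSeries.pderiv_X_of_ne (by decide)
  have d0X1 : MvPowerSeries.pderiv R (0 : Fin 2) (MvPowerSeries.X 1) = 0 :=
    MvPowerSeries.pderiv_X_of_ne (by decide)
  have d1G : MvPowerSeries.pderiv R (1 : Fin 2) G = 0 := by
    rw [hG, pderiv_subst 1 hX0, d1X0, mul_zero]
  have d0G : MvPowerSeries.pderiv R (0 : Fin 2) G = F'.subst (MvPowerSeries.X (0 : Fin 2)) := by
    rw [hG, pderiv_subst 0 hX0, d0X0, mul_one]
  have d1A : MvPowerSeries.pderiv R (1 : Fin 2) A = G := by
    rw [hA, map_add, Derivation.leibniz, d1X0, d1G, d1X1]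
    simp
  have d0A : MvPowerSeries.pderiv R (0 : Fin 2) A
      = 1 + MvPowerSeries.X 1 * F'.subst (MvPowerSeries.X (0 : Fin 2)) := by
    rw [hA, map_add, Derivation.leibniz, d0X0, d0G, d0X1]
    simp
  have E1 := congrArg (MvPowerSeries.pderiv R (1 : Fin 2)) hFE
  rw [pderiv_subst 1 hA0, d1A, Derivation.leibniz, d1G, pderiv_subst 1 hX1, d1X1] at E1
  simp only [smul_eq_mul, mul_one, mul_zero, add_zero] at E1
  have E2 := congrArg (MvPowerSeries.pderiv R (0 : Fin 2)) hFE
  rw [pderiv_subst 0 hA0, d0A, Derivation.leibniz, d0G, pderiv_subst 0 hX1, d0X1] at E2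
  simp only [smul_eq_mul, mul_zero, zero_add] at E2
  have hsub0 : ∀ f : R⟦X⟧, f.subst (0 : R⟦X⟧) = PowerSeries.C (PowerSeries.constantCoeff f) := by
    intro f
    have := PowerSeries.subst_zero_eq_C_constantCoeff (R := R) (S := R) (τ := Unit) (f := f)
    rw [this]
    simp
    rfl
  have hF1 : F' = PowerSeries.C a := by
    have hb : ∀ s, PowerSeries.constantCoeff ((![PowerSeries.X, 0] : Fin 2 → R⟦X⟧) s) = 0 := by
      intro s
      fin_cases s <;> simp
    have hb' : MvPowerSeries.HasSubst (![PowerSeries.X, 0] : Fin 2 → R⟦X⟧) :=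
      MvPowerSeries.hasSubst_of_constantCoeff_zero hb
    have e0 : MvPowerSeries.subst (![PowerSeries.X, 0] : Fin 2 → R⟦X⟧)
        (MvPowerSeries.X (0 : Fin 2) : MvPowerSeries (Fin 2) R) = PowerSeries.X := by
      rw [MvPowerSeries.subst_X hb']
      rfl
    have e1 : MvPowerSeries.subst (![PowerSeries.X, 0] : Fin 2 → R⟦X⟧)
        (MvPowerSeries.X (1 : Fin 2) : MvPowerSeries (Fin 2) R) = 0 := by
      rw [MvPowerSeries.subst_X hb']
      rfl
    have eG : MvPowerSeries.subst (![PowerSeries.X, 0] : Fin 2 → R⟦X⟧) G = F := by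
      rw [hG, ev_subst _ hb _ hX0, e0, PowerSeries.X_subst]
    have eA : MvPowerSeries.subst (![PowerSeries.X, 0] : Fin 2 → R⟦X⟧) A = PowerSeries.X := by
      rw [hA, MvPowerSeries.subst_add hb', MvPowerSeries.subst_mul hb', e0, e1, zero_mul, add_zero]
    have h := congrArg (MvPowerSeries.subst (![PowerSeries.X, 0] : Fin 2 → R⟦X⟧)) E1
    rw [MvPowerSeries.subst_mul hb', MvPowerSeries.subst_mul hb', ev_subst _ hb _ hA0,
      ev_subst _ hb _ hX1, eA, eG, e1, PowerSeries.X_subst, hsub0, hF'0] at h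
    have hFu : IsUnit F := by
      rw [PowerSeries.isUnit_iff_constantCoeff, h0]
      exact isUnit_one
    rw [mul_comm] at h
    exact hFu.mul_left_cancel h
  have hb : ∀ s, PowerSeries.constantCoeff ((![0, PowerSeries.X] : Fin 2 → R⟦X⟧) s) = 0 := by
    intro s
    fin_cases s <;> simp
  have hb' : MvPowerSeries.HasSubst (![0, PowerSeries.X] : Fin 2 → R⟦X⟧) :=
    MvPowerSeries.hasSubst_of_constantCoeff_zero hb
  have e1 : MvPowerSeries.subst (![0, PowerSeries.X] : Fin 2 → R⟦X⟧)
      (MvPowerSeries.X (1 : Fin 2) : MvPowerSeries (Fin 2) R) = PowerSeries.X := by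
    rw [MvPowerSeries.subst_X hb']
    rfl
  rw [hF1, show (d⁄dX R) F = PowerSeries.C a from hF1, PowerSeries.subst_C,
    PowerSeries.subst_C] at E2
  have h := congrArg (MvPowerSeries.subst (![0, PowerSeries.X] : Fin 2 → R⟦X⟧)) E2
  rw [MvPowerSeries.subst_mul hb', MvPowerSeries.subst_mul hb', MvPowerSeries.subst_add hb',
    MvPowerSeries.subst_mul hb', ev_subst _ hb _ hX1, e1, PowerSeries.X_subst] at h
  have hC : MvPowerSeries.subst (![0, PowerSeries.X] : Fin 2 → R⟦X⟧)
      (MvPowerSeries.C a : MvPowerSeries (Fin 2) R) = PowerSeries.C a := by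
    rw [MvPowerSeries.subst_C]
    rfl
  have h1 : MvPowerSeries.subst (![0, PowerSeries.X] : Fin 2 → R⟦X⟧)
      (1 : MvPowerSeries (Fin 2) R) = 1 := by
    have := MvPowerSeries.subst_C (a := (![0, PowerSeries.X] : Fin 2 → R⟦X⟧)) (σ := Fin 2)
      (1 : R)
    simpa using this
  rw [hC, h1] at h
  have hCu : IsUnit (PowerSeries.C a : R⟦X⟧) := ha.map PowerSeries.C
  have h2 : (PowerSeries.C a : R⟦X⟧) * (1 + PowerSeries.X * PowerSeries.C a)
      = PowerSeries.C a * F := by
    rw [h]
    ring
  have := hCu.mul_left_cancel h2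
  rw [← this]
  ring

end Groth.Agent.S12056
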