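import Groth.Statements.S12058
import Mathlib

set_option autoImplicit false
universe w v u
open CategoryTheory CategoryTheory.Limits CategoryTheory.Abelian
open SGA3

namespace Groth.Agent.S12058

section
variable {C : Type u} [Category.{v} C] [Abelian C]

/-- pullback of a short exact sequence along the kernel of an epi out of X₃ -/
theorem pullback_shortExact {S : ShortComplex C} (hS : S.ShortExact) {P : C} (π : S.X₃ ⟶ P) :
    ∃ (j : S.X₁ ⟶ kernel (S.g ≫ π)) (q : kernel (S.g ≫ π) ⟶ kernel π) (w : j ≫ q = 0),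
      (ShortComplex.mk j q w).ShortExact ∧ j ≫ kernel.ι (S.g ≫ π) = S.f ∧
        q ≫ kernel.ι π = kernel.ι (S.g ≫ π) ≫ S.g := by
  have : Epi S.g := hS.epi_g
  have : Mono S.f := hS.mono_f
  let j : S.X₁ ⟶ kernel (S.g ≫ π) := kernel.lift _ S.f (by rw [S.zero_assoc, zero_comp])
  let q : kernel (S.g ≫ π) ⟶ kernel π := kernel.lift π (kernel.ι (S.g ≫ π) ≫ S.g)
    (by rw [Category.assoc, kernel.condition])
  have hj : j ≫ kernel.ι (S.g ≫ π) = S.f := kernel.lift_ι _ _ _
  have hq : q ≫ kernel.ι π = kernel.ι (S.g ≫ π) ≫ S.g := kernel.lift_ι _ _ _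
  have w : j ≫ q = 0 := by
    rw [← cancel_mono (kernel.ι π), Category.assoc, hq, ← Category.assoc, hj, S.zero, zero_comp]
  refine ⟨j, q, w, ?_, hj, hq⟩
  have hmono : Mono j := mono_of_mono_fac hj
  have hepi : Epi q := by
    rw [epi_iff_surjective_up_to_refinements]
    intro T z
    obtain ⟨T', π', hπ', a, ha⟩ := surjective_up_to_refinements_of_epi S.g (z ≫ kernel.ι π)
    refine ⟨T', π', hπ', kernel.lift (S.g ≫ π) a ?_, ?_⟩
    · rw [← Category.assoc, ← ha, Category.assoc, Category.assoc, kernel.condition, comp_zero,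
        comp_zero]
    · rw [← cancel_mono (kernel.ι π), Category.assoc, Category.assoc, hq, kernel.lift_ι_assoc, ha]
  have hex : (ShortComplex.mk j q w).Exact := by
    rw [ShortComplex.exact_iff_exact_up_to_refinements]
    intro T x hx
    dsimp at x hx
    have hx' : (x ≫ kernel.ι (S.g ≫ π)) ≫ S.g = 0 := by
      rw [Category.assoc, ← hq, ← Category.assoc, hx, zero_comp]
    obtain ⟨T', π', hπ', y, hy⟩ := hS.exact.exact_up_to_refinements _ hx'
    refine ⟨T', π', hπ', y, ?_⟩
    dsimp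
    rw [← cancel_mono (kernel.ι (S.g ≫ π)), Category.assoc, Category.assoc, hj, hy]
  exact ShortComplex.ShortExact.mk' hex hmono hepi

/-- pushout of a short exact sequence along a map out of X₁ -/
theorem pushout_shortExact {S : ShortComplex C} (hS : S.ShortExact) {Q : C} (t : S.X₁ ⟶ Q) :
    ∃ (B : C) (f : Q ⟶ B) (g : B ⟶ S.X₃) (h : S.X₂ ⟶ B) (w : f ≫ g = 0),
      (ShortComplex.mk f g w).ShortExact ∧ S.f ≫ h = t ≫ f ∧ h ≫ g = S.g := by
  have : Epi S.g := hS.epi_g
  have : Mono S.f := hS.mono_f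
  let B := pushout S.f t
  let f : Q ⟶ B := pushout.inr _ _
  let h : S.X₂ ⟶ B := pushout.inl _ _
  let g : B ⟶ S.X₃ := pushout.desc S.g 0 (by rw [S.zero, comp_zero])
  have hg : h ≫ g = S.g := pushout.inl_desc _ _ _
  have w : f ≫ g = 0 := pushout.inr_desc _ _ _
  have hsq : IsPushout S.f t h f := IsPushout.of_hasPushout _ _
  refine ⟨B, f, g, h, w, ?_, hsq.w, hg⟩
  have hmono : Mono f := inferInstance
  have hepi : Epi g := epi_of_epi_fac hg
  have hex : (ShortComplex.mk f g w).Exact := by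
    rw [ShortComplex.exact_iff_exact_up_to_refinements]
    intro T x hx
    dsimp at x hx
    obtain ⟨T₁, π₁, hπ₁, x₂, x₃, e⟩ := hsq.hom_eq_add_up_to_refinements x
    have hx₂ : x₂ ≫ S.g = 0 := by
      have := congrArg (· ≫ g) e
      simp only [Category.assoc, hx, comp_zero, Preadditive.add_comp, hg, w, add_zero] at this
      exact this.symm
    obtain ⟨T₂, π₂, hπ₂, y, hy⟩ := hS.exact.exact_up_to_refinements _ hx₂
    refine ⟨T₂, π₂ ≫ π₁, inferInstance, y ≫ t + π₂ ≫ x₃, ?_⟩
    dsimp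
    rw [Category.assoc, e, Preadditive.comp_add, ← Category.assoc, hy, Category.assoc, hsq.w,
      Preadditive.add_comp, Category.assoc, Category.assoc]
  exact ShortComplex.ShortExact.mk' hex hmono hepi

end

/-- In an abelian category, let 0 → A' → A → A'' → 0 be a short exact sequence, φ : A' ⟶ Q a morphism
and π : A'' ⟶ P an epimorphism with kernel C. Consider the quadruples (B, f, g, h) with 0 → Q → B →
P → 0 short exact (maps f, g) and h : A ⟶ B such that the squares commute: (A' → A → B) = (A' → Q →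
B) and (A → B → P) = (A → A'' → P). Such a quadruple exists if and only if the image in Ext¹(C, Q)
of the class of the given extension in Ext¹(A'', A') (push forward along φ, pull back along the
inclusion C → A'') is zero. -/
theorem result {C : Type u} [Category.{v} C] [Abelian C]
    [HasExt.{w} C] {S : ShortComplex C} (hS : S.ShortExact) {Q P : C} (φ : S.X₁ ⟶ Q) (π : S.X₃ ⟶ P) [Epi π] :
    (∃ (B : C) (f : Q ⟶ B) (g : B ⟶ P) (h : S.X₂ ⟶ B) (w : f ≫ g = 0),
        (ShortComplex.mk f g w).ShortExact ∧ S.f ≫ h = φ ≫ f ∧ h ≫ g = S.g ≫ π) ↔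
      (Ext.mk₀ (kernel.ι π)).comp (hS.extClass.comp (Ext.mk₀ φ) (add_zero 1)) (zero_add 1) = 0 := by
  constructor
  · rintro ⟨B, f, g, h, w, hT, h1, h2⟩
    let α : S ⟶ ShortComplex.mk f g w := ⟨φ, h, π, h1.symm, h2⟩
    have nat := ShortComplex.ShortExact.extClass_naturality hS hT α
    change hS.extClass.comp (Ext.mk₀ φ) (add_zero 1) = (Ext.mk₀ π).comp hT.extClass (zero_add 1) at nat
    rw [nat, Ext.mk₀_comp_mk₀_assoc, kernel.condition, Ext.mk₀_zero, Ext.zero_comp]
  · intro hzero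
    have : Epi S.g := hS.epi_g
    obtain ⟨j, q, wjq, hSK, hj, hq⟩ := pullback_shortExact hS π
    let β : ShortComplex.mk j q wjq ⟶ S :=
      ⟨𝟙 _, kernel.ι (S.g ≫ π), kernel.ι π, by simpa using hj.symm, hq.symm⟩
    have nat := ShortComplex.ShortExact.extClass_naturality hSK hS β
    change hSK.extClass.comp (Ext.mk₀ (𝟙 _)) (add_zero 1) =
      (Ext.mk₀ (kernel.ι π)).comp hS.extClass (zero_add 1) at nat
    rw [Ext.comp_mk₀_id] at nat
    have h0 : hSK.extClass.comp (Ext.mk₀ φ) (add_zero 1) = 0 := by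
      rw [nat, Ext.comp_assoc_of_third_deg_zero]
      exact hzero
    obtain ⟨x₂, hx₂⟩ := Ext.contravariant_sequence_exact₁ hSK Q (Ext.mk₀ φ) (add_zero 1) h0
    obtain ⟨t, rfl⟩ := (Ext.mk₀_bijective _ _).2 x₂
    change (Ext.mk₀ j).comp (Ext.mk₀ t) (zero_add 0) = Ext.mk₀ φ at hx₂
    rw [Ext.mk₀_comp_mk₀] at hx₂
    have ht : j ≫ t = φ := (Ext.mk₀_bijective _ _).1 hx₂
    -- the sequence 0 → K' → A → P → 0
    have w0 : kernel.ι (S.g ≫ π) ≫ (S.g ≫ π) = 0 := kernel.condition _
    have hT0 : (ShortComplex.mk (kernel.ι (S.g ≫ π)) (S.g ≫ π) w0).ShortExact :=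
      ShortComplex.ShortExact.mk' (ShortComplex.exact_of_f_is_kernel _ (kernelIsKernel _))
        inferInstance inferInstance
    obtain ⟨B, f, g, h, w, hB, h1, h2⟩ := pushout_shortExact hT0 t
    refine ⟨B, f, g, h, w, hB, ?_, h2⟩
    dsimp at h1
    rw [← hj, Category.assoc, h1, ← Category.assoc, ht]

end Groth.Agent.S12058
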