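import Groth.Statements.S1206
import Mathlib
-- import your own Groth.Agent.* helpers here

set_option autoImplicit false
universe u
open FlatMor

namespace Groth.Agent.S1206

theorem exists_prime_avoiding {A : Type u} [CommRing A]
    (𝒮 : Set (Ideal A)) (hne : 𝒮.Nonempty) (hfg : ∀ I ∈ 𝒮, I.FG)
    (hmul : ∀ I ∈ 𝒮, ∀ J ∈ 𝒮, I * J ∈ 𝒮)
    (K : Ideal A) (hK : ∀ I ∈ 𝒮, ¬ I ≤ K) :
    ∃ p : Ideal A, p.IsPrime ∧ K ≤ p ∧ ∀ I ∈ 𝒮, ¬ I ≤ p := by
  have ⟨m, hKm, hm⟩ := zorn_le_nonempty₀ {J : Ideal A | ∀ I ∈ 𝒮, ¬ I ≤ J}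
    (fun c hc hchain y hy ↦ ?_) K hK
  · refine ⟨m, ⟨?_, ?_⟩, hKm, hm.1⟩
    · rintro rfl
      obtain ⟨I, hI⟩ := hne
      exact hm.1 I hI le_top
    · intro a b hab
      by_contra! hcon
      have ha : ¬ (m ⊔ Ideal.span {a}) ∈ {J : Ideal A | ∀ I ∈ 𝒮, ¬ I ≤ J} :=
        hm.not_prop_of_gt (Submodule.lt_sup_iff_notMem.mpr hcon.1)
      have hb : ¬ (m ⊔ Ideal.span {b}) ∈ {J : Ideal A | ∀ I ∈ 𝒮, ¬ I ≤ J} :=
        hm.not_prop_of_gt (Submodule.lt_sup_iff_notMem.mpr hcon.2)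
      simp only [Set.mem_ofPred_eq, not_forall, not_not] at ha hb
      obtain ⟨I₁, hI₁, h₁⟩ := ha
      obtain ⟨I₂, hI₂, h₂⟩ := hb
      refine hm.1 (I₁ * I₂) (hmul I₁ hI₁ I₂ hI₂) ?_
      refine (Ideal.mul_mono h₁ h₂).trans ?_
      rw [Ideal.sup_mul, Ideal.mul_sup, Ideal.mul_sup]
      refine sup_le (sup_le Ideal.mul_le_left Ideal.mul_le_left) (sup_le Ideal.mul_le_right ?_)
      rw [Ideal.span_singleton_mul_span_singleton, Ideal.span_singleton_le_iff_mem]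
      exact hab
  · refine ⟨sSup c, fun I hI hle ↦ ?_, fun z hz ↦ le_sSup hz⟩
    have hcomp : IsCompactElement I := (Submodule.fg_iff_compact I).mp (hfg I hI)
    obtain ⟨x, hx, hIx⟩ := (CompleteLattice.isCompactElement_iff_le_of_directed_sSup_le (α := Ideal A) I).mp hcomp c
      ⟨y, hy⟩ hchain.directedOn hle
    exact hc hx I hI hIx

/-- Let A be a local domain which is not a field and 𝒮 a set of finitely generated ideals of A, closed
under products, such that the union of the closed sets V(I), I ∈ 𝒮, is exactly the set of nonzero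
primes (every nonzero prime contains a member of 𝒮 and no member is zero). Then the intersection of
all members of 𝒮 is zero. -/
theorem result (A : Type u) [CommRing A] [IsDomain A] [IsLocalRing A] (hA : ¬ IsField A)
    (𝒮 : Set (Ideal A)) (hfg : ∀ I ∈ 𝒮, I.FG) (hmul : ∀ I ∈ 𝒮, ∀ J ∈ 𝒮, I * J ∈ 𝒮)
    (hne : ∀ I ∈ 𝒮, I ≠ ⊥) (hcov : ∀ (p : Ideal A), p.IsPrime → p ≠ ⊥ → ∃ I ∈ 𝒮, I ≤ p) :
    sInf 𝒮 = ⊥ := by
  have hm : IsLocalRing.maximalIdeal A ≠ ⊥ := by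
    intro h
    exact hA (IsLocalRing.isField_iff_maximalIdeal_eq.mpr h)
  obtain ⟨I₀, hI₀, hI₀m⟩ := hcov (IsLocalRing.maximalIdeal A) inferInstance hm
  rw [eq_bot_iff]
  intro f hf
  rw [Ideal.mem_bot]
  by_contra hf0
  have hfI : ∀ I ∈ 𝒮, f ∈ I := fun I hI ↦ (Submodule.mem_sInf.mp hf) I hI
  have key : ∃ I ∈ 𝒮, I ≤ Ideal.span {f ^ 2} := by
    by_contra! hcon
    obtain ⟨p, hp, hKp, hpS⟩ := exists_prime_avoiding 𝒮 ⟨I₀, hI₀⟩ hfg hmul _ hcon
    have hpbot : p ≠ ⊥ := by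
      rintro rfl
      have : f ^ 2 ∈ (⊥ : Ideal A) := hKp (Ideal.mem_span_singleton_self _)
      rw [Ideal.mem_bot] at this
      exact hf0 (pow_eq_zero_iff (by norm_num) |>.mp this)
    obtain ⟨I, hI, hIp⟩ := hcov p hp hpbot
    exact hpS I hI hIp
  obtain ⟨I, hI, hIf⟩ := key
  have h1 : f ∈ Ideal.span {f ^ 2} := hIf (hfI I hI)
  rw [Ideal.mem_span_singleton'] at h1
  obtain ⟨g, hg⟩ := h1
  have h2 : f * (g * f - 1) = 0 := by linear_combination hg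
  have h3 : g * f = 1 := by
    rcases mul_eq_zero.mp h2 with h | h
    · exact absurd h hf0
    · exact sub_eq_zero.mp h
  have hunit : IsUnit f := IsUnit.of_mul_eq_one g (by rw [mul_comm]; exact h3)
  have hfm : f ∈ IsLocalRing.maximalIdeal A := hI₀m (hfI I₀ hI₀)
  exact (IsLocalRing.mem_maximalIdeal f).mp hfm hunit

end Groth.Agent.S1206
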