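import Groth.Statements.S13998
import Groth.Agent.Lib.Helper6.ThickFT
import Groth.Agent.Lib.Helper6.ThickFinite

set_option autoImplicit false
universe u
open FlatMor

namespace Groth.Agent.S13998

open AlgebraicGeometry CategoryTheory in
/-- Consider a cartesian square of schemes F₀ ≫ j = i ≫ F (so Y₀ = Y ×_X X₀) in which i : Y₀ ⟶ Y and j :
X₀ ⟶ X are closed immersions surjective on points whose ideals are locally nilpotent (nilpotent on
every affine open), and suppose moreover that the ideal of j is of finite type (finitely generated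
on every affine open of X). Then F : Y ⟶ X is finite if and only if F₀ : Y₀ ⟶ X₀ is finite. -/
theorem result {X X₀ Y Y₀ : Scheme.{u}}
    (F : Y ⟶ X) (F₀ : Y₀ ⟶ X₀) (i : Y₀ ⟶ Y) (j : X₀ ⟶ X)
    (hi : MoreMor.IsThickening i) (hj : MoreMor.IsThickening j)
    (hinil : ∀ U : Y.affineOpens, IsNilpotent (i.ker.ideal U))
    (hjnil : ∀ U : X.affineOpens, IsNilpotent (j.ker.ideal U))
    (hfg : ∀ U : X.affineOpens, (j.ker.ideal U).FG)
    (hc : IsPullback F₀ i j F) :
    IsFinite F ↔ IsFinite F₀ := by
  open Groth.Agent.Lib.Helper6 in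
  have := hi.1
  have := hj.1
  constructor
  · intro hF
    exact MorphismProperty.of_isPullback hc.flip hF
  · intro hF₀
    have hlft : LocallyOfFiniteType F := by
      refine ThickAffine.transfer₁ (P := @LocallyOfFiniteType)
        (RingHom.finiteType_stableUnderComposition.stableUnderCompositionWithLocalizationAway
          RingHom.finiteType_holdsForLocalizationAway).left
        (fun J => J.FG ∧ IsNilpotent J) ?_ i j F₀ F ?_ hc.flip inferInstance
      · intro B B₀ C C₀ _ _ _ _ ψ πB πC ψ₀ hsB hsC hker hcomm hN hQ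
        have h1 : (πC.comp ψ).FiniteType := by
          rw [← hcomm]
          exact hQ.comp (RingHom.FiniteType.of_surjective _ hsB)
        refine ThickFT.finiteType_of_comp_surjective ψ πC hsC ?_ ?_ h1
        · rw [hker]; exact hN.1.map _
        · rw [hker]
          obtain ⟨n, hn⟩ := hN.2
          exact ⟨n, by rw [← Ideal.map_pow, hn, Ideal.zero_eq_bot, Ideal.map_bot]; rfl⟩
      · intro W' hW'
        have hk := Scheme.Hom.ker_apply j ⟨W', hW'⟩
        rw [← hk]
        exact ⟨hfg ⟨W', hW'⟩, hjnil ⟨W', hW'⟩⟩
    exact Thick.isFinite_of_thickening hj hc.flip hF₀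

end Groth.Agent.S13998
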