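import Groth.Statements.S12066
import Groth.Agent.Lib.Helper54.FSchThick
import Groth.Agent.Lib.Helper57.EtLift
import Groth.Agent.S13998

set_option autoImplicit false
universe u
open CategoryTheory AlgebraicGeometry
open FSch

namespace Groth.Agent.S12066

open AlgebraicGeometry CategoryTheory CategoryTheory.Limits
open Groth.Agent.Lib.Helper54.FSchSpf

theorem surjective_toX' {𝔖 : FSch.Sys.{u}} (h𝔖 : 𝔖.IsFormal) (n : ℕ) :
    Function.Surjective (𝔖.toX n) := by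
  induction n with
  | zero => exact fun x => ⟨x, rfl⟩
  | succ n ih =>
    show Function.Surjective (𝔖.toX n ≫ 𝔖.ι n)
    rw [Scheme.Hom.comp_base, TopCat.coe_comp]
    exact (h𝔖 n).2.comp ih

theorem isThickening_toX {𝔖 : FSch.Sys.{u}} (h𝔖 : 𝔖.IsFormal) (n : ℕ) :
    MoreMor.IsThickening (𝔖.toX n) :=
  ⟨isClosedImmersion_toX h𝔖 n, ⟨surjective_toX' h𝔖 n⟩⟩

/-- compatibility of a morphism of systems with the maps from level 0 -/
theorem toX_app {ℜ 𝔛 : FSch.Sys.{u}} (p : ℜ ⟶ 𝔛) (n : ℕ) :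
    ℜ.toX n ≫ (p : FSch.Hom ℜ 𝔛).app n = (p : FSch.Hom ℜ 𝔛).app 0 ≫ 𝔛.toX n := by
  induction n with
  | zero =>
    show 𝟙 _ ≫ _ = _ ≫ 𝟙 _
    rw [Category.id_comp, Category.comp_id]
  | succ n ih =>
    show (ℜ.toX n ≫ ℜ.ι n) ≫ _ = _ ≫ (𝔛.toX n ≫ 𝔛.ι n)
    rw [Category.assoc, ← (p : FSch.Hom ℜ 𝔛).comm n, ← Category.assoc, ih, Category.assoc]

section KeyLemma

variable {𝔛 ℜ ℜ' : FSch.Sys.{u}} (h𝔛 : 𝔛.IsFormal) (p : ℜ ⟶ 𝔛) (p' : ℜ' ⟶ 𝔛)
  (hp : FSch.IsEtaleCover p) (hp' : FSch.IsEtaleCover p')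

include h𝔛 hp hp' in
theorem existsUnique_level (g₀ : ℜ.X 0 ⟶ ℜ'.X 0)
    (hg₀ : g₀ ≫ (p' : FSch.Hom ℜ' 𝔛).app 0 = (p : FSch.Hom ℜ 𝔛).app 0) (n : ℕ) :
    ∃! l : ℜ.X n ⟶ ℜ'.X n, ℜ.toX n ≫ l = g₀ ≫ ℜ'.toX n ∧
      l ≫ (p' : FSch.Hom ℜ' 𝔛).app n = (p : FSch.Hom ℜ 𝔛).app n := by
  have hF : ℜ.IsFormal := isFormal_of_isAdicHom p hp.1 h𝔛
  have het : Etale ((p' : FSch.Hom ℜ' 𝔛).app n) := (hp'.2 n).2
  refine Groth.Agent.Lib.Helper57.FlatThick.existsUnique_lift ((p' : FSch.Hom ℜ' 𝔛).app n)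
    (ℜ.toX n) (isThickening_toX hF n) (g₀ ≫ ℜ'.toX n) ((p : FSch.Hom ℜ 𝔛).app n) ?_
  rw [toX_app p n, Category.assoc, toX_app p' n, ← Category.assoc, hg₀]

include h𝔛 hp hp' in
theorem existsUnique_hom (g₀ : ℜ.X 0 ⟶ ℜ'.X 0)
    (hg₀ : g₀ ≫ (p' : FSch.Hom ℜ' 𝔛).app 0 = (p : FSch.Hom ℜ 𝔛).app 0) :
    ∃! φ : ℜ ⟶ ℜ', φ ≫ p' = p ∧ (φ : FSch.Hom ℜ ℜ').app 0 = g₀ := by
  have hF : ℜ.IsFormal := isFormal_of_isAdicHom p hp.1 h𝔛
  have hex := existsUnique_level h𝔛 p p' hp hp' g₀ hg₀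
  choose l hl hluniq using hex
  have hcomm : ∀ n, l n ≫ ℜ'.ι n = ℜ.ι n ≫ l (n + 1) := by
    intro n
    have het : Etale ((p' : FSch.Hom ℜ' 𝔛).app (n + 1)) := (hp'.2 (n + 1)).2
    have hu := Groth.Agent.Lib.Helper57.FlatThick.existsUnique_lift
      ((p' : FSch.Hom ℜ' 𝔛).app (n + 1)) (ℜ.toX n) (isThickening_toX hF n)
      (g₀ ≫ ℜ'.toX (n + 1)) ((p : FSch.Hom ℜ 𝔛).app n ≫ 𝔛.ι n) (by
        rw [← Category.assoc, toX_app p n, Category.assoc, Category.assoc, toX_app p' (n + 1),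
          ← Category.assoc g₀, hg₀]
        rfl)
    refine hu.unique ⟨?_, ?_⟩ ⟨?_, ?_⟩
    · rw [← Category.assoc, (hl n).1, Category.assoc]
      rfl
    · rw [Category.assoc, ← (p' : FSch.Hom ℜ' 𝔛).comm n, ← Category.assoc, (hl n).2]
    · rw [← Category.assoc]
      exact (hl (n + 1)).1
    · rw [Category.assoc, (hl (n + 1)).2, (p : FSch.Hom ℜ 𝔛).comm n]
  refine ⟨(⟨l, hcomm⟩ : FSch.Hom ℜ ℜ'), ⟨?_, ?_⟩, ?_⟩
  · exact FSch.Hom.ext (funext fun n => (hl n).2)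
  · have h0 := (hl 0).1
    have e1 : ℜ.toX 0 = 𝟙 _ := rfl
    have e2 : ℜ'.toX 0 = 𝟙 _ := rfl
    rw [e1, e2, Category.id_comp, Category.comp_id] at h0
    exact h0
  · rintro ψ ⟨hψ1, hψ2⟩
    apply FSch.Hom.ext
    funext n
    apply hluniq n
    constructor
    · rw [toX_app ψ n, hψ2]
    · rw [← hψ1]
      rfl

end KeyLemma

section FF

variable (𝔛 : FSch.Sys.{u}) (h𝔛 : 𝔛.IsFormal)

include h𝔛 in
theorem faithful_level : (FSch.EtCov.level 𝔛 0).Faithful where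
  map_injective := by
    intro R R' φ ψ h
    have h0 : (φ.hom.left : FSch.Hom _ _).app 0 = (ψ.hom.left : FSch.Hom _ _).app 0 :=
      congrArg (fun t => t.left) h
    have hu := existsUnique_hom h𝔛 R.obj.hom R'.obj.hom R.property R'.property
      ((φ.hom.left : FSch.Hom _ _).app 0) (by
        rw [← FSch.comp_app, Over.w φ.hom])
    have h1 : φ.hom.left = ψ.hom.left :=
      hu.unique ⟨Over.w φ.hom, rfl⟩ ⟨Over.w ψ.hom, h0.symm⟩
    apply ObjectProperty.hom_ext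
    exact Over.OverMorphism.ext h1

include h𝔛 in
theorem full_level : (FSch.EtCov.level 𝔛 0).Full where
  map_surjective := by
    intro R R' g
    have hg : g.left ≫ (R'.obj.hom : FSch.Hom _ _).app 0 = (R.obj.hom : FSch.Hom _ _).app 0 :=
      Over.w g.hom
    obtain ⟨φ, ⟨hφ1, hφ2⟩, -⟩ := existsUnique_hom h𝔛 R.obj.hom R'.obj.hom R.property R'.property
      g.left hg
    refine ⟨ObjectProperty.homMk (Over.homMk φ hφ1), ?_⟩
    ext
    exact hφ2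

end FF

section Ess

theorem ker_ι_sq {𝔛 : FSch.Sys.{u}} (hF : 𝔛.IsFormal) (hA : 𝔛.IsAdic) (n : ℕ) :
    (𝔛.ι n).ker ^ 2 = ⊥ := by
  rw [hA n, ← pow_mul, show (n + 1) * 2 = (n + 1 + 1) + n by ring, pow_add,
    ker_toX_pow_eq_bot hF hA (n + 1)]
  exact zero_mul _

theorem nilpotent_of_sq_eq_bot {X : Scheme.{u}} (I : X.IdealSheafData) (h : I ^ 2 = ⊥)
    (U : X.affineOpens) : IsNilpotent (I.ideal U) := by
  refine ⟨2, ?_⟩
  have := congrArg (fun K : X.IdealSheafData => K.ideal U) h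
  simpa using this

variable (𝔛 : FSch.Sys.{u})

/-- a finite étale scheme over level `n` -/
structure Stage (n : ℕ) where
  /-- the scheme -/
  R : Scheme.{u}
  /-- the structure map -/
  π : R ⟶ 𝔛.X n
  et : Etale π
  fin : IsFinite π

variable {𝔛} (h𝔛 : 𝔛.IsLocNoethFormal)

include h𝔛 in
theorem exists_next (n : ℕ) (s : Stage 𝔛 n) :
    ∃ (R' : Scheme.{u}) (j : s.R ⟶ R') (π' : R' ⟶ 𝔛.X (n + 1)), Etale π' ∧ IsFinite π' ∧
      IsPullback j s.π π' (𝔛.ι n) := by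
  have i1 : IsClosedImmersion (𝔛.ι n) := (h𝔛.1 n).1
  have i2 : Surjective (𝔛.ι n) := ⟨(h𝔛.1 n).2⟩
  have i3 : Etale s.π := s.et
  have i4 : IsLocallyNoetherian (𝔛.X (n + 1)) := h𝔛.2.2 (n + 1)
  obtain ⟨R', j, π', het, hj, hpb⟩ :=
    Groth.Agent.Lib.Helper57.EtLift.exists_isPullback (𝔛.ι n) s.π
  refine ⟨R', j, π', het, ?_, hpb⟩
  have hsq : (𝔛.ι n).ker ^ 2 = ⊥ := ker_ι_sq h𝔛.1 h𝔛.2.1 n
  have hjsq : j.ker ^ 2 = ⊥ := by
    rw [ker_fst_of_isPullback hpb, ← comap_pow, hsq, comap_bot]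
  refine (Groth.Agent.S13998.result π' s.π j (𝔛.ι n) hj ⟨i1, i2⟩
    (nilpotent_of_sq_eq_bot _ hjsq) (nilpotent_of_sq_eq_bot _ hsq) ?_ hpb.flip).mpr s.fin
  intro U
  have : IsNoetherianRing Γ(𝔛.X (n + 1), U.1) := IsLocallyNoetherian.component_noetherian U
  exact IsNoetherian.noetherian _

/-- the next stage -/
noncomputable def next (n : ℕ) (s : Stage 𝔛 n) : Stage 𝔛 (n + 1) where
  R := (exists_next h𝔛 n s).choose
  π := (exists_next h𝔛 n s).choose_spec.choose_spec.choose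
  et := (exists_next h𝔛 n s).choose_spec.choose_spec.choose_spec.1
  fin := (exists_next h𝔛 n s).choose_spec.choose_spec.choose_spec.2.1

/-- the transition map to the next stage -/
noncomputable def trans (n : ℕ) (s : Stage 𝔛 n) : s.R ⟶ (next h𝔛 n s).R :=
  (exists_next h𝔛 n s).choose_spec.choose

theorem isPullback_trans (n : ℕ) (s : Stage 𝔛 n) :
    IsPullback (trans h𝔛 n s) s.π (next h𝔛 n s).π (𝔛.ι n) :=
  (exists_next h𝔛 n s).choose_spec.choose_spec.choose_spec.2.2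

/-- the sequence of stages starting from a given one -/
noncomputable def stage (s₀ : Stage 𝔛 0) : ∀ n, Stage 𝔛 n
  | 0 => s₀
  | n + 1 => next h𝔛 n (stage s₀ n)

/-- the lifted system -/
noncomputable def liftSys (s₀ : Stage 𝔛 0) : FSch.Sys.{u} where
  X n := (stage h𝔛 s₀ n).R
  ι n := trans h𝔛 n (stage h𝔛 s₀ n)

/-- the structure morphism of the lifted system -/
noncomputable def liftHom (s₀ : Stage 𝔛 0) : liftSys h𝔛 s₀ ⟶ 𝔛 :=
  (⟨fun n => (stage h𝔛 s₀ n).π, fun n => (isPullback_trans h𝔛 n (stage h𝔛 s₀ n)).w.symm⟩ :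
    FSch.Hom (liftSys h𝔛 s₀) 𝔛)

theorem isEtaleCover_liftHom (s₀ : Stage 𝔛 0) : FSch.IsEtaleCover (liftHom h𝔛 s₀) :=
  ⟨fun n => isPullback_trans h𝔛 n (stage h𝔛 s₀ n),
    fun n => ⟨(stage h𝔛 s₀ n).fin, (stage h𝔛 s₀ n).et⟩⟩

include h𝔛 in
theorem essSurj_level : (FSch.EtCov.level 𝔛 0).EssSurj where
  mem_essImage Y := by
    let s₀ : Stage 𝔛 0 := ⟨Y.left, Y.hom, Y.prop.2, Y.prop.1⟩
    refine ⟨⟨Over.mk (liftHom h𝔛 s₀), isEtaleCover_liftHom h𝔛 s₀⟩, ⟨?_⟩⟩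
    exact MorphismProperty.Over.isoMk (Iso.refl _) (by
      simp only [Iso.refl_hom]
      rfl)

end Ess


/-- Let 𝔛 be a locally Noetherian formal scheme with an ideal of definition, presented as the adic
system of its thickenings X_0 → X_1 → ⋯ (each X_n locally Noetherian). Then the functor "fibre over
X_0", from the category of étale covers of 𝔛 (adic systems R_n → X_n of finite étale covers) to the
category of finite étale covers of the scheme X_0, is an equivalence of categories. -/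
theorem result (𝔛 : FSch.Sys.{u}) (h𝔛 : 𝔛.IsLocNoethFormal) :
    (FSch.EtCov.level 𝔛 0).IsEquivalence := by
  exact { faithful := faithful_level 𝔛 h𝔛.1, full := full_level 𝔛 h𝔛.1,
          essSurj := essSurj_level h𝔛 }

end Groth.Agent.S12066
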