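import Groth.Statements.S1207
import Groth.Agent.S1206
-- import your own Groth.Agent.* helpers here

set_option autoImplicit false
universe u
open FlatMor

namespace Groth.Agent.S1207

/-- Let A be a local ring and I, J ideals of A with J finitely generated, J ≠ A, and I ⊆ J^n for all n ≥
1. Then every prime p not containing J which is maximal among the primes not containing J (a closed
point of Spec A ∖ V(J)) contains I. (The published statement leaves the hypothesis J ≠ A implicit;
for J = A the assertion fails.) -/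
theorem result (A : Type u) [CommRing A] [IsLocalRing A] (I J : Ideal A) (hJ : J.FG) (hJ1 : J ≠ ⊤)
    (hI : ∀ n : ℕ, 1 ≤ n → I ≤ J ^ n) (p : Ideal A) [p.IsPrime] (hp : ¬ J ≤ p)
    (hmax : ∀ (p' : Ideal A), p'.IsPrime → p ≤ p' → ¬ J ≤ p' → p' = p) : I ≤ p := by
  have hJm : J ≤ IsLocalRing.maximalIdeal A := IsLocalRing.le_maximalIdeal hJ1
  have hpm : p ≠ IsLocalRing.maximalIdeal A := by
    rintro rfl
    exact hp hJm
  let B := A ⧸ p
  let π : A →+* B := Ideal.Quotient.mk p
  have hπ : Function.Surjective π := Ideal.Quotient.mk_surjective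
  haveI : IsLocalRing B := IsLocalRing.of_surjective' π hπ
  have hB : ¬ IsField B := by
    intro h
    have : p.IsMaximal := Ideal.Quotient.maximal_of_isField p h
    exact hpm (IsLocalRing.eq_maximalIdeal this)
  let 𝒮 : Set (Ideal B) := {K | ∃ n : ℕ, 1 ≤ n ∧ K = (J ^ n).map π}
  have hJp : ∀ n : ℕ, ¬ J ^ n ≤ p := fun n h ↦ hp (Ideal.IsPrime.le_of_pow_le h)
  have key : sInf 𝒮 = ⊥ := by
    apply Groth.Agent.S1206.result B hB 𝒮
    · rintro K ⟨n, -, rfl⟩
      exact Ideal.FG.map (Ideal.FG.pow hJ) π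
    · rintro K ⟨n, hn, rfl⟩ K' ⟨n', hn', rfl⟩
      exact ⟨n + n', by omega, by rw [pow_add, Ideal.map_mul]⟩
    · rintro K ⟨n, hn, rfl⟩ h
      rw [Ideal.map_eq_bot_iff_le_ker, Ideal.mk_ker] at h
      exact hJp n h
    · intro q hq hq0
      refine ⟨J.map π, ⟨1, le_rfl, by rw [pow_one]⟩, ?_⟩
      rw [Ideal.map_le_iff_le_comap]
      by_contra hcon
      have h1 : p ≤ q.comap π := by
        intro x hx
        rw [Ideal.mem_comap]
        have : π x = 0 := Ideal.Quotient.eq_zero_iff_mem.mpr hx
        rw [this]; exact q.zero_mem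
      have h2 := hmax (q.comap π) (Ideal.comap_isPrime π q) h1 hcon
      apply hq0
      rw [eq_bot_iff]
      intro b hb
      obtain ⟨a, rfl⟩ := hπ b
      have : a ∈ q.comap π := hb
      rw [h2] at this
      rw [Ideal.mem_bot]
      exact Ideal.Quotient.eq_zero_iff_mem.mpr this
  intro x hx
  have hx' : π x ∈ sInf 𝒮 := by
    rw [Submodule.mem_sInf]
    rintro K ⟨n, hn, rfl⟩
    exact Ideal.mem_map_of_mem π (hI n hn hx)
  rw [key, Ideal.mem_bot] at hx'
  exact Ideal.Quotient.eq_zero_iff_mem.mp hx'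

end Groth.Agent.S1207
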