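import Groth.Statements.S12071
import Mathlib

set_option autoImplicit false
open RootD

namespace Groth.Agent.S12071

section
open DihedralGroup

theorem main (N : Subgroup (DihedralGroup 0)) [N.Normal]
    (hN : N ≠ ⊥) (hx : DihedralGroup.sr (0 : ZMod 0) ∉ N) (hy : DihedralGroup.sr (1 : ZMod 0) ∉ N) :
    ∃ n : ℕ, 0 < n ∧ N = Subgroup.zpowers (DihedralGroup.r (n : ZMod 0)) := by
  have cinj : Function.Injective (Int.cast : ℤ → ZMod 0) := Int.cast_injective
  have hcast : ∀ z : ZMod 0, ∃ k : ℤ, (Int.cast k : ZMod 0) = z := ZMod.intCast_surjective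
  have hsr : ∀ i : ℤ, (sr (Int.cast i : ZMod 0) : DihedralGroup 0) ∉ N := by
    intro i hi
    have h1 : ∀ j : ℤ, (sr (Int.cast (i - 2 * j : ℤ) : ZMod 0) : DihedralGroup 0) ∈ N := by
      intro j
      have := ‹N.Normal›.conj_mem _ hi (r (Int.cast j : ZMod 0))
      rw [r_mul_sr, inv_r, sr_mul_r] at this
      convert this using 2
      push_cast
      ring
    rcases Int.emod_two_eq_zero_or_one i with h | h
    · have := h1 (i / 2)
      have e : i - 2 * (i / 2) = 0 := by omega
      rw [e, Int.cast_zero] at this
      exact hx this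
    · have := h1 (i / 2)
      have e : i - 2 * (i / 2) = 1 := by omega
      rw [e, Int.cast_one] at this
      exact hy this
  let H : AddSubgroup ℤ :=
    { carrier := {k | (r (Int.cast k : ZMod 0) : DihedralGroup 0) ∈ N}
      zero_mem' := by
        show r (Int.cast (0 : ℤ) : ZMod 0) ∈ N
        rw [Int.cast_zero, r_zero]; exact N.one_mem
      add_mem' := by
        intro a b ha hb
        show r (Int.cast (a + b : ℤ) : ZMod 0) ∈ N
        have := N.mul_mem ha hb
        rw [r_mul_r] at this
        rwa [Int.cast_add]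
      neg_mem' := by
        intro a ha
        show r (Int.cast (-a : ℤ) : ZMod 0) ∈ N
        have := N.inv_mem ha
        rw [inv_r] at this
        rwa [Int.cast_neg] }
  have hH : ∀ k : ℤ, k ∈ H ↔ (r (Int.cast k : ZMod 0) : DihedralGroup 0) ∈ N := fun k => Iff.rfl
  obtain ⟨a, ha⟩ := Int.subgroup_cyclic H
  have ha0 : a ≠ 0 := by
    rintro rfl
    apply hN
    rw [eq_bot_iff]
    intro g hg
    rcases g with z | z
    · obtain ⟨k, rfl⟩ := hcast z
      have : k ∈ H := (hH k).mpr hg
      rw [ha, AddSubgroup.mem_closure_singleton] at this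
      obtain ⟨m, hm⟩ := this
      have hk : k = 0 := by simpa using hm.symm
      subst hk
      rw [Int.cast_zero, r_zero]
      exact Subgroup.mem_bot.mpr rfl
    · obtain ⟨k, rfl⟩ := hcast z
      exact absurd hg (hsr k)
  refine ⟨a.natAbs, Int.natAbs_pos.mpr ha0, ?_⟩
  have hnat : ((a.natAbs : ℕ) : ZMod 0) = (Int.cast (a.natAbs : ℤ) : ZMod 0) := by
    simp
  ext g
  rcases g with z | z
  · obtain ⟨k, rfl⟩ := hcast z
    rw [← hH k, ha, Subgroup.mem_zpowers_iff, AddSubgroup.mem_closure_singleton]
    constructor
    · rintro ⟨m, hm⟩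
      rcases Int.natAbs_eq a with h | h
      · refine ⟨m, ?_⟩
        rw [r_zpow, hnat, ← Int.cast_mul]
        congr 2
        rw [← hm, ← h]
        simp [mul_comm]
      · refine ⟨-m, ?_⟩
        rw [r_zpow, hnat, ← Int.cast_mul]
        congr 2
        rw [← hm]
        have : ((a.natAbs : ℤ)) = -a := by omega
        rw [this]
        simp [mul_comm]
    · rintro ⟨m, hm⟩
      rw [r_zpow, hnat, ← Int.cast_mul] at hm
      have h2 : ((a.natAbs : ℤ) * m : ℤ) = k := cinj (r.inj hm)
      rcases Int.natAbs_eq a with h | h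
      · exact ⟨m, by rw [← h2, ← h]; simp [mul_comm]⟩
      · refine ⟨-m, ?_⟩
        have : ((a.natAbs : ℤ)) = -a := by omega
        rw [← h2, this]; simp [mul_comm]
  · obtain ⟨k, rfl⟩ := hcast z
    constructor
    · intro h; exact absurd h (hsr k)
    · rintro ⟨m, hm⟩
      simp only [r_zpow] at hm
      cases hm

end

/-- Let G be the group generated by two elements x, y subject to x² = y² = 1 (the infinite dihedral
group; here Mathlib's DihedralGroup 0 with x = sr 0 and y = sr 1, so that x y = r 1). Then every
normal subgroup of G containing neither x nor y is generated by an element (x y)^n with n > 0; such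
a subgroup is cyclic, generated by r n. (The published statement does not exclude the trivial
subgroup, for which no n > 0 works; this row assumes the subgroup nontrivial.) -/
theorem result (N : Subgroup (DihedralGroup 0)) [N.Normal]
    (hN : N ≠ ⊥) (hx : DihedralGroup.sr (0 : ZMod 0) ∉ N) (hy : DihedralGroup.sr (1 : ZMod 0) ∉ N) :
    ∃ n : ℕ, 0 < n ∧ N = Subgroup.zpowers (DihedralGroup.r (n : ZMod 0)) := by
  exact main N hN hx hy

end Groth.Agent.S12071
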