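import Groth.Statements.S12073
import Groth.Agent.Lib.Helper50.Descent12

set_option autoImplicit false
universe u
open CategoryTheory CategoryTheory.Limits AlgebraicGeometry
open Pi1

namespace Groth.Agent.S12073

/-- Let X = lim X_i be the limit of a cofiltered system of quasi-compact quasi-separated schemes with
affine transition morphisms, given by a limit cone. Then: (1) every finite étale cover of X is
isomorphic, over X, to the base change of a finite étale cover of some X_i; (2) if two morphisms
between finite étale covers of some X_i have the same base change to X, then they have the same base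
change to some X_j with j → i. (Fullness — every morphism over X between base changes comes from
some stage — is part of the published statement and is not stated here; nor is the consequence on
fundamental groups.) -/
theorem result {I : Type u} [SmallCategory I] [IsCofiltered I]
    (D : I ⥤ Scheme.{u}) (c : Limits.Cone D) (hc : Limits.IsLimit c)
    [∀ (i j : I) (f : i ⟶ j), IsAffineHom (D.map f)] [∀ i, CompactSpace (D.obj i)]
    [∀ i, QuasiSeparatedSpace (D.obj i)] :
    (∀ V : FEt.Cat c.pt, ∃ (i : I) (Vi : FEt.Cat (D.obj i)), Nonempty ((FEt.restrict (c.π.app i)).obj Vi ≅ V)) ∧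
    (∀ (i : I) (Vi Wi : FEt.Cat (D.obj i)) (φ ψ : Vi ⟶ Wi),
      (FEt.restrict (c.π.app i)).map φ = (FEt.restrict (c.π.app i)).map ψ →
      ∃ (j : I) (a : j ⟶ i), (FEt.restrict (D.map a)).map φ = (FEt.restrict (D.map a)).map ψ) := by
  open Groth.Agent.Lib.Helper50 Groth.Agent.Lib.Helper50.Descent
    Groth.Agent.Lib.Helper50.StageSetup in
  obtain ⟨i₀⟩ := IsCofiltered.nonempty (C := I)
  have : CompactSpace c.pt := compactSpace_pt D c hc i₀
  have : IsAffineHom (c.π.app i₀) := isAffineHom_π_app D c hc i₀
  have : QuasiSeparatedSpace c.pt := quasiSeparatedSpace_of_quasiSeparated (c.π.app i₀)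
  refine ⟨fun V ↦ ?_, fun i Vi Wi φ ψ h ↦ ?_⟩
  · let v : V.left ⟶ c.pt := V.hom
    have hprop : FEt.prop v := V.prop
    have hfin : IsFinite v := hprop.1
    have het : Etale v := hprop.2
    have : CompactSpace V.left := QuasiCompact.compactSpace_of_compactSpace v
    have : QuasiSeparatedSpace V.left := quasiSeparatedSpace_of_quasiSeparated v
    obtain ⟨i, Xi, fi, q, h1, h2, h3, h4, h5⟩ := exists_descent_with D c hc FEt.prop
      (fun i₁ X₀ X f₀ _ _ _ f qX hX hf ↦ HP_finiteEtale D c hc i₁ f₀ f qX hX hf) v hprop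
    refine ⟨i, MorphismProperty.Over.mk ⊤ fi h4, ⟨?_⟩⟩
    refine MorphismProperty.Over.isoMk h5.isoPullback.symm ?_
    exact h5.isoPullback_inv_snd
  · obtain ⟨vi, hvi⟩ : ∃ v : Vi.left ⟶ D.obj i, v = Vi.hom := ⟨_, rfl⟩
    obtain ⟨wi, hwi⟩ : ∃ v : Wi.left ⟶ D.obj i, v = Wi.hom := ⟨_, rfl⟩
    obtain ⟨φl, hφl⟩ : ∃ m : Vi.left ⟶ Wi.left, m = φ.left := ⟨_, rfl⟩
    obtain ⟨ψl, hψl⟩ : ∃ m : Vi.left ⟶ Wi.left, m = ψ.left := ⟨_, rfl⟩
    have wφ : φl ≫ wi = vi := by rw [hφl, hwi, hvi]; exact MorphismProperty.Over.w φ
    have wψ : ψl ≫ wi = vi := by rw [hψl, hwi, hvi]; exact MorphismProperty.Over.w ψ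
    have hfinV : IsFinite vi := hvi ▸ Vi.prop.1
    have hetW : Etale wi := hwi ▸ Wi.prop.2
    have : CompactSpace Vi.left := QuasiCompact.compactSpace_of_compactSpace vi
    have hY := IsPullback.of_hasPullback vi (c.π.app i)
    have h1 := compactSpace_E D i vi
    let t : E D i vi ⟶ (Functor.const (Over i)).obj (D.obj i) :=
      { app := fun j ↦ γ D i vi j ≫ vi
        naturality := fun j k φ ↦ by
          dsimp only [Functor.const_obj_obj, Functor.const_obj_map]
          rw [Category.comp_id, ← Category.assoc, hγ] }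
    have key : pullback.fst vi (c.π.app i) ≫ φl = pullback.fst vi (c.π.app i) ≫ ψl := by
      have := congrArg (fun m ↦ m.left ≫ pullback.fst Wi.hom (c.π.app i)) h
      simp only [FEt.restrict, MorphismProperty.Over.pullback_map_left] at this
      erw [pullback.lift_fst, pullback.lift_fst] at this
      rw [hφl, hψl, hvi]
      exact this
    obtain ⟨k, hik, hk⟩ := Scheme.exists_hom_comp_eq_comp_of_locallyOfFiniteType
      (E D i vi) t wi
      (cE D c i vi (pullback.snd vi (c.π.app i)) (pullback.fst vi (c.π.app i)) hY)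
      (hcE D c hc i vi (pullback.snd vi (c.π.app i)) (pullback.fst vi (c.π.app i)) hY)
      (i := Over.mk (𝟙 i)) (γ D i vi (Over.mk (𝟙 i)) ≫ φl)
      (γ D i vi (Over.mk (𝟙 i)) ≫ ψl)
      (by dsimp only [t]; rw [Category.assoc, wφ])
      (by dsimp only [t]; rw [Category.assoc, wψ])
      (by
        have e := hb' D c i vi (pullback.snd vi (c.π.app i)) (pullback.fst vi (c.π.app i)) hY
          (Over.mk (𝟙 i))
        rw [← Category.assoc, ← Category.assoc, e]
        exact key)
    rw [← Category.assoc, ← Category.assoc, hγ] at hk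
    refine ⟨k.left, k.hom, ?_⟩
    apply MorphismProperty.Over.Hom.ext
    simp only [FEt.restrict, MorphismProperty.Over.pullback_map_left]
    apply pullback.hom_ext
    · erw [pullback.lift_fst, pullback.lift_fst]
      rw [hφl, hψl, hvi] at hk
      exact hk
    · erw [pullback.lift_snd, pullback.lift_snd]

end Groth.Agent.S12073
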