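import Groth.Statements.S12078
import Mathlib
-- import your own Groth.Agent.* helpers here

set_option autoImplicit false
universe u
open CAlg

namespace Groth.Agent.S12078

/-- An elementary divisor domain is Bézout. Here `R` is a domain such that for all `n, m ≥ 1` and every
`n × m` matrix `A` there are invertible matrices `U` (`n × n`) and `V` (`m × m`) with `U * A * V`
zero off the diagonal and with diagonal entries `f 0 ∣ f 1 ∣ f 2 ∣ …`; the conclusion is that every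
finitely generated ideal of `R` is principal. -/
theorem result (R : Type u) [CommRing R] [IsDomain R]
    (hR : ∀ n m : ℕ, 1 ≤ n → 1 ≤ m → ∀ A : Matrix (Fin n) (Fin m) R,
      ∃ (U : (Matrix (Fin n) (Fin n) R)ˣ) (V : (Matrix (Fin m) (Fin m) R)ˣ) (f : ℕ → R),
        (∀ k : ℕ, f k ∣ f (k + 1)) ∧
        ∀ (i : Fin n) (j : Fin m), ((U : Matrix (Fin n) (Fin n) R) * A * (V : Matrix (Fin m) (Fin m) R)) i j =
          if (i : ℕ) = (j : ℕ) then f i else 0) :
    IsBezout R := by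
  rw [IsBezout.iff_span_pair_isPrincipal]
  intro x y
  obtain ⟨U, V, f, -, hUV⟩ := hR 1 2 le_rfl (by norm_num) !![x, y]
  refine ⟨⟨f 0, ?_⟩⟩
  set A : Matrix (Fin 1) (Fin 2) R := !![x, y] with hA
  set B : Matrix (Fin 1) (Fin 2) R := (U : Matrix (Fin 1) (Fin 1) R) * A * (V : Matrix (Fin 2) (Fin 2) R) with hB
  have hB0 : B 0 0 = f 0 := by
    have := hUV 0 0
    simpa using this
  have hB1 : B 0 1 = 0 := by
    have := hUV 0 1
    simpa using this
  have hAB : A = ((U⁻¹ : (Matrix (Fin 1) (Fin 1) R)ˣ) : Matrix (Fin 1) (Fin 1) R) * B *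
      ((V⁻¹ : (Matrix (Fin 2) (Fin 2) R)ˣ) : Matrix (Fin 2) (Fin 2) R) := by
    rw [hB]
    simp only [← Matrix.mul_assoc]
    rw [Units.inv_mul, Matrix.one_mul, Matrix.mul_assoc, Units.mul_inv, Matrix.mul_one]
  have hx : x = A 0 0 := by simp [hA]
  have hy : y = A 0 1 := by simp [hA]
  have hx' : x = (((U⁻¹ : (Matrix (Fin 1) (Fin 1) R)ˣ) : Matrix (Fin 1) (Fin 1) R) 0 0 *
      ((V⁻¹ : (Matrix (Fin 2) (Fin 2) R)ˣ) : Matrix (Fin 2) (Fin 2) R) 0 0) * f 0 := by
    rw [hx, hAB]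
    simp only [Matrix.mul_apply, Fin.sum_univ_two, Finset.univ_unique, Fin.default_eq_zero,
      Finset.sum_singleton, hB0, hB1]
    ring
  have hy' : y = (((U⁻¹ : (Matrix (Fin 1) (Fin 1) R)ˣ) : Matrix (Fin 1) (Fin 1) R) 0 0 *
      ((V⁻¹ : (Matrix (Fin 2) (Fin 2) R)ˣ) : Matrix (Fin 2) (Fin 2) R) 0 1) * f 0 := by
    rw [hy, hAB]
    simp only [Matrix.mul_apply, Fin.sum_univ_two, Finset.univ_unique, Fin.default_eq_zero,
      Finset.sum_singleton, hB0, hB1]
    ring
  have hf : f 0 = ((U : Matrix (Fin 1) (Fin 1) R) 0 0 * (V : Matrix (Fin 2) (Fin 2) R) 0 0) * x +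
      ((U : Matrix (Fin 1) (Fin 1) R) 0 0 * (V : Matrix (Fin 2) (Fin 2) R) 1 0) * y := by
    rw [← hB0, hB, hx, hy]
    simp only [Matrix.mul_apply, Fin.sum_univ_two, Finset.univ_unique, Fin.default_eq_zero,
      Finset.sum_singleton]
    ring
  apply le_antisymm
  · rw [Ideal.span_le]
    intro z hz
    rcases hz with rfl | rfl
    · rw [SetLike.mem_coe, Ideal.mem_span_singleton']
      exact ⟨_, hx'.symm⟩
    · rw [SetLike.mem_coe, Ideal.mem_span_singleton']
      exact ⟨_, hy'.symm⟩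
  · rw [Ideal.span_le, Set.singleton_subset_iff, SetLike.mem_coe, Ideal.mem_span_pair]
    exact ⟨_, _, hf.symm⟩

end Groth.Agent.S12078
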