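import Groth.Statements.S12079
import Mathlib
-- import your own Groth.Agent.* helpers here

set_option autoImplicit false
universe u
open TensorProduct
open CAlg

namespace Groth.Agent.S12079

section aux
variable (R : Type u) [CommRing R]
    (N L : Type u) [AddCommGroup N] [Module R N] [AddCommGroup L] [Module R L]

/-- naturality of `rTensorHomToHomRTensor` in the first argument -/
theorem natural {P P' : Type u} [AddCommGroup P] [Module R P] [AddCommGroup P'] [Module R P']
    (φ : P' →ₗ[R] P) (t : (P →ₗ[R] N) ⊗[R] L) :
    TensorProduct.rTensorHomToHomRTensor (RingHom.id R) P' N L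
        ((LinearMap.lcomp R N φ).rTensor L t) =
      (TensorProduct.rTensorHomToHomRTensor (RingHom.id R) P N L t) ∘ₗ φ := by
  induction t using TensorProduct.induction_on with
  | zero => simp
  | tmul u l =>
    ext p
    simp
  | add x y hx hy =>
    rw [map_add, map_add, hx, hy, map_add, LinearMap.add_comp]

theorem bij_free (P : Type u) [AddCommGroup P] [Module R P] [Module.Free R P] [Module.Finite R P] :
    Function.Bijective (TensorProduct.rTensorHomToHomRTensor (RingHom.id R) P N L) := by
  rw [← rTensorHomEquivHomRTensor_toLinearMap]
  exact (rTensorHomEquivHomRTensor R P N L).bijective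

end aux

/-- For a finitely presented `R`-module `M`, any `R`-module `N` and a flat `R`-module `L`, the canonical
map `Hom_R(M, N) ⊗_R L → Hom_R(M, N ⊗_R L)` sending `f ⊗ l` to `m ↦ f m ⊗ l` is bijective. -/
theorem result (R : Type u) [CommRing R]
    (M N L : Type u) [AddCommGroup M] [Module R M] [AddCommGroup N] [Module R N] [AddCommGroup L] [Module R L]
    [Module.FinitePresentation R M] [Module.Flat R L] :
    Function.Bijective (TensorProduct.rTensorHomToHomRTensor (RingHom.id R) M N L) := by
  obtain ⟨n, m, f, g, hf, hfg⟩ := Module.FinitePresentation.exists_fin' R M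
  have hinjT : Function.Injective ((LinearMap.lcomp R N f).rTensor L) :=
    Module.Flat.rTensor_preserves_injective_linearMap _
      (LinearMap.lcomp_injective_of_surjective f hf)
  have hexT : Function.Exact ((LinearMap.lcomp R N f).rTensor L) ((LinearMap.lcomp R N g).rTensor L) :=
    Module.Flat.rTensor_exact L (LinearMap.exact_lcomp_of_exact_of_surjective N hfg hf)
  have hinjH : Function.Injective (LinearMap.lcomp R (N ⊗[R] L) f) :=
    LinearMap.lcomp_injective_of_surjective f hf
  have bn := bij_free R N L (Fin n → R)
  have bm := bij_free R N L (Fin m → R)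
  constructor
  · rw [injective_iff_map_eq_zero]
    intro t ht
    apply hinjT
    rw [map_zero]
    apply bn.1
    rw [natural, ht, map_zero, LinearMap.zero_comp]
  · intro h
    obtain ⟨t', ht'⟩ := bn.2 (h ∘ₗ f)
    have h0 : (LinearMap.lcomp R N g).rTensor L t' = 0 := by
      apply bm.1
      rw [natural, ht', map_zero, LinearMap.comp_assoc, hfg.linearMap_comp_eq_zero,
        LinearMap.comp_zero]
    obtain ⟨t, rfl⟩ := (hexT t').mp h0
    refine ⟨t, ?_⟩
    apply hinjH
    rw [natural] at ht'
    exact ht'

end Groth.Agent.S12079
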