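import Groth.Statements.S12081
-- import your own Groth.Agent.* helpers here

set_option autoImplicit false
universe u
open TensorProduct
open EtAlg

namespace Groth.Agent.S12081

/-- Let `B' = B ×_A A'` be a fibre square of rings with `A' → A` surjective with kernel `I`, let `J =
Ker(B' → B)`, let `D'` be a `B'`-algebra and `C' = D' ⊗_{B'} A'`. Then the ideal `I C'` is, as a
subset of `C'`, the image of the ideal `J D'` under `D' → C'`; that is, the map `J D' → I C'` is
surjective. -/
theorem result (B' B A' A : Type u) [CommRing B'] [CommRing B] [CommRing A'] [CommRing A]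
    [Algebra B' B] [Algebra B' A'] [Algebra B A] [Algebra A' A] [Algebra B' A] [IsScalarTower B' B A] [IsScalarTower B' A' A]
    (hsq : EtMil.IsFibreSquare B' B A' A)
    (D' C' : Type u) [CommRing D'] [CommRing C'] [Algebra B' D'] [Algebra A' C']
    [Algebra D' C'] [Algebra B' C'] [IsScalarTower B' A' C'] [IsScalarTower B' D' C'] [Algebra.IsPushout B' A' D' C'] :
    (algebraMap D' C') '' ((RingHom.ker (algebraMap B' B)).map (algebraMap B' D') : Set D') =
      ((RingHom.ker (algebraMap A' A)).map (algebraMap A' C') : Set C') := by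
  classical
  obtain ⟨hsurj, hfib⟩ := hsq
  have hJI : ∀ i ∈ RingHom.ker (algebraMap A' A), ∃ j ∈ RingHom.ker (algebraMap B' B),
      algebraMap B' A' j = i := by
    intro i hi
    have h0 : algebraMap B A 0 = algebraMap A' A i := by
      rw [map_zero]; exact ((RingHom.mem_ker).1 hi).symm
    obtain ⟨b', ⟨hb1, hb2⟩, -⟩ := hfib 0 i h0
    exact ⟨b', (RingHom.mem_ker).2 hb1, hb2⟩
  have hIJ : ∀ j ∈ RingHom.ker (algebraMap B' B), algebraMap B' A' j ∈ RingHom.ker (algebraMap A' A) := by
    intro j hj
    rw [RingHom.mem_ker, ← IsScalarTower.algebraMap_apply B' A' A,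
      IsScalarTower.algebraMap_apply B' B A, (RingHom.mem_ker).1 hj, map_zero]
  have hbc : IsBaseChange A' (IsScalarTower.toAlgHom B' D' C').toLinearMap :=
    Algebra.IsPushout.out
  apply Set.Subset.antisymm
  · rintro _ ⟨d, hd, rfl⟩
    have h1 : algebraMap D' C' d ∈
        ((RingHom.ker (algebraMap B' B)).map (algebraMap B' D')).map (algebraMap D' C') :=
      Ideal.mem_map_of_mem _ hd
    rw [Ideal.map_map, ← IsScalarTower.algebraMap_eq B' D' C',
      IsScalarTower.algebraMap_eq B' A' C', ← Ideal.map_map] at h1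
    refine Ideal.map_mono ?_ h1
    rw [Ideal.map_le_iff_le_comap]
    intro j hj
    exact hIJ j hj
  · intro x hx
    have key : ∀ c : C', ∀ i ∈ RingHom.ker (algebraMap A' A),
        i • c ∈ (algebraMap D' C') '' ((RingHom.ker (algebraMap B' B)).map (algebraMap B' D') : Set D') := by
      intro c
      refine hbc.inductionOn c _ ?_ ?_ ?_ ?_
      · intro i _
        exact ⟨0, Ideal.zero_mem _, by simp⟩
      · intro d i hi
        obtain ⟨j, hj, rfl⟩ := hJI i hi
        refine ⟨algebraMap B' D' j * d, Ideal.mul_mem_right _ _ (Ideal.mem_map_of_mem _ hj), ?_⟩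
        rw [map_mul, ← IsScalarTower.algebraMap_apply B' D' C', IsScalarTower.algebraMap_apply B' A' C',
          Algebra.smul_def]
        rfl
      · intro a c ih i hi
        rw [smul_smul]
        exact ih _ (Ideal.mul_mem_right _ _ hi)
      · intro c₁ c₂ h₁ h₂ i hi
        obtain ⟨d₁, hd₁, e₁⟩ := h₁ i hi
        obtain ⟨d₂, hd₂, e₂⟩ := h₂ i hi
        exact ⟨d₁ + d₂, Ideal.add_mem _ hd₁ hd₂, by rw [map_add, e₁, e₂, smul_add]⟩
    have hx' : x ∈ (RingHom.ker (algebraMap A' A)) • (⊤ : Submodule A' C') := by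
      rw [Ideal.smul_top_eq_map]; exact hx
    refine Submodule.smul_induction_on hx' ?_ ?_
    · intro i hi c _
      exact key c i hi
    · intro c₁ c₂ h₁ h₂
      obtain ⟨d₁, hd₁, e₁⟩ := h₁
      obtain ⟨d₂, hd₂, e₂⟩ := h₂
      exact ⟨d₁ + d₂, Ideal.add_mem _ hd₁ hd₂, by rw [map_add, e₁, e₂]⟩

end Groth.Agent.S12081
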