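import Groth.Statements.S12084
import Groth.Agent.Lib.Helper75.Fitting3
import Mathlib

set_option autoImplicit false
universe u
open Fitt

set_option linter.unusedSectionVars false

namespace Groth.Agent.S12084Aux
open Groth.Agent.Lib.Helper75.Fitting

variable {R : Type u} [CommRing R] {M M' : Type u} [AddCommGroup M] [Module R M]
  [AddCommGroup M'] [Module R M']
variable {ι ι' : Type} [Fintype ι] [DecidableEq ι] [Fintype ι'] [DecidableEq ι']

/-- the combined generating family of `M × M'` -/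
def zz (x : ι → M) (x' : ι' → M') : ι ⊕ ι' → M × M' :=
  Sum.elim (fun i => (x i, 0)) (fun j => (0, x' j))

theorem span_zz (x : ι → M) (x' : ι' → M') (hx : Submodule.span R (Set.range x) = ⊤)
    (hx' : Submodule.span R (Set.range x') = ⊤) :
    Submodule.span R (Set.range (zz x x')) = ⊤ := by
  rw [eq_top_iff]
  rintro ⟨m, m'⟩ -
  have h1 : (m, (0 : M')) ∈ Submodule.span R (Set.range (zz x x')) := by
    have hm : m ∈ Submodule.span R (Set.range x) := by rw [hx]; trivial
    have := Submodule.mem_map_of_mem (f := LinearMap.inl R M M') hm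
    rw [Submodule.map_span] at this
    refine Submodule.span_mono ?_ this
    rintro _ ⟨_, ⟨i, rfl⟩, rfl⟩
    exact ⟨Sum.inl i, rfl⟩
  have h2 : ((0 : M), m') ∈ Submodule.span R (Set.range (zz x x')) := by
    have hm : m' ∈ Submodule.span R (Set.range x') := by rw [hx']; trivial
    have := Submodule.mem_map_of_mem (f := LinearMap.inr R M M') hm
    rw [Submodule.map_span] at this
    refine Submodule.span_mono ?_ this
    rintro _ ⟨_, ⟨i, rfl⟩, rfl⟩
    exact ⟨Sum.inr i, rfl⟩
  have := add_mem h1 h2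
  simpa using this

theorem isRel_zz_iff (x : ι → M) (x' : ι' → M') (r : ι ⊕ ι' → R) :
    IsRel (zz x x') r ↔ IsRel x (fun i => r (Sum.inl i)) ∧ IsRel x' (fun j => r (Sum.inr j)) := by
  unfold IsRel
  rw [Fintype.sum_sum_type]
  simp only [zz, Sum.elim_inl, Sum.elim_inr, Prod.smul_mk, smul_zero]
  rw [Prod.ext_iff]
  simp [Prod.fst_sum, Prod.snd_sum]

/-- the easy inclusion -/
theorem G_mul_le (x : ι → M) (x' : ι' → M') (s s' : ℕ) :
    G R x s * G R x' s' ≤ G R (zz x x') (s + s') := by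
  unfold G
  rw [Ideal.span_mul_span']
  apply Ideal.span_le.mpr
  rintro d ⟨d1, ⟨a, S, hS, hrel, rfl⟩, d2, ⟨a', S', hS', hrel', rfl⟩, rfl⟩
  apply Ideal.subset_span
  refine ⟨Matrix.fromBlocks a 0 0 a', S.disjSum S', ?_, ?_, ?_⟩
  · rw [Finset.card_disjSum]; omega
  · intro r hr
    rw [isRel_zz_iff]
    rcases Finset.mem_disjSum.mp hr with ⟨i, hi, rfl⟩ | ⟨j, hj, rfl⟩
    · refine ⟨?_, ?_⟩
      · exact hrel i hi
      · have : (fun j => Matrix.fromBlocks a 0 0 a' (Sum.inl i) (Sum.inr j)) = (0 : ι' → R) := by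
          funext j; simp
        rw [this]; exact isRel_zero x'
    · refine ⟨?_, ?_⟩
      · have : (fun i => Matrix.fromBlocks a 0 0 a' (Sum.inr j) (Sum.inl i)) = (0 : ι → R) := by
          funext i; simp
        rw [this]; exact isRel_zero x
      · exact hrel' j hj
  · rw [Matrix.det_fromBlocks_zero₂₁]

/-- left / right parts of the rows -/
def rowL (a : Matrix (ι ⊕ ι') (ι ⊕ ι') R) : (ι ⊕ ι') → (ι ⊕ ι') → R :=
  fun r => Sum.elim (fun i => a r (Sum.inl i)) (fun _ => 0)

def rowR (a : Matrix (ι ⊕ ι') (ι ⊕ ι') R) : (ι ⊕ ι') → (ι ⊕ ι') → R :=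
  fun r => Sum.elim (fun _ => 0) (fun j => a r (Sum.inr j))

theorem rowL_add_rowR (a : Matrix (ι ⊕ ι') (ι ⊕ ι') R) : rowL a + rowR a = a := by
  funext r c
  rcases c with i | j <;> simp [rowL, rowR]

/-- the mixed matrix -/
def pw (a : Matrix (ι ⊕ ι') (ι ⊕ ι') R) (T : Finset (ι ⊕ ι')) [DecidablePred (· ∈ T)] :
    Matrix (ι ⊕ ι') (ι ⊕ ι') R :=
  Matrix.of (T.piecewise (rowL a) (rowR a))

theorem pw_of_mem (a : Matrix (ι ⊕ ι') (ι ⊕ ι') R) (T : Finset (ι ⊕ ι')) [DecidablePred (· ∈ T)]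
    {r : ι ⊕ ι'} (hr : r ∈ T) (c : ι ⊕ ι') : pw a T r c = rowL a r c := by
  show (T.piecewise (rowL a) (rowR a)) r c = _
  rw [Finset.piecewise_eq_of_mem _ _ _ hr]

theorem pw_of_notMem (a : Matrix (ι ⊕ ι') (ι ⊕ ι') R) (T : Finset (ι ⊕ ι'))
    [DecidablePred (· ∈ T)]
    {r : ι ⊕ ι'} (hr : r ∉ T) (c : ι ⊕ ι') : pw a T r c = rowR a r c := by
  show (T.piecewise (rowL a) (rowR a)) r c = _
  rw [Finset.piecewise_eq_of_notMem _ _ _ hr]

/-- vanishing of the mixed determinant when the sizes do not match -/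
theorem det_piecewise_eq_zero (a : Matrix (ι ⊕ ι') (ι ⊕ ι') R) (T : Finset (ι ⊕ ι'))
    (hT : T.card ≠ Fintype.card ι) :
    Matrix.det (pw a T) = 0 := by
  classical
  rw [Matrix.det_apply]
  refine Finset.sum_eq_zero fun σ _ => ?_
  have hex : ∃ c, pw a T (σ c) c = 0 := by
    by_contra hcon
    push Not at hcon
    have h1 : ∀ i : ι, σ (Sum.inl i) ∈ T := by
      intro i
      by_contra h
      apply hcon (Sum.inl i)
      rw [pw_of_notMem a T h]
      simp [rowR]
    have h2 : ∀ j : ι', σ (Sum.inr j) ∉ T := by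
      intro j h
      apply hcon (Sum.inr j)
      rw [pw_of_mem a T h]
      simp [rowL]
    have hc1 : Fintype.card ι ≤ T.card := by
      have : (Finset.univ.image (fun i : ι => σ (Sum.inl i))) ⊆ T := by
        intro y hy
        obtain ⟨i, -, rfl⟩ := Finset.mem_image.mp hy
        exact h1 i
      have hcard := Finset.card_le_card this
      rwa [Finset.card_image_of_injective _
        (fun i i2 h => Sum.inl_injective (σ.injective h)), Finset.card_univ] at hcard
    have hc2 : Fintype.card ι' ≤ Tᶜ.card := by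
      have : (Finset.univ.image (fun j : ι' => σ (Sum.inr j))) ⊆ Tᶜ := by
        intro y hy
        obtain ⟨j, -, rfl⟩ := Finset.mem_image.mp hy
        exact Finset.mem_compl.mpr (h2 j)
      have hcard := Finset.card_le_card this
      rwa [Finset.card_image_of_injective _
        (fun i i2 h => Sum.inr_injective (σ.injective h)), Finset.card_univ] at hcard
    have hsum := Finset.card_add_card_compl T
    rw [Fintype.card_sum] at hsum
    omega
  obtain ⟨c, hc⟩ := hex
  have hz : ∏ i, pw a T (σ i) i = 0 := Finset.prod_eq_zero (Finset.mem_univ c) hc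
  rw [hz, smul_zero]

/-- the hard inclusion, one summand -/
theorem det_piecewise_mem (x : ι → M) (x' : ι' → M') (l : ℕ)
    (a : Matrix (ι ⊕ ι') (ι ⊕ ι') R) (S : Finset (ι ⊕ ι'))
    (hS : Fintype.card ι + Fintype.card ι' - l ≤ S.card)
    (hrel : ∀ r ∈ S, IsRel (zz x x') (a r)) (T : Finset (ι ⊕ ι')) :
    Matrix.det (pw a T) ∈
      ∑ k ∈ Finset.range (l + 1),
        G R x (Fintype.card ι - k) * G R x' (Fintype.card ι' - (l - k)) := by
  classical
  by_cases hT : T.card = Fintype.card ι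
  swap
  · rw [det_piecewise_eq_zero a T hT]; exact zero_mem _
  set b : Matrix (ι ⊕ ι') (ι ⊕ ι') R := pw a T with hb
  have hcardT : Fintype.card ι = Fintype.card {r // r ∈ T} := by
    rw [Fintype.card_coe, hT]
  have hcardTc : Fintype.card ι' = Fintype.card {r // ¬ r ∈ T} := by
    rw [Fintype.card_subtype_compl, Fintype.card_coe, Fintype.card_sum, hT]; omega
  let σ : ι ≃ {r // r ∈ T} := Fintype.equivOfCardEq hcardT
  let τ : ι' ≃ {r // ¬ r ∈ T} := Fintype.equivOfCardEq hcardTc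
  let ρ : Equiv.Perm (ι ⊕ ι') := (Equiv.sumCongr σ τ).trans (Equiv.sumCompl (fun r => r ∈ T))
  have hρl : ∀ i, ρ (Sum.inl i) ∈ T := fun i => by
    show ((σ i : {r // r ∈ T}) : ι ⊕ ι') ∈ T
    exact (σ i).2
  have hρr : ∀ j, ρ (Sum.inr j) ∉ T := fun j => by
    show ((τ j : {r // ¬ r ∈ T}) : ι ⊕ ι') ∉ T
    exact (τ j).2
  set c : Matrix (ι ⊕ ι') (ι ⊕ ι') R := b.submatrix ρ id with hc
  have hc21 : c.toBlocks₂₁ = 0 := by
    ext j i
    show b (ρ (Sum.inr j)) (Sum.inl i) = 0
    rw [hb, pw_of_notMem a T (hρr j)]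
    simp [rowR]
  have hcdet : c.det = c.toBlocks₁₁.det * c.toBlocks₂₂.det := by
    conv_lhs => rw [← Matrix.fromBlocks_toBlocks c, hc21]
    exact Matrix.det_fromBlocks_zero₂₁ _ _ _
  have hperm : c.det = (Equiv.Perm.sign ρ : ℤ) * b.det := by
    rw [hc]; exact Matrix.det_permute ρ b
  have hbdet : b.det = ((Equiv.Perm.sign ρ : ℤ) : R) * (c.toBlocks₁₁.det * c.toBlocks₂₂.det) := by
    have hsq : ((Equiv.Perm.sign ρ : ℤˣ) : ℤ) * ((Equiv.Perm.sign ρ : ℤˣ) : ℤ) = 1 := by
      rw [← Units.val_mul, Int.units_mul_self, Units.val_one]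
    rw [← hcdet, hperm, ← mul_assoc, ← Int.cast_mul, hsq, Int.cast_one, one_mul]
  -- relation rows
  set Sρ : Finset (ι ⊕ ι') := S.map ρ.symm.toEmbedding with hSρ
  have hSρmem : ∀ r, r ∈ Sρ ↔ ρ r ∈ S := by
    intro r
    rw [hSρ, Finset.mem_map_equiv, Equiv.symm_symm]
  have hSρcard : Sρ.card = S.card := Finset.card_map _
  have hsplit := Finset.card_toLeft_add_card_toRight (u := Sρ)
  have h11 : c.toBlocks₁₁.det ∈ G R x Sρ.toLeft.card := by
    refine det_mem_G x _ Sρ.toLeft le_rfl fun i hi => ?_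
    have hiS : ρ (Sum.inl i) ∈ S := (hSρmem _).mp (Finset.mem_toLeft.mp hi)
    have hr := ((isRel_zz_iff x x' _).mp (hrel _ hiS)).1
    have : c.toBlocks₁₁ i = fun i2 => a (ρ (Sum.inl i)) (Sum.inl i2) := by
      funext i2
      show b (ρ (Sum.inl i)) (Sum.inl i2) = _
      rw [hb, pw_of_mem a T (hρl i)]
      simp [rowL]
    rw [this]; exact hr
  have h22 : c.toBlocks₂₂.det ∈ G R x' Sρ.toRight.card := by
    refine det_mem_G x' _ Sρ.toRight le_rfl fun j hj => ?_
    have hjS : ρ (Sum.inr j) ∈ S := (hSρmem _).mp (Finset.mem_toRight.mp hj)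
    have hr := ((isRel_zz_iff x x' _).mp (hrel _ hjS)).2
    have : c.toBlocks₂₂ j = fun j2 => a (ρ (Sum.inr j)) (Sum.inr j2) := by
      funext j2
      show b (ρ (Sum.inr j)) (Sum.inr j2) = _
      rw [hb, pw_of_notMem a T (hρr j)]
      simp [rowR]
    rw [this]; exact hr
  have hs1 : Sρ.toLeft.card ≤ Fintype.card ι := Finset.card_le_univ _
  have hs2 : Sρ.toRight.card ≤ Fintype.card ι' := Finset.card_le_univ _
  set k := Fintype.card ι - Sρ.toLeft.card with hk
  have hkl : k ∈ Finset.range (l + 1) := by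
    rw [Finset.mem_range]; omega
  have hle1 : G R x Sρ.toLeft.card ≤ G R x (Fintype.card ι - k) := G_anti x (by omega)
  have hle2 : G R x' Sρ.toRight.card ≤ G R x' (Fintype.card ι' - (l - k)) := G_anti x' (by omega)
  have hmem : c.toBlocks₁₁.det * c.toBlocks₂₂.det ∈
      G R x (Fintype.card ι - k) * G R x' (Fintype.card ι' - (l - k)) :=
    Ideal.mul_mem_mul (hle1 h11) (hle2 h22)
  rw [hbdet]
  refine Ideal.mul_mem_left _ _ ?_
  exact (Finset.single_le_sum_of_canonicallyOrdered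
    (f := fun k => G R x (Fintype.card ι - k) * G R x' (Fintype.card ι' - (l - k))) hkl) hmem

theorem G_zz_le (x : ι → M) (x' : ι' → M') (l : ℕ) :
    G R (zz x x') (Fintype.card ι + Fintype.card ι' - l) ≤
      ∑ k ∈ Finset.range (l + 1),
        G R x (Fintype.card ι - k) * G R x' (Fintype.card ι' - (l - k)) := by
  classical
  rw [G_le_iff]
  intro a S hS hrel
  have hdet : a.det = (Matrix.detRowAlternating (R := R) (n := ι ⊕ ι')).toMultilinearMap
      (rowL a + rowR a) := by
    rw [rowL_add_rowR]; rfl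
  rw [hdet, MultilinearMap.map_add_univ]
  refine Ideal.sum_mem _ fun T _ => ?_
  have := det_piecewise_mem x x' l a S hS hrel T
  exact this

end Groth.Agent.S12084Aux

namespace Groth.Agent.S12084

/-- For finite `R`-modules `M`, `M'` and every `l`, the `l`-th Fitting ideal of `M ⊕ M'` equals `∑_{k +
k' = l} Fit_k(M) · Fit_{k'}(M')`; in particular `Fit_0(M ⊕ M') = Fit_0(M) · Fit_0(M')`. -/
theorem result (R : Type u) [CommRing R] (M M' : Type u) [AddCommGroup M] [Module R M]
    [AddCommGroup M'] [Module R M'] [Module.Finite R M] [Module.Finite R M'] (l : ℕ) :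
    Fitt.ideal R (M × M') l = ∑ k ∈ Finset.range (l + 1), Fitt.ideal R M k * Fitt.ideal R M' (l - k) := by
  classical
  obtain ⟨n, x, hx⟩ := Module.Finite.exists_fin (R := R) (M := M)
  obtain ⟨n', x', hx'⟩ := Module.Finite.exists_fin (R := R) (M := M')
  rw [Groth.Agent.Lib.Helper75.Fitting.fitt_eq_G (Groth.Agent.S12084Aux.zz x x')
    (Groth.Agent.S12084Aux.span_zz x x' hx hx') l]
  have hterm : ∀ k, Fitt.ideal R M k * Fitt.ideal R M' (l - k)
      = Groth.Agent.Lib.Helper75.Fitting.G R x (Fintype.card (Fin n) - k) *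
        Groth.Agent.Lib.Helper75.Fitting.G R x' (Fintype.card (Fin n') - (l - k)) := by
    intro k
    rw [Groth.Agent.Lib.Helper75.Fitting.fitt_eq_G x hx k,
      Groth.Agent.Lib.Helper75.Fitting.fitt_eq_G x' hx' (l - k)]
  rw [Finset.sum_congr rfl fun k _ => hterm k, Fintype.card_sum]
  refine le_antisymm (Groth.Agent.S12084Aux.G_zz_le x x' l) ?_
  rw [Ideal.sum_eq_sup]
  refine Finset.sup_le fun k hk => ?_
  have hk' : k ≤ l := Nat.lt_succ_iff.mp (Finset.mem_range.mp hk)
  refine (Groth.Agent.S12084Aux.G_mul_le x x' _ _).trans ?_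
  exact Groth.Agent.Lib.Helper75.Fitting.G_anti _ (by omega)

end Groth.Agent.S12084
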