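import Groth.Statements.S9474
import Mathlib

set_option autoImplicit false
universe u
open CAlg

namespace Groth.Agent.S9474

section
open TensorProduct

theorem stepA {R S : Type u} [CommRing R] [CommRing S] [Algebra R S]
    [Algebra.FormallyUnramified R S] {n : ℕ}
    (π : MvPolynomial (Fin n) R →ₐ[R] S) (hπ : Function.Surjective π) (k : Fin n) :
    ∃ F : MvPolynomial (Fin n) R, π F = 0 ∧
      ∀ j, π (MvPolynomial.pderiv j F) = if j = k then 1 else 0 := by
  classical
  let _ : Algebra (MvPolynomial (Fin n) R) S := π.toRingHom.toAlgebra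
  have : IsScalarTower R (MvPolynomial (Fin n) R) S :=
    IsScalarTower.of_algebraMap_eq' π.comp_algebraMap.symm
  have hsurj : Function.Surjective (algebraMap (MvPolynomial (Fin n) R) S) := hπ
  have hex := KaehlerDifferential.exact_kerCotangentToTensor_mapBaseChange R
    (MvPolynomial (Fin n) R) S hsurj
  have h0 : KaehlerDifferential.mapBaseChange R (MvPolynomial (Fin n) R) S
      ((1 : S) ⊗ₜ[MvPolynomial (Fin n) R]
        KaehlerDifferential.D R (MvPolynomial (Fin n) R) (MvPolynomial.X k)) = 0 :=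
    Subsingleton.elim _ _
  obtain ⟨y, hy⟩ := (hex _).mp h0
  obtain ⟨⟨F, hF⟩, rfl⟩ := Ideal.toCotangent_surjective _ y
  rw [KaehlerDifferential.kerCotangentToTensor_toCotangent] at hy
  refine ⟨F, RingHom.mem_ker.mp hF, fun j => ?_⟩
  let b := KaehlerDifferential.mvPolynomialBasis R (Fin n)
  have h1 := congrArg (fun z => (b.baseChange S).repr z j) hy
  simp only [Module.Basis.baseChange_repr_tmul, b,
    KaehlerDifferential.mvPolynomialBasis_repr_apply] at h1
  rw [Algebra.smul_def, Algebra.smul_def, mul_one, mul_one, MvPolynomial.pderiv_X] at h1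
  change π (MvPolynomial.pderiv j F) = π _ at h1
  rw [h1, Pi.single_apply]
  by_cases hjk : j = k
  · subst hjk
    simp
  · have hkj : ¬ k = j := fun h => hjk h.symm
    rw [if_neg hjk, if_neg hkj, map_zero]

theorem unram_of_jac {R0 : Type*} [CommRing R0] {n : ℕ}
    (I0 : Ideal (MvPolynomial (Fin n) R0)) (F0 : Fin n → MvPolynomial (Fin n) R0)
    (hF : ∀ k, F0 k ∈ I0)
    (hd : ∀ j k, MvPolynomial.pderiv j (F0 k) - (if j = k then 1 else 0) ∈ I0) :
    Algebra.FormallyUnramified R0 (MvPolynomial (Fin n) R0 ⧸ I0) := by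
  classical
  constructor
  let D := KaehlerDifferential.D R0 (MvPolynomial (Fin n) R0 ⧸ I0)
  let D' : Derivation R0 (MvPolynomial (Fin n) R0) (Ω[(MvPolynomial (Fin n) R0 ⧸ I0)⁄R0]) :=
    D.compAlgebraMap (MvPolynomial (Fin n) R0)
  have hD'apply : ∀ Q, D' Q = D (Ideal.Quotient.mk I0 Q) := fun Q => rfl
  have chain : ∀ Q : MvPolynomial (Fin n) R0,
      D' Q = ∑ i, MvPolynomial.pderiv i Q • D' (MvPolynomial.X i) := by
    intro Q
    let b := KaehlerDifferential.mvPolynomialBasis R0 (Fin n)
    have h1 := b.sum_repr (KaehlerDifferential.D R0 (MvPolynomial (Fin n) R0) Q)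
    have h2 := congrArg D'.liftKaehlerDifferential h1
    rw [Derivation.liftKaehlerDifferential_comp_D, map_sum] at h2
    rw [← h2]
    refine Finset.sum_congr rfl fun i _ => ?_
    rw [map_smul, KaehlerDifferential.mvPolynomialBasis_repr_apply,
      KaehlerDifferential.mvPolynomialBasis_apply, Derivation.liftKaehlerDifferential_comp_D]
  have hkill : ∀ (Q : MvPolynomial (Fin n) R0), Q ∈ I0 →
      ∀ m : Ω[(MvPolynomial (Fin n) R0 ⧸ I0)⁄R0], Q • m = 0 := by
    intro Q hQ m
    rw [← algebraMap_smul (MvPolynomial (Fin n) R0 ⧸ I0) Q m]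
    have : algebraMap (MvPolynomial (Fin n) R0) (MvPolynomial (Fin n) R0 ⧸ I0) Q = 0 :=
      Ideal.Quotient.eq_zero_iff_mem.mpr hQ
    rw [this]
    exact zero_smul (MvPolynomial (Fin n) R0 ⧸ I0) m
  have hX : ∀ k, D' (MvPolynomial.X k) = 0 := by
    intro k
    have h1 : D' (F0 k) = 0 := by
      rw [hD'apply, Ideal.Quotient.eq_zero_iff_mem.mpr (hF k), map_zero]
    rw [chain] at h1
    have h2 : ∀ i, MvPolynomial.pderiv i (F0 k) • D' (MvPolynomial.X i) =
        (if i = k then (1 : MvPolynomial (Fin n) R0) else 0) • D' (MvPolynomial.X i) := by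
      intro i
      rw [← sub_eq_zero, ← sub_smul]
      exact hkill _ (hd i k) _
    simp only [h2] at h1
    simpa using h1
  have hD'0 : D' = 0 := MvPolynomial.derivation_ext (fun i => by rw [hX]; rfl)
  have hDzero : ∀ s, D s = 0 := by
    intro s
    obtain ⟨Q, rfl⟩ := Ideal.Quotient.mk_surjective s
    rw [← hD'apply, hD'0]
    rfl
  have hall : ∀ x : Ω[(MvPolynomial (Fin n) R0 ⧸ I0)⁄R0], x = 0 := by
    intro x
    have hx : x ∈ Submodule.span (MvPolynomial (Fin n) R0 ⧸ I0) (Set.range D) := by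
      rw [KaehlerDifferential.span_range_derivation]; trivial
    induction hx using Submodule.span_induction with
    | mem y hy => obtain ⟨s, rfl⟩ := hy; exact hDzero s
    | zero => rfl
    | add x y _ _ hx hy => rw [hx, hy, add_zero]
    | smul c x _ hx => rw [hx, smul_zero]
  exact ⟨fun x y => by rw [hall x, hall y]⟩

end

open TensorProduct in

open TensorProduct in
/-- If R → S is unramified (of finite type with vanishing module of differentials), then there are a
finite type ℤ-algebra R₀, an unramified R₀-algebra S₀, a ring map R₀ → R, and a surjective R-algebra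
map from R ⊗_{R₀} S₀ onto S. -/
theorem result (R : Type u) [CommRing R] (S : Type u)
    [CommRing S] [Algebra R S] [Algebra.Unramified R S] :
    ∃ (R₀ : Type u) (_ : CommRing R₀) (_ : Algebra.FiniteType ℤ R₀) (S₀ : Type u) (_ : CommRing S₀)
      (_ : Algebra R₀ S₀) (_ : Algebra.Unramified R₀ S₀) (_ : Algebra R₀ R)
      (ψ : R ⊗[R₀] S₀ →ₐ[R] S), Function.Surjective ψ := by
  classical
  obtain ⟨n, π, hπ⟩ := Algebra.FiniteType.iff_quotient_mvPolynomial''.mp
    (inferInstance : Algebra.FiniteType R S)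
  choose F hF0 hFd using fun k => stepA π hπ k
  let CC : Finset R := Finset.univ.biUnion fun k => (F k).coeffs
  let R0 : Subalgebra ℤ R := Algebra.adjoin ℤ (CC : Set R)
  have hlift : ∀ k, ∃ Q0 : MvPolynomial (Fin n) R0,
      MvPolynomial.map (algebraMap R0 R) Q0 = F k := by
    intro k
    have : F k ∈ Set.range (MvPolynomial.map (algebraMap R0 R)) := by
      rw [MvPolynomial.mem_range_map_iff_coeffs_subset]
      intro a ha
      exact ⟨⟨a, Algebra.subset_adjoin (Finset.mem_coe.mpr
        (Finset.mem_biUnion.mpr ⟨k, Finset.mem_univ _, ha⟩))⟩, rfl⟩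
    exact this
  choose F0 hF0map using hlift
  let I0 : Ideal (MvPolynomial (Fin n) R0) := Ideal.span
    (Set.range F0 ∪ Set.range (fun x : Fin n × Fin n =>
      MvPolynomial.pderiv x.1 (F0 x.2) - (if x.1 = x.2 then 1 else 0)))
  have hft : Algebra.FiniteType ℤ R0 :=
    (Subalgebra.fg_iff_finiteType R0).mp (Subalgebra.fg_adjoin_finset CC)
  have hfu : Algebra.FormallyUnramified R0 (MvPolynomial (Fin n) R0 ⧸ I0) :=
    unram_of_jac I0 F0 (fun k => Ideal.subset_span (Or.inl ⟨k, rfl⟩))
      (fun j k => Ideal.subset_span (Or.inr ⟨(j, k), rfl⟩))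
  have hft2 : Algebra.FiniteType R0 (MvPolynomial (Fin n) R0 ⧸ I0) :=
    Algebra.FiniteType.of_surjective (Ideal.Quotient.mkₐ R0 I0)
      (Ideal.Quotient.mkₐ_surjective R0 I0)
  let g' : MvPolynomial (Fin n) R0 →ₐ[R0] S := MvPolynomial.aeval (fun i => π (MvPolynomial.X i))
  have hg' : ∀ Q, g' Q = π (MvPolynomial.map (algebraMap R0 R) Q) := by
    intro Q
    induction Q using MvPolynomial.induction_on with
    | C a =>
      simp only [g', MvPolynomial.aeval_C, MvPolynomial.map_C]
      rw [← MvPolynomial.algebraMap_eq, AlgHom.commutes]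
      rfl
    | add x y hx hy => rw [map_add, map_add, map_add, hx, hy]
    | mul_X x i hx =>
      rw [map_mul, map_mul, map_mul, hx]
      simp [g']
  have hg'I : ∀ a ∈ I0, g' a = 0 := by
    intro a ha
    have : I0 ≤ RingHom.ker g'.toRingHom := by
      rw [Ideal.span_le]
      rintro _ (⟨k, rfl⟩ | ⟨⟨j, k⟩, rfl⟩)
      · change g' (F0 k) = 0
        rw [hg', hF0map, hF0]
      · change g' _ = 0
        rw [hg', map_sub, ← MvPolynomial.pderiv_map, hF0map, map_sub, hFd]
        simp only
        split_ifs <;> simp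
    exact this ha
  let g : (MvPolynomial (Fin n) R0 ⧸ I0) →ₐ[R0] S := Ideal.Quotient.liftₐ I0 g' hg'I
  let ψ : R ⊗[R0] (MvPolynomial (Fin n) R0 ⧸ I0) →ₐ[R] S :=
    Algebra.TensorProduct.lift (Algebra.ofId R S) g (fun _ _ => Commute.all _ _)
  refine ⟨R0, inferInstance, hft, MvPolynomial (Fin n) R0 ⧸ I0, inferInstance, inferInstance,
    ⟨hfu, hft2⟩, inferInstance, ψ, ?_⟩
  have hrange : ∀ Q : MvPolynomial (Fin n) R, π Q ∈ ψ.range := by
    intro Q
    induction Q using MvPolynomial.induction_on with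
    | C a =>
      rw [← MvPolynomial.algebraMap_eq, AlgHom.commutes]
      exact Subalgebra.algebraMap_mem _ _
    | add x y hx hy => rw [map_add]; exact Subalgebra.add_mem _ hx hy
    | mul_X x i hx =>
      rw [map_mul]
      refine Subalgebra.mul_mem _ hx ?_
      have hψX : ψ ((1 : R) ⊗ₜ[R0] (Ideal.Quotient.mk I0 (MvPolynomial.X i))) =
          π (MvPolynomial.X i) := by
        rw [Algebra.TensorProduct.lift_tmul, map_one, one_mul]
        change g' (MvPolynomial.X i) = _
        simp [g']
      rw [← hψX]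
      exact AlgHom.mem_range_self _ _
  intro s
  obtain ⟨Q, rfl⟩ := hπ s
  exact hrange Q

end Groth.Agent.S9474
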