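import Groth.Statements.S12085
import Groth.Agent.S9474
import Mathlib

set_option autoImplicit false
universe u
open TensorProduct
open CAlg

namespace Groth.Agent.S12085

/-- If `R → S` is G-unramified (of finite presentation and formally unramified), then there are a finite
type `ℤ`-algebra `R₀`, a ring map `R₀ → R` and a G-unramified ring map `R₀ → S₀` such that `S ≅ R
⊗_{R₀} S₀` as `R`-algebras (existence of an isomorphism). -/
theorem result (R : Type u) [CommRing R] (S : Type u) [CommRing S]
    [Algebra R S] [Algebra.FinitePresentation R S] [Algebra.FormallyUnramified R S] :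
    ∃ (R₀ : Type u) (_ : CommRing R₀) (_ : Algebra.FiniteType ℤ R₀) (S₀ : Type u) (_ : CommRing S₀)
      (_ : Algebra R₀ S₀) (_ : Algebra.FinitePresentation R₀ S₀) (_ : Algebra.FormallyUnramified R₀ S₀)
      (_ : Algebra R₀ R), Nonempty (R ⊗[R₀] S₀ ≃ₐ[R] S) := by
  classical
  obtain ⟨n, m, ⟨P⟩⟩ := Algebra.Presentation.exists_presentation_fin R S
  let π : MvPolynomial (Fin n) R →ₐ[R] S := MvPolynomial.aeval P.val
  have hπ : Function.Surjective π := P.aeval_val_surjective
  have hmem : ∀ Q : MvPolynomial (Fin n) R, π Q = 0 →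
      Q ∈ Ideal.span (Set.range P.relation) := by
    intro Q hQ
    rw [P.span_range_relation_eq_ker, P.ker_eq_ker_aeval_val]
    exact RingHom.mem_ker.mpr hQ
  choose F hF0 hFd using fun k => Groth.Agent.S9474.stepA π hπ k
  choose a ha using fun k => Ideal.mem_span_range_iff_exists_fun.mp (hmem (F k) (hF0 k))
  have hd' : ∀ j k, π (MvPolynomial.pderiv j (F k) - (if j = k then 1 else 0)) = 0 := by
    intro j k
    rw [map_sub, hFd]
    split_ifs <;> simp
  choose b hb using fun j k => Ideal.mem_span_range_iff_exists_fun.mp (hmem _ (hd' j k))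
  let CC : Finset R := (Finset.univ.biUnion fun l => (P.relation l).coeffs) ∪
    (Finset.univ.biUnion fun x : Fin n × Fin m => (a x.1 x.2).coeffs) ∪
    (Finset.univ.biUnion fun x : Fin n × Fin n × Fin m => (b x.1 x.2.1 x.2.2).coeffs)
  let R0 : Subalgebra ℤ R := Algebra.adjoin ℤ (CC : Set R)
  have hcoef : P.HasCoeffs R0 := ⟨by
    intro c hc
    rw [Algebra.Presentation.coeffs, Set.mem_iUnion] at hc
    obtain ⟨l, hl⟩ := hc
    refine ⟨⟨c, Algebra.subset_adjoin ?_⟩, rfl⟩
    simp only [CC, Finset.coe_union, Set.mem_union, Finset.mem_coe, Finset.mem_biUnion,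
      Finset.mem_univ, true_and]
    exact Or.inl (Or.inl ⟨l, hl⟩)⟩
  have hft : Algebra.FiniteType ℤ R0 :=
    (Subalgebra.fg_iff_finiteType R0).mp (Subalgebra.fg_adjoin_finset CC)
  let ι : MvPolynomial (Fin n) R0 →+* MvPolynomial (Fin n) R := MvPolynomial.map (algebraMap R0 R)
  have hι : Function.Injective ι := MvPolynomial.map_injective _ Subtype.val_injective
  have hlift : ∀ Q : MvPolynomial (Fin n) R, (∀ c ∈ Q.coeffs, c ∈ CC) → ∃ Q0, ι Q0 = Q := by
    intro Q hQ
    have : Q ∈ Set.range (MvPolynomial.map (algebraMap R0 R)) := by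
      rw [MvPolynomial.mem_range_map_iff_coeffs_subset]
      intro c hc
      exact ⟨⟨c, Algebra.subset_adjoin (Finset.mem_coe.mpr (hQ c hc))⟩, rfl⟩
    exact this
  have ha0 : ∀ k l, ∃ Q0, ι Q0 = a k l := fun k l => hlift _ (fun c hc => by
    simp only [CC, Finset.mem_union, Finset.mem_biUnion, Finset.mem_univ, true_and]
    exact Or.inl (Or.inr ⟨(k, l), hc⟩))
  have hb0 : ∀ j k l, ∃ Q0, ι Q0 = b j k l := fun j k l => hlift _ (fun c hc => by
    simp only [CC, Finset.mem_union, Finset.mem_biUnion, Finset.mem_univ, true_and]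
    exact Or.inr ⟨(j, k, l), hc⟩)
  choose a0 ha0 using ha0
  choose b0 hb0 using hb0
  let rel0 : Fin m → MvPolynomial (Fin n) R0 := P.relationOfHasCoeffs R0
  have hrel0 : ∀ l, ι (rel0 l) = P.relation l := fun l => P.map_relationOfHasCoeffs R0 l
  let I0 : Ideal (MvPolynomial (Fin n) R0) := Ideal.span (Set.range rel0)
  let F0 : Fin n → MvPolynomial (Fin n) R0 := fun k => ∑ l, a0 k l * rel0 l
  have hsum : ∀ c : Fin m → MvPolynomial (Fin n) R0, ∑ l, c l * rel0 l ∈ I0 := fun c =>
    Ideal.sum_mem _ fun l _ => Ideal.mul_mem_left _ _ (Ideal.subset_span ⟨l, rfl⟩)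
  have hF0map : ∀ k, ι (F0 k) = F k := by
    intro k
    rw [← ha k]
    simp only [F0, map_sum, map_mul, ha0, hrel0]
  have hd0 : ∀ j k, MvPolynomial.pderiv j (F0 k) - (if j = k then 1 else 0) ∈ I0 := by
    intro j k
    have : MvPolynomial.pderiv j (F0 k) - (if j = k then 1 else 0) = ∑ l, b0 j k l * rel0 l := by
      apply hι
      have hite : ι (if j = k then 1 else 0) = if j = k then 1 else 0 := by
        split_ifs <;> simp
      rw [map_sub, hite]
      change MvPolynomial.map (algebraMap R0 R) (MvPolynomial.pderiv j (F0 k)) - _ = _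
      rw [← MvPolynomial.pderiv_map]
      change MvPolynomial.pderiv j (ι (F0 k)) - _ = _
      rw [hF0map, ← hb j k]
      simp only [map_sum, map_mul, hb0, hrel0]
    rw [this]
    exact hsum _
  have hfu : Algebra.FormallyUnramified R0 (MvPolynomial (Fin n) R0 ⧸ I0) :=
    Groth.Agent.S9474.unram_of_jac I0 F0 (fun k => hsum _) hd0
  exact ⟨R0, inferInstance, hft, P.ModelOfHasCoeffs R0, inferInstance, inferInstance,
    inferInstance, hfu, inferInstance, ⟨P.tensorModelOfHasCoeffsEquiv R0⟩⟩

end Groth.Agent.S12085
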