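import Groth.Statements.S12086
import Groth.Agent.Lib.Helper98.KoszulLES

set_option autoImplicit false
universe u
open CategoryTheory CategoryTheory.Limits MonoidalCategory CategoryTheory.Pretriangulated HomologicalComplex CochainComplex HomComplex
open DRing

namespace Groth.Agent.S12086

section Helpers

variable {R : Type u} [CommRing R]

attribute [local instance] HasDerivedCategory.standard

/-- right whiskering preserves homotopies -/
noncomputable def homotopyWhiskerRight {K K' : DRing.Cx R} {f g : K ⟶ K'} (h : Homotopy f g) (M : DRing.Cx R) :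
    Homotopy (f ▷ M) (g ▷ M) :=
  (Cochain.equivHomotopy _ _).symm ⟨Helper98.KoszulTensor.wr (Cochain.equivHomotopy _ _ h).1 M, by
    have h2 := (Cochain.equivHomotopy _ _ h).2
    rw [Helper98.KoszulTensor.δ_wr _ _ _ (by omega), ← Helper98.KoszulTensor.wr_ofHom,
      ← Helper98.KoszulTensor.wr_ofHom, ← Helper98.KoszulTensor.wr_add, ← h2]⟩

lemma whiskerLeft_eq (M : DRing.Cx R) {K K' : DRing.Cx R} (f : K ⟶ K') :
    M ◁ f = (DTen.braidCx M K).hom ≫ (f ▷ M) ≫ (DTen.braidCx M K').inv := by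
  have := DTen.braidCx_naturality (𝟙 M) f
  rw [id_tensorHom, tensorHom_id] at this
  rw [← Category.assoc, ← this, Category.assoc, Iso.hom_inv_id, Category.comp_id]

/-- left whiskering preserves homotopies -/
noncomputable def homotopyWhiskerLeft (M : DRing.Cx R) {K K' : DRing.Cx R} {f g : K ⟶ K'} (h : Homotopy f g) :
    Homotopy (M ◁ f) (M ◁ g) := by
  rw [whiskerLeft_eq, whiskerLeft_eq]
  exact ((homotopyWhiskerRight h M).compRight _).compLeft _

/-- homotopy equivalent complexes have isomorphic homology after tensoring -/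
lemma homology_tensor_iso_of_homotopyEquiv (M : DRing.Cx R) {K K' : DRing.Cx R} (e : HomotopyEquiv K K') (i : ℤ) :
    Nonempty ((M ⊗ K).homology i ≅ (M ⊗ K').homology i) := by
  refine ⟨⟨homologyMap (M ◁ e.hom) i, homologyMap (M ◁ e.inv) i, ?_, ?_⟩⟩
  · rw [← homologyMap_comp, ← MonoidalCategory.whiskerLeft_comp]
    rw [(homotopyWhiskerLeft M e.homotopyHomInvId).homologyMap_eq i]
    rw [MonoidalCategory.whiskerLeft_id, homologyMap_id]
  · rw [← homologyMap_comp, ← MonoidalCategory.whiskerLeft_comp]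
    rw [(homotopyWhiskerLeft M e.homotopyInvHomId).homologyMap_eq i]
    rw [MonoidalCategory.whiskerLeft_id, homologyMap_id]


/-- acyclicity -/
def Acyc (X : DRing.Cx R) : Prop := ∀ i : ℤ, IsZero (X.homology i)

lemma Acyc.of_iso {X Y : DRing.Cx R} (e : X ≅ Y) (h : Acyc X) : Acyc Y := fun i =>
  IsZero.of_iso (h i) ((HomologicalComplex.homologyFunctor _ _ i).mapIso e.symm)

lemma cone_dist {X Y : DRing.Cx R} (ψ : X ⟶ Y) :
    DerivedCategory.Q.mapTriangle.obj (mappingCone.triangle ψ) ∈ distTriang _ :=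
  DerivedCategory.mappingCone_triangle_distinguished _

lemma acyc_cone {X Y : DRing.Cx R} (ψ : X ⟶ Y) (hX : Acyc X) (hY : Acyc Y) : Acyc (mappingCone ψ) := by
  intro i
  have e3 := CochainComplex.homologyMap_exact₃_of_distTriang _ (cone_dist ψ) i (i + 1) rfl
  exact e3.isZero_of_both_zeros ((hY i).eq_of_src _ _) ((hX (i + 1)).eq_of_tgt _ _)

lemma acyc_tgt {X Y : DRing.Cx R} (ψ : X ⟶ Y) (hX : Acyc X) (hC : Acyc (mappingCone ψ)) : Acyc Y := by
  intro i
  have e2 := CochainComplex.homologyMap_exact₂_of_distTriang _ (cone_dist ψ) i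
  exact e2.isZero_of_both_zeros ((hX i).eq_of_src _ _) ((hC i).eq_of_tgt _ _)

lemma acyc_src {X Y : DRing.Cx R} (ψ : X ⟶ Y) (hY : Acyc Y) (hC : Acyc (mappingCone ψ)) : Acyc X := by
  intro i
  have e1 := CochainComplex.homologyMap_exact₁_of_distTriang _ (cone_dist ψ) (i - 1) i (by omega)
  exact e1.isZero_of_both_zeros ((hC (i - 1)).eq_of_src _ _) ((hY i).eq_of_tgt _ _)

/-- K-flatness (as in the statement) -/
def KF (X : DRing.Cx R) : Prop := ∀ L : DRing.Cx R, (∀ i : ℤ, IsZero (L.homology i)) → ∀ i : ℤ, IsZero ((L ⊗ X).homology i)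

lemma KF.of_homotopyEquiv {X Y : DRing.Cx R} (e : HomotopyEquiv X Y) (h : KF X) : KF Y := by
  intro L hL i
  obtain ⟨c⟩ := homology_tensor_iso_of_homotopyEquiv L e i
  exact IsZero.of_iso (h L hL i) c.symm

lemma kf_iff_right (X : DRing.Cx R) : KF X ↔ ∀ L : DRing.Cx R, Acyc L → Acyc (X ⊗ L) := by
  constructor
  · intro h L hL
    exact Acyc.of_iso (DTen.braidCx L X) (h L hL)
  · intro h L hL
    exact Acyc.of_iso (DTen.braidCx X L) (h L hL)

lemma kf_cone {X Y : DRing.Cx R} (φ : X ⟶ Y) (hX : KF X) (hY : KF Y) : KF (mappingCone φ) := by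
  rw [kf_iff_right] at hX hY ⊢
  intro L hL
  exact Acyc.of_iso (Helper98.KoszulTensor.coneTensorIso φ L).symm (acyc_cone (φ ▷ L) (hX L hL) (hY L hL))

lemma kf_tgt {X Y : DRing.Cx R} (φ : X ⟶ Y) (hX : KF X) (hC : KF (mappingCone φ)) : KF Y := by
  rw [kf_iff_right] at hX hC ⊢
  intro L hL
  exact acyc_tgt (φ ▷ L) (hX L hL) (Acyc.of_iso (Helper98.KoszulTensor.coneTensorIso φ L) (hC L hL))

lemma kf_src {X Y : DRing.Cx R} (φ : X ⟶ Y) (hY : KF Y) (hC : KF (mappingCone φ)) : KF X := by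
  rw [kf_iff_right] at hY hC ⊢
  intro L hL
  exact acyc_src (φ ▷ L) (hY L hL) (Acyc.of_iso (Helper98.KoszulTensor.coneTensorIso φ L) (hC L hL))

theorem main (R : Type u) [CommRing R]
    (T : Pretriangulated.Triangle (HomotopyCategory (ModuleCat.{u} R) (ComplexShape.up ℤ)))
    (hT : T ∈ Pretriangulated.distinguishedTriangles) :
    (KF T.obj₁.as → KF T.obj₂.as → KF T.obj₃.as) ∧ (KF T.obj₁.as → KF T.obj₃.as → KF T.obj₂.as) ∧
      (KF T.obj₂.as → KF T.obj₃.as → KF T.obj₁.as) := by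
  obtain ⟨X, Y, φ, ⟨e⟩⟩ := hT
  have e1 : HomotopyEquiv T.obj₁.as X := HomotopyCategory.homotopyEquivOfIso (Triangle.π₁.mapIso e)
  have e2 : HomotopyEquiv T.obj₂.as Y := HomotopyCategory.homotopyEquivOfIso (Triangle.π₂.mapIso e)
  have e3 : HomotopyEquiv T.obj₃.as (mappingCone φ) := HomotopyCategory.homotopyEquivOfIso (Triangle.π₃.mapIso e)
  refine ⟨fun h1 h2 => ?_, fun h1 h3 => ?_, fun h2 h3 => ?_⟩
  · exact KF.of_homotopyEquiv e3.symm (kf_cone φ (KF.of_homotopyEquiv e1 h1) (KF.of_homotopyEquiv e2 h2))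
  · exact KF.of_homotopyEquiv e2.symm (kf_tgt φ (KF.of_homotopyEquiv e1 h1) (KF.of_homotopyEquiv e3 h3))
  · exact KF.of_homotopyEquiv e1.symm (kf_src φ (KF.of_homotopyEquiv e2 h2) (KF.of_homotopyEquiv e3 h3))

end Helpers


/-- Let `(K₁•, K₂•, K₃•)` be a distinguished triangle in the homotopy category `K(R)` of complexes of
`R`-modules. If two out of the three complexes are K-flat (tensoring with them carries acyclic
complexes to acyclic complexes), then so is the third. -/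
theorem result (R : Type u) [CommRing R]
    (T : Pretriangulated.Triangle (HomotopyCategory (ModuleCat.{u} R) (ComplexShape.up ℤ)))
    (hT : T ∈ Pretriangulated.distinguishedTriangles) :
    ((∀ L : DRing.Cx R, (∀ i : ℤ, IsZero (L.homology i)) → ∀ i : ℤ, IsZero ((L ⊗ T.obj₁.as).homology i)) → (∀ L : DRing.Cx R, (∀ i : ℤ, IsZero (L.homology i)) → ∀ i : ℤ, IsZero ((L ⊗ T.obj₂.as).homology i)) → (∀ L : DRing.Cx R, (∀ i : ℤ, IsZero (L.homology i)) → ∀ i : ℤ, IsZero ((L ⊗ T.obj₃.as).homology i))) ∧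
    ((∀ L : DRing.Cx R, (∀ i : ℤ, IsZero (L.homology i)) → ∀ i : ℤ, IsZero ((L ⊗ T.obj₁.as).homology i)) → (∀ L : DRing.Cx R, (∀ i : ℤ, IsZero (L.homology i)) → ∀ i : ℤ, IsZero ((L ⊗ T.obj₃.as).homology i)) → (∀ L : DRing.Cx R, (∀ i : ℤ, IsZero (L.homology i)) → ∀ i : ℤ, IsZero ((L ⊗ T.obj₂.as).homology i))) ∧
    ((∀ L : DRing.Cx R, (∀ i : ℤ, IsZero (L.homology i)) → ∀ i : ℤ, IsZero ((L ⊗ T.obj₂.as).homology i)) → (∀ L : DRing.Cx R, (∀ i : ℤ, IsZero (L.homology i)) → ∀ i : ℤ, IsZero ((L ⊗ T.obj₃.as).homology i)) → (∀ L : DRing.Cx R, (∀ i : ℤ, IsZero (L.homology i)) → ∀ i : ℤ, IsZero ((L ⊗ T.obj₁.as).homology i))) := by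
  exact main R T hT

end Groth.Agent.S12086
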