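import Groth.Statements.S12091
import Mathlib
-- import your own Groth.Agent.* helpers here

set_option autoImplicit false
universe u
open TensorProduct MvPolynomial
open FlatMor

namespace Groth.Agent.S12091

section aux

variable {A : Type u} [CommRing A] {M : Type u} [AddCommGroup M] [Module A M] {m : ℕ}

/-- the linear form attached to a vector of coefficients -/
noncomputable def lin : (Fin m → A) →ₗ[A] MvPolynomial (Fin m) A where
  toFun v := ∑ j, C (v j) * X j
  map_add' v w := by
    simp only [Pi.add_apply, C_add, add_mul, Finset.sum_add_distrib]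
  map_smul' c v := by
    simp only [Pi.smul_apply, smul_eq_mul, C_mul, RingHom.id_apply, Finset.smul_sum,
      MvPolynomial.smul_eq_C_mul, mul_assoc]

theorem lin_apply (v : Fin m → A) : lin v = ∑ j, C (v j) * X j := rfl

theorem lin_single (j : Fin m) : lin (Pi.single j (1 : A)) = (X j : MvPolynomial (Fin m) A) := by
  classical
  rw [lin_apply, Finset.sum_eq_single j]
  · simp
  · intro i _ hij
    simp [Pi.single_eq_of_ne hij]
  · intro h
    exact absurd (Finset.mem_univ j) h

variable (x : Fin m → M) (G : Algebra.Generators A (SymmetricAlgebra A M) (Fin m))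
  (hG : ∀ j, G.val j = SymmetricAlgebra.ι A M (x j))

include hG in
theorem aeval_lin (v : Fin m → A) :
    aeval G.val (lin v) = SymmetricAlgebra.ι A M (Fintype.linearCombination A x v) := by
  rw [lin_apply, map_sum, Fintype.linearCombination_apply, map_sum]
  refine Finset.sum_congr rfl (fun j _ => ?_)
  rw [map_mul, aeval_C, aeval_X, hG, map_smul, Algebra.smul_def]

include hG in
theorem lin_mem_ker (k : LinearMap.ker (Fintype.linearCombination A x)) :
    lin (k : Fin m → A) ∈ G.toExtension.ker := by
  change algebraMap G.Ring (SymmetricAlgebra A M) (lin (k : Fin m → A)) = 0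
  rw [G.algebraMap_apply, aeval_lin x G hG, LinearMap.mem_ker.mp k.2, map_zero]

include hG in
theorem ker_eq_span (hx : Function.Surjective (Fintype.linearCombination A x)) :
    Ideal.span (Set.range (fun k : LinearMap.ker (Fintype.linearCombination A x) =>
      lin (k : Fin m → A))) = G.toExtension.ker := by
  set J₀ : Ideal (MvPolynomial (Fin m) A) :=
    Ideal.span (Set.range (fun k : LinearMap.ker (Fintype.linearCombination A x) =>
      lin (k : Fin m → A))) with hJ₀
  apply le_antisymm
  · rw [hJ₀, Ideal.span_le]
    rintro _ ⟨k, rfl⟩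
    exact lin_mem_ker x G hG k
  · let L : (Fin m → A) →ₗ[A] (MvPolynomial (Fin m) A ⧸ J₀) :=
      (Ideal.Quotient.mkₐ A J₀).toLinearMap ∘ₗ lin
    have hL : LinearMap.ker (Fintype.linearCombination A x) ≤ LinearMap.ker L := by
      intro v hv
      rw [LinearMap.mem_ker]
      change Ideal.Quotient.mk J₀ (lin v) = 0
      rw [Ideal.Quotient.eq_zero_iff_mem]
      exact Ideal.subset_span ⟨⟨v, hv⟩, rfl⟩
    let g : M →ₗ[A] (MvPolynomial (Fin m) A ⧸ J₀) :=
      (Submodule.liftQ _ L hL) ∘ₗ
        ((Fintype.linearCombination A x).quotKerEquivOfSurjective hx).symm.toLinearMap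
    have hg : ∀ v, g (Fintype.linearCombination A x v) = L v := by
      intro v
      have : ((Fintype.linearCombination A x).quotKerEquivOfSurjective hx).symm
          (Fintype.linearCombination A x v) = Submodule.Quotient.mk v := by
        rw [LinearEquiv.symm_apply_eq]
        rfl
      simp only [g, LinearMap.comp_apply, LinearEquiv.coe_coe, this, Submodule.liftQ_apply]
    let φ : SymmetricAlgebra A M →ₐ[A] (MvPolynomial (Fin m) A ⧸ J₀) := SymmetricAlgebra.lift g
    have hφ : φ.comp (aeval G.val) = Ideal.Quotient.mkₐ A J₀ := by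
      apply MvPolynomial.algHom_ext
      intro j
      have hxj : x j = Fintype.linearCombination A x (Pi.single j 1) := by
        classical
        rw [Fintype.linearCombination_apply_single, one_smul]
      rw [AlgHom.comp_apply, aeval_X, hG, SymmetricAlgebra.lift_ι_apply, hxj, hg]
      change Ideal.Quotient.mk J₀ (lin (Pi.single j 1)) = _
      rw [lin_single]
      rfl
    intro p hp
    have hp' : algebraMap G.Ring (SymmetricAlgebra A M) p = 0 := hp
    rw [G.algebraMap_apply] at hp'
    have : Ideal.Quotient.mkₐ A J₀ p = 0 := by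
      rw [← hφ, AlgHom.comp_apply, hp', map_zero]
    exact Ideal.Quotient.eq_zero_iff_mem.mp this

end aux

/-- Let `x_1, …, x_m` generate the `A`-module `M`, let `K ⊆ A^m` be the module of relations, `C =
Sym_A(M)` and `α : A[y_1, …, y_m] → C` the presentation with `y_j ↦ x_j`, with kernel `J`. Then the
`C`-linear map `C ⊗_A K → J/J²` sending `1 ⊗ k` to the class of `Σ_j k_j y_j` is surjective, and it
is bijective when `M` is a projective `A`-module (so that then `J/J² ≅ K ⊗_A C` and the naive
cotangent complex of `α` is `K ⊗_A C → ⊕_j C dy_j`). (The published statement asserts `J/J² ≅ K ⊗_A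
C` for every `M`. For `A = ℤ`, `M = (ℤ/2)²`, `m = 2` and the two unit vectors, `K = 2ℤ²` and the
element `y_2 ⊗ (2, 0) - y_1 ⊗ (0, 2)` of `C ⊗_A K` is non-zero but maps to the class of `y_2 · 2y_1
- y_1 · 2y_2 = 0`; in degree `2` the graded piece of `J/J²` has `8` elements and that of `K ⊗_A C`
has `16`. The published degree-by-degree computation does show that `J` is generated by the linear
forms coming from `K`, which is the surjectivity, and it is valid as written when `0 → K → A^m → M →
0` splits, which is the projective case.) -/
theorem result (A : Type u) [CommRing A] (M : Type u)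
    [AddCommGroup M] [Module A M] (m : ℕ) (x : Fin m → M)
    (hx : Function.Surjective (Fintype.linearCombination A x))
    (G : Algebra.Generators A (SymmetricAlgebra A M) (Fin m))
    (hG : ∀ j, G.val j = SymmetricAlgebra.ι A M (x j)) :
    ∃ e : SymmetricAlgebra A M ⊗[A] (LinearMap.ker (Fintype.linearCombination A x)) →ₗ[SymmetricAlgebra A M]
        G.toExtension.Cotangent,
      (∀ (k : LinearMap.ker (Fintype.linearCombination A x))
        (hk : (∑ j, C ((k : Fin m → A) j) * X j : MvPolynomial (Fin m) A) ∈ G.toExtension.ker),
        e (1 ⊗ₜ k) = Algebra.Extension.Cotangent.mk ⟨_, hk⟩) ∧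
      Function.Surjective e ∧ (Module.Projective A M → Function.Bijective e) := by
  classical
  let K := LinearMap.ker (Fintype.linearCombination A x)
  let ℓ : K →ₗ[A] G.toExtension.ker :=
    { toFun := fun k => ⟨lin (k : Fin m → A), lin_mem_ker x G hG k⟩
      map_add' := fun k k' => Subtype.ext (map_add lin (k : Fin m → A) k')
      map_smul' := fun c k => Subtype.ext (map_smul lin c (k : Fin m → A)) }
  let f : K →ₗ[A] G.toExtension.Cotangent :=
    (Algebra.Extension.Cotangent.mk.restrictScalars A) ∘ₗ ℓ
  let e : SymmetricAlgebra A M ⊗[A] K →ₗ[SymmetricAlgebra A M] G.toExtension.Cotangent :=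
    LinearMap.liftBaseChange (SymmetricAlgebra A M) f
  have he1 : ∀ k : K, e (1 ⊗ₜ k) = Algebra.Extension.Cotangent.mk (ℓ k) := by
    intro k
    simp only [e, LinearMap.liftBaseChange_tmul, one_smul]
    rfl
  have hsurj : Function.Surjective e := by
    rw [← LinearMap.range_eq_top, eq_top_iff]
    have hspan := Algebra.Extension.Cotangent.span_eq_top_of_span_eq_ker
      (P := G.toExtension) (fun k : K => lin (k : Fin m → A)) (ker_eq_span x G hG hx)
    rw [← hspan, Submodule.span_le]
    rintro _ ⟨k, rfl⟩
    exact ⟨1 ⊗ₜ k, he1 k⟩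
  refine ⟨e, ?_, hsurj, ?_⟩
  · intro k hk
    exact he1 k
  · intro hproj
    refine ⟨?_, hsurj⟩
    obtain ⟨s, hs⟩ := Module.projective_lifting_property (Fintype.linearCombination A x)
      (LinearMap.id : M →ₗ[A] M) hx
    let r : (Fin m → A) →ₗ[A] K :=
      (LinearMap.id - s ∘ₗ Fintype.linearCombination A x).codRestrict K (by
        intro v
        rw [LinearMap.mem_ker, LinearMap.sub_apply, map_sub, LinearMap.id_apply,
          LinearMap.comp_apply, ← LinearMap.comp_apply (Fintype.linearCombination A x) s, hs,
          LinearMap.id_apply, sub_self])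
    have hr : ∀ k : K, r (k : Fin m → A) = k := by
      intro k
      apply Subtype.ext
      simp [r, LinearMap.mem_ker.mp k.2]
    let ρ : G.toExtension.CotangentSpace →ₗ[SymmetricAlgebra A M] SymmetricAlgebra A M ⊗[A] K :=
      G.cotangentSpaceBasis.constr (SymmetricAlgebra A M)
        (fun j => (1 : SymmetricAlgebra A M) ⊗ₜ[A] r (Pi.single j 1))
    have hρ : ∀ k : K, ρ (G.toExtension.cotangentComplex (e (1 ⊗ₜ k))) = 1 ⊗ₜ k := by
      intro k
      rw [he1, Algebra.Extension.cotangentComplex_mk]
      have hrepr : ∀ i, G.cotangentSpaceBasis.repr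
          ((1 : SymmetricAlgebra A M) ⊗ₜ[G.toExtension.Ring]
            KaehlerDifferential.D A G.toExtension.Ring (lin (k : Fin m → A))) i =
          algebraMap A (SymmetricAlgebra A M) ((k : Fin m → A) i) := by
        intro i
        rw [Algebra.Generators.cotangentSpaceBasis_repr_one_tmul]
        simp [lin_apply, pderiv_X, Pi.single_apply]
      have hk : (k : Fin m → A) = ∑ i, (k : Fin m → A) i • (Pi.single i (1 : A) : Fin m → A) := by
        ext j
        simp [Pi.single_apply]
      change ρ ((1 : SymmetricAlgebra A M) ⊗ₜ[G.toExtension.Ring]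
            KaehlerDifferential.D A G.toExtension.Ring (lin (k : Fin m → A))) = _
      rw [Module.Basis.constr_apply_fintype]
      simp only [Module.Basis.equivFun_apply, hrepr, algebraMap_smul]
      simp only [← TensorProduct.tmul_smul, ← TensorProduct.tmul_sum, ← map_smul, ← map_sum]
      rw [← hk, hr]
    have hid : ρ ∘ₗ G.toExtension.cotangentComplex ∘ₗ e = LinearMap.id := by
      apply TensorProduct.AlgebraTensorModule.curry_injective
      ext k
      simpa using hρ k
    intro a b hab
    have := congrArg (fun z => ρ (G.toExtension.cotangentComplex z)) hab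
    have h1 := LinearMap.congr_fun hid a
    have h2 := LinearMap.congr_fun hid b
    simp only [LinearMap.comp_apply, LinearMap.id_apply] at h1 h2
    rw [← h1, ← h2]
    exact this

end Groth.Agent.S12091
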