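import Groth.Statements.S12092
import Mathlib.Tactic
import Groth.Agent.Lib.Helper43.ResLocal
import Groth.Agent.Lib.Helper15.LDerived
-- import your own Groth.Agent.* helpers here

set_option autoImplicit false
universe u
open CategoryTheory
attribute [local instance] HasDerivedCategory.standard
open DRing

namespace Groth.Agent.S12092

open CategoryTheory.Limits MonoidalCategory Groth.Agent.Lib.Helper43 Groth.Agent.Lib.Helper84
  Groth.Agent.Lib.Helper84.FlatBC Groth.Agent.Lib.Helper25.SingleTensor

/-- a K-flat resolution of a module base changes along a flat ring map to a K-flat resolution -/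
lemma exists_resolution_ext {A A' : Type u} [CommRing A] [CommRing A'] (θ : A →+* A')
    (hθ : θ.Flat) (N : ModuleCat.{u} A) (F : DRing.Cx A) (f : F ⟶ sgl N) (hf : QuasiIso f) :
    ∃ f' : Groth.Agent.Lib.Helper25.KFlat.extCx θ F ⟶ sgl ((ext θ).obj N), QuasiIso f' := by
  haveI : PreservesFiniteLimits (ext θ) := preservesFiniteLimits_ext θ hθ
  haveI := hf
  haveI h1 : QuasiIso ((extCx θ).map f) := inferInstance
  refine ⟨(extCx θ).map f ≫ ((HomologicalComplex.singleMapHomologicalComplex (ext θ)
    (ComplexShape.up ℤ) 0).hom.app N), ?_⟩
  infer_instance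

/-- (3) ⇒ (1): let `A → B` be a ring map and `K•` a complex of `B`-modules. Suppose that for every
maximal ideal `m ⊆ B`, with `p` its inverse image in `A`, the localization `K•_m`, viewed as a
complex of `A_p`-modules, has tor amplitude in `[a, b]`. Then `K•`, regarded over `A` by restriction
of scalars, has tor amplitude in `[a, b]`. (Tor amplitude in the frozen sense: isomorphic in the
derived category to a complex of flat modules vanishing outside `[a, b]`.) -/
theorem result (A B : Type u) [CommRing A] [CommRing B]
    [Algebra A B] (K : DRing.Cx B) (a b : ℤ)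
    (h3 : ∀ (m : Ideal B) [m.IsMaximal],
      DRing.HasTorAmplitudeIn (Localization.AtPrime (m.comap (algebraMap A B))) a b
        (DRing.toD ((DRing.restrictCx (Localization.localRingHom (m.comap (algebraMap A B)) m (algebraMap A B) rfl)).obj
          (((ModuleCat.extendScalars (algebraMap B (Localization.AtPrime m))).mapHomologicalComplex
            (ComplexShape.up ℤ)).obj K)))) :
    DRing.HasTorAmplitudeIn A a b (DRing.toD ((DRing.restrictCx (algebraMap A B)).obj K)) := by
  rw [ResTensor.torAmp_res_iff]
  intro N F hF f hf i hi
  refine ResLocal.exactAt_of_forall_maximal _ i (fun m hm => ?_)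
  refine ResLocal.exactAt_ext_tensor (algebraMap B (Localization.AtPrime m)) K _ i ?_
  -- the hypothesis at `m`
  have hθ : (algebraMap A (Localization.AtPrime (m.comap (algebraMap A B)))).Flat :=
    RingHom.flat_algebraMap_iff.2 (IsLocalization.flat
      (Localization.AtPrime (m.comap (algebraMap A B))) (m.comap (algebraMap A B)).primeCompl)
  obtain ⟨f', hf'⟩ := exists_resolution_ext
    (algebraMap A (Localization.AtPrime (m.comap (algebraMap A B)))) hθ N F f hf
  have h := (ResTensor.torAmp_res_iff
    (Localization.localRingHom (m.comap (algebraMap A B)) m (algebraMap A B) rfl) _ a b).1 (h3 m)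
    ((ext (algebraMap A (Localization.AtPrime (m.comap (algebraMap A B))))).obj N)
    (Groth.Agent.Lib.Helper25.KFlat.extCx
      (algebraMap A (Localization.AtPrime (m.comap (algebraMap A B)))) F)
    (Groth.Agent.Lib.Helper25.KFlat.isKFlat_extCx _ F hF) f' hf' i hi
  -- compare the two base changes of `F`
  have hcomp : (Localization.localRingHom (m.comap (algebraMap A B)) m (algebraMap A B) rfl).comp
      (algebraMap A (Localization.AtPrime (m.comap (algebraMap A B)))) =
      (algebraMap B (Localization.AtPrime m)).comp (algebraMap A B) := by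
    ext x
    exact Localization.localRingHom_to_map _ _ _ rfl x
  have e : Groth.Agent.Lib.Helper25.KFlat.extCx
      (Localization.localRingHom (m.comap (algebraMap A B)) m (algebraMap A B) rfl)
      (Groth.Agent.Lib.Helper25.KFlat.extCx
        (algebraMap A (Localization.AtPrime (m.comap (algebraMap A B)))) F) ≅
      Groth.Agent.Lib.Helper25.KFlat.extCx (algebraMap B (Localization.AtPrime m))
        (Groth.Agent.Lib.Helper25.KFlat.extCx (algebraMap A B) F) :=
    (FibreAmp.extCxComp _ _ F).symm ≪≫ eqToIso (by rw [hcomp]) ≪≫ FibreAmp.extCxComp _ _ F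
  exact ResTensor.exactAt_of_iso (whiskerLeftIso _ e) i h

end Groth.Agent.S12092
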