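import Groth.Statements.S12093
import Groth.Agent.Lib.Helper25.LTensorCxCompute
import Groth.Agent.Lib.Helper25.SingleTensor
import Groth.Agent.Lib.Helper25.TruncKFlat

set_option autoImplicit false
universe u
open CategoryTheory CategoryTheory.Limits MonoidalCategory
attribute [local instance] HasDerivedCategory.standard
open DRing

namespace Groth.Agent.S12093

/-- Let `K•` be a complex of `R`-modules (for which `− ⊗^L_R K•` is assumed to exist) and `a` an
integer. Then `K•` has tor amplitude in `[a, ∞)`, i.e. `H^i(M ⊗^L_R K•) = 0` for every `R`-module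
`M` and every `i < a`, if and only if `K•` is quasi-isomorphic to a K-flat complex `E•` (tensoring
with `E•` preserves acyclic complexes) with flat terms and `E^i = 0` for `i < a`. -/
theorem result (R : Type u) [CommRing R] (a : ℤ) (K : DRing.Cx R)
    [DRing.HasLTensorCx R K] :
    (∀ (M : ModuleCat.{u} R) (i : ℤ), i < a →
        Subsingleton (Dual.HD R ((DRing.LTensorCx R K).obj
          (DRing.toD ((CochainComplex.singleFunctor (ModuleCat.{u} R) 0).obj M))) i)) ↔
      ∃ E : DRing.Cx R, (∀ L : DRing.Cx R, (∀ i : ℤ, IsZero (L.homology i)) → ∀ i : ℤ, IsZero ((L ⊗ E).homology i)) ∧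
        DRing.TermwiseFlat E ∧ (∀ i : ℤ, i < a → IsZero (E.X i)) ∧ Nonempty (DRing.toD E ≅ DRing.toD K) := by
  have hH : ∀ (Y : DRing.Cx R) (X : Dual.D R) (i : ℤ), Nonempty (X ≅ DerivedCategory.Q.obj Y) →
      (Subsingleton (Dual.HD R X i) ↔ IsZero (Y.homology i)) := by
    intro Y X i ⟨e⟩
    have e2 : (DerivedCategory.homologyFunctor (ModuleCat.{u} R) i).obj X ≅ Y.homology i :=
      (DerivedCategory.homologyFunctor (ModuleCat.{u} R) i).mapIso e ≪≫
        (DerivedCategory.homologyFunctorFactors (ModuleCat.{u} R) i).app Y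
    rw [← ModuleCat.isZero_iff_subsingleton]
    exact ⟨fun h => h.of_iso e2.symm, fun h => h.of_iso e2⟩
  have hT : ∀ (M : ModuleCat.{u} R) (F : DRing.Cx R) (i : ℤ),
      IsZero ((Groth.Agent.Lib.Helper25.SingleTensor.sgl M ⊗ F : DRing.Cx R).homology i) ↔
        ((Groth.Agent.Lib.Helper84.TensCx.tens M).obj F).ExactAt i := by
    intro M F i
    rw [HomologicalComplex.exactAt_iff_isZero_homology]
    have e := (HomologicalComplex.homologyFunctor (ModuleCat.{u} R) (ComplexShape.up ℤ) i).mapIso
      (Groth.Agent.Lib.Helper25.SingleTensor.singleTensorIso M F)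
    exact ⟨fun h => h.of_iso e, fun h => h.of_iso e.symm⟩
  constructor
  · intro h
    obtain ⟨F, f, hF, hFflat, hf, -⟩ :=
      Groth.Agent.Lib.Helper25.KFlatRes.exists_kflat_resolution K
    have hex : ∀ (N : ModuleCat.{u} R) (i : ℤ), i < a →
        ((Groth.Agent.Lib.Helper84.TensCx.tens N).obj F).ExactAt i := by
      intro N i hi
      rw [← hT]
      have := Groth.Agent.Lib.Helper25.LTensorCxCompute.nonempty_iso_of_res K
        (Groth.Agent.Lib.Helper25.SingleTensor.sgl N) hF f hf
      exact (hH _ _ i this).1 (h N i hi)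
    haveI : F.IsGE a := by
      rw [CochainComplex.isGE_iff]
      intro i hi
      exact Groth.Agent.Lib.Helper84.FlatAmp.exactAt_of_exactAt_tens_unit F i (hex _ i hi)
    haveI : QuasiIso (F.πTruncGE a) := inferInstance
    haveI : IsIso (DerivedCategory.Q.map (F.πTruncGE a)) := by
      rw [DerivedCategory.isIso_Q_map_iff_quasiIso]
      infer_instance
    haveI : IsIso (DerivedCategory.Q.map f) := by
      rw [DerivedCategory.isIso_Q_map_iff_quasiIso]
      exact hf
    have hEflat := Groth.Agent.Lib.Helper25.TruncKFlat.flat_truncGE F a hFflat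
      (fun N => hex N (a - 1) (by omega))
    refine ⟨F.truncGE a, Groth.Agent.Lib.Helper25.TruncKFlat.isKFlat_truncGE F a hF hFflat hEflat,
      hEflat, fun i hi => CochainComplex.isZero_of_isStrictlyGE _ a i hi,
      ⟨(asIso (DerivedCategory.Q.map (F.πTruncGE a))).symm ≪≫ asIso (DerivedCategory.Q.map f)⟩⟩
  · rintro ⟨E, hE, -, hzero, ⟨e⟩⟩ M i hi
    have := Groth.Agent.Lib.Helper25.LTensorCxCompute.nonempty_iso_of_iso K
      (Groth.Agent.Lib.Helper25.SingleTensor.sgl M) hE e
    refine (hH _ _ i this).2 ?_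
    rw [hT]
    exact Groth.Agent.Lib.Helper84.FlatAmp.exactAt_tens_of_isZero E M i (hzero i hi)

end Groth.Agent.S12093
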