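import Groth.Statements.S12094
import Groth.Agent.Lib.Helper84.TwoTermTrunc
import Groth.Agent.Lib.Helper84.DRingBasic
import Mathlib.Algebra.Category.ModuleCat.EnoughInjectives

set_option autoImplicit false
universe u
open CategoryTheory
attribute [local instance] HasDerivedCategory.standard
open DRing

namespace Groth.Agent.S12094

/-- (1) ⇔ (2): let `I ⊆ R` be an ideal and `K ∈ D(R)` with `H^i(K) = 0` for `i ∉ {-1, 0}`. Then some
power `I^c` annihilates `Ext¹_R(K, N) = Hom_{D(R)}(K, N[1])` for every `R`-module `N` if and only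
if, for some `c`, (a) `I^c` annihilates `H^{-1}(K)` and (b) `H^0(K)` is `I^c`-projective, i.e. `I^c`
annihilates `Ext¹_R(H^0(K), N)` for every `R`-module `N`. -/
theorem result {R : Type u} [CommRing R] (I : Ideal R) (K : Dual.D R)
    (hK : ∀ i : ℤ, i ≠ -1 → i ≠ 0 → Subsingleton (Dual.HD R K i)) :
    (∃ c : ℕ, ∀ (N : Type u) [AddCommGroup N] [Module R N] (a : R), a ∈ I ^ c →
        ∀ ξ : K ⟶ (Dual.inD R N)⟦(1 : ℤ)⟧, a • ξ = 0) ↔
      ∃ c : ℕ, (∀ a : R, a ∈ I ^ c → ∀ x : Dual.HD R K (-1), a • x = 0) ∧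
        ∀ (N : Type u) [AddCommGroup N] [Module R N] (a : R), a ∈ I ^ c →
          ∀ ξ : Dual.inD R (Dual.HD R K 0) ⟶ (Dual.inD R N)⟦(1 : ℤ)⟧, a • ξ = 0 := by
  open Groth.Agent.Lib.Helper84 DerivedCategory in
  haveI : K.IsLE 0 := DRingBasic.isLE_zero_of_twoTerm K hK
  open Groth.Agent.Lib.Helper84 DerivedCategory in
  haveI : K.IsGE (-1) := DRingBasic.isGE_neg_one_of_twoTerm K hK
  have key : ∀ a : R, (a • 𝟙 ((homologyFunctor (ModuleCat.{u} R) (-1)).obj K) = 0 ↔
      ∀ x : Dual.HD R K (-1), a • x = 0) := by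
    intro a
    constructor
    · intro h x
      have := congrArg (fun f => f.hom x) h
      simpa using this
    · intro h
      apply ModuleCat.hom_ext
      apply LinearMap.ext
      intro x
      simpa using h x
  open Groth.Agent.Lib.Helper84 in
  constructor
  · rintro ⟨c, H⟩
    refine ⟨c, fun a ha => ?_, fun N _ _ a ha ξ => ?_⟩
    · exact (key a).1 (TwoTermTrunc.smul_id_homology_neg_one_eq_zero K a
        (fun N ξ => H N a ha ξ))
    · exact TwoTermTrunc.smul_eq_zero_homology_zero K a (ModuleCat.of R N)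
        (fun ξ => H N a ha ξ) ξ
  · rintro ⟨c, H1, H2⟩
    refine ⟨c + c, fun N _ _ a ha ξ => ?_⟩
    rw [pow_add] at ha
    refine Submodule.mul_induction_on ha ?_ ?_
    · intro x hx y hy
      exact TwoTermTrunc.mul_smul_eq_zero K x y (ModuleCat.of R N) ((key y).2 (H1 y hy))
        (fun ζ => H2 N x hx ζ) ξ
    · intro x y hx hy
      rw [add_smul, hx, hy, add_zero]

end Groth.Agent.S12094
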