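import Groth.Statements.S12095
import Mathlib

set_option autoImplicit false
universe u
open CAlg

namespace Groth.Agent.S12095
set_option maxHeartbeats 400000

open Polynomial HomogeneousLocalization

section Psi

variable {R R' : Type u} [CommRing R] [CommRing R']
  {S : Type u} [CommRing S] [Algebra R S] (𝒜 : ℕ → Submodule R S) [GradedAlgebra 𝒜] {f : S}
  (hf : f ∈ 𝒜 1) (e : HomogeneousLocalization.Away 𝒜 f ≃+* R')

theorem mem_smul_one {j : ℕ} {s : S} (hs : s ∈ 𝒜 j) : s ∈ 𝒜 (j • 1) := by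
  rw [smul_eq_mul, mul_one]; exact hs

/-- `s ∈ 𝒜 j ↦ e (s / f^j)` -/
noncomputable def coef (j : ℕ) (s : S) (hs : s ∈ 𝒜 j) : R' :=
  e (Away.mk 𝒜 hf j s (mem_smul_one 𝒜 hs))

theorem coef_add (j : ℕ) (s t : S) (hs : s ∈ 𝒜 j) (ht : t ∈ 𝒜 j) :
    coef 𝒜 hf e j (s + t) (add_mem hs ht) = coef 𝒜 hf e j s hs + coef 𝒜 hf e j t ht := by
  unfold coef
  rw [← map_add]
  congr 1
  apply HomogeneousLocalization.val_injective
  rw [HomogeneousLocalization.val_add, Away.val_mk, Away.val_mk, Away.val_mk,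
    Localization.add_mk_self]

theorem coef_zero (j : ℕ) : coef 𝒜 hf e j 0 (zero_mem _) = 0 := by
  unfold coef
  rw [← map_zero e]
  congr 1
  apply HomogeneousLocalization.val_injective
  rw [Away.val_mk, HomogeneousLocalization.val_zero, Localization.mk_zero]

theorem coef_mul (i j : ℕ) (s t : S) (hs : s ∈ 𝒜 i) (ht : t ∈ 𝒜 j) :
    coef 𝒜 hf e (i + j) (s * t) (SetLike.mul_mem_graded hs ht) =
      coef 𝒜 hf e i s hs * coef 𝒜 hf e j t ht := by
  unfold coef
  rw [← map_mul]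
  congr 1
  apply HomogeneousLocalization.val_injective
  rw [HomogeneousLocalization.val_mul, Away.val_mk, Away.val_mk, Away.val_mk,
    Localization.mk_mul]
  congr 1
  ext
  simp [pow_add]

theorem coef_one : coef 𝒜 hf e 0 1 SetLike.GradedOne.one_mem = 1 := by
  unfold coef
  rw [← map_one e]
  congr 1
  apply HomogeneousLocalization.val_injective
  rw [Away.val_mk, HomogeneousLocalization.val_one]
  simp [Localization.mk_one]

theorem coef_f : coef 𝒜 hf e 1 f hf = 1 := by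
  unfold coef
  rw [← map_one e]
  congr 1
  apply HomogeneousLocalization.val_injective
  rw [Away.val_mk, HomogeneousLocalization.val_one]
  simp [Localization.mk_self]

noncomputable def psiAux : (DirectSum ℕ fun j => 𝒜 j) →+* R'[X] :=
  DirectSum.toSemiring
    (fun j => { toFun := fun s => monomial j (coef 𝒜 hf e j s s.2)
                map_zero' := by
                  show monomial j (coef 𝒜 hf e j 0 _) = 0
                  rw [coef_zero, map_zero]
                map_add' := fun s t => by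
                  show monomial j (coef 𝒜 hf e j (s + t : S) _) = _
                  rw [coef_add 𝒜 hf e j s t s.2 t.2, map_add] })
    (by
      show monomial 0 (coef 𝒜 hf e 0 1 _) = 1
      rw [coef_one]; rfl)
    (by
      intro i j ai aj
      show monomial (i + j) (coef 𝒜 hf e (i + j) (ai * aj : S) _) = _
      rw [coef_mul 𝒜 hf e i j ai aj ai.2 aj.2]
      simp [monomial_mul_monomial])

noncomputable def psi : S →+* R'[X] :=
  (psiAux 𝒜 hf e).comp (DirectSum.decomposeRingEquiv 𝒜).toRingHom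

theorem psi_homog (j : ℕ) (s : S) (hs : s ∈ 𝒜 j) :
    psi 𝒜 hf e s = monomial j (coef 𝒜 hf e j s hs) := by
  unfold psi psiAux
  rw [RingHom.comp_apply]
  show DirectSum.toSemiring _ _ _ (DirectSum.decompose 𝒜 s) = _
  rw [DirectSum.decompose_of_mem 𝒜 hs, DirectSum.toSemiring_of]
  rfl

end Psi

section Mod

variable {R R' : Type u} [CommRing R] [CommRing R']
  {S : Type u} [CommRing S] [Algebra R S] (𝒜 : ℕ → Submodule R S) [GradedAlgebra 𝒜] {f : S}
  (hf : f ∈ 𝒜 1) (e : HomogeneousLocalization.Away 𝒜 f ≃+* R')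
  (M : Type u) [AddCommGroup M] [Module R' M]

/-- `M[X]` with `S` acting through `psi` -/
def PM (_hf : f ∈ 𝒜 1) (_e : HomogeneousLocalization.Away 𝒜 f ≃+* R') (M : Type u)
    [AddCommGroup M] [Module R' M] : Type u := PolynomialModule R' M

noncomputable instance : AddCommGroup (PM 𝒜 hf e M) :=
  inferInstanceAs (AddCommGroup (PolynomialModule R' M))

noncomputable instance : Module R'[X] (PM 𝒜 hf e M) :=
  inferInstanceAs (Module R'[X] (PolynomialModule R' M))

noncomputable instance instModS : Module S (PM 𝒜 hf e M) := Module.compHom _ (psi 𝒜 hf e)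

noncomputable instance instModR : Module R (PM 𝒜 hf e M) :=
  Module.compHom _ ((psi 𝒜 hf e).comp (algebraMap R S))

theorem smulS_def (s : S) (p : PM 𝒜 hf e M) : s • p = psi 𝒜 hf e s • p := rfl

theorem smulR_def (r : R) (p : PM 𝒜 hf e M) : r • p = (algebraMap R S r) • p := rfl

instance : IsScalarTower R S (PM 𝒜 hf e M) :=
  ⟨fun r s p => by
    rw [smulR_def, Algebra.smul_def, mul_smul]⟩

/-- the element `m X^k` -/
noncomputable def sg (k : ℕ) (m : M) : PM 𝒜 hf e M := PolynomialModule.single R' k m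

/-- coefficient -/
def cf (p : PM 𝒜 hf e M) (k : ℕ) : M := PolynomialModule.coeff (R := R') (M := M) p k

theorem cf_sg (k j : ℕ) (m : M) : cf 𝒜 hf e M (sg 𝒜 hf e M k m) j = if k = j then m else 0 := by
  unfold cf sg
  rw [PolynomialModule.coeff_single, Finsupp.single_apply]

theorem homog_smul_sg (i : ℕ) (s : S) (hs : s ∈ 𝒜 i) (j : ℕ) (m : M) :
    s • sg 𝒜 hf e M j m = sg 𝒜 hf e M (i + j) (coef 𝒜 hf e i s hs • m) := by
  rw [smulS_def, psi_homog 𝒜 hf e i s hs]
  exact PolynomialModule.monomial_smul_single i _ j m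

theorem sg_add (k : ℕ) (m m' : M) :
    sg 𝒜 hf e M k (m + m') = sg 𝒜 hf e M k m + sg 𝒜 hf e M k m' :=
  PolynomialModule.single_add k m m'

theorem sg_zero (k : ℕ) : sg 𝒜 hf e M k 0 = 0 := PolynomialModule.single_zero k

theorem cf_add (p q : PM 𝒜 hf e M) (k : ℕ) : cf 𝒜 hf e M (p + q) k = cf 𝒜 hf e M p k + cf 𝒜 hf e M q k :=
  rfl

theorem cf_zero (k : ℕ) : cf 𝒜 hf e M 0 k = 0 := rfl

end Mod

section NDef

variable {R R' : Type u} [CommRing R] [CommRing R']
  {S : Type u} [CommRing S] [Algebra R S] (𝒜 : ℕ → Submodule R S) [GradedAlgebra 𝒜] {f : S}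
  (hf : f ∈ 𝒜 1) (e : HomogeneousLocalization.Away 𝒜 f ≃+* R')
  (M : Type u) [AddCommGroup M] [Module R' M] {ι : Type} (g : ι → M)

noncomputable def NN : Submodule S (PM 𝒜 hf e M) :=
  Submodule.span S (Set.range fun i => sg 𝒜 hf e M 0 (g i))

theorem smul_mem_NN_coe (r : R) (n : NN 𝒜 hf e M g) :
    ((r • n : NN 𝒜 hf e M g) : PM 𝒜 hf e M) = r • (n : PM 𝒜 hf e M) := rfl

noncomputable def MM (k : ℕ) : Submodule R (NN 𝒜 hf e M g) where
  carrier := {n | ∃ m, (n : PM 𝒜 hf e M) = sg 𝒜 hf e M k m}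
  zero_mem' := ⟨0, by rw [sg_zero]; rfl⟩
  add_mem' := by
    rintro a b ⟨m, hm⟩ ⟨m', hm'⟩
    exact ⟨m + m', by rw [Submodule.coe_add, hm, hm', sg_add]⟩
  smul_mem' := by
    rintro r n ⟨m, hm⟩
    refine ⟨coef 𝒜 hf e 0 (algebraMap R S r) (SetLike.algebraMap_mem_graded 𝒜 r) • m, ?_⟩
    rw [smul_mem_NN_coe, hm, smulR_def,
      homog_smul_sg 𝒜 hf e M 0 (algebraMap R S r) (SetLike.algebraMap_mem_graded 𝒜 r) k m, zero_add]

theorem mem_MM (k : ℕ) (n : NN 𝒜 hf e M g) :
    n ∈ MM 𝒜 hf e M g k ↔ ∃ m, (n : PM 𝒜 hf e M) = sg 𝒜 hf e M k m := Iff.rfl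

theorem gradedSMul : SetLike.GradedSMul 𝒜 (MM 𝒜 hf e M g) where
  smul_mem := by
    rintro i j a n ha ⟨m, hm⟩
    refine ⟨coef 𝒜 hf e i a ha • m, ?_⟩
    show a • (n : PM 𝒜 hf e M) = _
    rw [hm, homog_smul_sg 𝒜 hf e M i a ha j m]
    rfl

end NDef

section Decomp

variable {R R' : Type u} [CommRing R] [CommRing R']
  {S : Type u} [CommRing S] [Algebra R S] (𝒜 : ℕ → Submodule R S) [GradedAlgebra 𝒜] {f : S}
  (hf : f ∈ 𝒜 1) (e : HomogeneousLocalization.Away 𝒜 f ≃+* R')
  (M : Type u) [AddCommGroup M] [Module R' M] {ι : Type} (g : ι → M)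

theorem cf_smulR (r : R) (p : PM 𝒜 hf e M) (i : ℕ) :
    cf 𝒜 hf e M (r • p) i =
      coef 𝒜 hf e 0 (algebraMap R S r) (SetLike.algebraMap_mem_graded 𝒜 r) • cf 𝒜 hf e M p i := by
  rw [smulR_def, smulS_def, psi_homog 𝒜 hf e 0 (algebraMap R S r) (SetLike.algebraMap_mem_graded 𝒜 r)]
  have h : ∀ (c : R') (q : PolynomialModule R' M), (monomial 0 c • q).coeff i = c • q.coeff i := by
    intro c q
    rw [PolynomialModule.monomial_smul_apply]
    simp
  exact h _ p

noncomputable def KK (i : ℕ) : Submodule R (NN 𝒜 hf e M g) where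
  carrier := {n | cf 𝒜 hf e M (n : PM 𝒜 hf e M) i = 0}
  zero_mem' := rfl
  add_mem' := by
    intro a b ha hb
    show cf 𝒜 hf e M ((a : PM 𝒜 hf e M) + (b : PM 𝒜 hf e M)) i = 0
    rw [cf_add, ha, hb, add_zero]
  smul_mem' := by
    intro r n hn
    show cf 𝒜 hf e M (r • (n : PM 𝒜 hf e M)) i = 0
    rw [cf_smulR, hn, smul_zero]

theorem indep : iSupIndep (MM 𝒜 hf e M g) := by
  rw [iSupIndep_def]
  intro i
  rw [Submodule.disjoint_def]
  rintro x ⟨m, hm⟩ hx
  have hle : (⨆ j, ⨆ (_ : j ≠ i), MM 𝒜 hf e M g j) ≤ KK 𝒜 hf e M g i := by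
    refine iSup₂_le (fun j hj => ?_)
    rintro n ⟨m', hm'⟩
    show cf 𝒜 hf e M (n : PM 𝒜 hf e M) i = 0
    rw [hm', cf_sg, if_neg hj]
  have h0 : cf 𝒜 hf e M (x : PM 𝒜 hf e M) i = 0 := hle hx
  rw [hm, cf_sg, if_pos rfl] at h0
  apply Subtype.ext
  rw [hm, h0, sg_zero]
  rfl

theorem smul_mem_iSup (s : S) (n : NN 𝒜 hf e M g) (hn : n ∈ ⨆ k, MM 𝒜 hf e M g k) :
    s • n ∈ ⨆ k, MM 𝒜 hf e M g k := by
  induction s using DirectSum.Decomposition.inductionOn 𝒜 with
  | zero => rw [zero_smul]; exact Submodule.zero_mem _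
  | homogeneous a =>
    rename_i i
    refine Submodule.iSup_induction _ (motive := fun n => (a : S) • n ∈ ⨆ k, MM 𝒜 hf e M g k) hn
      ?_ ?_ ?_
    · intro k x hx
      exact Submodule.mem_iSup_of_mem (i + k) ((gradedSMul 𝒜 hf e M g).smul_mem a.2 hx)
    · rw [smul_zero]; exact Submodule.zero_mem _
    · intro x y hx hy
      rw [smul_add]; exact Submodule.add_mem _ hx hy
  | add a b ha hb => rw [add_smul]; exact Submodule.add_mem _ ha hb

theorem isup_top : ⨆ k, MM 𝒜 hf e M g k = ⊤ := by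
  rw [eq_top_iff]
  rintro ⟨p, hp⟩ -
  unfold NN at hp
  induction hp using Submodule.span_induction with
  | mem x hx =>
    obtain ⟨i, rfl⟩ := hx
    exact Submodule.mem_iSup_of_mem 0 ⟨g i, rfl⟩
  | zero => exact Submodule.zero_mem _
  | add x y hx hy hx' hy' => exact Submodule.add_mem _ hx' hy'
  | smul s x hx hx' => exact smul_mem_iSup 𝒜 hf e M g s ⟨x, hx⟩ hx'

noncomputable def decomp : DirectSum.Decomposition (MM 𝒜 hf e M g) :=
  (DirectSum.isInternal_submodule_of_iSupIndep_of_iSup_eq_top (indep 𝒜 hf e M g)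
    (isup_top 𝒜 hf e M g)).chooseDecomposition

end Decomp

section Eval

variable {R R' : Type u} [CommRing R] [CommRing R']
  {S : Type u} [CommRing S] [Algebra R S] (𝒜 : ℕ → Submodule R S) [GradedAlgebra 𝒜] {f : S}
  (hf : f ∈ 𝒜 1) (e : HomogeneousLocalization.Away 𝒜 f ≃+* R')
  (M : Type u) [AddCommGroup M] [Module R' M] {ι : Type} (g : ι → M)

noncomputable def eps : S →+* R' := (Polynomial.evalRingHom 1).comp (psi 𝒜 hf e)

theorem eps_homog (j : ℕ) (s : S) (hs : s ∈ 𝒜 j) : eps 𝒜 hf e s = coef 𝒜 hf e j s hs := by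
  unfold eps
  rw [RingHom.comp_apply, psi_homog 𝒜 hf e j s hs]
  simp

theorem eps_f : eps 𝒜 hf e f = 1 := by rw [eps_homog 𝒜 hf e 1 f hf, coef_f]

theorem eps_f_pow (k : ℕ) : eps 𝒜 hf e (f ^ k) = 1 := by rw [map_pow, eps_f, one_pow]

/-- `M` with `S` acting through `eps` -/
def MS (_hf : f ∈ 𝒜 1) (_e : HomogeneousLocalization.Away 𝒜 f ≃+* R') (M : Type u)
    [AddCommGroup M] [Module R' M] : Type u := M

instance : AddCommGroup (MS 𝒜 hf e M) := inferInstanceAs (AddCommGroup M)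

instance : Module R' (MS 𝒜 hf e M) := inferInstanceAs (Module R' M)

noncomputable instance : Module S (MS 𝒜 hf e M) := Module.compHom _ (eps 𝒜 hf e)

theorem smulMS_def (s : S) (m : MS 𝒜 hf e M) : s • m = (eps 𝒜 hf e s) • m := rfl

noncomputable def evN : NN 𝒜 hf e M g →ₗ[S] MS 𝒜 hf e M where
  toFun n := (PolynomialModule.eval (M := M) (1 : R') (n : PM 𝒜 hf e M) : M)
  map_add' := fun a b =>
    map_add (PolynomialModule.eval (M := M) (1 : R')) (a : PM 𝒜 hf e M) (b : PM 𝒜 hf e M)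
  map_smul' := fun s n =>
    PolynomialModule.eval_smul (M := M) (psi 𝒜 hf e s) (n : PM 𝒜 hf e M) (1 : R')

theorem evN_of_sg (n : NN 𝒜 hf e M g) (k : ℕ) (m : M) (h : (n : PM 𝒜 hf e M) = sg 𝒜 hf e M k m) :
    evN 𝒜 hf e M g n = m := by
  show PolynomialModule.eval (M := M) (1 : R') (n : PM 𝒜 hf e M) = m
  rw [h]
  show PolynomialModule.eval (M := M) (1 : R') (PolynomialModule.single R' k m) = m
  rw [PolynomialModule.eval_single, one_pow, one_smul]

theorem unit_cond (x : Submonoid.powers f) :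
    IsUnit (algebraMap S (Module.End S (MS 𝒜 hf e M)) x) := by
  obtain ⟨x, k, rfl⟩ := x
  have : algebraMap S (Module.End S (MS 𝒜 hf e M)) (f ^ k) = 1 := by
    apply LinearMap.ext
    intro m
    rw [Module.algebraMap_end_apply, smulMS_def, eps_f_pow, one_smul]
    rfl
  show IsUnit (algebraMap S (Module.End S (MS 𝒜 hf e M)) (f ^ k))
  rw [this]
  exact isUnit_one

noncomputable def Theta :
    LocalizedModule (Submonoid.powers f) (NN 𝒜 hf e M g) →ₗ[S] MS 𝒜 hf e M :=
  LocalizedModule.lift (Submonoid.powers f) (evN 𝒜 hf e M g) (unit_cond 𝒜 hf e M)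

theorem Theta_mk_one (n : NN 𝒜 hf e M g) :
    Theta 𝒜 hf e M g (LocalizedModule.mk n 1) = evN 𝒜 hf e M g n := by
  have := LocalizedModule.lift_comp (Submonoid.powers f) (evN 𝒜 hf e M g) (unit_cond 𝒜 hf e M)
  exact LinearMap.congr_fun this n

end Eval

section Final

variable {R R' : Type u} [CommRing R] [CommRing R'] [Algebra R R']
  {S : Type u} [CommRing S] [Algebra R S] (𝒜 : ℕ → Submodule R S) [GradedAlgebra 𝒜] {f : S}
  (hf : f ∈ 𝒜 1) (e : HomogeneousLocalization.Away 𝒜 f ≃+* R')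
  (he : ∀ r : R, (e.symm (algebraMap R R' r)).val =
    algebraMap S (Localization.Away f) (algebraMap R S r))
  (M : Type u) [AddCommGroup M] [Module R' M] [Module R M] [IsScalarTower R R' M]
  {ι : Type} (g : ι → M)

include he in
theorem coef_algebraMap (r : R) :
    coef 𝒜 hf e 0 (algebraMap R S r) (SetLike.algebraMap_mem_graded 𝒜 r) = algebraMap R R' r := by
  unfold coef
  rw [← e.apply_symm_apply (algebraMap R R' r)]
  congr 1
  apply HomogeneousLocalization.val_injective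
  rw [he r, Away.val_mk]
  simp only [pow_zero]
  exact Localization.mk_one_eq_algebraMap _

include hf in
theorem pow_mem (k : ℕ) : f ^ k ∈ 𝒜 k := by
  have := SetLike.pow_mem_graded k hf
  rwa [smul_eq_mul, mul_one] at this

theorem smulR_loc (r : R) (x : LocalizedModule (Submonoid.powers f) (NN 𝒜 hf e M g)) :
    r • x = (algebraMap R S r) • x := (algebraMap_smul S r x).symm

noncomputable def Nf : Submodule R (LocalizedModule (Submonoid.powers f) (NN 𝒜 hf e M g)) where
  carrier := {x | ∃ k : ℕ, ∃ n ∈ MM 𝒜 hf e M g k, f ^ k • x = LocalizedModule.mk n 1}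
  zero_mem' := ⟨0, 0, Submodule.zero_mem _, by rw [smul_zero, LocalizedModule.zero_mk]⟩
  add_mem' := by
    rintro x y ⟨k, n, hn, hx⟩ ⟨l, n', hn', hy⟩
    refine ⟨k + l, f ^ l • n + f ^ k • n', ?_, ?_⟩
    · refine Submodule.add_mem _ ?_ ?_
      · have := (gradedSMul 𝒜 hf e M g).smul_mem (pow_mem 𝒜 hf l) hn
        rwa [vadd_eq_add, add_comm] at this
      · exact (gradedSMul 𝒜 hf e M g).smul_mem (pow_mem 𝒜 hf k) hn'
    · have h1 : f ^ (k + l) • x = f ^ l • (f ^ k • x) := by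
        rw [smul_smul, ← pow_add, add_comm]
      have h2 : f ^ (k + l) • y = f ^ k • (f ^ l • y) := by
        rw [smul_smul, ← pow_add]
      rw [smul_add, h1, h2, hx, hy, LocalizedModule.smul'_mk, LocalizedModule.smul'_mk]
      exact ((LocalizedModule.mkLinearMap (Submonoid.powers f) (NN 𝒜 hf e M g)).map_add _ _).symm
  smul_mem' := by
    rintro r x ⟨k, n, hn, hx⟩
    refine ⟨k, r • n, Submodule.smul_mem _ r hn, ?_⟩
    have h := smulR_loc 𝒜 hf e M g r x
    rw [h, smul_smul, mul_comm, ← smul_smul, hx, LocalizedModule.smul'_mk,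
      algebraMap_smul]

theorem Theta_of_mem (x : LocalizedModule (Submonoid.powers f) (NN 𝒜 hf e M g)) (k : ℕ)
    (n : NN 𝒜 hf e M g) (m : M) (hm : (n : PM 𝒜 hf e M) = sg 𝒜 hf e M k m)
    (hx : f ^ k • x = LocalizedModule.mk n 1) : Theta 𝒜 hf e M g x = m := by
  have h1 : Theta 𝒜 hf e M g (f ^ k • x) = Theta 𝒜 hf e M g x := by
    rw [map_smul, smulMS_def, eps_f_pow, one_smul]
  rw [← h1, hx, Theta_mk_one, evN_of_sg 𝒜 hf e M g n k m hm]

noncomputable def ePrimeLin : Nf 𝒜 hf e M g →ₗ[R] M where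
  toFun x := (Theta 𝒜 hf e M g (x : LocalizedModule (Submonoid.powers f) (NN 𝒜 hf e M g)) : M)
  map_add' := fun x y => map_add (Theta 𝒜 hf e M g) _ _
  map_smul' := fun r x => by
    have h1 : Theta 𝒜 hf e M g (r • (x : LocalizedModule (Submonoid.powers f) (NN 𝒜 hf e M g))) =
        (algebraMap R R' r) •
          Theta 𝒜 hf e M g (x : LocalizedModule (Submonoid.powers f) (NN 𝒜 hf e M g)) := by
      have h := smulR_loc 𝒜 hf e M g r
        (x : LocalizedModule (Submonoid.powers f) (NN 𝒜 hf e M g))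
      rw [h, map_smul, smulMS_def,
        eps_homog 𝒜 hf e 0 (algebraMap R S r) (SetLike.algebraMap_mem_graded 𝒜 r),
        coef_algebraMap 𝒜 hf e he r]
    refine h1.trans ?_
    exact algebraMap_smul R' r
      (id (Theta 𝒜 hf e M g (x : LocalizedModule (Submonoid.powers f) (NN 𝒜 hf e M g))) : M)

theorem ePrimeLin_apply (x : Nf 𝒜 hf e M g) :
    ePrimeLin 𝒜 hf e he M g x =
      (Theta 𝒜 hf e M g (x : LocalizedModule (Submonoid.powers f) (NN 𝒜 hf e M g)) : M) := rfl

theorem ePrime_inj : Function.Injective (ePrimeLin 𝒜 hf e he M g) := by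
  suffices H : ∀ x ∈ Nf 𝒜 hf e M g, (Theta 𝒜 hf e M g x : M) = 0 → x = 0 by
    intro a b hab
    have hab' : Theta 𝒜 hf e M g (a : LocalizedModule (Submonoid.powers f) (NN 𝒜 hf e M g)) =
        Theta 𝒜 hf e M g (b : LocalizedModule (Submonoid.powers f) (NN 𝒜 hf e M g)) := hab
    have h := H ((a : LocalizedModule (Submonoid.powers f) (NN 𝒜 hf e M g)) - b)
      (Submodule.sub_mem _ a.2 b.2)
      (by
        have := map_sub (Theta 𝒜 hf e M g)
          (a : LocalizedModule (Submonoid.powers f) (NN 𝒜 hf e M g)) b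
        rw [hab', sub_self] at this
        exact this)
    exact Subtype.ext (sub_eq_zero.mp h)
  rintro x ⟨k, n, ⟨m, hm⟩, hx⟩ h0
  have h1 : (Theta 𝒜 hf e M g x : M) = m := Theta_of_mem 𝒜 hf e M g x k n m hm hx
  have h2 : m = 0 := h1.symm.trans h0
  have h3 : n = 0 := by
    apply Subtype.ext
    rw [hm, h2, sg_zero]; rfl
  have h4 : f ^ k • x = 0 := by rw [hx, h3, LocalizedModule.zero_mk]
  have hinj := IsLocalizedModule.smul_injective
    (LocalizedModule.mkLinearMap (Submonoid.powers f) (NN 𝒜 hf e M g))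
    (⟨f ^ k, ⟨k, rfl⟩⟩ : Submonoid.powers f)
  apply hinj
  show f ^ k • x = (⟨f ^ k, ⟨k, rfl⟩⟩ : Submonoid.powers f) • (0 : LocalizedModule _ _)
  rw [smul_zero, h4]

/-- the key compatibility: `Nf` is stable under `S_(f)`, and `Theta` is semilinear for `e`. -/
theorem away_smul (a : HomogeneousLocalization.Away 𝒜 f)
    (x : LocalizedModule (Submonoid.powers f) (NN 𝒜 hf e M g)) (hx : x ∈ Nf 𝒜 hf e M g) :
    a.val • x ∈ Nf 𝒜 hf e M g ∧
      (Theta 𝒜 hf e M g (a.val • x) : M) = e a • (Theta 𝒜 hf e M g x : M) := by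
  obtain ⟨k, s, hs, rfl⟩ := Away.mk_surjective 𝒜 hf a
  obtain ⟨l, n, ⟨m, hm⟩, hxl⟩ := hx
  have hs' : s ∈ 𝒜 k := by rwa [smul_eq_mul, mul_one] at hs
  rw [Away.val_mk]
  have hkey : f ^ (k + l) • ((Localization.mk s ⟨f ^ k, ⟨k, rfl⟩⟩ : Localization.Away f) • x) =
      LocalizedModule.mk (s • n) 1 := by
    induction x using LocalizedModule.induction_on with
    | h n0 t =>
      rw [LocalizedModule.mk_smul_mk, LocalizedModule.smul'_mk]
      rw [LocalizedModule.smul'_mk] at hxl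
      have h1 : f ^ (k + l) • s • n0 =
          (⟨f ^ k, ⟨k, rfl⟩⟩ : Submonoid.powers f) • (s • f ^ l • n0) := by
        show f ^ (k + l) • s • n0 = f ^ k • (s • f ^ l • n0)
        rw [smul_smul, smul_smul, smul_smul, pow_add]
        congr 1; ring
      rw [h1, LocalizedModule.mk_cancel_common_left]
      have h2 : LocalizedModule.mk (s • f ^ l • n0) t = s • LocalizedModule.mk (f ^ l • n0) t := by
        rw [LocalizedModule.smul'_mk]
      rw [h2, hxl, LocalizedModule.smul'_mk]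
  have hsn : (s • n : NN 𝒜 hf e M g) ∈ MM 𝒜 hf e M g (k + l) :=
    (gradedSMul 𝒜 hf e M g).smul_mem hs' ⟨m, hm⟩
  refine ⟨⟨k + l, s • n, hsn, hkey⟩, ?_⟩
  have hm' : ((s • n : NN 𝒜 hf e M g) : PM 𝒜 hf e M) =
      sg 𝒜 hf e M (k + l) (coef 𝒜 hf e k s hs' • m) := by
    show s • (n : PM 𝒜 hf e M) = _
    rw [hm, homog_smul_sg 𝒜 hf e M k s hs' l m]
  rw [Theta_of_mem 𝒜 hf e M g _ (k + l) (s • n) _ hm' hkey,
    Theta_of_mem 𝒜 hf e M g x l n m hm hxl]
  rfl

theorem ePrime_surj (hg : Submodule.span R' (Set.range g) = ⊤) :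
    Function.Surjective (ePrimeLin 𝒜 hf e he M g) := by
  intro m
  have hm : m ∈ Submodule.span R' (Set.range g) := hg ▸ Submodule.mem_top
  induction hm using Submodule.span_induction with
  | mem x hx =>
    obtain ⟨i, rfl⟩ := hx
    let n : NN 𝒜 hf e M g := ⟨sg 𝒜 hf e M 0 (g i), Submodule.subset_span ⟨i, rfl⟩⟩
    have hx : f ^ 0 • (LocalizedModule.mk n 1 : LocalizedModule (Submonoid.powers f) _) =
        LocalizedModule.mk n 1 := by rw [pow_zero, one_smul]
    refine ⟨⟨LocalizedModule.mk n 1, 0, n, ⟨g i, rfl⟩, hx⟩, ?_⟩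
    rw [ePrimeLin_apply]
    exact Theta_of_mem 𝒜 hf e M g _ 0 n (g i) rfl hx
  | zero => exact ⟨0, map_zero _⟩
  | add x y _ _ hx hy =>
    obtain ⟨a, rfl⟩ := hx
    obtain ⟨b, rfl⟩ := hy
    exact ⟨a + b, map_add _ _ _⟩
  | smul c x _ hx =>
    obtain ⟨a, rfl⟩ := hx
    obtain ⟨h1, h2⟩ := away_smul 𝒜 hf e M g (e.symm c) a.1 a.2
    refine ⟨⟨_, h1⟩, ?_⟩
    rw [ePrimeLin_apply, ePrimeLin_apply]
    rw [e.apply_symm_apply] at h2
    exact h2

noncomputable def ePrime (hg : Submodule.span R' (Set.range g) = ⊤) :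
    Nf 𝒜 hf e M g ≃ₗ[R] M :=
  LinearEquiv.ofBijective (ePrimeLin 𝒜 hf e he M g)
    ⟨ePrime_inj 𝒜 hf e he M g, ePrime_surj 𝒜 hf e he M g hg⟩

theorem finite_NN [Finite ι] : Module.Finite S (NN 𝒜 hf e M g) :=
  Module.Finite.span_of_finite S (Set.finite_range _)

end Final

theorem main (R R' : Type u) [CommRing R] [CommRing R']
    [Algebra R R']
    (M : Type u) [AddCommGroup M] [Module R' M] [Module R M] [IsScalarTower R R' M] [Module.Finite R' M]
    (S : Type u) [CommRing S] [Algebra R S] (𝒜 : ℕ → Submodule R S) [GradedAlgebra 𝒜] (f : S) (hf : f ∈ 𝒜 1)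
    (e : HomogeneousLocalization.Away 𝒜 f ≃+* R')
    (he : ∀ r : R, (e.symm (algebraMap R R' r)).val = algebraMap S (Localization.Away f) (algebraMap R S r)) :
    ∃ (N : Type u) (_ : AddCommGroup N) (_ : Module S N) (_ : Module R N) (_ : IsScalarTower R S N)
      (ℳ : ℕ → Submodule R N) (_ : DirectSum.Decomposition ℳ) (_ : SetLike.GradedSMul 𝒜 ℳ)
      (Nf : Submodule R (LocalizedModule (Submonoid.powers f) N)) (e' : ↥Nf ≃ₗ[R] M),
      Module.Finite S N ∧
      (∀ x, x ∈ Nf ↔ ∃ k : ℕ, ∃ n ∈ ℳ k, f ^ k • x = LocalizedModule.mk n 1) ∧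
      (∀ (a : HomogeneousLocalization.Away 𝒜 f) (x y : ↥Nf),
        a.val • (x : LocalizedModule (Submonoid.powers f) N) = y → e' y = e a • e' x) := by
  obtain ⟨n, g, hg⟩ := Module.Finite.exists_fin (R := R') (M := M)
  refine ⟨↥(NN 𝒜 hf e M g), inferInstance, inferInstance, inferInstance, inferInstance,
    MM 𝒜 hf e M g, decomp 𝒜 hf e M g, gradedSMul 𝒜 hf e M g, Nf 𝒜 hf e M g,
    ePrime 𝒜 hf e he M g hg, finite_NN 𝒜 hf e M g, fun x => Iff.rfl, ?_⟩
  intro a x y hxy
  obtain ⟨-, h2⟩ := away_smul 𝒜 hf e M g a x.1 x.2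
  rw [hxy] at h2
  exact h2

end Groth.Agent.S12095

namespace Groth.Agent.S12095

/-- Let `R'` be an `R`-algebra of finite type, `M` a finite `R'`-module, and `S` an `ℕ`-graded
`R`-algebra with `f ∈ S_1` and a ring isomorphism `e : S_(f) ≅ R'` compatible with the maps from
`R`. Then there is a finite graded `S`-module `N` whose degree-zero localization `N_(f)` (the
elements `n / f^k` of `N_f` with `n` homogeneous of degree `k`) is identified with `M`: an
`R`-linear bijection `e' : N_(f) → M` with `e'(a · x) = e(a) · e'(x)` for all `a ∈ S_(f)`. (The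
published lemma produces `S`, `f` and `N` together from `R'` and `M`; here `N` is produced for any
such `S`, `f`, `e`, which the same construction gives.) -/
theorem result (R R' : Type u) [CommRing R] [CommRing R']
    [Algebra R R'] [Algebra.FiniteType R R']
    (M : Type u) [AddCommGroup M] [Module R' M] [Module R M] [IsScalarTower R R' M] [Module.Finite R' M]
    (S : Type u) [CommRing S] [Algebra R S] (𝒜 : ℕ → Submodule R S) [GradedAlgebra 𝒜] (f : S) (hf : f ∈ 𝒜 1)
    (e : HomogeneousLocalization.Away 𝒜 f ≃+* R')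
    (he : ∀ r : R, (e.symm (algebraMap R R' r)).val = algebraMap S (Localization.Away f) (algebraMap R S r)) :
    ∃ (N : Type u) (_ : AddCommGroup N) (_ : Module S N) (_ : Module R N) (_ : IsScalarTower R S N)
      (ℳ : ℕ → Submodule R N) (_ : DirectSum.Decomposition ℳ) (_ : SetLike.GradedSMul 𝒜 ℳ)
      (Nf : Submodule R (LocalizedModule (Submonoid.powers f) N)) (e' : ↥Nf ≃ₗ[R] M),
      Module.Finite S N ∧
      (∀ x, x ∈ Nf ↔ ∃ k : ℕ, ∃ n ∈ ℳ k, f ^ k • x = LocalizedModule.mk n 1) ∧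
      (∀ (a : HomogeneousLocalization.Away 𝒜 f) (x y : ↥Nf),
        a.val • (x : LocalizedModule (Submonoid.powers f) N) = y → e' y = e a • e' x) := by
  exact main R R' M S 𝒜 f hf e he

end Groth.Agent.S12095
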