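import Groth.Statements.S12098
import Groth.Agent.Lib.Helper15.StableIso

set_option autoImplicit false
universe u
open CategoryTheory CategoryTheory.Limits
attribute [local instance] HasDerivedCategory.standard
open DRing

namespace Groth.Agent.S12098

/-- Let `p ⊆ R` be a prime and `M•`, `N•` bounded complexes whose terms are finite projective
`R`-modules and which are isomorphic in `D(R)`. Then for some `f ∉ p` the localized complexes `M•_f`
and `N•_f` become isomorphic once a finite direct sum of trivial complexes is added to each: `M•_f ⊕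
P•` and `N•_f ⊕ Q•` are isomorphic as complexes, with `P•`, `Q•` finite direct sums of copies of `0
→ R_f = R_f → 0` (placed in arbitrary degrees), expressed here as: bounded, with finite free terms
and free boundary modules, and with null-homotopic identity. -/
theorem result (R : Type u) [CommRing R] (p : Ideal R) [p.IsPrime]
    (M N : DRing.Cx R) (a b : ℤ) (hM : DRing.VanishesOutside M a b) (hN : DRing.VanishesOutside N a b)
    (hMp : DRing.TermwiseFiniteProjective M) (hNp : DRing.TermwiseFiniteProjective N)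
    (h : Nonempty (DRing.toD M ≅ DRing.toD N)) :
    ∃ f : R, f ∉ p ∧ ∃ P Q : DRing.Cx (Localization.Away f),
      ((∃ a' b' : ℤ, DRing.VanishesOutside P a' b') ∧ DRing.TermwiseFiniteFree P ∧
          (∀ i : ℤ, Module.Free (Localization.Away f) (LinearMap.range (P.d i (i + 1)).hom)) ∧ Nonempty (Homotopy (𝟙 P) 0)) ∧
      ((∃ a' b' : ℤ, DRing.VanishesOutside Q a' b') ∧ DRing.TermwiseFiniteFree Q ∧
          (∀ i : ℤ, Module.Free (Localization.Away f) (LinearMap.range (Q.d i (i + 1)).hom)) ∧ Nonempty (Homotopy (𝟙 Q) 0)) ∧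
      Nonempty ((((ModuleCat.extendScalars (algebraMap R (Localization.Away f))).mapHomologicalComplex (ComplexShape.up ℤ)).obj M) ⊞ P ≅ (((ModuleCat.extendScalars (algebraMap R (Localization.Away f))).mapHomologicalComplex (ComplexShape.up ℤ)).obj N) ⊞ Q) := by
  classical
  obtain ⟨φ⟩ := h
  have hMb : ∀ i, b < i → IsZero (M.X i) := fun i hi => hM i (Or.inr hi)
  have hNb : ∀ i, b < i → IsZero (N.X i) := fun i hi => hN i (Or.inr hi)
  obtain ⟨α, ⟨s⟩⟩ := Groth.Agent.Lib.Helper15.StableIso.exists_contractible_cone M N b hMb hNb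
    (fun i => (hMp i).2) (fun i => (hNp i).2) φ
  obtain ⟨s'⟩ := Groth.Agent.Lib.Helper15.StableIso.contractible_cone_of_quasiIso M M b hMb hMb
    (fun i => (hMp i).2) (fun i => (hMp i).2) (𝟙 M) inferInstance
  obtain ⟨e⟩ := Groth.Agent.Lib.Helper15.StableIso.nonempty_iso_cyl α s
  obtain ⟨r1, hr1, H1⟩ := Groth.Agent.Lib.Helper15.StableIso.exists_props p
    (CochainComplex.mappingCone α) (a - 1) b
    (Groth.Agent.Lib.Helper15.StableIso.cone_vanishesOutside α a b hM hN)
    (Groth.Agent.Lib.Helper15.StableIso.cone_termwiseFiniteProjective α hMp hNp) s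
  obtain ⟨r2, hr2, H2⟩ := Groth.Agent.Lib.Helper15.StableIso.exists_props p
    (CochainComplex.mappingCone (𝟙 M)) (a - 1) b
    (Groth.Agent.Lib.Helper15.StableIso.cone_vanishesOutside (𝟙 M) a b hM hM)
    (Groth.Agent.Lib.Helper15.StableIso.cone_termwiseFiniteProjective (𝟙 M) hMp hMp) s'
  refine ⟨r1 * r2, fun h => (Ideal.IsPrime.mem_or_mem inferInstance h).elim hr1 hr2, ?_⟩
  have hu : IsUnit (algebraMap R (Localization.Away (r1 * r2)) (r1 * r2)) :=
    IsLocalization.Away.algebraMap_isUnit (r1 * r2)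
  have hu' := hu
  rw [map_mul, IsUnit.mul_iff] at hu'
  obtain ⟨hP1, hP2, hP3, hP4⟩ := H1 (Localization.Away (r1 * r2)) hu'.1
  obtain ⟨hQ1, hQ2, hQ3, hQ4⟩ := H2 (Localization.Away (r1 * r2)) hu'.2
  refine ⟨_, _, ⟨⟨a - 1, b, hP1⟩, hP2, hP3, hP4⟩, ⟨⟨a - 1, b, hQ1⟩, hQ2, hQ3, hQ4⟩, ⟨?_⟩⟩
  haveI : PreservesBinaryBiproducts ((ModuleCat.extendScalars
      (algebraMap R (Localization.Away (r1 * r2)))).mapHomologicalComplex (ComplexShape.up ℤ)) :=
    preservesBinaryBiproducts_of_preservesBiproducts _
  exact (((ModuleCat.extendScalars (algebraMap R (Localization.Away (r1 * r2)))).mapHomologicalComplex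
      (ComplexShape.up ℤ)).mapBiprod M (CochainComplex.mappingCone α)).symm ≪≫
    ((ModuleCat.extendScalars (algebraMap R (Localization.Away (r1 * r2)))).mapHomologicalComplex
      (ComplexShape.up ℤ)).mapIso e ≪≫
    (((ModuleCat.extendScalars (algebraMap R (Localization.Away (r1 * r2)))).mapHomologicalComplex
      (ComplexShape.up ℤ)).mapBiprod N (CochainComplex.mappingCone (𝟙 M)))

end Groth.Agent.S12098
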