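import Groth.Statements.S12099
import Mathlib.CategoryTheory.Abelian.Refinements

set_option autoImplicit false
universe v u
open CategoryTheory CategoryTheory.Limits
open PCoh

namespace Groth.Agent.S12099

/-- Punctual site: let C be an abelian category and C₀ a strictly full additive subcategory,
quasi-liftable in C. For an exact sequence F → G → H → 0 with F of C₀-finite type and G precoherent
relative to C₀ (every morphism from a C₀-object into G has kernel of C₀-finite type), H is
precoherent relative to C₀. -/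
theorem result {C : Type u} [Category.{v} C] [Abelian C]
    (P : ObjectProperty C) [P.IsClosedUnderIsomorphisms] [P.ContainsZero] (hsum : ∀ X Y : C, P X → P Y → P (X ⨯ Y))
    (hql : PCoh.IsQuasiLiftable P)
    (S : ShortComplex C) (hS : S.Exact) (hg : Epi S.g)
    (hF : PCoh.IsOfFiniteType P S.X₁) (hG : ∀ (E : C) (u : E ⟶ S.X₂), P E → PCoh.IsOfFiniteType P (kernel u)) :
    ∀ (E : C) (u : E ⟶ S.X₃), P E → PCoh.IsOfFiniteType P (kernel u) := by
  intro E u hE
  haveI := hg
  have hepi : Epi (pullback.fst u S.g) := inferInstance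
  obtain ⟨E', v, hE', hv⟩ := hql (pullback u S.g) E (pullback.fst u S.g) hepi hE
  have hpw : (v ≫ pullback.fst u S.g) ≫ u = (v ≫ pullback.snd u S.g) ≫ S.g := by
    rw [Category.assoc, Category.assoc, pullback.condition]
  generalize v ≫ pullback.fst u S.g = p at hv hpw
  generalize v ≫ pullback.snd u S.g = w at hpw
  obtain ⟨F0, π0, hF0, hπ0⟩ := hF
  have hT : P (E' ⨯ F0) := hsum _ _ hE' hF0
  obtain ⟨E1, π1, hE1, hπ1⟩ := hG (E' ⨯ F0) (prod.fst ≫ w - prod.snd ≫ π0 ≫ S.f) hT
  have h1 : kernel.ι (prod.fst ≫ w - prod.snd ≫ π0 ≫ S.f) ≫ prod.fst ≫ w =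
      kernel.ι (prod.fst ≫ w - prod.snd ≫ π0 ≫ S.f) ≫ prod.snd ≫ π0 ≫ S.f := by
    have := kernel.condition (prod.fst ≫ w - prod.snd ≫ π0 ≫ S.f)
    rw [Preadditive.comp_sub] at this
    exact sub_eq_zero.1 this
  have hz : (kernel.ι (prod.fst ≫ w - prod.snd ≫ π0 ≫ S.f) ≫ prod.fst ≫ p) ≫ u = 0 := by
    simp only [Category.assoc]
    rw [hpw, reassoc_of% h1, S.zero, comp_zero, comp_zero, comp_zero]
  have hq : Epi (kernel.lift u _ hz) := by
    rw [epi_iff_surjective_up_to_refinements]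
    intro A a
    obtain ⟨A1, π_1, hπ_1, x, hx⟩ := surjective_up_to_refinements_of_epi p (a ≫ kernel.ι u)
    have hx0 : (x ≫ w) ≫ S.g = 0 := by
      rw [Category.assoc, ← hpw, ← Category.assoc, ← hx, Category.assoc, Category.assoc,
        kernel.condition, comp_zero, comp_zero]
    obtain ⟨A2, π_2, hπ_2, y, hy⟩ := hS.exact_up_to_refinements (x ≫ w) hx0
    obtain ⟨A3, π_3, hπ_3, z, hz'⟩ := surjective_up_to_refinements_of_epi π0 y
    have hτ : prod.lift (π_3 ≫ π_2 ≫ x) z ≫ (prod.fst ≫ w - prod.snd ≫ π0 ≫ S.f) = 0 := by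
      rw [Preadditive.comp_sub, prod.lift_fst_assoc, prod.lift_snd_assoc, ← Category.assoc z,
        ← hz']
      simp only [Category.assoc]
      rw [← hy, sub_self]
    haveI : Epi (π_2 ≫ π_1) := epi_comp _ _
    haveI : Epi (π_3 ≫ π_2 ≫ π_1) := epi_comp _ _
    refine ⟨A3, π_3 ≫ π_2 ≫ π_1, inferInstance, kernel.lift _ _ hτ, ?_⟩
    rw [← cancel_mono (kernel.ι u), Category.assoc, Category.assoc, Category.assoc, Category.assoc,
      kernel.lift_ι, kernel.lift_ι_assoc, prod.lift_fst_assoc, hx, Category.assoc, Category.assoc]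
  exact ⟨E1, π1 ≫ kernel.lift u _ hz, hE1, epi_comp _ _⟩

end Groth.Agent.S12099
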