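import Groth.Statements.S12102
import Groth.Agent.S5603
import Groth.Agent.Lib.Helper62.PCohObj
import Groth.Agent.Lib.Helper62.PCohStep
import Groth.Agent.Lib.Helper62.PCohCoh
import Groth.Agent.Lib.Helper62.PCohChain

set_option autoImplicit false
universe w v u
open CategoryTheory CategoryTheory.Limits
open PCoh
open Groth.Agent.Lib.Helper62

namespace Groth.Agent.S12102

/-- Let C be an abelian category and C₀ a strictly full additive subcategory, quasi-stable under kernels
of epimorphisms and quasi-liftable; let F be an object of C and n a natural number. Then F is of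
n-C₀-finite presentation (there is an exact sequence E_{n+1} → ⋯ → E_1 → F → 0 with all E_j in C₀;
encoded as an ℕ-indexed chain complex K with K_0 ≅ F, exact at the indices 0, …, n, zero beyond
index n + 1, and K_1, …, K_{n+1} in C₀) if and only if F placed in degree 0 is (−n)-pseudo-coherent
(isomorphic in D(C) to a strictly (−n)-pseudo-coherent complex). -/
theorem result {C : Type u} [Category.{v} C] [Abelian C] [HasDerivedCategory.{w} C]
    (P : ObjectProperty C) [P.IsClosedUnderIsomorphisms] [P.ContainsZero] (hsum : ∀ X Y : C, P X → P Y → P (X ⨯ Y))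
    (hqs : PCoh.IsQuasiStableUnderKernels P) (hql : PCoh.IsQuasiLiftable P)
    (F : C) (n : ℕ) :
    (∃ K : ChainComplex C ℕ, Nonempty (K.X 0 ≅ F) ∧ (∀ j : ℕ, j ≤ n → K.ExactAt j) ∧
        (∀ j : ℕ, n + 1 < j → IsZero (K.X j)) ∧ (∀ j : ℕ, 1 ≤ j → j ≤ n + 1 → P (K.X j))) ↔
      (∃ E : CochainComplex C ℤ, PCoh.IsStrictPC P (-(n : ℤ)) E ∧
        Nonempty (DerivedCategory.Q.obj E ≅ (DerivedCategory.singleFunctor C 0).obj F)) := by
  constructor
  · rintro ⟨K, ⟨eF⟩, hex, hz, hP⟩
    have key : ∀ d : ℕ, d ≤ n → IsNPC P (-(d : ℤ))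
        ((DerivedCategory.singleFunctor C 0).obj (K.cycles (n - d))) := by
      intro d
      induction d with
      | zero =>
        intro _
        have hrel : (ComplexShape.down ℕ).Rel (n + 1) (n - 0) := by
          change n - 0 + 1 = n + 1
          omega
        have hepi : Epi (K.toCycles (n + 1) (n - 0)) :=
          epi_toCycles_of_exactAt K (n + 1) (n - 0) hrel (hex _ (by omega))
        have hft : PCoh.IsOfFiniteType P ((DerivedCategory.homologyFunctor C 0).obj
            ((DerivedCategory.singleFunctor C 0).obj (K.cycles (n - 0)))) :=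
          ⟨K.X (n + 1), K.toCycles (n + 1) (n - 0) ≫
            ((DerivedCategory.singleFunctorCompHomologyFunctorIso C 0).app _).inv,
            hP (n + 1) (by omega) le_rfl, inferInstance⟩
        have h := (Groth.Agent.S5603.result P hsum hqs hql 0
          ((DerivedCategory.singleFunctor C 0).obj (K.cycles (n - 0)))
          (fun i hi => isZero_homology_single _ i (by omega))).2 hft
        have e0 : (-((0 : ℕ) : ℤ)) = 0 := by simp
        rw [e0]
        exact h
      | succ d ih =>
        intro hd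
        have hrel : (ComplexShape.down ℕ).Rel (n - d) (n - (d + 1)) := by
          change n - (d + 1) + 1 = n - d
          omega
        have hS := cyclesSC_shortExact K (n - d) (n - (d + 1)) hrel (hex _ (by omega))
        have h₁ : IsNPC P (-((d + 1 : ℕ) : ℤ) + 1)
            ((DerivedCategory.singleFunctor C 0).obj (K.cycles (n - d))) := by
          have e1 : (-((d + 1 : ℕ) : ℤ) + 1) = -(d : ℤ) := by omega
          rw [e1]
          exact ih (by omega)
        have h₂ : IsNPC P (-((d + 1 : ℕ) : ℤ))
            ((DerivedCategory.singleFunctor C 0).obj (K.X (n - d))) :=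
          isNPC_single_of_prop _ _ (hP _ (by omega) (by omega))
        exact isNPC_obj₃ hsum hqs hql _ hS.singleTriangle hS.singleTriangle_distinguished h₁ h₂
    have h := key n le_rfl
    have e2 : n - n = 0 := by omega
    rw [e2] at h
    exact IsNPC.of_iso h ((DerivedCategory.singleFunctor C 0).mapIso
      (asIso (K.iCycles 0) ≪≫ eF))
  · rintro ⟨E, hE, ⟨e⟩⟩
    have hF₀ : IsNPC P (-(n : ℤ)) (DerivedCategory.Q.obj ((CochainComplex.singleFunctor C 0).obj F)) :=
      ⟨E, hE, ⟨e ≪≫ (DerivedCategory.singleFunctorIsoCompQ C 0).app F⟩⟩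
    obtain ⟨E₁, v, hE₁, hv⟩ := exists_quasiIso_of_isNPC hsum hqs hql _ _ hF₀
    have hacF : ∀ i : ℤ, i ≠ 0 →
        IsZero (((CochainComplex.singleFunctor C 0).obj F).homology i) := fun i hi =>
      HomologicalComplex.isZero_single_obj_homology (ComplexShape.up ℤ) 0 F i hi
    have hacE₁ : ∀ i : ℤ, 1 ≤ i → IsZero (E₁.homology i) := fun i hi =>
      (hacF i (by omega)).of_iso (asIso (HomologicalComplex.homologyMap v i))
    obtain ⟨E', u', hE', hz', hu'⟩ := exists_strictPC_le hsum hqs hql (-(n : ℤ)) 1 E₁ hE₁ hacE₁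
    have hw : QuasiIso (u' ≫ v) := inferInstance
    have hG : ∀ i : ℤ, (CochainComplex.mappingCone (u' ≫ v)).ExactAt i := fun i =>
      PCohChain.exactAt_mappingCone_of_quasiIso (u' ≫ v) i
    have hzero : ∀ {A B : C}, IsZero A → IsZero B → IsZero (A ⊞ B) := by
      intro A B hA hB
      rw [IsZero.iff_id_eq_zero]
      apply biprod.hom_ext'
      · exact hA.eq_of_src _ _
      · exact hB.eq_of_src _ _
    have hGX : ∀ i : ℤ, (CochainComplex.mappingCone (u' ≫ v)).X i ≅
        E'.X (i + 1) ⊞ ((CochainComplex.singleFunctor C 0).obj F).X i := fun i =>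
      HomologicalComplex.homotopyCofiber.XIsoBiprod (u' ≫ v) i (i + 1) rfl
    have hGzero : ∀ i : ℤ, 1 ≤ i → IsZero ((CochainComplex.mappingCone (u' ≫ v)).X i) :=
      fun i hi => (hzero (hz' _ (by omega))
        (HomologicalComplex.isZero_single_obj_X _ _ _ _ (by omega))).of_iso (hGX i)
    have hG' : ∀ i : ℤ, -((n + 1 : ℕ) : ℤ) < i →
        (sigmaGE (-((n + 1 : ℕ) : ℤ)) (CochainComplex.mappingCone (u' ≫ v))).ExactAt i := by
      intro i hi
      rw [HomologicalComplex.exactAt_iff_isZero_homology]
      have := isIso_homologyMap_sigmaGEι (-((n + 1 : ℕ) : ℤ))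
        (CochainComplex.mappingCone (u' ≫ v)) i hi
      exact ((HomologicalComplex.exactAt_iff_isZero_homology _ _).1 (hG i)).of_iso
        (asIso (HomologicalComplex.homologyMap (sigmaGEι (-((n + 1 : ℕ) : ℤ))
          (CochainComplex.mappingCone (u' ≫ v))) i))
    have hsnd : ∀ {A B : C}, IsZero A → (A ⊞ B ≅ B) := fun {A B} hA =>
      { hom := biprod.snd
        inv := biprod.inr
        hom_inv_id := by
          apply biprod.hom_ext'
          · exact hA.eq_of_src _ _
          · simp
        inv_hom_id := by simp }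
    refine ⟨PCohChain.chainOfCochain (sigmaGE (-((n + 1 : ℕ) : ℤ))
      (CochainComplex.mappingCone (u' ≫ v))), ⟨?_⟩, ?_, ?_, ?_⟩
    · exact sigmaGEXIso (-((n + 1 : ℕ) : ℤ)) _ (-((0 : ℕ) : ℤ)) (by omega) ≪≫
        hGX (-((0 : ℕ) : ℤ)) ≪≫ hsnd (hz' _ (by omega)) ≪≫
        HomologicalComplex.singleObjXIsoOfEq (ComplexShape.up ℤ) 0 F (-((0 : ℕ) : ℤ)) (by simp)
    · intro j hj
      cases j with
      | zero =>
        apply PCohChain.chainOfCochain_exactAt_zero
        · exact hG' _ (by omega)
        · exact IsZero.of_mono ((sigmaGEι (-((n + 1 : ℕ) : ℤ))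
            (CochainComplex.mappingCone (u' ≫ v))).f _) (hGzero _ (by omega))
      | succ k =>
        apply PCohChain.chainOfCochain_exactAt_succ
        exact hG' _ (by omega)
    · intro j hj
      exact isZero_sigmaGE_X (-((n + 1 : ℕ) : ℤ)) _ (-(j : ℤ)) (by omega)
    · intro j hj1 hj2
      have hP1 : P (E'.X (-(j : ℤ) + 1) ⨯ ((CochainComplex.singleFunctor C 0).obj F).X (-(j : ℤ))) :=
        hsum _ _ (hE'.2 _ (by omega))
          (P.prop_of_isZero (HomologicalComplex.isZero_single_obj_X _ _ _ _ (by omega)))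
      exact P.prop_of_iso ((sigmaGEXIso (-((n + 1 : ℕ) : ℤ)) _ (-(j : ℤ)) (by omega) ≪≫
        hGX (-(j : ℤ)) ≪≫ biprod.isoProd _ _).symm) hP1

end Groth.Agent.S12102
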