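import Groth.Statements.S12103
import Groth.Agent.Lib.Helper57.CP5

set_option autoImplicit false
universe u
open CategoryTheory CategoryTheory.Limits AlgebraicGeometry Opposite
open EtDl

namespace Groth.Agent.S12103

/-- Let h : X ⟶ Y and g : Y ⟶ Z be separated and locally of finite type. There is one and only one
isomorphism of functors (h ≫ g)_! ≅ h_! ⋙ g_! on abelian étale sheaves which is compatible with the
inclusions into direct images: for every F, composing it with g_!(h_! F ⟶ h_* F) ⟶ g_* h_* F gives
the inclusion (h ≫ g)_! F ⟶ (h ≫ g)_* F followed by the composition isomorphism (h ≫ g)_* ≅ g_* h_*.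
(This pins the isomorphism; existence of some isomorphism of functors is a weaker statement.) -/
theorem result {X Y Z : Scheme.{u}} (h : X ⟶ Y) (g : Y ⟶ Z)
    [IsSeparated h] [LocallyOfFiniteType h] [IsSeparated g] [LocallyOfFiniteType g] :
    ∃! φ : EtShriek.lowerShriek (h ≫ g) ≅ EtShriek.lowerShriek h ⋙ EtShriek.lowerShriek g,
      ∀ F : EtCoh.Ab X,
        φ.hom.app F ≫ (EtShriek.lowerShriek g).map (EtShriek.lowerShriekToPush h F) ≫
            EtShriek.lowerShriekToPush g ((EtCoh.push h).obj F) =
          EtShriek.lowerShriekToPush (h ≫ g) F ≫ (EtCoh.pushComp g h).inv.app F := by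
  refine ⟨Groth.Agent.Lib.Helper57.EZ.lowerShriekComp h g,
    fun F => Groth.Agent.Lib.Helper57.EZ.lowerShriekComp_compat h g F, ?_⟩
  intro φ hφ
  apply Iso.ext
  apply NatTrans.ext
  funext F
  haveI : Mono ((EtShriek.lowerShriek g).map (EtShriek.lowerShriekToPush h F)) := by
    rw [Groth.Agent.Lib.Helper57.EZ.lowerShriekToPush_eq h F, Functor.map_comp]
    haveI := Groth.Agent.Lib.Helper57.EZ.mono_lowerShriek_map g
      (Groth.Agent.Lib.Helper57.EZ.LSToPush h F)
      (Groth.Agent.Lib.Helper57.EZ.LSToPush_injective h F)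
    infer_instance
  rw [← cancel_mono ((EtShriek.lowerShriek g).map (EtShriek.lowerShriekToPush h F) ≫
    EtShriek.lowerShriekToPush g ((EtCoh.push h).obj F))]
  rw [hφ F, Groth.Agent.Lib.Helper57.EZ.lowerShriekComp_compat h g F]

end Groth.Agent.S12103
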