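import Groth.Statements.S12107
import Mathlib.CategoryTheory.Adhesive.Basic

set_option autoImplicit false
universe u
open CategoryTheory
open SGA4

namespace Groth.Agent.S12107

open CategoryTheory CategoryTheory.Limits

theorem sheafAdhesive {C : Type u} [SmallCategory C] (J : GrothendieckTopology C) :
    Adhesive (Sheaf J (Type u)) :=
  adhesive_of_reflective (sheafificationAdjunction J (Type u))

theorem mono_snd {E : Type*} [Category E] [HasTerminal E] [HasBinaryProducts E] (U X : E)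
    (hU : Mono (terminal.from U)) : Mono (prod.snd : U ⨯ X ⟶ X) := by
  constructor
  intro T a b hab
  refine Limits.prod.hom_ext ?_ hab
  rw [← cancel_mono (terminal.from U)]
  exact Subsingleton.elim _ _

theorem isPullback_snd_map {E : Type*} [Category E] [HasBinaryProducts E] (U : E) {X X' : E}
    (m : X ⟶ X') :
    IsPullback (prod.snd : U ⨯ X ⟶ X) (prod.map (𝟙 U) m) m (prod.snd : U ⨯ X' ⟶ X') := by
  refine ⟨⟨by rw [prod.map_snd]⟩, ⟨PullbackCone.IsLimit.mk _
    (fun s => prod.lift (s.snd ≫ prod.fst) s.fst) ?_ ?_ ?_⟩⟩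
  · intro s
    rw [prod.lift_snd]
  · intro s
    refine Limits.prod.hom_ext ?_ ?_
    · rw [Category.assoc, prod.map_fst, prod.lift_fst_assoc, Category.comp_id]
    · rw [Category.assoc, prod.map_snd, prod.lift_snd_assoc, s.condition]
  · intro s l h1 h2
    refine Limits.prod.hom_ext ?_ ?_
    · rw [prod.lift_fst, ← h2, Category.assoc, prod.map_fst, Category.comp_id]
    · rw [prod.lift_snd, h1]

open CategoryTheory.Limits in
/-- In the topos of sheaves of sets on a small site, let U be an open (a subobject of the final object)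
and, for an object X, let X_CU be the pushout of U ← U × X → X along the two projections. For a
morphism m : X ⟶ X' let k : X_CU ⟶ X'_CU be the induced morphism (compatible with the maps from U
and with m). Then the square with sides m, k and the canonical maps X ⟶ X_CU, X' ⟶ X'_CU is
cartesian if and only if id_U × m : U × X ⟶ U × X' is an isomorphism (that is, m restricts to an
isomorphism over U). -/
theorem result {C : Type u} [SmallCategory C] (J : GrothendieckTopology C)
    (U : Sheaf J (Type u)) (hU : SGA4.IsOpen U) {X X' : Sheaf J (Type u)} (m : X ⟶ X')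
    (k : pushout (prod.fst : U ⨯ X ⟶ U) (prod.snd : U ⨯ X ⟶ X) ⟶
      pushout (prod.fst : U ⨯ X' ⟶ U) (prod.snd : U ⨯ X' ⟶ X'))
    (hk₁ : pushout.inl (prod.fst : U ⨯ X ⟶ U) (prod.snd : U ⨯ X ⟶ X) ≫ k =
      pushout.inl (prod.fst : U ⨯ X' ⟶ U) (prod.snd : U ⨯ X' ⟶ X'))
    (hk₂ : pushout.inr (prod.fst : U ⨯ X ⟶ U) (prod.snd : U ⨯ X ⟶ X) ≫ k =
      m ≫ pushout.inr (prod.fst : U ⨯ X' ⟶ U) (prod.snd : U ⨯ X' ⟶ X')) :
    IsPullback m (pushout.inr (prod.fst : U ⨯ X ⟶ U) (prod.snd : U ⨯ X ⟶ X))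
        (pushout.inr (prod.fst : U ⨯ X' ⟶ U) (prod.snd : U ⨯ X' ⟶ X')) k ↔
      IsIso (prod.map (𝟙 U) m) := by
  haveI : Adhesive (Sheaf J (Type u)) := sheafAdhesive J
  haveI hm1 : Mono (prod.snd : U ⨯ X ⟶ X) := mono_snd U X hU
  haveI hm2 : Mono (prod.snd : U ⨯ X' ⟶ X') := mono_snd U X' hU
  have H : IsPushout (prod.fst : U ⨯ X ⟶ U) (prod.snd : U ⨯ X ⟶ X)
      (pushout.inl _ _) (pushout.inr _ _) := IsPushout.of_hasPushout _ _
  have H' : IsPushout (prod.fst : U ⨯ X' ⟶ U) (prod.snd : U ⨯ X' ⟶ X')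
      (pushout.inl _ _) (pushout.inr _ _) := IsPushout.of_hasPushout _ _
  have P : IsPullback (prod.fst : U ⨯ X ⟶ U) (prod.snd : U ⨯ X ⟶ X)
      (pushout.inl _ _) (pushout.inr _ _) := Adhesive.isPullback_of_isPushout_of_mono_right H
  have P' : IsPullback (prod.fst : U ⨯ X' ⟶ U) (prod.snd : U ⨯ X' ⟶ X')
      (pushout.inl _ _) (pushout.inr _ _) := Adhesive.isPullback_of_isPushout_of_mono_right H'
  constructor
  · intro hpb
    have Q := P.paste_vert hpb.flip
    rw [hk₁] at Q
    have e : prod.map (𝟙 U) m = (Q.isoIsPullback _ _ P').hom := by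
      apply P'.hom_ext
      · rw [IsPullback.isoIsPullback_hom_fst, prod.map_fst, Category.comp_id]
      · rw [IsPullback.isoIsPullback_hom_snd, prod.map_snd]
    rw [e]
    infer_instance
  · intro hiso
    have VK := Adhesive.van_kampen' H'
    have B1 : IsPullback (prod.fst : U ⨯ X ⟶ U) (prod.map (𝟙 U) m) (𝟙 U)
        (prod.fst : U ⨯ X' ⟶ U) :=
      IsPullback.of_vert_isIso ⟨by rw [prod.map_fst]⟩
    have B2 := isPullback_snd_map U m
    have := (VK (prod.fst : U ⨯ X ⟶ U) (prod.snd : U ⨯ X ⟶ X) (pushout.inl _ _) (pushout.inr _ _)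
      (prod.map (𝟙 U) m) (𝟙 U) m k B1 B2 ⟨by rw [hk₁, Category.id_comp]⟩ ⟨hk₂⟩
      ⟨pushout.condition⟩).1 H
    exact this.2.flip

end Groth.Agent.S12107
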