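import Groth.Statements.S12108
import Mathlib

set_option autoImplicit false
open CategoryTheory CategoryTheory.Limits
universe u
open SGA4

namespace Groth.Agent.S12108

section helpers
open Opposite

section
variable {C : Type u} [SmallCategory C] (J : GrothendieckTopology C) {X : C} {ι : Type u}
    (Y : ι → C) (s : ∀ i, Y i ⟶ X)

/-- concrete coproduct presheaf of the representables -/
def sigmaPsh : Cᵒᵖ ⥤ Type u where
  obj U := Σ i, (U.unop ⟶ Y i)
  map f := ↾fun x => ⟨x.1, f.unop ≫ x.2⟩
  map_id U := by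
    refine ConcreteCategory.hom_ext _ _ (fun x => ?_)
    obtain ⟨i, g⟩ := x
    show (⟨i, _⟩ : Σ i, (U.unop ⟶ Y i)) = ⟨i, g⟩
    simp
  map_comp {U V W} f g := by
    refine ConcreteCategory.hom_ext _ _ (fun x => ?_)
    obtain ⟨i, h⟩ := x
    show (⟨i, (f ≫ g).unop ≫ h⟩ : Σ i, (W.unop ⟶ Y i)) = ⟨i, g.unop ≫ (f.unop ≫ h)⟩
    simp

@[simp] lemma sigmaPsh_map_apply {U V : Cᵒᵖ} (f : U ⟶ V) (x : Σ i, (U.unop ⟶ Y i)) :
    (sigmaPsh Y).map f x = ⟨x.1, f.unop ≫ x.2⟩ := rfl

def sigmaInj (i : ι) : yoneda.obj (Y i) ⟶ sigmaPsh Y where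
  app U := ↾fun g => ⟨i, g⟩
  naturality U V f := by
    refine ConcreteCategory.hom_ext _ _ (fun x => ?_)
    rfl

@[simp] lemma sigmaInj_app_apply (i : ι) (U : Cᵒᵖ) (g : U.unop ⟶ Y i) :
    (sigmaInj Y i).app U g = ⟨i, g⟩ := rfl

def sigmaDesc : sigmaPsh Y ⟶ yoneda.obj X where
  app U := ↾fun x => x.2 ≫ s x.1
  naturality U V f := by
    refine ConcreteCategory.hom_ext _ _ (fun x => ?_)
    obtain ⟨i, h⟩ := x
    show (f.unop ≫ h) ≫ s i = f.unop ≫ (h ≫ s i)
    simp

@[simp] lemma sigmaDesc_app_apply (U : Cᵒᵖ) (x : Σ i, (U.unop ⟶ Y i)) :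
    (sigmaDesc Y s).app U x = x.2 ≫ s x.1 := rfl

lemma sigmaInj_desc (i : ι) : sigmaInj Y i ≫ sigmaDesc Y s = yoneda.map (s i) := by
  ext U g
  rfl

/-- the concrete cofan is a coproduct -/
def sigmaIsColimit : IsColimit (Cofan.mk (sigmaPsh Y) (sigmaInj Y)) :=
  Cofan.IsColimit.mk _
    (fun t => { app := fun U => ↾fun x => (t.inj x.1).app U x.2
                naturality := by
                  intro U V f
                  refine ConcreteCategory.hom_ext _ _ (fun x => ?_)
                  obtain ⟨i, h⟩ := x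
                  exact (NatTrans.naturality_apply (t.inj i) f h) })
    (fun t j => by
      ext U g
      rfl)
    (fun t m hm => by
      ext U x
      obtain ⟨i, h⟩ := x
      have := congrArg (fun k => k.app U h) (hm i)
      exact this)

lemma imageSieve_sigmaDesc {U : C} (g : U ⟶ X) :
    Presheaf.imageSieve (sigmaDesc Y s) (U := U) g = Sieve.pullback g (Sieve.ofArrows Y s) := by
  ext V v
  simp only [Presheaf.imageSieve_apply, Sieve.pullback_apply, Sieve.generate_apply]
  constructor
  · rintro ⟨⟨i, a⟩, ha⟩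
    exact ⟨_, a, s i, ⟨i⟩, ha⟩
  · rintro ⟨_, a, _, ⟨i⟩, fac⟩
    exact ⟨⟨i, a⟩, fac⟩

lemma locSurj_iff :
    Presheaf.IsLocallySurjective J (sigmaDesc Y s) ↔ Sieve.ofArrows Y s ∈ J X := by
  constructor
  · intro h
    have := h.imageSieve_mem (U := X) (𝟙 X)
    rw [imageSieve_sigmaDesc, Sieve.pullback_id] at this
    exact this
  · intro h
    refine ⟨fun {U} g => ?_⟩
    rw [imageSieve_sigmaDesc]
    exact J.pullback_stable g h

lemma locInj_iff : Presheaf.IsLocallyInjective J (sigmaDesc Y s) ↔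
    (∀ i, Presheaf.IsLocallyInjective J (yoneda.map (s i))) ∧
    (∀ i j, i ≠ j → ∀ (U : C) (g : U ⟶ Y i) (g' : U ⟶ Y j),
      g ≫ s i = g' ≫ s j → ⊥ ∈ J U) := by
  constructor
  · intro h
    refine ⟨fun i => ⟨fun {U} g g' hgg' => ?_⟩, fun i j hij U g g' hgg' => ?_⟩
    · have := h.equalizerSieve_mem (X := U) (⟨i, g⟩ : Σ i, (U.unop ⟶ Y i)) ⟨i, g'⟩ hgg'
      refine J.superset_covering ?_ this
      intro V f hf
      have hf' : (⟨i, f ≫ g⟩ : Σ i, (V ⟶ Y i)) = ⟨i, f ≫ g'⟩ := hf
      have := eq_of_heq (Sigma.mk.inj hf').2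
      exact this
    · have := h.equalizerSieve_mem (X := op U) (⟨i, g⟩ : Σ i, (U ⟶ Y i)) ⟨j, g'⟩ hgg'
      refine J.superset_covering ?_ this
      intro V f hf
      have hf' : (⟨i, f ≫ g⟩ : Σ i, (V ⟶ Y i)) = ⟨j, f ≫ g'⟩ := hf
      exact absurd (congrArg Sigma.fst hf') hij
  · rintro ⟨h1, h2⟩
    refine ⟨fun {U} x y hxy => ?_⟩
    obtain ⟨i, g⟩ := x
    obtain ⟨j, g'⟩ := y
    by_cases hij : i = j
    · subst hij
      have := (h1 i).equalizerSieve_mem (X := U) g g' hxy
      refine J.superset_covering ?_ this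
      intro V f hf
      have hf' : f ≫ g = f ≫ g' := hf
      show (⟨i, f ≫ g⟩ : Σ i, (V ⟶ Y i)) = ⟨i, f ≫ g'⟩
      rw [hf']
    · exact J.superset_covering bot_le (h2 i j hij _ g g' hxy)

end

section general
variable {C : Type u} [SmallCategory C] (J : GrothendieckTopology C)

lemma isIso_map_iff_W {P Q : Cᵒᵖ ⥤ Type u} (f : P ⟶ Q) :
    IsIso ((presheafToSheaf J (Type u)).map f) ↔
      Presheaf.IsLocallyInjective J f ∧ Presheaf.IsLocallySurjective J f := by
  rw [← GrothendieckTopology.W_iff_isLocallyBijective, GrothendieckTopology.W_iff]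

lemma mono_sheaf_iff {F G : Sheaf J (Type u)} (φ : F ⟶ G) :
    Mono φ ↔ Sheaf.IsLocallyInjective φ := by
  constructor
  · intro h
    have h1 : Mono ((sheafToPresheaf J (Type u)).map φ) := inferInstance
    rw [NatTrans.mono_iff_mono_app] at h1
    refine Presheaf.isLocallyInjective_of_injective J _ (fun U => ?_)
    exact (mono_iff_injective _).1 (h1 U)
  · intro h
    exact Sheaf.mono_of_isLocallyInjective φ

lemma isIso_map_diagonal_iff {P Q : Cᵒᵖ ⥤ Type u} (f : P ⟶ Q) :
    IsIso ((presheafToSheaf J (Type u)).map (pullback.diagonal f)) ↔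
      Presheaf.IsLocallyInjective J f := by
  have key : pullback.diagonal ((presheafToSheaf J (Type u)).map f) =
      (presheafToSheaf J (Type u)).map (pullback.diagonal f) ≫
        (PreservesPullback.iso (presheafToSheaf J (Type u)) f f).hom := by
    apply pullback.hom_ext
    · rw [Category.assoc, PreservesPullback.iso_hom_fst, ← Functor.map_comp]
      simp
    · rw [Category.assoc, PreservesPullback.iso_hom_snd, ← Functor.map_comp]
      simp
  rw [← Presheaf.isLocallyInjective_presheafToSheaf_map_iff, ← mono_sheaf_iff,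
    ← pullback.isIso_diagonal_iff, key]
  constructor
  · intro h
    infer_instance
  · intro h
    exact IsIso.of_isIso_comp_right _ (PreservesPullback.iso (presheafToSheaf J (Type u)) f f).hom

end general

section initial
variable {C : Type u} [SmallCategory C] (J : GrothendieckTopology C)

/-- the empty presheaf -/
def emptyPsh : Cᵒᵖ ⥤ Type u := (Functor.const _).obj PEmpty

def emptyTo (Q : Cᵒᵖ ⥤ Type u) : emptyPsh (C := C) ⟶ Q where
  app U := ↾fun x => PEmpty.elim x
  naturality U V f := by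
    refine ConcreteCategory.hom_ext _ _ (fun x => ?_)
    exact PEmpty.elim x

def emptyIsInitial : IsInitial (emptyPsh (C := C)) :=
  IsInitial.ofUniqueHom (fun Q => emptyTo Q) (fun Q m => by
    ext U x
    exact PEmpty.elim x)

lemma initial_iff (Q : Cᵒᵖ ⥤ Type u) :
    Nonempty (IsInitial ((presheafToSheaf J (Type u)).obj Q)) ↔
      ∀ (U : C), Nonempty (Q.obj (op U)) → ⊥ ∈ J U := by
  have hE : IsInitial ((presheafToSheaf J (Type u)).obj (emptyPsh (C := C))) :=
    IsInitial.isInitialObj _ _ emptyIsInitial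
  have h1 : Nonempty (IsInitial ((presheafToSheaf J (Type u)).obj Q)) ↔
      IsIso ((presheafToSheaf J (Type u)).map (emptyTo Q)) := by
    constructor
    · rintro ⟨hQ⟩
      exact isIso_of_isInitial hE hQ _
    · intro h
      exact ⟨IsInitial.ofIso hE (asIso ((presheafToSheaf J (Type u)).map (emptyTo Q)))⟩
  rw [h1, isIso_map_iff_W]
  constructor
  · rintro ⟨-, h⟩ U ⟨z⟩
    have := h.imageSieve_mem (U := U) z
    refine J.superset_covering ?_ this
    rintro V f ⟨t, -⟩
    exact PEmpty.elim t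
  · intro h
    refine ⟨⟨fun {U} x => PEmpty.elim x⟩, ⟨fun {U} z => ?_⟩⟩
    exact J.superset_covering bot_le (h U ⟨z⟩)

end initial

section
variable {C : Type u} [SmallCategory C] (J : GrothendieckTopology C) {X : C} {ι : Type u}
    (Y : ι → C) (s : ∀ i, Y i ⟶ X)

lemma nonempty_pullback_iff (i j : ι) (U : C) :
    Nonempty ((pullback (yoneda.map (s i)) (yoneda.map (s j))).obj (op U)) ↔
      ∃ (g : U ⟶ Y i) (g' : U ⟶ Y j), g ≫ s i = g' ≫ s j := by
  constructor
  · rintro ⟨z⟩
    refine ⟨(pullback.fst (yoneda.map (s i)) (yoneda.map (s j))).app (op U) z,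
      (pullback.snd (yoneda.map (s i)) (yoneda.map (s j))).app (op U) z, ?_⟩
    have := congrArg (fun k => k.app (op U) z)
      (pullback.condition (f := yoneda.map (s i)) (g := yoneda.map (s j)))
    exact this
  · rintro ⟨g, g', h⟩
    let ψ : yoneda.obj U ⟶ pullback (yoneda.map (s i)) (yoneda.map (s j)) :=
      pullback.lift (yoneda.map g) (yoneda.map g') (by
        rw [← Functor.map_comp, ← Functor.map_comp, h])
    exact ⟨ψ.app (op U) (𝟙 U)⟩

end

section
variable {C : Type u} [SmallCategory C] (J : GrothendieckTopology C) {X : C} {ι : Type u}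
    (Y : ι → C) (s : ∀ i, Y i ⟶ X)

lemma isColimit_iff_isIso :
    Nonempty (IsColimit (Cofan.mk ((presheafToSheaf J (Type u)).obj (yoneda.obj X))
      (fun i => (presheafToSheaf J (Type u)).map (yoneda.map (s i))))) ↔
    IsIso ((presheafToSheaf J (Type u)).map (sigmaDesc Y s)) := by
  let a := presheafToSheaf J (Type u)
  have hP : IsColimit (Cofan.mk (a.obj (sigmaPsh Y)) fun j => a.map (sigmaInj Y j)) :=
    isColimitCofanMkObjOfIsColimit a _ (sigmaInj Y) (sigmaIsColimit Y)
  constructor
  · rintro ⟨hc⟩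
    have h1 : (hP.coconePointUniqueUpToIso hc).hom = a.map (sigmaDesc Y s) := by
      refine Cofan.IsColimit.hom_ext hP _ _ (fun i => ?_)
      have h2 := hP.comp_coconePointUniqueUpToIso_hom hc ⟨i⟩
      refine h2.trans ?_
      show a.map (yoneda.map (s i)) = a.map (sigmaInj Y i) ≫ a.map (sigmaDesc Y s)
      rw [← Functor.map_comp, sigmaInj_desc]
    rw [← h1]
    infer_instance
  · intro h
    refine ⟨IsColimit.ofIsoColimit hP (Cofan.ext (asIso (a.map (sigmaDesc Y s))) (fun i => ?_))⟩
    show a.map (sigmaInj Y i) ≫ a.map (sigmaDesc Y s) = a.map (yoneda.map (s i))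
    rw [← Functor.map_comp, sigmaInj_desc]

end


end helpers

/-- Let `(C, J)` be a small site, `X` an object and `s i : Y i ⟶ X` a family of morphisms indexed by a
small type. The following are equivalent: (i) the family is covering, for every `i` the diagonal of
presheaves `h_{Y i} ⟶ h_{Y i} ×_{h_X} h_{Y i}` becomes an isomorphism under the associated-sheaf
functor, and for all `i ≠ j` the sheaf associated to the presheaf `h_{Y i} ×_{h_X} h_{Y j}` is an
initial object; (ii) the associated sheaf of `X`, with the maps induced by the `s i`, is a coproduct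
of the associated sheaves of the `Y i` in sheaves of sets. -/
theorem result
    {C : Type u} [SmallCategory C] (J : GrothendieckTopology C) {X : C} {ι : Type u}
    (Y : ι → C) (s : ∀ i, Y i ⟶ X) :
    (Sieve.ofArrows Y s ∈ J X ∧
      (∀ i, IsIso ((presheafToSheaf J (Type u)).map (pullback.diagonal (yoneda.map (s i))))) ∧
      (∀ i j, i ≠ j → Nonempty (IsInitial ((presheafToSheaf J (Type u)).obj
        (pullback (yoneda.map (s i)) (yoneda.map (s j))))))) ↔
    Nonempty (IsColimit (Cofan.mk ((presheafToSheaf J (Type u)).obj (yoneda.obj X))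
      (fun i => (presheafToSheaf J (Type u)).map (yoneda.map (s i))))) := by
  rw [isColimit_iff_isIso, isIso_map_iff_W, locSurj_iff, locInj_iff]
  simp only [isIso_map_diagonal_iff, initial_iff, nonempty_pullback_iff]
  constructor
  · rintro ⟨h1, h2, h3⟩
    exact ⟨⟨h2, fun i j hij U g g' h => h3 i j hij U ⟨g, g', h⟩⟩, h1⟩
  · rintro ⟨⟨h2, h3⟩, h1⟩
    exact ⟨h1, h2, fun i j hij U ⟨g, g', h⟩ => h3 i j hij U g g' h⟩

end Groth.Agent.S12108
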