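import Groth.Statements.S12109
import Mathlib

set_option autoImplicit false
open CategoryTheory CategoryTheory.Limits
universe u
open SGA4

namespace Groth.Agent.S12109

section helpers
open Opposite Functor

variable {C : Type u} [SmallCategory C] {C' : Type u} [SmallCategory C'] (u : C ⥤ C')

/-- the canonical iso `u_! h_Y ≅ h_{uY}` -/
noncomputable def e (Y : C) :
    (u.op.lan : (Cᵒᵖ ⥤ Type u) ⥤ (C'ᵒᵖ ⥤ Type u)).obj (yoneda.obj Y) ≅ yoneda.obj (u.obj Y) :=
  Functor.leftKanExtensionUnique _ (u.op.lanUnit.app (yoneda.obj Y))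
    (yoneda.obj (u.obj Y)) (yonedaMap u Y)

lemma unit_e (Y : C) :
    u.op.lanUnit.app (yoneda.obj Y) ≫ whiskerLeft u.op (e u Y).hom = yonedaMap u Y := by
  simp [e]

lemma lan_map_e {X Y : C} (g : X ⟶ Y) :
    (u.op.lan : (Cᵒᵖ ⥤ Type u) ⥤ (C'ᵒᵖ ⥤ Type u)).map (yoneda.map g) ≫ (e u Y).hom =
      (e u X).hom ≫ yoneda.map (u.map g) := by
  apply Functor.hom_ext_of_isLeftKanExtension _ (u.op.lanUnit.app (yoneda.obj X))
  have h1 := (u.op.lanUnit (H := Type u)).naturality (yoneda.map g)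
  dsimp at h1
  rw [whiskerLeft_comp, whiskerLeft_comp, ← Category.assoc, ← h1, Category.assoc, unit_e,
    ← Category.assoc, unit_e]
  ext U f
  simp [yonedaMap]

lemma faithful_of_inj (h : ∀ X Y : C, Function.Injective
    (fun φ : yoneda.obj X ⟶ yoneda.obj Y =>
      (u.op.lan : (Cᵒᵖ ⥤ Type u) ⥤ (C'ᵒᵖ ⥤ Type u)).map φ)) :
    u.Faithful := by
  refine ⟨fun {X Y} g g' hgg' => ?_⟩
  apply yoneda.map_injective
  apply h X Y
  show u.op.lan.map (yoneda.map g) = u.op.lan.map (yoneda.map g')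
  have h1 := lan_map_e u g
  have h2 := lan_map_e u g'
  rw [hgg'] at h1
  have := h1.trans h2.symm
  exact (cancel_mono (e u Y).hom).1 this

lemma full_of_surj (h : ∀ X Y : C, Function.Surjective
    (fun φ : yoneda.obj X ⟶ yoneda.obj Y =>
      (u.op.lan : (Cᵒᵖ ⥤ Type u) ⥤ (C'ᵒᵖ ⥤ Type u)).map φ)) :
    u.Full := by
  refine ⟨fun {X Y} k => ?_⟩
  obtain ⟨φ, hφ⟩ := h X Y ((e u X).hom ≫ yoneda.map k ≫ (e u Y).inv)
  obtain ⟨g, rfl⟩ := yoneda.map_surjective φ
  refine ⟨g, ?_⟩
  apply yoneda.map_injective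
  have h1 := lan_map_e u g
  dsimp only at hφ
  rw [hφ] at h1
  simp only [Category.assoc, Iso.inv_hom_id, Category.comp_id] at h1
  exact ((cancel_epi (e u X).hom).1 h1).symm

lemma retract_of_iso (X' : C') (F : Cᵒᵖ ⥤ Type u) (hF : IsIndObject F)
    (θ : (u.op.lan : (Cᵒᵖ ⥤ Type u) ⥤ (C'ᵒᵖ ⥤ Type u)).obj F ≅ yoneda.obj X') :
    ∃ (X : C) (i : X' ⟶ u.obj X) (r : u.obj X ⟶ X'), i ≫ r = 𝟙 X' := by
  let P := hF.presentation
  have : PreservesColimitsOfSize.{u, u} (u.op.lan : (Cᵒᵖ ⥤ Type u) ⥤ (C'ᵒᵖ ⥤ Type u)) :=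
    (u.op.lanAdjunction (Type u)).leftAdjoint_preservesColimits
  have hc1 : IsColimit ((u.op.lan : (Cᵒᵖ ⥤ Type u) ⥤ (C'ᵒᵖ ⥤ Type u)).mapCocone P.cocone) :=
    isColimitOfPreserves _ P.coconeIsColimit
  have hc2 := isColimitOfPreserves ((evaluation _ _).obj (op X')) hc1
  obtain ⟨j, w, hw⟩ := Types.jointly_surjective_of_isColimit hc2 (θ.inv.app (op X') (𝟙 X'))
  let ρ : yoneda.obj (u.obj (P.F.obj j)) ⟶ yoneda.obj X' :=
    (e u (P.F.obj j)).inv ≫ u.op.lan.map (P.cocone.ι.app j) ≫ θ.hom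
  let a : X' ⟶ u.obj (P.F.obj j) := (e u (P.F.obj j)).hom.app (op X') w
  refine ⟨P.F.obj j, a, ρ.app (op (u.obj (P.F.obj j))) (𝟙 _), ?_⟩
  have h1 := NatTrans.naturality_apply ρ a.op (𝟙 (u.obj (P.F.obj j)))
  have h2 : ρ.app (op X') a = 𝟙 X' := by
    show θ.hom.app (op X') ((u.op.lan.map (P.cocone.ι.app j)).app (op X')
      ((e u (P.F.obj j)).inv.app (op X') ((e u (P.F.obj j)).hom.app (op X') w))) = 𝟙 X'
    have h3 : (e u (P.F.obj j)).inv.app (op X') ((e u (P.F.obj j)).hom.app (op X') w) = w := by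
      have := congrArg (fun k => k.app (op X') w) (e u (P.F.obj j)).hom_inv_id
      exact this
    rw [h3]
    have h4 : (u.op.lan.map (P.cocone.ι.app j)).app (op X') w = θ.inv.app (op X') (𝟙 X') := hw
    rw [h4]
    have := congrArg (fun k => k.app (op X') (𝟙 X')) θ.inv_hom_id
    exact this
  have h5 : (yoneda.obj (u.obj (P.F.obj j))).map a.op (𝟙 (u.obj (P.F.obj j))) = a := by
    simp
  rw [h5, h2] at h1
  exact h1.symm

lemma lan_bijective [u.Full] [u.Faithful] (F G : Cᵒᵖ ⥤ Type u) :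
    Function.Bijective (fun φ : F ⟶ G =>
      (u.op.lan : (Cᵒᵖ ⥤ Type u) ⥤ (C'ᵒᵖ ⥤ Type u)).map φ) := by
  have : IsIso (u.op.lanAdjunction (Type u)).unit := inferInstance
  exact ((u.op.lanAdjunction (Type u)).fullyFaithfulLOfIsIsoUnit).map_bijective F G

lemma counit_isIso [u.Full] [u.Faithful]
    (hr : ∀ X' : C', ∃ (X : C) (i : X' ⟶ u.obj X) (r : u.obj X ⟶ X'), i ≫ r = 𝟙 X')
    (G' : C'ᵒᵖ ⥤ Type u) : IsIso ((u.op.lanAdjunction (Type u)).counit.app G') := by
  set ε := (u.op.lanAdjunction (Type u)).counit.app G' with hε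
  have h1 : IsIso (((whiskeringLeft _ _ (Type u)).obj u.op).map ε) := by
    have h2 := (u.op.lanAdjunction (Type u)).right_triangle_components G'
    have : IsIso ((u.op.lanAdjunction (Type u)).unit.app
      (((whiskeringLeft _ _ (Type u)).obj u.op).obj G')) := inferInstance
    exact IsIso.of_isIso_fac_left h2
  have h3 : ∀ X : C, Function.Bijective (ε.app (op (u.obj X))) := by
    intro X
    have : IsIso ((((whiskeringLeft _ _ (Type u)).obj u.op).map ε).app (op X)) := inferInstance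
    exact (isIso_iff_bijective _).1 this
  have hret : ∀ (A : C'ᵒᵖ ⥤ Type u) {X' : C'} {Z : C'} (i : X' ⟶ Z) (r : Z ⟶ X')
      (_ : i ≫ r = 𝟙 X') (a : A.obj (op X')), A.map i.op (A.map r.op a) = a := by
    intro A X' Z i r hir a
    have h := Functor.map_comp_apply A r.op i.op a
    have h' : A.map (r.op ≫ i.op) a = a := by
      rw [← op_comp, hir]
      simp
    exact h.symm.trans h'
  have h4' : ∀ X' : C', IsIso (ε.app (op X')) := by
    intro X'
    obtain ⟨X, i, r, hir⟩ := hr X'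
    rw [isIso_iff_bijective]
    constructor
    · intro a a' haa'
      have e1 := NatTrans.naturality_apply ε r.op a
      have e2 := NatTrans.naturality_apply ε r.op a'
      rw [haa'] at e1
      have e3 := (h3 X).1 (e1.trans e2.symm)
      have e4 := congrArg (fun k => (u.op.lan.obj (u.op ⋙ G')).map i.op k) e3
      exact (hret _ i r hir a).symm.trans (e4.trans (hret _ i r hir a'))
    · intro b
      obtain ⟨c, hc⟩ := (h3 X).2 (G'.map r.op b)
      refine ⟨(u.op.lan.obj (u.op ⋙ G')).map i.op c, ?_⟩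
      have e1 := NatTrans.naturality_apply ε i.op c
      rw [hc] at e1
      exact e1.trans (hret G' i r hir b)
  have h4 : ∀ X' : C'ᵒᵖ, IsIso (ε.app X') := fun X' => h4' X'.unop
  exact NatIso.isIso_of_isIso_app ε

lemma isCofiltered_elements_of_isIndObject {D : Type u} [SmallCategory D] (A : Dᵒᵖ ⥤ Type u)
    (h : IsIndObject A) : IsCofiltered A.Elements := by
  have := h.isFiltered
  have h1 : IsFiltered (A.Elements)ᵒᵖ :=
    IsFiltered.of_equivalence (CategoryOfElements.costructuredArrowYonedaEquivalence A).symm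
  exact isCofiltered_of_isFiltered_op _

lemma isIndObject_of_isCofiltered_elements {D : Type u} [SmallCategory D] (A : Dᵒᵖ ⥤ Type u)
    [IsCofiltered A.Elements] : IsIndObject A := by
  rw [isIndObject_iff]
  refine ⟨IsFiltered.of_equivalence (CategoryOfElements.costructuredArrowYonedaEquivalence A), ?_⟩
  have := essentiallySmallSelf (CostructuredArrow yoneda A)
  exact finallySmall_of_essentiallySmall _

lemma isIndObject_restrict [u.Full] [u.Faithful]
    (hr : ∀ X' : C', ∃ (X : C) (i : X' ⟶ u.obj X) (r : u.obj X ⟶ X'), i ≫ r = 𝟙 X')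
    (G' : C'ᵒᵖ ⥤ Type u) (hG' : IsIndObject G') : IsIndObject (u.op ⋙ G') := by
  have hcof := isCofiltered_elements_of_isIndObject G' hG'
  have : IsCofiltered (u.op ⋙ G').Elements := by
    refine { cone_objs := ?_, cone_maps := ?_, nonempty := ?_ }
    · rintro ⟨⟨X1⟩, x1⟩ ⟨⟨X2⟩, x2⟩
      let p' : G'.Elements := ⟨op (u.obj X1), x1⟩
      let q' : G'.Elements := ⟨op (u.obj X2), x2⟩
      let w' := IsCofiltered.min p' q'
      let a1 : w' ⟶ p' := IsCofiltered.minToLeft p' q'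
      let a2 : w' ⟶ q' := IsCofiltered.minToRight p' q'
      obtain ⟨Z, i, r, hir⟩ := hr w'.1.unop
      refine ⟨⟨op Z, G'.map r.op w'.2⟩, ⟨(u.preimage (a1.1.unop ≫ i)).op, ?_⟩,
        ⟨(u.preimage (a2.1.unop ≫ i)).op, ?_⟩, trivial⟩
      · show G'.map (u.map (u.preimage (a1.1.unop ≫ i))).op (G'.map r.op w'.2) = x1
        rw [u.map_preimage, ← Functor.map_comp_apply, ← op_comp, Category.assoc, hir,
          Category.comp_id]
        exact a1.2
      · show G'.map (u.map (u.preimage (a2.1.unop ≫ i))).op (G'.map r.op w'.2) = x2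
        rw [u.map_preimage, ← Functor.map_comp_apply, ← op_comp, Category.assoc, hir,
          Category.comp_id]
        exact a2.2
    · rintro ⟨⟨X1⟩, x1⟩ ⟨⟨X2⟩, x2⟩ f g
      let p' : G'.Elements := ⟨op (u.obj X1), x1⟩
      let q' : G'.Elements := ⟨op (u.obj X2), x2⟩
      let f' : p' ⟶ q' := ⟨(u.map f.1.unop).op, f.2⟩
      let g' : p' ⟶ q' := ⟨(u.map g.1.unop).op, g.2⟩
      let w' := IsCofiltered.eq f' g'
      let h' : w' ⟶ p' := IsCofiltered.eqHom f' g'
      have hh' : h' ≫ f' = h' ≫ g' := IsCofiltered.eq_condition f' g'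
      obtain ⟨Z, i, r, hir⟩ := hr w'.1.unop
      refine ⟨⟨op Z, G'.map r.op w'.2⟩, ⟨(u.preimage (h'.1.unop ≫ i)).op, ?_⟩, ?_⟩
      · show G'.map (u.map (u.preimage (h'.1.unop ≫ i))).op (G'.map r.op w'.2) = x1
        rw [u.map_preimage, ← Functor.map_comp_apply, ← op_comp, Category.assoc, hir,
          Category.comp_id]
        exact h'.2
      · apply CategoryOfElements.ext
        show (u.preimage (h'.1.unop ≫ i)).op ≫ f.1 = (u.preimage (h'.1.unop ≫ i)).op ≫ g.1
        have e1 : h'.1 ≫ (u.map f.1.unop).op = h'.1 ≫ (u.map g.1.unop).op :=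
          congrArg Subtype.val hh'
        have e2 : u.map f.1.unop ≫ h'.1.unop = u.map g.1.unop ≫ h'.1.unop :=
          congrArg Quiver.Hom.unop e1
        apply Quiver.Hom.unop_inj
        apply u.map_injective
        show u.map (f.1.unop ≫ u.preimage (h'.1.unop ≫ i)) =
          u.map (g.1.unop ≫ u.preimage (h'.1.unop ≫ i))
        rw [u.map_comp, u.map_comp, u.map_preimage, ← Category.assoc, e2, Category.assoc]
    · obtain ⟨⟨⟨X'⟩, x'⟩⟩ := hcof.nonempty
      obtain ⟨Z, i, r, hir⟩ := hr X'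
      exact ⟨⟨op Z, G'.map r.op x'⟩⟩
  exact isIndObject_of_isCofiltered_elements _

end helpers


/-- Let `u : C ⥤ C'` be a functor between small categories and `u_!` the left Kan extension functor on
presheaves of sets, whose restriction to ind-representable presheaves is the induced functor `Ind C
⥤ Ind C'`. Then `Ind(u)` is an equivalence — `u_!` is bijective on morphisms between
ind-representable presheaves on `C` and every ind-representable presheaf on `C'` is isomorphic to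
`u_! F` for some ind-representable `F` — if and only if `u` is full and faithful and every object of
`C'` is a retract (direct factor) of an object `u X`. -/
theorem result
    {C : Type u} [SmallCategory C] {C' : Type u} [SmallCategory C'] (u : C ⥤ C') :
    ((∀ (F G : Cᵒᵖ ⥤ Type u), IsIndObject F → IsIndObject G →
        Function.Bijective (fun φ : F ⟶ G => (u.op.lan : (Cᵒᵖ ⥤ Type u) ⥤ (C'ᵒᵖ ⥤ Type u)).map φ)) ∧
      (∀ G' : C'ᵒᵖ ⥤ Type u, IsIndObject G' →
        ∃ F : Cᵒᵖ ⥤ Type u, IsIndObject F ∧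
          Nonempty ((u.op.lan : (Cᵒᵖ ⥤ Type u) ⥤ (C'ᵒᵖ ⥤ Type u)).obj F ≅ G'))) ↔
    ((u.Full ∧ u.Faithful) ∧
      ∀ X' : C', ∃ (X : C) (i : X' ⟶ u.obj X) (r : u.obj X ⟶ X'), i ≫ r = 𝟙 X') := by
  constructor
  · rintro ⟨h1, h2⟩
    refine ⟨⟨full_of_surj u (fun X Y => (h1 _ _ (isIndObject_yoneda X) (isIndObject_yoneda Y)).2),
      faithful_of_inj u (fun X Y => (h1 _ _ (isIndObject_yoneda X) (isIndObject_yoneda Y)).1)⟩,
      fun X' => ?_⟩
    obtain ⟨F, hF, ⟨θ⟩⟩ := h2 (yoneda.obj X') (isIndObject_yoneda X')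
    exact retract_of_iso u X' F hF θ
  · rintro ⟨⟨hfull, hfaith⟩, hr⟩
    refine ⟨fun F G _ _ => lan_bijective u F G, fun G' hG' => ?_⟩
    have := counit_isIso u hr G'
    exact ⟨u.op ⋙ G', isIndObject_restrict u hr G' hG',
      ⟨asIso ((u.op.lanAdjunction (Type u)).counit.app G')⟩⟩

end Groth.Agent.S12109
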