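import Groth.Statements.S12112
import Groth.Agent.Lib.Helper60.Rc1
-- import your own Groth.Agent.* helpers here

set_option autoImplicit false
universe u
open CategoryTheory CategoryTheory.Limits AlgebraicGeometry
open Pic13

namespace Groth.Agent.S12112

/-- Let k be an algebraically closed field, i : X ⟶ P^n_k a closed k-immersion, O_X(1) = i^*O(1), and F,
G coherent O_X-modules with a short exact sequence 0 → F(-1) → F → G → 0 and G m-regular. Then (i)
H^q(X, F(n')) = 0 for q ≥ 2 and n' ≥ m - q; (ii) h^1(F(n' - 1)) ≥ h^1(F(n')) for n' ≥ m - 1, h^1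
being the dimension over k; (iii) H^1(X, F(n')) = 0 for n' ≥ (m - 1) + h^1(F(m - 1)); in particular
F is (m + h^1(F(m - 1)))-regular. (The published statement takes F(-1) → F given by a section of
O_X(1); the printed argument uses only the short exact sequence and its twists, so any short exact
sequence of this shape is allowed here.) -/
theorem result (k : Type u) [Field k] [IsAlgClosed k] (n : ℕ) (X : Scheme.{u})
    [X.Over (Spec (CommRingCat.of k))] (i : X ⟶ CohB1.ProjSpace n k) [IsClosedImmersion i]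
    (hi : i ≫ CohB1.ProjSpace.toSpec n k = X ↘ Spec (CommRingCat.of k))
    (F G : X.Modules) (hF : Coh.IsCoh F) (hG : Coh.IsCoh G)
    (f : Pic13.twistOn k i F (-1) ⟶ F) (g : F ⟶ G) (hfg : f ≫ g = 0) (hS : (ShortComplex.mk f g hfg).ShortExact)
    (m : ℤ) (hGm : Pic13.IsMRegular k i G m) :
    (∀ (q : ℕ) (n' : ℤ), 2 ≤ q → m - q ≤ n' → Subsingleton (Coh.HH X (Pic13.twistOn k i F n') q)) ∧
    (∀ n' : ℤ, m - 1 ≤ n' →
      Module.finrank k (Coh.HH X (Pic13.twistOn k i F n') 1) ≤ Module.finrank k (Coh.HH X (Pic13.twistOn k i F (n' - 1)) 1)) ∧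
    (∀ n' : ℤ, (m - 1) + (Module.finrank k (Coh.HH X (Pic13.twistOn k i F (m - 1)) 1) : ℤ) ≤ n' →
      Subsingleton (Coh.HH X (Pic13.twistOn k i F n') 1)) ∧
    Pic13.IsMRegular k i F (m + Module.finrank k (Coh.HH X (Pic13.twistOn k i F (m - 1)) 1)) := by
  classical
  haveI hFq : F.IsQuasicoherent := hF.1
  have hF' : Coh.IsCoh ((Scheme.Modules.pushforward i).obj F) :=
    Groth.Agent.Lib.Helper64.CohPush.isCoh_pushforward_of_isFinite i F hF
  obtain ⟨ι', hmono, ⟨eG⟩⟩ := Groth.Agent.Lib.Helper60.RegCl.exists_mono k i F G hF hG f g hfg hS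
  haveI := hmono
  have hreg : Curv2.IsMRegular k n (cokernel ι') m := by
    intro q hq _
    have h1 := (Groth.Agent.Lib.Helper97.RegClosed.subsingleton_iff k i G (m - q) q).1 (hGm q hq)
    exact Groth.Agent.Lib.Helper97.TwistExact.subsingleton_HH_of_iso'
      ((Groth.Agent.Lib.Helper97.TwistExact.twistF (Twist.twistProjSpace n k (m - q))).mapIso
        eG.symm) q h1
  have hfin : ∀ (d : ℤ) (q : ℕ), Module.finrank k (Coh.HH X (Pic13.twistOn k i F d) q) =
      Module.finrank k (Coh.HH (CohB1.ProjSpace n k)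
        (CohB1.tensorMod ((Scheme.Modules.pushforward i).obj F) (Twist.twistProjSpace n k d)) q) := by
    intro d q
    haveI : Coh.IsQCoh (Pic13.twistOn k i F d) :=
      Groth.Agent.Lib.Helper60.RegCl.isQuasicoherent_twistOn k i F d
    obtain ⟨φ⟩ := Groth.Agent.Lib.Helper97.PruferSerreT4.projection' i F
      (Twist.twistProjSpace n k d) (Groth.Agent.Lib.Helper93.SerreVan.isInvertible_twist n k d)
    rw [Groth.Agent.Lib.Helper97.PushEdgeLin.finrank_eq i k hi (Pic13.twistOn k i F d) q]
    exact Groth.Agent.Lib.Helper60.Koszul.finrank_HH_eq_of_iso k φ q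
  obtain ⟨k1, k2, k3, -⟩ := Groth.Agent.S11296.result k n ((Scheme.Modules.pushforward i).obj F)
    hF' ι' m hreg
  refine ⟨?_, ?_, ?_, ?_⟩
  · intro q n' hq hn'
    exact (Groth.Agent.Lib.Helper97.RegClosed.subsingleton_iff k i F n' q).2 (k1 q n' hq hn')
  · intro n' hn'
    rw [hfin n' 1, hfin (n' - 1) 1]
    exact k2 n' hn'
  · intro n' hn'
    rw [hfin (m - 1) 1] at hn'
    exact (Groth.Agent.Lib.Helper97.RegClosed.subsingleton_iff k i F n' 1).2 (k3 n' hn')
  · intro q hq
    rw [hfin (m - 1) 1]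
    apply (Groth.Agent.Lib.Helper97.RegClosed.subsingleton_iff k i F _ q).2
    rcases Nat.lt_or_ge q 2 with h2 | h2
    · have hq1 : q = 1 := by omega
      subst hq1
      exact k3 _ (by push_cast; omega)
    · exact k1 q _ h2 (by push_cast; omega)

end Groth.Agent.S12112
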