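import Groth.Statements.S1213
-- import your own Groth.Agent.* helpers here

set_option autoImplicit false
universe u
open scoped Classical
open FlatMor

namespace Groth.Agent.S1213

open TensorProduct IsLocalRing

theorem smul_eq_rTensor {R S : Type u} [CommRing R] [CommRing S] [Algebra R S]
    (N : Type u) [AddCommGroup N] [Module S N] [Module R N] [IsScalarTower R S N]
    (M : Type u) [AddCommGroup M] [Module R M] (a : S) (z : N ⊗[R] M) :
    a • z = (((LinearMap.lsmul S N a).restrictScalars R).rTensor M) z := by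
  induction z using TensorProduct.induction_on with
  | zero => simp
  | tmul x y => simp [TensorProduct.smul_tmul']
  | add x y hx hy => rw [smul_add, map_add, hx, hy]

/-- An element of `𝔪 S` followed by any `R`-linear map to `P` lands in `𝔪 • ⊤`. -/
theorem proj_smul_mem {R S : Type u} [CommRing R] [CommRing S] [Algebra R S] (I : Ideal R)
    (N : Type u) [AddCommGroup N] [Module S N] [Module R N] [IsScalarTower R S N]
    (P : Type u) [AddCommGroup P] [Module R P] (proj : N →ₗ[R] P)
    (b : S) (hb : b ∈ I.map (algebraMap R S)) :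
    ∀ n : N, proj (b • n) ∈ (I • ⊤ : Submodule R P) := by
  unfold Ideal.map at hb
  induction hb using Submodule.span_induction with
  | mem x hx =>
    obtain ⟨r, hr, rfl⟩ := hx
    intro n
    rw [algebraMap_smul, map_smul]
    exact Submodule.smul_mem_smul hr Submodule.mem_top
  | zero => intro n; simp
  | add x y _ _ hx hy =>
    intro n
    rw [add_smul, map_add]
    exact Submodule.add_mem _ (hx n) (hy n)
  | smul a x _ hx =>
    intro n
    rw [smul_eq_mul, mul_comm, mul_smul]
    exact hx (a • n)

theorem core {R S : Type u} [CommRing R] [IsLocalRing R] [CommRing S] [Algebra R S]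
    (N : Type u) [AddCommGroup N] [Module S N] [Module R N] [IsScalarTower R S N]
    (M : Type u) [AddCommGroup M] [Module R M]
    (M₁ : Submodule R N) [Module.Finite R M₁] (proj : N →ₗ[R] M₁)
    (hproj : ∀ x : M₁, proj (x : N) = x)
    (f b : S) (hfb : f + b = 1) (hb : b ∈ (maximalIdeal R).map (algebraMap R S))
    (z₁ : M₁ ⊗[R] M) (hz : f • (M₁.subtype.rTensor M z₁) = 0) : z₁ = 0 := by
  let mulBy : S → (N →ₗ[R] N) := fun s => (LinearMap.lsmul S N s).restrictScalars R
  let f' : M₁ →ₗ[R] M₁ := proj ∘ₗ mulBy f ∘ₗ M₁.subtype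
  have hsum : ∀ x : M₁, f' x + proj (b • (x : N)) = x := by
    intro x
    have : f' x = proj (f • (x : N)) := rfl
    rw [this, ← map_add, ← add_smul, hfb, one_smul, hproj]
  have hbmem : ∀ x : M₁, proj (b • (x : N)) ∈ (maximalIdeal R • ⊤ : Submodule R M₁) := fun x =>
    proj_smul_mem (maximalIdeal R) N M₁ proj b hb (x : N)
  have hle : (⊤ : Submodule R M₁) ≤ LinearMap.range f' ⊔ maximalIdeal R • ⊤ := by
    intro x _
    rw [← hsum x]
    exact Submodule.add_mem_sup (LinearMap.mem_range_self f' x) (hbmem x)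
  have hrange : (⊤ : Submodule R M₁) ≤ LinearMap.range f' :=
    Submodule.le_of_le_smul_of_le_jacobson_bot Module.Finite.fg_top
      (IsLocalRing.maximalIdeal_le_jacobson ⊥) hle
  have hsurj : Function.Surjective f' := LinearMap.range_eq_top.mp (top_le_iff.mp hrange)
  have hbij : Function.Bijective f' :=
    OrzechProperty.bijective_of_surjective_endomorphism f' hsurj
  let e : M₁ ≃ₗ[R] M₁ := LinearEquiv.ofBijective f' hbij
  have hinj : Function.Injective (f'.rTensor M) := (e.rTensor M).injective
  apply hinj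
  rw [map_zero]
  have h1 : f'.rTensor M = (proj.rTensor M) ∘ₗ ((mulBy f).rTensor M) ∘ₗ (M₁.subtype.rTensor M) := by
    simp only [f', LinearMap.rTensor_comp]
  rw [h1, LinearMap.comp_apply, LinearMap.comp_apply]
  have h2 : ((mulBy f).rTensor M) (M₁.subtype.rTensor M z₁) = f • (M₁.subtype.rTensor M z₁) :=
    (smul_eq_rTensor N M f _).symm
  rw [h2, hz, map_zero]

theorem exists_finset {R : Type u} [CommRing R]
    (N : Type u) [AddCommGroup N] [Module R N]
    (ι : Type u) (F : ι → Submodule R N) (hF : iSup F = ⊤)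
    (M : Type u) [AddCommGroup M] [Module R M] (z : N ⊗[R] M) :
    ∃ T : Finset ι, z ∈ LinearMap.range ((⨆ i ∈ T, F i).subtype.rTensor M) := by
  classical
  have mono : ∀ {P P' : Submodule R N}, P ≤ P' →
      LinearMap.range (P.subtype.rTensor M) ≤ LinearMap.range (P'.subtype.rTensor M) := by
    intro P P' h
    have : P.subtype = P'.subtype ∘ₗ Submodule.inclusion h := by
      ext x; rfl
    rw [this, LinearMap.rTensor_comp]
    exact LinearMap.range_comp_le_range _ _
  induction z using TensorProduct.induction_on with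
  | zero => exact ⟨∅, Submodule.zero_mem _⟩
  | tmul n m =>
    have hn : n ∈ ⨆ i, F i := by rw [hF]; trivial
    obtain ⟨T, hT⟩ := (Submodule.mem_iSup_iff_exists_finset).mp hn
    exact ⟨T, ⟨(⟨n, hT⟩ : (⨆ i ∈ T, F i : Submodule R N)) ⊗ₜ m, by simp⟩⟩
  | add x y hx hy =>
    obtain ⟨T₁, h₁⟩ := hx
    obtain ⟨T₂, h₂⟩ := hy
    refine ⟨T₁ ∪ T₂, Submodule.add_mem _ ?_ ?_⟩
    · exact mono (biSup_mono fun i hi => Finset.mem_union_left _ hi) h₁
    · exact mono (biSup_mono fun i hi => Finset.mem_union_right _ hi) h₂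

theorem isCompl_finset {R : Type u} [CommRing R]
    (N : Type u) [AddCommGroup N] [Module R N]
    (ι : Type u) (F : ι → Submodule R N) (hF : iSup F = ⊤) (hind : iSupIndep F) (T : Finset ι) :
    IsCompl (⨆ i ∈ T, F i) (⨆ i ∈ ((T : Set ι)ᶜ), F i) := by
  constructor
  · have := hind.disjoint_biSup_biSup' (s := (T : Set ι)) (t := (T : Set ι)ᶜ)
      disjoint_compl_right T.finite_toSet
    simpa only [Finset.mem_coe] using this
  · rw [codisjoint_iff]
    have : (⨆ i ∈ (T : Set ι), F i) ⊔ (⨆ i ∈ ((T : Set ι)ᶜ), F i) = ⊤ := by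
      rw [← iSup_union, Set.union_compl_self, iSup_univ, hF]
    simpa only [Finset.mem_coe] using this

end Groth.Agent.S1213

namespace Groth.Agent.S1213

open TensorProduct IsLocalRing in
/-- Let R be a local ring, S an R-algebra and N an S-module which, as an R-module, is an internal direct
sum of finite R-submodules. Then for every R-module M and every prime q of S which is the
annihilator of an element of the S-module N ⊗_R M we have q + 𝔪_R S ≠ S. -/
theorem result {R S : Type u} [CommRing R] [IsLocalRing R] [CommRing S] [Algebra R S]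
    (N : Type u) [AddCommGroup N] [Module S N] [Module R N] [IsScalarTower R S N]
    (ι : Type u) (F : ι → Submodule R N) (hF : DirectSum.IsInternal F) (hfin : ∀ i, Module.Finite R (F i))
    (M : Type u) [AddCommGroup M] [Module R M]
    (q : Ideal S) [q.IsPrime] (hq : q ∈ FlatCA.ass S (N ⊗[R] M)) :
    q ⊔ (maximalIdeal R).map (algebraMap R S) ≠ ⊤ := by
  intro htop
  obtain ⟨hqp, z, hz⟩ := hq
  have h1 : (1 : S) ∈ q ⊔ (maximalIdeal R).map (algebraMap R S) := by rw [htop]; trivial
  obtain ⟨f, hf, b, hb, hfb⟩ := Submodule.mem_sup.mp h1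
  have hfz : f • z = 0 := by
    rw [hz] at hf
    exact (Submodule.mem_annihilator_span_singleton z f).mp hf
  obtain ⟨T, z₁, hz₁⟩ := exists_finset N ι F hF.submodule_iSup_eq_top M z
  have hcompl := isCompl_finset N ι F hF.submodule_iSup_eq_top hF.submodule_iSupIndep T
  have hfg : (⨆ i ∈ T, F i).FG :=
    Submodule.fg_biSup T F fun i _ => (Submodule.fg_top _).mp (Module.Finite.fg_top (self := hfin i))
  have : Module.Finite R (⨆ i ∈ T, F i : Submodule R N) := Module.Finite.iff_fg.mpr hfg
  have hz₁0 : z₁ = 0 := by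
    refine core N M (⨆ i ∈ T, F i) (Submodule.projectionOnto _ _ hcompl) ?_ f b hfb hb z₁ ?_
    · intro x
      exact Submodule.projectionOnto_apply_left hcompl x
    · rw [hz₁]; exact hfz
  have hz0 : z = 0 := by rw [← hz₁, hz₁0, map_zero]
  have : q = ⊤ := by
    rw [hz, hz0]
    simp [Submodule.annihilator_bot]
  exact hqp.ne_top this

end Groth.Agent.S1213
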