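import Groth.Statements.S1212
import Groth.Agent.S1213

set_option autoImplicit false
universe u
open FlatMor

namespace Groth.Agent.S1212

open TensorProduct IsLocalRing

theorem map_mem_smul_top {R : Type u} [CommRing R] (I : Ideal R)
    {A B : Type u} [AddCommGroup A] [Module R A] [AddCommGroup B] [Module R B]
    (g : A →ₗ[R] B) (y : A) (hy : y ∈ (I • ⊤ : Submodule R A)) :
    g y ∈ (I • ⊤ : Submodule R B) := by
  refine Submodule.smul_induction_on hy ?_ ?_
  · intro r hr n _
    rw [map_smul]
    exact Submodule.smul_mem_smul hr Submodule.mem_top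
  · intro x y hx hy
    rw [map_add]
    exact Submodule.add_mem _ hx hy

theorem core2 {R : Type u} [CommRing R] [IsLocalRing R]
    (N : Type u) [AddCommGroup N] [Module R N]
    (M : Type u) [AddCommGroup M] [Module R M]
    (M₁ : Submodule R N) [Module.Finite R M₁] (proj : N →ₗ[R] M₁)
    (hproj : ∀ x : M₁, proj (x : N) = x)
    (φ : N →ₗ[R] N) (hφ : ∀ x : N, x - φ x ∈ (maximalIdeal R • ⊤ : Submodule R N))
    (z₁ : M₁ ⊗[R] M) (hz : φ.rTensor M (M₁.subtype.rTensor M z₁) = 0) : z₁ = 0 := by
  let f' : M₁ →ₗ[R] M₁ := proj ∘ₗ φ ∘ₗ M₁.subtype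
  have hbmem : ∀ x : M₁, x - f' x ∈ (maximalIdeal R • ⊤ : Submodule R M₁) := by
    intro x
    have h1 : x - f' x = proj ((x : N) - φ (x : N)) := by
      rw [map_sub, hproj]; rfl
    rw [h1]
    exact map_mem_smul_top _ proj _ (hφ _)
  have hle : (⊤ : Submodule R M₁) ≤ LinearMap.range f' ⊔ maximalIdeal R • ⊤ := by
    intro x _
    have : x = f' x + (x - f' x) := by abel
    rw [this]
    exact Submodule.add_mem_sup (LinearMap.mem_range_self f' x) (hbmem x)
  have hrange : (⊤ : Submodule R M₁) ≤ LinearMap.range f' :=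
    Submodule.le_of_le_smul_of_le_jacobson_bot Module.Finite.fg_top
      (IsLocalRing.maximalIdeal_le_jacobson ⊥) hle
  have hsurj : Function.Surjective f' := LinearMap.range_eq_top.mp (top_le_iff.mp hrange)
  have hbij : Function.Bijective f' :=
    OrzechProperty.bijective_of_surjective_endomorphism f' hsurj
  let e : M₁ ≃ₗ[R] M₁ := LinearEquiv.ofBijective f' hbij
  have hinj : Function.Injective (f'.rTensor M) := (e.rTensor M).injective
  apply hinj
  rw [map_zero]
  have h1 : f'.rTensor M = (proj.rTensor M) ∘ₗ (φ.rTensor M) ∘ₗ (M₁.subtype.rTensor M) := by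
    simp only [f', LinearMap.rTensor_comp]
  rw [h1, LinearMap.comp_apply, LinearMap.comp_apply, hz, map_zero]

/-- Over a local ring, an endomorphism congruent to the identity modulo `𝔪` of a direct sum of
finite modules is universally injective. -/
theorem rTensor_injective {R : Type u} [CommRing R] [IsLocalRing R]
    (N : Type u) [AddCommGroup N] [Module R N]
    (ι : Type u) (F : ι → Submodule R N) (hsup : iSup F = ⊤) (hind : iSupIndep F)
    (hfin : ∀ i, Module.Finite R (F i))
    (M : Type u) [AddCommGroup M] [Module R M]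
    (φ : N →ₗ[R] N) (hφ : ∀ x : N, x - φ x ∈ (maximalIdeal R • ⊤ : Submodule R N)) :
    Function.Injective (φ.rTensor M) := by
  rw [injective_iff_map_eq_zero]
  intro z hz
  obtain ⟨T, z₁, hz₁⟩ := S1213.exists_finset N ι F hsup M z
  have hcompl := S1213.isCompl_finset N ι F hsup hind T
  have hfg : (⨆ i ∈ T, F i).FG :=
    Submodule.fg_biSup T F fun i _ => (Submodule.fg_top _).mp (Module.Finite.fg_top (self := hfin i))
  have : Module.Finite R (⨆ i ∈ T, F i : Submodule R N) := Module.Finite.iff_fg.mpr hfg
  have hz₁0 : z₁ = 0 := by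
    refine core2 N M (⨆ i ∈ T, F i) (Submodule.projectionOnto _ _ hcompl) ?_ φ hφ z₁ ?_
    · intro x
      exact Submodule.projectionOnto_apply_left hcompl x
    · rw [hz₁]; exact hz
  rw [← hz₁, hz₁0, map_zero]

theorem rTensor_injective_of_basis {R : Type u} [CommRing R] [IsLocalRing R]
    (L : Type u) [AddCommGroup L] [Module R L] (ι : Type u) (b : Module.Basis ι R L)
    (M : Type u) [AddCommGroup M] [Module R M]
    (φ : L →ₗ[R] L) (hφ : ∀ x : L, x - φ x ∈ (maximalIdeal R • ⊤ : Submodule R L)) :
    Function.Injective (φ.rTensor M) := by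
  refine rTensor_injective L ι (fun i => Submodule.span R {b i}) ?_ ?_ ?_ M φ hφ
  · rw [← Submodule.span_range_eq_iSup, b.span_eq]
  · exact b.linearIndependent.iSupIndep_span_singleton
  · intro i
    exact Module.Finite.span_singleton R (b i)

/-- General form: `N` projective over the local ring `R`. -/
theorem general {R S : Type u} [CommRing R] [IsLocalRing R] [CommRing S] [Algebra R S]
    (N : Type u) [AddCommGroup N] [Module S N] [Module R N] [IsScalarTower R S N]
    [Module.Projective R N]
    (M : Type u) [AddCommGroup M] [Module R M]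
    (q : Ideal S) (hq : q ∈ FlatCA.ass S (N ⊗[R] M)) :
    q ⊔ (maximalIdeal R).map (algebraMap R S) ≠ ⊤ := by
  intro htop
  obtain ⟨hqp, z, hz⟩ := hq
  have h1 : (1 : S) ∈ q ⊔ (maximalIdeal R).map (algebraMap R S) := by rw [htop]; trivial
  obtain ⟨f, hf, b, hb, hfb⟩ := Submodule.mem_sup.mp h1
  have hfz : f • z = 0 := by
    rw [hz] at hf
    exact (Submodule.mem_annihilator_span_singleton z f).mp hf
  obtain ⟨s, hs⟩ := Module.projective_def'.mp (inferInstance : Module.Projective R N)
  let π : (N →₀ R) →ₗ[R] N := Finsupp.linearCombination R id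
  have hπs : ∀ n : N, π (s n) = n := fun n => by
    have := LinearMap.congr_fun hs n
    simpa using this
  let mulBy : S → (N →ₗ[R] N) := fun t => (LinearMap.lsmul S N t).restrictScalars R
  let Φ : (N →₀ R) →ₗ[R] (N →₀ R) := LinearMap.id - s ∘ₗ mulBy b ∘ₗ π
  have hΦ : ∀ x : N →₀ R, x - Φ x ∈ (maximalIdeal R • ⊤ : Submodule R (N →₀ R)) := by
    intro x
    have h1 : x - Φ x = s (b • π x) := by
      simp [Φ, mulBy]
    rw [h1]
    apply map_mem_smul_top _ s
    exact S1213.proj_smul_mem (maximalIdeal R) N N LinearMap.id b hb (π x)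
  have hinj : Function.Injective (Φ.rTensor M) :=
    rTensor_injective_of_basis (N →₀ R) N Finsupp.basisSingleOne M Φ hΦ
  have hcomm : Φ ∘ₗ s = s ∘ₗ mulBy f := by
    ext n
    have hf' : f = 1 - b := by rw [← hfb]; ring
    simp only [Φ, mulBy, LinearMap.comp_apply, LinearMap.sub_apply, LinearMap.id_apply,
      LinearMap.coe_restrictScalars, LinearMap.lsmul_apply, hπs]
    rw [hf', sub_smul, one_smul, map_sub]
  have h2 : (Φ.rTensor M) ((s.rTensor M) z) = 0 := by
    rw [← LinearMap.comp_apply, ← LinearMap.rTensor_comp, hcomm, LinearMap.rTensor_comp,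
      LinearMap.comp_apply]
    have : ((mulBy f).rTensor M) z = f • z := (S1213.smul_eq_rTensor N M f z).symm
    rw [this, hfz, map_zero]
  have h3 : (s.rTensor M) z = 0 := hinj (by rw [h2, map_zero])
  have hz0 : z = 0 := by
    have : (π.rTensor M) ((s.rTensor M) z) = z := by
      rw [← LinearMap.comp_apply, ← LinearMap.rTensor_comp]
      have : π ∘ₗ s = LinearMap.id := hs
      rw [this, LinearMap.rTensor_id, LinearMap.id_apply]
    rw [← this, h3, map_zero]
  have : q = ⊤ := by
    rw [hz, hz0]
    simp [Submodule.annihilator_bot]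
  exact hqp.ne_top this

end Groth.Agent.S1212

namespace Groth.Agent.S1212

open TensorProduct IsLocalRing in
/-- Let R be a local ring, S an R-algebra and N an S-module which is projective as an R-module, such
that the closed fibre ring of S is Noetherian and the closed fibre module of N is finite over it.
Then every prime q of S, over p in R, which is an associated prime (the annihilator of an element)
of the S-module N ⊗_R κ(p) satisfies q + 𝔪_R S ≠ S. -/
theorem result {R S : Type u} [CommRing R] [IsLocalRing R] [CommRing S] [Algebra R S]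
    (N : Type u) [AddCommGroup N] [Module S N] [Module R N] [IsScalarTower R S N] [Module.Projective R N]
    [IsNoetherianRing ((maximalIdeal R).Fiber S)]
    [Module.Finite ((maximalIdeal R).Fiber S) (FlatCA.fiberMod (maximalIdeal R) S N)]
    (p : Ideal R) [p.IsPrime] (q : Ideal S) [q.IsPrime] [q.LiesOver p]
    (hq : q ∈ FlatCA.ass S (N ⊗[R] p.ResidueField)) :
    q ⊔ (maximalIdeal R).map (algebraMap R S) ≠ ⊤ := by
  exact general N p.ResidueField q hq

end Groth.Agent.S1212
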