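import Groth.Statements.S12120
import Groth.Agent.Lib.Helper75.FlatCx9

set_option autoImplicit false
universe u
open FlatCx

namespace Groth.Agent.S12120

open CategoryTheory in
/-- Let P be a chain complex of flat A-modules over a commutative ring A, B any commutative A-algebra
and P_B the base-changed complex. If the functor M ↦ H_p(P ⊗_A M) on A-modules takes surjections to
surjections (resp. injections to injections), then so does N ↦ H_p(P_B ⊗_B N) on B-modules. (The
converse for B faithfully flat over A is a separate statement.) -/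
theorem result {A : Type u} [CommRing A]
    (P : ChainComplex (ModuleCat.{u} A) ℤ) (hP : ∀ i, Module.Flat A (P.X i)) (B : Type u) [CommRing B]
    [Algebra A B] (p : ℤ) :
    ((CohIII.TFun P p).PreservesEpimorphisms →
        (CohIII.TFun (CohIII.bcCx (algebraMap A B) P) p).PreservesEpimorphisms) ∧
      ((CohIII.TFun P p).PreservesMonomorphisms →
        (CohIII.TFun (CohIII.bcCx (algebraMap A B) P) p).PreservesMonomorphisms) := by
  have hPB : ∀ i, Module.Flat B ((CohIII.bcCx (algebraMap A B) P).X i) :=
    Groth.Agent.Lib.Helper75.FlatCx.flat_bcCx_X P hP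
  constructor
  · intro h
    have h1 : Module.Flat A (P.opcycles (p - 1)) :=
      (Groth.Agent.Lib.Helper75.FlatCx.preservesEpi_iff_flat_opcycles P p hP (p - 1) (by simp)).mp h
    rw [Groth.Agent.Lib.Helper75.FlatCx.preservesEpi_iff_flat_opcycles _ p hPB (p - 1) (by simp)]
    exact Groth.Agent.Lib.Helper75.FlatCx.flat_opcycles_bcCx P (p - 1)
  · intro h
    have h1 : Module.Flat A (P.opcycles p) :=
      (Groth.Agent.Lib.Helper75.FlatCx.preservesMono_iff_flat_opcycles P p hP (p - 1) (by simp)).mp h
    rw [Groth.Agent.Lib.Helper75.FlatCx.preservesMono_iff_flat_opcycles _ p hPB (p - 1) (by simp)]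
    exact Groth.Agent.Lib.Helper75.FlatCx.flat_opcycles_bcCx P p

end Groth.Agent.S12120
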