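import Groth.Statements.S12123
import Mathlib
import Groth.Agent.Lib.Helper94.ConsTop
-- import your own Groth.Agent.* helpers here

set_option autoImplicit false
universe u
open EGA41

namespace Groth.Agent.S12123

open AlgebraicGeometry Topology in
/-- Let X be a quasi-separated scheme and X^cons its underlying set with the constructible topology,
generated by the quasi-compact open subsets and their complements (for X quasi-separated this is the
topology whose open sets are the ind-constructible subsets). Then X^cons is a Hausdorff, locally
compact, totally disconnected space. (The published statement also asserts that X^cons is Hausdorff
only if X is quasi-separated; for the topology used here that converse fails when X is not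
quasi-separated, where the two constructible topologies differ, so it is not part of this row.) -/
theorem result (X : Scheme.{u}) [QuasiSeparatedSpace X] :
    T2Space (WithConstructibleTopology X) ∧ LocallyCompactSpace (WithConstructibleTopology X) ∧
      TotallyDisconnectedSpace (WithConstructibleTopology X) := by
  have h := Groth.Agent.Lib.Helper94.homeoWithTopology (X := X) (constructibleTopology X)
  have hT2 : @T2Space X (constructibleTopology X) := Groth.Agent.Lib.Helper94.t2Space_cons
  have hTS : @TotallySeparatedSpace X (constructibleTopology X) :=
    Groth.Agent.Lib.Helper94.totallySeparatedSpace_cons
  have hWLC : @WeaklyLocallyCompactSpace X (constructibleTopology X) :=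
    Groth.Agent.Lib.Helper94.weaklyLocallyCompactSpace_cons
  have hT2' : T2Space (WithConstructibleTopology X) :=
    @Homeomorph.t2Space X (WithConstructibleTopology X) (constructibleTopology X) _ hT2 h
  have hTD : @TotallyDisconnectedSpace X (constructibleTopology X) :=
    @TotallySeparatedSpace.totallyDisconnectedSpace X (constructibleTopology X) hTS
  have hTD' : TotallyDisconnectedSpace (WithConstructibleTopology X) :=
    @Homeomorph.totallyDisconnectedSpace X (WithConstructibleTopology X) (constructibleTopology X)
      _ h hTD
  have hWLC' : WeaklyLocallyCompactSpace (WithConstructibleTopology X) :=
    @Topology.IsClosedEmbedding.weaklyLocallyCompactSpace (WithConstructibleTopology X) X _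
      (constructibleTopology X) hWLC _
      (@Homeomorph.isClosedEmbedding (WithConstructibleTopology X) X _ (constructibleTopology X)
        (@Homeomorph.symm X (WithConstructibleTopology X) (constructibleTopology X) _ h))
  exact ⟨hT2', inferInstance, hTD'⟩

end Groth.Agent.S12123
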