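import Groth.Statements.S12127
import Mathlib
-- import your own Groth.Agent.* helpers here

set_option autoImplicit false
universe u
open EGA43

namespace Groth.Agent.S12127

section aux

variable {X Y : Type u} [TopologicalSpace X] [TopologicalSpace Y]

/-- finite union of locally closed subsets -/
def QC (Z : Set X) : Prop :=
  ∃ T : Set (Set X), T.Finite ∧ (∀ t ∈ T, IsLocallyClosed t) ∧ Z = ⋃₀ T

/-- locally (in the ambient space) a finite union of locally closed subsets -/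
def LQC (Z : Set X) : Prop :=
  ∀ y : X, ∃ V : Set X, IsOpen V ∧ y ∈ V ∧ QC (Z ∩ V)

theorem QC.inter_isOpen {Z V : Set X} (hZ : QC Z) (hV : IsOpen V) : QC (Z ∩ V) := by
  obtain ⟨T, hTf, hTl, rfl⟩ := hZ
  refine ⟨(fun t => t ∩ V) '' T, hTf.image _, ?_, ?_⟩
  · rintro _ ⟨t, ht, rfl⟩
    exact (hTl t ht).inter hV.isLocallyClosed
  · ext y
    simp only [Set.mem_inter_iff, Set.mem_sUnion, Set.mem_image, exists_exists_and_eq_and]
    constructor
    · rintro ⟨⟨t, ht, hyt⟩, hyV⟩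
      exact ⟨t, ht, hyt, hyV⟩
    · rintro ⟨t, ht, hyt, hyV⟩
      exact ⟨⟨t, ht, hyt⟩, hyV⟩

theorem QC.preimage {Z : Set Y} (hZ : QC Z) {f : X → Y} (hf : Continuous f) : QC (f ⁻¹' Z) := by
  obtain ⟨T, hTf, hTl, rfl⟩ := hZ
  refine ⟨(fun t => f ⁻¹' t) '' T, hTf.image _, ?_, ?_⟩
  · rintro _ ⟨t, ht, rfl⟩
    exact (hTl t ht).preimage hf
  · ext y
    simp only [Set.mem_preimage, Set.mem_sUnion, Set.mem_image, exists_exists_and_eq_and]

theorem subtype_iff (V : Set X) (hV : IsOpen V) (Z : Set X) :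
    (∃ T : Set (Set V), T.Finite ∧ (∀ t ∈ T, IsLocallyClosed t) ∧
      (Subtype.val ⁻¹' Z : Set V) = ⋃₀ T) ↔ QC (Z ∩ V) := by
  constructor
  · rintro ⟨T, hTf, hTl, hT⟩
    refine ⟨(fun t => Subtype.val '' t) '' T, hTf.image _, ?_, ?_⟩
    · rintro _ ⟨t, ht, rfl⟩
      refine (hTl t ht).image Topology.IsInducing.subtypeVal ?_
      rw [Subtype.range_coe]
      exact hV.isLocallyClosed
    · have h1 : Z ∩ V = Subtype.val '' (Subtype.val ⁻¹' Z : Set V) := by
        rw [Subtype.image_preimage_coe, Set.inter_comm]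
      rw [h1, hT, Set.image_sUnion, Set.sUnion_image]
  · rintro ⟨T, hTf, hTl, hT⟩
    refine ⟨(fun t => (Subtype.val ⁻¹' t : Set V)) '' T, hTf.image _, ?_, ?_⟩
    · rintro _ ⟨t, ht, rfl⟩
      exact (hTl t ht).preimage continuous_subtype_val
    · have h1 : (Subtype.val ⁻¹' Z : Set V) = Subtype.val ⁻¹' (Z ∩ V) := by
        ext y; simp
      rw [h1, hT, Set.preimage_sUnion, Set.sUnion_image]

theorem lqc_iff (Z : Set X) :
    (∀ y : X, ∃ V : Set X, IsOpen V ∧ y ∈ V ∧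
      ∃ T : Set (Set V), T.Finite ∧ (∀ t ∈ T, IsLocallyClosed t) ∧
        (Subtype.val ⁻¹' Z : Set V) = ⋃₀ T) ↔ LQC Z := by
  constructor
  · intro h y
    obtain ⟨V, hV, hyV, hT⟩ := h y
    exact ⟨V, hV, hyV, (subtype_iff V hV Z).mp hT⟩
  · intro h y
    obtain ⟨V, hV, hyV, hT⟩ := h y
    exact ⟨V, hV, hyV, (subtype_iff V hV Z).mpr hT⟩

/-- shrink a locally closed neighbourhood away from a finite union of locally closed sets -/
theorem exists_locallyClosed_avoiding (T : Set (Set Y)) (hTf : T.Finite)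
    (hTl : ∀ t ∈ T, IsLocallyClosed t) (y : Y) (hy : y ∉ ⋃₀ T) (A : Set Y)
    (hA : IsLocallyClosed A) (hyA : y ∈ A) :
    ∃ L : Set Y, IsLocallyClosed L ∧ y ∈ L ∧ L ⊆ A ∧ Disjoint L (⋃₀ T) := by
  induction T, hTf using Set.Finite.induction_on with
  | empty => exact ⟨A, hA, hyA, subset_rfl, by simp⟩
  | @insert t T' _ _ ih =>
    have hy' : y ∉ ⋃₀ T' := fun h => hy (by
      rw [Set.sUnion_insert]; exact Or.inr h)
    obtain ⟨L, hL, hyL, hLA, hLd⟩ := ih (fun t ht => hTl t (Set.mem_insert_of_mem _ ht)) hy'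
    have hyt : y ∉ t := fun h => hy (by
      rw [Set.sUnion_insert]; exact Or.inl h)
    obtain ⟨U, C, hU, hC, rfl⟩ := hTl t (Set.mem_insert _ _)
    by_cases hyU : y ∈ U
    · have hyC : y ∉ C := fun h => hyt ⟨hyU, h⟩
      refine ⟨L ∩ Cᶜ, hL.inter hC.isOpen_compl.isLocallyClosed, ⟨hyL, hyC⟩,
        Set.inter_subset_left.trans hLA, ?_⟩
      rw [Set.sUnion_insert, Set.disjoint_union_right]
      refine ⟨?_, hLd.mono_left Set.inter_subset_left⟩
      rw [Set.disjoint_left]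
      rintro z ⟨-, hzC⟩ ⟨-, hzC'⟩
      exact hzC hzC'
    · refine ⟨L ∩ Uᶜ, hL.inter hU.isClosed_compl.isLocallyClosed, ⟨hyL, hyU⟩,
        Set.inter_subset_left.trans hLA, ?_⟩
      rw [Set.sUnion_insert, Set.disjoint_union_right]
      refine ⟨?_, hLd.mono_left Set.inter_subset_left⟩
      rw [Set.disjoint_left]
      rintro z ⟨-, hzU⟩ ⟨hzU', -⟩
      exact hzU hzU'

variable (f : X → Y) (hf : Continuous f)
    (hq : Function.Bijective (fun U : TopologicalSpace.Opens Y =>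
      (⟨f ⁻¹' (U : Set Y), U.isOpen.preimage hf⟩ : TopologicalSpace.Opens X)))

include hq in
theorem open_inj {U U' : Set Y} (hU : IsOpen U) (hU' : IsOpen U') (h : f ⁻¹' U = f ⁻¹' U') :
    U = U' := by
  have := @hq.1 ⟨U, hU⟩ ⟨U', hU'⟩ (by
    apply TopologicalSpace.Opens.ext
    exact h)
  exact congrArg (fun W : TopologicalSpace.Opens Y => (W : Set Y)) this

include hq in
theorem open_surj {U' : Set X} (hU' : IsOpen U') : ∃ U : Set Y, IsOpen U ∧ f ⁻¹' U = U' := by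
  obtain ⟨W, hW⟩ := hq.2 ⟨U', hU'⟩
  exact ⟨W, W.isOpen, congrArg (fun W : TopologicalSpace.Opens X => (W : Set X)) hW⟩

include hq in
theorem closed_surj {C' : Set X} (hC' : IsClosed C') :
    ∃ C : Set Y, IsClosed C ∧ f ⁻¹' C = C' := by
  obtain ⟨U, hU, hUC⟩ := open_surj f hf hq hC'.isOpen_compl
  refine ⟨Uᶜ, hU.isClosed_compl, ?_⟩
  rw [Set.preimage_compl, hUC, compl_compl]

include hq in
theorem locallyClosed_surj {s : Set X} (hs : IsLocallyClosed s) :
    ∃ t : Set Y, IsLocallyClosed t ∧ f ⁻¹' t = s := by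
  obtain ⟨U', C', hU', hC', rfl⟩ := hs
  obtain ⟨U, hU, rfl⟩ := open_surj f hf hq hU'
  obtain ⟨C, hC, rfl⟩ := closed_surj f hf hq hC'
  exact ⟨U ∩ C, ⟨U, C, hU, hC, rfl⟩, Set.preimage_inter⟩

include hq in
theorem nonempty_preimage {L : Set Y} (hL : IsLocallyClosed L) (hne : L.Nonempty) :
    (f ⁻¹' L).Nonempty := by
  obtain ⟨U, C, hU, hC, rfl⟩ := hL
  by_contra hempty
  rw [Set.not_nonempty_iff_eq_empty] at hempty
  have h1 : f ⁻¹' (U ∩ Cᶜ) = f ⁻¹' U := by
    ext x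
    simp only [Set.mem_preimage, Set.mem_inter_iff, Set.mem_compl_iff]
    constructor
    · exact fun h => h.1
    · intro hx
      refine ⟨hx, fun hxC => ?_⟩
      have : x ∈ f ⁻¹' (U ∩ C) := ⟨hx, hxC⟩
      rw [hempty] at this
      exact this
  have h2 := open_inj f hf hq (hU.inter hC.isOpen_compl) hU h1
  obtain ⟨y, hyU, hyC⟩ := hne
  have : y ∈ U ∩ Cᶜ := by rw [h2]; exact hyU
  exact this.2 hyC

include hq in
theorem qc_subset_of_preimage_subset {Z Z' : Set Y} (hZ : QC Z) (hZ' : QC Z')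
    (h : f ⁻¹' Z ⊆ f ⁻¹' Z') : Z ⊆ Z' := by
  intro y hyZ
  by_contra hyZ'
  obtain ⟨T, hTf, hTl, rfl⟩ := hZ
  obtain ⟨T', hTf', hTl', rfl⟩ := hZ'
  obtain ⟨A, hAT, hyA⟩ := hyZ
  obtain ⟨L, hL, hyL, hLA, hLd⟩ :=
    exists_locallyClosed_avoiding T' hTf' hTl' y hyZ' A (hTl A hAT) hyA
  obtain ⟨x, hx⟩ := nonempty_preimage f hf hq hL ⟨y, hyL⟩
  have hx1 : x ∈ f ⁻¹' (⋃₀ T) := ⟨A, hAT, hLA hx⟩
  have hx2 := h hx1
  exact Set.disjoint_left.mp hLd hx hx2

include hq in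
theorem qc_inj {Z Z' : Set Y} (hZ : QC Z) (hZ' : QC Z') (h : f ⁻¹' Z = f ⁻¹' Z') : Z = Z' :=
  Set.Subset.antisymm (qc_subset_of_preimage_subset f hf hq hZ hZ' h.subset)
    (qc_subset_of_preimage_subset f hf hq hZ' hZ h.symm.subset)

include hq in
theorem qc_surj {S : Set X} (hS : QC S) : ∃ Z : Set Y, QC Z ∧ f ⁻¹' Z = S := by
  obtain ⟨T, hTf, hTl, rfl⟩ := hS
  have hex : ∀ t : Set X, ∃ t' : Set Y, t ∈ T → (IsLocallyClosed t' ∧ f ⁻¹' t' = t) := by
    intro t
    by_cases ht : t ∈ T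
    · obtain ⟨t', h1, h2⟩ := locallyClosed_surj f hf hq (hTl t ht)
      exact ⟨t', fun _ => ⟨h1, h2⟩⟩
    · exact ⟨∅, fun h => absurd h ht⟩
  choose g hg using hex
  refine ⟨⋃₀ (g '' T), ⟨g '' T, hTf.image _, ?_, rfl⟩, ?_⟩
  · rintro _ ⟨t, ht, rfl⟩
    exact (hg t ht).1
  · ext x
    simp only [Set.mem_preimage, Set.mem_sUnion, Set.mem_image, exists_exists_and_eq_and]
    constructor
    · rintro ⟨t, ht, hxt⟩
      refine ⟨t, ht, ?_⟩
      have : x ∈ f ⁻¹' (g t) := hxt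
      rwa [(hg t ht).2] at this
    · rintro ⟨t, ht, hxt⟩
      refine ⟨t, ht, ?_⟩
      have : x ∈ f ⁻¹' (g t) := by rw [(hg t ht).2]; exact hxt
      exact this

include hq in
theorem lqc_inj {Z Z' : Set Y} (hZ : LQC Z) (hZ' : LQC Z') (h : f ⁻¹' Z = f ⁻¹' Z') :
    Z = Z' := by
  ext y
  obtain ⟨V, hV, hyV, hZV⟩ := hZ y
  obtain ⟨V', hV', hyV', hZV'⟩ := hZ' y
  have h1 : QC (Z ∩ (V ∩ V')) := by
    have := hZV.inter_isOpen hV'
    rwa [Set.inter_assoc] at this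
  have h2 : QC (Z' ∩ (V ∩ V')) := by
    have := hZV'.inter_isOpen hV
    rwa [Set.inter_assoc, Set.inter_comm V' V] at this
  have h3 : Z ∩ (V ∩ V') = Z' ∩ (V ∩ V') := by
    apply qc_inj f hf hq h1 h2
    simp only [Set.preimage_inter, h]
  constructor
  · intro hy
    have : y ∈ Z ∩ (V ∩ V') := ⟨hy, hyV, hyV'⟩
    rw [h3] at this
    exact this.1
  · intro hy
    have : y ∈ Z' ∩ (V ∩ V') := ⟨hy, hyV, hyV'⟩
    rw [← h3] at this
    exact this.1

include hq in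
theorem lqc_surj {S : Set X} (hS : LQC S) : ∃ Z : Set Y, LQC Z ∧ f ⁻¹' Z = S := by
  choose V' hV'o hxV' hSV' using hS
  have hexV : ∀ x : X, ∃ V : Set Y, IsOpen V ∧ f ⁻¹' V = V' x := fun x =>
    open_surj f hf hq (hV'o x)
  choose V hVo hVV' using hexV
  have hexZ : ∀ x : X, ∃ Z : Set Y, QC Z ∧ f ⁻¹' Z = S ∩ V' x := fun x =>
    qc_surj f hf hq (hSV' x)
  choose Z hZqc hZS using hexZ
  have hcover : ⋃ x, V x = Set.univ := by
    apply open_inj f hf hq (isOpen_iUnion hVo) isOpen_univ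
    rw [Set.preimage_iUnion, Set.preimage_univ]
    apply Set.eq_univ_of_forall
    intro x
    exact Set.mem_iUnion.mpr ⟨x, by rw [hVV']; exact hxV' x⟩
  have hcompat : ∀ x x0 : X, Z x ∩ V x0 = Z x0 ∩ V x := by
    intro x x0
    apply qc_inj f hf hq ((hZqc x).inter_isOpen (hVo x0)) ((hZqc x0).inter_isOpen (hVo x))
    rw [Set.preimage_inter, Set.preimage_inter, hZS, hZS, hVV', hVV']
    ext z
    simp only [Set.mem_inter_iff]
    tauto
  have hZsub : ∀ x : X, Z x ⊆ V x := by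
    intro x
    apply qc_subset_of_preimage_subset f hf hq (hZqc x)
    · exact ⟨{V x}, Set.finite_singleton _, by
        intro t ht
        rw [Set.mem_singleton_iff] at ht
        rw [ht]
        exact (hVo x).isLocallyClosed, by simp⟩
    · rw [hZS, hVV']
      exact Set.inter_subset_right
  refine ⟨⋃ x, Z x, ?_, ?_⟩
  · intro y
    have hy : y ∈ ⋃ x, V x := by rw [hcover]; trivial
    obtain ⟨x0, hx0⟩ := Set.mem_iUnion.mp hy
    refine ⟨V x0, hVo x0, hx0, ?_⟩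
    have : (⋃ x, Z x) ∩ V x0 = Z x0 := by
      rw [Set.iUnion_inter]
      apply Set.Subset.antisymm
      · apply Set.iUnion_subset
        intro x
        rw [hcompat x x0]
        exact Set.inter_subset_left
      · intro z hz
        have hz' : z ∈ ⋃ x, V x := by rw [hcover]; trivial
        obtain ⟨x1, hx1⟩ := Set.mem_iUnion.mp hz'
        refine Set.mem_iUnion.mpr ⟨x1, ?_⟩
        rw [hcompat x1 x0]
        exact ⟨hz, hx1⟩
    rw [this]
    exact hZqc x0
  · rw [Set.preimage_iUnion]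
    ext x
    simp only [Set.mem_iUnion, hZS, Set.mem_inter_iff]
    constructor
    · rintro ⟨x1, hxS, -⟩
      exact hxS
    · intro hxS
      exact ⟨x, hxS, hxV' x⟩

include hf in
theorem lqc_preimage {Z : Set Y} (hZ : LQC Z) : LQC (f ⁻¹' Z) := by
  intro x
  obtain ⟨V, hV, hyV, hZV⟩ := hZ (f x)
  refine ⟨f ⁻¹' V, hV.preimage hf, hyV, ?_⟩
  rw [← Set.preimage_inter]
  exact hZV.preimage hf

end aux

/-- Let f : X → Y be a quasi-homeomorphism, i.e. a continuous map such that U ↦ f⁻¹(U) is a bijection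
from the open subsets of Y onto the open subsets of X. Call a subset quasi-constructible when it is
a finite union of locally closed subsets, and locally quasi-constructible when every point of the
space has an open neighbourhood V whose intersection with it is quasi-constructible in V. Then Z ↦
f⁻¹(Z) induces a bijection from the quasi-constructible subsets of Y onto those of X, and from the
locally quasi-constructible subsets of Y onto those of X. -/
theorem result {X Y : Type u}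
    [TopologicalSpace X] [TopologicalSpace Y] (f : X → Y) (hf : Continuous f)
    (hq : Function.Bijective (fun U : TopologicalSpace.Opens Y =>
      (⟨f ⁻¹' (U : Set Y), U.isOpen.preimage hf⟩ : TopologicalSpace.Opens X))) :
    Set.BijOn (fun Z : Set Y => f ⁻¹' Z)
        {Z : Set Y | ∃ T : Set (Set Y), T.Finite ∧ (∀ t ∈ T, IsLocallyClosed t) ∧ Z = ⋃₀ T}
        {Z : Set X | ∃ T : Set (Set X), T.Finite ∧ (∀ t ∈ T, IsLocallyClosed t) ∧ Z = ⋃₀ T} ∧
      Set.BijOn (fun Z : Set Y => f ⁻¹' Z)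
        {Z : Set Y | ∀ y : Y, ∃ V : Set Y, IsOpen V ∧ y ∈ V ∧
          ∃ T : Set (Set V), T.Finite ∧ (∀ t ∈ T, IsLocallyClosed t) ∧ (Subtype.val ⁻¹' Z : Set V) = ⋃₀ T}
        {Z : Set X | ∀ x : X, ∃ V : Set X, IsOpen V ∧ x ∈ V ∧
          ∃ T : Set (Set V), T.Finite ∧ (∀ t ∈ T, IsLocallyClosed t) ∧ (Subtype.val ⁻¹' Z : Set V) = ⋃₀ T} := by
  constructor
  · refine ⟨?_, ?_, ?_⟩
    · intro Z hZ
      exact QC.preimage hZ hf
    · intro Z hZ Z' hZ' h
      exact qc_inj f hf hq hZ hZ' h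
    · intro S hS
      obtain ⟨Z, hZ, hZS⟩ := qc_surj f hf hq hS
      exact ⟨Z, hZ, hZS⟩
  · refine ⟨?_, ?_, ?_⟩
    · intro Z hZ
      exact (lqc_iff _).mpr (lqc_preimage f hf ((lqc_iff Z).mp hZ))
    · intro Z hZ Z' hZ' h
      exact lqc_inj f hf hq ((lqc_iff Z).mp hZ) ((lqc_iff Z').mp hZ') h
    · intro S hS
      obtain ⟨Z, hZ, hZS⟩ := lqc_surj f hf hq ((lqc_iff S).mp hS)
      exact ⟨Z, (lqc_iff Z).mpr hZ, hZS⟩

end Groth.Agent.S12127
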