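import Groth.Statements.S12129
import Mathlib
-- import your own Groth.Agent.* helpers here

set_option autoImplicit false
universe u
open EGA2

namespace Groth.Agent.S12129

theorem closure_singleton_mem_irreducibleComponents_iff {X : Type*} [TopologicalSpace X]
    [QuasiSober X] (y : X) :
    closure {y} ∈ irreducibleComponents X ↔ ∀ z : X, z ⤳ y → y ⤳ z := by
  constructor
  · intro h z hz
    rw [specializes_iff_closure_subset] at hz ⊢
    exact h.2 isIrreducible_singleton.closure hz
  · intro h
    refine ⟨isIrreducible_singleton.closure, ?_⟩
    intro t ht hyt
    have htc : IsIrreducible (closure t) := ht.closure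
    have hgen := htc.isGenericPoint_genericPoint isClosed_closure
    set z := htc.genericPoint
    have hz : closure {z} = closure t := hgen
    have h1 : z ⤳ y := by
      rw [specializes_iff_closure_subset, hz]
      exact hyt.trans subset_closure
    have h2 := h z h1
    rw [specializes_iff_closure_subset, hz] at h2
    exact subset_closure.trans h2

open AlgebraicGeometry CategoryTheory in
/-- Let X be a scheme of finite type over a field k. Then the local ring of X at every closed point has
dimension one if and only if the irreducible closed subsets of X other than its irreducible
components are exactly the (singletons of) closed points of X — that is, every irreducible closed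
subset which is not an irreducible component is a closed point, and no closed point is by itself an
irreducible component. -/
theorem result (k : Type u) [Field k] (X : Scheme.{u})
    [X.Over (Spec (CommRingCat.of k))] [LocallyOfFiniteType (X ↘ (Spec (CommRingCat.of k)))]
    [QuasiCompact (X ↘ (Spec (CommRingCat.of k)))] :
    (∀ x : X, IsClosed ({x} : Set X) → ringKrullDim (X.presheaf.stalk x) = 1) ↔
      ((∀ F : Set X, IsClosed F → IsIrreducible F → F ∉ irreducibleComponents (X : Type u) →
          ∃ x : X, IsClosed ({x} : Set X) ∧ F = {x}) ∧
        ∀ x : X, IsClosed ({x} : Set X) → ({x} : Set X) ∉ irreducibleComponents (X : Type u)) := by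
  have hcompact : CompactSpace X :=
    QuasiCompact.compactSpace_of_compactSpace (X ↘ (Spec (CommRingCat.of k)))
  have hdim : ∀ x : X, ringKrullDim (X.presheaf.stalk x) = 1 ↔ Order.coheight x = 1 := by
    intro x
    rw [ringKrullDim_stalk_eq_coheight]
    exact_mod_cast Iff.rfl
  have hmax : ∀ y : X, closure {y} ∈ irreducibleComponents (X : Type u) ↔ IsMax y := by
    intro y
    rw [closure_singleton_mem_irreducibleComponents_iff]
    exact Iff.rfl
  have hanti : ∀ x y : X, x ≤ y → y ≤ x → x = y := by
    intro x y h1 h2
    exact (Specializes.antisymm h2 h1).eq
  constructor
  · intro H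
    constructor
    · intro F hFc hFi hFn
      have hgen := hFi.isGenericPoint_genericPoint hFc
      set y := hFi.genericPoint
      have hFy : closure {y} = F := hgen
      obtain ⟨x, hxF, hx⟩ := hFc.exists_closed_singleton hFi.nonempty
      have hxy : x ≤ y := by
        rw [AlgebraicGeometry.Scheme.le_iff_specializes, specializes_iff_mem_closure, hFy]
        exact hxF
      have hymax : ¬ IsMax y := by
        rw [← hmax, hFy]
        exact hFn
      rw [not_isMax_iff] at hymax
      obtain ⟨z, hz⟩ := hymax
      have hcx := (hdim x).mp (H x hx)
      by_cases hyx : y ≤ x
      · refine ⟨x, hx, ?_⟩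
        have : x = y := hanti x y hxy hyx
        rw [← hFy, ← this, hx.closure_eq]
      · exfalso
        have h1 := Order.coheight_add_one_le (lt_of_le_not_ge hxy hyx)
        have h2 := Order.coheight_add_one_le hz
        rw [hcx] at h1
        have h3 : Order.coheight y = 0 := by
          by_contra hne
          have h4 : (1 : ℕ∞) ≤ Order.coheight y := Order.one_le_iff_ne_zero.mpr hne
          have h5 : (1 : ℕ∞) + 1 ≤ 1 := (add_le_add_left h4 1).trans h1
          exact absurd h5 (by norm_num)
        rw [h3] at h2
        simp at h2
    · intro x hx hcomp
      have hcx := (hdim x).mp (H x hx)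
      rw [← hx.closure_eq, hmax, ← Order.coheight_eq_zero, hcx] at hcomp
      exact one_ne_zero hcomp
  · rintro ⟨Ha, Hb⟩ x hx
    rw [hdim]
    apply le_antisymm
    · have : Order.coheight x ≤ ((1 : ℕ) : ℕ∞) := by
        rw [Order.coheight_le_coe_iff]
        intro y hy
        have hy0 : IsMax y := by
          by_contra hymax
          rw [← hmax] at hymax
          obtain ⟨x', hx', hyx'⟩ := Ha (closure {y}) isClosed_closure
            isIrreducible_singleton.closure hymax
          have hyx'' : y = x' := by
            have : y ∈ ({x'} : Set X) := hyx' ▸ subset_closure (Set.mem_singleton y)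
            simpa using this
          have hxy : x ∈ closure {y} := by
            rw [← specializes_iff_mem_closure]
            exact hy.le
          rw [hyx', ← hyx''] at hxy
          have : x = y := by simpa using hxy
          exact lt_irrefl _ (this ▸ hy)
        rw [← Order.coheight_eq_zero] at hy0
        rw [hy0]
        exact_mod_cast zero_lt_one
      simpa using this
    · have hne : Order.coheight x ≠ 0 := by
        rw [Order.coheight_ne_zero, ← hmax, hx.closure_eq]
        exact Hb x hx
      exact Order.one_le_iff_ne_zero.mpr hne

end Groth.Agent.S12129
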