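import Groth.Statements.S12132
import Groth.Agent.Lib.Helper29.LengthFormula7

set_option autoImplicit false
universe u
open AssSch

namespace Groth.Agent.S12132

open Groth.Agent.Lib.Helper29.LengthFormula

/-- Let B be a Noetherian local ring (the local ring of X at the generic point z of an irreducible
component Z of the support of F/tF), t an element of its maximal ideal, and M a finite B-module (the
stalk F_z) such that the support of M has positive dimension (Z is not an irreducible component of
Supp F) and M/tM has finite length (z is a maximal point of Supp(F/tF)). Then the length of M/tM is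
at least the sum, over the primes p of B minimal over the annihilator of M (the generic points of
the irreducible components of Supp F through z), of the lengths of the B_p-modules M_p; and the two
are equal if and only if t is a non-zero-divisor on M and for every such p the image of t generates
the maximal ideal of B/p (so that B/p is a discrete valuation ring with uniformizer t). -/
theorem result {B : Type u} [CommRing B] [IsNoetherianRing B]
    [IsLocalRing B] (t : B) (ht : t ∈ IsLocalRing.maximalIdeal B)
    (M : Type u) [AddCommGroup M] [Module B M] [Module.Finite B M]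
    (hdim : 0 < Module.supportDim B M)
    (hfin : Module.length B (M ⧸ (Ideal.span {t} • (⊤ : Submodule B M))) ≠ ⊤) :
    (∑ᶠ p : (Module.annihilator B M).minimalPrimes,
        haveI : p.1.IsPrime := p.2.1.1
        Module.length (Localization.AtPrime p.1) (LocalizedModule p.1.primeCompl M)) ≤
      Module.length B (M ⧸ (Ideal.span {t} • (⊤ : Submodule B M))) ∧
    ((∑ᶠ p : (Module.annihilator B M).minimalPrimes,
        haveI : p.1.IsPrime := p.2.1.1
        Module.length (Localization.AtPrime p.1) (LocalizedModule p.1.primeCompl M)) =
      Module.length B (M ⧸ (Ideal.span {t} • (⊤ : Submodule B M))) ↔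
    IsSMulRegular M t ∧
      ∀ p : (Module.annihilator B M).minimalPrimes,
        Ideal.map (Ideal.Quotient.mk p.1) (IsLocalRing.maximalIdeal B) =
          Ideal.span {Ideal.Quotient.mk p.1 t}) := by
  have e : (M ⧸ (Ideal.span {t} • (⊤ : Submodule B M))) ≃ₗ[B] QuotSMulTop t M :=
    Submodule.quotEquivOfEq _ _ (Submodule.ideal_span_singleton_smul t ⊤)
  have hlen : Module.length B (M ⧸ (Ideal.span {t} • (⊤ : Submodule B M))) =
      Module.length B (QuotSMulTop t M) := e.length_eq
  have hb : Module.length B (QuotSMulTop t M) ≠ ⊤ := hlen ▸ hfin
  rw [finsum_minimalPrimes_annihilator_eq t M ht hb hdim, hlen]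
  obtain ⟨h1, h2⟩ := core t M ht hb
  refine ⟨h1, h2.trans (and_congr_right fun _ => ?_)⟩
  constructor
  · intro h p
    have hpG := mem_G_of_mem_minimalPrimes M hdim p.1 p.2
    have hp : p.1.IsPrime := hpG.1
    rw [map_maximalIdeal_eq_span_iff t p.1 hp.ne_top]
    exact h p.1 hpG (lam_ne_zero_of_annihilator_le M p.1 p.2.1.2)
  · intro h p hpG hne
    have hp : p.IsPrime := hpG.1
    have hpmin := mem_minimalPrimes_of_mem_G t M ht hb p hpG hne
    rw [← map_maximalIdeal_eq_span_iff t p hp.ne_top]
    exact h ⟨p, hpmin⟩

end Groth.Agent.S12132
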