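import Groth.Statements.S12133
import Mathlib

set_option autoImplicit false
universe u
open EGA2

set_option linter.unusedSectionVars false

namespace Groth.Agent.S12133Aux
open DirectSum

variable {S : Type*} [CommRing S] (𝒜 : ℕ → AddSubgroup S) [GradedRing 𝒜]

/-- degree-`N` piece as a `ℤ`-submodule -/
abbrev Md (N : ℕ) : Submodule ℤ S := AddSubgroup.toIntSubmodule (𝒜 N)

theorem mem_Md {N : ℕ} {x : S} : x ∈ Md 𝒜 N ↔ x ∈ 𝒜 N := Iff.rfl

theorem Md_mul_le (i j : ℕ) : Md 𝒜 i * Md 𝒜 j ≤ Md 𝒜 (i + j) :=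
  Submodule.mul_le.mpr fun _ ha _ hb => SetLike.mul_mem_graded (A := 𝒜) ha hb

theorem Md_pow_le (i n : ℕ) : Md 𝒜 i ^ n ≤ Md 𝒜 (n * i) := by
  induction n with
  | zero =>
    rw [pow_zero, zero_mul, Submodule.one_le]
    exact SetLike.one_mem_graded 𝒜
  | succ n ih =>
    rw [pow_succ, Nat.succ_mul]
    exact (mul_le_mul' ih le_rfl).trans (Md_mul_le 𝒜 _ _)

theorem finset_prod_mem_graded {κ : Type*} (t : Finset κ) (w : κ → ℕ) (r : κ → S)
    (h : ∀ j ∈ t, r j ∈ 𝒜 (w j)) : ∏ j ∈ t, r j ∈ 𝒜 (∑ j ∈ t, w j) := by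
  classical
  induction t using Finset.induction_on with
  | empty => simpa using SetLike.one_mem_graded 𝒜
  | insert a t ha ih =>
    rw [Finset.prod_insert ha, Finset.sum_insert ha]
    exact SetLike.mul_mem_graded (h a (Finset.mem_insert_self a t))
      (ih fun j hj => h j (Finset.mem_insert_of_mem hj))

section mono
variable (s : Finset S) (h : S → ℕ)

def wt (a : s → ℕ) : ℕ := ∑ i : s, a i * h i.1
def mon (a : s → ℕ) : S := ∏ i : s, i.1 ^ a i

theorem mon_mem (hh : ∀ g ∈ s, g ∈ 𝒜 (h g)) (a : s → ℕ) : mon s a ∈ 𝒜 (wt s h a) := by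
  unfold mon wt
  refine finset_prod_mem_graded 𝒜 Finset.univ (fun i : s => a i * h i.1) (fun i : s => i.1 ^ a i) ?_
  intro i _
  have := SetLike.pow_mem_graded (A := 𝒜) (a i) (hh i.1 i.2)
  rwa [smul_eq_mul] at this

/-- the set of monomials of weight `N` -/
def monos (N : ℕ) : Set S := {m | ∃ a : s → ℕ, wt s h a = N ∧ m = mon s a}

theorem monos_subset (hh : ∀ g ∈ s, g ∈ 𝒜 (h g)) (N : ℕ) : monos s h N ⊆ (𝒜 N : Set S) := by
  rintro m ⟨a, ha, rfl⟩
  exact ha ▸ mon_mem 𝒜 s h hh a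

/-- Claim A -/
theorem claimA (hs : Algebra.adjoin (𝒜 0) (s : Set S) = ⊤) (hh : ∀ g ∈ s, g ∈ 𝒜 (h g))
    (x : S) (N : ℕ) :
    (decompose 𝒜 x N : S) ∈ Md 𝒜 0 * Submodule.span ℤ (monos s h N) := by
  have hx : x ∈ Submodule.span (𝒜 0) ((Submonoid.closure (s : Set S) : Submonoid S) : Set S) := by
    rw [← Algebra.adjoin_eq_span, hs]; trivial
  induction hx using Submodule.span_induction with
  | mem m hm =>
    obtain ⟨a, rfl⟩ := Submonoid.mem_closure_finset'.mp hm
    have hmem := mon_mem 𝒜 s h hh a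
    unfold mon at hmem
    by_cases hN : wt s h a = N
    · rw [hN] at hmem
      rw [decompose_of_mem_same 𝒜 hmem]
      have : (1 : S) * (∏ i : s, i.1 ^ a i) ∈ Md 𝒜 0 * Submodule.span ℤ (monos s h N) :=
        Submodule.mul_mem_mul (SetLike.one_mem_graded 𝒜) (Submodule.subset_span ⟨a, hN, rfl⟩)
      rwa [one_mul] at this
    · rw [decompose_of_mem_ne 𝒜 hmem hN]
      exact zero_mem _
  | zero => simp
  | add x y _ _ hx hy =>
    rw [decompose_add, DirectSum.add_apply, AddMemClass.coe_add]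
    exact add_mem hx hy
  | smul c x _ hx =>
    rw [Algebra.smul_def, SetLike.GradeZero.algebraMap_apply,
      coe_decompose_mul_of_left_mem_zero 𝒜 c.2]
    have h1 : (c : S) * (decompose 𝒜 x N : S)
        ∈ Md 𝒜 0 * (Md 𝒜 0 * Submodule.span ℤ (monos s h N)) :=
      Submodule.mul_mem_mul c.2 hx
    rw [← mul_assoc] at h1
    exact mul_le_mul' (Md_mul_le 𝒜 0 0) le_rfl h1

theorem Md_le (hs : Algebra.adjoin (𝒜 0) (s : Set S) = ⊤) (hh : ∀ g ∈ s, g ∈ 𝒜 (h g)) (N : ℕ) :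
    Md 𝒜 N ≤ Md 𝒜 0 * Submodule.span ℤ (monos s h N) := by
  intro x hx
  have := claimA 𝒜 s h hs hh x N
  rwa [decompose_of_mem_same 𝒜 hx] at this

theorem Md_eq (hs : Algebra.adjoin (𝒜 0) (s : Set S) = ⊤) (hh : ∀ g ∈ s, g ∈ 𝒜 (h g)) (N : ℕ) :
    Md 𝒜 N = Md 𝒜 0 * Submodule.span ℤ (monos s h N) := by
  refine le_antisymm (Md_le 𝒜 s h hs hh N) ?_
  have h1 : Submodule.span ℤ (monos s h N) ≤ Md 𝒜 N :=
    Submodule.span_le.mpr (monos_subset 𝒜 s h hh N)
  calc Md 𝒜 0 * Submodule.span ℤ (monos s h N) ≤ Md 𝒜 0 * Md 𝒜 N := mul_le_mul' le_rfl h1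
    _ ≤ Md 𝒜 (0 + N) := Md_mul_le 𝒜 0 N
    _ = Md 𝒜 N := by rw [zero_add]

/-- finiteness of monomials of given weight -/
theorem monos_finite (hpos : ∀ g ∈ s, h g ≠ 0) (N : ℕ) : (monos s h N).Finite := by
  classical
  have : monos s h N ⊆ ((Fintype.piFinset (fun _ : s => Finset.range (N + 1))).image (mon s) : Set S) := by
    rintro m ⟨a, ha, rfl⟩
    simp only [Finset.coe_image, Set.mem_image, Finset.mem_coe, Fintype.mem_piFinset,
      Finset.mem_range]
    refine ⟨a, fun i => ?_, rfl⟩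
    have h1 : a i * h i.1 ≤ wt s h a := by
      unfold wt
      exact Finset.single_le_sum (f := fun i : s => a i * h i.1) (fun _ _ => Nat.zero_le _)
        (Finset.mem_univ i)
    have h2 : 1 ≤ h i.1 := Nat.one_le_iff_ne_zero.mpr (hpos i.1 i.2)
    have h3 : a i ≤ a i * h i.1 := Nat.le_mul_of_pos_right _ h2
    omega
  exact (Finset.finite_toSet _).subset this

/-- Claim B: for `N > 0`, `N ≥ r q`, `S_N ⊆ S_q S_{N-q}` where `q = ∏ h`, `r = #s`. -/
theorem claimB (hs : Algebra.adjoin (𝒜 0) (s : Set S) = ⊤) (hh : ∀ g ∈ s, g ∈ 𝒜 (h g))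
    (hpos : ∀ g ∈ s, h g ≠ 0) (N : ℕ) (hN0 : 0 < N)
    (hN : s.card * (∏ i : s, h i.1) ≤ N) :
    Md 𝒜 N ≤ Md 𝒜 (∏ i : s, h i.1) * Md 𝒜 (N - ∏ i : s, h i.1) := by
  classical
  set q := ∏ i : s, h i.1 with hq
  have hqpos : 0 < q := Finset.prod_pos fun i _ => Nat.pos_of_ne_zero (hpos i.1 i.2)
  refine (Md_le 𝒜 s h hs hh N).trans ?_
  have key : Submodule.span ℤ (monos s h N) ≤ Md 𝒜 q * Md 𝒜 (N - q) := by
    refine Submodule.span_le.mpr ?_
    rintro m ⟨a, ha, rfl⟩
    -- pigeonhole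
    have hex : ∃ i : s, q ≤ a i * h i.1 := by
      by_contra hcon
      push Not at hcon
      by_cases hne : (Finset.univ : Finset s).Nonempty
      · have : wt s h a < ∑ _i : s, q := Finset.sum_lt_sum_of_nonempty hne fun i _ => hcon i
        rw [Finset.sum_const, Finset.card_univ, Fintype.card_coe, smul_eq_mul] at this
        omega
      · rw [Finset.not_nonempty_iff_eq_empty] at hne
        have : wt s h a = 0 := by unfold wt; rw [hne]; simp
        omega
    obtain ⟨i, hi⟩ := hex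
    have hdvd : h i.1 ∣ q := Finset.dvd_prod_of_mem (fun i : s => h i.1) (Finset.mem_univ i)
    obtain ⟨e, he⟩ := hdvd
    have hhi : 0 < h i.1 := Nat.pos_of_ne_zero (hpos i.1 i.2)
    have hea : e ≤ a i := by
      rw [he, mul_comm (h i.1) e] at hi
      exact Nat.le_of_mul_le_mul_right hi hhi
    -- split the monomial
    have hsplit : mon s a = i.1 ^ e * (i.1 ^ (a i - e) * ∏ j ∈ Finset.univ.erase i, j.1 ^ a j) := by
      unfold mon
      rw [← Finset.mul_prod_erase Finset.univ (fun j : s => j.1 ^ a j) (Finset.mem_univ i),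
        ← mul_assoc, ← pow_add, Nat.add_sub_cancel' hea]
    have hwt : wt s h a = a i * h i.1 + ∑ j ∈ Finset.univ.erase i, a j * h j.1 := by
      unfold wt
      rw [Finset.add_sum_erase Finset.univ (fun j : s => a j * h j.1) (Finset.mem_univ i)]
    have h1 : i.1 ^ e ∈ 𝒜 q := by
      have := SetLike.pow_mem_graded (A := 𝒜) e (hh i.1 i.2)
      rwa [smul_eq_mul, mul_comm, ← he] at this
    have h2 : i.1 ^ (a i - e) * ∏ j ∈ Finset.univ.erase i, j.1 ^ a j ∈ 𝒜 (N - q) := by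
      have hA := SetLike.pow_mem_graded (A := 𝒜) (a i - e) (hh i.1 i.2)
      rw [smul_eq_mul] at hA
      have hB := finset_prod_mem_graded 𝒜 (Finset.univ.erase i) (fun j : s => a j * h j.1)
        (fun j : s => j.1 ^ a j) (fun j _ => by
          have := SetLike.pow_mem_graded (A := 𝒜) (a j) (hh j.1 j.2)
          rwa [smul_eq_mul] at this)
      have hAB := SetLike.mul_mem_graded hA hB
      have hdeg : (a i - e) * h i.1 + ∑ j ∈ Finset.univ.erase i, a j * h j.1 = N - q := by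
        have : (a i - e) * h i.1 = a i * h i.1 - q := by
          rw [Nat.sub_mul, he, mul_comm e (h i.1)]
        rw [this]; omega
      rwa [hdeg] at hAB
    rw [hsplit]
    exact Submodule.mul_mem_mul h1 h2
  calc Md 𝒜 0 * Submodule.span ℤ (monos s h N)
      ≤ Md 𝒜 0 * (Md 𝒜 q * Md 𝒜 (N - q)) := mul_le_mul' le_rfl key
    _ = (Md 𝒜 0 * Md 𝒜 q) * Md 𝒜 (N - q) := (mul_assoc _ _ _).symm
    _ ≤ Md 𝒜 (0 + q) * Md 𝒜 (N - q) := mul_le_mul' (Md_mul_le 𝒜 0 q) le_rfl
    _ = Md 𝒜 q * Md 𝒜 (N - q) := by rw [zero_add]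

end mono

/-- the per-ring statement -/
theorem veronese {A : Type*} [CommRing A] (f : A →+* S) (hf0 : ∀ r, f r ∈ 𝒜 0)
    (hft : f.FiniteType) :
    ∃ d0 : ℕ, 0 < d0 ∧ ∀ d : ℕ, 0 < d → d0 ∣ d →
      (∀ n : ℕ, 0 < n → Md 𝒜 (n * d) = Md 𝒜 d ^ n) ∧
      ∃ T : Finset S, (↑T : Set S) ⊆ (𝒜 d : Set S) ∧
        Md 𝒜 d = Md 𝒜 0 * Submodule.span ℤ (↑T : Set S) := by
  classical
  let _ := f.toAlgebra
  let f0 : A →+* (𝒜 0) :=
    { toFun := fun r => ⟨f r, hf0 r⟩
      map_one' := Subtype.ext (map_one f)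
      map_mul' := fun a b => Subtype.ext (map_mul f a b)
      map_zero' := Subtype.ext (map_zero f)
      map_add' := fun a b => Subtype.ext (map_add f a b) }
  let _ : Algebra A (𝒜 0) := f0.toAlgebra
  have : IsScalarTower A (𝒜 0) S := IsScalarTower.of_algebraMap_eq (fun r => rfl)
  have : Algebra.FiniteType A S := hft
  have : Algebra.FiniteType (𝒜 0) S := Algebra.FiniteType.of_restrictScalars_finiteType A (𝒜 0) S
  obtain ⟨s, hs, hs'⟩ := GradedAlgebra.exists_finset_adjoin_eq_top_and_homogeneous_ne_zero 𝒜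
  choose! h hh using hs'
  have hpos : ∀ g ∈ s, h g ≠ 0 := fun g hg => (hh g hg).1
  have hmem : ∀ g ∈ s, g ∈ 𝒜 (h g) := fun g hg => (hh g hg).2
  set q := ∏ i : s, h i.1 with hq
  have hqpos : 0 < q := Finset.prod_pos fun i _ => Nat.pos_of_ne_zero (hpos i.1 i.2)
  refine ⟨(s.card + 1) * q, Nat.mul_pos (Nat.succ_pos _) hqpos, ?_⟩
  intro d hd hdvd
  obtain ⟨c', hc'⟩ := hdvd
  -- d = c * q with c ≥ r
  set c := (s.card + 1) * c' with hc
  have hdc : d = c * q := by rw [hc', hc]; ring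
  have hcr : s.card ≤ c := by
    have : 0 < c' := by
      rcases Nat.eq_zero_or_pos c' with h0 | h0
      · rw [h0, mul_zero] at hc'; omega
      · exact h0
    rw [hc]; nlinarith
  constructor
  · -- Veronese
    have step : ∀ n : ℕ, 0 < n → ∀ j : ℕ, Md 𝒜 (n * d + j * q) ≤ Md 𝒜 q ^ j * Md 𝒜 (n * d) := by
      intro n hn j
      induction j with
      | zero => rw [zero_mul, add_zero, pow_zero, one_mul]
      | succ j ih =>
        have hNpos : 0 < n * d + (j + 1) * q := by positivity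
        have hNge : s.card * q ≤ n * d + (j + 1) * q := by
          have h1 : s.card * q ≤ c * q := Nat.mul_le_mul_right _ hcr
          have h2 : d ≤ n * d := Nat.le_mul_of_pos_left _ hn
          rw [← hdc] at h1
          omega
        have hB := claimB 𝒜 s h hs hmem hpos _ hNpos hNge
        have hsub : n * d + (j + 1) * q - q = n * d + j * q := by
          rw [Nat.succ_mul]; omega
        rw [← hq, hsub] at hB
        calc Md 𝒜 (n * d + (j + 1) * q) ≤ Md 𝒜 q * Md 𝒜 (n * d + j * q) := hB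
          _ ≤ Md 𝒜 q * (Md 𝒜 q ^ j * Md 𝒜 (n * d)) := mul_le_mul' le_rfl ih
          _ = Md 𝒜 q ^ (j + 1) * Md 𝒜 (n * d) := by rw [pow_succ', mul_assoc]
    intro n hn
    induction n with
    | zero => omega
    | succ n ih =>
      rcases Nat.eq_zero_or_pos n with h0 | h0
      · subst h0; simp
      · refine le_antisymm ?_ (Md_pow_le 𝒜 d (n + 1))
        have h1 := step n h0 c
        rw [← hdc] at h1
        have h2 : Md 𝒜 q ^ c ≤ Md 𝒜 d := by
          rw [hdc]; exact Md_pow_le 𝒜 q c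
        calc Md 𝒜 ((n + 1) * d) = Md 𝒜 (n * d + d) := by rw [Nat.succ_mul]
          _ ≤ Md 𝒜 q ^ c * Md 𝒜 (n * d) := h1
          _ ≤ Md 𝒜 d * Md 𝒜 d ^ n := by
              rw [ih h0]; exact mul_le_mul' h2 le_rfl
          _ = Md 𝒜 d ^ (n + 1) := by rw [pow_succ']
  · -- finite generation
    have hfin := monos_finite s h hpos d
    refine ⟨hfin.toFinset, ?_, ?_⟩
    · rw [Set.Finite.coe_toFinset]; exact monos_subset 𝒜 s h hmem d
    · rw [Set.Finite.coe_toFinset]; exact Md_eq 𝒜 s h hs hmem d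

end Groth.Agent.S12133Aux

namespace Groth.Agent.S12133

open CategoryTheory AlgebraicGeometry Opposite in
/-- Let Y be a scheme, 𝒮 a quasi-coherent positively graded O_Y-algebra, and (U_i) a finite cover of Y
by affine open sets such that each graded ring 𝒮(U_i) is an algebra of finite type over O_Y(U_i).
Then there is an integer d > 0 such that for every i: 𝒮(U_i)_{nd} = (𝒮(U_i)_d)^n for all n > 0 (as
additive subgroups of the ring 𝒮(U_i); that is, 𝒮^{(d)} is generated by 𝒮_d), and 𝒮(U_i)_d is a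
finitely generated module over the degree-zero subring 𝒮(U_i)_0. (The published statement says 𝒮_d
is an O_Y-module of finite type; its proof gives finite generation over 𝒮_0, which is what is stated
here — for 𝒮 = O_Y[x][T] with x of degree 0 and T of degree 1 over an affine Y, 𝒮 is of finite type
but 𝒮_1 = O_Y[x] T is not a finitely generated O_Y-module.) -/
theorem result {Y : Scheme.{u}} (𝒮 : RelProj.QCGrAlg Y)
    {ι : Type u} [Finite ι] (U : ι → Y.Opens) (hU : ∀ i, IsAffineOpen (U i)) (hcov : ⨆ i, U i = ⊤)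
    (hft : ∀ i, (𝒮.str.app (op (U i))).hom.FiniteType) :
    ∃ d : ℕ, 0 < d ∧ ∀ i,
      (∀ n : ℕ, 0 < n →
        AddSubgroup.toIntSubmodule (𝒮.deg (U i) (hU i) (n * d)) =
          AddSubgroup.toIntSubmodule (𝒮.deg (U i) (hU i) d) ^ n) ∧
      ∃ T : Finset (𝒮.presheaf.obj (op (U i))),
        (↑T : Set (𝒮.presheaf.obj (op (U i)))) ⊆ (𝒮.deg (U i) (hU i) d : Set (𝒮.presheaf.obj (op (U i)))) ∧
        AddSubgroup.toIntSubmodule (𝒮.deg (U i) (hU i) d) =
          AddSubgroup.toIntSubmodule (𝒮.deg (U i) (hU i) 0) *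
            Submodule.span ℤ (↑T : Set (𝒮.presheaf.obj (op (U i)))) := by
  classical
  cases nonempty_fintype ι
  have hper : ∀ i, ∃ d0 : ℕ, 0 < d0 ∧ ∀ d : ℕ, 0 < d → d0 ∣ d →
      (∀ n : ℕ, 0 < n → AddSubgroup.toIntSubmodule (𝒮.deg (U i) (hU i) (n * d)) =
          AddSubgroup.toIntSubmodule (𝒮.deg (U i) (hU i) d) ^ n) ∧
      ∃ T : Finset (𝒮.presheaf.obj (op (U i))),
        (↑T : Set (𝒮.presheaf.obj (op (U i)))) ⊆ (𝒮.deg (U i) (hU i) d : Set (𝒮.presheaf.obj (op (U i)))) ∧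
        AddSubgroup.toIntSubmodule (𝒮.deg (U i) (hU i) d) =
          AddSubgroup.toIntSubmodule (𝒮.deg (U i) (hU i) 0) *
            Submodule.span ℤ (↑T : Set (𝒮.presheaf.obj (op (U i)))) := by
    intro i
    have : GradedRing (𝒮.deg (U i) (hU i)) := 𝒮.graded (U i) (hU i)
    exact Groth.Agent.S12133Aux.veronese (𝒮.deg (U i) (hU i)) (𝒮.str.app (op (U i))).hom
      (𝒮.str_mem (U i) (hU i)) (hft i)
  choose d0 hd0 hprop using hper
  refine ⟨∏ i, d0 i, Finset.prod_pos fun i _ => hd0 i, fun i => ?_⟩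
  exact hprop i _ (Finset.prod_pos fun i _ => hd0 i) (Finset.dvd_prod_of_mem d0 (Finset.mem_univ i))

end Groth.Agent.S12133
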