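import Groth.Statements.S12134
import Groth.Agent.Lib.Helper63.GrFlat22

set_option autoImplicit false
universe u
open scoped TensorProduct
open EGA43

namespace Groth.Agent.S12134

open AlgebraicGeometry CategoryTheory in
/-- Suppose A₀ is a Noetherian ring and B₀ is a finitely generated A₀-algebra; fix an ideal J₀ ⊆ B₀ and
a finite B₀-module M₀. Then Spec A₀ admits finitely many affine subschemes S_1, …, S_m — presented
as immersions Spec A_i → Spec A₀ — whose underlying sets are mutually disjoint with union all of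
Spec A₀, such that each S_i is open in S_i ∪ S_{i+1} ∪ … ∪ S_m, and such that for each i, setting
N_i = A_i ⊗_{A₀} M₀, the graded module associated to the J₀-adic filtration on N_i is A_i-flat.
Concretely, for every n the A_i-module J₀ⁿN_i / J₀ⁿ⁺¹N_i is flat, where this quotient is encoded as
the image of J₀ⁿN_i inside N_i / J₀ⁿ⁺¹N_i, and J₀ⁿN_i denotes the image in N_i of A_i ⊗_{A₀} J₀ⁿM₀. -/
theorem result {A₀ : Type u} [CommRing A₀] [IsNoetherianRing A₀]
    {B₀ : Type u} [CommRing B₀] [Algebra A₀ B₀] [Algebra.FiniteType A₀ B₀] (J₀ : Ideal B₀)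
    (M₀ : Type u) [AddCommGroup M₀] [Module B₀ M₀] [Module A₀ M₀] [IsScalarTower A₀ B₀ M₀]
    [Module.Finite B₀ M₀] :
    ∃ (m : ℕ) (A : Fin m → Type u) (_ : ∀ i, CommRing (A i)) (_ : ∀ i, Algebra A₀ (A i)),
      (∀ i, IsImmersion (Spec.map (CommRingCat.ofHom (algebraMap A₀ (A i))))) ∧
      (∀ i j, i ≠ j → Disjoint (Set.range (Spec.map (CommRingCat.ofHom (algebraMap A₀ (A i)))))
        (Set.range (Spec.map (CommRingCat.ofHom (algebraMap A₀ (A j)))))) ∧
      (⋃ i, Set.range (Spec.map (CommRingCat.ofHom (algebraMap A₀ (A i)))) = Set.univ) ∧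
      (∀ i, ∃ U : Set (Spec (CommRingCat.of A₀)), IsOpen U ∧
        U ∩ (⋃ j, ⋃ (_ : i ≤ j), Set.range (Spec.map (CommRingCat.ofHom (algebraMap A₀ (A j))))) =
          Set.range (Spec.map (CommRingCat.ofHom (algebraMap A₀ (A i))))) ∧
      ∀ i (n : ℕ), Module.Flat (A i)
        ↥(Submodule.map
            (LinearMap.range (LinearMap.baseChange (A i)
              ((J₀ ^ (n + 1) • (⊤ : Submodule B₀ M₀)).restrictScalars A₀).subtype)).mkQ
            (LinearMap.range (LinearMap.baseChange (A i)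
              ((J₀ ^ n • (⊤ : Submodule B₀ M₀)).restrictScalars A₀).subtype))) := by
  classical
  let Good : ∀ (C : Type u) [CommRing C] [Algebra A₀ C], Prop := fun C _ _ =>
    ∀ n : ℕ, Module.Flat C
      ↥(Submodule.map
          (LinearMap.range (LinearMap.baseChange C
            ((J₀ ^ (n + 1) • (⊤ : Submodule B₀ M₀)).restrictScalars A₀).subtype)).mkQ
          (LinearMap.range (LinearMap.baseChange C
            ((J₀ ^ n • (⊤ : Submodule B₀ M₀)).restrictScalars A₀).subtype)))
  have hGood : ∀ (p : Ideal A₀) [p.IsPrime], ∃ f₀ : A₀, f₀ ∉ p ∧ ∀ f : A₀, f₀ ∣ f → f ∉ p →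
      Good (Localization.Away (Ideal.Quotient.mk p f)) := by
    intro p _
    obtain ⟨f₀, hf₀, h⟩ := Groth.Agent.Lib.Helper63.GrFlat.exists_generic_gr_flat J₀ M₀ p
    refine ⟨f₀, hf₀, fun f hdvd hfp n => ?_⟩
    exact Groth.Agent.Lib.Helper63.GrFlat.flat_map_mkQ _ _
      (Groth.Agent.Lib.Helper63.GrFlat.range_baseChange_anti J₀ M₀ n)
      (h f hdvd hfp (n + 1)) (h f hdvd hfp n)
  obtain ⟨m, S, himm, hdisj, hunion, hopen, hgood⟩ :=
    Groth.Agent.Lib.Helper63.GrFlat.exists_strat Good hGood ⊥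
  refine ⟨m, fun i => (S i).C, fun i => (S i).cr, fun i => (S i).alg, himm, ?_, ?_, ?_, ?_⟩
  · intro i j hij
    exact hdisj i j hij
  · have h0 : PrimeSpectrum.zeroLocus (((⊥ : Ideal A₀) : Set A₀)) = Set.univ := by
      rw [Submodule.bot_coe, PrimeSpectrum.zeroLocus_singleton_zero]
    rw [h0] at hunion
    exact hunion
  · intro i
    obtain ⟨U, hU, hUeq⟩ := hopen i
    exact ⟨U, hU, hUeq⟩
  · intro i n
    exact hgood i n

end Groth.Agent.S12134
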