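import Groth.Statements.S1214
-- import your own Groth.Agent.* helpers here

set_option autoImplicit false
universe u
open FlatMor

namespace Groth.Agent.S1214

/-- If `N` is `J`-adically complete and `b ∈ J`, then `1 - b` acts bijectively on `N`. -/
theorem one_sub_bijective {S : Type u} [CommRing S] (J : Ideal S) (N : Type u) [AddCommGroup N]
    [Module S N] [IsAdicComplete J N] (b : S) (hb : b ∈ J) :
    Function.Bijective (fun x : N => (1 - b) • x) := by
  have hpow : ∀ (n : ℕ) (x : N), b ^ n • x ∈ (J ^ n • ⊤ : Submodule S N) := fun n x =>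
    Submodule.smul_mem_smul (Ideal.pow_mem_pow hb n) Submodule.mem_top
  constructor
  · intro x y hxy
    have h0 : (1 - b) • (x - y) = 0 := by
      simp only at hxy
      rw [smul_sub, hxy, sub_self]
    have h1 : b • (x - y) = x - y := by
      rw [sub_smul, one_smul, sub_eq_zero] at h0
      exact h0.symm
    have h2 : ∀ n : ℕ, b ^ n • (x - y) = x - y := by
      intro n
      induction n with
      | zero => simp
      | succ n ih => rw [pow_succ, mul_smul, h1, ih]
    have h3 : x - y = 0 := by
      apply IsHausdorff.haus' (I := J) (x - y)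
      intro n
      rw [SModEq.sub_mem, sub_zero, ← h2 n]
      exact hpow n _
    exact sub_eq_zero.mp h3
  · intro y
    let f : ℕ → N := fun n => ∑ i ∈ Finset.range n, b ^ i • y
    have hf : ∀ {m n : ℕ}, m ≤ n → f m ≡ f n [SMOD (J ^ m • ⊤ : Submodule S N)] := by
      intro m n h
      simp only [f, SModEq.sub_mem]
      rw [← add_tsub_cancel_of_le h, Finset.sum_range_add, ← sub_sub, sub_self, zero_sub,
        neg_mem_iff]
      apply Submodule.sum_mem
      intro i _
      rw [pow_add, mul_smul]
      exact hpow m _
    obtain ⟨L, hL⟩ := IsPrecomplete.prec' (I := J) f hf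
    refine ⟨L, ?_⟩
    simp only
    rw [← sub_eq_zero]
    apply IsHausdorff.haus' (I := J)
    intro n
    rw [SModEq.sub_mem, sub_zero]
    have hLn := hL n
    rw [SModEq.sub_mem] at hLn
    have key : (1 - b) • f n - y = - (b ^ n • y) := by
      have : (1 - b) • f n = (1 - b ^ n) • y := by
        simp only [f]
        rw [← Finset.sum_smul, ← mul_smul, mul_comm, geom_sum_mul_neg]
      rw [this, sub_smul, one_smul]
      abel
    have e : (1 - b) • L - y = ((1 - b) • f n - y) - (1 - b) • (f n - L) := by
      rw [smul_sub]
      abel
    rw [e, key]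
    exact Submodule.sub_mem _ (neg_mem (hpow n y)) (Submodule.smul_mem _ _ hLn)

open TensorProduct in
theorem smul_eq_rTensor {R S : Type u} [CommRing R] [CommRing S] [Algebra R S]
    (N : Type u) [AddCommGroup N] [Module S N] [Module R N] [IsScalarTower R S N]
    (M : Type u) [AddCommGroup M] [Module R M] (a : S) (z : N ⊗[R] M) :
    a • z = (((LinearMap.lsmul S N a).restrictScalars R).rTensor M) z := by
  induction z using TensorProduct.induction_on with
  | zero => simp
  | tmul x y => simp [TensorProduct.smul_tmul']
  | add x y hx hy => rw [smul_add, map_add, hx, hy]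

open TensorProduct in
/-- Let R → S be a ring map, I an ideal of R and N an S-module which is I-adically complete. Then for
every R-module M and every prime q of S which is the annihilator of an element of the S-module N ⊗_R
M we have q + IS ≠ S. -/
theorem result {R S : Type u} [CommRing R] [CommRing S] [Algebra R S] (I : Ideal R)
    (N : Type u) [AddCommGroup N] [Module S N] [Module R N] [IsScalarTower R S N] [IsAdicComplete I N]
    (M : Type u) [AddCommGroup M] [Module R M]
    (q : Ideal S) [q.IsPrime] (hq : q ∈ FlatCA.ass S (N ⊗[R] M)) :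
    q ⊔ I.map (algebraMap R S) ≠ ⊤ := by
  intro htop
  obtain ⟨hqp, z, hz⟩ := hq
  have h1 : (1 : S) ∈ q ⊔ I.map (algebraMap R S) := by rw [htop]; trivial
  obtain ⟨a, ha, b, hb, hab⟩ := Submodule.mem_sup.mp h1
  have : IsAdicComplete (I.map (algebraMap R S)) N :=
    (IsAdicComplete.map_algebraMap_iff (I := I) (M := N) (S := S)).mpr inferInstance
  have hbij := one_sub_bijective (I.map (algebraMap R S)) N b hb
  have ha' : a = 1 - b := by rw [← hab]; ring
  rw [← ha'] at hbij
  have haz : a • z = 0 := by
    rw [hz] at ha
    exact (Submodule.mem_annihilator_span_singleton z a).mp ha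
  let φ : N →ₗ[R] N := (LinearMap.lsmul S N a).restrictScalars R
  have hφ : Function.Bijective φ := hbij
  let e : N ≃ₗ[R] N := LinearEquiv.ofBijective φ hφ
  have hinj : Function.Injective (φ.rTensor M) := (e.rTensor M).injective
  have hz0 : z = 0 := by
    apply hinj
    rw [map_zero, ← haz]
    exact (smul_eq_rTensor N M a z).symm
  have : q = ⊤ := by
    rw [hz, hz0]
    simp [Submodule.annihilator_bot]
  exact hqp.ne_top this

end Groth.Agent.S1214
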