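import Groth.Statements.S12147
-- import your own Groth.Agent.* helpers here
import Mathlib.Tactic

set_option autoImplicit false
universe u
open CategoryTheory CategoryTheory.Limits AlgebraicGeometry TopologicalSpace Opposite
open scoped HomogeneousIdeal
noncomputable section
open EGA2

namespace Groth.Agent.S12147


theorem map_mem_irrelevant {A σ : Type u} [CommRing A] [SetLike σ A] [AddSubgroupClass σ A] {𝒜 : ℕ → σ} [GradedRing 𝒜]
    {B τ : Type u} [CommRing B] [SetLike τ B] [AddSubgroupClass τ B] {ℬ : ℕ → τ} [GradedRing ℬ]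
    (ψ : A →+* B) (hψ : ∀ d x, x ∈ 𝒜 d → ψ x ∈ ℬ d) (f : A)
    (hf : f ∈ (HomogeneousIdeal.irrelevant 𝒜).toIdeal) : ψ f ∈ (HomogeneousIdeal.irrelevant ℬ).toIdeal := by
  have h1 : f ∈ (HomogeneousIdeal.irrelevant 𝒜).toAddSubmonoid := hf
  rw [HomogeneousIdeal.irrelevant_eq_closure] at h1
  clear hf
  induction h1 using AddSubmonoid.closure_induction with
  | mem x hx =>
    obtain ⟨i, hi, hxi⟩ := Set.mem_iUnion₂.mp hx
    exact HomogeneousIdeal.mem_irrelevant_of_mem _ hi (hψ i x hxi)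
  | zero => rw [map_zero]; exact Ideal.zero_mem _
  | add x y _ _ hx hy => rw [map_add]; exact Ideal.add_mem _ hx hy


/-- Let q : X → Y be a morphism, L an invertible O_X-module with 𝒮L = ⊕ L^{⊗n} (whose Proj, with its
charts, is X), v : 𝒯 → 𝒮 a graded homomorphism of quasi-coherent positively graded O_Y-algebras, ψ♭
= u : 𝒮 → q_*𝒮L a graded q-morphism and ψ'♭ = u' its composite with v. Then the open of definition
G(ψ') of r_{L,ψ'} is contained in the open of definition G(ψ) of r_{L,ψ}; in particular, if r_{L,ψ'}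
is everywhere defined then so is r_{L,ψ}. -/
theorem result {Y X P PL : Scheme.{u}} (q : X ⟶ Y)
    (L : X.Modules) (hL : PicF.IsInvertible L) (hLq : Coh.IsQCoh L)
    (𝒮 : RelProj.QCGrAlg Y) (𝒮L : RelProj.QCGrAlg X) (j : L ⟶ 𝒮L.toModule) (hj : RelProj.IsGrSymAlg L 𝒮L j)
    (u : RelProj.QGrHom q 𝒮 𝒮L)
    (p : P ⟶ Y) (chart : ∀ (U : Y.Opens) (hU : IsAffineOpen U), (((p ⁻¹ᵁ U : P.Opens) : Scheme.{u}) ≅ Proj (𝒮.deg U hU)))
    (hP : RelProj.IsRelProj 𝒮 p chart)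
    (pL : PL ⟶ X) (chartL : ∀ (U : X.Opens) (hU : IsAffineOpen U), (((pL ⁻¹ᵁ U : PL.Opens) : Scheme.{u}) ≅ Proj (𝒮L.deg U hU)))
    (hPL : RelProj.IsRelProj 𝒮L pL chartL)
    (𝒯 : RelProj.QCGrAlg Y) (v : 𝒯.toQCAlg ⟶ 𝒮.toQCAlg) (hv : RelProj.IsGradedHom v)
    (u' : RelProj.QGrHom q 𝒯 𝒮L) (hu' : ∀ U : Y.Opens, u'.app U = v.hom.app (op U) ≫ u.app U) :
    RelProj.domQ u' pL chartL ≤ RelProj.domQ u pL chartL := by
  unfold RelProj.domQ
  apply iSup_mono
  intro V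
  apply Scheme.Hom.image_mono
  intro x hx
  rw [RelCone.mem_domOpen] at hx ⊢
  obtain ⟨f, hf, hfx⟩ := hx
  refine ⟨(v.hom.app (op V.1.1.1)).hom f, map_mem_irrelevant _ (fun d x hx => hv _ V.1.1.2 d x hx) f hf, ?_⟩
  convert hfx using 2
  rw [RelProj.QGrHom.gradedAt_apply, RelProj.QGrHom.gradedAt_apply, RelSpec.QHom.appLE_eq, RelSpec.QHom.appLE_eq, hu']
  rfl


end Groth.Agent.S12147
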