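import Groth.Statements.S12148
import Groth.Agent.Lib.Helper74.QMapCompTN

set_option autoImplicit false
universe u
open CategoryTheory CategoryTheory.Limits AlgebraicGeometry TopologicalSpace Opposite
open scoped HomogeneousIdeal
noncomputable section
open EGA2

namespace Groth.Agent.S12148

/-- Let q : X → Y be a morphism, L an invertible O_X-module with 𝒮L = ⊕ L^{⊗n} (whose Proj, with its
charts, is X), v : 𝒯 → 𝒮 a graded homomorphism of quasi-coherent positively graded O_Y-algebras, ψ♭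
= u : 𝒮 → q_*𝒮L a graded q-morphism and ψ'♭ = u' its composite with v; let r = r_{L,ψ} : G(ψ) →
Proj(𝒮) and r' = r_{L,ψ'} : G(ψ') → Proj(𝒯) be the associated morphisms. If v is (TN)-surjective
(there is n with v : 𝒯_k → 𝒮_k surjective for every k ≥ n, on sections over affine opens) and r' is
dominant, then r is dominant. -/
theorem result {Y X P PL P' : Scheme.{u}} (q : X ⟶ Y)
    (L : X.Modules) (hL : PicF.IsInvertible L) (hLq : Coh.IsQCoh L)
    (𝒮 : RelProj.QCGrAlg Y) (𝒮L : RelProj.QCGrAlg X) (j : L ⟶ 𝒮L.toModule) (hj : RelProj.IsGrSymAlg L 𝒮L j)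
    (u : RelProj.QGrHom q 𝒮 𝒮L)
    (p : P ⟶ Y) (chart : ∀ (U : Y.Opens) (hU : IsAffineOpen U), (((p ⁻¹ᵁ U : P.Opens) : Scheme.{u}) ≅ Proj (𝒮.deg U hU)))
    (hP : RelProj.IsRelProj 𝒮 p chart)
    (pL : PL ⟶ X) (chartL : ∀ (U : X.Opens) (hU : IsAffineOpen U), (((pL ⁻¹ᵁ U : PL.Opens) : Scheme.{u}) ≅ Proj (𝒮L.deg U hU)))
    (hPL : RelProj.IsRelProj 𝒮L pL chartL)
    (r : ((RelProj.domQ u pL chartL : PL.Opens) : Scheme.{u}) ⟶ P)
    (hr : RelProj.IsProjQMapOn u p chart pL chartL (RelProj.domQ u pL chartL) r)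
    (𝒯 : RelProj.QCGrAlg Y) (v : 𝒯.toQCAlg ⟶ 𝒮.toQCAlg) (hv : RelProj.IsGradedHom v)
    (u' : RelProj.QGrHom q 𝒯 𝒮L) (hu' : ∀ U : Y.Opens, u'.app U = v.hom.app (op U) ≫ u.app U)
    (p' : P' ⟶ Y) (chart' : ∀ (U : Y.Opens) (hU : IsAffineOpen U), (((p' ⁻¹ᵁ U : P'.Opens) : Scheme.{u}) ≅ Proj (𝒯.deg U hU)))
    (hP' : RelProj.IsRelProj 𝒯 p' chart')
    (r' : ((RelProj.domQ u' pL chartL : PL.Opens) : Scheme.{u}) ⟶ P')
    (hr' : RelProj.IsProjQMapOn u' p' chart' pL chartL (RelProj.domQ u' pL chartL) r')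
    (hTN : ∃ n : ℕ, ∀ k, n ≤ k → ∀ (U : Y.Opens) (hU : IsAffineOpen U), ∀ y ∈ 𝒮.deg U hU k,
      ∃ x ∈ 𝒯.deg U hU k, (v.hom.app (op U)).hom x = y) (hdom : IsDominant r') :
    IsDominant r := by
  obtain rfl := Groth.Agent.Lib.Helper74.QMap.eq_compGr u v hv hu'
  have hle := Groth.Agent.Lib.Helper74.QMap.domQ_compGr_le u v hv hPL
  obtain ⟨πv, hπv, -⟩ := Groth.Agent.Lib.Helper74.QMap.existsUnique_isProjQMapOn
    (u := RelProj.QGrHom.ofHom v hv) hP' hP
  have hπcl : IsClosedImmersion πv :=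
    Groth.Agent.Lib.Helper74.QMap.isClosedImmersion_of_tn_surjective v hv hP hP' hTN πv hπv
  have hdomv := Groth.Agent.Lib.Helper74.QMap.domQ_eq_top_of_tn_surjective v hv hP hTN
  obtain ⟨r₀, hr₀⟩ := Groth.Agent.Lib.Helper74.QMap.exists_factor u v hv hP hPL r hr
  have hcomp := Groth.Agent.Lib.Helper74.QMap.compGr_comp u v hv hP hPL r hr r' hr' πv hπv r₀ hr₀
  have hιiso : IsIso (RelProj.domQ (RelProj.QGrHom.ofHom v hv) p chart).ι := by
    rw [hdomv]; exact inferInstanceAs (IsIso P.topIso.hom)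
  have h1 : DenseRange r₀.base := by
    have hemb := πv.isClosedEmbedding
    have hd : DenseRange (r₀ ≫ πv).base := hcomp ▸ hdom.denseRange
    rw [DenseRange, dense_iff_closure_eq,
      hemb.isInducing.closure_eq_preimage_closure_image, ← Set.range_comp]
    have h2 : closure (Set.range (πv.base ∘ r₀.base)) = Set.univ :=
      dense_iff_closure_eq.mp hd
    rw [h2]
    rfl
  have h3 : IsDominant r₀ := ⟨h1⟩
  have h4 : IsDominant (PL.homOfLE hle ≫ r) := by
    rw [← hr₀]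
    infer_instance
  exact IsDominant.of_comp (f := PL.homOfLE hle) (g := r)

end Groth.Agent.S12148
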