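import Groth.Statements.S12149
import Groth.Agent.Lib.Helper74.QMapCompTN

set_option autoImplicit false
universe u
open CategoryTheory CategoryTheory.Limits AlgebraicGeometry TopologicalSpace Opposite
open scoped HomogeneousIdeal
noncomputable section
open EGA2

namespace Groth.Agent.S12149

/-- Let q : X → Y be a morphism, L an invertible O_X-module with 𝒮L = ⊕ L^{⊗n} (whose Proj, with its
charts, is X), v : 𝒯 → 𝒮 a graded homomorphism of quasi-coherent positively graded O_Y-algebras, ψ♭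
= u : 𝒮 → q_*𝒮L a graded q-morphism and ψ'♭ = u' its composite with v; let r = r_{L,ψ} : G(ψ) →
Proj(𝒮) and r' = r_{L,ψ'} : G(ψ') → Proj(𝒯) be the associated morphisms. If v is (TN)-injective
(there is n with v injective on 𝒯_k for every k ≥ n, on sections over affine opens) and r is
dominant, then r' is dominant. -/
theorem result {Y X P PL P' : Scheme.{u}} (q : X ⟶ Y)
    (L : X.Modules) (hL : PicF.IsInvertible L) (hLq : Coh.IsQCoh L)
    (𝒮 : RelProj.QCGrAlg Y) (𝒮L : RelProj.QCGrAlg X) (j : L ⟶ 𝒮L.toModule) (hj : RelProj.IsGrSymAlg L 𝒮L j)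
    (u : RelProj.QGrHom q 𝒮 𝒮L)
    (p : P ⟶ Y) (chart : ∀ (U : Y.Opens) (hU : IsAffineOpen U), (((p ⁻¹ᵁ U : P.Opens) : Scheme.{u}) ≅ Proj (𝒮.deg U hU)))
    (hP : RelProj.IsRelProj 𝒮 p chart)
    (pL : PL ⟶ X) (chartL : ∀ (U : X.Opens) (hU : IsAffineOpen U), (((pL ⁻¹ᵁ U : PL.Opens) : Scheme.{u}) ≅ Proj (𝒮L.deg U hU)))
    (hPL : RelProj.IsRelProj 𝒮L pL chartL)
    (r : ((RelProj.domQ u pL chartL : PL.Opens) : Scheme.{u}) ⟶ P)
    (hr : RelProj.IsProjQMapOn u p chart pL chartL (RelProj.domQ u pL chartL) r)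
    (𝒯 : RelProj.QCGrAlg Y) (v : 𝒯.toQCAlg ⟶ 𝒮.toQCAlg) (hv : RelProj.IsGradedHom v)
    (u' : RelProj.QGrHom q 𝒯 𝒮L) (hu' : ∀ U : Y.Opens, u'.app U = v.hom.app (op U) ≫ u.app U)
    (p' : P' ⟶ Y) (chart' : ∀ (U : Y.Opens) (hU : IsAffineOpen U), (((p' ⁻¹ᵁ U : P'.Opens) : Scheme.{u}) ≅ Proj (𝒯.deg U hU)))
    (hP' : RelProj.IsRelProj 𝒯 p' chart')
    (r' : ((RelProj.domQ u' pL chartL : PL.Opens) : Scheme.{u}) ⟶ P')
    (hr' : RelProj.IsProjQMapOn u' p' chart' pL chartL (RelProj.domQ u' pL chartL) r')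
    (hTN : ∃ n : ℕ, ∀ k, n ≤ k → ∀ (U : Y.Opens) (hU : IsAffineOpen U), ∀ x ∈ 𝒯.deg U hU k,
      (v.hom.app (op U)).hom x = 0 → x = 0) (hdom : IsDominant r) :
    IsDominant r' := by
  obtain rfl := Groth.Agent.Lib.Helper74.QMap.eq_compGr u v hv hu'
  have hle := Groth.Agent.Lib.Helper74.QMap.domQ_compGr_le u v hv hPL
  obtain ⟨πv, hπv, -⟩ := Groth.Agent.Lib.Helper74.QMap.existsUnique_isProjQMapOn
    (u := RelProj.QGrHom.ofHom v hv) hP' hP
  have hπdom : IsDominant πv :=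
    Groth.Agent.Lib.Helper74.QMap.isDominant_of_tn_injective v hv hP hTN πv hπv
  obtain ⟨r₀, hr₀⟩ := Groth.Agent.Lib.Helper74.QMap.exists_factor u v hv hP hPL r hr
  have hcomp := Groth.Agent.Lib.Helper74.QMap.compGr_comp u v hv hP hPL r hr r' hr' πv hπv r₀ hr₀
  have hrange : Set.range r₀.base =
      (RelProj.domQ (RelProj.QGrHom.ofHom v hv) p chart).ι.base ⁻¹' (Set.range r.base) := by
    ext g
    constructor
    · rintro ⟨x, rfl⟩
      exact ⟨PL.homOfLE hle x, (congrArg (fun ψ => ψ.base x) hr₀).symm⟩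
    · rintro ⟨x, hx⟩
      have hx' : r x = g.1 := hx
      have hxw : x.1 ∈ RelProj.domQ (Groth.Agent.Lib.Helper74.QMap.compGr u v hv) pL chartL :=
        (Groth.Agent.Lib.Helper74.QMap.mem_domQ_compGr_iff u v hv hP hPL r hr x).mpr
          (by rw [hx']; exact g.2)
      refine ⟨⟨x.1, hxw⟩, ?_⟩
      apply (RelProj.domQ (RelProj.QGrHom.ofHom v hv) p chart).ι.isOpenEmbedding.injective
      have h1 := congrArg (fun ψ => ψ.base ⟨x.1, hxw⟩) hr₀
      have h2 : PL.homOfLE hle ⟨x.1, hxw⟩ = x := by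
        apply Subtype.ext
        exact congrArg (fun ψ => ψ.base ⟨x.1, hxw⟩) (PL.homOfLE_ι hle)
      change (RelProj.domQ (RelProj.QGrHom.ofHom v hv) p chart).ι (r₀ ⟨x.1, hxw⟩) =
        r (PL.homOfLE hle ⟨x.1, hxw⟩) at h1
      rw [h1, h2]
      exact hx
  have h1 : DenseRange r₀.base := by
    rw [DenseRange, hrange]
    exact hdom.denseRange.preimage
      (RelProj.domQ (RelProj.QGrHom.ofHom v hv) p chart).ι.isOpenEmbedding.isOpenMap
  have h3 : IsDominant r₀ := ⟨h1⟩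
  rw [← hcomp]
  infer_instance

end Groth.Agent.S12149
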