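import Groth.Statements.S12150
import Groth.Agent.Lib.Helper74.QMapImm2

set_option autoImplicit false
universe u
open CategoryTheory CategoryTheory.Limits AlgebraicGeometry TopologicalSpace Opposite
open scoped HomogeneousIdeal
noncomputable section
open EGA2

namespace Groth.Agent.S12150

/-- Let q : X → Y be a morphism with Y affine, L an invertible O_X-module with 𝒮L = ⊕ L^{⊗n} (whose Proj
is X), 𝒮 a quasi-coherent positively graded O_Y-algebra with S = Γ(Y, 𝒮), ψ♭ = u : 𝒮 → q_*𝒮L a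
graded q-morphism and r = r_{L,ψ} : G(ψ) → P = Proj(𝒮). For a family s_a ∈ S_{n_a} (n_a > 0) put f_a
= ψ♭(s_a) ∈ Γ(X, L^{⊗n_a}) and let X_{f_a} be the open where f_a does not vanish; conditions: (i)
the X_{f_a} cover X; (ii) the X_{f_a} are affine; (iii) every function t on X_{f_a} is of the form
ψ♭(s') f_a^{-m} with m > 0 and s' ∈ S_{m n_a} (that is, t f_a^m = ψ♭(s') in 𝒮L(X_{f_a})). Then r is
everywhere defined (G(ψ) = X) and an immersion if and only if there is a family (s_a) satisfying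
(i), (ii) and (iii). -/
theorem result {Y X P PL : Scheme.{u}} (q : X ⟶ Y)
    (L : X.Modules) (hL : PicF.IsInvertible L) (hLq : Coh.IsQCoh L)
    (𝒮 : RelProj.QCGrAlg Y) (𝒮L : RelProj.QCGrAlg X) (j : L ⟶ 𝒮L.toModule) (hj : RelProj.IsGrSymAlg L 𝒮L j)
    (u : RelProj.QGrHom q 𝒮 𝒮L)
    (p : P ⟶ Y) (chart : ∀ (U : Y.Opens) (hU : IsAffineOpen U), (((p ⁻¹ᵁ U : P.Opens) : Scheme.{u}) ≅ Proj (𝒮.deg U hU)))
    (hP : RelProj.IsRelProj 𝒮 p chart)
    (pL : PL ⟶ X) (chartL : ∀ (U : X.Opens) (hU : IsAffineOpen U), (((pL ⁻¹ᵁ U : PL.Opens) : Scheme.{u}) ≅ Proj (𝒮L.deg U hU)))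
    (hPL : RelProj.IsRelProj 𝒮L pL chartL)
    (r : ((RelProj.domQ u pL chartL : PL.Opens) : Scheme.{u}) ⟶ P)
    (hr : RelProj.IsProjQMapOn u p chart pL chartL (RelProj.domQ u pL chartL) r)
    (hY : IsAffineOpen (⊤ : Y.Opens)) :
    (RelProj.domQ u pL chartL = ⊤ ∧ IsImmersion r) ↔
      ∃ (ι : Type u) (n : ι → ℕ) (s : ι → 𝒮.presheaf.obj (op ⊤)) (XT : ι → X.Opens),
        (∀ a, 0 < n a ∧ s a ∈ 𝒮.deg ⊤ hY (n a)) ∧
        (∀ a, XT a = (⨆ V : {V : X.affineOpens //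
          ((𝒮L.deg V.1 V.2 (n a) : AddSubgroup (𝒮L.presheaf.obj (op (V.1 : X.Opens)))) : Set (𝒮L.presheaf.obj (op (V.1 : X.Opens)))) ⊆
            (Ideal.span {(u.appLE ⊤ (V.1 : X.Opens) (le_top.trans (Scheme.Hom.preimage_top q).ge)).hom (s a)} : Set (𝒮L.presheaf.obj (op (V.1 : X.Opens))))},
          (V.1.1 : X.Opens))) ∧
        (⨆ a, XT a) = ⊤ ∧ (∀ a, IsAffineOpen (XT a)) ∧
        (∀ (a : ι) (t : X.presheaf.obj (op (XT a))), ∃ (m : ℕ) (_ : 0 < m) (s' : 𝒮.presheaf.obj (op ⊤)) (_ : s' ∈ 𝒮.deg ⊤ hY (m * n a)),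
            (𝒮L.str.app (op (XT a))).hom t * ((u.appLE ⊤ (XT a) (le_top.trans (Scheme.Hom.preimage_top q).ge)).hom (s a)) ^ m =
              (u.appLE ⊤ (XT a) (le_top.trans (Scheme.Hom.preimage_top q).ge)).hom s') := by
  haveI : L.IsQuasicoherent := hLq
  constructor
  · rintro ⟨hdom, himm⟩
    haveI := himm
    have hfac : r.liftCoborder ≫ r.coborderRange.ι = r := r.liftCoborder_ι
    have key : ∀ x : X, ∃ (n : ℕ) (s : 𝒮.presheaf.obj (op ⊤)), (0 < n ∧ s ∈ 𝒮.deg ⊤ hY n) ∧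
        x ∈ Groth.Agent.Lib.Helper74.QMapImm.XT u n s ∧
        IsAffineOpen (Groth.Agent.Lib.Helper74.QMapImm.XT u n s) ∧
        Groth.Agent.Lib.Helper74.QMapImm.Cond3 u hY n s := by
      intro x
      haveI : IsIso pL := Groth.Agent.Lib.Helper74.InvSym.isIso_pL hj hL hPL
      obtain ⟨pt, rfl⟩ : ∃ pt, pL pt = x :=
        ⟨(inv pL) x, by rw [← Scheme.Hom.comp_apply, IsIso.inv_hom_id]; rfl⟩
      have hpt : pt ∈ RelProj.domQ u pL chartL := by rw [hdom]; trivial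
      have hrw : r ⟨pt, hpt⟩ ∈ r.coborderRange := by
        have h1 : r ⟨pt, hpt⟩ = r.coborderRange.ι (r.liftCoborder ⟨pt, hpt⟩) := by
          rw [← Scheme.Hom.comp_apply, hfac]
        rw [h1]
        exact (r.liftCoborder ⟨pt, hpt⟩).2
      obtain ⟨n, hn, s, hs, hmem, hsub⟩ :=
        Groth.Agent.Lib.Helper74.QMapImm.exists_stdChart_le hP hY r.coborderRange (r ⟨pt, hpt⟩) hrw
      have hW : Set.range (Groth.Agent.Lib.Helper74.QMap.stdChart p chart ⊤ hY hn s hs) ⊆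
          Set.range r.coborderRange.ι := by
        rw [Scheme.Opens.range_ι]; exact hsub
      have hXT := Groth.Agent.Lib.Helper74.QMapImm.isAffineOpen_XT_of_lift hL hj u hP hPL r hr hY hn hs
        r.coborderRange r.liftCoborder hfac hW
      have hQ := Groth.Agent.Lib.Helper74.QMapImm.fC_of_lift (Q := @IsClosedImmersion) hL hj u hP hPL r hr hY hn hs
        r.coborderRange r.liftCoborder hfac hW hXT inferInstance
      refine ⟨n, s, ⟨hn, hs⟩, ?_, hXT,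
        (Groth.Agent.Lib.Helper74.QMapImm.isClosedImmersion_fC_iff hL hj u hP hPL r hr hY hn hs hXT).mp hQ⟩
      exact (Groth.Agent.Lib.Helper74.QMapImm.mem_preimage_XT_iff hL hj u hP hPL r hr hY hn hs ⟨pt, hpt⟩).mpr hmem
    choose n s hns hx hXT h3 using key
    exact ⟨↥X, n, s, fun a => Groth.Agent.Lib.Helper74.QMapImm.XT u (n a) (s a), hns, fun a => rfl,
      eq_top_iff.mpr (fun x _ => Opens.mem_iSup.mpr ⟨x, hx x⟩), hXT, h3⟩
  · rintro ⟨ι, n, s, XT', hns, hXTdef, hcov, hXT, h3⟩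
    obtain rfl : XT' = fun a => Groth.Agent.Lib.Helper74.QMapImm.XT u (n a) (s a) := funext hXTdef
    exact ⟨Groth.Agent.Lib.Helper74.QMapImm.domQ_eq_top_of_cover hL hj u hP hPL r hr hY n s hns hcov,
      Groth.Agent.Lib.Helper74.QMapImm.isImmersion_of_family hL hj u hP hPL r hr hY n s hns hcov hXT h3⟩

end Groth.Agent.S12150
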