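import Groth.Statements.S12152
import Groth.Agent.Lib.Helper74.QMapImm2

set_option autoImplicit false
universe u
open CategoryTheory CategoryTheory.Limits AlgebraicGeometry TopologicalSpace Opposite
open scoped HomogeneousIdeal
noncomputable section
open EGA2

namespace Groth.Agent.S12152

/-- Let q : X → Y be a morphism with Y affine, L an invertible O_X-module with 𝒮L = ⊕ L^{⊗n} (whose Proj
is X), 𝒮 a quasi-coherent positively graded O_Y-algebra with S = Γ(Y, 𝒮), ψ♭ = u : 𝒮 → q_*𝒮L a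
graded q-morphism and r = r_{L,ψ} : G(ψ) → P = Proj(𝒮). For a family s_a ∈ S_{n_a} (n_a > 0) put f_a
= ψ♭(s_a) ∈ Γ(X, L^{⊗n_a}) and let X_{f_a} be the open where f_a does not vanish; conditions: (i)
the X_{f_a} cover X; (ii) the X_{f_a} are affine; (iii) every function t on X_{f_a} is of the form
ψ♭(s') f_a^{-m} with m > 0 and s' ∈ S_{m n_a} (that is, t f_a^m = ψ♭(s') in 𝒮L(X_{f_a})); (v) the
opens D_+(s_a) cover Proj S. Then r is everywhere defined and a closed immersion if and only if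
there is a family (s_a) satisfying (i), (ii), (iii) and (v). -/
theorem result {Y X P PL : Scheme.{u}} (q : X ⟶ Y)
    (L : X.Modules) (hL : PicF.IsInvertible L) (hLq : Coh.IsQCoh L)
    (𝒮 : RelProj.QCGrAlg Y) (𝒮L : RelProj.QCGrAlg X) (j : L ⟶ 𝒮L.toModule) (hj : RelProj.IsGrSymAlg L 𝒮L j)
    (u : RelProj.QGrHom q 𝒮 𝒮L)
    (p : P ⟶ Y) (chart : ∀ (U : Y.Opens) (hU : IsAffineOpen U), (((p ⁻¹ᵁ U : P.Opens) : Scheme.{u}) ≅ Proj (𝒮.deg U hU)))
    (hP : RelProj.IsRelProj 𝒮 p chart)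
    (pL : PL ⟶ X) (chartL : ∀ (U : X.Opens) (hU : IsAffineOpen U), (((pL ⁻¹ᵁ U : PL.Opens) : Scheme.{u}) ≅ Proj (𝒮L.deg U hU)))
    (hPL : RelProj.IsRelProj 𝒮L pL chartL)
    (r : ((RelProj.domQ u pL chartL : PL.Opens) : Scheme.{u}) ⟶ P)
    (hr : RelProj.IsProjQMapOn u p chart pL chartL (RelProj.domQ u pL chartL) r)
    (hY : IsAffineOpen (⊤ : Y.Opens)) :
    (RelProj.domQ u pL chartL = ⊤ ∧ IsClosedImmersion r) ↔
      ∃ (ι : Type u) (n : ι → ℕ) (s : ι → 𝒮.presheaf.obj (op ⊤)) (XT : ι → X.Opens),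
        (∀ a, 0 < n a ∧ s a ∈ 𝒮.deg ⊤ hY (n a)) ∧
        (∀ a, XT a = (⨆ V : {V : X.affineOpens //
          ((𝒮L.deg V.1 V.2 (n a) : AddSubgroup (𝒮L.presheaf.obj (op (V.1 : X.Opens)))) : Set (𝒮L.presheaf.obj (op (V.1 : X.Opens)))) ⊆
            (Ideal.span {(u.appLE ⊤ (V.1 : X.Opens) (le_top.trans (Scheme.Hom.preimage_top q).ge)).hom (s a)} : Set (𝒮L.presheaf.obj (op (V.1 : X.Opens))))},
          (V.1.1 : X.Opens))) ∧
        (⨆ a, XT a) = ⊤ ∧ (∀ a, IsAffineOpen (XT a)) ∧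
        (∀ (a : ι) (t : X.presheaf.obj (op (XT a))), ∃ (m : ℕ) (_ : 0 < m) (s' : 𝒮.presheaf.obj (op ⊤)) (_ : s' ∈ 𝒮.deg ⊤ hY (m * n a)),
            (𝒮L.str.app (op (XT a))).hom t * ((u.appLE ⊤ (XT a) (le_top.trans (Scheme.Hom.preimage_top q).ge)).hom (s a)) ^ m =
              (u.appLE ⊤ (XT a) (le_top.trans (Scheme.Hom.preimage_top q).ge)).hom s') ∧
        (⨆ a, Proj.basicOpen (𝒮.deg ⊤ hY) (s a)) = ⊤ := by
  haveI : L.IsQuasicoherent := hLq
  constructor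
  · rintro ⟨hdom, himm⟩
    haveI := himm
    haveI : IsIso pL := Groth.Agent.Lib.Helper74.InvSym.isIso_pL hj hL hPL
    have hrange : Set.range r ⊆ Set.range (⊤ : P.Opens).ι := by
      rw [Scheme.Opens.range_ι]; exact fun _ _ => trivial
    set r' := IsOpenImmersion.lift (⊤ : P.Opens).ι r hrange with hr'def
    have hfac : r' ≫ (⊤ : P.Opens).ι = r := IsOpenImmersion.lift_fac _ _ _
    haveI : IsClosedImmersion r' := by
      have e : r' = r ≫ P.topIso.inv := by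
        rw [← cancel_mono (⊤ : P.Opens).ι, hfac, Category.assoc, Scheme.toIso_inv_ι, Category.comp_id]
      rw [e]; infer_instance
    have hW : ∀ {n : ℕ} (hn : 0 < n) {s : 𝒮.presheaf.obj (op ⊤)} (hs : s ∈ 𝒮.deg ⊤ hY n),
        Set.range (Groth.Agent.Lib.Helper74.QMap.stdChart p chart ⊤ hY hn s hs) ⊆
          Set.range (⊤ : P.Opens).ι := by
      intro n hn s hs
      rw [Scheme.Opens.range_ι]; exact fun _ _ => trivial
    let ι : Type u := {a : ℕ × 𝒮.presheaf.obj (op ⊤) // 0 < a.1 ∧ a.2 ∈ 𝒮.deg ⊤ hY a.1}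
    have hXT : ∀ a : ι, IsAffineOpen (Groth.Agent.Lib.Helper74.QMapImm.XT u a.1.1 a.1.2) := fun a =>
      Groth.Agent.Lib.Helper74.QMapImm.isAffineOpen_XT_of_lift hL hj u hP hPL r hr hY a.2.1 a.2.2
        ⊤ r' hfac (hW a.2.1 a.2.2)
    have h3 : ∀ a : ι, Groth.Agent.Lib.Helper74.QMapImm.Cond3 u hY a.1.1 a.1.2 := fun a =>
      (Groth.Agent.Lib.Helper74.QMapImm.isClosedImmersion_fC_iff hL hj u hP hPL r hr hY a.2.1 a.2.2 (hXT a)).mp
        (Groth.Agent.Lib.Helper74.QMapImm.fC_of_lift (Q := @IsClosedImmersion) hL hj u hP hPL r hr hY a.2.1 a.2.2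
          ⊤ r' hfac (hW a.2.1 a.2.2) (hXT a) inferInstance)
    refine ⟨ι, fun a => a.1.1, fun a => a.1.2,
      fun a => Groth.Agent.Lib.Helper74.QMapImm.XT u a.1.1 a.1.2, fun a => a.2, fun a => rfl, ?_, hXT, h3, ?_⟩
    · rw [eq_top_iff]
      intro x _
      obtain ⟨pt, rfl⟩ : ∃ pt, pL pt = x :=
        ⟨(inv pL) x, by rw [← Scheme.Hom.comp_apply, IsIso.inv_hom_id]; rfl⟩
      have hpt : pt ∈ RelProj.domQ u pL chartL := by rw [hdom]; trivial
      obtain ⟨n, hn, s, hs, hmem, -⟩ :=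
        Groth.Agent.Lib.Helper74.QMapImm.exists_stdChart_le hP hY ⊤ (r ⟨pt, hpt⟩) trivial
      refine Opens.mem_iSup.mpr ⟨⟨(n, s), hn, hs⟩, ?_⟩
      exact (Groth.Agent.Lib.Helper74.QMapImm.mem_preimage_XT_iff hL hj u hP hPL r hr hY hn hs ⟨pt, hpt⟩).mpr hmem
    · rw [eq_top_iff]
      intro y₀ _
      obtain ⟨n, hn, s, hs, hmem, -⟩ :=
        Groth.Agent.Lib.Helper74.QMapImm.exists_stdChart_le hP hY ⊤ (RelProj.emb p chart ⊤ hY y₀) trivial
      refine Opens.mem_iSup.mpr ⟨⟨(n, s), hn, hs⟩, ?_⟩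
      exact (Groth.Agent.Lib.Helper74.QMap.emb_mem_range_stdChart_self_iff ⊤ hY hn s hs y₀).mp hmem
  · rintro ⟨ι, n, s, XT', hns, hXTdef, hcov, hXT, h3, h5⟩
    obtain rfl : XT' = fun a => Groth.Agent.Lib.Helper74.QMapImm.XT u (n a) (s a) := funext hXTdef
    exact ⟨Groth.Agent.Lib.Helper74.QMapImm.domQ_eq_top_of_cover hL hj u hP hPL r hr hY n s hns hcov,
      Groth.Agent.Lib.Helper74.QMapImm.isClosedImmersion_of_family hL hj u hP hPL r hr hY n s hns hXT h3 h5⟩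

end Groth.Agent.S12152
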