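import Groth.Statements.S12163
-- import your own Groth.Agent.* helpers here
import Mathlib.Tactic

set_option autoImplicit false
universe u
open CategoryTheory CategoryTheory.Limits AlgebraicGeometry TopologicalSpace Opposite
open scoped HomogeneousIdeal
noncomputable section
open EGA2

namespace Groth.Agent.S12163


theorem range_emb {S P : Scheme.{u}} {𝒮 : RelProj.QCGrAlg S} (p : P ⟶ S)
    (chart : ∀ (U : S.Opens) (hU : IsAffineOpen U), (((p ⁻¹ᵁ U : P.Opens) : Scheme.{u}) ≅ Proj (𝒮.deg U hU)))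
    (U : S.Opens) (hU : IsAffineOpen U) (x : P) (hx : p x ∈ U) :
    ∃ x' : Proj (𝒮.deg U hU), RelProj.emb p chart U hU x' = x := by
  refine ⟨(chart U hU).hom ⟨x, hx⟩, ?_⟩
  unfold RelProj.emb
  have h1 : ((chart U hU).hom ≫ (chart U hU).inv) ⟨x, hx⟩ = ⟨x, hx⟩ := by
    rw [Iso.hom_inv_id]; rfl
  rw [Scheme.Hom.comp_apply] at h1
  rw [Scheme.Hom.comp_apply, h1]
  rfl


/-- Let φ : 𝒜 → ℬ be a graded homomorphism of quasi-coherent positively graded O_Y-algebras and PB =
Proj(ℬ) with its charts. If every point of Y has an affine neighbourhood U over which the irrelevant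
ideal of ℬ(U) is contained in the ideal generated by φ(𝒜(U)_+), then the open of definition G(φ) of
Proj(φ) is all of PB. (The published condition asks 𝒮_+ to be generated by the image as a module
over the functions on U; generation as an ideal, used here, is implied by it.) -/
theorem result {Y PB : Scheme.{u}} (𝒜 ℬ : RelProj.QCGrAlg Y)
    (φ : 𝒜.toQCAlg ⟶ ℬ.toQCAlg) (hφ : RelProj.IsGradedHom φ)
    (pB : PB ⟶ Y) (chartB : ∀ (U : Y.Opens) (hU : IsAffineOpen U), (((pB ⁻¹ᵁ U : PB.Opens) : Scheme.{u}) ≅ Proj (ℬ.deg U hU)))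
    (hB : RelProj.IsRelProj ℬ pB chartB)
    (hcov : ∀ y : Y, ∃ (U : Y.Opens) (hU : IsAffineOpen U), y ∈ U ∧
      (ℬ.deg U hU)₊ ≤ ((𝒜.deg U hU)₊).map (RelProj.gradedHomAt φ hφ U hU)) :
    RelProj.domQ (RelProj.QGrHom.ofHom φ hφ) pB chartB = ⊤ := by
  rw [_root_.eq_top_iff]
  intro x _
  obtain ⟨U, hU, hyU, hle⟩ := hcov (pB x)
  obtain ⟨x', rfl⟩ := range_emb pB chartB U hU x hyU
  unfold RelProj.domQ
  refine TopologicalSpace.Opens.mem_iSup.mpr ⟨⟨(⟨U, hU⟩, ⟨U, hU⟩), le_rfl⟩, ⟨x', ?_, rfl⟩⟩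
  change x' ∈ RelCone.domOpen _
  rw [RelCone.mem_domOpen]
  by_contra hcon
  push Not at hcon
  apply x'.not_irrelevant_le
  refine le_trans hle ?_
  rw [HomogeneousIdeal.map_le_iff_le_comap]
  intro f hf
  have := hcon f hf
  rw [RelProj.QGrHom.gradedAt_apply, RelSpec.QHom.appLE_eq] at this
  change (RelProj.gradedHomAt φ hφ U hU) f ∈ x'.asHomogeneousIdeal
  convert this using 1
  change _ = (ℬ.presheaf.map (𝟙 _)).hom _
  rw [CategoryTheory.Functor.map_id]
  rfl


end Groth.Agent.S12163
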