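import Groth.Statements.S12187
import Mathlib.RingTheory.Localization.Finiteness

set_option autoImplicit false
universe u
open TensorProduct
open EtAlg

namespace Groth.Agent.S12187

section Tors

variable {R R' : Type u} [CommRing R] [CommRing R'] [Algebra R R'] (f : R)

theorem approx_of_quotPowBijective (h : EtGlue.QuotPowBijective R R' f) (n : ℕ) (r' : R') :
    ∃ r : R, algebraMap R R' r - r' ∈ Ideal.map (algebraMap R R') (Ideal.span {f ^ n}) := by
  rcases Nat.eq_zero_or_pos n with hn | hn
  · subst hn
    refine ⟨0, ?_⟩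
    rw [pow_zero, Ideal.span_singleton_one, Ideal.map_top]
    trivial
  · obtain ⟨x, hx⟩ := (h n hn).2 (Ideal.Quotient.mk _ r')
    obtain ⟨r, rfl⟩ := Ideal.Quotient.mk_surjective x
    refine ⟨r, ?_⟩
    rw [Ideal.quotientMap_mk] at hx
    exact (Ideal.Quotient.eq).1 hx

theorem mem_of_quotPowBijective (h : EtGlue.QuotPowBijective R R' f) (n : ℕ) (r : R)
    (hr : algebraMap R R' r ∈ Ideal.map (algebraMap R R') (Ideal.span {f ^ n})) :
    r ∈ Ideal.span {f ^ n} := by
  rcases Nat.eq_zero_or_pos n with hn | hn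
  · subst hn
    rw [pow_zero, Ideal.span_singleton_one]
    trivial
  · have h0 : Ideal.quotientMap (Ideal.map (algebraMap R R') (Ideal.span {f ^ n})) (algebraMap R R')
        Ideal.le_comap_map (Ideal.Quotient.mk _ r) = 0 := by
      rw [Ideal.quotientMap_mk]
      exact (Ideal.Quotient.eq_zero_iff_mem).2 hr
    have h1 := (h n hn).1 (h0.trans (map_zero _).symm)
    exact (Ideal.Quotient.eq_zero_iff_mem).1 h1

theorem map_span_pow_antitone {k n : ℕ} (hkn : k ≤ n) :
    Ideal.map (algebraMap R R') (Ideal.span {f ^ n}) ≤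
      Ideal.map (algebraMap R R') (Ideal.span {f ^ k}) := by
  apply Ideal.map_mono
  rw [Ideal.span_singleton_le_span_singleton]
  exact pow_dvd_pow f hkn

variable {M : Type*} [AddCommGroup M] [Module R M]

theorem eq_zero_of_tmul_eq_zero (h : EtGlue.QuotPowBijective R R' f)
    (htors : ∀ m : M, ∃ n : ℕ, f ^ n • m = 0) (m : M) (hm : (1 : R') ⊗ₜ[R] m = 0) : m = 0 := by
  classical
  choose N hN using htors
  choose ap hap using approx_of_quotPowBijective f h
  have wd : ∀ (m : M) (r' : R') (n : ℕ) (r : R), f ^ n • m = 0 →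
      algebraMap R R' r - r' ∈ Ideal.map (algebraMap R R') (Ideal.span {f ^ n}) →
      r • m = ap (N m) r' • m := by
    intro m r' n r hn hr
    have hk : f ^ (min n (N m)) • m = 0 := by
      rcases min_choice n (N m) with e | e <;> rw [e]
      · exact hn
      · exact hN m
    have h1 : algebraMap R R' (r - ap (N m) r') ∈
        Ideal.map (algebraMap R R') (Ideal.span {f ^ (min n (N m))}) := by
      have : algebraMap R R' (r - ap (N m) r') =
          (algebraMap R R' r - r') - (algebraMap R R' (ap (N m) r') - r') := by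
        rw [map_sub]; ring
      rw [this]
      exact Ideal.sub_mem _ (map_span_pow_antitone f (min_le_left _ _) hr)
        (map_span_pow_antitone f (min_le_right _ _) (hap (N m) r'))
    have h2 := mem_of_quotPowBijective f h _ _ h1
    obtain ⟨c, hc⟩ := Ideal.mem_span_singleton'.1 h2
    have : (r - ap (N m) r') • m = 0 := by
      rw [← hc, mul_smul, hk, smul_zero]
    rwa [sub_smul, sub_eq_zero] at this
  let β : R' →ₗ[R] M →ₗ[R] M := LinearMap.mk₂ R (fun r' m => ap (N m) r' • m)
    (by
      intro r₁ r₂ m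
      have := wd m (r₁ + r₂) (N m) (ap (N m) r₁ + ap (N m) r₂) (hN m) (by
        have : algebraMap R R' (ap (N m) r₁ + ap (N m) r₂) - (r₁ + r₂) =
          (algebraMap R R' (ap (N m) r₁) - r₁) + (algebraMap R R' (ap (N m) r₂) - r₂) := by
          rw [map_add]; ring
        rw [this]
        exact Ideal.add_mem _ (hap _ _) (hap _ _))
      rw [← this, add_smul])
    (by
      intro c r' m
      have := wd m (c • r') (N m) (c * ap (N m) r') (hN m) (by
        have : algebraMap R R' (c * ap (N m) r') - c • r' =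
          algebraMap R R' c * (algebraMap R R' (ap (N m) r') - r') := by
          rw [map_mul, Algebra.smul_def]; ring
        rw [this]
        exact Ideal.mul_mem_left _ _ (hap _ _))
      rw [← this, mul_smul])
    (by
      intro r' m₁ m₂
      have hk1 : f ^ (max (N m₁) (N m₂)) • m₁ = 0 := by
        rw [← Nat.sub_add_cancel (le_max_left (N m₁) (N m₂)), pow_add, mul_smul, hN, smul_zero]
      have hk2 : f ^ (max (N m₁) (N m₂)) • m₂ = 0 := by
        rw [← Nat.sub_add_cancel (le_max_right (N m₁) (N m₂)), pow_add, mul_smul, hN, smul_zero]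
      have hk : f ^ (max (N m₁) (N m₂)) • (m₁ + m₂) = 0 := by
        rw [smul_add, hk1, hk2, add_zero]
      have e := wd (m₁ + m₂) r' _ (ap (max (N m₁) (N m₂)) r') hk (hap _ _)
      have e1 := wd m₁ r' _ (ap (max (N m₁) (N m₂)) r') hk1 (hap _ _)
      have e2 := wd m₂ r' _ (ap (max (N m₁) (N m₂)) r') hk2 (hap _ _)
      rw [← e, ← e1, ← e2, smul_add])
    (by
      intro c r' m
      have hk : f ^ (N m) • (c • m) = 0 := by
        rw [smul_comm, hN, smul_zero]
      have e := wd (c • m) r' _ (ap (N m) r') hk (hap _ _)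
      rw [← e, smul_comm])
  have hβ : ∀ m : M, TensorProduct.lift β ((1 : R') ⊗ₜ[R] m) = m := by
    intro m
    rw [TensorProduct.lift.tmul]
    change ap (N m) 1 • m = m
    have := wd m 1 (N m) 1 (hN m) (by rw [map_one, sub_self]; exact Ideal.zero_mem _)
    rw [← this, one_smul]
  rw [← hβ m, hm, map_zero]

end Tors

section Main

variable {R : Type u} [CommRing R] {R' : Type u} [CommRing R'] [Algebra R R']
  {A B : Type u} [CommRing A] [Algebra R A] [CommRing B] [Algebra R B]

theorem exists_finset_of_away_finite (ψ : A →+* B) (g : A)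
    (h1 : (Localization.awayMap ψ g).Finite) :
    letI := ψ.toAlgebra
    ∃ T : Finset B, ∀ b : B, ∃ n : ℕ, g ^ n • b ∈ Submodule.span A (T : Set B) := by
  classical
  letI := ψ.toAlgebra
  letI := (Localization.awayMap ψ g).toAlgebra
  haveI : IsLocalization ((Submonoid.powers g).map (algebraMap A B))
      (Localization.Away (ψ g)) := by
    rw [Submonoid.map_powers]; exact Localization.isLocalization
  haveI : IsScalarTower A (Localization.Away g) (Localization.Away (ψ g)) :=
    IsScalarTower.of_algebraMap_eq'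
      (IsLocalization.map_comp (Submonoid.powers g).le_comap_map).symm
  obtain ⟨s₁, s₂⟩ := h1.1
  refine ⟨IsLocalization.finsetIntegerMultiple (Submonoid.powers (ψ g)) s₁, fun x => ?_⟩
  obtain ⟨⟨_, n₁, rfl⟩, hn₁⟩ :=
    multiple_mem_span_of_mem_localization_span (Submonoid.powers g)
      (Localization.Away g) (s₁ : Set (Localization.Away (ψ g))) (algebraMap B _ x)
      (by rw [s₂]; trivial)
  dsimp only at hn₁
  rw [Submonoid.smul_def, Algebra.smul_def, IsScalarTower.algebraMap_apply A B, ← map_mul] at hn₁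
  obtain ⟨⟨_, n₂, rfl⟩, hn₂⟩ :=
    IsLocalization.smul_mem_finsetIntegerMultiple_span (Submonoid.powers g)
      (Localization.Away (ψ g)) _ s₁ hn₁
  rw [Submonoid.smul_def, ← Algebra.smul_def, smul_smul, ← pow_add] at hn₂
  simp_rw [Submonoid.map_powers] at hn₂
  exact ⟨n₂ + n₁, hn₂⟩

end Main

section Tens

variable {R : Type u} [CommRing R] {R' : Type u} [CommRing R'] [Algebra R R']
  {A B : Type u} [CommRing A] [Algebra R A] [CommRing B] [Algebra R B] (φ : A →ₐ[R] B)

theorem tmap_smul_tmul (r' s' : R') (a : A) (b : B) :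
    letI := (Algebra.TensorProduct.map (AlgHom.id R R') φ).toRingHom.toAlgebra
    (r' ⊗ₜ[R] a : R' ⊗[R] A) • (s' ⊗ₜ[R] b : R' ⊗[R] B) = (r' * s') ⊗ₜ[R] (φ a * b) := by
  letI := (Algebra.TensorProduct.map (AlgHom.id R R') φ).toRingHom.toAlgebra
  rw [Algebra.smul_def, RingHom.algebraMap_toAlgebra]
  simp

theorem exists_finset_tmul (y : R' ⊗[R] B) :
    letI := (Algebra.TensorProduct.map (AlgHom.id R R') φ).toRingHom.toAlgebra
    ∃ T : Finset B, y ∈ Submodule.span (R' ⊗[R] A)
      ((fun t : B => ((1 : R') ⊗ₜ[R] t : R' ⊗[R] B)) '' (T : Set B)) := by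
  classical
  letI := (Algebra.TensorProduct.map (AlgHom.id R R') φ).toRingHom.toAlgebra
  induction y using TensorProduct.induction_on with
  | zero => exact ⟨∅, Submodule.zero_mem _⟩
  | tmul r' b =>
    refine ⟨{b}, ?_⟩
    have : (r' ⊗ₜ[R] b : R' ⊗[R] B) = (r' ⊗ₜ[R] (1 : A) : R' ⊗[R] A) • ((1 : R') ⊗ₜ[R] b) := by
      rw [tmap_smul_tmul, mul_one, map_one, one_mul]
    rw [this]
    refine Submodule.smul_mem _ _ (Submodule.subset_span ?_)
    exact ⟨b, by simp, rfl⟩
  | add x y hx hy =>
    obtain ⟨T₁, h₁⟩ := hx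
    obtain ⟨T₂, h₂⟩ := hy
    refine ⟨T₁ ∪ T₂, Submodule.add_mem _ ?_ ?_⟩
    · refine Submodule.span_mono (Set.image_mono ?_) h₁
      exact_mod_cast Finset.subset_union_left
    · refine Submodule.span_mono (Set.image_mono ?_) h₂
      exact_mod_cast Finset.subset_union_right

theorem exists_finset_of_tensor_finite
    (h2 : (Algebra.TensorProduct.map (AlgHom.id R R') φ).toRingHom.Finite) :
    letI := (Algebra.TensorProduct.map (AlgHom.id R R') φ).toRingHom.toAlgebra
    ∃ T : Finset B, Submodule.span (R' ⊗[R] A)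
      ((fun t : B => ((1 : R') ⊗ₜ[R] t : R' ⊗[R] B)) '' (T : Set B)) = ⊤ := by
  classical
  letI := (Algebra.TensorProduct.map (AlgHom.id R R') φ).toRingHom.toAlgebra
  obtain ⟨s, hs⟩ := h2.1
  choose T hT using exists_finset_tmul (R := R) (R' := R') φ
  refine ⟨s.biUnion T, ?_⟩
  rw [eq_top_iff, ← hs, Submodule.span_le]
  intro y hy
  refine Submodule.span_mono (Set.image_mono ?_) (hT y)
  intro t ht
  exact Finset.mem_biUnion.2 ⟨y, hy, ht⟩

end Tens


/-- Glueing along a glueing pair detects finite morphisms of affine schemes, stated for coordinate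
rings. Let (R → R', f) be a glueing pair and φ : A → B a homomorphism of R-algebras with A and B
glueable as R-modules. Then φ is finite exactly when both induced maps A_f → B_f and R' ⊗_R A → R'
⊗_R B are finite. -/
theorem result (R : Type u) [CommRing R] (R' : Type u) [CommRing R'] [Algebra R R'] (f : R)
    (hRR' : EtGlue.IsGlueingPair R R' f) (A B : Type u) [CommRing A] [Algebra R A] [CommRing B] [Algebra R B]
    (hA : EtGlue.IsGlueable R R' f A) (hB : EtGlue.IsGlueable R R' f B) (φ : A →ₐ[R] B) :
    φ.toRingHom.Finite ↔ (Localization.awayMap φ.toRingHom (algebraMap R A f)).Finite ∧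
      (Algebra.TensorProduct.map (AlgHom.id R R') φ).toRingHom.Finite := by
  classical
  letI : Algebra A B := φ.toRingHom.toAlgebra
  have hsm : ∀ (a : A) (b : B), a • b = φ a * b := fun a b => by
    rw [Algebra.smul_def, RingHom.algebraMap_toAlgebra]; rfl
  haveI : IsScalarTower R A B := IsScalarTower.of_algebraMap_eq (fun r => (φ.commutes r).symm)
  constructor
  · intro hfin
    refine ⟨RingHom.localization_away_map_finite A B _ _ φ.toRingHom (algebraMap R A f) hfin, ?_⟩
    letI := (Algebra.TensorProduct.map (AlgHom.id R R') φ).toRingHom.toAlgebra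
    have hfin' : Module.Finite A B := hfin
    obtain ⟨T, hT⟩ := hfin'.1
    refine ⟨⟨T.image (fun t : B => ((1 : R') ⊗ₜ[R] t : R' ⊗[R] B)), ?_⟩⟩
    have key : ∀ b ∈ Submodule.span A (T : Set B), ∀ r' : R', (r' ⊗ₜ[R] b : R' ⊗[R] B) ∈
        Submodule.span (R' ⊗[R] A)
          ((T.image (fun t : B => ((1 : R') ⊗ₜ[R] t : R' ⊗[R] B)) : Finset _) : Set (R' ⊗[R] B)) := by
      intro b hb
      induction hb using Submodule.span_induction with
      | mem t ht =>
        intro r'
        have : (r' ⊗ₜ[R] t : R' ⊗[R] B) =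
            (r' ⊗ₜ[R] (1 : A) : R' ⊗[R] A) • ((1 : R') ⊗ₜ[R] t) := by
          rw [tmap_smul_tmul, mul_one, map_one, one_mul]
        rw [this]
        refine Submodule.smul_mem _ _ (Submodule.subset_span ?_)
        exact Finset.mem_coe.2 (Finset.mem_image_of_mem _ ht)
      | zero => intro r'; rw [TensorProduct.tmul_zero]; exact Submodule.zero_mem _
      | add x y _ _ hx hy =>
        intro r'; rw [TensorProduct.tmul_add]; exact Submodule.add_mem _ (hx r') (hy r')
      | smul a x _ hx =>
        intro r'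
        have : (r' ⊗ₜ[R] (a • x) : R' ⊗[R] B) =
            ((1 : R') ⊗ₜ[R] a : R' ⊗[R] A) • (r' ⊗ₜ[R] x) := by
          rw [tmap_smul_tmul, one_mul, hsm]
        rw [this]
        exact Submodule.smul_mem _ _ (hx r')
    rw [eq_top_iff]
    rintro x -
    induction x using TensorProduct.induction_on with
    | zero => exact Submodule.zero_mem _
    | add x y hx hy => exact Submodule.add_mem _ hx hy
    | tmul r' b => exact key b (by rw [hT]; trivial) r'
  · rintro ⟨h1, h2⟩
    obtain ⟨T1, hT1⟩ := exists_finset_of_away_finite φ.toRingHom (algebraMap R A f) h1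
    obtain ⟨T2, hT2⟩ := exists_finset_of_tensor_finite φ h2
    suffices hN : Submodule.span A ((T1 ∪ T2 : Finset B) : Set B) = ⊤ from ⟨⟨T1 ∪ T2, hN⟩⟩
    have hT1N : Submodule.span A (T1 : Set B) ≤ Submodule.span A ((T1 ∪ T2 : Finset B) : Set B) :=
      Submodule.span_mono (by exact_mod_cast Finset.subset_union_left)
    have hT2N : ∀ t ∈ T2, t ∈ Submodule.span A ((T1 ∪ T2 : Finset B) : Set B) := fun t ht =>
      Submodule.subset_span (Finset.mem_coe.2 (Finset.mem_union_right _ ht))
    generalize Submodule.span A ((T1 ∪ T2 : Finset B) : Set B) = N at hT1N hT2N ⊢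
    have htors : ∀ q : B ⧸ N.restrictScalars R, ∃ n : ℕ, f ^ n • q = 0 := by
      intro q
      obtain ⟨b, rfl⟩ := Submodule.Quotient.mk_surjective _ q
      obtain ⟨n, hn⟩ := hT1 b
      refine ⟨n, ?_⟩
      rw [← Submodule.Quotient.mk_smul, Submodule.Quotient.mk_eq_zero]
      have : f ^ n • b = (algebraMap R A f) ^ n • b := by rw [← map_pow, algebraMap_smul]
      rw [this]
      exact hT1N hn
    have hzero : ∀ q : B ⧸ N.restrictScalars R, (1 : R') ⊗ₜ[R] q = 0 := by
      intro q
      obtain ⟨b, rfl⟩ := Submodule.Quotient.mk_surjective _ q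
      letI := (Algebra.TensorProduct.map (AlgHom.id R R') φ).toRingHom.toAlgebra
      have key : ∀ y ∈ Submodule.span (R' ⊗[R] A)
          ((fun t : B => ((1 : R') ⊗ₜ[R] t : R' ⊗[R] B)) '' (T2 : Set B)),
          ∀ x : R' ⊗[R] A, (LinearMap.lTensor R' (N.restrictScalars R).mkQ) (x • y) = 0 := by
        intro y hy
        induction hy using Submodule.span_induction with
        | mem y hy =>
          obtain ⟨t, ht, rfl⟩ := hy
          intro x
          induction x using TensorProduct.induction_on with
          | zero => rw [zero_smul, map_zero]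
          | tmul r' a =>
            rw [tmap_smul_tmul, LinearMap.lTensor_tmul, Submodule.mkQ_apply,
              (Submodule.Quotient.mk_eq_zero _).2 ?_, TensorProduct.tmul_zero]
            rw [← hsm]
            exact N.smul_mem a (hT2N t ht)
          | add x1 x2 h1 h2 => rw [add_smul, map_add, h1, h2, add_zero]
        | zero => intro x; rw [smul_zero, map_zero]
        | add y1 y2 _ _ h1 h2 => intro x; rw [smul_add, map_add, h1, h2, add_zero]
        | smul c y _ h => intro x; rw [smul_smul]; exact h _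
      have := key ((1 : R') ⊗ₜ[R] b) (by rw [hT2]; trivial) 1
      rw [one_smul, LinearMap.lTensor_tmul] at this
      exact this
    rw [eq_top_iff]
    rintro b -
    have := eq_zero_of_tmul_eq_zero f hRR'.1 htors ((N.restrictScalars R).mkQ b) (hzero _)
    exact (Submodule.Quotient.mk_eq_zero _).1 this

end Groth.Agent.S12187
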