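import Mathlib
import Groth.Statements.S12188
import Groth.Agent.Lib.Helper24.EtGlueFlat

set_option autoImplicit false
universe u
open TensorProduct
open EtAlg

namespace Groth.Agent.S12188

open Groth.Agent.Lib.Helper24.EtGlue

theorem result (R : Type u) [CommRing R] (R' : Type u) [CommRing R'] [Algebra R R'] (f : R)
    (hRR' : EtGlue.IsGlueingPair R R' f) (A B : Type u) [CommRing A] [Algebra R A] [CommRing B] [Algebra R B]
    (hA : EtGlue.IsGlueable R R' f A) (hB : EtGlue.IsGlueable R R' f B) (φ : A →ₐ[R] B) :
    φ.toRingHom.Flat ↔ (Localization.awayMap φ.toRingHom (algebraMap R A f)).Flat ∧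
      (Algebra.TensorProduct.map (AlgHom.id R R') φ).toRingHom.Flat := by
  constructor
  · intro h
    exact ⟨RingHom.Flat.isStableUnderBaseChange.localizationPreserves.away _ _ _ _ h,
      baseChange_map RingHom.Flat.isStableUnderBaseChange RingHom.Flat.respectsIso φ h⟩
  · rintro ⟨h1, h2⟩
    exact flat_of_glue hRR' hA φ h1 h2

end Groth.Agent.S12188
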