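import Groth.Statements.S12195
import Groth.Agent.Lib.Helper79.AlgSpFormalEtale

set_option autoImplicit false
universe u
open CategoryTheory CategoryTheory.Limits AlgebraicGeometry
open AlgSp

namespace Groth.Agent.S12195

/-- Let a : F ⟶ G be a representable, surjective and etale morphism of fppf sheaves on (Sch/S) and b : G
⟶ H a morphism such that a ≫ b is formally smooth. Consider a solid infinitesimal lifting square for
b: a square-zero thickening T = Spec (A/I) ⊂ T' = Spec A of affine schemes over S, a morphism T ⟶ G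
and a morphism T' ⟶ H making the square commute. Then for every point t of T' there exist an affine
scheme U', an etale morphism U' ⟶ T' whose image contains t, and a morphism U' ⟶ G lying over T' ⟶ H
whose restriction to T ×_{T'} U' agrees with the given T ⟶ G (stated for every scheme V mapping
compatibly to T and U'). (The published statement is for transformations of arbitrary presheaves of
sets on (Sch/S)_fppf; this row takes fppf sheaves, the case of algebraic spaces.) -/
theorem result {S : Scheme.{u}} {F G H : AlgSp.Sp S} (a : F ⟶ G)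
    (b : G ⟶ H) (ha : AlgSp.RepWith @Etale a) (ha' : AlgSp.RepWith @Surjective a)
    (hab : AlgSp.IsFormallySmoothMor (a ≫ b)) (sq : AlgSp.InfSq b) (t : ↥sq.ptT'.left) :
    ∃ (U' : Over S) (g : U' ⟶ sq.ptT') (l : (AlgSp.yon S).obj U' ⟶ G),
      IsAffine U'.left ∧ Etale g.left ∧ (∃ u : ↥U'.left, g.left u = t) ∧
        l ≫ b = (AlgSp.yon S).map g ≫ sq.bot ∧
          ∀ (V : Over S) (p : V ⟶ sq.ptT) (q : V ⟶ U'), p ≫ sq.j = q ≫ g →
            (AlgSp.yon S).map q ≫ l = (AlgSp.yon S).map p ≫ sq.top := by
  obtain ⟨U', u', hue, hus, hdata⟩ :=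
    Groth.Agent.Lib.Helper79.AlgSpFormalEtale.exists_cover_data ha ha' sq.j
      (Groth.Agent.Lib.Helper79.AlgSpFormalEtale.isFirstOrderThickening_j sq) sq.top
  obtain ⟨u, hu⟩ := hus.surj t
  obtain ⟨k, z, hz⟩ := U'.left.affineCover.exists_eq u
  let V : Over S := Over.mk (U'.left.affineCover.f k ≫ U'.hom)
  let g : V ⟶ U' := Over.homMk (U'.left.affineCover.f k) rfl
  have hV : IsAffine V.left := by
    change IsAffine (U'.left.affineCover.X k)
    infer_instance
  have hg : Etale g.left := by
    change Etale (U'.left.affineCover.f k)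
    infer_instance
  obtain ⟨W, s, r, tV, htfo, pbt, hs⟩ := hdata V g
  haveI : IsClosedImmersion tV.left := htfo.1.1
  obtain ⟨α, hα1, hα2⟩ := Groth.Agent.Lib.Helper79.AlgSpFormalAffine.exists_affine hab hV tV htfo.2 s
    ((AlgSp.yon S).map (g ≫ u') ≫ sq.bot) (by
      rw [← Category.assoc, hs, Category.assoc, sq.comm, ← Category.assoc, ← Functor.map_comp,
        pbt.w, Functor.map_comp, Category.assoc])
  refine ⟨V, g ≫ u', α ≫ a, hV, ?_, ⟨z, ?_⟩, ?_, ?_⟩
  · rw [Over.comp_left]
    haveI := hue
    infer_instance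
  · rw [Over.comp_left, Scheme.Hom.comp_apply]
    change u'.left (U'.left.affineCover.f k z) = t
    rw [hz, hu]
  · rw [Category.assoc, hα2]
  · intro V₀ p q hpq
    have hφ1 : pbt.lift p q hpq ≫ r = p := pbt.lift_fst _ _ _
    have hφ2 : pbt.lift p q hpq ≫ tV = q := pbt.lift_snd _ _ _
    rw [← hφ2, Functor.map_comp, Category.assoc, ← Category.assoc ((AlgSp.yon S).map tV), hα1, hs,
      ← Category.assoc, ← Functor.map_comp, hφ1]

end Groth.Agent.S12195
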