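import Groth.Statements.S12205
import Mathlib
import Groth.Agent.Lib.Helper94.TorOne
-- import your own Groth.Agent.* helpers here

set_option autoImplicit false
universe u
open CategoryTheory
open scoped TensorProduct
open CAlg

namespace Groth.Agent.S12205

section aux

open TensorProduct

variable {R : Type u} [CommRing R] (I : Ideal R) {M K F : Type u}
  [AddCommGroup M] [Module R M] [AddCommGroup K] [Module R K] [AddCommGroup F] [Module R F]
  (ι : K →ₗ[R] F) (π : F →ₗ[R] M)

theorem step_ext [Module.Flat R F] {N' N N'' : Type u} [AddCommGroup N'] [Module R N']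
    [AddCommGroup N] [Module R N] [AddCommGroup N''] [Module R N'']
    (f : N' →ₗ[R] N) (g : N →ₗ[R] N'') (hf : Function.Injective f) (hfg : Function.Exact f g)
    (hg : Function.Surjective g)
    (h' : Function.Injective (ι.lTensor N')) (h'' : Function.Injective (ι.lTensor N'')) :
    Function.Injective (ι.lTensor N) := by
  rw [injective_iff_map_eq_zero]
  intro x hx
  have h1 : g.rTensor K x = 0 := by
    apply h''
    rw [map_zero, ← LinearMap.comp_apply, LinearMap.lTensor_comp_rTensor,
      ← LinearMap.rTensor_comp_lTensor, LinearMap.comp_apply, hx, map_zero]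
  obtain ⟨x', rfl⟩ := (rTensor_exact K hfg hg x).mp h1
  have h2 : ι.lTensor N' x' = 0 := by
    apply Module.Flat.rTensor_preserves_injective_linearMap f hf
    rw [map_zero, ← LinearMap.comp_apply, LinearMap.rTensor_comp_lTensor,
      ← LinearMap.lTensor_comp_rTensor, LinearMap.comp_apply, hx]
  have h3 : x' = 0 := h' (by rw [h2, map_zero])
  rw [h3, map_zero]

theorem step_one [Module.Flat R F] (hex : Function.Exact ι π) (hπ : Function.Surjective π)
    [Module.Flat (R ⧸ I) ((R ⧸ I) ⊗[R] M)]
    (hA : Function.Injective (ι.lTensor (R ⧸ I)))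
    {N : Type u} [AddCommGroup N] [Module R N] (hN : ∀ a : R, a ∈ I → ∀ x : N, a • x = 0) :
    Function.Injective (ι.lTensor N) := by
  have hT : Module.IsTorsionBySet R N I := fun x a => hN a a.2 x
  let _ : Module (R ⧸ I) N := hT.module
  have : IsScalarTower R (R ⧸ I) N := hT.isScalarTower
  let ιA : (R ⧸ I) ⊗[R] K →ₗ[R ⧸ I] (R ⧸ I) ⊗[R] F := ι.baseChange (R ⧸ I)
  let πA : (R ⧸ I) ⊗[R] F →ₗ[R ⧸ I] (R ⧸ I) ⊗[R] M := π.baseChange (R ⧸ I)
  have hιA : Function.Injective ιA := hA
  have hexA : Function.Exact ιA πA := lTensor_exact (R ⧸ I) hex hπ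
  have hπA : Function.Surjective πA := LinearMap.lTensor_surjective (R ⧸ I) hπ
  let q := Finsupp.linearCombination (R ⧸ I) (id : N → N)
  have hq : Function.Surjective q := Finsupp.linearCombination_id_surjective (R ⧸ I) N
  have key : Function.Injective (ιA.lTensor N) :=
    lTensor_injective_of_exact_of_exact_of_rTensor_injective (R := R ⧸ I)
      (M₁ := LinearMap.ker q) (M₂ := N →₀ (R ⧸ I)) (M₃ := N)
      (LinearMap.exact_subtype_ker_map q) hq hexA hπA
      (Module.Flat.rTensor_preserves_injective_linearMap _ Subtype.val_injective)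
      (Module.Flat.lTensor_preserves_injective_linearMap ιA hιA)
  let eK := AlgebraTensorModule.cancelBaseChange R (R ⧸ I) (R ⧸ I) N K
  let eF := AlgebraTensorModule.cancelBaseChange R (R ⧸ I) (R ⧸ I) N F
  have hcomm : ∀ y, ι.lTensor N (eK y) = eF (ιA.lTensor N y) := by
    intro y
    induction y using TensorProduct.induction_on with
    | zero => simp
    | tmul n z =>
      induction z using TensorProduct.induction_on with
      | zero => simp
      | tmul a k => simp [eK, eF, ιA]
      | add z w hz hw => simp only [tmul_add, map_add, hz, hw]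
    | add y z hy hz => simp only [map_add, hy, hz]
  rw [injective_iff_map_eq_zero]
  intro x hx
  obtain ⟨y, rfl⟩ := eK.surjective x
  rw [hcomm] at hx
  have h1 : ιA.lTensor N y = 0 := eF.injective (by rw [hx, map_zero])
  have h2 : y = 0 := key (by rw [h1, map_zero])
  rw [h2, map_zero]

theorem step_pow [Module.Flat R F] (hex : Function.Exact ι π) (hπ : Function.Surjective π)
    [Module.Flat (R ⧸ I) ((R ⧸ I) ⊗[R] M)]
    (hA : Function.Injective (ι.lTensor (R ⧸ I))) (m : ℕ) :
    ∀ {N : Type u} [AddCommGroup N] [Module R N],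
      (∀ a : R, a ∈ I ^ m → ∀ x : N, a • x = 0) → Function.Injective (ι.lTensor N) := by
  induction m with
  | zero =>
    intro N _ _ hN
    have : Subsingleton N := by
      refine ⟨fun x y => ?_⟩
      have hx := hN 1 (by simp) x
      have hy := hN 1 (by simp) y
      rw [one_smul] at hx hy
      rw [hx, hy]
    intro x y _
    exact Subsingleton.elim _ _
  | succ m ih =>
    intro N _ _ hN
    let N' : Submodule R N := I • (⊤ : Submodule R N)
    have hN' : ∀ a : R, a ∈ I ^ m → ∀ x : N', a • x = 0 := by
      intro a ha x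
      apply Subtype.ext
      have hx : (x : N) ∈ I • (⊤ : Submodule R N) := x.2
      rw [Submodule.coe_smul, Submodule.coe_zero]
      refine Submodule.smul_induction_on hx ?_ ?_
      · intro b hb y _
        rw [← mul_smul]
        exact hN (a * b) (by rw [pow_succ]; exact Ideal.mul_mem_mul ha hb) y
      · intro y z hy hz
        rw [smul_add, hy, hz, add_zero]
    have hN'' : ∀ a : R, a ∈ I → ∀ x : N ⧸ N', a • x = 0 := by
      intro a ha x
      obtain ⟨y, rfl⟩ := Submodule.Quotient.mk_surjective _ x
      rw [← Submodule.Quotient.mk_smul, Submodule.Quotient.mk_eq_zero]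
      exact Submodule.smul_mem_smul ha Submodule.mem_top
    exact step_ext ι N'.subtype N'.mkQ Subtype.val_injective (LinearMap.exact_subtype_mkQ N')
      (Submodule.mkQ_surjective N') (ih hN') (step_one I ι π hex hπ hA hN'')

end aux

/-- Let I be an ideal of a commutative ring R and M an R-module such that M/IM is flat over R/I and
Tor_1^R(R/I, M) = 0. Then Tor_1^R(N, M) = 0 for every R-module N annihilated by I^m for some m ≥ 0.
Here Tor_1^R(N, M) is the first left derived functor of N ⊗_R − evaluated at M. -/
theorem result (R : Type u) [CommRing R] (I : Ideal R) (M : Type u)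
    [AddCommGroup M] [Module R M] [Module.Flat (R ⧸ I) ((R ⧸ I) ⊗[R] M)]
    (h : Limits.IsZero (((CategoryTheory.Tor (ModuleCat.{u} R) 1).obj (ModuleCat.of R (R ⧸ I))).obj (ModuleCat.of R M)))
    (N : Type u) [AddCommGroup N] [Module R N] (m : ℕ) (hN : ∀ a : R, a ∈ I ^ m → ∀ x : N, a • x = 0) :
    Limits.IsZero (((CategoryTheory.Tor (ModuleCat.{u} R) 1).obj (ModuleCat.of R N)).obj (ModuleCat.of R M)) := by
  let π := Finsupp.linearCombination R (id : M → M)
  have hπ : Function.Surjective π := Finsupp.linearCombination_id_surjective R M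
  let ι := (LinearMap.ker π).subtype
  have hι : Function.Injective ι := Subtype.val_injective
  have hex : Function.Exact ι π := LinearMap.exact_subtype_ker_map π
  rw [Groth.Agent.Lib.Helper94.tor_one_isZero_iff (R ⧸ I) M
    (K := LinearMap.ker π) (F := M →₀ R) ι π hι hex hπ] at h
  have h1 := @step_pow R _ I M (LinearMap.ker π) (M →₀ R) _ _ _ _ _ _ ι π _ hex hπ _ h m N _ _ hN
  rw [Groth.Agent.Lib.Helper94.tor_one_isZero_iff N M
    (K := LinearMap.ker π) (F := M →₀ R) ι π hι hex hπ]
  exact h1

end Groth.Agent.S12205
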