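import Groth.Statements.S12206
import Mathlib

set_option autoImplicit false
universe u
open CAlg

namespace Groth.Agent.S12206

/-- Let φ : N → M be a linear map from a finite R-module N to a coherent R-module M, where coherent
means finitely generated with every finitely generated submodule finitely presented. Then the kernel
of φ is finitely generated, and the image of φ and the cokernel M/φ(N) are coherent. -/
theorem coh_sub (R : Type u) [CommRing R] {M : Type u} [AddCommGroup M] [Module R M]
    (hM : Module.Finite R M ∧ ∀ P : Submodule R M, P.FG → Module.FinitePresentation R P)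
    (Q : Submodule R M) (hQ : Q.FG) :
    Module.Finite R Q ∧ ∀ P : Submodule R Q, P.FG → Module.FinitePresentation R P := by
  refine ⟨Module.Finite.iff_fg.mpr hQ, fun P hP => ?_⟩
  haveI := hM.2 (P.map Q.subtype) (hP.map _)
  exact Module.FinitePresentation.of_equiv
    (Submodule.equivMapOfInjective Q.subtype Q.injective_subtype P).symm

theorem coh_quot (R : Type u) [CommRing R] {M : Type u} [AddCommGroup M] [Module R M]
    (hM : Module.Finite R M ∧ ∀ P : Submodule R M, P.FG → Module.FinitePresentation R P)
    (Q : Submodule R M) (hQ : Q.FG) :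
    Module.Finite R (M ⧸ Q) ∧
      ∀ P : Submodule R (M ⧸ Q), P.FG → Module.FinitePresentation R P := by
  haveI := hM.1
  refine ⟨inferInstance, fun P hP => ?_⟩
  have hQle : Q ≤ P.comap Q.mkQ := by
    intro x hx
    rw [Submodule.mem_comap, Submodule.mkQ_apply, (Submodule.Quotient.mk_eq_zero Q).mpr hx]
    exact P.zero_mem
  have hfg : (P.comap Q.mkQ).FG := by
    apply Submodule.fg_of_fg_map_of_fg_inf_ker Q.mkQ
    · rw [Submodule.map_comap_eq_of_surjective Q.mkQ_surjective]
      exact hP
    · rw [Submodule.ker_mkQ, inf_eq_right.mpr hQle]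
      exact hQ
  haveI := hM.2 _ hfg
  let l : (P.comap Q.mkQ) →ₗ[R] P := Q.mkQ.restrict (fun x hx => hx)
  have hl : Function.Surjective l := by
    rintro ⟨y, hy⟩
    obtain ⟨x, rfl⟩ := Q.mkQ_surjective y
    exact ⟨⟨x, hy⟩, rfl⟩
  have hker : LinearMap.ker l = Submodule.comap (P.comap Q.mkQ).subtype Q := by
    ext x
    rw [LinearMap.mem_ker, Submodule.mem_comap, Submodule.subtype_apply,
      ← Submodule.Quotient.mk_eq_zero Q]
    constructor
    · intro h
      exact congrArg Subtype.val h
    · intro h
      exact Subtype.ext h
  apply Module.finitePresentation_of_surjective l hl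
  rw [hker]
  haveI : Module.Finite R Q := Module.Finite.iff_fg.mpr hQ
  exact Module.Finite.iff_fg.mp (Module.Finite.equiv (Submodule.comapSubtypeEquivOfLe hQle).symm)

theorem result (R : Type u) [CommRing R] {N M : Type u}
    [AddCommGroup N] [Module R N] [AddCommGroup M] [Module R M] [Module.Finite R N]
    (hM : Module.Finite R M ∧ ∀ P : Submodule R M, P.FG → Module.FinitePresentation R P)
    (φ : N →ₗ[R] M) :
    (LinearMap.ker φ).FG ∧
    (Module.Finite R (LinearMap.range φ) ∧
      ∀ P : Submodule R (LinearMap.range φ), P.FG → Module.FinitePresentation R P) ∧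
    (Module.Finite R (M ⧸ LinearMap.range φ) ∧
      ∀ P : Submodule R (M ⧸ LinearMap.range φ), P.FG → Module.FinitePresentation R P) := by
  have hrange : (LinearMap.range φ).FG := by
    rw [LinearMap.range_eq_map]
    exact Module.Finite.fg_top.map φ
  refine ⟨?_, coh_sub R hM _ hrange, coh_quot R hM _ hrange⟩
  haveI := hM.2 _ hrange
  have := Module.FinitePresentation.fg_ker φ.rangeRestrict φ.surjective_rangeRestrict
  rwa [LinearMap.ker_rangeRestrict] at this

end Groth.Agent.S12206
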