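import Groth.Statements.S12208
import Mathlib

set_option autoImplicit false
universe u
open CAlg

namespace Groth.Agent.S12208

section NN
open Polynomial MvPolynomial Ideal Nat RingHom List

variable {k : Type*} [Field k] {n : ℕ} (f : MvPolynomial (Fin (n + 1)) k)
variable (v w : Fin (n + 1) →₀ ℕ)

local notation3 "up" => 2 + f.totalDegree

variable {f v} in
lemma lt_up (vlt : ∀ i, v i < up) : ∀ l ∈ ofFn v, l < up := by
  grind

local notation3 "r" => fun (i : Fin (n + 1)) ↦ up ^ i.1

noncomputable abbrev T1 (c : k) :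
    MvPolynomial (Fin (n + 1)) k →ₐ[k] MvPolynomial (Fin (n + 1)) k :=
  aeval fun i ↦ if i = 0 then X 0 else X i + c • X 0 ^ r i

lemma t1_comp_t1_neg (c : k) : (T1 f c).comp (T1 f (-c)) = AlgHom.id _ _ := by
  rw [comp_aeval, ← MvPolynomial.aeval_X_left]
  ext i v
  cases i using Fin.cases <;> simp

noncomputable abbrev T := AlgEquiv.ofAlgHom (T1 f 1) (T1 f (-1))
  (t1_comp_t1_neg f 1) (by simpa using t1_comp_t1_neg f (-1))

lemma sum_r_mul_ne (vlt : ∀ i, v i < up) (wlt : ∀ i, w i < up) (ne : v ≠ w) :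
    ∑ x : Fin (n + 1), r x * v x ≠ ∑ x : Fin (n + 1), r x * w x := by
  intro h
  refine ne <| Finsupp.ext <| congrFun <| ofFn_inj.mp ?_
  apply ofDigits_inj_of_len_eq (Nat.lt_add_right f.totalDegree one_lt_two)
    (by simp) (lt_up vlt) (lt_up wlt)
  simpa only [ofDigits_eq_sum_mapIdx, mapIdx_eq_ofFn, get_ofFn, length_ofFn,
    Fin.val_cast, mul_comm, sum_ofFn] using! h

lemma degreeOf_zero_t {a : k} (ha : a ≠ 0) : ((T f) (monomial v a)).degreeOf 0 =
    ∑ i : Fin (n + 1), (r i) * v i := by
  rw [← natDegree_finSuccEquiv, monomial_eq, Finsupp.prod_pow v fun a ↦ X a]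
  simp only [Fin.prod_univ_succ, Fin.sum_univ_succ, map_mul, map_prod, map_pow,
    AlgEquiv.ofAlgHom_apply, MvPolynomial.aeval_C, MvPolynomial.aeval_X, if_pos, Fin.succ_ne_zero,
    ite_false, one_smul, map_add, finSuccEquiv_X_zero, finSuccEquiv_X_succ, algebraMap_eq]
  have h (i : Fin n) :
      (Polynomial.C (X (R := k) i) + Polynomial.X ^ r i.succ) ^ v i.succ ≠ 0 :=
    pow_ne_zero (v i.succ) (leadingCoeff_ne_zero.mp <| by simp [add_comm, leadingCoeff_X_pow_add_C])
  rw [natDegree_mul (by simp [ha]) (mul_ne_zero (by simp) (Finset.prod_ne_zero_iff.mpr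
    (fun i _ ↦ h i))), natDegree_mul (by simp) (Finset.prod_ne_zero_iff.mpr (fun i _ ↦ h i)),
    natDegree_prod _ _ (fun i _ ↦ h i), natDegree_finSuccEquiv, degreeOf_C]
  simpa only [natDegree_pow, zero_add, natDegree_X, mul_one, Fin.val_zero, pow_zero, one_mul,
    add_right_inj] using Finset.sum_congr rfl (fun i _ ↦ by
    rw [add_comm (Polynomial.C _), natDegree_X_pow_add_C, mul_comm])

lemma degreeOf_t_ne_of_ne (hv : v ∈ f.support) (hw : w ∈ f.support) (ne : v ≠ w) :
    (T f <| monomial v <| coeff v f).degreeOf 0 ≠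
    (T f <| monomial w <| coeff w f).degreeOf 0 := by
  rw [degreeOf_zero_t _ _ <| mem_support_iff.mp hv, degreeOf_zero_t _ _ <| mem_support_iff.mp hw]
  refine sum_r_mul_ne f v w (fun i ↦ ?_) (fun i ↦ ?_) ne <;>
  exact lt_of_le_of_lt ((monomial_le_degreeOf i ‹_›).trans (degreeOf_le_totalDegree f i))
    (by lia)

lemma leadingCoeff_finSuccEquiv_t :
    (finSuccEquiv k n ((T f) ((monomial v) (coeff v f)))).leadingCoeff =
    algebraMap k _ (coeff v f) := by
  rw [monomial_eq, Finsupp.prod_fintype]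
  · simp only [map_mul, map_prod, leadingCoeff_mul, leadingCoeff_prod]
    rw [AlgEquiv.ofAlgHom_apply, algHom_C, algebraMap_eq, finSuccEquiv_apply,
      eval₂Hom_C, coe_comp]
    simp only [AlgEquiv.ofAlgHom_apply, Function.comp_apply, leadingCoeff_C, map_pow,
      leadingCoeff_pow, algebraMap_eq]
    have : ∀ j, ((finSuccEquiv k n) ((T1 f) 1 (X j))).leadingCoeff = 1 := fun j ↦ by
      by_cases h : j = 0
      · simp [h, finSuccEquiv_apply]
      · simp only [aeval_eq_bind₁, bind₁_X_right, if_neg h, one_smul, map_add, map_pow]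
        obtain ⟨i, rfl⟩ := Fin.exists_succ_eq.mpr h
        simp [finSuccEquiv_X_succ, finSuccEquiv_X_zero, add_comm]
    simp only [this, one_pow, Finset.prod_const_one, mul_one]
  exact fun i ↦ pow_zero _

lemma T_leadingcoeff_isUnit (fne : f ≠ 0) :
    IsUnit (finSuccEquiv k n (T f f)).leadingCoeff := by
  obtain ⟨v, vin, vs⟩ := Finset.exists_max_image f.support
    (fun v ↦ (T f ((monomial v) (coeff v f))).degreeOf 0) (support_nonempty.mpr fne)
  set h := fun w ↦ (MvPolynomial.monomial w) (coeff w f)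
  simp only [← natDegree_finSuccEquiv] at vs
  replace vs : ∀ x ∈ f.support \ {v}, (finSuccEquiv k n ((T f) (h x))).degree <
      (finSuccEquiv k n ((T f) (h v))).degree := by
    intro x hx
    obtain ⟨h1, h2⟩ := Finset.mem_sdiff.mp hx
    apply degree_lt_degree <| lt_of_le_of_ne (vs x h1) ?_
    simpa only [natDegree_finSuccEquiv]
      using degreeOf_t_ne_of_ne f _ _ h1 vin <| ne_of_not_mem_cons h2
  have coeff : (finSuccEquiv k n ((T f) (h v + ∑ x ∈ f.support \ {v}, h x))).leadingCoeff =
      (finSuccEquiv k n ((T f) (h v))).leadingCoeff := by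
    simp only [map_add, map_sum]
    rw [add_comm]
    apply leadingCoeff_add_of_degree_lt <| (lt_of_le_of_lt <| degree_sum_le _ _) ?_
    have h2 : h v ≠ 0 := by simpa [h] using mem_support_iff.mp vin
    replace h2 : (finSuccEquiv k n ((T f) (h v))) ≠ 0 := fun eq ↦ h2 <|
      by simpa only [map_eq_zero_iff _ (AlgEquiv.injective _)] using eq
    exact (Finset.sup_lt_iff <| Ne.bot_lt (fun x ↦ h2 <| degree_eq_bot.mp x)).mpr vs
  nth_rw 2 [← f.support_sum_monomial_coeff]
  rw [Finset.sum_eq_add_sum_sdiff_singleton_of_mem vin h]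
  rw [leadingCoeff_finSuccEquiv_t] at coeff
  simpa only [coeff, algebraMap_eq] using (mem_support_iff.mp vin).isUnit.map MvPolynomial.C

variable (I : Ideal (MvPolynomial (Fin (n + 1)) k))

noncomputable abbrev hom1 : MvPolynomial (Fin n) k →ₐ[MvPolynomial (Fin n) k]
    (MvPolynomial (Fin n) k)[X] ⧸ (I.map <| T f).map (finSuccEquiv k n) :=
  (Quotient.mkₐ (MvPolynomial (Fin n) k) (map (finSuccEquiv k n) (map (T f) I))).comp
  (Algebra.ofId (MvPolynomial (Fin n) k) ((MvPolynomial (Fin n) k)[X]))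

lemma hom1_isIntegral (fne : f ≠ 0) (fi : f ∈ I) : (hom1 f I).IsIntegral := by
  obtain u := T_leadingcoeff_isUnit f fne
  exact (monic_of_isUnit_leadingCoeff_inv_smul u).quotient_isIntegral <|
    Submodule.smul_of_tower_mem _ u.unit⁻¹.val <| mem_map_of_mem _ <| mem_map_of_mem _ fi

noncomputable abbrev eqv1 :
    ((MvPolynomial (Fin n) k)[X] ⧸ (I.map (T f)).map (finSuccEquiv k n)) ≃ₐ[k]
    MvPolynomial (Fin (n + 1)) k ⧸ I.map (T f) := quotientEquivAlg
  ((I.map (T f)).map (finSuccEquiv k n)) (I.map (T f)) (finSuccEquiv k n).symm <| by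
  set g := (finSuccEquiv k n)
  have : g.symm.toRingEquiv.toRingHom.comp g = RingHom.id _ :=
    g.toRingEquiv.symm_toRingHom_comp_toRingHom
  calc
    _ = Ideal.map ((RingHom.id _).comp <| T f) I := by rw [id_comp, Ideal.map_coe]
    _ = (I.map (T f)).map (RingHom.id _) := by simp only [← Ideal.map_map, Ideal.map_coe]
    _ = (I.map (T f)).map (g.symm.toAlgHom.toRingHom.comp g) :=
      congrFun (congrArg Ideal.map this.symm) (I.map (T f))
    _ = _ := by simp [← Ideal.map_map, Ideal.map_coe]

noncomputable abbrev eqv2 :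
    (MvPolynomial (Fin (n + 1)) k ⧸ I.map (T f)) ≃ₐ[k] MvPolynomial (Fin (n + 1)) k ⧸ I :=
  quotientEquivAlg (R₁ := k) (I.map (T f)) I (T f).symm <| by
  calc
    _ = I.map ((T f).symm.toRingEquiv.toRingHom.comp (T f)) := by
      have : (T f).symm.toRingEquiv.toRingHom.comp (T f) = RingHom.id _ :=
        RingEquiv.symm_toRingHom_comp_toRingHom _
      rw [this, Ideal.map_id]
    _ = _ := by
      rw [← Ideal.map_map, Ideal.map_coe, Ideal.map_coe]
      exact congrArg _ rfl

noncomputable def hom2 : MvPolynomial (Fin n) k →ₐ[k] MvPolynomial (Fin (n + 1)) k ⧸ I :=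
  (eqv2 f I).toAlgHom.comp ((eqv1 f I).toAlgHom.comp ((hom1 f I).restrictScalars k))

set_option maxSynthPendingDepth 3 in
lemma hom2_isIntegral (fne : f ≠ 0) (fi : f ∈ I) : (hom2 f I).IsIntegral :=
  ((hom1_isIntegral f I fne fi).trans _ _ <| isIntegral_of_surjective _ (eqv1 f I).surjective).trans
    _ _ <| isIntegral_of_surjective _ (eqv2 f I).surjective

noncomputable def zz : Fin n → MvPolynomial (Fin (n + 1)) k :=
  fun j => X j.succ + (-1 : k) • X 0 ^ r j.succ

lemma hom2_eq : hom2 f I = (Quotient.mkₐ k I).comp (aeval (zz f)) := by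
  apply MvPolynomial.algHom_ext
  intro j
  have h1 : (finSuccEquiv k n).symm (Polynomial.C (X j)) = X j.succ := by
    rw [AlgEquiv.symm_apply_eq, finSuccEquiv_X_succ]
  have h2 : (T f).symm (X j.succ) = zz f j := by
    change (T1 f (-1)) (X j.succ) = _
    simp [zz, Fin.succ_ne_zero]
  change (eqv2 f I) ((eqv1 f I) ((hom1 f I) (X j))) = _
  change (eqv2 f I) ((eqv1 f I) (Ideal.Quotient.mk _ (Polynomial.C (X j)))) = _
  rw [quotientEquivAlg_mk, h1, quotientEquivAlg_mk, h2]
  simp

end NN

section Main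
open MvPolynomial Ideal RingHom

variable {k : Type*} [Field k]

lemma aeval_mem_range {d m : ℕ} (z : Fin d → MvPolynomial (Fin m) k)
    (hz : ∀ j, z j ∈ Set.range (MvPolynomial.map (Int.castRingHom k) :
      MvPolynomial (Fin m) ℤ → MvPolynomial (Fin m) k))
    (p : MvPolynomial (Fin d) k)
    (hp : p ∈ Set.range (MvPolynomial.map (Int.castRingHom k) :
      MvPolynomial (Fin d) ℤ → MvPolynomial (Fin d) k)) :
    aeval z p ∈ Set.range (MvPolynomial.map (Int.castRingHom k) :
      MvPolynomial (Fin m) ℤ → MvPolynomial (Fin m) k) := by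
  choose zi hzi using hz
  obtain ⟨q, rfl⟩ := hp
  refine ⟨bind₁ zi q, ?_⟩
  rw [map_bind₁, aeval_eq_bind₁]
  have : (fun i => (MvPolynomial.map (Int.castRingHom k)) (zi i)) = z := funext hzi
  rw [this]

lemma zz_mem {n : ℕ} (f : MvPolynomial (Fin (n + 1)) k) (j : Fin n) :
    zz f j ∈ Set.range (MvPolynomial.map (Int.castRingHom k) :
      MvPolynomial (Fin (n + 1)) ℤ → MvPolynomial (Fin (n + 1)) k) := by
  refine ⟨X j.succ - X 0 ^ ((2 + f.totalDegree) ^ (j.succ : ℕ)), ?_⟩
  simp [zz, sub_eq_add_neg]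

theorem key (n : ℕ) (I : Ideal (MvPolynomial (Fin n) k)) (hi : I ≠ ⊤) :
    ∃ (s : ℕ) (y : Fin s → MvPolynomial (Fin n) k),
      (∀ i, y i ∈ Set.range (MvPolynomial.map (Int.castRingHom k) :
        MvPolynomial (Fin n) ℤ → MvPolynomial (Fin n) k)) ∧
      Function.Injective ((Ideal.Quotient.mkₐ k I).comp (MvPolynomial.aeval y)) ∧
      ((Ideal.Quotient.mkₐ k I).comp (MvPolynomial.aeval y)).IsIntegral := by
  induction n with
  | zero =>
    have hid : (aeval (fun i : Fin 0 => (i.elim0 : MvPolynomial (Fin 0) k))) = AlgHom.id k _ := by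
      apply MvPolynomial.algHom_ext
      intro i
      exact i.elim0
    refine ⟨0, fun i => i.elim0, fun i => i.elim0, ?_, ?_⟩
    · rw [hid, AlgHom.comp_id]
      intro a b hab
      rw [Quotient.mkₐ_eq_mk, Ideal.Quotient.eq] at hab
      by_contra ne
      have eq := eq_C_of_isEmpty (a - b)
      have ne : coeff 0 (a - b) ≠ 0 := fun h ↦ h ▸ eq ▸ sub_ne_zero_of_ne ne <| map_zero _
      obtain ⟨c, _, eqr⟩ := isUnit_iff_exists.mp ne.isUnit
      have one : c • (a - b) = 1 := by
        rw [MvPolynomial.smul_eq_C_mul, eq, ← map_mul, eqr, MvPolynomial.C_1]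
      exact hi ((eq_top_iff_one I).mpr (one ▸ I.smul_of_tower_mem c hab))
    · rw [hid, AlgHom.comp_id]
      exact isIntegral_of_surjective _ (Quotient.mkₐ_surjective k I)
  | succ d hd =>
    by_cases eqi : I = 0
    · have bij : Function.Bijective (Quotient.mkₐ k I) :=
        (Quotient.mk_bijective_iff_eq_bot I).mpr eqi
      refine ⟨d + 1, X, fun i => ⟨X i, by simp⟩, ?_, ?_⟩
      · rw [aeval_X_left, AlgHom.comp_id]
        exact bij.1
      · rw [aeval_X_left, AlgHom.comp_id]
        exact isIntegral_of_surjective _ bij.2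
    · obtain ⟨f, fi, fne⟩ := Submodule.exists_mem_ne_zero_of_ne_bot eqi
      have := Quotient.nontrivial_iff.mpr hi
      obtain ⟨s, y', hy', injg, intg⟩ := hd (ker <| hom2 f I) (ker_ne_top <| hom2 f I)
      have comp : (kerLiftAlg (hom2 f I)).comp (Quotient.mkₐ k <| ker <| hom2 f I) = (hom2 f I) :=
        AlgHom.ext fun a ↦ by
          simp only [AlgHom.coe_comp, Quotient.mkₐ_eq_mk, Function.comp_apply, kerLiftAlg_mk]
      have hkey : (Quotient.mkₐ k I).comp (aeval fun i => aeval (zz f) (y' i)) =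
          (kerLiftAlg (hom2 f I)).comp ((Quotient.mkₐ k (ker <| hom2 f I)).comp (aeval y')) := by
        rw [← AlgHom.comp_assoc, comp, hom2_eq]
        apply MvPolynomial.algHom_ext
        intro i
        simp
      refine ⟨s, fun i => aeval (zz f) (y' i),
        fun i => aeval_mem_range _ (zz_mem f) _ (hy' i), ?_, ?_⟩
      · rw [hkey, AlgHom.coe_comp]
        exact (kerLiftAlg_injective _).comp injg
      · rw [hkey]
        exact intg.trans _ _ <| (comp ▸ hom2_isIntegral f I fne fi).tower_top _ _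

lemma dim_eq_of_integral {R S : Type*} [CommRing R] [CommRing S] (g : R →+* S)
    (hinj : Function.Injective g) (hint : g.IsIntegral) : ringKrullDim R = ringKrullDim S := by
  letI := g.toAlgebra
  haveI : Algebra.IsIntegral R S := ⟨hint⟩
  haveI : FaithfulSMul R S := (faithfulSMul_iff_algebraMap_injective R S).mpr hinj
  apply le_antisymm
  · refine iSup_le fun l => ?_
    obtain ⟨⟨P, hP1, hP2⟩⟩ := Ideal.nonempty_primesOver (S := S) (RelSeries.head l).asIdeal
    obtain ⟨L, hL, -, -⟩ := Ideal.exists_ltSeries_of_hasGoingUp l P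
    rw [← hL]
    exact Order.LTSeries.length_le_krullDim L
  · refine Order.krullDim_le_of_strictMono (PrimeSpectrum.comap (algebraMap R S)) ?_
    intro p q hpq
    rw [← PrimeSpectrum.asIdeal_lt_asIdeal] at hpq ⊢
    exact Ideal.IsIntegral.comap_lt_comap hpq

end Main

/-- Let k be a field and S = k[x_1, …, x_n]/I with I a proper ideal. Then there exist r ≥ 0 and elements
y_1, …, y_r of k[x_1, …, x_n] lying in the subring generated by x_1, …, x_n (polynomials with
integer coefficients) such that the k-algebra map from the polynomial ring k[t_1, …, t_r] to S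
sending t_i to the class of y_i is injective and finite; and for any r ≥ 0 and any y_1, …, y_r in
k[x_1, …, x_n] (with or without the integer-coefficient condition) for which that map is injective
and finite, r is the Krull dimension of S. -/
theorem result (k : Type u) [Field k] (n : ℕ) (I : Ideal (MvPolynomial (Fin n) k))
    (hI : I ≠ ⊤) :
    (∃ (r : ℕ) (y : Fin r → MvPolynomial (Fin n) k),
      (∀ i, y i ∈ Set.range (MvPolynomial.map (Int.castRingHom k) : MvPolynomial (Fin n) ℤ → MvPolynomial (Fin n) k)) ∧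
      Function.Injective ((Ideal.Quotient.mkₐ k I).comp (MvPolynomial.aeval y)) ∧
      ((Ideal.Quotient.mkₐ k I).comp (MvPolynomial.aeval y)).toRingHom.Finite) ∧
    ∀ (r : ℕ) (y : Fin r → MvPolynomial (Fin n) k),
      Function.Injective ((Ideal.Quotient.mkₐ k I).comp (MvPolynomial.aeval y)) →
      ((Ideal.Quotient.mkₐ k I).comp (MvPolynomial.aeval y)).toRingHom.Finite →
      ringKrullDim (MvPolynomial (Fin n) k ⧸ I) = r := by
  refine ⟨?_, ?_⟩
  · obtain ⟨s, y, hy, hinj, hint⟩ := key n I hI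
    refine ⟨s, y, hy, hinj, ?_⟩
    have h : algebraMap k (MvPolynomial (Fin n) k ⧸ I) =
        ((Ideal.Quotient.mkₐ k I).comp (MvPolynomial.aeval y)).toRingHom.comp
          (algebraMap k (MvPolynomial (Fin s) k)) := by
      ext c
      simp
      rfl
    have hft : (algebraMap k (MvPolynomial (Fin n) k ⧸ I)).FiniteType :=
      RingHom.finiteType_algebraMap.mpr inferInstance
    exact RingHom.IsIntegral.to_finite hint (h ▸ hft).of_comp_finiteType
  · intro r y hinj hfin
    have hint : ((Ideal.Quotient.mkₐ k I).comp (MvPolynomial.aeval y)).toRingHom.IsIntegral :=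
      hfin.to_isIntegral
    have h1 := dim_eq_of_integral _ hinj hint
    rw [← h1, MvPolynomial.ringKrullDim_of_isNoetherianRing, ringKrullDim_eq_zero_of_field]
    simp

end Groth.Agent.S12208
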