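import Groth.Statements.S12209
import Mathlib

set_option autoImplicit false
universe u
open CAlg

namespace Groth.Agent.S12209

/-- Let (R_i) be a system of commutative rings over a nonempty directed preorder, with colimit R, and
let M be an R-module which is flat as an R_i-module for every i (the R_i-module structure being
restriction of scalars along R_i → R). Then M is flat as an R-module. -/
theorem result {ι : Type u} [Preorder ι] [Nonempty ι] [IsDirectedOrder ι]
    (G : ι → Type u) [∀ i, CommRing (G i)] (f : ∀ i j, i ≤ j → G i →+* G j)
    [DirectedSystem G fun i j h => f i j h]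
    (M : Type u) [AddCommGroup M] [Module (Ring.DirectLimit G fun i j h => f i j h) M]
    (hflat : ∀ i, letI : Module (G i) M := Module.compHom M (Ring.DirectLimit.of G (fun i j h => f i j h) i);
      Module.Flat (G i) M) :
    Module.Flat (Ring.DirectLimit G fun i j h => f i j h) M := by
  classical
  apply Module.Flat.of_forall_isTrivialRelation
  intro l F x hsum
  have hex : ∀ k : Fin l, ∃ (i : ι) (y : G i),
      Ring.DirectLimit.of G (fun i j h => f i j h) i y = F k :=
    fun k => Ring.DirectLimit.exists_of (F k)
  choose idx y hy using hex
  obtain ⟨i, hi⟩ := Finite.exists_le idx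
  have hy' : ∀ k, Ring.DirectLimit.of G (fun i j h => f i j h) i (f (idx k) i (hi k) (y k)) = F k := by
    intro k
    rw [← hy k]
    exact Ring.DirectLimit.of_f (G := G) (f := fun i j h => f i j h) (hi k) (y k)
  letI inst : Module (G i) M :=
    Module.compHom M (Ring.DirectLimit.of G (fun i j h => f i j h) i)
  have hfl : Module.Flat (G i) M := hflat i
  have hsum' : ∑ k, (f (idx k) i (hi k) (y k)) • x k = 0 := by
    rw [← hsum]
    apply Finset.sum_congr rfl
    intro k _
    show (Ring.DirectLimit.of G (fun i j h => f i j h) i (f (idx k) i (hi k) (y k))) • x k =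
      F k • x k
    rw [hy']
  obtain ⟨k', a, z, hz1, hz2⟩ := Module.Flat.iff_forall_isTrivialRelation.mp hfl hsum'
  refine ⟨k', fun p q => Ring.DirectLimit.of G (fun i j h => f i j h) i (a p q), z, ?_, ?_⟩
  · intro p
    rw [hz1 p]
    rfl
  · intro q
    have := congrArg (Ring.DirectLimit.of G (fun i j h => f i j h) i) (hz2 q)
    rw [map_sum, map_zero] at this
    rw [← this]
    apply Finset.sum_congr rfl
    intro p _
    rw [map_mul, hy']

end Groth.Agent.S12209
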