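import Groth.Statements.S12216
import Groth.Agent.Lib.Helper1.CSAIdeal
import Mathlib.RingTheory.SimpleModule.IsAlgClosed
import Mathlib.RingTheory.SimpleRing.Matrix
import Mathlib.RingTheory.SimpleRing.Congr
import Mathlib.Algebra.Central.Matrix
import Mathlib.LinearAlgebra.Dual.Lemmas
import Mathlib.RingTheory.TensorProduct.Free

set_option autoImplicit false
universe u v w
open scoped TensorProduct
open Curves

namespace Groth.Agent.S12216

section

variable {K : Type u} [Field K] {A : Type v} [Ring A] [Algebra K A] {L : Type w} [Field L]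
  [Algebra K L]

noncomputable def Phi (f : A →ₗ[K] K) : L ⊗[K] A →ₗ[K] L :=
  (TensorProduct.rid K L).toLinearMap ∘ₗ LinearMap.lTensor L f

theorem Phi_tmul (f : A →ₗ[K] K) (l : L) (a : A) : Phi f (l ⊗ₜ[K] a) = f a • l := by
  simp [Phi]

theorem Phi_mul_mul (f : A →ₗ[K] K) (I : TwoSidedIdeal A) (hf : ∀ a ∈ I, f a = 0) (a : A)
    (ha : a ∈ I) (u v : L ⊗[K] A) : Phi f (u * ((1 : L) ⊗ₜ[K] a) * v) = 0 := by
  induction u using TensorProduct.induction_on with
  | zero => rw [zero_mul, zero_mul, map_zero]
  | add x y hx hy => rw [add_mul, add_mul, map_add, hx, hy, add_zero]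
  | tmul l b =>
    induction v using TensorProduct.induction_on with
    | zero => rw [mul_zero, map_zero]
    | add x y hx hy => rw [mul_add, map_add, hx, hy, add_zero]
    | tmul m c =>
      rw [Algebra.TensorProduct.tmul_mul_tmul, Algebra.TensorProduct.tmul_mul_tmul, Phi_tmul,
        hf _ (I.mul_mem_right _ _ (I.mul_mem_left _ _ ha)), zero_smul]

theorem Phi_span_eq_zero (f : A →ₗ[K] K) (I : TwoSidedIdeal A) (hf : ∀ a ∈ I, f a = 0)
    (y : L ⊗[K] A)
    (hy : y ∈ TwoSidedIdeal.span ((fun a : A => ((1 : L) ⊗ₜ[K] a : L ⊗[K] A)) '' (I : Set A))) :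
    Phi f y = 0 := by
  let 𝔨 : TwoSidedIdeal (L ⊗[K] A) := TwoSidedIdeal.mk'
    {y | ∀ u v : L ⊗[K] A, Phi f (u * y * v) = 0}
    (fun u v => by rw [mul_zero, zero_mul, map_zero])
    (fun {x y} hx hy u v => by rw [mul_add, add_mul, map_add, hx u v, hy u v, add_zero])
    (fun {x} hx u v => by rw [mul_neg, neg_mul, map_neg, hx u v, neg_zero])
    (fun {x y} hy u v => by rw [← mul_assoc]; exact hy (u * x) v)
    (fun {x y} hx u v => by rw [← mul_assoc, mul_assoc]; exact hx u (y * v))
  have hle : TwoSidedIdeal.span ((fun a : A => ((1 : L) ⊗ₜ[K] a : L ⊗[K] A)) '' (I : Set A)) ≤ 𝔨 := by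
    rw [TwoSidedIdeal.span_le]
    rintro _ ⟨a, ha, rfl⟩
    rw [SetLike.mem_coe, TwoSidedIdeal.mem_mk']
    exact fun u v => Phi_mul_mul f I hf a ha u v
  have h1 := hle hy
  rw [TwoSidedIdeal.mem_mk'] at h1
  have := h1 1 1
  rwa [one_mul, mul_one] at this

end

theorem isCentral_of_algEquiv' {F : Type*} {D : Type*} {D' : Type*} [CommSemiring F] [Semiring D]
    [Semiring D'] [Algebra F D] [Algebra F D'] [Algebra.IsCentral F D] (e : D ≃ₐ[F] D') :
    Algebra.IsCentral F D' := by
  constructor
  intro z hz
  have hz' : e.symm z ∈ Subalgebra.center F D := by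
    rw [Subalgebra.mem_center_iff] at hz ⊢
    intro b
    apply e.injective
    rw [map_mul, map_mul, AlgEquiv.apply_symm_apply]
    exact hz (e b)
  obtain ⟨l, hl⟩ := Algebra.mem_bot.1 (Algebra.IsCentral.out hz')
  rw [Algebra.mem_bot]
  refine ⟨l, ?_⟩
  rw [← e.commutes l, hl, AlgEquiv.apply_symm_apply]


theorem csa_of_splits (K : Type u) [Field K] (A : Type v) [Ring A] [Algebra K A]
    (L : Type w) [Field L] [Algebra K L] (h : Curves.Splits K A L) :
    Algebra.IsCentral K A ∧ IsSimpleRing A ∧ FiniteDimensional K A := by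
  classical
  obtain ⟨n, hn, ⟨e⟩⟩ := h
  haveI : NeZero n := ⟨hn⟩
  haveI : Nonempty (Fin n) := ⟨⟨0, Nat.pos_of_ne_zero hn⟩⟩
  haveI hcL : Algebra.IsCentral (L) (L ⊗[K] A) :=
    isCentral_of_algEquiv' e.symm
  haveI hsL : IsSimpleRing (L ⊗[K] A) :=
    IsSimpleRing.of_ringEquiv e.symm.toRingEquiv inferInstance
  haveI hfL : Module.Finite (L) (L ⊗[K] A) :=
    Module.Finite.equiv e.symm.toLinearEquiv
  have hnt : Nontrivial A := by
    by_contra h
    rw [not_nontrivial_iff_subsingleton] at h
    have h10 : (1 : L ⊗[K] A) = 0 := by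
      rw [Algebra.TensorProduct.one_def, Subsingleton.elim (1 : A) 0, TensorProduct.tmul_zero]
    exact one_ne_zero h10
  have hcen : Algebra.IsCentral K A := by
    constructor
    intro z hz
    by_contra hzb
    have hz' : z ∉ Subalgebra.toSubmodule (⊥ : Subalgebra K A) := hzb
    obtain ⟨f, hfz, hfp⟩ := Submodule.exists_dual_map_eq_bot_of_notMem hz' inferInstance
    have hf1 : f 1 = 0 := by
      have : f 1 ∈ (Subalgebra.toSubmodule (⊥ : Subalgebra K A)).map f :=
        Submodule.mem_map_of_mem (Subalgebra.one_mem _)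
      rwa [hfp, Submodule.mem_bot] at this
    have hcz : (1 : L) ⊗ₜ[K] z ∈
        Subalgebra.center (L) (L ⊗[K] A) := by
      rw [Subalgebra.mem_center_iff]
      intro b
      induction b using TensorProduct.induction_on with
      | zero => rw [zero_mul, mul_zero]
      | add x y hx hy => rw [add_mul, mul_add, hx, hy]
      | tmul l a =>
        rw [Algebra.TensorProduct.tmul_mul_tmul, Algebra.TensorProduct.tmul_mul_tmul, mul_one,
          one_mul, (Subalgebra.mem_center_iff.1 hz a)]
    have := hcL.out hcz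
    obtain ⟨l, hl⟩ := Algebra.mem_bot.1 this
    have h1 := congrArg (Phi f) hl
    rw [Algebra.TensorProduct.algebraMap_apply, Phi_tmul, Phi_tmul, hf1, zero_smul] at h1
    have : f z = 0 := by
      by_contra hne
      have := h1.symm
      rw [smul_eq_zero] at this
      rcases this with h | h
      · exact hne h
      · exact one_ne_zero h
    exact hfz this
  have hsim : IsSimpleRing A := by
    apply IsSimpleRing.of_eq_bot_or_eq_top
    intro I
    by_contra hI
    rw [not_or] at hI
    obtain ⟨hIb, hIt⟩ := hI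
    rcases eq_bot_or_eq_top (TwoSidedIdeal.span
      ((fun a : A => ((1 : L) ⊗ₜ[K] a : L ⊗[K] A)) ''
        (I : Set A))) with h | h
    · obtain ⟨x, hxI, hx0⟩ : ∃ x ∈ I, x ≠ 0 := by
        by_contra hcon
        simp only [not_exists, not_and, not_not] at hcon
        apply hIb
        rw [eq_bot_iff]
        intro x hx
        rw [hcon x hx]
        exact TwoSidedIdeal.zero_mem _
      have hmem : (1 : L) ⊗ₜ[K] x ∈ TwoSidedIdeal.span
          ((fun a : A => ((1 : L) ⊗ₜ[K] a : L ⊗[K] A)) ''
            (I : Set A)) := TwoSidedIdeal.subset_span ⟨x, hxI, rfl⟩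
      rw [h, TwoSidedIdeal.mem_bot] at hmem
      obtain ⟨f, hfx, -⟩ := Submodule.exists_dual_map_eq_bot_of_notMem
        (p := (⊥ : Submodule K A)) (x := x) (by simpa using hx0) inferInstance
      have := congrArg (Phi f) hmem
      rw [Phi_tmul, map_zero, smul_eq_zero] at this
      rcases this with h' | h'
      · exact hfx h'
      · exact one_ne_zero h'
    · have h1I : (1 : A) ∉ I := fun h1 => hIt (by
        rw [eq_top_iff]
        intro y _
        have := I.mul_mem_left y 1 h1
        rwa [mul_one] at this)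
      let p : Submodule K A :=
        { carrier := {a | a ∈ I}
          add_mem' := fun ha hb => I.add_mem ha hb
          zero_mem' := I.zero_mem
          smul_mem' := fun c a ha => by
            change c • a ∈ I
            rw [Algebra.smul_def]; exact I.mul_mem_left _ _ ha }
      obtain ⟨f, hf1, hfp⟩ := Submodule.exists_dual_map_eq_bot_of_notMem
        (p := p) (x := 1) h1I inferInstance
      have hfI : ∀ a ∈ I, f a = 0 := fun a ha => by
        have : f a ∈ p.map f := Submodule.mem_map_of_mem ha
        rwa [hfp, Submodule.mem_bot] at this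
      have hmem : (1 : L ⊗[K] A) ∈ TwoSidedIdeal.span
          ((fun a : A => ((1 : L) ⊗ₜ[K] a : L ⊗[K] A)) ''
            (I : Set A)) := by rw [h]; trivial
      have := Phi_span_eq_zero f I hfI 1 hmem
      rw [Algebra.TensorProduct.one_def, Phi_tmul, smul_eq_zero] at this
      rcases this with h' | h'
      · exact hf1 h'
      · exact one_ne_zero h'
  have hfd : FiniteDimensional K A := by
    haveI : Finite (Module.Free.ChooseBasisIndex K A) :=
      Module.Finite.finite_basis
        (Algebra.TensorProduct.basis (L) (Module.Free.chooseBasis K A))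
    exact Module.Finite.of_basis (Module.Free.chooseBasis K A)
  exact ⟨hcen, hsim, hfd⟩


/-- (1) ⇔ (3): a K-algebra A is finite central simple over the field K (finite-dimensional, with centre
K and no non-trivial two-sided ideals) if and only if, for an algebraic closure K̄ of K, the
K̄-algebra K̄ ⊗_K A is isomorphic to a matrix algebra Mat(d × d, K̄) for some d ≥ 1. -/
theorem result (K : Type u) [Field K] (A : Type v) [Ring A] [Algebra K A] :
    (Algebra.IsCentral K A ∧ IsSimpleRing A ∧ FiniteDimensional K A) ↔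
      Curves.Splits K A (AlgebraicClosure K) := by
  classical
  constructor
  · rintro ⟨hc, hs, hf⟩
    haveI : IsSimpleRing (AlgebraicClosure K ⊗[K] A) :=
      Groth.Agent.Lib.Helper1.CSA.isSimpleRing_tensor K (AlgebraicClosure K) A
    haveI : FiniteDimensional (AlgebraicClosure K) (AlgebraicClosure K ⊗[K] A) := inferInstance
    obtain ⟨n, hn, ⟨e⟩⟩ := IsSimpleRing.exists_algEquiv_matrix_of_isAlgClosed
      (AlgebraicClosure K) (AlgebraicClosure K ⊗[K] A)
    exact ⟨n, NeZero.ne n, ⟨e⟩⟩
  · exact csa_of_splits K A (AlgebraicClosure K)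

end Groth.Agent.S12216
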