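import Mathlib
import Groth.Statements.S12222
import Groth.Agent.Lib.Helper9.HenselRank1

set_option autoImplicit false
universe u
open Hensel

namespace Groth.Agent.S12222

open Polynomial IsLocalRing Groth.Agent.Lib.Helper9 Groth.Agent.Lib.Helper9.HenselRank1

theorem mem_pointIdeal_iff {R : Type u} [CommRing R] [IsLocalRing R] (F : R[X]) (a₀ : R)
    (h₁ : F.eval a₀ ∈ maximalIdeal R) (p : R[X]) :
    AdjoinRoot.mk F p ∈ pointIdeal F a₀ h₁ ↔ p.eval a₀ ∈ maximalIdeal R := by
  rw [pointIdeal, RingHom.mem_ker, pointHom, AdjoinRoot.lift_mk, eval₂_at_apply,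
    residue_eq_zero_iff]

theorem mk_sub_of_eval_mem {R : Type u} [CommRing R] (F : R[X]) (a₀ : R) (p : R[X]) :
    AdjoinRoot.mk F p - AdjoinRoot.of F (p.eval a₀) ∈
      Ideal.span {AdjoinRoot.root F - AdjoinRoot.of F a₀} := by
  have h1 : AdjoinRoot.mk F p = (p.map (AdjoinRoot.of F)).eval (AdjoinRoot.root F) := by
    rw [eval_map, ← AdjoinRoot.algebraMap_eq, ← aeval_def, AdjoinRoot.aeval_eq]
  have h2 : AdjoinRoot.of F (p.eval a₀) = (p.map (AdjoinRoot.of F)).eval (AdjoinRoot.of F a₀) := by
    rw [eval_map, eval₂_at_apply]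
  rw [h1, h2, Ideal.mem_span_singleton]
  exact Polynomial.sub_dvd_eval_sub _ _ _

theorem eq_pointIdeal {R : Type u} [CommRing R] [IsLocalRing R] (F : R[X]) (a₀ : R)
    (h₁ : F.eval a₀ ∈ maximalIdeal R) (Q : Ideal (AdjoinRoot F)) [Q.IsPrime]
    [hQ : Q.LiesOver (maximalIdeal R)]
    (hg : AdjoinRoot.mk F (F /ₘ (X - C a₀)) ∉ Q) : Q = pointIdeal F a₀ h₁ := by
  have hmem : ∀ r : R, r ∈ maximalIdeal R → AdjoinRoot.of F r ∈ Q := by
    intro r hr
    have : r ∈ Q.under R := by rw [← hQ.over]; exact hr
    exact this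
  have hFG : F = (X - C a₀) * (F /ₘ (X - C a₀)) + C (F.eval a₀) := by
    calc F = F %ₘ (X - C a₀) + (X - C a₀) * (F /ₘ (X - C a₀)) :=
          (modByMonic_add_div F (X - C a₀)).symm
      _ = _ := by rw [modByMonic_X_sub_C_eq_C_eval]; ring
  have h0 : (AdjoinRoot.root F - AdjoinRoot.of F a₀) * AdjoinRoot.mk F (F /ₘ (X - C a₀)) +
      AdjoinRoot.of F (F.eval a₀) = 0 := by
    have : AdjoinRoot.mk F ((X - C a₀) * (F /ₘ (X - C a₀)) + C (F.eval a₀)) = 0 := by
      rw [← hFG]; exact AdjoinRoot.mk_self
    simpa [AdjoinRoot.mk_X, AdjoinRoot.mk_C] using this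
  have hroot : AdjoinRoot.root F - AdjoinRoot.of F a₀ ∈ Q := by
    have h1 : (AdjoinRoot.root F - AdjoinRoot.of F a₀) * AdjoinRoot.mk F (F /ₘ (X - C a₀)) ∈ Q := by
      have : (AdjoinRoot.root F - AdjoinRoot.of F a₀) * AdjoinRoot.mk F (F /ₘ (X - C a₀)) =
          - AdjoinRoot.of F (F.eval a₀) := by linear_combination h0
      rw [this]
      exact Q.neg_mem (hmem _ h₁)
    exact (Ideal.IsPrime.mem_or_mem inferInstance h1).resolve_right hg
  have hle : pointIdeal F a₀ h₁ ≤ Q := by
    intro b hb
    obtain ⟨p, rfl⟩ := AdjoinRoot.mk_surjective b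
    rw [mem_pointIdeal_iff] at hb
    have h2 := mk_sub_of_eval_mem F a₀ p
    have h3 : AdjoinRoot.mk F p - AdjoinRoot.of F (p.eval a₀) ∈ Q :=
      (Ideal.span_singleton_le_iff_mem _ |>.2 hroot) h2
    have := Q.add_mem h3 (hmem _ hb)
    simpa using this
  exact ((pointIdeal_isMaximal F a₀ h₁).eq_of_le (Ideal.IsPrime.ne_top inferInstance) hle).symm

/-- (11) ⇒ (1): let R be a local ring such that every finite-type R-algebra S can be written as a
product A × B with A finite over R and R → B quasi-finite at no prime lying over the maximal ideal —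
concretely, S has an idempotent e with S/(1 − e) finite over R and R → S/(e) quasi-finite at no
prime over the maximal ideal. Then R is henselian. -/
theorem result (R : Type u) [CommRing R] [IsLocalRing R]
    (h : ∀ (S : Type u) [CommRing S] [Algebra R S] [Algebra.FiniteType R S],
      ∃ e : S, IsIdempotentElem e ∧ Module.Finite R (S ⧸ Ideal.span ({1 - e} : Set S)) ∧
        ∀ (q : Ideal (S ⧸ Ideal.span ({e} : Set S))) [q.IsPrime],
          q.LiesOver (IsLocalRing.maximalIdeal R) → ¬ Algebra.QuasiFiniteAt R q) :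
    HenselianLocalRing R := by
  refine { is_henselian := fun F hF a₀ h₁ h₂ => ?_ }
  classical
  set G := F /ₘ (X - C a₀) with hG
  set g : AdjoinRoot F := AdjoinRoot.mk F G with hg
  set 𝔫 := pointIdeal F a₀ h₁ with h𝔫
  have hFG : F = (X - C a₀) * G + C (F.eval a₀) := by
    calc F = F %ₘ (X - C a₀) + (X - C a₀) * (F /ₘ (X - C a₀)) :=
          (modByMonic_add_div F (X - C a₀)).symm
      _ = _ := by rw [modByMonic_X_sub_C_eq_C_eval, hG]; ring
  have hGa : G.eval a₀ = F.derivative.eval a₀ := by
    conv_rhs => rw [hFG]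
    simp
  have hg𝔫 : g ∉ 𝔫 := by
    rw [hg, h𝔫, mem_pointIdeal_iff, hGa]
    exact fun h => (mem_maximalIdeal _).1 h h₂
  have hfinB : Module.Finite R (AdjoinRoot F) := hF.finite_adjoinRoot
  have hftB : Algebra.FiniteType R (AdjoinRoot F) := inferInstance
  have hftBS : Algebra.FiniteType (AdjoinRoot F) (Localization.Away g) :=
    IsLocalization.finiteType_of_monoid_fg (Submonoid.powers g) _
  have hftS : Algebra.FiniteType R (Localization.Away g) := Algebra.FiniteType.trans hftB hftBS
  obtain ⟨e, he, hfin, hnq⟩ := h (Localization.Away g)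
  have hdisj : Disjoint (Submonoid.powers g : Set (AdjoinRoot F)) (𝔫 : Set (AdjoinRoot F)) := by
    rw [Set.disjoint_left]
    rintro _ ⟨n, rfl⟩ hn
    exact hg𝔫 (Ideal.IsPrime.mem_of_pow_mem inferInstance n hn)
  set P : Ideal (Localization.Away g) :=
    Ideal.map (algebraMap (AdjoinRoot F) (Localization.Away g)) 𝔫 with hP
  have hPprime : P.IsPrime :=
    IsLocalization.isPrime_of_isPrime_disjoint (Submonoid.powers g) _ 𝔫 inferInstance hdisj
  have hPcomap : P.comap (algebraMap (AdjoinRoot F) (Localization.Away g)) = 𝔫 :=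
    IsLocalization.under_map_of_isPrime_disjoint (Submonoid.powers g) _ inferInstance hdisj
  have hPover : P.LiesOver (maximalIdeal R) := by
    constructor
    rw [Ideal.under, IsScalarTower.algebraMap_eq R (AdjoinRoot F) (Localization.Away g),
      ← Ideal.comap_comap, hPcomap]
    exact (pointIdeal_liesOver F a₀ h₁).over
  have heP : e ∉ P := by
    intro heP
    set q : Ideal (Localization.Away g ⧸ Ideal.span ({e} : Set (Localization.Away g))) :=
      Ideal.map (Ideal.Quotient.mk (Ideal.span {e})) P with hq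
    have hker : RingHom.ker (Ideal.Quotient.mk (Ideal.span ({e} : Set (Localization.Away g)))) ≤
        P := by
      rw [Ideal.mk_ker, Ideal.span_singleton_le_iff_mem]; exact heP
    have hqprime : q.IsPrime := Ideal.map_isPrime_of_surjective Ideal.Quotient.mk_surjective hker
    have hqcomap : q.comap (Ideal.Quotient.mk _) = P := by
      rw [hq, Ideal.comap_map_of_surjective _ Ideal.Quotient.mk_surjective,
        ← RingHom.ker_eq_comap_bot, sup_eq_left.2 hker]
    have hqover : q.LiesOver (maximalIdeal R) := by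
      constructor
      rw [Ideal.under, IsScalarTower.algebraMap_eq R (Localization.Away g)
        (Localization.Away g ⧸ Ideal.span ({e} : Set (Localization.Away g))),
        ← Ideal.comap_comap, Ideal.Quotient.algebraMap_eq, hqcomap]
      exact hPover.over
    exact hnq q hqover inferInstance
  have h1eP : 1 - e ∈ P := by
    have : e * (1 - e) ∈ P := by
      rw [mul_sub, mul_one, he.eq, sub_self]; exact P.zero_mem
    exact (hPprime.mem_or_mem this).resolve_left heP
  set I : Ideal (Localization.Away g) := Ideal.span {1 - e} with hI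
  have hIP : I ≤ P := (Ideal.span_singleton_le_iff_mem _).2 h1eP
  have hDnt : Nontrivial (Localization.Away g ⧸ I) :=
    Ideal.Quotient.nontrivial_iff.2 (ne_top_of_le_ne_top hPprime.ne_top hIP)
  have hint : Algebra.IsIntegral R (Localization.Away g ⧸ I) := Algebra.IsIntegral.of_finite R _
  have hgunit : IsUnit (algebraMap (AdjoinRoot F) (Localization.Away g ⧸ I) g) := by
    rw [IsScalarTower.algebraMap_apply (AdjoinRoot F) (Localization.Away g)
      (Localization.Away g ⧸ I)]
    exact (IsLocalization.Away.algebraMap_isUnit g).map _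
  have hfrac : ∀ c : Localization.Away g ⧸ I, ∃ b s : AdjoinRoot F,
      IsUnit (algebraMap (AdjoinRoot F) (Localization.Away g ⧸ I) s) ∧
      c * algebraMap (AdjoinRoot F) (Localization.Away g ⧸ I) s =
        algebraMap (AdjoinRoot F) (Localization.Away g ⧸ I) b := by
    intro c
    obtain ⟨z, rfl⟩ := Ideal.Quotient.mk_surjective c
    obtain ⟨⟨b, ⟨_, n, rfl⟩⟩, hz⟩ := IsLocalization.surj (Submonoid.powers g) z
    refine ⟨b, g ^ n, ?_, ?_⟩
    · rw [map_pow]; exact hgunit.pow n
    · rw [IsScalarTower.algebraMap_apply (AdjoinRoot F) (Localization.Away g)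
        (Localization.Away g ⧸ I), IsScalarTower.algebraMap_apply (AdjoinRoot F)
        (Localization.Away g) (Localization.Away g ⧸ I) b, Ideal.Quotient.algebraMap_eq,
        ← map_mul]
      exact congrArg _ hz
  have hcomapM : ∀ M : Ideal (Localization.Away g ⧸ I), M.IsMaximal →
      M.comap (algebraMap (AdjoinRoot F) (Localization.Away g ⧸ I)) = 𝔫 := by
    intro M hM
    have hMover : M.LiesOver (maximalIdeal R) := liesOver_maximalIdeal_of_isMaximal M
    have hQprime : (M.comap (algebraMap (AdjoinRoot F) (Localization.Away g ⧸ I))).IsPrime :=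
      Ideal.comap_isPrime _ _
    have hQover : (M.comap (algebraMap (AdjoinRoot F) (Localization.Away g ⧸ I))).LiesOver
        (maximalIdeal R) := by
      constructor
      rw [Ideal.under, Ideal.comap_comap, ← IsScalarTower.algebraMap_eq]
      exact hMover.over
    apply eq_pointIdeal F a₀ h₁
    intro hgM
    exact hM.ne_top (Ideal.eq_top_of_isUnit_mem _ hgM hgunit)
  have hMeq : ∀ M M' : Ideal (Localization.Away g ⧸ I), M.IsMaximal → M'.IsMaximal →
      M ≤ M' := by
    intro M M' hM hM' c hc
    obtain ⟨b, s, hs, hcs⟩ := hfrac c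
    have hb : b ∈ M.comap (algebraMap (AdjoinRoot F) (Localization.Away g ⧸ I)) := by
      rw [Ideal.mem_comap, ← hcs]; exact Ideal.mul_mem_right _ _ hc
    rw [hcomapM M hM, ← hcomapM M' hM', Ideal.mem_comap, ← hcs] at hb
    obtain ⟨u, hu⟩ := hs.exists_right_inv
    have : c = c * algebraMap (AdjoinRoot F) (Localization.Away g ⧸ I) s * u := by
      rw [mul_assoc, hu, mul_one]
    rw [this]
    exact Ideal.mul_mem_right _ _ hb
  have hDloc : IsLocalRing (Localization.Away g ⧸ I) := by
    apply IsLocalRing.of_unique_max_ideal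
    obtain ⟨M, hM⟩ := Ideal.exists_maximal (Localization.Away g ⧸ I)
    exact ⟨M, hM, fun M' hM' => le_antisymm (hMeq M' M hM' hM) (hMeq M M' hM hM')⟩
  have hfree : Module.Free R (AdjoinRoot F) := hF.free_adjoinRoot
  have hflatS : Module.Flat R (Localization.Away g) := Module.Flat.trans R (AdjoinRoot F) _
  have hlocD : IsLocalization.Away e (Localization.Away g ⧸ I) :=
    IsLocalization.away_of_isIdempotentElem he
      (by rw [Ideal.Quotient.algebraMap_eq, Ideal.mk_ker])
      (by rw [Ideal.Quotient.algebraMap_eq]; exact Ideal.Quotient.mk_surjective)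
  have hflatSD : Module.Flat (Localization.Away g) (Localization.Away g ⧸ I) :=
    IsLocalization.flat _ (Submonoid.powers e)
  have hflatD : Module.Flat R (Localization.Away g ⧸ I) :=
    Module.Flat.trans R (Localization.Away g) _
  refine exists_root_of_local_algebra F a₀ h₁ h₂ (Localization.Away g ⧸ I) hfrac ?_
  have h1 := hcomapM (maximalIdeal (Localization.Away g ⧸ I)) (maximalIdeal.isMaximal _)
  have h2 := root_sub_mem_pointIdeal F a₀ h₁
  rw [← h𝔫, ← h1] at h2
  exact h2

end Groth.Agent.S12222
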