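import Groth.Statements.S12228
import Mathlib

set_option autoImplicit false
universe w v u
open CategoryTheory CategoryTheory.Limits
open CohDer

namespace Groth.Agent.S12228

open HomologicalComplex in
set_option backward.isDefEq.respectTransparency false in
theorem isIso_πTruncGE_f {ι ι' : Type*} {c : ComplexShape ι} {c' : ComplexShape ι'}
    {C : Type u} [Category.{v} C] [HasZeroMorphisms C] [HasZeroObject C]
    (K : HomologicalComplex C c') (e : c.Embedding c') [e.IsTruncGE]
    [∀ i', K.HasHomology i'] {i : ι} {i' : ι'} (hi : e.f i = i') (hi' : ¬ e.BoundaryGE i) :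
    IsIso ((K.πTruncGE e).f i') := by
  dsimp [HomologicalComplex.πTruncGE]
  rw [e.isIso_liftExtend_f_iff _ _ hi]
  exact K.isIso_restrictionToTruncGE' e i hi'

theorem isIso_ιTruncLE_f {ι ι' : Type*} {c : ComplexShape ι} {c' : ComplexShape ι'}
    {C : Type u} [Category.{v} C] [HasZeroMorphisms C] [HasZeroObject C]
    (K : HomologicalComplex C c') (e : c.Embedding c') [e.IsTruncLE]
    [∀ i', K.HasHomology i'] {i : ι} {i' : ι'} (hi : e.f i = i') (hi' : ¬ e.BoundaryLE i) :
    IsIso ((K.ιTruncLE e).f i') := by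
  have : IsIso ((K.op.πTruncGE e.op).f i') := isIso_πTruncGE_f K.op e.op hi (by simpa using hi')
  exact inferInstanceAs (IsIso ((K.op.πTruncGE e.op).f i').unop)

theorem cochain_isIso_ιTruncLE_f {C : Type u} [Category.{v} C] [HasZeroMorphisms C] [HasZeroObject C]
    (K : CochainComplex C ℤ) [∀ i, K.HasHomology i] (n j : ℤ) (hj : j < n) :
    IsIso ((K.ιTruncLE n).f j) := by
  apply isIso_ιTruncLE_f K (ComplexShape.embeddingUpIntLE n) (i := (n - j).natAbs)
  · show n - ((n - j).natAbs : ℤ) = j
    rw [Int.natAbs_of_nonneg (by omega), sub_sub_cancel]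
  · intro h
    rw [ComplexShape.boundaryLE_embeddingUpIntLE_iff, Int.natAbs_eq_zero] at h
    omega

noncomputable def liftHomotopy {C : Type u} [Category.{v} C] [Abelian C] {K M : CochainComplex C ℤ} (n : ℤ) [K.IsStrictlyLE n]
    (G₁ G₂ : K ⟶ M.truncLE n)
    (h : Homotopy (G₁ ≫ M.ιTruncLE n) (G₂ ≫ M.ιTruncLE n)) : Homotopy G₁ G₂ where
  hom i j := if hj : j < n then
    haveI := cochain_isIso_ιTruncLE_f M n j hj
    h.hom i j ≫ inv ((M.ιTruncLE n).f j) else 0
  zero i j hij := by
    split_ifs with hj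
    · rw [h.zero i j hij, zero_comp]
    · rfl
  comm i := by
    haveI : Mono ((M.ιTruncLE n).f i) :=
      inferInstanceAs (Mono ((HomologicalComplex.ιTruncLE M (ComplexShape.embeddingUpIntLE n)).f i))
    rw [← cancel_mono ((M.ιTruncLE n).f i)]
    have hc := h.comm i
    simp only [HomologicalComplex.comp_f] at hc
    rw [hc, Preadditive.add_comp, Preadditive.add_comp]
    congr 2
    · rw [dNext_eq _ (show (ComplexShape.up ℤ).Rel i (i + 1) from rfl),
        dNext_eq _ (show (ComplexShape.up ℤ).Rel i (i + 1) from rfl)]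
      by_cases hi : i < n
      · haveI := cochain_isIso_ιTruncLE_f M n i hi
        rw [dif_pos hi, Category.assoc, Category.assoc, IsIso.inv_hom_id, Category.comp_id]
      · have hz : IsZero (K.X (i + 1)) := K.isZero_of_isStrictlyLE n (i + 1) (by omega)
        rw [hz.eq_of_tgt (K.d i (i + 1)) 0]
        simp
    · rw [prevD_eq _ (show (ComplexShape.up ℤ).Rel (i - 1) i from by simp),
        prevD_eq _ (show (ComplexShape.up ℤ).Rel (i - 1) i from by simp)]
      by_cases hi : i - 1 < n
      · haveI := cochain_isIso_ιTruncLE_f M n (i - 1) hi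
        rw [dif_pos hi, Category.assoc, ← (M.ιTruncLE n).comm (i - 1) i, Category.assoc,
          IsIso.inv_hom_id_assoc]
      · have hz : IsZero (K.X i) := K.isZero_of_isStrictlyLE n i (by omega)
        apply hz.eq_of_src

theorem core {A : Type u} [Category.{v} A] [Abelian A] [HasDerivedCategory.{w} A]
    (K₀ L₀ : CochainComplex A ℤ) (a' n : ℤ) [K₀.IsStrictlyLE n]
    [L₀.IsStrictlyGE a'] [L₀.IsStrictlyLE n] (Y₀ : CochainComplex A ℤ) (S : L₀ ⟶ Y₀) [QuasiIso S] :
    ∃ (S₂ : L₀ ⟶ (Y₀.truncGE a').truncLE n), QuasiIso S₂ ∧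
      QuasiIso ((Y₀.truncGE a').ιTruncLE n) ∧
      S₂ ≫ (Y₀.truncGE a').ιTruncLE n = S ≫ Y₀.πTruncGE a' := by
  have hS₁ : QuasiIso (S ≫ Y₀.πTruncGE a') := by
    rw [← CochainComplex.πTruncGE_naturality]
    haveI : QuasiIso (CochainComplex.truncGEMap S a') := by
      rw [CochainComplex.quasiIso_truncGEMap_iff]
      intro i _
      infer_instance
    infer_instance
  haveI : QuasiIso (CochainComplex.truncLEMap (S ≫ Y₀.πTruncGE a') n) := by
    rw [CochainComplex.quasiIso_truncLEMap_iff]
    intro i _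
    infer_instance
  have hcomp : (inv (L₀.ιTruncLE n) ≫ CochainComplex.truncLEMap (S ≫ Y₀.πTruncGE a') n) ≫
      (Y₀.truncGE a').ιTruncLE n = S ≫ Y₀.πTruncGE a' := by
    rw [Category.assoc, CochainComplex.ιTruncLE_naturality, IsIso.inv_hom_id_assoc]
  have hS₂ : QuasiIso (inv (L₀.ιTruncLE n) ≫
      CochainComplex.truncLEMap (S ≫ Y₀.πTruncGE a') n) := inferInstance
  refine ⟨inv (L₀.ιTruncLE n) ≫ CochainComplex.truncLEMap (S ≫ Y₀.πTruncGE a') n, hS₂, ?_, hcomp⟩
  haveI : QuasiIso ((inv (L₀.ιTruncLE n) ≫ CochainComplex.truncLEMap (S ≫ Y₀.πTruncGE a') n) ≫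
      (Y₀.truncGE a').ιTruncLE n) := by rw [hcomp]; exact hS₁
  exact quasiIso_of_comp_left (inv (L₀.ιTruncLE n) ≫
      CochainComplex.truncLEMap (S ≫ Y₀.πTruncGE a') n) _

/-- Full faithfulness of Kᵇ(A)[Qis⁻¹] → Dᵇ(A), written in terms of roofs. Let A be an abelian category
and K, L bounded complexes (zero outside a finite range of degrees), viewed in the homotopy
category. Then every morphism Qh(K) → Qh(L) in the derived category is Qh(f) ≫ Qh(t)⁻¹ for some map
f : K → L' and quasi-isomorphism t : L → L' of K(A) with L' again bounded; and two maps f₁, f₂ : K →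
L of K(A) become equal in D(A) only if f₁ ≫ t = f₂ ≫ t for some quasi-isomorphism t : L → L' with L'
bounded. -/
theorem result {A : Type u} [Category.{v} A] [Abelian A] [HasDerivedCategory.{w} A]
    (K L : HomotopyCategory A (ComplexShape.up ℤ)) (a b a' b' : ℤ) [CochainComplex.IsStrictlyGE K.as a] [CochainComplex.IsStrictlyLE K.as b]
    [CochainComplex.IsStrictlyGE L.as a'] [CochainComplex.IsStrictlyLE L.as b'] :
    (∀ φ : DerivedCategory.Qh.obj K ⟶ DerivedCategory.Qh.obj L,
      ∃ (L' : HomotopyCategory A (ComplexShape.up ℤ)) (m n : ℤ) (_ : CochainComplex.IsStrictlyGE L'.as m) (_ : CochainComplex.IsStrictlyLE L'.as n) (f : K ⟶ L') (t : L ⟶ L'),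
        HomotopyCategory.quasiIso A (ComplexShape.up ℤ) t ∧ φ ≫ DerivedCategory.Qh.map t = DerivedCategory.Qh.map f) ∧
    (∀ f₁ f₂ : K ⟶ L, DerivedCategory.Qh.map f₁ = DerivedCategory.Qh.map f₂ →
      ∃ (L' : HomotopyCategory A (ComplexShape.up ℤ)) (m n : ℤ) (_ : CochainComplex.IsStrictlyGE L'.as m) (_ : CochainComplex.IsStrictlyLE L'.as n) (t : L ⟶ L'),
        HomotopyCategory.quasiIso A (ComplexShape.up ℤ) t ∧ f₁ ≫ t = f₂ ≫ t) := by
  obtain ⟨K₀, rfl⟩ := HomotopyCategory.quotient_obj_surjective K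
  obtain ⟨L₀, rfl⟩ := HomotopyCategory.quotient_obj_surjective L
  haveI hK₀ : CochainComplex.IsStrictlyLE K₀ b := ‹_›
  haveI hL₀ : CochainComplex.IsStrictlyLE L₀ b' := ‹_›
  haveI hL₀' : CochainComplex.IsStrictlyGE L₀ a' := ‹_›
  haveI : CochainComplex.IsStrictlyLE K₀ (max b b') :=
    CochainComplex.isStrictlyLE_of_le K₀ b (max b b') (le_max_left _ _)
  haveI : CochainComplex.IsStrictlyLE L₀ (max b b') :=
    CochainComplex.isStrictlyLE_of_le L₀ b' (max b b') (le_max_right _ _)
  have hqi : ∀ {X Y : CochainComplex A ℤ} (g : X ⟶ Y), QuasiIso g →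
      HomotopyCategory.quasiIso A (ComplexShape.up ℤ)
        ((HomotopyCategory.quotient A (ComplexShape.up ℤ)).map g) := by
    intro X Y g hg
    rw [HomotopyCategory.quotient_map_mem_quasiIso_iff, HomologicalComplex.mem_quasiIso_iff]
    exact hg
  constructor
  · intro φ
    obtain ⟨lf, hlf⟩ := Localization.exists_leftFraction DerivedCategory.Qh
      (HomotopyCategory.quasiIso A (ComplexShape.up ℤ)) φ
    obtain ⟨Y, g, s, hs, rfl⟩ := lf.cases
    obtain ⟨Y₀, rfl⟩ := HomotopyCategory.quotient_obj_surjective Y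
    obtain ⟨S, rfl⟩ := (HomotopyCategory.quotient _ _).map_surjective s
    obtain ⟨G, rfl⟩ := (HomotopyCategory.quotient _ _).map_surjective g
    haveI hS : QuasiIso S := by
      rw [HomotopyCategory.quotient_map_mem_quasiIso_iff, HomologicalComplex.mem_quasiIso_iff] at hs
      exact hs
    obtain ⟨S₂, hS₂, hι, hcomp⟩ := core K₀ L₀ a' (max b b') Y₀ S
    have hfrac : φ ≫ DerivedCategory.Qh.map ((HomotopyCategory.quotient _ _).map S) =
        DerivedCategory.Qh.map ((HomotopyCategory.quotient _ _).map G) := by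
      rw [hlf]
      exact MorphismProperty.LeftFraction.map_comp_map_s
        (MorphismProperty.LeftFraction.mk ((HomotopyCategory.quotient _ _).map G)
          ((HomotopyCategory.quotient _ _).map S) hs) DerivedCategory.Qh _
    refine ⟨(HomotopyCategory.quotient _ _).obj
        (CochainComplex.truncLE (CochainComplex.truncGE Y₀ a') (max b b')), a', max b b',
      (inferInstance : CochainComplex.IsStrictlyGE
        (CochainComplex.truncLE (CochainComplex.truncGE Y₀ a') (max b b')) a'),
      (inferInstance : CochainComplex.IsStrictlyLE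
        (CochainComplex.truncLE (CochainComplex.truncGE Y₀ a') (max b b')) (max b b')),
      (HomotopyCategory.quotient _ _).map (inv (CochainComplex.ιTruncLE K₀ (max b b')) ≫
        CochainComplex.truncLEMap (G ≫ CochainComplex.πTruncGE Y₀ a') (max b b')),
      (HomotopyCategory.quotient _ _).map S₂, hqi S₂ hS₂, ?_⟩
    haveI : IsIso (DerivedCategory.Qh.map ((HomotopyCategory.quotient _ _).map
        (CochainComplex.ιTruncLE (CochainComplex.truncGE Y₀ a') (max b b')))) := by
      rw [DerivedCategory.isIso_Qh_map_iff]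
      exact hqi _ hι
    rw [← cancel_mono (DerivedCategory.Qh.map ((HomotopyCategory.quotient _ _).map
        (CochainComplex.ιTruncLE (CochainComplex.truncGE Y₀ a') (max b b')))),
      Category.assoc, ← Functor.map_comp, ← Functor.map_comp, ← Functor.map_comp, ← Functor.map_comp,
      hcomp, Category.assoc, CochainComplex.ιTruncLE_naturality, IsIso.inv_hom_id_assoc,
      Functor.map_comp, Functor.map_comp, Functor.map_comp, Functor.map_comp, ← Category.assoc,
      hfrac]
  · intro f₁ f₂ h
    obtain ⟨Y, s, hs, hsf⟩ := (MorphismProperty.map_eq_iff_postcomp DerivedCategory.Qh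
      (HomotopyCategory.quasiIso A (ComplexShape.up ℤ)) f₁ f₂).mp h
    obtain ⟨Y₀, rfl⟩ := HomotopyCategory.quotient_obj_surjective Y
    obtain ⟨S, rfl⟩ := (HomotopyCategory.quotient _ _).map_surjective s
    obtain ⟨F₁, rfl⟩ := (HomotopyCategory.quotient _ _).map_surjective f₁
    obtain ⟨F₂, rfl⟩ := (HomotopyCategory.quotient _ _).map_surjective f₂
    haveI hS : QuasiIso S := by
      rw [HomotopyCategory.quotient_map_mem_quasiIso_iff, HomologicalComplex.mem_quasiIso_iff] at hs
      exact hs
    obtain ⟨S₂, hS₂, hι, hcomp⟩ := core K₀ L₀ a' (max b b') Y₀ S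
    refine ⟨(HomotopyCategory.quotient _ _).obj
        (CochainComplex.truncLE (CochainComplex.truncGE Y₀ a') (max b b')), a', max b b',
      (inferInstance : CochainComplex.IsStrictlyGE
        (CochainComplex.truncLE (CochainComplex.truncGE Y₀ a') (max b b')) a'),
      (inferInstance : CochainComplex.IsStrictlyLE
        (CochainComplex.truncLE (CochainComplex.truncGE Y₀ a') (max b b')) (max b b')),
      (HomotopyCategory.quotient _ _).map S₂, hqi S₂ hS₂, ?_⟩
    rw [← Functor.map_comp, ← Functor.map_comp] at hsf ⊢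
    have H : Homotopy (F₁ ≫ S) (F₂ ≫ S) := HomotopyCategory.homotopyOfEq _ _ hsf
    have H' : Homotopy ((F₁ ≫ S₂) ≫ CochainComplex.ιTruncLE (CochainComplex.truncGE Y₀ a') (max b b'))
        ((F₂ ≫ S₂) ≫ CochainComplex.ιTruncLE (CochainComplex.truncGE Y₀ a') (max b b')) := by
      refine (Homotopy.ofEq ?_).trans ((H.compRight (CochainComplex.πTruncGE Y₀ a')).trans
        (Homotopy.ofEq ?_))
      · rw [Category.assoc, hcomp, Category.assoc]
      · rw [Category.assoc, Category.assoc, hcomp]
    exact HomotopyCategory.eq_of_homotopy _ _ (liftHomotopy (max b b') _ _ H')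

end Groth.Agent.S12228
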