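import Groth.Statements.S12231
import Groth.Agent.Lib.Helper63.OneStep1
import Groth.Agent.Lib.Helper63.OneStep3
import Groth.Agent.Lib.Helper63.OneStep4
import Groth.Agent.Lib.Helper63.OneStep5
import Groth.Agent.Lib.Helper63.OneStep6
import Groth.Agent.Lib.Helper63.OneStep7

set_option autoImplicit false
universe u
open TensorProduct
open FlatMor

namespace Groth.Agent.S12231

/-- All schemes are affine here, as in the ambient rendering of a one-step dévissage. Let R → S be a
ring map of finite type, N a finite S-module, p a prime of R and (C, D, G, n) a one-step dévissage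
of N/S/R over p — C a finitely presented quotient of S with a finite C-module G identified with N
over S, D an R-algebra smooth of relative dimension n with geometrically irreducible fibres and a
finite map D → C over R, n the dimension of the support of the fibre module of N over p. Let R → R'
be a ring map, p' a prime of R' over p, and let S', C', D' be the base changes of S, C, D to R'
(pushout squares, with the R'-algebra maps S' → C' ← D' induced from S → C ← D) and N' = N ⊗_S S',
G' = G ⊗_C C' (base-change maps f, g). Then (C', D', G', n) is a one-step dévissage of N'/S'/R' over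
p'. -/
theorem result
    (R S : Type u) [CommRing R] [CommRing S] [Algebra R S] [Algebra.FiniteType R S]
    (N : Type u) [AddCommGroup N] [Module S N] [Module R N] [IsScalarTower R S N] [Module.Finite S N]
    (p : Ideal R) [p.IsPrime]
    (C D G : Type u) [CommRing C] [CommRing D] [Algebra S C] [Algebra R C] [IsScalarTower R S C]
    [Algebra R D] [Algebra D C] [IsScalarTower R D C] [AddCommGroup G] [Module C G] [Module S G]
    [IsScalarTower S C G] (n : ℕ)
    (h : FlatCA.IsOneStepDevissage R S N p C D G n)
    (R' : Type u) [CommRing R'] [Algebra R R'] (p' : Ideal R') [p'.IsPrime] [p'.LiesOver p]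
    (S' C' D' : Type u) [CommRing S'] [CommRing C'] [CommRing D']
    [Algebra R' S'] [Algebra R S'] [Algebra S S'] [IsScalarTower R R' S'] [IsScalarTower R S S']
    [Algebra.IsPushout R R' S S']
    [Algebra R' C'] [Algebra R C'] [Algebra C C'] [IsScalarTower R R' C'] [IsScalarTower R C C']
    [Algebra.IsPushout R R' C C']
    [Algebra R' D'] [Algebra R D'] [Algebra D D'] [IsScalarTower R R' D'] [IsScalarTower R D D']
    [Algebra.IsPushout R R' D D']
    [Algebra S' C'] [IsScalarTower R' S' C'] [Algebra S C'] [IsScalarTower S S' C'] [IsScalarTower S C C']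
    [Algebra D' C'] [IsScalarTower R' D' C'] [Algebra D C'] [IsScalarTower D D' C'] [IsScalarTower D C C']
    (N' : Type u) [AddCommGroup N'] [Module S' N'] [Module R' N'] [IsScalarTower R' S' N']
    [Module S N'] [IsScalarTower S S' N'] (f : N →ₗ[S] N') (hf : IsBaseChange S' f)
    (G' : Type u) [AddCommGroup G'] [Module C' G'] [Module S' G'] [IsScalarTower S' C' G']
    [Module C G'] [IsScalarTower C C' G'] (g : G →ₗ[C] G') (hg : IsBaseChange C' g) :
    FlatCA.IsOneStepDevissage R' S' N' p' C' D' G' n := by
  obtain ⟨⟨e⟩, hsurj, hfp, hDC, hCG, hsm, hirr, hdim⟩ := h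
  have : Module.Finite D C := hDC
  have : Module.Finite C G := hCG
  have hpS : Algebra.IsPushout S C S' C' :=
    Groth.Agent.Lib.Helper63.OneStep.isPushout_comp R R' S S' C C'
  have hpD : Algebra.IsPushout D C D' C' :=
    Groth.Agent.Lib.Helper63.OneStep.isPushout_comp R R' D D' C C'
  have hpS' : Algebra.IsPushout S S' C C' := Algebra.IsPushout.symm hpS
  have hpD' : Algebra.IsPushout D D' C C' := Algebra.IsPushout.symm hpD
  have hsurj' : Function.Surjective (algebraMap S' C') :=
    RingHom.surjective_isStableUnderBaseChange S C S' C' hsurj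
  have hfp' : Algebra.FinitePresentation S' C' :=
    RingHom.finitePresentation_algebraMap.1
      (RingHom.finitePresentation_isStableUnderBaseChange S C S' C'
        (RingHom.finitePresentation_algebraMap.2 hfp))
  have hDC' : Module.Finite D' C' :=
    RingHom.finite_algebraMap.1
      (RingHom.finite_isStableUnderBaseChange D C D' C' (RingHom.finite_algebraMap.2 hDC))
  have hCG' : Module.Finite C' G' := Module.Finite.equiv hg.equiv
  have hSN' : Module.Finite S' N' := Module.Finite.equiv hf.equiv
  have hsm' : FlatCA.SmoothRelDim n R' D' :=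
    Groth.Agent.Lib.Helper63.OneStep.smoothRelDim_baseChange R R' D D' n hsm
  have hirr' : FlatCA.GeomIrredFibres R' D' :=
    Groth.Agent.Lib.Helper63.OneStep.geomIrred_baseChange R R' D D' hirr
  let e' : N' ≃ₗ[S'] G' :=
    hf.equiv.symm ≪≫ₗ
      (TensorProduct.AlgebraTensorModule.congr (LinearEquiv.refl S' S') e) ≪≫ₗ
      (Algebra.IsPushout.cancelBaseChange S S' C C' G).symm ≪≫ₗ
      (hg.equiv.restrictScalars S')
  let _ : Module D G := Module.compHom G (algebraMap D C)
  have : IsScalarTower D C G := ⟨fun d c g => by
    show (d • c) • g = (algebraMap D C d) • (c • g)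
    rw [Algebra.smul_def, mul_smul]⟩
  let _ : Module D' G' := Module.compHom G' (algebraMap D' C')
  have : IsScalarTower D' C' G' := ⟨fun d c g => by
    show (d • c) • g = (algebraMap D' C' d) • (c • g)
    rw [Algebra.smul_def, mul_smul]⟩
  have hDG : Module.Finite D G := Module.Finite.trans C G
  let e5 : G' ≃ₗ[D'] TensorProduct D D' G :=
    (hg.equiv.symm.restrictScalars D') ≪≫ₗ (Algebra.IsPushout.cancelBaseChange D D' C C' G)
  have hall' : ∀ Q' : PrimeSpectrum D', Q'.asIdeal.comap (algebraMap R' D') = p' →
      Q' ∈ Module.support D' G' := by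
    intro Q' hQ'
    rw [e5.support_eq]
    apply Groth.Agent.Lib.Helper63.OneStep.mem_support_baseChange
    apply Groth.Agent.Lib.Helper63.OneStep.forall_mem_support p S C D N G e hsurj n hsm hirr hdim
    show (Q'.asIdeal.comap (algebraMap D D')).comap (algebraMap R D) = p
    rw [Ideal.comap_comap, ← IsScalarTower.algebraMap_eq R D D', IsScalarTower.algebraMap_eq R R' D',
      ← Ideal.comap_comap, hQ']
    exact (Ideal.LiesOver.over (P := p') (p := p)).symm
  have hirrA : IrreducibleSpace (PrimeSpectrum (p'.Fiber D')) :=
    Groth.Agent.Lib.Helper63.OneStep.irreducibleSpace_fiber hirr' p'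
  have hdim' : Module.supportDim (p'.Fiber S') (FlatCA.fiberMod p' S' N') = n := by
    rw [Groth.Agent.Lib.Helper63.OneStep.supportDim_fiberMod_eq p' S' C' D' N' G' e' hsurj' hall']
    exact le_antisymm (Groth.Agent.Lib.Helper63.OneStep.ringKrullDim_fiber_le n hsm' p')
      (Groth.Agent.Lib.Helper63.OneStep.le_ringKrullDim_fiber n hsm' p')
  exact ⟨⟨e'⟩, hsurj', hfp', hDC', hCG', hsm', hirr', hdim'⟩

end Groth.Agent.S12231
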