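import Groth.Statements.S12232
import Groth.Agent.Lib.Helper13.KInjDerAdjH

set_option autoImplicit false
universe w w' v u
open CategoryTheory CategoryTheory.Limits
open CohDer

namespace Groth.Agent.S12232

/-- Let C be a Grothendieck abelian category, U a generator, R = End(U)ᵒᵖ, G = Hom(U, −) : C → Mod_R and
F : Mod_R → C its left adjoint, which is exact and makes G fully faithful (Gabriel–Popescu). Then on
derived categories F : D(Mod_R) → D(C) (induced by the exact functor F) is left adjoint to the total
right derived functor RG : D(C) → D(Mod_R), RG is fully faithful, and F ∘ RG ≅ id. Existence of the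
adjunction and of the isomorphism is asserted (the derived unit/counit are not named); the existence
of RG and the exactness and additivity of F are carried as instance hypotheses, all of which hold. -/
theorem result {C : Type u} [Category.{v} C] [Abelian C]
    [IsGrothendieckAbelian.{v} C] [HasDerivedCategory.{w} C] (U : C) (hU : IsSeparator U)
    [HasDerivedCategory.{w'} (ModuleCat.{v} (End U)ᵐᵒᵖ)]
    [(IsGrothendieckAbelian.tensorObj U).Additive] [PreservesFiniteLimits (IsGrothendieckAbelian.tensorObj U)]
    [PreservesFiniteColimits (IsGrothendieckAbelian.tensorObj U)]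
    [((preadditiveCoyonedaObj U).mapHomotopyCategory (ComplexShape.up ℤ) ⋙ DerivedCategory.Qh).HasRightDerivedFunctor
      (HomotopyCategory.quasiIso C (ComplexShape.up ℤ))] :
    let RG := ((preadditiveCoyonedaObj U).mapHomotopyCategory (ComplexShape.up ℤ) ⋙ DerivedCategory.Qh).totalRightDerived
      DerivedCategory.Qh (HomotopyCategory.quasiIso C (ComplexShape.up ℤ))
    let LF := (IsGrothendieckAbelian.tensorObj U).mapDerivedCategory
    Nonempty (LF ⊣ RG) ∧ RG.Full ∧ RG.Faithful ∧
      Nonempty (RG ⋙ LF ≅ 𝟭 (DerivedCategory C)) := by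
  intro RG LF
  let adj := IsGrothendieckAbelian.tensorObjPreadditiveCoyonedaObjAdjunction U
  haveI : (preadditiveCoyonedaObj U).Full := IsGrothendieckAbelian.GabrielPopescu.full U hU
  haveI : (preadditiveCoyonedaObj U).Faithful :=
    (isSeparator_iff_faithful_preadditiveCoyonedaObj U).1 hU
  haveI : IsIso adj.counit := inferInstance
  obtain ⟨adj₁⟩ := Groth.Agent.Lib.Helper13.KInjDerAdj.nonempty_adjunction_h adj RG
    (((preadditiveCoyonedaObj U).mapHomotopyCategory (ComplexShape.up ℤ) ⋙
      DerivedCategory.Qh).totalRightDerivedUnit DerivedCategory.Qh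
        (HomotopyCategory.quasiIso C (ComplexShape.up ℤ)))
  haveI : IsIso adj₁.counit :=
    Groth.Agent.Lib.Helper13.KInjDerAdj.isIso_counit_of_adjunction adj adj₁
  have hff := adj₁.fullyFaithfulROfIsIsoCounit
  exact ⟨⟨adj₁⟩, hff.full, hff.faithful, ⟨asIso adj₁.counit⟩⟩

end Groth.Agent.S12232
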