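import Groth.Statements.S12233
import Groth.Agent.Lib.Helper55.FL.LocalCrit
import Groth.Agent.Lib.Helper55.FL.TorBC

set_option autoImplicit false
universe u
open scoped TensorProduct
open CAlg

namespace Groth.Agent.S12233

open TensorProduct Groth.Agent.Lib.Helper55.FL Groth.Agent.Lib.Helper6.LocalFlat

section PartI

variable {R : Type u} [CommRing R] {r : ℕ} (x : Fin r → R) (I : Ideal R)
  (hx : Ideal.span (Set.range x) = I)
  (M : Type u) [AddCommGroup M] [Module R M]
  (R' : Type u) [CommRing R'] [Algebra R R']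
  (M' : Type u) [AddCommGroup M'] [Module R' M'] [Module R M'] [IsScalarTower R R' M']
  (fR : M →ₗ[R] M')

/-- the generators of `I R'`. -/
def xi (hx : Ideal.span (Set.range x) = I) (i : Fin r) : ↥(I.map (algebraMap R R')) :=
  ⟨algebraMap R R' (x i), Ideal.mem_map_of_mem _ (hx ▸ Ideal.subset_span (Set.mem_range_self i))⟩

/-- `M ⊗_R I' → M' ⊗_{R'} I'`. -/
noncomputable def Theta : M ⊗[R] ↥(I.map (algebraMap R R')) →ₗ[R]
    M' ⊗[R'] ↥(I.map (algebraMap R R')) :=
  (TensorProduct.mapOfCompatibleSMul R' R R M' ↥(I.map (algebraMap R R'))) ∘ₗ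
    (TensorProduct.map fR LinearMap.id)

lemma Theta_tmul (m : M) (a : ↥(I.map (algebraMap R R'))) :
    Theta I M R' M' fR (m ⊗ₜ a) = fR m ⊗ₜ a := rfl

/-- multiplication by the `i`-th generator, `R' → I'`. -/
noncomputable def mulxi (i : Fin r) : R' →ₗ[R] ↥(I.map (algebraMap R R')) :=
  (LinearMap.toSpanSingleton R' ↥(I.map (algebraMap R R')) (xi x I (R' := R') hx i)).restrictScalars R

lemma mulxi_apply (i : Fin r) (c : R') :
    mulxi x I hx R' i c = c • xi x I (R' := R') hx i := rfl

/-- `(M^r) ⊗_R R' → M ⊗_R I'`. -/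
noncomputable def rho : (Fin r → M) ⊗[R] R' →ₗ[R] M ⊗[R] ↥(I.map (algebraMap R R')) :=
  ∑ i, TensorProduct.map (LinearMap.proj i) (mulxi x I hx R' i)

lemma rho_tmul (ξ : Fin r → M) (c : R') :
    rho x I hx M R' (ξ ⊗ₜ c) = ∑ i, ξ i ⊗ₜ (c • xi x I (R' := R') hx i) := by
  simp [rho, mulxi_apply]

include hx in
lemma rho_surjective : Function.Surjective (rho x I hx M R') := by
  intro y
  induction y using TensorProduct.induction_on with
  | zero => exact ⟨0, map_zero _⟩
  | add a b ha hb =>
    obtain ⟨a', rfl⟩ := ha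
    obtain ⟨b', rfl⟩ := hb
    exact ⟨a' + b', map_add _ _ _⟩
  | tmul m a =>
    have ha : (a : R') ∈ Ideal.span (Set.range (fun i => algebraMap R R' (x i))) := by
      have h : (a : R') ∈ (Ideal.span (Set.range x)).map (algebraMap R R') := by
        rw [hx]; exact a.2
      rw [Ideal.map_span, ← Set.range_comp] at h
      exact h
    obtain ⟨c, hc⟩ := (Ideal.mem_span_range_iff_exists_fun).1 ha
    classical
    refine ⟨∑ i, (Pi.single i m : Fin r → M) ⊗ₜ[R] c i, ?_⟩
    rw [map_sum]
    simp only [rho_tmul]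
    have h1 : ∀ i : Fin r, ∑ j, (Pi.single i m : Fin r → M) j ⊗ₜ[R] (c i • xi x I (R' := R') hx j) =
        m ⊗ₜ[R] (c i • xi x I (R' := R') hx i) := by
      intro i
      rw [Finset.sum_eq_single i]
      · simp
      · intro j _ hj
        simp [Pi.single_eq_of_ne hj]
      · simp
    simp only [h1]
    rw [← TensorProduct.tmul_sum]
    congr 1
    ext
    simp only [xi, AddSubmonoidClass.coe_finsetSum, Submodule.coe_smul, smul_eq_mul]
    exact hc

lemma lTensor_rho (b : (Fin r → M) ⊗[R] R') :
    LinearMap.lTensor M ((Submodule.subtype (I.map (algebraMap R R'))).restrictScalars R)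
      (rho x I hx M R' b) = (sig x M).rTensor R' b := by
  induction b using TensorProduct.induction_on with
  | zero => simp
  | add a b ha hb => simp only [map_add, ha, hb]
  | tmul ξ c =>
    rw [rho_tmul, map_sum, LinearMap.rTensor_tmul, sig_apply, TensorProduct.sum_tmul]
    refine Finset.sum_congr rfl fun i _ => ?_
    rw [LinearMap.lTensor_tmul, TensorProduct.smul_tmul]
    congr 1
    simp [xi, Algebra.smul_def, mul_comm]

lemma rho_trivSpan (b : (Fin r → M) ⊗[R] R') (hb : b ∈ trivSpan x M R') :
    rho x I hx M R' b = 0 := by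
  classical
  refine Submodule.span_induction ?_ ?_ ?_ ?_ hb
  · rintro _ ⟨ρ, n, hρ, rfl⟩
    rw [map_sum]
    simp only [rho_tmul]
    have h1 : ∀ i : Fin r, ∑ j, (Pi.single i n : Fin r → M) j ⊗ₜ[R] (ρ i • xi x I (R' := R') hx j) =
        n ⊗ₜ[R] (ρ i • xi x I (R' := R') hx i) := by
      intro i
      rw [Finset.sum_eq_single i]
      · simp
      · intro j _ hj
        simp [Pi.single_eq_of_ne hj]
      · simp
    simp only [h1]
    rw [← TensorProduct.tmul_sum]
    have h2 : ∑ i, ρ i • xi x I (R' := R') hx i = 0 := by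
      ext
      simp only [xi, AddSubmonoidClass.coe_finsetSum, Submodule.coe_smul, smul_eq_mul,
        ZeroMemClass.coe_zero]
      rw [sig_apply] at hρ
      rw [← hρ]
      refine Finset.sum_congr rfl fun i _ => ?_
      rw [Algebra.smul_def, mul_comm]
    rw [h2, TensorProduct.tmul_zero]
  · simp
  · intro a b _ _ ha hb
    rw [map_add, ha, hb, add_zero]
  · intro c a _ ha
    rw [map_smul, ha, smul_zero]

lemma Theta_rho_ker
    (h3 : ∀ κ : Fin r → M, ∑ i, x i • κ i = 0 →
      ∑ i, fR (κ i) ⊗ₜ[R'] xi x I (R' := R') hx i = (0 : M' ⊗[R'] ↥(I.map (algebraMap R R'))))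
    (c : ↥(LinearMap.ker (sig x M)) ⊗[R] R') :
    Theta I M R' M' fR (rho x I hx M R' ((LinearMap.ker (sig x M)).subtype.rTensor R' c)) = 0 := by
  induction c using TensorProduct.induction_on with
  | zero => simp
  | add a b ha hb => simp only [map_add, ha, hb, add_zero]
  | tmul κ c =>
    rw [LinearMap.rTensor_tmul, rho_tmul, map_sum]
    simp only [Theta_tmul, Submodule.subtype_apply]
    have h := h3 κ.1 (by have := κ.2; rwa [LinearMap.mem_ker, sig_apply] at this)
    calc ∑ i, fR (κ.1 i) ⊗ₜ[R'] (c • xi x I (R' := R') hx i)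
        = c • ∑ i, fR (κ.1 i) ⊗ₜ[R'] xi x I (R' := R') hx i := by
          rw [Finset.smul_sum]
          refine Finset.sum_congr rfl fun i _ => ?_
          rw [TensorProduct.tmul_smul]
      _ = 0 := by rw [h, smul_zero]

include hx in
theorem Theta_eq_zero [Module.Flat (R ⧸ I) ((R ⧸ I) ⊗[R] M)]
    (h3 : ∀ κ : Fin r → M, ∑ i, x i • κ i = 0 →
      ∑ i, fR (κ i) ⊗ₜ[R'] xi x I (R' := R') hx i = (0 : M' ⊗[R'] ↥(I.map (algebraMap R R'))))
    (y : M ⊗[R] ↥(I.map (algebraMap R R')))
    (hy : LinearMap.lTensor M ((Submodule.subtype (I.map (algebraMap R R'))).restrictScalars R) y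
      = 0) :
    Theta I M R' M' fR y = 0 := by
  obtain ⟨b, rfl⟩ := rho_surjective x I hx M R' y
  rw [lTensor_rho] at hy
  have hb := rel_tensor_le x I hx M R' b hy
  obtain ⟨b₁, hb₁, b₂, hb₂, rfl⟩ := Submodule.mem_sup.1 hb
  obtain ⟨c, rfl⟩ := hb₁
  rw [map_add, map_add, Theta_rho_ker x I hx M R' M' fR h3 c, rho_trivSpan x I hx M R' b₂ hb₂,
    map_zero, add_zero]

end PartI

section Gamma

variable {R : Type u} [CommRing R] (R' : Type u) [CommRing R'] [Algebra R R']
  {M : Type u} [AddCommGroup M] [Module R M]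
  {P : Type u} [AddCommGroup P] [Module R P] [Module R' P] [IsScalarTower R R' P]
  (j : M →ₗ[R] P)
  (X : Type u) [AddCommGroup X] [Module R X] [Module R' X] [IsScalarTower R R' X]

/-- `M ⊗_R X → P ⊗_{R'} X` for a base change `j : M → P` along `R → R'`. -/
noncomputable def gamma : M ⊗[R] X →ₗ[R] P ⊗[R'] X :=
  (TensorProduct.mapOfCompatibleSMul R' R R P X) ∘ₗ (TensorProduct.map j LinearMap.id)

lemma gamma_tmul (m : M) (x : X) : gamma R' j X (m ⊗ₜ x) = j m ⊗ₜ x := rfl

variable {j}

theorem gamma_bijective (hj : IsBaseChange R' j) : Function.Bijective (gamma R' j X) := by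
  let δ : P ⊗[R'] X ≃ₗ[R] M ⊗[R] X :=
    ((TensorProduct.comm R' P X) ≪≫ₗ hj.tensorEquiv X).restrictScalars R ≪≫ₗ
      TensorProduct.comm R X M
  have h : ∀ y, δ (gamma R' j X y) = y := by
    intro y
    induction y using TensorProduct.induction_on with
    | zero => simp
    | add a b ha hb => simp only [map_add, ha, hb]
    | tmul m x =>
      simp [δ, gamma_tmul, IsBaseChange.tensorEquiv, IsBaseChange.equiv_symm_apply]
  have h2 : ⇑(gamma R' j X) = ⇑δ.symm := by
    funext y
    rw [← h y, LinearEquiv.symm_apply_apply, h y]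
  rw [h2]
  exact δ.symm.bijective

lemma gamma_natural {Y : Type u} [AddCommGroup Y] [Module R Y] [Module R' Y] [IsScalarTower R R' Y]
    (g : X →ₗ[R'] Y) (y : M ⊗[R] X) :
    LinearMap.lTensor P g (gamma R' j X y) =
      gamma R' j Y (LinearMap.lTensor M (g.restrictScalars R) y) := by
  induction y using TensorProduct.induction_on with
  | zero => simp
  | add a b ha hb => simp only [map_add, ha, hb]
  | tmul m x => simp [gamma_tmul]

end Gamma

theorem flat_baseChange_of_forall_rTensor_injective {A : Type u} [CommRing A] (J : Ideal A)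
    (N : Type u) [AddCommGroup N] [Module A N]
    (h : ∀ 𝔟 : Ideal (A ⧸ J),
      Function.Injective (LinearMap.rTensor N ((Submodule.subtype 𝔟).restrictScalars A))) :
    Module.Flat (A ⧸ J) ((A ⧸ J) ⊗[A] N) := by
  rw [Module.Flat.iff_rTensor_injective']
  intro 𝔟 z₁ z₂ hz
  apply (AlgebraTensorModule.cancelBaseChange A (A ⧸ J) (A ⧸ J) 𝔟 N).injective
  apply h 𝔟
  rw [cancel_natural_left J 𝔟.subtype z₁, cancel_natural_left J 𝔟.subtype z₂, hz]

theorem lTensor_injective_of_ker_killed {R' T : Type u} [CommRing R'] [CommRing T] [Algebra R' T]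
    {P M' : Type u} [AddCommGroup P] [Module T P] [Module R' P] [IsScalarTower R' T P]
    [AddCommGroup M'] [Module T M'] [Module R' M'] [IsScalarTower R' T M']
    (W : Submonoid T) (f' : P →ₗ[T] M') [IsLocalizedModule W f']
    {X Y : Type u} [AddCommGroup X] [Module R' X] [AddCommGroup Y] [Module R' Y] (g : X →ₗ[R'] Y)
    (hker : ∀ z : P ⊗[R'] X, LinearMap.lTensor P g z = 0 →
      (LinearMap.rTensor X (f'.restrictScalars R')) z = 0) :
    Function.Injective (LinearMap.lTensor M' g) := by
  have hk : ∀ z : P ⊗[R'] X, (AlgebraTensorModule.lTensor T P g) z = 0 → ∃ s ∈ W, s • z = 0 := by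
    intro z hz
    have h0 : (AlgebraTensorModule.rTensor R' X f') z = 0 := hker z hz
    obtain ⟨s, hs⟩ := (IsLocalizedModule.eq_zero_iff W (AlgebraTensorModule.rTensor R' X f')).1 h0
    exact ⟨s.1, s.2, hs⟩
  have h := map_injective_of_ker_killed W (AlgebraTensorModule.rTensor R' X f')
    (AlgebraTensorModule.rTensor R' Y f') (AlgebraTensorModule.lTensor T P g) hk
  rw [IsLocalizedModule.map_lTensor] at h
  exact h

section PartII

variable {R S R' S' T : Type u} [CommRing R] [CommRing S] [CommRing R'] [CommRing S'] [CommRing T]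
  [Algebra R S] [Algebra R R'] [Algebra S S'] [Algebra R' S'] [Algebra R S']
  [IsScalarTower R S S'] [IsScalarTower R R' S']
  [Algebra S T] [Algebra R' T] [Algebra R T] [IsScalarTower R S T] [IsScalarTower R R' T]
  [Algebra T S'] [IsScalarTower S T S'] [IsScalarTower R' T S']
  [SMulCommClass S R' T]
  (M : Type u) [AddCommGroup M] [Module S M] [Module R M] [IsScalarTower R S M]
  (M' : Type u) [AddCommGroup M'] [Module S' M'] [Module R' M'] [IsScalarTower R' S' M']
  [Module S M'] [IsScalarTower S S' M'] [Module R M'] [IsScalarTower R R' M'] [IsScalarTower R S M']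


/-- `M → T ⊗_S M` is a base change along `R → R'` when `T` is the pushout. -/
theorem isBaseChange_mk [Algebra.IsPushout R R' S T] :
    IsBaseChange R' ((TensorProduct.mk S T M 1).restrictScalars R) := by
  refine IsBaseChange.of_equiv (Algebra.IsPushout.cancelBaseChange R R' S T M).symm fun m => ?_
  rw [Algebra.IsPushout.cancelBaseChange_symm_tmul, map_one]
  rfl


theorem flat_of_pushout_localization [Algebra.IsPushout R R' S T]
    [IsLocalRing R'] [IsLocalRing S'] [IsNoetherianRing R'] [IsNoetherianRing S']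
    [IsLocalHom (algebraMap R' S')] [IsNoetherianRing R] [Module.Finite S M]
    (W : Submonoid T) [IsLocalization W S']
    (I : Ideal R) (hI' : I.map (algebraMap R R') ≠ ⊤)
    (f : M →ₗ[S] M') (hf : IsBaseChange S' f)
    (h2 : Module.Flat (R ⧸ I) ((R ⧸ I) ⊗[R] M))
    (h3 : ∀ x : ↥I ⊗[R] M, (Submodule.subtype I).rTensor M x = 0 →
      (TensorProduct.mapOfCompatibleSMul R' R R ↥(I.map (algebraMap R R')) M')
        ((TensorProduct.map (Algebra.idealMap R' I) (f.restrictScalars R)) x) = 0) :
    Module.Flat R' M' := by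
  classical
  -- `T`-module structure on `M'`
  letI : Module T M' := Module.compHom M' (algebraMap T S')
  haveI : IsScalarTower T S' M' := IsScalarTower.of_algebraMap_smul fun _ _ => rfl
  haveI : IsScalarTower S T M' := ⟨fun s t m => by
    show algebraMap T S' (s • t) • m = s • (algebraMap T S' t • m)
    rw [Algebra.smul_def, map_mul, ← IsScalarTower.algebraMap_apply S T S', mul_smul,
      algebraMap_smul]⟩
  haveI : IsScalarTower R' T M' := ⟨fun s t m => by
    show algebraMap T S' (s • t) • m = s • (algebraMap T S' t • m)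
    rw [Algebra.smul_def, map_mul, ← IsScalarTower.algebraMap_apply R' T S', mul_smul,
      algebraMap_smul]⟩
  -- the localization map `P → M'`
  let f' : T ⊗[S] M →ₗ[T] M' := (TensorProduct.isBaseChange S M T).lift f
  have hf'comp : (f'.restrictScalars S) ∘ₗ (TensorProduct.mk S T M 1) = f :=
    (TensorProduct.isBaseChange S M T).lift_comp f
  have hf'bc : IsBaseChange S' f' := by
    refine IsBaseChange.of_comp (TensorProduct.isBaseChange S M T) ?_
    rw [hf'comp]
    exact hf
  haveI hloc : IsLocalizedModule W f' := (isLocalizedModule_iff_isBaseChange W S' f').mpr hf'bc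
  haveI := h2
  -- generators of `I`
  obtain ⟨r, x, hx⟩ := (Submodule.fg_iff_exists_fin_generating_family).1
    (IsNoetherian.noetherian I)
  have hx : Ideal.span (Set.range x) = I := hx
  let j : M →ₗ[R] T ⊗[S] M := (TensorProduct.mk S T M 1).restrictScalars R
  have hj : IsBaseChange R' j := isBaseChange_mk M
  have hf'j : ∀ m, f' (j m) = f m := fun m => LinearMap.congr_fun hf'comp m
  -- `h3` in generator form
  have h3' : ∀ κ : Fin r → M, ∑ i, x i • κ i = 0 →
      ∑ i, (f.restrictScalars R) (κ i) ⊗ₜ[R'] xi x I (R' := R') hx i =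
        (0 : M' ⊗[R'] ↥(I.map (algebraMap R R'))) := by
    intro κ hκ
    have h := h3 (∑ i, (⟨x i, hx ▸ Ideal.subset_span (Set.mem_range_self i)⟩ : I) ⊗ₜ[R] κ i) (by
      rw [map_sum]
      simp only [LinearMap.rTensor_tmul, Submodule.subtype_apply]
      have : ∀ i, (x i) ⊗ₜ[R] κ i = (1 : R) ⊗ₜ[R] (x i • κ i) := fun i => by
        rw [← TensorProduct.smul_tmul, smul_eq_mul, mul_one]
      simp only [this]
      rw [← TensorProduct.tmul_sum, hκ, TensorProduct.tmul_zero])
    rw [map_sum, map_sum] at h
    have h' := congrArg (TensorProduct.comm R' ↥(I.map (algebraMap R R')) M') h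
    rw [map_sum, map_zero] at h'
    rw [← h']
    refine Finset.sum_congr rfl fun i _ => ?_
    rfl
  have hcomp : ∀ y : M ⊗[R] ↥(I.map (algebraMap R R')),
      (LinearMap.rTensor ↥(I.map (algebraMap R R')) (f'.restrictScalars R'))
        (gamma R' j ↥(I.map (algebraMap R R')) y) =
      Theta I M R' M' (f.restrictScalars R) y := by
    intro y
    induction y using TensorProduct.induction_on with
    | zero => simp
    | add a b ha hb => simp only [map_add, ha, hb]
    | tmul m a => simp [gamma_tmul, Theta_tmul, hf'j]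
  have hinj : Function.Injective
      (LinearMap.rTensor M' (Submodule.subtype (I.map (algebraMap R R')))) := by
    rw [← LinearMap.lTensor_inj_iff_rTensor_inj]
    refine lTensor_injective_of_ker_killed W f' (Submodule.subtype (I.map (algebraMap R R'))) ?_
    intro z hz
    obtain ⟨y, rfl⟩ := (gamma_bijective R' ↥(I.map (algebraMap R R')) hj).2 z
    have hy : LinearMap.lTensor M
        ((Submodule.subtype (I.map (algebraMap R R'))).restrictScalars R) y = 0 := by
      apply (gamma_bijective R' R' hj).1
      rw [← gamma_natural, map_zero]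
      exact hz
    rw [hcomp]
    exact Theta_eq_zero x I hx M R' M' (f.restrictScalars R) h3' y hy
  have hflat : Module.Flat (R' ⧸ I.map (algebraMap R R'))
      ((R' ⧸ I.map (algebraMap R R')) ⊗[R'] M') := by
    apply flat_baseChange_of_forall_rTensor_injective
    intro 𝔟
    rw [← LinearMap.lTensor_inj_iff_rTensor_inj]
    refine lTensor_injective_of_ker_killed W f' ((Submodule.subtype 𝔟).restrictScalars R') ?_
    intro z hz
    obtain ⟨y, rfl⟩ := (gamma_bijective R' ↥𝔟 hj).2 z
    have hM : Function.Injective (LinearMap.lTensor M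
        (((Submodule.subtype 𝔟).restrictScalars R').restrictScalars R)) := by
      refine lTensor_injective_of_flat_baseChange I ?_ ?_ _ (Subtype.val_injective)
      · intro b a
        rw [← algebraMap_smul R' (a : R) b]
        ext
        rw [Submodule.coe_smul_of_tower, ZeroMemClass.coe_zero]
        rw [Algebra.smul_def, Ideal.Quotient.algebraMap_eq,
          Ideal.Quotient.eq_zero_iff_mem.2 (Ideal.mem_map_of_mem _ a.2), zero_mul]
      · intro b a
        rw [← algebraMap_smul R' (a : R) b, Algebra.smul_def, Ideal.Quotient.algebraMap_eq,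
          Ideal.Quotient.eq_zero_iff_mem.2 (Ideal.mem_map_of_mem _ a.2), zero_mul]
    have hy : y = 0 := by
      apply hM
      rw [map_zero]
      apply (gamma_bijective R' (R' ⧸ I.map (algebraMap R R')) hj).1
      rw [← gamma_natural, map_zero]
      exact hz
    rw [hy, map_zero, map_zero]
  haveI : Module.Finite S' M' :=
    Module.Finite.equiv hf.equiv
  exact flat_of_isLocalHom (R := R') (S := S') (M := M') (I.map (algebraMap R R')) hI' hinj hflat


end PartII


/-- Let R → S, R → R', S → S' and R' → S' be local homomorphisms of Noetherian local rings forming a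
commutative square, I ⊊ R an ideal, M a finite S-module, I' = IR' and M' = M ⊗_S S' (given through a
base-change map f : M → M'). Assume (1) S' is a localization of S ⊗_R R' via the induced map, (2)
M/IM is flat over R/I, and (3) the map Tor_1^R(M, R/I) → Tor_1^{R'}(M', R'/I') is zero — with
Tor_1(−, R/I) computed as the kernel of I ⊗_R M → M, this says that every element of that kernel
goes to zero under the natural map I ⊗_R M → I' ⊗_{R'} M'. Then M' is flat over R'. -/
theorem result
    (R S R' S' : Type u) [CommRing R] [CommRing S] [CommRing R'] [CommRing S']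
    [IsLocalRing R] [IsLocalRing S] [IsLocalRing R'] [IsLocalRing S']
    [IsNoetherianRing R] [IsNoetherianRing S] [IsNoetherianRing R'] [IsNoetherianRing S']
    [Algebra R S] [Algebra R R'] [Algebra S S'] [Algebra R' S'] [Algebra R S']
    [IsScalarTower R S S'] [IsScalarTower R R' S']
    [IsLocalHom (algebraMap R S)] [IsLocalHom (algebraMap R R')] [IsLocalHom (algebraMap S S')]
    [IsLocalHom (algebraMap R' S')]
    (I : Ideal R) (hI : I ≠ ⊤) (M : Type u) [AddCommGroup M] [Module S M] [Module R M] [IsScalarTower R S M]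
    [Module.Finite S M]
    (M' : Type u) [AddCommGroup M'] [Module S' M'] [Module R' M'] [IsScalarTower R' S' M']
    [Module S M'] [IsScalarTower S S' M'] [Module R M'] [IsScalarTower R R' M'] [IsScalarTower R S M']
    (f : M →ₗ[S] M') (hf : IsBaseChange S' f)
    (h1 : ∃ W : Submonoid (S ⊗[R] R'),
      letI : Algebra (S ⊗[R] R') S' :=
        (Algebra.TensorProduct.lift (IsScalarTower.toAlgHom R S S') (IsScalarTower.toAlgHom R R' S')
          (fun s r => Commute.all _ _)).toRingHom.toAlgebra;
      IsLocalization W S')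
    (h2 : Module.Flat (R ⧸ I) ((R ⧸ I) ⊗[R] M))
    (h3 : ∀ x : ↥I ⊗[R] M, (Submodule.subtype I).rTensor M x = 0 →
      (TensorProduct.mapOfCompatibleSMul R' R R ↥(I.map (algebraMap R R')) M')
        ((TensorProduct.map (Algebra.idealMap R' I) (f.restrictScalars R)) x) = 0) :
    Module.Flat R' M' := by
  obtain ⟨W, hW⟩ := h1
  letI : Algebra R' (S ⊗[R] R') := Algebra.TensorProduct.rightAlgebra
  letI algTS' : Algebra (S ⊗[R] R') S' :=
    (Algebra.TensorProduct.lift (IsScalarTower.toAlgHom R S S') (IsScalarTower.toAlgHom R R' S')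
      (fun s r => Commute.all _ _)).toRingHom.toAlgebra
  haveI : IsLocalization W S' := hW
  haveI : IsScalarTower S (S ⊗[R] R') S' := IsScalarTower.of_algebraMap_eq fun s => by
    show algebraMap S S' s = (Algebra.TensorProduct.lift (IsScalarTower.toAlgHom R S S')
      (IsScalarTower.toAlgHom R R' S') (fun s r => Commute.all _ _)) (s ⊗ₜ 1)
    simp
  haveI : IsScalarTower R' (S ⊗[R] R') S' := IsScalarTower.of_algebraMap_eq fun s => by
    show algebraMap R' S' s = (Algebra.TensorProduct.lift (IsScalarTower.toAlgHom R S S')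
      (IsScalarTower.toAlgHom R R' S') (fun s r => Commute.all _ _)) (1 ⊗ₜ s)
    simp
  have hI' : I.map (algebraMap R R') ≠ ⊤ := by
    intro htop
    have h1 : I ≤ IsLocalRing.maximalIdeal R := IsLocalRing.le_maximalIdeal hI
    have h2 : I.map (algebraMap R R') ≤ IsLocalRing.maximalIdeal R' := by
      refine (Ideal.map_mono h1).trans ?_
      rw [Ideal.map_le_iff_le_comap]
      intro x hx
      rw [Ideal.mem_comap, IsLocalRing.mem_maximalIdeal, mem_nonunits_iff] at *
      exact fun h => hx (isUnit_of_map_unit (algebraMap R R') x h)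
    rw [htop] at h2
    exact (IsLocalRing.maximalIdeal.isMaximal R').ne_top (top_le_iff.1 h2)
  exact flat_of_pushout_localization (T := S ⊗[R] R') M M' W I hI' f hf h2 h3

end Groth.Agent.S12233
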