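import Groth.Statements.S1224
import Mathlib.RingTheory.Ideal.GoingUp
import Mathlib.RingTheory.IntegralClosure.IsIntegralClosure.Basic

set_option autoImplicit false
universe u
open FlatMor

namespace Groth.Agent.S1224

open TensorProduct

/-- base change of a finite quotient stays finite -/
theorem finite_quotient_map {A B A' B' : Type u} [CommRing A] [CommRing B] [Algebra A B]
    [CommRing A'] [CommRing B'] [Algebra A A'] [Algebra B B'] [Algebra A' B'] [Algebra A B']
    [IsScalarTower A B B'] [IsScalarTower A A' B'] (hpush : Algebra.IsPushout A B A' B')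
    (I : Ideal B) [Module.Finite A (B ⧸ I)] :
    Module.Finite A' (B' ⧸ I.map (algebraMap B B')) := by
  let J := I.map (algebraMap B B')
  let g : B ⧸ I →ₐ[A] B' ⧸ J :=
    Ideal.quotientMapₐ J (IsScalarTower.toAlgHom A B B') Ideal.le_comap_map
  let G : A' ⊗[A] (B ⧸ I) →ₗ[A'] B' ⧸ J := LinearMap.liftBaseChange A' g.toLinearMap
  refine Module.Finite.of_surjective G ?_
  intro y
  obtain ⟨x, rfl⟩ := Ideal.Quotient.mk_surjective y
  have hbc : IsBaseChange A' (IsScalarTower.toAlgHom A B B').toLinearMap := hpush.symm.out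
  induction x using hbc.inductionOn with
  | zero => exact ⟨0, by simp⟩
  | tmul b =>
    refine ⟨1 ⊗ₜ Ideal.Quotient.mk I b, ?_⟩
    simp only [G, g, LinearMap.liftBaseChange_tmul, one_smul, AlgHom.toLinearMap_apply]
    rfl
  | smul a' x hx =>
    obtain ⟨z, hz⟩ := hx
    refine ⟨a' • z, ?_⟩
    rw [map_smul, hz]
    rfl
  | add x₁ x₂ h₁ h₂ =>
    obtain ⟨z₁, hz₁⟩ := h₁
    obtain ⟨z₂, hz₂⟩ := h₂
    exact ⟨z₁ + z₂, by rw [map_add, hz₁, hz₂, map_add]⟩

theorem comap_fiberIdeal_le {A' B' : Type u} [CommRing A'] [CommRing B'] [Algebra A' B']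
    (t' : Ideal A') [t'.IsPrime] (P : Ideal B') [P.IsPrime] [hP : P.LiesOver t'] :
    (FlatCA.fiberIdeal t' P).comap
      (Algebra.TensorProduct.includeRight (R := A') (A := t'.ResidueField) (B := B')).toRingHom ≤ P := by
  let P₀ : PrimeSpectrum.comap (algebraMap A' B') ⁻¹' {⟨t', inferInstance⟩} :=
    ⟨⟨P, inferInstance⟩, by
      simp only [Set.mem_preimage, Set.mem_singleton_iff]
      exact PrimeSpectrum.ext (hP.over).symm⟩
  let Q₀ := PrimeSpectrum.preimageEquivFiber A' B' ⟨t', inferInstance⟩ P₀
  have hQ : FlatCA.fiberIdeal t' P ≤ Q₀.asIdeal := by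
    rw [FlatCA.fiberIdeal, Ideal.map_le_iff_le_comap]
    intro b hb
    rw [Ideal.mem_comap]
    change (Algebra.TensorProduct.includeRight (R := A') (A := t'.ResidueField) (B := B')) b ∈
      RingHom.ker (Algebra.TensorProduct.lift
        (Ideal.ResidueField.mapₐ t' P (Algebra.ofId _ _) _)
        (IsScalarTower.toAlgHom _ _ _) fun _ _ ↦ .all _ _).toRingHom
    rw [RingHom.mem_ker]
    simpa [Ideal.algebraMap_residueField_eq_zero] using hb
  have h1 := Ideal.comap_mono (f := (Algebra.TensorProduct.includeRight (R := A')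
    (A := t'.ResidueField) (B := B')).toRingHom) hQ
  refine h1.trans ?_
  have h2 := (PrimeSpectrum.preimageEquivFiber A' B' ⟨t', inferInstance⟩).symm_apply_apply P₀
  have h3 : ((PrimeSpectrum.preimageEquivFiber A' B' ⟨t', inferInstance⟩).symm Q₀).1.asIdeal = P := by
    rw [h2]
  rw [← h3]
  rfl

attribute [local instance] Algebra.TensorProduct.rightAlgebra

theorem ann_fiber' {A' B' N' : Type u} [CommRing A'] [CommRing B'] [Algebra A' B'] [AddCommGroup N']
    [Module B' N'] (t' : Ideal A') [t'.IsPrime] (a' : B') (h : ∀ n' : N', a' • n' = 0)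
    (x : (t'.Fiber B') ⊗[B'] N') :
    (Algebra.TensorProduct.includeRight (R := A') (A := t'.ResidueField) (B := B') a') • x = 0 := by
  induction x with
  | zero => rw [smul_zero]
  | add x y hx hy => rw [smul_add, hx, hy, add_zero]
  | tmul c n' =>
    rw [TensorProduct.smul_tmul', smul_eq_mul]
    have : Algebra.TensorProduct.includeRight (R := A') (A := t'.ResidueField) (B := B') a' * c
        = a' • c := by
      rw [Algebra.smul_def]
      rfl
    rw [this, TensorProduct.smul_tmul, h, TensorProduct.tmul_zero]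

theorem ann_fiber {A' B' N' : Type u} [CommRing A'] [CommRing B'] [Algebra A' B'] [AddCommGroup N']
    [Module B' N'] (t' : Ideal A') [t'.IsPrime] (a' : B') (h : ∀ n' : N', a' • n' = 0)
    (x : FlatCA.fiberMod t' B' N') :
    (Algebra.TensorProduct.includeRight (R := A') (A := t'.ResidueField) (B := B') a') • x = 0 :=
  ann_fiber' t' a' h x


/-- Ring form, X = Spec B affine, where proper support means finite support: let B be a finite type
A-algebra and N a finite B-module such that B modulo the annihilator of N is finite over A. Then N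
is universally pure relative to Spec A. -/
theorem result {A B : Type u} [CommRing A] [CommRing B] [Algebra A B] [Algebra.FiniteType A B]
    (N : Type u) [AddCommGroup N] [Module B N] [Module A N] [IsScalarTower A B N] [Module.Finite B N]
    [Module.Finite A (B ⧸ Module.annihilator B N)] : FlatCA.IsUnivPure A B N := by
  intro p _ A' B' N' _ _ _ _ _ _ _ _ _ _ _ _ _ _ f t' t _ _ P _ himp
  obtain ⟨hpush, hbc, hle, htp, hPt', hass, hno⟩ := himp
  -- Step 1: the extension of the annihilator lies in `P`
  have hJP : (Module.annihilator B N).map (algebraMap B B') ≤ P := by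
    rw [Ideal.map_le_iff_le_comap]
    intro a ha
    rw [Ideal.mem_comap]
    have hann : ∀ n' : N', (algebraMap B B' a) • n' = 0 := by
      intro n'
      induction n' using hbc.inductionOn with
      | zero => rw [smul_zero]
      | tmul n =>
        rw [algebraMap_smul, ← map_smul, Module.mem_annihilator.mp ha n, map_zero]
      | smul b' n' hn' => rw [smul_comm, hn', smul_zero]
      | add n₁ n₂ h₁ h₂ => rw [smul_add, h₁, h₂, add_zero]
    obtain ⟨hQprime, x, hx⟩ := hass
    apply comap_fiberIdeal_le t' P
    rw [Ideal.mem_comap, hx]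
    apply Ideal.le_radical
    rw [Submodule.mem_colon_singleton, Submodule.mem_bot]
    exact ann_fiber t' _ hann x
  -- Step 2: finiteness after base change
  have hfin : Module.Finite A' (B' ⧸ (Module.annihilator B N).map (algebraMap B B')) :=
    finite_quotient_map hpush _
  have hint : Algebra.IsIntegral A' (B' ⧸ (Module.annihilator B N).map (algebraMap B B')) :=
    Algebra.IsIntegral.of_finite _ _
  -- Step 3: going up
  set J := (Module.annihilator B N).map (algebraMap B B') with hJ
  have hcomap : (P.map (Ideal.Quotient.mk J)).comap (algebraMap A' (B' ⧸ J)) ≤ t := by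
    intro a ha
    rw [Ideal.mem_comap, IsScalarTower.algebraMap_apply A' B' (B' ⧸ J), Ideal.Quotient.algebraMap_eq,
      ← Ideal.mem_comap, Ideal.comap_map_of_surjective _ Ideal.Quotient.mk_surjective,
      ← RingHom.ker_eq_comap_bot, Ideal.mk_ker, sup_eq_left.mpr hJP] at ha
    apply hle
    rw [hPt'.over]
    exact ha
  obtain ⟨Q, hPQ, hQprime, hQt⟩ := Ideal.exists_ideal_over_prime_of_isIntegral t _ hcomap
  have hprime : (Q.comap (Ideal.Quotient.mk J)).IsPrime := Ideal.comap_isPrime _ _
  refine hno (Q.comap (Ideal.Quotient.mk J)) ?_ ⟨?_⟩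
  · intro b hb
    rw [Ideal.mem_comap]
    exact hPQ (Ideal.mem_map_of_mem _ hb)
  · rw [← hQt, Ideal.under_def, Ideal.comap_comap]
    congr 1

end Groth.Agent.S1224
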