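import Groth.Statements.S12724
import Groth.Agent.Lib.Helper76.ArtFibre
-- import your own Groth.Agent.* helpers here

set_option autoImplicit false
universe u v
open CategoryTheory
open ArtFun

namespace Groth.Agent.S12724

open Groth.Agent.Lib.Helper76 ArtFun.Art in
theorem result' {Λ : Type u} {k : Type u} [CommRing Λ] [Field k] [Algebra Λ k]
    [IsNoetherianRing Λ] [Module.Finite Λ k]
    (F : ArtFun.Art Λ k ⥤ Type v) : ArtFun.S1 F ↔ ArtFun.Hbar F := by
  constructor
  · intro h B A A' A'' p' p'' f' f'' hfp hsm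
    exact h p' p'' f' f'' hfp hsm.1
  · intro hbar B A A' A'' p' p'' f' f'' hfp hsurj
    have key := surjective_induction (Λ := Λ) (k := k)
      (fun A A'' f'' => Function.Surjective f'' ∧
        ∀ ⦃B A' : Art Λ k⦄ (p' : B ⟶ A') (p'' : B ⟶ A'') (f' : A' ⟶ A)
          (hfp : IsFibreProd p' p'' f' f''), Function.Surjective (cmp F hfp)) ?_ ?_ ?_ f'' hsurj
    · exact key.2 p' p'' f' hfp
    · -- isomorphisms
      intro A A'' e he
      refine ⟨(bijective_of_isIso e).2, ?_⟩
      intro B A' p' p'' f' hfp y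
      have hbij : Function.Bijective p' := by
        refine ⟨?_, fp_fst_surjective hfp (bijective_of_isIso e).2⟩
        intro b₁ b₂ hb
        apply hfp.inj _ _ hb
        apply (bijective_of_isIso e).1
        rw [← hfp.w_apply, ← hfp.w_apply, hb]
      have : IsIso p' := isIso_of_bijective p' hbij
      have hcomp : inv p' ≫ p'' = f' ≫ inv e := by
        rw [IsIso.inv_comp_eq, ← Category.assoc, IsIso.eq_comp_inv, hfp.w]
      refine ⟨F.map (inv p') y.1.1, Subtype.ext (Prod.ext ?_ ?_)⟩
      · show F.map p' (F.map (inv p') y.1.1) = y.1.1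
        rw [← Functor.map_comp_apply, IsIso.inv_hom_id, Functor.map_id_apply]
      · show F.map p'' (F.map (inv p') y.1.1) = y.1.2
        rw [← Functor.map_comp_apply, hcomp, Functor.map_comp_apply, y.2,
          ← Functor.map_comp_apply, IsIso.hom_inv_id, Functor.map_id_apply]
    · -- small extensions
      intro A A'' p hp
      exact ⟨hp.1, fun B A' p' p'' f' hfp => hbar p' p'' f' p hfp hp⟩
    · -- composition
      intro A C A'' r q ⟨hr, hr'⟩ ⟨hq, hq'⟩
      refine ⟨fun a => ?_, ?_⟩
      · obtain ⟨c, rfl⟩ := hq a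
        obtain ⟨a'', rfl⟩ := hr c
        exact ⟨a'', rfl⟩
      intro B A' p' p'' f' hfp y
      -- intermediate fibre product
      let B₁ := fibreProd f' q hq
      have h₁ := isFibreProd_fibreProd f' q hq
      have hw : p' ≫ f' = (p'' ≫ r) ≫ q := by rw [Category.assoc]; exact hfp.w
      let t : B ⟶ B₁ := fp_lift h₁ p' (p'' ≫ r) hw
      have ht' : t ≫ fibreProdFst f' q hq = p' := fp_lift_fst h₁ _ _ hw
      have ht'' : t ≫ fibreProdSnd f' q hq = p'' ≫ r := fp_lift_snd h₁ _ _ hw
      have h₂ := fp_paste hfp r q rfl h₁ t ht' ht''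
      -- lift in two steps
      have hy : F.map f' y.1.1 = F.map q (F.map r y.1.2) := by
        rw [y.2, Functor.map_comp_apply]
      obtain ⟨b₁, hb₁⟩ := hq' _ _ f' h₁ ⟨(y.1.1, F.map r y.1.2), hy⟩
      have hb₁' : F.map (fibreProdFst f' q hq) b₁ = y.1.1 := congrArg (fun t => t.1.1) hb₁
      have hb₁'' : F.map (fibreProdSnd f' q hq) b₁ = F.map r y.1.2 :=
        congrArg (fun t => t.1.2) hb₁
      obtain ⟨b, hb⟩ := hr' _ _ _ h₂ ⟨(b₁, y.1.2), hb₁''⟩
      have hb' : F.map t b = b₁ := congrArg (fun t => t.1.1) hb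
      have hb'' : F.map p'' b = y.1.2 := congrArg (fun t => t.1.2) hb
      refine ⟨b, Subtype.ext (Prod.ext ?_ hb'')⟩
      show F.map p' b = y.1.1
      rw [← ht', Functor.map_comp_apply, hb', hb₁']

/-- For functors, condition (S1) on a functor F on Artinian local Λ-algebras with residue field k
(surjectivity of F(A₁ ×_A A₂) → F(A₁) ×_{F(A)} F(A₂) for A₂ → A surjective) is equivalent to the
same condition restricted to small extensions A₂ → A. -/
theorem result {Λ : Type u} {k : Type u} [CommRing Λ] [Field k] [Algebra Λ k]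
    [IsNoetherianRing Λ] [Module.Finite Λ k]
    (F : ArtFun.Art Λ k ⥤ Type v) : ArtFun.S1 F ↔ ArtFun.Hbar F := result' F

end Groth.Agent.S12724
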