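import Groth.Statements.S12248
import Groth.Agent.S12734
import Groth.Agent.S12724
-- import your own Groth.Agent.* helpers here

set_option autoImplicit false
universe u v
open CategoryTheory
open Deform

namespace Groth.Agent.S12248

theorem algebraMap_surjective_of_tower {k Λ : Type u} [Field k] [CommRing Λ] [Algebra k Λ]
    [Algebra Λ k] [IsScalarTower k Λ k] : Function.Surjective (algebraMap Λ k) := by
  intro a
  refine ⟨algebraMap k Λ a, ?_⟩
  rw [← IsScalarTower.algebraMap_apply]
  rfl

theorem subsingleton_derivation_of_surjective {k Λ : Type u} [Field k] [CommRing Λ] [Algebra Λ k]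
    (h : Function.Surjective (algebraMap Λ k)) : Subsingleton (Derivation Λ k k) := by
  refine ⟨fun D D' => ?_⟩
  apply Derivation.ext
  intro a
  obtain ⟨l, rfl⟩ := h a
  rw [D.map_algebraMap, D'.map_algebraMap]

open Groth.Agent.Lib.Helper76 ArtFun ArtFun.Art in
theorem aux {k Λ : Type u} [Field k] [CommRing Λ] [IsNoetherianRing Λ] [Algebra Λ k]
    (hsurj : Function.Surjective (algebraMap Λ k))
    (F : ArtFun.Art Λ k ⥤ Type v) [ArtFun.TangentStr F] (h0 : ArtFun.H0 F) :
    ArtFun.IsProrepresentable F ↔
      (ArtFun.Hbar F ∧ ArtFun.Heps F ∧ ArtFun.Hfin F ∧ ArtFun.HSq F) := by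
  have : Module.Finite Λ k := Module.Finite.of_surjective (Algebra.linearMap Λ k) hsurj
  have hk := subsingleton_derivation_of_surjective hsurj
  constructor
  · intro hF
    obtain ⟨-, hle, h3, -⟩ := Groth.Agent.S12734.conditions_of_prorep F hF
    exact ⟨fun B A A' A'' p' p'' f' f'' h _ => (hle p' p'' f' f'' h).2,
      fun B A' p' p'' h => hle p' p'' _ _ h, h3, fun B A A' p₁ p₂ f h _ => hle p₁ p₂ f f h⟩
  · rintro ⟨hbar, h2, h3, hsq⟩
    have h1 : S1 F := (Groth.Agent.S12724.result' F).2 hbar
    exact Groth.Agent.S12734.prorep_of_conditions F h0 h1 h2 h3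
      (fun B A A' p₁ p₂ f h hf => (hsq p₁ p₂ f h hf).1)
      (fun _ σ _ => hom_base_dual_eq hk σ)

/-- Let k be an algebraically closed field, Λ a complete local Noetherian k-algebra with residue field
k, and F a set-valued functor on local Artinian Λ-algebras with residue field k such that F(k) is a
single point, with its k-vector-space structure on F(k[ε]) given as data compatible with ε ↦ cε and
(ε₁, ε₂) ↦ (ε, ε). Then F is prorepresentable (by a complete local Noetherian Λ-algebra with residue
field k) if and only if: the comparison map F(A' ×_A A'') → F(A') ×_{F(A)} F(A'') is surjective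
whenever A'' → A is a small extension; it is bijective whenever A = k and A'' = k[ε]; F(k[ε]) is
finite-dimensional; and the comparison map F(A' ×_A A') → F(A') ×_{F(A)} F(A') is bijective for
every small extension A' → A. -/
theorem result
    {k Λ : Type u} [Field k] [IsAlgClosed k] [CommRing Λ] [IsLocalRing Λ] [IsNoetherianRing Λ]
    [IsAdicComplete (IsLocalRing.maximalIdeal Λ) Λ] [Algebra k Λ] [Algebra Λ k] [IsScalarTower k Λ k]
    (F : ArtFun.Art Λ k ⥤ Type v) [ArtFun.TangentStr F] (h0 : ArtFun.H0 F) :
    ArtFun.IsProrepresentable F ↔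
      (ArtFun.Hbar F ∧ ArtFun.Heps F ∧ ArtFun.Hfin F ∧ ArtFun.HSq F) := aux algebraMap_surjective_of_tower F h0

end Groth.Agent.S12248
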