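import Groth.Statements.S12249
import Mathlib

set_option autoImplicit false
universe u v
open CategoryTheory
open Deform

namespace Groth.Agent.S12249

section
variable {k : Type u} [Field k] (R : ArtFun.CRing k k)

theorem mem_max_iff (r : R.carrier) :
    r ∈ IsLocalRing.maximalIdeal R.carrier ↔ R.res r = 0 := by
  have hmax : (RingHom.ker (R.res : R.carrier →+* k)).IsMaximal :=
    RingHom.ker_isMaximal_of_surjective (R.res : R.carrier →+* k) R.res_surjective
  rw [← IsLocalRing.eq_maximalIdeal hmax, RingHom.mem_ker]
  rfl

theorem res_algebraMap (c : k) : R.res (algebraMap k R.carrier c) = c := by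
  rw [AlgHom.commutes]
  rfl

theorem sub_mem_max (r : R.carrier) :
    r - algebraMap k R.carrier (R.res r) ∈ IsLocalRing.maximalIdeal R.carrier := by
  rw [mem_max_iff, map_sub, res_algebraMap, sub_self]

/-- the algebra map to the dual numbers attached to a functional killing the square of the
maximal ideal -/
noncomputable def dualHom (f : R.carrier →ₗ[k] k)
    (hf : ∀ x ∈ IsLocalRing.maximalIdeal R.carrier, ∀ y ∈ IsLocalRing.maximalIdeal R.carrier,
      f (x * y) = 0) : R.carrier →ₐ[k] DualNumber k where
  toFun r := (R.res r, f (r - algebraMap k R.carrier (R.res r)))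
  map_one' := TrivSqZeroExt.ext (map_one R.res) (by
    change f (1 - algebraMap k R.carrier (R.res 1)) = 0
    rw [map_one, map_one, sub_self, map_zero])
  map_mul' r s := TrivSqZeroExt.ext (map_mul R.res r s) (by
    change f (r * s - algebraMap k R.carrier (R.res (r * s))) =
      R.res r • f (s - algebraMap k R.carrier (R.res s)) +
        MulOpposite.op (R.res s) • f (r - algebraMap k R.carrier (R.res r))
    rw [op_smul_eq_smul]
    have e : r * s - algebraMap k R.carrier (R.res (r * s)) =
        R.res r • (s - algebraMap k R.carrier (R.res s)) +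
          R.res s • (r - algebraMap k R.carrier (R.res r)) +
          (r - algebraMap k R.carrier (R.res r)) * (s - algebraMap k R.carrier (R.res s)) := by
      rw [map_mul, map_mul, Algebra.smul_def, Algebra.smul_def]
      ring
    rw [e, map_add, map_add, map_smul, map_smul, hf _ (sub_mem_max R r) _ (sub_mem_max R s),
      add_zero])
  map_zero' := TrivSqZeroExt.ext (map_zero R.res) (by
    change f (0 - algebraMap k R.carrier (R.res 0)) = 0
    rw [map_zero, map_zero, sub_self, map_zero])
  map_add' r s := TrivSqZeroExt.ext (map_add R.res r s) (by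
    change f (r + s - algebraMap k R.carrier (R.res (r + s))) =
      f (r - algebraMap k R.carrier (R.res r)) + f (s - algebraMap k R.carrier (R.res s))
    rw [← map_add]
    congr 1
    rw [map_add, map_add]
    ring)
  commutes' c := TrivSqZeroExt.ext (res_algebraMap R c) (by
    change f (algebraMap k R.carrier c - algebraMap k R.carrier (R.res (algebraMap k R.carrier c))) = 0
    rw [res_algebraMap, sub_self, map_zero])

theorem max_eq_bot (h : Subsingleton (ArtFun.HomSet R.carrier R.res (ArtFun.Art.dual k k))) :
    IsLocalRing.maximalIdeal R.carrier = ⊥ := by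
  have hle : IsLocalRing.maximalIdeal R.carrier ≤
      IsLocalRing.maximalIdeal R.carrier * IsLocalRing.maximalIdeal R.carrier := by
    intro x hx
    by_contra hx2
    let p : Submodule k R.carrier :=
      (IsLocalRing.maximalIdeal R.carrier * IsLocalRing.maximalIdeal R.carrier).restrictScalars k
    have hxp : x ∉ p := hx2
    obtain ⟨f, hfx, hfp⟩ := Submodule.exists_dual_map_eq_bot_of_notMem hxp inferInstance
    have hf : ∀ a ∈ IsLocalRing.maximalIdeal R.carrier, ∀ b ∈ IsLocalRing.maximalIdeal R.carrier,
        f (a * b) = 0 := by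
      intro a ha b hb
      have hab' : a * b ∈ IsLocalRing.maximalIdeal R.carrier * IsLocalRing.maximalIdeal R.carrier :=
        Ideal.mul_mem_mul ha hb
      have hab : a * b ∈ p := hab'
      have : f (a * b) ∈ p.map f := Submodule.mem_map_of_mem hab
      rw [hfp] at this
      exact this
    have hf0 : ∀ a ∈ IsLocalRing.maximalIdeal R.carrier, ∀ b ∈ IsLocalRing.maximalIdeal R.carrier,
        (0 : R.carrier →ₗ[k] k) (a * b) = 0 := fun _ _ _ _ => rfl
    let φ1 : ArtFun.HomSet R.carrier R.res (ArtFun.Art.dual k k) :=
      ⟨dualHom R f hf, AlgHom.ext fun _ => rfl⟩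
    let φ0 : ArtFun.HomSet R.carrier R.res (ArtFun.Art.dual k k) :=
      ⟨dualHom R 0 hf0, AlgHom.ext fun _ => rfl⟩
    have h10 : φ1 = φ0 := Subsingleton.elim _ _
    have h2 := congrArg (fun t => TrivSqZeroExt.snd (t.1 x)) h10
    change f (x - algebraMap k R.carrier (R.res x)) =
      (0 : R.carrier →ₗ[k] k) (x - algebraMap k R.carrier (R.res x)) at h2
    rw [(mem_max_iff R x).mp hx, map_zero, sub_zero] at h2
    exact hfx h2
  have hfg : (IsLocalRing.maximalIdeal R.carrier).FG := IsNoetherian.noetherian _
  have hle' : IsLocalRing.maximalIdeal R.carrier ≤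
      IsLocalRing.maximalIdeal R.carrier • IsLocalRing.maximalIdeal R.carrier := by
    rw [smul_eq_mul]
    exact hle
  exact Submodule.eq_bot_of_le_smul_of_le_jacobson_bot _ _ hfg hle'
    (IsLocalRing.jacobson_eq_maximalIdeal ⊥ bot_ne_top).ge

theorem eq_algebraMap (hm : IsLocalRing.maximalIdeal R.carrier = ⊥) (r : R.carrier) :
    r = algebraMap k R.carrier (R.res r) := by
  have := sub_mem_max R r
  rw [hm, Ideal.mem_bot, sub_eq_zero] at this
  exact this

theorem homSet_subsingleton (hm : IsLocalRing.maximalIdeal R.carrier = ⊥) (A : ArtFun.Art k k) :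
    Subsingleton (ArtFun.HomSet R.carrier R.res A) := by
  refine ⟨fun φ ψ => Subtype.ext (AlgHom.ext fun r => ?_)⟩
  rw [eq_algebraMap R hm r, AlgHom.commutes, AlgHom.commutes]

noncomputable def homSet_default (A : ArtFun.Art k k) : ArtFun.HomSet R.carrier R.res A :=
  ⟨(Algebra.ofId k A).comp R.res, AlgHom.ext fun r => by
    change A.res (algebraMap k A (R.res r)) = R.res r
    rw [AlgHom.commutes]
    rfl⟩

end


/-- Let k be an algebraically closed field and F a set-valued functor on local Artinian k-algebras with
residue field k such that F(k) is a single point. If F has a semiuniversal formal element and its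
tangent space F(k[ε]) is reduced to one element, then F(A) consists of exactly one element for every
A: F is the constant one-point functor h_k. -/
theorem result
    {k : Type u} [Field k] [IsAlgClosed k]
    (F : ArtFun.Art k k ⥤ Type v) (h0 : ArtFun.H0 F) (hF : ArtFun.HasHull F)
    (ht : Subsingleton (ArtFun.TangentSpace F)) (A : ArtFun.Art k k) :
    Nonempty (F.obj A) ∧ Subsingleton (F.obj A) := by
  obtain ⟨⟨R, ξ, hv, hb⟩⟩ := hF
  have hsub : Subsingleton (ArtFun.HomSet R.carrier R.res (ArtFun.Art.dual k k)) := by
    refine ⟨fun a b => hb.1 ?_⟩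
    exact ht.elim (ξ.app _ a : ArtFun.TangentSpace F) (ξ.app _ b)
  have hm := max_eq_bot R hsub
  have hss := homSet_subsingleton R hm A
  refine ⟨⟨ξ.app A (homSet_default R A)⟩, ⟨fun y y' => ?_⟩⟩
  have hs := h0.2
  have hsurj : Function.Surjective (ArtFun.Art.toBase A) := A.res_surjective
  obtain ⟨ψ, -, hψ⟩ := hv (ArtFun.Art.toBase A) hsurj (homSet_default R _) y (Subsingleton.elim _ _)
  obtain ⟨ψ', -, hψ'⟩ := hv (ArtFun.Art.toBase A) hsurj (homSet_default R _) y' (Subsingleton.elim _ _)
  rw [← hψ, ← hψ', Subsingleton.elim ψ ψ']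

end Groth.Agent.S12249
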