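import Groth.Statements.S12251
import Mathlib

set_option autoImplicit false
universe u v
open CategoryTheory
open Deform

namespace Groth.Agent.S12251

/-- Let k be an algebraically closed field, Λ a complete local Noetherian k-algebra with residue field
k, F and G set-valued functors on local Artinian Λ-algebras with residue field k with F(k) and G(k)
single points, and f : F → G a smooth morphism of functors. Then F is a smooth functor, i.e. F(B) →
F(A) is surjective for every surjection B → A, if and only if G is a smooth functor. -/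
theorem result
    {k Λ : Type u} [Field k] [IsAlgClosed k] [CommRing Λ] [IsLocalRing Λ] [IsNoetherianRing Λ]
    [IsAdicComplete (IsLocalRing.maximalIdeal Λ) Λ] [Algebra k Λ] [Algebra Λ k] [IsScalarTower k Λ k]
    {F G : ArtFun.Art Λ k ⥤ Type v} (η : F ⟶ G) (hη : ArtFun.IsSmooth η)
    (hF : ArtFun.H0 F) (hG : ArtFun.H0 G) :
    ArtFun.IsSmoothFunctor F ↔ ArtFun.IsSmoothFunctor G := by
  constructor
  · intro sF B A μ hμ y
    have hsurj : Function.Surjective (ArtFun.Art.toBase A) := A.res_surjective
    obtain ⟨x0⟩ := hF.1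
    have hG' := hG.2
    have hrel : η.app (ArtFun.Art.base Λ k) x0 = G.map (ArtFun.Art.toBase A) y :=
      Subsingleton.elim _ _
    obtain ⟨x, hx⟩ := hη (ArtFun.Art.toBase A) hsurj ⟨(x0, y), hrel⟩
    have hx2 : η.app A x = y := congrArg (fun t => t.1.2) hx
    obtain ⟨x', hx'⟩ := sF μ hμ x
    refine ⟨η.app B x', ?_⟩
    rw [← hx2, ← hx']
    exact (NatTrans.naturality_apply η μ x').symm
  · intro sG B A μ hμ x
    obtain ⟨y', hy'⟩ := sG μ hμ (η.app A x)
    obtain ⟨z, hz⟩ := hη μ hμ ⟨(x, y'), hy'.symm⟩
    exact ⟨z, congrArg (fun t => t.1.1) hz⟩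

end Groth.Agent.S12251
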