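import Groth.Statements.S12252
import Mathlib
import Groth.Agent.S12250

set_option autoImplicit false
universe u v
open CategoryTheory
open Deform

namespace Groth.Agent.S12252

section
open ArtFun Groth.Agent.S12250
variable {Λ : Type u} {k : Type u} [CommRing Λ] [Field k] [Algebra Λ k]
variable {F : ArtFun.Art Λ k ⥤ Type v}
variable (R S : ArtFun.CRing Λ k) (ξ : ArtFun.Family R.carrier R.res F) (hξ : ArtFun.IsUniversal ξ)
  (ζ : ArtFun.Family S.carrier S.res F)

/-- transition maps between truncations -/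
noncomputable def tr {m n : ℕ} (hmn : m ≤ n) : S.trunc n ⟶ S.trunc m :=
  fac S (S.truncHom m) n (le_ker_mono S (S.truncHom m) hmn (truncHom_le_ker S m))

theorem tr_truncHom {m n : ℕ} (hmn : m ≤ n) :
    ArtFun.HomSet.map (tr S hmn) (S.truncHom n) = S.truncHom m :=
  map_fac_truncHom S _ _ _

theorem tr_mk {m n : ℕ} (hmn : m ≤ n) (a : S.carrier) :
    (tr S hmn).toAlgHom (Ideal.Quotient.mk (ArtFun.CRing.mpow S n) a) =
      Ideal.Quotient.mk (ArtFun.CRing.mpow S m) a := rfl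

noncomputable def gn (n : ℕ) : ArtFun.HomSet R.carrier R.res (S.trunc n) :=
  (Equiv.ofBijective _ (hξ (S.trunc n))).symm (ζ.app _ (S.truncHom n))

theorem ξ_gn (n : ℕ) : ξ.app _ (gn R S ξ hξ ζ n) = ζ.app _ (S.truncHom n) :=
  Equiv.ofBijective_apply_symm_apply _ (hξ (S.trunc n)) _

theorem gn_compat {m n : ℕ} (hmn : m ≤ n) :
    ArtFun.HomSet.map (tr S hmn) (gn R S ξ hξ ζ n) = gn R S ξ hξ ζ m := by
  apply (hξ _).1
  rw [ξ.natural, ξ_gn, ← ζ.natural, tr_truncHom, ξ_gn]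

noncomputable def gnHom (n : ℕ) : R.carrier →ₐ[Λ] (S.carrier ⧸ ArtFun.CRing.mpow S n) :=
  (gn R S ξ hξ ζ n).1

theorem gn_compat_apply {m n : ℕ} (hmn : m ≤ n) (x : R.carrier) :
    (tr S hmn).toAlgHom (gnHom R S ξ hξ ζ n x) = gnHom R S ξ hξ ζ m x := by
  have := congrArg (fun t => t.1 x) (gn_compat R S ξ hξ ζ hmn)
  exact this

noncomputable def fn (n : ℕ) : R.carrier →ₐ[Λ] S.carrier ⧸ (IsLocalRing.maximalIdeal S.carrier) ^ n :=
  (Ideal.Quotient.factorₐ Λ (Ideal.pow_le_pow_right (Nat.le_succ n))).comp (gnHom R S ξ hξ ζ n)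

theorem aux1 {m n : ℕ} (hmn : m ≤ n) (y : S.carrier ⧸ ArtFun.CRing.mpow S n)
    (h1 : (IsLocalRing.maximalIdeal S.carrier) ^ n ≤ (IsLocalRing.maximalIdeal S.carrier) ^ m)
    (h2 : ArtFun.CRing.mpow S n ≤ (IsLocalRing.maximalIdeal S.carrier) ^ n)
    (h3 : ArtFun.CRing.mpow S m ≤ (IsLocalRing.maximalIdeal S.carrier) ^ m) :
    Ideal.Quotient.factorₐ Λ h1 (Ideal.Quotient.factorₐ Λ h2 y) =
      Ideal.Quotient.factorₐ Λ h3 ((tr S hmn).toAlgHom y) := by
  obtain ⟨a, rfl⟩ := Ideal.Quotient.mk_surjective y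
  rfl

theorem fn_compat {m n : ℕ} (hle : m ≤ n) :
    (Ideal.Quotient.factorₐ Λ (Ideal.pow_le_pow_right hle)).comp (fn R S ξ hξ ζ n) =
      fn R S ξ hξ ζ m := by
  apply AlgHom.ext
  intro x
  simp only [fn, AlgHom.comp_apply]
  rw [← gn_compat_apply R S ξ hξ ζ hle x]
  exact aux1 S hle _ _ _ _

theorem aux2 (n : ℕ) (y : S.carrier ⧸ ArtFun.CRing.mpow S (n + 1))
    (h2 : ArtFun.CRing.mpow S (n + 1) ≤ (IsLocalRing.maximalIdeal S.carrier) ^ (n + 1)) :
    Ideal.Quotient.factorₐ Λ h2 y = (tr S (Nat.le_succ n)).toAlgHom y := by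
  obtain ⟨a, rfl⟩ := Ideal.Quotient.mk_surjective y
  rfl

noncomputable def gHom : R.carrier →ₐ[Λ] S.carrier :=
  have := S.isAdicComplete
  IsAdicComplete.liftAlgHom (IsLocalRing.maximalIdeal S.carrier) (fn R S ξ hξ ζ)
    (fun hle => fn_compat R S ξ hξ ζ hle)

theorem mk_gHom (n : ℕ) (x : R.carrier) :
    Ideal.Quotient.mk (ArtFun.CRing.mpow S n) (gHom R S ξ hξ ζ x) = gnHom R S ξ hξ ζ n x := by
  have := S.isAdicComplete
  have h1 : Ideal.Quotient.mk ((IsLocalRing.maximalIdeal S.carrier) ^ (n + 1)) (gHom R S ξ hξ ζ x) =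
      fn R S ξ hξ ζ (n + 1) x :=
    IsAdicComplete.mk_liftAlgHom (IsLocalRing.maximalIdeal S.carrier) (fn R S ξ hξ ζ)
      (fun hle => fn_compat R S ξ hξ ζ hle) (n + 1) x
  rw [← gn_compat_apply R S ξ hξ ζ (Nat.le_succ n) x]
  change Ideal.Quotient.mk ((IsLocalRing.maximalIdeal S.carrier) ^ (n + 1)) _ = _
  rw [h1]
  simp only [fn, AlgHom.comp_apply]
  exact aux2 S n _ _

theorem res_gHom : S.res.comp (gHom R S ξ hξ ζ) = R.res := by
  apply AlgHom.ext
  intro x
  have h1 := mk_gHom R S ξ hξ ζ 0 x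
  have h2 : (S.trunc 0).res (gnHom R S ξ hξ ζ 0 x) = R.res x :=
    DFunLike.congr_fun (gn R S ξ hξ ζ 0).2 x
  rw [← h1] at h2
  exact h2

theorem along_gHom : ξ.along (gHom R S ξ hξ ζ) (res_gHom R S ξ hξ ζ) = ζ := by
  apply family_ext
  intro A ψ
  obtain ⟨n, hn⟩ := exists_le_ker S ψ
  have e := map_fac_truncHom S ψ n hn
  conv_rhs => rw [← e, ζ.natural, ← ξ_gn R S ξ hξ ζ n, ← ξ.natural]
  change ξ.app A _ = _
  congr 1
  apply Subtype.ext
  apply AlgHom.ext
  intro x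
  change ψ.1 (gHom R S ξ hξ ζ x) = (fac S ψ n hn).toAlgHom (gnHom R S ξ hξ ζ n x)
  rw [← mk_gHom]
  rfl

end

section
open ArtFun Groth.Agent.S12250
variable {Λ : Type u} {k : Type u} [CommRing Λ] [Field k] [Algebra Λ k]
variable {F : ArtFun.Art Λ k ⥤ Type v}
variable (R S : ArtFun.CRing Λ k) (ξ : ArtFun.Family R.carrier R.res F) (hξ : ArtFun.IsUniversal ξ)

include hξ in
theorem along_inj (a b : R.carrier →ₐ[Λ] S.carrier) (ha : S.res.comp a = R.res)
    (hb : S.res.comp b = R.res) (hab : ξ.along a ha = ξ.along b hb) : a = b := by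
  have := S.isAdicComplete
  have key : ∀ n, (Ideal.Quotient.mkₐ Λ (ArtFun.CRing.mpow S n)).comp a =
      (Ideal.Quotient.mkₐ Λ (ArtFun.CRing.mpow S n)).comp b := by
    intro n
    have h1 := congrArg (fun t => t.app _ (S.truncHom n)) hab
    have h2 := (hξ _).1 h1
    exact congrArg Subtype.val h2
  apply IsAdicComplete.algHom_ext (IsLocalRing.maximalIdeal S.carrier)
  intro n
  have := key n
  apply AlgHom.ext
  intro x
  have h3 := DFunLike.congr_fun this x
  have h4 := congrArg (Ideal.Quotient.factorₐ Λ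
    (Ideal.pow_le_pow_right (Nat.le_succ n) :
      (IsLocalRing.maximalIdeal S.carrier) ^ (n + 1) ≤ (IsLocalRing.maximalIdeal S.carrier) ^ n)) h3
  exact h4

end


/-- Let k be an algebraically closed field, Λ a complete local Noetherian k-algebra with residue field k
and F a set-valued functor on local Artinian Λ-algebras with residue field k. If (R, u) and (S, v)
both prorepresent F (complete local Noetherian Λ-algebras with residue field k carrying universal
families), then there is a unique isomorphism of Λ-algebras R ≅ S, compatible with the augmentations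
to k, along which the universal family of R is transported to that of S. -/
theorem result
    {k Λ : Type u} [Field k] [IsAlgClosed k] [CommRing Λ] [IsLocalRing Λ] [IsNoetherianRing Λ]
    [IsAdicComplete (IsLocalRing.maximalIdeal Λ) Λ] [Algebra k Λ] [Algebra Λ k] [IsScalarTower k Λ k]
    {F : ArtFun.Art Λ k ⥤ Type v} (P Q : ArtFun.ProRep F) :
    ∃! e : P.ring.carrier ≃ₐ[Λ] Q.ring.carrier,
      ∃ he : Q.ring.res.comp e.toAlgHom = P.ring.res, P.family.along e.toAlgHom he = Q.family := by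
  obtain ⟨R, ξ, hξ⟩ := P
  obtain ⟨S, ζ, hζ⟩ := Q
  have hg := along_gHom R S ξ hξ ζ
  have hh := along_gHom S R ζ hζ ξ
  have h1 : (gHom S R ζ hζ ξ).comp (gHom R S ξ hξ ζ) = AlgHom.id Λ R.carrier := by
    apply along_inj R R ξ hξ _ _
      (by rw [← AlgHom.comp_assoc, res_gHom, res_gHom]) (AlgHom.comp_id _)
    apply Groth.Agent.S12250.family_ext
    intro A ψ
    have e1 := congrArg (fun t => t.app A ψ) hh
    have e2 := congrArg (fun t => t.app A ⟨ψ.1.comp (gHom S R ζ hζ ξ), by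
      rw [← AlgHom.comp_assoc, ψ.2, res_gHom]⟩) hg
    change ξ.app A _ = ξ.app A _
    change ζ.app A _ = ξ.app A ψ at e1
    change ξ.app A _ = ζ.app A _ at e2
    rw [← e1, ← e2]
    rfl
  have h2 : (gHom R S ξ hξ ζ).comp (gHom S R ζ hζ ξ) = AlgHom.id Λ S.carrier := by
    apply along_inj S S ζ hζ _ _
      (by rw [← AlgHom.comp_assoc, res_gHom, res_gHom]) (AlgHom.comp_id _)
    apply Groth.Agent.S12250.family_ext
    intro A ψ
    have e1 := congrArg (fun t => t.app A ψ) hg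
    have e2 := congrArg (fun t => t.app A ⟨ψ.1.comp (gHom R S ξ hξ ζ), by
      rw [← AlgHom.comp_assoc, ψ.2, res_gHom]⟩) hh
    change ζ.app A _ = ζ.app A _
    change ξ.app A _ = ζ.app A ψ at e1
    change ζ.app A _ = ξ.app A _ at e2
    rw [← e1, ← e2]
    rfl
  refine ⟨AlgEquiv.ofAlgHom (gHom R S ξ hξ ζ) (gHom S R ζ hζ ξ) h2 h1, ⟨res_gHom R S ξ hξ ζ, hg⟩, ?_⟩
  rintro e' ⟨he', hfam⟩
  apply AlgEquiv.ext
  intro x
  have := along_inj R S ξ hξ e'.toAlgHom (gHom R S ξ hξ ζ) he' (res_gHom R S ξ hξ ζ)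
    (hfam.trans hg.symm)
  exact DFunLike.congr_fun this x

end Groth.Agent.S12252
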