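import Groth.Statements.S12256
import Groth.Agent.Lib.Helper75.NodeDef6
import Groth.Agent.Lib.Helper76.SchlProrep

set_option autoImplicit false
universe u
open CategoryTheory CategoryTheory.Limits AlgebraicGeometry
open Deform

namespace Groth.Agent.S12256

/-- Let k be an algebraically closed field and C = Spec k[x, y]/(xy) the union of the two coordinate
axes in the affine plane. Then the local moduli functor Def_C, of isomorphism classes of
deformations of C over local Artinian k-algebras with residue field k, is not prorepresentable by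
any complete local Noetherian k-algebra with residue field k. -/
theorem result
    {k : Type u} [Field k] [IsAlgClosed k] :
    ¬ ArtFun.IsProrepresentable (ArtFun.defFunctor (Λ := k)
      (Spec (CommRingCat.of (MvPolynomial (Fin 2) k ⧸
        Ideal.span {(MvPolynomial.X 0 * MvPolynomial.X 1 : MvPolynomial (Fin 2) k)})))
      (Spec.map (CommRingCat.ofHom (algebraMap k (MvPolynomial (Fin 2) k ⧸
        Ideal.span {(MvPolynomial.X 0 * MvPolynomial.X 1 : MvPolynomial (Fin 2) k)}))))) := by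
  rintro ⟨P⟩
  have hLE := Groth.Agent.Lib.Helper76.isLeftExact_of_isUniversal P.family P.universal
  have hbij := hLE (Groth.Agent.Lib.Helper75.NodeDef.p1 k) (Groth.Agent.Lib.Helper75.NodeDef.p2 k)
    (Groth.Agent.Lib.Helper75.NodeDef.f21 k) (Groth.Agent.Lib.Helper75.NodeDef.f21 k)
    (Groth.Agent.Lib.Helper75.NodeDef.isFibreProd_B2 k)
  have hres1 := Groth.Agent.Lib.Helper75.NodeDef.res_b1 k
  have hres2 := Groth.Agent.Lib.Helper75.NodeDef.res_b2 k
  have hresE := Groth.Agent.Lib.Helper75.NodeDef.res_eA k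
  have hresU := Groth.Agent.Lib.Helper75.NodeDef.res_uA k
  have hresUE : (Groth.Agent.Lib.Helper75.NodeDef.A2 k).res
      (Groth.Agent.Lib.Helper75.NodeDef.uA k * Groth.Agent.Lib.Helper75.NodeDef.eA k) = 0 := by
    rw [map_mul, hresE, mul_zero]
  have h12 : ArtFun.cmp _ (Groth.Agent.Lib.Helper75.NodeDef.isFibreProd_B2 k)
      (Groth.Agent.Lib.Helper97.DefLift.ofAlg (Groth.Agent.Lib.Helper75.NodeDef.dataD
        (Groth.Agent.Lib.Helper75.NodeDef.B2 k) (Groth.Agent.Lib.Helper75.NodeDef.b1 k) hres1)).cl =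
      ArtFun.cmp _ (Groth.Agent.Lib.Helper75.NodeDef.isFibreProd_B2 k)
      (Groth.Agent.Lib.Helper97.DefLift.ofAlg (Groth.Agent.Lib.Helper75.NodeDef.dataD
        (Groth.Agent.Lib.Helper75.NodeDef.B2 k) (Groth.Agent.Lib.Helper75.NodeDef.b2 k) hres2)).cl := by
    apply ArtFun.FibProd.ext
    · obtain ⟨e1⟩ := Groth.Agent.Lib.Helper75.NodeDef.nonempty_baseChange_dataD
        (Groth.Agent.Lib.Helper75.NodeDef.p1 k) (Groth.Agent.Lib.Helper75.NodeDef.p1_surjective k)
        (Groth.Agent.Lib.Helper75.NodeDef.b1 k) (Groth.Agent.Lib.Helper75.NodeDef.eA k)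
        (Groth.Agent.Lib.Helper75.NodeDef.p1_b1 k) hres1 hresE
      obtain ⟨e2⟩ := Groth.Agent.Lib.Helper75.NodeDef.nonempty_baseChange_dataD
        (Groth.Agent.Lib.Helper75.NodeDef.p1 k) (Groth.Agent.Lib.Helper75.NodeDef.p1_surjective k)
        (Groth.Agent.Lib.Helper75.NodeDef.b2 k) (Groth.Agent.Lib.Helper75.NodeDef.eA k)
        (Groth.Agent.Lib.Helper75.NodeDef.p1_b2 k) hres2 hresE
      exact Quotient.sound ⟨e1.trans e2.symm⟩
    · obtain ⟨e1⟩ := Groth.Agent.Lib.Helper75.NodeDef.nonempty_baseChange_dataD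
        (Groth.Agent.Lib.Helper75.NodeDef.p2 k) (Groth.Agent.Lib.Helper75.NodeDef.p2_surjective k)
        (Groth.Agent.Lib.Helper75.NodeDef.b1 k) (Groth.Agent.Lib.Helper75.NodeDef.eA k)
        (Groth.Agent.Lib.Helper75.NodeDef.p2_b1 k) hres1 hresE
      obtain ⟨e2⟩ := Groth.Agent.Lib.Helper75.NodeDef.nonempty_baseChange_dataD
        (Groth.Agent.Lib.Helper75.NodeDef.p2 k) (Groth.Agent.Lib.Helper75.NodeDef.p2_surjective k)
        (Groth.Agent.Lib.Helper75.NodeDef.b2 k)
        (Groth.Agent.Lib.Helper75.NodeDef.uA k * Groth.Agent.Lib.Helper75.NodeDef.eA k)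
        (Groth.Agent.Lib.Helper75.NodeDef.p2_b2 k) hres2 hresUE
      have e3 := Groth.Agent.Lib.Helper75.NodeDef.isoScale (Groth.Agent.Lib.Helper75.NodeDef.A2 k)
        (Groth.Agent.Lib.Helper75.NodeDef.uA k) (Groth.Agent.Lib.Helper75.NodeDef.vA k)
        (Groth.Agent.Lib.Helper75.NodeDef.eA k) (Groth.Agent.Lib.Helper75.NodeDef.uA_mul_vA k)
        hresU hresE hresUE
      exact Quotient.sound ⟨e1.trans (e3.symm.trans e2.symm)⟩
  have h := hbij.1 h12
  obtain ⟨e⟩ := Quotient.exact h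
  have e' := e.baseChange (Groth.Agent.Lib.Helper75.NodeDef.rho k)
  obtain ⟨g1⟩ := Groth.Agent.Lib.Helper75.NodeDef.nonempty_baseChange_dataD
    (Groth.Agent.Lib.Helper75.NodeDef.rho k) (Groth.Agent.Lib.Helper75.NodeDef.rho_surjective k)
    (Groth.Agent.Lib.Helper75.NodeDef.b1 k) (0 : DualNumber k)
    (Groth.Agent.Lib.Helper75.NodeDef.rho_b1 k) hres1 (map_zero _)
  obtain ⟨g2⟩ := Groth.Agent.Lib.Helper75.NodeDef.nonempty_baseChange_dataD
    (Groth.Agent.Lib.Helper75.NodeDef.rho k) (Groth.Agent.Lib.Helper75.NodeDef.rho_surjective k)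
    (Groth.Agent.Lib.Helper75.NodeDef.b2 k) (DualNumber.eps : DualNumber k)
    (Groth.Agent.Lib.Helper75.NodeDef.rho_b2 k) hres2
    (by change TrivSqZeroExt.fst (DualNumber.eps : DualNumber k) = 0; exact DualNumber.fst_eps)
  exact Groth.Agent.Lib.Helper75.NodeDef.not_iso_dual (g1.symm.trans (e'.trans g2))

end Groth.Agent.S12256
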