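import Groth.Statements.S12258
import Mathlib

set_option autoImplicit false
universe u v
open CategoryTheory CategoryTheory.Limits
open Deform

namespace Groth.Agent.S12258

section
variable {C : Type*} [Category C] (F G : C ⥤ Type v)

noncomputable def evLimit (B : C) :
    IsLimit (BinaryFan.mk ((prod.fst : F ⨯ G ⟶ F).app B) ((prod.snd : F ⨯ G ⟶ G).app B)) :=
  (isLimitMapConeBinaryFanEquiv ((evaluation C (Type v)).obj B) prod.fst prod.snd)
    (isLimitOfPreserves ((evaluation C (Type v)).obj B) (prodIsProd F G))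

theorem prod_exists (B : C) (x : F.obj B) (y : G.obj B) :
    ∃ z : (F ⨯ G).obj B, (prod.fst : F ⨯ G ⟶ F).app B z = x ∧
      (prod.snd : F ⨯ G ⟶ G).app B z = y := by
  obtain ⟨l, hl1, hl2⟩ := BinaryFan.IsLimit.lift' (evLimit F G B)
    (↾(fun _ : PUnit.{v + 1} => x)) (↾(fun _ : PUnit.{v + 1} => y))
  refine ⟨l PUnit.unit, ?_, ?_⟩
  · exact ConcreteCategory.congr_hom hl1 PUnit.unit
  · exact ConcreteCategory.congr_hom hl2 PUnit.unit

theorem prod_ext (B : C) (z z' : (F ⨯ G).obj B)
    (h1 : (prod.fst : F ⨯ G ⟶ F).app B z = (prod.fst : F ⨯ G ⟶ F).app B z')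
    (h2 : (prod.snd : F ⨯ G ⟶ G).app B z = (prod.snd : F ⨯ G ⟶ G).app B z') : z = z' := by
  have := BinaryFan.IsLimit.hom_ext (evLimit F G B)
    (f := (↾(fun _ : PUnit.{v + 1} => z))) (g := (↾(fun _ : PUnit.{v + 1} => z')))
    (by ext; exact h1) (by ext; exact h2)
  exact ConcreteCategory.congr_hom this PUnit.unit

end


/-- Let k be an algebraically closed field, Λ a complete local Noetherian k-algebra with residue field
k, and F, G set-valued functors on local Artinian Λ-algebras with residue field k, each with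
one-point value at k. If F and G are smooth functors, i.e. F(B) → F(A) and G(B) → G(A) are
surjective for every surjection B → A, then the product functor F × G is smooth. -/
theorem result
    {k Λ : Type u} [Field k] [IsAlgClosed k] [CommRing Λ] [IsLocalRing Λ] [IsNoetherianRing Λ]
    [IsAdicComplete (IsLocalRing.maximalIdeal Λ) Λ] [Algebra k Λ] [Algebra Λ k] [IsScalarTower k Λ k]
    {F G : ArtFun.Art Λ k ⥤ Type v}
    (hF : ArtFun.H0 F) (hG : ArtFun.H0 G) (sF : ArtFun.IsSmoothFunctor F) (sG : ArtFun.IsSmoothFunctor G) :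
    ArtFun.IsSmoothFunctor (F ⨯ G) := by
  intro B A μ hμ z
  obtain ⟨x', hx'⟩ := sF μ hμ ((prod.fst : F ⨯ G ⟶ F).app A z)
  obtain ⟨y', hy'⟩ := sG μ hμ ((prod.snd : F ⨯ G ⟶ G).app A z)
  obtain ⟨z', hz1, hz2⟩ := prod_exists F G B x' y'
  refine ⟨z', ?_⟩
  apply prod_ext
  · rw [← hx', ← hz1]
    exact NatTrans.naturality_apply (prod.fst : F ⨯ G ⟶ F) μ z'
  · rw [← hy', ← hz2]
    exact NatTrans.naturality_apply (prod.snd : F ⨯ G ⟶ G) μ z'

end Groth.Agent.S12258
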