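import Groth.Statements.S12264
import Groth.Agent.Lib.Helper97.DefLift.Lift
import Groth.Agent.Lib.Helper97.DefLift.OfAlg

set_option autoImplicit false
universe u
open CategoryTheory CategoryTheory.Limits AlgebraicGeometry
open Deform

namespace Groth.Agent.S12264

/-- Let k be an algebraically closed field and B₀ a k-algebra given with a finite presentation P =
k[X_i]/(f_s) (finitely many variables and relations), and let T² = T²(B₀/k, B₀) be the second
cotangent module computed from P (classes of B₀-linear maps on the relation module modulo trivial
relations, modulo those extending to the free module on the relations). Suppose T² = 0. Then Spec B₀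
is unobstructed: for every small extension A' → A of local Artinian k-algebras with residue field k
the map Def_{B₀}(A') → Def_{B₀}(A) between isomorphism classes of deformations (schemes flat over
the Artinian base with Spec B₀ as closed fibre) is surjective. (The published statement says that
T²_{B₀} is an obstruction space for Def_{B₀}, for B₀ the quotient of any smooth k-algebra that is a
localisation of a polynomial ring: each deformation over A has an obstruction in T²_{B₀} attached to
each small extension of A, vanishing exactly when a lifting exists; this row states the consequence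
for T²_{B₀} = 0 and a polynomial presentation.) -/
theorem result
    {k : Type u} [Field k] [IsAlgClosed k] (B₀ : Type u) [CommRing B₀] [Algebra k B₀] {ι σ : Type u} [Finite ι] [Finite σ]
    (P : Algebra.Presentation k B₀ ι σ)
    (hT2 : Subsingleton (CotT.T2 P B₀))
    {A' A : ArtFun.Art k k} (p : A' ⟶ A) (hp : ArtFun.Art.IsSmallExt p) :
    Function.Surjective ((ArtFun.defFunctor (Λ := k) (Spec (CommRingCat.of B₀)) (Spec.map (CommRingCat.ofHom (algebraMap k B₀)))).map p) := by
  intro ζ
  induction ζ using Quotient.inductionOn with
  | h ξ =>
    obtain ⟨d, ⟨I⟩⟩ := Groth.Agent.Lib.Helper97.DefLift.exists_algData_iso ξ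
    obtain ⟨hpsurj, hne, hprinc, hmul⟩ := hp
    obtain ⟨t₀, ht₀⟩ := hprinc.principal
    have hker : RingHom.ker p.toAlgHom.toRingHom = Ideal.span {t₀} := by
      refine Eq.trans ?_ ht₀
      exact Ideal.ext fun x => Iff.rfl
    have ht₀ne : t₀ ≠ 0 := by
      rintro rfl
      apply hne
      rw [ht₀]
      exact Submodule.span_zero_singleton _
    have hmt : ∀ c ∈ IsLocalRing.maximalIdeal A'.carrier, c * t₀ = 0 := by
      intro c hc
      have h1 : c * t₀ ∈ IsLocalRing.maximalIdeal A'.carrier * RingHom.ker p.toAlgHom := by
        refine Ideal.mul_mem_mul hc ?_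
        rw [ht₀]
        exact Submodule.mem_span_singleton_self t₀
      rw [hmul] at h1
      exact h1
    obtain ⟨R', _, a', π', q, hfl, hs, hk, hpa, hqs, hqk, hqa, hqπ⟩ :=
      Groth.Agent.Lib.Helper97.DefLift.exists_lift_ring A'.res A.res p.toAlgHom p.res_comp hpsurj
        t₀ hker ht₀ne hmt P d.a d.π d.flat d.π_surj d.ker_π d.π_a hT2
    let d' : Groth.Agent.Lib.Helper97.DefLift.AlgData A' B₀ :=
      { R := R', a := a', π := π', flat := hfl, π_surj := hs, ker_π := hk, π_a := hpa }
    obtain ⟨J⟩ := Groth.Agent.Lib.Helper97.DefLift.nonempty_baseChange_iso p d' d q hqs hpsurj hqk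
      hqa hqπ
    exact ⟨(Groth.Agent.Lib.Helper97.DefLift.ofAlg d').cl, Quotient.sound ⟨J.trans I⟩⟩

end Groth.Agent.S12264
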