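import Groth.Statements.S1227
import Mathlib.LinearAlgebra.TensorProduct.RightExactness
import Mathlib.Algebra.Module.Projective

set_option autoImplicit false
universe u
open FlatMor

namespace Groth.Agent.S1227

open TensorProduct in
/-- Let u be a surjective linear map from a projective A-module M to an A-module N. Then there is an
ideal I of A such that for every A-algebra B, the base change u ⊗ 1 from B ⊗ M to B ⊗ N is bijective
if and only if the image of I in B is zero. -/
theorem result {A : Type u} [CommRing A] {M N : Type u} [AddCommGroup M] [Module A M] [Module.Projective A M]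
    [AddCommGroup N] [Module A N] (u : M →ₗ[A] N) (hu : Function.Surjective u) :
    ∃ I : Ideal A, ∀ (B : Type u) [CommRing B] [Algebra A B],
      Function.Bijective (u.baseChange B) ↔ I.map (algebraMap A B) = ⊥ := by
  classical
  obtain ⟨sec, hsec⟩ := (Module.projective_def (R := A) (P := M)).mp inferInstance
  refine ⟨Ideal.span {a | ∃ k ∈ LinearMap.ker u, ∃ φ : M →ₗ[A] A, φ k = a}, ?_⟩
  intro B _ _
  have hfun : ⇑(u.baseChange B) = ⇑(LinearMap.lTensor B u) := rfl
  have hsurj : Function.Surjective (u.baseChange B) := by
    rw [hfun]
    exact LinearMap.lTensor_surjective B hu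
  -- step 3 : `1 ⊗ k = 0` iff all functionals vanish after base change
  have h3 : ∀ k : M, (1 : B) ⊗ₜ[A] k = 0 ↔ ∀ φ : M →ₗ[A] A, algebraMap A B (φ k) = 0 := by
    intro k
    constructor
    · intro h φ
      have := congrArg (fun x => (TensorProduct.rid A B) (LinearMap.lTensor B φ x)) h
      simpa [Algebra.smul_def, mul_comm] using this
    · intro h
      have hk : k = Finsupp.linearCombination A id (sec k) := (hsec k).symm
      rw [hk, Finsupp.linearCombination_apply, Finsupp.sum, TensorProduct.tmul_sum]
      refine Finset.sum_eq_zero fun m _ => ?_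
      have := h ((Finsupp.lapply m).comp sec)
      simp only [LinearMap.comp_apply, Finsupp.lapply_apply] at this
      rw [id, TensorProduct.tmul_smul, TensorProduct.smul_tmul', Algebra.smul_def, mul_one, this,
        TensorProduct.zero_tmul]
  -- step 2 : injectivity iff `1 ⊗ k = 0` for all `k` in the kernel
  have h2 : Function.Injective (u.baseChange B) ↔ ∀ k ∈ LinearMap.ker u, (1 : B) ⊗ₜ[A] k = 0 := by
    constructor
    · intro hinj k hk
      apply hinj
      rw [map_zero, LinearMap.baseChange_tmul, LinearMap.mem_ker.mp hk, TensorProduct.tmul_zero]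
    · intro h
      rw [injective_iff_map_eq_zero]
      intro x hx
      have hex := lTensor_exact B (LinearMap.exact_subtype_ker_map u) hu
      have hx' : LinearMap.lTensor B u x = 0 := hx
      obtain ⟨y, rfl⟩ := (hex x).mp hx'
      have hall : ∀ y : B ⊗[A] (LinearMap.ker u),
          LinearMap.lTensor B (LinearMap.ker u).subtype y = 0 := by
        intro y
        induction y with
        | zero => simp
        | add y z hy hz => rw [map_add, hy, hz, add_zero]
        | tmul b k =>
          rw [LinearMap.lTensor_tmul, Submodule.subtype_apply]
          have := h k.1 k.2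
          rw [← mul_one b, ← smul_eq_mul, ← TensorProduct.smul_tmul', this, smul_zero]
      exact hall y
  rw [Function.Bijective, and_iff_left hsurj, h2, Ideal.map_span, Ideal.span_eq_bot]
  constructor
  · rintro h _ ⟨_, ⟨k, hk, φ, rfl⟩, rfl⟩
    exact (h3 k).mp (h k hk) φ
  · intro h k hk
    rw [h3]
    intro φ
    exact h _ ⟨_, ⟨k, hk, φ, rfl⟩, rfl⟩

end Groth.Agent.S1227
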