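import Groth.Statements.S12284
import Mathlib

set_option autoImplicit false
universe u w m
open scoped TensorProduct
open DefT

namespace Groth.Agent.S12284

section Helpers

universe u' v' w' t' m1 m2 m3
open TensorProduct

section Generic
variable {B : Type*} [CommRing B] {L M' M M'' : Type*} [AddCommGroup L] [Module B L]
  [AddCommGroup M'] [Module B M'] [AddCommGroup M] [Module B M] [AddCommGroup M''] [Module B M'']
  (f : M' →ₗ[B] M) (g : M →ₗ[B] M'')

theorem lift_of_comp_eq_zero (hf : Function.Injective f) (hfg : Function.Exact f g)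
    (φ : L →ₗ[B] M) (h : g ∘ₗ φ = 0) : ∃ φ' : L →ₗ[B] M', f ∘ₗ φ' = φ := by
  have hr : ∀ x, φ x ∈ LinearMap.range f := by
    intro x
    rw [← hfg.linearMap_ker_eq]
    exact LinearMap.congr_fun h x
  refine ⟨(LinearEquiv.ofInjective f hf).symm.toLinearMap ∘ₗ LinearMap.codRestrict _ φ hr, ?_⟩
  ext x
  simp only [LinearMap.coe_comp, LinearEquiv.coe_coe, Function.comp_apply]
  have := LinearEquiv.apply_symm_apply (LinearEquiv.ofInjective f hf) (LinearMap.codRestrict _ φ hr x)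
  exact congrArg Subtype.val this

theorem comp_injective (hf : Function.Injective f) (φ ψ : L →ₗ[B] M') (h : f ∘ₗ φ = f ∘ₗ ψ) :
    φ = ψ := by
  ext x
  exact hf (LinearMap.congr_fun h x)

end Generic

variable {A : Type u'} {B : Type v'} {ι : Type w'} {σ : Type t'}
variable [CommRing A] [CommRing B] [Algebra A B]
variable (P : Algebra.Presentation A B ι σ)

instance : Module.Free B (CotT.L0 P) := Module.Free.of_basis P.cotangentSpaceBasis
instance : Module.Free B (CotT.L1 P) := Module.Free.of_basis (CotT.L1basis P)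

variable {M' : Type m1} {M : Type m2} {M'' : Type m3} [AddCommGroup M'] [Module B M']
  [AddCommGroup M] [Module B M] [AddCommGroup M''] [Module B M'']
  (f : M' →ₗ[B] M) (g : M →ₗ[B] M'')

theorem T0map_injective (hf : Function.Injective f) : Function.Injective (CotT.T0map P f) := by
  intro φ ψ h
  apply Subtype.ext
  apply comp_injective f hf
  exact congrArg Subtype.val h

theorem T0_exact (hf : Function.Injective f) (hfg : Function.Exact f g) :
    Function.Exact (CotT.T0map P f) (CotT.T0map P g) := by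
  intro φ
  constructor
  · intro h
    have h1 : g ∘ₗ (φ : CotT.L0 P →ₗ[B] M) = 0 := congrArg Subtype.val h
    obtain ⟨φ', hφ'⟩ := lift_of_comp_eq_zero f g hf hfg _ h1
    have hmem : φ' ∈ LinearMap.ker (CotT.d1Star P M') := by
      rw [LinearMap.mem_ker, CotT.d1Star_apply]
      apply comp_injective f hf
      rw [← LinearMap.comp_assoc, hφ', LinearMap.comp_zero]
      exact φ.2
    exact ⟨⟨φ', hmem⟩, Subtype.ext hφ'⟩
  · rintro ⟨ψ, rfl⟩
    apply Subtype.ext
    change g ∘ₗ (f ∘ₗ (ψ : CotT.L0 P →ₗ[B] M')) = 0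
    rw [← LinearMap.comp_assoc, hfg.linearMap_comp_eq_zero, LinearMap.zero_comp]

theorem T1_exact (hf : Function.Injective f) (hg : Function.Surjective g)
    (hfg : Function.Exact f g) :
    Function.Exact (CotT.T1map P f) (CotT.T1map P g) := by
  intro t
  constructor
  · intro h
    obtain ⟨c, rfl⟩ := Submodule.mkQ_surjective _ t
    change Submodule.Quotient.mk (CotT.cocycles1Map P g c) = 0 at h
    rw [Submodule.Quotient.mk_eq_zero] at h
    obtain ⟨ψ'', hψ''⟩ := h
    obtain ⟨ψ, hψ⟩ := Module.projective_lifting_property g ψ'' hg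
    have hψ2 : ψ'' ∘ₗ CotT.d1 P = g ∘ₗ (c : CotT.L1 P →ₗ[B] M) := hψ''
    have h1 : g ∘ₗ ((c : CotT.L1 P →ₗ[B] M) - ψ ∘ₗ CotT.d1 P) = 0 := by
      rw [LinearMap.comp_sub, ← LinearMap.comp_assoc, hψ, hψ2, sub_self]
    obtain ⟨c', hc'⟩ := lift_of_comp_eq_zero f g hf hfg _ h1
    have hmem : c' ∈ CotT.cocycles1 P M' := by
      rw [LinearMap.mem_ker, CotT.d2Star_apply]
      apply comp_injective f hf
      rw [← LinearMap.comp_assoc, hc', LinearMap.comp_zero, LinearMap.sub_comp,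
        LinearMap.comp_assoc, CotT.d1_comp_d2, LinearMap.comp_zero, sub_zero]
      exact c.2
    refine ⟨Submodule.Quotient.mk ⟨c', hmem⟩, ?_⟩
    change Submodule.Quotient.mk (CotT.cocycles1Map P f ⟨c', hmem⟩) = Submodule.Quotient.mk c
    rw [Submodule.Quotient.eq]
    refine ⟨-ψ, ?_⟩
    change (-ψ) ∘ₗ CotT.d1 P = f ∘ₗ c' - (c : CotT.L1 P →ₗ[B] M)
    rw [hc', LinearMap.neg_comp]
    abel
  · rintro ⟨t', rfl⟩
    obtain ⟨c, rfl⟩ := Submodule.mkQ_surjective _ t'
    change Submodule.Quotient.mk (CotT.cocycles1Map P g (CotT.cocycles1Map P f c)) = 0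
    have : CotT.cocycles1Map P g (CotT.cocycles1Map P f c) = 0 := by
      apply Subtype.ext
      change g ∘ₗ (f ∘ₗ (c : CotT.L1 P →ₗ[B] M')) = 0
      rw [← LinearMap.comp_assoc, hfg.linearMap_comp_eq_zero, LinearMap.zero_comp]
    rw [this, Submodule.Quotient.mk_zero]

theorem T2_exact (hf : Function.Injective f) (hg : Function.Surjective g)
    (hfg : Function.Exact f g) :
    Function.Exact (CotT.T2map P f) (CotT.T2map P g) := by
  intro t
  constructor
  · intro h
    obtain ⟨e, rfl⟩ := Submodule.mkQ_surjective _ t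
    change Submodule.Quotient.mk (g ∘ₗ e) = 0 at h
    rw [Submodule.Quotient.mk_eq_zero] at h
    obtain ⟨χ'', hχ''⟩ := h
    obtain ⟨χ, hχ⟩ := Module.projective_lifting_property g χ'' hg
    have hχ2 : χ'' ∘ₗ CotT.d2 P = g ∘ₗ e := hχ''
    have h1 : g ∘ₗ (e - χ ∘ₗ CotT.d2 P) = 0 := by
      rw [LinearMap.comp_sub, ← LinearMap.comp_assoc, hχ, hχ2, sub_self]
    obtain ⟨e', he'⟩ := lift_of_comp_eq_zero f g hf hfg _ h1
    refine ⟨Submodule.Quotient.mk e', ?_⟩
    change Submodule.Quotient.mk (f ∘ₗ e') = Submodule.Quotient.mk e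
    rw [Submodule.Quotient.eq]
    refine ⟨-χ, ?_⟩
    change (-χ) ∘ₗ CotT.d2 P = f ∘ₗ e' - e
    rw [he', LinearMap.neg_comp]
    abel
  · rintro ⟨t', rfl⟩
    obtain ⟨e, rfl⟩ := Submodule.mkQ_surjective _ t'
    change Submodule.Quotient.mk (g ∘ₗ (f ∘ₗ e)) = 0
    rw [← LinearMap.comp_assoc, hfg.linearMap_comp_eq_zero, LinearMap.zero_comp,
      Submodule.Quotient.mk_zero]

section Snake0

variable {N : Type m1} [AddCommGroup N] [Module B N]

/-- `d1Star` with values in the cocycles -/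
noncomputable def i0 (N : Type m1) [AddCommGroup N] [Module B N] :
    (CotT.L0 P →ₗ[B] N) →ₗ[B] CotT.cocycles1 P N :=
  LinearMap.codRestrict (CotT.cocycles1 P N) (CotT.d1Star P N) (fun φ => by
    rw [LinearMap.mem_ker]
    exact LinearMap.congr_fun (CotT.d2Star_comp_d1Star P N) φ)

theorem i0_coe (φ : CotT.L0 P →ₗ[B] N) :
    ((i0 P N φ : CotT.cocycles1 P N) : CotT.L1 P →ₗ[B] N) = φ ∘ₗ CotT.d1 P := rfl

theorem exact_subtype_i0 :
    Function.Exact (LinearMap.ker (CotT.d1Star P N)).subtype (i0 P N) := by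
  intro φ
  constructor
  · intro h
    have : φ ∈ LinearMap.ker (CotT.d1Star P N) := by
      rw [LinearMap.mem_ker]
      exact congrArg Subtype.val h
    exact ⟨⟨φ, this⟩, rfl⟩
  · rintro ⟨ψ, rfl⟩
    apply Subtype.ext
    exact ψ.2

theorem exact_i0_mkQ : Function.Exact (i0 P N) (CotT.coboundaries1 P N).mkQ := by
  intro c
  rw [Submodule.mkQ_apply, Submodule.Quotient.mk_eq_zero]
  constructor
  · rintro ⟨ψ, hψ⟩
    exact ⟨ψ, Subtype.ext hψ⟩
  · rintro ⟨ψ, rfl⟩
    exact ⟨ψ, rfl⟩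

end Snake0

section Snake1

variable {N : Type m1} [AddCommGroup N] [Module B N]

/-- `d2Star` on the quotient by the coboundaries -/
noncomputable def i1 (N : Type m1) [AddCommGroup N] [Module B N] :
    ((CotT.L1 P →ₗ[B] N) ⧸ LinearMap.range (CotT.d1Star P N)) →ₗ[B] (CotT.L2 P →ₗ[B] N) :=
  Submodule.liftQ _ (CotT.d2Star P N) (by
    rintro _ ⟨ψ, rfl⟩
    rw [LinearMap.mem_ker]
    exact LinearMap.congr_fun (CotT.d2Star_comp_d1Star P N) ψ)

theorem i1_mk (c : CotT.L1 P →ₗ[B] N) :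
    i1 P N (Submodule.Quotient.mk c) = c ∘ₗ CotT.d2 P := rfl

/-- the inclusion of `T1` into the quotient of all cochains -/
noncomputable def ι1 (N : Type m1) [AddCommGroup N] [Module B N] :
    CotT.T1 P N →ₗ[B] ((CotT.L1 P →ₗ[B] N) ⧸ LinearMap.range (CotT.d1Star P N)) :=
  Submodule.mapQ (CotT.coboundaries1 P N) (LinearMap.range (CotT.d1Star P N))
    (CotT.cocycles1 P N).subtype le_rfl

theorem ι1_mk (c : CotT.cocycles1 P N) :
    ι1 P N (Submodule.Quotient.mk c) = Submodule.Quotient.mk (c : CotT.L1 P →ₗ[B] N) := rfl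

theorem ι1_injective : Function.Injective (ι1 P N) := by
  rw [← LinearMap.ker_eq_bot, LinearMap.ker_eq_bot']
  intro t ht
  obtain ⟨c, rfl⟩ := Submodule.mkQ_surjective _ t
  rw [Submodule.mkQ_apply, ι1_mk, Submodule.Quotient.mk_eq_zero] at ht
  rw [Submodule.mkQ_apply, Submodule.Quotient.mk_eq_zero]
  exact ht

theorem exact_ι1_i1 : Function.Exact (ι1 P N) (i1 P N) := by
  intro x
  obtain ⟨c, rfl⟩ := Submodule.mkQ_surjective _ x
  rw [Submodule.mkQ_apply, i1_mk]
  constructor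
  · intro h
    have hc : c ∈ CotT.cocycles1 P N := by
      rw [LinearMap.mem_ker]
      exact h
    exact ⟨Submodule.Quotient.mk ⟨c, hc⟩, rfl⟩
  · rintro ⟨t, ht⟩
    obtain ⟨c', rfl⟩ := Submodule.mkQ_surjective _ t
    rw [Submodule.mkQ_apply, ι1_mk, Submodule.Quotient.eq] at ht
    obtain ⟨ψ, hψ⟩ := ht
    have hψ' : ψ ∘ₗ CotT.d1 P = (c' : CotT.L1 P →ₗ[B] N) - c := hψ
    have hc : c = (c' : CotT.L1 P →ₗ[B] N) - ψ ∘ₗ CotT.d1 P := by
      rw [hψ']; abel
    rw [hc, LinearMap.sub_comp, LinearMap.comp_assoc, CotT.d1_comp_d2, LinearMap.comp_zero,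
      sub_zero]
    exact c'.2

theorem exact_i1_mkQ :
    Function.Exact (i1 P N) (LinearMap.range (CotT.d2Star P N)).mkQ := by
  intro e
  rw [Submodule.mkQ_apply, Submodule.Quotient.mk_eq_zero]
  constructor
  · rintro ⟨χ, rfl⟩
    exact ⟨Submodule.Quotient.mk χ, rfl⟩
  · rintro ⟨x, rfl⟩
    obtain ⟨c, rfl⟩ := Submodule.mkQ_surjective _ x
    exact ⟨c, rfl⟩

end Snake1

section Rows

variable {M' : Type m1} {M : Type m1} {M'' : Type m1} [AddCommGroup M'] [Module B M']
  [AddCommGroup M] [Module B M] [AddCommGroup M''] [Module B M'']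
  (f : M' →ₗ[B] M) (g : M →ₗ[B] M'')

theorem post_exact {L : Type*} [AddCommGroup L] [Module B L] (hf : Function.Injective f)
    (hfg : Function.Exact f g) :
    Function.Exact (LinearMap.llcomp B L M' M f : (L →ₗ[B] M') →ₗ[B] (L →ₗ[B] M))
      (LinearMap.llcomp B L M M'' g : (L →ₗ[B] M) →ₗ[B] (L →ₗ[B] M'')) := by
  intro φ
  constructor
  · intro h
    obtain ⟨φ', hφ'⟩ := lift_of_comp_eq_zero f g hf hfg φ h
    exact ⟨φ', hφ'⟩
  · rintro ⟨ψ, rfl⟩
    change g ∘ₗ (f ∘ₗ ψ) = 0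
    rw [← LinearMap.comp_assoc, hfg.linearMap_comp_eq_zero, LinearMap.zero_comp]

theorem post_surjective {L : Type*} [AddCommGroup L] [Module B L] [Module.Projective B L]
    (hg : Function.Surjective g) :
    Function.Surjective (LinearMap.llcomp B L M M'' g : (L →ₗ[B] M) →ₗ[B] (L →ₗ[B] M'')) := by
  intro ψ''
  obtain ⟨ψ, hψ⟩ := Module.projective_lifting_property g ψ'' hg
  exact ⟨ψ, hψ⟩

theorem post_injective {L : Type*} [AddCommGroup L] [Module B L] (hf : Function.Injective f) :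
    Function.Injective (LinearMap.llcomp B L M' M f : (L →ₗ[B] M') →ₗ[B] (L →ₗ[B] M)) := by
  intro φ ψ h
  exact comp_injective f hf φ ψ h

theorem cocycles1Map_injective (hf : Function.Injective f) :
    Function.Injective (CotT.cocycles1Map P f) := by
  intro c c' h
  apply Subtype.ext
  apply comp_injective f hf
  exact congrArg Subtype.val h

theorem cocycles1Map_exact (hf : Function.Injective f) (hfg : Function.Exact f g) :
    Function.Exact (CotT.cocycles1Map P f) (CotT.cocycles1Map P g) := by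
  intro c
  constructor
  · intro h
    have h1 : g ∘ₗ (c : CotT.L1 P →ₗ[B] M) = 0 := congrArg Subtype.val h
    obtain ⟨c', hc'⟩ := lift_of_comp_eq_zero f g hf hfg _ h1
    have hmem : c' ∈ CotT.cocycles1 P M' := by
      rw [LinearMap.mem_ker, CotT.d2Star_apply]
      apply comp_injective f hf
      rw [← LinearMap.comp_assoc, hc', LinearMap.comp_zero]
      exact c.2
    exact ⟨⟨c', hmem⟩, Subtype.ext hc'⟩
  · rintro ⟨c', rfl⟩
    apply Subtype.ext
    change g ∘ₗ (f ∘ₗ (c' : CotT.L1 P →ₗ[B] M')) = 0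
    rw [← LinearMap.comp_assoc, hfg.linearMap_comp_eq_zero, LinearMap.zero_comp]

/-- postcomposition on the quotient of 1-cochains by coboundaries -/
noncomputable def postQ {N N' : Type m1} [AddCommGroup N] [Module B N] [AddCommGroup N']
    [Module B N'] (h : N →ₗ[B] N') :
    ((CotT.L1 P →ₗ[B] N) ⧸ LinearMap.range (CotT.d1Star P N)) →ₗ[B]
      ((CotT.L1 P →ₗ[B] N') ⧸ LinearMap.range (CotT.d1Star P N')) :=
  Submodule.mapQ _ _ (LinearMap.llcomp B (CotT.L1 P) N N' h) (by
    rintro _ ⟨ψ, rfl⟩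
    exact ⟨h ∘ₗ ψ, rfl⟩)

theorem postQ_mk {N N' : Type m1} [AddCommGroup N] [Module B N] [AddCommGroup N']
    [Module B N'] (h : N →ₗ[B] N') (c : CotT.L1 P →ₗ[B] N) :
    postQ P h (Submodule.Quotient.mk c) = Submodule.Quotient.mk (h ∘ₗ c) := rfl

theorem postQ_surjective (hg : Function.Surjective g) : Function.Surjective (postQ P g) := by
  intro x
  obtain ⟨c'', rfl⟩ := Submodule.mkQ_surjective _ x
  obtain ⟨c, hc⟩ := Module.projective_lifting_property g c'' hg
  exact ⟨Submodule.Quotient.mk c, by rw [postQ_mk, hc]; rfl⟩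

theorem postQ_exact (hf : Function.Injective f) (hg : Function.Surjective g)
    (hfg : Function.Exact f g) : Function.Exact (postQ P f) (postQ P g) := by
  intro x
  obtain ⟨c, rfl⟩ := Submodule.mkQ_surjective _ x
  rw [Submodule.mkQ_apply, postQ_mk]
  constructor
  · intro h
    rw [Submodule.Quotient.mk_eq_zero] at h
    obtain ⟨ψ'', hψ''⟩ := h
    obtain ⟨ψ, hψ⟩ := Module.projective_lifting_property g ψ'' hg
    have hψ2 : ψ'' ∘ₗ CotT.d1 P = g ∘ₗ c := hψ''
    have h1 : g ∘ₗ (c - ψ ∘ₗ CotT.d1 P) = 0 := by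
      rw [LinearMap.comp_sub, ← LinearMap.comp_assoc, hψ, hψ2, sub_self]
    obtain ⟨c', hc'⟩ := lift_of_comp_eq_zero f g hf hfg _ h1
    refine ⟨Submodule.Quotient.mk c', ?_⟩
    rw [postQ_mk, Submodule.Quotient.eq]
    refine ⟨-ψ, ?_⟩
    change (-ψ) ∘ₗ CotT.d1 P = f ∘ₗ c' - c
    rw [hc', LinearMap.neg_comp]
    abel
  · rintro ⟨y, hy⟩
    obtain ⟨c', rfl⟩ := Submodule.mkQ_surjective _ y
    rw [Submodule.mkQ_apply, postQ_mk, Submodule.Quotient.eq] at hy
    obtain ⟨ψ, hψ⟩ := hy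
    have hψ' : ψ ∘ₗ CotT.d1 P = f ∘ₗ c' - c := hψ
    rw [Submodule.Quotient.mk_eq_zero]
    refine ⟨-(g ∘ₗ ψ), ?_⟩
    change (-(g ∘ₗ ψ)) ∘ₗ CotT.d1 P = g ∘ₗ c
    rw [LinearMap.neg_comp, LinearMap.comp_assoc, hψ', LinearMap.comp_sub,
      ← LinearMap.comp_assoc, hfg.linearMap_comp_eq_zero, LinearMap.zero_comp]
    abel

end Rows

end Helpers


/-- Let A → B be a ring homomorphism, P a presentation of B over A with cotangent complex L₂ → L₁ → L₀,
and 0 → M' → M → M'' → 0 a short exact sequence of B-modules (f : M' → M injective, g : M → M''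
surjective, image of f = kernel of g). Write T^i(N) for the i-th cohomology of Hom_B(L•, N) and
T^i(f), T^i(g) for the maps induced by composition. Then T^0(f) is injective, the sequences T^i(M')
→ T^i(M) → T^i(M'') are exact for i = 0, 1, 2, and there are B-linear connecting maps δ₀ : T^0(M'')
→ T^1(M') and δ₁ : T^1(M'') → T^2(M') such that the nine-term sequence 0 → T^0(M') → T^0(M) →
T^0(M'') → T^1(M') → T^1(M) → T^1(M'') → T^2(M') → T^2(M) → T^2(M'') is exact. (The connecting maps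
are asserted to exist with this exactness; the text does not single them out otherwise.) -/
theorem result
    (A B : Type u) [CommRing A] [CommRing B] [Algebra A B] (ι σ : Type w)
    (P : Algebra.Presentation A B ι σ)
    (M' M M'' : Type m) [AddCommGroup M'] [Module B M'] [AddCommGroup M] [Module B M] [AddCommGroup M''] [Module B M'']
    (f : M' →ₗ[B] M) (g : M →ₗ[B] M'') (hf : Function.Injective f) (hg : Function.Surjective g)
    (hfg : Function.Exact f g) :
    Function.Injective (CotT.T0map P f) ∧ Function.Exact (CotT.T0map P f) (CotT.T0map P g) ∧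
      Function.Exact (CotT.T1map P f) (CotT.T1map P g) ∧ Function.Exact (CotT.T2map P f) (CotT.T2map P g) ∧
      ∃ (δ₀ : CotT.T0 P M'' →ₗ[B] CotT.T1 P M') (δ₁ : CotT.T1 P M'' →ₗ[B] CotT.T2 P M'),
        Function.Exact (CotT.T0map P g) δ₀ ∧ Function.Exact δ₀ (CotT.T1map P f) ∧
        Function.Exact (CotT.T1map P g) δ₁ ∧ Function.Exact δ₁ (CotT.T2map P f) := by
  refine ⟨T0map_injective P f hf, T0_exact P f g hf hfg, T1_exact P f g hf hg hfg,
    T2_exact P f g hf hg hfg, ?_⟩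
  have h₁ : CotT.cocycles1Map P f ∘ₗ i0 P M' =
      i0 P M ∘ₗ (LinearMap.llcomp B (CotT.L0 P) M' M f :
        (CotT.L0 P →ₗ[B] M') →ₗ[B] (CotT.L0 P →ₗ[B] M)) := by
    ext φ : 1
    apply Subtype.ext
    change f ∘ₗ (φ ∘ₗ CotT.d1 P) = (f ∘ₗ φ) ∘ₗ CotT.d1 P
    rw [LinearMap.comp_assoc]
  have h₂ : CotT.cocycles1Map P g ∘ₗ i0 P M =
      i0 P M'' ∘ₗ (LinearMap.llcomp B (CotT.L0 P) M M'' g :
        (CotT.L0 P →ₗ[B] M) →ₗ[B] (CotT.L0 P →ₗ[B] M'')) := by
    ext φ : 1
    apply Subtype.ext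
    change g ∘ₗ (φ ∘ₗ CotT.d1 P) = (g ∘ₗ φ) ∘ₗ CotT.d1 P
    rw [LinearMap.comp_assoc]
  have k₁ : (LinearMap.llcomp B (CotT.L2 P) M' M f :
        (CotT.L2 P →ₗ[B] M') →ₗ[B] (CotT.L2 P →ₗ[B] M)) ∘ₗ i1 P M' = i1 P M ∘ₗ postQ P f := by
    apply Submodule.linearMap_qext
    ext c : 1
    change f ∘ₗ (c ∘ₗ CotT.d2 P) = (f ∘ₗ c) ∘ₗ CotT.d2 P
    rw [LinearMap.comp_assoc]
  have k₂ : (LinearMap.llcomp B (CotT.L2 P) M M'' g :
        (CotT.L2 P →ₗ[B] M) →ₗ[B] (CotT.L2 P →ₗ[B] M'')) ∘ₗ i1 P M = i1 P M'' ∘ₗ postQ P g := by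
    apply Submodule.linearMap_qext
    ext c : 1
    change g ∘ₗ (c ∘ₗ CotT.d2 P) = (g ∘ₗ c) ∘ₗ CotT.d2 P
    rw [LinearMap.comp_assoc]
  refine ⟨SnakeLemma.δ' (i0 P M') (i0 P M) (i0 P M'') _ _ (post_exact f g hf hfg)
      (CotT.cocycles1Map P f) (CotT.cocycles1Map P g) (cocycles1Map_exact P f g hf hfg) h₁ h₂
      (LinearMap.ker (CotT.d1Star P M'')).subtype (exact_subtype_i0 P)
      (CotT.coboundaries1 P M').mkQ (exact_i0_mkQ P) (post_surjective g hg)
      (cocycles1Map_injective P f hf),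
    SnakeLemma.δ' (i1 P M') (i1 P M) (i1 P M'') (postQ P f) (postQ P g)
      (postQ_exact P f g hf hg hfg) _ _ (post_exact f g hf hfg) k₁ k₂
      (ι1 P M'') (exact_ι1_i1 P) (LinearMap.range (CotT.d2Star P M')).mkQ (exact_i1_mkQ P)
      (postQ_surjective P g hg) (post_injective f hf), ?_, ?_, ?_, ?_⟩
  · exact SnakeLemma.exact_δ'_right (i0 P M') (i0 P M) (i0 P M'') _ _ (post_exact f g hf hfg)
      (CotT.cocycles1Map P f) (CotT.cocycles1Map P g) (cocycles1Map_exact P f g hf hfg) h₁ h₂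
      (LinearMap.ker (CotT.d1Star P M)).subtype (exact_subtype_i0 P)
      (LinearMap.ker (CotT.d1Star P M'')).subtype (exact_subtype_i0 P)
      (CotT.coboundaries1 P M').mkQ (exact_i0_mkQ P) (post_surjective g hg)
      (cocycles1Map_injective P f hf) (CotT.T0map P g) rfl Subtype.val_injective
  · exact SnakeLemma.exact_δ'_left (i0 P M') (i0 P M) (i0 P M'') _ _ (post_exact f g hf hfg)
      (CotT.cocycles1Map P f) (CotT.cocycles1Map P g) (cocycles1Map_exact P f g hf hfg) h₁ h₂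
      (LinearMap.ker (CotT.d1Star P M'')).subtype (exact_subtype_i0 P)
      (CotT.coboundaries1 P M').mkQ (exact_i0_mkQ P)
      (CotT.coboundaries1 P M).mkQ (exact_i0_mkQ P) (post_surjective g hg)
      (cocycles1Map_injective P f hf) (CotT.T1map P f) rfl (Submodule.mkQ_surjective _)
  · exact SnakeLemma.exact_δ'_right (i1 P M') (i1 P M) (i1 P M'') (postQ P f) (postQ P g)
      (postQ_exact P f g hf hg hfg) _ _ (post_exact f g hf hfg) k₁ k₂
      (ι1 P M) (exact_ι1_i1 P) (ι1 P M'') (exact_ι1_i1 P)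
      (LinearMap.range (CotT.d2Star P M')).mkQ (exact_i1_mkQ P)
      (postQ_surjective P g hg) (post_injective f hf) (CotT.T1map P g)
      (by apply Submodule.linearMap_qext; rfl) (ι1_injective P)
  · exact SnakeLemma.exact_δ'_left (i1 P M') (i1 P M) (i1 P M'') (postQ P f) (postQ P g)
      (postQ_exact P f g hf hg hfg) _ _ (post_exact f g hf hfg) k₁ k₂
      (ι1 P M'') (exact_ι1_i1 P) (LinearMap.range (CotT.d2Star P M')).mkQ (exact_i1_mkQ P)
      (LinearMap.range (CotT.d2Star P M)).mkQ (exact_i1_mkQ P)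
      (postQ_surjective P g hg) (post_injective f hf) (CotT.T2map P f) rfl
      (Submodule.mkQ_surjective _)

end Groth.Agent.S12284
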