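import Groth.Statements.S12285
import Groth.Agent.Lib.Helper95.Comp9
import Groth.Agent.Lib.Helper95.BrCot
-- import your own Groth.Agent.* helpers here

set_option autoImplicit false
universe u w m
open scoped TensorProduct
open DefT

namespace Groth.Agent.S12285

open Groth.Agent.Lib.Helper97.CotT2 Groth.Agent.Lib.Helper95 Groth.Agent.Lib.Helper95.HM Groth.Agent.Lib.Helper95.Triple Groth.Agent.Lib.Helper95.BrCot

section
variable (A B C : Type u) [CommRing A] [CommRing B] [CommRing C] [Algebra A B] [Algebra B C] [Algebra A C]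
    [IsScalarTower A B C]

lemma aux32 : ((MvPolynomial.aeval (R := A)
    (fun c : C => (MvPolynomial.X (algebraMap C C c) : MvPolynomial C B)) :
      MvPolynomial C A →ₐ[A] MvPolynomial C B) : MvPolynomial C A →+* MvPolynomial C B) =
    cvmap A B C := by
  refine MvPolynomial.ringHom_ext (fun a => ?_) (fun c => ?_)
  · rw [RingHom.coe_coe, MvPolynomial.aeval_C, MvPolynomial.algebraMap_apply, cvmap,
      MvPolynomial.map_C]
  · rw [RingHom.coe_coe, MvPolynomial.aeval_X, cvmap, MvPolynomial.map_X]
    rfl

lemma ringHom32 (x : MvPolynomial C A) :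
    (CotT.canonHom A C B C).ringHom x = cvmap A B C x :=
  RingHom.congr_fun (aux32 A B C) x

lemma aux21 : ((MvPolynomial.aeval (R := A)
    (fun b : B => (MvPolynomial.X (algebraMap B C b) : MvPolynomial C A)) :
      MvPolynomial B A →ₐ[A] MvPolynomial C A) : MvPolynomial B A →+* MvPolynomial C A) =
    umap A B C := by
  refine MvPolynomial.ringHom_ext (fun a => ?_) (fun b => ?_)
  · rw [RingHom.coe_coe, MvPolynomial.aeval_C, umap_C]
    rfl
  · rw [RingHom.coe_coe, MvPolynomial.aeval_X, umap_X]

lemma ringHom21 (x : MvPolynomial B A) :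
    (CotT.canonHom A B A C).ringHom x = umap A B C x :=
  RingHom.congr_fun (aux21 A B C) x

end

/-- Let A → B → C be ring homomorphisms and M a C-module. Compute T^i(C/B, M), T^i(C/A, M) and T^i(B/A,
M) from the choice-free presentations (every element a variable, every kernel element a relation),
and let T^i(C/B, M) → T^i(C/A, M) and T^i(C/A, M) → T^i(B/A, M) be the maps induced by the morphisms
of presentations given by A → B over the identity of C and by B → C over the identity of A. Then
T^0(C/B, M) → T^0(C/A, M) is injective, the sequences T^i(C/B, M) → T^i(C/A, M) → T^i(B/A, M) are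
exact for i = 0, 1, 2, and there are additive connecting maps δ₀ : T^0(B/A, M) → T^1(C/B, M) and δ₁
: T^1(B/A, M) → T^2(C/B, M) making the nine-term sequence 0 → T^0(C/B) → T^0(C/A) → T^0(B/A) →
T^1(C/B) → T^1(C/A) → T^1(B/A) → T^2(C/B) → T^2(C/A) → T^2(B/A) exact. (The connecting maps are
asserted to exist with this exactness only, and only as additive maps; the published statement is an
exact sequence of C-modules, with C-linear connecting maps.) -/
theorem result
    (A B C : Type u) [CommRing A] [CommRing B] [CommRing C] [Algebra A B] [Algebra B C] [Algebra A C]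
    [IsScalarTower A B C] (M : Type u) [AddCommGroup M] [Module C M] [Module B M] [IsScalarTower B C M] :
    Function.Injective ((CotT.canonHom A C B C).T0pull M) ∧
    Function.Exact ((CotT.canonHom A C B C).T0pull M) ((CotT.canonHom A B A C).T0pull M) ∧
    Function.Exact ((CotT.canonHom A C B C).T1pull M) ((CotT.canonHom A B A C).T1pull M) ∧
    Function.Exact ((CotT.canonHom A C B C).T2pull M) ((CotT.canonHom A B A C).T2pull M) ∧
    ∃ (δ₀ : CotT.T0 (CotT.canon A B) M →+ CotT.T1 (CotT.canon B C) M)
      (δ₁ : CotT.T1 (CotT.canon A B) M →+ CotT.T2 (CotT.canon B C) M),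
      Function.Exact ((CotT.canonHom A B A C).T0pull M) δ₀ ∧ Function.Exact δ₀ ((CotT.canonHom A C B C).T1pull M) ∧
      Function.Exact ((CotT.canonHom A B A C).T1pull M) δ₁ ∧ Function.Exact δ₁ ((CotT.canonHom A C B C).T2pull M) := by
  have hM3 : ∀ (s : C) (m : M), s • m = (RingHom.id C) s • m := fun _ _ => rfl
  have hM2 : ∀ (s : C) (m : M), s • m = ((RingHom.id C).comp (algebraMap C C)) s • m :=
    BrCot.hM_of (S := C) (S' := C) (RingHom.id C) hM3
  have hM1 : ∀ (s : B) (m : M),
      s • m = (((RingHom.id C).comp (algebraMap C C)).comp (algebraMap B C)) s • m :=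
    BrCot.hM_of (S := B) (S' := C) ((RingHom.id C).comp (algebraMap C C)) hM2
  let g32 : Hom (D2 A C) (D3 B C) := BrCot.homOf (CotT.canonHom A C B C) (RingHom.id C)
  let g21 : Hom (D1 A B C) (D2 A C) :=
    BrCot.homOf (CotT.canonHom A B A C) ((RingHom.id C).comp (algebraMap C C))
  have key := nine_canon (A := A) (B := B) (T := C) M g32 g21
    (fun x => ringHom32 A B C x) (fun x => ringHom21 A B C x)
  have fin := key.transfer
    (⇑((CotT.canonHom A C B C).T0pull M)) (⇑((CotT.canonHom A B A C).T0pull M))
    (⇑((CotT.canonHom A C B C).T1pull M)) (⇑((CotT.canonHom A B A C).T1pull M))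
    (⇑((CotT.canonHom A C B C).T2pull M)) (⇑((CotT.canonHom A B A C).T2pull M))
    (BrCot.τ0 (CotT.canon B C) (RingHom.id C) hM3).symm
    (BrCot.τ1 (CotT.canon B C) (RingHom.id C) hM3).symm
    (BrCot.τ2 (CotT.canon B C) (RingHom.id C) hM3).symm
    (BrCot.τ0 (CotT.canon A C) ((RingHom.id C).comp (algebraMap C C)) hM2).symm
    (BrCot.τ1 (CotT.canon A C) ((RingHom.id C).comp (algebraMap C C)) hM2).symm
    (BrCot.τ2 (CotT.canon A C) ((RingHom.id C).comp (algebraMap C C)) hM2).symm
    (BrCot.τ0 (CotT.canon A B) (((RingHom.id C).comp (algebraMap C C)).comp (algebraMap B C)) hM1).symm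
    (BrCot.τ1 (CotT.canon A B) (((RingHom.id C).comp (algebraMap C C)).comp (algebraMap B C)) hM1).symm
    (BrCot.τ2 (CotT.canon A B) (((RingHom.id C).comp (algebraMap C C)).comp (algebraMap B C)) hM1).symm
    (fun x => (AddEquiv.eq_symm_apply _).mpr ((BrCot.nat0 (CotT.canonHom A C B C) (RingHom.id C) hM3 _).trans
        (congrArg _ (AddEquiv.apply_symm_apply _ x))))
    (fun x => (AddEquiv.eq_symm_apply _).mpr ((BrCot.nat0 (CotT.canonHom A B A C) ((RingHom.id C).comp (algebraMap C C)) hM2 _).trans
        (congrArg _ (AddEquiv.apply_symm_apply _ x))))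
    (fun x => (AddEquiv.eq_symm_apply _).mpr ((BrCot.nat1 (CotT.canonHom A C B C) (RingHom.id C) hM3 _).trans
        (congrArg _ (AddEquiv.apply_symm_apply _ x))))
    (fun x => (AddEquiv.eq_symm_apply _).mpr ((BrCot.nat1 (CotT.canonHom A B A C) ((RingHom.id C).comp (algebraMap C C)) hM2 _).trans
        (congrArg _ (AddEquiv.apply_symm_apply _ x))))
    (fun x => (AddEquiv.eq_symm_apply _).mpr ((BrCot.nat2 (CotT.canonHom A C B C) (RingHom.id C) hM3 _).trans
        (congrArg _ (AddEquiv.apply_symm_apply _ x))))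
    (fun x => (AddEquiv.eq_symm_apply _).mpr ((BrCot.nat2 (CotT.canonHom A B A C) ((RingHom.id C).comp (algebraMap C C)) hM2 _).trans
        (congrArg _ (AddEquiv.apply_symm_apply _ x))))
  exact ⟨fin.inj, fin.ex0, fin.ex1, fin.ex2, fin.conn⟩

end Groth.Agent.S12285
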