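import Groth.Statements.S12288
import Groth.Agent.Lib.Helper97.CotT2.Assemble
import Groth.Agent.Lib.Helper97.CotT2.Bridge
import Groth.Agent.Lib.Helper97.CotT2.RegSeq

set_option autoImplicit false
universe u w m
open scoped TensorProduct
open DefT

namespace Groth.Agent.S12288

theorem compat {A B : Type u} [CommRing A] [CommRing B] [Algebra A B] (c : B → A)
    (hc : ∀ b, algebraMap A B (c b) = b) (p : MvPolynomial B A) :
    algebraMap (CotT.canon A B).toExtension.Ring B (Lib.Helper97.CotT2.shift c p) =
      algebraMap A B (MvPolynomial.constantCoeff p) := by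
  have h : ((MvPolynomial.aeval (R := A) (id : B → B) : MvPolynomial B A →ₐ[A] B) :
        MvPolynomial B A →+* B).comp
      (Lib.Helper97.CotT2.shift c : MvPolynomial B A →+* MvPolynomial B A) =
      (algebraMap A B).comp MvPolynomial.constantCoeff := by
    refine MvPolynomial.ringHom_ext (fun a => ?_) (fun b => ?_)
    · simp
    · simp [hc]
  have h2 := RingHom.congr_fun h p
  exact (CotT.algebraMap_toExtension (CotT.canon A B) _).trans h2

/-- Let A be a local ring and A → B a surjective ring homomorphism whose kernel is generated by a
regular sequence a_1, …, a_r on A (each a_i is a non-zero-divisor on A/(a_1, …, a_{i-1}) and the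
ideal is proper). Then T^2(B/A, M) = 0 for every B-module M, the module being computed from the
choice-free presentation of B over A. -/
theorem result
    (A B : Type u) [CommRing A] [IsLocalRing A] [CommRing B] [Algebra A B]
    (hs : Function.Surjective (algebraMap A B)) (rs : List A) (hreg : RingTheory.Sequence.IsRegular A rs)
    (hI : RingHom.ker (algebraMap A B) = Ideal.ofList rs) (M : Type u) [AddCommGroup M] [Module B M] :
    Subsingleton (CotT.T2 (CotT.canon A B) M) := by
  let _ : Module A M := Module.compHom M (algebraMap A B)
  have _ : IsScalarTower A B M := IsScalarTower.of_compHom _ _ _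
  let _ : Module (CotT.canon A B).toExtension.Ring M :=
    Module.compHom M (algebraMap (CotT.canon A B).toExtension.Ring B)
  have _ : IsScalarTower (CotT.canon A B).toExtension.Ring B M := IsScalarTower.of_compHom _ _ _
  choose c hc using hs
  let E : MvPolynomial B A ≃+* MvPolynomial PEmpty.{1} (CotT.canon A B).toExtension.Ring :=
    (Lib.Helper97.CotT2.shift c).toRingEquiv.trans
      (MvPolynomial.isEmptyRingEquiv (CotT.canon A B).toExtension.Ring PEmpty.{1}).symm
  have hr : RingHom.ker (algebraMap A B) =
      Ideal.span (Set.range (fun i : Fin rs.length => rs.get i)) := by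
    rw [hI]
    change Ideal.span {r | r ∈ rs} = Ideal.span (Set.range rs.get)
    rw [Set.range_list_get]
  obtain ⟨e⟩ := Lib.Helper97.CotT2.nonempty_H2_equiv (fun i : Fin rs.length => rs.get i)
    (CotT.rel (CotT.canon A B)) M hr (CotT.canon A B).span_range_relation_eq_ker.symm
    PEmpty.{1} B E (fun p => by
      have h1 : E p = MvPolynomial.C (Lib.Helper97.CotT2.shift c p) :=
        MvPolynomial.isEmptyRingEquiv_symm_apply _ _ _
      have h2 : MvPolynomial.constantCoeff (E p) = Lib.Helper97.CotT2.shift c p := by
        rw [h1]
        exact MvPolynomial.constantCoeff_C _ _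
      exact (congrArg (algebraMap _ B) h2).trans (compat c hc p))
  have hsub : Subsingleton (Lib.Helper97.CotT2.H2 (fun i : Fin rs.length => rs.get i) M B) :=
    Lib.Helper97.CotT2.subsingleton_H2_of_Q_le_F0 _ M B
      (Lib.Helper97.CotT2.Q_le_F0_of_isWeaklyRegular rs hreg.toIsWeaklyRegular)
  exact ((Lib.Helper97.CotT2.bridge (CotT.canon A B) M).trans e.symm).toEquiv.subsingleton

end Groth.Agent.S12288
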