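import Groth.Statements.S12291
import Groth.Agent.Lib.Helper97.CotT2.CICore
import Groth.Agent.Lib.Helper97.CotT2.MinGen
import Groth.Agent.Lib.Helper97.CotT2.KoszulReg
import Groth.Agent.Lib.Helper94.CIField
import Groth.Agent.Lib.Helper77.RegularCM

set_option autoImplicit false
universe u w m
open scoped TensorProduct
open DefT

namespace Groth.Agent.S12291

/-- Let k be an algebraically closed field and A a regular local k-algebra with residue field k such
that T^1(A/k, N) = 0 and T^2(A/k, N) = 0 for all A-modules N; let I be a proper ideal of A and B =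
A/I. Then B is cut out of A as a local complete intersection — meaning I is generated by some list
of r elements with r + dim B = dim A, i.e. by dim A − dim B elements — exactly when T^2(B/k, M)
vanishes for each B-module M. The T^i are computed from the choice-free presentations. (The
published statement assumes only that A is a regular local k-algebra with residue field k; its proof
uses the vanishing of T^1(A/k, −) and T^2(A/k, −), which holds when A is essentially of finite type
over k and which this row carries as a hypothesis.) -/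
theorem result
    (k A : Type u) [Field k] [IsAlgClosed k] [CommRing A] [IsRegularLocalRing A] [Algebra k A]
    (hres : Function.Surjective (algebraMap k (IsLocalRing.ResidueField A)))
    (hT : ∀ (N : Type u) [AddCommGroup N] [Module A N],
      Subsingleton (CotT.T1 (CotT.canon k A) N) ∧ Subsingleton (CotT.T2 (CotT.canon k A) N))
    (I : Ideal A) (hI : I ≠ ⊤) :
    (∃ rs : List A, Ideal.ofList rs = I ∧ (rs.length : WithBot ℕ∞) + ringKrullDim (A ⧸ I) = ringKrullDim A) ↔
      ∀ (M : Type u) [AddCommGroup M] [Module (A ⧸ I) M], Subsingleton (CotT.T2 (CotT.canon k (A ⧸ I)) M) := by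
  have hIm : I ≤ IsLocalRing.maximalIdeal A := IsLocalRing.le_maximalIdeal hI
  constructor
  · rintro ⟨rs, hrs, hdim⟩ M _ _
    subst hrs
    let _ : Module A M := Module.compHom M (algebraMap A (A ⧸ Ideal.ofList rs))
    have _ : IsScalarTower A (A ⧸ Ideal.ofList rs) M :=
      IsScalarTower.of_compHom A (A ⧸ Ideal.ofList rs) M
    obtain ⟨hT1, hT2⟩ := hT M
    have _ : LocCoh.IsCohenMacaulayLocalRing A :=
      Groth.Agent.Lib.Helper77.RegularCM.isCohenMacaulayLocalRing A
    have hmem : ∀ r ∈ rs, r ∈ IsLocalRing.maximalIdeal A := fun r hr =>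
      hIm (Ideal.subset_span hr)
    have hreg : RingTheory.Sequence.IsRegular A rs := by
      refine Groth.Agent.Lib.Helper94.CIField.isRegular_of_ringKrullDim_quotient A rs hmem ?_
      rw [add_comm]
      exact hdim
    have hrI : Ideal.span (Set.range (fun i : Fin rs.length => rs.get i)) = Ideal.ofList rs := by
      have : Set.range (fun i : Fin rs.length => rs.get i) = {x | x ∈ rs} := Set.range_list_get rs
      rw [this]
    have hQ := Groth.Agent.Lib.Helper97.CotT2.Q_le_F0_of_isWeaklyRegular rs hreg.toIsWeaklyRegular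
    have hvan : Groth.Agent.Lib.Helper97.CotT2.H2Vanishes (fun i : Fin rs.length => rs.get i) M :=
      (Groth.Agent.Lib.Helper97.CotT2.subsingleton_H2_iff _ M A).mp
        (Groth.Agent.Lib.Helper97.CotT2.subsingleton_H2_of_Q_le_F0 _ M A hQ)
    exact (Groth.Agent.Lib.Helper97.CotT2.subsingleton_T2_quotient_iff k A (Ideal.ofList rs) M
      hT1 hT2 _ hrI).mpr hvan
  · intro H
    obtain ⟨s, hs, hspan⟩ := Submodule.FG.exists_span_finset_card_eq_spanFinrank
      (IsNoetherian.noetherian I)
    let rI : Fin s.card → A := fun i => (s.equivFin.symm i : A)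
    have hrange : Set.range rI = (s : Set A) := by
      ext x
      constructor
      · rintro ⟨i, rfl⟩
        exact (s.equivFin.symm i).2
      · intro hx
        exact ⟨s.equivFin ⟨x, hx⟩, by simp [rI]⟩
    have hrI : Ideal.span (Set.range rI) = I := by rw [hrange]; exact hspan
    have hmin : (Ideal.span (Set.range rI)).spanFinrank = s.card := by rw [hrI, hs]
    have hM : Module.IsTorsionBySet A (Groth.Agent.Lib.Helper97.CotT2.HQ rI) I := by
      intro m a
      exact Groth.Agent.Lib.Helper97.CotT2.smul_HQ_eq_zero rI (hrI ▸ a.2) m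
    let _ : Module (A ⧸ I) (Groth.Agent.Lib.Helper97.CotT2.HQ rI) := hM.module
    have _ : IsScalarTower A (A ⧸ I) (Groth.Agent.Lib.Helper97.CotT2.HQ rI) := hM.isScalarTower
    obtain ⟨hT1, hT2⟩ := hT (Groth.Agent.Lib.Helper97.CotT2.HQ rI)
    have hvan := (Groth.Agent.Lib.Helper97.CotT2.subsingleton_T2_quotient_iff k A I
      (Groth.Agent.Lib.Helper97.CotT2.HQ rI) hT1 hT2 rI hrI).mp
      (H (Groth.Agent.Lib.Helper97.CotT2.HQ rI))
    have hQF : Groth.Agent.Lib.Helper97.CotT2.Q rI ≤ Groth.Agent.Lib.Helper97.CotT2.F0 rI :=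
      Groth.Agent.Lib.Helper97.CotT2.Q_le_F0_of_H2Vanishes rI
        (fun q hq i => Groth.Agent.Lib.Helper97.CotT2.coeff_mem_maximalIdeal_of_minimal rI hmin hq i)
        hvan
    have hmemI : ∀ i, rI i ∈ IsLocalRing.maximalIdeal A := fun i =>
      hIm (hrI ▸ Ideal.subset_span ⟨i, rfl⟩)
    have hwr := Groth.Agent.Lib.Helper97.CotT2.isWeaklyRegular_ofFn_of_Q_le_F0 s.card rI hmemI hQF
    have hmem : ∀ r ∈ List.ofFn rI, r ∈ IsLocalRing.maximalIdeal A := by
      intro r hr
      obtain ⟨i, rfl⟩ := (List.mem_ofFn' rI r).mp hr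
      exact hmemI i
    have hreg : RingTheory.Sequence.IsRegular A (List.ofFn rI) :=
      (IsLocalRing.isRegular_iff_isWeaklyRegular_of_subset_maximalIdeal hmem).mpr hwr
    have hof : Ideal.ofList (List.ofFn rI) = I := by
      rw [← hrI]
      change Ideal.span {x | x ∈ List.ofFn rI} = _
      congr 1
      ext x
      exact List.mem_ofFn' _ _
    have hdim := ringKrullDim_add_length_eq_ringKrullDim_of_isRegular (List.ofFn rI) hreg
    refine ⟨List.ofFn rI, hof, ?_⟩
    rw [add_comm, ← hdim]
    subst hof
    rfl

end Groth.Agent.S12291
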