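import Groth.Statements.S12293
import Groth.Agent.Lib.Helper76.ExalT1
import Groth.Agent.Lib.Helper97.DefDual.ToExt

set_option autoImplicit false
universe u w m
open CategoryTheory CategoryTheory.Limits AlgebraicGeometry
open scoped TensorProduct
open DefT

namespace Groth.Agent.S12293

/-- Let k be a field and B a k-algebra. The set of isomorphism classes of deformations of X = Spec B
over the dual numbers D = k[ε] (schemes flat over Spec D with a morphism from X identifying X with
the fibre over the closed point, up to isomorphism over Spec D and under X) is in bijection with the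
B-module T^1(B/k, B), computed from the choice-free presentation of B over k. (The published
statement calls the correspondence natural; this row asserts the existence of a bijection.) -/
theorem result
    (k B : Type u) [Field k] [CommRing B] [Algebra k B] :
    Nonempty ((ArtFun.defFunctor (Λ := k) (Spec (CommRingCat.of B)) (Spec.map (CommRingCat.ofHom (algebraMap k B)))).obj
        (ArtFun.Art.dual k k) ≃ CotT.T1 (CotT.canon k B) B) := by
  obtain ⟨e, _⟩ := Groth.Agent.Lib.Helper76.ExalT1.exalcom_T1 k B B
  let Ψ : Exal.Exalcom k B B →
      (ArtFun.defFunctor (Λ := k) (Spec (CommRingCat.of B))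
        (Spec.map (CommRingCat.ofHom (algebraMap k B)))).obj (ArtFun.Art.dual k k) :=
    Quotient.map' Groth.Agent.Lib.Helper97.DefDual.ofExt
      (fun _ _ h => h.elim fun h' => ⟨Groth.Agent.Lib.Helper97.DefDual.isoOfEquiv h'⟩)
  have hbij : Function.Bijective Ψ := by
    constructor
    · intro q q' hq
      induction q using Quotient.inductionOn with
      | h E =>
        induction q' using Quotient.inductionOn with
        | h E' =>
          have h1 : Nonempty ((Groth.Agent.Lib.Helper97.DefDual.ofExt E).Iso
              (Groth.Agent.Lib.Helper97.DefDual.ofExt E')) := Quotient.exact hq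
          obtain ⟨I⟩ := h1
          obtain ⟨e'⟩ := Groth.Agent.Lib.Helper97.DefDual.nonempty_equiv_of_iso I
          exact Quotient.sound ⟨e'.symm⟩
    · intro q
      induction q using Quotient.inductionOn with
      | h ξ =>
        obtain ⟨E, ⟨I⟩⟩ := Groth.Agent.Lib.Helper97.DefDual.exists_ext_iso ξ
        exact ⟨Quotient.mk _ E, Quotient.sound ⟨I⟩⟩
  exact ⟨(Equiv.ofBijective Ψ hbij).symm.trans e⟩

end Groth.Agent.S12293
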