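import Groth.Statements.S12295
import Groth.Agent.Lib.Helper97.CotT2.Constr
import Groth.Agent.Lib.Helper97.CotT2.Bridge

set_option autoImplicit false
universe u w m
open scoped TensorProduct
open DefT

namespace Groth.Agent.S12295

theorem compat {k B : Type u} [CommRing k] [CommRing B] [Algebra k B] {ι σ ι' σ' : Type w}
    (P : Algebra.Presentation k B ι σ) [IsEmpty ι']
    (P' : Algebra.Presentation P.toExtension.Ring B ι' σ') (x : P'.toExtension.Ring) :
    algebraMap P.toExtension.Ring B
      ((MvPolynomial.isEmptyAlgEquiv P.toExtension.Ring ι').toRingEquiv x) =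
      algebraMap P'.toExtension.Ring B x := by
  have h : (Algebra.ofId P.toExtension.Ring B).comp
      (MvPolynomial.isEmptyAlgEquiv P.toExtension.Ring ι').toAlgHom =
      MvPolynomial.aeval P'.val :=
    MvPolynomial.algHom_ext fun i => isEmptyElim i
  have h2 := AlgHom.congr_fun h x
  rw [← P'.algebraMap_apply] at h2
  exact h2

/-- Let k be a commutative ring, B a k-algebra and P a presentation of B over k with polynomial ring R =
k[x_i] (any set of variables), so that B = R/I; let P' be a presentation of B over R with no
polynomial variables (R itself mapping onto B, with chosen generators of I), and M a B-module. Then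
T^2(B/R, M), computed from P', and T^2(B/k, M), computed from P, are isomorphic B-modules.
(Existence of a B-linear isomorphism only; the published statement has finitely many variables over
a field and notes that any base ring works.) -/
theorem result
    (k B : Type u) [CommRing k] [CommRing B] [Algebra k B] (ι σ ι' σ' : Type w)
    (P : Algebra.Presentation k B ι σ) [IsEmpty ι']
    (P' : Algebra.Presentation P.toExtension.Ring B ι' σ')
    (M : Type m) [AddCommGroup M] [Module B M] :
    Nonempty (CotT.T2 P' M ≃ₗ[B] CotT.T2 P M) := by
  let _ : Module P.toExtension.Ring M := Module.compHom M (algebraMap P.toExtension.Ring B)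
  have _ : IsScalarTower P.toExtension.Ring B M := IsScalarTower.of_compHom _ _ _
  let _ : Module P'.toExtension.Ring M := Module.compHom M (algebraMap P'.toExtension.Ring B)
  have _ : IsScalarTower P'.toExtension.Ring B M := IsScalarTower.of_compHom _ _ _
  let e : P'.toExtension.Ring ≃+* P.toExtension.Ring :=
    (MvPolynomial.isEmptyAlgEquiv P.toExtension.Ring ι').toRingEquiv
  have hcompat : ∀ x : P'.toExtension.Ring,
      algebraMap P.toExtension.Ring B (e x) = algebraMap P'.toExtension.Ring B x :=
    compat P P'
  have hcompat' : ∀ y : P.toExtension.Ring,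
      algebraMap P'.toExtension.Ring B (e.symm y) = algebraMap P.toExtension.Ring B y := by
    intro y
    rw [← hcompat, e.apply_symm_apply]
  obtain ⟨E⟩ : Nonempty (Lib.Helper97.CotT2.H2 (CotT.rel P) M B ≃ₗ[B]
      Lib.Helper97.CotT2.H2 (CotT.rel P') M B) := by
    refine Lib.Helper97.CotT2.nonempty_equiv_of_ringEquiv B e ?_ ?_ ?_
    · intro s
      have h1 : e (CotT.rel P' s) ∈ RingHom.ker (algebraMap P.toExtension.Ring B) := by
        rw [RingHom.mem_ker, hcompat]
        exact CotT.algebraMap_rel P' s
      have h2 : RingHom.ker (algebraMap P.toExtension.Ring B) = Ideal.span (Set.range (CotT.rel P)) :=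
        P.span_range_relation_eq_ker.symm
      rw [h2] at h1
      exact h1
    · intro s
      have h1 : e.symm (CotT.rel P s) ∈ RingHom.ker (algebraMap P'.toExtension.Ring B) := by
        rw [RingHom.mem_ker, hcompat']
        exact CotT.algebraMap_rel P s
      have h2 : RingHom.ker (algebraMap P'.toExtension.Ring B) =
          Ideal.span (Set.range (CotT.rel P')) := P'.span_range_relation_eq_ker.symm
      rw [h2] at h1
      exact h1
    · intro x m
      change algebraMap P.toExtension.Ring B (e x) • m = algebraMap P'.toExtension.Ring B x • m
      rw [hcompat]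
  exact ⟨(Lib.Helper97.CotT2.bridge P' M).trans (E.symm.trans (Lib.Helper97.CotT2.bridge P M).symm)⟩

end Groth.Agent.S12295
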