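import Groth.Statements.S12297
import Groth.Agent.Lib.Helper97.CotT2.LocT2
import Groth.Agent.Lib.Helper97.CotT2.SmoothT1
import Groth.Agent.Lib.Helper97.CotT2.RegSeq
import Groth.Agent.Lib.Helper65.RegularSmooth
import Groth.Agent.Lib.Helper94.CILocal
import Mathlib.RingTheory.RegularLocalRing.Polynomial
import Mathlib.RingTheory.SurjectiveOnStalks

set_option autoImplicit false
universe u w m
open scoped TensorProduct
open DefT

namespace Groth.Agent.S12297

/-- Let k be an algebraically closed field, B a finitely generated k-algebra, m a maximal ideal of B and
B_m the localization, a local k-algebra with residue field k. Then B_m is a regular local ring if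
and only if T^1(B_m/k, M) = 0 for all B_m-modules M, and in that case T^2(B_m/k, M) = 0 for all M as
well; the T^i are computed from the choice-free presentation of B_m over k. (The published statement
is for a local k-algebra with residue field k, k algebraically closed, proved by localization from
the finitely generated case; this row states it for the localizations of finitely generated
k-algebras at maximal ideals, the case that proof covers.) -/
theorem result
    (k B : Type u) [Field k] [IsAlgClosed k] [CommRing B] [Algebra k B] [Algebra.FiniteType k B]
    (m : Ideal B) [m.IsMaximal] :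
    (IsRegularLocalRing (Localization.AtPrime m) ↔
      ∀ (M : Type u) [AddCommGroup M] [Module (Localization.AtPrime m) M],
        Subsingleton (CotT.T1 (CotT.canon k (Localization.AtPrime m)) M)) ∧
    (IsRegularLocalRing (Localization.AtPrime m) →
      ∀ (M : Type u) [AddCommGroup M] [Module (Localization.AtPrime m) M],
        Subsingleton (CotT.T2 (CotT.canon k (Localization.AtPrime m)) M)) := by
  have hN : IsNoetherianRing B := Algebra.FiniteType.isNoetherianRing k B
  have hEFT : Algebra.EssFiniteType k (Localization.AtPrime m) :=
    Algebra.EssFiniteType.comp k B (Localization.AtPrime m)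
  refine ⟨?_, ?_⟩
  · rw [Groth.Agent.Lib.Helper97.CotT2.forall_subsingleton_T1_iff_formallySmooth
      (CotT.canon k (Localization.AtPrime m))]
    constructor
    · intro hreg
      have _ : Algebra.EssFiniteType k (IsLocalRing.ResidueField (Localization.AtPrime m)) :=
        inferInstanceAs (Algebra.EssFiniteType k
          (Localization.AtPrime m ⧸ IsLocalRing.maximalIdeal (Localization.AtPrime m)))
      have _ : Algebra.FormallySmooth k (IsLocalRing.ResidueField (Localization.AtPrime m)) :=
        Algebra.FormallySmooth.of_perfectField
      exact Groth.Agent.Lib.Helper65.RegularSmooth.formallySmooth_of_isRegularLocalRing k _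
    · intro hsm
      exact Groth.Agent.Lib.Helper65.RegularSmooth.isRegularLocalRing_of_formallySmooth k _
  · intro hreg M _ _
    obtain ⟨n, π, hπ⟩ := Algebra.FiniteType.iff_quotient_mvPolynomial''.mp
      (inferInstance : Algebra.FiniteType k B)
    let R := MvPolynomial (Fin n) k
    let m' : Ideal R := m.comap (π : R →+* B)
    have hm' : m'.IsMaximal := Ideal.comap_isMaximal_of_surjective (π : R →+* B) hπ
    have hm'p : m'.IsPrime := hm'.isPrime
    let A := Localization.AtPrime m'
    have hRreg : IsRegularRing R := inferInstance
    have hAreg : IsRegularLocalRing A := isRegularRing_iff.mp hRreg m'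
    let ρA : A →+* Localization.AtPrime m := Localization.localRingHom m' m (π : R →+* B) rfl
    have hρA : Function.Surjective ρA :=
      (RingHom.surjectiveOnStalks_of_surjective hπ).localRingHom_surjective m' m rfl
    let I : Ideal A := RingHom.ker ρA
    have hI : I ≠ ⊤ := RingHom.ker_ne_top ρA
    have hIm : I ≤ IsLocalRing.maximalIdeal A := IsLocalRing.le_maximalIdeal hI
    have hAI : IsRegularLocalRing (A ⧸ I) :=
      IsRegularLocalRing.of_ringEquiv (RingHom.quotientKerEquivOfSurjective hρA).symm
    have hbot : CInt.IsRegularIdeal (I.map (Ideal.Quotient.mk I)) := by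
      refine ⟨[], ?_, ?_⟩
      · refine ⟨RingTheory.Sequence.IsWeaklyRegular.nil _ _, ?_⟩
        rw [Ideal.ofList_nil, Submodule.bot_smul]
        exact top_ne_bot
      · rw [Ideal.ofList_nil, Ideal.map_quotient_self]
    obtain ⟨rs, hrs, hof⟩ :=
      (Groth.Agent.Lib.Helper94.CILocal.isRegularIdeal_iff_quotient A I I le_rfl hIm hAI).mpr hbot
    let _ : Module A M := Module.compHom M ρA
    have hQ := Groth.Agent.Lib.Helper97.CotT2.Q_le_F0_of_isWeaklyRegular rs hrs.toIsWeaklyRegular
    have hvan : Groth.Agent.Lib.Helper97.CotT2.H2Vanishes (fun i : Fin rs.length => rs.get i) M :=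
      (Groth.Agent.Lib.Helper97.CotT2.subsingleton_H2_iff _ M A).mp
        (Groth.Agent.Lib.Helper97.CotT2.subsingleton_H2_of_Q_le_F0 _ M A hQ)
    have hrI : Ideal.span (Set.range (fun i : Fin rs.length => rs.get i)) = RingHom.ker ρA := by
      have : Set.range (fun i : Fin rs.length => rs.get i) = {x | x ∈ rs} := Set.range_list_get rs
      rw [this]
      exact hof
    have hker := (Groth.Agent.Lib.Helper97.CotT2.H2Vanishes_iff_kerFam ρA M hrI).mpr hvan
    refine Groth.Agent.Lib.Helper97.CotT2.subsingleton_T2_of_localization
      (CotT.canon k (Localization.AtPrime m)) M m'.primeCompl A ρA hρA (fun _ _ => rfl) ?_ hker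
    intro x
    change Localization.localRingHom m' m (π : R →+* B) rfl (algebraMap R A (MvPolynomial.C x)) = _
    rw [Localization.localRingHom_to_map]
    change algebraMap B (Localization.AtPrime m) (π (algebraMap k R x)) = _
    rw [π.commutes, ← IsScalarTower.algebraMap_apply]

end Groth.Agent.S12297
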