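import Groth.Statements.S12301
import Groth.Agent.Lib.Helper94.ArtFun

set_option autoImplicit false
universe u v
open CategoryTheory
open ArtFun

namespace Groth.Agent.S12301

open Groth.Agent.Lib.Helper94 in

/-- Let k be an algebraically closed field, f : F₁ → F₂ a morphism of set-valued functors on local
Artinian k-algebras with residue field k, (R₁, ξ₁) a family for F₁ and (R₂, ξ₂) a versal family for
F₂, where R₁, R₂ are complete local Noetherian k-algebras with residue field k and versal is meant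
in the strong sense: h_{R₂} → F₂ is surjective on every object and has the lifting property along
surjections. Then there is a k-algebra map φ : R₂ → R₁, compatible with the augmentations, such that
for every local Artinian A and every u : R₁ → A the element of F₂(A) given by ξ₂ at u ∘ φ equals the
image under f of the element of F₁(A) given by ξ₁ at u; in other words composition with φ, h_{R₁} →
h_{R₂}, covers f. (The published statement assumes (R₁, ξ₁) versal as well; this row asks nothing of
ξ₁, which is all the argument uses, and takes the coefficient rings Noetherian.) -/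
theorem result
    {k : Type u} [Field k] [IsAlgClosed k] {F₁ F₂ : ArtFun.Art k k ⥤ Type v} (f : F₁ ⟶ F₂)
    (R₁ : ArtFun.CRing k k) (ξ₁ : ArtFun.Family R₁.carrier R₁.res F₁)
    (R₂ : ArtFun.CRing k k) (ξ₂ : ArtFun.Family R₂.carrier R₂.res F₂) (hξ₂ : ArtFun.IsVersal ξ₂)
    (hsurj : ∀ A : ArtFun.Art k k, Function.Surjective (ξ₂.app A)) :
    ∃ (φ : R₂.carrier →ₐ[k] R₁.carrier) (hφ : R₁.res.comp φ = R₂.res),
      ∀ (A : ArtFun.Art k k) (u : ArtFun.HomSet R₁.carrier R₁.res A),
        (ξ₂.along φ hφ).app A u = f.app A (ξ₁.app A u) := by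
  -- the set of admissible maps at level `n`
  let T : ℕ → Type u := fun n =>
    {φ : HomSet R₂.carrier R₂.res (R₁.trunc n) //
      ξ₂.app _ φ = f.app _ (ξ₁.app _ (R₁.truncHom n))}
  have step : ∀ n (φ : T n), ∃ φ' : T (n + 1), HomSet.map (R₁.truncMap n) φ'.1 = φ.1 := by
    intro n φ
    have hsurjmap : Function.Surjective (R₁.truncMap n) := by
      intro x
      obtain ⟨a, rfl⟩ := Ideal.Quotient.mk_surjective x
      exact ⟨Ideal.Quotient.mk _ a, rfl⟩
    have hy : F₂.map (R₁.truncMap n) (f.app _ (ξ₁.app _ (R₁.truncHom (n + 1)))) =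
        ξ₂.app _ φ.1 := by
      rw [φ.2, ← NatTrans.naturality_apply f, ← ξ₁.natural, CRing.truncMap_truncHom]
    obtain ⟨ψ, hψ1, hψ2⟩ := hξ₂ (R₁.truncMap n) hsurjmap φ.1 _ hy
    exact ⟨⟨ψ, hψ2⟩, hψ1⟩
  obtain ⟨φ0, hφ0⟩ := hsurj _ (f.app _ (ξ₁.app _ (R₁.truncHom 0)))
  let seq : ∀ n, T n := fun n =>
    Nat.rec (motive := T) ⟨φ0, hφ0⟩ (fun n φ => Classical.choose (step n φ)) n
  have hseq : ∀ n, HomSet.map (R₁.truncMap n) (seq (n + 1)).1 = (seq n).1 := fun n =>
    Classical.choose_spec (step n (seq n))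
  obtain ⟨g, hg, hgn⟩ := exists_glue R₁ (fun n => (seq n).1) hseq
  refine ⟨g, hg, fun A u => ?_⟩
  obtain ⟨n, ubar, hu⟩ := exists_factorTrunc R₁ u
  have h1 : (⟨u.1.comp g, by rw [← AlgHom.comp_assoc, u.2, hg]⟩ : HomSet R₂.carrier R₂.res A) =
      HomSet.map ubar (seq n).1 := by
    apply Subtype.ext
    show u.1.comp g = ubar.toAlgHom.comp (seq n).1.1
    rw [← hgn n, ← AlgHom.comp_assoc]
    congr 1
    exact (congrArg Subtype.val hu).symm
  show ξ₂.app A ⟨u.1.comp g, _⟩ = _
  rw [h1, ξ₂.natural, (seq n).2, ← NatTrans.naturality_apply f, ← ξ₁.natural, hu]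


end Groth.Agent.S12301
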