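import Groth.Statements.S12302
import Groth.Agent.Lib.Helper94.ArtFun

set_option autoImplicit false
universe u v
open CategoryTheory
open ArtFun

namespace Groth.Agent.S12302

open Groth.Agent.Lib.Helper94 in

/-- Let k be an algebraically closed field, F a set-valued functor on local Artinian k-algebras with
residue field k, and ξ : h_R → F a versal family in the strong sense, over an augmented k-algebra R:
ξ is surjective on every object and has the lifting property along surjections. Then F(k) has
exactly one element, and for every fibre-product square B = A' ×_A A'' in which A'' → A is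
surjective, the comparison map F(B) → F(A') ×_{F(A)} F(A'') is surjective. (The published form of
the second assertion allows arbitrary maps A' → A, A'' → A; for the functor of principal ideals
inside the maximal ideal, which has such a versal family over k[[x]], surjectivity fails for the two
maps k[s]/(s⁴) → k[x,y]/(x,y)³ ← k[t]/(t⁴) sending s to x and t to x + xy, and the published
argument lifts along one of the two maps, so that map is taken surjective here. The published
statement also takes R complete local, which the argument does not use.) -/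
theorem result
    {k : Type u} [Field k] [IsAlgClosed k] {F : ArtFun.Art k k ⥤ Type v}
    {R : Type u} [CommRing R] [Algebra k R] {resR : R →ₐ[k] k}
    (ξ : ArtFun.Family R resR F) (hξ : ArtFun.IsVersal ξ)
    (hsurj : ∀ A : ArtFun.Art k k, Function.Surjective (ξ.app A)) :
    ArtFun.H0 F ∧ ArtFun.S1 F := by
  refine ⟨⟨⟨ξ.app _ ⟨resR, AlgHom.id_comp _⟩⟩, ⟨fun y₁ y₂ => ?_⟩⟩, ?_⟩
  · obtain ⟨φ₁, rfl⟩ := hsurj _ y₁
    obtain ⟨φ₂, rfl⟩ := hsurj _ y₂
    congr 1
    apply Subtype.ext
    have h1 := φ₁.2
    have h2 := φ₂.2
    exact ((AlgHom.id_comp _).symm.trans h1).trans (((AlgHom.id_comp _).symm.trans h2).symm)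
  · intro B A A' A'' p' p'' f' f'' h hf'' y
    obtain ⟨⟨y', y''⟩, hy⟩ := y
    obtain ⟨φ', rfl⟩ := hsurj _ y'
    have hy' : F.map f'' y'' = ξ.app A (HomSet.map f' φ') := by
      rw [ξ.natural]
      exact hy.symm
    obtain ⟨φ'', hφ'', rfl⟩ := hξ f'' hf'' (HomSet.map f' φ') y'' hy'
    obtain ⟨ψ, hψ', hψ''⟩ := IsFibreProd.exists_lift h φ' φ'' hφ''.symm
    refine ⟨ξ.app B ψ, ?_⟩
    apply FibProd.ext
    · show F.map p' (ξ.app B ψ) = ξ.app A' φ'
      rw [← ξ.natural, hψ']
    · show F.map p'' (ξ.app B ψ) = ξ.app A'' φ''
      rw [← ξ.natural, hψ'']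


end Groth.Agent.S12302
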