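import Groth.Statements.S12303
import Groth.Agent.Lib.Helper94.ArtFun

set_option autoImplicit false
universe u v
open CategoryTheory
open ArtFun

namespace Groth.Agent.S12303

open Groth.Agent.Lib.Helper94 in

/-- Let k be an algebraically closed field, F a set-valued functor on local Artinian k-algebras with
residue field k, and ξ : h_R → F a miniversal family in the strong sense, over an augmented
k-algebra R: ξ is surjective on every object, has the lifting property along surjections, and is
bijective on the dual numbers k[ε]. Then for every object A and every fibre-product square B = A ×_k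
k[ε] over k, the comparison map F(B) → F(A) ×_{F(k)} F(k[ε]) is bijective. (The published statement
takes R complete local, which the argument does not use.) -/
theorem result
    {k : Type u} [Field k] [IsAlgClosed k] {F : ArtFun.Art k k ⥤ Type v}
    {R : Type u} [CommRing R] [Algebra k R] {resR : R →ₐ[k] k}
    (ξ : ArtFun.Family R resR F) (hξ : ArtFun.IsMiniversal ξ)
    (hsurj : ∀ A : ArtFun.Art k k, Function.Surjective (ξ.app A)) :
    ArtFun.Heps F := by
  intro B A' p' p'' h
  have hdsurj : Function.Surjective (Art.toBase (Art.dual k k)) := fun c =>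
    ⟨TrivSqZeroExt.inl c, rfl⟩
  have hp' : Function.Surjective p' := by
    intro a'
    obtain ⟨b, hb, -⟩ := h.surj a' (TrivSqZeroExt.inl (A'.res a')) rfl
    exact ⟨b, hb⟩
  constructor
  · intro z₁ z₂ hz
    have hz' : F.map p' z₁ = F.map p' z₂ := congrArg (fun t => t.1.1) hz
    have hz'' : F.map p'' z₁ = F.map p'' z₂ := congrArg (fun t => t.1.2) hz
    obtain ⟨ψ₁, rfl⟩ := hsurj _ z₁
    have h1 : F.map p' z₂ = ξ.app A' (HomSet.map p' ψ₁) := by
      rw [ξ.natural]
      exact hz'.symm
    obtain ⟨ψ₂, hψ₂, rfl⟩ := hξ.1 p' hp' (HomSet.map p' ψ₁) z₂ h1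
    have h2 : HomSet.map p'' ψ₁ = HomSet.map p'' ψ₂ := by
      apply hξ.2.1
      rw [ξ.natural, ξ.natural]
      exact hz''
    rw [IsFibreProd.lift_unique h ψ₁ ψ₂ hψ₂.symm h2]
  · intro y
    obtain ⟨⟨y', y''⟩, hy⟩ := y
    obtain ⟨φ', rfl⟩ := hsurj _ y'
    have hy' : F.map (Art.toBase (Art.dual k k)) y'' = ξ.app _ (HomSet.map (Art.toBase A') φ') := by
      rw [ξ.natural]
      exact hy.symm
    obtain ⟨φ'', hφ'', rfl⟩ := hξ.1 _ hdsurj (HomSet.map (Art.toBase A') φ') y'' hy'
    obtain ⟨ψ, hψ', hψ''⟩ := IsFibreProd.exists_lift h φ' φ'' hφ''.symm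
    refine ⟨ξ.app B ψ, ?_⟩
    apply FibProd.ext
    · show F.map p' (ξ.app B ψ) = ξ.app A' φ'
      rw [← ξ.natural, hψ']
    · show F.map p'' (ξ.app B ψ) = ξ.app _ φ''
      rw [← ξ.natural, hψ'']


end Groth.Agent.S12303
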