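import Groth.Statements.S12314
-- import your own Groth.Agent.* helpers here
import Mathlib.Tactic

set_option autoImplicit false
universe u
open CategoryTheory CategoryTheory.Limits AlgebraicGeometry MonObj
open SGA7

namespace Groth.Agent.S12314

open Opposite MonoidalCategory CartesianMonoidalCategory


section
variable {S : Scheme.{u}} {A B C : Over S} [GrpObj A] [IsCommMonObj A] [GrpObj B] [IsCommMonObj B]
  [GrpObj C] [IsCommMonObj C] {l : ℕ} {T : Over S}

theorem comp_pow_id (c : T ⟶ A) (n : ℕ) : c ≫ ((𝟙 A) ^ n) = c ^ n := by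
  induction n with
  | zero => simp [MonObj.comp_one]
  | succ n ih => rw [pow_succ, pow_succ, MonObj.comp_mul, ih, Category.comp_id]

theorem tateMap_comp (f : A ⟶ B) [IsMonHom f] (g : B ⟶ C) [IsMonHom g] (x : AbDual.TateMod A l T) :
    AbDual.tateMap (l := l) (T := T) (f ≫ g) x = AbDual.tateMap g (AbDual.tateMap f x) :=
  AbDual.TateMod.ext fun n => congrArg Additive.ofMul (Category.assoc _ _ _).symm

end

section
variable {S : Scheme.{u}} {A B C : Over S} [GrpObj A] [IsCommMonObj A] [GrpObj B] [IsCommMonObj B]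
  [GrpObj C] [IsCommMonObj C] {l : ℕ} {T : Over S}

theorem tateMap_pow_id (n : ℕ) (x : AbDual.TateMod A l T) [IsMonHom ((𝟙 A) ^ n)] :
    AbDual.tateMap (l := l) (T := T) ((𝟙 A) ^ n) x = n • x :=
  AbDual.TateMod.ext fun m => by
    change Additive.ofMul (((x : ℕ → Additive (T ⟶ A)) m).toMul ≫ (𝟙 A) ^ n) = _
    rw [comp_pow_id]
    rfl

theorem compat_pow (x : AbDual.TateMod A l T) (a m : ℕ) :
    (l ^ a) • (x : ℕ → Additive (T ⟶ A)) (m + a) = (x : ℕ → Additive (T ⟶ A)) m := by
  induction a with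
  | zero => simp
  | succ a ih =>
    rw [pow_succ, mul_smul, ← add_assoc, x.compat, ih]

theorem tate_torsion_free (hl : l.Prime) (n : ℕ) (hn : 0 < n) (x : AbDual.TateMod A l T) (h : n • x = 0) : x = 0 := by
  apply AbDual.TateMod.ext
  intro m
  change _ = (0 : Additive (T ⟶ A))
  -- n = l^a * n' with n' coprime to l
  obtain ⟨a, n', hn', rfl⟩ := Nat.exists_eq_pow_mul_and_not_dvd hn.ne' l hl.ne_one
  have hcop : Nat.Coprime n' (l ^ (m + a)) := (hl.coprime_iff_not_dvd.mpr hn').symm.pow_right _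
  have h1 : (l ^ a * n') • (x : ℕ → Additive (T ⟶ A)) (m + a) = 0 := by
    have := congrArg (fun z : AbDual.TateMod A l T => (z : ℕ → Additive (T ⟶ A)) (m + a)) h
    exact this
  have h2 := x.torsion (m + a)
  -- n' is invertible mod l^(m+a)
  have h3 : (l ^ a) • (x : ℕ → Additive (T ⟶ A)) (m + a) = 0 := by
    have hg : (Nat.gcd n' (l ^ (m + a)) : ℤ) = 1 := by exact_mod_cast hcop
    have hbez := Nat.gcd_eq_gcd_ab n' (l ^ (m + a))
    rw [hg] at hbez
    set y := (x : ℕ → Additive (T ⟶ A)) (m + a) with hy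
    have e1 : ((n' : ℤ) * Nat.gcdA n' (l ^ (m + a)) + ((l ^ (m + a) : ℕ) : ℤ) * Nat.gcdB n' (l ^ (m + a))) • ((l ^ a) • y) = (l ^ a) • y := by
      rw [← hbez, one_smul]
    rw [← e1, add_smul, mul_comm (n' : ℤ), mul_comm ((l ^ (m + a) : ℕ) : ℤ), mul_smul, mul_smul]
    have e2 : (n' : ℤ) • ((l ^ a) • y) = 0 := by
      rw [natCast_zsmul, smul_smul, mul_comm]; exact h1
    have e3 : ((l ^ (m + a) : ℕ) : ℤ) • ((l ^ a) • y) = 0 := by
      rw [natCast_zsmul, smul_comm, h2, smul_zero]
    rw [e2, e3, smul_zero, smul_zero, add_zero]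
  rw [← compat_pow x a m, h3]

end


section main
variable {K Ω : Type u} [Field K] [Field Ω] [Algebra K Ω]

theorem galAct_comp {A B : Over (Spec (CommRingCat.of K))} (τ : Ω ≃ₐ[K] Ω) (c : SGA7.Pts Ω A) (f : A ⟶ B) :
    SGA7.galAct τ (c ≫ f) = SGA7.galAct τ c ≫ f := by
  unfold SGA7.galAct
  rw [Category.assoc]

end main


/-- Let R be a henselian discrete valuation ring with fraction field K and residue field k, Ω a
separable closure of K, W a valuation subring of Ω lying over R, A and C abelian varieties over K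
(proper, geometrically integral commutative group schemes), and u : C → A an isogeny, in the form:
there are a homomorphism v : A → C and an integer n > 0 with v ∘ u = n and u ∘ v = n. Let ℓ be a
prime invertible in k and consider the ℓ-adic Tate modules of the Ω-points of C and A; call an
element fixed when all its components are fixed by the inertia group at W (for such ℓ the fixed part
is the inertia invariants). Then T_ℓ(u) maps the fixed part of T_ℓ(C) into the fixed part of T_ℓ(A)
and induces an isogeny between them: T_ℓ(u) is injective, and n times every fixed element of T_ℓ(A)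
is the image of a fixed element of T_ℓ(C). (The case of a prime equal to the residue characteristic,
where the fixed part is defined through the Néron model, is not stated.) -/
theorem result (R K Ω : Type u) [CommRing R] [IsDomain R] [IsDiscreteValuationRing R] [HenselianLocalRing R]
    [Field K] [Algebra R K] [IsFractionRing R K] [Field Ω] [Algebra K Ω] [IsSepClosure K Ω]
    (W : ValuationSubring Ω) (hW : SGA7.LiesOver K R W)
    (A C : Over (Spec (CommRingCat.of K))) [GrpObj A] [IsCommMonObj A] [IsProper A.hom] [GeometricallyIntegral A.hom]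
    [GrpObj C] [IsCommMonObj C] [IsProper C.hom] [GeometricallyIntegral C.hom]
    (u : C ⟶ A) [IsMonHom u] (v : A ⟶ C) [IsMonHom v] (n : ℕ) (hn : 0 < n)
    (huv : u ≫ v = (𝟙 C) ^ n) (hvu : v ≫ u = (𝟙 A) ^ n)
    (l : ℕ) (hl : l.Prime) (hlp : (l : IsLocalRing.ResidueField R) ≠ 0) :
    (∀ z : AbDual.TateMod C l (SGA7.pt Ω),
      (∀ (τ : Ω ≃ₐ[K] Ω) (m : ℕ), SGA7.IsInertia W τ →
        SGA7.galAct τ (AbDual.TateMod.component C l (SGA7.pt Ω) m z).toMul =
          (AbDual.TateMod.component C l (SGA7.pt Ω) m z).toMul) →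
      (∀ (τ : Ω ≃ₐ[K] Ω) (m : ℕ), SGA7.IsInertia W τ →
        SGA7.galAct τ (AbDual.TateMod.component A l (SGA7.pt Ω) m (AbDual.tateMap u z)).toMul =
          (AbDual.TateMod.component A l (SGA7.pt Ω) m (AbDual.tateMap u z)).toMul)) ∧
    (∀ z : AbDual.TateMod C l (SGA7.pt Ω), AbDual.tateMap (l := l) (T := SGA7.pt Ω) u z = 0 → z = 0) ∧
    (∀ y : AbDual.TateMod A l (SGA7.pt Ω),
      (∀ (τ : Ω ≃ₐ[K] Ω) (m : ℕ), SGA7.IsInertia W τ →
        SGA7.galAct τ (AbDual.TateMod.component A l (SGA7.pt Ω) m y).toMul =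
          (AbDual.TateMod.component A l (SGA7.pt Ω) m y).toMul) →
      ∃ z : AbDual.TateMod C l (SGA7.pt Ω),
        (∀ (τ : Ω ≃ₐ[K] Ω) (m : ℕ), SGA7.IsInertia W τ →
        SGA7.galAct τ (AbDual.TateMod.component C l (SGA7.pt Ω) m z).toMul =
          (AbDual.TateMod.component C l (SGA7.pt Ω) m z).toMul) ∧
        AbDual.tateMap (l := l) (T := SGA7.pt Ω) u z = n • y) := by
  have iC : IsMonHom ((𝟙 C) ^ n) := huv ▸ inferInstance
  have iA : IsMonHom ((𝟙 A) ^ n) := hvu ▸ inferInstance
  have key : ∀ {P Q : Over (Spec (CommRingCat.of K))} [GrpObj P] [IsCommMonObj P] [GrpObj Q] [IsCommMonObj Q]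
      (f : P ⟶ Q) [IsMonHom f] (z : AbDual.TateMod P l (SGA7.pt Ω)),
      (∀ (τ : Ω ≃ₐ[K] Ω) (m : ℕ), SGA7.IsInertia W τ →
        SGA7.galAct τ (AbDual.TateMod.component P l (SGA7.pt Ω) m z).toMul =
          (AbDual.TateMod.component P l (SGA7.pt Ω) m z).toMul) →
      (∀ (τ : Ω ≃ₐ[K] Ω) (m : ℕ), SGA7.IsInertia W τ →
        SGA7.galAct τ (AbDual.TateMod.component Q l (SGA7.pt Ω) m (AbDual.tateMap f z)).toMul =
          (AbDual.TateMod.component Q l (SGA7.pt Ω) m (AbDual.tateMap f z)).toMul) := by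
    intro P Q _ _ _ _ f _ z hz τ m hτ
    rw [AbDual.tateMap_component, galAct_comp, hz τ m hτ]
  refine ⟨fun z hz => key u z hz, ?_, ?_⟩
  · intro z hz
    have h1 : AbDual.tateMap (l := l) (T := SGA7.pt Ω) v (AbDual.tateMap u z) = n • z := by
      rw [← tateMap_comp]
      have : AbDual.tateMap (l := l) (T := SGA7.pt Ω) (u ≫ v) z = AbDual.tateMap ((𝟙 C) ^ n) z :=
        AbDual.TateMod.ext fun m => by
          change Additive.ofMul (_ ≫ (u ≫ v)) = Additive.ofMul (_ ≫ (𝟙 C) ^ n)
          rw [huv]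
      rw [this, tateMap_pow_id]
    rw [hz, map_zero] at h1
    exact tate_torsion_free hl n hn z h1.symm
  · intro y hy
    refine ⟨AbDual.tateMap v y, key v y hy, ?_⟩
    rw [← tateMap_comp]
    have : AbDual.tateMap (l := l) (T := SGA7.pt Ω) (v ≫ u) y = AbDual.tateMap ((𝟙 A) ^ n) y :=
      AbDual.TateMod.ext fun m => by
        change Additive.ofMul (_ ≫ (v ≫ u)) = Additive.ofMul (_ ≫ (𝟙 A) ^ n)
        rw [hvu]
    rw [this, tateMap_pow_id]


end Groth.Agent.S12314
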