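import Groth.Statements.S12315
import Groth.Agent.S12716
import Groth.Agent.Lib.Helper94.ArtFun

set_option autoImplicit false
universe u v
open CategoryTheory
open SGA7

namespace Groth.Agent.S12315

section helpers
open ArtFun ArtFun.Art Groth.Agent.Lib.Helper94

/-- a surjective ring endomorphism of a Noetherian ring is injective -/
lemma injective_of_surjective_endo {R : Type*} [CommRing R] [IsNoetherianRing R] (α : R →+* R)
    (hα : Function.Surjective α) : Function.Injective α := by
  let K : ℕ →o Ideal R :=
    { toFun := fun n => RingHom.ker (α ^ n)
      monotone' := by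
        intro m n hmn x hx
        rw [RingHom.mem_ker] at hx ⊢
        obtain ⟨d, rfl⟩ := Nat.exists_eq_add_of_le hmn
        rw [add_comm, pow_add, RingHom.mul_def, RingHom.comp_apply, hx, map_zero] }
  have hsurjn : ∀ m : ℕ, Function.Surjective (α ^ m) := by
    intro m
    induction m with
    | zero => exact Function.surjective_id
    | succ m ih =>
      rw [pow_succ, RingHom.mul_def]
      exact ih.comp hα
  obtain ⟨n, hn⟩ := monotone_stabilizes_iff_noetherian.2 (inferInstance : IsNoetherian R R) K
  rw [injective_iff_map_eq_zero]
  intro x hx
  obtain ⟨y, rfl⟩ := hsurjn n x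
  have h1 : y ∈ K (n + 1) := by
    show y ∈ RingHom.ker (α ^ (n + 1))
    rw [RingHom.mem_ker, pow_succ', RingHom.mul_def, RingHom.comp_apply]
    exact hx
  rw [← hn (n + 1) (Nat.le_succ n)] at h1
  exact (RingHom.mem_ker).1 h1

variable {Λ k : Type u} [CommRing Λ] [Field k] [Algebra Λ k]

/-- a derivation `R → k` gives an algebra map to the dual numbers -/
def derivToDualAlg (R : CRing Λ k) (i : Algebra R.carrier k)
    (hi : algebraMap R.carrier k = R.res.toRingHom)
    (ht : IsScalarTower Λ R.carrier k)
    (D : Derivation Λ R.carrier k) : R.carrier →ₐ[Λ] DualNumber k :=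
  { toFun := fun r => ((R.res r, D r) : TrivSqZeroExt k k)
    map_one' := by
      refine TrivSqZeroExt.ext ?_ ?_
      · show R.res 1 = 1
        simp
      · show D 1 = 0
        simp
    map_mul' := by
      intro r s
      refine TrivSqZeroExt.ext ?_ ?_
      · show R.res (r * s) = R.res r * R.res s
        simp
      · show D (r * s) = R.res r • D s + MulOpposite.op (R.res s) • D r
        rw [Derivation.leibniz, op_smul_eq_smul, Algebra.smul_def, Algebra.smul_def, hi]
        rfl
    map_zero' := by
      refine TrivSqZeroExt.ext ?_ ?_
      · show R.res 0 = 0
        simp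
      · show D 0 = 0
        simp
    map_add' := by
      intro r s
      refine TrivSqZeroExt.ext ?_ ?_
      · show R.res (r + s) = R.res r + R.res s
        simp
      · show D (r + s) = D r + D s
        simp
    commutes' := by
      intro c
      refine TrivSqZeroExt.ext ?_ ?_
      · show R.res (algebraMap Λ R.carrier c) = _
        rw [AlgHom.commutes, TrivSqZeroExt.algebraMap_eq_inl']
        rfl
      · show D (algebraMap Λ R.carrier c) = _
        rw [Derivation.map_algebraMap, TrivSqZeroExt.algebraMap_eq_inl']
        rfl }

/-- a derivation `R → k` gives an augmented map to the dual numbers -/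
def derivToDual (R : CRing Λ k) (i : Algebra R.carrier k)
    (hi : algebraMap R.carrier k = R.res.toRingHom)
    (ht : IsScalarTower Λ R.carrier k)
    (D : Derivation Λ R.carrier k) : HomSet R.carrier R.res (dual Λ k) :=
  ⟨derivToDualAlg R i hi ht D, AlgHom.ext fun _ => rfl⟩

end helpers

open ArtFun ArtFun.Art Groth.Agent.Lib.Helper94 in

/-- Let Λ be a complete Noetherian local ring with residue field k (the map Λ → k surjective), and
consider functors on the category of local Artinian Λ-algebras with residue field k. Let F be such a
functor, R a complete local Noetherian Λ-algebra with residue field k, and ξ a family of F over R (a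
morphism h_R → F) which is injective on k[ε]: distinct augmented Λ-algebra maps R → k[ε] give
distinct elements of F(k[ε]). Then every endomorphism of the pair (R, ξ), that is every Λ-algebra
map α : R → R compatible with the augmentation such that transporting ξ along α gives back ξ, is an
automorphism of R. (The published statement is for formal objects of a cofibred groupoid; this row
is the case of a set-valued functor.) -/
theorem result (Λ k : Type u) [CommRing Λ] [IsLocalRing Λ] [IsNoetherianRing Λ]
    [IsAdicComplete (IsLocalRing.maximalIdeal Λ) Λ] [Field k] [Algebra Λ k]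
    (hk : Function.Surjective (algebraMap Λ k))
    (F : ArtFun.Art Λ k ⥤ Type v) (R : ArtFun.CRing Λ k) (ξ : ArtFun.Family R.carrier R.res F)
    (hinj : Function.Injective (ξ.app (ArtFun.Art.dual Λ k)))
    (α : R.carrier →ₐ[Λ] R.carrier) (hα : R.res.comp α = R.res) (hξ : ξ.along α hα = ξ) :
    Function.Bijective α := by
  -- every augmented map to the dual numbers is invariant under `α`
  have hinv : ∀ u : HomSet R.carrier R.res (dual Λ k),
      (⟨u.1.comp α, by rw [← AlgHom.comp_assoc, u.2, hα]⟩ : HomSet R.carrier R.res (dual Λ k)) = u := by
    intro u
    apply hinj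
    have := congrArg (fun ζ : Family R.carrier R.res F => ζ.app (dual Λ k) u) hξ
    exact this
  have hfin : Module.Finite Λ k := Module.Finite.of_surjective (Algebra.linearMap Λ k) hk
  let i : Algebra R.carrier k := R.res.toRingHom.toAlgebra
  have ht : IsScalarTower Λ R.carrier k := IsScalarTower.of_algebraMap_eq (fun c => (R.res.commutes c).symm)
  have hcomplete : IsAdicComplete (IsLocalRing.maximalIdeal R.carrier) R.carrier := R.isAdicComplete
  have hsurj : Function.Surjective α := by
    refine Groth.Agent.S12716.result R R.carrier R.res_surjective α ?_ ?_
    · apply AlgHom.ext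
      intro r
      exact congrArg (fun t => t r) hα
    · intro D₁ D₂ h
      have key : ∀ D : Derivation Λ R.carrier k, ∀ r, D (α r) = D r := by
        intro D r
        have := congrArg (fun t : HomSet R.carrier R.res (dual Λ k) => (t.1 r))
          (hinv (derivToDual R i rfl ht D))
        exact congrArg TrivSqZeroExt.snd this
      ext r
      rw [← key D₁ r, ← key D₂ r, h r]
  exact ⟨injective_of_surjective_endo (α : R.carrier →+* R.carrier) hsurj, hsurj⟩


end Groth.Agent.S12315
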