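import Groth.Statements.S12316
import Groth.Agent.Lib.Helper94.ArtFun2

set_option autoImplicit false
universe u v
open CategoryTheory
open SGA7

namespace Groth.Agent.S12316

section helpers
open ArtFun ArtFun.Art Groth.Agent.Lib.Helper94

variable {Λ k : Type u} [CommRing Λ] [Field k] [Algebra Λ k]

lemma subsingleton_of_bijective_toBase {G : Art Λ k ⥤ Type v} (hG : H0 G) (A : Art Λ k)
    (hA : Function.Bijective (toBase A)) : Subsingleton (G.obj A) := by
  have hsub : Subsingleton (G.obj (base Λ k)) := hG.2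
  let e : A.carrier ≃ₐ[Λ] k := AlgEquiv.ofBijective A.res hA
  let inv : base Λ k ⟶ A := Art.homMk (e.symm : k →ₐ[Λ] A.carrier) (by
    apply AlgHom.ext
    intro c
    exact e.apply_symm_apply c)
  have hcomp : toBase A ≫ inv = 𝟙 A := by
    apply Art.hom_ext
    apply AlgHom.ext
    intro a
    exact e.symm_apply_apply a
  refine ⟨fun y₁ y₂ => ?_⟩
  have h1 : G.map (toBase A) y₁ = G.map (toBase A) y₂ := Subsingleton.elim _ _
  have h2 := congrArg (G.map inv) h1
  rw [← Functor.map_comp_apply, ← Functor.map_comp_apply, hcomp, G.map_id] at h2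
  exact h2

theorem psi_injective {G H : Art Λ k ⥤ Type v} (ψ : G ⟶ H)
    (hG : H0 G ∧ S1 G ∧ Heps G)
    (hH : ∀ ⦃B A A' A'' : Art Λ k⦄ (p' : B ⟶ A') (p'' : B ⟶ A'') (f' : A' ⟶ A) (f'' : A'' ⟶ A)
      (h : IsFibreProd p' p'' f' f''), Function.Surjective f'' → Function.Bijective (cmp H h))
    (hψ : Function.Injective (TangentSpace.map ψ)) (A : Art Λ k) :
    Function.Injective (ψ.app A) := by
  induction A using art_induction_smallExt with
  | hbase A hA =>
    intro y₁ y₂ _
    exact (subsingleton_of_bijective_toBase hG.1 A hA).elim _ _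
  | hstep B A μ hμ ih =>
    intro y y' hyy'
    have h0 : G.map μ y = G.map μ y' := by
      apply ih
      rw [NatTrans.naturality_apply ψ, NatTrans.naturality_apply ψ, hyy']
    let hP := isFibreProd_fibreProd μ μ hμ.1
    obtain ⟨e, he⟩ := hG.2.1 _ _ _ _ hP hμ.1 ⟨(y, y'), h0⟩
    have he1 : G.map (fibreProdFst μ μ hμ.1) e = y := congrArg (fun t => t.1.1) he
    have he2 : G.map (fibreProdSnd μ μ hμ.1) e = y' := congrArg (fun t => t.1.2) he
    obtain ⟨q, hq, hqdiag⟩ := smallExt_exists_dual hμ
    obtain ⟨Δ, hΔ1, hΔ2⟩ := IsFibreProd.exists_lift_hom hP (𝟙 B) (𝟙 B) rfl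
    -- on the `H` side
    have hH1 : ψ.app _ e = ψ.app _ (G.map Δ y) := by
      apply (hH _ _ _ _ hP hμ.1).1
      apply FibProd.ext
      · show H.map (fibreProdFst μ μ hμ.1) (ψ.app _ e) =
          H.map (fibreProdFst μ μ hμ.1) (ψ.app _ (G.map Δ y))
        rw [← NatTrans.naturality_apply ψ, ← NatTrans.naturality_apply ψ, he1,
          ← Functor.map_comp_apply, hΔ1, G.map_id]
        rfl
      · show H.map (fibreProdSnd μ μ hμ.1) (ψ.app _ e) =
          H.map (fibreProdSnd μ μ hμ.1) (ψ.app _ (G.map Δ y))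
        rw [← NatTrans.naturality_apply ψ, ← NatTrans.naturality_apply ψ, he2,
          ← Functor.map_comp_apply, hΔ2, G.map_id, ← hyy']
        rfl
    have hq1 : G.map q e = G.map q (G.map Δ y) := by
      apply hψ
      show ψ.app _ (G.map q e) = ψ.app _ (G.map q (G.map Δ y))
      rw [NatTrans.naturality_apply ψ, NatTrans.naturality_apply ψ, hH1]
    have hee : e = G.map Δ y := by
      apply (hG.2.2 _ _ hq).1
      apply FibProd.ext
      · show G.map (fibreProdFst μ μ hμ.1) e = G.map (fibreProdFst μ μ hμ.1) (G.map Δ y)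
        rw [he1, ← Functor.map_comp_apply, hΔ1, G.map_id]
        rfl
      · exact hq1
    rw [← he2, hee, ← Functor.map_comp_apply, hΔ2, G.map_id]
    rfl

end helpers

open ArtFun ArtFun.Art Groth.Agent.Lib.Helper94 in

/-- Suppose Λ is a Noetherian local ring, complete for its maximal ideal, whose residue field is k (so Λ
→ k is surjective), and work with functors defined on the category of local Artinian Λ-algebras
having residue field k. Take morphisms φ : F → G and ψ : G → H of such functors. Assume that each of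
F(k), G(k), H(k) consists of a single point; that for G the comparison map on fibre products A₁ ×_A
A₂ is surjective as soon as A₂ → A is surjective, and is bijective for products of the form A' ×_k
k[ε]; that for H the comparison map is bijective on every fibre product A₁ ×_A A₂ with A₂ → A
surjective; and that the induced map on tangent spaces G(k[ε]) → H(k[ε]) coming from ψ is injective.
Under these assumptions, φ ≫ ψ is smooth if and only if both φ and ψ are smooth. (The published
statement is for functors of cofibred groupoids with G semi-homogeneous and H homogeneous; this row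
is the case of set-valued functors.) -/
theorem result (Λ k : Type u) [CommRing Λ] [IsLocalRing Λ] [IsNoetherianRing Λ]
    [IsAdicComplete (IsLocalRing.maximalIdeal Λ) Λ] [Field k] [Algebra Λ k]
    (hk : Function.Surjective (algebraMap Λ k))
    {F G H : ArtFun.Art Λ k ⥤ Type v} (φ : F ⟶ G) (ψ : G ⟶ H)
    (hF : ArtFun.H0 F) (hG : ArtFun.H0 G ∧ ArtFun.S1 G ∧ ArtFun.Heps G) (hH0 : ArtFun.H0 H)
    (hH : ∀ ⦃B A A' A'' : ArtFun.Art Λ k⦄ (p' : B ⟶ A') (p'' : B ⟶ A'') (f' : A' ⟶ A) (f'' : A'' ⟶ A)
      (h : ArtFun.Art.IsFibreProd p' p'' f' f''), Function.Surjective f'' → Function.Bijective (ArtFun.cmp H h))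
    (hψ : Function.Injective (ArtFun.TangentSpace.map ψ)) :
    ArtFun.IsSmooth (φ ≫ ψ) ↔ (ArtFun.IsSmooth φ ∧ ArtFun.IsSmooth ψ) := by
  have hinj := psi_injective ψ hG hH hψ
  constructor
  · intro hs
    -- surjectivity of the composite on objects
    have hsurj : ∀ (A : Art Λ k) (z : H.obj A), ∃ w : F.obj A, ψ.app A (φ.app A w) = z := by
      intro A z
      obtain ⟨x₀⟩ := hF.1
      have hsub : Subsingleton (H.obj (base Λ k)) := hH0.2
      obtain ⟨w, hw⟩ := hs (toBase A) A.res_surjective ⟨(x₀, z), Subsingleton.elim _ _⟩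
      exact ⟨w, congrArg (fun t => t.1.2) hw⟩
    constructor
    · intro B A μ hμ xy
      obtain ⟨⟨x, y⟩, hxy⟩ := xy
      have hxy' : φ.app A x = G.map μ y := hxy
      have h1 : (φ ≫ ψ).app A x = H.map μ (ψ.app B y) := by
        show ψ.app A (φ.app A x) = _
        rw [hxy', NatTrans.naturality_apply ψ]
      obtain ⟨w, hw⟩ := hs μ hμ ⟨(x, ψ.app B y), h1⟩
      have hw1 : F.map μ w = x := congrArg (fun t => t.1.1) hw
      have hw2 : ψ.app B (φ.app B w) = ψ.app B y := congrArg (fun t => t.1.2) hw
      refine ⟨w, ?_⟩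
      apply Subtype.ext
      exact Prod.ext hw1 (hinj B hw2)
    · intro B A μ hμ yz
      obtain ⟨⟨y, z⟩, hyz⟩ := yz
      have hyz' : ψ.app A y = H.map μ z := hyz
      obtain ⟨w, hw⟩ := hsurj B z
      refine ⟨φ.app B w, ?_⟩
      apply Subtype.ext
      refine Prod.ext ?_ hw
      show G.map μ (φ.app B w) = y
      apply hinj A
      rw [NatTrans.naturality_apply ψ, hw, hyz']
  · rintro ⟨hφ, hψs⟩ B A μ hμ xz
    obtain ⟨⟨x, z⟩, hxz⟩ := xz
    have hxz' : ψ.app A (φ.app A x) = H.map μ z := hxz
    obtain ⟨y, hy⟩ := hψs μ hμ ⟨(φ.app A x, z), hxz'⟩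
    have hy1 : G.map μ y = φ.app A x := congrArg (fun t => t.1.1) hy
    have hy2 : ψ.app B y = z := congrArg (fun t => t.1.2) hy
    obtain ⟨w, hw⟩ := hφ μ hμ ⟨(x, y), hy1.symm⟩
    have hw1 : F.map μ w = x := congrArg (fun t => t.1.1) hw
    have hw2 : φ.app B w = y := congrArg (fun t => t.1.2) hw
    refine ⟨w, ?_⟩
    apply Subtype.ext
    refine Prod.ext hw1 ?_
    show ψ.app B (φ.app B w) = z
    rw [hw2, hy2]


end Groth.Agent.S12316
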