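import Groth.Statements.S12320
import Groth.Agent.Lib.Helper94.ArtFun2

set_option autoImplicit false
universe u v
open CategoryTheory
open SGA7

namespace Groth.Agent.S12320

open ArtFun ArtFun.Art Groth.Agent.Lib.Helper94 in

/-- Suppose Λ is a Noetherian local ring, complete for its maximal ideal, whose residue field is k (so
that Λ → k is onto), and work with functors defined on the category of local Artinian Λ-algebras
having residue field k. Take such a functor F for which F(k) is a singleton, for which the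
comparison map F(A₁ ×_A A₂) → F(A₁) ×_{F(A)} F(A₂) is surjective as soon as A₂ → A is surjective,
and for which this map is bijective in the case A' ×_k k[ε]. Call an element a ∈ F(R) versal for
small prolongations of the base point when, given any object R₀ whose augmentation R₀ → k is a small
extension and any b ∈ F(R₀), some morphism R → R₀ sends a to b. Assume a ∈ F(R) has this versality
property, that π₁ : R₁ → R is a small extension together with a₁ ∈ F(R₁) whose image is a, and that
g : R' → R is a morphism together with a' ∈ F(R') whose image is a. Then a morphism f : R' → R₁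
satisfying f ≫ π₁ = g and sending a' to a₁ exists exactly when some morphism f : R' → R₁ satisfying
f ≫ π₁ = g exists at all. (The published statement concerns semi-homogeneous cofibred groupoids;
this row treats only the set-valued functor case.) -/
theorem result (Λ k : Type u) [CommRing Λ] [IsLocalRing Λ] [IsNoetherianRing Λ]
    [IsAdicComplete (IsLocalRing.maximalIdeal Λ) Λ] [Field k] [Algebra Λ k]
    (hk : Function.Surjective (algebraMap Λ k))
    (F : ArtFun.Art Λ k ⥤ Type v) (hF : ArtFun.H0 F ∧ ArtFun.S1 F ∧ ArtFun.Heps F)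
    {R R₁ R' : ArtFun.Art Λ k} (π₁ : R₁ ⟶ R) (hπ : ArtFun.Art.IsSmallExt π₁) (g : R' ⟶ R)
    (a : F.obj R) (a₁ : F.obj R₁) (a' : F.obj R') (h₁ : F.map π₁ a₁ = a) (h' : F.map g a' = a)
    (hvers : ∀ (R₀ : ArtFun.Art Λ k), ArtFun.Art.IsSmallExt (ArtFun.Art.toBase R₀) →
      ∀ b : F.obj R₀, ∃ φ : R ⟶ R₀, F.map φ a = b) :
    (∃ f : R' ⟶ R₁, f ≫ π₁ = g ∧ F.map f a' = a₁) ↔ (∃ f : R' ⟶ R₁, f ≫ π₁ = g) := by
  constructor
  · rintro ⟨f, hf, -⟩
    exact ⟨f, hf⟩
  · rintro ⟨f₀, hf₀⟩
    have h0 : F.map π₁ (F.map f₀ a') = F.map π₁ a₁ := by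
      rw [← Functor.map_comp_apply, hf₀, h', h₁]
    let hP := isFibreProd_fibreProd π₁ π₁ hπ.1
    obtain ⟨e, he⟩ := hF.2.1 _ _ _ _ hP hπ.1 ⟨(F.map f₀ a', a₁), h0⟩
    have he1 : F.map (fibreProdFst π₁ π₁ hπ.1) e = F.map f₀ a' := congrArg (fun t => t.1.1) he
    have he2 : F.map (fibreProdSnd π₁ π₁ hπ.1) e = a₁ := congrArg (fun t => t.1.2) he
    obtain ⟨q, hq, -⟩ := smallExt_exists_dual hπ
    obtain ⟨φ, hφ⟩ := hvers (dual Λ k) isSmallExt_toBase_dual (F.map q e)
    have hcompat : f₀ ≫ toBase R₁ = (g ≫ φ) ≫ toBase (dual Λ k) := by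
      rw [eq_toBase (f₀ ≫ toBase R₁), eq_toBase ((g ≫ φ) ≫ toBase (dual Λ k))]
    obtain ⟨ft, hft1, hft2⟩ := IsFibreProd.exists_lift_hom hq f₀ (g ≫ φ) hcompat
    have hee : F.map ft a' = e := by
      apply (hF.2.2 _ _ hq).1
      apply FibProd.ext
      · show F.map (fibreProdFst π₁ π₁ hπ.1) (F.map ft a') = F.map (fibreProdFst π₁ π₁ hπ.1) e
        rw [← Functor.map_comp_apply, hft1, he1]
      · show F.map q (F.map ft a') = F.map q e
        rw [← Functor.map_comp_apply, hft2, Functor.map_comp_apply, h', hφ]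
    refine ⟨ft ≫ fibreProdSnd π₁ π₁ hπ.1, ?_, ?_⟩
    · rw [Category.assoc, ← hP.w, ← Category.assoc, hft1, hf₀]
    · rw [Functor.map_comp_apply, hee, he2]


end Groth.Agent.S12320
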