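import Groth.Statements.S12711
import Groth.Agent.Lib.Helper76.ArtFibre
-- import your own Groth.Agent.* helpers here

set_option autoImplicit false
universe u v
open CategoryTheory
open ArtFun ArtFun.Art

namespace Groth.Agent.S12711

open Groth.Agent.Lib.Helper76 ArtFun.Art in
theorem result' {Λ : Type u} {k : Type u} [CommRing Λ] [Field k] [Algebra Λ k]
    {B A A₁ A₂ : ArtFun.Art Λ k} {p₁ : B ⟶ A₁} {p₂ : B ⟶ A₂} {f₁ : A₁ ⟶ A} {f₂ : A₂ ⟶ A}
    (h : ArtFun.Art.IsFibreProd p₁ p₂ f₁ f₂) (hf₂ : ArtFun.Art.IsSmallExt f₂) :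
    ArtFun.Art.IsSmallExt p₁ := by
  obtain ⟨hsurj, hne, ⟨t, ht⟩, hm⟩ := hf₂
  have htker : t ∈ RingHom.ker f₂.toAlgHom := by
    rw [ht]; exact Ideal.mem_span_singleton_self t
  have ht0 : f₁ 0 = f₂ t := by
    rw [map_zero]; exact (RingHom.mem_ker.mp htker).symm
  obtain ⟨bt, hbt₁, hbt₂⟩ := h.surj 0 t ht0
  have hmt : ∀ c ∈ IsLocalRing.maximalIdeal A₂, c * t = 0 := by
    intro c hc
    have : c * t ∈ IsLocalRing.maximalIdeal A₂ * RingHom.ker f₂.toAlgHom :=
      Ideal.mul_mem_mul hc htker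
    rw [hm] at this
    exact this
  have hker : RingHom.ker p₁.toAlgHom = Ideal.span {bt} := by
    apply le_antisymm
    · intro b hb
      have hb₁ : p₁ b = 0 := hb
      have hb₂ : p₂ b ∈ RingHom.ker f₂.toAlgHom := by
        rw [RingHom.mem_ker]
        have := h.w_apply b
        rw [hb₁, map_zero] at this
        exact this.symm
      rw [ht] at hb₂
      obtain ⟨c, hc⟩ := Ideal.mem_span_singleton'.mp hb₂
      obtain ⟨c', hc'⟩ := B.res_surjective (A₂.res c)
      have hcc : p₂ c' - c ∈ IsLocalRing.maximalIdeal A₂ := by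
        rw [Art.mem_maximalIdeal_iff, map_sub, Art.res_app, hc', sub_self]
      have hct : p₂ c' * t = c * t := by
        have := hmt _ hcc
        rw [sub_mul, sub_eq_zero] at this
        exact this
      rw [Ideal.mem_span_singleton']
      refine ⟨c', ?_⟩
      apply h.inj
      · show p₁.toAlgHom (c' * bt) = p₁ b
        rw [map_mul]
        show p₁ c' * p₁ bt = p₁ b
        rw [hbt₁, mul_zero, hb₁]
      · show p₂.toAlgHom (c' * bt) = p₂ b
        rw [map_mul]
        show p₂ c' * p₂ bt = p₂ b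
        rw [hbt₂, hct, hc]
    · rw [Ideal.span_singleton_le_iff_mem, RingHom.mem_ker]
      exact hbt₁
  refine ⟨fp_fst_surjective h hsurj, ?_, ?_, ?_⟩
  · rw [hker, Ne, Ideal.span_singleton_eq_bot]
    intro hbt0
    apply hne
    rw [ht, Ideal.span_singleton_eq_bot, ← hbt₂, hbt0, map_zero]
  · rw [hker]; exact ⟨⟨bt, rfl⟩⟩
  · rw [eq_bot_iff, Ideal.mul_le]
    intro x hx b hb
    rw [Ideal.mem_bot]
    have hb₁ : p₁ b = 0 := hb
    have hb₂ : p₂ b ∈ RingHom.ker f₂.toAlgHom := by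
      rw [RingHom.mem_ker]
      have := h.w_apply b
      rw [hb₁, map_zero] at this
      exact this.symm
    apply fp_eq_zero_of_mem_ker h
    · show p₁.toAlgHom (x * b) = 0
      rw [map_mul]
      show p₁ x * p₁ b = 0
      rw [hb₁, mul_zero]
    · show p₂.toAlgHom (x * b) = 0
      rw [map_mul]
      have hx₂ : p₂ x ∈ IsLocalRing.maximalIdeal A₂ := by
        rw [Art.mem_maximalIdeal_iff, Art.res_app, ← Art.mem_maximalIdeal_iff]
        exact hx
      have : p₂ x * p₂ b ∈ IsLocalRing.maximalIdeal A₂ * RingHom.ker f₂.toAlgHom :=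
        Ideal.mul_mem_mul hx₂ hb₂
      rw [hm] at this
      exact this

/-- If B together with p₁ : B → A₁ and p₂ : B → A₂ is the fibre product A₁ ×_A A₂ in the category of
Artinian local Λ-algebras with residue field k, and f₂ : A₂ → A is a small extension, then the
projection p₁ : B → A₁ is a small extension. -/
theorem result {Λ : Type u} {k : Type u} [CommRing Λ] [Field k] [Algebra Λ k]
    [IsNoetherianRing Λ] [Module.Finite Λ k]
    {B A A₁ A₂ : ArtFun.Art Λ k} {p₁ : B ⟶ A₁} {p₂ : B ⟶ A₂} {f₁ : A₁ ⟶ A} {f₂ : A₂ ⟶ A}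
    (h : ArtFun.Art.IsFibreProd p₁ p₂ f₁ f₂) (hf₂ : ArtFun.Art.IsSmallExt f₂) :
    ArtFun.Art.IsSmallExt p₁ := result' h hf₂

end Groth.Agent.S12711
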