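import Groth.Statements.S12713
import Groth.Agent.Lib.Helper76.ArtBasic
import Mathlib.Tactic

set_option autoImplicit false
universe u v
open CategoryTheory
open ArtFun ArtFun.Art

namespace Groth.Agent.S12713


open Groth.Agent.Lib.Helper76 in
theorem aux {Λ : Type u} {k : Type u} [CommRing Λ] [Field k] [Algebra Λ k]
    {A B : ArtFun.Art Λ k} (f : B ⟶ A) (hf : ArtFun.Art.IsSmallExt f) :
    (∃ (C : ArtFun.Art Λ k) (g : C ⟶ B), Function.Surjective (g ≫ f) ∧ ¬ Function.Surjective g) ↔
      ∃ s : A ⟶ B, s ≫ f = 𝟙 A := by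
  obtain ⟨hsurj, hne, ⟨t, ht⟩, hm⟩ := hf
  have hker_le : RingHom.ker f.toAlgHom ≤ IsLocalRing.maximalIdeal B := ker_le_maximalIdeal f
  have hmul : ∀ m ∈ IsLocalRing.maximalIdeal B, ∀ y ∈ RingHom.ker f.toAlgHom, m * y = 0 := by
    intro m hm' y hy
    have : m * y ∈ IsLocalRing.maximalIdeal B * RingHom.ker f.toAlgHom := Ideal.mul_mem_mul hm' hy
    rw [hm] at this
    exact this
  have htk : t ∈ RingHom.ker f.toAlgHom := by
    rw [ht]; exact Submodule.mem_span_singleton_self t
  have hker_span : ∀ y ∈ RingHom.ker f.toAlgHom, ∃ b : B, y = b * t := by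
    intro y hy
    rw [ht] at hy
    obtain ⟨b, hb⟩ := Submodule.mem_span_singleton.1 hy
    exact ⟨b, by rw [← hb]; rfl⟩
  constructor
  · rintro ⟨C, g, hgf, hg⟩
    have hgf' : ∀ b : B, ∃ c : C, b - g c ∈ RingHom.ker f.toAlgHom := by
      intro b
      obtain ⟨c, hc⟩ := hgf (f b)
      refine ⟨c, ?_⟩
      rw [RingHom.mem_ker]
      have : f.toAlgHom (g.toAlgHom c) = f.toAlgHom b := hc
      change f.toAlgHom (b - g.toAlgHom c) = 0
      rw [map_sub, this, sub_self]
    -- any multiple of t is g c * t
    have hmult : ∀ b : B, ∃ c : C, b * t = g c * t ∧ b - g c ∈ IsLocalRing.maximalIdeal B := by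
      intro b
      obtain ⟨c, hc⟩ := hgf' b
      refine ⟨c, ?_, hker_le hc⟩
      have := hmul _ (hker_le hc) t htk
      linear_combination this
    have hinter : ∀ c : C, f (g c) = 0 → g c = 0 := by
      intro c hfx
      by_contra hx0
      apply hg
      have hxk : g c ∈ RingHom.ker f.toAlgHom := hfx
      obtain ⟨b, hb⟩ := hker_span _ hxk
      have hbu : b ∉ IsLocalRing.maximalIdeal B := by
        intro hbm
        apply hx0
        rw [hb]
        exact hmul b hbm t htk
      obtain ⟨c₀, hc₀, hc₀m⟩ := hmult b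
      have hgc₀ : g c₀ ∉ IsLocalRing.maximalIdeal B := by
        intro h
        apply hbu
        have := Ideal.add_mem _ hc₀m h
        simpa using this
      have hgc₀u : IsUnit (g c₀) := by
        by_contra h
        exact hgc₀ ((IsLocalRing.mem_maximalIdeal _).2 h)
      haveI := Art.isLocalHom g
      have hc₀u : IsUnit c₀ := isUnit_of_map_unit g.toAlgHom c₀ hgc₀u
      obtain ⟨u, rfl⟩ := hc₀u
      -- t = g (u⁻¹ * c)
      have htg : t = g ((↑u⁻¹ : C) * c) := by
        change t = g.toAlgHom ((↑u⁻¹ : C) * c)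
        rw [map_mul]
        change t = g.toAlgHom (↑u⁻¹ : C) * g c
        rw [hb, hc₀]
        change t = g.toAlgHom (↑u⁻¹ : C) * (g.toAlgHom (↑u : C) * t)
        rw [← mul_assoc, ← map_mul, Units.inv_mul, map_one, one_mul]
      intro y
      obtain ⟨c₁, hc₁⟩ := hgf' y
      obtain ⟨b₁, hb₁⟩ := hker_span _ hc₁
      obtain ⟨c₂, hc₂, -⟩ := hmult b₁
      refine ⟨c₁ + c₂ * ((↑u⁻¹ : C) * c), ?_⟩
      change g.toAlgHom (c₁ + c₂ * ((↑u⁻¹ : C) * c)) = y
      rw [map_add, map_mul]
      change g c₁ + g c₂ * g ((↑u⁻¹ : C) * c) = y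
      rw [← htg, ← hc₂, ← hb₁]
      ring
    -- the section
    let B' : Subalgebra Λ B := g.toAlgHom.range
    let φ : B' →ₐ[Λ] A := f.toAlgHom.comp B'.val
    have hφ : Function.Bijective φ := by
      constructor
      · rw [injective_iff_map_eq_zero]
        rintro ⟨x, c, rfl⟩ hx
        have : g c = 0 := hinter c hx
        exact Subtype.ext this
      · intro a
        obtain ⟨c, hc⟩ := hgf a
        exact ⟨⟨g c, c, rfl⟩, hc⟩
    let e : B' ≃ₐ[Λ] A := AlgEquiv.ofBijective φ hφ
    have he : ∀ a : A, f ((e.symm a : B') : B) = a := by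
      intro a
      have : e (e.symm a) = a := e.apply_symm_apply a
      exact this
    refine ⟨⟨B'.val.comp e.symm.toAlgHom, ?_⟩, ?_⟩
    · apply AlgHom.ext
      intro a
      change B.res ((e.symm a : B') : B) = A.res a
      rw [← Art.res_app f, he]
    · apply Art.hom_ext
      apply AlgHom.ext
      intro a
      exact he a
  · rintro ⟨s, hs⟩
    refine ⟨A, s, ?_, ?_⟩
    · rw [hs]; exact Function.surjective_id
    · intro hsur
      apply hne
      rw [eq_bot_iff]
      intro y hy
      obtain ⟨a, rfl⟩ := hsur y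
      have h1 : f (s a) = a := by
        have := congrArg (fun h : A ⟶ A => h a) hs
        exact this
      have h2 : f (s a) = 0 := hy
      rw [h1] at h2
      rw [h2]
      change s.toAlgHom 0 ∈ _
      rw [map_zero]
      exact Ideal.zero_mem _

/-- A small extension f : B → A in the category of Artinian local Λ-algebras with residue field k is not
an essential surjection (some morphism g : C → B is non-surjective although the composite C → A is
surjective) if and only if f has a section A → B in the category. -/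
theorem result {Λ : Type u} {k : Type u} [CommRing Λ] [Field k] [Algebra Λ k]
    [IsNoetherianRing Λ] [Module.Finite Λ k]
    {A B : ArtFun.Art Λ k} (f : B ⟶ A) (hf : ArtFun.Art.IsSmallExt f) :
    (∃ (C : ArtFun.Art Λ k) (g : C ⟶ B), Function.Surjective (g ≫ f) ∧ ¬ Function.Surjective g) ↔
      ∃ s : A ⟶ B, s ≫ f = 𝟙 A := by
  exact aux f hf

end Groth.Agent.S12713
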