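import Groth.Statements.S12729
import Groth.Agent.Lib.Helper76.ArtFibre
-- import your own Groth.Agent.* helpers here

set_option autoImplicit false
universe u v
open CategoryTheory
open ArtFun

namespace Groth.Agent.S12729

open Groth.Agent.Lib.Helper76 ArtFun.Art

/-- relative complement inside an ideal killed by the maximal ideal -/
theorem exists_compl {Λ : Type u} {k : Type u} [CommRing Λ] [Field k] [Algebra Λ k]
    (B : Art Λ k) (I J₁ J₂ : Ideal B) (hI : IsLocalRing.maximalIdeal B * I = ⊥)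
    (h₁ : J₁ ≤ I) (h₂ : J₂ ≤ I) :
    ∃ J : Ideal B, J₂ ≤ J ∧ J ≤ I ∧ J₁ ⊓ J = J₁ ⊓ J₂ ∧ J₁ ⊔ J = I := by
  have hwf : WellFoundedGT (Ideal B) := inferInstance
  obtain ⟨J, ⟨hJ₂, hJI, hJeq⟩, hmax⟩ := hwf.wf.has_min
    {J : Ideal B | J₂ ≤ J ∧ J ≤ I ∧ J₁ ⊓ J = J₁ ⊓ J₂} ⟨J₂, le_rfl, h₂, rfl⟩
  refine ⟨J, hJ₂, hJI, hJeq, ?_⟩
  by_contra hne
  have hle : J₁ ⊔ J ≤ I := sup_le h₁ hJI
  obtain ⟨x, hxI, hx⟩ := SetLike.exists_of_lt (lt_of_le_of_ne hle hne)
  have hxJ : x ∉ J := fun h => hx (Ideal.mem_sup_right h)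
  have hmx : ∀ c ∈ IsLocalRing.maximalIdeal B, c * x = 0 := by
    intro c hc
    have : c * x ∈ IsLocalRing.maximalIdeal B * I := Ideal.mul_mem_mul hc hxI
    rwa [hI] at this
  refine hmax (J ⊔ Ideal.span {x}) ⟨hJ₂.trans le_sup_left,
    sup_le hJI ((Ideal.span_singleton_le_iff_mem _).mpr hxI), ?_⟩ ?_
  · rw [← hJeq]
    apply le_antisymm
    · rintro j ⟨hj₁, hj₃⟩
      refine ⟨hj₁, ?_⟩
      obtain ⟨j₂, hj₂, y, hy, rfl⟩ := Submodule.mem_sup.mp hj₃
      obtain ⟨c, rfl⟩ := Ideal.mem_span_singleton'.mp hy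
      by_cases hc : c ∈ IsLocalRing.maximalIdeal B
      · rw [hmx c hc, add_zero]; exact hj₂
      · exfalso
        have hu : IsUnit c := by
          by_contra hnu
          exact hc ((IsLocalRing.mem_maximalIdeal c).mpr hnu)
        obtain ⟨u, rfl⟩ := hu
        apply hx
        have hxeq : x = (↑u⁻¹ : B) * ((j₂ + ↑u * x) - j₂) := by
          rw [add_sub_cancel_left, ← mul_assoc, Units.inv_mul, one_mul]
        rw [hxeq]
        apply Ideal.mul_mem_left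
        exact Ideal.sub_mem _ (Ideal.mem_sup_left hj₁) (Ideal.mem_sup_right hj₂)
    · exact inf_le_inf_left _ le_sup_left
  · refine lt_of_le_of_ne le_sup_left (fun h => hxJ ?_)
    rw [h]
    exact Ideal.mem_sup_right (Ideal.mem_span_singleton_self x)

/-- the Chinese-remainder type fibre square of quotients -/
theorem isFibreProd_quot {Λ : Type u} {k : Type u} [CommRing Λ] [Field k] [Algebra Λ k]
    {B A : Art Λ k} (p : B ⟶ A) (J₁ J₂ : Ideal B)
    (h₁ : J₁ ≤ RingHom.ker p.toAlgHom) (h₂ : J₂ ≤ RingHom.ker p.toAlgHom)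
    (hsup : J₁ ⊔ J₂ = RingHom.ker p.toAlgHom) :
    IsFibreProd
      (quotTrans B (h₁.trans (ker_le_maximalIdeal p)) (inf_le_left : J₁ ⊓ J₂ ≤ J₁))
      (quotTrans B (h₂.trans (ker_le_maximalIdeal p)) (inf_le_right : J₁ ⊓ J₂ ≤ J₂))
      (quotFactor (h₁.trans (ker_le_maximalIdeal p)) p h₁)
      (quotFactor (h₂.trans (ker_le_maximalIdeal p)) p h₂) where
  w := by rw [quotTrans_comp_quotFactor, quotTrans_comp_quotFactor]
  inj y₁ y₂ e₁ e₂ := by
    have hm := ker_le_maximalIdeal p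
    obtain ⟨b₁, rfl⟩ := quotMk_surjective B _ ((inf_le_left.trans h₁).trans hm) y₁
    obtain ⟨b₂, rfl⟩ := quotMk_surjective B _ ((inf_le_left.trans h₁).trans hm) y₂
    rw [quotTrans_quotMk, quotTrans_quotMk, quotMk_eq_iff] at e₁ e₂
    rw [quotMk_eq_iff]
    exact ⟨e₁, e₂⟩
  surj a' a'' h := by
    have hm := ker_le_maximalIdeal p
    obtain ⟨b', rfl⟩ := quotMk_surjective B _ (h₁.trans hm) a'
    obtain ⟨b'', rfl⟩ := quotMk_surjective B _ (h₂.trans hm) a''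
    rw [quotFactor_quotMk, quotFactor_quotMk] at h
    have hmem : b' - b'' ∈ J₁ ⊔ J₂ := by
      rw [hsup, RingHom.mem_ker, map_sub]
      exact sub_eq_zero.mpr h
    obtain ⟨j₁, hj₁, j₂, hj₂, hj⟩ := Submodule.mem_sup.mp hmem
    refine ⟨quotMk B _ ((inf_le_left.trans h₁).trans hm) (b' - j₁), ?_, ?_⟩
    · rw [quotTrans_quotMk, quotMk_eq_iff]
      have : b' - j₁ - b' = -j₁ := by ring
      rw [this]
      exact J₁.neg_mem hj₁
    · rw [quotTrans_quotMk, quotMk_eq_iff]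
      have : b' - j₁ - b'' = j₂ := by
        have : b' - j₁ - b'' = (b' - b'') - j₁ := by ring
        rw [this, ← hj]; ring
      rw [this]
      exact hj₂

theorem result' {Λ : Type u} {k : Type u} [CommRing Λ] [Field k] [Algebra Λ k]
    {F : ArtFun.Art Λ k ⥤ Type v} (h1 : ArtFun.S1 F)
    {B A : ArtFun.Art Λ k} (p : B ⟶ A) (hp : ArtFun.Art.IsSemismallExt p) (x : F.obj A) :
    ∃ (J₀ : Ideal B) (hJ₀ : J₀ ≤ RingHom.ker p.toAlgHom) (hJ₀' : J₀ ≤ IsLocalRing.maximalIdeal B),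
      (∃ y : F.obj (ArtFun.Art.quot B J₀ hJ₀'), F.map (ArtFun.Art.quotFactor hJ₀' p hJ₀) y = x) ∧
      ∀ (J : Ideal B) (hJ : J ≤ RingHom.ker p.toAlgHom) (hJ' : J ≤ IsLocalRing.maximalIdeal B),
        (∃ y : F.obj (ArtFun.Art.quot B J hJ'), F.map (ArtFun.Art.quotFactor hJ' p hJ) y = x) →
          J₀ ≤ J := by
  have hm := ker_le_maximalIdeal p
  let Q : Ideal B → Prop := fun J => ∃ (hJ : J ≤ RingHom.ker p.toAlgHom),
    ∃ y : F.obj (quot B J (hJ.trans hm)), F.map (quotFactor (hJ.trans hm) p hJ) y = x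
  -- the kernel itself
  have hQI : Q (RingHom.ker p.toAlgHom) := by
    refine ⟨le_rfl, ?_⟩
    have hbij : Function.Bijective (quotFactor hm p le_rfl) := by
      constructor
      · intro y₁ y₂ h
        obtain ⟨b₁, rfl⟩ := quotMk_surjective B _ hm y₁
        obtain ⟨b₂, rfl⟩ := quotMk_surjective B _ hm y₂
        rw [quotFactor_quotMk, quotFactor_quotMk] at h
        rw [quotMk_eq_iff, RingHom.mem_ker, map_sub]
        exact sub_eq_zero.mpr h
      · intro a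
        obtain ⟨b, rfl⟩ := hp.1 a
        exact ⟨quotMk B _ hm b, rfl⟩
    have := isIso_of_bijective _ hbij
    refine ⟨F.map (inv (quotFactor hm p le_rfl)) x, ?_⟩
    rw [← Functor.map_comp_apply, IsIso.inv_hom_id, Functor.map_id_apply]
  -- closed under intersection
  have hQinf : ∀ J₁ J₂, Q J₁ → Q J₂ → Q (J₁ ⊓ J₂) := by
    rintro J₁ J₂ ⟨h₁, y₁, hy₁⟩ ⟨h₂, y₂, hy₂⟩
    obtain ⟨J, hJ₂, hJI, hJeq, hJsup⟩ := exists_compl B (RingHom.ker p.toAlgHom) J₁ J₂ hp.2 h₁ h₂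
    rw [← hJeq]
    let y₂' : F.obj (quot B J (hJI.trans hm)) := F.map (quotTrans B (hJI.trans hm) hJ₂) y₂
    have hy₂' : F.map (quotFactor (hJI.trans hm) p hJI) y₂' = x := by
      rw [← Functor.map_comp_apply, quotTrans_comp_quotFactor]
      exact hy₂
    have hfp := isFibreProd_quot p J₁ J h₁ hJI hJsup
    have hsurj : Function.Surjective (quotFactor (hJI.trans hm) p hJI) := by
      intro a
      obtain ⟨b, rfl⟩ := hp.1 a
      exact ⟨quotMk B _ _ b, rfl⟩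
    obtain ⟨z, hz⟩ := h1 _ _ _ _ hfp hsurj ⟨(y₁, y₂'), hy₁.trans hy₂'.symm⟩
    have hz₁ : F.map (quotTrans B (h₁.trans hm) inf_le_left) z = y₁ :=
      congrArg (fun t => t.1.1) hz
    refine ⟨inf_le_left.trans h₁, z, ?_⟩
    rw [← hy₁, ← hz₁, ← Functor.map_comp_apply, quotTrans_comp_quotFactor]
  -- minimal element
  have hwf : WellFoundedLT (Ideal B) := inferInstance
  obtain ⟨J₀, hQ₀, hmin⟩ := hwf.wf.has_min {J | Q J} ⟨_, hQI⟩
  obtain ⟨hJ₀, y₀, hy₀⟩ := hQ₀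
  refine ⟨J₀, hJ₀, hJ₀.trans hm, ⟨y₀, hy₀⟩, ?_⟩
  rintro J hJ hJ' ⟨y, hy⟩
  have hQJ : Q J := ⟨hJ, y, hy⟩
  have hQ := hQinf J₀ J ⟨hJ₀, y₀, hy₀⟩ hQJ
  by_contra hnot
  have hlt : J₀ ⊓ J < J₀ := lt_of_le_of_ne inf_le_left (fun h => hnot (h ▸ inf_le_right))
  exact hmin _ hQ hlt

/-- For functors, let F satisfy (S1), let p : B → A be a surjection in the category of Artinian local
Λ-algebras with residue field k whose kernel I is annihilated by m_B, and let x ∈ F(A). Then the set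
of ideals J ⊆ I for which x lifts to F(B/J) along B/J → A has a least element. -/
theorem result {Λ : Type u} {k : Type u} [CommRing Λ] [Field k] [Algebra Λ k]
    [IsNoetherianRing Λ] [Module.Finite Λ k]
    {F : ArtFun.Art Λ k ⥤ Type v} (h1 : ArtFun.S1 F)
    {B A : ArtFun.Art Λ k} (p : B ⟶ A) (hp : ArtFun.Art.IsSemismallExt p) (x : F.obj A) :
    ∃ (J₀ : Ideal B) (hJ₀ : J₀ ≤ RingHom.ker p.toAlgHom) (hJ₀' : J₀ ≤ IsLocalRing.maximalIdeal B),
      (∃ y : F.obj (ArtFun.Art.quot B J₀ hJ₀'), F.map (ArtFun.Art.quotFactor hJ₀' p hJ₀) y = x) ∧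
      ∀ (J : Ideal B) (hJ : J ≤ RingHom.ker p.toAlgHom) (hJ' : J ≤ IsLocalRing.maximalIdeal B),
        (∃ y : F.obj (ArtFun.Art.quot B J hJ'), F.map (ArtFun.Art.quotFactor hJ' p hJ) y = x) → J₀ ≤ J := result' h1 p hp x

end Groth.Agent.S12729
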