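import Groth.Statements.S12321
import Groth.Agent.Lib.Helper94.ArtVersal
import Groth.Agent.Lib.Helper76.ArtBasic
import Groth.Agent.S12729
import Groth.Agent.S12713
import Groth.Agent.S12711
import Groth.Agent.S12710
import Groth.Agent.S12320

set_option autoImplicit false
universe u v
open CategoryTheory
open SGA7

namespace Groth.Agent.S12321

open ArtFun ArtFun.Art Groth.Agent.Lib.Helper94 Groth.Agent.Lib.Helper76 in

/-- Suppose Λ is a Noetherian local ring that is complete, and k is its residue field, so the map Λ → k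
is surjective. We look at functors on the category of local Artinian Λ-algebras whose residue field
is k. Take such a functor F for which F(k) is a single point, the comparison map F(A₁ ×_A A₂) →
F(A₁) ×_{F(A)} F(A₂) is surjective whenever A₂ → A is surjective, and this map is bijective for A'
×_k k[ε]. Call an element a ∈ F(R) versal for small prolongations of the base point when, for each
object R₀ whose augmentation R₀ → k is a small extension and each b ∈ F(R₀), some morphism R → R₀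
sends a to b. Assume a ∈ F(R) has this property. Then one can find an object R', a morphism q : R' →
R and an element a' ∈ F(R') whose image is a, satisfying the following. First, q is surjective and
the maximal ideal annihilates its kernel. Second, q induces an isomorphism m_{R'}/(m_{R'}² + m_Λ R')
→ m_R/(m_R² + m_Λ R) between relative cotangent spaces (only injectivity is stated; surjectivity
comes for free). Third, a' is versal for small prolongations of a: given any small extension π₁ : R₁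
→ R and any a₁ ∈ F(R₁) with image a, there is f : R' → R₁ satisfying f ≫ π₁ = q and sending a' to
a₁. (The published statement concerns semi-homogeneous cofibred groupoids; this row treats the case
of set-valued functors.) -/
theorem result (Λ k : Type u) [CommRing Λ] [IsLocalRing Λ] [IsNoetherianRing Λ]
    [IsAdicComplete (IsLocalRing.maximalIdeal Λ) Λ] [Field k] [Algebra Λ k]
    (hk : Function.Surjective (algebraMap Λ k))
    (F : ArtFun.Art Λ k ⥤ Type v) (hF : ArtFun.H0 F ∧ ArtFun.S1 F ∧ ArtFun.Heps F)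
    (R : ArtFun.Art Λ k) (a : F.obj R)
    (hvers : ∀ (R₀ : ArtFun.Art Λ k), ArtFun.Art.IsSmallExt (ArtFun.Art.toBase R₀) →
      ∀ b : F.obj R₀, ∃ φ : R ⟶ R₀, F.map φ a = b) :
    ∃ (R' : ArtFun.Art Λ k) (q : R' ⟶ R) (a' : F.obj R'), F.map q a' = a ∧
      ArtFun.Art.IsSemismallExt q ∧
      (∀ x' : R', x' ∈ IsLocalRing.maximalIdeal (R' : Type u) →
        q x' ∈ (IsLocalRing.maximalIdeal (R : Type u)) ^ 2 ⊔ (IsLocalRing.maximalIdeal Λ).map (algebraMap Λ R) →
        x' ∈ (IsLocalRing.maximalIdeal (R' : Type u)) ^ 2 ⊔ (IsLocalRing.maximalIdeal Λ).map (algebraMap Λ R')) ∧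
      ∀ (R₁ : ArtFun.Art Λ k) (π₁ : R₁ ⟶ R), ArtFun.Art.IsSmallExt π₁ →
        ∀ a₁ : F.obj R₁, F.map π₁ a₁ = a → ∃ f : R' ⟶ R₁, f ≫ π₁ = q ∧ F.map f a' = a₁ := by
  have hfin : Module.Finite Λ k := Module.Finite.of_surjective (Algebra.linearMap Λ k) hk
  obtain ⟨B, p, hp, hcot, hversB⟩ := exists_versal_semismall hk R
  obtain ⟨J₀, hJ₀, hJ₀', ⟨y, hy⟩, hmin⟩ := Groth.Agent.S12729.result hF.2.1 p hp a
  let R' := Art.quot B J₀ hJ₀'
  let q : R' ⟶ R := Art.quotFactor hJ₀' p hJ₀
  have hmkq : Art.quotMk B J₀ hJ₀' ≫ q = p := Art.quotMk_quotFactor hJ₀' p hJ₀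
  have hq_mk : ∀ b : B.carrier, q (Art.quotMk B J₀ hJ₀' b) = p b := fun b => rfl
  refine ⟨R', q, y, hy, ⟨?_, ?_⟩, ?_, ?_⟩
  · -- q surjective
    intro r
    obtain ⟨b, hb⟩ := hp.1 r
    exact ⟨Art.quotMk B J₀ hJ₀' b, hb⟩
  · -- m * ker q = 0
    rw [eq_bot_iff, Ideal.mul_le]
    intro x' hx' c' hc'
    obtain ⟨b, rfl⟩ := Art.quotMk_surjective B J₀ hJ₀' x'
    obtain ⟨c, rfl⟩ := Art.quotMk_surjective B J₀ hJ₀' c'
    have hb : b ∈ IsLocalRing.maximalIdeal B.carrier := by
      rw [Art.mem_maximalIdeal_iff] at hx' ⊢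
      rwa [Art.res_app] at hx'
    have hc : c ∈ RingHom.ker p.toAlgHom := hc'
    have hbc : b * c = 0 := by
      have := Ideal.mul_mem_mul hb hc
      rwa [hp.2, Ideal.mem_bot] at this
    rw [Ideal.mem_bot]
    show Art.quotMk B J₀ hJ₀' b * Art.quotMk B J₀ hJ₀' c = 0
    have : Art.quotMk B J₀ hJ₀' b * Art.quotMk B J₀ hJ₀' c = Art.quotMk B J₀ hJ₀' (b * c) :=
      (map_mul (Art.quotMk B J₀ hJ₀').toAlgHom b c).symm
    rw [this, hbc]
    exact map_zero (Art.quotMk B J₀ hJ₀').toAlgHom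
  · -- cotangent
    intro x' hx' hqx'
    obtain ⟨b, rfl⟩ := Art.quotMk_surjective B J₀ hJ₀' x'
    have hpb : p b ∈ (IsLocalRing.maximalIdeal R.carrier) ^ 2 ⊔
        (IsLocalRing.maximalIdeal Λ).map (algebraMap Λ R.carrier) := hqx'
    have hmapm : ∀ {A A' : Art Λ k} (φ : A ⟶ A'), Function.Surjective φ →
        IsLocalRing.maximalIdeal A'.carrier ≤
          Ideal.map φ.toAlgHom (IsLocalRing.maximalIdeal A.carrier) := by
      intro A A' φ hφ r hr
      obtain ⟨b₀, rfl⟩ := hφ r
      refine Ideal.mem_map_of_mem _ ?_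
      rw [Art.mem_maximalIdeal_iff] at hr ⊢
      rwa [Art.res_app] at hr
    have hmapn : ∀ {A A' : Art Λ k} (φ : A ⟶ A'),
        Ideal.map φ.toAlgHom ((IsLocalRing.maximalIdeal Λ).map (algebraMap Λ A.carrier)) =
          (IsLocalRing.maximalIdeal Λ).map (algebraMap Λ A'.carrier) := by
      intro A A' φ
      have h1 : Ideal.map φ.toAlgHom ((IsLocalRing.maximalIdeal Λ).map (algebraMap Λ A.carrier)) =
          Ideal.map (φ.toAlgHom : A.carrier →+* A'.carrier)
            ((IsLocalRing.maximalIdeal Λ).map (algebraMap Λ A.carrier)) := rfl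
      rw [h1, Ideal.map_map, φ.toAlgHom.comp_algebraMap]
    have hle : (IsLocalRing.maximalIdeal R.carrier) ^ 2 ⊔
        (IsLocalRing.maximalIdeal Λ).map (algebraMap Λ R.carrier) ≤
        Ideal.map p.toAlgHom ((IsLocalRing.maximalIdeal B.carrier) ^ 2 ⊔
          (IsLocalRing.maximalIdeal Λ).map (algebraMap Λ B.carrier)) := by
      rw [Ideal.map_sup, Ideal.map_pow, hmapn p]
      exact sup_le_sup_right (Ideal.pow_right_mono (hmapm p hp.1) 2) _
    obtain ⟨b₁, hb₁, hb₁p⟩ := (Ideal.mem_map_iff_of_surjective p.toAlgHom hp.1).mp (hle hpb)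
    have hker : b - b₁ ∈ RingHom.ker p.toAlgHom := by
      rw [RingHom.mem_ker, map_sub, hb₁p]
      exact sub_self _
    have hbK : b ∈ (IsLocalRing.maximalIdeal B.carrier) ^ 2 ⊔
        (IsLocalRing.maximalIdeal Λ).map (algebraMap Λ B.carrier) := by
      have := Ideal.add_mem _ (hcot hker) hb₁
      simpa using this
    have hmk := Ideal.mem_map_of_mem (Art.quotMk B J₀ hJ₀').toAlgHom hbK
    rw [Ideal.map_sup, Ideal.map_pow, hmapn, ← maximalIdeal_quot B J₀ hJ₀'] at hmk
    exact hmk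
  · -- versality
    intro R₁ π₁ hπ₁ a₁ ha₁
    refine (Groth.Agent.S12320.result Λ k hk F hF π₁ hπ₁ q a a₁ y ha₁ hy hvers).mpr ?_
    obtain ⟨T, t₁, t₂, hT⟩ := Groth.Agent.S12710.result q π₁ hπ₁.1
    have ht₁ : IsSmallExt t₁ := Groth.Agent.S12711.result hT hπ₁
    obtain ⟨g, hg⟩ := hversB R₁ π₁ hπ₁.isSemismallExt
    obtain ⟨ψ, hψ₁, hψ₂⟩ := IsFibreProd.exists_lift_hom hT (Art.quotMk B J₀ hJ₀') g
      (hmkq.trans hg.symm)
    have hψ₁' : ∀ b : B.carrier, t₁ (ψ b) = Art.quotMk B J₀ hJ₀' b := fun b =>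
      congrArg (fun t : B ⟶ R' => t b) hψ₁
    by_cases hsurj : Function.Surjective ψ
    · exfalso
      obtain ⟨τ, hτ⟩ := hF.2.1 t₁ t₂ q π₁ hT hπ₁.1 ⟨(y, a₁), hy.trans ha₁.symm⟩
      have hτ₁ : F.map t₁ τ = y := congrArg (fun z => z.1.1) hτ
      have hJT_le : RingHom.ker ψ.toAlgHom ≤ J₀ := by
        intro b hb
        rw [← quotMk_eq_zero_iff B J₀ hJ₀', ← hψ₁' b]
        have hb0 : ψ b = 0 := hb
        rw [hb0]
        exact map_zero t₁.toAlgHom
      have hJT_ker : RingHom.ker ψ.toAlgHom ≤ RingHom.ker p.toAlgHom := hJT_le.trans hJ₀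
      have hJT_max : RingHom.ker ψ.toAlgHom ≤ IsLocalRing.maximalIdeal B.carrier :=
        hJT_le.trans hJ₀'
      let ψbar : Art.quot B (RingHom.ker ψ.toAlgHom) hJT_max ⟶ T :=
        Art.quotFactor hJT_max ψ le_rfl
      have hψbar_mk : ∀ b : B.carrier,
          ψbar (Art.quotMk B (RingHom.ker ψ.toAlgHom) hJT_max b) = ψ b := fun b => rfl
      have hbij : Function.Bijective ψbar := by
        constructor
        · intro x₁ x₂ hx
          obtain ⟨b₁, rfl⟩ := Art.quotMk_surjective B _ hJT_max x₁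
          obtain ⟨b₂, rfl⟩ := Art.quotMk_surjective B _ hJT_max x₂
          rw [quotMk_eq_iff]
          rw [hψbar_mk, hψbar_mk] at hx
          rw [RingHom.mem_ker, map_sub]
          exact sub_eq_zero.mpr hx
        · intro t
          obtain ⟨b, rfl⟩ := hsurj t
          exact ⟨Art.quotMk B _ hJT_max b, rfl⟩
      have : IsIso ψbar := isIso_of_bijective ψbar hbij
      have hfac : Art.quotFactor hJT_max p hJT_ker = ψbar ≫ t₁ ≫ q := by
        apply Art.hom_ext
        apply AlgHom.ext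
        intro x
        obtain ⟨b, rfl⟩ := Art.quotMk_surjective B _ hJT_max x
        show p b = q (t₁ (ψ b))
        rw [hψ₁' b]
        rfl
      have hle : J₀ ≤ RingHom.ker ψ.toAlgHom := by
        refine hmin _ hJT_ker hJT_max ⟨F.map (inv ψbar) τ, ?_⟩
        rw [hfac, ← Functor.map_comp_apply, ← Category.assoc, IsIso.inv_hom_id, Category.id_comp,
          Functor.map_comp_apply, hτ₁, hy]
      apply ht₁.2.1
      rw [eq_bot_iff]
      intro x hx
      obtain ⟨b, rfl⟩ := hsurj x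
      have hx0 : t₁ (ψ b) = 0 := hx
      rw [hψ₁' b, quotMk_eq_zero_iff] at hx0
      rw [Ideal.mem_bot]
      exact hle hx0
    · obtain ⟨s, hs⟩ := (Groth.Agent.S12713.result t₁ ht₁).mp ⟨B, ψ, by
        rw [hψ₁]; exact Art.quotMk_surjective B J₀ hJ₀', hsurj⟩
      refine ⟨s ≫ t₂, ?_⟩
      rw [Category.assoc, ← hT.w, ← Category.assoc, hs, Category.id_comp]


end Groth.Agent.S12321
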