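import Groth.Statements.S1234
import Groth.Agent.S0736
import Groth.Agent.S12236
import Groth.Agent.S12237
import Groth.Agent.Lib.Helper87.HensProps
import Groth.Agent.Lib.Helper87.HensStrictProps
import Groth.Agent.Lib.Helper69.WeakAssHens

set_option autoImplicit false
universe u
open FlatMor

namespace Groth.Agent.S1234

open TensorProduct IsLocalRing in
/-- Ring form, S = Spec A: let M be an A-module and p a prime of A; let Ah be a henselization and Ash a
strict henselization of the local ring A_p. The following are equivalent: p is a weakly associated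
prime of M; the maximal ideal of A_p is a weakly associated prime of M_p; the maximal ideal of Ah is
a weakly associated prime of Ah ⊗ M_p; the maximal ideal of Ash is a weakly associated prime of Ash
⊗ M_p. -/
theorem result {A : Type u} [CommRing A] (M : Type u) [AddCommGroup M] [Module A M] (p : Ideal A) [p.IsPrime]
    (Ah Ash : Type u) [CommRing Ah] [IsLocalRing Ah] [CommRing Ash] [IsLocalRing Ash]
    [Algebra (Localization.AtPrime p) Ah] [IsLocalHom (algebraMap (Localization.AtPrime p) Ah)] [Hensel.IsHenselization (Localization.AtPrime p) Ah]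
    [Algebra (Localization.AtPrime p) Ash] [IsLocalHom (algebraMap (Localization.AtPrime p) Ash)] [Hensel.IsStrictHenselization (Localization.AtPrime p) Ash] :
    [p ∈ FlatCA.weakAss A M,
     maximalIdeal (Localization.AtPrime p) ∈ FlatCA.weakAss (Localization.AtPrime p) (LocalizedModule p.primeCompl M),
     maximalIdeal Ah ∈ FlatCA.weakAss Ah (Ah ⊗[Localization.AtPrime p] LocalizedModule p.primeCompl M),
     maximalIdeal Ash ∈ FlatCA.weakAss Ash (Ash ⊗[Localization.AtPrime p] LocalizedModule p.primeCompl M)].TFAE := by
  haveI hWh : Algebra.WeaklyEtale (Localization.AtPrime p) Ah :=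
    Groth.Agent.S0736.result _ _ (Groth.Agent.S12236.result _ _)
  haveI hWsh : Algebra.WeaklyEtale (Localization.AtPrime p) Ash :=
    Groth.Agent.S0736.result _ _ (Groth.Agent.S12237.result _ _)
  obtain ⟨dh⟩ := Groth.Agent.Lib.Helper82.nonempty_indEtData
    (Groth.Agent.S12236.result (Localization.AtPrime p) Ah)
  obtain ⟨dsh⟩ := Groth.Agent.Lib.Helper82.nonempty_indEtData
    (Groth.Agent.S12237.result (Localization.AtPrime p) Ash)
  have h12 : p ∈ FlatCA.weakAss A M ↔ maximalIdeal (Localization.AtPrime p) ∈
      FlatCA.weakAss (Localization.AtPrime p) (LocalizedModule p.primeCompl M) := by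
    have h := Groth.Agent.Lib.Helper74.WeakAss.mem_weakAss_iff_map_mem (A := Localization.AtPrime p)
      p.primeCompl (LocalizedModule.mkLinearMap p.primeCompl M) p
      (by
        rw [Set.disjoint_left]
        intro a ha ha'
        exact ha ha')
    rwa [Localization.AtPrime.map_eq_maximalIdeal] at h
  tfae_have 1 ↔ 2 := h12
  tfae_have 2 → 3 := fun h =>
    Groth.Agent.Lib.Helper69.WeakAssHens.mem_weakAss_tensor_of_map_maximalIdeal _
      (Groth.Agent.Lib.Helper87.Hens.map_maximalIdeal_of_isHenselization _ _) h
  tfae_have 3 → 2 := fun h =>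
    Groth.Agent.Lib.Helper69.WeakAssHens.mem_weakAss_of_mem_weakAss_tensor dh _ h
  tfae_have 2 → 4 := fun h =>
    Groth.Agent.Lib.Helper69.WeakAssHens.mem_weakAss_tensor_of_map_maximalIdeal _
      (Groth.Agent.Lib.Helper87.Hens.map_maximalIdeal_of_isStrictHenselization _ _) h
  tfae_have 4 → 2 := fun h =>
    Groth.Agent.Lib.Helper69.WeakAssHens.mem_weakAss_of_mem_weakAss_tensor dsh _ h
  tfae_finish

end Groth.Agent.S1234
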