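import Groth.Statements.S12417
import Mathlib

set_option autoImplicit false
universe u
open CategoryTheory AlgebraicGeometry
open Props

namespace Groth.Agent.S12417

/-- Let X be a quasi-compact quasi-separated scheme and P a property of opens of X such that (a) P holds
for every affine open, and (b) whenever a quasi-compact open U has a finite affine open covering U =
V_1 ∪ … ∪ V_n with P holding for every intersection V_i ∩ V_j, P holds for U. Then P holds for every
quasi-compact open of X. -/
theorem step1 (X : Scheme.{u}) (P : X.Opens → Prop) (ha : ∀ U : X.Opens, IsAffineOpen U → P U)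
    (hb : ∀ (U : X.Opens) (n : ℕ) (V : Fin n → X.Opens), IsCompact (U : Set X) →
      (∀ i, IsAffineOpen (V i)) → ⨆ i, V i = U → (∀ i j, P (V i ⊓ V j)) → P U)
    (V : X.Opens) (hV : IsAffineOpen V) (W : X.Opens) (hWV : W ≤ V)
    (hW : IsCompact (W : Set X)) : P W := by
  classical
  have hex : ∀ x : W, ∃ f : Γ(X, V), X.basicOpen f ≤ W ∧ (x : X) ∈ X.basicOpen f := by
    intro x
    exact hV.exists_basicOpen_le x (hWV x.2)
  choose f hf1 hf2 using hex
  obtain ⟨t, ht⟩ := hW.elim_finite_subcover (fun x : W => (X.basicOpen (f x) : Set X))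
    (fun x => (X.basicOpen (f x)).isOpen)
    (by intro x hx; exact Set.mem_iUnion.mpr ⟨⟨x, hx⟩, hf2 ⟨x, hx⟩⟩)
  apply hb W t.card (fun k => X.basicOpen (f (t.equivFin.symm k))) hW
  · intro k
    exact hV.basicOpen _
  · apply le_antisymm
    · exact iSup_le (fun k => hf1 _)
    · intro x hx
      have := ht hx
      simp only [Set.mem_iUnion] at this
      obtain ⟨y, hyt, hxy⟩ := this
      refine TopologicalSpace.Opens.mem_iSup.mpr ⟨t.equivFin ⟨y, hyt⟩, ?_⟩
      simpa using hxy
  · intro k l
    apply ha
    rw [← X.basicOpen_mul]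
    exact hV.basicOpen _

theorem result (X : Scheme.{u}) [CompactSpace X] [QuasiSeparatedSpace X]
    (P : X.Opens → Prop) (ha : ∀ U : X.Opens, IsAffineOpen U → P U)
    (hb : ∀ (U : X.Opens) (n : ℕ) (V : Fin n → X.Opens), IsCompact (U : Set X) →
      (∀ i, IsAffineOpen (V i)) → ⨆ i, V i = U → (∀ i j, P (V i ⊓ V j)) → P U)
    (U : X.Opens) (hU : IsCompact (U : Set X)) : P U := by
  classical
  obtain ⟨s, hs, rfl⟩ := isCompact_iff_finite_and_eq_biUnion_affineOpens.mp hU
  obtain ⟨t, rfl⟩ := hs.exists_finset_coe
  apply hb _ t.card (fun k => ((t.equivFin.symm k : X.affineOpens) : X.Opens)) hU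
  · intro k
    exact (t.equivFin.symm k : X.affineOpens).2
  · apply le_antisymm
    · apply iSup_le
      intro k
      exact le_iSup₂_of_le (t.equivFin.symm k : X.affineOpens)
        (by simp) le_rfl
    · apply iSup₂_le
      intro V hVt
      have hVt' : V ∈ t := by simpa using hVt
      refine le_iSup_of_le (t.equivFin ⟨V, hVt'⟩) ?_
      simp
  · intro k l
    apply step1 X P ha hb _ (t.equivFin.symm k : X.affineOpens).2 _ inf_le_left
    exact QuasiSeparatedSpace.inter_isCompact _ _
      (TopologicalSpace.Opens.isOpen _) (t.equivFin.symm k : X.affineOpens).2.isCompact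
      (TopologicalSpace.Opens.isOpen _) (t.equivFin.symm l : X.affineOpens).2.isCompact

end Groth.Agent.S12417
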