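import Groth.Statements.S12418
import Mathlib

set_option autoImplicit false
universe u
open CAlg

namespace Groth.Agent.S12418

/-- Let R be a Noetherian ring and b ∈ R; for x outside the ideal (b) put I_x = ((b) : x), the ideal of
r with r x ∈ (b). If s ∉ (b) and I_s is maximal among the I_x (x ∉ (b)), then I_s is prime. -/
theorem result {R : Type u} [CommRing R] [IsNoetherianRing R]
    (b s : R) (hs : s ∉ Ideal.span {b})
    (hmax : ∀ x : R, x ∉ Ideal.span {b} →
      Submodule.colon (Ideal.span {b}) (Ideal.span {s}) ≤ Submodule.colon (Ideal.span {b}) (Ideal.span {x}) →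
      Submodule.colon (Ideal.span {b}) (Ideal.span {x}) = Submodule.colon (Ideal.span {b}) (Ideal.span {s})) :
    (Submodule.colon (Ideal.span {b}) (Ideal.span ({s} : Set R))).IsPrime := by
  rw [Ideal.isPrime_iff]
  constructor
  · intro htop
    have h1 : (1 : R) ∈ Submodule.colon (Ideal.span {b}) (Ideal.span ({s} : Set R)) := by
      rw [htop]; exact Submodule.mem_top
    rw [Ideal.mem_colon_span_singleton, one_mul] at h1
    exact hs h1
  · intro r t hrt
    by_contra hcon
    push Not at hcon
    obtain ⟨hr, ht⟩ := hcon
    rw [Ideal.mem_colon_span_singleton] at hr hrt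
    have hle : Submodule.colon (Ideal.span {b}) (Ideal.span ({s} : Set R)) ≤
        Submodule.colon (Ideal.span {b}) (Ideal.span ({r * s} : Set R)) := by
      intro u hu
      rw [Ideal.mem_colon_span_singleton] at hu ⊢
      have : u * (r * s) = r * (u * s) := by ring
      rw [this]
      exact Ideal.mul_mem_left _ _ hu
    have heq := hmax (r * s) hr hle
    apply ht
    rw [← heq, Ideal.mem_colon_span_singleton]
    have : t * (r * s) = r * t * s := by ring
    rw [this]
    exact hrt

end Groth.Agent.S12418
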