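import Mathlib
-- Template for statement S12419 (row 12418; see the milestone table for weights).
-- Copy to Groth/Agent/S12419.lean and replace the sorry. The statement below is byte-identical to the frozen
-- statement CAlg.GrothFrozen.S12419 (Groth/Statements/S12419.lean; the theorem CAlg.flat_iff_flat_baseChange_of_jacobson_topology_induced);
-- the grader kernel-checks Groth.Agent.S12419.result against that frozen type. Keep the theorem IN THIS FILE
-- (a `result` declared elsewhere and merely imported here is not credited); helpers may live anywhere
-- under Groth/Agent/.
import Groth.Statements.S12419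
import Groth.Agent.Lib.Helper24.FlatTopology

set_option autoImplicit false
universe u
open TensorProduct
open CAlg

namespace Groth.Agent.S12419

/-- Let A → B be a local homomorphism of Noetherian local rings, m the maximal ideal of A, and φ : A →
A' a ring homomorphism to a semi-local Noetherian ring A' with Jacobson radical r', such that
φ⁻¹(r') = m and such that every power m^n contains φ⁻¹(r'^N) for some N. Then B is flat over A if
and only if A' ⊗_A B is flat over A'. (Given φ⁻¹(r') = m, the condition on powers says that the
m-adic topology of A is induced by the r'-adic topology of A', equivalently that the induced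
homomorphism of adic completions is injective, which is how the published statement phrases this
hypothesis.) -/
theorem result (A B A' : Type u) [CommRing A] [CommRing B]
    [CommRing A'] [IsNoetherianRing A] [IsLocalRing A] [IsNoetherianRing B] [IsLocalRing B]
    [Algebra A B] [IsLocalHom (algebraMap A B)] [IsNoetherianRing A'] [Finite (MaximalSpectrum A')]
    [Algebra A A']
    (hrad : (Ideal.jacobson (⊥ : Ideal A')).comap (algebraMap A A') = IsLocalRing.maximalIdeal A)
    (htop : ∀ n : ℕ, ∃ N : ℕ,
      ((Ideal.jacobson (⊥ : Ideal A')) ^ N).comap (algebraMap A A') ≤ (IsLocalRing.maximalIdeal A) ^ n) :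
    Module.Flat A B ↔ Module.Flat A' (A' ⊗[A] B) := by
  constructor
  · intro h
    infer_instance
  · intro hB'
    refine Groth.Agent.Lib.Helper24.LocalCritPow.flat_of_forall_flat_quotient_pow A B B
      (IsLocalRing.maximalIdeal A) ?_ ?_
    · exact (IsLocalRing.map_maximalIdeal_le (algebraMap A B)).trans
        (IsLocalRing.maximalIdeal_le_jacobson ⊥)
    · intro n hn
      obtain ⟨N, hN⟩ := htop n
      exact Groth.Agent.Lib.Helper24.FlatTopology.flat_quotient_pow A B A'
        (Ideal.jacobson (⊥ : Ideal A')) hrad hB' n N hn hN

end Groth.Agent.S12419
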