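import Groth.Statements.S12421
import Mathlib

set_option autoImplicit false
universe u
open TensorProduct
open Desc

namespace Groth.Agent.S12421

/-- Let R → R' be faithfully flat and M an R-module. With δ¹ : M ⊗ R' → M ⊗ (R' ⊗ R'), m ⊗ r ↦ m ⊗ (1 ⊗
r) − m ⊗ (r ⊗ 1), and δ² : M ⊗ (R' ⊗ R') → M ⊗ (R' ⊗ (R' ⊗ R')), m ⊗ x ↦ m ⊗ (1 ⊗ x) − m ⊗ (ins₁ x)
+ m ⊗ (ins₂ x), where ins₁ (r₁ ⊗ r₂) = r₁ ⊗ (1 ⊗ r₂) and ins₂ (r₁ ⊗ r₂) = r₁ ⊗ (r₂ ⊗ 1), the
sequence M ⊗ R' → M ⊗ R'^{⊗2} → M ⊗ R'^{⊗3} is exact: the kernel of δ² is the image of δ¹. (The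
published statement asserts exactness of the whole complex; this row states exactness at M ⊗ R′ ⊗ R′
only.) -/
noncomputable def hP (R R' : Type u) [CommRing R] [CommRing R'] [Algebra R R']
    (M : Type u) [AddCommGroup M] [Module R M] (P : Type u) [AddCommGroup P] [Module R P] :
    R' ⊗[R] (M ⊗[R] (R' ⊗[R] P)) →ₗ[R] R' ⊗[R] (M ⊗[R] P) :=
  (TensorProduct.leftComm R M R' P).toLinearMap ∘ₗ
    LinearMap.lTensor M (LinearMap.rTensor P (LinearMap.mul' R R') ∘ₗ
      (TensorProduct.assoc R R' R' P).symm.toLinearMap) ∘ₗ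
    (TensorProduct.leftComm R R' M (R' ⊗[R] P)).toLinearMap

theorem hP_tmul (R R' : Type u) [CommRing R] [CommRing R'] [Algebra R R']
    (M : Type u) [AddCommGroup M] [Module R M] (P : Type u) [AddCommGroup P] [Module R P]
    (t : R') (m : M) (a : R') (p : P) :
    hP R R' M P (t ⊗ₜ (m ⊗ₜ (a ⊗ₜ p))) = (t * a) ⊗ₜ (m ⊗ₜ p) := by
  simp [hP]

theorem homotopy_id (R R' : Type u) [CommRing R] [CommRing R'] [Algebra R R']
    (M : Type u) [AddCommGroup M] [Module R M] :
    (LinearMap.lTensor R'
      (LinearMap.lTensor M (Algebra.TensorProduct.includeRight : R' →ₐ[R] R' ⊗[R] R').toLinearMap -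
        LinearMap.lTensor M
          (Algebra.TensorProduct.includeLeft : R' →ₐ[R] R' ⊗[R] R').toLinearMap)) ∘ₗ
        (hP R R' M R') +
      (hP R R' M (R' ⊗[R] R')) ∘ₗ (LinearMap.lTensor R'
      (LinearMap.lTensor M
          (Algebra.TensorProduct.includeRight : R' ⊗[R] R' →ₐ[R] R' ⊗[R] (R' ⊗[R] R')).toLinearMap -
        LinearMap.lTensor M
          (Algebra.TensorProduct.map (AlgHom.id R R')
            (Algebra.TensorProduct.includeRight : R' →ₐ[R] R' ⊗[R] R')).toLinearMap +
        LinearMap.lTensor M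
          (Algebra.TensorProduct.map (AlgHom.id R R')
            (Algebra.TensorProduct.includeLeft : R' →ₐ[R] R' ⊗[R] R')).toLinearMap)) =
      LinearMap.id := by
  ext t m r₁ r₂
  simp only [LinearMap.add_apply, LinearMap.comp_apply, TensorProduct.AlgebraTensorModule.curry_apply,
    TensorProduct.curry_apply, LinearMap.restrictScalars_apply, LinearMap.lTensor_tmul, hP_tmul,
    LinearMap.sub_apply, AlgHom.toLinearMap_apply, Algebra.TensorProduct.includeRight_apply,
    Algebra.TensorProduct.includeLeft_apply, Algebra.TensorProduct.map_tmul, AlgHom.id_apply,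
    LinearMap.id_apply, TensorProduct.tmul_sub, TensorProduct.tmul_add, map_sub, map_add, mul_one]
  abel

theorem comp_zero' (R R' : Type u) [CommRing R] [CommRing R'] [Algebra R R']
    (M : Type u) [AddCommGroup M] [Module R M] :
    (LinearMap.lTensor M
          (Algebra.TensorProduct.includeRight : R' ⊗[R] R' →ₐ[R] R' ⊗[R] (R' ⊗[R] R')).toLinearMap -
        LinearMap.lTensor M
          (Algebra.TensorProduct.map (AlgHom.id R R')
            (Algebra.TensorProduct.includeRight : R' →ₐ[R] R' ⊗[R] R')).toLinearMap +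
        LinearMap.lTensor M
          (Algebra.TensorProduct.map (AlgHom.id R R')
            (Algebra.TensorProduct.includeLeft : R' →ₐ[R] R' ⊗[R] R')).toLinearMap) ∘ₗ
      (LinearMap.lTensor M (Algebra.TensorProduct.includeRight : R' →ₐ[R] R' ⊗[R] R').toLinearMap -
        LinearMap.lTensor M
          (Algebra.TensorProduct.includeLeft : R' →ₐ[R] R' ⊗[R] R').toLinearMap) = 0 := by
  ext m r
  simp only [LinearMap.add_apply, LinearMap.comp_apply, TensorProduct.AlgebraTensorModule.curry_apply,
    TensorProduct.curry_apply, LinearMap.restrictScalars_apply, LinearMap.lTensor_tmul,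
    LinearMap.sub_apply, AlgHom.toLinearMap_apply, Algebra.TensorProduct.includeRight_apply,
    Algebra.TensorProduct.includeLeft_apply, Algebra.TensorProduct.map_tmul, AlgHom.id_apply,
    TensorProduct.tmul_sub, TensorProduct.tmul_add, map_sub, map_add, LinearMap.zero_apply,
    Algebra.TensorProduct.one_def]
  abel

theorem result (R R' : Type u) [CommRing R] [CommRing R'] [Algebra R R']
    [Module.FaithfullyFlat R R'] (M : Type u) [AddCommGroup M] [Module R M] :
    Function.Exact
      (LinearMap.lTensor M (Algebra.TensorProduct.includeRight : R' →ₐ[R] R' ⊗[R] R').toLinearMap -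
        LinearMap.lTensor M
          (Algebra.TensorProduct.includeLeft : R' →ₐ[R] R' ⊗[R] R').toLinearMap)
      (LinearMap.lTensor M
          (Algebra.TensorProduct.includeRight : R' ⊗[R] R' →ₐ[R] R' ⊗[R] (R' ⊗[R] R')).toLinearMap -
        LinearMap.lTensor M
          (Algebra.TensorProduct.map (AlgHom.id R R')
            (Algebra.TensorProduct.includeRight : R' →ₐ[R] R' ⊗[R] R')).toLinearMap +
        LinearMap.lTensor M
          (Algebra.TensorProduct.map (AlgHom.id R R')
            (Algebra.TensorProduct.includeLeft : R' →ₐ[R] R' ⊗[R] R')).toLinearMap) := by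
  apply Module.FaithfullyFlat.lTensor_reflects_exact R R'
  intro y
  constructor
  · intro hy
    refine ⟨hP R R' M R' y, ?_⟩
    have h := LinearMap.congr_fun (homotopy_id R R' M) y
    simp only [LinearMap.add_apply, LinearMap.comp_apply, LinearMap.id_apply] at h
    rw [hy, map_zero, add_zero] at h
    exact h
  · rintro ⟨x, rfl⟩
    rw [← LinearMap.comp_apply, ← LinearMap.lTensor_comp, comp_zero' R R' M, LinearMap.lTensor_zero]
    rfl

end Groth.Agent.S12421
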