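import Groth.Statements.S12425
import Groth.Agent.Lib.Helper18.Pencil4

set_option autoImplicit false
set_option linter.unusedSectionVars false
universe u
open Cubic

namespace Groth.Agent.S12425

open MvPolynomial Groth.Agent.Lib.Helper18.CubicK Groth.Agent.Lib.Helper18.Conic3
  Groth.Agent.Lib.Helper18.Pencil

theorem planeOf_eq {k : Type u} [Field k] [IsAlgClosed k] [CharZero k]
    (e0 e1 w : Fin 4 → k)
    (hind : ∀ α β γ : k, α • e0 + β • e1 + γ • w = 0 → α = 0 ∧ β = 0 ∧ γ = 0)
    (H : Submodule k (Fin 4 → k)) (hH3 : Module.finrank k ↥H = 3)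
    (he0 : e0 ∈ H) (he1 : e1 ∈ H) (hw : w ∈ H) : H = planeOf e0 e1 w := by
  symm
  apply Submodule.eq_of_le_of_finrank_eq
  · intro u hu
    rw [mem_planeOf] at hu
    obtain ⟨x, y, s, rfl⟩ := hu
    exact H.add_mem (H.add_mem (H.smul_mem x he0) (H.smul_mem y he1)) (H.smul_mem s hw)
  · rw [finrank_planeOf e0 e1 w hind, hH3]

/-- Let k be an algebraically closed field of characteristic zero, S = V_+(f) ⊂ P^3_k a smooth cubic
surface (f a nonzero homogeneous cubic with the Jacobian condition at every nonzero zero) and L a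
line on S, i.e. a 2-dimensional subspace of k^4 on which f vanishes. Then exactly five hyperplanes H
⊇ L have H ∩ S equal to a union of three different lines: the set of 3-dimensional subspaces H of
k^4 containing L and containing two further lines of S, distinct from each other and from L, has
exactly 5 elements. -/
theorem result (k : Type u) [Field k] [IsAlgClosed k] [CharZero k]
    (f : MvPolynomial (Fin 4) k) (hf : f.IsHomogeneous 3) (hf0 : f ≠ 0)
    (hsm : ∀ v : Fin 4 → k, v ≠ 0 → MvPolynomial.eval v f = 0 →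
      ∃ i : Fin 4, MvPolynomial.eval v (MvPolynomial.pderiv i f) ≠ 0)
    (L : Submodule k (Fin 4 → k)) (hL : Module.finrank k ↥L = 2) (hLS : ∀ u ∈ L, MvPolynomial.eval u f = 0) :
    {H : Submodule k (Fin 4 → k) | Module.finrank k ↥H = 3 ∧ L ≤ H ∧
      ∃ L' L'' : Submodule k (Fin 4 → k), Module.finrank k ↥L' = 2 ∧ Module.finrank k ↥L'' = 2 ∧
        L' ≠ L ∧ L'' ≠ L ∧ L' ≠ L'' ∧ L' ≤ H ∧ L'' ≤ H ∧
        (∀ u ∈ L', MvPolynomial.eval u f = 0) ∧ (∀ u ∈ L'', MvPolynomial.eval u f = 0)}.ncard = 5 := by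
  obtain ⟨e0, e1, w0, w1, hG, hmem⟩ := exists_good L hL
  have hz : ∀ α β : k, eval (α • e0 + β • e1) f = 0 := fun α β =>
    hLS _ ((hmem _).mpr ⟨α, β, rfl⟩)
  obtain ⟨t1, ht1⟩ := exists_nonroot hf hsm hz w0 w1 hG
  have hG' : Good e0 e1 w1 (w0 + t1 • w1) := (hG.shift t1).swap
  obtain ⟨s, hs5, hsmem⟩ := exists_five hf hsm hz w1 (w0 + t1 • w1) hG' ht1
  have he0L : e0 ∈ L := (hmem e0).mpr ⟨1, 0, by simp⟩
  have he1L : e1 ∈ L := (hmem e1).mpr ⟨0, 1, by simp⟩
  have hinj : Function.Injective (fun t : k => planeOf e0 e1 (w1 + t • (w0 + t1 • w1))) := by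
    intro t t' h
    have hm : w1 + t • (w0 + t1 • w1) ∈ planeOf e0 e1 (w1 + t' • (w0 + t1 • w1)) := by
      rw [← show planeOf e0 e1 (w1 + t • (w0 + t1 • w1)) = planeOf e0 e1 (w1 + t' • (w0 + t1 • w1)) from h,
        mem_planeOf]
      exact ⟨0, 0, 1, by simp⟩
    rw [mem_planeOf] at hm
    obtain ⟨x, y, c, hu⟩ := hm
    have h0 : x • e0 + y • e1 + (c - 1) • w1 + (c * t' - t) • (w0 + t1 • w1) = 0 := by
      have : x • e0 + y • e1 + c • (w1 + t' • (w0 + t1 • w1)) - (w1 + t • (w0 + t1 • w1)) = 0 := by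
        rw [← hu, sub_self]
      rw [← this]
      simp only [smul_add, sub_smul, mul_smul, one_smul]
      abel
    obtain ⟨-, -, hc, hct⟩ := hG'.ind _ _ _ _ h0
    have hc1 : c = 1 := by linear_combination hc
    rw [hc1, one_mul] at hct
    linear_combination -hct
  have hset : {H : Submodule k (Fin 4 → k) | Module.finrank k ↥H = 3 ∧ L ≤ H ∧
      ∃ L' L'' : Submodule k (Fin 4 → k), Module.finrank k ↥L' = 2 ∧ Module.finrank k ↥L'' = 2 ∧
        L' ≠ L ∧ L'' ≠ L ∧ L' ≠ L'' ∧ L' ≤ H ∧ L'' ≤ H ∧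
        (∀ u ∈ L', MvPolynomial.eval u f = 0) ∧ (∀ u ∈ L'', MvPolynomial.eval u f = 0)}
      = (fun t : k => planeOf e0 e1 (w1 + t • (w0 + t1 • w1))) '' (s : Set k) := by
    ext H
    simp only [Set.mem_ofPred_eq, Set.mem_image, Finset.mem_coe]
    constructor
    · rintro ⟨hH3, hLH, L', L'', h'2, h''2, hne', hne'', hne, hle', hle'', hf', hf''⟩
      have he0 : e0 ∈ H := hLH he0L
      have he1 : e1 ∈ H := hLH he1L
      obtain ⟨w, hwH, hwL⟩ : ∃ w ∈ H, w ∉ L := by
        by_contra hcon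
        push Not at hcon
        have hle : H ≤ L := hcon
        have := Submodule.finrank_mono hle
        omega
      obtain ⟨α, β, γ, η, rfl⟩ := hG'.span w
      have hpart : γ • w1 + η • (w0 + t1 • w1) ∈ H := by
        have : γ • w1 + η • (w0 + t1 • w1)
            = (α • e0 + β • e1 + γ • w1 + η • (w0 + t1 • w1)) - α • e0 - β • e1 := by abel
        rw [this]
        exact H.sub_mem (H.sub_mem hwH (H.smul_mem α he0)) (H.smul_mem β he1)
      by_cases hγ : γ = 0
      · exfalso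
        have hη : η ≠ 0 := by
          intro hη
          apply hwL
          rw [hmem]
          exact ⟨α, β, by rw [hγ, hη]; simp⟩
        have hv1 : w0 + t1 • w1 ∈ H := by
          rw [hγ, zero_smul, zero_add] at hpart
          have h3 := H.smul_mem η⁻¹ hpart
          rwa [smul_smul, inv_mul_cancel₀ hη, one_smul] at h3
        have hHe := planeOf_eq e0 e1 (w0 + t1 • w1) hG'.swap.ind3 H hH3 he0 he1 hv1
        apply ht1
        exact disc_zero_of_two_lines hf hz (w0 + t1 • w1) hG'.swap.ind3 L hmem hL L' L'' h'2 h''2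
          hne' hne'' hne (hHe ▸ hle') (hHe ▸ hle'') hf' hf''
      · have hv : w1 + (η / γ) • (w0 + t1 • w1) ∈ H := by
          have h3 := H.smul_mem γ⁻¹ hpart
          rw [smul_add, smul_smul, smul_smul, inv_mul_cancel₀ hγ, one_smul] at h3
          rw [div_eq_inv_mul]
          exact h3
        have hHe := planeOf_eq e0 e1 (w1 + (η / γ) • (w0 + t1 • w1)) (hG'.shift (η / γ)).ind3 H hH3
          he0 he1 hv
        refine ⟨η / γ, ?_, hHe.symm⟩
        rw [hsmem]
        exact disc_zero_of_two_lines hf hz _ (hG'.shift (η / γ)).ind3 L hmem hL L' L'' h'2 h''2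
          hne' hne'' hne (hHe ▸ hle') (hHe ▸ hle'') hf' hf''
    · rintro ⟨t, ht, rfl⟩
      refine ⟨finrank_planeOf e0 e1 _ (hG'.shift t).ind3, ?_, ?_⟩
      · intro u hu
        obtain ⟨α, β, rfl⟩ := (hmem u).mp hu
        rw [mem_planeOf]
        exact ⟨α, β, 0, by simp⟩
      · exact tritangent_of_root hf hsm hz _ (hG'.shift t).ind3 L hmem ((hsmem t).mp ht)
  rw [hset, Set.ncard_image_of_injective _ hinj, Set.ncard_coe_finset, hs5]

end Groth.Agent.S12425
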