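import Groth.Statements.S12427
import Groth.Agent.Lib.Helper26.SheafHomDual6

set_option autoImplicit false
universe u
open CategoryTheory AlgebraicGeometry
open Coherent

namespace Groth.Agent.S12427


section Aux
open Groth.Agent.Lib.Helper26 Groth.Agent.Lib.Helper26.SheafHomDual Groth.Agent.Lib.Helper26.ProjFormula Scheme.Modules Limits

theorem main' {X : Scheme.{u}} (E F M : X.Modules) (hE : FlatMod.IsFinLocFree E)
    [ModSite.HasSheafHom (O := X.sheaf) E] [ModSite.HasSheafHom (O := X.sheaf) F]
    [ModSite.HasSheafHom (O := X.sheaf) M] (θ : tR M ≅ tR E ⋙ tR F)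
    [HasInjectiveResolutions X.Modules] (G : X.Modules) (q : ℕ) :
    Nonempty ((tR (dual E)).obj (((RR F).rightDerived q).obj G) ≅
      ((RR M).rightDerived q).obj G) := by
  let e1 : RR F ⋙ RR E ≅ RR M :=
    conjugateIsoEquiv ((adjE E).comp (adjE F)) (adjE M) θ
  let e2 : RR F ⋙ tR (dual E) ≅ RR M :=
    Functor.isoWhiskerLeft (RR F) (deltaIso E hE) ≪≫ e1
  have hl := preservesFiniteLimits_tR_dual E hE
  have hc := preservesFiniteColimits_tR (dual E)
  obtain ⟨i1⟩ := DerivedExactComp.nonempty_rightDerived_comp_exact_iso (RR F) (tR (dual E)) G q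
  let i2 := (DegComposite.rightDerivedMapIso e2 q).app G
  exact ⟨i1.symm ≪≫ i2⟩

/-- `- ⊗ (F ⊗ L) ≅ (- ⊗ L) ⊗ F` -/
noncomputable def thetaIso {X : Scheme.{u}} (F L : X.Modules) :
    tR (CohB1.tensorMod F L) ≅ tR L ⋙ tR F :=
  (show tR (CohB1.tensorMod F L) ≅ tR (CohB1.tensorMod L F) from
    (ModSite.tensorBi X.sheaf).flip.mapIso
      ((Groth.Agent.Lib.Helper42.Flat.tensLRIso X.sheaf F).app L)) ≪≫ tRCompIso L F
end Aux



/-- Let X be a scheme, L a finite locally free O_X-module with dual L^∨ = Hom_{O_X}(L, O_X), and F, G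
arbitrary O_X-modules. Then for every i ≥ 0 the Ext sheaf Ext^i(F ⊗ L, G) is isomorphic to Ext^i(F,
G) ⊗ L^∨. Here Ext^i(M, -) is the i-th right derived functor of the internal Hom functor Hom(M, -),
whose existence, like that of injective resolutions, is an instance hypothesis (always true);
existence of an isomorphism only, the published statement naming no map. (The published statement is
for ringed spaces and also gives the global Ext isomorphism; this row is for schemes and states the
sheaf isomorphism only.) -/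
theorem result (X : Scheme.{u}) (F G L : X.Modules)
    (hL : FlatMod.IsFinLocFree L) (i : ℕ)
    [ModSite.HasSheafHom (O := X.sheaf) F] [ModSite.HasSheafHom (O := X.sheaf) L]
    [ModSite.HasSheafHom (O := X.sheaf) (CohB1.tensorMod F L)]
    [HasInjectiveResolutions (ModSite.Mod X.sheaf)] :
    Nonempty ((ModSite.extSh (O := X.sheaf) (CohB1.tensorMod F L) i).obj G ≅
      CohB1.tensorMod ((ModSite.extSh (O := X.sheaf) F i).obj G)
        ((ModSite.sheafHom (O := X.sheaf) L).obj (Coh.structureModule X))) := by
  have hX : HasInjectiveResolutions X.Modules := ‹HasInjectiveResolutions (ModSite.Mod X.sheaf)›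
  obtain ⟨e⟩ := main' L F (CohB1.tensorMod F L) hL (thetaIso F L) G i
  exact ⟨e.symm⟩

end Groth.Agent.S12427
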