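import Groth.Statements.S12441
import Mathlib
import Groth.Agent.Lib.Helper54.GrassClosed

set_option autoImplicit false
universe u
open scoped TensorProduct
open Grass

namespace Groth.Agent.S12441

open AlgebraicGeometry CategoryTheory Groth.Agent.Lib.Helper54.GrassClosed
  Groth.Agent.Lib.Helper54.GrassClosedAlg in
theorem mulLeft_baseChange {R : Type u} [CommRing R] {A : Type u} [Ring A] [Algebra R A]
    (B : Type u) [CommRing B] [Algebra R B] (a : A) (x : B ⊗[R] A) :
    (LinearMap.mulLeft R a).baseChange B x = ((1 : B) ⊗ₜ[R] a) * x := by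
  induction x using TensorProduct.induction_on with
  | zero => simp
  | tmul c m => simp [LinearMap.baseChange_tmul, Algebra.TensorProduct.tmul_mul_tmul]
  | add x y hx hy => rw [map_add, hx, hy, mul_add]

open AlgebraicGeometry CategoryTheory Groth.Agent.Lib.Helper54.GrassClosed
  Groth.Agent.Lib.Helper54.GrassClosedAlg in

open AlgebraicGeometry CategoryTheory in
/-- Let k be a field, A a possibly non-commutative k-algebra, e a natural number, and X a k-scheme
representing the Grassmannian functor Grass^e(A) on affine k-schemes — bijections, natural in the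
commutative k-algebra B, between k-morphisms Spec B → X and B-submodules U of B ⊗_k A whose quotient
is finite projective of constant rank e. Then there is a closed immersion ι : Z → X such that a
k-morphism g : Spec B → X factors through ι if and only if the submodule U attached to g is a left
ideal of B ⊗_k A, i.e. is stable under left multiplication by every 1 ⊗ a. -/
theorem result (k : Type u) [Field k] (A : Type u) [Ring A] [Algebra k A]
    (e : ℕ) (X : Over (Spec (CommRingCat.of k)))
    (eX : ∀ B : CommAlgCat.{u} k,
      ((Over.mk (Spec.map (CommRingCat.ofHom (algebraMap k B)))) ⟶ X) ≃ (Module.Grassmannian.functor (R := k) (M := A) e).obj B)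
    (heX : ∀ (B C : CommAlgCat.{u} k) (φ : B ⟶ C)
      (g : Over.mk (Spec.map (CommRingCat.ofHom (algebraMap k B))) ⟶ X) (g' : Over.mk (Spec.map (CommRingCat.ofHom (algebraMap k C))) ⟶ X),
      g'.left = Spec.map (CommRingCat.ofHom φ.hom.toRingHom) ≫ g.left →
        eX C g' = (Module.Grassmannian.functor (R := k) (M := A) e).map φ (eX B g)) :
    ∃ (Z : Scheme.{u}) (ι : Z ⟶ X.left), IsClosedImmersion ι ∧
      ∀ (B : CommAlgCat.{u} k) (g : Over.mk (Spec.map (CommRingCat.ofHom (algebraMap k B))) ⟶ X),
        (∃ h : (Over.mk (Spec.map (CommRingCat.ofHom (algebraMap k B)))).left ⟶ Z, h ≫ ι = g.left) ↔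
          ∀ (a : A) (x : ↑B ⊗[k] A), x ∈ (eX B g).toSubmodule →
            ((1 : ↑B) ⊗ₜ[k] a) * x ∈ (eX B g).toSubmodule := by
  obtain ⟨Z, i, hi, H⟩ := exists_closed (X := X) (fun a : A => LinearMap.mulLeft k a) eX heX
  refine ⟨Z, i, hi, fun B g => (H B g).trans ?_⟩
  unfold Stab
  constructor
  · intro h b x hx
    rw [← mulLeft_baseChange]
    exact h b x hx
  · intro h b x hx
    rw [mulLeft_baseChange]
    exact h b x hx

end Groth.Agent.S12441
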