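import Groth.Statements.S12443
-- import your own Groth.Agent.* helpers here

set_option autoImplicit false
universe u
open CategoryTheory TopologicalSpace
open ShSp

namespace Groth.Agent.S12443

section
variable {U X : TopCat.{u}} (j : U ⟶ X) (hj : Topology.IsOpenEmbedding j)
include hj

lemma map_functor_eq (W : Opens U) :
    (Opens.map j).obj (hj.isOpenMap.functor.obj W) = W := by
  ext x
  simp only [Opens.map_coe, IsOpenMap.coe_functor_obj]
  rw [Set.preimage_image_eq _ hj.injective]

lemma functor_map_le (V : Opens X) :
    hj.isOpenMap.functor.obj ((Opens.map j).obj V) ≤ V := by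
  rintro x ⟨y, hy, rfl⟩
  exact hy

lemma faithful_pushforward : (TopCat.Sheaf.pushforward (Type u) j).Faithful where
  map_injective {F G} φ ψ h := by
    apply ObjectProperty.hom_ext
    ext ⟨W⟩ : 2
    have key : ∀ W' : Opens U, W' = W → φ.hom.app (Opposite.op W') = ψ.hom.app (Opposite.op W') →
        φ.hom.app (Opposite.op W) = ψ.hom.app (Opposite.op W) := by
      rintro W' rfl h'
      exact h'
    refine key _ (map_functor_eq j hj W) ?_
    exact congr_arg (fun α => α.hom.app (Opposite.op (hj.isOpenMap.functor.obj W))) h

lemma full_pushforward : (TopCat.Sheaf.pushforward (Type u) j).Full where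
  map_surjective {F G} α := by
    have le1 : ∀ W : Opens U, (Opens.map j).obj (hj.isOpenMap.functor.obj W) ≤ W :=
      fun W => le_of_eq (map_functor_eq j hj W)
    have le2 : ∀ W : Opens U, W ≤ (Opens.map j).obj (hj.isOpenMap.functor.obj W) :=
      fun W => le_of_eq (map_functor_eq j hj W).symm
    refine ⟨ObjectProperty.homMk
      { app := fun W => F.obj.map (homOfLE (le1 W.unop)).op ≫
          α.hom.app (Opposite.op (hj.isOpenMap.functor.obj W.unop)) ≫
            G.obj.map (homOfLE (le2 W.unop)).op
        naturality := ?_ }, ?_⟩
    · rintro ⟨W⟩ ⟨W'⟩ i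
      dsimp only
      have nat := α.hom.naturality (hj.isOpenMap.functor.map i.unop).op
      change F.obj.map ((Opens.map j).map (hj.isOpenMap.functor.map i.unop)).op ≫ _ =
        _ ≫ G.obj.map ((Opens.map j).map (hj.isOpenMap.functor.map i.unop)).op at nat
      have e1 : i ≫ (homOfLE (le1 W')).op = (homOfLE (le1 W)).op ≫
          ((Opens.map j).map (hj.isOpenMap.functor.map i.unop)).op := Subsingleton.elim _ _
      have e2 : ((Opens.map j).map (hj.isOpenMap.functor.map i.unop)).op ≫ (homOfLE (le2 W')).op =
          (homOfLE (le2 W)).op ≫ i := Subsingleton.elim _ _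
      refine ConcreteCategory.hom_ext _ _ fun x => ?_
      have natx := fun y => ConcreteCategory.congr_hom nat y
      simp only [types_comp_apply] at natx ⊢
      rw [← Functor.map_comp_apply, e1, Functor.map_comp_apply]
      erw [natx]
      refine (Functor.map_comp_apply G.obj _ _ _).symm.trans ?_
      refine Eq.trans ?_ (Functor.map_comp_apply G.obj _ _ _)
      rw [e2]
      rfl
    · apply ObjectProperty.hom_ext
      ext ⟨V⟩ : 2
      change F.obj.map (homOfLE (le1 ((Opens.map j).obj V))).op ≫
        α.hom.app (Opposite.op (hj.isOpenMap.functor.obj ((Opens.map j).obj V))) ≫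
          G.obj.map (homOfLE (le2 ((Opens.map j).obj V))).op = α.hom.app (Opposite.op V)
      have nat := α.hom.naturality (homOfLE (functor_map_le j hj V)).op
      change F.obj.map ((Opens.map j).map (homOfLE (functor_map_le j hj V))).op ≫ _ =
        _ ≫ G.obj.map ((Opens.map j).map (homOfLE (functor_map_le j hj V))).op at nat
      have e1 : (homOfLE (le1 ((Opens.map j).obj V))).op =
          ((Opens.map j).map (homOfLE (functor_map_le j hj V))).op := Subsingleton.elim _ _
      have e2 : ((Opens.map j).map (homOfLE (functor_map_le j hj V))).op ≫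
          (homOfLE (le2 ((Opens.map j).obj V))).op = 𝟙 _ := Subsingleton.elim _ _
      refine ConcreteCategory.hom_ext _ _ fun x => ?_
      have natx := fun y => ConcreteCategory.congr_hom nat y
      simp only [types_comp_apply] at natx ⊢
      rw [e1]
      erw [natx]
      refine (Functor.map_comp_apply G.obj _ _ _).symm.trans ?_
      rw [e2]
      exact Functor.map_id_apply G.obj _ _

end

/-- Let j : U → X be the inclusion of an open subset (an open embedding) and F a sheaf of sets on U.
Then the counit j⁻¹ j_* F → F is an isomorphism, i.e. j⁻¹ j_* is the identity on sheaves on U. -/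
theorem result {U X : TopCat.{u}} (j : U ⟶ X) (hj : Topology.IsOpenEmbedding j)
    (F : U.Sheaf (Type u)) :
    IsIso ((TopCat.Sheaf.pullbackPushforwardAdjunction (Type u) j).counit.app F) := by
  have := faithful_pushforward j hj
  have := full_pushforward j hj
  infer_instance

end Groth.Agent.S12443
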