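import Groth.Statements.S12444
import Mathlib
import Groth.Agent.Lib.Helper93.CatLocal

set_option autoImplicit false
universe u
open PtTop

namespace Groth.Agent.S12444

/-- A topological space X is catenary if and only if it has an open covering by catenary subspaces
(here: every point has a catenary open neighbourhood); and if X is catenary then so is every locally
closed subspace of X. -/
theorem result (X : Type u) [TopologicalSpace X] :
    (PtTop.IsCatenarySpace X ↔
      ∀ x : X, ∃ U : TopologicalSpace.Opens X, x ∈ U ∧ PtTop.IsCatenarySpace U) ∧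
    (PtTop.IsCatenarySpace X → ∀ S : Set X, IsLocallyClosed S → PtTop.IsCatenarySpace S) := by
  have hb : PtTop.IsCatenarySpace X → ∀ S : Set X, IsLocallyClosed S → PtTop.IsCatenarySpace S := by
    intro hX S hS
    rw [Groth.Agent.Lib.Helper44.isCatenarySpace_iff_posetCat] at hX ⊢
    refine Groth.Agent.Lib.Helper93.CatLocal.posetCat_of_isInducing
      (f := (Subtype.val : S → X)) Topology.IsInducing.subtypeVal ?_ hX
    rw [Subtype.range_coe]
    exact hS
  refine ⟨⟨?_, ?_⟩, hb⟩
  · intro hX x
    exact ⟨⊤, trivial, hb hX _ (isOpen_univ.isLocallyClosed)⟩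
  · intro h
    rw [Groth.Agent.Lib.Helper44.isCatenarySpace_iff_posetCat]
    apply Groth.Agent.Lib.Helper93.CatLocal.posetCat_of_open_cover
    intro x
    obtain ⟨U, hxU, hU⟩ := h x
    rw [Groth.Agent.Lib.Helper44.isCatenarySpace_iff_posetCat] at hU
    exact ⟨U, inferInstance, Subtype.val, U.isOpenEmbedding', ⟨⟨x, hxU⟩, rfl⟩, hU⟩

end Groth.Agent.S12444
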