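import Groth.Statements.S12446
import Groth.Agent.Lib.Helper44.CatSpace
import Mathlib.AlgebraicGeometry.Properties
import Mathlib.AlgebraicGeometry.Stalk

set_option autoImplicit false
universe u
open CategoryTheory AlgebraicGeometry
open Props

namespace Groth.Agent.S12446

/-- For a scheme X, the underlying topological space of X is catenary if and only if for every point x
the local ring O_{X,x} is a catenary ring. -/
theorem result (X : Scheme.{u}) :
    PtTop.IsCatenarySpace X ↔ ∀ x : X, CAlg.IsCatenary (X.presheaf.stalk x) := by
  have hgen : ∀ x : X, StableUnderGeneralization (Set.range (X.fromSpecStalk x)) := by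
    intro x a b hba ha
    have ha' : a ⤳ x := (Set.ext_iff.1 (Scheme.range_fromSpecStalk (X := X) (x := x)) a).1 ha
    exact (Set.ext_iff.1 (Scheme.range_fromSpecStalk (X := X) (x := x)) b).2 (hba.trans ha')
  constructor
  · intro hX x
    exact Groth.Agent.Lib.Helper44.isCatenary_of_isCatenarySpace (X := X) (X.fromSpecStalk x)
      (X.fromSpecStalk x).isEmbedding (hgen x) hX
  · intro h
    apply Groth.Agent.Lib.Helper44.isCatenarySpace_of_cover
    intro x
    refine ⟨X.presheaf.stalk x, inferInstance, X.fromSpecStalk x,
      (X.fromSpecStalk x).isEmbedding, hgen x, ?_, h x⟩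
    exact (Set.ext_iff.1 (Scheme.range_fromSpecStalk (X := X) (x := x)) x).2 specializes_rfl

end Groth.Agent.S12446
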