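import Groth.Statements.S7577
import Groth.Agent.Lib.Helper10.ChainDim
import Groth.Agent.S7581

set_option autoImplicit false
universe u
open PtTop

namespace Groth.Agent.S7577

open Groth.Agent.Lib.Helper10.ChainCodim TopologicalSpace

section Aux

attribute [local instance] specializationOrder

variable {X : Type u} [TopologicalSpace X] [QuasiSober X] [T0Space X]

/-- the dimension function on irreducible closed sets -/
noncomputable def dd (δ : X → ℤ) : IrreducibleCloseds X → ℤ := fun Z => δ (irreducibleSetEquivPoints Z)

theorem dd_strict (δ : X → ℤ) (hδ : PtTop.IsDimensionFunction δ) (a b : IrreducibleCloseds X)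
    (h : a < b) : dd δ a < dd δ b := by
  have h' : irreducibleSetEquivPoints a < irreducibleSetEquivPoints b :=
    irreducibleSetEquivPoints.strictMono h
  have h1 : irreducibleSetEquivPoints b ⤳ irreducibleSetEquivPoints a := h'.le
  have h2 : irreducibleSetEquivPoints b ≠ irreducibleSetEquivPoints a := h'.ne'
  exact hδ.1 _ _ h1 h2

theorem dd_cov (δ : X → ℤ) (hδ : PtTop.IsDimensionFunction δ) (a b : IrreducibleCloseds X)
    (h : a ⋖ b) : dd δ b = dd δ a + 1 := by
  have h' : irreducibleSetEquivPoints a ⋖ irreducibleSetEquivPoints b :=
    (apply_covBy_apply_iff irreducibleSetEquivPoints).2 h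
  apply hδ.2
  refine ⟨h'.le, h'.lt.ne', ?_⟩
  intro z hz1 hz2
  have h1 : irreducibleSetEquivPoints a ≤ z := hz2
  have h2 : z ≤ irreducibleSetEquivPoints b := hz1
  rcases h'.eq_or_eq h1 h2 with h | h
  · exact Or.inr h
  · exact Or.inl h

theorem equiv_closure (x : X) :
    irreducibleSetEquivPoints
      (⟨closure {x}, isIrreducible_singleton.closure, isClosed_closure⟩ : IrreducibleCloseds X) = x :=
  irreducibleSetEquivPoints.apply_symm_apply x

end Aux


/-- Let X be a sober topological space and δ : X → ℤ a dimension function. Then X is catenary, and for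
any specialization x ⤳ y the codimension of the closure of {y} in the closure of {x} equals δ(x) −
δ(y). -/
theorem result {X : Type u} [TopologicalSpace X] [QuasiSober X] [T0Space X]
    (δ : X → ℤ) (hδ : PtTop.IsDimensionFunction δ) :
    PtTop.IsCatenarySpace X ∧
    ∀ x y : X, x ⤳ y →
      PtTop.codim (⟨closure {y}, isIrreducible_singleton.closure, isClosed_closure⟩ : TopologicalSpace.IrreducibleCloseds X)
        (closure {x}) = ((δ x - δ y).toNat : ℕ∞) := by
  have hd := dd_strict δ hδ
  have hc := dd_cov δ hδ
  constructor
  · rw [Groth.Agent.S7581.isCatenary_iff]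
    intro a b hab
    exact catenary_of_dim (dd δ) hd hc a b hab
  · intro x y hxy
    have hle : (⟨closure {y}, isIrreducible_singleton.closure, isClosed_closure⟩ : IrreducibleCloseds X) ≤
        (⟨closure {x}, isIrreducible_singleton.closure, isClosed_closure⟩ : IrreducibleCloseds X) := by
      change closure {y} ⊆ closure {x}
      exact specializes_iff_closure_subset.1 hxy
    have := cd_eq_of_dim (dd δ) hd hc _ _ hle
    rw [← Groth.Agent.S7581.codim_eq_cd] at this
    rw [show (closure {x} : Set X) = ((⟨closure {x}, isIrreducible_singleton.closure, isClosed_closure⟩ :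
      IrreducibleCloseds X) : Set X) from rfl, this]
    unfold dd
    rw [equiv_closure, equiv_closure]

end Groth.Agent.S7577
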