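import Groth.Statements.S12447
import Mathlib
import Groth.Agent.Lib.Helper93.DimFunLocal
import Groth.Agent.S12444
import Groth.Agent.S7577

set_option autoImplicit false
universe u
open CategoryTheory AlgebraicGeometry
open Props

namespace Groth.Agent.S12447

/-- Let S be a locally Noetherian scheme. Then the underlying topological space of S is catenary if and
only if locally in the Zariski topology there is a dimension function, i.e. every point has an open
neighbourhood U carrying a function δ : U → ℤ which strictly decreases along nontrivial
specializations and drops by exactly one along immediate specializations. -/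
theorem result (S : Scheme.{u}) [IsLocallyNoetherian S] :
    PtTop.IsCatenarySpace S ↔
      ∀ s : S, ∃ U : S.Opens, s ∈ U ∧ ∃ δ : U → ℤ, PtTop.IsDimensionFunction δ := by
  constructor
  · intro hS s
    obtain ⟨V, hV', hsV, -⟩ := exists_isAffineOpen_mem_and_subset (U := ⊤) (x := s) (by simp)
    have : IsNoetherianRing Γ(S, V) := IsLocallyNoetherian.component_noetherian ⟨V, hV'⟩
    have : TopologicalSpace.NoetherianSpace V := noetherianSpace_of_isAffineOpen V hV'
    have hcat : PtTop.IsCatenarySpace V :=
      (Groth.Agent.S12444.result S).2 hS (V : Set S) V.isOpen.isLocallyClosed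
    exact @Groth.Agent.Lib.Helper93.DimFunLocal.exists_dimensionFunction_of_nhd S _ _ _ V this
      hcat s hsV
  · intro h
    rw [(Groth.Agent.S12444.result S).1]
    intro s
    obtain ⟨U, hsU, δ, hδ⟩ := h s
    have : QuasiSober (U : Set S) := U.isOpenEmbedding'.quasiSober
    have : QuasiSober U := this
    exact ⟨U, hsU, (Groth.Agent.S7577.result δ hδ).1⟩

end Groth.Agent.S12447
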