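import Groth.Statements.S12448
import Mathlib

set_option autoImplicit false
universe u
open CategoryTheory CategoryTheory.Limits
open CohSite

namespace Groth.Agent.S12448

section
open CategoryTheory CategoryTheory.Limits

theorem add_of_nat {𝒜 : Type (u+1)} [Category.{u} 𝒜] [Preadditive 𝒜] [HasBinaryBiproducts 𝒜]
    (P₁ P₂ : 𝒜 ⥤ AddCommGrpCat.{u}) [P₁.Additive] [P₂.Additive]
    (θ : ∀ A, P₁.obj A → P₂.obj A)
    (nat : ∀ {A B : 𝒜} (f : A ⟶ B) (x : P₁.obj A), θ B (P₁.map f x) = P₂.map f (θ A x))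
    (A : 𝒜) (x y : P₁.obj A) : θ A (x + y) = θ A x + θ A y := by
  set z : P₁.obj (A ⊞ A) := P₁.map biprod.inl x + P₁.map biprod.inr y with hz
  have h1 : P₁.map (biprod.desc (𝟙 A) (𝟙 A)) z = x + y := by
    rw [hz, map_add, ← ConcreteCategory.comp_apply, ← ConcreteCategory.comp_apply,
      ← P₁.map_comp, ← P₁.map_comp, biprod.inl_desc, biprod.inr_desc, P₁.map_id]
    rfl
  have hf : P₁.map biprod.fst z = x := by
    rw [hz, map_add, ← ConcreteCategory.comp_apply, ← ConcreteCategory.comp_apply,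
      ← P₁.map_comp, ← P₁.map_comp, biprod.inl_fst, biprod.inr_fst, P₁.map_id, P₁.map_zero]
    simp
  have hs : P₁.map biprod.snd z = y := by
    rw [hz, map_add, ← ConcreteCategory.comp_apply, ← ConcreteCategory.comp_apply,
      ← P₁.map_comp, ← P₁.map_comp, biprod.inl_snd, biprod.inr_snd, P₁.map_id, P₁.map_zero]
    simp
  have h2 : (biprod.desc (𝟙 A) (𝟙 A) : A ⊞ A ⟶ A) = biprod.fst + biprod.snd := by
    rw [biprod.desc_eq]; simp
  rw [← h1, nat, h2, P₂.map_add]
  have h3 : ∀ (f g : P₂.obj (A ⊞ A) ⟶ P₂.obj A) (w : P₂.obj (A ⊞ A)),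
      (ConcreteCategory.hom (f + g)) w = (ConcreteCategory.hom f) w + (ConcreteCategory.hom g) w :=
    fun f g w => rfl
  rw [h3, ← nat, ← nat, hf, hs]


section abs
universe v₁ v₂ v₃ v₄ u₁ u₂ u₃ u₄
variable {𝒜 : Type u₁} {ℬ : Type u₂} {𝒮D : Type u₃} {𝒮C : Type u₄}
  [Category.{v₁} 𝒜] [Category.{v₂} ℬ] [Category.{v₃} 𝒮D] [Category.{v₄} 𝒮C]
  {F : 𝒜 ⥤ ℬ} {R : ℬ ⥤ 𝒜} (adjF : F ⊣ R) {G : 𝒮D ⥤ 𝒮C} {R' : 𝒮C ⥤ 𝒮D} (adjG : G ⊣ R')
  (fD : 𝒜 ⥤ 𝒮D) (fC : ℬ ⥤ 𝒮C) (e : R ⋙ fD ≅ fC ⋙ R')

def mate : fD ⋙ G ⟶ F ⋙ fC where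
  app A := G.map (fD.map (adjF.unit.app A) ≫ e.hom.app (F.obj A)) ≫
    adjG.counit.app (fC.obj (F.obj A))
  naturality A B f := by
    have h1 := adjF.unit.naturality f
    have h2 := adjG.counit.naturality (fC.map (F.map f))
    have h3 := e.hom.naturality (F.map f)
    simp only [Functor.comp_map, Functor.id_map, Functor.id_obj, Functor.comp_obj] at h1 h2 h3 ⊢
    rw [Category.assoc, ← h2, ← Category.assoc, ← Category.assoc]
    congr 1
    rw [← Functor.map_comp, ← Functor.map_comp]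
    congr 1
    rw [← Category.assoc, ← Functor.map_comp, h1, Functor.map_comp, Category.assoc, Category.assoc, h3]

theorem mate_homEquiv (A : 𝒜) :
    adjG.homEquiv _ _ ((mate adjF adjG fD fC e).app A) =
      fD.map (adjF.unit.app A) ≫ e.hom.app (F.obj A) := by
  simp [mate, Adjunction.homEquiv_unit]

theorem mate_isIso (F' : 𝒜 ⥤ ℬ) (e' : F' ⋙ fC ≅ fD ⋙ G) [fD.Faithful] [fC.Faithful] (A : 𝒜)
    (γ : F'.obj A ⟶ F.obj A) (α : A ⟶ R.obj (F'.obj A))
    (hγ : fC.map γ = e'.hom.app A ≫ (mate adjF adjG fD fC e).app A)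
    (hα : fD.map α ≫ e.hom.app (F'.obj A) = adjG.unit.app (fD.obj A) ≫ R'.map (e'.inv.app A)) :
    IsIso ((mate adjF adjG fD fC e).app A) := by
  set κ := (mate adjF adjG fD fC e).app A with hκ
  set β : F.obj A ⟶ F'.obj A := (adjF.homEquiv A (F'.obj A)).symm α with hβ
  have hβ' : adjF.unit.app A ≫ R.map β = α := by
    have := (adjF.homEquiv A (F'.obj A)).apply_symm_apply α
    rw [Adjunction.homEquiv_unit] at this
    exact this
  have hκ' : adjG.unit.app (fD.obj A) ≫ R'.map κ = fD.map (adjF.unit.app A) ≫ e.hom.app (F.obj A) := by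
    have := mate_homEquiv adjF adjG fD fC e A
    rw [Adjunction.homEquiv_unit] at this
    exact this
  have h1 : β ≫ γ = 𝟙 (F.obj A) := by
    apply (adjF.homEquiv _ _).injective
    rw [Adjunction.homEquiv_unit, Adjunction.homEquiv_unit, Functor.map_comp, ← Category.assoc, hβ']
    have h0 : adjF.unit.app A ≫ R.map (𝟙 (F.obj A)) = adjF.unit.app A := by simp
    rw [h0]
    apply fD.map_injective
    rw [← cancel_mono (e.hom.app (F.obj A)), Functor.map_comp, Category.assoc]
    have h3 := e.hom.naturality γ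
    simp only [Functor.comp_map, Functor.comp_obj] at h3
    rw [h3, ← Category.assoc, hα, hγ, Functor.map_comp, Category.assoc, ← Category.assoc (R'.map _),
      ← Functor.map_comp, Iso.inv_hom_id_app]
    have h4 : R'.map (𝟙 ((fD ⋙ G).obj A)) ≫ R'.map κ = R'.map κ := by simp
    rw [h4, hκ']
  have h2 : κ ≫ fC.map β = e'.inv.app A := by
    apply (adjG.homEquiv _ _).injective
    rw [Adjunction.homEquiv_unit, Adjunction.homEquiv_unit, Functor.map_comp, ← Category.assoc, hκ',
      Category.assoc]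
    have h3 := e.hom.naturality β
    simp only [Functor.comp_map, Functor.comp_obj] at h3
    rw [← h3, ← Category.assoc, ← Functor.map_comp, hβ', hα]
  refine ⟨fC.map β ≫ e'.hom.app A, ?_, ?_⟩
  · rw [← Category.assoc, h2, Iso.inv_hom_id_app]
  · rw [Category.assoc, ← hγ, ← Functor.map_comp, h1, CategoryTheory.Functor.map_id]; rfl

end abs

variable {C D : Type u} [SmallCategory C] [SmallCategory D]
    (J : GrothendieckTopology C) (K : GrothendieckTopology D) (u : D ⥤ C) [u.IsContinuous K J]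

noncomputable instance instBiprod : HasFiniteBiproducts (Sheaf K AddCommGrpCat.{u}) :=
  HasFiniteBiproducts.of_hasFiniteProducts

noncomputable abbrev fD : Sheaf K AddCommGrpCat.{u} ⥤ Sheaf K (Type u) :=
  sheafCompose K (forget AddCommGrpCat.{u})

noncomputable abbrev fC : Sheaf J AddCommGrpCat.{u} ⥤ Sheaf J (Type u) :=
  sheafCompose J (forget AddCommGrpCat.{u})

noncomputable abbrev Gf : Sheaf K (Type u) ⥤ Sheaf J (Type u) := u.sheafPullback (Type u) K J
noncomputable abbrev Ff : Sheaf K AddCommGrpCat.{u} ⥤ Sheaf J AddCommGrpCat.{u} :=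
  u.sheafPullback AddCommGrpCat.{u} K J
noncomputable abbrev Rf : Sheaf J AddCommGrpCat.{u} ⥤ Sheaf K AddCommGrpCat.{u} :=
  u.sheafPushforwardContinuous AddCommGrpCat.{u} K J
noncomputable abbrev Rf' : Sheaf J (Type u) ⥤ Sheaf K (Type u) :=
  u.sheafPushforwardContinuous (Type u) K J
noncomputable abbrev adjF : Ff J K u ⊣ Rf J K u := u.sheafAdjunctionContinuous AddCommGrpCat.{u} K J
noncomputable abbrev adjG : Gf J K u ⊣ Rf' J K u := u.sheafAdjunctionContinuous (Type u) K J

noncomputable abbrev Hfun : Sheaf K AddCommGrpCat.{u} ⥤ Sheaf J (Type u) :=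
  fD K ⋙ Gf J K u

noncomputable def Q₀ : Cᵒᵖ ⥤ (Sheaf K AddCommGrpCat.{u} ⥤ Type u) :=
  (Hfun J K u ⋙ sheafToPresheaf J (Type u)).flip

variable (hu : PreservesFiniteLimits (u.sheafPullback (Type u) K J))

include hu in
theorem Q₀_lex (c : Cᵒᵖ) : PreservesFiniteLimits ((Q₀ J K u).obj c) := by
  have : PreservesFiniteLimits (Hfun J K u) := comp_preservesFiniteLimits _ _
  have h2 : PreservesFiniteLimits (Hfun J K u ⋙ sheafToPresheaf J (Type u) ⋙ (evaluation _ _).obj c) := by
    have : PreservesFiniteLimits (sheafToPresheaf J (Type u) ⋙ (evaluation Cᵒᵖ (Type u)).obj c) := comp_preservesFiniteLimits _ _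
    exact comp_preservesFiniteLimits _ _
  exact h2

noncomputable def Q : Cᵒᵖ ⥤ (Sheaf K AddCommGrpCat.{u} ⥤ₗ Type u) :=
  ObjectProperty.lift _ (Q₀ J K u) (fun c => by
    simp only [leftExactFunctor_iff]; exact Q₀_lex J K u hu c)

noncomputable def F'₀ : Sheaf K AddCommGrpCat.{u} ⥤ (Cᵒᵖ ⥤ AddCommGrpCat.{u}) :=
  (Q J K u hu ⋙ AddCommGrpCat.leftExactFunctorForgetEquivalence.inverse ⋙ LeftExactFunctor.forget _ _).flip

theorem F'₀_forget (A : Sheaf K AddCommGrpCat.{u}) :
    ((F'₀ J K u hu).obj A) ⋙ forget AddCommGrpCat.{u} = ((Hfun J K u).obj A).obj := rfl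

theorem F'₀_sheaf (A : Sheaf K AddCommGrpCat.{u}) : Presheaf.IsSheaf J ((F'₀ J K u hu).obj A) := by
  rw [Presheaf.isSheaf_iff_isSheaf_forget J _ (forget AddCommGrpCat.{u}), F'₀_forget]
  exact ((Hfun J K u).obj A).property

noncomputable def F' : Sheaf K AddCommGrpCat.{u} ⥤ Sheaf J AddCommGrpCat.{u} :=
  ObjectProperty.lift _ (F'₀ J K u hu) (F'₀_sheaf J K u hu)

theorem F'_forget : F' J K u hu ⋙ fC J = Hfun J K u := rfl

theorem F'_ev_lex (c : Cᵒᵖ) :
    PreservesFiniteLimits (F' J K u hu ⋙ sheafToPresheaf J AddCommGrpCat.{u} ⋙ (evaluation _ _).obj c) := by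
  have h := ((Q J K u hu ⋙ AddCommGrpCat.leftExactFunctorForgetEquivalence.inverse).obj c).property
  simp only [leftExactFunctor_iff] at h
  exact h


noncomputable abbrev P1 (c : Cᵒᵖ) : Sheaf K AddCommGrpCat.{u} ⥤ AddCommGrpCat.{u} :=
  F' J K u hu ⋙ sheafToPresheaf J AddCommGrpCat.{u} ⋙ (evaluation _ _).obj c

theorem P1_additive (c : Cᵒᵖ) : (P1 J K u hu c).Additive := by
  have := F'_ev_lex J K u hu c
  have : (P1 J K u hu c).PreservesZeroMorphisms := by
    have : PreservesLimitsOfShape (Discrete.{0} PEmpty) (P1 J K u hu c) := inferInstance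
    exact Functor.preservesZeroMorphisms_of_preserves_terminal_object
  exact Functor.additive_of_preserves_binary_products _

noncomputable abbrev P2 (c : Cᵒᵖ) : Sheaf K AddCommGrpCat.{u} ⥤ AddCommGrpCat.{u} :=
  Ff J K u ⋙ sheafToPresheaf J AddCommGrpCat.{u} ⋙ (evaluation _ _).obj c

theorem Ff_additive : (Ff J K u).Additive :=
  (adjF J K u).left_adjoint_additive

theorem P2_additive (c : Cᵒᵖ) : (P2 J K u c).Additive := by
  have := Ff_additive J K u
  infer_instance


def toFn {E : Type u} [SmallCategory E] {L : GrothendieckTopology E}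
    {X Y : Sheaf L AddCommGrpCat.{u}}
    (φ : (sheafCompose L (forget AddCommGrpCat.{u})).obj X ⟶ (sheafCompose L (forget AddCommGrpCat.{u})).obj Y)
    (c : Eᵒᵖ) : X.obj.obj c → Y.obj.obj c := fun x => φ.hom.app c x

theorem exists_lift_hom {E : Type u} [SmallCategory E] (L : GrothendieckTopology E)
    (X Y : Sheaf L AddCommGrpCat.{u})
    (φ : (sheafCompose L (forget AddCommGrpCat.{u})).obj X ⟶ (sheafCompose L (forget AddCommGrpCat.{u})).obj Y)
    (hadd : ∀ (c : Eᵒᵖ) (x y : X.obj.obj c), toFn φ c (x + y) = toFn φ c x + toFn φ c y) :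
    ∃ ψ : X ⟶ Y, (sheafCompose L (forget AddCommGrpCat.{u})).map ψ = φ := by
  refine ⟨ObjectProperty.homMk
    { app := fun c => AddCommGrpCat.ofHom (AddMonoidHom.mk' (toFn φ c) (hadd c))
      naturality := ?_ }, ?_⟩
  · intro c c' f
    ext x
    exact congrArg (fun m => m x) (φ.hom.naturality f)
  · apply Sheaf.hom_ext
    ext c x
    rfl


noncomputable abbrev kap : Hfun J K u ⟶ Ff J K u ⋙ fC J :=
  mate (adjF J K u) (adjG J K u) (fD K) (fC J) (Iso.refl _)

theorem exists_gamma (A : Sheaf K AddCommGrpCat.{u}) :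
    ∃ γ : (F' J K u hu).obj A ⟶ (Ff J K u).obj A, (fC J).map γ = (kap J K u).app A := by
  apply exists_lift_hom J ((F' J K u hu).obj A) ((Ff J K u).obj A) ((kap J K u).app A)
  intro c x y
  have := P1_additive J K u hu c
  have := P2_additive J K u c
  refine add_of_nat (P1 J K u hu c) (P2 J K u c) (fun B => toFn (X := (F' J K u hu).obj B) (Y := (Ff J K u).obj B) ((kap J K u).app B) c) ?_ A x y
  intro A B f x
  exact congrArg (fun m => m.hom.app c x) ((kap J K u).naturality f)


theorem exists_alpha (A : Sheaf K AddCommGrpCat.{u}) :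
    ∃ α : A ⟶ (Rf J K u).obj ((F' J K u hu).obj A),
      (fD K).map α = (adjG J K u).unit.app ((fD K).obj A) := by
  apply exists_lift_hom K A ((Rf J K u).obj ((F' J K u hu).obj A))
    ((adjG J K u).unit.app ((fD K).obj A))
  intro d x y
  have := P1_additive J K u hu (u.op.obj d)
  refine add_of_nat (sheafToPresheaf K AddCommGrpCat.{u} ⋙ (evaluation _ _).obj d)
    (P1 J K u hu (u.op.obj d))
    (fun B => toFn (X := B) (Y := (Rf J K u).obj ((F' J K u hu).obj B))
      ((adjG J K u).unit.app ((fD K).obj B)) d) ?_ A x y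
  intro A B f x
  exact congrArg (fun m => m.hom.app d x) ((adjG J K u).unit.naturality ((fD K).map f))

include hu in
theorem kap_isIso (A : Sheaf K AddCommGrpCat.{u}) : IsIso ((kap J K u).app A) := by
  obtain ⟨γ, hγ⟩ := exists_gamma J K u hu A
  obtain ⟨α, hα⟩ := exists_alpha J K u hu A
  have : (fD K).Faithful := inferInstance
  have : (fC J).Faithful := inferInstance
  refine mate_isIso (adjF J K u) (adjG J K u) (fD K) (fC J) (Iso.refl _) (F' J K u hu) (Iso.refl _) A γ α ?_ ?_
  · rw [hγ]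
    exact (Category.id_comp _).symm
  · have h1 : (fD K).map α ≫ 𝟙 _ = (fD K).map α := Category.comp_id _
    have h2 : (adjG J K u).unit.app ((fD K).obj A) ≫ (Rf' J K u).map (𝟙 _) =
        (adjG J K u).unit.app ((fD K).obj A) := by
      rw [CategoryTheory.Functor.map_id]; exact Category.comp_id _
    exact h1.trans (hα.trans h2.symm)

include hu in
theorem main : PreservesFiniteLimits (u.sheafPullback AddCommGrpCat.{u} K J) := by
  have hiso : IsIso (kap J K u) := by
    have := kap_isIso J K u hu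
    exact NatIso.isIso_of_isIso_app _
  have e : Hfun J K u ≅ Ff J K u ⋙ fC J := asIso (kap J K u)
  have h1 : PreservesFiniteLimits (Hfun J K u) := comp_preservesFiniteLimits _ _
  have h2 : PreservesFiniteLimits (Ff J K u ⋙ fC J) := preservesFiniteLimits_of_natIso e
  have : ReflectsLimits (fC J) := reflectsLimits_of_reflectsIsomorphisms
  exact preservesFiniteLimits_of_reflects_of_preserves (Ff J K u) (fC J)

end

open CohSite in

/-- For a morphism of topoi given by a continuous functor u : D ⥤ C between small sites whose pullback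
on sheaves of sets is exact, the pullback functor f⁻¹ on abelian sheaves, Ab(D) → Ab(C) (left
adjoint of u_*, so right exact in any case), preserves finite limits, i.e. is exact. -/
theorem result {C D : Type u} [SmallCategory C] [SmallCategory D]
    (J : GrothendieckTopology C) (K : GrothendieckTopology D) (u : D ⥤ C) [u.IsContinuous K J]
    (hu : PreservesFiniteLimits (u.sheafPullback (Type u) K J)) :
    PreservesFiniteLimits (u.sheafPullback AddCommGrpCat.{u} K J) := by
  exact Groth.Agent.S12448.main J K u hu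

end Groth.Agent.S12448
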