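import Groth.Statements.S12451
import Groth.Agent.Lib.Helper2.FinLocFreeAff

set_option autoImplicit false
universe u
open CategoryTheory AlgebraicGeometry
open Props

namespace Groth.Agent.S12451

open Groth.Agent.Lib.Helper2.FinLocFreeAff Groth.Agent.Lib.Helper2.LocFreeAff


/-- For a commutative ring R and an R-module M, the associated quasi-coherent module M~ on Spec R is a
finite locally free O-module exactly when M is finitely generated and projective over R
(equivalently, a finite locally free R-module). -/
theorem result {R : CommRingCat.{u}} (M : ModuleCat.{u} R) :
    FlatMod.IsFinLocFree (tilde M) ↔ Module.Finite R M ∧ Module.Projective R M := by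
  haveI : (tilde M).IsQuasicoherent := inferInstance
  rw [finite_iff_tilde, projective_iff_tilde]
  constructor
  · intro h
    exact (isFinLocFree_iff_sections (tilde M)).1 h ⊤ (isAffineOpen_top (Spec R))
  · rintro ⟨h1, h2⟩
    apply isFinLocFree_of_projective
    intro x
    exact ⟨⊤, isAffineOpen_top _, trivial, h1, h2⟩

end Groth.Agent.S12451
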