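import Groth.Statements.S12452
import Mathlib.Tactic
import Mathlib.Topology.Sheaves.Sheaf
import Mathlib.Topology.Sheaves.Functors
import Mathlib.Topology.Sheaves.SheafCondition.Sites
import Mathlib.Topology.Sheaves.SheafCondition.UniqueGluing

set_option autoImplicit false
universe u
open CategoryTheory TopologicalSpace Opposite
open ShSp

namespace Groth.Agent.S12452

/-- For sheaves of sets, let f : X → Y be a continuous map, F a sheaf of sets on X, G a sheaf of sets on
Y, and B_X, B_Y bases for the topologies of X and Y. Suppose given, for every V in B_Y and U in B_X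
with U ⊆ f⁻¹V, a map φ_V^U : G(V) → F(U), compatibly with restrictions. Then there is exactly one
morphism of sheaves ψ : G → f_*F (an f-map G → F) such that G(V) → F(f⁻¹V) → F(U) equals φ_V^U for
every such pair. -/
theorem result {X Y : TopCat.{u}} (f : X ⟶ Y) (F : X.Sheaf (Type u)) (G : Y.Sheaf (Type u))
    {BX : Set (Opens X)} (hBX : Opens.IsBasis BX) {BY : Set (Opens Y)} (hBY : Opens.IsBasis BY)
    (φ : ∀ (V : BY) (U : BX), (U : Opens X) ≤ (Opens.map f).obj V →
      (G.presheaf.obj (op (V : Opens Y)) → F.presheaf.obj (op (U : Opens X))))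
    (hφ : ∀ (V V' : BY) (U U' : BX) (hUV : (U : Opens X) ≤ (Opens.map f).obj V)
      (hU'V' : (U' : Opens X) ≤ (Opens.map f).obj V') (hV : (V' : Opens Y) ≤ V) (hU : (U' : Opens X) ≤ U)
      (s : G.presheaf.obj (op (V : Opens Y))),
      F.presheaf.map (homOfLE hU).op (φ V U hUV s) = φ V' U' hU'V' (G.presheaf.map (homOfLE hV).op s)) :
    ∃! ψ : G ⟶ (TopCat.Sheaf.pushforward (Type u) f).obj F,
      ∀ (V : BY) (U : BX) (hUV : (U : Opens X) ≤ (Opens.map f).obj V) (s : G.presheaf.obj (op (V : Opens Y))),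
        F.presheaf.map (homOfLE hUV).op (ψ.1.app (op (V : Opens Y)) s) = φ V U hUV s := by
  classical
  have hcover : ∀ W : Opens X,
      W ≤ ⨆ (U : {U : BX // (U : Opens X) ≤ W}), ((U : BX) : Opens X) := by
    intro W x hx
    obtain ⟨U, hUB, hxU, hUW⟩ := Opens.isBasis_iff_nbhd.mp hBX hx
    exact Opens.mem_iSup.mpr ⟨⟨⟨U, hUB⟩, hUW⟩, hxU⟩
  have hFmap : ∀ {A B C : Opens X} (h1 : B ≤ A) (h2 : C ≤ B) (x : F.presheaf.obj (op A)),
      F.presheaf.map (homOfLE h2).op (F.presheaf.map (homOfLE h1).op x) =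
        F.presheaf.map (homOfLE (h2.trans h1)).op x := by
    intro A B C h1 h2 x
    rw [← ConcreteCategory.comp_apply, ← Functor.map_comp]
    rfl
  have hFid : ∀ {A : Opens X} (h : A ≤ A) (x : F.presheaf.obj (op A)),
      F.presheaf.map (homOfLE h).op x = x := by
    intro A h x
    have : (homOfLE h).op = 𝟙 (op A) := rfl
    rw [this, F.presheaf.map_id]
    rfl
  have hsep : ∀ (W : Opens X) (s t : F.presheaf.obj (op W)),
      (∀ (U : BX) (hU : (U : Opens X) ≤ W),
        F.presheaf.map (homOfLE hU).op s = F.presheaf.map (homOfLE hU).op t) → s = t := by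
    intro W s t h
    exact F.eq_of_locally_eq' (fun U : {U : BX // (U : Opens X) ≤ W} => ((U : BX) : Opens X)) W
      (fun U => homOfLE U.2) (hcover W) s t (fun U => h U.1 U.2)
  have hmono : ∀ {V V' : Opens Y}, V' ≤ V → (Opens.map f).obj V' ≤ (Opens.map f).obj V :=
    fun h => ((Opens.map f).map (homOfLE h)).le
  have hglue : ∀ (V : BY) (s : G.presheaf.obj (op (V : Opens Y))),
      ∃! t : F.presheaf.obj (op ((Opens.map f).obj V)),
        ∀ (U : BX) (hU : (U : Opens X) ≤ (Opens.map f).obj V),
          F.presheaf.map (homOfLE hU).op t = φ V U hU s := by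
    intro V s
    let W : Opens X := (Opens.map f).obj (V : Opens Y)
    let Uf : {U : BX // (U : Opens X) ≤ W} → Opens X := fun U => ((U : BX) : Opens X)
    let sf : ∀ i : {U : BX // (U : Opens X) ≤ W}, F.presheaf.obj (op (Uf i)) :=
      fun i => φ V i.1 i.2 s
    have hcompat : TopCat.Presheaf.IsCompatible F.1 Uf sf := by
      intro i j
      apply hsep
      intro U hU
      have e1 : F.presheaf.map (homOfLE hU).op
          (F.presheaf.map (Opens.infLELeft (Uf i) (Uf j)).op (sf i)) =
          F.presheaf.map (homOfLE (hU.trans inf_le_left)).op (sf i) :=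
        hFmap (inf_le_left) hU (sf i)
      have e2 : F.presheaf.map (homOfLE hU).op
          (F.presheaf.map (Opens.infLERight (Uf i) (Uf j)).op (sf j)) =
          F.presheaf.map (homOfLE (hU.trans inf_le_right)).op (sf j) :=
        hFmap (inf_le_right) hU (sf j)
      have hUW : (U : Opens X) ≤ (Opens.map f).obj V := (hU.trans inf_le_left).trans i.2
      have e3 := hφ V V i.1 U i.2 hUW le_rfl (hU.trans inf_le_left) s
      have e4 := hφ V V j.1 U j.2 hUW le_rfl (hU.trans inf_le_right) s
      exact e1.trans (e3.trans (e4.symm.trans e2.symm))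
    obtain ⟨t, ht, htu⟩ := F.existsUnique_gluing' Uf W (fun i => homOfLE i.2) (hcover W) sf hcompat
    exact ⟨t, fun U hU => ht ⟨U, hU⟩, fun t' ht' => htu t' (fun i => ht' i.1 i.2)⟩
  let ψV : ∀ (V : BY), G.presheaf.obj (op (V : Opens Y)) →
      F.presheaf.obj (op ((Opens.map f).obj V)) := fun V s => (hglue V s).choose
  have hψV : ∀ (V : BY) (s : G.presheaf.obj (op (V : Opens Y))) (U : BX)
      (hU : (U : Opens X) ≤ (Opens.map f).obj V),
      F.presheaf.map (homOfLE hU).op (ψV V s) = φ V U hU s :=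
    fun V s => (hglue V s).choose_spec.1
  have hnat : ∀ (V V' : BY) (hV : (V' : Opens Y) ≤ V) (s : G.presheaf.obj (op (V : Opens Y))),
      F.presheaf.map (homOfLE (hmono hV)).op (ψV V s) =
        ψV V' (G.presheaf.map (homOfLE hV).op s) := by
    intro V V' hV s
    apply hsep
    intro U hU
    rw [hFmap, hψV, hψV]
    have e3 := hφ V V' U U (hU.trans (hmono hV)) hU hV le_rfl s
    rw [hFid] at e3
    exact e3
  let Bf : BY → Opens Y := Subtype.val
  have hBf : Opens.IsBasis (Set.range Bf) := by
    have : Set.range Bf = BY := Subtype.range_coe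
    rw [this]
    exact hBY
  let asB : InducedCategory (Opens Y) Bf → BY := fun i => i
  let FF : Y.Sheaf (Type u) := (TopCat.Sheaf.pushforward (Type u) f).obj F
  let α : (inducedFunctor Bf).op ⋙ G.presheaf ⟶ (inducedFunctor Bf).op ⋙ FF.1 :=
    { app := fun i => TypeCat.ofHom (fun s => ψV (asB i.unop) s)
      naturality := by
        intro i j g
        ext s
        have hle : ((asB j.unop : BY) : Opens Y) ≤ ((asB i.unop : BY) : Opens Y) := g.unop.hom.le
        exact (hnat (asB i.unop) (asB j.unop) hle s).symm }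
  let ψ₀ : G.presheaf ⟶ FF.1 := TopCat.Sheaf.restrictHomEquivHom G.presheaf FF hBf α
  have hψ₀ : ∀ i : BY, ψ₀.app (op (Bf i)) = α.app (op i) :=
    fun i => TopCat.Sheaf.extend_hom_app G.presheaf FF hBf α i
  let ψ : G ⟶ FF := ObjectProperty.homMk ψ₀
  refine ⟨ψ, ?_, ?_⟩
  · intro V U hUV s
    change F.presheaf.map (homOfLE hUV).op (ψ₀.app (op (Bf V)) s) = φ V U hUV s
    rw [hψ₀ V]
    exact hψV V s U hUV
  · intro ψ' hψ'
    apply CategoryTheory.Sheaf.hom_ext
    change ψ'.hom = ψ₀
    apply TopCat.Sheaf.hom_ext G.presheaf FF hBf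
    intro i
    ext s
    apply hsep
    intro U hU
    have h1 := hψ' i U hU s
    have h2 : F.presheaf.map (homOfLE hU).op (ψ₀.app (op (Bf i)) s) = φ i U hU s := by
      rw [hψ₀ i]
      exact hψV i s U hU
    exact h1.trans h2.symm

end Groth.Agent.S12452
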