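import Groth.Statements.S12453
import Groth.Agent.Lib.Helper60.Twist

set_option autoImplicit false
universe u
open CategoryTheory CategoryTheory.Limits AlgebraicGeometry
open Constr

namespace Groth.Agent.S12453

/-- Let S be a graded ring such that X = Proj S is covered by the standard opens D_+(f) with f
homogeneous of degree one (for instance S generated by S_1 over S_0). Then every O_X(n) is
invertible, O_X(m) ⊗ O_X(n) ≅ O_X(m+n), and O_X(n) ≅ O_X(1)^{⊗n} for n ≥ 0. (Existence of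
isomorphisms only; the published isomorphisms are the multiplication maps.) -/
theorem result {R A : Type u} [CommRing R] [CommRing A] [Algebra R A] (𝒜 : ℕ → Submodule R A) [GradedAlgebra 𝒜]
    (hcov : (⨆ f : 𝒜 1, Proj.basicOpen 𝒜 (f : A)) = ⊤) :
    (∀ n : ℤ, PicF.IsInvertible (Twist.twist 𝒜 n)) ∧
      (∀ m n : ℤ, Nonempty (CohB1.tensorMod (Twist.twist 𝒜 m) (Twist.twist 𝒜 n) ≅ Twist.twist 𝒜 (m + n))) ∧
      ∀ n : ℕ, Nonempty (Twist.twist 𝒜 (n : ℤ) ≅ CohB1.tensorPow (Twist.twist 𝒜 1) n) := by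
  have hpt : ∀ x : Proj 𝒜, ∃ f : 𝒜 1, x ∈ Proj.basicOpen 𝒜 (f : A) := by
    intro x
    have h1 : x ∈ (⨆ f : 𝒜 1, Proj.basicOpen 𝒜 (f : A)) := by rw [hcov]; trivial
    exact TopologicalSpace.Opens.mem_iSup.mp h1
  have hgen : ∀ (k : ℤ) (x : Proj 𝒜), ∃ U : (Proj 𝒜).Opens, x ∈ U ∧
      ∃ (i j : ℕ) (g : 𝒜 i) (h : 𝒜 j), (i : ℤ) = j + k ∧
        ∀ y ∈ U, g.1 ∉ y.asHomogeneousIdeal ∧ h.1 ∉ y.asHomogeneousIdeal := by
    intro k x
    obtain ⟨f, hf⟩ := hpt x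
    obtain ⟨i, j, g, h, hij, hgh⟩ := Groth.Agent.Lib.Helper60.TwistLib.exists_gens_pow 𝒜 f k
    refine ⟨Proj.basicOpen 𝒜 f.1, hf, i, j, g, h, by simpa using hij, fun y hy =>
      hgh y ((Proj.mem_basicOpen 𝒜 f.1 y).mp hy)⟩
  have hinv : ∀ n : ℤ, PicF.IsInvertible (Twist.twist 𝒜 n) := by
    intro n x
    obtain ⟨U, hxU, i, j, g, h, hij, hU⟩ := hgen n x
    exact ⟨U, hxU, Groth.Agent.Lib.Helper60.TwistLib.twist_restrict_iso 𝒜 U.ι n g h hij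
      (fun y => (hU _ y.2).1) (fun y => (hU _ y.2).2)⟩
  have htens : ∀ m n : ℤ, Nonempty (CohB1.tensorMod (Twist.twist 𝒜 m) (Twist.twist 𝒜 n) ≅
      Twist.twist 𝒜 (m + n)) := by
    intro m n
    refine Groth.Agent.Lib.Helper60.TwistLib.twist_tensor_iso 𝒜 m n (fun x => ?_)
    obtain ⟨f, hf⟩ := hpt x
    obtain ⟨i₁, j₁, g₁, h₁, e₁, H₁⟩ := Groth.Agent.Lib.Helper60.TwistLib.exists_gens_pow 𝒜 f m
    obtain ⟨i₂, j₂, g₂, h₂, e₂, H₂⟩ := Groth.Agent.Lib.Helper60.TwistLib.exists_gens_pow 𝒜 f n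
    refine ⟨Proj.basicOpen 𝒜 f.1, hf, i₁, j₁, i₂, j₂, g₁, h₁, g₂, h₂, by simpa using e₁,
      by simpa using e₂, fun y hy => ?_⟩
    have hy' := (Proj.mem_basicOpen 𝒜 f.1 y).mp hy
    exact ⟨(H₁ y hy').1, (H₁ y hy').2, (H₂ y hy').1, (H₂ y hy').2⟩
  refine ⟨hinv, htens, ?_⟩
  intro n
  induction n with
  | zero =>
    have hiso : IsIso (Groth.Agent.Lib.Helper60.TwistLib.numHom 𝒜
        (⟨1, SetLike.GradedOne.one_mem⟩ : 𝒜 0)) := by
      apply Groth.Agent.Lib.Helper60.TensorLib.isIso_of_app_bijective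
      intro W
      apply Groth.Agent.Lib.Helper60.TwistLib.numHom_app_bijective
      intro y _
      exact (Proj.mem_basicOpen 𝒜 (1 : A) y).mpr
        (Groth.Agent.Lib.Helper60.TwistLib.one_notMem 𝒜 y)
    exact ⟨(asIso (Groth.Agent.Lib.Helper60.TwistLib.numHom 𝒜
      (⟨1, SetLike.GradedOne.one_mem⟩ : 𝒜 0))).symm⟩
  | succ n ih =>
    obtain ⟨e⟩ := ih
    obtain ⟨t⟩ := htens (n : ℤ) 1
    have hc : ((n + 1 : ℕ) : ℤ) = (n : ℤ) + 1 := by push_cast; ring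
    exact ⟨eqToIso (by rw [hc]) ≪≫ t.symm ≪≫
      Groth.Agent.Lib.Helper60.TensorLib.tensorModCongrLeft e _⟩

end Groth.Agent.S12453
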