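import Groth.Statements.S12456
import Groth.Agent.Lib.Helper57.FOThick

set_option autoImplicit false
universe u
open CategoryTheory AlgebraicGeometry
open OmegaSh

namespace Groth.Agent.S12456

/-- Let i : Z → X be an immersion, written as the closed subscheme of an open U ⊆ X cut out by an ideal
sheaf I followed by the inclusion of U. Then the first order infinitesimal neighbourhood of Z in X —
the closed subscheme of U cut out by I² — together with Z ⊂ V(I²) and V(I²) → U → X is a universal
first order thickening of Z over X. (The inequality I² ≤ I is carried as an argument h; it always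
holds.) -/
theorem result {X : Scheme.{u}} (U : X.Opens) (I : (U : Scheme.{u}).IdealSheafData)
    (h : I ^ 2 ≤ I) :
    OmegaSh.IsUnivThickening (I.subschemeι ≫ U.ι) (Scheme.IdealSheafData.inclusion h)
      ((I ^ 2).subschemeι ≫ U.ι) := by
  have hinc : Scheme.IdealSheafData.inclusion h ≫ (I ^ 2).subschemeι = I.subschemeι :=
    Scheme.IdealSheafData.inclusion_subschemeι h
  have hfot : MoreMor.IsFirstOrderThickening (Scheme.IdealSheafData.inclusion h) := by
    have hcl : IsClosedImmersion (Scheme.IdealSheafData.inclusion h ≫ (I ^ 2).subschemeι) := by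
      rw [hinc]; infer_instance
    have hl : IsClosedImmersion (Scheme.IdealSheafData.inclusion h) :=
      IsClosedImmersion.of_comp_isClosedImmersion _ (I ^ 2).subschemeι
    refine ⟨⟨hl, ?_⟩, ?_⟩
    · constructor
      intro p
      have hp : (I ^ 2).subschemeι p ∈ Set.range I.subschemeι := by
        rw [Scheme.IdealSheafData.range_subschemeι, ← Scheme.IdealSheafData.support_pow I 2 two_ne_zero,
          ← Scheme.IdealSheafData.range_subschemeι]
        exact ⟨p, rfl⟩
      obtain ⟨z, hz⟩ := hp
      refine ⟨z, (I ^ 2).subschemeι.isClosedEmbedding.injective ?_⟩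
      rw [← hz, ← hinc]
      rfl
    · apply Groth.Agent.Lib.Helper57.FOThick.ker_mul_ker_eq_bot_of_comp _ (I ^ 2).subschemeι
      rw [hinc, Scheme.IdealSheafData.ker_subschemeι, Scheme.IdealSheafData.ker_subschemeι, pow_two]
  refine ⟨hfot, by rw [← Category.assoc, hinc], ?_⟩
  intro T T' jT b a hjT hab
  have hsurj : Function.Surjective jT := hjT.1.2.surj
  have hrange : Set.range b ⊆ Set.range U.ι := by
    rintro _ ⟨t', rfl⟩
    obtain ⟨t, rfl⟩ := hsurj t'
    have h2 : b (jT t) = U.ι (I.subschemeι (a t)) := by
      have := congrArg (fun g : T ⟶ X => g t) hab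
      simpa using this
    rw [h2]
    exact ⟨_, rfl⟩
  have hb₀ : IsOpenImmersion.lift U.ι b hrange ≫ U.ι = b := IsOpenImmersion.lift_fac _ _ _
  have w : a ≫ I.subschemeι = jT ≫ IsOpenImmersion.lift U.ι b hrange := by
    rw [← cancel_mono U.ι, Category.assoc, Category.assoc, hb₀, hab]
  obtain ⟨a', ha', ha'u⟩ := Groth.Agent.Lib.Helper57.FOThick.existsUnique_lift_sq I jT hjT a
    (IsOpenImmersion.lift U.ι b hrange) w
  refine ⟨a', ⟨?_, by rw [← Category.assoc, ha', hb₀]⟩, ?_⟩
  · rw [← cancel_mono (I ^ 2).subschemeι, Category.assoc, ha', Category.assoc, hinc, w]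
  · rintro a₂ ⟨-, ha₂⟩
    apply ha'u
    rw [← cancel_mono U.ι, Category.assoc, ha₂, hb₀]

end Groth.Agent.S12456
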