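import Groth.Statements.S12460
import Mathlib.AlgebraicGeometry.Properties
import Mathlib.AlgebraicGeometry.Stalk
import Mathlib.AlgebraicGeometry.Morphisms.FiniteType

set_option autoImplicit false
universe u
open CategoryTheory AlgebraicGeometry
open Props

namespace Groth.Agent.S12460

theorem preimage_regular_eq_regLocus {Y : Scheme.{u}} {W : Y.Opens} (hW : IsAffineOpen W) :
    hW.fromSpec ⁻¹' {y | IsRegularLocalRing (Y.presheaf.stalk y)} = EGA4.regLocus Γ(Y, W) := by
  ext p
  have hp : hW.fromSpec p ∈ W :=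
    (Set.ext_iff.1 (IsAffineOpen.range_fromSpec (U := W) hW) _).1 (Set.mem_range_self p)
  let alg : Algebra Γ(Y, W) (Y.presheaf.stalk (hW.fromSpec p)) :=
    TopCat.Presheaf.algebra_section_stalk Y.presheaf ⟨hW.fromSpec p, hp⟩
  have hloc := hW.isLocalization_stalk' p hp
  have hloc' : IsLocalization p.asIdeal.primeCompl (Y.presheaf.stalk (hW.fromSpec p)) := hloc
  let e := IsLocalization.algEquiv p.asIdeal.primeCompl (Y.presheaf.stalk (hW.fromSpec p))
    (Localization.AtPrime p.asIdeal)
  constructor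
  · intro h
    have h' : IsRegularLocalRing (Y.presheaf.stalk (hW.fromSpec p)) := h
    exact IsRegularLocalRing.of_ringEquiv e.toRingEquiv
  · intro h
    have h' : IsRegularLocalRing (Localization.AtPrime p.asIdeal) := h
    show IsRegularLocalRing (Y.presheaf.stalk (hW.fromSpec p))
    exact IsRegularLocalRing.of_ringEquiv e.symm.toRingEquiv

theorem regular_Spec_eq_regLocus (B : Type u) [CommRing B] :
    {y : Spec (CommRingCat.of B) | IsRegularLocalRing ((Spec (CommRingCat.of B)).presheaf.stalk y)} =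
      EGA4.regLocus B := by
  ext p
  letI k : Algebra B ((Spec (CommRingCat.of B)).presheaf.stalk p) :=
    StructureSheaf.stalkAlgebra B p
  haveI : IsLocalization.AtPrime ((Spec (CommRingCat.of B)).presheaf.stalk p) p.asIdeal :=
    StructureSheaf.IsLocalization.to_stalk B p
  let e := IsLocalization.algEquiv p.asIdeal.primeCompl
    ((Spec (CommRingCat.of B)).presheaf.stalk p) (Localization.AtPrime p.asIdeal)
  constructor
  · intro h
    have h' : IsRegularLocalRing ((Spec (CommRingCat.of B)).presheaf.stalk p) := h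
    exact IsRegularLocalRing.of_ringEquiv e.toRingEquiv
  · intro h
    have h' : IsRegularLocalRing (Localization.AtPrime p.asIdeal) := h
    show IsRegularLocalRing ((Spec (CommRingCat.of B)).presheaf.stalk p)
    exact IsRegularLocalRing.of_ringEquiv e.symm.toRingEquiv

/-- (1) ⇔ (3) ⇔ (4): let X be a locally Noetherian scheme. Then X is J-2 — for every morphism Y → X
locally of finite type the set of points y with O_{Y,y} a regular local ring is open in Y — if and
only if for every affine open U of X the ring Γ(X, U) is J-2 (every finite type algebra over it has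
open regular locus), if and only if every point of X lies in such an affine open. (Schemes Y over X
are taken in the universe of X.) -/
theorem result (X : Scheme.{u}) [IsLocallyNoetherian X] :
    ((∀ (Y : Scheme.{u}) (g : Y ⟶ X), LocallyOfFiniteType g →
        IsOpen {y : Y | IsRegularLocalRing (Y.presheaf.stalk y)}) ↔
      ∀ U : X.affineOpens, EGA4.IsJ2 Γ(X, U)) ∧
    ((∀ (Y : Scheme.{u}) (g : Y ⟶ X), LocallyOfFiniteType g →
        IsOpen {y : Y | IsRegularLocalRing (Y.presheaf.stalk y)}) ↔
      ∀ x : X, ∃ U : X.affineOpens, x ∈ (U : X.Opens) ∧ EGA4.IsJ2 Γ(X, U)) := by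
  have hA : (∀ (Y : Scheme.{u}) (g : Y ⟶ X), LocallyOfFiniteType g →
        IsOpen {y : Y | IsRegularLocalRing (Y.presheaf.stalk y)}) →
      ∀ U : X.affineOpens, EGA4.IsJ2 Γ(X, U) := by
    intro h U B _ _ hB
    let g : Spec (CommRingCat.of B) ⟶ X :=
      Spec.map (CommRingCat.ofHom (algebraMap Γ(X, U) B)) ≫ U.2.fromSpec
    have hg1 : LocallyOfFiniteType (Spec.map (CommRingCat.ofHom (algebraMap Γ(X, U) B))) := by
      rw [HasRingHomProperty.Spec_iff (P := @LocallyOfFiniteType)]
      exact RingHom.finiteType_algebraMap.2 hB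
    have hg : LocallyOfFiniteType g := inferInstance
    have := h _ g hg
    rw [regular_Spec_eq_regLocus] at this
    exact this
  have hB : (∀ U : X.affineOpens, EGA4.IsJ2 Γ(X, U)) →
      ∀ x : X, ∃ U : X.affineOpens, x ∈ (U : X.Opens) ∧ EGA4.IsJ2 Γ(X, U) := by
    intro h x
    obtain ⟨V, hV, hxV, -⟩ := exists_isAffineOpen_mem_and_subset (X := X) (x := x) (U := ⊤) trivial
    exact ⟨⟨V, hV⟩, hxV, h ⟨V, hV⟩⟩
  have hC : (∀ x : X, ∃ U : X.affineOpens, x ∈ (U : X.Opens) ∧ EGA4.IsJ2 Γ(X, U)) →
      ∀ (Y : Scheme.{u}) (g : Y ⟶ X), LocallyOfFiniteType g →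
        IsOpen {y : Y | IsRegularLocalRing (Y.presheaf.stalk y)} := by
    intro h Y g hg
    rw [isOpen_iff_forall_mem_open]
    intro y hy
    obtain ⟨U, hxU, hU⟩ := h (g y)
    obtain ⟨W, hW, hyW, hWU⟩ :=
      exists_isAffineOpen_mem_and_subset (X := Y) (x := y) (U := g ⁻¹ᵁ (U : X.Opens)) hxU
    have hft : (g.appLE U W hWU).hom.FiniteType := g.finiteType_appLE U.2 hW hWU
    letI := (g.appLE U W hWU).hom.toAlgebra
    have hopen : IsOpen (EGA4.regLocus Γ(Y, W)) := hU Γ(Y, W) hft
    rw [← preimage_regular_eq_regLocus hW] at hopen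
    have himg := hW.fromSpec.isOpenEmbedding.isOpenMap _ hopen
    rw [Set.image_preimage_eq_inter_range] at himg
    refine ⟨_, Set.inter_subset_left, himg, hy, ?_⟩
    exact (Set.ext_iff.1 (IsAffineOpen.range_fromSpec (U := W) hW) y).2 hyW
  exact ⟨⟨hA, fun h => hC (hB h)⟩, ⟨fun h => hB (hA h), hC⟩⟩

end Groth.Agent.S12460
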