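import Groth.Statements.S12461
import Groth.Agent.Lib.Helper21.ClImmShriek

set_option autoImplicit false
universe u
open CategoryTheory AlgebraicGeometry
open QCohSub

namespace Groth.Agent.S12461

/-- Let i : Z → X be a closed immersion of schemes. The functor i_* : QCoh(O_Z) → QCoh(O_X) has a right
adjoint i^! : QCoh(O_X) → QCoh(O_Z). Stated as: there is a functor L between the full subcategories
of quasi-coherent modules which agrees with i_* after the inclusion into all O_X-modules (this
determines L up to isomorphism, the inclusion being fully faithful) and which is a left adjoint. -/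
theorem result {Z X : Scheme.{u}} (i : Z ⟶ X) [IsClosedImmersion i] :
    ∃ L : QCohCat.QCoh Z ⥤ QCohCat.QCoh X,
      Nonempty (L ⋙ (QCohCat.isQCoh X).ι ≅ (QCohCat.isQCoh Z).ι ⋙ Coh.push i) ∧ L.IsLeftAdjoint := by
  let L : QCohCat.QCoh Z ⥤ QCohCat.QCoh X :=
    ObjectProperty.lift (QCohCat.isQCoh X) ((QCohCat.isQCoh Z).ι ⋙ Coh.push i)
      (fun G => by
        haveI : G.obj.IsQuasicoherent := G.property
        exact Groth.Agent.Lib.Helper2.KerSec.isQuasicoherent_pushforward_of_qcqs i G.obj)
  refine ⟨L, ⟨ObjectProperty.liftCompιIso _ _ _⟩, ?_⟩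
  have hex : ∀ F : QCohCat.QCoh X, ∃ (Q : Z.Modules) (_ : Q.IsQuasicoherent)
      (c : (Scheme.Modules.pushforward i).obj Q ⟶ F.obj),
      ∀ (G : Z.Modules), G.IsQuasicoherent →
        Function.Bijective (fun ψ : G ⟶ Q => (Scheme.Modules.pushforward i).map ψ ≫ c) := fun F => by
    haveI : F.obj.IsQuasicoherent := F.property
    exact Groth.Agent.Lib.Helper21.ClImmShriek.exists_coreflection i F.obj
  choose Q hQ c hc using hex
  let Robj : QCohCat.QCoh X → QCohCat.QCoh Z := fun F => ⟨Q F, hQ F⟩
  let Ψ : ∀ (G : QCohCat.QCoh Z) (F : QCohCat.QCoh X), (G ⟶ Robj F) → (L.obj G ⟶ F) :=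
    fun G F ψ => ObjectProperty.homMk ((Scheme.Modules.pushforward i).map ψ.hom ≫ c F)
  have hΨ : ∀ G F, Function.Bijective (Ψ G F) := by
    intro G F
    constructor
    · intro ψ₁ ψ₂ h
      apply ObjectProperty.hom_ext
      apply (hc F G.obj G.property).1
      exact congrArg (fun f => f.hom) h
    · intro θ
      obtain ⟨ψ, hψ⟩ := (hc F G.obj G.property).2 θ.hom
      exact ⟨ObjectProperty.homMk ψ, ObjectProperty.hom_ext _ hψ⟩
  let e : ∀ G F, (L.obj G ⟶ F) ≃ (G ⟶ Robj F) :=
    fun G F => (Equiv.ofBijective (Ψ G F) (hΨ G F)).symm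
  have he : ∀ (G' G : QCohCat.QCoh Z) (F : QCohCat.QCoh X) (f : G' ⟶ G) (g : L.obj G ⟶ F),
      e G' F (L.map f ≫ g) = f ≫ e G F g := by
    intro G' G F f g
    apply (Equiv.ofBijective (Ψ G' F) (hΨ G' F)).injective
    rw [Equiv.apply_symm_apply]
    have h1 : Ψ G F (e G F g) = g := (Equiv.ofBijective (Ψ G F) (hΨ G F)).apply_symm_apply g
    apply ObjectProperty.hom_ext
    have h2 : (Ψ G' F (f ≫ e G F g)).hom =
        (Scheme.Modules.pushforward i).map f.hom ≫ (Ψ G F (e G F g)).hom := by
      change (Scheme.Modules.pushforward i).map (f ≫ e G F g).hom ≫ c F =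
        (Scheme.Modules.pushforward i).map f.hom ≫
          ((Scheme.Modules.pushforward i).map (e G F g).hom ≫ c F)
      rw [ObjectProperty.FullSubcategory.comp_hom, Functor.map_comp, Category.assoc]
    change (L.map f ≫ g).hom = (Ψ G' F (f ≫ e G F g)).hom
    rw [h2, h1]
    rfl
  exact (Adjunction.adjunctionOfEquivRight e he).isLeftAdjoint

end Groth.Agent.S12461
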