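import Groth.Statements.S12463
import Groth.Agent.Lib.Helper56.Wedge2

set_option autoImplicit false
universe u
open Variety

namespace Groth.Agent.S12463

/-- Let (A, m) be a strictly henselian reduced Nagata local ring of dimension one with δ-invariant equal
to the number of geometric branches minus one, and A' the integral closure of A in its total ring of
fractions. Then A is a wedge of discrete valuation rings: for every maximal ideal m' of A' the
localization A'_{m'} is a discrete valuation ring whose residue field is the image of A, and A
consists exactly of the elements of A' congruent to an element of A modulo every maximal ideal of A'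
(the displayed inclusion; the reverse inclusion is trivial). (The inequality δ ≥ branches − 1 of the
published statement holds for every reduced Nagata local ring of dimension one and is not restated.) -/
theorem result (A : Type u) [CommRing A] [HenselianLocalRing A]
    [IsSepClosed (IsLocalRing.ResidueField A)] [IsReduced A] (hN : CAlg.IsNagata A) (hdim : ringKrullDim A = 1)
    (heq : Curv2.deltaInv A + 1 = Brnch.numGeomBranches A) :
    (∀ m' : MaximalSpectrum ↥(integralClosure A (FractionRing A)),
        (∃ _ : IsDomain (Localization.AtPrime m'.asIdeal), IsDiscreteValuationRing (Localization.AtPrime m'.asIdeal)) ∧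
        Function.Surjective (⇑(IsLocalRing.residue (Localization.AtPrime m'.asIdeal)) ∘
          ⇑(algebraMap ↥(integralClosure A (FractionRing A)) (Localization.AtPrime m'.asIdeal)) ∘
          ⇑(algebraMap A ↥(integralClosure A (FractionRing A))))) ∧
    ∀ a' : ↥(integralClosure A (FractionRing A)),
      (∃ a : A, ∀ m' : MaximalSpectrum ↥(integralClosure A (FractionRing A)),
          a' - algebraMap A _ a ∈ m'.asIdeal) →
      a' ∈ (algebraMap A ↥(integralClosure A (FractionRing A))).range := by
  haveI : IsNoetherianRing A := hN.1
  haveI hfin : Module.Finite A (integralClosure A (FractionRing A)) :=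
    Groth.Agent.Lib.Helper56.DeltaMain.finite_integralClosure A hN
  have h : Module.length A (↥(integralClosure A (FractionRing A)) ⧸
      LinearMap.range (Algebra.linearMap A ↥(integralClosure A (FractionRing A)))) + 1 ≤
      ENat.card {τ : integralClosure A (FractionRing A) →+*
          AlgebraicClosure (IsLocalRing.ResidueField A) //
        τ.comp (algebraMap A (integralClosure A (FractionRing A))) = Brnch.toClosure A} := by
    have h0 := Groth.Agent.Lib.Helper56.Wedge.numGeomBranches_le_card A hN hdim
    rw [← heq] at h0
    exact h0
  refine ⟨fun m' => ⟨?_, ?_⟩, ?_⟩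
  · haveI := m'.isMaximal
    exact Groth.Agent.Lib.Helper52.NormCountB.isDVR_localization A hdim m'.asIdeal
  · intro y
    haveI := m'.isMaximal
    obtain ⟨z, rfl⟩ := (IsLocalization.AtPrime.equivQuotMaximalIdeal m'.asIdeal
      (Localization.AtPrime m'.asIdeal)).surjective y
    obtain ⟨r, rfl⟩ := Ideal.Quotient.mk_surjective z
    obtain ⟨τ, hτ⟩ := Groth.Agent.Lib.Helper56.Wedge.exists_hom_ker A
      (integralClosure A (FractionRing A)) m'.asIdeal
    obtain ⟨a, ha⟩ := Groth.Agent.Lib.Helper56.Wedge.exists_eq A
      (integralClosure A (FractionRing A)) h τ r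
    refine ⟨a, ?_⟩
    have hmem : r - algebraMap A _ a ∈ m'.asIdeal := by
      rw [← hτ, RingHom.mem_ker, map_sub, ha, sub_self]
    rw [IsLocalization.AtPrime.equivQuotMaximalIdeal_apply_mk]
    symm
    apply Ideal.Quotient.eq.mpr
    have key := (IsLocalization.AtPrime.to_map_mem_maximal_iff (Localization.AtPrime m'.asIdeal)
      m'.asIdeal (r - algebraMap A _ a)).mpr hmem
    rw [map_sub] at key
    exact key
  · rintro a' ⟨a, ha⟩
    have h1 : a' - algebraMap A _ a ∈
        LinearMap.range (Algebra.linearMap A ↥(integralClosure A (FractionRing A))) := by
      apply Groth.Agent.Lib.Helper56.Wedge.mem_range_of_forall A _ h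
      intro τ
      have hmax := Groth.Agent.Lib.Helper56.Wedge.ker_isMaximal A _ τ
      exact ha ⟨RingHom.ker τ.1, hmax⟩
    obtain ⟨b, hb⟩ := h1
    refine ⟨b + a, ?_⟩
    rw [map_add]
    have hb' : algebraMap A ↥(integralClosure A (FractionRing A)) b = a' - algebraMap A _ a := hb
    rw [hb', sub_add_cancel]

end Groth.Agent.S12463
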