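import Groth.Statements.S12465
import Groth.Agent.Lib.Helper64.OverBC

set_option autoImplicit false
universe u
open CategoryTheory AlgebraicGeometry
open BigSite

namespace Groth.Agent.S12465


/-- On the big étale sites, for a cartesian square g' : T' → T, f' : T' → S', f : T → S, g : S' → S of
schemes, i_g⁻¹ ∘ f_big,* ≅ f'_small,* ∘ i_{g'}⁻¹ as functors from abelian sheaves on (Sch/T)_ét to
abelian sheaves on the small étale site of S'. (Existence of a natural isomorphism; both sides send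
F to U' ↦ F(U' ×_{S'} T'). The binder BCCont f' holds for every morphism.) -/
theorem result {S T S' T' : Scheme.{u}} (f : T ⟶ S) (g : S' ⟶ S) (g' : T' ⟶ T)
    (f' : T' ⟶ S') (hsq : IsPullback g' f' f g) [EtCoh.BCCont f'] :
    Nonempty (BigSite.pushBig Scheme.etalePrecoverage f AddCommGrpCat.{u + 1} ⋙
        BigSite.resEtAlong Scheme.etalePrecoverage g ≅
      BigSite.resEtAlong Scheme.etalePrecoverage g' ⋙ EtCoh.push f') := by
  let K := Scheme.etalePrecoverage.{u}
  let ΦL : S'.Etale ⥤ Over T := EtFppf.a S' ⋙ Over.map g ⋙ Over.pullback f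
  let ΦR : S'.Etale ⥤ Over T := EtCoh.bc f' ⋙ EtFppf.a T' ⋙ Over.map g'
  let e2 : EtCoh.bc f' ⋙ EtFppf.a T' ≅ EtFppf.a S' ⋙ Over.pullback f' :=
    MorphismProperty.Over.pullbackCompForgetIso (P := EtCoh.etaleMP) (Q := ⊤) f'
  let e : ΦL ≅ ΦR :=
    (Functor.isoWhiskerLeft (EtFppf.a S') (Groth.Agent.Lib.Helper64.OverBC.overBC hsq).symm) ≪≫
      (Functor.associator _ _ _).symm ≪≫ Functor.isoWhiskerRight e2.symm (Over.map g') ≪≫
      Functor.associator _ _ _
  have h1 : (Over.map g ⋙ Over.pullback f).IsContinuous (QuotSh.J K S') (QuotSh.J K T) :=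
    Functor.isContinuous_comp (Over.map g) (Over.pullback f) (QuotSh.J K S') (QuotSh.J K S)
      (QuotSh.J K T)
  have hL : ΦL.IsContinuous S'.smallEtaleTopology (QuotSh.J K T) :=
    Functor.isContinuous_comp (EtFppf.a S') (Over.map g ⋙ Over.pullback f) S'.smallEtaleTopology
      (QuotSh.J K S') (QuotSh.J K T)
  have h2 : (EtFppf.a T' ⋙ Over.map g').IsContinuous T'.smallEtaleTopology (QuotSh.J K T) :=
    Functor.isContinuous_comp (EtFppf.a T') (Over.map g') T'.smallEtaleTopology (QuotSh.J K T')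
      (QuotSh.J K T)
  have hR : ΦR.IsContinuous S'.smallEtaleTopology (QuotSh.J K T) :=
    Functor.isContinuous_comp (EtCoh.bc f') (EtFppf.a T' ⋙ Over.map g') S'.smallEtaleTopology
      T'.smallEtaleTopology (QuotSh.J K T)
  have I1 : BigSite.pushBig K f AddCommGrpCat.{u + 1} ⋙ BigSite.resEtAlong K g ≅
      ΦL.sheafPushforwardContinuous AddCommGrpCat.{u + 1} S'.smallEtaleTopology (QuotSh.J K T) :=
    Iso.refl _
  have I2 : BigSite.resEtAlong K g' ⋙ EtCoh.push f' ≅
      ΦR.sheafPushforwardContinuous AddCommGrpCat.{u + 1} S'.smallEtaleTopology (QuotSh.J K T) :=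
    Iso.refl _
  exact ⟨I1 ≪≫ Functor.sheafPushforwardContinuousIso e _ _ _ ≪≫ I2.symm⟩

end Groth.Agent.S12465
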