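import Groth.Statements.S12472
import Groth.Agent.Lib.Helper35.GS2
import Groth.Agent.Lib.Helper35.GS3
import Groth.Agent.Lib.Lead.Inv5
import Groth.Agent.S8258
import Groth.Agent.S8284

set_option autoImplicit false
universe u
open CategoryTheory CategoryTheory.Limits AlgebraicGeometry TopologicalSpace Opposite
open scoped HomogeneousIdeal
open EGA2

namespace Groth.Agent.S12472

/-- Let Y be a scheme and L an invertible O_Y-module. Then L is very ample relative to the identity
morphism of Y: there are a quasi-coherent O_Y-module E and a Y-immersion i of Y into the projective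
bundle P(E) with L isomorphic to i^*O_{P(E)}(1). -/
theorem result (Y : Scheme.{u}) (L : Y.Modules) (hL : PicF.IsInvertible L) :
    RelProj.IsRelVeryAmple (𝟙 Y) L := by
  haveI : L.IsQuasicoherent := Groth.Agent.Lib.Lead.Inv.isQuasicoherent_of_isInvertible hL
  obtain ⟨𝒮, j, hj⟩ := Groth.Agent.Lib.Helper35.GS.exists_isGrSymAlg L
  obtain ⟨P, p, chart, hP⟩ := Groth.Agent.S8258.result 𝒮
  obtain ⟨O1, lam, hO⟩ := Groth.Agent.S8284.result 𝒮 p chart hP 1
  obtain ⟨hiso, ⟨e⟩⟩ := Groth.Agent.Lib.Helper35.GS.nonempty_iso_pullback_inv 𝒮 j hP hO hL hj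
  exact ⟨L, ‹L.IsQuasicoherent›, 𝒮, j, hj, P, p, chart, hP, O1, lam, hO, inv p, inferInstance,
    IsIso.inv_hom_id p, ⟨e⟩⟩

end Groth.Agent.S12472
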