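import Groth.Statements.S12476
import Groth.Agent.Lib.Helper74.VABC

set_option autoImplicit false
universe u
open CategoryTheory CategoryTheory.Limits AlgebraicGeometry TopologicalSpace Opposite
open scoped HomogeneousIdeal
open EGA2

namespace Groth.Agent.S12476

/-- Let f : X → Y and g : Y → Z be morphisms of schemes and L an invertible O_X-module which is very
ample relative to the composite X → Y → Z (isomorphic to the inverse image of O(1) along a
Z-immersion of X into the projective bundle of a quasi-coherent O_Z-module). Then L is very ample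
relative to f. -/
theorem result {X Y Z : Scheme.{u}} (f : X ⟶ Y) (g : Y ⟶ Z) (L : X.Modules)
    (hL : PicF.IsInvertible L) (hva : RelProj.IsRelVeryAmple (f ≫ g) L) : RelProj.IsRelVeryAmple f L := by
  obtain ⟨E, hE, 𝒮, j, hj, P, p, chart, hP, O1, lam, hO1, i, hi, hip, ⟨eL⟩⟩ := hva
  obtain ⟨hE', 𝒮', j', hj', P', p', chart', hP', O1', lam', hO1', h, hpb, ⟨eO⟩⟩ :=
    Groth.Agent.Lib.Helper74.VABC.exists_bundle_bc g E hE 𝒮 j hj p chart hP O1 lam hO1
  let i' : X ⟶ P' := hpb.lift i f hip
  have hi'h : i' ≫ h = i := hpb.lift_fst i f hip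
  have hi'p : i' ≫ p' = f := hpb.lift_snd i f hip
  have himm : IsImmersion i' := by
    have : IsImmersion (i' ≫ h) := by rw [hi'h]; exact hi
    exact IsImmersion.of_comp i' h
  refine ⟨_, hE', 𝒮', j', hj', P', p', chart', hP', O1', lam', hO1', i', himm, hi'p, ⟨?_⟩⟩
  exact eL ≪≫ ((Scheme.Modules.pullbackCongr hi'h.symm).app O1) ≪≫
    ((Scheme.Modules.pullbackComp i' h).symm.app O1) ≪≫
    (Scheme.Modules.pullback i').mapIso eO

end Groth.Agent.S12476
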