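import Groth.Statements.S12477
import Groth.Agent.Lib.Helper35.SymMap3
import Groth.Agent.Lib.Helper35.CoprodGlue
import Groth.Agent.Lib.Helper35.CoprodCI
import Groth.Agent.Lib.Helper35.PBiprod
import Groth.Agent.Lib.Helper35.RVA2
import Groth.Agent.Lib.Helper2.KerSec
import Groth.Agent.S8258
import Groth.Agent.S8284

set_option autoImplicit false
universe u
open CategoryTheory CategoryTheory.Limits AlgebraicGeometry TopologicalSpace Opposite
open scoped HomogeneousIdeal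
open EGA2

namespace Groth.Agent.S12477

/-- Let X and X' be schemes with disjoint union X ⨿ X', let f'' : X ⨿ X' → Y be a morphism (given by a
morphism f on X and a morphism f' on X') and L'' an invertible module on X ⨿ X' (given by an
invertible O_X-module L and an invertible O_{X'}-module L'). Then L'' is very ample relative to f''
(isomorphic to the inverse image of O(1) along a Y-immersion of X into the projective bundle P(E) of
a quasi-coherent O_Y-module E) if and only if L, the inverse image of L'' on X, is very ample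
relative to f and L', the inverse image of L'' on X', is very ample relative to f'. -/
theorem result {X X' Y : Scheme.{u}} (f'' : X ⨿ X' ⟶ Y) (L'' : (X ⨿ X').Modules)
    (hL'' : PicF.IsInvertible L'') :
    RelProj.IsRelVeryAmple f'' L'' ↔
      RelProj.IsRelVeryAmple (coprod.inl ≫ f'') ((Scheme.Modules.pullback (coprod.inl : X ⟶ X ⨿ X')).obj L'') ∧
        RelProj.IsRelVeryAmple (coprod.inr ≫ f'') ((Scheme.Modules.pullback (coprod.inr : X' ⟶ X ⨿ X')).obj L'') := by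
  constructor
  · rintro ⟨E, hE, 𝒮, j, hj, P, p, chart, hP, O1, lam, hO, i, himm, hcomp, ⟨e⟩⟩
    haveI := himm
    exact ⟨⟨E, hE, 𝒮, j, hj, P, p, chart, hP, O1, lam, hO, coprod.inl ≫ i, inferInstance,
        by rw [Category.assoc, hcomp],
        ⟨(Scheme.Modules.pullback coprod.inl).mapIso e ≪≫
          (Scheme.Modules.pullbackComp coprod.inl i).app O1⟩⟩,
      ⟨E, hE, 𝒮, j, hj, P, p, chart, hP, O1, lam, hO, coprod.inr ≫ i, inferInstance,
        by rw [Category.assoc, hcomp],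
        ⟨(Scheme.Modules.pullback coprod.inr).mapIso e ≪≫
          (Scheme.Modules.pullbackComp coprod.inr i).app O1⟩⟩⟩
  · rintro ⟨⟨E₁, hE₁, 𝒮₁, j₁, hj₁, P₁, p₁, chart₁, hP₁, O₁, lam₁, hO₁, i₁, himm₁, hcomp₁, ⟨e₁⟩⟩,
      ⟨E₂, hE₂, 𝒮₂, j₂, hj₂, P₂, p₂, chart₂, hP₂, O₂, lam₂, hO₂, i₂, himm₂, hcomp₂, ⟨e₂⟩⟩⟩
    haveI : E₁.IsQuasicoherent := hE₁
    haveI : E₂.IsQuasicoherent := hE₂
    haveI hqc : (E₁ ⊞ E₂).IsQuasicoherent :=
      Groth.Agent.Lib.Helper2.KerSec.isQuasicoherent_biprod E₁ E₂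
    have hA := Groth.Agent.Lib.Helper74.SymQ.isSymAlg_symAlg (E₁ ⊞ E₂)
    have hjE := Groth.Agent.Lib.Helper35.GS.isGrSymAlg_grSym _ _ hA
    have hgen := Groth.Agent.Lib.Helper35.RVA.isGenDegOne_of_isGrSymAlg hqc hjE
    obtain ⟨P, p, chart, hP⟩ := Groth.Agent.S8258.result
      (Groth.Agent.Lib.Helper35.GS.grSym _ _ hA)
    obtain ⟨O1, lam, hO⟩ := Groth.Agent.S8284.result _ p chart hP 1
    -- first projection
    obtain ⟨θ₁, hθ₁, -⟩ := hA 𝒮₁.toQCAlg (biprod.fst ≫ j₁)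
    have hm₁ : ∀ (U : Y.Opens) (hU : IsAffineOpen U) (x : Γ(E₁ ⊞ E₂, U)),
        ((biprod.fst ≫ j₁).app U).hom x ∈ 𝒮₁.deg U hU 1 := fun U hU x => hj₁.2 U hU _
    have hgr₁ := Groth.Agent.Lib.Helper35.SymMap.isGradedHom hA _ hm₁ θ₁ hθ₁
    have hs₁ : ∀ (U : Y.Opens) (hU : IsAffineOpen U),
        Function.Surjective (θ₁.hom.app (Opposite.op U)).hom := fun U hU =>
      Groth.Agent.Lib.Helper35.PBiprod.surjective_of_split j₁ hj₁.1
        (Groth.Agent.Lib.Helper74.SymQ.symJ (E₁ ⊞ E₂)) θ₁ biprod.fst biprod.inl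
        biprod.inl_fst hθ₁ U hU
    have hpos₁ : ∀ (U : Y.Opens) (hU : IsAffineOpen U) (n : ℕ), 0 < n → ∀ b ∈ 𝒮₁.deg U hU n,
        ∃ a ∈ (Groth.Agent.Lib.Helper35.GS.grSym _ _ hA).deg U hU n,
          (θ₁.hom.app (Opposite.op U)).hom a = b := fun U hU =>
      Groth.Agent.Lib.Helper35.PBiprod.surj_graded_of_surjective
        (RelProj.gradedHomAt (𝒜 := Groth.Agent.Lib.Helper35.GS.grSym _ _ hA) (ℬ := 𝒮₁) θ₁ hgr₁ U hU)
        (hs₁ U hU)
    obtain ⟨h₁, hh₁, hcl₁, hc₁, ⟨iso₁⟩⟩ :=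
      Groth.Agent.Lib.Helper35.SymMap.exists_closedImmersion_of_pos' θ₁ hgr₁ hpos₁ hgen 1
        hP hP₁ hO hO₁
    -- second projection
    obtain ⟨θ₂, hθ₂, -⟩ := hA 𝒮₂.toQCAlg (biprod.snd ≫ j₂)
    have hm₂ : ∀ (U : Y.Opens) (hU : IsAffineOpen U) (x : Γ(E₁ ⊞ E₂, U)),
        ((biprod.snd ≫ j₂).app U).hom x ∈ 𝒮₂.deg U hU 1 := fun U hU x => hj₂.2 U hU _
    have hgr₂ := Groth.Agent.Lib.Helper35.SymMap.isGradedHom hA _ hm₂ θ₂ hθ₂
    have hs₂ : ∀ (U : Y.Opens) (hU : IsAffineOpen U),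
        Function.Surjective (θ₂.hom.app (Opposite.op U)).hom := fun U hU =>
      Groth.Agent.Lib.Helper35.PBiprod.surjective_of_split j₂ hj₂.1
        (Groth.Agent.Lib.Helper74.SymQ.symJ (E₁ ⊞ E₂)) θ₂ biprod.snd biprod.inr
        biprod.inr_snd hθ₂ U hU
    have hpos₂ : ∀ (U : Y.Opens) (hU : IsAffineOpen U) (n : ℕ), 0 < n → ∀ b ∈ 𝒮₂.deg U hU n,
        ∃ a ∈ (Groth.Agent.Lib.Helper35.GS.grSym _ _ hA).deg U hU n,
          (θ₂.hom.app (Opposite.op U)).hom a = b := fun U hU =>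
      Groth.Agent.Lib.Helper35.PBiprod.surj_graded_of_surjective
        (RelProj.gradedHomAt (𝒜 := Groth.Agent.Lib.Helper35.GS.grSym _ _ hA) (ℬ := 𝒮₂) θ₂ hgr₂ U hU)
        (hs₂ U hU)
    obtain ⟨h₂, hh₂, hcl₂, hc₂, ⟨iso₂⟩⟩ :=
      Groth.Agent.Lib.Helper35.SymMap.exists_closedImmersion_of_pos' θ₂ hgr₂ hpos₂ hgen 1
        hP hP₂ hO hO₂
    have hdisj : ∀ (x : P₁) (x' : P₂), h₁ x ≠ h₂ x' :=
      Groth.Agent.Lib.Helper35.PBiprod.disjoint_range E₁ E₂ hE₁ hE₂ 𝒮₁ 𝒮₂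
        (Groth.Agent.Lib.Helper35.GS.grSym _ _ hA) j₁ j₂
        (Groth.Agent.Lib.Helper74.SymQ.symJ (E₁ ⊞ E₂)) hjE θ₁ hgr₁ hθ₁ θ₂ hgr₂ hθ₂
        _ _
        p p₁ p₂ chart chart₁ chart₂ hP hP₁ hP₂ h₁ hh₁ h₂ hh₂
    haveI := hcl₁
    haveI := hcl₂
    haveI := himm₁
    haveI := himm₂
    haveI : IsClosedImmersion (coprod.desc h₁ h₂) :=
      Groth.Agent.Lib.Helper35.CoprodCI.isClosedImmersion_coprodDesc h₁ h₂ hdisj
    haveI : IsImmersion (coprod.map i₁ i₂) :=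
      IsZariskiLocalAtTarget.coprodMap (P := @IsImmersion) i₁ i₂ himm₁ himm₂
    have hi₁ : coprod.inl ≫ (coprod.map i₁ i₂ ≫ coprod.desc h₁ h₂) = i₁ ≫ h₁ := by
      rw [← Category.assoc, coprod.inl_map, Category.assoc, coprod.inl_desc]
    have hi₂ : coprod.inr ≫ (coprod.map i₁ i₂ ≫ coprod.desc h₁ h₂) = i₂ ≫ h₂ := by
      rw [← Category.assoc, coprod.inr_map, Category.assoc, coprod.inr_desc]
    refine ⟨E₁ ⊞ E₂, hqc, _, _, hjE, P, p, chart, hP, O1, lam, hO,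
      coprod.map i₁ i₂ ≫ coprod.desc h₁ h₂, inferInstance, ?_, ?_⟩
    · apply coprod.hom_ext
      · rw [← Category.assoc, hi₁, Category.assoc, hc₁, hcomp₁]
      · rw [← Category.assoc, hi₂, Category.assoc, hc₂, hcomp₂]
    · refine Groth.Agent.Lib.Helper35.CoprodGlue.nonempty_iso_of_restrict ?_ ?_
      · exact (Scheme.Modules.restrictFunctorIsoPullback coprod.inl).app L'' ≪≫ e₁ ≪≫
          (Scheme.Modules.pullback i₁).mapIso iso₁.symm ≪≫
          (Scheme.Modules.pullbackComp i₁ h₁).app O1 ≪≫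
          (Scheme.Modules.pullbackCongr hi₁.symm).app O1 ≪≫
          ((Scheme.Modules.pullbackComp coprod.inl
            (coprod.map i₁ i₂ ≫ coprod.desc h₁ h₂)).app O1).symm ≪≫
          ((Scheme.Modules.restrictFunctorIsoPullback coprod.inl).app _).symm
      · exact (Scheme.Modules.restrictFunctorIsoPullback coprod.inr).app L'' ≪≫ e₂ ≪≫
          (Scheme.Modules.pullback i₂).mapIso iso₂.symm ≪≫
          (Scheme.Modules.pullbackComp i₂ h₂).app O1 ≪≫
          (Scheme.Modules.pullbackCongr hi₂.symm).app O1 ≪≫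
          ((Scheme.Modules.pullbackComp coprod.inr
            (coprod.map i₁ i₂ ≫ coprod.desc h₁ h₂)).app O1).symm ≪≫
          ((Scheme.Modules.restrictFunctorIsoPullback coprod.inr).app _).symm

end Groth.Agent.S12477
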