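import Groth.Statements.S12480
import Groth.Agent.Lib.Helper35.OpenSec3
import Groth.Agent.Lib.Helper35.GS2
import Groth.Agent.Lib.Lead.Inv5
import Groth.Agent.Lib.Helper2.KerSec
import Groth.Agent.S8258
import Groth.Agent.S8284

set_option autoImplicit false
universe u
open CategoryTheory CategoryTheory.Limits AlgebraicGeometry TopologicalSpace Opposite
open scoped HomogeneousIdeal
open EGA2

namespace Groth.Agent.S12480

/-- Let X be a quasi-affine scheme and L an invertible O_X-module. Then L is very ample relative to the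
canonical morphism u : X → Spec Γ(X, O_X): there are a quasi-coherent module E on that spectrum and
an immersion i of X into the projective bundle P(E), compatible with u, with L isomorphic to
i^*O_{P(E)}(1). (The published statement adds that L is then ample; that assertion is stated
separately.) -/
theorem result (X : Scheme.{u}) [X.IsQuasiAffine] (L : X.Modules)
    (hL : PicF.IsInvertible L) : RelProj.IsRelVeryAmple X.toSpecΓ L := by
  haveI : L.IsQuasicoherent := Groth.Agent.Lib.Lead.Inv.isQuasicoherent_of_isInvertible hL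
  haveI : ((Scheme.Modules.pushforward X.toSpecΓ).obj L).IsQuasicoherent :=
    Groth.Agent.Lib.Helper2.KerSec.isQuasicoherent_pushforward_of_qcqs X.toSpecΓ L
  obtain ⟨𝒮, j, hj⟩ := Groth.Agent.Lib.Helper35.GS.exists_isGrSymAlg
    ((Scheme.Modules.pushforward X.toSpecΓ).obj L)
  obtain ⟨P, p, chart, hP⟩ := Groth.Agent.S8258.result 𝒮
  obtain ⟨O1, lam, hO⟩ := Groth.Agent.S8284.result 𝒮 p chart hP 1
  obtain ⟨i, hi, hip, ⟨iso⟩⟩ := Groth.Agent.Lib.Helper35.OpenSec.nonempty_restrict_iso 𝒮 j hj hP hO
    X.toSpecΓ (by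
      intro x
      obtain ⟨V, hxV, e, he⟩ := Groth.Agent.Lib.Helper35.Gen.exists_isGen_of_isInvertible hL x
      obtain ⟨e', he'⟩ := Groth.Agent.Lib.Helper35.OpenSec.isGen_pushforward X.toSpecΓ L V e he
      exact ⟨V, e', hxV, he'⟩)
  haveI := hi
  refine ⟨(Scheme.Modules.pushforward X.toSpecΓ).obj L, ‹_›, 𝒮, j, hj, P, p, chart, hP, O1, lam,
    hO, i, inferInstance, hip, ⟨?_⟩⟩
  exact ((Scheme.Modules.restrictFunctorAdjCounitIso X.toSpecΓ).app L).symm ≪≫ iso ≪≫
    (Scheme.Modules.restrictFunctorIsoPullback i).app O1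

end Groth.Agent.S12480
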