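import Groth.Statements.S12482
-- import your own Groth.Agent.* helpers here

set_option autoImplicit false
universe u
open Dual

namespace Groth.Agent.S12482

section
variable {A : Type u} [CommRing A]

open RingTheory.Sequence in
lemma ofList_ofFn {p : ℕ} (x : Fin p → A) :
    Ideal.ofList (List.ofFn x) = Ideal.span (Set.range x) := by
  unfold Ideal.ofList
  congr 1
  ext r
  simp [List.mem_ofFn]

open RingTheory.Sequence in
lemma key : ∀ (p : ℕ) (x : Fin p → A), IsWeaklyRegular A (List.ofFn x) →
    ∀ a : Fin p → A, ∑ i, a i * x i = 0 → ∀ i, a i ∈ Ideal.span (Set.range x) := by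
  intro p
  induction p with
  | zero => intro x _ a _ i; exact i.elim0
  | succ p ih =>
    intro x hreg a hsum
    have hx : List.ofFn x = List.ofFn (fun i : Fin p => x i.castSucc) ++ [x (Fin.last p)] := by
      rw [List.ofFn_succ', List.concat_eq_append]
    rw [hx, isWeaklyRegular_append_iff, isWeaklyRegular_singleton_iff] at hreg
    obtain ⟨hreg1, hreg2⟩ := hreg
    set x' : Fin p → A := fun i => x i.castSucc with hx'
    have hJ'J : Ideal.span (Set.range x') ≤ Ideal.span (Set.range x) := by
      apply Ideal.span_mono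
      rintro _ ⟨i, rfl⟩
      exact ⟨i.castSucc, rfl⟩
    rw [Fin.sum_univ_castSucc] at hsum
    have hlast : a (Fin.last p) ∈ Ideal.span (Set.range x') := by
      have h1 : a (Fin.last p) * x (Fin.last p) ∈ Ideal.span (Set.range x') := by
        have : a (Fin.last p) * x (Fin.last p) = - ∑ i : Fin p, a i.castSucc * x' i := by
          rw [eq_neg_iff_add_eq_zero, add_comm]; exact hsum
        rw [this]
        refine Ideal.neg_mem_iff _ |>.mpr (Ideal.sum_mem _ fun i _ => ?_)
        exact Ideal.mul_mem_left _ _ (Ideal.subset_span ⟨i, rfl⟩)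
      have h2 : x (Fin.last p) • (Submodule.Quotient.mk (a (Fin.last p)) :
          A ⧸ (Ideal.ofList (List.ofFn x') • ⊤ : Submodule A A)) =
          x (Fin.last p) • 0 := by
        rw [smul_zero, ← Submodule.Quotient.mk_smul, Submodule.Quotient.mk_eq_zero,
          smul_eq_mul, Ideal.mul_top, ofList_ofFn, smul_eq_mul, mul_comm]
        exact h1
      have h3 := hreg2 h2
      rw [Submodule.Quotient.mk_eq_zero, smul_eq_mul, Ideal.mul_top, ofList_ofFn] at h3
      exact h3
    obtain ⟨b, hb⟩ := (Ideal.mem_span_range_iff_exists_fun).mp hlast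
    have hsum' : ∑ i : Fin p, (a i.castSucc + b i * x (Fin.last p)) * x' i = 0 := by
      rw [← hsum, ← hb, Finset.sum_mul, ← Finset.sum_add_distrib]
      refine Finset.sum_congr rfl fun i _ => ?_
      ring
    have hih := ih x' hreg1 _ hsum'
    intro i
    refine Fin.lastCases ?_ (fun i => ?_) i
    · exact hJ'J hlast
    · have h1 := hJ'J (hih i)
      have h2 : b i * x (Fin.last p) ∈ Ideal.span (Set.range x) :=
        Ideal.mul_mem_left _ _ (Ideal.subset_span ⟨Fin.last p, rfl⟩)
      have := Ideal.sub_mem _ h1 h2
      simpa using this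

end

/-- Let `A` be a commutative ring, `x_1, …, x_p` a sequence of elements of `A` such that each `x_i` is a
non-zero-divisor on `A/(x_1, …, x_{i-1})`, and `J` the ideal generated by the `x_i`. Then `J/J²` is
a free `(A/J)`-module with basis the classes of the `x_i`: there is a basis of `J/J²` over `A/J`,
indexed by `1, …, p`, whose `i`-th vector is the class of `x_i`. (The other assertions of the
published statement, on the Koszul complex and on Ext and Tor against `A/J`, are stated separately.) -/
theorem result (A : Type u) [CommRing A] (p : ℕ) (x : Fin p → A)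
    (hreg : RingTheory.Sequence.IsWeaklyRegular A (List.ofFn x)) :
    ∃ b : Module.Basis (Fin p) (A ⧸ Ideal.span (Set.range x)) (Ideal.span (Set.range x)).Cotangent,
      ∀ i, b i = (Ideal.span (Set.range x)).toCotangent ⟨x i, Ideal.subset_span (Set.mem_range_self i)⟩ := by
  set J := Ideal.span (Set.range x) with hJ
  set v : Fin p → J.Cotangent :=
    fun i => J.toCotangent ⟨x i, Ideal.subset_span (Set.mem_range_self i)⟩ with hv
  have hsm : ∀ (a : A) (m : J.Cotangent), (Ideal.Quotient.mk J a) • m = a • m := by
    intro a m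
    exact algebraMap_smul (A ⧸ J) a m
  have hli : LinearIndependent (A ⧸ J) v := by
    rw [Fintype.linearIndependent_iff]
    intro g hg
    choose a ha using fun i => Ideal.Quotient.mk_surjective (g i)
    have h1 : J.toCotangent (∑ i, a i • (⟨x i, Ideal.subset_span (Set.mem_range_self i)⟩ : J)) = 0 := by
      rw [map_sum, ← hg]
      refine Finset.sum_congr rfl fun i _ => ?_
      rw [map_smul, ← ha i, hsm]
    rw [Ideal.toCotangent_eq_zero] at h1
    have h2 : (∑ i, a i * x i) ∈ J ^ 2 := by
      convert h1 using 1
      simp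
    rw [pow_two, hJ, ← smul_eq_mul, ← Ideal.submodule_span_eq,
      Submodule.mem_ideal_smul_span_iff_exists_sum] at h2
    obtain ⟨c, hc, hcs⟩ := h2
    rw [Finsupp.sum_fintype _ _ (fun i => by simp)] at hcs
    have h3 : ∑ i, (a i - c i) * x i = 0 := by
      simp only [sub_mul, Finset.sum_sub_distrib]
      rw [sub_eq_zero, ← hcs]
      simp
    have h4 := key p x hreg _ h3
    intro i
    rw [← ha i, Ideal.Quotient.eq_zero_iff_mem]
    have := Ideal.add_mem _ (h4 i) (hc i)
    simpa using this
  have hsp : ⊤ ≤ Submodule.span (A ⧸ J) (Set.range v) := by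
    rintro m -
    obtain ⟨⟨y, hy⟩, rfl⟩ := J.toCotangent_surjective m
    obtain ⟨c, rfl⟩ := (Ideal.mem_span_range_iff_exists_fun).mp hy
    have : (⟨∑ i, c i * x i, hy⟩ : J) =
        ∑ i, c i • (⟨x i, Ideal.subset_span (Set.mem_range_self i)⟩ : J) := by
      ext; simp
    rw [this, map_sum]
    refine Submodule.sum_mem _ fun i _ => ?_
    rw [map_smul, ← hsm]
    exact Submodule.smul_mem _ _ (Submodule.subset_span ⟨i, rfl⟩)
  refine ⟨Module.Basis.mk hli hsp, fun i => ?_⟩
  rw [Module.Basis.mk_apply]

end Groth.Agent.S12482
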