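import Groth.Statements.S12485
import Groth.Agent.Lib.Helper35.SymMap2
import Groth.Agent.S8258
import Groth.Agent.S8284

set_option autoImplicit false
universe u
open CategoryTheory CategoryTheory.Limits AlgebraicGeometry TopologicalSpace Opposite
open scoped HomogeneousIdeal
open EGA2

namespace Groth.Agent.S12485

/-- Let q : X → Y be a morphism of schemes and L an invertible O_X-module. Suppose there are a
quasi-coherent graded O_Y-algebra 𝒮 generated by its degree-one part, its relative homogeneous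
spectrum p : P = Proj(𝒮) → Y (given with its charts over affine opens) with twisting sheaf O_P(1)
(given with its chart identifications), and an immersion i : X → P with i ≫ p = q such that L is
isomorphic to i^*O_P(1). Then L is very ample relative to q: there are a quasi-coherent O_Y-module E
and a Y-immersion of X into the projective bundle P(E) along which O_{P(E)}(1) pulls back to a
module isomorphic to L. -/
theorem result {X Y P : Scheme.{u}} (q : X ⟶ Y) (L : X.Modules)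
    (hL : PicF.IsInvertible L) (𝒮 : RelProj.QCGrAlg Y) (h𝒮 : 𝒮.IsGenDegOne) (p : P ⟶ Y)
    (chart : ∀ (U : Y.Opens) (hU : IsAffineOpen U), ((p ⁻¹ᵁ U : P.Opens) : Scheme.{u}) ≅ Proj (𝒮.deg U hU))
    (hP : RelProj.IsRelProj 𝒮 p chart) (O1 : P.Modules)
    (lam : ∀ (U : Y.Opens) (hU : IsAffineOpen U),
      O1 ⟶ (Scheme.Modules.pushforward (RelProj.emb p chart U hU)).obj (GrTwist.twist (𝒮.deg U hU) 1))
    (hO1 : RelProj.IsRelTwist 𝒮 p chart 1 O1 lam) (i : X ⟶ P) [IsImmersion i] (hi : i ≫ p = q)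
    (e : L ≅ (Scheme.Modules.pullback i).obj O1) : RelProj.IsRelVeryAmple q L := by
  haveI hqc : (𝒮.toModule).IsQuasicoherent :=
    Groth.Agent.Lib.Helper2.QCAlgMod.toModule_isQuasicoherent 𝒮.toQCAlg
  obtain ⟨m, hmW⟩ := Groth.Agent.Lib.Helper35.SymMap.exists_prOne 𝒮
  have hA := Groth.Agent.Lib.Helper74.SymQ.isSymAlg_symAlg 𝒮.toModule
  have hjE := Groth.Agent.Lib.Helper35.GS.isGrSymAlg_grSym _ _ hA
  obtain ⟨PE, pE, chartE, hPE⟩ := Groth.Agent.S8258.result
    (Groth.Agent.Lib.Helper35.GS.grSym _ _ hA)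
  obtain ⟨O1E, lamE, hO1E⟩ := Groth.Agent.S8284.result _ pE chartE hPE 1
  obtain ⟨θ, hθ, -⟩ := hA 𝒮.toQCAlg m
  have hm : ∀ (U : Y.Opens) (hU : IsAffineOpen U) (x : Γ(𝒮.toModule, U)),
      (m.app U).hom x ∈ 𝒮.deg U hU 1 := by
    intro U hU x
    rw [hmW U hU x]
    exact Groth.Agent.Lib.Helper35.SymMap.prOne_mem 𝒮 U hU x
  have hsurj : ∀ (U : Y.Opens) (hU : IsAffineOpen U), ∀ b ∈ 𝒮.deg U hU 1,
      ∃ e : Γ(𝒮.toModule, U), (m.app U).hom e = b := by
    intro U hU b hb
    exact ⟨b, (hmW U hU b).trans (Groth.Agent.Lib.Helper35.SymMap.prOne_of_mem 𝒮 U hU b hb)⟩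
  have hgr := Groth.Agent.Lib.Helper35.SymMap.isGradedHom hA m hm θ hθ
  have hpos := Groth.Agent.Lib.Helper35.SymMap.surj_pos hA m hm θ hθ h𝒮 hsurj
  obtain ⟨h, hcl, hcomp, ⟨iso⟩⟩ :=
    Groth.Agent.Lib.Helper35.SymMap.exists_closedImmersion_of_pos θ hgr hpos
      (Groth.Agent.Lib.Helper35.RVA.isGenDegOne_of_isGrSymAlg hqc hjE) 1
      hPE hP hO1E hO1
  refine ⟨𝒮.toModule, hqc, _, _, hjE, PE, pE, chartE, hPE, O1E, lamE, hO1E, i ≫ h,
    inferInstance, by rw [Category.assoc, hcomp, hi], ⟨?_⟩⟩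
  exact e ≪≫ (Scheme.Modules.pullback i).mapIso iso.symm ≪≫
    (Scheme.Modules.pullbackComp i h).app O1E

end Groth.Agent.S12485
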