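import Groth.Statements.S12498
import Mathlib.Tactic
import Mathlib.RingTheory.Flat.EquationalCriterion
import Mathlib.RingTheory.Derivation.Basic
import Mathlib.RingTheory.Ideal.Quotient.Operations

set_option autoImplicit false
universe u
open Deform

namespace Groth.Agent.S12498

/-- Let k be an algebraically closed field, A a local Artinian k-algebra with residue field k, and t a
nonzero element of the maximal ideal m_A annihilated by m_A, so that A → A/tA is a small extension.
Let B be a flat A-algebra (a deformation over A of its closed fibre B_0 = B/m_A B), and σ an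
A-algebra automorphism of B/tB inducing the identity on B_0. Fix an A-algebra automorphism τ of B
inducing σ (so τ induces the identity on B_0). Then the A-algebra automorphisms η of B inducing σ
correspond bijectively to the k-derivations d of B_0 through the rule η = τ + t·d, meaning η(b) =
τ(b) + t b′ for all b ∈ B and all b′ ∈ B lifting d applied to the image of b in B_0: every such η
determines a unique d, and every d comes from some such η. (The published statement phrases the
conclusion as a free and transitive action of Der_k(B_0, B_0) on the nonempty set of lifts of σ; the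
condition that σ induces the identity on B_0 is expressed here through the chosen lift τ.) -/
theorem result
    {k : Type u} [Field k] [IsAlgClosed k]
    {A : Type u} [CommRing A] [Algebra k A] [IsLocalRing A] [IsArtinianRing A]
    (hres : ∀ a : A, ∃ c : k, a - algebraMap k A c ∈ IsLocalRing.maximalIdeal A)
    (t : A) (ht : t ∈ IsLocalRing.maximalIdeal A) (ht0 : t ≠ 0)
    (htm : ∀ a ∈ IsLocalRing.maximalIdeal A, a * t = 0)
    {B : Type u} [CommRing B] [Algebra A B] [Module.Flat A B] [Algebra k B] [IsScalarTower k A B]
    (σ : (B ⧸ Ideal.span {algebraMap A B t}) ≃ₐ[A] (B ⧸ Ideal.span {algebraMap A B t}))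
    (τ : B ≃ₐ[A] B)
    (hτ : ∀ b : B, Ideal.Quotient.mk (Ideal.span {algebraMap A B t}) (τ b) =
      σ (Ideal.Quotient.mk (Ideal.span {algebraMap A B t}) b))
    (hτ0 : ∀ b : B, τ b - b ∈ (IsLocalRing.maximalIdeal A).map (algebraMap A B)) :
    (∀ η : B ≃ₐ[A] B, (∀ b : B, Ideal.Quotient.mk (Ideal.span {algebraMap A B t}) (η b) =
        σ (Ideal.Quotient.mk (Ideal.span {algebraMap A B t}) b)) →
      ∃! d : Derivation k (B ⧸ (IsLocalRing.maximalIdeal A).map (algebraMap A B))
          (B ⧸ (IsLocalRing.maximalIdeal A).map (algebraMap A B)),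
        ∀ b b' : B, Ideal.Quotient.mk ((IsLocalRing.maximalIdeal A).map (algebraMap A B)) b' =
            d (Ideal.Quotient.mk ((IsLocalRing.maximalIdeal A).map (algebraMap A B)) b) →
          η b = τ b + algebraMap A B t * b') ∧
    (∀ d : Derivation k (B ⧸ (IsLocalRing.maximalIdeal A).map (algebraMap A B))
        (B ⧸ (IsLocalRing.maximalIdeal A).map (algebraMap A B)),
      ∃ η : B ≃ₐ[A] B, (∀ b : B, Ideal.Quotient.mk (Ideal.span {algebraMap A B t}) (η b) =
          σ (Ideal.Quotient.mk (Ideal.span {algebraMap A B t}) b)) ∧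
        ∀ b b' : B, Ideal.Quotient.mk ((IsLocalRing.maximalIdeal A).map (algebraMap A B)) b' =
            d (Ideal.Quotient.mk ((IsLocalRing.maximalIdeal A).map (algebraMap A B)) b) →
          η b = τ b + algebraMap A B t * b') := by
  classical
  set m := IsLocalRing.maximalIdeal A with hm
  set T := algebraMap A B t with hT
  set mB := m.map (algebraMap A B) with hmB
  set π := Ideal.Quotient.mk mB with hπ
  have htt : t * t = 0 := htm t ht
  have hTT : T * T = 0 := by rw [hT, ← map_mul, htt, map_zero]
  have hTmB : T ∈ mB := Ideal.mem_map_of_mem _ ht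
  have hπ0 : ∀ b : B, π b = 0 ↔ b ∈ mB := fun b => Ideal.Quotient.eq_zero_iff_mem
  have hπeq : ∀ b b' : B, π b = π b' ↔ b - b' ∈ mB := fun b b' => Ideal.Quotient.eq
  have hπsurj : Function.Surjective π := Ideal.Quotient.mk_surjective
  -- (F ⟸)
  have hF1 : ∀ b ∈ mB, T * b = 0 := by
    intro b hb
    rw [hmB, Ideal.map] at hb
    induction hb using Submodule.span_induction with
    | mem x hx =>
      obtain ⟨a, ha, rfl⟩ := hx
      rw [hT, ← map_mul, mul_comm, htm a ha, map_zero]
    | zero => simp
    | add x y _ _ hx hy => rw [mul_add, hx, hy, add_zero]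
    | smul r x _ hx => rw [smul_eq_mul, mul_left_comm, hx, mul_zero]
  have hann : ∀ a : A, t * a = 0 → a ∈ m := by
    intro a ha
    by_contra hna
    have hu : IsUnit a := by
      rwa [hm, IsLocalRing.mem_maximalIdeal, mem_nonunits_iff, not_not] at hna
    obtain ⟨u, rfl⟩ := hu
    apply ht0
    have h1 := congrArg (· * (↑u⁻¹ : A)) ha
    simpa [mul_assoc] using h1
  have hF2 : ∀ b : B, T * b = 0 → b ∈ mB := by
    intro b hb
    have hrel : ∑ i : Fin 1, (fun _ => t : Fin 1 → A) i • (fun _ => b : Fin 1 → B) i = 0 := by
      simp only [Finset.univ_unique, Finset.sum_singleton, Algebra.smul_def]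
      exact hb
    obtain ⟨κ, a, y, h1, h2⟩ := Module.Flat.isTrivialRelation_of_sum_smul_eq_zero (R := A) (M := B) hrel
    have h3 := h1 0
    simp only at h3
    rw [h3]
    refine Ideal.sum_mem _ fun j _ => ?_
    rw [Algebra.smul_def]
    refine Ideal.mul_mem_right _ _ (Ideal.mem_map_of_mem _ (hann _ ?_))
    have h4 := h2 j
    simpa using h4
  have hTeq : ∀ x y : B, π x = π y → T * x = T * y := by
    intro x y hxy
    have h1 := hF1 _ ((hπeq x y).mp hxy)
    rw [mul_sub] at h1
    exact sub_eq_zero.mp h1
  have hτπ : ∀ b : B, π (τ b) = π b := fun b => (hπeq _ _).mpr (hτ0 b)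
  have hτmB : ∀ b ∈ mB, τ b ∈ mB := by
    intro b hb
    rw [← hπ0] at hb ⊢
    rw [hτπ, hb]
  have hksmul : ∀ (f : B ≃ₐ[A] B) (r : k) (b : B), f (r • b) = r • f b := by
    intro f r b
    rw [← algebraMap_smul A r b, map_smul, algebraMap_smul]
  have hπsmul : ∀ (r : k) (b : B), π (r • b) = r • π b := by
    intro r b
    exact map_smul (Ideal.Quotient.mkₐ k mB) r b
  let s : B ⧸ mB → B := Function.surjInv hπsurj
  have hs : ∀ x, π (s x) = x := Function.surjInv_eq hπsurj
  refine ⟨?_, ?_⟩
  · -- part 1
    intro η hη
    have hc : ∀ b, ∃ c, η b - τ b = T * c := by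
      intro b
      have h1 : Ideal.Quotient.mk (Ideal.span {T}) (η b - τ b) = 0 := by
        rw [map_sub, hη, hτ, sub_self]
      rw [Ideal.Quotient.eq_zero_iff_mem, Ideal.mem_span_singleton'] at h1
      obtain ⟨c, hc⟩ := h1
      exact ⟨c, by rw [← hc, mul_comm]⟩
    choose c hc using hc
    let d₀ : B → B ⧸ mB := fun b => π (c b)
    have hd₀ : ∀ b x, η b - τ b = T * x → π x = d₀ b := by
      intro b x hx
      rw [hπeq]
      apply hF2
      rw [mul_sub, ← hx, ← hc b, sub_self]
    have hd₀add : ∀ b b', d₀ (b + b') = d₀ b + d₀ b' := by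
      intro b b'
      rw [← hd₀ (b + b') (c b + c b') (by rw [map_add, map_add, mul_add, ← hc, ← hc]; ring),
        map_add]
    have hd₀smul : ∀ (r : k) b, d₀ (r • b) = r • d₀ b := by
      intro r b
      rw [← hd₀ (r • b) (r • c b) (by rw [hksmul, hksmul, mul_smul_comm, ← hc, smul_sub]),
        hπsmul]
    have hητ : ∀ b ∈ mB, η b = τ b := by
      intro b hb
      rw [hmB, Ideal.map] at hb
      induction hb using Submodule.span_induction with
      | mem x hx =>
        obtain ⟨a, ha, rfl⟩ := hx
        rw [AlgEquiv.commutes, AlgEquiv.commutes]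
      | zero => simp
      | add x y _ _ hx hy => rw [map_add, map_add, hx, hy]
      | smul r x hx' hx =>
        rw [smul_eq_mul, map_mul, map_mul, hx]
        have h1 : η r = τ r + T * c r := by rw [← hc]; ring
        rw [h1, add_mul, mul_assoc, mul_comm (c r), ← mul_assoc]
        have hxmB : x ∈ mB := by rw [hmB, Ideal.map]; exact hx'
        rw [hF1 _ (hτmB x hxmB), zero_mul, add_zero]
    have hd₀zero : ∀ b ∈ mB, d₀ b = 0 := by
      intro b hb
      rw [← hd₀ b 0 (by rw [hητ b hb, sub_self, mul_zero]), map_zero]
    have hd₀congr : ∀ b b', π b = π b' → d₀ b = d₀ b' := by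
      intro b b' h
      have h1 : b = b' + (b - b') := by ring
      rw [h1, hd₀add, hd₀zero _ ((hπeq _ _).mp h), add_zero]
    have hd₀mul : ∀ b b', d₀ (b * b') = π b * d₀ b' + π b' * d₀ b := by
      intro b b'
      rw [← hd₀ (b * b') (c b * τ b' + c b' * τ b) ?_, map_add, map_mul, map_mul, hτπ, hτπ]
      · ring
      · have h1 : η b = τ b + T * c b := by rw [← hc]; ring
        have h2 : η b' = τ b' + T * c b' := by rw [← hc]; ring
        rw [map_mul, map_mul, h1, h2]
        linear_combination (c b * c b') * hTT
    let dlin : (B ⧸ mB) →ₗ[k] (B ⧸ mB) :=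
      { toFun := fun x => d₀ (s x)
        map_add' := by
          intro x y
          rw [← hd₀add]
          apply hd₀congr
          rw [map_add, hs, hs, hs]
        map_smul' := by
          intro r x
          rw [RingHom.id_apply, ← hd₀smul]
          apply hd₀congr
          rw [hπsmul, hs, hs] }
    have hdlin : ∀ b, dlin (π b) = d₀ b := by
      intro b
      apply hd₀congr
      rw [hs]
    let d : Derivation k (B ⧸ mB) (B ⧸ mB) := Derivation.mk' dlin (by
      intro x y
      obtain ⟨b, rfl⟩ := hπsurj x
      obtain ⟨b', rfl⟩ := hπsurj y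
      rw [← map_mul, hdlin, hdlin, hdlin, hd₀mul, smul_eq_mul, smul_eq_mul])
    have hd : ∀ b, d (π b) = d₀ b := hdlin
    refine ⟨d, ?_, ?_⟩
    · intro b b' hb'
      rw [hd] at hb'
      have h1 : T * b' = T * c b := hTeq _ _ hb'
      rw [h1, ← hc]
      ring
    · intro d' hd'
      apply Derivation.ext
      intro x
      obtain ⟨b, rfl⟩ := hπsurj x
      have h1 := hd' b (s (d' (π b))) (hs _)
      have h2 := hd₀ b (s (d' (π b))) (by rw [h1]; ring)
      rw [hs] at h2
      rw [h2, hd]
  · -- part 2
    intro d
    let l : B → B := fun b => s (d (π b))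
    have hl : ∀ b, π (l b) = d (π b) := fun b => hs _
    have hK : ∀ b x, π x = d (π b) → T * x = T * l b := by
      intro b x hx
      apply hTeq
      rw [hx, hl]
    let η₀ : B → B := fun b => τ b + T * l b
    have hη₀add : ∀ b b', η₀ (b + b') = η₀ b + η₀ b' := by
      intro b b'
      have h1 : T * (l b + l b') = T * l (b + b') :=
        hK _ _ (by rw [map_add, hl, hl, map_add, map_add])
      simp only [η₀]
      rw [map_add, ← h1]
      ring
    have hη₀mul : ∀ b b', η₀ (b * b') = η₀ b * η₀ b' := by
      intro b b'
      have h1 : T * (τ b * l b' + τ b' * l b) = T * l (b * b') :=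
        hK _ _ (by
          rw [map_add, map_mul, map_mul, hτπ, hτπ, hl, hl, map_mul, Derivation.leibniz,
            smul_eq_mul, smul_eq_mul])
      simp only [η₀]
      rw [map_mul, ← h1]
      linear_combination (-(l b * l b')) * hTT
    have hη₀alg : ∀ a : A, η₀ (algebraMap A B a) = algebraMap A B a := by
      intro a
      obtain ⟨r, hr⟩ := hres a
      have h1 : π (algebraMap A B a) = algebraMap k (B ⧸ mB) r := by
        have h2 : algebraMap A B a - algebraMap k B r ∈ mB := by
          rw [IsScalarTower.algebraMap_apply k A B, ← map_sub]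
          exact Ideal.mem_map_of_mem _ hr
        rw [← Ideal.Quotient.mk_algebraMap]
        exact (hπeq _ _).mpr h2
      have h3 : T * (0 : B) = T * l (algebraMap A B a) :=
        hK _ _ (by rw [map_zero, h1, Derivation.map_algebraMap])
      simp only [η₀]
      rw [AlgEquiv.commutes, ← h3, mul_zero, add_zero]
    let η₁ : B →ₐ[A] B :=
      { toFun := η₀
        map_one' := by
          have := hη₀alg 1
          rwa [map_one] at this
        map_mul' := hη₀mul
        map_zero' := by
          have := hη₀alg 0
          rwa [map_zero] at this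
        map_add' := hη₀add
        commutes' := hη₀alg }
    have hη₁ : ∀ b, η₁ b = τ b + T * l b := fun b => rfl
    have hlcongr : ∀ b b', π b = π b' → T * l b = T * l b' := by
      intro b b' h
      apply hTeq
      rw [hl, hl, h]
    have hbij : Function.Bijective η₁ := by
      constructor
      · rw [injective_iff_map_eq_zero]
        intro b hb
        rw [hη₁] at hb
        have h1 : τ b = -(T * l b) := eq_neg_of_add_eq_zero_left hb
        have h2 : π b = 0 := by
          rw [← hτπ, h1, map_neg, map_mul, (hπ0 T).mpr hTmB, zero_mul, neg_zero]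
        have h3 : T * l b = T * 0 := hTeq _ _ (by rw [hl, h2, map_zero, map_zero])
        rw [h3, mul_zero, add_zero] at hb
        exact (map_eq_zero_iff τ τ.injective).mp hb
      · intro y
        refine ⟨τ.symm y - T * τ.symm (l (τ.symm y)), ?_⟩
        rw [hη₁]
        have h1 : π (τ.symm y - T * τ.symm (l (τ.symm y))) = π (τ.symm y) := by
          rw [map_sub, map_mul, (hπ0 T).mpr hTmB, zero_mul, sub_zero]
        rw [hlcongr _ _ h1, map_sub, map_mul, AlgEquiv.apply_symm_apply, AlgEquiv.apply_symm_apply]
        have h2 : τ T = T := by rw [hT, AlgEquiv.commutes]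
        rw [h2]
        ring
    refine ⟨AlgEquiv.ofBijective η₁ hbij, ?_, ?_⟩
    · intro b
      rw [AlgEquiv.coe_ofBijective, hη₁, map_add, hτ]
      have h1 : Ideal.Quotient.mk (Ideal.span {T}) (T * l b) = 0 := by
        rw [Ideal.Quotient.eq_zero_iff_mem]
        exact Ideal.mul_mem_right _ _ (Ideal.mem_span_singleton_self T)
      rw [h1, add_zero]
    · intro b b' hb'
      rw [AlgEquiv.coe_ofBijective, hη₁, hK b b' hb']

end Groth.Agent.S12498
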