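import Groth.Statements.S12513
import Mathlib.AlgebraicGeometry.AffineScheme
import Mathlib.RingTheory.Localization.Defs

set_option autoImplicit false
universe u
open Mero

namespace Groth.Agent.S12513

open AlgebraicGeometry in
/-- For a scheme X and an affine open U of X, the sections of O_X over U with nonzerodivisor germ at
every point of U are exactly the nonzerodivisors of the ring O_X(U). No Noetherian hypothesis is
needed. -/
theorem result (X : Scheme.{u}) (U : X.Opens)
    (hU : IsAffineOpen U) : Mero.regSub X U = nonZeroDivisors Γ(X, U) := by
  ext f
  constructor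
  · intro hf
    rw [mem_nonZeroDivisors_iff]
    constructor
    · intro g hg
      refine TopCat.Presheaf.section_ext X.sheaf U _ _ fun x hx => ?_
      have h1 := (mem_nonZeroDivisors_iff.mp (hf ⟨x, hx⟩)).1 (X.presheaf.germ U x hx g)
      change X.presheaf.germ U x hx g = X.presheaf.germ U x hx 0
      rw [map_zero]
      apply h1
      rw [← map_mul, hg, map_zero]
    · intro g hg
      refine TopCat.Presheaf.section_ext X.sheaf U _ _ fun x hx => ?_
      have h1 := (mem_nonZeroDivisors_iff.mp (hf ⟨x, hx⟩)).2 (X.presheaf.germ U x hx g)
      change X.presheaf.germ U x hx g = X.presheaf.germ U x hx 0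
      rw [map_zero]
      apply h1
      rw [← map_mul, hg, map_zero]
  · intro hf x
    letI := X.presheaf.algebra_section_stalk x
    haveI := hU.isLocalization_stalk x
    have := IsLocalization.map_nonZeroDivisors_le (hU.primeIdealOf x).asIdeal.primeCompl
      (X.presheaf.stalk x.1)
    exact this ⟨f, hf, rfl⟩

end Groth.Agent.S12513
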