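import Groth.Statements.S12514
import Groth.Agent.Lib.Helper44.FunFldExt5

set_option autoImplicit false
open FunFld

namespace Groth.Agent.S12514

/-- For a geometric function field of one variable `K/k` and finite extensions `K ⊆ K' ⊆ K''`, the
conorm maps on divisors compose: `N*_{K''/K'} ∘ N*_{K'/K} = N*_{K''/K}`. The companion identity for
norms is not stated. -/
theorem result (k K K' K'' : Type*) [Field k] [Field K] [Field K'] [Field K'']
    [Algebra k K] [Algebra k K'] [Algebra k K''] [Algebra K K'] [Algebra K' K''] [Algebra K K'']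
    [IsScalarTower k K K'] [IsScalarTower k K' K''] [IsScalarTower k K K''] [IsScalarTower K K' K'']
    [FiniteDimensional K K'] [FiniteDimensional K' K'']
    (hK : FunFld.IsFunctionField k K) (hg : FunFld.IsGeometric k K) (D : FunFld.Divisor k K) :
    FunFld.conorm K'' (FunFld.conorm K' D) = FunFld.conorm K'' D := by
  open Groth.Agent.Lib.Helper44.FFExt in
  classical
  haveI : FiniteDimensional K K'' := Module.Finite.trans K' K''
  haveI : Algebra.IsAlgebraic K K' := Algebra.IsAlgebraic.of_finite _ _
  haveI : Algebra.IsAlgebraic K' K'' := Algebra.IsAlgebraic.of_finite _ _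
  have hfin1 : ∀ P : FunFld.Place k K, {Q : FunFld.Place k K' | FunFld.IsOver Q P}.Finite :=
    fun P => finite_isOver hK P
  have hfin3 : ∀ P : FunFld.Place k K, {Q : FunFld.Place k K'' | FunFld.IsOver Q P}.Finite :=
    fun P => finite_isOver hK P
  have hfin2 : ∀ Q' : FunFld.Place k K', {Q : FunFld.Place k K'' | FunFld.IsOver Q Q'}.Finite := by
    intro Q'
    obtain ⟨P, hP⟩ := exists_isOver_below (K := K) Q'
    refine (hfin3 P).subset ?_
    intro Q hQ
    exact isOver_trans hP hQ
  ext Q''
  obtain ⟨Q', hQ'⟩ := exists_isOver_below (K := K') Q''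
  obtain ⟨P, hP⟩ := exists_isOver_below (K := K) Q'
  rw [conorm_apply_of_isOver hfin2 _ hQ', conorm_apply_of_isOver hfin1 _ hP,
    conorm_apply_of_isOver hfin3 _ (isOver_trans hP hQ'), ramIdx_trans hP hQ']
  push_cast
  ring

end Groth.Agent.S12514
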