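import Groth.Statements.S12515
import Groth.Agent.Lib.Helper44.FunFldQuad
import Mathlib.FieldTheory.IntermediateField.Adjoin.Basic

set_option autoImplicit false
open FunFld

namespace Groth.Agent.S12515

open Polynomial in
lemma exists_sq_mul_squarefree {k : Type*} [Field k] (h : k[X]) (hh : h ≠ 0) :
    ∃ s f : k[X], h = s ^ 2 * f ∧ Squarefree f := by
  suffices H : ∀ n, ∀ h : k[X], h ≠ 0 → h.natDegree = n →
      ∃ s f : k[X], h = s ^ 2 * f ∧ Squarefree f from H _ h hh rfl
  intro n
  induction n using Nat.strong_induction_on with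
  | _ n ih =>
    intro h hh hn
    by_cases hsq : Squarefree h
    · exact ⟨1, h, by simp, hsq⟩
    · unfold Squarefree at hsq
      push Not at hsq
      obtain ⟨q, ⟨h', rfl⟩, hq⟩ := hsq
      have hq0 : q ≠ 0 := by
        rintro rfl
        simp at hh
      have hh'0 : h' ≠ 0 := by
        rintro rfl
        simp at hh
      have hdeg : 0 < q.natDegree := by
        have := Polynomial.degree_pos_of_ne_zero_of_nonunit hq0 hq
        exact natDegree_pos_iff_degree_pos.2 this
      have hlt : h'.natDegree < n := by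
        rw [← hn, natDegree_mul (mul_ne_zero hq0 hq0) hh'0, natDegree_mul hq0 hq0]
        omega
      obtain ⟨s, f, hsf, hf⟩ := ih _ hlt h' hh'0 rfl
      exact ⟨q * s, f, by rw [hsf]; ring, hf⟩

/-- An extension of degree two has an element outside the base field. -/
lemma exists_not_mem_range {F K : Type*} [Field F] [Field K] [Algebra F K]
    (hdeg : Module.finrank F K = 2) : ∃ w : K, w ∉ Set.range (algebraMap F K) := by
  by_contra hcon
  push Not at hcon
  have : Module.finrank F K = 1 := by
    rw [finrank_eq_one_iff_of_nonzero' (1 : K) one_ne_zero]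
    intro w
    obtain ⟨c, hc⟩ := hcon w
    exact ⟨c, by rw [Algebra.smul_def, mul_one, hc]⟩
  omega

/-- In an extension of degree two, an element outside the base field generates. -/
lemma adjoin_eq_top_of_not_mem_range {F K : Type*} [Field F] [Field K] [Algebra F K]
    (hdeg : Module.finrank F K = 2) {y : K} (hy : y ∉ Set.range (algebraMap F K)) :
    IntermediateField.adjoin F ({y} : Set K) = ⊤ := by
  haveI := IntermediateField.isSimpleOrder_of_finrank_prime (F := F) (E := K)
    (by rw [hdeg]; exact Nat.prime_two)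
  rcases eq_bot_or_eq_top (IntermediateField.adjoin F ({y} : Set K)) with h | h
  · exfalso
    rw [IntermediateField.adjoin_simple_eq_bot_iff, IntermediateField.mem_bot] at h
    exact hy h
  · exact h

/-- If `char k ≠ 2` and `K` has degree `2` over the rational function field `k(x)`, then `K = k(x)(y)`
for some `y` with `y² = f(x)`, `f` a squarefree polynomial over `k`. -/
theorem result (k K : Type*) [Field k] [Field K] (h2 : ringChar k ≠ 2)
    [Algebra (RatFunc k) K] (hdeg : Module.finrank (RatFunc k) K = 2) :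
    ∃ (y : K) (f : Polynomial k), Squarefree f ∧
      y ^ 2 = algebraMap (RatFunc k) K (algebraMap (Polynomial k) (RatFunc k) f) ∧
      IntermediateField.adjoin (RatFunc k) ({y} : Set K) = ⊤ := by
  obtain ⟨w, hw⟩ := exists_not_mem_range hdeg
  have hspan := Groth.Agent.Lib.Helper44.FFExt.exists_add_mul_eq hdeg hw
  obtain ⟨a, b, hab⟩ := hspan (w ^ 2)
  have h2F : (2 : RatFunc k) ≠ 0 := by
    have h2k : (2 : k) ≠ 0 := Ring.two_ne_zero h2
    have : (2 : RatFunc k) = algebraMap k (RatFunc k) 2 := (map_ofNat _ 2).symm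
    rw [this]
    exact (map_ne_zero _).2 h2k
  have h2K : (2 : K) ≠ 0 := by
    have : (2 : K) = algebraMap (RatFunc k) K 2 := (map_ofNat _ 2).symm
    rw [this]
    exact (map_ne_zero _).2 h2F
  -- complete the square
  obtain ⟨c, hc⟩ : ∃ c : RatFunc k, b = 2 * c := ⟨b / 2, by field_simp⟩
  set w₁ : K := w - algebraMap (RatFunc k) K c with hw₁
  have hw₁sq : w₁ ^ 2 = algebraMap (RatFunc k) K (a + c ^ 2) := by
    rw [hw₁, map_add, map_pow]
    rw [hc, map_mul, map_ofNat] at hab
    linear_combination hab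
  have hw₁r : w₁ ∉ Set.range (algebraMap (RatFunc k) K) := by
    rintro ⟨c', hc'⟩
    apply hw
    refine ⟨c' + c, ?_⟩
    rw [map_add, hc', hw₁]
    ring
  have hw₁0 : w₁ ≠ 0 := by
    rintro h0
    exact hw₁r ⟨0, by rw [map_zero, h0]⟩
  -- clear denominators
  obtain ⟨n, d, hd0, hgnd⟩ : ∃ n d : Polynomial k, d ≠ 0 ∧
      a + c ^ 2 = algebraMap (Polynomial k) (RatFunc k) n /
        algebraMap (Polynomial k) (RatFunc k) d :=
    ⟨(a + c ^ 2).num, (a + c ^ 2).denom, (a + c ^ 2).denom_ne_zero,
      (RatFunc.num_div_denom (a + c ^ 2)).symm⟩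
  have hd0' : algebraMap (Polynomial k) (RatFunc k) d ≠ 0 :=
    (map_ne_zero_iff _ (RatFunc.algebraMap_injective k)).2 hd0
  set y₁ : K := w₁ * algebraMap (RatFunc k) K (algebraMap (Polynomial k) (RatFunc k) d)
    with hy₁
  have hy₁sq : y₁ ^ 2 = algebraMap (RatFunc k) K
      (algebraMap (Polynomial k) (RatFunc k) (n * d)) := by
    rw [hy₁, mul_pow, hw₁sq, ← map_pow, ← map_mul, map_mul (algebraMap (Polynomial k) (RatFunc k))]
    congr 1
    rw [hgnd]
    field_simp
  have hy₁0 : y₁ ≠ 0 := mul_ne_zero hw₁0 ((map_ne_zero _).2 hd0')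
  have hh0 : n * d ≠ 0 := by
    intro h0
    rw [h0, map_zero, map_zero] at hy₁sq
    exact hy₁0 (pow_eq_zero_iff two_ne_zero |>.1 hy₁sq)
  obtain ⟨s, f, hsf, hf⟩ := exists_sq_mul_squarefree _ hh0
  have hs0 : s ≠ 0 := by
    rintro rfl
    apply hh0
    rw [hsf]
    simp
  have hs0' : algebraMap (RatFunc k) K (algebraMap (Polynomial k) (RatFunc k) s) ≠ 0 :=
    (map_ne_zero _).2 ((map_ne_zero_iff _ (RatFunc.algebraMap_injective k)).2 hs0)
  refine ⟨y₁ / algebraMap (RatFunc k) K (algebraMap (Polynomial k) (RatFunc k) s), f, hf, ?_, ?_⟩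
  · rw [div_pow, hy₁sq, hsf, map_mul, map_mul, map_pow, map_pow]
    field_simp
  · apply adjoin_eq_top_of_not_mem_range hdeg
    rintro ⟨c, hc⟩
    apply hw₁r
    refine ⟨c * algebraMap (Polynomial k) (RatFunc k) s /
      algebraMap (Polynomial k) (RatFunc k) d, ?_⟩
    rw [map_div₀, map_mul, hc, hy₁]
    have hd0'' : algebraMap (RatFunc k) K (algebraMap (Polynomial k) (RatFunc k) d) ≠ 0 :=
      (map_ne_zero _).2 hd0'
    field_simp

end Groth.Agent.S12515
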