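import Groth.Statements.S12517
import Groth.Agent.S12515
import Mathlib.FieldTheory.Separable

set_option autoImplicit false
open FunFld

namespace Groth.Agent.S12517

/-- If `k` is perfect of characteristic `2` and `K` is a separable extension of degree `2` of the
rational function field `k(x)`, then `K = k(x)(y)` for some `y` with `y² + y = f(x)`, `f ∈ k(x)`.
The correspondence between such extensions and cosets of `{a² + a}` in `k(x)` is not stated. -/
theorem result (k K : Type*) [Field k] [Field K] [PerfectField k]
    (h2 : ringChar k = 2) [Algebra (RatFunc k) K] (hdeg : Module.finrank (RatFunc k) K = 2)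
    [Algebra.IsSeparable (RatFunc k) K] :
    ∃ (y : K) (f : RatFunc k), y ^ 2 + y = algebraMap (RatFunc k) K f ∧
      IntermediateField.adjoin (RatFunc k) ({y} : Set K) = ⊤ := by
  haveI : FiniteDimensional (RatFunc k) K :=
    Module.finite_of_finrank_pos (by rw [hdeg]; norm_num)
  obtain ⟨w, hw⟩ := Groth.Agent.S12515.exists_not_mem_range hdeg
  have hspan := Groth.Agent.Lib.Helper44.FFExt.exists_add_mul_eq hdeg hw
  obtain ⟨a, b, hab⟩ := hspan (w ^ 2)
  haveI : CharP k 2 := ringChar.of_eq h2
  have h2k : (2 : k) = 0 := CharTwo.two_eq_zero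
  have h2F : (2 : RatFunc k) = 0 := by
    have : (2 : RatFunc k) = algebraMap k (RatFunc k) 2 := (map_ofNat _ 2).symm
    rw [this, h2k, map_zero]
  have h2K : (2 : K) = 0 := by
    have : (2 : K) = algebraMap (RatFunc k) K 2 := (map_ofNat _ 2).symm
    rw [this, h2F, map_zero]
  -- `b ≠ 0` by separability
  have hb : b ≠ 0 := by
    rintro rfl
    rw [map_zero, zero_mul, add_zero] at hab
    have hint : IsIntegral (RatFunc k) w := Algebra.IsIntegral.isIntegral w
    have hsep : (minpoly (RatFunc k) w).Separable := Algebra.IsSeparable.isSeparable (RatFunc k) w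
    have hroot : Polynomial.aeval w (Polynomial.X ^ 2 - Polynomial.C a : Polynomial (RatFunc k)) = 0 := by
      rw [map_sub, map_pow, Polynomial.aeval_X, Polynomial.aeval_C, hab, sub_self]
    have hdvd := minpoly.dvd (RatFunc k) w hroot
    have hmon : (Polynomial.X ^ 2 - Polynomial.C a : Polynomial (RatFunc k)).Monic :=
      Polynomial.monic_X_pow_sub_C a two_ne_zero
    have hnat : (Polynomial.X ^ 2 - Polynomial.C a : Polynomial (RatFunc k)).natDegree = 2 :=
      Polynomial.natDegree_X_pow_sub_C
    have h2le : 2 ≤ (minpoly (RatFunc k) w).natDegree :=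
      (minpoly.two_le_natDegree_iff hint).2 hw
    have hmin : (Polynomial.X ^ 2 - Polynomial.C a : Polynomial (RatFunc k)) =
        minpoly (RatFunc k) w :=
      Polynomial.eq_of_monic_of_dvd_of_natDegree_le (minpoly.monic hint) hmon hdvd
        (by rw [hnat]; exact h2le)
    rw [← hmin] at hsep
    unfold Polynomial.Separable at hsep
    have hder : Polynomial.derivative (Polynomial.X ^ 2 - Polynomial.C a : Polynomial (RatFunc k))
        = 0 := by
      rw [Polynomial.derivative_sub, Polynomial.derivative_C, sub_zero,
        Polynomial.derivative_X_pow]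
      have : ((2 : ℕ) : RatFunc k) = 0 := by
        rw [Nat.cast_ofNat]; exact h2F
      rw [this, Polynomial.C_0, zero_mul]
    rw [hder, isCoprime_zero_right] at hsep
    have := Polynomial.natDegree_eq_zero_of_isUnit hsep
    omega
  have hb' : algebraMap (RatFunc k) K b ≠ 0 := (map_ne_zero _).2 hb
  refine ⟨w / algebraMap (RatFunc k) K b, a / b ^ 2, ?_, ?_⟩
  · rw [map_div₀, map_pow, div_pow, hab]
    field_simp
    linear_combination (algebraMap (RatFunc k) K b * w) * h2K
  · apply Groth.Agent.S12515.adjoin_eq_top_of_not_mem_range hdeg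
    rintro ⟨c, hc⟩
    apply hw
    refine ⟨c * b, ?_⟩
    rw [map_mul, hc]
    field_simp

end Groth.Agent.S12517
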