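import Groth.Statements.S12518
import Groth.Agent.Lib.Helper44.FunFldASReduce

set_option autoImplicit false
open FunFld
open Groth.Agent.Lib.Helper88.FF Groth.Agent.Lib.Helper44.FFExt

namespace Groth.Agent.S12518

/-- If `k` is perfect of characteristic `2` and `K` is a separable extension of degree `2` of `k(x)`,
then `K = k(x)(y)` for some `y` with `y² + y = f(x)` such that every pole of `f`, at any place of
`k(x)/k` including the infinite one, has odd order. -/
theorem result (k K : Type*) [Field k] [Field K] [PerfectField k] (h2 : ringChar k = 2)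
    [Algebra k K] [Algebra (RatFunc k) K] [IsScalarTower k (RatFunc k) K]
    (hdeg : Module.finrank (RatFunc k) K = 2) [Algebra.IsSeparable (RatFunc k) K] :
    ∃ (y : K) (f : RatFunc k), y ^ 2 + y = algebraMap (RatFunc k) K f ∧
      IntermediateField.adjoin (RatFunc k) ({y} : Set K) = ⊤ ∧
      ∀ P : FunFld.Place k (RatFunc k), P.ord f < 0 → Odd (P.ord f) := by
  have hF : IsFunctionField k (RatFunc k) := isFunctionField_ratFunc k
  have hg : genus k (RatFunc k) = 0 :=
    ((genus_zero_iff_rational hF).2 ⟨RatFunc.X, RatFunc.adjoin_X⟩).1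
  have : CharP k 2 := by rw [← h2]; exact ringChar.charP k
  have : CharP (RatFunc k) 2 :=
    charP_of_injective_algebraMap (algebraMap k (RatFunc k)).injective 2
  have : CharP K 2 := charP_of_injective_algebraMap (algebraMap k K).injective 2
  have h2K : (2 : K) = 0 := CharTwo.two_eq_zero
  have : FiniteDimensional (RatFunc k) K := Module.finite_of_finrank_pos (by rw [hdeg]; norm_num)
  -- an element outside `k(x)`
  obtain ⟨z, hz⟩ : ∃ z : K, z ∉ Set.range (algebraMap (RatFunc k) K) := by
    by_contra h
    push Not at h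
    have h1 : (⊥ : IntermediateField (RatFunc k) K) = ⊤ := by
      ext w
      simp only [IntermediateField.mem_bot, IntermediateField.mem_top, iff_true]
      exact h w
    rw [IntermediateField.bot_eq_top_iff_finrank_eq_one] at h1
    omega
  obtain ⟨b, a, hab⟩ := exists_add_mul_eq hdeg hz (z ^ 2)
  have ha : a ≠ 0 := by
    rintro rfl
    rw [map_zero, zero_mul, add_zero] at hab
    have hint : IsIntegral (RatFunc k) z := IsIntegral.of_finite _ z
    have hsep : (minpoly (RatFunc k) z).Separable := Algebra.IsSeparable.isSeparable _ z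
    have hdvd : minpoly (RatFunc k) z ∣ Polynomial.X ^ 2 - Polynomial.C b := by
      apply minpoly.dvd
      simp [hab]
    have h2le : 2 ≤ (minpoly (RatFunc k) z).natDegree := by
      rw [minpoly.two_le_natDegree_iff hint]
      exact hz
    have hdeg2 : (Polynomial.X ^ 2 - Polynomial.C b : Polynomial (RatFunc k)).natDegree = 2 :=
      Polynomial.natDegree_X_pow_sub_C
    have hmonic : (Polynomial.X ^ 2 - Polynomial.C b : Polynomial (RatFunc k)).Monic :=
      Polynomial.monic_X_pow_sub_C b (by norm_num)
    have heq : Polynomial.X ^ 2 - Polynomial.C b = minpoly (RatFunc k) z :=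
      Polynomial.eq_of_monic_of_dvd_of_natDegree_le (minpoly.monic hint) hmonic hdvd
        (by rw [hdeg2]; exact h2le)
    rw [← heq, Polynomial.separable_def] at hsep
    have hder : Polynomial.derivative (Polynomial.X ^ 2 - Polynomial.C b : Polynomial (RatFunc k))
        = 0 := by
      simp only [Polynomial.derivative_sub, Polynomial.derivative_X_pow, Polynomial.derivative_C,
        sub_zero, Nat.cast_ofNat]
      have : (2 : RatFunc k) = 0 := CharTwo.two_eq_zero
      rw [show (Polynomial.C (2 : RatFunc k)) = 0 by rw [this, map_zero], zero_mul]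
    rw [hder, isCoprime_zero_right] at hsep
    have := Polynomial.natDegree_eq_zero_of_isUnit hsep
    omega
  have ha' : algebraMap (RatFunc k) K a ≠ 0 := (map_ne_zero _).2 ha
  set y₀ : K := z / algebraMap (RatFunc k) K a with hy₀
  set f₀ : RatFunc k := b / a ^ 2 with hf₀
  have hy₀eq : y₀ ^ 2 + y₀ = algebraMap (RatFunc k) K f₀ := by
    rw [hy₀, hf₀, map_div₀, map_pow, _root_.div_pow, hab]
    field_simp
    linear_combination (algebraMap (RatFunc k) K a * z) * h2K
  have hy₀F : y₀ ∉ Set.range (algebraMap (RatFunc k) K) := by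
    rintro ⟨c, hc⟩
    apply hz
    refine ⟨c * a, ?_⟩
    rw [map_mul, hc, hy₀, div_mul_cancel₀ _ ha']
  obtain ⟨g, hgodd⟩ := exists_odd_poles hF hg f₀
  refine ⟨y₀ + algebraMap (RatFunc k) K g, f₀ + g ^ 2 + g, ?_, ?_, hgodd⟩
  · rw [map_add, map_add, map_pow, ← hy₀eq]
    linear_combination (y₀ * algebraMap (RatFunc k) K g) * h2K
  · have hyF : y₀ + algebraMap (RatFunc k) K g ∉ Set.range (algebraMap (RatFunc k) K) := by
      rintro ⟨c, hc⟩
      apply hy₀F
      refine ⟨c - g, ?_⟩
      rw [map_sub, hc]
      ring
    rw [eq_top_iff]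
    intro w _
    obtain ⟨c, d, rfl⟩ := exists_add_mul_eq hdeg hyF w
    have hmem : y₀ + algebraMap (RatFunc k) K g ∈
        IntermediateField.adjoin (RatFunc k) ({y₀ + algebraMap (RatFunc k) K g} : Set K) :=
      IntermediateField.mem_adjoin_simple_self _ _
    exact add_mem (IntermediateField.algebraMap_mem _ c)
      (mul_mem (IntermediateField.algebraMap_mem _ d) hmem)

end Groth.Agent.S12518
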