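import Groth.Statements.S12520
import Groth.Agent.Lib.Helper97.FunFldSep

set_option autoImplicit false
universe u v
open FunFld

namespace Groth.Agent.S12520


theorem injective_of_finrank_eq_one {K₀ K V W : Type*} [Field K₀] [Field K] [Algebra K₀ K]
    [AddCommGroup V] [Module K₀ V] [AddCommGroup W] [Module K₀ W] [Module K W]
    [IsScalarTower K₀ K W] (hV : Module.finrank K₀ V = 1) (f : V →ₗ[K₀] W) (v : V)
    (hv : f v ≠ 0) : Function.Injective f := by
  obtain ⟨ω, hω0, hω⟩ := finrank_eq_one_iff'.mp hV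
  have hfω : f ω ≠ 0 := by
    intro h
    obtain ⟨c, rfl⟩ := hω v
    rw [map_smul, h, smul_zero] at hv
    exact hv rfl
  rw [injective_iff_map_eq_zero]
  intro u hu
  obtain ⟨d, rfl⟩ := hω u
  rw [map_smul, ← algebraMap_smul K d (f ω)] at hu
  rcases smul_eq_zero.mp hu with h | h
  · rw [(map_eq_zero (algebraMap K₀ K)).mp h, zero_smul]
  · exact absurd h hfω

open KaehlerDifferential Groth.Agent.Lib.Helper97.FunFldSep in
theorem aux (k₀ k : Type u) (K₀ K : Type v) [Field k₀] [Field k] [Field K₀] [Field K]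
    [Algebra k₀ k] [Algebra k₀ K₀] [Algebra k₀ K] [Algebra k K] [Algebra K₀ K]
    [IsScalarTower k₀ k K] [IsScalarTower k₀ K₀ K] [FiniteDimensional K₀ K]
    (p : ℕ) [Fact p.Prime] [CharP K p]
    (hK : FunFld.IsFunctionField k K) (hg : FunFld.IsGeometric k K)
    (hK₀ : FunFld.IsFunctionField k₀ K₀) (hg₀ : FunFld.IsGeometric k₀ K₀) :
    (Set.range (algebraMap K₀ K) ⊆
        ↑(IntermediateField.adjoin k (Set.range fun y : K => y ^ p)) →
      KaehlerDifferential.map k₀ k K₀ K = 0) ∧
    (¬ Set.range (algebraMap K₀ K) ⊆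
        ↑(IntermediateField.adjoin k (Set.range fun y : K => y ^ p)) →
      Function.Injective (KaehlerDifferential.map k₀ k K₀ K)) := by
  obtain ⟨t, ht, hsep⟩ := exists_sepVar hK hg
  constructor
  · intro h
    apply Derivation.liftKaehlerDifferential_unique
    ext a
    simp only [Derivation.coe_comp, LinearMap.coe_comp, Function.comp_apply,
      Derivation.coeFn_coe, LinearMap.coe_restrictScalars, LinearMap.zero_apply]
    rw [KaehlerDifferential.map_D]
    exact D_eq_zero_of_mem_kKp p (h ⟨a, rfl⟩)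
  · intro h
    rw [Set.not_subset] at h
    obtain ⟨_, ⟨x₀, rfl⟩, hx₀⟩ := h
    have hD : D k K (algebraMap K₀ K x₀) ≠ 0 := fun h0 =>
      hx₀ (mem_kKp_of_D_eq_zero p t ht _ h0)
    have h1 : Module.finrank K₀ (Ω[K₀⁄k₀]) = 1 := Groth.Agent.S11003.aux k₀ K₀ hK₀ hg₀
    refine injective_of_finrank_eq_one (K := K) h1 _ (D k₀ K₀ x₀) ?_
    rw [KaehlerDifferential.map_D]
    exact hD

/-- For a geometric function field of one variable `K/k` of characteristic `p > 0` and a geometric
function field `K₀/k₀` with `K₀ ⊆ K` of finite index (and `k₀ ⊆ k` compatibly), the map `Ω_{K₀/k₀} →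
Ω_{K/k}` induced by the inclusion vanishes when `K₀ ⊆ kK^p` and is injective otherwise. -/
theorem result (k₀ k : Type u) (K₀ K : Type v) [Field k₀] [Field k] [Field K₀] [Field K]
    [Algebra k₀ k] [Algebra k₀ K₀] [Algebra k₀ K] [Algebra k K] [Algebra K₀ K]
    [IsScalarTower k₀ k K] [IsScalarTower k₀ K₀ K] [FiniteDimensional K₀ K]
    (p : ℕ) [Fact p.Prime] [CharP K p]
    (hK : FunFld.IsFunctionField k K) (hg : FunFld.IsGeometric k K)
    (hK₀ : FunFld.IsFunctionField k₀ K₀) (hg₀ : FunFld.IsGeometric k₀ K₀) :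
    (Set.range (algebraMap K₀ K) ⊆ ↑(IntermediateField.adjoin k (Set.range fun y : K => y ^ p)) →
      KaehlerDifferential.map k₀ k K₀ K = 0) ∧
    (¬ Set.range (algebraMap K₀ K) ⊆ ↑(IntermediateField.adjoin k (Set.range fun y : K => y ^ p)) →
      Function.Injective (KaehlerDifferential.map k₀ k K₀ K)) := by
  exact aux k₀ k K₀ K p hK hg hK₀ hg₀

end Groth.Agent.S12520
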