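import Groth.Statements.S12521
import Groth.Agent.Lib.Helper44.FunFldInertia4

set_option autoImplicit false
open FunFld

namespace Groth.Agent.S12521

/-- For a finite Galois extension `K'/K` of a geometric function field of one variable, a place `Q` of
`K'` with residue field separable over `k`, and `K₁` the inertia field of `Q` (fixed field of the
inertia group), `K'/K₁` is totally ramified at `Q`: the place of `K₁` under `Q` has ramification
index `[K' : K₁]`. (The published hypothesis is that the residue field of `Q` is separable over the
residue field of the place of `K` below `Q`; this row assumes the stronger condition that the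
residue field of `Q` is separable over `k`.) -/
theorem result (k K K' : Type*) [Field k] [Field K] [Field K'] [Algebra k K] [Algebra K K'] [Algebra k K']
    [IsScalarTower k K K'] [FiniteDimensional K K'] (hK : FunFld.IsFunctionField k K) (hg : FunFld.IsGeometric k K)
    [IsGalois K K'] (Q : FunFld.Place k K') [Algebra.IsSeparable k (IsLocalRing.ResidueField Q.O)] :
    let K₁ : IntermediateField K K' := IntermediateField.fixedField
        (((Q.O).inertiaSubgroup K).map ((Q.O).decompositionSubgroup K).subtype)
    ∃ Q₁ : FunFld.Place k K₁, FunFld.IsOverWith Q Q₁ (Module.finrank K₁ K') := by
  intro K₁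
  have h := Groth.Agent.Lib.Helper44.FFExt.exists_isOverWith_fixedField hK Q
    (((Q.O).inertiaSubgroup K).map ((Q.O).decompositionSubgroup K).subtype)
    (fun σ hσ => by
      rw [Groth.Agent.Lib.Helper44.FFExt.inertiaSubgroup_map_eq] at hσ
      exact hσ)
  rw [← IntermediateField.finrank_fixedField_eq_card] at h
  exact h

end Groth.Agent.S12521
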