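import Groth.Statements.S12524
-- import your own Groth.Agent.* helpers here
import Mathlib.RingTheory.LocalRing.ResidueField.Basic
import Mathlib.RingTheory.AdicCompletion.RingHom
import Mathlib.RingTheory.PowerSeries.Trunc
import Mathlib.RingTheory.PowerSeries.Inverse
import Mathlib.RingTheory.PowerSeries.NoZeroDivisors
import Mathlib.RingTheory.Filtration

set_option autoImplicit false
universe u v
open CAlg

namespace Groth.Agent.S12524

section aux

variable {K : Type u} {A : Type v} [Field K] [CommRing A] [Algebra K A]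

noncomputable def ev (x : A) (n : ℕ) (f : PowerSeries K) : A :=
  Polynomial.aeval x (PowerSeries.trunc n f)

theorem ev_eq_sum (x : A) (n : ℕ) (f : PowerSeries K) :
    ev x n f = ∑ i ∈ Finset.range n, algebraMap K A (PowerSeries.coeff i f) * x ^ i :=
  PowerSeries.eval₂_trunc_eq_sum_range x (algebraMap K A) n f

theorem ev_mul (x : A) (n : ℕ) (f g : PowerSeries K) :
    ∃ r : A, ev x n f * ev x n g = ev x n (f * g) + x ^ n * r := by
  set P : Polynomial K := PowerSeries.trunc n f * PowerSeries.trunc n g with hP
  have h1 : PowerSeries.trunc n (f * g) = PowerSeries.trunc n (P : PowerSeries K) := by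
    rw [hP, Polynomial.coe_mul, PowerSeries.trunc_trunc_mul_trunc]
  have h2 : (Polynomial.X : Polynomial K) ^ n ∣ P - PowerSeries.trunc n (P : PowerSeries K) := by
    rw [Polynomial.X_pow_dvd_iff]
    intro d hd
    rw [Polynomial.coeff_sub, PowerSeries.coeff_trunc, if_pos hd, Polynomial.coeff_coe, sub_self]
  obtain ⟨Q, hQ⟩ := h2
  refine ⟨Polynomial.aeval x Q, ?_⟩
  have h3 := congrArg (Polynomial.aeval x) hQ
  simp only [map_sub, map_mul, map_pow, Polynomial.aeval_X] at h3
  simp only [ev, h1]
  rw [← h3, hP, map_mul]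
  ring

end aux

section aux2

variable {K : Type u} {A : Type v} [Field K] [CommRing A] [Algebra K A]

theorem ev_one (x : A) (n : ℕ) : ev x (n + 1) (1 : PowerSeries K) = 1 := by
  simp [ev, PowerSeries.trunc_one]

theorem ev_algebraMap (x : A) (n : ℕ) (c : K) :
    ev x (n + 1) (algebraMap K (PowerSeries K) c) = algebraMap K A c := by
  have : algebraMap K (PowerSeries K) c = PowerSeries.C c := rfl
  rw [this]
  simp [ev, PowerSeries.trunc_C]

theorem ev_add (x : A) (n : ℕ) (f g : PowerSeries K) : ev x n (f + g) = ev x n f + ev x n g := by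
  simp [ev]

theorem ev_zero (x : A) (n : ℕ) : ev x n (0 : PowerSeries K) = 0 := by
  simp [ev]

theorem ev_sub_mem (I : Ideal A) (x : A) (hx : x ∈ I) {m n : ℕ} (hmn : m ≤ n) (f : PowerSeries K) :
    ev x n f - ev x m f ∈ I ^ m := by
  rw [ev_eq_sum, ev_eq_sum, Finset.range_eq_Ico, Finset.range_eq_Ico,
    ← Finset.sum_Ico_consecutive _ (Nat.zero_le m) hmn, add_sub_cancel_left]
  apply Ideal.sum_mem
  intro i hi
  apply Ideal.mul_mem_left
  exact Ideal.pow_le_pow_right (Finset.mem_Ico.mp hi).1 (Ideal.pow_mem_pow hx i)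

noncomputable def fn (I : Ideal A) (x : A) (hx : x ∈ I) (n : ℕ) : PowerSeries K →ₐ[K] A ⧸ I ^ n where
  toFun f := Ideal.Quotient.mk (I ^ n) (ev x n f)
  map_one' := by
    cases n with
    | zero =>
      have : Subsingleton (A ⧸ I ^ 0) := by
        rw [Ideal.Quotient.subsingleton_iff, pow_zero, Ideal.one_eq_top]
      exact Subsingleton.elim _ _
    | succ n => rw [ev_one, map_one]
  map_mul' f g := by
    obtain ⟨r, hr⟩ := ev_mul x n f g
    rw [← map_mul, hr, eq_comm, Ideal.Quotient.eq]
    simp only [add_sub_cancel_left]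
    exact Ideal.mul_mem_right _ _ (Ideal.pow_mem_pow hx n)
  map_zero' := by rw [ev_zero, map_zero]
  map_add' f g := by rw [ev_add, map_add]
  commutes' c := by
    cases n with
    | zero =>
      have : Subsingleton (A ⧸ I ^ 0) := by
        rw [Ideal.Quotient.subsingleton_iff, pow_zero, Ideal.one_eq_top]
      exact Subsingleton.elim _ _
    | succ n =>
      rw [ev_algebraMap]
      rfl

end aux2

open IsLocalRing in
/-- Let `A` be a complete discrete valuation ring with maximal ideal `m`, containing a field `K` such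
that `K → A → A/m` is bijective (a coefficient field), and let `x` be any generator of `m`. Then the
`K`-algebra map `K[X] → A`, `X ↦ x`, extends to a bijective `K`-algebra map `φ : K⟦X⟧ → A`,
characterised by `φ(∑ aᵢ Xⁱ) ≡ ∑_{i<n} aᵢ xⁱ (mod mⁿ)` for every `n`. -/
theorem result (K : Type u) (A : Type v) [Field K]
    [CommRing A] [IsDomain A] [IsDiscreteValuationRing A] [Algebra K A]
    [IsAdicComplete (maximalIdeal A) A]
    (hK : Function.Bijective ((residue A).comp (algebraMap K A)))
    (x : A) (hx : maximalIdeal A = Ideal.span {x}) :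
    ∃ φ : PowerSeries K →ₐ[K] A, φ PowerSeries.X = x ∧ Function.Bijective φ ∧
      ∀ (f : PowerSeries K) (n : ℕ),
        φ f - (Finset.range n).sum (fun i => algebraMap K A (PowerSeries.coeff i f) * x ^ i) ∈
          maximalIdeal A ^ n := by
  classical
  have hxm : x ∈ maximalIdeal A := by rw [hx]; exact Ideal.mem_span_singleton_self x
  have hcompat : ∀ {a b : ℕ} (hle : a ≤ b),
      (Ideal.Quotient.factorₐ K (Ideal.pow_le_pow_right hle)).comp (fn (maximalIdeal A) x hxm b) = fn (maximalIdeal A) x hxm a := by
    intro a b hle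
    refine AlgHom.ext fun f => ?_
    show Ideal.Quotient.mk ((maximalIdeal A) ^ a) (ev x b f) = Ideal.Quotient.mk ((maximalIdeal A) ^ a) (ev x a f)
    rw [Ideal.Quotient.eq]
    exact ev_sub_mem (maximalIdeal A) x hxm hle f
  let φ : PowerSeries K →ₐ[K] A := IsAdicComplete.liftAlgHom (maximalIdeal A) (fn (maximalIdeal A) x hxm) hcompat
  have h3 : ∀ (f : PowerSeries K) (n : ℕ),
      φ f - ∑ i ∈ Finset.range n, algebraMap K A (PowerSeries.coeff i f) * x ^ i ∈ (maximalIdeal A) ^ n := by
    intro f n
    have h := IsAdicComplete.mk_liftAlgHom (maximalIdeal A) (fn (maximalIdeal A) x hxm) hcompat n f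
    have h' : fn (maximalIdeal A) x hxm n f = Ideal.Quotient.mk ((maximalIdeal A) ^ n) (ev x n f) := rfl
    rw [h'] at h
    rw [← ev_eq_sum, ← Ideal.Quotient.eq]
    exact h
  have hinf : ⨅ i, (maximalIdeal A) ^ i = ⊥ :=
    Ideal.iInf_pow_eq_bot_of_isLocalRing (maximalIdeal A) (Ideal.IsPrime.ne_top inferInstance)
  have hsep : ∀ a : A, (∀ n, a ∈ (maximalIdeal A) ^ n) → a = 0 := by
    intro a ha
    have : a ∈ ⨅ i, (maximalIdeal A) ^ i := Ideal.mem_iInf.mpr ha
    rwa [hinf] at this
  have hX : φ PowerSeries.X = x := by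
    rw [← sub_eq_zero]
    apply hsep
    intro n
    have h := h3 PowerSeries.X (n + 2)
    have hs : ∑ i ∈ Finset.range (n + 2),
        algebraMap K A (PowerSeries.coeff i (PowerSeries.X : PowerSeries K)) * x ^ i = x := by
      rw [Finset.sum_eq_single 1]
      · simp
      · intro i _ hi
        simp [PowerSeries.coeff_X, hi]
      · intro h
        exfalso
        apply h
        simp
    rw [hs] at h
    exact Ideal.pow_le_pow_right (by omega) h
  have hx0 : x ≠ 0 := by
    intro h0
    have : maximalIdeal A = ⊥ := by rw [hx, h0]; exact Ideal.span_singleton_eq_bot.mpr rfl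
    exact IsDiscreteValuationRing.not_a_field A this
  have hinj : Function.Injective φ := by
    rw [injective_iff_map_eq_zero]
    intro f hf
    by_contra hne
    have hne' : Ideal.span {f} ≠ ⊥ := by
      rw [Ne, Ideal.span_singleton_eq_bot]
      exact hne
    obtain ⟨d, hd⟩ := IsDiscreteValuationRing.ideal_eq_span_pow_irreducible hne'
      (PowerSeries.X_irreducible (R := K))
    have hmem : (PowerSeries.X : PowerSeries K) ^ d ∈ Ideal.span {f} := by
      rw [hd]
      exact Ideal.mem_span_singleton_self _
    obtain ⟨g, hg⟩ := Ideal.mem_span_singleton'.mp hmem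
    have h0 : φ ((PowerSeries.X : PowerSeries K) ^ d) = 0 := by
      rw [← hg, map_mul, hf, mul_zero]
    rw [map_pow, hX] at h0
    exact pow_ne_zero d hx0 h0
  have hsurj : Function.Surjective φ := by
    intro a
    have hstep : ∀ r : A, ∃ c : K, ∃ r' : A, r = algebraMap K A c + x * r' := by
      intro r
      obtain ⟨c, hc⟩ := hK.2 (residue A r)
      have hmem : r - algebraMap K A c ∈ maximalIdeal A := by
        rw [← residue_eq_zero_iff, map_sub, ← hc]
        simp
      rw [hx, Ideal.mem_span_singleton'] at hmem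
      obtain ⟨r', hr'⟩ := hmem
      exact ⟨c, r', by rw [mul_comm, hr']; ring⟩
    choose cf rf hrf using hstep
    let rs : ℕ → A := fun n => rf^[n] a
    let c : ℕ → K := fun n => cf (rs n)
    have hsum : ∀ n, a = ∑ i ∈ Finset.range n, algebraMap K A (c i) * x ^ i + x ^ n * rs n := by
      intro n
      induction n with
      | zero => simp [rs]
      | succ n ih =>
        rw [Finset.sum_range_succ]
        have h1 : rs (n + 1) = rf (rs n) := Function.iterate_succ_apply' rf n a
        rw [h1]
        have h := hrf (rs n)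
        have h2 : x ^ n * rs n = x ^ n * (algebraMap K A (c n) + x * rf (rs n)) := by
          congr 1
        conv_lhs => rw [ih, h2]
        ring
    refine ⟨PowerSeries.mk c, ?_⟩
    rw [← sub_eq_zero]
    apply hsep
    intro n
    have h := h3 (PowerSeries.mk c) n
    simp only [PowerSeries.coeff_mk] at h
    have h' : a - ∑ i ∈ Finset.range n, algebraMap K A (c i) * x ^ i ∈ (maximalIdeal A) ^ n := by
      have h4 : a - ∑ i ∈ Finset.range n, algebraMap K A (c i) * x ^ i = x ^ n * rs n := by
        conv_lhs => rw [hsum n]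
        ring
      rw [h4]
      exact Ideal.mul_mem_right _ _ (Ideal.pow_mem_pow hxm n)
    have h5 := sub_mem h h'
    have h6 : φ (PowerSeries.mk c) - ∑ i ∈ Finset.range n, algebraMap K A (c i) * x ^ i -
        (a - ∑ i ∈ Finset.range n, algebraMap K A (c i) * x ^ i) = φ (PowerSeries.mk c) - a := by
      ring
    rwa [h6] at h5
  exact ⟨φ, hX, ⟨hinj, hsurj⟩, h3⟩

end Groth.Agent.S12524
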