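import Groth.Statements.S12535
import Groth.Agent.Lib.Helper44.FunFldRatPlace

set_option autoImplicit false
open FunFld

namespace Groth.Agent.S12535

/-- Let `char k ≠ 2`, `K` of degree `2` over `k(x)`, and `y ∈ K` with `y² = f(x)`, `f` a squarefree
polynomial of degree `≥ 1`. Then a place `P` of `K` is a zero of `y` exactly when it lies over a
finite place of `k(x)` where `f` has a zero, and in that case `ord_P(y) = 1`: the divisor of zeros
of `y` is `Σ P_i`, one place over each irreducible factor of `f`, with multiplicity one. -/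
theorem result (k K : Type*) [Field k] [Field K] (h2 : ringChar k ≠ 2) [Algebra k K]
    [Algebra (RatFunc k) K] [IsScalarTower k (RatFunc k) K]
    (hdeg : Module.finrank (RatFunc k) K = 2) (y : K) (f : Polynomial k) (hf : Squarefree f)
    (hd : 1 ≤ f.natDegree)
    (heq : y ^ 2 = algebraMap (RatFunc k) K (algebraMap (Polynomial k) (RatFunc k) f)) (P : FunFld.Place k K) :
    (0 < P.ord y → P.ord y = 1) ∧
    (0 < P.ord y ↔ ∃ P₀ : FunFld.Place k (RatFunc k), FunFld.IsOver P P₀ ∧ 0 ≤ P₀.ord (RatFunc.X : RatFunc k) ∧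
      0 < P₀.ord (algebraMap (Polynomial k) (RatFunc k) f)) := by
  classical
  haveI : FiniteDimensional (RatFunc k) K :=
    Module.finite_of_finrank_pos (by rw [hdeg]; norm_num)
  haveI : Algebra.IsAlgebraic (RatFunc k) K := Algebra.IsAlgebraic.of_finite _ _
  have hf0 : f ≠ 0 := hf.ne_zero
  -- key relation: `2 ord_P y = e ord_{P₀} f`
  have key : ∀ P₀ : FunFld.Place k (RatFunc k), FunFld.IsOver P P₀ →
      2 * P.ord y = (FunFld.ramIdx P P₀ : ℤ) *
        P₀.ord (algebraMap (Polynomial k) (RatFunc k) f) := by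
    intro P₀ h
    rw [← Groth.Agent.Lib.Helper44.FFExt.isOverWith_ord_eq
      (Groth.Agent.Lib.Helper44.FFExt.isOverWith_ramIdx h), ← heq,
      Groth.Agent.Lib.Helper88.FF.ord_pow]
    push_cast
    ring
  obtain ⟨P₁, hP₁⟩ := Groth.Agent.Lib.Helper44.FFExt.exists_isOver_below (K := RatFunc k) P
  have hforward : 0 < P.ord y → 0 ≤ P₁.ord (RatFunc.X : RatFunc k) ∧
      0 < P₁.ord (algebraMap (Polynomial k) (RatFunc k) f) := by
    intro hpos
    have hk := key P₁ hP₁
    have he : 0 < (FunFld.ramIdx P P₁ : ℤ) := by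
      exact_mod_cast Groth.Agent.Lib.Helper44.FFExt.ramIdx_pos hP₁
    have hFpos : 0 < P₁.ord (algebraMap (Polynomial k) (RatFunc k) f) := by
      by_contra hcon
      push Not at hcon
      have := mul_nonpos_of_nonneg_of_nonpos he.le hcon
      linarith
    refine ⟨?_, hFpos⟩
    by_contra hcon
    push Not at hcon
    have := Groth.Agent.Lib.Helper44.FFExt.ord_poly_of_pole hcon hf0
    rw [this] at hFpos
    omega
  refine ⟨?_, ?_, ?_⟩
  · intro hpos
    obtain ⟨hX, hFpos⟩ := hforward hpos
    have h1 := Groth.Agent.Lib.Helper44.FFExt.ord_squarefree_of_pos hX hf hFpos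
    have hk := key P₁ hP₁
    rw [h1, mul_one] at hk
    have hle := Groth.Agent.Lib.Helper44.FFExt.ramIdx_le_finrank hP₁
    rw [hdeg] at hle
    have : (FunFld.ramIdx P P₁ : ℤ) ≤ 2 := by exact_mod_cast hle
    omega
  · intro hpos
    exact ⟨P₁, hP₁, hforward hpos⟩
  · rintro ⟨P₀, hP₀, hX, hFpos⟩
    have hk := key P₀ hP₀
    have he : 0 < (FunFld.ramIdx P P₀ : ℤ) := by
      exact_mod_cast Groth.Agent.Lib.Helper44.FFExt.ramIdx_pos hP₀
    have := mul_pos he hFpos
    linarith

end Groth.Agent.S12535
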