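import Groth.Statements.S12545
import Groth.Agent.Lib.Helper29.MuLib

set_option autoImplicit false
universe u
open TensorProduct LaurentPolynomial
open GIT

namespace Groth.Agent.S12545

/-- Let a commutative bialgebra A over a field k coact linearly on affine ι-space, let λ be a
one-parameter subgroup (a bialgebra map to the Laurent polynomial ring) and v ≠ 0 a vector; write
μ(v, λ) = m when t^m · (v moved by λ(t)) extends to the affine line with non-zero value at t = 0.
Then v moved by λ(t) has no limit as t → 0 exactly when μ(v, λ) > 0, has a limit different from the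
origin exactly when μ(v, λ) = 0, and tends to the origin exactly when μ(v, λ) < 0. -/
theorem result (k : Type u) [Field k] (A : Type u) [CommRing A] [Bialgebra k A]
    (ι : Type u) [Fintype ι] [HopfRep.Comod k A (MvPolynomial ι k)] [GLin.IsCoactAlg k A (MvPolynomial ι k)]
    (hlin : GLin.IsLinear k A ι) (lam : A →ₐc[k] k[T;T⁻¹]) (v : ι → k) (hv : v ≠ 0) :
    (¬ GLin.HasLimit k A lam (GLin.vecPt k ι v) ↔ ∃ m : ℤ, GLin.IsMu k A lam v m ∧ 0 < m) ∧
      ((GLin.HasLimit k A lam (GLin.vecPt k ι v) ∧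
          ¬ GLin.IsLimit k A lam (GLin.vecPt k ι v) (GLin.vecPt k ι (fun _ => (0 : k)))) ↔
        GLin.IsMu k A lam v 0) ∧
      (GLin.IsLimit k A lam (GLin.vecPt k ι v) (GLin.vecPt k ι (fun _ => (0 : k))) ↔
        ∃ m : ℤ, GLin.IsMu k A lam v m ∧ m < 0) := by
  obtain ⟨m₀, hm₀, -⟩ := Lib.Helper29.MuLib.existsUnique_isMu lam hv
  have hm₀' := (Lib.Helper29.MuLib.isMu_iff lam v m₀).mp hm₀
  obtain ⟨h1, i₀, hi₀⟩ := hm₀'
  refine ⟨?_, ?_, ?_⟩
  · rw [Lib.Helper29.MuLib.hasLimit_iff]
    constructor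
    · intro h
      push Not at h
      obtain ⟨i, n, hn, hne⟩ := h
      refine ⟨m₀, hm₀, ?_⟩
      by_contra hle
      exact hne (h1 i n (by omega))
    · rintro ⟨m, hm, hpos⟩ hall
      obtain ⟨-, i, hi⟩ := (Lib.Helper29.MuLib.isMu_iff lam v m).mp hm
      exact hi (hall i (-m) (by omega))
  · rw [Lib.Helper29.MuLib.hasLimit_iff, Lib.Helper29.MuLib.isLimit_zero_iff,
      Lib.Helper29.MuLib.isMu_iff]
    constructor
    · rintro ⟨hlim, hnot⟩
      push Not at hnot
      obtain ⟨i, n, hn, hne⟩ := hnot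
      refine ⟨fun i n hn => hlim i n (by omega), i, ?_⟩
      rcases lt_or_eq_of_le hn with hlt | rfl
      · exact absurd (hlim i n hlt) hne
      · simpa using hne
    · rintro ⟨hlim, i, hi⟩
      refine ⟨fun i n hn => hlim i n (by omega), fun hall => hi ?_⟩
      simpa using hall i 0 le_rfl
  · rw [Lib.Helper29.MuLib.isLimit_zero_iff]
    constructor
    · intro hall
      refine ⟨m₀, hm₀, ?_⟩
      by_contra hle
      exact hi₀ (hall i₀ (-m₀) (by omega))
    · rintro ⟨m, hm, hneg⟩ i n hn
      obtain ⟨h2, -⟩ := (Lib.Helper29.MuLib.isMu_iff lam v m).mp hm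
      exact h2 i n (by omega)


end Groth.Agent.S12545
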