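import Groth.Statements.S12550
-- import your own Groth.Agent.* helpers here
import Mathlib.LinearAlgebra.FiniteDimensional.Lemmas

set_option autoImplicit false
universe u
open GIT

namespace Groth.Agent.S12550

/-- Let V be a finite-dimensional vector space over a field K and x_0, …, x_m non-zero vectors, a
configuration of m + 1 points of the projective space P(V). If for every subspace L with 0 ≠ L ≠ V
the number of indices i with x_i ∈ L, multiplied by dim V, is less than dim L · (m + 1) (the
configuration is stable), then no two proper subspaces L', L'' with L' ∩ L'' = 0 contain between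
them all the x_i. -/
theorem result (K : Type u) [Field K]
    (V : Type u) [AddCommGroup V] [Module K V] [FiniteDimensional K V]
    (m : ℕ) (x : Fin (m + 1) → V) (hx : ∀ i, x i ≠ 0)
    (hst : ∀ L : Submodule K V, L ≠ ⊥ → L ≠ ⊤ →
      Set.ncard {i : Fin (m + 1) | x i ∈ L} * Module.finrank K V < Module.finrank K L * (m + 1)) :
    ¬ ∃ L' L'' : Submodule K V, L' ≠ ⊤ ∧ L'' ≠ ⊤ ∧ Disjoint L' L'' ∧ ∀ i, x i ∈ L' ∨ x i ∈ L'' := by
  classical
  rintro ⟨L', L'', hL', hL'', hdisj, hcov⟩
  set n := Module.finrank K V with hn
  -- cardinalities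
  have hfin : ∀ L : Submodule K V, Set.ncard {i : Fin (m + 1) | x i ∈ L} =
      (Finset.univ.filter (fun i => x i ∈ L)).card := by
    intro L
    rw [← Set.ncard_coe_finset]
    congr 1
    ext i
    simp
  have hcard : m + 1 ≤ Set.ncard {i : Fin (m + 1) | x i ∈ L'} + Set.ncard {i : Fin (m + 1) | x i ∈ L''} := by
    rw [hfin, hfin]
    have h1 : (Finset.univ : Finset (Fin (m + 1))) ⊆
        (Finset.univ.filter (fun i => x i ∈ L')) ∪ (Finset.univ.filter (fun i => x i ∈ L'')) := by
      intro i _
      rcases hcov i with h | h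
      · exact Finset.mem_union_left _ (by simpa using h)
      · exact Finset.mem_union_right _ (by simpa using h)
    have h2 := Finset.card_le_card h1
    have h3 := Finset.card_union_le (Finset.univ.filter (fun i => x i ∈ L')) (Finset.univ.filter (fun i => x i ∈ L''))
    simp only [Finset.card_univ, Fintype.card_fin] at h2
    omega
  have hdim : Module.finrank K L' + Module.finrank K L'' ≤ n := by
    have h := Submodule.finrank_sup_add_finrank_inf_eq L' L''
    have h0 : L' ⊓ L'' = ⊥ := hdisj.eq_bot
    rw [h0, finrank_bot, add_zero] at h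
    rw [← h]
    exact Submodule.finrank_le _
  have hbot : ∀ L : Submodule K V, L = ⊥ → Set.ncard {i : Fin (m + 1) | x i ∈ L} = 0 := by
    intro L hL
    subst hL
    have : {i : Fin (m + 1) | x i ∈ (⊥ : Submodule K V)} = ∅ := by
      ext i
      simp [hx i]
    rw [this, Set.ncard_empty]
  have hle : ∀ L : Submodule K V, Set.ncard {i : Fin (m + 1) | x i ∈ L} ≤ m + 1 := by
    intro L
    rw [hfin]
    have := Finset.card_filter_le (Finset.univ : Finset (Fin (m + 1))) (fun i => x i ∈ L)
    simpa using this
  have hlt : ∀ L : Submodule K V, L ≠ ⊤ → Module.finrank K L < n := by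
    intro L hL
    exact Submodule.finrank_lt hL
  by_cases h1 : L' = ⊥
  · have c1 := hbot L' h1
    by_cases h2 : L'' = ⊥
    · have c2 := hbot L'' h2
      omega
    · have s2 := hst L'' h2 hL''
      have l2 := hlt L'' hL''
      have e2 : Set.ncard {i : Fin (m + 1) | x i ∈ L''} = m + 1 := by
        have := hle L''
        omega
      rw [e2] at s2
      have : Module.finrank K L'' * (m + 1) < n * (m + 1) := Nat.mul_lt_mul_of_pos_right l2 (Nat.succ_pos m)
      rw [Nat.mul_comm (m + 1) n] at s2
      omega
  · by_cases h2 : L'' = ⊥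
    · have c2 := hbot L'' h2
      have s1 := hst L' h1 hL'
      have l1 := hlt L' hL'
      have e1 : Set.ncard {i : Fin (m + 1) | x i ∈ L'} = m + 1 := by
        have := hle L'
        omega
      rw [e1] at s1
      have : Module.finrank K L' * (m + 1) < n * (m + 1) := Nat.mul_lt_mul_of_pos_right l1 (Nat.succ_pos m)
      rw [Nat.mul_comm (m + 1) n] at s1
      omega
    · have s1 := hst L' h1 hL'
      have s2 := hst L'' h2 hL''
      have h3 : (Set.ncard {i : Fin (m + 1) | x i ∈ L'} + Set.ncard {i : Fin (m + 1) | x i ∈ L''}) * n <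
          (Module.finrank K L' + Module.finrank K L'') * (m + 1) := by
        rw [add_mul, add_mul]
        exact add_lt_add s1 s2
      have h4 : (Module.finrank K L' + Module.finrank K L'') * (m + 1) ≤ n * (m + 1) :=
        Nat.mul_le_mul_right _ hdim
      have h5 : (m + 1) * n ≤ (Set.ncard {i : Fin (m + 1) | x i ∈ L'} + Set.ncard {i : Fin (m + 1) | x i ∈ L''}) * n :=
        Nat.mul_le_mul_right _ hcard
      rw [Nat.mul_comm (m + 1) n] at h5
      omega

end Groth.Agent.S12550
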