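import Groth.Statements.S12553
import Groth.Agent.Lib.Helper29.MuLib
import Mathlib.RingTheory.Coalgebra.GroupLike
import Mathlib.LinearAlgebra.Basis.Basic

set_option autoImplicit false
universe u
open TensorProduct LaurentPolynomial
open GIT

namespace Groth.Agent.S12553

section aux

open Groth.Agent.Lib.Helper29.MuLib

variable {k : Type u} [Field k] {A : Type u} [CommRing A] [Bialgebra k A]

/-- the basis of group-like elements of a diagonalizable bialgebra -/
noncomputable def glBasis (hdiag : HopfRep.IsDiagonalizable k A) :
    Module.Basis (GroupLike k A) k A :=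
  Module.Basis.mk (v := GroupLike.val (R := k) (A := A)) linearIndep_groupLikeVal (by
    have : Set.range (GroupLike.val (R := k) (A := A)) = {a : A | IsGroupLikeElem k a} := by
      ext a
      constructor
      · rintro ⟨g, rfl⟩
        exact g.isGroupLikeElem_val
      · intro ha
        exact ⟨⟨a, ha⟩, rfl⟩
    rw [this]
    exact hdiag.ge)

theorem glBasis_apply (hdiag : HopfRep.IsDiagonalizable k A) (g : GroupLike k A) :
    glBasis hdiag g = g.val := Module.Basis.mk_apply _ _ g

open scoped Classical in
theorem coord_comul (hdiag : HopfRep.IsDiagonalizable k A) (g g' : GroupLike k A) (a : A) :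
    LinearMap.mul' k k (TensorProduct.map ((glBasis hdiag).coord g) ((glBasis hdiag).coord g')
      (Coalgebra.comul (R := k) a)) = if g = g' then (glBasis hdiag).coord g a else 0 := by
  have : LinearMap.mul' k k ∘ₗ TensorProduct.map ((glBasis hdiag).coord g)
      ((glBasis hdiag).coord g') ∘ₗ (Coalgebra.comul (R := k) (A := A)) =
      if g = g' then (glBasis hdiag).coord g else 0 := by
    apply (glBasis hdiag).ext
    intro h
    simp only [LinearMap.comp_apply]
    rw [glBasis_apply, h.isGroupLikeElem_val.comul_eq_tmul_self, TensorProduct.map_tmul,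
      LinearMap.mul'_apply, ← glBasis_apply hdiag h, Module.Basis.coord_apply,
      Module.Basis.coord_apply, Module.Basis.repr_self_apply, Module.Basis.repr_self_apply]
    split_ifs with h1 h2 h3 h4 h5 <;> simp_all [Module.Basis.coord_apply]
  have := LinearMap.congr_fun this a
  simp only [LinearMap.comp_apply] at this
  rw [this]
  split_ifs <;> rfl

theorem expand (hdiag : HopfRep.IsDiagonalizable k A) {N : ℕ} (gl : Fin N → GroupLike k A)
    (hgl : Function.Injective gl) {a : A}
    (ha : a ∈ Submodule.span k (Set.range fun l => (gl l).val)) :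
    a = ∑ l, (glBasis hdiag).coord (gl l) a • (gl l).val := by
  classical
  let φ : A →ₗ[k] A := ∑ l, ((glBasis hdiag).coord (gl l)).smulRight (gl l).val
  have hEq : Set.EqOn (LinearMap.id : A →ₗ[k] A) φ (Set.range fun l => (gl l).val) := by
    rintro _ ⟨l', rfl⟩
    simp only [LinearMap.id_apply, φ, LinearMap.sum_apply, LinearMap.smulRight_apply]
    rw [Finset.sum_eq_single l']
    · rw [← glBasis_apply hdiag (gl l'), Module.Basis.coord_apply, Module.Basis.repr_self_apply,
        if_pos rfl, one_smul]
    · intro l _ hne
      rw [← glBasis_apply hdiag (gl l'), Module.Basis.coord_apply, Module.Basis.repr_self_apply,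
        if_neg (fun h => hne (hgl h).symm), zero_smul]
    · intro h
      exact absurd (Finset.mem_univ _) h
  have := LinearMap.eqOn_span hEq ha
  simpa [φ] using this

variable {ι : Type u} [Fintype ι] [HopfRep.Comod k A (MvPolynomial ι k)]
  [GLin.IsCoactAlg k A (MvPolynomial ι k)]

/-- contraction of the polynomial factor with a point -/
noncomputable def Phi (x : MvPolynomial ι k →ₐ[k] k) (B : Type u) [AddCommGroup B] [Module k B] :
    MvPolynomial ι k ⊗[k] B →ₗ[k] B :=
  (TensorProduct.lid k B).toLinearMap ∘ₗ TensorProduct.map x.toLinearMap LinearMap.id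

omit [Fintype ι] [HopfRep.Comod k A (MvPolynomial ι k)]
  [GLin.IsCoactAlg k A (MvPolynomial ι k)] in
@[simp] theorem Phi_tmul (x : MvPolynomial ι k →ₐ[k] k) (B : Type u) [AddCommGroup B] [Module k B]
    (f : MvPolynomial ι k) (b : B) : Phi x B (f ⊗ₜ[k] b) = x f • b := by
  simp [Phi]

omit [Fintype ι] in
theorem orbitHom_eq_Phi (x : MvPolynomial ι k →ₐ[k] k) (f : MvPolynomial ι k) :
    GLin.orbitHom k A x f = Phi x A (HopfRep.Comod.coact (k := k) (A := A) f) := by
  have h1 : ∀ z : MvPolynomial ι k ⊗[k] A, (Algebra.TensorProduct.lid k A)
      (Algebra.TensorProduct.map x (AlgHom.id k A) z) = Phi x A z := by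
    intro z
    induction z using TensorProduct.induction_on with
    | zero => simp
    | tmul r a => simp
    | add z w hz hw => simp only [map_add, hz, hw]
  exact h1 _

omit [Fintype ι] in
theorem comul_orbitHom (x : MvPolynomial ι k →ₐ[k] k) (f : MvPolynomial ι k) :
    Coalgebra.comul (R := k) (GLin.orbitHom k A x f) =
      (Phi x A ∘ₗ HopfRep.Comod.coact (k := k) (A := A)).rTensor A
        (HopfRep.Comod.coact (k := k) (A := A) f) := by
  have hco := LinearMap.congr_fun (HopfRep.Comod.coassoc (k := k) (A := A)
    (V := MvPolynomial ι k)) f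
  simp only [LinearMap.comp_apply, LinearEquiv.coe_coe] at hco
  have h1 : ∀ z : MvPolynomial ι k ⊗[k] A,
      Phi x (A ⊗[k] A) ((Coalgebra.comul (R := k) (A := A)).lTensor _ z) =
        Coalgebra.comul (R := k) (Phi x A z) := by
    intro z
    induction z using TensorProduct.induction_on with
    | zero => simp
    | tmul r a => simp
    | add z w hz hw => simp only [map_add, hz, hw]
  have h2 : ∀ z : (MvPolynomial ι k ⊗[k] A) ⊗[k] A,
      Phi x (A ⊗[k] A) (TensorProduct.assoc k _ A A z) = (Phi x A).rTensor A z := by
    intro z
    induction z using TensorProduct.induction_on with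
    | zero => simp
    | tmul y a' =>
      induction y using TensorProduct.induction_on with
      | zero => simp
      | tmul r a => simp [TensorProduct.smul_tmul']
      | add y y' hy hy' => simp only [TensorProduct.add_tmul, map_add, hy, hy']
    | add z w hz hw => simp only [map_add, hz, hw]
  rw [orbitHom_eq_Phi, ← h1, ← hco, h2, LinearMap.rTensor_comp, LinearMap.comp_apply]

end aux

/-- Let k be a field and T = Spec A a diagonalizable affine group (A a commutative Hopf algebra spanned
by its group-like elements, e.g. a torus) acting linearly on affine ι-space. Then there are finitely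
many characters χ_1, …, χ_N of T (group-like elements of A) such that every vector v ≠ 0 has a
non-empty set I of indices for which, for every one-parameter subgroup λ of T with λ(χ_j) = t^(e_j),
the numerical function μ(v, λ) (the m for which t^m · (v moved by λ(t)) tends to a non-zero vector)
equals the maximum of −e_j over j ∈ I: μ is the maximum of finitely many linear functionals on
one-parameter subgroups. (The published proposition concerns a maximal torus of a reductive group
acting on a proper scheme with an ample linearised invertible sheaf; this row is the case of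
projective space with the hyperplane bundle, for any diagonalizable group acting linearly, stated on
the affine cone.) -/
theorem result (k : Type u) [Field k]
    (A : Type u) [CommRing A] [HopfAlgebra k A] (hdiag : HopfRep.IsDiagonalizable k A)
    (ι : Type u) [Fintype ι] [HopfRep.Comod k A (MvPolynomial ι k)] [GLin.IsCoactAlg k A (MvPolynomial ι k)]
    (hlin : GLin.IsLinear k A ι) :
    ∃ (N : ℕ) (χ : Fin N → A), (∀ j, IsGroupLikeElem k (χ j)) ∧
      ∀ v : ι → k, v ≠ 0 → ∃ I : Finset (Fin N), I.Nonempty ∧
        ∀ (lam : A →ₐc[k] k[T;T⁻¹]) (e : Fin N → ℤ), (∀ j, lam (χ j) = LaurentPolynomial.T (e j)) →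
          ∀ m : ℤ, GLin.IsMu k A lam v m ↔ ((∀ j ∈ I, -e j ≤ m) ∧ ∃ j ∈ I, m = -e j) := by
  classical
  choose M hM using hlin
  let b := glBasis hdiag
  let G : Finset (GroupLike k A) := Finset.univ.biUnion fun i =>
    Finset.univ.biUnion fun j => (b.repr (M i j)).support
  let eqv := G.equivFin
  let gl : Fin G.card → GroupLike k A := fun l => (eqv.symm l).1
  have hgl : Function.Injective gl := fun l l' h => eqv.symm.injective (Subtype.ext h)
  have hglG : ∀ g ∈ G, ∃ l, gl l = g := fun g hg => ⟨eqv ⟨g, hg⟩, by simp [gl]⟩
  refine ⟨G.card, fun l => (gl l).val, fun l => (gl l).isGroupLikeElem_val, ?_⟩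
  intro v hv
  let x : MvPolynomial ι k →ₐ[k] k := GLin.vecPt k ι v
  let w : ι → A := fun i => GLin.orbitHom k A x (MvPolynomial.X i)
  have hMspan : ∀ i j, M i j ∈ Submodule.span k (Set.range fun l => (gl l).val) := by
    intro i j
    rw [← b.linearCombination_repr (M i j), Finsupp.linearCombination_apply]
    refine Submodule.sum_mem _ fun g hg => ?_
    apply Submodule.smul_mem
    apply Submodule.subset_span
    have hgG : g ∈ G := Finset.mem_biUnion.mpr ⟨i, Finset.mem_univ _,
      Finset.mem_biUnion.mpr ⟨j, Finset.mem_univ _, hg⟩⟩
    obtain ⟨l, hl⟩ := hglG g hgG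
    refine ⟨l, ?_⟩
    change (gl l).val = b g
    rw [hl]
    exact (glBasis_apply hdiag g).symm
  have hw : ∀ i, w i = ∑ j, v j • M i j := by
    intro i
    change GLin.orbitHom k A x (MvPolynomial.X i) = _
    rw [orbitHom_eq_Phi, hM i, map_sum]
    refine Finset.sum_congr rfl fun j _ => ?_
    rw [Phi_tmul]
    simp [x]
  have hwspan : ∀ i, w i ∈ Submodule.span k (Set.range fun l => (gl l).val) := by
    intro i
    rw [hw i]
    exact Submodule.sum_mem _ fun j _ => Submodule.smul_mem _ _ (hMspan i j)
  let a : ι → Fin G.card → k := fun i l => b.coord (gl l) (w i)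
  have hwj : ∀ j, Phi x A (HopfRep.Comod.coact (k := k) (A := A) (MvPolynomial.X j)) = w j :=
    fun j => (orbitHom_eq_Phi x _).symm
  have hstar : ∀ i l l', ∑ j, a j l * b.coord (gl l') (M i j) = if l = l' then a i l else 0 := by
    intro i l l'
    have h1 : Coalgebra.comul (R := k) (w i) = ∑ j, w j ⊗ₜ[k] M i j := by
      change Coalgebra.comul (R := k) (GLin.orbitHom k A x (MvPolynomial.X i)) = _
      rw [comul_orbitHom, hM i, map_sum]
      refine Finset.sum_congr rfl fun j _ => ?_
      rw [LinearMap.rTensor_tmul, LinearMap.comp_apply, hwj]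
    have h2 := coord_comul hdiag (gl l) (gl l') (w i)
    rw [h1, map_sum, map_sum] at h2
    simp only [TensorProduct.map_tmul, LinearMap.mul'_apply] at h2
    rw [show (∑ j, a j l * b.coord (gl l') (M i j)) =
      ∑ j, (glBasis hdiag).coord (gl l) (w j) * (glBasis hdiag).coord (gl l') (M i j) from rfl, h2]
    by_cases hll : l = l'
    · rw [if_pos hll, if_pos (congrArg gl hll)]
    · rw [if_neg hll, if_neg (fun h => hll (hgl h))]
  refine ⟨Finset.univ.filter (fun l => ∃ i, a i l ≠ 0), ?_, ?_⟩
  · obtain ⟨i, hi⟩ : ∃ i, w i ≠ 0 := by
      by_contra hcon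
      push Not at hcon
      apply hv
      funext i
      have := Lib.Helper29.MuLib.counit_orbitHom (A := A) x (MvPolynomial.X i)
      rw [show GLin.orbitHom k A x (MvPolynomial.X i) = w i from rfl, hcon i, map_zero] at this
      simpa [x] using this.symm
    have hexp := expand hdiag gl hgl (hwspan i)
    by_contra hempty
    rw [Finset.not_nonempty_iff_eq_empty, Finset.filter_eq_empty_iff] at hempty
    apply hi
    rw [hexp]
    apply Finset.sum_eq_zero
    intro l _
    have : a i l = 0 := by
      by_contra h
      exact hempty (Finset.mem_univ l) ⟨i, h⟩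
    rw [show (glBasis hdiag).coord (gl l) (w i) = a i l from rfl, this, zero_smul]
  · intro lam e hlam m
    have hP : ∀ i (n : ℤ), (Lib.Helper29.MuLib.P lam v i).coeff n =
        ∑ l, a i l * (if e l = n then 1 else 0) := by
      intro i n
      have h1 : Lib.Helper29.MuLib.P lam v i = lam (w i) := rfl
      rw [h1, expand hdiag gl hgl (hwspan i), map_sum, AddMonoidAlgebra.coeff_sum,
        Finsupp.finsetSum_apply]
      refine Finset.sum_congr rfl fun l _ => ?_
      rw [map_smul, hlam, AddMonoidAlgebra.coeff_smul_apply, LaurentPolynomial.T,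
        AddMonoidAlgebra.coeff_single, Finsupp.single_apply, smul_eq_mul]
    have hNC : ∀ n : ℤ, (∀ i, (Lib.Helper29.MuLib.P lam v i).coeff n = 0) ↔
        ∀ l ∈ Finset.univ.filter (fun l => ∃ i, a i l ≠ 0), e l ≠ n := by
      intro n
      constructor
      · intro hall l hl hel
        obtain ⟨i₀, hi₀⟩ := (Finset.mem_filter.mp hl).2
        apply hi₀
        have hsum : ∑ l'', (∑ j, a j l'' * b.coord (gl l) (M i₀ j)) *
            (if e l'' = n then 1 else 0) = a i₀ l := by
          simp_rw [hstar i₀ _ l]
          rw [Finset.sum_eq_single l]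
          · rw [if_pos rfl, if_pos hel, mul_one]
          · intro l'' _ hne
            rw [if_neg hne, zero_mul]
          · intro h
            exact absurd (Finset.mem_univ _) h
        rw [← hsum]
        simp_rw [Finset.sum_mul]
        rw [Finset.sum_comm]
        apply Finset.sum_eq_zero
        intro j _
        have := hall j
        rw [hP] at this
        calc ∑ l'', a j l'' * b.coord (gl l) (M i₀ j) * (if e l'' = n then 1 else 0)
            = (∑ l'', a j l'' * (if e l'' = n then 1 else 0)) * b.coord (gl l) (M i₀ j) := by
              rw [Finset.sum_mul]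
              refine Finset.sum_congr rfl fun l'' _ => ?_
              ring
          _ = 0 := by rw [this, zero_mul]
      · intro hall i
        rw [hP]
        apply Finset.sum_eq_zero
        intro l _
        by_cases hal : a i l = 0
        · rw [hal, zero_mul]
        · have := hall l (Finset.mem_filter.mpr ⟨Finset.mem_univ _, i, hal⟩)
          rw [if_neg this, mul_zero]
    rw [Lib.Helper29.MuLib.isMu_iff]
    constructor
    · rintro ⟨h1, i, hi⟩
      constructor
      · intro l hl
        by_contra hlt
        push Not at hlt
        have := (hNC (e l)).mp (fun i => h1 i (e l) (by omega)) l hl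
        exact this rfl
      · by_contra hcon
        push Not at hcon
        have := (hNC (-m)).mpr (fun l hl hel => hcon l hl (by omega)) i
        exact hi this
    · rintro ⟨h1, l, hl, hml⟩
      constructor
      · intro i n hn
        exact (hNC n).mpr (fun l' hl' hel => by have := h1 l' hl'; omega) i
      · by_contra hcon
        push Not at hcon
        exact (hNC (-m)).mp hcon l hl (by omega)


end Groth.Agent.S12553
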