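import Groth.Statements.S12556
import Groth.Agent.Lib.Helper29.Reynolds

set_option autoImplicit false
universe u
open TensorProduct
open GIT

namespace Groth.Agent.S12556

theorem mul_tmul_one_eq (k : Type u) [Field k] (A : Type u) [CommRing A] [Bialgebra k A]
    (R : Type u) [CommRing R] [Algebra k R] (y : R) (z : R ⊗[k] A) :
    z * (y ⊗ₜ[k] (1 : A)) = (LinearMap.mulRight k y).rTensor A z := by
  induction z using TensorProduct.induction_on with
  | zero => simp
  | tmul r a => simp [Algebra.TensorProduct.tmul_mul_tmul]
  | add z w hz hw => rw [add_mul, hz, hw, map_add]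

theorem mulRight_isHom (k : Type u) [Field k] (A : Type u) [CommRing A] [Bialgebra k A]
    (R : Type u) [CommRing R] [Algebra k R] [HopfRep.Comod k A R] [GLin.IsCoactAlg k A R]
    (y : R) (hy : y ∈ GLin.invariants k A R) :
    Lib.Helper96.IsHom (inferInstance : HopfRep.Comod k A R) inferInstance
      (LinearMap.mulRight k y) := by
  apply LinearMap.ext
  intro x
  simp only [LinearMap.comp_apply, LinearMap.mulRight_apply]
  rw [GLin.IsCoactAlg.coact_mul, (GLin.mem_invariants_iff k A R y).mp hy, mul_tmul_one_eq]


/-- Let k be a field, G = Spec A a linearly reductive affine group (A a commutative Hopf algebra whose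
finite-dimensional comodules are all semisimple) acting on the affine scheme Spec R (a
multiplicative coaction of A on the commutative k-algebra R), and E : R → R a linear map commuting
with the coaction, idempotent, and fixing exactly the invariant elements. Then E(x · y) = E(x) · y
for all x in R and all invariant y. -/
theorem result (k : Type u) [Field k] (A : Type u) [CommRing A] [HopfAlgebra k A]
    (hG : HopfRep.IsLinearlyReductive k A)
    (R : Type u) [CommRing R] [Algebra k R] [HopfRep.Comod k A R] [GLin.IsCoactAlg k A R]
    (E : R →ₗ[k] R) (h₁ : Hoch.IsComodHom A E) (h₂ : E ∘ₗ E = E)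
    (h₃ : ∀ x : R, E x = x ↔ x ∈ GLin.invariants k A R)
    (x y : R) (hy : y ∈ GLin.invariants k A R) : E (x * y) = E x * y := by
  have hE : E = Lib.Helper29.E hG inferInstance :=
    Lib.Helper29.eq_E hG _ h₁ h₂ (fun x => h₃ x)
  have hm : Lib.Helper96.IsHom (inferInstance : HopfRep.Comod k A R) inferInstance
      (LinearMap.mulRight k y) := mulRight_isHom k A R y hy
  have := LinearMap.congr_fun (Lib.Helper29.E_comp_hom hG hm) x
  rw [hE]
  simpa using this


end Groth.Agent.S12556
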