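import Groth.Statements.S12557
import Groth.Agent.Lib.Helper29.Reynolds

set_option autoImplicit false
universe u
open TensorProduct
open GIT

namespace Groth.Agent.S12557

/-- Let k be a field, G = Spec A a linearly reductive affine group (A a commutative Hopf algebra whose
finite-dimensional comodules are all semisimple) acting on the affine scheme Spec R, R_0 ⊆ R the
ring of invariants, and (𝔄_i) a family of ideals of R each stable under the coaction. Then the sum
of the 𝔄_i meets R_0 in the sum of the intersections 𝔄_i ∩ R_0. -/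
theorem result (k : Type u) [Field k] (A : Type u) [CommRing A] [HopfAlgebra k A]
    (hG : HopfRep.IsLinearlyReductive k A)
    (R : Type u) [CommRing R] [Algebra k R] [HopfRep.Comod k A R] [GLin.IsCoactAlg k A R]
    (ι : Type u) (𝔄 : ι → Ideal R) (h𝔄 : ∀ i, HopfRep.IsSubcomod (k := k) (A := A) ((𝔄 i).restrictScalars k)) :
    (⨆ i, (𝔄 i).restrictScalars k) ⊓ Subalgebra.toSubmodule (GLin.invariants k A R) =
      ⨆ i, ((𝔄 i).restrictScalars k ⊓ Subalgebra.toSubmodule (GLin.invariants k A R)) := by
  apply le_antisymm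
  · rintro x ⟨hx, hxI⟩
    have hxF : x ∈ Lib.Helper29.Fx (inferInstance : HopfRep.Comod k A R) := hxI
    have hEx : Lib.Helper29.E hG inferInstance x = x := Lib.Helper29.E_of_mem_Fx hG _ hxF
    have hmap : Submodule.map (Lib.Helper29.E hG (inferInstance : HopfRep.Comod k A R))
        (⨆ i, (𝔄 i).restrictScalars k) ≤
        ⨆ i, ((𝔄 i).restrictScalars k ⊓ Subalgebra.toSubmodule (GLin.invariants k A R)) := by
      rw [Submodule.map_iSup]
      refine iSup_mono fun i => ?_
      rintro _ ⟨w, hw, rfl⟩
      exact ⟨Lib.Helper29.E_mem_of_isSub hG _ (h𝔄 i) hw, Lib.Helper29.E_mem_Fx hG _ w⟩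
    rw [← hEx]
    exact hmap ⟨x, hx, rfl⟩
  · exact iSup_le fun i => le_inf (le_iSup_of_le i inf_le_left) inf_le_right


end Groth.Agent.S12557
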