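import Groth.Statements.S12570
-- import your own Groth.Agent.* helpers here
import Groth.Agent.Lib.Helper88.ResRows

set_option autoImplicit false
universe u v w
open FunFld

namespace Groth.Agent.S12570

/-- For a place `Q` of a finite separable extension `K'` of a geometric function field of one variable
`K/k`, lying over `P` with ramification index `e`, both places having Laurent expansions over `k` in
local parameters (separable places), and `x` with `dx` of finite order above and below: the
different exponent `d(Q|P)`, computed on `dx`, is `e - 1` if `char K` does not divide `e`, and is `≥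
e` otherwise. (The published statement allows any finite extension along which differentials of `K`
pull back injectively; this row takes `K'` separable over `K`.) -/
theorem result (k : Type u) (K K' : Type v) [Field k] [Field K] [Field K'] [Algebra k K] [Algebra K K'] [Algebra k K']
    [IsScalarTower k K K'] [FiniteDimensional K K'] [Algebra.IsSeparable K K']
    (hK : FunFld.IsFunctionField k K) (hg : FunFld.IsGeometric k K)
    (F F' : Type w) [Field F] [Algebra k F] [Field F'] [Algebra k F']
    (P : FunFld.Place k K) (Q : FunFld.Place k K') (e : ℕ) (he : FunFld.IsOverWith Q P e)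
    (φ : K →ₐ[k] LaurentSeries F) (hφ : LocRes.IsExpansionAt P.1 φ)
    (ψ : K' →ₐ[k] LaurentSeries F') (hψ : LocRes.IsExpansionAt Q.1 ψ)
    (x : K) (hx : LocRes.vDiff φ 1 x ≠ 0) (hx' : LocRes.vDiff ψ 1 (algebraMap K K' x) ≠ 0) :
    (¬ (ringChar K ∣ e) → LocRes.diffExp φ ψ e x = (e : ℤ) - 1) ∧
    (ringChar K ∣ e → (e : ℤ) ≤ LocRes.diffExp φ ψ e x) := by
  classical
  obtain ⟨t, ht⟩ := hφ.2.2
  have he' : ∀ z : K, Valued.v (ψ (algebraMap K K' z)) = Valued.v (φ z) ^ e := by
    intro z
    rw [hψ.1, hφ.1, he z]
  obtain ⟨hvt', hd⟩ :=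
    Groth.Agent.Lib.Helper88.TG.diffExp_eq_ordDiff_uniformizer hK hg hφ ψ e he' hx hx' ht
  rw [hd]
  set τ : LaurentSeries F' := ψ (algebraMap K K' t) with hτdef
  have hτ : Valued.v τ = WithZero.exp (-(e : ℤ)) := by
    rw [hτdef, he', hφ.1, ht, ← WithZero.exp_nsmul]
    congr 1
    simp
  have hvd : LocRes.vDiff ψ 1 (algebraMap K K' t) = Valued.v (LocRes.D F' τ) := by
    unfold LocRes.vDiff
    rw [map_one, one_mul]
  have hlow : ∀ n : ℤ, n < (e : ℤ) - 1 → (LocRes.D F' τ).coeff n = 0 := by
    intro n hn
    rw [LocRes.D_coeff, LaurentSeries.coeff_zero_of_lt_valuation F' hτ.le (by omega), smul_zero]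
  have hmid : (LocRes.D F' τ).coeff ((e : ℤ) - 1) = (e : F') * τ.coeff e := by
    rw [LocRes.D_coeff, sub_add_cancel, zsmul_eq_mul]
    simp
  have hτe : τ.coeff (e : ℤ) ≠ 0 := Groth.Agent.Lib.Helper88.TG.coeff_ne_zero_of_val_eq hτ
  have hchar : ringChar K = ringChar F' :=
    (Algebra.ringChar_eq k K).symm.trans (Algebra.ringChar_eq k F')
  have hcast : (e : F') = 0 ↔ ringChar K ∣ e := by
    rw [hchar]
    exact ringChar.spec F' e
  have hord : LocRes.ordDiff ψ 1 (algebraMap K K' t) = -WithZero.log (Valued.v (LocRes.D F' τ)) := by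
    unfold LocRes.ordDiff
    rw [hvd]
  refine ⟨fun hnd => ?_, fun hdv => ?_⟩
  · have hne : (e : F') ≠ 0 := fun h0 => hnd (hcast.1 h0)
    have hv : Valued.v (LocRes.D F' τ) = WithZero.exp (-((e : ℤ) - 1)) := by
      apply Groth.Agent.Lib.Helper88.TG.val_eq_exp_neg_of_coeff hlow
      rw [hmid]
      exact mul_ne_zero hne hτe
    rw [hord, hv, WithZero.log_exp, neg_neg]
  · have h0 : (e : F') = 0 := hcast.2 hdv
    have hv : Valued.v (LocRes.D F' τ) ≤ WithZero.exp (-(e : ℤ)) := by
      rw [LaurentSeries.valuation_le_iff_coeff_lt_eq_zero]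
      intro n hn
      rcases lt_or_eq_of_le (Int.le_sub_one_of_lt hn) with h | h
      · exact hlow n h
      · rw [h, hmid, h0, zero_mul]
    have hne : Valued.v (LocRes.D F' τ) ≠ 0 := by
      rw [← hvd]
      exact hvt'
    rw [hord]
    have := (WithZero.log_le_iff_le_exp hne).2 hv
    omega


end Groth.Agent.S12570
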