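import Groth.Statements.S12580
import Groth.Agent.Lib.Helper88.FunFldLocal
import Groth.Agent.S10970
import Mathlib.RingTheory.LaurentSeries

set_option autoImplicit false
universe u v w
open FunFld

namespace Groth.Agent.S12580

section aux

open FunFld

theorem aux (k : Type u) (K : Type v) [Field k] [Field K] [Algebra k K]
    (hfin : ∀ x : K, (Function.support fun P : FunFld.Place k K => P.ord x).Finite)
    (F : FunFld.Place k K → Type w) [∀ P, Field (F P)] [∀ P, Algebra k (F P)]
    (φ : ∀ P, K →ₐ[k] LaurentSeries (F P)) (hφ : ∀ P, LocRes.IsExpansionAt P.1 (φ P)) :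
    (∀ (P : FunFld.Place k K) (u v : K), P.1 u ≤ 1 → P.1 v ≤ 1 → LocRes.resExp (φ P) u v = 0) ∧
    ∀ (a : FunFld.Place k K → K), a ∈ FunFld.adele k K → ∀ v : K,
      {P : FunFld.Place k K | LocRes.resExp (φ P) (a P) v ≠ 0}.Finite := by
  have part1 : ∀ (P : FunFld.Place k K) (u v : K), P.1 u ≤ 1 → P.1 v ≤ 1 →
      LocRes.resExp (φ P) u v = 0 := by
    intro P u v hu hv
    have hu' : Valued.v (φ P u) ≤ (1 : WithZero (Multiplicative ℤ)) := by
      rw [(hφ P).1 u]; exact hu
    have hv' : Valued.v (φ P v) ≤ (1 : WithZero (Multiplicative ℤ)) := by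
      rw [(hφ P).1 v]; exact hv
    obtain ⟨U, hU⟩ := (LaurentSeries.val_le_one_iff_eq_coe _ _).mp hu'
    obtain ⟨V, hV⟩ := (LaurentSeries.val_le_one_iff_eq_coe _ _).mp hv'
    unfold LocRes.resExp
    rw [← hU, ← hV, LocRes.D_coe, ← PowerSeries.coe_mul, LocRes.res_apply, PowerSeries.coeff_coe,
      if_pos (by norm_num)]
  refine ⟨part1, ?_⟩
  intro a ha v
  have h1 : {P : FunFld.Place k K | ¬ P.1 (a P) ≤ 1}.Finite := by
    have : ∀ᶠ P : FunFld.Place k K in Filter.cofinite, P.1 (a P) ≤ 1 := ha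
    exact Filter.eventually_cofinite.mp this
  have h2 : {P : FunFld.Place k K | ¬ P.1 v ≤ 1}.Finite := by
    apply (hfin v).subset
    intro P hP
    simp only [Set.mem_ofPred_eq] at hP
    rw [Function.mem_support]
    intro h0
    apply hP
    by_cases hv0 : v = 0
    · rw [hv0, map_zero]; exact zero_le_one
    · rw [Groth.Agent.Lib.Helper88.FF.val_le_one_iff P hv0, h0]
  apply (h1.union h2).subset
  intro P hP
  simp only [Set.mem_ofPred_eq] at hP
  by_contra hcon
  simp only [Set.mem_union, Set.mem_ofPred_eq, not_or, not_not] at hcon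
  exact hP (part1 P _ _ hcon.1 hcon.2)

end aux

/-- In a function field of one variable `K/k`, `Res_P(u dv) = 0` when `u, v ∈ O_P` (already before the
trace), and for a repartition `α` and `v ∈ K`, `Res_P(α_P dv) = 0` for almost all `P`; residues read
through Laurent expansions over `k` at every place. -/
theorem result (k : Type u) (K : Type v) [Field k] [Field K] [Algebra k K] (hK : FunFld.IsFunctionField k K)
    (F : FunFld.Place k K → Type w) [∀ P, Field (F P)] [∀ P, Algebra k (F P)] [∀ P, FiniteDimensional k (F P)]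
    (φ : ∀ P, K →ₐ[k] LaurentSeries (F P)) (hφ : ∀ P, LocRes.IsExpansionAt P.1 (φ P)) :
    (∀ (P : FunFld.Place k K) (u v : K), P.1 u ≤ 1 → P.1 v ≤ 1 → LocRes.resExp (φ P) u v = 0) ∧
    ∀ (a : FunFld.Place k K → K), a ∈ FunFld.adele k K → ∀ v : K,
      {P : FunFld.Place k K | LocRes.resExp (φ P) (a P) v ≠ 0}.Finite := by
  exact aux k K (fun x => Groth.Agent.S10970.result k K hK x) F φ hφ

end Groth.Agent.S12580
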