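import Groth.Statements.S12583
import Groth.Agent.Lib.Helper16.HasseLaurent
import Groth.Agent.Lib.Helper16.HasseUniq2
import Groth.Agent.Lib.Helper16.HasseIter

set_option autoImplicit false
universe u v w
open FunFld

namespace Groth.Agent.S12583

/-- At a separable place `P` of a geometric function field of one variable `K/k` with local parameter
`t`, if `x ∈ O_P` has expansion `∑ a_m t^m` then the Hasse derivative `D_t^{(n)}(x)` expands as the
series with coefficients `C(m,n) a_m` in degree `m - n`; in particular `D_t^{(n)}(O_P) ⊆ O_P`. Here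
`φ` is a Laurent expansion over `k` at `P` with `φ t = X` and `H` is the total Hasse derivative with
respect to `t`. -/
theorem result (k : Type u) (K : Type v) [Field k] [Field K] [Algebra k K] (hK : FunFld.IsFunctionField k K) (hg : FunFld.IsGeometric k K)
    (P : FunFld.Place k K) (F : Type w) [Field F] [Algebra k F]
    (φ : K →ₐ[k] LaurentSeries F) (hφ : LocRes.IsExpansionAt P.1 φ)
    (t : K) (ht : φ t = HahnSeries.single 1 1)
    (H : K →ₐ[k] PowerSeries K) (hH : LocRes.IsHasseFamily t H)
    (x : K) (hx : P.1 x ≤ 1) (n : ℕ) :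
    φ (LocRes.hasseD H n x) = LaurentSeries.hasseDeriv F n (φ x) := by
  classical
  have key : (PowerSeries.map φ.toRingHom).comp H.toRingHom =
      (Groth.Agent.Lib.Helper16.Hasse.HLg F (LaurentSeries F)).comp φ.toRingHom := by
    refine Groth.Agent.Lib.Helper16.Hasse.hasse_ext' (k := k)
      (PowerSeries.constantCoeff (R := LaurentSeries F)) φ.toRingHom _ _ ?_ ?_ ?_ t ?_
      (Groth.Agent.Lib.Helper16.Hasse.isAlgebraic_of_isHasseFamily hK hH)
    · intro y
      rw [RingHom.comp_apply, ← PowerSeries.coeff_zero_eq_constantCoeff_apply, PowerSeries.coeff_map,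
        PowerSeries.coeff_zero_eq_constantCoeff_apply]
      exact congrArg _ (hH.2 y)
    · intro y
      exact Groth.Agent.Lib.Helper16.Hasse.constantCoeff_HLg F _ _
    · intro c
      rw [RingHom.comp_apply, RingHom.comp_apply]
      show PowerSeries.map φ.toRingHom (H (algebraMap k K c)) =
        Groth.Agent.Lib.Helper16.Hasse.HLg F (LaurentSeries F) (φ (algebraMap k K c))
      rw [AlgHom.commutes, PowerSeries.algebraMap_apply, PowerSeries.map_C, LocRes.map_algebraMap,
        ← HahnSeries.ofPowerSeries_C, ← LaurentSeries.coe_algebraMap,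
        Groth.Agent.Lib.Helper16.Hasse.HLg_algebraMap, Groth.Agent.Lib.Helper16.Hasse.Delta_C,
        PowerSeries.map_C]
      congr 1
      show φ (algebraMap k K c) = _
      rw [LocRes.map_algebraMap, ← HahnSeries.ofPowerSeries_C]
      rfl
    · rw [RingHom.comp_apply, RingHom.comp_apply]
      show PowerSeries.map φ.toRingHom (H t) =
        Groth.Agent.Lib.Helper16.Hasse.HLg F (LaurentSeries F) (φ t)
      rw [hH.1, map_add, PowerSeries.map_C, PowerSeries.map_X, ht, ← HahnSeries.ofPowerSeries_X,
        ← LaurentSeries.coe_algebraMap, Groth.Agent.Lib.Helper16.Hasse.HLg_algebraMap,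
        Groth.Agent.Lib.Helper16.Hasse.Delta_X, map_add, PowerSeries.map_C, PowerSeries.map_X]
      congr 2
      show φ t = _
      rw [ht, ← HahnSeries.ofPowerSeries_X]
      rfl
  have hval : Valued.v (φ x) ≤ 1 := by rw [hφ.1 x]; exact hx
  obtain ⟨b, hb⟩ := (LaurentSeries.val_le_one_iff_eq_coe F (φ x)).mp hval
  have h1 := congrArg (PowerSeries.coeff n) (RingHom.congr_fun key x)
  rw [RingHom.comp_apply, RingHom.comp_apply, PowerSeries.coeff_map] at h1
  have h2 : φ.toRingHom x = algebraMap (PowerSeries F) (LaurentSeries F) b := by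
    show φ x = _
    rw [← hb]; rfl
  rw [h2, Groth.Agent.Lib.Helper16.Hasse.HLg_algebraMap, PowerSeries.coeff_map,
    Groth.Agent.Lib.Helper16.Hasse.coeff_Delta] at h1
  rw [← hb, Groth.Agent.Lib.Helper16.Hasse.laurent_hasseDeriv_coe]
  exact h1

end Groth.Agent.S12583
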