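import Groth.Statements.S12588
-- import your own Groth.Agent.* helpers here
import Groth.Agent.Lib.Helper88.ResSepGen
import Groth.Agent.Lib.Helper44.FunFldRamLe
import Mathlib.FieldTheory.RatFunc.IntermediateField

set_option autoImplicit false
universe u v w
open FunFld

namespace Groth.Agent.S12588

/-- For `k` perfect of characteristic `2`, `K` separable of degree `2` over `k(x)` with `y² + y = f(x)`,
and a place `p` of `k(x)` where `f` has a pole whose order `2d - 1` is odd: a place `P` of `K` above
`p` with ramification index `e` (necessarily `e = 2`, `P` unique) has different exponent `d(P|p) =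
2d = 1 - ord_p(f)`; the exponent is computed on `dz` through Laurent expansions over `k` at `p` and
`P`. -/
theorem result (k : Type u) (K : Type v) [Field k] [Field K] [Algebra k K] [Algebra (RatFunc k) K] [IsScalarTower k (RatFunc k) K]
    (hK : FunFld.IsFunctionField k K) (hdeg : Module.finrank (RatFunc k) K = 2) [PerfectField k] (h2 : ringChar k = 2)
    [Algebra.IsSeparable (RatFunc k) K]
    (y : K) (hy : y ∉ Set.range (algebraMap (RatFunc k) K)) (f : RatFunc k)
    (heq : y ^ 2 + y = algebraMap (RatFunc k) K f)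
    (p : FunFld.Place k (RatFunc k)) (hp : 1 < p.1 f) (hodd : Odd (p.ord f))
    (P : FunFld.Place k K) (e : ℕ) (he : FunFld.IsOverWith P p e)
    (F F' : Type w) [Field F] [Algebra k F] [Field F'] [Algebra k F']
    (φ : RatFunc k →ₐ[k] LaurentSeries F) (hφ : LocRes.IsExpansionAt p.1 φ)
    (ψ : K →ₐ[k] LaurentSeries F') (hψ : LocRes.IsExpansionAt P.1 ψ)
    (z : RatFunc k) (hz : LocRes.vDiff φ 1 z ≠ 0) (hz' : LocRes.vDiff ψ 1 (algebraMap (RatFunc k) K z) ≠ 0) :
    LocRes.diffExp φ ψ e z = 1 - p.ord f := by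
  classical
  have hfd : FiniteDimensional (RatFunc k) K :=
    Module.finite_of_finrank_pos (by rw [hdeg]; norm_num)
  have hd : Groth.Agent.Lib.Helper88.TG.DiffGen k (RatFunc k) := by
    have htop : IntermediateField.adjoin k ({(RatFunc.X : RatFunc k)} : Set (RatFunc k)) = ⊤ :=
      RatFunc.adjoin_X
    haveI : Algebra.IsSeparable
        (IntermediateField.adjoin k ({(RatFunc.X : RatFunc k)} : Set (RatFunc k))) (RatFunc k) := by
      refine ⟨fun r => ?_⟩
      have hr : r ∈ IntermediateField.adjoin k ({(RatFunc.X : RatFunc k)} : Set (RatFunc k)) := by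
        rw [htop]; trivial
      exact isSeparable_algebraMap
        (⟨r, hr⟩ : IntermediateField.adjoin k ({(RatFunc.X : RatFunc k)} : Set (RatFunc k)))
    exact Groth.Agent.Lib.Helper88.TG.diffGen_of_separable RatFunc.X
  have he0 : 0 < e := Groth.Agent.Lib.Helper44.FFExt.isOverWith_pos he
  have hele : e ≤ 2 := by
    rw [← hdeg]
    exact Groth.Agent.Lib.Helper44.FFExt.isOverWith_le_finrank he
  have hf0 : f ≠ 0 := by
    rintro rfl
    rw [map_zero] at hp
    exact absurd hp (by simp)
  have hy0 : y ≠ 0 := by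
    rintro rfl
    exact hy ⟨0, by simp⟩
  -- orders
  have hpf : p.1 f = WithZero.exp (-p.ord f) :=
    Groth.Agent.Lib.Helper88.FF.val_eq_exp_neg_ord p hf0
  have hPy : P.1 y = WithZero.exp (-P.ord y) :=
    Groth.Agent.Lib.Helper88.FF.val_eq_exp_neg_ord P hy0
  have hb_neg : p.ord f < 0 := by
    rw [hpf, ← WithZero.exp_zero, WithZero.exp_lt_exp] at hp
    omega
  have hPf : P.1 (algebraMap (RatFunc k) K f) = WithZero.exp (-((e : ℤ) * p.ord f)) := by
    rw [he f, hpf, ← WithZero.exp_nsmul]
    congr 1
    simp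
  have ha_neg : P.ord y < 0 := by
    by_contra hle
    push Not at hle
    have hy1 : P.1 y ≤ 1 := by
      rw [hPy, ← WithZero.exp_zero, WithZero.exp_le_exp]
      omega
    have h1 : P.1 (y ^ 2 + y) ≤ 1 :=
      (P.1.map_add _ _).trans (max_le (by rw [map_pow]; exact pow_le_one' hy1 2) hy1)
    rw [heq, hPf, ← WithZero.exp_zero, WithZero.exp_le_exp] at h1
    have h2 : (e : ℤ) * p.ord f < 0 := mul_neg_of_pos_of_neg (by exact_mod_cast he0) hb_neg
    omega
  have hyy : P.1 (y ^ 2 + y) = WithZero.exp (-(2 * P.ord y)) := by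
    have h1 : P.1 (y ^ 2) = WithZero.exp (-(2 * P.ord y)) := by
      rw [map_pow, hPy, ← WithZero.exp_nsmul]
      congr 1
      simp
    rw [← h1]
    apply Valuation.map_add_eq_of_lt_left
    rw [h1, hPy, WithZero.exp_lt_exp]
    omega
  have hkey : 2 * P.ord y = (e : ℤ) * p.ord f := by
    rw [heq, hPf, WithZero.exp_inj, neg_inj] at hyy
    exact hyy.symm
  obtain ⟨c, hc⟩ := hodd
  have he2 : e = 2 := by
    interval_cases e
    · exfalso
      rw [hc] at hkey
      push_cast at hkey
      omega
    · rfl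
  subst he2
  have hay : P.ord y = p.ord f := by
    push_cast at hkey
    omega
  obtain ⟨d, hdf, hd1⟩ : ∃ d : ℕ, p.ord f = 1 - 2 * (d : ℤ) ∧ 1 ≤ d := by
    refine ⟨(-c).toNat, ?_, ?_⟩
    · rw [Int.toNat_of_nonneg (by omega)]
      omega
    · have : (1 : ℤ) ≤ ((-c).toNat : ℤ) := by
        rw [Int.toNat_of_nonneg (by omega)]
        omega
      exact_mod_cast this
  obtain ⟨t, ht⟩ := hφ.2.2
  have hPt : P.1 (algebraMap (RatFunc k) K t) = WithZero.exp (-2 : ℤ) := by
    rw [he t, ht, ← WithZero.exp_nsmul]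
    congr 1
  set s : K := algebraMap (RatFunc k) K t ^ d * y with hsdef
  have hs : P.1 s = WithZero.exp (-1 : ℤ) := by
    rw [hsdef, map_mul, map_pow, hPt, hPy, ← WithZero.exp_nsmul, ← WithZero.exp_add, hay, hdf]
    congr 1
    simp only [nsmul_eq_mul]
    ring
  have he' : ∀ z' : RatFunc k, Valued.v (ψ (algebraMap (RatFunc k) K z')) = Valued.v (φ z') ^ 2 := by
    intro z'
    rw [hψ.1, hφ.1, he z']
  obtain ⟨hvt', hdE⟩ :=
    Groth.Agent.Lib.Helper88.TG.diffExp_eq_ordDiff_uniformizer' hd hφ ψ 2 he' hz hz' ht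
  rw [hdE]
  have hmain := Groth.Agent.Lib.Helper88.TG.val_aeval_derivative_minpoly' hd he hφ hψ
    (by rw [hdeg]) hs ht
  -- the minimal polynomial of `s`
  set a : RatFunc k := t ^ d with hadef
  set b : RatFunc k := -(t ^ (2 * d) * f) with hbdef
  set g : Polynomial (RatFunc k) := Polynomial.X ^ 2 + (Polynomial.C a * Polynomial.X + Polynomial.C b)
    with hgdef
  have hlin : (Polynomial.C a * Polynomial.X + Polynomial.C b : Polynomial (RatFunc k)).degree < 2 :=
    lt_of_le_of_lt Polynomial.degree_linear_le (by norm_num)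
  have hgmonic : g.Monic := Polynomial.monic_X_pow_add hlin
  have hgdeg : g.natDegree = 2 := by
    rw [hgdef, Polynomial.natDegree_add_eq_left_of_degree_lt (by rw [Polynomial.degree_X_pow]; exact hlin),
      Polynomial.natDegree_X_pow]
  have hgroot : Polynomial.aeval s g = 0 := by
    simp only [hgdef, map_add, map_mul, map_pow, Polynomial.aeval_X, Polynomial.aeval_C, hadef,
      hbdef, map_neg, hsdef]
    linear_combination (algebraMap (RatFunc k) K t) ^ (2 * d) * heq
  have hsnot : s ∉ (algebraMap (RatFunc k) K).range := by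
    rintro ⟨r, hr⟩
    have hr0 : r ≠ 0 := by
      rintro rfl
      rw [map_zero] at hr
      rw [← hr, map_zero] at hs
      exact WithZero.exp_ne_zero hs.symm
    have h1 := he r
    rw [hr, hs, Groth.Agent.Lib.Helper88.FF.val_eq_exp_neg_ord p hr0, ← WithZero.exp_nsmul,
      WithZero.exp_inj] at h1
    simp only [nsmul_eq_mul] at h1
    push_cast at h1
    omega
  have hint : IsIntegral (RatFunc k) s := Algebra.IsIntegral.isIntegral s
  have h2le : 2 ≤ (minpoly (RatFunc k) s).natDegree := (minpoly.two_le_natDegree_iff hint).2 hsnot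
  have hmin : g = minpoly (RatFunc k) s :=
    Polynomial.eq_of_monic_of_dvd_of_natDegree_le (minpoly.monic hint) hgmonic
      (minpoly.dvd _ _ hgroot) (by rw [hgdeg]; exact h2le)
  have h2k : (2 : K) = 0 := by
    have h1 : ((2 : ℕ) : k) = 0 := by
      rw [ringChar.spec, h2]
    have h3 := congrArg (algebraMap k K) h1
    rw [map_natCast, map_zero] at h3
    exact_mod_cast h3
  have hder : Polynomial.aeval s (Polynomial.derivative g) = algebraMap (RatFunc k) K a := by
    simp only [hgdef, Polynomial.derivative_add, Polynomial.derivative_X_pow, Polynomial.derivative_mul,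
      Polynomial.derivative_C, Polynomial.derivative_X, map_add, map_mul, Polynomial.aeval_C,
      Polynomial.aeval_X, map_pow, zero_mul, mul_one, zero_add, add_zero, Nat.cast_ofNat, map_ofNat]
    rw [h2k]
    simp
  rw [← hmin, hder, hadef, map_pow, map_pow, hPt] at hmain
  unfold LocRes.ordDiff
  rw [← hmain, ← WithZero.exp_nsmul, WithZero.log_exp, hdf]
  simp only [nsmul_eq_mul]
  ring


end Groth.Agent.S12588
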