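import Groth.Statements.S12598
import Groth.Agent.Lib.Helper16.HasseChange

set_option autoImplicit false
open FunFld

namespace Groth.Agent.S12598

/-- Over an algebraically closed constant field, the `τ`-order sequence `J = (j₁, …, jₙ)` of a
projective map `φ` does not depend on the separating variable used for the Hasse derivatives, and
the Wronskians with respect to `t` and to `s` differ by the factor `(ds/dt)^(j₁ + ⋯ + jₙ)`, where
`ds/dt` is the first Hasse derivative of `s` with respect to `t`. -/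
theorem result
    (k K : Type*) [Field k] [IsAlgClosed k] [Field K] [Algebra k K]
    (hK : FunFld.IsFunctionField k K) {n : ℕ} (φ : Fin (n + 1) → K) (hφ : LinearIndependent k φ)
    (τ : K →ₐ[k] K) (s : K) (Hs : K →ₐ[k] PowerSeries K) (hHs : LocRes.IsHasseFamily s Hs)
    (t : K) (Ht : K →ₐ[k] PowerSeries K) (hHt : LocRes.IsHasseFamily t Ht) :
    (∀ J : Fin n → ℕ, FunFld.IsOrders K (FunFld.hcol τ Ht φ) J ↔ FunFld.IsOrders K (FunFld.hcol τ Hs φ) J) ∧
    ∀ J : Fin n → ℕ, FunFld.IsOrders K (FunFld.hcol τ Hs φ) J →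
      (FunFld.wrMat τ Ht φ J).det =
        LocRes.hasseD Ht 1 s ^ (∑ l, J l) * (FunFld.wrMat τ Hs φ J).det := by
  have hne := Groth.Agent.Lib.Helper16.Hasse.hasseD_one_ne_zero hK hHs hHt
  let u : ℕ → K := fun j => (Nat.casesOn j 1 (fun j' => (LocRes.hasseD Ht 1 s) ^ j') : K)
  have hu : ∀ j, u j ≠ 0 := by
    intro j
    cases j with
    | zero => exact one_ne_zero
    | succ j => exact pow_ne_zero _ hne
  have htri : ∀ j, FunFld.hcol τ Ht φ j - u j • FunFld.hcol τ Hs φ j ∈
      Groth.Agent.Lib.Helper16.Jump.W (K := K) (FunFld.hcol τ Hs φ) j :=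
    fun j => Groth.Agent.Lib.Helper16.Hasse.hcol_change_triangular hK hHs hHt τ φ j
  have hW := Groth.Agent.Lib.Helper16.Jump.W_eq_of_triangular u hu htri
  refine ⟨fun J => Groth.Agent.Lib.Helper16.Jump.isOrders_congr hW J, ?_⟩
  intro J hJ
  rw [Groth.Agent.Lib.Helper16.Jump.wrMat_eq_wr, Groth.Agent.Lib.Helper16.Jump.wrMat_eq_wr,
    Groth.Agent.Lib.Helper16.Jump.det_wr_of_triangular u htri hJ, Fin.prod_univ_succ]
  simp only [u, Groth.Agent.Lib.Helper16.Jump.idx_zero, Groth.Agent.Lib.Helper16.Jump.idx_succ,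
    one_mul]
  rw [Finset.prod_pow_eq_pow_sum]
  show ((1 : K) * LocRes.hasseD Ht 1 s ^ ∑ i, J i) * _ = _
  rw [one_mul]

end Groth.Agent.S12598
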