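import Groth.Statements.S12599
import Groth.Agent.Lib.Helper16.LocExp6

set_option autoImplicit false
open FunFld

namespace Groth.Agent.S12599

/-- Over an algebraically closed constant field, for a place `P` with local parameter `t`, and a
linearly independent tuple `φ = (φ₀, …, φₙ)` of functions integral at `P`, the matrix of values at
`P` of the Hasse derivatives `D_t^(j)(φᵢ)`, `j = 0, 1, …`, has rank `n + 1`: its rows are linearly
independent over the residue field. -/
theorem result
    (k K : Type*) [Field k] [IsAlgClosed k] [Field K] [Algebra k K]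
    (hK : FunFld.IsFunctionField k K) {n : ℕ} (φ : Fin (n + 1) → K) (hφ : LinearIndependent k φ)
    (P : FunFld.Place k K) (hint : ∀ i, P.1 (φ i) ≤ 1) (t : K) (ht : P.1 t = WithZero.exp (-1))
    (Ht : K →ₐ[k] PowerSeries K) (hHt : LocRes.IsHasseFamily t Ht) :
    LinearIndependent (IsLocalRing.ResidueField P.O)
      (fun i : Fin (n + 1) => fun j : ℕ => FunFld.evalP P (LocRes.hasseD Ht j (φ i))) := by
  classical
  rw [Fintype.linearIndependent_iff]
  intro c hc i
  have hsurj := Groth.Agent.Lib.Helper16.LocExp.algebraMap_residue_surjective hK P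
  choose d hd using fun i => hsurj (c i)
  have hz : ∀ j, Groth.Agent.Lib.Helper16.LocExp.a hK P t j (∑ i, d i • φ i) = 0 := by
    intro j
    rw [Groth.Agent.Lib.Helper16.LocExp.a_lincomb hK P ht j Finset.univ d φ (fun i _ => hint i)]
    apply (algebraMap k (IsLocalRing.ResidueField P.O)).injective
    rw [map_sum, map_zero]
    have h1 := congrFun hc j
    rw [Finset.sum_apply, Pi.zero_apply] at h1
    rw [← h1]
    refine Finset.sum_congr rfl fun i _ => ?_
    rw [map_mul, hd, Pi.smul_apply, smul_eq_mul,
      Groth.Agent.Lib.Helper16.LocExp.evalP_hasseD hK P ht hHt (hint i) j]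
  have hzero : ∑ i, d i • φ i = 0 :=
    Groth.Agent.Lib.Helper16.LocExp.eq_zero_of_a_eq_zero hK P ht
      (Groth.Agent.Lib.Helper16.LocExp.val_lincomb_le P Finset.univ d φ (fun i _ => hint i)) hz
  have := Fintype.linearIndependent_iff.mp hφ d hzero i
  rw [← hd i, this, map_zero]

end Groth.Agent.S12599
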