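import Groth.Statements.S12602
import Groth.Agent.Lib.Helper16.HasseTau
import Groth.Agent.Lib.Helper16.Jump5

set_option autoImplicit false
open FunFld

namespace Groth.Agent.S12602

/-- Over an algebraically closed constant field, for a birational projective map `φ = (φ₀, …, φₙ)`, `n ≥
1`, with orders `j₁ < ⋯ < jₙ`, and `τ ≠ 1`, the `τ`-orders of `φ` are `(0, j₁, …, j_{m-1}, j_{m+1},
…, jₙ)` for some `m`: the jump indices of `[τ(φ) | D^(0) φ | D^(1) φ | ⋯]` after the leading column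
are `0` and the `jₗ` with `l ≠ m`. -/
theorem result
    (k K : Type*) [Field k] [IsAlgClosed k] [Field K] [Algebra k K]
    (hK : FunFld.IsFunctionField k K) {n : ℕ} (hn : 0 < n) (φ : Fin (n + 1) → K) (hφ : LinearIndependent k φ)
    (h0 : φ 0 ≠ 0) (hbir : IntermediateField.adjoin k (Set.range fun i => φ i / φ 0) = ⊤)
    (τ : K →ₐ[k] K) (hτ : τ ≠ AlgHom.id k K) (s : K) (H : K →ₐ[k] PowerSeries K) (hH : LocRes.IsHasseFamily s H)
    (J : Fin n → ℕ) (hJ : FunFld.IsOrders K (FunFld.hcol (AlgHom.id k K) H φ) J) :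
    ∃ m : Fin n, ∀ j : ℕ,
      FunFld.IsJump K (FunFld.hcol τ H φ) (j + 1) ↔ (j = 0 ∨ ∃ l, l ≠ m ∧ J l = j) := by
  have hc0 : FunFld.hcol (AlgHom.id k K) H φ 0 = φ := rfl
  have hc1 : FunFld.hcol (AlgHom.id k K) H φ 1 = FunFld.hcol (AlgHom.id k K) H φ 0 := by
    rw [hc0, Groth.Agent.Lib.Helper16.Hasse.hcol_succ]
    funext i
    exact Groth.Agent.Lib.Helper16.Hasse.hasseD_zero hH (φ i)
  have hτ' : ∀ j, FunFld.hcol τ H φ (j + 1) = FunFld.hcol (AlgHom.id k K) H φ (j + 1) :=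
    fun j => rfl
  have hcτ0 : FunFld.hcol τ H φ 0 = fun i => τ (φ i) := rfl
  have ht1 : FunFld.hcol (AlgHom.id k K) H φ 0 ∉ Submodule.span K {FunFld.hcol τ H φ 0} := by
    rw [hc0, hcτ0, Groth.Agent.Lib.Helper16.Hasse.mem_span_tau_iff φ h0 hbir τ]
    exact hτ
  have hτφ0 : τ (φ 0) ≠ 0 := (map_ne_zero_iff τ τ.injective).mpr h0
  have ht2 : FunFld.hcol τ H φ 0 ∉ Submodule.span K {FunFld.hcol (AlgHom.id k K) H φ 0} := by
    intro hmem
    apply ht1
    obtain ⟨a, ha⟩ := Submodule.mem_span_singleton.mp hmem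
    have ha0 : a ≠ 0 := by
      rintro rfl
      rw [zero_smul] at ha
      have := congrFun ha 0
      rw [hcτ0] at this
      exact hτφ0 this.symm
    rw [Submodule.mem_span_singleton]
    refine ⟨a⁻¹, ?_⟩
    rw [← ha, smul_smul, inv_mul_cancel₀ ha0, one_smul]
  have hφ0 : FunFld.hcol (AlgHom.id k K) H φ 0 ≠ 0 := by
    rw [hc0]
    intro h
    exact h0 (congrFun h 0)
  have htop : ∃ m, FunFld.hcol τ H φ 0 ∈
      Groth.Agent.Lib.Helper16.Jump.W (K := K) (FunFld.hcol (AlgHom.id k K) H φ) m := by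
    refine ⟨Groth.Agent.Lib.Helper16.Jump.idx J (Fin.last n) + 1, ?_⟩
    rw [Groth.Agent.Lib.Helper16.Jump.W_eq_top_of_isOrders hJ hφ0 (by simp)]
    exact Submodule.mem_top
  exact Groth.Agent.Lib.Helper16.Jump.jumps_replace hc1 hτ' ht1 ht2 htop hJ

end Groth.Agent.S12602
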