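import Groth.Statements.S12608
import Groth.Agent.Lib.Helper16.LocExp9

set_option autoImplicit false
open FunFld

namespace Groth.Agent.S12608

/-- Over an algebraically closed constant field, let `φ = (φ₀, …, φₙ)` be an effective projective map
normalized at the place `P`, `t` a local parameter at `P`, `j₁, …, jₙ` the orders of `φ` and `j'₁,
…, j'ₙ` the orders of `φ` at `P`. Then `jₗ ≤ j'ₗ` for all `l`, and the following are equivalent: all
`j'ₗ = jₗ`; the Wronskian `w_t(φ)` does not vanish at `P`; the Weierstrass divisor `W(φ)` has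
coefficient `0` at `P` (the divisor of `dt` in it read through a family of Laurent expansions). -/
theorem result
    (k K : Type*) [Field k] [IsAlgClosed k] [Field K] [Algebra k K]
    (hK : FunFld.IsFunctionField k K) (P : FunFld.Place k K) {n : ℕ} (φ : Fin (n + 1) → K) (hφ : LinearIndependent k φ)
    (heff : (1 : K) ∈ Submodule.span k (Set.range φ)) (hnorm : ∀ i, P.1 (φ i) ≤ 1)
    (t : K) (ht : P.1 t = WithZero.exp (-1))
    (Ht : K →ₐ[k] PowerSeries K) (hHt : LocRes.IsHasseFamily t Ht)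
    (J : Fin n → ℕ) (hJ : FunFld.IsOrders K (FunFld.hcol (AlgHom.id k K) Ht φ) J)
    (J' : Fin n → ℕ) (hJ' : FunFld.IsOrders (IsLocalRing.ResidueField P.O) (FunFld.hcolAt P Ht φ) J')
    (Φ : FunFld.Place k K → (K →ₐ[k] LaurentSeries k))
    (hΦ : ∀ P : FunFld.Place k K, LocRes.IsExpansionAt P.1 (Φ P)) :
    (∀ l, J l ≤ J' l) ∧
    ((∀ l, J' l = J l) ↔ FunFld.evalP P (FunFld.wrMat (AlgHom.id k K) Ht φ J).det ≠ 0) ∧
    ((∀ l, J' l = J l) ↔ FunFld.wDiv (AlgHom.id k K) Ht Φ t φ J P = 0) := by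
  classical
  have h0 : hcolAt P Ht φ 0 ≠ 0 :=
    Groth.Agent.Lib.Helper16.LocExp.hcolAt_zero_ne_zero P φ heff hnorm
  have h0' : hcol (AlgHom.id k K) Ht φ 0 ≠ 0 := by
    intro h
    exact hφ.ne_zero 0 (congrFun h 0)
  -- (a)
  have ha : ∀ l, J l ≤ J' l :=
    Groth.Agent.Lib.Helper16.Jump.orders_le_of_linearIndependent hJ hJ'.1
      (Groth.Agent.Lib.Helper16.LocExp.linearIndependent_hcol_of_hcolAt hK P ht hHt φ hnorm J'
        (Groth.Agent.Lib.Helper16.Jump.linearIndependent_idx hJ' h0))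
  have hw := Groth.Agent.Lib.Helper16.LocExp.evalP_det_wr hK P ht hHt φ hnorm J
  rw [← Groth.Agent.Lib.Helper16.Jump.wrMat_eq_wr] at hw
  -- (b)
  have hb : (∀ l, J' l = J l) ↔ evalP P (wrMat (AlgHom.id k K) Ht φ J).det ≠ 0 := by
    constructor
    · intro hJJ
      have : J' = J := funext hJJ
      subst this
      rw [hw.2]
      exact Groth.Agent.Lib.Helper16.Jump.det_wr_ne_zero hJ' h0
    · intro hne l
      rw [hw.2, ← Groth.Agent.Lib.Helper16.LocExp.linearIndependent_idx_iff_det_wr_ne_zero] at hne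
      exact le_antisymm
        (Groth.Agent.Lib.Helper16.Jump.orders_le_of_linearIndependent hJ' hJ.1 hne l) (ha l)
  refine ⟨ha, hb, ?_⟩
  -- (c)
  have hwne : (wrMat (AlgHom.id k K) Ht φ J).det ≠ 0 := by
    rw [Groth.Agent.Lib.Helper16.Jump.wrMat_eq_wr]
    exact Groth.Agent.Lib.Helper16.Jump.det_wr_ne_zero hJ h0'
  have hcoef : wDiv (AlgHom.id k K) Ht Φ t φ J P = P.ord (wrMat (AlgHom.id k K) Ht φ J).det := by
    unfold wDiv
    rw [Finsupp.add_apply, Finsupp.add_apply, Finsupp.add_apply, Finsupp.smul_apply,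
      Finsupp.smul_apply, Groth.Agent.Lib.Helper88.FF.div_apply hK,
      Groth.Agent.Lib.Helper16.WDivAt.divDiff_apply_eq_zero Φ P t (((hΦ P).1 t).trans ht),
      Groth.Agent.Lib.Helper16.WDivAt.mapDiv_apply_eq_zero P φ heff hnorm,
      show (⇑(AlgHom.id k K) ∘ φ) = φ from rfl,
      Groth.Agent.Lib.Helper16.WDivAt.mapDiv_apply_eq_zero P φ heff hnorm]
    simp
  rw [hcoef, Groth.Agent.Lib.Helper16.WDivAt.ord_eq_zero_iff P hwne,
    ← Groth.Agent.Lib.Helper16.EvalP.evalP_ne_zero_iff P hw.1]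
  exact hb

end Groth.Agent.S12608
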