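import Groth.Statements.S12611
-- import your own Groth.Agent.* helpers here
import Groth.Agent.Lib.Helper88.SVClassical

set_option autoImplicit false
open FunFld

namespace Groth.Agent.S12611

/-- Over an algebraically closed constant field of characteristic `0` or greater than `deg φ`, a
birational projective map `φ = (φ₀, …, φₙ)` is classical: its orders are `(1, 2, …, n)`, and for a
`k`-endomorphism `τ ≠ 1` its `τ`-orders are `(0, 1, …, n-1)`. (The published statement has no
fixed-point hypothesis for `τ ≠ 1` and is false without one: on a smooth plane cubic in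
characteristic `0`, pulling back along multiplication by `-2` gives `τ`-orders `(0, 2)`. This row
assumes `τ` has a strong fixed point — a place whose maximal ideal `τ` maps into its square — which
is what the proof uses, through the equality criterion for Wronskian orders at such a point.) -/
theorem result
    (k K : Type*) [Field k] [IsAlgClosed k] [Field K] [Algebra k K]
    (hK : FunFld.IsFunctionField k K) {n : ℕ} (φ : Fin (n + 1) → K) (hφ : LinearIndependent k φ)
    (h0 : φ 0 ≠ 0) (hbir : IntermediateField.adjoin k (Set.range fun i => φ i / φ 0) = ⊤)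
    (hchar : ringChar k = 0 ∨ (FunFld.mapDiv k φ).deg < ringChar k)
    (τ : K →ₐ[k] K) (s : K) (H : K →ₐ[k] PowerSeries K) (hH : LocRes.IsHasseFamily s H) :
    (τ = AlgHom.id k K → FunFld.IsOrders K (FunFld.hcol τ H φ) (fun l : Fin n => (l : ℕ) + 1)) ∧
    (τ ≠ AlgHom.id k K → (∃ P : FunFld.Place k K, FunFld.IsStrongFixedPt τ P) →
      FunFld.IsOrders K (FunFld.hcol τ H φ) (fun l : Fin n => (l : ℕ))) := by
  classical
  choose Φ hΦ using fun P : FunFld.Place k K => Groth.Agent.Lib.Helper88.SV.exists_expansion hK P
  constructor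
  · intro hτ
    subst hτ
    obtain ⟨P⟩ := Groth.Agent.Lib.Helper88.FF.exists_place hK
    have hP : FunFld.IsFixedPt (AlgHom.id k K) P := fun z hz => hz
    refine Groth.Agent.Lib.Helper88.SV.isOrders_of_criterion hK Φ hΦ φ hφ hchar (AlgHom.id k K) hH P
      hP (fun l : Fin n => (l : ℕ) + 1) ?_ (Or.inl fun l => Nat.succ_pos _) ?_ ?_
    · intro a b hab
      simp only
      have : (a : ℕ) < b := hab
      omega
    · intro J hJ l
      apply Groth.Agent.Lib.Helper88.SV.strictMono_ge_succ hJ.1
      intro l'
      by_contra hl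
      have hl0 : J l' = 0 := by omega
      have hj : FunFld.IsJump K (FunFld.hcol (AlgHom.id k K) H φ) (0 + 1) := (hJ.2 0).mp ⟨l', hl0⟩
      apply hj
      have h10 : FunFld.hcol (AlgHom.id k K) H φ (0 + 1) = FunFld.hcol (AlgHom.id k K) H φ 0 := by
        funext i
        show LocRes.hasseD H 0 (φ i) = φ i
        rw [LocRes.hasseD_apply, PowerSeries.coeff_zero_eq_constantCoeff_apply, hH.2]
      rw [h10]
      exact Submodule.subset_span ⟨0, by simp, rfl⟩
    · intro J' hJ'mono hJ'pos hJ'char
      apply Groth.Agent.Lib.Helper88.SV.det_binomMat_succ_ne_zero J' hJ'pos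
      · intro r
        apply Groth.Agent.Lib.Helper88.SV.natCast_ne_zero_of_lt (hJ'pos r)
        rcases hJ'char with h | h
        · exact Or.inl h
        · exact Or.inr (h r)
      · exact Groth.Agent.Lib.Helper88.SV.natCast_injective_of_lt J' hJ'mono hJ'char
  · intro _ hex
    obtain ⟨P, hP⟩ := hex
    refine Groth.Agent.Lib.Helper88.SV.isOrders_of_criterion hK Φ hΦ φ hφ hchar τ hH P
      (Groth.Agent.Lib.Helper16.LocExp.isFixedPt_of_strong P hP) (fun l : Fin n => (l : ℕ)) ?_
      (Or.inr hP) ?_ ?_
    · intro a b hab
      exact hab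
    · intro J hJ l
      exact Groth.Agent.Lib.Helper88.SV.strictMono_ge hJ.1 l
    · intro J' hJ'mono hJ'pos hJ'char
      exact Groth.Agent.Lib.Helper88.SV.det_binomMat_range_ne_zero J'
        (Groth.Agent.Lib.Helper88.SV.natCast_injective_of_lt J' hJ'mono hJ'char)


end Groth.Agent.S12611
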