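import Groth.Statements.S12617
import Groth.Agent.Lib.Helper16.LocExp11

set_option autoImplicit false
open FunFld

namespace Groth.Agent.S12617

/-- Over an algebraically closed constant field, if the effective projective map `φ = (φ₀, …, φₙ)`, `n ≥
1`, normalized at `P`, is nonsingular at `P`, then its first order at `P` is `1`. -/
theorem result
    (k K : Type*) [Field k] [IsAlgClosed k] [Field K] [Algebra k K]
    (hK : FunFld.IsFunctionField k K) (P : FunFld.Place k K) {n : ℕ} (hn : 0 < n) (φ : Fin (n + 1) → K)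
    (hφ : LinearIndependent k φ)
    (heff : (1 : K) ∈ Submodule.span k (Set.range φ)) (hnorm : ∀ i, P.1 (φ i) ≤ 1) (hns : FunFld.IsNonsingularAt φ P)
    (t : K) (ht : P.1 t = WithZero.exp (-1))
    (Ht : K →ₐ[k] PowerSeries K) (hHt : LocRes.IsHasseFamily t Ht)
    (J' : Fin n → ℕ) (hJ' : FunFld.IsOrders (IsLocalRing.ResidueField P.O) (FunFld.hcolAt P Ht φ) J') :
    J' ⟨0, hn⟩ = 1 := by
  classical
  -- the subalgebra of functions congruent to a constant modulo the square of the maximal ideal
  let B : Subalgebra k K :=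
    { carrier := {z | ∃ c : k, P.1 (z - algebraMap k K c) ≤ WithZero.exp (-2 : ℤ)}
      mul_mem' := by
        rintro z z' ⟨c, hc⟩ ⟨c', hc'⟩
        refine ⟨c * c', ?_⟩
        have hz' : P.1 z' ≤ 1 := by
          have : z' = (z' - algebraMap k K c') + algebraMap k K c' := by ring
          rw [this]
          refine (P.1.map_add _ _).trans (max_le (hc'.trans ?_) (P.2.1 c'))
          rw [← WithZero.exp_zero, WithZero.exp_le_exp]; norm_num
        have : z * z' - algebraMap k K (c * c') =
            (z - algebraMap k K c) * z' + algebraMap k K c * (z' - algebraMap k K c') := by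
          rw [map_mul]; ring
        rw [this]
        refine (P.1.map_add _ _).trans (max_le ?_ ?_)
        · rw [map_mul]
          calc P.1 (z - algebraMap k K c) * P.1 z' ≤ WithZero.exp (-2 : ℤ) * 1 :=
                mul_le_mul' hc hz'
            _ = _ := mul_one _
        · rw [map_mul]
          calc P.1 (algebraMap k K c) * P.1 (z' - algebraMap k K c') ≤ 1 * WithZero.exp (-2 : ℤ) :=
                mul_le_mul' (P.2.1 c) hc'
            _ = _ := one_mul _
      add_mem' := by
        rintro z z' ⟨c, hc⟩ ⟨c', hc'⟩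
        refine ⟨c + c', ?_⟩
        have : z + z' - algebraMap k K (c + c') =
            (z - algebraMap k K c) + (z' - algebraMap k K c') := by
          rw [map_add]; ring
        rw [this]
        exact (P.1.map_add _ _).trans (max_le hc hc')
      algebraMap_mem' := fun c => ⟨c, by simp⟩ }
  obtain ⟨j, hj0, hjmax, u, hu, w, hw, hw1, htw⟩ :=
    hns t (by rw [ht, ← WithZero.exp_zero, WithZero.exp_le_exp]; norm_num)
  obtain ⟨i1, hi1⟩ := Groth.Agent.Lib.Helper16.WDivAt.exists_val_eq_one P φ heff hnorm
  have hφj : P.1 (φ j) = 1 := le_antisymm (hnorm j) (by have := hjmax i1; rwa [hi1] at this)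
  have hu1 : P.1 u = WithZero.exp (-1 : ℤ) := by
    rw [← htw, map_mul, hw1, mul_one, ht]
  have hxint : ∀ i, P.1 (φ i / φ j) ≤ 1 := by
    intro i
    rw [map_div₀, hφj, div_one]
    exact hnorm i
  -- some ratio is not congruent to a constant modulo the square of the maximal ideal
  have hex : ∃ i, φ i / φ j ∉ B := by
    by_contra hall
    have hall : ∀ i, φ i / φ j ∈ B := fun i => by
      by_contra h; exact hall ⟨i, h⟩
    have hle : Algebra.adjoin k (Set.range fun i => φ i / φ j) ≤ B := by
      rw [Algebra.adjoin_le_iff]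
      rintro _ ⟨i, rfl⟩
      exact hall i
    obtain ⟨c, hc⟩ := hle hu
    have hc0 : c = 0 := by
      by_contra hne
      have h1 : P.1 (algebraMap k K c) = 1 := Groth.Agent.Lib.Helper88.FF.val_algebraMap P hne
      have h2 : P.1 (u - algebraMap k K c) = 1 := by
        have h3 : P.1 u < P.1 (algebraMap k K c) := by
          rw [h1, hu1, ← WithZero.exp_zero, WithZero.exp_lt_exp]; norm_num
        exact (Valuation.map_sub_eq_of_lt_right P.1 h3).trans h1
      rw [h2, ← WithZero.exp_zero, WithZero.exp_le_exp] at hc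
      norm_num at hc
    rw [hc0, map_zero, sub_zero, hu1, WithZero.exp_le_exp] at hc
    norm_num at hc
  obtain ⟨i, hi⟩ := hex
  set c := Groth.Agent.Lib.Helper16.LocExp.rho hK P (φ i / φ j) with hc
  have hlt : P.1 (φ i / φ j - algebraMap k K c) < 1 :=
    Groth.Agent.Lib.Helper16.LocExp.rho_spec hK P (hxint i)
  have hnot : ¬ P.1 (φ i / φ j - algebraMap k K c) ≤ WithZero.exp (-2 : ℤ) := fun h => hi ⟨c, h⟩
  have hval : P.1 (φ i / φ j - algebraMap k K c) = WithZero.exp (-1 : ℤ) := by
    have h1 := Groth.Agent.Lib.Helper88.FF.lt_one_iff_le_exp_neg_one.mp hlt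
    have hne : P.1 (φ i / φ j - algebraMap k K c) ≠ 0 := by
      intro h0
      apply hnot
      rw [h0]; exact zero_le'
    rw [← WithZero.exp_log hne] at h1 hnot ⊢
    rw [WithZero.exp_le_exp] at h1 hnot
    congr 1
    omega
  -- the function `φ i - c φ j` of the span has order one
  have hf : φ i - c • φ j ∈ Submodule.span k (Set.range φ) :=
    Submodule.sub_mem _ (Submodule.subset_span ⟨i, rfl⟩)
      (Submodule.smul_mem _ _ (Submodule.subset_span ⟨j, rfl⟩))
  have hfval : P.1 (φ i - c • φ j) = WithZero.exp (-((1 : ℕ) : ℤ)) := by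
    have : φ i - c • φ j = (φ i / φ j - algebraMap k K c) * φ j := by
      rw [Algebra.smul_def]; field_simp
    rw [this, map_mul, hφj, mul_one, hval]
    rfl
  have hjump := Groth.Agent.Lib.Helper16.LocExp.isJump_of_exists hK P ht hHt φ hnorm 1 le_rfl hf hfval
  obtain ⟨l, hl⟩ := (hJ'.2 1).mpr hjump
  obtain ⟨g, -, -, -, hJpos, -⟩ :=
    Groth.Agent.Lib.Helper16.LocExp.exists_adapted hK P ht hHt φ hnorm J' hJ'
  have h1 : J' ⟨0, hn⟩ ≤ J' l := hJ'.1.monotone (Fin.mk_le_of_le_val (Nat.zero_le _))
  have h2 := hJpos ⟨0, hn⟩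
  omega

end Groth.Agent.S12617
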