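import Groth.Statements.S12626
import Mathlib.Tactic

set_option autoImplicit false
universe u v
open CAlg

namespace Groth.Agent.S12626

open W4bk4bump814p2 in
theorem delta_pow_mul (K : Type u) (A : Type v) [Field K] (p : ℕ) [Fact p.Prime] [CharP K p]
    [CommRing A] [Algebra K A] (i : ℕ) (x y : A) :
    delta K A p i (x ^ p * y) = ((x ^ p) ^ (p ^ i)) • delta K A p i y := by
  have hp : p.Prime := Fact.out
  have hpA : (p : A) = 0 := by
    have : (p : A) = algebraMap K A (p : K) := (map_natCast (algebraMap K A) p).symm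
    rw [this, CharP.cast_eq_zero, map_zero]
  have hD : KaehlerDifferential.D K A (x ^ p * y) = (x ^ p) • KaehlerDifferential.D K A y := by
    rw [Derivation.leibniz, Derivation.leibniz_pow]
    have : (p : ℕ) • x ^ (p - 1) • KaehlerDifferential.D K A x = 0 := by
      rw [← Nat.cast_smul_eq_nsmul A, hpA, zero_smul]
    rw [this, smul_zero, add_zero]
  unfold delta
  rw [hD, smul_smul, smul_smul]
  congr 1
  have hpos : 1 ≤ p ^ i := Nat.one_le_pow _ _ hp.pos
  obtain ⟨q, hq⟩ : ∃ q, p ^ i = q + 1 := ⟨p ^ i - 1, (Nat.sub_add_cancel hpos).symm⟩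
  rw [hq, Nat.add_sub_cancel, mul_pow, pow_succ (x ^ p) q]
  ring

open W4bk4bump814p2 in
theorem aux (K : Type u) (A : Type v) [Field K] (p : ℕ) [Fact p.Prime] [CharP K p]
    [CommRing A] [Algebra K A] (i : ℕ) : ∀ (x : A) (ω : Ω[A⁄K]), ω ∈ sigma K A p i →
    (x ^ (p ^ i)) • ω ∈ sigma K A p i := by
  induction i with
  | zero =>
    intro x ω hω
    rw [sigma_zero, Set.mem_singleton_iff] at hω ⊢
    rw [hω, smul_zero]
  | succ i ih =>
    intro x ω hω
    rw [mem_sigma_succ] at hω ⊢
    obtain ⟨y, hy⟩ := hω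
    refine ⟨x ^ p * y, ?_⟩
    have h1 := ih (x ^ p) _ hy
    have e : x ^ p ^ (i + 1) = (x ^ p) ^ (p ^ i) := by
      rw [← pow_mul, pow_succ, mul_comm]
    rw [delta_pow_mul, e, ← smul_sub]
    exact h1

/-- For a perfect field `K` of characteristic `p > 0` and a commutative `K`-algebra `A`, put `δ_i(x) =
x^(p^i - 1) dx` in `Ω_{A/K}` and let the subsets `Σ^i ⊆ Ω_{A/K}` be given by `Σ^0 = {0}` and
`Σ^(i+1) = {δ_i(x) + σ | x ∈ A, σ ∈ Σ^i}`; then `Σ^i` is stable under multiplication by `p^i`-th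
powers of elements of `A`: for `x ∈ A` and `ω ∈ Σ^i`, `x^(p^i) ω ∈ Σ^i`. This stability is what
turns the rule `x · [ω] = [x^(p^i) ω]` into an `A`-module structure on the quotient `Ω_{A/K} / Σ^i`
(the row states the stability; that `x ↦ [δ_i(x)]` is then a derivation is a direct computation and
is not restated). -/
theorem result (K : Type u) (A : Type v) [Field K] [PerfectField K] (p : ℕ) [Fact p.Prime] [CharP K p]
    [CommRing A] [Algebra K A] (i : ℕ) (x : A)
    (ω : Ω[A⁄K]) (hω : ω ∈ W4bk4bump814p2.sigma K A p i) :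
    (x ^ (p ^ i)) • ω ∈ W4bk4bump814p2.sigma K A p i := by
  exact aux K A p i x ω hω

end Groth.Agent.S12626
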