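import Groth.Statements.S1265
import Mathlib.RingTheory.Flat.EquationalCriterion
import Mathlib.RingTheory.Flat.Localization
import Mathlib.RingTheory.Spectrum.Prime.Noetherian

set_option autoImplicit false
universe u
open FlatMor

namespace Groth.Agent.S1265

open TensorProduct

section Helpers

theorem nakayama_nilpotent {D : Type u} [CommRing D] (n : Ideal D) (k : ℕ) (hk : n ^ k = ⊥)
    {M : Type u} [AddCommGroup M] [Module D M] (P : Submodule D M)
    (h : ⊤ ≤ P ⊔ n • (⊤ : Submodule D M)) : P = ⊤ := by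
  have key : ∀ i : ℕ, ⊤ ≤ P ⊔ (n ^ i) • (⊤ : Submodule D M) := by
    intro i
    induction i with
    | zero => simp
    | succ i ih =>
      calc (⊤ : Submodule D M) ≤ P ⊔ n • (⊤ : Submodule D M) := h
        _ ≤ P ⊔ n • (P ⊔ (n ^ i) • (⊤ : Submodule D M)) :=
          sup_le_sup_left (Submodule.smul_mono le_rfl ih) _
        _ ≤ P ⊔ (n ^ (i + 1)) • (⊤ : Submodule D M) := by
          rw [Submodule.smul_sup, ← Submodule.mul_smul, ← pow_succ']
          exact sup_le le_sup_left (sup_le_sup_right Submodule.smul_le_right _)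
  have := key k
  rw [hk, Submodule.bot_smul, sup_bot_eq] at this
  exact top_le_iff.mp this

theorem ker_le_smul_ker {D : Type u} [CommRing D] (n : Ideal D)
    {P M : Type u} [AddCommGroup P] [Module D P] [AddCommGroup M] [Module D M] [Module.Flat D M]
    (Φ : P →ₗ[D] M) (hΦ : Function.Surjective Φ)
    (hker : LinearMap.ker Φ ≤ n • (⊤ : Submodule D P)) :
    LinearMap.ker Φ ≤ n • LinearMap.ker Φ := by
  intro x hx
  have hx' := hker hx
  obtain ⟨ι, _, a, y, rfl⟩ : ∃ (ι : Type) (_ : Fintype ι) (a : ι → n) (y : ι → P),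
      x = ∑ i, (a i : D) • y i := by
    refine Submodule.smul_induction_on hx' ?_ ?_
    · intro r hr p _
      exact ⟨Unit, inferInstance, fun _ => ⟨r, hr⟩, fun _ => p, by simp⟩
    · rintro _ _ ⟨ι₁, _, a₁, y₁, rfl⟩ ⟨ι₂, _, a₂, y₂, rfl⟩
      exact ⟨ι₁ ⊕ ι₂, inferInstance, Sum.elim a₁ a₂, Sum.elim y₁ y₂, by simp⟩
  have hrel : ∑ i, (a i : D) • Φ (y i) = 0 := by
    have := hx
    rw [LinearMap.mem_ker, map_sum] at this
    simpa using this
  obtain ⟨κ, c, z, hz, hc⟩ := Module.Flat.isTrivialRelation_of_sum_smul_eq_zero hrel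
  choose w hw using fun k => hΦ (z k)
  have hmem : ∀ i, y i - ∑ k, c i k • w k ∈ LinearMap.ker Φ := by
    intro i
    have hz' : Φ (y i) = ∑ j, c i j • z j := hz i
    rw [LinearMap.mem_ker, map_sub, map_sum, hz', sub_eq_zero]
    simp [hw]
  have hx2 : ∑ i, (a i : D) • y i = ∑ i, (a i : D) • (y i - ∑ k, c i k • w k) := by
    have : ∑ i, (a i : D) • ∑ k, c i k • w k = 0 := by
      simp_rw [Finset.smul_sum, smul_smul]
      rw [Finset.sum_comm]
      refine Finset.sum_eq_zero fun k _ => ?_
      rw [← Finset.sum_smul, hc k, zero_smul]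
    simp_rw [smul_sub, Finset.sum_sub_distrib, this, sub_zero]
  rw [hx2]
  exact sum_mem fun i _ => Submodule.smul_mem_smul (a i).2 (hmem i)

theorem injective_of_flat_nilpotent {D : Type u} [CommRing D] (n : Ideal D) (k : ℕ)
    (hk : n ^ k = ⊥)
    {P M : Type u} [AddCommGroup P] [Module D P] [AddCommGroup M] [Module D M] [Module.Flat D M]
    (Φ : P →ₗ[D] M) (hΦ : Function.Surjective Φ)
    (hker : LinearMap.ker Φ ≤ n • (⊤ : Submodule D P)) : Function.Injective Φ := by
  have h1 := ker_le_smul_ker n Φ hΦ hker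
  have key : ∀ i : ℕ, LinearMap.ker Φ ≤ (n ^ i) • LinearMap.ker Φ := by
    intro i
    induction i with
    | zero => simp
    | succ i ih =>
      calc LinearMap.ker Φ ≤ n • LinearMap.ker Φ := h1
        _ ≤ n • ((n ^ i) • LinearMap.ker Φ) := Submodule.smul_mono le_rfl ih
        _ = (n ^ (i + 1)) • LinearMap.ker Φ := by rw [← Submodule.mul_smul, ← pow_succ']
  have := key k
  rw [hk, Submodule.bot_smul, le_bot_iff] at this
  exact LinearMap.ker_eq_bot.mp this

variable {C : Type u} [CommRing C] (m : Ideal C) [hm : m.IsMaximal]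
  (N : Type u) [AddCommGroup N] [Module C N]

theorem exists_cover : ∃ (J : Type u) (v : J → N),
    (⊤ ≤ LinearMap.range (Finsupp.linearCombination C v) ⊔ m • (⊤ : Submodule C N)) ∧
    ∀ f : J →₀ C, Finsupp.linearCombination C v f ∈ m • (⊤ : Submodule C N) →
      ∀ j, f j ∈ m := by
  classical
  let _ : Field (C ⧸ m) := Ideal.Quotient.field m
  let Nb := N ⧸ (m • ⊤ : Submodule C N)
  let b := Module.Basis.ofVectorSpace (C ⧸ m) Nb
  let J := Module.Basis.ofVectorSpaceIndex (C ⧸ m) Nb
  have hsurj := Submodule.mkQ_surjective (m • ⊤ : Submodule C N)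
  choose v hv using fun j : J => hsurj (b j)
  have hcomb : ∀ f : J →₀ C, (m • ⊤ : Submodule C N).mkQ (Finsupp.linearCombination C v f) =
      Finsupp.linearCombination (C ⧸ m) b (f.mapRange (Ideal.Quotient.mk m) (map_zero _)) := by
    intro f
    rw [Finsupp.linearCombination_apply, Finsupp.linearCombination_apply, map_finsuppSum,
      Finsupp.sum_mapRange_index (by intro a; simp)]
    refine Finsupp.sum_congr fun j _ => ?_
    rw [map_smul, hv j]
    rfl
  refine ⟨J, v, ?_, ?_⟩
  · intro y _
    obtain ⟨g, hg⟩ := Finsupp.mapRange_surjective (Ideal.Quotient.mk m) (map_zero _)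
      Ideal.Quotient.mk_surjective (b.repr ((m • ⊤ : Submodule C N).mkQ y))
    have h1 : (m • ⊤ : Submodule C N).mkQ (y - Finsupp.linearCombination C v g) = 0 := by
      rw [map_sub, hcomb g, hg, Module.Basis.linearCombination_repr, sub_self]
    rw [Submodule.mkQ_apply, Submodule.Quotient.mk_eq_zero] at h1
    have : y = Finsupp.linearCombination C v g + (y - Finsupp.linearCombination C v g) := by abel
    rw [this]
    exact Submodule.add_mem_sup (LinearMap.mem_range_self _ g) h1
  · intro f hf j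
    have h1 : (m • ⊤ : Submodule C N).mkQ (Finsupp.linearCombination C v f) = 0 := by
      rw [Submodule.mkQ_apply, Submodule.Quotient.mk_eq_zero]
      exact hf
    rw [hcomb f] at h1
    have h2 := (Module.Basis.linearIndependent b)
    rw [linearIndependent_iff] at h2
    have h3 := h2 _ h1
    have h4 := DFunLike.congr_fun h3 j
    rw [Finsupp.mapRange_apply, Finsupp.zero_apply] at h4
    exact Ideal.Quotient.eq_zero_iff_mem.mp h4

theorem tmul_mem_smul_top {D : Type u} [CommRing D] [Algebra C D]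
    {F : Type u} [AddCommGroup F] [Module C F] (d : D) (f : F)
    (hf : f ∈ m • (⊤ : Submodule C F)) :
    d ⊗ₜ[C] f ∈ (m.map (algebraMap C D)) • (⊤ : Submodule D (D ⊗[C] F)) := by
  refine Submodule.smul_induction_on hf ?_ ?_
  · intro μ hμ f' _
    have : d ⊗ₜ[C] (μ • f') = (algebraMap C D μ) • (d ⊗ₜ[C] f') := by
      rw [TensorProduct.tmul_smul, algebraMap_smul]
    rw [this]
    exact Submodule.smul_mem_smul (Ideal.mem_map_of_mem _ hμ) Submodule.mem_top
  · intro x y hx hy
    rw [TensorProduct.tmul_add]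
    exact Submodule.add_mem _ hx hy

theorem ker_lTensor_le {C : Type u} [CommRing C] {F Q : Type u} [AddCommGroup F] [Module C F]
    [AddCommGroup Q] [Module C Q] (ψ : F →ₗ[C] Q) (hψ : Function.Surjective ψ)
    (D : Type u) [CommRing D] [Algebra C D] (t : D ⊗[C] F) (ht : ψ.lTensor D t = 0) :
    t ∈ Submodule.span D {s : D ⊗[C] F | ∃ f, ψ f = 0 ∧ ∃ d : D, s = d ⊗ₜ[C] f} := by
  have hex : Function.Exact (LinearMap.ker ψ).subtype ψ := LinearMap.exact_subtype_ker_map ψ
  have hex' := lTensor_exact D hex hψ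
  obtain ⟨s, rfl⟩ := (hex' t).mp ht
  induction s with
  | zero => simp
  | add x y hx hy =>
    rw [map_add] at ht ⊢
    have hx0 : ψ.lTensor D ((LinearMap.ker ψ).subtype.lTensor D x) = 0 :=
      (hex' _).mpr ⟨x, rfl⟩
    have hy0 : ψ.lTensor D ((LinearMap.ker ψ).subtype.lTensor D y) = 0 :=
      (hex' _).mpr ⟨y, rfl⟩
    exact Submodule.add_mem _ (hx hx0) (hy hy0)
  | tmul d f =>
    rw [LinearMap.lTensor_tmul]
    exact Submodule.subset_span ⟨f.1, LinearMap.mem_ker.mp f.2, d, rfl⟩

theorem local_flattening (k : ℕ) (hk : m ^ k = ⊥) :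
    ∃ I : Ideal C, ∀ (D : Type u) [CommRing D] [Algebra C D],
      Module.Flat D (D ⊗[C] N) ↔ I.map (algebraMap C D) = ⊥ := by
  classical
  obtain ⟨J, v, hsup, hindep⟩ := exists_cover m N
  set π : (J →₀ C) →ₗ[C] N := Finsupp.linearCombination C v with hπdef
  have hπ : Function.Surjective π :=
    LinearMap.range_eq_top.mp (nakayama_nilpotent m k hk _ hsup)
  refine ⟨Ideal.span {c | ∃ x : J →₀ C, π x = 0 ∧ ∃ j, x j = c}, ?_⟩
  intro D _ _
  set Φ : D ⊗[C] (J →₀ C) →ₗ[D] D ⊗[C] N := π.baseChange D with hΦdef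
  have hΦfun : ∀ t, Φ t = π.lTensor D t := fun t => rfl
  have hΦ : Function.Surjective Φ := by
    intro y
    obtain ⟨t, ht⟩ := LinearMap.lTensor_surjective D hπ y
    exact ⟨t, ht⟩
  constructor
  · intro hflat
    have hnk : (m.map (algebraMap C D)) ^ k = ⊥ := by
      rw [← Ideal.map_pow, hk, Ideal.map_bot]
    have hker : LinearMap.ker Φ ≤
        (m.map (algebraMap C D)) • (⊤ : Submodule D (D ⊗[C] (J →₀ C))) := by
      intro t ht
      set q := (m • ⊤ : Submodule C N).mkQ with hq
      have hψsurj : Function.Surjective (q ∘ₗ π) :=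
        (Submodule.mkQ_surjective _).comp hπ
      have h0 : (q ∘ₗ π).lTensor D t = 0 := by
        rw [LinearMap.lTensor_comp, LinearMap.comp_apply, ← hΦfun, LinearMap.mem_ker.mp ht,
          map_zero]
      have h1 := ker_lTensor_le (q ∘ₗ π) hψsurj D t h0
      refine (Submodule.span_le.mpr ?_) h1
      rintro _ ⟨f, hf, d, rfl⟩
      rw [LinearMap.comp_apply, hq, Submodule.mkQ_apply, Submodule.Quotient.mk_eq_zero] at hf
      have hj := hindep f hf
      refine tmul_mem_smul_top m d f ?_
      rw [← Finsupp.sum_single f, Finsupp.sum]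
      refine sum_mem fun j _ => ?_
      rw [← Finsupp.smul_single_one]
      exact Submodule.smul_mem_smul (hj j) Submodule.mem_top
    have hinj := injective_of_flat_nilpotent (m.map (algebraMap C D)) k hnk Φ hΦ hker
    rw [Ideal.map_eq_bot_iff_le_ker]
    refine Ideal.span_le.mpr ?_
    rintro _ ⟨x, hx, j, rfl⟩
    have h1 : Φ ((1 : D) ⊗ₜ[C] x) = 0 := by
      rw [hΦfun, LinearMap.lTensor_tmul, hx, TensorProduct.tmul_zero]
    have h2 : (1 : D) ⊗ₜ[C] x = 0 := hinj (by rw [h1, map_zero])
    have h3 := congrArg (fun t => TensorProduct.rid C D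
      ((Finsupp.lapply j : (J →₀ C) →ₗ[C] C).lTensor D t)) h2
    simp only [LinearMap.lTensor_tmul, Finsupp.lapply_apply, TensorProduct.rid_tmul, map_zero] at h3
    rw [SetLike.mem_coe, RingHom.mem_ker, Algebra.algebraMap_eq_smul_one]
    exact h3
  · intro hI
    have hinj : Function.Injective Φ := by
      rw [← LinearMap.ker_eq_bot, eq_bot_iff]
      intro t ht
      have h1 := ker_lTensor_le π hπ D t (by rw [← hΦfun]; exact LinearMap.mem_ker.mp ht)
      have h2 : Submodule.span D {s : D ⊗[C] (J →₀ C) | ∃ f, π f = 0 ∧ ∃ d : D, s = d ⊗ₜ[C] f} ≤ ⊥ := by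
        refine Submodule.span_le.mpr ?_
        rintro _ ⟨f, hf, d, rfl⟩
        rw [SetLike.mem_coe, Submodule.mem_bot]
        rw [← Finsupp.sum_single f, Finsupp.sum, TensorProduct.tmul_sum]
        refine Finset.sum_eq_zero fun j _ => ?_
        have h0 : algebraMap C D (f j) = 0 := by
          have : algebraMap C D (f j) ∈
              (Ideal.span {c | ∃ x : J →₀ C, π x = 0 ∧ ∃ j, x j = c}).map (algebraMap C D) :=
            Ideal.mem_map_of_mem _ (Ideal.subset_span ⟨f, hf, j, rfl⟩)
          rw [hI] at this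
          exact this
        rw [← Finsupp.smul_single_one, TensorProduct.tmul_smul, TensorProduct.smul_tmul',
          Algebra.smul_def, h0, zero_mul, TensorProduct.zero_tmul]
      exact h2 h1
    exact Module.Flat.of_linearEquiv (LinearEquiv.ofBijective Φ ⟨hinj, hΦ⟩).symm

theorem flat_cancel {A B D : Type u} [CommRing A] [CommRing B] [CommRing D] [Algebra A B]
    [Algebra B D] [Algebra A D] [IsScalarTower A B D]
    (N : Type u) [AddCommGroup N] [Module A N] :
    Module.Flat D (D ⊗[B] (B ⊗[A] N)) ↔ Module.Flat D (D ⊗[A] N) :=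
  ⟨fun _ => Module.Flat.of_linearEquiv
      (TensorProduct.AlgebraTensorModule.cancelBaseChange A B D D N).symm,
    fun _ => Module.Flat.of_linearEquiv
      (TensorProduct.AlgebraTensorModule.cancelBaseChange A B D D N)⟩

theorem exists_nilpotent_maximal {A : Type u} [CommRing A] [IsArtinianRing A]
    (p : Ideal A) [p.IsPrime] :
    ∃ k : ℕ, (IsLocalRing.maximalIdeal (Localization.AtPrime p)) ^ k = ⊥ := by
  have h := IsArtinianRing.isNilpotent_jacobson_bot (R := Localization.AtPrime p)
  rw [IsLocalRing.jacobson_eq_maximalIdeal ⊥ bot_ne_top] at h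
  obtain ⟨k, hk⟩ := h
  exact ⟨k, hk⟩

theorem global_flattening {A : Type u} [CommRing A] [IsArtinianRing A]
    (N : Type u) [AddCommGroup N] [Module A N] :
    ∃ I : Ideal A, ∀ (A' : Type u) [CommRing A'] [Algebra A A'],
      Module.Flat A' (A' ⊗[A] N) ↔ I.map (algebraMap A A') = ⊥ := by
  classical
  have hloc : ∀ 𝔪 : MaximalSpectrum A, ∃ I : Ideal (Localization.AtPrime 𝔪.asIdeal),
      ∀ (D : Type u) [CommRing D] [Algebra (Localization.AtPrime 𝔪.asIdeal) D],
        Module.Flat D (D ⊗[Localization.AtPrime 𝔪.asIdeal]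
          (Localization.AtPrime 𝔪.asIdeal ⊗[A] N)) ↔
          I.map (algebraMap (Localization.AtPrime 𝔪.asIdeal) D) = ⊥ := by
    intro 𝔪
    obtain ⟨k, hk⟩ := exists_nilpotent_maximal 𝔪.asIdeal
    exact local_flattening (IsLocalRing.maximalIdeal (Localization.AtPrime 𝔪.asIdeal))
      (Localization.AtPrime 𝔪.asIdeal ⊗[A] N) k hk
  choose Iloc hIloc using hloc
  refine ⟨⨅ 𝔪, (Iloc 𝔪).comap (algebraMap A (Localization.AtPrime 𝔪.asIdeal)), ?_⟩
  intro A' _ _
  have key : ∀ (q : Ideal A') [q.IsMaximal],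
      ∃ (𝔪 : MaximalSpectrum A) (φ : Localization.AtPrime 𝔪.asIdeal →+* Localization.AtPrime q),
        (∀ a : A, φ (algebraMap A _ a) = algebraMap A' (Localization.AtPrime q) (algebraMap A A' a)) ∧
        (Module.Flat (Localization.AtPrime q) (Localization.AtPrime q ⊗[A'] (A' ⊗[A] N)) ↔
          (Iloc 𝔪).map φ = ⊥) := by
    intro q _
    have hpmax : (q.comap (algebraMap A A')).IsMaximal := inferInstance
    let 𝔪 : MaximalSpectrum A := ⟨q.comap (algebraMap A A'), hpmax⟩
    let φ : Localization.AtPrime 𝔪.asIdeal →+* Localization.AtPrime q :=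
      Localization.localRingHom (q.comap (algebraMap A A')) q (algebraMap A A') rfl
    have hφ : ∀ a : A, φ (algebraMap A _ a) =
        algebraMap A' (Localization.AtPrime q) (algebraMap A A' a) := fun a =>
      Localization.localRingHom_to_map _ _ _ rfl a
    refine ⟨𝔪, φ, hφ, ?_⟩
    letI : Algebra (Localization.AtPrime 𝔪.asIdeal) (Localization.AtPrime q) := φ.toAlgebra
    have htower : IsScalarTower A (Localization.AtPrime 𝔪.asIdeal) (Localization.AtPrime q) :=
      IsScalarTower.of_algebraMap_eq fun a => by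
        rw [IsScalarTower.algebraMap_apply A A' (Localization.AtPrime q)]
        exact (hφ a).symm
    rw [flat_cancel (A := A) (B := A') (D := Localization.AtPrime q) N,
      ← flat_cancel (A := A) (B := Localization.AtPrime 𝔪.asIdeal) (D := Localization.AtPrime q) N]
    exact hIloc 𝔪 (Localization.AtPrime q)
  constructor
  · intro hflat
    rw [Ideal.map_eq_bot_iff_le_ker]
    intro a ha
    rw [RingHom.mem_ker]
    refine eq_zero_of_localization _ fun q hq => ?_
    obtain ⟨𝔪, φ, hφ, hiff⟩ := key q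
    have h1 := hiff.mp inferInstance
    have h2 : algebraMap A (Localization.AtPrime 𝔪.asIdeal) a ∈ Iloc 𝔪 := by
      have := (iInf_le (fun 𝔪 => (Iloc 𝔪).comap
        (algebraMap A (Localization.AtPrime 𝔪.asIdeal))) 𝔪) ha
      exact this
    have h3 : φ (algebraMap A _ a) ∈ (Iloc 𝔪).map φ := Ideal.mem_map_of_mem _ h2
    rw [h1, Ideal.mem_bot, hφ] at h3
    exact h3
  · intro hI
    refine Module.flat_of_localized_maximal (A' ⊗[A] N) fun q hq => ?_
    obtain ⟨𝔪, φ, hφ, hiff⟩ := key q
    have h1 : (Iloc 𝔪).map φ = ⊥ := by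
      rw [Ideal.map_eq_bot_iff_le_ker]
      intro x hx
      rw [RingHom.mem_ker]
      let a : A := (MaximalSpectrum.toPiLocalizationEquiv A).symm (Pi.single 𝔪 x)
      have ha : ∀ 𝔪' : MaximalSpectrum A,
          algebraMap A (Localization.AtPrime 𝔪'.asIdeal) a = (Pi.single 𝔪 x : ∀ 𝔪' : MaximalSpectrum A, Localization.AtPrime 𝔪'.asIdeal) 𝔪' := by
        intro 𝔪'
        rw [← MaximalSpectrum.toPiLocalizationEquiv_apply_apply]
        simp only [a, AlgEquiv.apply_symm_apply]
      have haI : a ∈ ⨅ 𝔪, (Iloc 𝔪).comap (algebraMap A (Localization.AtPrime 𝔪.asIdeal)) := by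
        rw [Ideal.mem_iInf]
        intro 𝔪'
        rw [Ideal.mem_comap, ha 𝔪']
        by_cases h : 𝔪' = 𝔪
        · subst h
          rw [Pi.single_eq_same]
          exact hx
        · rw [Pi.single_eq_of_ne h]
          exact Ideal.zero_mem _
      have h0 : algebraMap A A' a = 0 := by
        have : algebraMap A A' a ∈ (⨅ 𝔪, (Iloc 𝔪).comap
            (algebraMap A (Localization.AtPrime 𝔪.asIdeal))).map (algebraMap A A') :=
          Ideal.mem_map_of_mem _ haI
        rw [hI] at this
        exact this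
      have hx' : x = algebraMap A _ a := by rw [ha 𝔪, Pi.single_eq_same]
      rw [hx', hφ, h0, map_zero]
    have h2 := hiff.mpr h1
    have hbc := IsLocalizedModule.isBaseChange q.primeCompl (Localization.AtPrime q)
      (LocalizedModule.mkLinearMap q.primeCompl (A' ⊗[A] N))
    have h3 : Module.Flat (Localization.AtPrime q) (LocalizedModule q.primeCompl (A' ⊗[A] N)) :=
      Module.Flat.of_linearEquiv hbc.equiv.symm
    exact Module.Flat.trans A' (Localization.AtPrime q) _

end Helpers

/-- Ring form, stated for X = Spec B affine: let A be an Artinian ring, B an A-algebra and N a B-module.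
Then there is an ideal I of A such that for every A-algebra A', with B' = B ⊗_A A' and N' the base
change of N (any models), N' is flat over A' if and only if IA' = 0. -/
theorem result {A B : Type u} [CommRing A] [IsArtinianRing A] [CommRing B] [Algebra A B]
    (N : Type u) [AddCommGroup N] [Module B N] [Module A N] [IsScalarTower A B N] :
    ∃ I : Ideal A, ∀ (A' B' N' : Type u) [CommRing A'] [CommRing B'] [Algebra A A'] [Algebra B B'] [Algebra A' B'] [Algebra A B']
      [IsScalarTower A B B'] [IsScalarTower A A' B'] [Algebra.IsPushout A B A' B']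
      [AddCommGroup N'] [Module B' N'] [Module B N'] [IsScalarTower B B' N'] [Module A' N'] [IsScalarTower A' B' N']
      (f : N →ₗ[B] N'), IsBaseChange B' f →
      (Module.Flat A' N' ↔ I.map (algebraMap A A') = ⊥) := by
  obtain ⟨I, hI⟩ := global_flattening (A := A) N
  refine ⟨I, ?_⟩
  intro A' B' N' _ _ _ _ _ _ _ _ _ _ _ _ _ _ _ f hf
  have hpo : Algebra.IsPushout A A' B B' := Algebra.IsPushout.symm inferInstance
  let e1 : (B' ⊗[B] N) ≃ₗ[A'] N' := hf.equiv.restrictScalars A'
  let e2 : (B' ⊗[B] N) ≃ₗ[A'] (A' ⊗[A] N) := Algebra.IsPushout.cancelBaseChange A A' B B' N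
  let e : N' ≃ₗ[A'] (A' ⊗[A] N) := e1.symm ≪≫ₗ e2
  rw [← hI A']
  constructor
  · intro h
    exact Module.Flat.of_linearEquiv e.symm
  · intro h
    exact Module.Flat.of_linearEquiv e

end Groth.Agent.S1265
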