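import Groth.Statements.S6893
import Mathlib

set_option autoImplicit false
universe u
open TensorProduct
open CAlg

namespace Groth.Agent.S6893

open scoped TensorProduct
open TensorProduct

section key
variable {R : Type u} [CommRing R] (I : Ideal R) (M : Type u) [AddCommGroup M] [Module R M]

/-- the `R`-linear inclusion of an ideal of `R ⧸ I`. -/
noncomputable def incl (Q : Ideal (R ⧸ I)) : Q →ₗ[R] (R ⧸ I) := (Q.subtype).restrictScalars R

lemma sq (Q : Ideal (R ⧸ I)) (z : Q ⊗[R ⧸ I] ((R ⧸ I) ⊗[R] M)) :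
    AlgebraTensorModule.cancelBaseChange R (R ⧸ I) (R ⧸ I) (R ⧸ I) M
      (LinearMap.rTensor ((R ⧸ I) ⊗[R] M) Q.subtype z) =
    LinearMap.rTensor M (incl I Q)
      (AlgebraTensorModule.cancelBaseChange R (R ⧸ I) (R ⧸ I) Q M z) := by
  induction z using TensorProduct.induction_on with
  | zero => simp
  | add x y hx hy => simp only [map_add, hx, hy]
  | tmul q w =>
    induction w using TensorProduct.induction_on with
    | zero => simp
    | add x y hx hy => simp only [tmul_add, map_add, hx, hy]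
    | tmul a m =>
      simp only [LinearMap.rTensor_tmul, AlgebraTensorModule.cancelBaseChange_tmul, incl,
        LinearMap.coe_restrictScalars, Submodule.subtype_apply, Submodule.coe_smul]

lemma key_inj [Module.Flat (R ⧸ I) ((R ⧸ I) ⊗[R] M)] (Q : Ideal (R ⧸ I)) :
    Function.Injective (LinearMap.rTensor M (incl I Q)) := by
  intro z₁ z₂ h
  obtain ⟨w₁, rfl⟩ :=
    (AlgebraTensorModule.cancelBaseChange R (R ⧸ I) (R ⧸ I) Q M).surjective z₁
  obtain ⟨w₂, rfl⟩ :=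
    (AlgebraTensorModule.cancelBaseChange R (R ⧸ I) (R ⧸ I) Q M).surjective z₂
  rw [← sq, ← sq] at h
  have h' := (AlgebraTensorModule.cancelBaseChange R (R ⧸ I) (R ⧸ I) (R ⧸ I) M).injective h
  have hinj : Function.Injective (LinearMap.rTensor ((R ⧸ I) ⊗[R] M) Q.subtype) :=
    Module.Flat.rTensor_preserves_injective_linearMap Q.subtype Subtype.val_injective
  rw [hinj h']

lemma flat_of_inj (h : ∀ Q : Ideal (R ⧸ I), Function.Injective (LinearMap.rTensor M (incl I Q))) :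
    Module.Flat (R ⧸ I) ((R ⧸ I) ⊗[R] M) := by
  rw [Module.Flat.iff_rTensor_injective']
  intro Q z₁ z₂ hz
  have := congrArg (AlgebraTensorModule.cancelBaseChange R (R ⧸ I) (R ⧸ I) (R ⧸ I) M) hz
  rw [sq, sq] at this
  exact (AlgebraTensorModule.cancelBaseChange R (R ⧸ I) (R ⧸ I) Q M).injective (h Q this)

end key


/-- Let `M` be a module over a ring `R` and `I₁, I₂ ⊆ R` ideals. Suppose flatness of `M/I₁M` as an
`R/I₁`-module holds, and likewise `M/I₂M` is a flat `R/I₂`-module; then the quotient `M/(I₁ ∩ I₂)M`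
is also flat as a module over `R/(I₁ ∩ I₂)`. -/
theorem result {R : Type u} [CommRing R] (M : Type u) [AddCommGroup M] [Module R M]
    (I₁ I₂ : Ideal R) [Module.Flat (R ⧸ I₁) ((R ⧸ I₁) ⊗[R] M)] [Module.Flat (R ⧸ I₂) ((R ⧸ I₂) ⊗[R] M)] :
    Module.Flat (R ⧸ (I₁ ⊓ I₂)) ((R ⧸ (I₁ ⊓ I₂)) ⊗[R] M) := by
  classical
  refine flat_of_inj (I₁ ⊓ I₂) M ?_
  intro J
  let Rb := R ⧸ (I₁ ⊓ I₂)
  let p₁ : Rb →ₐ[R] R ⧸ I₁ := Ideal.Quotient.factorₐ R inf_le_left
  let p₂ : Rb →ₐ[R] R ⧸ I₂ := Ideal.Quotient.factorₐ R inf_le_right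
  have hp₁surj : Function.Surjective p₁ := Ideal.Quotient.factor_surjective inf_le_left
  have hp₂surj : Function.Surjective p₂ := Ideal.Quotient.factor_surjective inf_le_right
  have hker0 : ∀ k : Rb, p₁ k = 0 → p₂ k = 0 → k = 0 := by
    intro k h1 h2
    obtain ⟨r, rfl⟩ := Ideal.Quotient.mk_surjective k
    have h1' : r ∈ I₁ := Ideal.Quotient.eq_zero_iff_mem.mp h1
    have h2' : r ∈ I₂ := Ideal.Quotient.eq_zero_iff_mem.mp h2
    exact Ideal.Quotient.eq_zero_iff_mem.mpr ⟨h1', h2'⟩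
  -- the image ideal J₁ of J in R/I₁
  let J₁ : Ideal (R ⧸ I₁) := Ideal.map p₁.toRingHom J
  have hJ₁mem : ∀ j : J, p₁ (j : Rb) ∈ J₁ := fun j => Ideal.mem_map_of_mem _ j.2
  let π₁ : J →ₗ[R] J₁ := LinearMap.codRestrict (J₁.restrictScalars R)
    (p₁.toLinearMap ∘ₗ incl (I₁ ⊓ I₂) J) hJ₁mem
  have hπ₁surj : Function.Surjective π₁ := by
    rintro ⟨c, hc⟩
    obtain ⟨j, hj, hjc⟩ := (Ideal.mem_map_iff_of_surjective p₁.toRingHom hp₁surj).mp hc
    exact ⟨⟨j, hj⟩, Subtype.ext hjc⟩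
  -- the kernel ideal K
  let K : Ideal Rb := J ⊓ RingHom.ker p₁.toRingHom
  have hKJ : K ≤ J := inf_le_left
  let ι : K →ₗ[R] J := (Submodule.inclusion hKJ).restrictScalars R
  have hex : Function.Exact ι π₁ := by
    intro j
    constructor
    · intro hj
      have hj' : p₁ (j : Rb) = 0 := congrArg Subtype.val hj
      exact ⟨⟨j.1, ⟨j.2, hj'⟩⟩, Subtype.ext rfl⟩
    · rintro ⟨k, rfl⟩
      exact Subtype.ext k.2.2
  have hex' := rTensor_exact M hex hπ₁surj
  -- the image ideal J₂ of K in R/I₂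
  let J₂ : Ideal (R ⧸ I₂) := Ideal.map p₂.toRingHom K
  have hJ₂mem : ∀ k : K, p₂ (k : Rb) ∈ J₂ := fun k => Ideal.mem_map_of_mem _ k.2
  let κ₂ : K →ₗ[R] J₂ := LinearMap.codRestrict (J₂.restrictScalars R)
    (p₂.toLinearMap ∘ₗ incl (I₁ ⊓ I₂) K) hJ₂mem
  have hκ₂bij : Function.Bijective κ₂ := by
    constructor
    · rw [injective_iff_map_eq_zero]
      intro k hk
      have hk2 : p₂ (k : Rb) = 0 := congrArg Subtype.val hk
      exact Subtype.ext (hker0 _ k.2.2 hk2)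
    · rintro ⟨c, hc⟩
      obtain ⟨k, hk, hkc⟩ := (Ideal.mem_map_iff_of_surjective p₂.toRingHom hp₂surj).mp hc
      exact ⟨⟨k, hk⟩, Subtype.ext hkc⟩
  let κe : K ≃ₗ[R] J₂ := LinearEquiv.ofBijective κ₂ hκ₂bij
  have hκinj : Function.Injective (LinearMap.rTensor M κ₂) := by
    have : LinearMap.rTensor M κ₂ = (TensorProduct.congr κe (LinearEquiv.refl R M)).toLinearMap := by
      refine TensorProduct.ext' fun k m => ?_
      simp [κe]
    rw [this]
    exact (TensorProduct.congr κe (LinearEquiv.refl R M)).injective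
  -- the chase
  rw [injective_iff_map_eq_zero]
  intro z hz
  have hc1 : incl I₁ J₁ ∘ₗ π₁ = p₁.toLinearMap ∘ₗ incl (I₁ ⊓ I₂) J := by
    refine LinearMap.ext fun j => ?_
    rfl
  have h1 : LinearMap.rTensor M π₁ z = 0 := by
    apply key_inj I₁ M J₁
    rw [map_zero, ← LinearMap.rTensor_comp_apply, hc1, LinearMap.rTensor_comp_apply, hz, map_zero]
  obtain ⟨z', rfl⟩ := (hex' z).mp h1
  have hc2 : incl I₂ J₂ ∘ₗ κ₂ = p₂.toLinearMap ∘ₗ incl (I₁ ⊓ I₂) J ∘ₗ ι := by
    refine LinearMap.ext fun k => ?_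
    rfl
  have h2 : LinearMap.rTensor M κ₂ z' = 0 := by
    apply key_inj I₂ M J₂
    rw [map_zero, ← LinearMap.rTensor_comp_apply, hc2, LinearMap.rTensor_comp_apply,
      LinearMap.rTensor_comp_apply, hz, map_zero]
  have h3 : z' = 0 := hκinj (by rw [h2, map_zero])
  rw [h3, map_zero]

end Groth.Agent.S6893
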