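import Mathlib
-- Template for statement S1267 (row 1267; see the milestone table for weights).
-- Copy to Groth/Agent/S1267.lean and replace the sorry. The statement below is byte-identical to the frozen
-- statement FlatMor.GrothFrozen.S1267 (Groth/Statements/S1267.lean; the theorem FlatMor.flat_mod_smaller_ideal_of_flat_on_open);
-- the grader kernel-checks Groth.Agent.S1267.result against that frozen type. Keep the theorem IN THIS FILE
-- (a `result` declared elsewhere and merely imported here is not credited); helpers may live anywhere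
-- under Groth/Agent/.
import Groth.Statements.S1267
import Groth.Agent.Lib.Helper24.IdeallySep
import Groth.Agent.S6893

set_option autoImplicit false
universe u
open FlatMor

namespace Groth.Agent.S1267

open scoped TensorProduct
open TensorProduct

open Groth.Agent.Lib.Helper24.IdeallySep in
theorem core {A : Type u} [CommRing A] (I : Ideal A) (t : Finset A) (M : Type u)
    [AddCommGroup M] [Module A M] [Module.Flat (A ⧸ I) ((A ⧸ I) ⊗[A] M)]
    (hflat : ∀ p : PrimeSpectrum A, (∃ f ∈ t, f ∉ p.asIdeal) →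
      Module.Flat A (LocalizedModule p.asIdeal.primeCompl M))
    (I₂ : Ideal A) (hI₂ : ∀ x : A, x ∈ I₂ ↔ x ∈ I ∧ ∀ p : PrimeSpectrum A,
      (∃ f ∈ t, f ∉ p.asIdeal) → ∃ s : A, s ∉ p.asIdeal ∧ s * x ∈ I ^ 2) :
    Module.Flat (A ⧸ I₂) ((A ⧸ I₂) ⊗[A] M) := by
  refine Groth.Agent.S6893.flat_of_inj I₂ M (fun Q => ?_)
  rw [injective_iff_map_eq_zero]
  intro z hz
  have hI₂I : I₂ ≤ I := fun x hx => ((hI₂ x).1 hx).1
  have hsq : I ^ 2 ≤ I₂ := fun x hx => (hI₂ x).2
    ⟨Ideal.pow_le_self two_ne_zero hx, fun p _ =>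
      ⟨1, (Ideal.ne_top_iff_one _).1 p.2.ne_top, by rwa [one_mul]⟩⟩
  -- Step 0
  let c : (A ⧸ I₂) →ₗ[A] (A ⧸ I) := (Ideal.Quotient.factorₐ A hI₂I).toLinearMap
  let g : Q →ₗ[A] (A ⧸ I) := c ∘ₗ Groth.Agent.S6893.incl I₂ Q
  let K : Submodule A Q := LinearMap.ker g
  let gbar : (Q ⧸ K) →ₗ[A] (A ⧸ I) := K.liftQ g le_rfl
  have hgbar : Function.Injective gbar := by
    rw [← LinearMap.ker_eq_bot]
    exact Submodule.ker_liftQ_eq_bot _ _ le_rfl le_rfl
  have hQ' : ∀ a ∈ I, ∀ q : A ⧸ I, a • q = 0 := by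
    intro a ha q
    obtain ⟨x, rfl⟩ := Ideal.Quotient.mk_surjective q
    rw [Algebra.smul_def]
    change Ideal.Quotient.mk I a * Ideal.Quotient.mk I x = 0
    rw [Ideal.Quotient.eq_zero_iff_mem.mpr ha, zero_mul]
  have hQ : ∀ a ∈ I, ∀ q : Q ⧸ K, a • q = 0 := by
    intro a ha q
    obtain ⟨x, rfl⟩ := Submodule.Quotient.mk_surjective _ q
    rw [← Submodule.Quotient.mk_smul, Submodule.Quotient.mk_eq_zero, LinearMap.mem_ker, map_smul]
    exact hQ' a ha _
  have hinj0 := rTensor_injective_of_flat_quotient I M gbar hgbar hQ hQ'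
  have h0 : K.mkQ.rTensor M z = 0 := by
    apply hinj0
    rw [map_zero, ← LinearMap.comp_apply, ← LinearMap.rTensor_comp]
    have : gbar ∘ₗ K.mkQ = g := Submodule.liftQ_mkQ _ g le_rfl
    rw [this]
    change (c ∘ₗ Groth.Agent.S6893.incl I₂ Q).rTensor M z = 0
    rw [LinearMap.rTensor_comp, LinearMap.comp_apply, hz, map_zero]
  obtain ⟨z1, rfl⟩ := (rTensor_exact (M := ↥K) (f := K.subtype) M
    (LinearMap.exact_subtype_mkQ _) (Submodule.mkQ_surjective _) z).mp h0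
  -- Step 1
  have hKI : ∀ k : K, ∀ x : A, ((k : Q) : A ⧸ I₂) = Ideal.Quotient.mk I₂ x → x ∈ I := by
    intro k x hx
    have h1 : g (k : Q) = 0 := k.2
    have h2 : g (k : Q) = Ideal.Quotient.mk I x := by
      change c ((k : Q) : A ⧸ I₂) = _
      rw [hx]
      rfl
    rw [h2] at h1
    exact Ideal.Quotient.eq_zero_iff_mem.mp h1
  have hJG : ∀ a ∈ I, ∀ k : K, a • k = 0 := by
    intro a ha k
    obtain ⟨x, hx⟩ := Ideal.Quotient.mk_surjective ((k : Q) : A ⧸ I₂)
    have hxI := hKI k x hx.symm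
    apply Subtype.ext
    apply Subtype.ext
    change a • ((k : Q) : A ⧸ I₂) = 0
    rw [← hx, Algebra.smul_def]
    change Ideal.Quotient.mk I₂ a * Ideal.Quotient.mk I₂ x = 0
    rw [← map_mul, Ideal.Quotient.eq_zero_iff_mem]
    exact hsq (by rw [sq]; exact Ideal.mul_mem_mul ha hxI)
  let S : t → Submonoid A := fun i => Submonoid.powers (i : A)
  have hG : ∀ k : K, (∀ i, ∃ s ∈ S i, s • k = 0) → k = 0 := by
    intro k hk
    obtain ⟨x, hx⟩ := Ideal.Quotient.mk_surjective ((k : Q) : A ⧸ I₂)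
    have hxI := hKI k x hx.symm
    apply Subtype.ext
    apply Subtype.ext
    change ((k : Q) : A ⧸ I₂) = 0
    rw [← hx, Ideal.Quotient.eq_zero_iff_mem, hI₂]
    refine ⟨hxI, fun p hp => ?_⟩
    obtain ⟨f, hft, hfp⟩ := hp
    obtain ⟨s, ⟨n, rfl⟩, hs⟩ := hk ⟨f, hft⟩
    have h3 : ((f : A) ^ n) • ((k : Q) : A ⧸ I₂) = 0 :=
      congrArg (fun k : K => ((k : Q) : A ⧸ I₂)) hs
    rw [← hx, Algebra.smul_def] at h3
    have h4 : Ideal.Quotient.mk I₂ (f ^ n * x) = 0 := by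
      rw [map_mul]
      exact h3
    rw [Ideal.Quotient.eq_zero_iff_mem, hI₂] at h4
    obtain ⟨s', hs'p, hs'⟩ := h4.2 p ⟨f, hft, hfp⟩
    refine ⟨s' * f ^ n, ?_, by rw [mul_assoc]; exact hs'⟩
    intro hmem
    rcases p.2.mem_or_mem hmem with h | h
    · exact hs'p h
    · exact hfp (p.2.mem_of_pow_mem n h)
  have hu : ∀ i, ∃ s ∈ S i, s • z1 = 0 := by
    intro i
    let 𝔠 : Ideal A := LinearMap.ker (LinearMap.toSpanSingleton A _ z1)
    have h𝔠 : ∀ s : A, s ∈ 𝔠 ↔ s • z1 = 0 := fun s => by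
      rw [LinearMap.mem_ker, LinearMap.toSpanSingleton_apply]
    have hrad : (i : A) ∈ 𝔠.radical := by
      rw [Ideal.radical_eq_sInf, Ideal.mem_sInf]
      rintro J ⟨hJ, hJp⟩
      by_contra hfJ
      haveI := hflat ⟨J, hJp⟩ ⟨i, i.2, hfJ⟩
      let j : K →ₗ[A] (A ⧸ I₂) := Groth.Agent.S6893.incl I₂ Q ∘ₗ K.subtype
      have hj : Function.Injective j := fun a b hab => Subtype.ext (Subtype.ext hab)
      have hinj := Module.Flat.rTensor_preserves_injective_linearMap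
        (M := LocalizedModule J.primeCompl M) j hj
      have h1 : LinearMap.lTensor K (LocalizedModule.mkLinearMap J.primeCompl M) z1 = 0 := by
        apply hinj
        rw [map_zero, ← LinearMap.comp_apply, LinearMap.rTensor_comp_lTensor,
          ← LinearMap.lTensor_comp_rTensor, LinearMap.comp_apply]
        have : j.rTensor M z1 = 0 := by
          rw [LinearMap.rTensor_comp, LinearMap.comp_apply]
          exact hz
        rw [this, map_zero]
      obtain ⟨s, hs, hsz⟩ := exists_smul_eq_zero_of_lTensor J.primeCompl z1 h1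
      exact hs (hJ ((h𝔠 s).2 hsz))
    obtain ⟨n, hn⟩ := hrad
    exact ⟨(i : A) ^ n, ⟨n, rfl⟩, (h𝔠 _).1 hn⟩
  have : z1 = 0 := eq_zero_of_forall_torsion I M S hJG hG z1 hu
  rw [this, map_zero]

theorem main {A : Type u} [CommRing A] (I : Ideal A)
    (U : Set (PrimeSpectrum A)) (hU : IsOpen U) (hUc : IsCompact U)
    (M : Type u) [AddCommGroup M] [Module A M]
    [Module.Flat (A ⧸ I) (M ⧸ (I • ⊤ : Submodule A M))]
    (hflat : ∀ p ∈ U, Module.Flat A (LocalizedModule p.asIdeal.primeCompl M))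
    (I₂ : Ideal A) (hI₂ : ∀ x : A, x ∈ I₂ ↔ x ∈ I ∧ ∀ p ∈ U, ∃ s : A, s ∉ p.asIdeal ∧ s * x ∈ I ^ 2) :
    Module.Flat (A ⧸ I₂) (M ⧸ (I₂ • ⊤ : Submodule A M)) := by
  obtain ⟨t, ht⟩ := PrimeSpectrum.isCompact_isOpen_iff.mp ⟨hUc, hU⟩
  have hmemU : ∀ p : PrimeSpectrum A, p ∈ U ↔ ∃ f ∈ t, f ∉ p.asIdeal := by
    intro p
    rw [← ht, Set.mem_compl_iff, PrimeSpectrum.mem_zeroLocus, Set.not_subset]
    rfl
  have e1 : ((A ⧸ I) ⊗[A] M) ≃ₗ[A ⧸ I] (M ⧸ (I • ⊤ : Submodule A M)) :=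
    LinearEquiv.extendScalarsOfSurjective (R := A) (S := A ⧸ I) Ideal.Quotient.mk_surjective
      (TensorProduct.quotTensorEquivQuotSMul M I)
  have e2 : ((A ⧸ I₂) ⊗[A] M) ≃ₗ[A ⧸ I₂] (M ⧸ (I₂ • ⊤ : Submodule A M)) :=
    LinearEquiv.extendScalarsOfSurjective (R := A) (S := A ⧸ I₂) Ideal.Quotient.mk_surjective
      (TensorProduct.quotTensorEquivQuotSMul M I₂)
  haveI : Module.Flat (A ⧸ I) ((A ⧸ I) ⊗[A] M) := Module.Flat.of_linearEquiv e1
  have hcore := core I t M (fun p hp => hflat p ((hmemU p).2 hp)) I₂ (fun x => by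
    rw [hI₂ x]
    constructor
    · rintro ⟨h1, h2⟩
      exact ⟨h1, fun p hp => h2 p ((hmemU p).2 hp)⟩
    · rintro ⟨h1, h2⟩
      exact ⟨h1, fun p hp => h2 p ((hmemU p).1 hp)⟩)
  exact Module.Flat.of_linearEquiv e2.symm

end Groth.Agent.S1267

namespace Groth.Agent.S1267

/-- Let A be a local ring, I an ideal, U a quasi-compact open subset of Spec A and M an A-module such
that M/IM is flat over A/I and M_p is flat over A for all p in U. Let I₂ be the kernel of I → Γ(U,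
I/I²), that is the set of x ∈ I such that for every p ∈ U some s outside p has s·x ∈ I². Then M/I₂M
is flat over A/I₂. -/
theorem result {A : Type u} [CommRing A] [IsLocalRing A] (I : Ideal A)
    (U : Set (PrimeSpectrum A)) (hU : IsOpen U) (hUc : IsCompact U)
    (M : Type u) [AddCommGroup M] [Module A M]
    [Module.Flat (A ⧸ I) (M ⧸ (I • ⊤ : Submodule A M))]
    (hflat : ∀ p ∈ U, Module.Flat A (LocalizedModule p.asIdeal.primeCompl M))
    (I₂ : Ideal A) (hI₂ : ∀ x : A, x ∈ I₂ ↔ x ∈ I ∧ ∀ p ∈ U, ∃ s : A, s ∉ p.asIdeal ∧ s * x ∈ I ^ 2) :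
    Module.Flat (A ⧸ I₂) (M ⧸ (I₂ • ⊤ : Submodule A M)) := by
  exact main I U hU hUc M hflat I₂ hI₂

end Groth.Agent.S1267
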