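import Groth.Statements.S12681
import Groth.Agent.Lib.Helper35.RL12

set_option autoImplicit false
universe u
open CategoryTheory CategoryTheory.Limits AlgebraicGeometry TopologicalSpace Opposite
open scoped HomogeneousIdeal
noncomputable section
open Mor

namespace Groth.Agent.S12681

/-- Let f : X → Y be a universally closed morphism, L an invertible O_X-module with graded symmetric
algebra 𝒮L = ⊕_{n≥0} L^{⊗n} (whose relative Proj PL, given with its charts, is identified with X by
its structure morphism) with L ample relative to f (in particular f is quasi-compact), and 𝒜 a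
quasi-coherent graded O_Y-algebra given with a graded f-morphism u : 𝒜 → f_*𝒮L which is bijective on
sections over every affine open of Y — so that 𝒜 is the graded algebra ⊕_{n≥0} f_*(L^{⊗n}) and u is
adjoint to the canonical σ : f^*𝒜 → ⊕ L^{⊗n} — P = Proj(𝒜) → Y its relative homogeneous spectrum
with its charts, and r = r_{L,σ} : G(σ) → P the induced morphism on its open of definition G(σ) ⊆
PL. Then r is everywhere defined (G(σ) is all of PL) and r is an isomorphism onto P = Proj(⊕_{d≥0}
f_*(L^{⊗d})). -/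
theorem result {X Y P PL : Scheme.{u}} (f : X ⟶ Y) [UniversallyClosed f]
    (L : X.Modules) (hL : PicF.IsInvertible L) (hLq : Coh.IsQCoh L)
    (𝒮L : RelProj.QCGrAlg X) (jL : L ⟶ 𝒮L.toModule) (hjL : RelProj.IsGrSymAlg L 𝒮L jL)
    (pL : PL ⟶ X) (chartL : ∀ (U : X.Opens) (hU : IsAffineOpen U), (((pL ⁻¹ᵁ U : PL.Opens) : Scheme.{u}) ≅ Proj (𝒮L.deg U hU)))
    (hPL : RelProj.IsRelProj 𝒮L pL chartL)
    (𝒜 : RelProj.QCGrAlg Y) (u : RelProj.QGrHom f 𝒜 𝒮L)
    (p : P ⟶ Y) (chart : ∀ (U : Y.Opens) (hU : IsAffineOpen U), (((p ⁻¹ᵁ U : P.Opens) : Scheme.{u}) ≅ Proj (𝒜.deg U hU)))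
    (hP : RelProj.IsRelProj 𝒜 p chart)
    (r : ((RelProj.domQ u pL chartL : PL.Opens) : Scheme.{u}) ⟶ P)
    (hr : RelProj.IsProjQMapOn u p chart pL chartL (RelProj.domQ u pL chartL) r)
    (hu : ∀ (U : Y.Opens), IsAffineOpen U → Function.Bijective (u.app U).hom)
    (h : RelAmple.IsRelAmple f L) :
    RelProj.domQ u pL chartL = ⊤ ∧ IsIso r := by
  haveI : L.IsQuasicoherent := hLq
  obtain ⟨htop, hoi, hdom⟩ :=
    Groth.Agent.Lib.Helper35.RL.isOpenImmersion_of_isRelAmple hL hjL u hP hPL r hr hu h
  refine ⟨htop, ?_⟩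
  haveI : IsIso pL := Groth.Agent.Lib.Helper74.InvSym.isIso_pL hjL hL hPL
  have hcomp : r ≫ p = (RelProj.domQ u pL chartL).ι ≫ pL ≫ f :=
    Groth.Agent.Lib.Helper74.QMap.isProjQMapOn_comp hP hPL r hr
  haveI : IsIso (RelProj.domQ u pL chartL).ι := by
    have h1 : (RelProj.domQ u pL chartL).ι.opensRange = ⊤ := by
      rw [Scheme.Opens.opensRange_ι, htop]
    exact isIso_of_isOpenImmersion_of_opensRange_eq_top _ h1
  haveI : UniversallyClosed (r ≫ p) := by
    rw [hcomp]; infer_instance
  haveI : IsSeparated p :=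
    Groth.Agent.Lib.Helper74.RelProjLib.of_forall_chart (@IsSeparated) hP
      (fun U hU => inferInstance)
  haveI : UniversallyClosed r := UniversallyClosed.of_comp_of_isSeparated r p
  haveI := hoi
  haveI := hdom
  haveI : Surjective r := by
    constructor
    have hcl : IsClosed (Set.range r) := r.isClosedMap.isClosed_range
    have hd : DenseRange r := r.denseRange
    intro y
    have : y ∈ closure (Set.range r) := hd y
    rwa [hcl.closure_eq] at this
  exact (isIso_iff_isOpenImmersion_and_surjective r).mpr ⟨inferInstance, inferInstance⟩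

end Groth.Agent.S12681
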