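import Groth.Statements.S12682
import Groth.Agent.Lib.Helper35.RL5

set_option autoImplicit false
universe u
open CategoryTheory CategoryTheory.Limits AlgebraicGeometry TopologicalSpace Opposite
open scoped HomogeneousIdeal
noncomputable section
open Mor

namespace Groth.Agent.S12682

/-- Let f : X → Y be a quasi-compact morphism, L an invertible O_X-module with graded symmetric algebra
𝒮L = ⊕_{n≥0} L^{⊗n} (whose relative Proj PL, given with its charts, is identified with X by its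
structure morphism), 𝒜 any quasi-coherent graded O_Y-algebra, u : 𝒜 → f_*𝒮L a graded f-morphism (the
adjoint of a homomorphism of graded O_X-algebras ψ : f^*𝒜 → ⊕ L^{⊗d}), P = Proj(𝒜) → Y with its
charts, and r = r_{L,ψ} : U(ψ) → P the induced morphism on its open of definition U(ψ) ⊆ PL. If U(ψ)
is all of PL and r is an immersion, then L is ample relative to f. -/
theorem result {X Y P PL : Scheme.{u}} (f : X ⟶ Y) [QuasiCompact f]
    (L : X.Modules) (hL : PicF.IsInvertible L) (hLq : Coh.IsQCoh L)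
    (𝒮L : RelProj.QCGrAlg X) (jL : L ⟶ 𝒮L.toModule) (hjL : RelProj.IsGrSymAlg L 𝒮L jL)
    (pL : PL ⟶ X) (chartL : ∀ (U : X.Opens) (hU : IsAffineOpen U), (((pL ⁻¹ᵁ U : PL.Opens) : Scheme.{u}) ≅ Proj (𝒮L.deg U hU)))
    (hPL : RelProj.IsRelProj 𝒮L pL chartL)
    (𝒜 : RelProj.QCGrAlg Y) (u : RelProj.QGrHom f 𝒜 𝒮L)
    (p : P ⟶ Y) (chart : ∀ (U : Y.Opens) (hU : IsAffineOpen U), (((p ⁻¹ᵁ U : P.Opens) : Scheme.{u}) ≅ Proj (𝒜.deg U hU)))
    (hP : RelProj.IsRelProj 𝒜 p chart)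
    (r : ((RelProj.domQ u pL chartL : PL.Opens) : Scheme.{u}) ⟶ P)
    (hr : RelProj.IsProjQMapOn u p chart pL chartL (RelProj.domQ u pL chartL) r)
    (htop : RelProj.domQ u pL chartL = ⊤) (himm : IsImmersion r) :
    RelAmple.IsRelAmple f L := by
  haveI : L.IsQuasicoherent := hLq
  haveI := himm
  refine ⟨inferInstance, fun V => ?_⟩
  obtain ⟨V, hV⟩ := V
  change CohB1.IsAmple (L.restrict (f ⁻¹ᵁ V).ι)
  have hcomp : CompactSpace ↥((f ⁻¹ᵁ V : X.Opens) : Scheme.{u}) :=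
    isCompact_iff_compactSpace.mp (QuasiCompact.isCompact_preimage (f := f) _ V.2 hV.isCompact)
  refine ⟨Groth.Agent.Lib.Helper35.ModRestrict.isInvertible_restrict _ L hL, hcomp, fun x' => ?_⟩
  obtain ⟨n, s, ⟨hn, hs⟩, hx, haff⟩ := Groth.Agent.Lib.Helper35.RL.exists_local_data_at hL hjL u hP hPL
    r hr V hV htop ((f ⁻¹ᵁ V).ι x') x'.2
  obtain ⟨m, rfl⟩ : ∃ m, n = m + 1 := ⟨n - 1, by omega⟩
  obtain ⟨σ, hσ⟩ := Groth.Agent.Lib.Helper35.RL.exists_sec_XTU hL hjL u hP hPL r hr V hV htop hn hs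
  refine ⟨m, σ, ?_, ?_⟩
  · rw [hσ]; exact hx
  · rw [hσ]
    refine haff.preimage_of_isOpenImmersion _ ?_
    rw [Scheme.Opens.opensRange_ι]
    exact Groth.Agent.Lib.Helper74.QMapImmU.XTU_le u V (m + 1) s

end Groth.Agent.S12682
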