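import Groth.Statements.S12683
import Groth.Agent.Lib.Helper35.RL14

set_option autoImplicit false
universe u
open CategoryTheory CategoryTheory.Limits AlgebraicGeometry TopologicalSpace Opposite
open scoped HomogeneousIdeal
noncomputable section
open Variety

namespace Groth.Agent.S12683

/-- Let X be a quasi-compact scheme, L an ample invertible O_X-module with graded symmetric algebra 𝒮L =
⊕_{d≥0} L^{⊗d} (whose relative Proj PL, given with its charts, is identified with X by its structure
morphism), f : X → Y a quasi-compact morphism to an AFFINE scheme Y, 𝒜 a quasi-coherent graded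
O_Y-algebra given with a graded f-morphism u : 𝒜 → f_*𝒮L which is bijective on global sections — so
that Γ(Y, 𝒜) is the graded ring Γ(X, 𝒮L) = ⊕_d Γ(X, L^{⊗d}) and P = Proj(𝒜) (given with its charts)
is its homogeneous spectrum — and r : G(σ) → P the canonical morphism on its open of definition G(σ)
⊆ PL. Then r is everywhere defined (G(σ) is all of PL) and is a quasi-compact, scheme-theoretically
dominant open immersion. (The published statement forms the homogeneous spectrum of the graded ring
⊕_d Γ(X, L^{⊗d}) itself, over the spectrum of Γ(X, O_X); any affine Y under X gives the same graded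
ring, the same homogeneous spectrum and the same morphism. It also assumes X quasi-separated, which
already follows from ampleness, since the opens X_s are affine with affine pairwise intersections;
only quasi-compactness is assumed here.) -/
theorem result {X Y P PL : Scheme.{u}} [CompactSpace X]
    (f : X ⟶ Y) [QuasiCompact f] (hY : IsAffineOpen (⊤ : Y.Opens))
    (L : X.Modules) (hL : PicF.IsInvertible L) (hLq : Coh.IsQCoh L)
    (𝒮L : RelProj.QCGrAlg X) (jL : L ⟶ 𝒮L.toModule) (hjL : RelProj.IsGrSymAlg L 𝒮L jL)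
    (pL : PL ⟶ X) (chartL : ∀ (U : X.Opens) (hU : IsAffineOpen U), (((pL ⁻¹ᵁ U : PL.Opens) : Scheme.{u}) ≅ Proj (𝒮L.deg U hU)))
    (hPL : RelProj.IsRelProj 𝒮L pL chartL)
    (hLa : CohB1.IsAmple L)
    (𝒜 : RelProj.QCGrAlg Y) (u : RelProj.QGrHom f 𝒜 𝒮L)
    (p : P ⟶ Y) (chart : ∀ (U : Y.Opens) (hU : IsAffineOpen U), (((p ⁻¹ᵁ U : P.Opens) : Scheme.{u}) ≅ Proj (𝒜.deg U hU)))
    (hP : RelProj.IsRelProj 𝒜 p chart)
    (r : ((RelProj.domQ u pL chartL : PL.Opens) : Scheme.{u}) ⟶ P)
    (hr : RelProj.IsProjQMapOn u p chart pL chartL (RelProj.domQ u pL chartL) r)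
    (hu : Function.Bijective (u.app ⊤).hom) :
    RelProj.domQ u pL chartL = ⊤ ∧ IsOpenImmersion r ∧ QuasiCompact r ∧ IsSchemeTheoreticallyDominant r := by
  haveI : L.IsQuasicoherent := hLq
  haveI : IsIso pL := Groth.Agent.Lib.Helper74.InvSym.isIso_pL hjL hL hPL
  obtain ⟨htop, hoi⟩ :=
    Groth.Agent.Lib.Helper35.RL.isOpenImmersion_of_isAmple_top hL hjL u hP hPL r hr hY hLa hu
  haveI : IsAffine Y := by
    haveI : IsAffine ((⊤ : Y.Opens) : Scheme.{u}) := hY
    exact IsAffine.of_isIso (Scheme.topIso Y).inv
  haveI : CompactSpace PL := (Scheme.homeoOfIso (asIso pL)).symm.compactSpace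
  haveI : CompactSpace ↥((RelProj.domQ u pL chartL : PL.Opens) : Scheme.{u}) :=
    isCompact_iff_compactSpace.mp (by rw [htop]; exact isCompact_univ)
  haveI : IsSeparated p :=
    Groth.Agent.Lib.Helper74.InvSym.of_forall_chart_cover (@IsSeparated) hP
      (fun _ : Unit => (⊤ : Y.Opens)) (fun _ => hY) (by simp) (fun _ => inferInstance)
  haveI : QuasiCompact (r ≫ p) := inferInstance
  haveI hqc : QuasiCompact r := QuasiCompact.of_comp r p
  exact ⟨htop, hoi, hqc,
    Groth.Agent.Lib.Helper35.RL.isSchemeTheoreticallyDominant_of_injective_top u r hr hP hY hu.1⟩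

end Groth.Agent.S12683
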