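import Groth.Statements.S12712
import Groth.Agent.Lib.Lead.ArtHensel
import Mathlib.Tactic

set_option autoImplicit false
universe u v
open CategoryTheory
open ArtFun ArtFun.Art

namespace Groth.Agent.S12712


open Groth.Agent.Lib.Helper76 Groth.Agent.Lib.Lead.ArtHensel Polynomial in
theorem aux {Λ : Type u} {k : Type u} [CommRing Λ] [Field k] [Algebra Λ k]
    [IsNoetherianRing Λ] [Module.Finite Λ k]
    [Algebra.IsSeparable (↥(algebraMap Λ k).range) k]
    {A A₁ A₂ : ArtFun.Art Λ k} (f₁ : A₁ ⟶ A) (f₂ : A₂ ⟶ A) :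
    ∃ (B : ArtFun.Art Λ k) (p₁ : B ⟶ A₁) (p₂ : B ⟶ A₂), ArtFun.Art.IsFibreProd p₁ p₂ f₁ f₂ := by
  have hsurj : Function.Surjective
      (A₁.res.comp (AlgHom.pullbackFst f₁.toAlgHom f₂.toAlgHom)) := by
    intro c
    obtain ⟨P, hPmon, h0, h1⟩ := exists_monic_simple_root (Λ := Λ) c
    obtain ⟨a₁, ha₁, hr₁⟩ := exists_root_lift A₁ P hPmon c h0 h1
    obtain ⟨a₂, ha₂, hr₂⟩ := exists_root_lift A₂ P hPmon c h0 h1
    have hx : (P.map (algebraMap Λ A)).IsRoot (f₁ a₁) := by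
      rw [IsRoot.def, ← hom_eval_map, ha₁.eq_zero]
      exact map_zero f₁.toAlgHom
    have hy : (P.map (algebraMap Λ A)).IsRoot (f₂ a₂) := by
      rw [IsRoot.def, ← hom_eval_map, ha₂.eq_zero]
      exact map_zero f₂.toAlgHom
    have hder : IsUnit ((P.map (algebraMap Λ A)).derivative.eval (f₁ a₁)) := by
      by_contra hnu
      have hm : (P.map (algebraMap Λ A)).derivative.eval (f₁ a₁) ∈ IsLocalRing.maximalIdeal A :=
        (IsLocalRing.mem_maximalIdeal _).2 hnu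
      rw [Art.mem_maximalIdeal_iff, derivative_map, res_eval_map, Art.res_app, hr₁] at hm
      exact h1 hm
    have heq : f₁ a₁ = f₂ a₂ := root_unique A _ _ _ hx hy
      (by rw [Art.res_app, Art.res_app, hr₁, hr₂]) hder
    exact ⟨⟨(a₁, a₂), heq⟩, hr₁⟩
  let B : ArtFun.Art Λ k :=
    { carrier := pb f₁ f₂
      isLocalRing := isLocalRing_pb f₁ f₂
      isArtinianRing := isArtinianRing_pb f₁ f₂
      res := A₁.res.comp (AlgHom.pullbackFst f₁.toAlgHom f₂.toAlgHom)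
      res_surjective := hsurj }
  let p₁ : B ⟶ A₁ := ⟨AlgHom.pullbackFst f₁.toAlgHom f₂.toAlgHom, rfl⟩
  let p₂ : B ⟶ A₂ := ⟨AlgHom.pullbackSnd f₁.toAlgHom f₂.toAlgHom, by
    apply AlgHom.ext
    rintro ⟨⟨a₁, a₂⟩, hx⟩
    change A₂.res a₂ = A₁.res a₁
    rw [mem_pb_iff] at hx
    rw [← Art.res_app f₂, ← hx, Art.res_app f₁]⟩
  refine ⟨B, p₁, p₂, ?_⟩
  exact
    { w := by
        apply Art.hom_ext
        apply AlgHom.ext
        intro x
        exact x.2
      inj := fun b₁ b₂ h₁ h₂ => Subtype.ext (Prod.ext h₁ h₂)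
      surj := fun a' a'' h => ⟨⟨(a', a''), h⟩, rfl, rfl⟩ }

/-- If k is separable over the image of Λ → k, then for any two morphisms f₁ : A₁ → A and f₂ : A₂ → A in
the category of Artinian local Λ-algebras with residue field k the set-theoretic fibre product A₁
×_A A₂ is again an object of the category. -/
theorem result {Λ : Type u} {k : Type u} [CommRing Λ] [Field k] [Algebra Λ k]
    [IsNoetherianRing Λ] [Module.Finite Λ k]
    [Algebra.IsSeparable (↥(algebraMap Λ k).range) k]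
    {A A₁ A₂ : ArtFun.Art Λ k} (f₁ : A₁ ⟶ A) (f₂ : A₂ ⟶ A) :
    ∃ (B : ArtFun.Art Λ k) (p₁ : B ⟶ A₁) (p₂ : B ⟶ A₂), ArtFun.Art.IsFibreProd p₁ p₂ f₁ f₂ := by
  exact aux f₁ f₂

end Groth.Agent.S12712
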