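import Groth.Statements.S12717
import Groth.Agent.Lib.Helper76.ArtBasic
-- import your own Groth.Agent.* helpers here

set_option autoImplicit false
universe u v
open CategoryTheory
open ArtFun

namespace Groth.Agent.S12717

open Groth.Agent.Lib.Helper76 in
theorem result' {Λ : Type u} {k : Type u} [CommRing Λ] [Field k] [Algebra Λ k]
    {F G : ArtFun.Art Λ k ⥤ Type v} (η : F ⟶ G)
    (h : ∀ ⦃B A : ArtFun.Art Λ k⦄ (μ : B ⟶ A), ArtFun.Art.IsSmallExt μ →
      Function.Surjective (ArtFun.relCmp η μ)) :
    ArtFun.IsSmooth η := by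
  intro B A μ hμ
  refine surjective_induction (fun A B μ => Function.Surjective (ArtFun.relCmp η μ)) ?_ ?_ ?_ μ hμ
  · intro A B e he y
    refine ⟨F.map (inv e) y.1.1, Subtype.ext (Prod.ext ?_ ?_)⟩
    · show F.map e (F.map (inv e) y.1.1) = y.1.1
      rw [← Functor.map_comp_apply, IsIso.inv_hom_id, Functor.map_id_apply]
    · show η.app B (F.map (inv e) y.1.1) = y.1.2
      rw [NatTrans.naturality_apply η (inv e), y.2, ← Functor.map_comp_apply,
        IsIso.hom_inv_id, Functor.map_id_apply]
  · intro A B p hp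
    exact h p hp
  · intro A B C p q hp hq y
    have hy : η.app A y.1.1 = G.map q (G.map p y.1.2) := by
      rw [y.2, Functor.map_comp_apply]
    obtain ⟨b, hb⟩ := hq ⟨(y.1.1, G.map p y.1.2), hy⟩
    have hb1 : F.map q b = y.1.1 := congrArg (fun t => t.1.1) hb
    have hb2 : η.app B b = G.map p y.1.2 := congrArg (fun t => t.1.2) hb
    obtain ⟨c, hc⟩ := hp ⟨(b, y.1.2), hb2⟩
    have hc1 : F.map p c = b := congrArg (fun t => t.1.1) hc
    have hc2 : η.app C c = y.1.2 := congrArg (fun t => t.1.2) hc
    refine ⟨c, Subtype.ext (Prod.ext ?_ hc2)⟩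
    show F.map (p ≫ q) c = y.1.1
    rw [Functor.map_comp_apply, hc1, hb1]

/-- For functors, a morphism η : F → G of functors on the category of Artinian local Λ-algebras with
residue field k is smooth (F(B) → F(A) ×_{G(A)} G(B) surjective for every surjection B → A) as soon
as this lifting condition holds for all small extensions B → A. -/
theorem result {Λ : Type u} {k : Type u} [CommRing Λ] [Field k] [Algebra Λ k]
    [IsNoetherianRing Λ] [Module.Finite Λ k]
    {F G : ArtFun.Art Λ k ⥤ Type v} (η : F ⟶ G)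
    (h : ∀ ⦃B A : ArtFun.Art Λ k⦄ (μ : B ⟶ A), ArtFun.Art.IsSmallExt μ →
      Function.Surjective (ArtFun.relCmp η μ)) :
    ArtFun.IsSmooth η := result' η h

end Groth.Agent.S12717
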