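import Groth.Statements.S12721
import Groth.Prelude.Def_ArtFun5
import Groth.Agent.Lib.Helper76.ArtFibre
import Mathlib.RingTheory.FiniteType
import Mathlib.RingTheory.Ideal.Quotient.Nilpotent
import Mathlib.RingTheory.Adjoin.FG
-- import your own Groth.Agent.* helpers here

set_option autoImplicit false
universe u v
open CategoryTheory
open ArtFun

namespace Groth.Agent.S12721

section P1
open Groth.Agent.Lib.Helper76 ArtFun.Art

section

variable {Λ : Type u} {k : Type u} [CommRing Λ] [Field k] [Algebra Λ k]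

theorem exists_maximalIdeal_pow_eq_bot (A : Art Λ k) :
    ∃ n : ℕ, IsLocalRing.maximalIdeal A ^ n = ⊥ := by
  have := IsArtinianRing.isNilpotent_jacobson_bot (R := A)
  rwa [IsLocalRing.jacobson_eq_maximalIdeal ⊥ bot_ne_top] at this

/-- An augmented map from a local augmented algebra sends the maximal ideal into the maximal
ideal. -/
theorem homSet_map_maximalIdeal {R : Type u} [CommRing R] [Algebra Λ R] [IsLocalRing R]
    {resR : R →ₐ[Λ] k} (hres : Function.Surjective resR) {A : Art Λ k} (φ : HomSet R resR A) :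
    (IsLocalRing.maximalIdeal R).map φ.1 ≤ IsLocalRing.maximalIdeal A := by
  rw [Ideal.map_le_iff_le_comap]
  intro x hx
  rw [Ideal.mem_comap, Art.mem_maximalIdeal_iff]
  have hmax : (RingHom.ker (resR : R →+* k)).IsMaximal :=
    RingHom.ker_isMaximal_of_surjective (resR : R →+* k) hres
  rw [← IsLocalRing.eq_maximalIdeal hmax, RingHom.mem_ker] at hx
  have := AlgHom.congr_fun φ.2 x
  rw [← hx]
  exact this

theorem hR_map_apply {R : Type u} [CommRing R] [Algebra Λ R] {resR : R →ₐ[Λ] k} {A B : Art Λ k}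
    (μ : A ⟶ B) (ψ : HomSet R resR A) : (hR R resR).map μ ψ = HomSet.map μ ψ := rfl

/-- adic formal smoothness gives smoothness of `h_R` -/
theorem isSmoothFunctor_of_adic {R : Type u} [CommRing R] [Algebra Λ R] [IsLocalRing R]
    {resR : R →ₐ[Λ] k} (hres : Function.Surjective resR)
    (h : CAlgX.IsAdicFormallySmooth Λ R (IsLocalRing.maximalIdeal R)) :
    IsSmoothFunctor (hR R resR) := by
  intro B A μ hμ
  refine surjective_induction (Λ := Λ) (k := k)
    (fun A B μ => Function.Surjective ((hR R resR).map μ)) ?_ ?_ ?_ μ hμ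
  · intro A B e he φ
    refine ⟨(hR R resR).map (inv e) φ, ?_⟩
    rw [← Functor.map_comp_apply, IsIso.inv_hom_id, Functor.map_id_apply]
  · intro A B μ hsm (hφ : HomSet R resR A)
    -- the kernel is square zero
    have hI2 : RingHom.ker μ.toAlgHom ^ 2 = ⊥ := by
      rw [eq_bot_iff, pow_two, ← hsm.2.2.2]
      exact Ideal.mul_mono_left (ker_le_maximalIdeal μ)
    let e := Ideal.quotientKerAlgEquivOfSurjective (f := μ.toAlgHom) hsm.1
    let ψ' : R →ₐ[Λ] B ⧸ RingHom.ker μ.toAlgHom := (e.symm : A →ₐ[Λ] _).comp hφ.1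
    obtain ⟨n, hn⟩ := exists_maximalIdeal_pow_eq_bot A
    have hkill : ∃ n : ℕ, ∀ x ∈ IsLocalRing.maximalIdeal R ^ n, ψ' x = 0 := by
      refine ⟨n, fun x hx => ?_⟩
      have h1 : hφ.1 x ∈ (IsLocalRing.maximalIdeal R ^ n).map hφ.1 := Ideal.mem_map_of_mem _ hx
      rw [Ideal.map_pow] at h1
      have h2 := Ideal.pow_right_mono (homSet_map_maximalIdeal hres hφ) n h1
      rw [hn, Ideal.mem_bot] at h2
      show e.symm (hφ.1 x) = 0
      rw [h2, map_zero]
    obtain ⟨χ, hχ⟩ := h B (RingHom.ker μ.toAlgHom) hI2 ψ' hkill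
    have hμχ : μ.toAlgHom.comp χ = hφ.1 := by
      apply AlgHom.ext
      intro r
      have h1 := AlgHom.congr_fun hχ r
      have h2 : e (Ideal.Quotient.mk _ (χ r)) = e (ψ' r) := congrArg e h1
      rw [Ideal.quotientKerAlgEquivOfSurjective_mk] at h2
      rw [AlgHom.comp_apply, h2]
      show e (e.symm (hφ.1 r)) = hφ.1 r
      exact e.apply_symm_apply _
    have hres' : B.res.comp χ = resR := by
      rw [← μ.res_comp, AlgHom.comp_assoc, hμχ, hφ.2]
    refine ⟨(⟨χ, hres'⟩ : HomSet R resR B), ?_⟩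
    rw [hR_map_apply]
    exact Subtype.ext hμχ
  · intro A B C p q hp hq φ
    obtain ⟨ψ, hψ⟩ := hq φ
    obtain ⟨χ, hχ⟩ := hp ψ
    refine ⟨χ, ?_⟩
    rw [Functor.map_comp_apply, hχ, hψ]

end
end P1

section P2
open Groth.Agent.Lib.Helper76 ArtFun.Art

section SqZero

variable {Λ : Type u} {k : Type u} [CommRing Λ] [Field k] [Algebra Λ k]
variable {C : Type u} [CommRing C] [Algebra Λ C]
  (A : Art Λ k) (π : C →ₐ[Λ] A) (hπ : Function.Surjective π) (hker : RingHom.ker π ^ 2 = ⊥)

include hπ hker in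
theorem isLocalHom_of_sqzero : IsLocalHom (π : C →+* A) := by
  refine ⟨fun c hc => ?_⟩
  obtain ⟨d, hd⟩ := hπ (↑hc.unit⁻¹ : A)
  have h1 : π (c * d - 1) = 0 := by
    rw [map_sub, map_mul, map_one, hd]
    have : π c = ↑hc.unit := rfl
    rw [this, Units.mul_inv, sub_self]
  have h2 : (c * d - 1) ^ 2 = 0 := by
    have : (c * d - 1) ^ 2 ∈ RingHom.ker π ^ 2 := Ideal.pow_mem_pow (RingHom.mem_ker.mpr h1) 2
    rwa [hker] at this
  have h3 : IsUnit (c * d) := by
    have : IsNilpotent (c * d - 1) := ⟨2, h2⟩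
    have := this.isUnit_add_one
    rwa [sub_add_cancel] at this
  exact isUnit_of_mul_isUnit_left h3

include hπ hker in
theorem isLocalRing_of_sqzero : IsLocalRing C :=
  haveI := isLocalHom_of_sqzero A π hπ hker
  RingHom.domain_isLocalRing (π : C →+* A)

include hπ hker in
theorem isArtinianRing_of_sqzero [IsNoetherianRing C] : IsArtinianRing C := by
  have := isLocalRing_of_sqzero A π hπ hker
  have := isLocalHom_of_sqzero A π hπ hker
  rw [isArtinianRing_iff_isNilpotent_maximalIdeal]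
  obtain ⟨n, hn⟩ := IsArtinianRing.isNilpotent_jacobson_bot (R := A)
  rw [IsLocalRing.jacobson_eq_maximalIdeal ⊥ bot_ne_top] at hn
  refine ⟨n * 2, ?_⟩
  rw [Ideal.zero_eq_bot, eq_bot_iff, pow_mul, ← hker]
  apply Ideal.pow_right_mono
  have hle : IsLocalRing.maximalIdeal C ≤ (IsLocalRing.maximalIdeal A).comap (π : C →+* A) := by
    intro x hx
    rw [Ideal.mem_comap, IsLocalRing.mem_maximalIdeal, mem_nonunits_iff]
    intro hu
    exact (IsLocalRing.mem_maximalIdeal x).mp hx (isUnit_of_map_unit (π : C →+* A) x hu)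
  intro x hx
  have := (Ideal.pow_right_mono hle n).trans (Ideal.le_comap_pow _ n) hx
  rw [hn, Ideal.mem_comap, Ideal.zero_eq_bot, Ideal.mem_bot] at this
  exact RingHom.mem_ker.mpr this

/-- A Noetherian `Λ`-algebra mapping onto an object of `Art Λ k` with square-zero kernel is an
object of `Art Λ k`. -/
noncomputable def artOfSqZero [IsNoetherianRing C] : Art Λ k :=
  { carrier := C
    isLocalRing := isLocalRing_of_sqzero A π hπ hker
    isArtinianRing := isArtinianRing_of_sqzero A π hπ hker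
    res := A.res.comp π
    res_surjective := A.res_surjective.comp hπ }

/-- the projection to `A` -/
noncomputable def artOfSqZeroHom [IsNoetherianRing C] : artOfSqZero A π hπ hker ⟶ A :=
  ⟨π, rfl⟩

end SqZero
end P2

section P3
open Groth.Agent.Lib.Helper76 ArtFun.Art

theorem adic_of_isSmoothFunctor {Λ : Type u} {k : Type u} [CommRing Λ] [Field k] [Algebra Λ k]
    [IsNoetherianRing Λ] [Module.Finite Λ k] (R : CRing Λ k)
    (h : IsSmoothFunctor (hR R.carrier R.res)) :
    CAlgX.IsAdicFormallySmooth Λ R.carrier (IsLocalRing.maximalIdeal R.carrier) := by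
  intro T _ _ J hJ ψ hk
  obtain ⟨n, hn⟩ := hk
  have hn' : ∀ x ∈ R.mpow n, ψ x = 0 :=
    fun x hx => hn x (Ideal.pow_le_pow_right (Nat.le_succ n) hx)
  let ψbar : (R.trunc n) →ₐ[Λ] T ⧸ J := Ideal.Quotient.liftₐ (R.mpow n) ψ hn'
  have hψbar : ∀ r : R.carrier, ψbar ((R.truncHom n).1 r) = ψ r := fun r => rfl
  let P : Subalgebra Λ (T × (R.trunc n)) := AlgHom.pullback (Ideal.Quotient.mkₐ Λ J) ψbar
  have hPmem : ∀ x : T × (R.trunc n), x ∈ P ↔ Ideal.Quotient.mk J x.1 = ψbar x.2 :=
    fun x => Iff.rfl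
  -- generators of the truncation as a module
  have hfin : Module.Finite Λ (R.trunc n) := finite_carrier (R.trunc n)
  obtain ⟨s, hs⟩ := hfin.fg_top
  have hlift : ∀ r : R.trunc n, ∃ p : T × (R.trunc n), p ∈ P ∧ p.2 = r := by
    intro r
    obtain ⟨t, ht⟩ := Ideal.Quotient.mk_surjective (ψbar r)
    exact ⟨(t, r), ht, rfl⟩
  choose lift hliftP hlift2 using hlift
  classical
  let C : Subalgebra Λ (T × (R.trunc n)) := Algebra.adjoin Λ ((s.image lift : Finset _) : Set _)
  have hCP : C ≤ P := by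
    apply Algebra.adjoin_le
    intro x hx
    rw [Finset.coe_image] at hx
    obtain ⟨r, -, rfl⟩ := hx
    exact hliftP r
  have hCfg : C.FG := Subalgebra.fg_adjoin_finset _
  have : Algebra.FiniteType Λ C := (Subalgebra.fg_iff_finiteType C).mp hCfg
  have : IsNoetherianRing C := Algebra.FiniteType.isNoetherianRing Λ C
  let π : C →ₐ[Λ] (R.trunc n) := (AlgHom.snd Λ T (R.trunc n)).comp C.val
  have hπ : Function.Surjective π := by
    have hrange : (⊤ : Submodule Λ (R.trunc n)) ≤ LinearMap.range π.toLinearMap := by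
      rw [← hs, Submodule.span_le]
      intro r hr
      refine ⟨⟨lift r, Algebra.subset_adjoin ?_⟩, hlift2 r⟩
      rw [Finset.coe_image]
      exact ⟨r, hr, rfl⟩
    intro r
    obtain ⟨c, hc⟩ := hrange (Submodule.mem_top (x := r))
    exact ⟨c, hc⟩
  have hker : RingHom.ker π ^ 2 = ⊥ := by
    rw [eq_bot_iff, pow_two, Ideal.mul_le]
    intro c₁ hc₁ c₂ hc₂
    rw [Ideal.mem_bot]
    have h1 : (c₁ : T × (R.trunc n)).2 = 0 := RingHom.mem_ker.mp hc₁
    have h2 : (c₂ : T × (R.trunc n)).2 = 0 := RingHom.mem_ker.mp hc₂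
    have hJ1 : (c₁ : T × (R.trunc n)).1 ∈ J := by
      have := (hPmem _).mp (hCP c₁.2)
      rw [h1, map_zero] at this
      exact Ideal.Quotient.eq_zero_iff_mem.mp this
    have hJ2 : (c₂ : T × (R.trunc n)).1 ∈ J := by
      have := (hPmem _).mp (hCP c₂.2)
      rw [h2, map_zero] at this
      exact Ideal.Quotient.eq_zero_iff_mem.mp this
    apply Subtype.ext
    apply Prod.ext
    · show (c₁ : T × (R.trunc n)).1 * (c₂ : T × (R.trunc n)).1 = 0
      have : (c₁ : T × (R.trunc n)).1 * (c₂ : T × (R.trunc n)).1 ∈ J ^ 2 := by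
        rw [pow_two]; exact Ideal.mul_mem_mul hJ1 hJ2
      rwa [hJ, Ideal.mem_bot] at this
    · show (c₁ : T × (R.trunc n)).2 * (c₂ : T × (R.trunc n)).2 = 0
      rw [h1, zero_mul]
  let C' : Art Λ k := artOfSqZero (R.trunc n) π hπ hker
  let π' : C' ⟶ R.trunc n := artOfSqZeroHom (R.trunc n) π hπ hker
  obtain ⟨σ, hσ⟩ := h π' hπ (R.truncHom n)
  have hσ' : ∀ r : R.carrier, π (σ.1 r) = (R.truncHom n).1 r := by
    intro r
    have := congrArg (fun (t : HomSet R.carrier R.res (R.trunc n)) => t.1 r) hσ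
    exact this
  let χ : R.carrier →ₐ[Λ] T := ((AlgHom.fst Λ T (R.trunc n)).comp C.val).comp σ.1
  refine ⟨χ, ?_⟩
  apply AlgHom.ext
  intro r
  obtain ⟨c, hc⟩ : ∃ c : C, c = σ.1 r := ⟨σ.1 r, rfl⟩
  have hχ : χ r = (c : T × (R.trunc n)).1 := by rw [hc]; rfl
  show Ideal.Quotient.mk J (χ r) = ψ r
  rw [hχ]
  have := (hPmem _).mp (hCP c.2)
  rw [this]
  have h2 : (c : T × (R.trunc n)).2 = (R.truncHom n).1 r := by
    rw [← hσ' r, ← hc]; rfl
  rw [h2, hψbar]
end P3

theorem result' {Λ : Type u} {k : Type u} [CommRing Λ] [Field k] [Algebra Λ k]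
    [IsNoetherianRing Λ] [Module.Finite Λ k]
    (R : ArtFun.CRing Λ k) :
    ArtFun.IsSmoothFunctor (ArtFun.hR R.carrier R.res) ↔
      CAlgX.IsAdicFormallySmooth Λ R.carrier (IsLocalRing.maximalIdeal R.carrier) :=
  ⟨adic_of_isSmoothFunctor R, isSmoothFunctor_of_adic R.res_surjective⟩

/-- (1) ⇔ (2): for R a complete local Noetherian Λ-algebra with residue field k, the functor h_R on
Artinian local Λ-algebras with residue field k is smooth (surjective along every surjection) if and
only if Λ → R is formally smooth for the m_R-adic topology. -/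
theorem result {Λ : Type u} {k : Type u} [CommRing Λ] [Field k] [Algebra Λ k]
    [IsNoetherianRing Λ] [Module.Finite Λ k]
    (R : ArtFun.CRing Λ k) :
    ArtFun.IsSmoothFunctor (ArtFun.hR R.carrier R.res) ↔
      CAlgX.IsAdicFormallySmooth Λ R.carrier (IsLocalRing.maximalIdeal R.carrier) := result' R

end Groth.Agent.S12721
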