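import Groth.Statements.S12725
import Groth.Agent.Lib.Helper76.ArtFibre
import Mathlib

set_option autoImplicit false
universe u v
open CategoryTheory
open ArtFun

namespace Groth.Agent.S12725

section
open ArtFun.Art Groth.Agent.Lib.Helper76

variable {Λ : Type u} {k : Type u} [CommRing Λ] [Field k] [Algebra Λ k]

variable (Λ k) in
noncomputable def En (n : ℕ) : Art Λ k :=
  { carrier := TrivSqZeroExt k (Fin n → k)
    isLocalRing := isLocalRing_tsze k (Fin n → k)
    isArtinianRing := isArtinianRing_tsze k (Fin n → k)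
    res := TrivSqZeroExt.fstHom Λ k (Fin n → k)
    res_surjective := fun a => ⟨TrivSqZeroExt.inl a, rfl⟩ }

noncomputable def qa (n : ℕ) : En Λ k (n + 1) ⟶ En Λ k n :=
  ⟨tszeMap (LinearMap.funLeft k k Fin.castSucc), AlgHom.ext fun _ => rfl⟩

noncomputable def qb (n : ℕ) : En Λ k (n + 1) ⟶ dual Λ k :=
  ⟨tszeMap (LinearMap.proj (Fin.last n)), AlgHom.ext fun _ => rfl⟩

theorem isFibreProd_En (n : ℕ) :
    IsFibreProd (qa n : En Λ k (n + 1) ⟶ _) (qb n) (toBase (En Λ k n)) (toBase (dual Λ k)) where
  w := by rw [eq_toBase (qa n ≫ toBase _), eq_toBase (qb n ≫ toBase _)]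
  inj b₁ b₂ h₁ h₂ := by
    have e₁ : b₁.fst = b₂.fst := by have e := congrArg TrivSqZeroExt.fst h₁; exact e
    have e₂ : ∀ j : Fin n, b₁.snd j.castSucc = b₂.snd j.castSucc := by
      intro j
      have e := congrArg (fun z => (TrivSqZeroExt.snd z) j) h₁; exact e
    have e₃ : b₁.snd (Fin.last n) = b₂.snd (Fin.last n) := by
      have e := congrArg TrivSqZeroExt.snd h₂; exact e
    refine TrivSqZeroExt.ext e₁ (funext fun i => ?_)
    induction i using Fin.lastCases with
    | last => exact e₃
    | cast j => exact e₂ j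
  surj a' a'' h := by
    have h' : a'.fst = a''.fst := h
    refine ⟨(a'.fst, Fin.snoc (α := fun _ => k) a'.snd a''.snd), TrivSqZeroExt.ext rfl ?_,
      TrivSqZeroExt.ext h' ?_⟩
    · funext j
      show Fin.snoc (α := fun _ => k) a'.snd a''.snd j.castSucc = a'.snd j
      simp
    · show Fin.snoc (α := fun _ => k) a'.snd a''.snd (Fin.last n) = a''.snd
      simp

def PP (F : Art Λ k ⥤ Type v) (E : Art Λ k) : Prop :=
  ∀ ⦃B A : Art Λ k⦄ (p' : B ⟶ A) (p'' : B ⟶ E)
    (h : IsFibreProd p' p'' (toBase A) (toBase E)), Function.Bijective (cmp F h)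

variable (F : Art Λ k ⥤ Type v)

theorem PP_of_bijective (E : Art Λ k) (hE : Function.Bijective (toBase E)) : PP F E := by
  intro B A p' p'' h
  have hp' : Function.Bijective p' := by
    constructor
    · intro b₁ b₂ hb
      apply h.inj _ _ hb
      apply hE.1
      rw [← h.w_apply, ← h.w_apply, hb]
    · intro a
      obtain ⟨e, he⟩ := hE.2 (toBase A a)
      obtain ⟨b, hb, -⟩ := h.surj a e he.symm
      exact ⟨b, hb⟩
  have i1 : IsIso p' := isIso_of_bijective p' hp'
  have i2 : IsIso (toBase E) := isIso_of_bijective _ hE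
  have hp'' : p'' = p' ≫ toBase A ≫ inv (toBase E) := by
    rw [← Category.assoc, h.w, Category.assoc, IsIso.hom_inv_id, Category.comp_id]
  constructor
  · intro z₁ z₂ hz
    have h1 : F.map p' z₁ = F.map p' z₂ := congrArg (fun t => t.1.1) hz
    have := congrArg (F.map (inv p')) h1
    rwa [← Functor.map_comp_apply, ← Functor.map_comp_apply, IsIso.hom_inv_id,
      Functor.map_id_apply, Functor.map_id_apply] at this
  · rintro ⟨⟨x, y⟩, hxy⟩
    refine ⟨F.map (inv p') x, ?_⟩
    apply FibProd.ext
    · show F.map p' (F.map (inv p') x) = x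
      rw [← Functor.map_comp_apply, IsIso.inv_hom_id, Functor.map_id_apply]
    · show F.map p'' (F.map (inv p') x) = y
      have hxy' : F.map (toBase A) x = F.map (toBase E) y := hxy
      rw [hp'', ← Functor.map_comp_apply, IsIso.inv_hom_id_assoc, Functor.map_comp_apply, hxy',
        ← Functor.map_comp_apply, IsIso.hom_inv_id, Functor.map_id_apply]

theorem PP_transport {E E' : Art Λ k} (g : E ⟶ E') [IsIso g] (hP : PP F E') : PP F E := by
  intro B A p' p'' h
  have hg : Function.Bijective g := bijective_of_isIso g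
  have h' : IsFibreProd p' (p'' ≫ g) (toBase A) (toBase E') := by
    refine ⟨?_, ?_, ?_⟩
    · rw [eq_toBase (p' ≫ toBase _), eq_toBase ((p'' ≫ g) ≫ toBase _)]
    · intro b₁ b₂ h1 h2
      exact h.inj _ _ h1 (hg.1 h2)
    · intro a e' hae
      obtain ⟨e, rfl⟩ := hg.2 e'
      have : toBase A a = toBase E e := by
        rw [hae]
        show E'.res (g e) = E.res e
        exact res_app g e
      obtain ⟨b, hb1, hb2⟩ := h.surj a e this
      exact ⟨b, hb1, by show g (p'' b) = g e; rw [hb2]⟩
  have hb := hP p' (p'' ≫ g) h'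
  constructor
  · intro z₁ z₂ hz
    apply hb.1
    have h1 : F.map p' z₁ = F.map p' z₂ := congrArg (fun t => t.1.1) hz
    have h2 : F.map p'' z₁ = F.map p'' z₂ := congrArg (fun t => t.1.2) hz
    apply FibProd.ext
    · exact h1
    · show F.map (p'' ≫ g) z₁ = F.map (p'' ≫ g) z₂
      rw [Functor.map_comp_apply, Functor.map_comp_apply, h2]
  · rintro ⟨⟨x, y⟩, hxy⟩
    have hxy' : F.map (toBase A) x = F.map (toBase E) y := hxy
    have hE : toBase E = g ≫ toBase E' := (eq_toBase _).symm
    obtain ⟨z, hz⟩ := hb.2 ⟨(x, F.map g y), by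
      show F.map (toBase A) x = F.map (toBase E') (F.map g y)
      rw [← Functor.map_comp_apply, ← hE, hxy']⟩
    have h1 : F.map p' z = x := congrArg (fun t => t.1.1) hz
    have h2 : F.map (p'' ≫ g) z = F.map g y := congrArg (fun t => t.1.2) hz
    refine ⟨z, FibProd.ext h1 ?_⟩
    show F.map p'' z = y
    have := congrArg (F.map (inv g)) h2
    rwa [← Functor.map_comp_apply, ← Functor.map_comp_apply, Category.assoc, IsIso.hom_inv_id,
      Category.comp_id, Functor.map_id_apply] at this

theorem PP_step [IsNoetherianRing Λ] [Module.Finite Λ k] (hF : Heps F) {E E' : Art Λ k}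
    (q' : E ⟶ E') (q'' : E ⟶ dual Λ k)
    (hE : IsFibreProd q' q'' (toBase E') (toBase (dual Λ k))) (hP : PP F E') : PP F E := by
  intro B A p' p'' h
  have hsurj : Function.Surjective (toBase E') := E'.res_surjective
  let B' := fibreProd (toBase A) (toBase E') hsurj
  let s' : B' ⟶ A := fibreProdFst (toBase A) (toBase E') hsurj
  let s'' : B' ⟶ E' := fibreProdSnd (toBase A) (toBase E') hsurj
  have h₁ : IsFibreProd s' s'' (toBase A) (toBase E') := isFibreProd_fibreProd _ _ hsurj
  have hcomp : p' ≫ toBase A = (p'' ≫ q') ≫ toBase E' := by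
    rw [eq_toBase (p' ≫ toBase _), eq_toBase ((p'' ≫ q') ≫ toBase _)]
  let t : B ⟶ B' := fp_lift h₁ p' (p'' ≫ q') hcomp
  have ht' : t ≫ s' = p' := fp_lift_fst h₁ _ _ hcomp
  have ht'' : t ≫ s'' = p'' ≫ q' := fp_lift_snd h₁ _ _ hcomp
  have ht'a : ∀ b, s' (t b) = p' b := fun b => congrArg (fun (g : B ⟶ A) => g b) ht'
  have ht''a : ∀ b, s'' (t b) = q' (p'' b) := fun b => congrArg (fun (g : B ⟶ E') => g b) ht''
  have h₂ : IsFibreProd t (p'' ≫ q'') (toBase B') (toBase (dual Λ k)) := by
    refine ⟨?_, ?_, ?_⟩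
    · rw [eq_toBase (t ≫ toBase _), eq_toBase ((p'' ≫ q'') ≫ toBase _)]
    · intro b₁ b₂ e1 e2
      have e2' : q'' (p'' b₁) = q'' (p'' b₂) := e2
      have e3 : p' b₁ = p' b₂ := by rw [← ht'a, ← ht'a, e1]
      have e4 : q' (p'' b₁) = q' (p'' b₂) := by rw [← ht''a, ← ht''a, e1]
      exact h.inj _ _ e3 (hE.inj _ _ e4 e2')
    · intro b' d hbd
      have hbd' : B'.res b' = (dual Λ k).res d := hbd
      have r1 : E'.res (s'' b') = B'.res b' := res_app s'' b'
      have r2 : A.res (s' b') = B'.res b' := res_app s' b'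
      obtain ⟨e, he1, he2⟩ := hE.surj (s'' b') d (by
        show E'.res (s'' b') = (dual Λ k).res d
        rw [r1, hbd'])
      obtain ⟨b, hb1, hb2⟩ := h.surj (s' b') e (by
        show A.res (s' b') = E.res e
        rw [r2, ← r1, ← he1]
        exact res_app q' e)
      refine ⟨b, ?_, ?_⟩
      · apply h₁.inj
        · rw [ht'a, hb1]
        · rw [ht''a, hb2, he1]
      · show q'' (p'' b) = d
        rw [hb2, he2]
  have hb2 := hF t (p'' ≫ q'') h₂
  have hb1 := hP s' s'' h₁
  have hbE := hF q' q'' hE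
  constructor
  · intro z₁ z₂ hz
    have e1 : F.map p' z₁ = F.map p' z₂ := congrArg (fun t => t.1.1) hz
    have e2 : F.map p'' z₁ = F.map p'' z₂ := congrArg (fun t => t.1.2) hz
    apply hb2.1
    apply FibProd.ext
    · show F.map t z₁ = F.map t z₂
      apply hb1.1
      apply FibProd.ext
      · show F.map s' (F.map t z₁) = F.map s' (F.map t z₂)
        rw [← Functor.map_comp_apply, ← Functor.map_comp_apply, ht', e1]
      · show F.map s'' (F.map t z₁) = F.map s'' (F.map t z₂)
        rw [← Functor.map_comp_apply, ← Functor.map_comp_apply, ht'', Functor.map_comp_apply,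
          Functor.map_comp_apply, e2]
    · show F.map (p'' ≫ q'') z₁ = F.map (p'' ≫ q'') z₂
      rw [Functor.map_comp_apply, Functor.map_comp_apply, e2]
  · rintro ⟨⟨x, y⟩, hxy⟩
    have hxy' : F.map (toBase A) x = F.map (toBase E) y := hxy
    have hqE : q' ≫ toBase E' = toBase E := eq_toBase _
    have hqD : q'' ≫ toBase (dual Λ k) = toBase E := eq_toBase _
    have hsA : s' ≫ toBase A = toBase B' := eq_toBase _
    obtain ⟨u, hu⟩ := hb1.2 ⟨(x, F.map q' y), by
      show F.map (toBase A) x = F.map (toBase E') (F.map q' y)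
      rw [← Functor.map_comp_apply, hqE, hxy']⟩
    have hu1 : F.map s' u = x := congrArg (fun t => t.1.1) hu
    have hu2 : F.map s'' u = F.map q' y := congrArg (fun t => t.1.2) hu
    obtain ⟨z, hz⟩ := hb2.2 ⟨(u, F.map q'' y), by
      show F.map (toBase B') u = F.map (toBase (dual Λ k)) (F.map q'' y)
      rw [← Functor.map_comp_apply, hqD, ← hsA, Functor.map_comp_apply, hu1, hxy']⟩
    have hz1 : F.map t z = u := congrArg (fun t => t.1.1) hz
    have hz2 : F.map (p'' ≫ q'') z = F.map q'' y := congrArg (fun t => t.1.2) hz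
    refine ⟨z, FibProd.ext ?_ ?_⟩
    · show F.map p' z = x
      rw [← ht', Functor.map_comp_apply, hz1, hu1]
    · show F.map p'' z = y
      apply hbE.1
      apply FibProd.ext
      · show F.map q' (F.map p'' z) = F.map q' y
        rw [← Functor.map_comp_apply, ← ht'', Functor.map_comp_apply, hz1, hu2]
      · show F.map q'' (F.map p'' z) = F.map q'' y
        rw [← Functor.map_comp_apply, hz2]

theorem PP_En [IsNoetherianRing Λ] [Module.Finite Λ k] (hF : Heps F) (n : ℕ) : PP F (En Λ k n) := by
  induction n with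
  | zero =>
    apply PP_of_bijective
    constructor
    · intro x y hxy
      have h1 : x.fst = y.fst := hxy
      exact TrivSqZeroExt.ext h1 (Subsingleton.elim _ _)
    · intro a
      exact ⟨TrivSqZeroExt.inl a, rfl⟩
  | succ n ih => exact PP_step F hF (qa n) (qb n) (isFibreProd_En n) ih

theorem exists_En_iso [IsNoetherianRing Λ] [Module.Finite Λ k] (E : Art Λ k)
    (σ : base Λ k ⟶ E) (hE : IsLocalRing.maximalIdeal E ^ 2 = ⊥) :
    ∃ (n : ℕ) (g : En Λ k n ⟶ E), Function.Bijective g := by
  classical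
  let σa : k →ₐ[Λ] E := σ.toAlgHom
  have hσ : ∀ a : k, E.res (σa a) = a := fun a => res_app σ a
  let _ : Algebra k E := σa.toRingHom.toAlgebra
  have hsm : ∀ (c : k) (e : E), c • e = σa c * e := fun c e => Algebra.smul_def c e
  have _ : IsScalarTower Λ k E := IsScalarTower.of_algebraMap_eq (fun x => (σa.commutes x).symm)
  have hfin : Module.Finite Λ E := finite_carrier E
  have _ : Module.Finite k E := Module.Finite.of_restrictScalars_finite Λ k E
  let M : Submodule k E := (IsLocalRing.maximalIdeal E).restrictScalars k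
  have hM : ∀ e : E, e ∈ M ↔ E.res e = 0 := fun e => mem_maximalIdeal_iff E e
  let n := Module.finrank k M
  let b : Module.Basis (Fin n) k M := Module.finBasis k M
  let glk : (Fin n → k) →ₗ[k] E := Fintype.linearCombination k (fun i => (b i : E))
  have hglk : ∀ w, glk w = ∑ i, w i • (b i : E) := fun w => Fintype.linearCombination_apply k _ w
  have hglM : ∀ w, glk w ∈ M := by
    intro w
    rw [hglk]
    exact Submodule.sum_mem _ fun i _ => Submodule.smul_mem _ _ (b i).2
  let gl : (Fin n → k) →ₗ[Λ] E := glk.restrictScalars Λ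
  have hmul : ∀ x y : E, x ∈ M → y ∈ M → x * y = 0 := by
    intro x y hx hy
    have : x * y ∈ IsLocalRing.maximalIdeal E ^ 2 := by
      rw [pow_two]; exact Ideal.mul_mem_mul hx hy
    rw [hE] at this
    exact this
  let g0 : TrivSqZeroExt k (Fin n → k) →ₐ[Λ] E :=
    TrivSqZeroExt.lift σa gl (fun x y => hmul _ _ (hglM x) (hglM y))
      (fun r x => by
        show glk (r • x) = σa r * glk x
        rw [map_smul, hsm])
      (fun r x => by
        show glk (MulOpposite.op r • x) = glk x * σa r
        rw [op_smul_eq_smul, map_smul, hsm, mul_comm])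
  have hg0 : ∀ x, g0 x = σa x.fst + glk x.snd := fun x => rfl
  have hres : ∀ x, E.res (g0 x) = x.fst := by
    intro x
    rw [hg0, map_add, hσ, (hM _).mp (hglM _), add_zero]
  let g : En Λ k n ⟶ E := ⟨g0, AlgHom.ext fun x => hres x⟩
  have hinj : Function.Injective g0 := by
    intro x y hxy'
    have h0 : g0 (x - y) = 0 := by rw [map_sub, hxy', sub_self]
    have hf : (x - y).fst = 0 := by rw [← hres, h0, map_zero]
    have hs : glk (x - y).snd = 0 := by
      have := h0
      rw [hg0, hf, map_zero, zero_add] at this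
      exact this
    have hs' : ∑ i, (x - y).snd i • b i = 0 := by
      apply Subtype.ext
      rw [Submodule.coe_sum, Submodule.coe_zero, ← hs, hglk]
      rfl
    have hli := Fintype.linearIndependent_iff.mp b.linearIndependent _ hs'
    have hsnd : (x - y).snd = 0 := funext hli
    have : x - y = 0 := TrivSqZeroExt.ext hf hsnd
    exact sub_eq_zero.mp this
  have hsurj : Function.Surjective g0 := by
    intro e
    have hm : e - σa (E.res e) ∈ M := by
      rw [hM, map_sub, hσ, sub_self]
    let m' : M := ⟨e - σa (E.res e), hm⟩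
    refine ⟨TrivSqZeroExt.inl (E.res e) + TrivSqZeroExt.inr (b.equivFun m'), ?_⟩
    rw [hg0]
    simp only [TrivSqZeroExt.fst_add, TrivSqZeroExt.fst_inl, TrivSqZeroExt.fst_inr, add_zero,
      TrivSqZeroExt.snd_add, TrivSqZeroExt.snd_inl, TrivSqZeroExt.snd_inr, zero_add]
    have : glk (b.equivFun m') = (m' : E) := by
      rw [hglk]
      have h1 := b.sum_equivFun m'
      have h2 := congrArg (Subtype.val) h1
      rw [Submodule.coe_sum] at h2
      exact h2
    rw [this]
    show σa (E.res e) + (e - σa (E.res e)) = e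
    ring
  exact ⟨n, g, hinj, hsurj⟩

end

/-- For functors, if F satisfies (S2) (bijectivity of F(A ×_k k[ε]) → F(A) ×_{F(k)} F(k[ε])), then for
every object E which is a square-zero extension k ⊕ V of k by a finite-dimensional vector space —
equivalently, m_E² = 0 and the augmentation E → k has a section in the category — and every fibre
product square B = A ×_k E, the map F(B) → F(A) ×_{F(k)} F(E) is bijective. -/
theorem result {Λ : Type u} {k : Type u} [CommRing Λ] [Field k] [Algebra Λ k]
    [IsNoetherianRing Λ] [Module.Finite Λ k]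
    {F : ArtFun.Art Λ k ⥤ Type v} (hF : ArtFun.Heps F)
    {E : ArtFun.Art Λ k} (hσ : Nonempty (ArtFun.Art.base Λ k ⟶ E))
    (hE : IsLocalRing.maximalIdeal E ^ 2 = ⊥)
    ⦃B A : ArtFun.Art Λ k⦄ (p' : B ⟶ A) (p'' : B ⟶ E)
    (h : ArtFun.Art.IsFibreProd p' p'' (ArtFun.Art.toBase A) (ArtFun.Art.toBase E)) :
    Function.Bijective (ArtFun.cmp F h) := by
  obtain ⟨σ⟩ := hσ
  obtain ⟨n, g, hg⟩ := exists_En_iso E σ hE
  have i1 : IsIso g := Groth.Agent.Lib.Helper76.isIso_of_bijective g hg
  have hP : PP F E := PP_transport F (inv g) (PP_En F hF n)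
  exact hP p' p'' h

end Groth.Agent.S12725
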