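import Groth.Statements.S12726
import Mathlib

set_option autoImplicit false
universe u v
open CategoryTheory
open ArtFun

namespace Groth.Agent.S12726

section
open ArtFun.Art

variable {Λ : Type u} {k : Type u} [CommRing Λ] [Field k] [Algebra Λ k]

variable (Λ k) in
noncomputable def dual3 : Art Λ k :=
  { carrier := TrivSqZeroExt k (k × k × k)
    isLocalRing := isLocalRing_tsze k (k × k × k)
    isArtinianRing := isArtinianRing_tsze k (k × k × k)
    res := TrivSqZeroExt.fstHom Λ k (k × k × k)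
    res_surjective := fun a => ⟨TrivSqZeroExt.inl a, rfl⟩ }

noncomputable def swap2 : dual2 Λ k ⟶ dual2 Λ k :=
  ⟨tszeMap ((LinearMap.snd k k k).prod (LinearMap.fst k k k)), AlgHom.ext fun _ => rfl⟩

noncomputable def inc1 : dual Λ k ⟶ dual2 Λ k :=
  ⟨tszeMap (LinearMap.inl k k k), AlgHom.ext fun _ => rfl⟩

noncomputable def delta (c d : k) : dual Λ k ⟶ dual2 Λ k :=
  ⟨tszeMap ((c • LinearMap.id).prod (d • LinearMap.id)), AlgHom.ext fun _ => rfl⟩

noncomputable def scale2 (c : k) : dual2 Λ k ⟶ dual2 Λ k :=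
  ⟨tszeMap (c • LinearMap.id), AlgHom.ext fun _ => rfl⟩

noncomputable def p12 : dual3 Λ k ⟶ dual2 Λ k :=
  ⟨tszeMap ((LinearMap.fst k k (k × k)).prod
    ((LinearMap.fst k k k).comp (LinearMap.snd k k (k × k)))), AlgHom.ext fun _ => rfl⟩

noncomputable def p3 : dual3 Λ k ⟶ dual Λ k :=
  ⟨tszeMap ((LinearMap.snd k k k).comp (LinearMap.snd k k (k × k))), AlgHom.ext fun _ => rfl⟩

noncomputable def p23 : dual3 Λ k ⟶ dual2 Λ k :=
  ⟨tszeMap (LinearMap.snd k k (k × k)), AlgHom.ext fun _ => rfl⟩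

noncomputable def m12 : dual3 Λ k ⟶ dual2 Λ k :=
  ⟨tszeMap ((LinearMap.fst k k (k × k) +
      (LinearMap.fst k k k).comp (LinearMap.snd k k (k × k))).prod
    ((LinearMap.snd k k k).comp (LinearMap.snd k k (k × k)))), AlgHom.ext fun _ => rfl⟩

noncomputable def m23 : dual3 Λ k ⟶ dual2 Λ k :=
  ⟨tszeMap ((LinearMap.fst k k (k × k)).prod
    ((LinearMap.fst k k k + LinearMap.snd k k k).comp (LinearMap.snd k k (k × k)))),
    AlgHom.ext fun _ => rfl⟩

theorem swap_pr1 : (swap2 : dual2 Λ k ⟶ _) ≫ pr₁ = pr₂ := hom_ext (AlgHom.ext fun _ => rfl)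
theorem swap_pr2 : (swap2 : dual2 Λ k ⟶ _) ≫ pr₂ = pr₁ := hom_ext (AlgHom.ext fun _ => rfl)
theorem swap_plus : (swap2 : dual2 Λ k ⟶ _) ≫ plus = plus :=
  hom_ext (AlgHom.ext fun _ => TrivSqZeroExt.ext rfl (add_comm _ _))

theorem inc1_pr1 : (inc1 : dual Λ k ⟶ _) ≫ pr₁ = 𝟙 _ := hom_ext (AlgHom.ext fun _ => rfl)
theorem inc1_pr2 : (inc1 : dual Λ k ⟶ _) ≫ pr₂ = toBase _ ≫ baseToDual :=
  hom_ext (AlgHom.ext fun _ => TrivSqZeroExt.ext rfl rfl)
theorem inc1_plus : (inc1 : dual Λ k ⟶ _) ≫ plus = 𝟙 _ :=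
  hom_ext (AlgHom.ext fun _ => TrivSqZeroExt.ext rfl (add_zero _))

theorem delta_pr1 (c d : k) : (delta c d : dual Λ k ⟶ _) ≫ pr₁ = scale c :=
  hom_ext (AlgHom.ext fun _ => rfl)
theorem delta_pr2 (c d : k) : (delta c d : dual Λ k ⟶ _) ≫ pr₂ = scale d :=
  hom_ext (AlgHom.ext fun _ => rfl)
theorem delta_plus (c d : k) : (delta c d : dual Λ k ⟶ _) ≫ plus = scale (c + d) :=
  hom_ext (AlgHom.ext fun x => TrivSqZeroExt.ext rfl (by
    show c * x.snd + d * x.snd = (c + d) * x.snd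
    ring))

theorem scale2_pr1 (c : k) : (scale2 c : dual2 Λ k ⟶ _) ≫ pr₁ = pr₁ ≫ scale c :=
  hom_ext (AlgHom.ext fun _ => rfl)
theorem scale2_pr2 (c : k) : (scale2 c : dual2 Λ k ⟶ _) ≫ pr₂ = pr₂ ≫ scale c :=
  hom_ext (AlgHom.ext fun _ => rfl)
theorem scale2_plus (c : k) : (scale2 c : dual2 Λ k ⟶ _) ≫ plus = plus ≫ scale c :=
  hom_ext (AlgHom.ext fun x => TrivSqZeroExt.ext rfl (by
    show c * x.snd.1 + c * x.snd.2 = c * (x.snd.1 + x.snd.2)
    ring))

theorem scale_one : (scale (1 : k) : dual Λ k ⟶ _) = 𝟙 _ :=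
  hom_ext (AlgHom.ext fun x => TrivSqZeroExt.ext rfl (by
    show (1 : k) * x.snd = x.snd
    ring))
theorem scale_zero : (scale (0 : k) : dual Λ k ⟶ _) = toBase _ ≫ baseToDual :=
  hom_ext (AlgHom.ext fun x => TrivSqZeroExt.ext rfl (by
    show (0 : k) * x.snd = 0
    ring))
theorem scale_scale (c d : k) : (scale d : dual Λ k ⟶ _) ≫ scale c = scale (c * d) :=
  hom_ext (AlgHom.ext fun x => TrivSqZeroExt.ext rfl (by
    show c * (d * x.snd) = (c * d) * x.snd
    ring))
theorem base_scale (c : k) : (baseToDual : base Λ k ⟶ _) ≫ scale c = baseToDual :=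
  hom_ext (AlgHom.ext fun x => TrivSqZeroExt.ext rfl (by
    show c * (0 : k) = 0
    ring))

theorem m12_pr1 : (m12 : dual3 Λ k ⟶ _) ≫ pr₁ = p12 ≫ plus := hom_ext (AlgHom.ext fun _ => rfl)
theorem m12_pr2 : (m12 : dual3 Λ k ⟶ _) ≫ pr₂ = p3 := hom_ext (AlgHom.ext fun _ => rfl)
theorem m23_pr1 : (m23 : dual3 Λ k ⟶ _) ≫ pr₁ = p12 ≫ pr₁ := hom_ext (AlgHom.ext fun _ => rfl)
theorem m23_pr2 : (m23 : dual3 Λ k ⟶ _) ≫ pr₂ = p23 ≫ plus := hom_ext (AlgHom.ext fun _ => rfl)
theorem p23_pr1 : (p23 : dual3 Λ k ⟶ _) ≫ pr₁ = p12 ≫ pr₂ := hom_ext (AlgHom.ext fun _ => rfl)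
theorem p23_pr2 : (p23 : dual3 Λ k ⟶ _) ≫ pr₂ = p3 := hom_ext (AlgHom.ext fun _ => rfl)
theorem m12_plus : (m12 : dual3 Λ k ⟶ _) ≫ plus = m23 ≫ plus :=
  hom_ext (AlgHom.ext fun x => TrivSqZeroExt.ext rfl (by
    show x.snd.1 + x.snd.2.1 + x.snd.2.2 = x.snd.1 + (x.snd.2.1 + x.snd.2.2)
    ring))

theorem isFibreProd_dual3 :
    IsFibreProd (p12 : dual3 Λ k ⟶ _) p3 (toBase (dual2 Λ k)) (toBase (dual Λ k)) where
  w := by rw [eq_toBase (p12 ≫ toBase _), eq_toBase (p3 ≫ toBase _)]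
  inj b₁ b₂ h₁ h₂ := by
    have e₁ : b₁.fst = b₂.fst := by have e := congrArg TrivSqZeroExt.fst h₁; exact e
    have e₂ : b₁.snd.1 = b₂.snd.1 := by
      have e := congrArg (fun z => (TrivSqZeroExt.snd z).1) h₁; exact e
    have e₃ : b₁.snd.2.1 = b₂.snd.2.1 := by
      have e := congrArg (fun z => (TrivSqZeroExt.snd z).2) h₁; exact e
    have e₄ : b₁.snd.2.2 = b₂.snd.2.2 := by have e := congrArg TrivSqZeroExt.snd h₂; exact e
    exact TrivSqZeroExt.ext e₁ (Prod.ext e₂ (Prod.ext e₃ e₄))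
  surj a' a'' h := by
    have h' : a'.fst = a''.fst := h
    exact ⟨(a'.fst, (a'.snd.1, (a'.snd.2, a''.snd))), TrivSqZeroExt.ext rfl rfl,
      TrivSqZeroExt.ext h' rfl⟩

variable (F : Art Λ k ⥤ Type v)

theorem pair_bij (h0 : H0 F) (h2 : Heps F) :
    Function.Bijective (fun z : F.obj (dual2 Λ k) => (F.map pr₁ z, F.map pr₂ z)) := by
  have hb := h2 pr₁ pr₂ isFibreProd_dual2
  constructor
  · intro z z' h
    exact hb.1 (FibProd.ext (congrArg Prod.fst h) (congrArg Prod.snd h))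
  · rintro ⟨x, y⟩
    have hs : Subsingleton (F.obj (base Λ k)) := h0.2
    obtain ⟨z, hz⟩ := hb.2 ⟨(x, y), Subsingleton.elim _ _⟩
    exact ⟨z, congrArg Subtype.val hz⟩

theorem triple_surj (h2 : Heps F) (h0 : H0 F) (u : F.obj (dual2 Λ k)) (z : F.obj (dual Λ k)) :
    ∃ w : F.obj (dual3 Λ k), F.map p12 w = u ∧ F.map p3 w = z := by
  have hb := h2 p12 p3 isFibreProd_dual3
  have hs : Subsingleton (F.obj (base Λ k)) := h0.2
  obtain ⟨w, hw⟩ := hb.2 ⟨(u, z), Subsingleton.elim _ _⟩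
  have := congrArg Subtype.val hw
  exact ⟨w, congrArg Prod.fst this, congrArg Prod.snd this⟩

noncomputable def pair (h0 : H0 F) (h2 : Heps F) (x y : F.obj (dual Λ k)) : F.obj (dual2 Λ k) :=
  ((pair_bij F h0 h2).2 (x, y)).choose

theorem pair_fst (h0 : H0 F) (h2 : Heps F) (x y : F.obj (dual Λ k)) :
    F.map pr₁ (pair F h0 h2 x y) = x :=
  congrArg Prod.fst ((pair_bij F h0 h2).2 (x, y)).choose_spec

theorem pair_snd (h0 : H0 F) (h2 : Heps F) (x y : F.obj (dual Λ k)) :
    F.map pr₂ (pair F h0 h2 x y) = y :=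
  congrArg Prod.snd ((pair_bij F h0 h2).2 (x, y)).choose_spec

theorem pair_unique (h0 : H0 F) (h2 : Heps F) {x y : F.obj (dual Λ k)} {z : F.obj (dual2 Λ k)}
    (h1 : F.map pr₁ z = x) (h2' : F.map pr₂ z = y) : z = pair F h0 h2 x y := by
  apply (pair_bij F h0 h2).1
  show (F.map pr₁ z, F.map pr₂ z) = (F.map pr₁ (pair F h0 h2 x y), F.map pr₂ (pair F h0 h2 x y))
  rw [h1, h2', pair_fst, pair_snd]

noncomputable def tadd (h0 : H0 F) (h2 : Heps F) (x y : F.obj (dual Λ k)) : F.obj (dual Λ k) :=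
  F.map plus (pair F h0 h2 x y)

noncomputable def tzero (h0 : H0 F) : F.obj (dual Λ k) :=
  F.map baseToDual h0.1.some

theorem tadd_of (h0 : H0 F) (h2 : Heps F) (z : F.obj (dual2 Λ k)) :
    tadd F h0 h2 (F.map pr₁ z) (F.map pr₂ z) = F.map plus z := by
  rw [tadd, ← pair_unique F h0 h2 rfl rfl]

theorem tadd_comm (h0 : H0 F) (h2 : Heps F) (x y : F.obj (dual Λ k)) :
    tadd F h0 h2 x y = tadd F h0 h2 y x := by
  have e : F.map swap2 (pair F h0 h2 x y) = pair F h0 h2 y x := by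
    apply pair_unique
    · rw [← Functor.map_comp_apply, swap_pr1, pair_snd]
    · rw [← Functor.map_comp_apply, swap_pr2, pair_fst]
  rw [tadd, tadd, ← e, ← Functor.map_comp_apply, swap_plus]

theorem toBase_const (h0 : H0 F) (x : F.obj (dual Λ k)) :
    F.map (toBase (dual Λ k) ≫ baseToDual) x = tzero F h0 := by
  have hs : Subsingleton (F.obj (base Λ k)) := h0.2
  rw [Functor.map_comp_apply, tzero]
  congr 1
  exact Subsingleton.elim _ _

theorem tadd_zero (h0 : H0 F) (h2 : Heps F) (x : F.obj (dual Λ k)) :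
    tadd F h0 h2 x (tzero F h0) = x := by
  have e : F.map inc1 x = pair F h0 h2 x (tzero F h0) := by
    apply pair_unique
    · rw [← Functor.map_comp_apply, inc1_pr1, Functor.map_id_apply]
    · rw [← Functor.map_comp_apply, inc1_pr2, toBase_const]
  rw [tadd, ← e, ← Functor.map_comp_apply, inc1_plus, Functor.map_id_apply]

theorem tadd_smul (h0 : H0 F) (h2 : Heps F) (c d : k) (x : F.obj (dual Λ k)) :
    tadd F h0 h2 (F.map (scale c) x) (F.map (scale d) x) = F.map (scale (c + d)) x := by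
  have e : F.map (delta c d) x = pair F h0 h2 (F.map (scale c) x) (F.map (scale d) x) := by
    apply pair_unique
    · rw [← Functor.map_comp_apply, delta_pr1]
    · rw [← Functor.map_comp_apply, delta_pr2]
  rw [tadd, ← e, ← Functor.map_comp_apply, delta_plus]

theorem tsmul_add (h0 : H0 F) (h2 : Heps F) (c : k) (x y : F.obj (dual Λ k)) :
    F.map (scale c) (tadd F h0 h2 x y) =
      tadd F h0 h2 (F.map (scale c) x) (F.map (scale c) y) := by
  have e : F.map (scale2 c) (pair F h0 h2 x y) =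
      pair F h0 h2 (F.map (scale c) x) (F.map (scale c) y) := by
    apply pair_unique
    · rw [← Functor.map_comp_apply, scale2_pr1, Functor.map_comp_apply, pair_fst]
    · rw [← Functor.map_comp_apply, scale2_pr2, Functor.map_comp_apply, pair_snd]
  rw [tadd, tadd, ← e, ← Functor.map_comp_apply, ← Functor.map_comp_apply, scale2_plus]

theorem tadd_assoc (h0 : H0 F) (h2 : Heps F) (x y z : F.obj (dual Λ k)) :
    tadd F h0 h2 (tadd F h0 h2 x y) z = tadd F h0 h2 x (tadd F h0 h2 y z) := by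
  obtain ⟨w, hw1, hw2⟩ := triple_surj F h2 h0 (pair F h0 h2 x y) z
  have e1 : F.map m12 w = pair F h0 h2 (tadd F h0 h2 x y) z := by
    apply pair_unique
    · rw [← Functor.map_comp_apply, m12_pr1, Functor.map_comp_apply, hw1, tadd]
    · rw [← Functor.map_comp_apply, m12_pr2, hw2]
  have e3 : F.map p23 w = pair F h0 h2 y z := by
    apply pair_unique
    · rw [← Functor.map_comp_apply, p23_pr1, Functor.map_comp_apply, hw1, pair_snd]
    · rw [← Functor.map_comp_apply, p23_pr2, hw2]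
  have e2 : F.map m23 w = pair F h0 h2 x (tadd F h0 h2 y z) := by
    apply pair_unique
    · rw [← Functor.map_comp_apply, m23_pr1, Functor.map_comp_apply, hw1, pair_fst]
    · rw [← Functor.map_comp_apply, m23_pr2, Functor.map_comp_apply, e3, tadd]
  rw [tadd, ← e1, tadd, ← e2, ← Functor.map_comp_apply, ← Functor.map_comp_apply, m12_plus]

theorem tzero_smul (h0 : H0 F) (x : F.obj (dual Λ k)) : F.map (scale (0 : k)) x = tzero F h0 := by
  rw [scale_zero, toBase_const]

theorem tone_smul (x : F.obj (dual Λ k)) : F.map (scale (1 : k)) x = x := by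
  rw [scale_one, Functor.map_id_apply]

theorem tmul_smul (c d : k) (x : F.obj (dual Λ k)) :
    F.map (scale (c * d)) x = F.map (scale c) (F.map (scale d) x) := by
  rw [← Functor.map_comp_apply, scale_scale]

theorem tsmul_zero (h0 : H0 F) (c : k) : F.map (scale c) (tzero F h0) = tzero F h0 := by
  rw [tzero, ← Functor.map_comp_apply, base_scale]

theorem tadd_neg (h0 : H0 F) (h2 : Heps F) (x : F.obj (dual Λ k)) :
    tadd F h0 h2 (F.map (scale (-1 : k)) x) x = tzero F h0 := by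
  have := tadd_smul F h0 h2 (-1) 1 x
  rw [tone_smul] at this
  rw [this, neg_add_cancel, tzero_smul]

@[reducible] noncomputable def tsAddCommGroup (h0 : H0 F) (h2 : Heps F) :
    AddCommGroup (F.obj (dual Λ k)) :=
  let _ : Add (F.obj (dual Λ k)) := ⟨tadd F h0 h2⟩
  let _ : Zero (F.obj (dual Λ k)) := ⟨tzero F h0⟩
  let _ : Neg (F.obj (dual Λ k)) := ⟨fun x => F.map (scale (-1 : k)) x⟩
  { AddGroup.ofLeftAxioms (G := F.obj (dual Λ k)) (tadd_assoc F h0 h2)
      (fun x => by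
        show tadd F h0 h2 (tzero F h0) x = x
        rw [tadd_comm, tadd_zero])
      (tadd_neg F h0 h2) with
    add_comm := tadd_comm F h0 h2 }

@[reducible] noncomputable def tsModule (h0 : H0 F) (h2 : Heps F) :
    @Module k (F.obj (dual Λ k)) _ (tsAddCommGroup F h0 h2).toAddCommMonoid :=
  let _ := tsAddCommGroup F h0 h2
  { smul := fun c x => F.map (scale c) x
    one_smul := tone_smul F
    mul_smul := tmul_smul F
    smul_zero := tsmul_zero F h0
    smul_add := tsmul_add F h0 h2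
    add_smul := fun c d x => (tadd_smul F h0 h2 c d x).symm
    zero_smul := tzero_smul F h0 }

end

/-- For functors, if F is a functor on Artinian local Λ-algebras with residue field k with F(k) a point
and satisfying (S2), then its tangent space F(k[ε]) admits the natural k-vector space structure:
scalar multiplication by c is F(ε ↦ cε) and the sum of the two projections of an element of F(k[ε₁,
ε₂]) is its image under εᵢ ↦ ε. -/
theorem result {Λ : Type u} {k : Type u} [CommRing Λ] [Field k] [Algebra Λ k]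
    [IsNoetherianRing Λ] [Module.Finite Λ k]
    (F : ArtFun.Art Λ k ⥤ Type v) (h0 : ArtFun.H0 F) (h2 : ArtFun.Heps F) :
    Nonempty (ArtFun.TangentStr F) := by
  exact ⟨{ addCommGroup := tsAddCommGroup F h0 h2
           module := tsModule F h0 h2
           smul_eq := fun _ _ => rfl
           add_eq := fun z => tadd_of F h0 h2 z }⟩

end Groth.Agent.S12726
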