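import Groth.Statements.S12733
import Groth.Agent.Lib.Helper76.ArtFibre
import Groth.Agent.Lib.Helper94.ArtFun2
-- import your own Groth.Agent.* helpers here

set_option autoImplicit false
universe u v
open CategoryTheory
open ArtFun

namespace Groth.Agent.S12733

open Groth.Agent.Lib.Helper76 (surjective_induction fp_lift fp_lift_fst fp_lift_snd) in
open Groth.Agent.Lib.Helper94 (fibreProd fibreProdFst fibreProdSnd isFibreProd_fibreProd) in
open ArtFun.Art in
theorem result' {Λ : Type u} {k : Type u} [CommRing Λ] [Field k] [Algebra Λ k]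
    [IsNoetherianRing Λ] [Module.Finite Λ k]
    {F G : ArtFun.Art Λ k ⥤ Type v}
    (hF0 : ArtFun.H0 F) (hF : (∀ ⦃B A A' A'' : ArtFun.Art Λ k⦄ (p' : B ⟶ A') (p'' : B ⟶ A'') (f' : A' ⟶ A) (f'' : A'' ⟶ A)
        (h : ArtFun.Art.IsFibreProd p' p'' f' f''), Function.Surjective f'' → Function.Bijective (ArtFun.cmp F h)))
    (hG0 : ArtFun.H0 G) (hG : (∀ ⦃B A A' A'' : ArtFun.Art Λ k⦄ (p' : B ⟶ A') (p'' : B ⟶ A'') (f' : A' ⟶ A) (f'' : A'' ⟶ A)
        (h : ArtFun.Art.IsFibreProd p' p'' f' f''), Function.Surjective f'' → Function.Bijective (ArtFun.cmp G h)))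
    (φ : F ⟶ G) (hφ : ArtFun.IsSmooth φ) (hd : Function.Bijective (ArtFun.TangentSpace.map φ))
    (A : ArtFun.Art Λ k) : Function.Bijective (φ.app A) := by
  constructor
  · -- injectivity by induction along small extensions
    have key := surjective_induction (Λ := Λ) (k := k)
      (fun A B μ => Function.Injective (φ.app A) → Function.Injective (φ.app B)) ?_ ?_ ?_
      (toBase A) A.res_surjective
    · apply key
      intro x y _
      exact hF0.2.elim x y
    · -- isomorphisms
      intro A B e he hA y₁ y₂ hy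
      have h1 : φ.app A (F.map e y₁) = φ.app A (F.map e y₂) := by
        rw [NatTrans.naturality_apply φ e, NatTrans.naturality_apply φ e, hy]
      have h2 := hA h1
      have h3 := congrArg (F.map (inv e)) h2
      rwa [← Functor.map_comp_apply, ← Functor.map_comp_apply, IsIso.hom_inv_id,
        Functor.map_id_apply, Functor.map_id_apply] at h3
    · -- small extensions
      intro A B μ hμ hA y₁ y₂ hy
      have hP := isFibreProd_fibreProd μ μ hμ.1
      obtain ⟨q, hq, hdiag⟩ := Groth.Agent.Lib.Helper94.smallExt_exists_dual hμ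
      let Δ : B ⟶ fibreProd μ μ hμ.1 := fp_lift hP (𝟙 B) (𝟙 B) rfl
      have hΔ₁ : Δ ≫ fibreProdFst μ μ hμ.1 = 𝟙 B := fp_lift_fst hP _ _ rfl
      have hΔ₂ : Δ ≫ fibreProdSnd μ μ hμ.1 = 𝟙 B := fp_lift_snd hP _ _ rfl
      have hΔq : Δ ≫ q = toBase B ≫ baseToDual := by
        rw [hdiag Δ (hΔ₁.trans hΔ₂.symm), ← Category.assoc, hΔ₁, Category.id_comp]
      -- (1)
      have h1 : F.map μ y₁ = F.map μ y₂ := by
        apply hA
        rw [NatTrans.naturality_apply φ μ, NatTrans.naturality_apply φ μ, hy]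
      -- (2)
      obtain ⟨z, hz⟩ := (hF _ _ _ _ hP hμ.1).2 ⟨(y₁, y₂), h1⟩
      have hz₁ : F.map (fibreProdFst μ μ hμ.1) z = y₁ := congrArg (fun t => t.1.1) hz
      have hz₂ : F.map (fibreProdSnd μ μ hμ.1) z = y₂ := congrArg (fun t => t.1.2) hz
      let z' := F.map Δ y₁
      have hz'₁ : F.map (fibreProdFst μ μ hμ.1) z' = y₁ := by
        show F.map _ (F.map Δ y₁) = y₁
        rw [← Functor.map_comp_apply, hΔ₁, Functor.map_id_apply]
      have hz'₂ : F.map (fibreProdSnd μ μ hμ.1) z' = y₁ := by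
        show F.map _ (F.map Δ y₁) = y₁
        rw [← Functor.map_comp_apply, hΔ₂, Functor.map_id_apply]
      -- (3) φ z = φ z'
      have h3 : φ.app _ z = φ.app _ z' := by
        apply (hG _ _ _ _ hP hμ.1).1
        apply FibProd.ext
        · show G.map _ (φ.app _ z) = G.map _ (φ.app _ z')
          rw [← NatTrans.naturality_apply φ, ← NatTrans.naturality_apply φ, hz₁, hz'₁]
        · show G.map _ (φ.app _ z) = G.map _ (φ.app _ z')
          rw [← NatTrans.naturality_apply φ, ← NatTrans.naturality_apply φ, hz₂, hz'₂, hy]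
      -- (4)
      have h4 : F.map q z = F.map q z' := by
        apply hd.1
        show φ.app _ (F.map q z) = φ.app _ (F.map q z')
        rw [NatTrans.naturality_apply φ q, NatTrans.naturality_apply φ q, h3]
      -- (5)
      have hsurj : Function.Surjective (toBase (dual Λ k)) := (dual Λ k).res_surjective
      have h5 : z = z' := by
        apply (hF _ _ _ _ hq hsurj).1
        apply FibProd.ext
        · show F.map _ z = F.map _ z'
          rw [hz₁, hz'₁]
        · exact h4
      rw [← hz₂, h5, hz'₂]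
    · intro A B C p q hp hq hA
      exact hp (hq hA)
  · -- surjectivity
    intro y
    obtain ⟨x₀⟩ := hF0.1
    have h0 : Function.Surjective (φ.app (base Λ k)) := fun g => ⟨x₀, hG0.2.elim _ _⟩
    obtain ⟨x0, hx0⟩ := h0 (G.map (toBase A) y)
    obtain ⟨z, hz⟩ := hφ (toBase A) A.res_surjective ⟨(x0, y), hx0⟩
    exact ⟨z, congrArg (fun t => t.1.2) hz⟩

/-- Let F, G be deformation functors on Artinian local Λ-algebras with residue field k (value at k a
point, and condition (RS): the comparison map for A₁ ×_A A₂ is bijective whenever A₂ → A is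
surjective). A smooth morphism φ : F → G inducing a bijection on tangent spaces is an isomorphism:
every φ_A is bijective. -/
theorem result {Λ : Type u} {k : Type u} [CommRing Λ] [Field k] [Algebra Λ k]
    [IsNoetherianRing Λ] [Module.Finite Λ k]
    {F G : ArtFun.Art Λ k ⥤ Type v}
    (hF0 : ArtFun.H0 F) (hF : (∀ ⦃B A A' A'' : ArtFun.Art Λ k⦄ (p' : B ⟶ A') (p'' : B ⟶ A'') (f' : A' ⟶ A) (f'' : A'' ⟶ A)
        (h : ArtFun.Art.IsFibreProd p' p'' f' f''), Function.Surjective f'' → Function.Bijective (ArtFun.cmp F h)))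
    (hG0 : ArtFun.H0 G) (hG : (∀ ⦃B A A' A'' : ArtFun.Art Λ k⦄ (p' : B ⟶ A') (p'' : B ⟶ A'') (f' : A' ⟶ A) (f'' : A'' ⟶ A)
        (h : ArtFun.Art.IsFibreProd p' p'' f' f''), Function.Surjective f'' → Function.Bijective (ArtFun.cmp G h)))
    (φ : F ⟶ G) (hφ : ArtFun.IsSmooth φ) (hd : Function.Bijective (ArtFun.TangentSpace.map φ))
    (A : ArtFun.Art Λ k) : Function.Bijective (φ.app A) := result' hF0 hF hG0 hG φ hφ hd A

end Groth.Agent.S12733
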