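import Groth.Statements.S12735
import Groth.Agent.S12716
import Groth.Agent.Lib.Helper94.ArtFun
import Groth.Agent.Lib.Helper76.SchlDer
import Groth.Agent.Lib.Helper76.SchlCut
-- import your own Groth.Agent.* helpers here

set_option autoImplicit false
universe u v
open CategoryTheory
open ArtFun

namespace Groth.Agent.S12735

/-- a surjective endomorphism of a Noetherian ring is injective -/
theorem injective_of_surjective_ringEnd {R : Type*} [CommRing R] [IsNoetherianRing R]
    (f : R →+* R) (hf : Function.Surjective f) : Function.Injective f := by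
  let c : ℕ →o Ideal R := ⟨fun n => RingHom.ker (f ^ n), by
    intro m n hmn x hx
    rw [RingHom.mem_ker] at hx ⊢
    obtain ⟨d, rfl⟩ := Nat.exists_eq_add_of_le hmn
    rw [add_comm, pow_add, RingHom.mul_def, RingHom.comp_apply, hx, map_zero]⟩
  obtain ⟨n, hn⟩ := monotone_stabilizes_iff_noetherian.2 (inferInstance : IsNoetherian R R) c
  rw [injective_iff_map_eq_zero]
  intro x hx
  have hsurj : Function.Surjective (f ^ n) := by
    rw [RingHom.coe_pow]
    exact hf.iterate n
  obtain ⟨y, rfl⟩ := hsurj x
  have h1 : y ∈ c (n + 1) := by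
    show y ∈ RingHom.ker (f ^ (n + 1))
    rw [RingHom.mem_ker, pow_succ', RingHom.mul_def, RingHom.comp_apply]
    exact hx
  rw [← hn (n + 1) (Nat.le_succ n)] at h1
  exact h1

open Groth.Agent.Lib.Helper76 Groth.Agent.Lib.Helper94 ArtFun.Art in
attribute [local instance] cringAlgebra cringTower in
theorem aux {Λ : Type u} {k : Type u} [CommRing Λ] [Field k] [Algebra Λ k]
    [IsNoetherianRing Λ] [Module.Finite Λ k]
    {U : ArtFun.Art Λ k ⥤ Type v} (hU : ArtFun.IsProrepresentable U)
    (φ : U ⟶ U) (hd : Function.Bijective (ArtFun.TangentSpace.map φ)) (A : ArtFun.Art Λ k) :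
    Function.Bijective (φ.app A) := by
  obtain ⟨⟨R, ξ, hξ⟩⟩ := hU
  -- the maps to the truncations
  choose φn hφn using fun n => (hξ (R.trunc n)).2 (φ.app _ (ξ.app _ (R.truncHom n)))
  have hcompat : ∀ n, HomSet.map (R.truncMap n) (φn (n + 1)) = φn n := by
    intro n
    apply (hξ _).1
    rw [ξ.natural, hφn, hφn, ← CRing.truncMap_truncHom R n, ξ.natural]
    exact (NatTrans.naturality_apply φ (R.truncMap n) _).symm
  obtain ⟨u, hu, hun⟩ := exists_glue R φn hcompat
  have key : ∀ (B : Art Λ k) (ψ : HomSet R.carrier R.res B),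
      ξ.app B ⟨ψ.1.comp u, by rw [← AlgHom.comp_assoc, ψ.2, hu]⟩ = φ.app B (ξ.app B ψ) := by
    intro B ψ
    obtain ⟨n, ψbar, hψ⟩ := exists_factorTrunc R ψ
    have e1 : (⟨ψ.1.comp u, by rw [← AlgHom.comp_assoc, ψ.2, hu]⟩ : HomSet R.carrier R.res B) =
        HomSet.map ψbar (φn n) := by
      apply Subtype.ext
      show ψ.1.comp u = ψbar.toAlgHom.comp (φn n).1
      rw [← hun n, ← AlgHom.comp_assoc]
      congr 1
      exact (congrArg Subtype.val hψ).symm
    rw [e1, ξ.natural, hφn, ← hψ, ξ.natural]
    exact (NatTrans.naturality_apply φ ψbar _).symm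
  -- `u` is surjective
  have husurj : Function.Surjective u := by
    have := R.isAdicComplete
    refine Groth.Agent.S12716.result R R.carrier R.res_surjective u ?_ ?_
    · apply AlgHom.ext
      intro r
      exact AlgHom.congr_fun hu r
    · intro D₁ D₂ h
      have hres := cring_hres R
      have e : (homSetOfDer hres D₁ : HomSet R.carrier R.res (dual Λ k)) = homSetOfDer hres D₂ := by
        apply (hξ _).1
        apply hd.1
        show φ.app _ (ξ.app _ _) = φ.app _ (ξ.app _ _)
        rw [← key, ← key]
        congr 1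
        apply Subtype.ext
        apply AlgHom.ext
        intro r
        apply TrivSqZeroExt.ext
        · rfl
        · exact h r
      rw [← derOf_homSetOfDer hres D₁, e, derOf_homSetOfDer]
  have huinj : Function.Injective u :=
    injective_of_surjective_ringEnd u.toRingHom husurj
  let e : R.carrier ≃ₐ[Λ] R.carrier := AlgEquiv.ofBijective u ⟨huinj, husurj⟩
  have he : ∀ r, e r = u r := fun _ => rfl
  have hesymm : R.res.comp (e.symm : R.carrier →ₐ[Λ] R.carrier) = R.res := by
    apply AlgHom.ext
    intro r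
    obtain ⟨s, rfl⟩ := e.surjective r
    show R.res (e.symm (e s)) = R.res (e s)
    rw [e.symm_apply_apply, he]
    exact (AlgHom.congr_fun hu s).symm
  constructor
  · intro x y hxy
    obtain ⟨ψx, rfl⟩ := (hξ A).2 x
    obtain ⟨ψy, rfl⟩ := (hξ A).2 y
    rw [← key, ← key] at hxy
    have h1 := (hξ A).1 hxy
    have h2 : ψx.1.comp u = ψy.1.comp u := congrArg Subtype.val h1
    congr 1
    apply Subtype.ext
    apply AlgHom.ext
    intro r
    obtain ⟨s, rfl⟩ := husurj r
    exact AlgHom.congr_fun h2 s
  · intro y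
    obtain ⟨ψy, rfl⟩ := (hξ A).2 y
    refine ⟨ξ.app A ⟨ψy.1.comp (e.symm : R.carrier →ₐ[Λ] R.carrier), by
      rw [← AlgHom.comp_assoc, ψy.2, hesymm]⟩, ?_⟩
    rw [← key]
    congr 1
    apply Subtype.ext
    apply AlgHom.ext
    intro r
    show ψy.1 (e.symm (u r)) = ψy.1 r
    rw [← he, e.symm_apply_apply]

/-- Let U be a prorepresentable functor on Artinian local Λ-algebras with residue field k and φ : U → U
an endomorphism of functors which is bijective on the tangent space U(k[ε]). Then φ is an
isomorphism: every component is bijective. -/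
theorem result {Λ : Type u} {k : Type u} [CommRing Λ] [Field k] [Algebra Λ k]
    [IsNoetherianRing Λ] [Module.Finite Λ k]
    {U : ArtFun.Art Λ k ⥤ Type v} (hU : ArtFun.IsProrepresentable U)
    (φ : U ⟶ U) (hd : Function.Bijective (ArtFun.TangentSpace.map φ)) (A : ArtFun.Art Λ k) :
    Function.Bijective (φ.app A) := aux hU φ hd A

end Groth.Agent.S12735
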