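import Groth.Statements.S12738
import Groth.Agent.Lib.Helper76.ArtFibre
import Groth.Agent.Lib.Helper98.ArtFun

set_option autoImplicit false
universe u v
open CategoryTheory
open ArtFun

namespace Groth.Agent.S12738

open Groth.Agent.Lib.Helper76 Groth.Agent.Lib.Helper98.ArtFunLib ArtFun.Art

variable {Λ : Type u} {k : Type u} [CommRing Λ] [Field k] [Algebra Λ k]

def PP (F : ArtFun.Art Λ k ⥤ Type v) ⦃A A'' : ArtFun.Art Λ k⦄ (f'' : A'' ⟶ A) : Prop :=
  Function.Surjective f'' ∧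
    ∀ ⦃B A' : ArtFun.Art Λ k⦄ (p' : B ⟶ A') (p'' : B ⟶ A'') (f' : A' ⟶ A)
      (h : ArtFun.Art.IsFibreProd p' p'' f' f''), Function.Bijective (ArtFun.cmp F h)

lemma PP_iso (F : ArtFun.Art Λ k ⥤ Type v) ⦃A A'' : ArtFun.Art Λ k⦄ (e : A'' ⟶ A) (he : IsIso e) :
    PP F e := by
  have hbij := bijective_of_isIso e
  refine ⟨hbij.2, ?_⟩
  intro B A' p' p'' f' h
  have hp' : Function.Bijective p' := by
    refine ⟨?_, fp_fst_surjective h hbij.2⟩
    intro b₁ b₂ hb
    apply h.inj _ _ hb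
    apply hbij.1
    rw [← h.w_apply, ← h.w_apply, hb]
  have := isIso_of_bijective p' hp'
  have hFe : Function.Injective (F.map e) := by
    intro x y hxy
    have := congrArg (F.map (inv e)) hxy
    rwa [map_comp_apply, map_comp_apply, IsIso.hom_inv_id, map_id_apply, map_id_apply] at this
  constructor
  · intro z z' hz
    have h1 : F.map p' z = F.map p' z' := congrArg (fun t => t.1.1) hz
    have := congrArg (F.map (inv p')) h1
    rwa [map_comp_apply, map_comp_apply, IsIso.hom_inv_id, map_id_apply, map_id_apply] at this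
  · rintro ⟨⟨a', a''⟩, ha⟩
    have ha' : F.map f' a' = F.map e a'' := ha
    have e1 : F.map p' (F.map (inv p') a') = a' := by
      rw [map_comp_apply, IsIso.inv_hom_id, map_id_apply]
    refine ⟨F.map (inv p') a', FibProd.ext e1 ?_⟩
    change F.map p'' (F.map (inv p') a') = a''
    apply hFe
    rw [map_comp_apply, ← h.w, ← map_comp_apply, e1, ha']

lemma PP_comp [IsNoetherianRing Λ] [Module.Finite Λ k]
    (F : ArtFun.Art Λ k ⥤ Type v) ⦃A B₀ C : ArtFun.Art Λ k⦄ (p : C ⟶ B₀) (q : B₀ ⟶ A)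
    (hp : PP F p) (hq : PP F q) : PP F (p ≫ q) := by
  refine ⟨fun a => ?_, ?_⟩
  · obtain ⟨b, rfl⟩ := hq.1 a
    obtain ⟨c, rfl⟩ := hp.1 b
    exact ⟨c, rfl⟩
  intro B A' p' p'' f' h
  let s' := fibreProdFst f' q hq.1
  let s'' := fibreProdSnd f' q hq.1
  have h₁ : IsFibreProd s' s'' f' q := isFibreProd_fibreProd f' q hq.1
  have hcompat : p' ≫ f' = (p'' ≫ p) ≫ q := by rw [h.w, Category.assoc]
  let t := fp_lift h₁ p' (p'' ≫ p) hcompat
  have ht' : t ≫ s' = p' := fp_lift_fst h₁ _ _ hcompat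
  have ht'' : t ≫ s'' = p'' ≫ p := fp_lift_snd h₁ _ _ hcompat
  have h₂ : IsFibreProd t p'' s'' p := fp_paste h p q rfl h₁ t ht' ht''
  have b₁ := hq.2 s' s'' f' h₁
  have b₂ := hp.2 t p'' s'' h₂
  constructor
  · intro z z' hz
    have h1 : F.map p' z = F.map p' z' := congrArg (fun t => t.1.1) hz
    have h2 : F.map p'' z = F.map p'' z' := congrArg (fun t => t.1.2) hz
    apply cmp_inj h₂ b₂.1 _ _ _ h2
    apply cmp_inj h₁ b₁.1
    · rw [map_comp_apply, map_comp_apply, ht', h1]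
    · rw [map_comp_apply, map_comp_apply, ht'', ← map_comp_apply, ← map_comp_apply, h2]
  · rintro ⟨⟨a', c⟩, hac⟩
    have hac' : F.map f' a' = F.map (p ≫ q) c := hac
    obtain ⟨x₁, hx₁, hx₂⟩ := cmp_surj h₁ b₁.2 a' (F.map p c) (by rw [map_comp_apply, hac'])
    obtain ⟨z, hz₁, hz₂⟩ := cmp_surj h₂ b₂.2 x₁ c hx₂
    refine ⟨z, FibProd.ext ?_ hz₂⟩
    change F.map p' z = a'
    rw [← ht', ← map_comp_apply, hz₁, hx₁]


/-- For functors, condition (RS) on a functor F on Artinian local Λ-algebras with residue field k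
(bijectivity of F(A₁ ×_A A₂) → F(A₁) ×_{F(A)} F(A₂) for A₂ → A surjective) follows from the same
condition for small extensions A₂ → A. -/
theorem result {Λ : Type u} {k : Type u} [CommRing Λ] [Field k] [Algebra Λ k]
    [IsNoetherianRing Λ] [Module.Finite Λ k]
    (F : ArtFun.Art Λ k ⥤ Type v)
    (h : ∀ ⦃B A A' A'' : ArtFun.Art Λ k⦄ (p' : B ⟶ A') (p'' : B ⟶ A'') (f' : A' ⟶ A) (f'' : A'' ⟶ A)
        (h : ArtFun.Art.IsFibreProd p' p'' f' f''), ArtFun.Art.IsSmallExt f'' → Function.Bijective (ArtFun.cmp F h)) :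
    (∀ ⦃B A A' A'' : ArtFun.Art Λ k⦄ (p' : B ⟶ A') (p'' : B ⟶ A'') (f' : A' ⟶ A) (f'' : A'' ⟶ A)
        (h : ArtFun.Art.IsFibreProd p' p'' f' f''), Function.Surjective f'' → Function.Bijective (ArtFun.cmp F h)) := by
  intro B A A' A'' p' p'' f' f'' hfp hs
  have key := surjective_induction (fun A B f => PP F f) (fun A B e he => PP_iso F e he)
    (fun A B p hp => ⟨hp.1, fun B' A' p' p'' f' h' => h p' p'' f' p h' hp⟩)
    (fun A B C p q hp hq => PP_comp F p q hp hq) f'' hs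
  exact key.2 p' p'' f' hfp

end Groth.Agent.S12738
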