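import Groth.Statements.S12740
import Groth.Agent.Lib.Helper76.CRingPushout
-- import your own Groth.Agent.* helpers here

set_option autoImplicit false
universe u v
open CategoryTheory
open ArtFun ArtFun.CRing

namespace Groth.Agent.S12740

open Groth.Agent.Lib.Helper76 TensorProduct in
theorem aux {Λ : Type u} {k : Type u} [CommRing Λ] [Field k] [Algebra Λ k]
    [IsNoetherianRing Λ] [Module.Finite Λ k]
    (R S₁ S₂ : ArtFun.CRing Λ k)
    (f₁ : R.carrier →ₐ[Λ] S₁.carrier) (hf₁ : S₁.res.comp f₁ = R.res)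
    (f₂ : R.carrier →ₐ[Λ] S₂.carrier) (hf₂ : S₂.res.comp f₂ = R.res) :
    ∃ (P : ArtFun.CRing Λ k) (i₁ : S₁.carrier →ₐ[Λ] P.carrier) (i₂ : S₂.carrier →ₐ[Λ] P.carrier),
      P.res.comp i₁ = S₁.res ∧ P.res.comp i₂ = S₂.res ∧ i₁.comp f₁ = i₂.comp f₂ ∧
      ∀ (T : ArtFun.CRing Λ k) (g₁ : S₁.carrier →ₐ[Λ] T.carrier) (g₂ : S₂.carrier →ₐ[Λ] T.carrier),
        T.res.comp g₁ = S₁.res → T.res.comp g₂ = S₂.res → g₁.comp f₁ = g₂.comp f₂ →
          ∃! h : P.carrier →ₐ[Λ] T.carrier, T.res.comp h = P.res ∧ h.comp i₁ = g₁ ∧ h.comp i₂ = g₂ := by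
  let I : Ideal (S₁.carrier ⊗[Λ] S₂.carrier) :=
    Ideal.span (Set.range fun r : R.carrier => (f₁ r ⊗ₜ[Λ] (1 : S₂.carrier) - (1 : S₁.carrier) ⊗ₜ[Λ] f₂ r))
  -- a map out of the tensor product kills `I` iff the two composites agree
  have hkill : ∀ {T : Type u} [CommRing T] [Algebra Λ T] (g₁ : S₁.carrier →ₐ[Λ] T) (g₂ : S₂.carrier →ₐ[Λ] T),
      (∀ x ∈ I, Algebra.TensorProduct.productMap g₁ g₂ x = 0) ↔ g₁.comp f₁ = g₂.comp f₂ := by
    intro T _ _ g₁ g₂
    constructor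
    · intro h
      apply AlgHom.ext
      intro r
      have := h _ (Ideal.subset_span ⟨r, rfl⟩)
      rw [map_sub, Algebra.TensorProduct.productMap_left_apply,
        Algebra.TensorProduct.productMap_right_apply, sub_eq_zero] at this
      exact this
    · intro h x hx
      have hle : I ≤ RingHom.ker (Algebra.TensorProduct.productMap g₁ g₂) := by
        rw [Ideal.span_le]
        rintro _ ⟨r, rfl⟩
        rw [SetLike.mem_coe, RingHom.mem_ker, map_sub, Algebra.TensorProduct.productMap_left_apply,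
          Algebra.TensorProduct.productMap_right_apply, sub_eq_zero]
        exact AlgHom.congr_fun h r
      exact hle hx
  have hI : I ≤ RingHom.ker (tensorRes S₁ S₂) := by
    intro x hx
    exact (hkill S₁.res S₂.res).2 (hf₁.trans hf₂.symm) x hx
  obtain ⟨P, i₁, i₂, h1, h2, h3, hUP⟩ := exists_pushout S₁ S₂ I hI
  refine ⟨P, i₁, i₂, h1, h2, (hkill i₁ i₂).1 h3, ?_⟩
  intro T g₁ g₂ hg₁ hg₂ hg
  exact hUP T g₁ g₂ hg₁ hg₂ ((hkill g₁ g₂).2 hg)

/-- The category of complete local Noetherian Λ-algebras with residue field k (Λ Noetherian, Λ → k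
finite; morphisms the Λ-algebra maps compatible with the augmentations) admits pushouts: for R → S₁
and R → S₂ there is an object P with morphisms from S₁ and S₂ agreeing on R, through which every
compatible pair S₁ → T ← S₂ agreeing on R factors by a unique morphism P → T. -/
theorem result {Λ : Type u} {k : Type u} [CommRing Λ] [Field k] [Algebra Λ k]
    [IsNoetherianRing Λ] [Module.Finite Λ k]
    (R S₁ S₂ : ArtFun.CRing Λ k)
    (f₁ : R.carrier →ₐ[Λ] S₁.carrier) (hf₁ : S₁.res.comp f₁ = R.res)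
    (f₂ : R.carrier →ₐ[Λ] S₂.carrier) (hf₂ : S₂.res.comp f₂ = R.res) :
    ∃ (P : ArtFun.CRing Λ k) (i₁ : S₁.carrier →ₐ[Λ] P.carrier) (i₂ : S₂.carrier →ₐ[Λ] P.carrier),
      P.res.comp i₁ = S₁.res ∧ P.res.comp i₂ = S₂.res ∧ i₁.comp f₁ = i₂.comp f₂ ∧
      ∀ (T : ArtFun.CRing Λ k) (g₁ : S₁.carrier →ₐ[Λ] T.carrier) (g₂ : S₂.carrier →ₐ[Λ] T.carrier),
        T.res.comp g₁ = S₁.res → T.res.comp g₂ = S₂.res → g₁.comp f₁ = g₂.comp f₂ →
          ∃! h : P.carrier →ₐ[Λ] T.carrier, T.res.comp h = P.res ∧ h.comp i₁ = g₁ ∧ h.comp i₂ = g₂ := aux R S₁ S₂ f₁ hf₁ f₂ hf₂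

end Groth.Agent.S12740
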