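import Groth.Statements.S12744


set_option autoImplicit false
universe u v
open CategoryTheory
open ArtFun

namespace Groth.Agent.S12744

variable {Λ : Type u} {k : Type u} [CommRing Λ] [Field k] [Algebra Λ k]

lemma truncMap_surjective (R : ArtFun.CRing Λ k) (n : ℕ) : Function.Surjective (R.truncMap n) := by
  intro x
  obtain ⟨a, rfl⟩ := Ideal.Quotient.mk_surjective x
  exact ⟨Ideal.Quotient.mk _ a, rfl⟩

lemma toBase_surjective (A : ArtFun.Art Λ k) : Function.Surjective (ArtFun.Art.toBase A) :=
  A.res_surjective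

section
variable {F G : ArtFun.Art Λ k ⥤ Type v} (η : F ⟶ G) (hη : ArtFun.IsSmooth η)
  (h0 : Function.Surjective (η.app (ArtFun.Art.base Λ k))) (R : ArtFun.CRing Λ k)
  (w : ArtFun.FormalElt G R)

include hη h0 in
lemma step0 : ∃ x : F.obj (R.trunc 0), η.app _ x = w.elt 0 := by
  obtain ⟨x, hx⟩ := h0 (G.map (ArtFun.Art.toBase (R.trunc 0)) (w.elt 0))
  obtain ⟨z, hz⟩ := hη (ArtFun.Art.toBase (R.trunc 0)) (toBase_surjective _) ⟨(x, w.elt 0), hx⟩
  exact ⟨z, congrArg (fun t => t.1.2) hz⟩

include hη in
lemma stepS (n : ℕ) (x : F.obj (R.trunc n)) (hx : η.app _ x = w.elt n) :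
    ∃ x' : F.obj (R.trunc (n + 1)), F.map (R.truncMap n) x' = x ∧ η.app _ x' = w.elt (n + 1) := by
  obtain ⟨z, hz⟩ := hη (R.truncMap n) (truncMap_surjective R n)
    ⟨(x, w.elt (n + 1)), by rw [hx, w.compat]⟩
  exact ⟨z, congrArg (fun t => t.1.1) hz, congrArg (fun t => t.1.2) hz⟩

noncomputable def seq : ∀ n : ℕ, {x : F.obj (R.trunc n) // η.app _ x = w.elt n}
  | 0 => ⟨Classical.choose (step0 η hη h0 R w), Classical.choose_spec (step0 η hη h0 R w)⟩
  | n + 1 => ⟨Classical.choose (stepS η hη R w n (seq n).1 (seq n).2),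
      (Classical.choose_spec (stepS η hη R w n (seq n).1 (seq n).2)).2⟩

lemma seq_compat (n : ℕ) :
    F.map (R.truncMap n) (seq η hη h0 R w (n + 1)).1 = (seq η hη h0 R w n).1 :=
  (Classical.choose_spec (stepS η hη R w n (seq η hη h0 R w n).1 (seq η hη h0 R w n).2)).1

end


/-- For functors, if η : F → G is a smooth morphism of functors on Artinian local Λ-algebras with
residue field k and F(k) → G(k) is surjective, then for every complete local Noetherian R with
residue field k the induced map on formal elements over R (compatible systems of elements over the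
truncations R/m^(n+1)) is surjective. -/
theorem result {Λ : Type u} {k : Type u} [CommRing Λ] [Field k] [Algebra Λ k]
    [IsNoetherianRing Λ] [Module.Finite Λ k]
    {F G : ArtFun.Art Λ k ⥤ Type v} (η : F ⟶ G) (hη : ArtFun.IsSmooth η)
    (h0 : Function.Surjective (η.app (ArtFun.Art.base Λ k))) (R : ArtFun.CRing Λ k) :
    Function.Surjective (fun u : ArtFun.FormalElt F R => u.map η) := by
  intro w
  refine ⟨⟨fun n => (seq η hη h0 R w n).1, fun n => seq_compat η hη h0 R w n⟩, ?_⟩
  apply ArtFun.FormalElt.ext'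
  intro n
  exact (seq η hη h0 R w n).2

end Groth.Agent.S12744
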