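import Groth.Statements.S12746
import Mathlib.CategoryTheory.Limits.Types.Pullbacks
import Mathlib.CategoryTheory.Limits.FunctorCategory.Basic
import Mathlib.CategoryTheory.Limits.Shapes.Pullback.IsPullback.Basic

set_option autoImplicit false
universe u v
open CategoryTheory CategoryTheory.Limits
open ArtFun

namespace Groth.Agent.S12746

section
variable {C : Type*} [Category C] {F G H : C ⥤ Type v} (f : H ⟶ F) (g : G ⟶ F)

lemma pb_isPullback (A : C) :
    IsPullback ((pullback.fst f g).app A) ((pullback.snd f g).app A) (f.app A) (g.app A) :=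
  Functor.map_isPullback ((evaluation C (Type v)).obj A) (IsPullback.of_hasPullback f g)

lemma pb_ext (A : C) (z z' : (pullback f g).obj A)
    (h1 : (pullback.fst f g).app A z = (pullback.fst f g).app A z')
    (h2 : (pullback.snd f g).app A z = (pullback.snd f g).app A z') : z = z' :=
  Types.ext_of_isPullback (pb_isPullback f g A) h1 h2

lemma pb_exists (A : C) (h : H.obj A) (g' : G.obj A) (e : f.app A h = g.app A g') :
    ∃ z : (pullback f g).obj A, (pullback.fst f g).app A z = h ∧ (pullback.snd f g).app A z = g' :=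
  Types.exists_of_isPullback (pb_isPullback f g A) h g' e

lemma pb_w (A : C) (z : (pullback f g).obj A) :
    f.app A ((pullback.fst f g).app A z) = g.app A ((pullback.snd f g).app A z) := by
  have := congrArg (fun t => t.app A z) (pullback.condition (f := f) (g := g))
  exact this

end



/-- For functors, if F, G, H are functors on Artinian local Λ-algebras with residue field k satisfying
(RS) and f : H → F, g : G → F are morphisms, then the fibre product functor H ×_F G satisfies (RS). -/
theorem result {Λ : Type u} {k : Type u} [CommRing Λ] [Field k] [Algebra Λ k]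
    [IsNoetherianRing Λ] [Module.Finite Λ k]
    {F G H : ArtFun.Art Λ k ⥤ Type v} (f : H ⟶ F) (g : G ⟶ F)
    (hF : (∀ ⦃B A A' A'' : ArtFun.Art Λ k⦄ (p' : B ⟶ A') (p'' : B ⟶ A'') (f' : A' ⟶ A) (f'' : A'' ⟶ A)
        (h : ArtFun.Art.IsFibreProd p' p'' f' f''), Function.Surjective f'' → Function.Bijective (ArtFun.cmp F h))) (hG : (∀ ⦃B A A' A'' : ArtFun.Art Λ k⦄ (p' : B ⟶ A') (p'' : B ⟶ A'') (f' : A' ⟶ A) (f'' : A'' ⟶ A)
        (h : ArtFun.Art.IsFibreProd p' p'' f' f''), Function.Surjective f'' → Function.Bijective (ArtFun.cmp G h))) (hH : (∀ ⦃B A A' A'' : ArtFun.Art Λ k⦄ (p' : B ⟶ A') (p'' : B ⟶ A'') (f' : A' ⟶ A) (f'' : A'' ⟶ A)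
        (h : ArtFun.Art.IsFibreProd p' p'' f' f''), Function.Surjective f'' → Function.Bijective (ArtFun.cmp H h))) :
    (∀ ⦃B A A' A'' : ArtFun.Art Λ k⦄ (p' : B ⟶ A') (p'' : B ⟶ A'') (f' : A' ⟶ A) (f'' : A'' ⟶ A)
        (h : ArtFun.Art.IsFibreProd p' p'' f' f''), Function.Surjective f'' → Function.Bijective (ArtFun.cmp (CategoryTheory.Limits.pullback f g) h)) := by
  intro B A A' A'' p' p'' f' f'' h hs
  have cmp_inj : ∀ (K : ArtFun.Art Λ k ⥤ Type v), Function.Bijective (ArtFun.cmp K h) →
      ∀ a b : K.obj B, K.map p' a = K.map p' b → K.map p'' a = K.map p'' b → a = b := by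
    intro K hK a b h1 h2
    exact hK.1 (FibProd.ext h1 h2)
  have cmp_surj : ∀ (K : ArtFun.Art Λ k ⥤ Type v), Function.Bijective (ArtFun.cmp K h) →
      ∀ (a' : K.obj A') (a'' : K.obj A''), K.map f' a' = K.map f'' a'' →
        ∃ a : K.obj B, K.map p' a = a' ∧ K.map p'' a = a'' := by
    intro K hK a' a'' e
    obtain ⟨a, ha⟩ := hK.2 ⟨(a', a''), e⟩
    exact ⟨a, congrArg (fun t => t.1.1) ha, congrArg (fun t => t.1.2) ha⟩
  set P := pullback f g
  set π₁ := pullback.fst f g
  set π₂ := pullback.snd f g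
  constructor
  · intro z z' hz
    have h1 : P.map p' z = P.map p' z' := congrArg (fun t => t.1.1) hz
    have h2 : P.map p'' z = P.map p'' z' := congrArg (fun t => t.1.2) hz
    apply pb_ext f g B
    · apply cmp_inj H (hH p' p'' f' f'' h hs)
      · rw [← NatTrans.naturality_apply π₁ p' z, ← NatTrans.naturality_apply π₁ p' z', h1]
      · rw [← NatTrans.naturality_apply π₁ p'' z, ← NatTrans.naturality_apply π₁ p'' z', h2]
    · apply cmp_inj G (hG p' p'' f' f'' h hs)
      · rw [← NatTrans.naturality_apply π₂ p' z, ← NatTrans.naturality_apply π₂ p' z', h1]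
      · rw [← NatTrans.naturality_apply π₂ p'' z, ← NatTrans.naturality_apply π₂ p'' z', h2]
  · rintro ⟨⟨z', z''⟩, hz⟩
    have hz' : P.map f' z' = P.map f'' z'' := hz
    obtain ⟨hh, hh1, hh2⟩ := cmp_surj H (hH p' p'' f' f'' h hs) (π₁.app A' z') (π₁.app A'' z'') (by
      rw [← NatTrans.naturality_apply π₁ f' z', ← NatTrans.naturality_apply π₁ f'' z'', hz'])
    obtain ⟨gg, gg1, gg2⟩ := cmp_surj G (hG p' p'' f' f'' h hs) (π₂.app A' z') (π₂.app A'' z'') (by
      rw [← NatTrans.naturality_apply π₂ f' z', ← NatTrans.naturality_apply π₂ f'' z'', hz'])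
    have e : f.app B hh = g.app B gg := by
      apply cmp_inj F (hF p' p'' f' f'' h hs)
      · rw [← NatTrans.naturality_apply f p' hh, ← NatTrans.naturality_apply g p' gg, hh1, gg1]
        exact pb_w f g A' z'
      · rw [← NatTrans.naturality_apply f p'' hh, ← NatTrans.naturality_apply g p'' gg, hh2, gg2]
        exact pb_w f g A'' z''
    obtain ⟨z, hz1, hz2⟩ := pb_exists f g B hh gg e
    refine ⟨z, FibProd.ext ?_ ?_⟩
    · change P.map p' z = z'
      apply pb_ext f g A'
      · rw [NatTrans.naturality_apply (pullback.fst f g) p' z, hz1, hh1]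
      · rw [NatTrans.naturality_apply (pullback.snd f g) p' z, hz2, gg1]
    · change P.map p'' z = z''
      apply pb_ext f g A''
      · rw [NatTrans.naturality_apply (pullback.fst f g) p'' z, hz1, hh2]
      · rw [NatTrans.naturality_apply (pullback.snd f g) p'' z, hz2, gg2]

end Groth.Agent.S12746
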