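import Groth.Statements.S12747
import Groth.Agent.S12717
import Groth.Agent.S12746
import Groth.Agent.Lib.Helper98.ArtTorsor

set_option autoImplicit false
universe u v
open CategoryTheory ArtFun.Art
open ArtFun

namespace Groth.Agent.S12747

open Groth.Agent.Lib.Helper98.ArtTorsor CategoryTheory.Limits Groth.Agent.S12746


/-- For functors, let H₁ → G, H₂ → G and q : G → F be morphisms of functors on Artinian local Λ-algebras
with residue field k where F and G are deformation functors (value at k a point, condition (RS)) and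
q is injective on tangent spaces. Then the induced morphism H₁ ×_G H₂ → H₁ ×_F H₂ is smooth. (The
published statement also assumes that infinitesimal automorphisms of G map onto those of F; for
functors that condition is empty.) -/
theorem result {Λ : Type u} {k : Type u} [CommRing Λ] [Field k] [Algebra Λ k]
    [IsNoetherianRing Λ] [Module.Finite Λ k]
    {F G H₁ H₂ : ArtFun.Art Λ k ⥤ Type v} (p₁ : H₁ ⟶ G) (p₂ : H₂ ⟶ G) (q : G ⟶ F)
    (hF0 : ArtFun.H0 F) (hF : (∀ ⦃B A A' A'' : ArtFun.Art Λ k⦄ (p' : B ⟶ A') (p'' : B ⟶ A'') (f' : A' ⟶ A) (f'' : A'' ⟶ A)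
        (h : ArtFun.Art.IsFibreProd p' p'' f' f''), Function.Surjective f'' → Function.Bijective (ArtFun.cmp F h)))
    (hG0 : ArtFun.H0 G) (hG : (∀ ⦃B A A' A'' : ArtFun.Art Λ k⦄ (p' : B ⟶ A') (p'' : B ⟶ A'') (f' : A' ⟶ A) (f'' : A'' ⟶ A)
        (h : ArtFun.Art.IsFibreProd p' p'' f' f''), Function.Surjective f'' → Function.Bijective (ArtFun.cmp G h)))
    (hq : Function.Injective (ArtFun.TangentSpace.map q)) :
    ArtFun.IsSmooth (CategoryTheory.Limits.pullback.map p₁ p₂ (p₁ ≫ q) (p₂ ≫ q) (𝟙 H₁) (𝟙 H₂) q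
      (CategoryTheory.Category.id_comp _).symm (CategoryTheory.Category.id_comp _).symm) := by
  set Φ := CategoryTheory.Limits.pullback.map p₁ p₂ (p₁ ≫ q) (p₂ ≫ q) (𝟙 H₁) (𝟙 H₂) q
      (CategoryTheory.Category.id_comp _).symm (CategoryTheory.Category.id_comp _).symm with hΦ
  have hΦ1 : Φ ≫ pullback.fst (p₁ ≫ q) (p₂ ≫ q) = pullback.fst p₁ p₂ :=
    (pullback.lift_fst _ _ _).trans (Category.comp_id _)
  have hΦ2 : Φ ≫ pullback.snd (p₁ ≫ q) (p₂ ≫ q) = pullback.snd p₁ p₂ :=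
    (pullback.lift_snd _ _ _).trans (Category.comp_id _)
  have e1 : ∀ (A : ArtFun.Art Λ k) (z : (pullback p₁ p₂).obj A),
      (pullback.fst (p₁ ≫ q) (p₂ ≫ q)).app A (Φ.app A z) = (pullback.fst p₁ p₂).app A z :=
    fun A z => congrArg (fun t => t.app A z) hΦ1
  have e2 : ∀ (A : ArtFun.Art Λ k) (z : (pullback p₁ p₂).obj A),
      (pullback.snd (p₁ ≫ q) (p₂ ≫ q)).app A (Φ.app A z) = (pullback.snd p₁ p₂).app A z :=
    fun A z => congrArg (fun t => t.app A z) hΦ2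
  apply Groth.Agent.S12717.result' Φ
  intro A' A μ hμ
  rintro ⟨⟨a, b'⟩, hab⟩
  have hab' : Φ.app A a = (pullback (p₁ ≫ q) (p₂ ≫ q)).map μ b' := hab
  have f1 : H₁.map μ ((pullback.fst (p₁ ≫ q) (p₂ ≫ q)).app A' b') =
      (pullback.fst p₁ p₂).app A a := by
    rw [← e1 A a, hab']
    exact (NatTrans.naturality_apply (pullback.fst (p₁ ≫ q) (p₂ ≫ q)) μ b').symm
  have f2 : H₂.map μ ((pullback.snd (p₁ ≫ q) (p₂ ≫ q)).app A' b') =
      (pullback.snd p₁ p₂).app A a := by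
    rw [← e2 A a, hab']
    exact (NatTrans.naturality_apply (pullback.snd (p₁ ≫ q) (p₂ ≫ q)) μ b').symm
  have hq12 : q.app A' (p₁.app A' ((pullback.fst (p₁ ≫ q) (p₂ ≫ q)).app A' b')) =
      q.app A' (p₂.app A' ((pullback.snd (p₁ ≫ q) (p₂ ≫ q)).app A' b')) :=
    pb_w (p₁ ≫ q) (p₂ ≫ q) A' b'
  have hμ12 : G.map μ (p₁.app A' ((pullback.fst (p₁ ≫ q) (p₂ ≫ q)).app A' b')) =
      G.map μ (p₂.app A' ((pullback.snd (p₁ ≫ q) (p₂ ≫ q)).app A' b')) := by
    rw [← NatTrans.naturality_apply p₁ μ, ← NatTrans.naturality_apply p₂ μ, f1, f2]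
    exact pb_w p₁ p₂ A a
  have key := eq_of_tangent_injective hF hG q hq μ hμ _ _ hμ12 hq12
  obtain ⟨c, hc1, hc2⟩ := pb_exists p₁ p₂ A' _ _ key
  refine ⟨c, Subtype.ext (Prod.ext ?_ ?_)⟩
  · change (pullback p₁ p₂).map μ c = a
    apply pb_ext p₁ p₂ A
    · rw [NatTrans.naturality_apply (pullback.fst p₁ p₂) μ c, hc1, f1]
    · rw [NatTrans.naturality_apply (pullback.snd p₁ p₂) μ c, hc2, f2]
  · change Φ.app A' c = b'
    apply pb_ext (p₁ ≫ q) (p₂ ≫ q) A'
    · rw [e1, hc1]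
    · rw [e2, hc2]

end Groth.Agent.S12747
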