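import Groth.Statements.S12748
import Groth.Agent.Lib.Helper61.MvPSComplete
import Mathlib.RingTheory.AdicCompletion.Noetherian
import Mathlib.RingTheory.AdicCompletion.Functoriality
import Mathlib.RingTheory.Nakayama

set_option autoImplicit false
universe u v
open CategoryTheory
open ArtFun ArtFun.CRing

namespace Groth.Agent.S12748

/-- Let R' → R be a morphism of complete local Noetherian Λ-algebras with residue field k with an
R'-algebra retraction ρ : R → R', so that R = R' ⊕ I for the ideal I = ker ρ; let x₁, …, x_r ∈ I map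
to a basis of I/m_R I and let φ : R'[[X₁, …, X_r]] → R be an R'-algebra map sending X_i to x_i. If
for all large n the induced map R'[[X]]/m^n → R/m_R^n has a left inverse — a Λ-algebra map g_n : R →
R'[[X]]/m^n with g_n ∘ φ equal to the quotient map — then φ is an isomorphism. -/
theorem result {Λ : Type u} {k : Type u} [CommRing Λ] [Field k] [Algebra Λ k]
    [IsNoetherianRing Λ] [Module.Finite Λ k]
    (R' R : ArtFun.CRing Λ k) [Algebra R'.carrier R.carrier] [IsScalarTower Λ R'.carrier R.carrier]
    (hc : R.res.comp (IsScalarTower.toAlgHom Λ R'.carrier R.carrier) = R'.res)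
    (ρ : R.carrier →ₐ[R'.carrier] R'.carrier)
    (r : ℕ) (x : Fin r → R.carrier) (hxI : ∀ i, ρ (x i) = 0)
    (hspan : Ideal.span (Set.range x) ⊔ IsLocalRing.maximalIdeal R.carrier * RingHom.ker ρ = RingHom.ker ρ)
    (hli : ∀ c : Fin r → R.carrier, (∑ i, c i * x i) ∈ IsLocalRing.maximalIdeal R.carrier * RingHom.ker ρ →
      ∀ i, c i ∈ IsLocalRing.maximalIdeal R.carrier)
    (φ : MvPowerSeries (Fin r) R'.carrier →ₐ[R'.carrier] R.carrier) (hφ : ∀ i, φ (MvPowerSeries.X i) = x i)
    (hinv : ∃ N : ℕ, ∀ n, N ≤ n →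
      ∃ g : R.carrier →ₐ[Λ] (MvPowerSeries (Fin r) R'.carrier ⧸
          IsLocalRing.maximalIdeal (MvPowerSeries (Fin r) R'.carrier) ^ n),
        ∀ s, g (φ s) = Ideal.Quotient.mk _ s) :
    Function.Bijective φ := by
  classical
  have hker : RingHom.ker ρ ≤ Ideal.span (Set.range x) := by
    apply Submodule.le_of_le_smul_of_le_jacobson_bot
      (I := IsLocalRing.maximalIdeal R.carrier) (IsNoetherian.noetherian _)
      (IsLocalRing.maximalIdeal_le_jacobson _)
    rw [smul_eq_mul]
    exact hspan.ge
  have hx_le : Ideal.span (Set.range x) ≤ RingHom.ker ρ := by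
    rw [Ideal.span_le]
    rintro _ ⟨i, rfl⟩
    exact hxI i
  have hmap : (Ideal.span (Set.range (MvPowerSeries.X : Fin r → MvPowerSeries (Fin r) R'.carrier))).map
      φ.toRingHom = Ideal.span (Set.range x) := by
    rw [Ideal.map_span, ← Set.range_comp]
    congr 2
    ext i
    simp [hφ]
  constructor
  · obtain ⟨N, hN⟩ := hinv
    rw [injective_iff_map_eq_zero]
    intro s hs
    have h1 : ∀ n, s ∈ IsLocalRing.maximalIdeal (MvPowerSeries (Fin r) R'.carrier) ^ n := by
      intro n
      obtain ⟨g, hg⟩ := hN (max n N) (le_max_right _ _)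
      have h2 := hg s
      rw [hs, _root_.map_zero] at h2
      have h3 : s ∈ IsLocalRing.maximalIdeal (MvPowerSeries (Fin r) R'.carrier) ^ (max n N) :=
        Ideal.Quotient.eq_zero_iff_mem.mp h2.symm
      exact Ideal.pow_le_pow_right (le_max_left _ _) h3
    have h4 := Ideal.iInf_pow_eq_bot_of_isLocalRing
      (IsLocalRing.maximalIdeal (MvPowerSeries (Fin r) R'.carrier)) Ideal.IsPrime.ne_top'
    have h5 : s ∈ (⨅ i : ℕ, IsLocalRing.maximalIdeal (MvPowerSeries (Fin r) R'.carrier) ^ i) :=
      (Ideal.mem_iInf).mpr h1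
    rw [h4] at h5
    exact h5
  · have hne : Ideal.span (Set.range x) ≠ ⊤ := by
      intro h
      have h1 : (1 : R.carrier) ∈ RingHom.ker ρ := hx_le (h ▸ Submodule.mem_top)
      rw [RingHom.mem_ker, map_one] at h1
      exact one_ne_zero h1
    haveI : IsHausdorff ((Ideal.span (Set.range
        (MvPowerSeries.X : Fin r → MvPowerSeries (Fin r) R'.carrier))).map φ.toRingHom) R.carrier := by
      rw [hmap]
      exact IsHausdorff.of_isLocalRing _ _ hne
    have hsurj : Function.Surjective φ.toRingHom := by
      apply surjective_of_mk_map_comp_surjective (I := Ideal.span (Set.range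
        (MvPowerSeries.X : Fin r → MvPowerSeries (Fin r) R'.carrier)))
      intro y
      obtain ⟨z, rfl⟩ := Ideal.Quotient.mk_surjective y
      refine ⟨MvPowerSeries.C (ρ z), ?_⟩
      rw [RingHom.comp_apply]
      apply Ideal.Quotient.eq.mpr
      rw [hmap]
      apply hker
      rw [RingHom.mem_ker, map_sub]
      have h1 : (MvPowerSeries.C (ρ z) : MvPowerSeries (Fin r) R'.carrier) =
          algebraMap R'.carrier _ (ρ z) := rfl
      have h2 : φ.toRingHom (MvPowerSeries.C (ρ z)) = algebraMap R'.carrier R.carrier (ρ z) := by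
        rw [h1]
        exact φ.commutes _
      rw [h2, AlgHom.commutes]
      simp
    exact hsurj

end Groth.Agent.S12748
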