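import Groth.Statements.S12749
import Mathlib
import Groth.Agent.S12720
import Groth.Agent.S12758
import Groth.Agent.S12727

set_option autoImplicit false
universe u v
open CategoryTheory
open ArtFun

namespace Groth.Agent.S12749

open ArtFun ArtFun.Art in
/-- refined lifting: a versal family induces any formal element, with prescribed first order part -/
theorem lift_from_one {Λ : Type u} {k : Type u} [CommRing Λ] [Field k] [Algebra Λ k]
    {F : ArtFun.Art Λ k ⥤ Type v}
    (R : ArtFun.CRing Λ k) (ξ : ArtFun.Family R.carrier R.res F) (hξ : ArtFun.IsVersal ξ)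
    (S : ArtFun.CRing Λ k) (η : ArtFun.FormalElt F S)
    (φ₁ : HomSet R.carrier R.res (S.trunc 1)) (hφ₁ : ξ.app _ φ₁ = η.elt 1) :
    ∃ (g : R.carrier →ₐ[Λ] S.carrier) (hg : S.res.comp g = R.res),
      (ξ.along g hg).toFormalElt = η ∧ (S.truncHom 1).1.comp g = φ₁.1 := by
  classical
  have hstep : ∀ (n : ℕ) (φ : {φ : HomSet R.carrier R.res (S.trunc n) // ξ.app _ φ = η.elt n}),
      ∃ ψ : {ψ : HomSet R.carrier R.res (S.trunc (n + 1)) // ξ.app _ ψ = η.elt (n + 1)},
        HomSet.map (S.truncMap n) ψ.1 = φ.1 := by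
    intro n φ
    have hy : F.map (S.truncMap n) (η.elt (n + 1)) = ξ.app _ φ.1 := by
      rw [η.compat, φ.2]
    obtain ⟨ψ, hψ₁, hψ₂⟩ := hξ (S.truncMap n) (Groth.Agent.S12720.truncMap_surjective S n) φ.1
      (η.elt (n + 1)) hy
    exact ⟨⟨ψ, hψ₂⟩, hψ₁⟩
  let Φ : ∀ n, {φ : HomSet R.carrier R.res (S.trunc (n + 1)) // ξ.app _ φ = η.elt (n + 1)} :=
    fun n => Nat.rec ⟨φ₁, hφ₁⟩ (fun n φ => Classical.choose (hstep (n + 1) φ)) n
  have hΦ : ∀ n, HomSet.map (S.truncMap (n + 1)) (Φ (n + 1)).1 = (Φ n).1 :=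
    fun n => Classical.choose_spec (hstep (n + 1) (Φ n))
  let Ψ : ∀ n, HomSet R.carrier R.res (S.trunc n) := fun n =>
    match n with
    | 0 => HomSet.map (S.truncMap 0) (Φ 0).1
    | n + 1 => (Φ n).1
  have hΨ : ∀ n, HomSet.map (S.truncMap n) (Ψ (n + 1)) = Ψ n := by
    intro n
    cases n with
    | zero => rfl
    | succ n => exact hΦ n
  have hΨη : ∀ n, ξ.app _ (Ψ n) = η.elt n := by
    intro n
    cases n with
    | zero =>
      show ξ.app _ (HomSet.map (S.truncMap 0) (Φ 0).1) = η.elt 0
      rw [ξ.natural, (Φ 0).2, η.compat]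
    | succ n => exact (Φ n).2
  obtain ⟨g, hg, hglue⟩ := Groth.Agent.Lib.Helper94.exists_glue S Ψ hΨ
  refine ⟨g, hg, ?_, hglue 1⟩
  apply FormalElt.ext'
  intro n
  show ξ.app _ _ = η.elt n
  rw [← hΨη n]
  congr 1
  exact Subtype.ext (hglue n)


section DualAux

variable {Λ : Type u} {k : Type u} [CommRing Λ] [Field k] [Algebra Λ k]

open ArtFun ArtFun.Art

/-- second component of a dual number, as a function on the carrier of `Art.dual` -/
def sndD (e : (Art.dual Λ k).carrier) : k := TrivSqZeroExt.snd (R := k) (M := k) e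

/-- first component -/
def fstD (e : (Art.dual Λ k).carrier) : k := TrivSqZeroExt.fst (R := k) (M := k) e

theorem fstD_eq_res (e : (Art.dual Λ k).carrier) : fstD e = (Art.dual Λ k).res e := rfl

theorem sndD_add (e e' : (Art.dual Λ k).carrier) : sndD (e + e') = sndD e + sndD e' :=
  TrivSqZeroExt.snd_add (R := k) (M := k) e e'

theorem sndD_sub (e e' : (Art.dual Λ k).carrier) : sndD (e - e') = sndD e - sndD e' :=
  TrivSqZeroExt.snd_sub (R := k) (M := k) e e'

theorem sndD_zero : sndD (0 : (Art.dual Λ k).carrier) = 0 :=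
  TrivSqZeroExt.snd_zero (R := k) (M := k)

theorem sndD_one : sndD (1 : (Art.dual Λ k).carrier) = 0 :=
  TrivSqZeroExt.snd_one (R := k) (M := k)

theorem sndD_mul (e e' : (Art.dual Λ k).carrier) :
    sndD (e * e') = fstD e * sndD e' + fstD e' * sndD e := by
  have h := TrivSqZeroExt.snd_mul (R := k) (M := k) e e'
  rw [op_smul_eq_smul, smul_eq_mul, smul_eq_mul] at h
  exact h

theorem sndD_algebraMap (c : Λ) : sndD (algebraMap Λ (Art.dual Λ k).carrier c) = 0 := by
  change (algebraMap Λ (TrivSqZeroExt k k) c).snd = 0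
  rw [TrivSqZeroExt.algebraMap_eq_inl', TrivSqZeroExt.snd_inl]

theorem extD (e e' : (Art.dual Λ k).carrier) (h1 : fstD e = fstD e') (h2 : sndD e = sndD e') :
    e = e' :=
  TrivSqZeroExt.ext (R := k) (M := k) h1 h2

theorem mulD_eq_zero (e e' : (Art.dual Λ k).carrier) (h : fstD e = 0) (h' : fstD e' = 0) :
    e * e' = 0 := by
  apply extD
  · rw [fstD_eq_res, fstD_eq_res, map_mul, ← fstD_eq_res, ← fstD_eq_res, h, h', mul_zero, map_zero]
  · rw [sndD_mul, h, h', zero_mul, zero_mul, add_zero, sndD_zero]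

end DualAux

section Tangent

variable {Λ : Type u} {k : Type u} [CommRing Λ] [Field k] [Algebra Λ k]

open ArtFun ArtFun.Art

theorem fst_apply (R : ArtFun.CRing Λ k) (v : HomSet R.carrier R.res (Art.dual Λ k))
    (r : R.carrier) : fstD (v.1 r) = R.res r :=
  congrArg (fun t => t r) v.2

/-- the derivation-like function attached to a tangent vector -/
def dd (R : ArtFun.CRing Λ k) (v : HomSet R.carrier R.res (Art.dual Λ k)) (r : R.carrier) : k :=
  sndD (v.1 r)

theorem dd_add (R : ArtFun.CRing Λ k) (v : HomSet R.carrier R.res (Art.dual Λ k))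
    (r r' : R.carrier) : dd R v (r + r') = dd R v r + dd R v r' := by
  unfold dd
  rw [map_add, sndD_add]

theorem dd_sub (R : ArtFun.CRing Λ k) (v : HomSet R.carrier R.res (Art.dual Λ k))
    (r r' : R.carrier) : dd R v (r - r') = dd R v r - dd R v r' := by
  unfold dd
  rw [map_sub, sndD_sub]

theorem dd_mul (R : ArtFun.CRing Λ k) (v : HomSet R.carrier R.res (Art.dual Λ k))
    (r r' : R.carrier) : dd R v (r * r') = R.res r * dd R v r' + R.res r' * dd R v r := by
  unfold dd
  rw [map_mul, sndD_mul, fst_apply, fst_apply]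

theorem dd_algebraMap (R : ArtFun.CRing Λ k) (v : HomSet R.carrier R.res (Art.dual Λ k))
    (c : Λ) : dd R v (algebraMap Λ R.carrier c) = 0 := by
  unfold dd
  rw [AlgHom.commutes, sndD_algebraMap]

theorem exists_x (R : ArtFun.CRing Λ k) (hk : Subsingleton (Derivation Λ k k))
    (v₁ v₂ : HomSet R.carrier R.res (Art.dual Λ k)) (hne : v₁ ≠ v₂) :
    ∃ x : R.carrier, R.res x = 0 ∧ dd R v₁ x - dd R v₂ x = 1 := by
  classical
  by_cases h : ∀ x, R.res x = 0 → dd R v₁ x - dd R v₂ x = 0
  · exfalso
    apply hne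
    let s : k → R.carrier := Function.surjInv R.res_surjective
    have hs : ∀ c, R.res (s c) = c := Function.surjInv_eq R.res_surjective
    have key : ∀ r r', R.res r = R.res r' →
        dd R v₁ r - dd R v₂ r = dd R v₁ r' - dd R v₂ r' := by
      intro r r' hr
      have := h (r - r') (by rw [map_sub, hr, sub_self])
      rw [dd_sub, dd_sub] at this
      linear_combination this
    let L : k →ₗ[Λ] k :=
      { toFun := fun c => dd R v₁ (s c) - dd R v₂ (s c)
        map_add' := fun c c' => by
          rw [key (s (c + c')) (s c + s c') (by rw [map_add, hs, hs, hs]), dd_add, dd_add]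
          ring
        map_smul' := fun l c => by
          rw [key (s (l • c)) (algebraMap Λ R.carrier l * s c)
            (by rw [map_mul, hs, hs, AlgHom.commutes, Algebra.smul_def]), dd_mul, dd_mul,
            dd_algebraMap, dd_algebraMap, AlgHom.commutes, RingHom.id_apply, Algebra.smul_def]
          ring }
    let D' : Derivation Λ k k := Derivation.mk' L (fun a b => by
      show dd R v₁ (s (a * b)) - dd R v₂ (s (a * b)) =
        a • (dd R v₁ (s b) - dd R v₂ (s b)) + b • (dd R v₁ (s a) - dd R v₂ (s a))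
      rw [key (s (a * b)) (s a * s b) (by rw [map_mul, hs, hs, hs]), dd_mul, dd_mul, hs, hs,
        smul_eq_mul, smul_eq_mul]
      ring)
    have hD' : D' = 0 := Subsingleton.elim _ _
    have hzero : ∀ r, dd R v₁ r - dd R v₂ r = 0 := by
      intro r
      rw [key r (s (R.res r)) (hs _).symm]
      have := congrArg (fun D : Derivation Λ k k => D (R.res r)) hD'
      exact this
    apply Groth.Agent.Lib.Helper94.homSet_ext
    intro r
    apply extD
    · rw [fst_apply, fst_apply]
    · exact sub_eq_zero.mp (hzero r)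
  · push Not at h
    obtain ⟨x₀, hx₀, hδ⟩ := h
    obtain ⟨a, ha⟩ := R.res_surjective (dd R v₁ x₀ - dd R v₂ x₀)⁻¹
    refine ⟨a * x₀, by rw [map_mul, hx₀, mul_zero], ?_⟩
    rw [dd_mul, dd_mul, hx₀, ha]
    field_simp
    ring

end Tangent

section Sigma

variable {Λ : Type u} {k : Type u} [CommRing Λ] [Field k] [Algebra Λ k]

open ArtFun ArtFun.Art Groth.Agent.Lib.Helper94

theorem dual_fst_eq {B : Art Λ k} (p'' : B ⟶ Art.dual Λ k) (b : B.carrier) :
    fstD (p'' b) = B.res b := Art.res_app p'' b

/-- the twisted projection `A ×_k k[ε] → A`, `(a, e) ↦ a + τ (e.snd)` -/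
noncomputable def sigma {A B : Art Λ k} (p' : B ⟶ A) (p'' : B ⟶ Art.dual Λ k)
    (τ : k →+ A.carrier) (h1 : ∀ (a : A.carrier) (d : k), a * τ d = τ (A.res a * d))
    (h3 : ∀ d, A.res (τ d) = 0) : B ⟶ A :=
  Art.homMk
    { toFun := fun b => p' b + τ (sndD (p'' b))
      map_one' := by
        have e1 : p' (1 : B.carrier) = 1 := map_one p'.toAlgHom
        have e2 : p'' (1 : B.carrier) = 1 := map_one p''.toAlgHom
        rw [e1, e2, sndD_one, map_zero, add_zero]
      map_mul' := fun b b' => by
        have e1 : p' (b * b') = p' b * p' b' := map_mul p'.toAlgHom b b'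
        have e2 : p'' (b * b') = p'' b * p'' b' := map_mul p''.toAlgHom b b'
        have f1 : fstD (p'' b) = A.res (p' b) := by
          rw [dual_fst_eq, Art.res_app]
        have f2 : fstD (p'' b') = A.res (p' b') := by
          rw [dual_fst_eq, Art.res_app]
        have tt : τ (sndD (p'' b)) * τ (sndD (p'' b')) = 0 := by
          rw [h1, h3, zero_mul, map_zero]
        rw [e1, e2, sndD_mul, f1, f2, map_add, ← h1, ← h1]
        linear_combination (-1 : A.carrier) * tt
      map_zero' := by
        have e1 : p' (0 : B.carrier) = 0 := map_zero p'.toAlgHom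
        have e2 : p'' (0 : B.carrier) = 0 := map_zero p''.toAlgHom
        rw [e1, e2, sndD_zero, map_zero, add_zero]
      map_add' := fun b b' => by
        have e1 : p' (b + b') = p' b + p' b' := map_add p'.toAlgHom b b'
        have e2 : p'' (b + b') = p'' b + p'' b' := map_add p''.toAlgHom b b'
        rw [e1, e2, sndD_add, map_add]
        abel
      commutes' := fun c => by
        have e1 : p' (algebraMap Λ B.carrier c) = algebraMap Λ A.carrier c := p'.toAlgHom.commutes c
        have e2 : p'' (algebraMap Λ B.carrier c) = algebraMap Λ (Art.dual Λ k).carrier c :=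
          p''.toAlgHom.commutes c
        show p' (algebraMap Λ B.carrier c) + τ (sndD (p'' (algebraMap Λ B.carrier c))) = _
        rw [e1, e2, sndD_algebraMap, map_zero, add_zero] }
    (by
      apply AlgHom.ext
      intro b
      show A.res (p' b + τ (sndD (p'' b))) = B.res b
      rw [map_add, h3, add_zero, Art.res_app])

theorem map_sigma_apply {R' : Type u} [CommRing R'] [Algebra Λ R'] {resR' : R' →ₐ[Λ] k}
    {A B : Art Λ k} (p' : B ⟶ A) (p'' : B ⟶ Art.dual Λ k)
    (τ : k →+ A.carrier) (h1 : ∀ (a : A.carrier) (d : k), a * τ d = τ (A.res a * d))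
    (h3 : ∀ d, A.res (τ d) = 0) (j : HomSet R' resR' B) (φ : HomSet R' resR' A)
    (v : HomSet R' resR' (Art.dual Λ k)) (hφ : HomSet.map p' j = φ) (hv : HomSet.map p'' j = v)
    (r : R') :
    (HomSet.map (sigma p' p'' τ h1 h3) j).1 r = φ.1 r + τ (sndD (v.1 r)) := by
  subst hφ
  subst hv
  rfl

theorem pi_mul_x (R : ArtFun.CRing Λ k) (x : R.carrier) (hx : R.res x = 0) (r r' : R.carrier)
    (hr : R.res r = R.res r') : (R.truncHom 1).1 (r * x) = (R.truncHom 1).1 (r' * x) := by
  rw [truncHom_eq_iff]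
  have e : R.mpow 1 = IsLocalRing.maximalIdeal R.carrier * IsLocalRing.maximalIdeal R.carrier := by
    show IsLocalRing.maximalIdeal R.carrier ^ (1 + 1) = _
    rw [pow_succ, pow_one]
  rw [e, ← sub_mul]
  apply Ideal.mul_mem_mul
  · rw [CRing.mem_maximalIdeal_iff, map_sub, hr, sub_self]
  · rw [CRing.mem_maximalIdeal_iff, hx]

/-- `d ↦ π (s d * x)` -/
noncomputable def tau (R : ArtFun.CRing Λ k) (x : R.carrier) (hx : R.res x = 0) :
    k →+ (R.trunc 1).carrier where
  toFun d := (R.truncHom 1).1 (Function.surjInv R.res_surjective d * x)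
  map_zero' := by
    rw [pi_mul_x R x hx _ 0 (by rw [Function.surjInv_eq R.res_surjective, map_zero]), zero_mul,
      map_zero]
  map_add' d d' := by
    rw [pi_mul_x R x hx _ (Function.surjInv R.res_surjective d + Function.surjInv R.res_surjective d')
      (by rw [map_add, Function.surjInv_eq R.res_surjective, Function.surjInv_eq R.res_surjective,
        Function.surjInv_eq R.res_surjective]), add_mul, map_add]

theorem tau_apply (R : ArtFun.CRing Λ k) (x : R.carrier) (hx : R.res x = 0) (d : k) :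
    tau R x hx d = (R.truncHom 1).1 (Function.surjInv R.res_surjective d * x) := rfl

theorem tau_h1 (R : ArtFun.CRing Λ k) (x : R.carrier) (hx : R.res x = 0)
    (a : (R.trunc 1).carrier) (d : k) :
    a * tau R x hx d = tau R x hx ((R.trunc 1).res a * d) := by
  obtain ⟨r, rfl⟩ := truncHom_surjective R 1 a
  rw [tau_apply, tau_apply, ← map_mul, ← mul_assoc]
  apply pi_mul_x R x hx
  rw [map_mul, Function.surjInv_eq R.res_surjective, Function.surjInv_eq R.res_surjective]
  rfl

theorem tau_h3 (R : ArtFun.CRing Λ k) (x : R.carrier) (hx : R.res x = 0) (d : k) :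
    (R.trunc 1).res (tau R x hx d) = 0 := by
  rw [tau_apply]
  show R.res (Function.surjInv R.res_surjective d * x) = 0
  rw [map_mul, hx, mul_zero]

theorem hom_mpow_one (R : ArtFun.CRing Λ k) (v : HomSet R.carrier R.res (Art.dual Λ k))
    (z : R.carrier) (hz : z ∈ R.mpow 1) : v.1 z = 0 := by
  have e : R.mpow 1 = IsLocalRing.maximalIdeal R.carrier * IsLocalRing.maximalIdeal R.carrier := by
    show IsLocalRing.maximalIdeal R.carrier ^ (1 + 1) = _
    rw [pow_succ, pow_one]
  rw [e] at hz
  have hle : IsLocalRing.maximalIdeal R.carrier * IsLocalRing.maximalIdeal R.carrier ≤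
      RingHom.ker (v.1 : R.carrier →+* (Art.dual Λ k).carrier) := by
    rw [Ideal.mul_le]
    intro a ha b hb
    rw [RingHom.mem_ker]
    rw [CRing.mem_maximalIdeal_iff] at ha hb
    show v.1 (a * b) = 0
    rw [map_mul]
    exact mulD_eq_zero _ _ ((fst_apply R v a).trans ha) ((fst_apply R v b).trans hb)
  exact hle hz

theorem dd_mpow_one (R : ArtFun.CRing Λ k) (v : HomSet R.carrier R.res (Art.dual Λ k))
    (z : R.carrier) (hz : z ∈ R.mpow 1) : dd R v z = 0 := by
  unfold dd
  rw [hom_mpow_one R v z hz, sndD_zero]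

theorem injective_aux {Λ : Type u} {k : Type u} [CommRing Λ] [Field k] [Algebra Λ k]
    (hk : Subsingleton (Derivation Λ k k))
    {F : ArtFun.Art Λ k ⥤ Type v} (h2 : ArtFun.Heps F)
    {R : ArtFun.CRing Λ k} (ξ : ArtFun.Family R.carrier R.res F) (hξ : ξ.IsMinimalVersal) :
    Function.Injective (ξ.app (Art.dual Λ k)) := by
  classical
  intro v₁ v₂ hv
  by_contra hne
  obtain ⟨x, hx0, hx1⟩ := exists_x R hk v₁ v₂ hne
  let A : Art Λ k := R.trunc 1
  let π : HomSet R.carrier R.res A := R.truncHom 1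
  let τ : k →+ A.carrier := tau R x hx0
  have h1 : ∀ (a : A.carrier) (d : k), a * τ d = τ (A.res a * d) := tau_h1 R x hx0
  have h3 : ∀ d, A.res (τ d) = 0 := tau_h3 R x hx0
  have h1' : ∀ (a : A.carrier) (d : k), a * (-τ) d = (-τ) (A.res a * d) := by
    intro a d
    rw [AddMonoidHom.neg_apply, AddMonoidHom.neg_apply, mul_neg, h1]
  have h3' : ∀ d, A.res ((-τ) d) = 0 := by
    intro d
    rw [AddMonoidHom.neg_apply, map_neg, h3, neg_zero]
  let B : Art Λ k := fibreProd (Art.toBase A) (Art.toBase (Art.dual Λ k))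
    (Art.dual Λ k).res_surjective
  let p' : B ⟶ A := fibreProdFst (Art.toBase A) (Art.toBase (Art.dual Λ k))
    (Art.dual Λ k).res_surjective
  let p'' : B ⟶ Art.dual Λ k := fibreProdSnd (Art.toBase A) (Art.toBase (Art.dual Λ k))
    (Art.dual Λ k).res_surjective
  have hB : Art.IsFibreProd p' p'' (Art.toBase A) (Art.toBase (Art.dual Λ k)) :=
    isFibreProd_fibreProd _ _ _
  have hbase : ∀ (φ : HomSet R.carrier R.res A) (w : HomSet R.carrier R.res (Art.dual Λ k)),
      HomSet.map (Art.toBase A) φ = HomSet.map (Art.toBase (Art.dual Λ k)) w := by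
    intro φ w
    apply homSet_ext
    intro r
    show A.res (φ.1 r) = (Art.dual Λ k).res (w.1 r)
    have e1 : A.res (φ.1 r) = R.res r := congrArg (fun t => t r) φ.2
    have e2 : (Art.dual Λ k).res (w.1 r) = R.res r := congrArg (fun t => t r) w.2
    rw [e1, e2]
  obtain ⟨j₂, hj₂a, hj₂b⟩ := Groth.Agent.Lib.Helper94.IsFibreProd.exists_lift hB π v₂ (hbase π v₂)
  let α : HomSet R.carrier R.res A := HomSet.map (sigma p' p'' τ h1 h3) j₂
  have hα : ∀ r, α.1 r = π.1 r + τ (dd R v₂ r) :=
    fun r => map_sigma_apply p' p'' τ h1 h3 j₂ π v₂ hj₂a hj₂b r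
  obtain ⟨j₁', h11, h12⟩ := Groth.Agent.Lib.Helper94.IsFibreProd.exists_lift hB α v₁ (hbase α v₁)
  obtain ⟨j₂', h21, h22⟩ := Groth.Agent.Lib.Helper94.IsFibreProd.exists_lift hB α v₂ (hbase α v₂)
  have hj : ξ.app _ j₁' = ξ.app _ j₂' := by
    apply (h2 p' p'' hB).1
    apply FibProd.ext
    · show F.map p' (ξ.app _ j₁') = F.map p' (ξ.app _ j₂')
      rw [← ξ.natural, ← ξ.natural, h11, h21]
    · show F.map p'' (ξ.app _ j₁') = F.map p'' (ξ.app _ j₂')
      rw [← ξ.natural, ← ξ.natural, h12, h22, hv]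
  let h₁ : HomSet R.carrier R.res A := HomSet.map (sigma p' p'' (-τ) h1' h3') j₁'
  have hh₁ : ∀ r, h₁.1 r = π.1 r + τ (dd R v₂ r) - τ (dd R v₁ r) := by
    intro r
    have := map_sigma_apply p' p'' (-τ) h1' h3' j₁' α v₁ h11 h12 r
    rw [hα, AddMonoidHom.neg_apply] at this
    rw [sub_eq_add_neg]
    exact this
  have hπ : HomSet.map (sigma p' p'' (-τ) h1' h3') j₂' = π := by
    apply homSet_ext
    intro r
    have := map_sigma_apply p' p'' (-τ) h1' h3' j₂' α v₂ h21 h22 r
    rw [hα, AddMonoidHom.neg_apply] at this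
    rw [this]
    show π.1 r + τ (dd R v₂ r) + -τ (dd R v₂ r) = π.1 r
    abel
  have hξh₁ : ξ.app _ h₁ = ξ.toFormalElt.elt 1 := by
    show ξ.app _ (HomSet.map (sigma p' p'' (-τ) h1' h3') j₁') = ξ.app _ (R.truncHom 1)
    rw [ξ.natural, hj, ← ξ.natural, hπ]
  obtain ⟨g, hg, hg1, hg2⟩ := lift_from_one R ξ hξ.1 R ξ.toFormalElt h₁ hξh₁
  have hsurj : Function.Surjective g :=
    hξ.2 R ξ.toFormalElt g hg (by rw [Groth.Agent.S12758.push_toFormalElt]; exact hg1)
  obtain ⟨y, hy⟩ := hsurj x
  have e1 : π.1 (g y) = h₁.1 y := congrArg (fun t => t y) hg2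
  rw [hy, hh₁] at e1
  -- `π x = π y + τ (dd v₂ y) - τ (dd v₁ y)`
  let s : k → R.carrier := Function.surjInv R.res_surjective
  have hs : ∀ c, R.res (s c) = c := Function.surjInv_eq R.res_surjective
  have e2 : π.1 x = π.1 (y + s (dd R v₂ y) * x - s (dd R v₁ y) * x) := by
    rw [e1, map_sub, map_add]
    rfl
  have hz : x - (y + s (dd R v₂ y) * x - s (dd R v₁ y) * x) ∈ R.mpow 1 :=
    (truncHom_eq_iff R 1 _ _).1 e2
  have d1 := dd_mpow_one R v₁ _ hz
  have d2 := dd_mpow_one R v₂ _ hz
  rw [dd_sub, dd_sub, dd_add, dd_mul, dd_mul, hs, hs, hx0] at d1 d2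
  have : (1 : k) = 0 := by
    linear_combination d1 - d2 - (1 - dd R v₂ y + dd R v₁ y) * hx1
  exact one_ne_zero this

end Sigma

/-- For functors, suppose k admits no nonzero Λ-derivation into itself (that is, k is separable over the
image of Λ in k). Let F be a functor on Artinian local Λ-algebras with residue field k with F(k) a
point which satisfies (S2), and let ξ be a minimal versal family of F over a complete local
Noetherian R with residue field k: ξ is versal, and every morphism of such coefficient rings R' → R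
along which some formal element of F over R' pushes forward to the formal element of ξ is
surjective. Then ξ is a hull of F: it is moreover bijective on tangent spaces. (The published
statement, for arbitrary k, concludes that the tangent map of the minimal versal family is bijective
on orbits under the Λ-derivations of k; when k has no nonzero Λ-derivation into itself the orbits
are points and this is plain bijectivity, which is the case stated here.) -/
theorem result {Λ : Type u} {k : Type u} [CommRing Λ] [Field k] [Algebra Λ k]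
    [IsNoetherianRing Λ] [Module.Finite Λ k]
    (hk : Subsingleton (Derivation Λ k k))
    {F : ArtFun.Art Λ k ⥤ Type v} (h0 : ArtFun.H0 F) (h2 : ArtFun.Heps F)
    {R : ArtFun.CRing Λ k} (ξ : ArtFun.Family R.carrier R.res F) (hξ : ξ.IsMinimalVersal) :
    ArtFun.IsMiniversal ξ :=
  ⟨hξ.1, injective_aux hk h2 ξ hξ,
    Groth.Agent.S12727.versal_surjective h0 ξ hξ.1 (Art.dual Λ k)⟩

end Groth.Agent.S12749
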