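import Groth.Statements.S12750
import Groth.Agent.S12709
import Groth.Agent.Lib.Helper76.ArtFibre

set_option autoImplicit false
universe u v
open CategoryTheory
open ArtFun ArtFun.Art

namespace Groth.Agent.S12750

open Groth.Agent.Lib.Helper76

/-- If `C → A → A/(m_Λ A + m_A²)` is surjective then so is `C → A`. -/
theorem surj_of_comp_quot {Λ : Type u} {k : Type u} [CommRing Λ] [Field k] [Algebra Λ k]
    [IsNoetherianRing Λ] [Module.Finite Λ k] {C A A' : ArtFun.Art Λ k} (g : C ⟶ A) (qA : A ⟶ A')
    (hkA : RingHom.ker qA.toAlgHom = Ideal.map (algebraMap Λ A) (RingHom.ker (algebraMap Λ k)) ⊔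
      IsLocalRing.maximalIdeal A ^ 2)
    (h : Function.Surjective (g ≫ qA)) : Function.Surjective g := by
  have tfae := Groth.Agent.S12709.result g
  apply (tfae.out 2 0).mp
  apply le_antisymm
  · refine sup_le (sup_le ?_ ?_) ?_
    · rw [Ideal.map_le_iff_le_comap]
      intro l hl
      rw [Ideal.mem_comap, Art.mem_maximalIdeal_iff, AlgHom.commutes]
      exact hl
    · rw [Ideal.map_le_iff_le_comap]
      intro c hc
      rw [Ideal.mem_comap, Art.mem_maximalIdeal_iff]
      change A.res (g c) = 0
      rw [Art.res_app]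
      exact (Art.mem_maximalIdeal_iff C c).1 hc
    · exact Ideal.pow_le_self two_ne_zero
  · intro a ha
    obtain ⟨c, hc⟩ := h (qA a)
    have hc' : qA (g c) = qA a := hc
    have hcm : c ∈ IsLocalRing.maximalIdeal C := by
      rw [Art.mem_maximalIdeal_iff, ← Art.res_app g, ← Art.res_app qA, hc', Art.res_app]
      exact (Art.mem_maximalIdeal_iff A a).1 ha
    have hk : a - g c ∈ RingHom.ker qA.toAlgHom := by
      rw [RingHom.mem_ker, map_sub]
      change qA a - qA (g c) = 0
      rw [hc', sub_self]
    rw [hkA] at hk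
    have e : a = g c + (a - g c) := by ring
    rw [e]
    apply Ideal.add_mem
    · apply Ideal.mem_sup_left
      apply Ideal.mem_sup_right
      exact Ideal.mem_map_of_mem _ hcm
    · have hle : Ideal.map (algebraMap Λ A) (RingHom.ker (algebraMap Λ k)) ⊔
          IsLocalRing.maximalIdeal A ^ 2 ≤
          Ideal.map (algebraMap Λ A) (RingHom.ker (algebraMap Λ k)) ⊔
            Ideal.map g.toAlgHom (IsLocalRing.maximalIdeal C) ⊔ IsLocalRing.maximalIdeal A ^ 2 :=
        sup_le (le_sup_left.trans le_sup_left) le_sup_right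
      exact hle hk


/-- (1) ⇔ (3): let f : B → A be a morphism in the category of Artinian local Λ-algebras with residue
field k, and let q_B : B → B', q_A : A → A' be the quotients by m_Λ B + m_B² and m_Λ A + m_A² (m_Λ
the kernel of Λ → k), realised as surjective morphisms with these kernels, with f' : B' → A' the
induced morphism. Then f is an essential surjection — surjective, and every morphism g into B whose
composite with f is surjective is itself surjective — if and only if f' is. (The intermediate
equivalence with the map B/m_B² → A/m_A² is the special case Λ-structure trivialised and follows by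
applying this one twice.) -/
theorem result {Λ : Type u} {k : Type u} [CommRing Λ] [Field k] [Algebra Λ k]
    [IsNoetherianRing Λ] [Module.Finite Λ k]
    {A B A' B' : ArtFun.Art Λ k} (f : B ⟶ A)
    (qB : B ⟶ B') (hqB : Function.Surjective qB)
    (hkB : RingHom.ker qB.toAlgHom = Ideal.map (algebraMap Λ B) (RingHom.ker (algebraMap Λ k)) ⊔ IsLocalRing.maximalIdeal B ^ 2)
    (qA : A ⟶ A') (hqA : Function.Surjective qA)
    (hkA : RingHom.ker qA.toAlgHom = Ideal.map (algebraMap Λ A) (RingHom.ker (algebraMap Λ k)) ⊔ IsLocalRing.maximalIdeal A ^ 2)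
    (f' : B' ⟶ A') (hf' : qB ≫ f' = f ≫ qA) :
    (Function.Surjective f ∧ ∀ (C : ArtFun.Art Λ k) (g : C ⟶ B), Function.Surjective (g ≫ f) → Function.Surjective g) ↔ (Function.Surjective f' ∧ ∀ (C : ArtFun.Art Λ k) (g : C ⟶ B'), Function.Surjective (g ≫ f') → Function.Surjective g) := by
  have comp_surj : ∀ {X Y Z : ArtFun.Art Λ k} (a : X ⟶ Y) (b : Y ⟶ Z), Function.Surjective a →
      Function.Surjective b → Function.Surjective (a ≫ b) := fun a b ha hb => hb.comp ha
  have surj_of_comp : ∀ {X Y Z : ArtFun.Art Λ k} (a : X ⟶ Y) (b : Y ⟶ Z),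
      Function.Surjective (a ≫ b) → Function.Surjective b := fun a b hab =>
    Function.Surjective.of_comp (g := a) hab
  constructor
  · rintro ⟨hf, hess⟩
    have hf's : Function.Surjective f' := by
      apply surj_of_comp qB f'
      rw [hf']
      exact comp_surj f qA hf hqA
    refine ⟨hf's, ?_⟩
    intro C g hg
    let C' := fibreProd g qB hqB
    let p₁ : C' ⟶ C := fibreProdFst g qB hqB
    let p₂ : C' ⟶ B := fibreProdSnd g qB hqB
    have hfp : IsFibreProd p₁ p₂ g qB := isFibreProd_fibreProd g qB hqB
    have hp₁ : Function.Surjective p₁ := fp_fst_surjective hfp hqB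
    have h1 : Function.Surjective ((p₂ ≫ f) ≫ qA) := by
      rw [Category.assoc, ← hf', ← Category.assoc, ← hfp.w, Category.assoc]
      exact comp_surj p₁ (g ≫ f') hp₁ hg
    have h2 : Function.Surjective (p₂ ≫ f) := surj_of_comp_quot (p₂ ≫ f) qA hkA h1
    have h3 : Function.Surjective p₂ := hess C' p₂ h2
    have h4 : Function.Surjective (p₁ ≫ g) := by
      rw [hfp.w]
      exact comp_surj p₂ qB h3 hqB
    exact surj_of_comp p₁ g h4
  · rintro ⟨hf's, hess⟩
    have hfs : Function.Surjective f := by
      apply surj_of_comp_quot f qA hkA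
      rw [← hf']
      exact comp_surj qB f' hqB hf's
    refine ⟨hfs, ?_⟩
    intro C g hg
    apply surj_of_comp_quot g qB hkB
    apply hess C (g ≫ qB)
    rw [Category.assoc, hf', ← Category.assoc]
    exact comp_surj (g ≫ f) qA hg hqA

end Groth.Agent.S12750
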