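import Groth.Statements.S12751
import Groth.Agent.S12709
import Groth.Agent.Lib.Helper76.ArtFibre
import Mathlib.RingTheory.Unramified.LocalRing
import Mathlib.LinearAlgebra.TensorProduct.Quotient
import Mathlib.RingTheory.Nakayama

set_option autoImplicit false
universe u v
open CategoryTheory
open scoped TensorProduct
open ArtFun ArtFun.Art

namespace Groth.Agent.S12751

open Groth.Agent.Lib.Helper76

/-- Nakayama for the residue field `k` of an object of `Art Λ k`. -/
theorem subsingleton_of_tensor {Λ : Type u} {k : Type u} [CommRing Λ] [Field k] [Algebra Λ k]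
    (A : ArtFun.Art Λ k) (M : Type u) [AddCommGroup M] [Module A M] [Module.Finite A M] :
    letI : Algebra A k := A.res.toRingHom.toAlgebra
    Subsingleton (k ⊗[A] M) → Subsingleton M := by
  letI : Algebra A k := A.res.toRingHom.toAlgebra
  intro h
  let I : Ideal A := LinearMap.ker (Algebra.linearMap A k)
  have hsurj : Function.Surjective (Algebra.linearMap A k) := A.res_surjective
  let e1 : (A ⧸ I) ≃ₗ[A] k := (Algebra.linearMap A k).quotKerEquivOfSurjective hsurj
  let e2 : (A ⧸ I) ⊗[A] M ≃ₗ[A] M ⧸ (I • ⊤ : Submodule A M) :=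
    TensorProduct.quotTensorEquivQuotSMul M I
  let e3 : k ⊗[A] M ≃ₗ[A] M ⧸ (I • ⊤ : Submodule A M) :=
    (TensorProduct.congr e1.symm (LinearEquiv.refl A M)).trans e2
  have h2 : Subsingleton (M ⧸ (I • ⊤ : Submodule A M)) := e3.symm.injective.subsingleton
  rw [Submodule.Quotient.subsingleton_iff] at h2
  have hI : I ≤ Ideal.jacobson ⊥ := by
    rw [IsLocalRing.jacobson_eq_maximalIdeal ⊥ bot_ne_top]
    intro a ha
    rw [Art.mem_maximalIdeal_iff]
    exact ha
  have h3 : (⊤ : Submodule A M) = ⊥ :=
    Submodule.eq_bot_of_le_smul_of_le_jacobson_bot I ⊤ Module.Finite.fg_top h2.ge hI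
  exact (Submodule.subsingleton_iff A).mp (subsingleton_of_bot_eq_top h3.symm)


/-- A morphism f : B → A in the category of Artinian local Λ-algebras with residue field k is surjective
if and only if Ω_{B/Λ} ⊗_B k → Ω_{A/Λ} ⊗_A k is surjective; by right exactness of the sequence
Ω_{B/Λ} ⊗_B A → Ω_{A/Λ} → Ω_{A/B} → 0 this surjectivity is the vanishing of Ω_{A/B} ⊗_A k, which is
how it is written here (A a B-algebra through f, k an A-module through the augmentation). -/
theorem result {Λ : Type u} {k : Type u} [CommRing Λ] [Field k] [Algebra Λ k]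
    [IsNoetherianRing Λ] [Module.Finite Λ k]
    {A B : ArtFun.Art Λ k} (f : B ⟶ A) :
    letI : Algebra B A := f.toAlgHom.toRingHom.toAlgebra
    letI : Algebra A k := A.res.toRingHom.toAlgebra
    Function.Surjective f ↔ Subsingleton (k ⊗[A] Ω[A⁄B]) := by
  letI : Algebra B A := f.toAlgHom.toRingHom.toAlgebra
  letI : Algebra A k := A.res.toRingHom.toAlgebra
  constructor
  · intro hf
    have : Subsingleton Ω[A⁄B] := KaehlerDifferential.subsingleton_of_surjective B A hf
    infer_instance
  · intro h
    have hst : IsScalarTower Λ B A := IsScalarTower.of_algebraMap_eq fun l => (f.toAlgHom.commutes l).symm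
    have hfinΛ : Module.Finite Λ A := finite_carrier A
    have hfin : Module.Finite B A := Module.Finite.of_restrictScalars_finite Λ B A
    have hloc : IsLocalHom (algebraMap B A) := ⟨(Art.isLocalHom f).map_nonunit⟩
    have hΩ : Subsingleton Ω[A⁄B] := subsingleton_of_tensor A (Ω[A⁄B]) h
    have hun : Algebra.FormallyUnramified B A := ⟨hΩ⟩
    have hmap : (IsLocalRing.maximalIdeal B).map (algebraMap B A) = IsLocalRing.maximalIdeal A :=
      Algebra.FormallyUnramified.map_maximalIdeal
    have tfae := Groth.Agent.S12709.result f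
    apply (tfae.out 1 0).mp
    have hmap' : Ideal.map f.toAlgHom (IsLocalRing.maximalIdeal B) = IsLocalRing.maximalIdeal A :=
      hmap
    rw [hmap']
    exact sup_eq_left.mpr (Ideal.pow_le_self two_ne_zero)

end Groth.Agent.S12751
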