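import Groth.Statements.S12752
import Groth.Agent.S12751
import Groth.Agent.Lib.Helper76.ArtFibre
import Groth.Agent.Lib.Helper98.KaehlerRes

set_option autoImplicit false
universe u v
open CategoryTheory
open scoped TensorProduct
open ArtFun ArtFun.Art

namespace Groth.Agent.S12752

open Groth.Agent.Lib.Helper76 Groth.Agent.Lib.Helper98.KaehlerRes

section
variable {Λ : Type u} {k : Type u} [CommRing Λ] [Field k] [Algebra Λ k]

/-- The morphism `B → k[ε]`, `b ↦ res b + D b ε`, attached to a derivation `D : B → k`. -/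
noncomputable def toDual (B : ArtFun.Art Λ k) (D : B →+ k)
    (hmul : ∀ a b, D (a * b) = B.res a * D b + B.res b * D a)
    (hΛ : ∀ l, D (algebraMap Λ B l) = 0) : B ⟶ dual Λ k :=
  ⟨{ toFun := fun b => ((B.res b, D b) : TrivSqZeroExt k k)
     map_one' := by
       have h1 : D 1 = 0 := by
         have := hΛ 1
         rwa [map_one] at this
       exact TrivSqZeroExt.ext (map_one B.res) h1
     map_mul' := fun x y => TrivSqZeroExt.ext (map_mul B.res x y) (by
       change D (x * y) = B.res x • D y + MulOpposite.op (B.res y) • D x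
       rw [hmul, op_smul_eq_smul, smul_eq_mul, smul_eq_mul])
     map_zero' := TrivSqZeroExt.ext (map_zero B.res) (map_zero D)
     map_add' := fun x y => TrivSqZeroExt.ext (map_add B.res x y) (map_add D x y)
     commutes' := fun r => TrivSqZeroExt.ext (by
         change B.res (algebraMap Λ B r) = (algebraMap Λ (TrivSqZeroExt k k) r).fst
         rw [TrivSqZeroExt.algebraMap_eq_inl', TrivSqZeroExt.fst_inl, AlgHom.commutes]) (by
         change D (algebraMap Λ B r) = (algebraMap Λ (TrivSqZeroExt k k) r).snd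
         rw [TrivSqZeroExt.algebraMap_eq_inl', TrivSqZeroExt.snd_inl, hΛ]) },
    AlgHom.ext fun _ => rfl⟩

theorem toDual_snd (B : ArtFun.Art Λ k) (D : B →+ k)
    (hmul : ∀ a b, D (a * b) = B.res a * D b + B.res b * D a)
    (hΛ : ∀ l, D (algebraMap Λ B l) = 0) (b : B) :
    TrivSqZeroExt.snd (toDual B D hmul hΛ b) = D b := rfl

theorem toDual_fst (B : ArtFun.Art Λ k) (D : B →+ k)
    (hmul : ∀ a b, D (a * b) = B.res a * D b + B.res b * D a)
    (hΛ : ∀ l, D (algebraMap Λ B l) = 0) (b : B) :
    TrivSqZeroExt.fst (toDual B D hmul hΛ b) = B.res b := rfl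

/-- Every `Λ`-derivation `B → k` kills the kernel of an essential surjection `B → A`. -/
theorem der_vanish_of_essential [IsNoetherianRing Λ] [Module.Finite Λ k] {A B : ArtFun.Art Λ k}
    (f : B ⟶ A) (hs : Function.Surjective f)
    (hess : ∀ (C : ArtFun.Art Λ k) (g : C ⟶ B), Function.Surjective (g ≫ f) → Function.Surjective g)
    (D : B →+ k) (hmul : ∀ a b, D (a * b) = B.res a * D b + B.res b * D a)
    (hΛ : ∀ l, D (algebraMap Λ B l) = 0) (x : B) (hx : f x = 0) : D x = 0 := by
  by_contra hne
  have hxm : B.res x = 0 := by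
    rw [← Art.res_app f, hx, map_zero]
  let φ := toDual B D hmul hΛ
  -- adjust an element by a multiple of `x` to prescribe `D`
  have adjust : ∀ (b : B) (c : k), ∃ y : B, D (b + y * x) = c ∧ B.res (b + y * x) = B.res b ∧
      f (b + y * x) = f b := by
    intro b c
    obtain ⟨y, hy⟩ := B.res_surjective ((c - D b) / D x)
    refine ⟨y, ?_, ?_, ?_⟩
    · rw [map_add, hmul, hy, hxm, zero_mul, add_zero, div_mul_cancel₀ _ hne]
      ring
    · rw [map_add, map_mul, hxm, mul_zero, add_zero]
    · change f.toAlgHom (b + y * x) = f.toAlgHom b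
      rw [map_add, map_mul]
      change f b + f y * f x = f b
      rw [hx, mul_zero, add_zero]
  have hφs : Function.Surjective φ := by
    intro t
    obtain ⟨b₀, hb₀⟩ := B.res_surjective t.fst
    obtain ⟨y, h1, h2, -⟩ := adjust b₀ t.snd
    refine ⟨b₀ + y * x, ?_⟩
    apply TrivSqZeroExt.ext
    · rw [toDual_fst, h2, hb₀]
    · rw [toDual_snd, h1]
  let C := fibreProd (baseToDual : base Λ k ⟶ dual Λ k) φ hφs
  let p₁ : C ⟶ base Λ k := fibreProdFst baseToDual φ hφs
  let p₂ : C ⟶ B := fibreProdSnd baseToDual φ hφs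
  have hfp : IsFibreProd p₁ p₂ baseToDual φ := isFibreProd_fibreProd baseToDual φ hφs
  have h1 : Function.Surjective (p₂ ≫ f) := by
    intro a
    obtain ⟨b, hb⟩ := hs a
    obtain ⟨y, hD0, hres, hfb⟩ := adjust b 0
    have hcompat : (baseToDual : base Λ k ⟶ dual Λ k) (B.res (b + y * x)) = φ (b + y * x) := by
      apply TrivSqZeroExt.ext
      · rw [toDual_fst]; rfl
      · rw [toDual_snd, hD0]; rfl
    obtain ⟨c, -, hc⟩ := hfp.surj _ _ hcompat
    refine ⟨c, ?_⟩
    change f (p₂ c) = a
    rw [hc, hfb, hb]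
  have h2 := hess C p₂ h1
  obtain ⟨c, hc⟩ := h2 x
  have h3 := hfp.w_apply c
  rw [hc] at h3
  have h4 := congrArg TrivSqZeroExt.snd h3
  rw [toDual_snd] at h4
  apply hne
  rw [← h4]
  rfl

end


/-- (a) ⇔ (c): a morphism f : B → A in the category of Artinian local Λ-algebras with residue field k is
an essential surjection (surjective, and any morphism g into B with g followed by f surjective is
surjective) if and only if the map Ω_{B/Λ} ⊗_B k → Ω_{A/Λ} ⊗_A k is an isomorphism of k-vector
spaces. These spaces are finite-dimensional, so the isomorphism condition is written as: the map is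
surjective (that is, Ω_{A/B} ⊗_A k = 0) and the two spaces have equal dimension. -/
theorem result {Λ : Type u} {k : Type u} [CommRing Λ] [Field k] [Algebra Λ k]
    [IsNoetherianRing Λ] [Module.Finite Λ k]
    {A B : ArtFun.Art Λ k} (f : B ⟶ A) :
    letI : Algebra B A := f.toAlgHom.toRingHom.toAlgebra
    letI : Algebra A k := A.res.toRingHom.toAlgebra
    letI : Algebra B k := B.res.toRingHom.toAlgebra
    (Function.Surjective f ∧ ∀ (C : ArtFun.Art Λ k) (g : C ⟶ B), Function.Surjective (g ≫ f) → Function.Surjective g) ↔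
      (Subsingleton (k ⊗[A] Ω[A⁄B]) ∧
        Module.finrank k (k ⊗[B] Ω[B⁄Λ]) = Module.finrank k (k ⊗[A] Ω[A⁄Λ])) := by
  letI : Algebra B A := f.toAlgHom.toRingHom.toAlgebra
  letI : Algebra A k := A.res.toRingHom.toAlgebra
  letI : Algebra B k := B.res.toRingHom.toAlgebra
  have hf : ∀ b, algebraMap A k (f.toAlgHom b) = algebraMap B k b := fun b => Art.res_app f b
  have h51 := Groth.Agent.S12751.result f
  have hfA : Module.Finite Λ A := finite_carrier A
  have hfB : Module.Finite Λ B := finite_carrier B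
  have hfinB : Module.Finite k (k ⊗[B] Ω[B⁄Λ]) := inferInstance
  have hfinA : Module.Finite k (k ⊗[A] Ω[A⁄Λ]) := inferInstance
  constructor
  · rintro ⟨hs, hess⟩
    refine ⟨h51.mp hs, ?_⟩
    have hinj := phi_injective f.toAlgHom hf hs
      (fun D hmul hΛ x hx => der_vanish_of_essential f hs hess D hmul hΛ x hx)
    have hsur := phi_surjective f.toAlgHom hf hs
    exact (LinearEquiv.ofBijective (phi f.toAlgHom hf) ⟨hinj, hsur⟩).finrank_eq
  · rintro ⟨hsub, hrank⟩
    have hs := h51.mpr hsub
    have hsur := phi_surjective f.toAlgHom hf hs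
    have hinj : Function.Injective (phi f.toAlgHom hf) :=
      (LinearMap.injective_iff_surjective_of_finrank_eq_finrank hrank).mpr hsur
    refine ⟨hs, ?_⟩
    intro C g hg
    letI : Algebra C k := C.res.toRingHom.toAlgebra
    have hgk : ∀ c, algebraMap B k (g.toAlgHom c) = algebraMap C k c := fun c => Art.res_app g c
    have hgfk : ∀ c, algebraMap A k ((f.toAlgHom.comp g.toAlgHom) c) = algebraMap C k c :=
      fun c => Art.res_app (g ≫ f) c
    have hcomp := phi_comp g.toAlgHom hgk f.toAlgHom hf hgfk
    have hsur2 : Function.Surjective (phi (f.toAlgHom.comp g.toAlgHom) hgfk) :=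
      phi_surjective _ _ hg
    have hφg : Function.Surjective (phi g.toAlgHom hgk) := by
      intro y
      obtain ⟨z, hz⟩ := hsur2 (phi f.toAlgHom hf y)
      refine ⟨z, hinj ?_⟩
      rw [← hz, ← hcomp]
      rfl
    have hsubg := subsingleton_of_phi_surjective g.toAlgHom hgk hφg
    exact (Groth.Agent.S12751.result g).mpr hsubg

end Groth.Agent.S12752
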