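import Groth.Statements.S12753
import Groth.Agent.S12752
import Groth.Agent.Lib.Helper98.SepDer

set_option autoImplicit false
universe u v
open CategoryTheory
open ArtFun ArtFun.Art

namespace Groth.Agent.S12753

open Groth.Agent.Lib.Helper98.SepDer

/-- separability over the range of `Λ → k` gives separability over any field `K` through which
`Λ → k` factors. -/
theorem isSeparable_of_factor {Λ : Type u} {k : Type u} [CommRing Λ] [Field k] [Algebra Λ k]
    [Algebra.IsSeparable (↥(algebraMap Λ k).range) k] (K : Type u) [Field K] [Algebra K k]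
    (q : Λ →+* K) (hqk : ∀ l, algebraMap K k (q l) = algebraMap Λ k l) :
    Algebra.IsSeparable K k := by
  let rr : Λ →+* (algebraMap Λ k).range := (algebraMap Λ k).rangeRestrict
  have hrr : Function.Surjective rr := (algebraMap Λ k).rangeRestrict_surjective
  have hker : RingHom.ker rr ≤ RingHom.ker q := by
    intro l hl
    rw [RingHom.mem_ker] at hl ⊢
    have h0 : algebraMap Λ k l = 0 := congrArg Subtype.val hl
    rw [← hqk] at h0
    exact (map_eq_zero (algebraMap K k)).mp h0
  let θ : (algebraMap Λ k).range →+* K := rr.liftOfSurjective hrr ⟨q, hker⟩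
  have hθ : ∀ l, θ (rr l) = q l := rr.liftOfSurjective_comp_apply hrr ⟨q, hker⟩
  have hcomp : (algebraMap K k).comp θ = algebraMap (algebraMap Λ k).range k := by
    ext r
    obtain ⟨l, rfl⟩ := hrr r
    change algebraMap K k (θ (rr l)) = _
    rw [hθ, hqk]
    rfl
  refine ⟨fun x => ?_⟩
  have hx : (minpoly (algebraMap Λ k).range x).Separable :=
    Algebra.IsSeparable.isSeparable (algebraMap Λ k).range x
  have hq' : ((minpoly (algebraMap Λ k).range x).map θ).Separable := hx.map
  have haeval : Polynomial.aeval x ((minpoly (algebraMap Λ k).range x).map θ) = 0 := by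
    rw [Polynomial.aeval_def, Polynomial.eval₂_map, hcomp, ← Polynomial.aeval_def, minpoly.aeval]
  exact hq'.of_dvd (minpoly.dvd K x haeval)


/-- Suppose k is separable over the image of Λ → k. A morphism f : B → A in the category of Artinian
local Λ-algebras with residue field k is an essential surjection (surjective, and any morphism g
into B with g followed by f surjective is surjective) if and only if the map of cotangent spaces
relative to Λ, m_B/(m_Λ B + m_B²) → m_A/(m_Λ A + m_A²), is an isomorphism; surjectivity and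
injectivity are written out in terms of ideals, m_Λ being the kernel of Λ → k. -/
theorem result {Λ : Type u} {k : Type u} [CommRing Λ] [Field k] [Algebra Λ k]
    [IsNoetherianRing Λ] [Module.Finite Λ k]
    [Algebra.IsSeparable (↥(algebraMap Λ k).range) k]
    {A B : ArtFun.Art Λ k} (f : B ⟶ A) :
    (Function.Surjective f ∧ ∀ (C : ArtFun.Art Λ k) (g : C ⟶ B), Function.Surjective (g ≫ f) → Function.Surjective g) ↔
      (Ideal.map (algebraMap Λ A) (RingHom.ker (algebraMap Λ k)) ⊔ Ideal.map f.toAlgHom (IsLocalRing.maximalIdeal B) ⊔ IsLocalRing.maximalIdeal A ^ 2 =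
          IsLocalRing.maximalIdeal A ∧
        ∀ b ∈ IsLocalRing.maximalIdeal B, f b ∈ Ideal.map (algebraMap Λ A) (RingHom.ker (algebraMap Λ k)) ⊔ IsLocalRing.maximalIdeal A ^ 2 →
          b ∈ Ideal.map (algebraMap Λ B) (RingHom.ker (algebraMap Λ k)) ⊔ IsLocalRing.maximalIdeal B ^ 2) := by
  have tfae := Groth.Agent.S12709.result f
  constructor
  · rintro ⟨hs, hess⟩
    refine ⟨(tfae.out 0 2).mp hs, ?_⟩
    intro b hb hfb
    by_contra hbJ
    -- `J_A ≤ f(J_B)`
    have hmB : Ideal.map f.toAlgHom (IsLocalRing.maximalIdeal B) = IsLocalRing.maximalIdeal A := by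
      apply le_antisymm
      · rw [Ideal.map_le_iff_le_comap]
        intro b' hb'
        rw [Ideal.mem_comap, Art.mem_maximalIdeal_iff]
        change A.res (f b') = 0
        rw [Art.res_app]
        exact (Art.mem_maximalIdeal_iff B b').1 hb'
      · intro a ha
        obtain ⟨b', rfl⟩ := hs a
        apply Ideal.mem_map_of_mem
        rw [Art.mem_maximalIdeal_iff, ← Art.res_app f]
        exact (Art.mem_maximalIdeal_iff A _).1 ha
    have hmapJ : Ideal.map f.toAlgHom (Ideal.map (algebraMap Λ B) (RingHom.ker (algebraMap Λ k)) ⊔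
        IsLocalRing.maximalIdeal B ^ 2) =
        Ideal.map (algebraMap Λ A) (RingHom.ker (algebraMap Λ k)) ⊔ IsLocalRing.maximalIdeal A ^ 2 := by
      have e1 : Ideal.map f.toAlgHom (Ideal.map (algebraMap Λ B) (RingHom.ker (algebraMap Λ k))) =
          Ideal.map (algebraMap Λ A) (RingHom.ker (algebraMap Λ k)) := by
        change Ideal.map (f.toAlgHom : B →+* A) _ = _
        rw [Ideal.map_map, AlgHom.comp_algebraMap]
      rw [Ideal.map_sup, Ideal.map_pow, hmB, e1]
    rw [← hmapJ] at hfb
    obtain ⟨b₀, hb₀J, hb₀⟩ := (Ideal.mem_map_iff_of_surjective f.toAlgHom hs).mp hfb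
    have hx : f (b - b₀) = 0 := by
      change f.toAlgHom (b - b₀) = 0
      rw [map_sub, hb₀]
      exact sub_self _
    have hxJ : b - b₀ ∉ Ideal.map (algebraMap Λ B) (RingHom.ker (algebraMap Λ k)) ⊔
        IsLocalRing.maximalIdeal B ^ 2 := by
      intro h
      apply hbJ
      have := Ideal.add_mem _ h hb₀J
      rwa [sub_add_cancel] at this
    have hxres : B.res (b - b₀) = 0 := by
      rw [← Art.res_app f, hx, map_zero]
    -- the field `Λ ⧸ m_Λ`
    have hmax : (RingHom.ker (algebraMap Λ k)).IsMaximal := by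
      have : Algebra.IsIntegral Λ k := Algebra.IsIntegral.of_finite Λ k
      have : (⊥ : Ideal k).IsMaximal := Ideal.bot_isMaximal
      rw [RingHom.ker_eq_comap_bot]
      exact Ideal.isMaximal_comap_of_isIntegral_of_isMaximal ⊥
    letI : Field (Λ ⧸ RingHom.ker (algebraMap Λ k)) := Ideal.Quotient.field _
    let ιk : Λ ⧸ RingHom.ker (algebraMap Λ k) →+* k :=
      Ideal.Quotient.lift _ (algebraMap Λ k) (fun l hl => hl)
    letI : Algebra (Λ ⧸ RingHom.ker (algebraMap Λ k)) k := ιk.toAlgebra
    have hιk : ∀ l, algebraMap (Λ ⧸ RingHom.ker (algebraMap Λ k)) k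
        (Ideal.Quotient.mk (RingHom.ker (algebraMap Λ k)) l) = algebraMap Λ k l := fun l => rfl
    haveI : Algebra.IsSeparable (Λ ⧸ RingHom.ker (algebraMap Λ k)) k := isSeparable_of_factor (Λ ⧸ RingHom.ker (algebraMap Λ k))
      (Ideal.Quotient.mk (RingHom.ker (algebraMap Λ k))) hιk
    obtain ⟨D, hD1, hD2, hD3⟩ := exists_der_ne_zero_art (Λ ⧸ RingHom.ker (algebraMap Λ k))
      (Ideal.Quotient.mk (RingHom.ker (algebraMap Λ k))) Ideal.Quotient.mk_surjective hιk B
      (b - b₀) hxres hxJ
    exact hD3 (Groth.Agent.S12752.der_vanish_of_essential f hs hess D hD1 hD2 (b - b₀) hx)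
  · rintro ⟨h1, h2⟩
    have hs : Function.Surjective f := (tfae.out 2 0).mp h1
    refine ⟨hs, ?_⟩
    intro C g hg
    have tfaeg := Groth.Agent.S12709.result g
    apply (tfaeg.out 2 0).mp
    apply le_antisymm
    · refine sup_le (sup_le ?_ ?_) (Ideal.pow_le_self two_ne_zero)
      · rw [Ideal.map_le_iff_le_comap]
        intro l hl
        rw [Ideal.mem_comap, Art.mem_maximalIdeal_iff, AlgHom.commutes]
        exact hl
      · rw [Ideal.map_le_iff_le_comap]
        intro c hc
        rw [Ideal.mem_comap, Art.mem_maximalIdeal_iff]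
        change B.res (g c) = 0
        rw [Art.res_app]
        exact (Art.mem_maximalIdeal_iff C c).1 hc
    · intro b hb
      obtain ⟨c, hc⟩ := hg (f b)
      have hc' : f (g c) = f b := hc
      have hcm : c ∈ IsLocalRing.maximalIdeal C := by
        rw [Art.mem_maximalIdeal_iff, ← Art.res_app g, ← Art.res_app f, hc', Art.res_app]
        exact (Art.mem_maximalIdeal_iff B b).1 hb
      have hgcm : g c ∈ IsLocalRing.maximalIdeal B := by
        rw [Art.mem_maximalIdeal_iff, Art.res_app]
        exact (Art.mem_maximalIdeal_iff C c).1 hcm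
      have hdiff : f (b - g c) = 0 := by
        change f.toAlgHom (b - g c) = 0
        rw [map_sub]
        change f b - f (g c) = 0
        rw [hc', sub_self]
      have hmem := h2 (b - g c) (Ideal.sub_mem _ hb hgcm) (by rw [hdiff]; exact Ideal.zero_mem _)
      have e : b = g c + (b - g c) := by ring
      rw [e]
      apply Ideal.add_mem
      · apply Ideal.mem_sup_left
        apply Ideal.mem_sup_right
        exact Ideal.mem_map_of_mem _ hcm
      · have hle : Ideal.map (algebraMap Λ B) (RingHom.ker (algebraMap Λ k)) ⊔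
            IsLocalRing.maximalIdeal B ^ 2 ≤
            Ideal.map (algebraMap Λ B) (RingHom.ker (algebraMap Λ k)) ⊔
              Ideal.map g.toAlgHom (IsLocalRing.maximalIdeal C) ⊔ IsLocalRing.maximalIdeal B ^ 2 :=
          sup_le (le_sup_left.trans le_sup_left) le_sup_right
        exact hle hmem

end Groth.Agent.S12753
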