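import Groth.Statements.S12754
-- import your own Groth.Agent.* helpers here
import Mathlib.Algebra.Category.FGModuleCat.Basic
import Mathlib.CategoryTheory.Linear.LinearFunctor
import Mathlib.CategoryTheory.Monoidal.Functor

set_option autoImplicit false
universe u
open CategoryTheory
open ArtFun

namespace Groth.Agent.S12754

open TensorProduct

variable {K : Type u} [Field K]

theorem fg_add_hom {V W : FGModuleCat.{u} K} (f g : V ⟶ W) : (f + g).hom = f.hom + g.hom := rfl
theorem fg_smul_hom {V W : FGModuleCat.{u} K} (c : K) (f : V ⟶ W) : (c • f).hom = c • f.hom := rfl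

noncomputable def fv {V : FGModuleCat.{u} K} (v : V) : FGModuleCat.of K K ⟶ V :=
  ConcreteCategory.ofHom (C := FGModuleCat.{u} K) (LinearMap.toSpanSingleton K V v)

theorem fv_hom_hom {V : FGModuleCat.{u} K} (v : V) : (fv v).hom.hom = LinearMap.toSpanSingleton K V v := rfl

theorem fv_add {V : FGModuleCat.{u} K} (v w : V) : fv (v + w) = fv v + fv w := by
  apply FGModuleCat.hom_ext
  rw [fg_add_hom, ModuleCat.hom_add, fv_hom_hom, fv_hom_hom, fv_hom_hom]
  ext
  simp

theorem fv_smul {V : FGModuleCat.{u} K} (c : K) (v : V) : fv (c • v) = c • fv v := by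
  apply FGModuleCat.hom_ext
  rw [fg_smul_hom, ModuleCat.hom_smul, fv_hom_hom, fv_hom_hom]
  ext
  simp

theorem fv_comp {V W : FGModuleCat.{u} K} (v : V) (g : V ⟶ W) : fv v ≫ g = fv (g.hom.hom v) := by
  apply FGModuleCat.hom_ext
  rw [FGModuleCat.hom_hom_comp, fv_hom_hom, fv_hom_hom]
  ext
  simp

variable (L : FGModuleCat.{u} K ⥤ ModuleCat.{u} K) [L.Additive] [Functor.Linear K L]

noncomputable def ηlin (V : FGModuleCat.{u} K) :
    (L.obj (FGModuleCat.of K K)) ⊗[K] V →ₗ[K] L.obj V :=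
  TensorProduct.lift (LinearMap.mk₂ K (fun x v => (L.map (fv v)).hom x)
    (fun x y v => by simp)
    (fun c x v => by simp)
    (fun x v w => by rw [fv_add, L.map_add, ModuleCat.hom_add]; rfl)
    (fun c x v => by rw [fv_smul, L.map_smul, ModuleCat.hom_smul]; rfl))

theorem ηlin_tmul (V : FGModuleCat.{u} K) (x : L.obj (FGModuleCat.of K K)) (v : V) :
    ηlin L V (x ⊗ₜ v) = (L.map (fv v)).hom x := by
  simp [ηlin]

noncomputable def homAdd (V W : FGModuleCat.{u} K) : (V ⟶ W) →+ (V →ₗ[K] W) where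
  toFun f := f.hom.hom
  map_zero' := rfl
  map_add' _ _ := rfl

theorem sum_hom_hom {V W : FGModuleCat.{u} K} {ι : Type*} (s : Finset ι) (g : ι → (V ⟶ W)) :
    (∑ i ∈ s, g i).hom.hom = ∑ i ∈ s, (g i).hom.hom :=
  map_sum (homAdd V W) g s

noncomputable def ci {V : FGModuleCat.{u} K} {n : ℕ} (b : Module.Basis (Fin n) K V) (i : Fin n) :
    V ⟶ FGModuleCat.of K K :=
  ConcreteCategory.ofHom (C := FGModuleCat.{u} K) (b.coord i)

theorem ci_hom_hom {V : FGModuleCat.{u} K} {n : ℕ} (b : Module.Basis (Fin n) K V) (i : Fin n) :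
    (ci b i).hom.hom = b.coord i := rfl

theorem sum_ci_fv {V : FGModuleCat.{u} K} {n : ℕ} (b : Module.Basis (Fin n) K V) :
    ∑ i, ci b i ≫ fv (b i) = 𝟙 V := by
  apply FGModuleCat.hom_ext
  rw [sum_hom_hom]
  ext v
  simp only [FGModuleCat.hom_hom_comp, fv_hom_hom, ci_hom_hom, LinearMap.sum_apply,
    LinearMap.comp_apply, LinearMap.toSpanSingleton_apply, FGModuleCat.hom_hom_id, LinearMap.id_apply]
  exact b.sum_repr v

theorem fv_ci {V : FGModuleCat.{u} K} {n : ℕ} (b : Module.Basis (Fin n) K V) (i : Fin n) (v : V) :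
    fv v ≫ ci b i = (b.coord i v) • 𝟙 (FGModuleCat.of K K) := by
  apply FGModuleCat.hom_ext
  rw [FGModuleCat.hom_hom_comp, fv_hom_hom, ci_hom_hom, fg_smul_hom, ModuleCat.hom_smul,
    FGModuleCat.hom_hom_id]
  ext
  simp

theorem ηlin_surj (V : FGModuleCat.{u} K) : Function.Surjective (ηlin L V) := by
  intro y
  let b := Module.finBasis K V
  refine ⟨∑ i, (L.map (ci b i)).hom y ⊗ₜ[K] b i, ?_⟩
  rw [map_sum]
  simp only [ηlin_tmul]
  have h : ∀ i, (L.map (fv (b i))).hom ((L.map (ci b i)).hom y) =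
      (L.map (ci b i ≫ fv (b i))).hom y := by
    intro i
    rw [L.map_comp]
    rfl
  simp only [h]
  have h2 : ∑ i, (L.map (ci b i ≫ fv (b i))).hom y = (L.map (∑ i, ci b i ≫ fv (b i))).hom y := by
    rw [L.map_sum, ModuleCat.hom_sum, LinearMap.sum_apply]
  rw [h2, sum_ci_fv, L.map_id]
  rfl

theorem ηlin_inj (V : FGModuleCat.{u} K) : Function.Injective (ηlin L V) := by
  let b := Module.finBasis K V
  let inv : L.obj V →ₗ[K] (L.obj (FGModuleCat.of K K)) ⊗[K] V :=
    ∑ i, ((TensorProduct.mk K (L.obj (FGModuleCat.of K K)) V).flip (b i)).comp (L.map (ci b i)).hom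
  have hinv : inv.comp (ηlin L V) = LinearMap.id := by
    apply TensorProduct.ext'
    intro x v
    simp only [LinearMap.comp_apply, ηlin_tmul, LinearMap.id_apply, inv, LinearMap.sum_apply,
      LinearMap.flip_apply, TensorProduct.mk_apply]
    have h : ∀ i, (L.map (ci b i)).hom ((L.map (fv v)).hom x) = (b.coord i v) • x := by
      intro i
      have : (L.map (ci b i)).hom ((L.map (fv v)).hom x) = (L.map (fv v ≫ ci b i)).hom x := by
        rw [L.map_comp]
        rfl
      rw [this, fv_ci, L.map_smul, L.map_id, ModuleCat.hom_smul]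
      rfl
    simp only [h, TensorProduct.smul_tmul, ← TensorProduct.tmul_sum]
    congr 1
    exact b.sum_repr v
  intro a a' haa'
  have := congrArg inv haa'
  rw [← LinearMap.comp_apply, ← LinearMap.comp_apply, hinv] at this
  exact this

/-- A K-linear functor L from finite-dimensional K-vector spaces to K-vector spaces (K a field) is
isomorphic to the functor V ↦ L(K) ⊗_K V. (Existence of an isomorphism of functors, which is how the
published statement reads; the natural choice sends x ⊗ v to L(f_v)(x) with f_v : K → V, 1 ↦ v.) -/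
theorem result (K : Type u) [Field K]
    (L : FGModuleCat.{u} K ⥤ ModuleCat.{u} K) [L.Additive] [Functor.Linear K L] :
    Nonempty (L ≅ (ModuleCat.isFG.{u} K).ι ⋙ MonoidalCategory.tensorLeft (L.obj (FGModuleCat.of K K))) := by
  refine ⟨(NatIso.ofComponents (fun V =>
    (LinearEquiv.ofBijective (ηlin L V) ⟨ηlin_inj L V, ηlin_surj L V⟩).toModuleIso) ?_).symm⟩
  intro V W g
  apply ModuleCat.hom_ext
  apply TensorProduct.ext'
  intro x v
  have hL : (ModuleCat.Hom.hom (((ModuleCat.isFG K).ι ⋙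
      MonoidalCategory.tensorLeft (L.obj (FGModuleCat.of K K))).map g)) (x ⊗ₜ[K] v) =
      x ⊗ₜ[K] (g.hom.hom v) := rfl
  rw [ModuleCat.hom_comp, ModuleCat.hom_comp, LinearMap.comp_apply, LinearMap.comp_apply, hL]
  show ηlin L W (x ⊗ₜ (g.hom.hom v)) = (L.map g).hom (ηlin L V (x ⊗ₜ v))
  rw [ηlin_tmul, ηlin_tmul, ← fv_comp, L.map_comp]
  rfl

end Groth.Agent.S12754
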