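import Groth.Statements.S1276
import Mathlib.RingTheory.LocalRing.Module
import Mathlib.RingTheory.Flat.FaithfullyFlat.Basic
import Mathlib.RingTheory.FiniteStability
import Mathlib.RingTheory.LocalRing.ResidueField.Ideal
import Mathlib.RingTheory.Spectrum.Prime.Module
-- import your own Groth.Agent.* helpers here

set_option autoImplicit false
universe u
open FlatMor

namespace Groth.Agent.S1276

section
open TensorProduct

variable {B : Type u} [CommRing B] (N : Type u) [AddCommGroup N] [Module B N] [Module.Finite B N]

/-- Nakayama-type lemma: a field-valued point in the support gives a nonzero fibre. -/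
theorem nontrivial_tensor_of_mem_support (K : Type u) [Field K] [Algebra B K]
    (y : PrimeSpectrum B) (hy : y.asIdeal = RingHom.ker (algebraMap B K))
    (hsupp : y ∈ Module.support B N) : Nontrivial (K ⊗[B] N) := by
  let k := y.asIdeal.ResidueField
  have hf₁ : y.asIdeal ≤ RingHom.ker (algebraMap B K) := hy.le
  have hf₂ : y.asIdeal.primeCompl ≤ (IsUnit.submonoid K).comap (algebraMap B K) := by
    intro b hb
    change IsUnit (algebraMap B K b)
    rw [isUnit_iff_ne_zero]
    intro h0
    apply hb
    change b ∈ y.asIdeal
    rw [hy]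
    exact h0
  let ψ : k →+* K := Ideal.ResidueField.lift y.asIdeal (algebraMap B K) hf₁ hf₂
  letI : Algebra k K := ψ.toAlgebra
  haveI : IsScalarTower B k K := IsScalarTower.of_algebraMap_eq (fun b => by
    change algebraMap B K b = ψ (algebraMap B k b)
    exact (Ideal.ResidueField.lift_algebraMap y.asIdeal (algebraMap B K) hf₁ hf₂ b).symm)
  have h1 : Nontrivial (k ⊗[B] N) :=
    (Module.mem_support_iff_nontrivial_residueField_tensorProduct y).mp hsupp
  have e : K ⊗[k] (k ⊗[B] N) ≃ₗ[K] K ⊗[B] N :=
    AlgebraTensorModule.cancelBaseChange B k K K N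
  have h2 : Nontrivial (K ⊗[k] (k ⊗[B] N)) :=
    (Module.FaithfullyFlat.nontrivial_tensorProduct_iff_right k K).mpr h1
  exact e.toEquiv.symm.nontrivial

variable {F : Type u} [CommRing F] [Algebra B F]

theorem nontrivial_of_comap_mem_support (K : Type u) [Field K] [Algebra F K] [Algebra B K]
    [IsScalarTower B F K] (x : PrimeSpectrum F)
    (hx : ∀ f : F, algebraMap F K f = 0 ↔ f ∈ x.asIdeal)
    (hy : PrimeSpectrum.comap (algebraMap B F) x ∈ Module.support B N) :
    Nontrivial (K ⊗[F] (F ⊗[B] N)) := by
  have hker : (PrimeSpectrum.comap (algebraMap B F) x).asIdeal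
      = RingHom.ker (algebraMap B K) := by
    ext b
    change algebraMap B F b ∈ x.asIdeal ↔ algebraMap B K b = 0
    rw [IsScalarTower.algebraMap_apply B F K, hx]
  have h1 := nontrivial_tensor_of_mem_support N K _ hker hy
  have e : K ⊗[F] (F ⊗[B] N) ≃ₗ[K] K ⊗[B] N :=
    AlgebraTensorModule.cancelBaseChange B F K K N
  exact e.toEquiv.nontrivial

theorem mem_support_baseChange_iff (x : PrimeSpectrum F) :
    x ∈ Module.support F (F ⊗[B] N) ↔
      PrimeSpectrum.comap (algebraMap B F) x ∈ Module.support B N := by
  constructor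
  · intro hx
    rw [Module.support_eq_zeroLocus, PrimeSpectrum.mem_zeroLocus]
    have h1 := Module.annihilator_le_of_mem_support hx
    intro a ha
    change algebraMap B F a ∈ x.asIdeal
    apply h1
    rw [Module.mem_annihilator]
    intro t
    induction t using TensorProduct.induction_on with
    | zero => simp
    | tmul f n =>
      rw [TensorProduct.smul_tmul', smul_eq_mul, ← Algebra.smul_def]
      have h0 : a • n = 0 := by
        have := (Module.mem_annihilator.mp ha) n
        exact this
      rw [TensorProduct.smul_tmul, h0, TensorProduct.tmul_zero]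
    | add t₁ t₂ h₁ h₂ => rw [smul_add, h₁, h₂, add_zero]
  · intro hy
    letI : Algebra B x.asIdeal.ResidueField :=
      ((algebraMap F x.asIdeal.ResidueField).comp (algebraMap B F)).toAlgebra
    haveI : IsScalarTower B F x.asIdeal.ResidueField :=
      IsScalarTower.of_algebraMap_eq (fun _ => rfl)
    have h2 := nontrivial_of_comap_mem_support N x.asIdeal.ResidueField x
      (fun f => Ideal.algebraMap_residueField_eq_zero) hy
    exact (Module.mem_support_iff_nontrivial_residueField_tensorProduct x).mpr h2

omit [Module.Finite B N] in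
theorem exists_fg_le_map_eq [IsNoetherianRing F] (I : Ideal B) :
    ∃ J : Ideal B, J.FG ∧ J ≤ I ∧ J.map (algebraMap B F) = I.map (algebraMap B F) := by
  classical
  have hfg : (I.map (algebraMap B F)).FG := IsNoetherian.noetherian _
  change (Submodule.span F ((algebraMap B F) '' (I : Set B))).FG at hfg
  rw [Submodule.fg_span_iff_fg_span_finset_subset] at hfg
  obtain ⟨s', hs', hspan⟩ := hfg
  obtain ⟨t, ht, rfl⟩ := Finset.subset_set_image_iff.mp hs'
  refine ⟨Ideal.span (t : Set B), ⟨t, rfl⟩, Ideal.span_le.mpr ht, ?_⟩
  rw [Ideal.map_span]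
  change _ = Submodule.span F ((algebraMap B F) '' (I : Set B))
  rw [hspan, Finset.coe_image]

end

/-- Let B be a finite type A-algebra, N a finite B-module and p a prime of A. Then there is a finitely
generated ideal J of B annihilating N (so N is a module on the finitely presented closed subscheme
V(J) of Spec B) such that a point of the fibre Spec(κ(p) ⊗ B) lies in V(J) if and only if it lies in
the support of the fibre module of N. -/
theorem result {A B : Type u} [CommRing A] [CommRing B] [Algebra A B] [Algebra.FiniteType A B]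
    (N : Type u) [AddCommGroup N] [Module B N] [Module A N] [IsScalarTower A B N] [Module.Finite B N] (p : Ideal A) [p.IsPrime] :
    ∃ J : Ideal B, J.FG ∧ J ≤ Module.annihilator B N ∧
      ∀ x : PrimeSpectrum (p.Fiber B), FlatCA.fiberIdeal p J ≤ x.asIdeal ↔ x ∈ Module.support (p.Fiber B) (FlatCA.fiberMod p B N) := by
  letI : Algebra B (p.Fiber B) := Algebra.TensorProduct.rightAlgebra
  haveI : IsNoetherianRing (p.Fiber B) :=
    Algebra.FiniteType.isNoetherianRing p.ResidueField (p.Fiber B)
  obtain ⟨J, hJfg, hJle, hJmap⟩ :=
    exists_fg_le_map_eq (F := p.Fiber B) (Module.annihilator B N)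
  refine ⟨J, hJfg, hJle, ?_⟩
  intro x
  have h1 : FlatCA.fiberIdeal p J = J.map (algebraMap B (p.Fiber B)) := rfl
  rw [h1, hJmap]
  have h2 : x ∈ Module.support (p.Fiber B) (FlatCA.fiberMod p B N) ↔
      PrimeSpectrum.comap (algebraMap B (p.Fiber B)) x ∈ Module.support B N :=
    mem_support_baseChange_iff N x
  rw [h2, Module.support_eq_zeroLocus, PrimeSpectrum.mem_zeroLocus, Ideal.map_le_iff_le_comap]
  rfl

end Groth.Agent.S1276
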