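import Groth.Statements.S6919
import Mathlib
import Groth.Agent.S6918
import Groth.Agent.Lib.Helper35.TensorPrime

set_option autoImplicit false
universe u
open FlatMor

namespace Groth.Agent.S6919

open TensorProduct

set_option linter.style.haveILetI false
set_option linter.unusedSectionVars false

/-- Descent of flatness (over a third ring) along a faithfully flat algebra. -/
theorem flat_of_faithfullyFlat_tensor {R A T N : Type u} [CommRing R] [CommRing A] [Algebra R A]
    [CommRing T] [Algebra A T] [Algebra R T] [IsScalarTower R A T]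
    [Module.FaithfullyFlat A T] [AddCommGroup N] [Module A N] [Module R N] [IsScalarTower R A N]
    (h : Module.Flat R (T ⊗[A] N)) : Module.Flat R N := by
  rw [Module.Flat.iff_lTensor_preserves_injective_linearMap]
  intro X Y _ _ _ _ i hi
  let φ : N ⊗[R] X →ₗ[A] N ⊗[R] Y := AlgebraTensorModule.lTensor A N i
  change Function.Injective φ
  rw [← Module.FaithfullyFlat.lTensor_injective_iff_injective A T]
  have e : LinearMap.lTensor T φ =
      ((AlgebraTensorModule.assoc R A A T N Y).toLinearMap ∘ₗ
        (AlgebraTensorModule.lTensor A (T ⊗[A] N) i) ∘ₗ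
        (AlgebraTensorModule.assoc R A A T N X).symm.toLinearMap) := by
    ext
    simp [φ]
  rw [e]
  simp only [LinearMap.coe_comp, LinearEquiv.coe_coe, EquivLike.comp_injective,
    EquivLike.injective_comp]
  exact Module.Flat.lTensor_preserves_injective_linearMap i hi

theorem flat_loc_pushout {R S R' S' : Type u} [CommRing R] [CommRing S] [CommRing R'] [CommRing S']
    [Algebra R S] [Algebra R R'] [Algebra S S'] [Algebra R' S'] [Algebra R S'] [IsScalarTower R S S']
    [IsScalarTower R R' S'] [Algebra.IsPushout R S R' S']
    (p' : Ideal R') [p'.IsPrime] (hflat : Module.Flat R (Localization.AtPrime p')) :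
    Module.Flat S (Localization (Algebra.algebraMapSubmonoid S' p'.primeCompl)) := by
  have h1 : Algebra.IsPushout R' S' (Localization.AtPrime p')
      (Localization (Algebra.algebraMapSubmonoid S' p'.primeCompl)) :=
    Algebra.isPushout_of_isLocalization p'.primeCompl _ _ _
  have h2 : Algebra.IsPushout R R' S S' := Algebra.IsPushout.symm inferInstance
  have i0 : IsScalarTower R R' (Localization (Algebra.algebraMapSubmonoid S' p'.primeCompl)) :=
    inferInstance
  have i1 : IsScalarTower R (Localization.AtPrime p')
      (Localization (Algebra.algebraMapSubmonoid S' p'.primeCompl)) :=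
    IsScalarTower.of_algebraMap_eq' (by
      rw [IsScalarTower.algebraMap_eq R R' (Localization (Algebra.algebraMapSubmonoid S' p'.primeCompl)),
        IsScalarTower.algebraMap_eq R' (Localization.AtPrime p')
          (Localization (Algebra.algebraMapSubmonoid S' p'.primeCompl)),
        RingHom.comp_assoc, ← IsScalarTower.algebraMap_eq R R' (Localization.AtPrime p')])
  have h3 : Algebra.IsPushout R (Localization.AtPrime p') S
      (Localization (Algebra.algebraMapSubmonoid S' p'.primeCompl)) :=
    (Algebra.IsPushout.comp_iff R R' S S' (T := Localization.AtPrime p')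
      (T' := Localization (Algebra.algebraMapSubmonoid S' p'.primeCompl))).mpr h1.symm
  have h4 := h3.symm
  exact Module.Flat.isBaseChange R S (Localization.AtPrime p') _ h4.out

theorem flat_atPrime_pushout {R S R' S' : Type u} [CommRing R] [CommRing S] [CommRing R'] [CommRing S']
    [Algebra R S] [Algebra R R'] [Algebra S S'] [Algebra R' S'] [Algebra R S'] [IsScalarTower R S S']
    [IsScalarTower R R' S'] [Algebra.IsPushout R S R' S']
    (p' : Ideal R') [p'.IsPrime] (hflat : Module.Flat R (Localization.AtPrime p'))
    (q' : Ideal S') [q'.IsPrime] (hq' : q'.comap (algebraMap R' S') = p') :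
    Module.Flat S (Localization.AtPrime q') := by
  have hL : Module.Flat S (Localization (Algebra.algebraMapSubmonoid S' p'.primeCompl)) :=
    flat_loc_pushout (R := R) (S := S) p' hflat
  have hW : Algebra.algebraMapSubmonoid S' p'.primeCompl ≤ q'.primeCompl := by
    rintro _ ⟨t, ht, rfl⟩
    intro hmem
    apply ht
    rw [← hq']
    exact hmem
  let f₁ : S' →ₗ[S'] Localization (Algebra.algebraMapSubmonoid S' p'.primeCompl) :=
    Algebra.linearMap S' _
  let f₂ : S' →ₗ[S'] Localization.AtPrime q' := Algebra.linearMap S' _
  let ψ := IsLocalizedModule.liftOfLE (Algebra.algebraMapSubmonoid S' p'.primeCompl)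
    q'.primeCompl hW f₁ f₂
  have : IsLocalizedModule q'.primeCompl ψ := inferInstance
  exact Groth.Agent.S6918.flat_of_isLocalizedModule q'.primeCompl ψ

theorem exists_prime_pushout {R S R' S' : Type u} [CommRing R] [CommRing S] [CommRing R'] [CommRing S']
    [Algebra R S] [Algebra R R'] [Algebra S S'] [Algebra R' S'] [Algebra R S'] [IsScalarTower R S S']
    [IsScalarTower R R' S'] [Algebra.IsPushout R S R' S']
    (q : Ideal S) [q.IsPrime] (p' : Ideal R') [p'.IsPrime]
    (h : q.comap (algebraMap R S) = p'.comap (algebraMap R R')) :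
    ∃ q' : Ideal S', q'.IsPrime ∧ q'.comap (algebraMap S S') = q ∧
      q'.comap (algebraMap R' S') = p' := by
  obtain ⟨𝔮, h𝔮, h1, h2⟩ := Groth.Agent.Lib.Helper35.exists_prime_tensor q p' h
  let e : S ⊗[R] R' ≃ₐ[S] S' := Algebra.IsPushout.equiv R S R' S'
  refine ⟨𝔮.comap (e.symm : S' →+* S ⊗[R] R'), Ideal.comap_isPrime _ _, ?_, ?_⟩
  · rw [Ideal.comap_comap, ← h1]
    congr 1
    ext s
    simp [e]
  · rw [Ideal.comap_comap, ← h2]
    congr 1
    ext s
    simp [e, Algebra.IsPushout.equiv_symm_algebraMap_right]

theorem isScalarTower_mid {X Y T P : Type*} [CommSemiring X] [CommSemiring Y] [CommSemiring T]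
    [Algebra X Y] [Algebra Y T] [Algebra X T] [IsScalarTower X Y T] [AddCommMonoid P]
    [Module X P] [Module Y P] [Module T P] [IsScalarTower X T P] [IsScalarTower Y T P] :
    IsScalarTower X Y P :=
  ⟨fun x y p => by
    rw [← algebraMap_smul T (x • y) p, ← algebraMap_smul T y p,
      ← algebraMap_smul T x ((algebraMap Y T y) • p), Algebra.smul_def, map_mul, mul_smul,
      ← IsScalarTower.algebraMap_apply]⟩

/-- Let `R → S` be a ring map, `J ⊆ S` an ideal, `M` an `S`-module and `I ⊆ R` an ideal; let `R → R'` be
a ring map and `I' ⊆ R'` an ideal containing `IR'`, and put `S' = S ⊗_R R'`, `M' = M ⊗_R R'`. Assume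
that every prime of `R` containing `I` is the contraction of a prime of `R'` containing `I'`, and
that `R'_{𝔭'}` is flat over `R` for every prime `𝔭' ⊇ I'`. If `M'_{𝔮'}` is flat over `R'` for every
prime `𝔮' ⊇ I'S' + JS'` of `S'`, then `M_𝔮` is flat over `R` for every prime `𝔮 ⊇ IS + J` of `S`.
(The published statement descends from a pair `(R'', I'')` to an arbitrary pair `(R', I')` over `R`;
this row takes `(R', I') = (R, I)`.) -/
theorem result {R S R' S' : Type u} [CommRing R] [CommRing S] [CommRing R'] [CommRing S']
    [Algebra R S] [Algebra R R'] [Algebra S S'] [Algebra R' S'] [Algebra R S'] [IsScalarTower R S S']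
    [IsScalarTower R R' S'] [Algebra.IsPushout R S R' S']
    (I : Ideal R) (I' : Ideal R') (hII' : I.map (algebraMap R R') ≤ I')
    {M M' : Type u} [AddCommGroup M] [Module S M] [Module R M] [IsScalarTower R S M]
    [AddCommGroup M'] [Module S' M'] [Module R' M'] [IsScalarTower R' S' M'] [Module S M'] [IsScalarTower S S' M']
    (f : M →ₗ[S] M') (hf : IsBaseChange S' f) (J : Ideal S)
    (hsurj : ∀ (p : Ideal R) [p.IsPrime], I ≤ p → ∃ (p' : Ideal R') (_ : p'.IsPrime), I' ≤ p' ∧ p'.comap (algebraMap R R') = p)
    (hflat : ∀ (p' : Ideal R') [p'.IsPrime], I' ≤ p' → Module.Flat R (Localization.AtPrime p'))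
    (h : (∀ (q : Ideal S') [q.IsPrime], I'.map (algebraMap R' S') ⊔ J.map (algebraMap S S') ≤ q → FlatCA.FlatAt R' q M')) :
    (∀ (q : Ideal S) [q.IsPrime], I.map (algebraMap R S) ⊔ J ≤ q → FlatCA.FlatAt R q M) := by
  intro q hqprime hq
  unfold FlatCA.FlatAt
  have hIp : I ≤ q.comap (algebraMap R S) := by
    intro r hr
    rw [Ideal.mem_comap]
    exact hq (Ideal.mem_sup_left (Ideal.mem_map_of_mem _ hr))
  obtain ⟨p', hp'prime, hI'p', hp'p⟩ := hsurj (q.comap (algebraMap R S)) hIp
  obtain ⟨q', hq'prime, hq'S, hq'R'⟩ :=
    exists_prime_pushout (R := R) (S' := S') q p' hp'p.symm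
  have hle' : I'.map (algebraMap R' S') ⊔ J.map (algebraMap S S') ≤ q' := by
    refine sup_le ?_ ?_
    · rw [Ideal.map_le_iff_le_comap, hq'R']
      exact hI'p'
    · rw [Ideal.map_le_iff_le_comap, hq'S]
      exact le_trans le_sup_right hq
  have hP : Module.Flat R' (LocalizedModule q'.primeCompl M') := h q' hle'
  have hflatp' : Module.Flat R (Localization.AtPrime p') := hflat p' hI'p'
  -- algebra structures between the local rings
  haveI : q'.LiesOver q := ⟨hq'S.symm⟩
  haveI : q'.LiesOver p' := ⟨hq'R'.symm⟩
  letI algAT : Algebra (Localization.AtPrime q) (Localization.AtPrime q') :=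
    Localization.AtPrime.algebraOfLiesOver q q'
  letI algRT : Algebra (Localization.AtPrime p') (Localization.AtPrime q') :=
    Localization.AtPrime.algebraOfLiesOver p' q'
  have hTS : Module.Flat S (Localization.AtPrime q') :=
    flat_atPrime_pushout (R := R) p' hflatp' q' hq'R'
  have hTA : Module.Flat (Localization.AtPrime q) (Localization.AtPrime q') :=
    (Module.flat_iff_of_isLocalization (Localization.AtPrime q) q.primeCompl _).mpr hTS
  haveI : IsLocalHom (algebraMap (Localization.AtPrime q) (Localization.AtPrime q')) :=
    Localization.isLocalHom_localRingHom q q' (algebraMap S S') Ideal.LiesOver.over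
  haveI : Module.FaithfullyFlat (Localization.AtPrime q) (Localization.AtPrime q') :=
    Module.FaithfullyFlat.of_flat_of_isLocalHom
  apply flat_of_faithfullyFlat_tensor (A := Localization.AtPrime q) (T := Localization.AtPrime q')
  -- module structures on `P = M'_{q'}` by restriction from `T = S'_{q'}`
  letI modA : Module (Localization.AtPrime q) (LocalizedModule q'.primeCompl M') :=
    Module.compHom _ (algebraMap (Localization.AtPrime q) (Localization.AtPrime q'))
  haveI towA : IsScalarTower (Localization.AtPrime q) (Localization.AtPrime q')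
      (LocalizedModule q'.primeCompl M') :=
    ⟨fun a t x => by
      change (a • t) • x = (algebraMap _ (Localization.AtPrime q') a) • (t • x)
      rw [Algebra.smul_def, mul_smul]⟩
  letI modR : Module R (LocalizedModule q'.primeCompl M') :=
    Module.compHom _ (algebraMap R (Localization.AtPrime q'))
  haveI towR : IsScalarTower R (Localization.AtPrime q') (LocalizedModule q'.primeCompl M') :=
    ⟨fun a t x => by
      change (a • t) • x = (algebraMap _ (Localization.AtPrime q') a) • (t • x)
      rw [Algebra.smul_def, mul_smul]⟩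
  letI modRp : Module (Localization.AtPrime p') (LocalizedModule q'.primeCompl M') :=
    Module.compHom _ (algebraMap (Localization.AtPrime p') (Localization.AtPrime q'))
  haveI towRp : IsScalarTower (Localization.AtPrime p') (Localization.AtPrime q')
      (LocalizedModule q'.primeCompl M') :=
    ⟨fun a t x => by
      change (a • t) • x = (algebraMap _ (Localization.AtPrime q') a) • (t • x)
      rw [Algebra.smul_def, mul_smul]⟩
  haveI tow1 : IsScalarTower S (Localization.AtPrime q) (LocalizedModule q'.primeCompl M') :=
    isScalarTower_mid (T := Localization.AtPrime q')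
  haveI tow2 : IsScalarTower R' (Localization.AtPrime p') (LocalizedModule q'.primeCompl M') :=
    isScalarTower_mid (T := Localization.AtPrime q')
  haveI tow3 : IsScalarTower R (Localization.AtPrime p') (LocalizedModule q'.primeCompl M') :=
    isScalarTower_mid (T := Localization.AtPrime q')
  -- `P` is flat over `R`
  have hP1 : Module.Flat (Localization.AtPrime p') (LocalizedModule q'.primeCompl M') :=
    (Module.flat_iff_of_isLocalization (Localization.AtPrime p') p'.primeCompl _).mpr hP
  have hP2 : Module.Flat R (LocalizedModule q'.primeCompl M') :=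
    Module.Flat.trans R (Localization.AtPrime p') _
  -- `P` is the base change of `M_q` along `S_q → S'_{q'}`
  let g₁ : M →ₗ[S] LocalizedModule q.primeCompl M := LocalizedModule.mkLinearMap q.primeCompl M
  have hg₁ : IsBaseChange (Localization.AtPrime q) g₁ := LocalizedModule.isBaseChange q.primeCompl M
  let g₂ : M' →ₗ[S'] LocalizedModule q'.primeCompl M' := LocalizedModule.mkLinearMap q'.primeCompl M'
  have hg₂ : IsBaseChange (Localization.AtPrime q') g₂ :=
    LocalizedModule.isBaseChange q'.primeCompl M'
  have hc : IsBaseChange (Localization.AtPrime q') ((g₂.restrictScalars S).comp f) :=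
    IsBaseChange.comp hf hg₂
  let g₃ : LocalizedModule q.primeCompl M →ₗ[Localization.AtPrime q]
      LocalizedModule q'.primeCompl M' := hg₁.lift ((g₂.restrictScalars S).comp f)
  have hg₃ : IsBaseChange (Localization.AtPrime q') g₃ := by
    apply IsBaseChange.of_comp hg₁
    have : (g₃ : LocalizedModule q.primeCompl M →ₗ[S] LocalizedModule q'.primeCompl M') ∘ₗ g₁ =
        (g₂.restrictScalars S).comp f := hg₁.lift_comp _
    rw [this]
    exact hc
  exact Module.Flat.of_linearEquiv (hg₃.equiv.restrictScalars R)

end Groth.Agent.S6919
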