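import Groth.Statements.S1277
import Mathlib
import Groth.Agent.S6919

set_option autoImplicit false
universe u
open FlatMor

namespace Groth.Agent.S1277

open TensorProduct

set_option linter.style.haveILetI false
set_option linter.unusedSectionVars false

/-- Flatness over a third ring is preserved by tensoring with a flat algebra. -/
theorem flat_tensor_of_flat {R A T N : Type u} [CommRing R] [CommRing A] [Algebra R A]
    [CommRing T] [Algebra A T] [Algebra R T] [IsScalarTower R A T]
    [Module.Flat A T] [AddCommGroup N] [Module A N] [Module R N] [IsScalarTower R A N]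
    (h : Module.Flat R N) : Module.Flat R (T ⊗[A] N) := by
  rw [Module.Flat.iff_lTensor_preserves_injective_linearMap]
  intro X Y _ _ _ _ i hi
  let φ : N ⊗[R] X →ₗ[A] N ⊗[R] Y := AlgebraTensorModule.lTensor A N i
  have hφ : Function.Injective φ := Module.Flat.lTensor_preserves_injective_linearMap i hi
  have hTφ : Function.Injective (LinearMap.lTensor T φ) :=
    Module.Flat.lTensor_preserves_injective_linearMap φ hφ
  have e : LinearMap.lTensor T φ =
      ((AlgebraTensorModule.assoc R A A T N Y).toLinearMap ∘ₗ
        (AlgebraTensorModule.lTensor A (T ⊗[A] N) i) ∘ₗ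
        (AlgebraTensorModule.assoc R A A T N X).symm.toLinearMap) := by
    ext
    simp [φ]
  rw [e] at hTφ
  simp only [LinearMap.coe_comp, LinearEquiv.coe_coe, EquivLike.comp_injective,
    EquivLike.injective_comp] at hTφ
  exact hTφ

/-- Flatness at `q` of `M'` is equivalent to flatness at `Q` of the flat base change `N'`. -/
theorem flat_loc_iff {A' B' C' : Type u} [CommRing A'] [CommRing B'] [CommRing C'] [Algebra A' B']
    [Algebra B' C'] [Algebra A' C'] [IsScalarTower A' B' C'] [Module.Flat B' C']
    (M' N' : Type u) [AddCommGroup M'] [AddCommGroup N'] [Module B' M'] [Module A' M']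
    [IsScalarTower A' B' M'] [Module C' N'] [Module B' N'] [IsScalarTower B' C' N'] [Module A' N']
    [IsScalarTower A' C' N'] (h : M' →ₗ[B'] N') (hh : IsBaseChange C' h)
    (q : Ideal B') [q.IsPrime] (Q : Ideal C') [Q.IsPrime] (hQq : Q.comap (algebraMap B' C') = q) :
    Module.Flat A' (LocalizedModule q.primeCompl M') ↔
      Module.Flat A' (LocalizedModule Q.primeCompl N') := by
  haveI : Q.LiesOver q := ⟨hQq.symm⟩
  letI algAT : Algebra (Localization.AtPrime q) (Localization.AtPrime Q) :=
    Localization.AtPrime.algebraOfLiesOver q Q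
  have hTB : Module.Flat B' (Localization.AtPrime Q) := Module.Flat.trans B' C' _
  have hTA : Module.Flat (Localization.AtPrime q) (Localization.AtPrime Q) :=
    (Module.flat_iff_of_isLocalization (Localization.AtPrime q) q.primeCompl _).mpr hTB
  haveI : IsLocalHom (algebraMap (Localization.AtPrime q) (Localization.AtPrime Q)) :=
    Localization.isLocalHom_localRingHom q Q (algebraMap B' C') Ideal.LiesOver.over
  haveI : Module.FaithfullyFlat (Localization.AtPrime q) (Localization.AtPrime Q) :=
    Module.FaithfullyFlat.of_flat_of_isLocalHom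
  letI modA : Module (Localization.AtPrime q) (LocalizedModule Q.primeCompl N') :=
    Module.compHom _ (algebraMap (Localization.AtPrime q) (Localization.AtPrime Q))
  haveI towA : IsScalarTower (Localization.AtPrime q) (Localization.AtPrime Q)
      (LocalizedModule Q.primeCompl N') :=
    ⟨fun a t x => by
      change (a • t) • x = (algebraMap _ (Localization.AtPrime Q) a) • (t • x)
      rw [Algebra.smul_def, mul_smul]⟩
  haveI tow1 : IsScalarTower B' (Localization.AtPrime q) (LocalizedModule Q.primeCompl N') :=
    Groth.Agent.S6919.isScalarTower_mid (T := Localization.AtPrime Q)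
  let g₁ : M' →ₗ[B'] LocalizedModule q.primeCompl M' := LocalizedModule.mkLinearMap q.primeCompl M'
  have hg₁ : IsBaseChange (Localization.AtPrime q) g₁ := LocalizedModule.isBaseChange q.primeCompl M'
  let g₂ : N' →ₗ[C'] LocalizedModule Q.primeCompl N' := LocalizedModule.mkLinearMap Q.primeCompl N'
  have hg₂ : IsBaseChange (Localization.AtPrime Q) g₂ :=
    LocalizedModule.isBaseChange Q.primeCompl N'
  have hc : IsBaseChange (Localization.AtPrime Q) ((g₂.restrictScalars B').comp h) :=
    IsBaseChange.comp hh hg₂
  let g₃ : LocalizedModule q.primeCompl M' →ₗ[Localization.AtPrime q]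
      LocalizedModule Q.primeCompl N' := hg₁.lift ((g₂.restrictScalars B').comp h)
  have hg₃ : IsBaseChange (Localization.AtPrime Q) g₃ := by
    apply IsBaseChange.of_comp hg₁
    have : (g₃ : LocalizedModule q.primeCompl M' →ₗ[B'] LocalizedModule Q.primeCompl N') ∘ₗ g₁ =
        (g₂.restrictScalars B').comp h := hg₁.lift_comp _
    rw [this]
    exact hc
  constructor
  · intro hM
    have h1 : Module.Flat A' ((Localization.AtPrime Q) ⊗[Localization.AtPrime q]
        (LocalizedModule q.primeCompl M')) := flat_tensor_of_flat hM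
    exact Module.Flat.of_linearEquiv (hg₃.equiv.symm.restrictScalars A')
  · intro hN
    apply Groth.Agent.S6919.flat_of_faithfullyFlat_tensor (A := Localization.AtPrime q)
      (T := Localization.AtPrime Q)
    exact Module.Flat.of_linearEquiv (hg₃.equiv.restrictScalars A')

open IsLocalRing in

open IsLocalRing in
/-- Let A be a local ring, A → B a local homomorphism of local rings, B → C a flat local homomorphism of
local rings, M a B-module and N = M ⊗_B C. For every local homomorphism of local rings A → A', with
base changes B' = B ⊗_A A', M', C' = C ⊗_A A', N' (any models): M' is flat over A' at every prime of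
B' containing 𝔪_{A'}B' + 𝔪_B B' if and only if N' is flat over A' at every prime of C' containing
𝔪_{A'}C' + 𝔪_C C'. -/
theorem result {A B C : Type u} [CommRing A] [IsLocalRing A] [CommRing B] [IsLocalRing B] [CommRing C] [IsLocalRing C]
    [Algebra A B] [IsLocalHom (algebraMap A B)] [Algebra B C] [IsLocalHom (algebraMap B C)] [Algebra A C] [IsScalarTower A B C] [Module.Flat B C]
    (M : Type u) [AddCommGroup M] [Module B M] (N : Type u) [AddCommGroup N] [Module C N] [Module B N] [IsScalarTower B C N]
    (g : M →ₗ[B] N) (hg : IsBaseChange C g)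
    (A' : Type u) [CommRing A'] [IsLocalRing A'] [Algebra A A'] [IsLocalHom (algebraMap A A')]
    (B' M' : Type u) [CommRing B'] [Algebra B B'] [Algebra A' B'] [Algebra A B'] [IsScalarTower A B B'] [IsScalarTower A A' B']
        [Algebra.IsPushout A B A' B']
        [AddCommGroup M'] [Module B' M'] [Module B M'] [IsScalarTower B B' M'] [Module A' M'] [IsScalarTower A' B' M']
        (fB : M →ₗ[B] M') (hfB : IsBaseChange B' fB)
    (C' N' : Type u) [CommRing C'] [Algebra C C'] [Algebra A' C'] [Algebra A C'] [IsScalarTower A C C'] [IsScalarTower A A' C']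
        [Algebra.IsPushout A C A' C']
        [AddCommGroup N'] [Module C' N'] [Module C N'] [IsScalarTower C C' N'] [Module A' N'] [IsScalarTower A' C' N']
        (fC : N →ₗ[C] N') (hfC : IsBaseChange C' fC) :
    FlatCA.FlatAboveClosedPoints B A' B' M' ↔ FlatCA.FlatAboveClosedPoints C A' C' N' := by
  -- the map `B' → C'`
  letI algBC' : Algebra B C' := ((algebraMap C C').comp (algebraMap B C)).toAlgebra
  haveI tBCC' : IsScalarTower B C C' := IsScalarTower.of_algebraMap_eq (fun _ => rfl)
  haveI tABC' : IsScalarTower A B C' := IsScalarTower.of_algebraMap_eq (fun a => by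
    rw [IsScalarTower.algebraMap_apply A C C', IsScalarTower.algebraMap_apply A B C]
    rfl)
  let f₀ : B →ₐ[A] C' := IsScalarTower.toAlgHom A B C'
  let g₀ : A' →ₐ[A] C' := IsScalarTower.toAlgHom A A' C'
  let ψ : B' →ₐ[A] C' := Algebra.pushoutDesc B' f₀ g₀ (fun _ _ => mul_comm _ _)
  letI algB'C' : Algebra B' C' := ψ.toRingHom.toAlgebra
  have hψB : ∀ b : B, algebraMap B' C' (algebraMap B B' b) = algebraMap B C' b := fun b =>
    Algebra.pushoutDesc_left B' f₀ g₀ (fun _ _ => mul_comm _ _) b
  have hψA' : ∀ a : A', algebraMap B' C' (algebraMap A' B' a) = algebraMap A' C' a := fun a =>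
    Algebra.pushoutDesc_right B' f₀ g₀ (fun _ _ => mul_comm _ _) a
  haveI tBB'C' : IsScalarTower B B' C' := IsScalarTower.of_algebraMap_eq (fun b => (hψB b).symm)
  haveI tA'B'C' : IsScalarTower A' B' C' := IsScalarTower.of_algebraMap_eq (fun a => (hψA' a).symm)
  haveI tAB'C' : IsScalarTower A B' C' := IsScalarTower.of_algebraMap_eq (fun a => by
    rw [IsScalarTower.algebraMap_apply A A' B', hψA', ← IsScalarTower.algebraMap_apply])
  haveI hpo : Algebra.IsPushout B C B' C' :=
    (Algebra.IsPushout.comp_iff A B A' B' (T := C) (T' := C')).mp inferInstance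
  have hpo' : Algebra.IsPushout B B' C C' := hpo.symm
  -- `C'` is flat over `B'`
  haveI hflatB'C' : Module.Flat B' C' := by
    have e : B' ⊗[B] C ≃ₐ[B'] C' := Algebra.IsPushout.equiv B B' C C'
    exact Module.Flat.of_linearEquiv e.symm.toLinearEquiv
  -- `N'` as a `B'`-module and as a `B`-module
  letI modB'N' : Module B' N' := Module.compHom N' (algebraMap B' C')
  haveI tB'C'N' : IsScalarTower B' C' N' :=
    ⟨fun b c x => by
      change (b • c) • x = (algebraMap B' C' b) • (c • x)
      rw [Algebra.smul_def, mul_smul]⟩
  letI modBN' : Module B N' := Module.compHom N' (algebraMap B C')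
  haveI tBC'N' : IsScalarTower B C' N' :=
    ⟨fun b c x => by
      change (b • c) • x = (algebraMap B C' b) • (c • x)
      rw [Algebra.smul_def, mul_smul]⟩
  haveI tBCN' : IsScalarTower B C N' :=
    Groth.Agent.S6919.isScalarTower_mid (T := C')
  haveI tBB'N' : IsScalarTower B B' N' :=
    Groth.Agent.S6919.isScalarTower_mid (T := C')
  -- the base change map `M' → N'`
  let ρ : M →ₗ[B] N' := (fC.restrictScalars B) ∘ₗ g
  have hρ : IsBaseChange C' ρ := IsBaseChange.comp hg hfC
  let h : M' →ₗ[B'] N' := hfB.lift ρ
  have hh : IsBaseChange C' h := by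
    apply IsBaseChange.of_comp hfB
    have : (h : M' →ₗ[B] N') ∘ₗ fB = ρ := hfB.lift_comp ρ
    rw [this]
    exact hρ
  constructor
  · intro hB Q _ hQ
    have hq : (maximalIdeal A').map (algebraMap A' B') ⊔ (maximalIdeal B).map (algebraMap B B') ≤
        Q.comap (algebraMap B' C') := by
      rw [sup_le_iff, Ideal.map_le_iff_le_comap, Ideal.map_le_iff_le_comap]
      refine ⟨fun a ha => ?_, fun b hb => ?_⟩
      · change algebraMap B' C' (algebraMap A' B' a) ∈ Q
        rw [hψA']
        exact hQ (Ideal.mem_sup_left (Ideal.mem_map_of_mem _ ha))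
      · change algebraMap B' C' (algebraMap B B' b) ∈ Q
        rw [hψB]
        have hbc : algebraMap B C b ∈ maximalIdeal C := by
          rw [mem_maximalIdeal, mem_nonunits_iff] at hb ⊢
          intro hu
          exact hb (isUnit_of_map_unit (algebraMap B C) b hu)
        exact hQ (Ideal.mem_sup_right (Ideal.mem_map_of_mem (algebraMap C C') hbc))
    have h1 := hB (Q.comap (algebraMap B' C')) hq
    exact (flat_loc_iff M' N' h hh (Q.comap (algebraMap B' C')) Q rfl).mp h1
  · intro hC q _ hq
    rw [sup_le_iff, Ideal.map_le_iff_le_comap, Ideal.map_le_iff_le_comap] at hq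
    have hqB : q.comap (algebraMap B B') = maximalIdeal B :=
      le_antisymm (IsLocalRing.le_maximalIdeal (Ideal.comap_isPrime _ _).ne_top) hq.2
    have hmC : (maximalIdeal C).comap (algebraMap B C) = maximalIdeal B := by
      ext b
      rw [Ideal.mem_comap, mem_maximalIdeal, mem_maximalIdeal, mem_nonunits_iff, mem_nonunits_iff]
      exact not_congr (isUnit_map_iff (algebraMap B C) b)
    obtain ⟨Q, hQp, hQC, hQq⟩ := Groth.Agent.S6919.exists_prime_pushout (R := B) (S := C)
      (R' := B') (S' := C') (maximalIdeal C) q (hmC.trans hqB.symm)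
    haveI := hQp
    have hle : (maximalIdeal A').map (algebraMap A' C') ⊔ (maximalIdeal C).map (algebraMap C C') ≤
        Q := by
      rw [sup_le_iff, Ideal.map_le_iff_le_comap, Ideal.map_le_iff_le_comap]
      refine ⟨fun a ha => ?_, ?_⟩
      · change algebraMap A' C' a ∈ Q
        rw [← hψA']
        have : algebraMap A' B' a ∈ q := hq.1 ha
        rw [← hQq] at this
        exact this
      · rw [hQC]
    exact (flat_loc_iff M' N' h hh q Q hQq).mpr (hC Q hle)

end Groth.Agent.S1277
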