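import Groth.Statements.S15493
import Groth.Agent.Lib.Helper62.AlgSpMono
import Groth.Agent.Lib.Helper17.FaithfulThin
import Groth.Agent.Lib.Helper17.FibEquiv

set_option autoImplicit false
universe u
open CategoryTheory AlgebraicGeometry
open IsoNat

namespace Groth.Agent.S15493

open Groth.Agent.Lib.Helper17 Groth.Agent.Lib.Helper17.FP Groth.Agent.Lib.Helper17.FG
  Groth.Agent.Lib.Helper17.FT

theorem eq_aux {C : Type*} [Category C] {A A' B B' V : C} (hA : A' = A) (hB : B' = B) (cl : A ⟶ B)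
    (h₂ : B ⟶ V) (h₁ : A ⟶ V) (hc : cl ≫ h₂ = h₁) :
    (eqToHom hA ≫ cl ≫ eqToHom hB.symm) ≫ (eqToHom hB ≫ h₂) = eqToHom hA ≫ h₁ := by
  subst hA hB; simp [hc]

theorem eq_aux2 {C : Type*} [Category C] {A A' B B' : C} (hA : A' = A) (hB : B' = B) (cl : A ⟶ B) :
    eqToHom hA.symm ≫ (eqToHom hA ≫ cl ≫ eqToHom hB.symm) ≫ eqToHom hB = cl := by
  subst hA hB; simp

set_option backward.isDefEq.respectTransparency false in
set_option backward.isDefEq.respectTransparency.types false in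
/-- A functor over `(Sch/S)` from the category of a sheaf `F` to a slice `(Sch/U)` whose associated map of
sheaves `F ⟶ h_U` is a monomorphism is full. -/
theorem phi_full {S : Scheme.{u}} {F : AlgSp.Sp S} {U : Over S}
    (Φ : AlgSt.ofSp F ⥤ᵇ FibCat.overCat U) (hm : Mono (AlgSt.spMapOfOver Φ))
    (a₁ a₂ : (AlgSt.ofSp F).obj) (c : Φ.obj a₁ ⟶ Φ.obj a₂) :
    ∃ ψ : a₁ ⟶ a₂, Φ.map ψ = c := by
  have hmono : Mono (AlgSt.spMapOfOver Φ).hom :=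
    inferInstanceAs (Mono ((sheafToPresheaf _ _).map (AlgSt.spMapOfOver Φ)))
  rw [NatTrans.mono_iff_mono_app] at hmono
  have hinj := (mono_iff_injective _).mp (hmono (Opposite.op a₁.base))
  let t : a₁.base ⟶ a₂.base := eqToHom (Φ.w_obj a₁).symm ≫ c.left ≫ eqToHom (Φ.w_obj a₂)
  have ht : t ≫ AlgSt.secHom Φ a₂ = AlgSt.secHom Φ a₁ :=
    eq_aux (Φ.w_obj a₁).symm (Φ.w_obj a₂).symm c.left (Φ.obj a₂).hom (Φ.obj a₁).hom (Over.w c)
  have hsec : F.obj.map t.op a₂.sec = a₁.sec := by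
    apply hinj
    rw [NatTrans.naturality_apply]
    rw [AlgSt.spMapOfOver_app, AlgSt.spMapOfOver_app]
    apply ULift.ext
    exact ht
  refine ⟨⟨t, hsec⟩, ?_⟩
  apply Over.OverMorphism.ext
  have h2 : (Φ.map (⟨t, hsec⟩ : a₁ ⟶ a₂)).left =
      eqToHom (Φ.w_obj a₁) ≫ t ≫ eqToHom (Φ.w_obj a₂).symm :=
    IsHomLift.fac' (FibCat.overCat U).p ((AlgSt.ofSp F).p.map (⟨t, hsec⟩ : a₁ ⟶ a₂))
      (Φ.map (⟨t, hsec⟩ : a₁ ⟶ a₂))
  rw [h2]
  exact eq_aux2 (Φ.w_obj a₁).symm (Φ.w_obj a₂).symm c.left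

set_option backward.isDefEq.respectTransparency false in
set_option backward.isDefEq.respectTransparency.types false in
/-- If `(Sch/U) ×_𝒴 𝒴'` is equivalent to the category of a sheaf `F` with `F ⟶ h_U` a monomorphism, then the
first projection of the 2-fibre product is a full functor. -/
theorem fpFst_full {S : Scheme.{u}} {𝒴' 𝒴 : AlgSt.Cat S} {U : Over S} (y : FibCat.overCat U ⥤ᵇ 𝒴)
    (i : 𝒴' ⥤ᵇ 𝒴) (F : AlgSp.Sp S) (e : AlgSt.ofSp F ⥤ᵇ FibCat.fp y i) (he : FibCat.IsEquivOver e)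
    (hm : Mono (AlgSt.spMapOfOver (BasedFunctor.comp e (FibCat.fpFst y i))))
    (q₁ q₂ : (FibCat.fp y i).obj) (c : q₁.obj.fst ⟶ q₂.obj.fst) :
    ∃ θ : q₁ ⟶ q₂, θ.hom.fst = c := by
  obtain ⟨G, -, ⟨ε⟩⟩ := he
  let εq : ∀ q : (FibCat.fp y i).obj, e.obj (G.obj q) ≅ q := fun q =>
    ((BasedNatTrans.forgetful _ _).mapIso ε).app q
  let c' : (BasedFunctor.comp e (FibCat.fpFst y i)).obj (G.obj q₁) ⟶
      (BasedFunctor.comp e (FibCat.fpFst y i)).obj (G.obj q₂) :=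
    (εq q₁).hom.hom.fst ≫ c ≫ (εq q₂).inv.hom.fst
  obtain ⟨ψ, hψ⟩ := phi_full (BasedFunctor.comp e (FibCat.fpFst y i)) hm _ _ c'
  have hψ' : (e.map ψ).hom.fst = c' := hψ
  refine ⟨(εq q₁).inv ≫ e.map ψ ≫ (εq q₂).hom, ?_⟩
  have h1 : (εq q₁).inv.hom.fst ≫ (εq q₁).hom.hom.fst = 𝟙 _ := by
    rw [← comp_fst, Iso.inv_hom_id]; rfl
  have h2 : (εq q₂).inv.hom.fst ≫ (εq q₂).hom.hom.fst = 𝟙 _ := by
    rw [← comp_fst, Iso.inv_hom_id]; rfl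
  rw [comp_fst, comp_fst, hψ']
  simp only [c', Category.assoc, h2, Category.comp_id]
  rw [← Category.assoc, h1, Category.id_comp]

set_option backward.isDefEq.respectTransparency false in
set_option backward.isDefEq.respectTransparency.types false in
/-- An open immersion of categories over `(Sch/S)` is full on fibres (for isomorphisms). -/
theorem exists_lift_iso {S : Scheme.{u}} {𝒴' 𝒴 : AlgSt.Cat S} (h𝒴 : FibCat.IsFibGrpd 𝒴.p)
    (i : 𝒴' ⥤ᵇ 𝒴) (hi : AlgSt.IsOpenImm i) {T : Over S} (y₁ y₂ : 𝒴'.obj)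
    (hy₂ : 𝒴'.p.obj y₂ = T) (φ : i.obj y₁ ≅ i.obj y₂)
    (hφ : 𝒴.p.IsHomLift (𝟙 T) φ.hom) :
    ∃ b : y₁ ⟶ y₂, 𝒴'.p.IsHomLift (𝟙 T) b ∧ i.map b = φ.hom := by
  obtain ⟨y, ι, hι⟩ := exists_slice_functor h𝒴 (i.obj y₂) ((i.w_obj y₂).trans hy₂)
  obtain ⟨F, e, he, hP⟩ := hi T y
  have hm : Mono (AlgSt.spMapOfOver (BasedFunctor.comp e (FibCat.fpFst y i))) :=
    Groth.Agent.Lib.Helper62.mono_of_repWith @IsOpenImmersion (fun f hf => by
      have : IsOpenImmersion f := hf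
      infer_instance) _ hP
  have hφi : 𝒴.p.IsHomLift (𝟙 T) φ.inv := IsHomLift.lift_id_inv (p := 𝒴.p) T φ
  have hι₁ : 𝒴.p.IsHomLift (𝟙 T) (ι ≪≫ φ.symm).hom := by
    change 𝒴.p.IsHomLift (𝟙 T) (ι.hom ≫ φ.inv)
    infer_instance
  let q₂ : (FibCat.fp y i).obj := mkObj (F := y) (G := i) (Over.mk (𝟙 T) : Over T) y₂ ι hι
  let q₁ : (FibCat.fp y i).obj :=
    mkObj (F := y) (G := i) (Over.mk (𝟙 T) : Over T) y₁ (ι ≪≫ φ.symm) hι₁
  obtain ⟨θ, hθ⟩ := fpFst_full y i F.obj e he hm q₁ q₂ (𝟙 _)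
  refine ⟨θ.hom.snd, ?_, ?_⟩
  · refine isHomLift_snd_of_fst θ (𝟙 T) ?_
    rw [hθ]
    exact IsHomLift.id rfl
  · have hw : y.map θ.hom.fst ≫ ι.hom = (ι.hom ≫ φ.inv) ≫ i.map θ.hom.snd := θ.hom.w
    have e1 : y.map θ.hom.fst = 𝟙 _ := by
      rw [hθ]; exact y.toFunctor.map_id _
    rw [e1] at hw
    have hw' : ι.hom = ι.hom ≫ φ.inv ≫ i.map θ.hom.snd := by
      rw [← Category.assoc, ← hw]; exact (Category.id_comp _).symm
    have hw2 : φ.inv ≫ i.map θ.hom.snd = 𝟙 _ := by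
      have := congrArg (fun z => ι.inv ≫ z) hw'
      simpa using this.symm
    calc i.map θ.hom.snd = φ.hom ≫ (φ.inv ≫ i.map θ.hom.snd) := by simp
      _ = φ.hom := by rw [hw2, Category.comp_id]

set_option backward.isDefEq.respectTransparency false in
set_option backward.isDefEq.respectTransparency.types false in
theorem main_aux {S : Scheme.{u}} {𝒳 𝒴 𝒴' : AlgSt.Cat S} (f : 𝒳 ⥤ᵇ 𝒴) (i : 𝒴' ⥤ᵇ 𝒴)
    (hi : AlgSt.IsOpenImm i) (h𝒴g : FibCat.IsFibGrpd 𝒴.p) (h𝒴'g : FibCat.IsFibGrpd 𝒴'.p)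
    {T : Over S} (z₁ z₂ : (FibCat.fp f i).p.Fiber T)
    (a : z₁.1.obj.fst ≅ z₂.1.obj.fst) (ha : 𝒳.p.IsHomLift (𝟙 T) a.hom)
    (hT₁ : 𝒳.p.obj z₁.1.obj.fst = T) (hT₂ : 𝒳.p.obj z₂.1.obj.fst = T) :
    IsoNat.cls z₁ = IsoNat.cls z₂ := by
  have hz₁ : 𝒴.p.IsHomLift (𝟙 T) z₁.1.obj.iso.hom := by
    have h := iso_isHomLift z₁.1
    rw [hT₁] at h
    exact h
  have hz₂ : 𝒴.p.IsHomLift (𝟙 T) z₂.1.obj.iso.hom := by
    have h := iso_isHomLift z₂.1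
    rw [hT₂] at h
    exact h
  let φ : i.obj z₁.1.obj.snd ≅ i.obj z₂.1.obj.snd :=
    z₁.1.obj.iso.symm ≪≫ f.toFunctor.mapIso a ≪≫ z₂.1.obj.iso
  have hφ : 𝒴.p.IsHomLift (𝟙 T) φ.hom := by
    change 𝒴.p.IsHomLift (𝟙 T) (z₁.1.obj.iso.inv ≫ f.map a.hom ≫ z₂.1.obj.iso.hom)
    have h1 : 𝒴.p.IsHomLift (𝟙 T) z₁.1.obj.iso.inv := IsHomLift.lift_id_inv (p := 𝒴.p) T _
    have h2 : 𝒴.p.IsHomLift (𝟙 T) (f.map a.hom) := inferInstance
    infer_instance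
  have hy₂ : 𝒴'.p.obj z₂.1.obj.snd = T := (snd_obj z₂.1).trans hT₂
  obtain ⟨b, hb, hib⟩ := exists_lift_iso h𝒴g i hi _ _ hy₂ φ hφ
  have hbiso : IsIso b := isIso_of_lift_id h𝒴'g b hb
  have hai : 𝒳.p.IsHomLift (𝟙 T) a.inv := IsHomLift.lift_id_inv (p := 𝒳.p) T a
  have hw : f.map a.hom ≫ z₂.1.obj.iso.hom = z₁.1.obj.iso.hom ≫ i.map b := by
    rw [hib]
    simp [φ]
  have hw' : f.map a.inv ≫ z₁.1.obj.iso.hom = z₂.1.obj.iso.hom ≫ i.map (inv b) := by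
    have e1 : f.map a.inv ≫ f.map a.hom = 𝟙 _ := by
      rw [← f.toFunctor.map_comp, a.inv_hom_id]; exact f.toFunctor.map_id _
    have e2 : i.map b ≫ i.map (inv b) = 𝟙 _ := by
      rw [← i.toFunctor.map_comp, IsIso.hom_inv_id]; exact i.toFunctor.map_id _
    calc f.map a.inv ≫ z₁.1.obj.iso.hom
        = f.map a.inv ≫ (z₁.1.obj.iso.hom ≫ i.map b) ≫ i.map (inv b) := by
          rw [Category.assoc, e2, Category.comp_id]
      _ = f.map a.inv ≫ (f.map a.hom ≫ z₂.1.obj.iso.hom) ≫ i.map (inv b) := by rw [hw]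
      _ = z₂.1.obj.iso.hom ≫ i.map (inv b) := by
          rw [Category.assoc, ← Category.assoc (f.map a.inv), e1, Category.id_comp]
  let θ : z₁.1 ⟶ z₂.1 := mkHom a.hom b hw
  let θ' : z₂.1 ⟶ z₁.1 := mkHom a.inv (inv b) hw'
  have hθ : (FibCat.fp f i).p.IsHomLift (𝟙 T) θ := (isHomLift_iff_fst θ (𝟙 T)).mpr ha
  have hθ' : (FibCat.fp f i).p.IsHomLift (𝟙 T) θ' := (isHomLift_iff_fst θ' (𝟙 T)).mpr hai
  have h12 : θ ≫ θ' = 𝟙 _ := hom_ext (by simp [θ, θ']) (by simp [θ, θ'])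
  have h21 : θ' ≫ θ = 𝟙 _ := hom_ext (by simp [θ, θ']) (by simp [θ, θ'])
  refine Quotient.sound ⟨⟨⟨θ, hθ⟩, ⟨θ', hθ'⟩, ?_, ?_⟩⟩
  · exact Subtype.ext h12
  · exact Subtype.ext h21

/-- The presheaf of isomorphism classes commutes with fibre products along an open immersion. Let f : 𝒳
→ 𝒴 be a morphism of algebraic stacks over a quasi-separated scheme S and i : 𝒴' → 𝒴 an open
immersion of algebraic stacks (representable by open immersions of algebraic spaces). If two objects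
of the 2-fibre product 𝒳 ×_𝒴 𝒴' over a scheme T have isomorphic images in 𝒳 over T and isomorphic
images in 𝒴' over T, then they are isomorphic over T. (Together with the evident surjectivity this
says that the natural map from the presheaf of isomorphism classes of 𝒳 ×_𝒴 𝒴' to the fibre product
of the presheaves of 𝒳 and 𝒴' over that of 𝒴 is an isomorphism; the published statement is for
arbitrary stacks, this row takes them algebraic.) -/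
theorem result
    (S : Scheme.{u}) [QuasiSeparatedSpace S]
    (𝒳 𝒴 𝒴' : AlgSt.Cat S)
    (h𝒳 : AlgSt.IsAlgStack Scheme.fppfPrecoverage 𝒳) (h𝒴 : AlgSt.IsAlgStack Scheme.fppfPrecoverage 𝒴)
    (h𝒴' : AlgSt.IsAlgStack Scheme.fppfPrecoverage 𝒴')
    (f : 𝒳 ⥤ᵇ 𝒴) (i : 𝒴' ⥤ᵇ 𝒴) (hi : AlgSt.IsOpenImm i)
    (T : Over S) (z₁ z₂ : (FibCat.fp f i).p.Fiber T)
    (h₁ : IsoNat.mapCls (FibCat.fpFst f i) T (IsoNat.cls z₁) = IsoNat.mapCls (FibCat.fpFst f i) T (IsoNat.cls z₂))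
    (h₂ : IsoNat.mapCls (FibCat.fpSnd f i) T (IsoNat.cls z₁) = IsoNat.mapCls (FibCat.fpSnd f i) T (IsoNat.cls z₂)) :
    IsoNat.cls z₁ = IsoNat.cls z₂ := by
  have h𝒴g : FibCat.IsFibGrpd 𝒴.p := h𝒴.isStack.1
  have h𝒴'g : FibCat.IsFibGrpd 𝒴'.p := h𝒴'.isStack.1
  obtain ⟨β⟩ : Nonempty ((IsoNat.fibFun (FibCat.fpFst f i) T).obj z₁ ≅
      (IsoNat.fibFun (FibCat.fpFst f i) T).obj z₂) := Quotient.exact h₁
  have hT₁ : 𝒳.p.obj z₁.1.obj.fst = T := z₁.2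
  have hT₂ : 𝒳.p.obj z₂.1.obj.fst = T := z₂.2
  exact main_aux f i hi h𝒴g h𝒴'g z₁ z₂ (Functor.Fiber.fiberInclusion.mapIso β) β.hom.2 hT₁ hT₂

end Groth.Agent.S15493
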