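import Groth.Statements.S12774
import Groth.Agent.S15493
import Groth.Agent.Lib.Helper17.Thin

set_option autoImplicit false
open CategoryTheory AlgebraicGeometry
universe u
open AlgSt

namespace Groth.Agent.S12774

open Groth.Agent.Lib.Helper17 Groth.Agent.Lib.Helper17.FP Groth.Agent.Lib.Helper17.FG
  Groth.Agent.Lib.Helper17.FT Groth.Agent.Lib.Helper17.TH

set_option backward.isDefEq.respectTransparency false in
set_option backward.isDefEq.respectTransparency.types false in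
/-- A monomorphism of categories over `(Sch/S)` is full on fibres (for isomorphisms). -/
theorem exists_lift_iso_of_isMono {S : Scheme.{u}} {𝒴' 𝒴 : AlgSt.Cat S} (h𝒴 : FibCat.IsFibGrpd 𝒴.p)
    (i : 𝒴' ⥤ᵇ 𝒴) (hi : AlgSt.IsMono i) {T : Over S} (y₁ y₂ : 𝒴'.obj)
    (hy₂ : 𝒴'.p.obj y₂ = T) (φ : i.obj y₁ ≅ i.obj y₂)
    (hφ : 𝒴.p.IsHomLift (𝟙 T) φ.hom) :
    ∃ b : y₁ ⟶ y₂, 𝒴'.p.IsHomLift (𝟙 T) b ∧ i.map b = φ.hom := by
  obtain ⟨y, ι, hι⟩ := exists_slice_functor h𝒴 (i.obj y₂) ((i.w_obj y₂).trans hy₂)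
  obtain ⟨F, e, he, hP⟩ := hi T y
  have hm : Mono (AlgSt.spMapOfOver (BasedFunctor.comp e (FibCat.fpFst y i))) :=
    (MorphismProperty.monomorphisms.iff _).mp hP
  have hφi : 𝒴.p.IsHomLift (𝟙 T) φ.inv := IsHomLift.lift_id_inv (p := 𝒴.p) T φ
  have hι₁ : 𝒴.p.IsHomLift (𝟙 T) (ι ≪≫ φ.symm).hom := by
    change 𝒴.p.IsHomLift (𝟙 T) (ι.hom ≫ φ.inv)
    infer_instance
  let q₂ : (FibCat.fp y i).obj := mkObj (F := y) (G := i) (Over.mk (𝟙 T) : Over T) y₂ ι hι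
  let q₁ : (FibCat.fp y i).obj :=
    mkObj (F := y) (G := i) (Over.mk (𝟙 T) : Over T) y₁ (ι ≪≫ φ.symm) hι₁
  obtain ⟨θ, hθ⟩ := Groth.Agent.S15493.fpFst_full y i F.obj e he hm q₁ q₂ (𝟙 _)
  refine ⟨θ.hom.snd, ?_, ?_⟩
  · refine isHomLift_snd_of_fst θ (𝟙 T) ?_
    rw [hθ]
    exact IsHomLift.id rfl
  · have hw : y.map θ.hom.fst ≫ ι.hom = (ι.hom ≫ φ.inv) ≫ i.map θ.hom.snd := θ.hom.w
    have e1 : y.map θ.hom.fst = 𝟙 _ := by
      rw [hθ]; exact y.toFunctor.map_id _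
    rw [e1] at hw
    have hw' : ι.hom = ι.hom ≫ φ.inv ≫ i.map θ.hom.snd := by
      rw [← Category.assoc, ← hw]; exact (Category.id_comp _).symm
    have hw2 : φ.inv ≫ i.map θ.hom.snd = 𝟙 _ := by
      have := congrArg (fun z => ι.inv ≫ z) hw'
      simpa using this.symm
    calc i.map θ.hom.snd = φ.hom ≫ (φ.inv ≫ i.map θ.hom.snd) := by simp
      _ = φ.hom := by rw [hw2, Category.comp_id]


/-- Take categories `𝒳` and `𝒴` fibred in groupoids over `(Sch/S)` and a 1-morphism `j : 𝒳 ⟶ 𝒴` between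
them which is representable by algebraic spaces and a monomorphism. Then `j` is fully faithful on
fibre categories; for categories fibred in groupoids this is the same as `j` being full and
faithful, which is how it is stated here. -/
theorem result {S : Scheme.{u}} {𝒳 𝒴 : AlgSt.Cat S}
    (h𝒳 : FibCat.IsFibGrpd 𝒳.p) (h𝒴 : FibCat.IsFibGrpd 𝒴.p) (j : 𝒳 ⥤ᵇ 𝒴) (hj : AlgSt.IsMono j) :
    j.toFunctor.Full ∧ j.toFunctor.Faithful := by
  have hthin : ∀ (U : Over S) (y : FibCat.overCat U ⥤ᵇ 𝒴), ThinOver (FibCat.fp y j) := by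
    intro U y
    obtain ⟨F, e, he, -⟩ := hj U y
    exact thinOver_of_equiv e he (thinOver_ofPsh _)
  refine ⟨⟨?_⟩, faithful_of_thin h𝒳 h𝒴 j hthin⟩
  intro x x' ψ
  let g : 𝒳.p.obj x ⟶ 𝒳.p.obj x' :=
    eqToHom (j.w_obj x).symm ≫ 𝒴.p.map ψ ≫ eqToHom (j.w_obj x')
  have hψ : 𝒴.p.IsHomLift g ψ := by
    apply IsHomLift.of_fac' 𝒴.p g ψ (j.w_obj x) (j.w_obj x')
    simp [g]
  obtain ⟨x'', c, hc⟩ := h𝒳.exists_lift g
  have hjc : 𝒴.p.IsHomLift g (j.map c) := inferInstance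
  obtain ⟨χ, hχ1, hχ2, hχiso⟩ := exists_factor h𝒴 g (j.map c) hjc ψ hψ
  have hx'' : 𝒳.p.obj x'' = 𝒳.p.obj x := IsHomLift.domain_eq 𝒳.p g c
  obtain ⟨b, hb, hjb⟩ := exists_lift_iso_of_isMono h𝒴 j hj x x'' hx'' (asIso χ) hχ1
  refine ⟨b ≫ c, ?_⟩
  change j.map (b ≫ c) = ψ
  rw [show j.map (b ≫ c) = j.map b ≫ j.map c from j.toFunctor.map_comp b c, hjb]
  exact hχ2

end Groth.Agent.S12774
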