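import Groth.Statements.S1278
import Mathlib
import Groth.Agent.S6918
import Groth.Agent.Lib.Helper67.IterLoc2

set_option autoImplicit false
universe u
open FlatMor

namespace Groth.Agent.S1278

open TensorProduct

set_option linter.style.haveILetI false
set_option linter.unusedSectionVars false

/-- (⟹) of the core lemma: localizing further preserves flatness. -/
theorem core_mp {A' B' C' : Type u} [CommRing A'] [CommRing B'] [CommRing C'] [Algebra A' C']
    [Algebra B' C']
    (N' : Type u) [AddCommGroup N'] [Module C' N'] [Module A' N'] [IsScalarTower A' C' N']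
    (q : Ideal B') [q.IsPrime]
    (h : Module.Flat A' (LocalizedModule (Algebra.algebraMapSubmonoid C' q.primeCompl) N'))
    (Q : Ideal C') [Q.IsPrime] (hQ : Q.comap (algebraMap B' C') = q) :
    Module.Flat A' (LocalizedModule Q.primeCompl N') := by
  have hW : Algebra.algebraMapSubmonoid C' q.primeCompl ≤ Q.primeCompl := by
    rintro _ ⟨b, hb, rfl⟩
    intro hmem
    apply hb
    rw [← hQ]
    exact hmem
  let ψ := IsLocalizedModule.liftOfLE (Algebra.algebraMapSubmonoid C' q.primeCompl)
    Q.primeCompl hW (LocalizedModule.mkLinearMap (Algebra.algebraMapSubmonoid C' q.primeCompl) N')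
    (LocalizedModule.mkLinearMap Q.primeCompl N')
  have : IsLocalizedModule Q.primeCompl ψ := inferInstance
  exact Groth.Agent.S6918.flat_of_isLocalizedModule Q.primeCompl ψ


theorem comap_eq_of_maximal_aux {B' C' : Type u} [CommRing B'] [CommRing C'] [Algebra B' C']
    [Algebra.IsIntegral B' C'] (q : Ideal B') [q.IsPrime] (W : Submonoid C')
    (hW : W = Algebra.algebraMapSubmonoid C' q.primeCompl)
    (𝔐 : Ideal (Localization W)) [h𝔐 : 𝔐.IsMaximal] :
    (𝔐.comap (algebraMap C' (Localization W))).comap (algebraMap B' C') = q := by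
  haveI h𝔐p : 𝔐.IsPrime := h𝔐.isPrime
  set Q := 𝔐.comap (algebraMap C' (Localization W)) with hQ
  haveI : Q.IsPrime := Ideal.comap_isPrime _ _
  have hdisj : ∀ (Q' : Ideal C'), Q'.comap (algebraMap B' C') ≤ q →
      Disjoint (W : Set C') (Q' : Set C') := by
    intro Q' hQ'
    rw [Set.disjoint_left, hW]
    rintro _ ⟨b, hb, rfl⟩ hmem
    exact hb (hQ' hmem)
  have hle : Q.comap (algebraMap B' C') ≤ q := by
    intro x hx
    by_contra hxq
    have hw : algebraMap B' C' x ∈ W := by
      rw [hW]
      exact ⟨x, hxq, rfl⟩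
    have hu : IsUnit (algebraMap C' (Localization W) (algebraMap B' C' x)) :=
      IsLocalization.map_units (Localization W) ⟨_, hw⟩
    have hmem : algebraMap C' (Localization W) (algebraMap B' C' x) ∈ 𝔐 := hx
    exact h𝔐.ne_top (Ideal.eq_top_of_isUnit_mem _ hmem hu)
  obtain ⟨Q₂, hQ₂ge, hQ₂prime, hQ₂q⟩ :=
    Ideal.exists_ideal_over_prime_of_isIntegral_of_isPrime (R := B') (S := C') q Q hle
  have hd2 : Disjoint (W : Set C') (Q₂ : Set C') := hdisj Q₂ (le_of_eq hQ₂q)
  have hprime2 : (Q₂.map (algebraMap C' (Localization W))).IsPrime :=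
    IsLocalization.isPrime_of_isPrime_disjoint W _ Q₂ hQ₂prime hd2
  have hge : 𝔐 ≤ Q₂.map (algebraMap C' (Localization W)) := by
    rw [← IsLocalization.map_comap W (Localization W) 𝔐]
    exact Ideal.map_mono hQ₂ge
  have heq : 𝔐 = Q₂.map (algebraMap C' (Localization W)) :=
    h𝔐.eq_of_le hprime2.ne_top hge
  have hQ₂Q : Q₂ = Q := by
    rw [hQ, heq]
    exact (IsLocalization.comap_map_of_isPrime_disjoint W (Localization W) hQ₂prime hd2).symm
  rw [← hQ₂Q]
  exact hQ₂q


/-- (⟸) of the core lemma. -/
theorem core_mpr {A' B' C' : Type u} [CommRing A'] [CommRing B'] [CommRing C'] [Algebra A' C']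
    [Algebra B' C'] [Algebra.IsIntegral B' C']
    (N' : Type u) [AddCommGroup N'] [Module C' N'] [Module A' N'] [IsScalarTower A' C' N']
    (q : Ideal B') [q.IsPrime]
    (h : ∀ (Q : Ideal C') [Q.IsPrime], Q.comap (algebraMap B' C') = q →
      Module.Flat A' (LocalizedModule Q.primeCompl N')) :
    Module.Flat A' (LocalizedModule (Algebra.algebraMapSubmonoid C' q.primeCompl) N') := by
  apply Module.flat_of_isLocalized_maximal
    (S := Localization (Algebra.algebraMapSubmonoid C' q.primeCompl))
    (M := LocalizedModule (Algebra.algebraMapSubmonoid C' q.primeCompl) N')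
    (Mₚ := fun 𝔐 _ => LocalizedModule 𝔐.primeCompl
      (LocalizedModule (Algebra.algebraMapSubmonoid C' q.primeCompl) N'))
    (f := fun 𝔐 _ => LocalizedModule.mkLinearMap 𝔐.primeCompl
      (LocalizedModule (Algebra.algebraMapSubmonoid C' q.primeCompl) N'))
  intro 𝔐 h𝔐
  haveI h𝔐p : 𝔐.IsPrime := h𝔐.isPrime
  have hQq := comap_eq_of_maximal_aux q (Algebra.algebraMapSubmonoid C' q.primeCompl) rfl 𝔐
  have hflat := h _ hQq
  have hloc := Groth.Agent.Lib.Helper67.isLocalizedModule_comp_atPrime
    (Algebra.algebraMapSubmonoid C' q.primeCompl) 𝔐 N'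
  let ε := IsLocalizedModule.linearEquiv
    (𝔐.comap (algebraMap C' (Localization (Algebra.algebraMapSubmonoid C' q.primeCompl)))).primeCompl
    (((LocalizedModule.mkLinearMap 𝔐.primeCompl
      (LocalizedModule (Algebra.algebraMapSubmonoid C' q.primeCompl) N')).restrictScalars C') ∘ₗ
        LocalizedModule.mkLinearMap (Algebra.algebraMapSubmonoid C' q.primeCompl) N')
    (LocalizedModule.mkLinearMap
      (𝔐.comap (algebraMap C' (Localization (Algebra.algebraMapSubmonoid C' q.primeCompl)))).primeCompl
      N')
  exact Module.Flat.of_linearEquiv (ε.restrictScalars A')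


theorem bridge {A' B' C' : Type u} [CommRing A'] [CommRing B'] [CommRing C'] [Algebra A' B']
    [Algebra B' C'] [Algebra A' C'] [IsScalarTower A' B' C']
    (M' N' : Type u) [AddCommGroup M'] [AddCommGroup N'] [Module B' M'] [Module A' M']
    [IsScalarTower A' B' M'] [Module C' N'] [Module B' N'] [IsScalarTower B' C' N'] [Module A' N']
    [IsScalarTower A' C' N'] [IsScalarTower A' B' N'] (e : M' ≃ₗ[B'] N') (q : Ideal B') [q.IsPrime] :
    Module.Flat A' (LocalizedModule q.primeCompl M') ↔
      Module.Flat A' (LocalizedModule (Algebra.algebraMapSubmonoid C' q.primeCompl) N') := by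
  let g₂ : M' →ₗ[B'] LocalizedModule (Algebra.algebraMapSubmonoid C' q.primeCompl) N' :=
    ((LocalizedModule.mkLinearMap (Algebra.algebraMapSubmonoid C' q.primeCompl) N').restrictScalars B')
      ∘ₗ e.toLinearMap
  haveI i1 : IsLocalizedModule q.primeCompl
      ((LocalizedModule.mkLinearMap (Algebra.algebraMapSubmonoid C' q.primeCompl) N').restrictScalars
        B') :=
    IsLocalizedModule.restrictScalars q.primeCompl
      (LocalizedModule.mkLinearMap (Algebra.algebraMapSubmonoid C' q.primeCompl) N')
  haveI i2 : IsLocalizedModule q.primeCompl g₂ := IsLocalizedModule.of_linearEquiv_right _ _ e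
  let ε := IsLocalizedModule.linearEquiv q.primeCompl
    (LocalizedModule.mkLinearMap q.primeCompl M') g₂
  exact ⟨fun h => Module.Flat.of_linearEquiv (ε.symm.restrictScalars A'),
    fun h => Module.Flat.of_linearEquiv (ε.restrictScalars A')⟩

theorem exists_pow_mem_map {B C : Type u} [CommRing B] [IsLocalRing B] [CommRing C] [IsLocalRing C]
    [Algebra B C] [IsLocalHom (algebraMap B C)] [Module.Finite B C] (c : C)
    (hc : c ∈ IsLocalRing.maximalIdeal C) :
    c ∈ ((IsLocalRing.maximalIdeal B).map (algebraMap B C)).radical := by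
  rw [Ideal.radical_eq_sInf, Ideal.mem_sInf]
  rintro J ⟨hJ, hJprime⟩
  have h1 : IsLocalRing.maximalIdeal B ≤ J.comap (algebraMap B C) := Ideal.map_le_iff_le_comap.mp hJ
  have h2 : J.comap (algebraMap B C) = IsLocalRing.maximalIdeal B :=
    le_antisymm (IsLocalRing.le_maximalIdeal (Ideal.comap_isPrime _ _).ne_top) h1
  have h3 : (J.comap (algebraMap B C)).IsMaximal := by
    rw [h2]
    exact IsLocalRing.maximalIdeal.isMaximal B
  have h4 : J.IsMaximal := Ideal.isMaximal_of_isIntegral_of_isMaximal_comap J h3
  rw [IsLocalRing.eq_maximalIdeal h4]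
  exact hc

open IsLocalRing in

open IsLocalRing in
/-- Let A be a local ring and B → C a finite local homomorphism of local A-algebras (A → B local), and N
a C-module, viewed also as a B-module. For every local homomorphism of local rings A → A', with base
changes B', C' of B, C and base changes M' (of N over B') and N' (of N over C'): M' is flat over A'
at every prime of B' containing 𝔪_{A'}B' + 𝔪_B B' if and only if N' is flat over A' at every prime
of C' containing 𝔪_{A'}C' + 𝔪_C C'. -/
theorem result {A B C : Type u} [CommRing A] [IsLocalRing A] [CommRing B] [IsLocalRing B] [CommRing C] [IsLocalRing C]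
    [Algebra A B] [IsLocalHom (algebraMap A B)] [Algebra B C] [IsLocalHom (algebraMap B C)] [Algebra A C] [IsScalarTower A B C] [Module.Finite B C]
    (N : Type u) [AddCommGroup N] [Module C N] [Module B N] [IsScalarTower B C N]
    (A' : Type u) [CommRing A'] [IsLocalRing A'] [Algebra A A'] [IsLocalHom (algebraMap A A')]
    (B' M' : Type u) [CommRing B'] [Algebra B B'] [Algebra A' B'] [Algebra A B'] [IsScalarTower A B B'] [IsScalarTower A A' B']
        [Algebra.IsPushout A B A' B']
        [AddCommGroup M'] [Module B' M'] [Module B M'] [IsScalarTower B B' M'] [Module A' M'] [IsScalarTower A' B' M']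
        (fB : N →ₗ[B] M') (hfB : IsBaseChange B' fB)
    (C' N' : Type u) [CommRing C'] [Algebra C C'] [Algebra A' C'] [Algebra A C'] [IsScalarTower A C C'] [IsScalarTower A A' C']
        [Algebra.IsPushout A C A' C']
        [AddCommGroup N'] [Module C' N'] [Module C N'] [IsScalarTower C C' N'] [Module A' N'] [IsScalarTower A' C' N']
        (fC : N →ₗ[C] N') (hfC : IsBaseChange C' fC) :
    FlatCA.FlatAboveClosedPoints B A' B' M' ↔ FlatCA.FlatAboveClosedPoints C A' C' N' := by
  -- the map `B' → C'`
  letI algBC' : Algebra B C' := ((algebraMap C C').comp (algebraMap B C)).toAlgebra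
  haveI tBCC' : IsScalarTower B C C' := IsScalarTower.of_algebraMap_eq (fun _ => rfl)
  haveI tABC' : IsScalarTower A B C' := IsScalarTower.of_algebraMap_eq (fun a => by
    rw [IsScalarTower.algebraMap_apply A C C', IsScalarTower.algebraMap_apply A B C]
    rfl)
  let f₀ : B →ₐ[A] C' := IsScalarTower.toAlgHom A B C'
  let g₀ : A' →ₐ[A] C' := IsScalarTower.toAlgHom A A' C'
  let ψ : B' →ₐ[A] C' := Algebra.pushoutDesc B' f₀ g₀ (fun _ _ => mul_comm _ _)
  letI algB'C' : Algebra B' C' := ψ.toRingHom.toAlgebra
  have hψB : ∀ b : B, algebraMap B' C' (algebraMap B B' b) = algebraMap B C' b := fun b =>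
    Algebra.pushoutDesc_left B' f₀ g₀ (fun _ _ => mul_comm _ _) b
  have hψA' : ∀ a : A', algebraMap B' C' (algebraMap A' B' a) = algebraMap A' C' a := fun a =>
    Algebra.pushoutDesc_right B' f₀ g₀ (fun _ _ => mul_comm _ _) a
  haveI tBB'C' : IsScalarTower B B' C' := IsScalarTower.of_algebraMap_eq (fun b => (hψB b).symm)
  haveI tA'B'C' : IsScalarTower A' B' C' := IsScalarTower.of_algebraMap_eq (fun a => (hψA' a).symm)
  haveI tAB'C' : IsScalarTower A B' C' := IsScalarTower.of_algebraMap_eq (fun a => by
    rw [IsScalarTower.algebraMap_apply A A' B', hψA', ← IsScalarTower.algebraMap_apply])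
  haveI hpo : Algebra.IsPushout B C B' C' :=
    (Algebra.IsPushout.comp_iff A B A' B' (T := C) (T' := C')).mp inferInstance
  haveI hint : Algebra.IsIntegral B' C' := Algebra.IsPushout.isIntegral (R := B) (S := C) (A := B') (SA := C')
  -- `N'` as a `B'`-module
  letI modB'N' : Module B' N' := Module.compHom N' (algebraMap B' C')
  haveI tB'C'N' : IsScalarTower B' C' N' :=
    ⟨fun b c x => by
      change (b • c) • x = (algebraMap B' C' b) • (c • x)
      rw [Algebra.smul_def, mul_smul]⟩
  haveI tA'B'N' : IsScalarTower A' B' N' :=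
    ⟨fun a b x => by
      change (algebraMap B' C' (a • b)) • x = a • ((algebraMap B' C' b) • x)
      rw [Algebra.smul_def, map_mul, hψA', mul_smul, algebraMap_smul]⟩
  -- `M' ≃ N'` over `B'`
  have hpo' : Algebra.IsPushout B B' C C' := hpo.symm
  let e1 : M' ≃ₗ[B'] B' ⊗[B] N := hfB.equiv.symm
  let e2 : C' ⊗[C] N ≃ₗ[B'] B' ⊗[B] N := Algebra.IsPushout.cancelBaseChange B B' C C' N
  let e3 : C' ⊗[C] N ≃ₗ[B'] N' := hfC.equiv.restrictScalars B'
  let e : M' ≃ₗ[B'] N' := e1 ≪≫ₗ e2.symm ≪≫ₗ e3
  constructor
  · intro hB Q _ hQ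
    have hq : (maximalIdeal A').map (algebraMap A' B') ⊔ (maximalIdeal B).map (algebraMap B B') ≤
        Q.comap (algebraMap B' C') := by
      rw [sup_le_iff, Ideal.map_le_iff_le_comap, Ideal.map_le_iff_le_comap]
      refine ⟨fun a ha => ?_, fun b hb => ?_⟩
      · change algebraMap B' C' (algebraMap A' B' a) ∈ Q
        rw [hψA']
        exact hQ (Ideal.mem_sup_left (Ideal.mem_map_of_mem _ ha))
      · change algebraMap B' C' (algebraMap B B' b) ∈ Q
        rw [hψB]
        have hbc : algebraMap B C b ∈ maximalIdeal C := by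
          rw [mem_maximalIdeal, mem_nonunits_iff] at hb ⊢
          intro hu
          exact hb (isUnit_of_map_unit (algebraMap B C) b hu)
        exact hQ (Ideal.mem_sup_right (Ideal.mem_map_of_mem (algebraMap C C') hbc))
    have h1 := hB (Q.comap (algebraMap B' C')) hq
    exact core_mp N' (Q.comap (algebraMap B' C')) ((bridge M' N' e _).mp h1) Q rfl
  · intro hC q _ hq
    rw [sup_le_iff, Ideal.map_le_iff_le_comap, Ideal.map_le_iff_le_comap] at hq
    refine (bridge M' N' e q).mpr (core_mpr N' q fun Q _ hQq => hC Q ?_)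
    rw [sup_le_iff, Ideal.map_le_iff_le_comap, Ideal.map_le_iff_le_comap]
    refine ⟨fun a ha => ?_, fun c hc => ?_⟩
    · change algebraMap A' C' a ∈ Q
      rw [← hψA']
      have : algebraMap A' B' a ∈ q := hq.1 ha
      rw [← hQq] at this
      exact this
    · change algebraMap C C' c ∈ Q
      have hrad := exists_pow_mem_map (B := B) c hc
      have hle : (maximalIdeal B).map (algebraMap B C) ≤ Q.comap (algebraMap C C') := by
        rw [Ideal.map_le_iff_le_comap]
        intro b hb
        change algebraMap C C' (algebraMap B C b) ∈ Q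
        have h2 : algebraMap C C' (algebraMap B C b) = algebraMap B' C' (algebraMap B B' b) := by
          rw [hψB]
          rfl
        rw [h2]
        have : algebraMap B B' b ∈ q := hq.2 hb
        rw [← hQq] at this
        exact this
      have hprime : (Q.comap (algebraMap C C')).IsPrime := Ideal.comap_isPrime _ _
      have := (Ideal.IsPrime.radical_le_iff hprime).mpr hle hrad
      exact this

end Groth.Agent.S1278
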