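import Groth.Statements.S12783
import Groth.Agent.Lib.Helper17.FpInvariance
import Groth.Agent.Lib.Helper17.Rep
import Groth.Agent.Lib.Helper17.SelfProd
import Groth.Agent.Lib.Helper17.AlgStTransfer
import Groth.Agent.S6443

set_option autoImplicit false
open CategoryTheory CategoryTheory.Limits
universe v u
open FibCat

namespace Groth.Agent.S12783

open Groth.Agent.Lib.Helper17 Groth.Agent.Lib.Helper17.FP Groth.Agent.Lib.Helper17.FG
  Groth.Agent.Lib.Helper17.FI Groth.Agent.Lib.Helper17.EO Groth.Agent.S6443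

variable {C : Type u} [Category.{v} C] [HasPullbacks C]

/-- the terminal object of `(C/U) ×_{C/Y} (C/X)` -/
noncomputable def termObj {U X Y : C} (g : U ⟶ Y) (f : X ⟶ Y) :
    (FibCat.fp (overMap g) (overMap f)).obj :=
  mkObj (F := overMap g) (G := overMap f) (Over.mk (pullback.fst g f) : Over U)
    (Over.mk (pullback.snd g f) : Over X)
    (Over.isoMk (Iso.refl _) (by
      change 𝟙 _ ≫ (pullback.snd g f ≫ f) = pullback.fst g f ≫ g
      rw [Category.id_comp, pullback.condition]))
    (hl_of_eq (p := Over.forget Y) rfl)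

theorem rep_fp_overMap {U X Y : C} (g : U ⟶ Y) (f : X ⟶ Y) :
    FibCat.IsRepresentable (FibCat.fp (overMap g) (overMap f)) := by
  apply Rep.rep_of_terminal
    (SP.isFibGrpd_fp (overMap g) (overMap f) (isFibGrpd_overForget U) (isFibGrpd_overForget X)
      (isFibGrpd_overForget Y)) (termObj g f)
  intro ρ
  -- notation
  obtain ⟨a, ha⟩ : ∃ a : Over U, a = ρ.obj.fst := ⟨_, rfl⟩
  obtain ⟨b, hb⟩ : ∃ b : Over X, b = ρ.obj.snd := ⟨_, rfl⟩
  obtain ⟨θ, hθ⟩ : ∃ θ : (Over.map g).obj ρ.obj.fst ≅ (Over.map f).obj ρ.obj.snd,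
      θ = ρ.obj.iso := ⟨_, rfl⟩
  have hθw : θ.hom.left ≫ (ρ.obj.snd.hom ≫ f) = ρ.obj.fst.hom ≫ g := Over.w θ.hom
  have hinv : θ.inv.left ≫ θ.hom.left = 𝟙 _ := by
    rw [← Over.comp_left, θ.inv_hom_id]; rfl
  have hinv' : θ.hom.left ≫ θ.inv.left = 𝟙 _ := by
    rw [← Over.comp_left, θ.hom_inv_id]; rfl
  let l : ρ.obj.fst.left ⟶ pullback g f :=
    pullback.lift ρ.obj.fst.hom (θ.hom.left ≫ ρ.obj.snd.hom) (by
      rw [Category.assoc, hθw])
  have hl1 : l ≫ pullback.fst g f = ρ.obj.fst.hom := pullback.lift_fst _ _ _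
  have hl2 : l ≫ pullback.snd g f = θ.hom.left ≫ ρ.obj.snd.hom := pullback.lift_snd _ _ _
  let α : ρ.obj.fst ⟶ (termObj g f).obj.fst := Over.homMk l hl1
  let β : ρ.obj.snd ⟶ (termObj g f).obj.snd := Over.homMk (θ.inv.left ≫ l) (by
    change (θ.inv.left ≫ l) ≫ pullback.snd g f = ρ.obj.snd.hom
    rw [Category.assoc, hl2, ← Category.assoc, hinv, Category.id_comp])
  let m : ρ ⟶ termObj g f := mkHom (z := ρ) (z' := termObj g f) α β (by
    apply Over.OverMorphism.ext
    change l ≫ 𝟙 _ = ρ.obj.iso.hom.left ≫ (θ.inv.left ≫ l)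
    rw [← hθ, Category.comp_id, ← Category.assoc, hinv', Category.id_comp])
  refine ⟨⟨⟨m⟩, ?_⟩⟩
  intro m'
  have hw' := congrArg (fun t => t.left) m'.hom.w
  change m'.hom.fst.left ≫ 𝟙 _ = ρ.obj.iso.hom.left ≫ m'.hom.snd.left at hw'
  rw [Category.comp_id, ← hθ] at hw'
  have h1 : m'.hom.fst.left ≫ pullback.fst g f = ρ.obj.fst.hom := Over.w m'.hom.fst
  have h2 : m'.hom.snd.left ≫ pullback.snd g f = ρ.obj.snd.hom := Over.w m'.hom.snd
  have h3 : m'.hom.fst.left = l := by
    apply pullback.hom_ext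
    · exact h1.trans hl1.symm
    · exact (congrArg (· ≫ pullback.snd g f) hw').trans ((Category.assoc _ _ _).trans
        ((congrArg (θ.hom.left ≫ ·) h2).trans hl2.symm))
  apply hom_ext
  · apply Over.OverMorphism.ext
    exact h3
  · apply Over.OverMorphism.ext
    change m'.hom.snd.left = θ.inv.left ≫ l
    exact (Category.id_comp _).symm.trans ((congrArg (· ≫ m'.hom.snd.left) hinv.symm).trans
      ((Category.assoc _ _ _).trans (congrArg (θ.inv.left ≫ ·) (hw'.symm.trans h3))))

/-- For a morphism `f : X ⟶ Y` in a category `C` with fibre products, the induced functor `C/X ⟶ C/Y`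
over `C` is a representable 1-morphism. (The published statement is for schemes over a base; this
row holds in any category with fibre products.) -/
theorem result {C : Type u} [Category.{v} C] [HasPullbacks C] {X Y : C} (f : X ⟶ Y) :
    FibCat.IsRepresentable1 (⟨Over.map f, Over.mapForget_eq f⟩ : FibCat.overCat X ⥤ᵇ FibCat.overCat Y) := by
  intro U G
  have hl : ∀ w : (FibCat.overCat U).obj,
      (FibCat.overCat Y).p.IsHomLift (𝟙 ((FibCat.overCat U).p.obj w))
        (AT.compApp (isoOverMap G).symm w).hom := fun w => AT.compApp_lift (isoOverMap G).symm w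
  exact rep_of_equiv'
    (tw G (overMap (fOf G)) (overMap f) (fun w => AT.compApp (isoOverMap G).symm w)
      (fun α => AT.compApp_nat (isoOverMap G).symm α) hl)
    (tw_isEquivOver G (overMap (fOf G)) (overMap f) (fun w => AT.compApp (isoOverMap G).symm w)
      (fun α => AT.compApp_nat (isoOverMap G).symm α) hl)
    (rep_fp_overMap (fOf G) f)

end Groth.Agent.S12783
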