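import Groth.Statements.S12800
import Groth.Agent.Lib.Helper17.FibProd
import Groth.Agent.Lib.Helper17.FibGrpd
import Groth.Agent.S6401

set_option autoImplicit false
open CategoryTheory
universe v u
open FibCat

namespace Groth.Agent.S12800

/-- For categories `𝒮`, `𝒯` fibred in groupoids over `C`, a category `ℛ` fibred in setoids over `C`, a
functor `f : 𝒯 ⟶ 𝒮` over `C` with faithful underlying functor and a functor `g : ℛ ⟶ 𝒮` over `C`,
the 2-fibre product `𝒯 ×_𝒮 ℛ` over `C` is fibred in setoids. (The published statement takes stacks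
in groupoids over a site and concludes a stack in setoids; the stack property of the 2-fibre product
is the separate result on 2-fibre products of stacks in groupoids, and the setoid property stated
here needs no topology.) -/
theorem result {C : Type u} [Category.{v} C] {𝒮 𝒯 ℛ : BasedCategory.{v, max u v} C}
    (h𝒮 : FibCat.IsFibGrpd 𝒮.p) (h𝒯 : FibCat.IsFibGrpd 𝒯.p) (hℛ : FibCat.IsFibSetoid ℛ.p) (f : 𝒯 ⥤ᵇ 𝒮) [f.toFunctor.Faithful] (g : ℛ ⥤ᵇ 𝒮) :
    FibCat.IsFibSetoid (FibCat.fp f g).p := by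
  refine ⟨Groth.Agent.S6401.result f g h𝒯 hℛ.1 h𝒮, ?_⟩
  intro U a b
  constructor
  intro φ ψ
  apply Functor.Fiber.hom_ext
  have hφ : (FibCat.fp f g).p.IsHomLift (𝟙 U) φ.val := φ.2
  have hψ : (FibCat.fp f g).p.IsHomLift (𝟙 U) ψ.val := ψ.2
  have hφ2 : ℛ.p.IsHomLift (𝟙 U) φ.val.hom.snd :=
    Groth.Agent.Lib.Helper17.FP.isHomLift_snd φ.val (𝟙 U) hφ
  have hψ2 : ℛ.p.IsHomLift (𝟙 U) ψ.val.hom.snd :=
    Groth.Agent.Lib.Helper17.FP.isHomLift_snd ψ.val (𝟙 U) hψ
  have hthin := hℛ.2 U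
  have h2 : φ.val.hom.snd = ψ.val.hom.snd := by
    let X : ℛ.p.Fiber U := ⟨a.val.obj.snd, Groth.Agent.Lib.Helper17.hl_dom hφ2⟩
    let Y : ℛ.p.Fiber U := ⟨b.val.obj.snd, Groth.Agent.Lib.Helper17.hl_cod hφ2⟩
    let m₁ : X ⟶ Y := ⟨φ.val.hom.snd, hφ2⟩
    let m₂ : X ⟶ Y := ⟨ψ.val.hom.snd, hψ2⟩
    have : m₁ = m₂ := Subsingleton.elim _ _
    exact congrArg Subtype.val this
  have h1 : φ.val.hom.fst = ψ.val.hom.fst := by
    apply f.toFunctor.map_injective
    have e1 := φ.val.hom.w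
    have e2 := ψ.val.hom.w
    rw [h2] at e1
    exact (cancel_mono b.val.obj.iso.hom).mp (e1.trans e2.symm)
  exact Groth.Agent.Lib.Helper17.FP.hom_ext h1 h2

end Groth.Agent.S12800
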