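import Groth.Statements.S6419
import Mathlib.Tactic
import Groth.Agent.Lib.Helper17.HomLift

set_option autoImplicit false
open CategoryTheory
universe v₁ u₁ v₂ u₂
open FibCat

namespace Groth.Agent.S6419

theorem over_obj_ext {C : Type u₂} [Category.{v₂} C] {U : C} (A B : Over U) (h : A.left = B.left)
    (h' : A.hom = eqToHom h ≫ B.hom) : A = B := by
  obtain ⟨Al, ⟨⟨⟩⟩, Ah⟩ := A
  obtain ⟨Bl, ⟨⟨⟩⟩, Bh⟩ := B
  change Al = Bl at h
  subst h
  simp at h'
  subst h'
  rfl

open CategoryTheory.Functor in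
/-- If `p' : 𝒮 ⥤ C/U` composed with the forgetful functor `C/U ⥤ C` is fibred in groupoids, then so is
`p'`. -/
theorem result {𝒮 : Type u₁} [Category.{v₁} 𝒮] {C : Type u₂} [Category.{v₂} C] {U : C} (p' : 𝒮 ⥤ Over U) (h : FibCat.IsFibGrpd (p' ⋙ Over.forget U)) : FibCat.IsFibGrpd p' := by
  constructor
  · intro x V f
    obtain ⟨y, φ, hφ⟩ := h.exists_lift (x := x) (V := V.left) f.left
    have h1 : (p'.obj y).left = V.left := Groth.Agent.Lib.Helper17.hl_dom hφ
    have h2 : (p'.map φ).left = eqToHom h1 ≫ f.left := by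
      have := Groth.Agent.Lib.Helper17.hl_fac' hφ
      simpa using this
    have ha : p'.obj y = V := by
      apply over_obj_ext _ _ h1
      rw [← Over.w (p'.map φ), h2, Category.assoc, Over.w f]
    refine ⟨y, φ, IsHomLift.of_fac p' f φ ha rfl ?_⟩
    apply Over.OverMorphism.ext
    simp only [Over.comp_left, Over.eqToHom_left, eqToHom_refl, Category.comp_id, h2]
    simp
  · intro y x φ
    have hφ : (p' ⋙ Over.forget U).IsStronglyCartesian ((p' ⋙ Over.forget U).map φ) φ :=
      h.isStronglyCartesian φ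
    refine { toIsHomLift := IsHomLift.map p' φ, universal_property' := ?_ }
    intro a' g φ' hφ'
    have hg : g ≫ p'.map φ = p'.map φ' := IsHomLift.eq_of_isHomLift p' _ φ'
    have i1 : (p' ⋙ Over.forget U).IsHomLift
        ((show (p' ⋙ Over.forget U).obj a' ⟶ (p' ⋙ Over.forget U).obj y from g.left) ≫
          (p' ⋙ Over.forget U).map φ) φ' := by
      have : (show (p' ⋙ Over.forget U).obj a' ⟶ (p' ⋙ Over.forget U).obj y from g.left) ≫
          (p' ⋙ Over.forget U).map φ = (p' ⋙ Over.forget U).map φ' := by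
        change g.left ≫ (p'.map φ).left = (p'.map φ').left
        rw [← Over.comp_left, hg]
      rw [this]; infer_instance
    obtain ⟨χ, ⟨hχ1, hχ2⟩, hχu⟩ := hφ.universal_property' (a' := a')
      (show (p' ⋙ Over.forget U).obj a' ⟶ (p' ⋙ Over.forget U).obj y from g.left) φ'
    refine ⟨χ, ⟨?_, hχ2⟩, ?_⟩
    · have e1 : g.left = (p' ⋙ Over.forget U).map χ := Groth.Agent.Lib.Helper17.hl_eq hχ1
      have e2 : g = p'.map χ := Over.OverMorphism.ext e1
      rw [e2]; infer_instance
    · rintro χ₂ ⟨h1, h2⟩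
      apply hχu
      refine ⟨?_, h2⟩
      have e3 : g = p'.map χ₂ := Groth.Agent.Lib.Helper17.hl_eq h1
      rw [e3]
      exact IsHomLift.map (p' ⋙ Over.forget U) χ₂

end Groth.Agent.S6419
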