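import Groth.Statements.S12806
import Groth.Agent.Lib.Helper17.DiagRep
import Groth.Agent.S6419

set_option autoImplicit false
open CategoryTheory
universe v u
open FibCat

namespace Groth.Agent.S12806

/-- Let `𝒮` be fibred in groupoids over `C`, `U` an object of `C` and `x, y : C/U ⟶ 𝒮` two functors over
`C` (objects over `U` in 2-Yoneda form), with `e` the 2-isomorphism identifying their composites
with the structure functor. Then the 2-fibre product over `C` of `(x, y) : C/U ⟶ 𝒮 ×_C 𝒮` with the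
diagonal `𝒮 ⟶ 𝒮 ×_C 𝒮` is fibred in setoids over `C/U` through its first projection. (The published
statement is for a fibred category with `x`, `y` the functors given by chosen pullbacks; this row is
the case of a category fibred in groupoids, where every functor over `C` out of `C/U` is of that
kind.) -/
theorem result {C : Type u} [Category.{v} C] {𝒮 : BasedCategory.{v, max u v} C} (h𝒮 : FibCat.IsFibGrpd 𝒮.p)
    (U : C) (x y : FibCat.overCat U ⥤ᵇ 𝒮)
    (e : BasedFunctor.comp x (FibCat.toSelf 𝒮) ≅ BasedFunctor.comp y (FibCat.toSelf 𝒮)) :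
    FibCat.IsFibSetoid (FibCat.fpFst (FibCat.fpLift x y e) (FibCat.diag (FibCat.toSelf 𝒮))).toFunctor := by
  have hfp : FibCat.IsFibGrpd (FibCat.fp (FibCat.fpLift x y e) (FibCat.diag (FibCat.toSelf 𝒮))).p :=
    Groth.Agent.Lib.Helper17.SP.isFibGrpd_fp (FibCat.fpLift x y e) (FibCat.diag (FibCat.toSelf 𝒮))
      (Groth.Agent.Lib.Helper17.FG.isFibGrpd_overForget U) h𝒮
      (Groth.Agent.Lib.Helper17.SP.isFibGrpd_sq h𝒮 h𝒮)
  refine ⟨Groth.Agent.S6419.result _ hfp, ?_⟩
  intro c a b
  constructor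
  intro φ ψ
  apply Functor.Fiber.hom_ext
  have hφ := Groth.Agent.Lib.Helper17.hl_fac' φ.2
  have hψ := Groth.Agent.Lib.Helper17.hl_fac' ψ.2
  have h1 : φ.val.hom.fst = ψ.val.hom.fst := hφ.trans hψ.symm
  have e1 := Groth.Agent.Lib.Helper17.DR.gw1 (FibCat.fpLift x y e) φ.val
  have e2 := Groth.Agent.Lib.Helper17.DR.gw1 (FibCat.fpLift x y e) ψ.val
  rw [h1] at e1
  have h2 : φ.val.hom.snd = ψ.val.hom.snd :=
    (cancel_epi (Groth.Agent.Lib.Helper17.DR.g1 (FibCat.fpLift x y e) a.val).hom).mp
      (e1.symm.trans e2)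
  exact Groth.Agent.Lib.Helper17.FP.hom_ext h1 h2

end Groth.Agent.S12806
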