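import Groth.Statements.S12808
import Groth.Agent.Lib.Helper62.BaseChangeComma

set_option autoImplicit false
open CategoryTheory CategoryTheory.Limits
universe v₃ u₃ v₂ u₂ v u
open Stk

namespace Groth.Agent.S12808

/-- Let `C` have pullbacks, let `J`, `K` be topologies on `C`, `D`, let `u : C ⥤ D` preserve pullbacks
and send covering sieves to families generating covering sieves, and let `𝒮` be a stack in groupoids
over `D` for `K`. Then the 2-fibre product `C ×_D 𝒮` with its first projection is a stack in
groupoids over `C` for `J`. (The published statement assumes `u` a continuous functor of sites —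
coverings go to coverings compatibly with the fibre products of covering families — and uses the
strict fibre product, pairs with `u U = p y`; here `C` has all pullbacks, `u` preserves them, and
the 2-fibre product, equivalent over `C` for fibred `𝒮`, is used.) -/
theorem result {C : Type u} [Category.{v} C] {D : Type u₂} [Category.{v₂} D] [HasPullbacks C]
    (J : GrothendieckTopology C) (K : GrothendieckTopology D) (u : C ⥤ D) [PreservesLimitsOfShape WalkingCospan u]
    (hu : CoverPreserving J K u) (𝒮 : BasedCategory.{v₃, u₃} D) (h𝒮 : Stk.IsStack K 𝒮) :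
    Stk.IsStack J (BasedCategory.ofFunctor (CategoricalPullback.π₁ u 𝒮.p)) := by
  have hfib : FibCat.IsFibGrpd 𝒮.p := h𝒮.1
  refine ⟨Groth.Agent.Lib.Helper62.BaseChange.isFibGrpd_bc u 𝒮 hfib, fun U R hR => ?_⟩
  open Groth.Agent.Lib.Helper62.BaseChange Groth.Agent.Lib.Helper62.BaseChangeComma
    Groth.Agent.Lib.Helper62.FibSectRel in
  have hR' : R.functorPushforward u ∈ K (u.obj U) := hu.cover_preserve hR
  have hF2 : (Stk.resSieve (R.functorPushforward u) 𝒮).IsEquivalence := h𝒮.2 _ hR'
  have hF1 : (Stk.restr (overPost u U) 𝒮).IsEquivalence :=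
    restr_isEquivalence_rel.{0} (overPost u U) 𝒮 hfib (fun b => sc_overPost u U b)
  have hF3 : (Stk.restr (sievePost u R) 𝒮).IsEquivalence :=
    restr_isEquivalence_rel.{0} (sievePost u R) 𝒮 hfib (fun b => sc_sievePost b)
  have e1 : Stk.restr (overPost u U) 𝒮 ⋙ Stk.restr (pushF u (Stk.sieveIncl R)) 𝒮 ≅
      Stk.resSieve (R.functorPushforward u) 𝒮 ⋙ Stk.restr (sievePost u R) 𝒮 := Iso.refl _
  have hG : (Stk.restr (pushF u (Stk.sieveIncl R)) 𝒮).IsEquivalence := by
    have h4 : (Stk.restr (overPost u U) 𝒮 ⋙
        Stk.restr (pushF u (Stk.sieveIncl R)) 𝒮).IsEquivalence :=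
      Functor.isEquivalence_of_iso e1.symm
    exact Functor.isEquivalence_of_comp_left (Stk.restr (overPost u U) 𝒮) _
  obtain ⟨e2⟩ := theta_square u 𝒮 (FibCat.overCat U) (Stk.sieveIncl R)
  have h2 := theta_isEquivalence u 𝒮 (FibCat.overCat U) hfib
  have h3 := theta_isEquivalence u 𝒮 (Stk.sieveCat R) hfib
  have h5 : (theta u 𝒮 (FibCat.overCat U) ⋙
      Stk.restr (Stk.sieveIncl R) (bc u 𝒮)).IsEquivalence :=
    Functor.isEquivalence_of_iso e2.symm
  exact Functor.isEquivalence_of_comp_left (theta u 𝒮 (FibCat.overCat U)) _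

end Groth.Agent.S12808
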