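import Groth.Statements.S12831
import Groth.Statements.S12831
import Groth.Agent.Lib.Helper17.PointsTop
import Groth.Agent.Lib.Helper17.PointsDict
import Groth.Agent.Lib.Helper17.PointsQc2
import Groth.Agent.Lib.Helper38.DiagBaseChange

set_option autoImplicit false
universe u
open CategoryTheory AlgebraicGeometry
open AlgSt

namespace Groth.Agent.S12831

section Aux
open CategoryTheory AlgebraicGeometry
open AlgSt

open CategoryTheory CategoryTheory.Limits AlgebraicGeometry Opposite AlgSp FibCat Stk AlgSt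
open Groth.Agent.Lib.Helper17 Groth.Agent.Lib.Helper38

variable {S : Scheme.{u}}

theorem diag_fst {𝒜 ℬ : AlgSt.Cat S} (q : 𝒜 ⥤ᵇ ℬ) :
    BasedFunctor.comp (FibCat.diag q) (FibCat.fpFst q q) = BasedFunctor.id 𝒜 := rfl

theorem diag_snd {𝒜 ℬ : AlgSt.Cat S} (q : 𝒜 ⥤ᵇ ℬ) :
    BasedFunctor.comp (FibCat.diag q) (FibCat.fpSnd q q) = BasedFunctor.id 𝒜 := rfl

/-- a morphism of categories fibred in groupoids whose diagonal is surjective on points is injective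
on points -/
theorem injective_of_diag_surjective {𝒜 ℬ : AlgSt.Cat S} (hA : FibCat.IsFibGrpd 𝒜.p)
    (hB : FibCat.IsFibGrpd ℬ.p) (q : 𝒜 ⥤ᵇ ℬ) (hq : AlgSt.IsSurjective (FibCat.diag q)) :
    Function.Injective (AlgSt.Points.map q) := by
  intro ω₁ ω₂ hω
  obtain ⟨ξ, h1, h2⟩ := PTS.exists_point_fp hA hB hA q q ω₁ ω₂ hω
  obtain ⟨ω, rfl⟩ := hq ξ
  rw [← PTS.map_comp, diag_fst, PTS.map_id] at h1
  rw [← PTS.map_comp, diag_snd, PTS.map_id] at h2
  rw [← h1, ← h2]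

theorem main {𝒳 𝒴 : AlgSt.Cat S}
    (h𝒳 : AlgSt.IsAlgStack Scheme.fppfPrecoverage 𝒳) (h𝒴 : AlgSt.IsAlgStack Scheme.fppfPrecoverage 𝒴) (f : 𝒳 ⥤ᵇ 𝒴) :
    AlgSt.IsUnivInjective Scheme.fppfPrecoverage f ↔ AlgSt.IsSurjective (FibCat.diag f) := by
  have hX := h𝒳.isStack.1
  have hY := h𝒴.isStack.1
  constructor
  · intro hf ω
    refine ⟨AlgSt.Points.map (FibCat.fpFst f f) ω, ?_⟩
    apply hf 𝒳 h𝒳 f
    rw [← PTS.map_comp, diag_fst, PTS.map_id]
  · intro hΔ 𝒵 h𝒵 g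
    have hZ := h𝒵.isStack.1
    have hP : FibCat.IsFibGrpd (FibCat.fp g f).p := SP.isFibGrpd_fp g f hZ hX hY
    have hPP : FibCat.IsFibGrpd (FibCat.fp (FibCat.fpFst g f) (FibCat.fpFst g f)).p :=
      SP.isFibGrpd_fp _ _ hP hP hZ
    have hff : FibCat.IsFibGrpd (FibCat.fp f f).p := SP.isFibGrpd_fp f f hX hX hY
    refine injective_of_diag_surjective hP hZ _ ?_
    rw [← DBC.a_fst g f]
    exact PTS.isSurjective_comp _ _
      (PTS.isSurjective_of_isEquivOver _ (DBC.a_isEquivOver g f))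
      (PTS.isSurjective_fpFst hX hff hPP (FibCat.diag f) (DBC.c g f) hΔ)


end Aux

/-- (1) ⇔ (2): a morphism `f : 𝒳 ⟶ 𝒴` of algebraic stacks over `S` is universally injective (every base
change to an algebraic stack is injective on points) if and only if its diagonal `𝒳 ⟶ 𝒳 ×_𝒴 𝒳` is
surjective on points. -/
theorem result {S : Scheme.{u}} {𝒳 𝒴 : AlgSt.Cat S}
    (h𝒳 : AlgSt.IsAlgStack Scheme.fppfPrecoverage 𝒳) (h𝒴 : AlgSt.IsAlgStack Scheme.fppfPrecoverage 𝒴) (f : 𝒳 ⥤ᵇ 𝒴) :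
    AlgSt.IsUnivInjective Scheme.fppfPrecoverage f ↔ AlgSt.IsSurjective (FibCat.diag f) := by
  exact main h𝒳 h𝒴 f

end Groth.Agent.S12831
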