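import Groth.Statements.S12832
import Groth.Agent.Lib.Helper17.GerbeDescent2
import Groth.Agent.Lib.Helper17.PointsSp2
import Groth.Agent.Lib.Helper17.PointsQc2
import Groth.Agent.Lib.Helper17.LocQTools11
import Groth.Agent.Lib.Helper17.AlgStFp
import Groth.Agent.Lib.Helper23.AlgSpMono2
import Groth.Agent.S12939

set_option autoImplicit false
universe u
open CategoryTheory AlgebraicGeometry
open AlgSt

namespace Groth.Agent.S12832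

section Aux
open CategoryTheory AlgebraicGeometry
open AlgSt


open CategoryTheory.Limits Opposite AlgSp FibCat Stk AlgSt
open Groth.Agent.Lib.Helper17 Groth.Agent.Lib.Helper17.FP Groth.Agent.Lib.Helper17.EO
  Groth.Agent.Lib.Helper17.PTS Groth.Agent.Lib.Helper37.AlgSpPoints Groth.Agent.Lib.Helper86

variable {S : Scheme.{u}}

/-- Nullstellensatz for schemes -/
theorem exists_point_of_nonempty {k : Type u} [Field k] [IsAlgClosed k] {P : Scheme.{u}}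
    (f : P ⟶ Spec (CommRingCat.of k))
    [LocallyOfFiniteType f] [Nonempty P] : ∃ s : Spec (CommRingCat.of k) ⟶ P, s ≫ f = 𝟙 _ := by
  have : JacobsonSpace P := LocallyOfFiniteType.jacobsonSpace f
  obtain ⟨c, -, hc⟩ := nonempty_inter_closedPoints (X := P) (Z := Set.univ) Set.univ_nonempty
    isOpen_univ.isLocallyClosed
  exact ⟨pointOfClosedPoint f c hc, pointOfClosedPoint_comp f c hc⟩

/-- Nullstellensatz for algebraic spaces: a nonempty algebraic space locally of finite type over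
an algebraically closed field has a rational point. -/
theorem exists_section {k : Type u} [Field k] [IsAlgClosed k] (str : Spec (CommRingCat.of k) ⟶ S)
    {Z : Sp S} (hZ : IsAlgSpace Z) (f : Z ⟶ (yon S).obj (Over.mk str))
    (hf : AlgSp.LocP @LocallyOfFiniteType f)
    (hne : Nonempty (Points Z)) : ∃ t : (yon S).obj (Over.mk str) ⟶ Z, t ≫ f = 𝟙 _ := by
  obtain ⟨x⟩ := hne
  obtain ⟨U, c, hce, hcs⟩ := hZ.atlas
  obtain ⟨u, -⟩ := ofPt_surjective c hcs x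
  let g₀ : U ⟶ Over.mk str := (yon S).preimage (c ≫ f)
  have hg₀ : (yon S).map g₀ = c ≫ f := (yon S).map_preimage _
  have hlft : LocallyOfFiniteType g₀.left :=
    hf c (𝟙 _) g₀ hce (AlgSp.repWith_id @Etale _) (by rw [hg₀]; simp)
  have : Nonempty ↥U.left := ⟨u⟩
  obtain ⟨σ, hσ⟩ := exists_point_of_nonempty (k := k) g₀.left
  have hw : σ ≫ U.hom = str := by
    have h1 : g₀.left ≫ str = U.hom := Over.w g₀
    rw [← h1, ← Category.assoc, hσ]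
    exact Category.id_comp _
  let σ' : Over.mk str ⟶ U := Over.homMk σ hw
  refine ⟨(yon S).map σ' ≫ c, ?_⟩
  rw [Category.assoc, ← hg₀, ← Functor.map_comp]
  have : σ' ≫ g₀ = 𝟙 _ := by
    ext
    exact hσ
  rw [this]
  exact (yon S).map_id _


theorem hl_id_of_eq {𝒲 : AlgSt.Cat S} {R R' : Over S} (h : R = R') {a b : 𝒲.obj} (φ : a ⟶ b)
    (hφ : 𝒲.p.IsHomLift (𝟙 R) φ) : 𝒲.p.IsHomLift (𝟙 R') φ := by
  subst h; exact hφ

theorem hl_comp3 {𝒲 : AlgSt.Cat S} {R : Over S} {a b c d : 𝒲.obj} (φ₁ : a ⟶ b) (φ₂ : b ⟶ c)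
    (φ₃ : c ⟶ d) (h1 : 𝒲.p.IsHomLift (𝟙 R) φ₁) (h2 : 𝒲.p.IsHomLift (𝟙 R) φ₂)
    (h3 : 𝒲.p.IsHomLift (𝟙 R) φ₃) : 𝒲.p.IsHomLift (𝟙 R) (φ₁ ≫ φ₂ ≫ φ₃) := by
  have : 𝒲.p.IsHomLift (𝟙 R ≫ 𝟙 R ≫ 𝟙 R) (φ₁ ≫ φ₂ ≫ φ₃) := inferInstance
  simpa using this

/-- a point over an algebraically closed field in the image of a morphism which is representable
by algebraic spaces and locally of finite type lifts -/
theorem exists_lift_of_lft {𝒵 𝒲 : AlgSt.Cat S}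
    (h𝒵 : AlgSt.IsAlgStack Scheme.fppfPrecoverage 𝒵)
    (h𝒲 : AlgSt.IsAlgStack Scheme.fppfPrecoverage 𝒲) (g : 𝒵 ⥤ᵇ 𝒲)
    (hg : AlgSt.RepByAlgSpWith (AlgSp.LocP @LocallyOfFiniteType) g)
    (k : Type u) [Field k] [IsAlgClosed k] (s : Spec (CommRingCat.of k) ⟶ S) (w : 𝒲.obj)
    (hw : 𝒲.p.obj w = Over.mk s)
    (h : AlgSt.Points.mk ⟨k, s, w, hw⟩ ∈ Set.range (AlgSt.Points.map g)) :
    ∃ (z : 𝒵.obj) (φ : g.obj z ⟶ w), 𝒵.p.obj z = Over.mk s ∧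
      𝒲.p.IsHomLift (𝟙 (Over.mk s)) φ := by
  have hW := h𝒲.isStack.1
  have hZ := h𝒵.isStack.1
  have : 𝒲.p.IsFibered := TwoYoneda.isFibered_of_isFibGrpd hW
  let T : Over S := Over.mk s
  let x₀ : 𝒲.p.Fiber T := ⟨w, hw⟩
  let y : FibCat.overCat T ⥤ᵇ 𝒲 := TwoYoneda.pbB x₀
  obtain ⟨F, e, he, hlft⟩ := hg T y
  set Φ : ofSp F.obj ⥤ᵇ FibCat.overCat T := BasedFunctor.comp e (FibCat.fpFst y g) with hΦ
  set g₀ : F.obj ⟶ (yon S).obj T := spMapOfOver Φ with hg₀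
  let v : Over T := Over.mk (𝟙 T)
  let ζ : AlgSt.FPt (FibCat.overCat T) := ⟨k, s, v, rfl⟩
  obtain ⟨x', hx'⟩ := h
  have hζ : AlgSt.Points.map y (AlgSt.Points.mk ζ) = AlgSt.Points.map g x' := by
    rw [hx']
    exact mk_eq_of_hom _ _ (TwoYoneda.pbMap x₀ v)
  obtain ⟨pt, -, -⟩ :=
    exists_point_fp hZ hW (FG.isFibGrpd_overForget _) g y (AlgSt.Points.mk ζ) x' hζ
  obtain ⟨A, B, -⟩ := PDX.exists_homeos_fp h𝒵 h𝒲 g y F e he
  have hneF : Nonempty (AlgSp.Points F.obj) := ⟨A.symm pt⟩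
  obtain ⟨t, ht⟩ := exists_section s F.property g₀ hlft hneF
  let s₀ : F.obj.obj.obj (op T) := t.hom.app (op T) ⟨𝟙 T⟩
  let a₀ : (ofSp F.obj).obj := ⟨T, s₀⟩
  have hs : AlgSt.secHom Φ a₀ = 𝟙 T := by
    have h1 : g₀.hom.app (op T) s₀ = ⟨𝟙 T⟩ := by
      have := congrArg (fun r => r.hom.app (op T) ⟨𝟙 T⟩) ht
      exact this
    have h2 := spMapOfOver_app Φ T s₀
    rw [h2] at h1
    exact congrArg ULift.down h1
  have hw' : (Φ.obj a₀).left = T := Φ.w_obj a₀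
  let ι : Φ.obj a₀ ≅ v := Over.isoMk (eqToIso hw') (by
    have : eqToHom hw'.symm ≫ (Φ.obj a₀).hom = 𝟙 T := hs
    change (eqToIso hw').hom ≫ 𝟙 T = (Φ.obj a₀).hom
    rw [← this]
    simp)
  have hι : (FibCat.overCat T).p.IsHomLift (𝟙 T) ι.hom := by
    apply IsHomLift.of_fac (FibCat.overCat T).p (𝟙 _) ι.hom hw' rfl
    change (𝟙 _ : T ⟶ T) = eqToHom hw'.symm ≫ eqToHom hw' ≫ eqToHom rfl
    simp
  let q : (FibCat.fp y g).obj := e.obj a₀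
  have hq1 : 𝒲.p.IsHomLift (𝟙 ((FibCat.overCat T).p.obj q.obj.fst)) q.obj.iso.hom := q.property
  have hq2 : 𝒲.p.IsHomLift (𝟙 ((FibCat.overCat T).p.obj q.obj.fst)) q.obj.iso.inv := inferInstance
  have hq3 : 𝒲.p.IsHomLift (𝟙 T) q.obj.iso.inv := hl_id_of_eq hw' _ hq2
  have hy : 𝒲.p.IsHomLift (𝟙 T) (y.map ι.hom) := inferInstance
  have hpb : 𝒲.p.IsHomLift (𝟙 T) (TwoYoneda.pbMap x₀ v) :=
    (inferInstance : 𝒲.p.IsHomLift v.hom (TwoYoneda.pbMap x₀ v))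
  refine ⟨q.obj.snd, q.obj.iso.inv ≫ y.map ι.hom ≫ TwoYoneda.pbMap x₀ v, ?_, ?_⟩
  · exact (FP.snd_obj q).trans hw'
  · exact hl_comp3 _ _ _ hq3 hy hpb


theorem diag_iso_hom {𝒳 𝒴 : AlgSt.Cat S} (f : 𝒳 ⥤ᵇ 𝒴) (z : 𝒳.obj) :
    ((FibCat.diag f).obj z).obj.iso.hom = 𝟙 (f.obj z) := rfl

theorem main {𝒳 𝒴 : AlgSt.Cat S}
    (h𝒳 : AlgSt.IsAlgStack Scheme.fppfPrecoverage 𝒳) (h𝒴 : AlgSt.IsAlgStack Scheme.fppfPrecoverage 𝒴)
    (f : 𝒳 ⥤ᵇ 𝒴) :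
    AlgSt.IsSurjective (FibCat.diag f) ↔
      ∀ (k : Type u) [Field k] [IsAlgClosed k] (s : Spec (CommRingCat.of k) ⟶ S) (a₁ a₂ : 𝒳.obj)
        (_ : 𝒳.p.obj a₁ = Over.mk s) (_ : 𝒳.p.obj a₂ = Over.mk s) (β : f.obj a₁ ⟶ f.obj a₂),
        𝒴.p.IsHomLift (𝟙 (Over.mk s)) β →
          ∃ α : a₁ ⟶ a₂, 𝒳.p.IsHomLift (𝟙 (Over.mk s)) α ∧ f.map α = β := by
  have hX := h𝒳.isStack.1
  have hY := h𝒴.isStack.1
  have hW : AlgSt.IsAlgStack Scheme.fppfPrecoverage (FibCat.fp f f) :=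
    AFP.isAlgStack_fp h𝒴.isStack h𝒴.diag h𝒳 h𝒳 f f
  have hWf := hW.isStack.1
  constructor
  · intro hΔ k _ _ s a₁ a₂ h1 h2 β hβ
    have hβiso : IsIso β := FG.isIso_of_lift_id hY β hβ
    let θ : f.obj a₁ ≅ f.obj a₂ := asIso β
    have hθ : 𝒴.p.IsHomLift (𝟙 (𝒳.p.obj a₁)) θ.hom := hl_id_of_eq h1.symm β hβ
    let w : (FibCat.fp f f).obj := FP.mkObj a₁ a₂ θ hθ
    have hw : (FibCat.fp f f).p.obj w = Over.mk s := h1
    obtain ⟨z, φ, hz, hφ⟩ := exists_lift_of_lft h𝒳 hW (FibCat.diag f)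
      (Groth.Agent.S12939.result S 𝒳 𝒴 h𝒳 h𝒴 f) k s w hw (hΔ _)
    obtain ⟨φ₁, hφ₁e⟩ : ∃ φ₁ : z ⟶ a₁, φ₁ = φ.hom.fst := ⟨_, rfl⟩
    obtain ⟨φ₂, hφ₂e⟩ : ∃ φ₂ : z ⟶ a₂, φ₂ = φ.hom.snd := ⟨_, rfl⟩
    have hφ1 : 𝒳.p.IsHomLift (𝟙 (Over.mk s)) φ₁ := by
      rw [hφ₁e]; exact (FP.isHomLift_iff_fst φ _).1 hφ
    have hφ2 : 𝒳.p.IsHomLift (𝟙 (Over.mk s)) φ₂ := by
      rw [hφ₂e]; exact FP.isHomLift_snd φ _ hφ
    have i1 : IsIso φ₁ := FG.isIso_of_lift_id hX _ hφ1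
    have hinv : 𝒳.p.IsHomLift (𝟙 (Over.mk s)) (inv φ₁) := inferInstance
    have hcomp : 𝒳.p.IsHomLift (𝟙 (Over.mk s) ≫ 𝟙 (Over.mk s)) (inv φ₁ ≫ φ₂) :=
      inferInstance
    refine ⟨inv φ₁ ≫ φ₂, by simpa using hcomp, ?_⟩
    have hwc : f.map φ₁ ≫ β = f.map φ₂ := by
      have h0 := φ.hom.w
      rw [diag_iso_hom] at h0
      rw [hφ₁e, hφ₂e]
      change f.map φ.hom.fst ≫ β = 𝟙 _ ≫ f.map φ.hom.snd at h0
      rw [Category.id_comp] at h0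
      exact h0
    rw [Functor.map_comp, Functor.map_inv, IsIso.inv_comp_eq]
    exact hwc.symm
  · intro H ξ
    obtain ⟨p, rfl⟩ := AlgSt.Points.mk_surjective ξ
    let j : Spec (CommRingCat.of (AlgebraicClosure p.K)) ⟶ Spec (CommRingCat.of p.K) :=
      Spec.map (CommRingCat.ofHom (algebraMap p.K (AlgebraicClosure p.K)))
    let jj : Over.mk (j ≫ p.str) ⟶ Over.mk p.str := Over.homMk j rfl
    obtain ⟨w', ψ, hψ⟩ := FG.exists_lift_of_eq hWf p.lies jj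
    have hw' : (FibCat.fp f f).p.obj w' = Over.mk (j ≫ p.str) := hl_dom hψ.toIsHomLift
    have h1 : 𝒳.p.obj w'.obj.fst = Over.mk (j ≫ p.str) := hw'
    have h2 : 𝒳.p.obj w'.obj.snd = Over.mk (j ≫ p.str) := (FP.snd_obj w').trans h1
    have hβ : 𝒴.p.IsHomLift (𝟙 (Over.mk (j ≫ p.str))) w'.obj.iso.hom :=
      hl_id_of_eq h1 _ w'.property
    obtain ⟨α, hα, hfα⟩ := H (AlgebraicClosure p.K) (j ≫ p.str) w'.obj.fst w'.obj.snd h1 h2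
      w'.obj.iso.hom hβ
    let m : (FibCat.diag f).obj w'.obj.fst ⟶ w' :=
      FP.mkHom (F := f) (G := f) (z := (FibCat.diag f).obj w'.obj.fst) (z' := w')
        (𝟙 w'.obj.fst) α (by
          change f.map (𝟙 w'.obj.fst) ≫ w'.obj.iso.hom = 𝟙 (f.obj w'.obj.fst) ≫ f.map α
          rw [hfα]
          simp)
    refine ⟨AlgSt.Points.mk ⟨AlgebraicClosure p.K, j ≫ p.str, w'.obj.fst, h1⟩, ?_⟩
    rw [AlgSt.Points.map_mk]
    exact (mk_eq_of_hom _ ⟨AlgebraicClosure p.K, j ≫ p.str, w', hw'⟩ m).trans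
      (mk_eq_of_hom _ _ ψ)


end Aux

/-- (2) ⇔ (3): for a morphism `f : 𝒳 ⟶ 𝒴` of algebraic stacks over `S`, the diagonal `𝒳 ⟶ 𝒳 ×_𝒴 𝒳` is
surjective on points if and only if for every algebraically closed field `k`, all `x₁, x₂ : Spec k ⟶
𝒳` and every 2-arrow `β : f ∘ x₁ ⟶ f ∘ x₂` there is a 2-arrow `α : x₁ ⟶ x₂` with `β = f ⋆ α`; the
2-arrows are written through objects `a₁, a₂` of `𝒳` over `Spec k` and morphisms lying over the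
identity of `Spec k`. -/
theorem result {S : Scheme.{u}} {𝒳 𝒴 : AlgSt.Cat S}
    (h𝒳 : AlgSt.IsAlgStack Scheme.fppfPrecoverage 𝒳) (h𝒴 : AlgSt.IsAlgStack Scheme.fppfPrecoverage 𝒴) (f : 𝒳 ⥤ᵇ 𝒴) :
    AlgSt.IsSurjective (FibCat.diag f) ↔
      ∀ (k : Type u) [Field k] [IsAlgClosed k] (s : Spec (CommRingCat.of k) ⟶ S) (a₁ a₂ : 𝒳.obj)
        (_ : 𝒳.p.obj a₁ = Over.mk s) (_ : 𝒳.p.obj a₂ = Over.mk s) (β : f.obj a₁ ⟶ f.obj a₂),
        𝒴.p.IsHomLift (𝟙 (Over.mk s)) β →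
          ∃ α : a₁ ⟶ a₂, 𝒳.p.IsHomLift (𝟙 (Over.mk s)) α ∧ f.map α = β := by
  exact main h𝒳 h𝒴 f

end Groth.Agent.S12832
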