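import Groth.Statements.S12838
import Mathlib
import Groth.Prelude.Def_AlgSt5

set_option autoImplicit false
universe u
open CategoryTheory AlgebraicGeometry
open AlgSt

namespace Groth.Agent.S12838

section Aux
open CategoryTheory CategoryTheory.Limits MonoidalCategory CartesianMonoidalCategory MonObj GrpObj AlgebraicGeometry
open AlgSt


variable {S : Scheme.{u}} (G : Over S) [GrpObj G]

/-- the shear by `g` -/
noncomputable def shear {T : Over S} (g : T ⟶ G) : G ⊗ T ⟶ G ⊗ T :=
  lift (fst G T * (snd G T ≫ g)) (snd G T)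

lemma isIso_shear {T : Over S} (g : T ⟶ G) : IsIso (shear G g) := by
  refine ⟨⟨lift (fst G T * (snd G T ≫ g)⁻¹) (snd G T), ?_, ?_⟩⟩
  · simp only [shear, comp_lift, comp_mul, comp_inv, lift_fst, lift_snd, lift_snd_assoc,
      mul_inv_cancel_right, lift_fst_snd]
  · simp only [shear, comp_lift, comp_mul, comp_inv, lift_fst, lift_snd, lift_snd_assoc,
      inv_mul_cancel_right, lift_fst_snd]

lemma shear_whisker {T T' : Over S} (g : T ⟶ G) (f : T ⟶ T') :
    shear G g ≫ (G ◁ f) = lift (fst G T * (snd G T ≫ g)) (snd G T ≫ f) := by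
  apply CartesianMonoidalCategory.hom_ext
  · simp [shear]
  · simp [shear]

lemma cart_top {T T' : Over S} (g : T ⟶ G) (f : T ⟶ T') :
    IsPullback (lift (fst G T * (snd G T ≫ g)) (snd G T ≫ f)) (snd G T) (snd G T') f := by
  haveI := isIso_shear G g
  have h1 : IsPullback (shear G g) (snd G T) (snd G T) (𝟙 T) :=
    IsPullback.of_horiz_isIso ⟨by simp [shear]⟩
  have h2 := h1.paste_horiz (isPullback_whiskerLeft (G := G) f)
  rw [shear_whisker, Category.id_comp] at h2
  exact h2

variable {G} {X : Over S} (aX : AlgGrp.Action G X)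

lemma eqv_top {T T' : Over S} (g : T ⟶ G) (f : T ⟶ T') :
    (leftMul G T).act ≫ lift (fst G T * (snd G T ≫ g)) (snd G T ≫ f) =
      (G ◁ lift (fst G T * (snd G T ≫ g)) (snd G T ≫ f)) ≫ (leftMul G T').act := by
  apply CartesianMonoidalCategory.hom_ext
  · simp only [leftMul, Category.assoc, lift_fst, lift_snd, lift_fst_assoc, lift_snd_assoc,
      comp_lift, comp_mul, whiskerLeft_fst, whiskerLeft_snd, whiskerLeft_fst_assoc,
      whiskerLeft_snd_assoc, _root_.mul_assoc]
  · simp only [leftMul, Category.assoc, lift_fst, lift_snd, lift_fst_assoc, lift_snd_assoc,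
      comp_lift, comp_mul, whiskerLeft_fst, whiskerLeft_snd, whiskerLeft_fst_assoc,
      whiskerLeft_snd_assoc]

lemma wφ_top {T T' : Over S} (g : T ⟶ G) (f : T ⟶ T') (x : T ⟶ X) (x' : T' ⟶ X)
    (hg : lift g (f ≫ x') ≫ aX.act = x) :
    lift (fst G T * (snd G T ≫ g)) (snd G T ≫ f) ≫ (G ◁ x') ≫ aX.act = (G ◁ x) ≫ aX.act := by
  have h1 : lift (fst G T * (snd G T ≫ g)) (snd G T ≫ f) ≫ (G ◁ x') =
      lift (lift (fst G T) (snd G T ≫ g)) (snd G T ≫ f ≫ x') ≫ (μ[G] ▷ X) := by
    apply CartesianMonoidalCategory.hom_ext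
    · simp only [Category.assoc, lift_fst, lift_snd, lift_fst_assoc, lift_snd_assoc, comp_lift,
        whiskerLeft_fst, whiskerRight_fst, Hom.mul_def]
    · simp only [Category.assoc, lift_fst, lift_snd, lift_fst_assoc, lift_snd_assoc, comp_lift,
        whiskerLeft_snd, whiskerRight_snd]
  have h2 : lift (lift (fst G T) (snd G T ≫ g)) (snd G T ≫ f ≫ x') ≫ (α_ G G X).hom ≫
      (G ◁ aX.act) = G ◁ x := by
    apply CartesianMonoidalCategory.hom_ext
    · simp only [Category.assoc, lift_fst, lift_snd, lift_fst_assoc, lift_snd_assoc, comp_lift,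
        whiskerLeft_fst, associator_hom_fst, associator_hom_fst_assoc]
    · simp only [Category.assoc, lift_fst, lift_snd, lift_fst_assoc, lift_snd_assoc, comp_lift,
        whiskerLeft_snd, associator_hom_snd_fst, associator_hom_snd_snd]
      rw [← hg]
      simp only [comp_lift_assoc, Category.assoc]
      have h3 : lift (lift (fst G T) (snd G T ≫ g)) (snd G T ≫ f ≫ x') ≫ (α_ G G X).hom ≫
          snd G (G ⊗ X) = lift (snd G T ≫ g) (snd G T ≫ f ≫ x') := by
        apply CartesianMonoidalCategory.hom_ext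
        · simp only [Category.assoc, associator_hom_snd_fst, lift_fst, lift_snd, lift_fst_assoc]
        · simp only [Category.assoc, associator_hom_snd_snd, lift_snd]
      rw [reassoc_of% h3]
  calc lift (fst G T * (snd G T ≫ g)) (snd G T ≫ f) ≫ (G ◁ x') ≫ aX.act
      = (lift (lift (fst G T) (snd G T ≫ g)) (snd G T ≫ f ≫ x') ≫ (μ[G] ▷ X)) ≫ aX.act := by
        rw [← Category.assoc, h1]
    _ = (lift (lift (fst G T) (snd G T ≫ g)) (snd G T ≫ f ≫ x') ≫ (α_ G G X).hom ≫
          (G ◁ aX.act)) ≫ aX.act := by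
        simp only [Category.assoc, aX.mul_act]
    _ = (G ◁ x) ≫ aX.act := by rw [h2]

lemma one_act' {T : Over S} (x : T ⟶ X) : lift (1 : T ⟶ G) x ≫ aX.act = x := by
  have h : lift (1 : T ⟶ G) x = x ≫ (λ_ X).inv ≫ (η[G] ▷ X) := by
    apply CartesianMonoidalCategory.hom_ext
    · simp only [lift_fst, Category.assoc, whiskerRight_fst, leftUnitor_inv_fst_assoc, Hom.one_def]
      rw [← Category.assoc]
      congr 1
      exact toUnit_unique _ _
    · simp only [lift_snd, Category.assoc, whiskerRight_snd, leftUnitor_inv_snd, Category.comp_id]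
  rw [h, Category.assoc, Category.assoc, aX.one_act, Iso.inv_hom_id, Category.comp_id]

lemma part1 {T T' : Over S} (f : T ⟶ T') (x : T ⟶ X) (x' : T' ⟶ X) (top : G ⊗ T ⟶ G ⊗ T')
    (hsnd : top ≫ snd G T' = snd G T ≫ f)
    (heqv : (leftMul G T).act ≫ top = (G ◁ top) ≫ (leftMul G T').act)
    (hwφ : top ≫ (G ◁ x') ≫ aX.act = (G ◁ x) ≫ aX.act) :
    ∃ g : T ⟶ G, lift g (f ≫ x') ≫ aX.act = x ∧
      top = lift (fst G T * (snd G T ≫ g)) (snd G T ≫ f) := by
  refine ⟨lift (1 : T ⟶ G) (𝟙 T) ≫ top ≫ fst G T', ?_, ?_⟩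
  · have h1 : lift (1 : T ⟶ G) (𝟙 T) ≫ top = lift (lift (1 : T ⟶ G) (𝟙 T) ≫ top ≫ fst G T') f := by
      apply CartesianMonoidalCategory.hom_ext
      · simp only [Category.assoc, lift_fst]
      · simp only [Category.assoc, lift_snd, hsnd, lift_snd_assoc, Category.id_comp]
    have h3 : lift (1 : T ⟶ G) (𝟙 T) ≫ (G ◁ x) = lift (1 : T ⟶ G) x := by
      apply CartesianMonoidalCategory.hom_ext
      · simp only [Category.assoc, whiskerLeft_fst, lift_fst]
      · simp only [Category.assoc, whiskerLeft_snd, lift_snd, lift_snd_assoc, Category.id_comp]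
    have h5 : lift (lift (1 : T ⟶ G) (𝟙 T) ≫ top ≫ fst G T') f ≫ (G ◁ x') =
        lift (lift (1 : T ⟶ G) (𝟙 T) ≫ top ≫ fst G T') (f ≫ x') := by
      apply CartesianMonoidalCategory.hom_ext
      · simp only [Category.assoc, whiskerLeft_fst, lift_fst]
      · simp only [Category.assoc, whiskerLeft_snd, lift_snd, lift_snd_assoc]
    calc lift (lift (1 : T ⟶ G) (𝟙 T) ≫ top ≫ fst G T') (f ≫ x') ≫ aX.act
        = (lift (1 : T ⟶ G) (𝟙 T) ≫ top) ≫ (G ◁ x') ≫ aX.act := by
          rw [h1, ← h5, Category.assoc]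
      _ = lift (1 : T ⟶ G) (𝟙 T) ≫ (G ◁ x) ≫ aX.act := by rw [Category.assoc, hwφ]
      _ = x := by rw [← Category.assoc, h3, one_act']
  · have he : lift (fst G T) (lift (1 : G ⊗ T ⟶ G) (snd G T)) ≫ (leftMul G T).act = 𝟙 _ := by
      apply CartesianMonoidalCategory.hom_ext
      · simp only [leftMul, Category.assoc, lift_fst, lift_snd, lift_fst_assoc, lift_snd_assoc,
          comp_lift, comp_mul, Category.id_comp, _root_.mul_one]
      · simp only [leftMul, Category.assoc, lift_fst, lift_snd, lift_fst_assoc, lift_snd_assoc,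
          comp_lift, Category.id_comp]
    have h4 : top = lift (fst G T) (lift (1 : G ⊗ T ⟶ G) (snd G T)) ≫ (G ◁ top) ≫
        (leftMul G T').act := by
      rw [← heqv, ← Category.assoc, he, Category.id_comp]
    apply CartesianMonoidalCategory.hom_ext
    · rw [lift_fst]
      conv_lhs => rw [h4]
      simp only [leftMul, Category.assoc, lift_fst, lift_snd, lift_fst_assoc, lift_snd_assoc,
        comp_lift, comp_mul, whiskerLeft_fst, whiskerLeft_snd_assoc, whiskerLeft_fst_assoc]
      congr 1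
      rw [← Category.assoc, ← Category.assoc, ← Category.assoc]
      congr 2
      apply CartesianMonoidalCategory.hom_ext
      · simp only [Category.assoc, lift_fst, comp_one]
      · simp only [Category.assoc, lift_snd, Category.comp_id]
    · rw [lift_snd, hsnd]

theorem main (T T' : Over S) (f : T ⟶ T') (x : T ⟶ X) (x' : T' ⟶ X) :
    (∀ h : (AlgSt.quotMap Scheme.fppfPrecoverage G aX).obj ((AlgSt.ofOverCat X).obj (Over.mk x)) ⟶ (AlgSt.quotMap Scheme.fppfPrecoverage G aX).obj ((AlgSt.ofOverCat X).obj (Over.mk x')),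
        h.base = f → ∃ g : T ⟶ G, lift g (f ≫ x') ≫ aX.act = x ∧
          h.top = lift (fst G T * (snd G T ≫ g)) (snd G T ≫ f)) ∧
    (∀ g : T ⟶ G, lift g (f ≫ x') ≫ aX.act = x →
        ∃ h : (AlgSt.quotMap Scheme.fppfPrecoverage G aX).obj ((AlgSt.ofOverCat X).obj (Over.mk x)) ⟶ (AlgSt.quotMap Scheme.fppfPrecoverage G aX).obj ((AlgSt.ofOverCat X).obj (Over.mk x')),
          h.base = f ∧ h.top = lift (fst G T * (snd G T ≫ g)) (snd G T ≫ f)) := by
  constructor
  · intro h hb
    have hsnd : h.top ≫ snd G T' = snd G T ≫ f := by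
      rw [← hb]; exact h.cart.w
    exact part1 aX f x x' h.top hsnd h.eqv h.wφ
  · intro g hg
    exact ⟨⟨f, lift (fst G T * (snd G T ≫ g)) (snd G T ≫ f), eqv_top g f, cart_top G g f,
      wφ_top aX g f x x' hg⟩, rfl, rfl⟩


end Aux

open MonoidalCategory CartesianMonoidalCategory MonObj GrpObj in
/-- Let `G` be a group scheme over `S` acting on an `S`-scheme `X`, `f : T ⟶ T'` a morphism of
`S`-schemes, `x` a `T`-point and `x'` a `T'`-point of `X`. In the quotient category `[X/G]` (scheme
torsors for the fppf topology with an equivariant morphism to `X`) the canonical functor `X ⟶ [X/G]`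
sends `x` to the trivial torsor `G ×_S T ⟶ T`, with `G` acting by left multiplication on the first
factor and the equivariant morphism `(h, t) ↦ h · x(t)`, and likewise for `x'`. The morphisms from
the image of `x` to the image of `x'` lying over `f` are exactly the maps `(h, t) ↦ (h · g(t),
f(t))` for those `T`-points `g` of `G` with `g · (x' ∘ f) = x`: every morphism over `f` is of this
form, and every such `g` defines one. -/
theorem result (S : Scheme.{u}) (G : Over S) [GrpObj G] (X : Over S)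
    (aX : AlgGrp.Action G X) (T T' : Over S) (f : T ⟶ T') (x : T ⟶ X) (x' : T' ⟶ X) :
    (∀ h : (AlgSt.quotMap Scheme.fppfPrecoverage G aX).obj ((AlgSt.ofOverCat X).obj (Over.mk x)) ⟶ (AlgSt.quotMap Scheme.fppfPrecoverage G aX).obj ((AlgSt.ofOverCat X).obj (Over.mk x')),
        h.base = f → ∃ g : T ⟶ G, lift g (f ≫ x') ≫ aX.act = x ∧
          h.top = lift (fst G T * (snd G T ≫ g)) (snd G T ≫ f)) ∧
    (∀ g : T ⟶ G, lift g (f ≫ x') ≫ aX.act = x →
        ∃ h : (AlgSt.quotMap Scheme.fppfPrecoverage G aX).obj ((AlgSt.ofOverCat X).obj (Over.mk x)) ⟶ (AlgSt.quotMap Scheme.fppfPrecoverage G aX).obj ((AlgSt.ofOverCat X).obj (Over.mk x')),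
          h.base = f ∧ h.top = lift (fst G T * (snd G T ≫ g)) (snd G T ≫ f)) := by
  exact main aX T T' f x x'

end Groth.Agent.S12838
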