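import Groth.Statements.S12839
import Mathlib
import Groth.Prelude.Def_AlgSt5

set_option autoImplicit false
universe u
open CategoryTheory AlgebraicGeometry
open AlgSt

namespace Groth.Agent.S12839

section Aux
open CategoryTheory CategoryTheory.Limits MonoidalCategory CartesianMonoidalCategory MonObj GrpObj AlgebraicGeometry
open AlgSt


variable {S : Scheme.{u}} (G : Over S) [GrpObj G]

lemma leftMul_whisker {T P : Over S} (s' : T ⟶ P) :
    (leftMul G T).act ≫ (G ◁ s') = (G ◁ (G ◁ s')) ≫ (α_ G G P).inv ≫ (μ[G] ▷ P) := by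
  have hμ : fst (G ⊗ G) P ≫ μ[G] = (fst _ _ ≫ fst G G) * (fst _ _ ≫ snd G G) := by
    rw [Hom.mul_def, ← comp_lift, lift_fst_snd, Category.comp_id]
  apply CartesianMonoidalCategory.hom_ext
  · simp only [leftMul, Category.assoc, lift_fst, lift_snd, lift_fst_assoc, lift_snd_assoc, comp_lift, comp_mul, whiskerLeft_fst, whiskerLeft_snd, whiskerLeft_fst_assoc, whiskerLeft_snd_assoc, whiskerRight_fst, whiskerRight_snd, whiskerRight_fst_assoc, whiskerRight_snd_assoc, associator_hom_fst, associator_hom_snd_fst, associator_hom_snd_snd, associator_hom_snd_fst_assoc, associator_hom_snd_snd_assoc, associator_inv_fst_fst, associator_inv_fst_snd, associator_inv_snd, associator_inv_fst_fst_assoc, associator_inv_fst_snd_assoc, associator_inv_snd_assoc, hμ]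
  · simp only [leftMul, Category.assoc, lift_fst, lift_snd, lift_fst_assoc, lift_snd_assoc, comp_lift, comp_mul, whiskerLeft_fst, whiskerLeft_snd, whiskerLeft_fst_assoc, whiskerLeft_snd_assoc, whiskerRight_fst, whiskerRight_snd, whiskerRight_fst_assoc, whiskerRight_snd_assoc, associator_hom_fst, associator_hom_snd_fst, associator_hom_snd_snd, associator_hom_snd_fst_assoc, associator_hom_snd_snd_assoc, associator_inv_fst_fst, associator_inv_fst_snd, associator_inv_snd, associator_inv_fst_fst_assoc, associator_inv_fst_snd_assoc, associator_inv_snd_assoc]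

variable {G} {X : Over S} (aX : AlgGrp.Action G X)

theorem main (A : AlgSt.QuotObj Scheme.fppfPrecoverage G aX) :
    ∃ (R : Presieve A.base.left) (_ : R ∈ Scheme.fppfPrecoverage A.base.left),
      ∀ ⦃T' : Scheme.{u}⦄ (f : T' ⟶ A.base.left), R f →
        ∃ (x : Over.mk (f ≫ A.base.hom) ⟶ X)
          (h : (AlgSt.quotMap Scheme.fppfPrecoverage G aX).obj ((AlgSt.ofOverCat X).obj (Over.mk x)) ⟶ A),
          h.base = Over.homMk f rfl := by
  obtain ⟨R, hR, hsec⟩ := A.loc
  refine ⟨R, hR, fun T' f hf => ?_⟩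
  obtain ⟨s, hs⟩ := hsec f hf
  have hs' : s ≫ A.π.left = f := hs
  let s' : Over.mk (f ≫ A.base.hom) ⟶ A.P := Over.homMk s (by
    change s ≫ A.P.hom = f ≫ A.base.hom
    rw [← hs', Category.assoc, Over.w])
  have hsπ : s' ≫ A.π = Over.homMk f rfl := by
    ext; exact hs'
  refine ⟨s' ≫ A.φ, ⟨Over.homMk f rfl, (G ◁ s') ≫ A.act.act, ?_, ?_, ?_⟩, rfl⟩
  · -- eqv
    change (leftMul G (Over.mk (f ≫ A.base.hom))).act ≫ (G ◁ s') ≫ A.act.act =
      (G ◁ ((G ◁ s') ≫ A.act.act)) ≫ A.act.act
    have hm : (G ◁ A.act.act) ≫ A.act.act = (α_ G G A.P).inv ≫ (μ[G] ▷ A.P) ≫ A.act.act := by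
      rw [A.act.mul_act, Iso.inv_hom_id_assoc]
    rw [MonoidalCategory.whiskerLeft_comp, Category.assoc, hm, ← Category.assoc,
      leftMul_whisker G s']
    simp only [Category.assoc]
  · -- cart
    change IsPullback ((G ◁ s') ≫ A.act.act) (snd G (Over.mk (f ≫ A.base.hom))) A.π (Over.homMk f rfl)
    rw [← hsπ]
    exact (isPullback_whiskerLeft s').paste_horiz A.cart
  · -- wφ
    change ((G ◁ s') ≫ A.act.act) ≫ A.φ = (G ◁ (s' ≫ A.φ)) ≫ aX.act
    rw [Category.assoc, A.eqv, MonoidalCategory.whiskerLeft_comp, Category.assoc]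


end Aux

/-- Let `G` be a group scheme over `S` acting on an `S`-scheme `X` and let `A` be an object of the
quotient category `[X/G]` over the `S`-scheme `T` — a `G`-torsor `P ⟶ T` for the fppf topology which
is a scheme, with an equivariant `P ⟶ X`. Then there is an fppf covering family of `T` such that for
every member `f : T' ⟶ T` there are a `T'`-point `x` of `X` and a morphism of `[X/G]` lying over `f`
from the image of `x` under the canonical functor `X ⟶ [X/G]` (the trivial torsor `G ×_S T'` with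
`(h, t) ↦ h · x(t)`) to `A`: every object is, fppf-locally on its base, isomorphic to a trivial one. -/
theorem result (S : Scheme.{u}) (G : Over S) [GrpObj G] (X : Over S)
    (aX : AlgGrp.Action G X) (A : AlgSt.QuotObj Scheme.fppfPrecoverage G aX) :
    ∃ (R : Presieve A.base.left) (_ : R ∈ Scheme.fppfPrecoverage A.base.left),
      ∀ ⦃T' : Scheme.{u}⦄ (f : T' ⟶ A.base.left), R f →
        ∃ (x : Over.mk (f ≫ A.base.hom) ⟶ X)
          (h : (AlgSt.quotMap Scheme.fppfPrecoverage G aX).obj ((AlgSt.ofOverCat X).obj (Over.mk x)) ⟶ A),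
          h.base = Over.homMk f rfl := by
  exact main aX A

end Groth.Agent.S12839
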