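import Groth.Statements.S12845
import Groth.Agent.Lib.Helper17.AlgStComp
import Groth.Agent.Lib.Helper17.FpInvariance

set_option autoImplicit false
open CategoryTheory AlgebraicGeometry
universe u
open AlgSt

namespace Groth.Agent.S12845

open Groth.Agent.Lib.Helper17 Groth.Agent.Lib.Helper17.PD Groth.Agent.Lib.Helper17.EO
  Groth.Agent.Lib.Helper17.AT Groth.Agent.Lib.Helper17.AB Groth.Agent.Lib.Helper17.ACP
  Groth.Agent.Lib.Helper17.AOS

set_option backward.isDefEq.respectTransparency false in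
set_option backward.isDefEq.respectTransparency.types false in
/-- a 2-isomorphism over the base from its components -/
def isoOfComponents {C : Type*} [Category C] {𝒜 ℬ : BasedCategory C} {F G : 𝒜 ⥤ᵇ ℬ}
    (τ : ∀ x : 𝒜.obj, F.obj x ≅ G.obj x)
    (nat : ∀ {x x' : 𝒜.obj} (β : x ⟶ x'), F.map β ≫ (τ x').hom = (τ x).hom ≫ G.map β)
    (lift : ∀ x : 𝒜.obj, ℬ.p.IsHomLift (𝟙 (𝒜.p.obj x)) (τ x).hom) : F ≅ G :=
  BasedNatIso.mkNatIso (NatIso.ofComponents τ nat) lift

set_option backward.isDefEq.respectTransparency false in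
set_option backward.isDefEq.respectTransparency.types false in
theorem fwd {S : Scheme.{u}} {𝒳 𝒴 : AlgSt.Cat S}
    (h𝒳 : FibCat.IsFibGrpd 𝒳.p) (h𝒴 : FibCat.IsFibGrpd 𝒴.p)
    (P : MorphismProperty (AlgSp.Sp S)) (hPb : BC P)
    (hP : AlgSp.IsLocalOnBase AlgSp.IsFppfCover P)
    (f : 𝒳 ⥤ᵇ 𝒴) (h : AlgSt.RepByAlgSpWith P f)
    (Z : AlgSp.Space S) (z : AlgSt.ofSp Z.obj ⥤ᵇ 𝒴) :
    ∃ (V : AlgSp.Space S) (a : V ⟶ Z) (e : AlgSt.ofSp V.obj ⥤ᵇ FibCat.fp z f),
      FibCat.IsEquivOver e ∧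
        Nonempty (BasedFunctor.comp e (FibCat.fpFst z f) ≅ AlgSt.ofSpMap a.hom) ∧ P a.hom := by
  have := restr_respectsIso P hPb
  have h1 : AlgSt.RepByAlgSpWith (restr P) (FibCat.fpFst z f) := by
    rw [repWith_restr_iff]
    exact repWith_fpFst P f z h
  have hfp : FibCat.IsFibGrpd (FibCat.fp z f).p :=
    SP.isFibGrpd_fp z f (Stk.isFibGrpd_ofPsh _) h𝒳 h𝒴
  obtain ⟨V, e, he, -, -, hPa⟩ := exists_space_of_repWith (restr P)
    (restr_isLocalOnBase _ P hP) hfp Z (FibCat.fpFst z f) h1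
  refine ⟨V, ObjectProperty.homMk (ObjectProperty.homMk
    (mapOf (BasedFunctor.comp e (FibCat.fpFst z f)))), e, he, ⟨?_⟩, hPa⟩
  exact isoOfComponents (fun x => compIso (BasedFunctor.comp e (FibCat.fpFst z f)) x)
    (fun β => compIso_nat (BasedFunctor.comp e (FibCat.fpFst z f)) β)
    (fun x => compIso_lift (BasedFunctor.comp e (FibCat.fpFst z f)) x)

set_option backward.isDefEq.respectTransparency false in
set_option backward.isDefEq.respectTransparency.types false in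
theorem bwd {S : Scheme.{u}} {𝒳 𝒴 : AlgSt.Cat S}
    (P : MorphismProperty (AlgSp.Sp S)) (f : 𝒳 ⥤ᵇ 𝒴)
    (h : ∀ (Z : AlgSp.Space S) (z : AlgSt.ofSp Z.obj ⥤ᵇ 𝒴),
        ∃ (V : AlgSp.Space S) (a : V ⟶ Z) (e : AlgSt.ofSp V.obj ⥤ᵇ FibCat.fp z f),
          FibCat.IsEquivOver e ∧
            Nonempty (BasedFunctor.comp e (FibCat.fpFst z f) ≅ AlgSt.ofSpMap a.hom) ∧ P a.hom) :
    AlgSt.RepByAlgSpWith P f := by
  intro U y
  obtain ⟨V, a, e, he, ⟨ι⟩, hPa⟩ := h ⟨(AlgSp.yon S).obj U, AlgSp.IsAlgSpace.yon_obj U⟩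
    (BasedFunctor.comp (AlgSt.toOverCat U) y)
  have hK := FI.fa_isEquivOver (AlgSt.toOverCat U) y f (AD.toOverCat_isEquivOver U)
  refine ⟨V, BasedFunctor.comp e (FI.fa (AlgSt.toOverCat U) y f),
    isEquivOver_comp _ _ he hK, ?_⟩
  have key : AlgSt.spMapOfOver (BasedFunctor.comp (BasedFunctor.comp e
      (FI.fa (AlgSt.toOverCat U) y f)) (FibCat.fpFst y f)) = a.hom := by
    apply ObjectProperty.hom_ext
    rw [← AD.mapOf_comp_ofOverCat]
    have h2 : mapOf (AlgSt.ofSpMap a.hom) = a.hom.hom := mapOf_ofPshMap a.hom.hom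
    rw [← h2]
    refine mapOf_congr _ _ (fun x => ?_) (fun x => ?_)
    · exact compApp ι x
    · exact compApp_lift ι x
  rw [key]
  exact hPa

/-- Let `P` be a property of morphisms of algebraic spaces over `S` which is stable under base change
and fppf local on the base, and `f : 𝒳 ⟶ 𝒴` a 1-morphism of algebraic stacks over `S` representable
by algebraic spaces. Then `f` has `P` (a condition on its base changes to schemes) if and only if
for every algebraic space `Z` and every `z : Z ⟶ 𝒴` the projection `Z ×_𝒴 𝒳 ⟶ Z` has `P`, the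
projection being named by an algebraic space `V`, a morphism `a : V ⟶ Z` and an equivalence over
`(Sch/S)` from the category of `V` to the 2-fibre product whose composite with the first projection
is 2-isomorphic to the functor of `a`. (Stability under base change is asked for every pullback
square of fppf sheaves whose four corners are algebraic spaces.) -/
theorem result {S : Scheme.{u}} {𝒳 𝒴 : AlgSt.Cat S}
    (h𝒳 : AlgSt.IsAlgStack Scheme.fppfPrecoverage 𝒳) (h𝒴 : AlgSt.IsAlgStack Scheme.fppfPrecoverage 𝒴)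
    (P : MorphismProperty (AlgSp.Sp S))
    (hPb : ∀ ⦃X₁ Y₁ X₂ Y₂ : AlgSp.Sp S⦄, AlgSp.IsAlgSpace X₁ → AlgSp.IsAlgSpace Y₁ → AlgSp.IsAlgSpace X₂ →
      AlgSp.IsAlgSpace Y₂ → ∀ (a : X₁ ⟶ Y₁) (b : Y₂ ⟶ Y₁) (a' : X₂ ⟶ Y₂) (b' : X₂ ⟶ X₁),
      IsPullback b' a' a b → P a → P a')
    (hP : AlgSp.IsLocalOnBase AlgSp.IsFppfCover P)
    (f : 𝒳 ⥤ᵇ 𝒴) (hf : AlgSt.RepByAlgSp1 f) :
    AlgSt.RepByAlgSpWith P f ↔
      ∀ (Z : AlgSp.Space S) (z : AlgSt.ofSp Z.obj ⥤ᵇ 𝒴),
        ∃ (V : AlgSp.Space S) (a : V ⟶ Z) (e : AlgSt.ofSp V.obj ⥤ᵇ FibCat.fp z f),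
          FibCat.IsEquivOver e ∧
            Nonempty (BasedFunctor.comp e (FibCat.fpFst z f) ≅ AlgSt.ofSpMap a.hom) ∧ P a.hom := by
  constructor
  · intro h Z z
    exact fwd h𝒳.isStack.1 h𝒴.isStack.1 P hPb hP f h Z z
  · intro h
    exact bwd P f h

end Groth.Agent.S12845
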