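import Groth.Statements.S12844
import Groth.Agent.Lib.Helper17.FppfDescent
import Groth.Agent.S12845

set_option autoImplicit false
open CategoryTheory AlgebraicGeometry
universe u
open AlgSt

namespace Groth.Agent.S12844

/-- Let `P` be a property of morphisms of algebraic spaces over `S` which is stable under base change
and fppf local on the base, `f : 𝒳 ⟶ 𝒴` a 1-morphism of algebraic stacks over `S` representable by
algebraic spaces, `W` an algebraic space and `w : W ⟶ 𝒴` surjective, flat and locally of finite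
presentation. Then `f` has `P` if and only if the projection `V = W ×_𝒴 𝒳 ⟶ W` has `P`; here `V ⟶ W`
is named by an algebraic space `V`, a morphism `a : V ⟶ W` and an equivalence over `(Sch/S)` from
the category of `V` to the 2-fibre product whose composite with the first projection is 2-isomorphic
to the functor of `a`. (Stability under base change is asked for every pullback square of fppf
sheaves whose four corners are algebraic spaces.) -/
theorem result {S : Scheme.{u}} {𝒳 𝒴 : AlgSt.Cat S}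
    (h𝒳 : AlgSt.IsAlgStack Scheme.fppfPrecoverage 𝒳) (h𝒴 : AlgSt.IsAlgStack Scheme.fppfPrecoverage 𝒴)
    (P : MorphismProperty (AlgSp.Sp S))
    (hPb : ∀ ⦃X₁ Y₁ X₂ Y₂ : AlgSp.Sp S⦄, AlgSp.IsAlgSpace X₁ → AlgSp.IsAlgSpace Y₁ → AlgSp.IsAlgSpace X₂ →
      AlgSp.IsAlgSpace Y₂ → ∀ (a : X₁ ⟶ Y₁) (b : Y₂ ⟶ Y₁) (a' : X₂ ⟶ Y₂) (b' : X₂ ⟶ X₁),
      IsPullback b' a' a b → P a → P a')
    (hP : AlgSp.IsLocalOnBase AlgSp.IsFppfCover P)
    (f : 𝒳 ⥤ᵇ 𝒴) (hf : AlgSt.RepByAlgSp1 f) (W : AlgSp.Space S) (w : AlgSt.ofSp W.obj ⥤ᵇ 𝒴)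
    (hw₁ : AlgSt.RepByAlgSpWith (AlgSp.LocP @Flat) w)
    (hw₂ : AlgSt.RepByAlgSpWith (AlgSp.LocP @LocallyOfFinitePresentation) w)
    (hw₃ : AlgSt.RepByAlgSpWith AlgSp.IsSurjectiveMor w) :
    AlgSt.RepByAlgSpWith P f ↔
      ∃ (V : AlgSp.Space S) (a : V ⟶ W) (e : AlgSt.ofSp V.obj ⥤ᵇ FibCat.fp w f),
        FibCat.IsEquivOver e ∧
          Nonempty (BasedFunctor.comp e (FibCat.fpFst w f) ≅ AlgSt.ofSpMap a.hom) ∧ P a.hom := by
  constructor
  · intro h
    exact Groth.Agent.S12845.fwd h𝒳.isStack.1 h𝒴.isStack.1 P hPb hP f h W w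
  · rintro ⟨V, a, e, he, ⟨ι⟩, hPa⟩
    apply Groth.Agent.Lib.Helper17.FD.repWith_of_fpFst_cover P hPb hP f hf w hw₁ hw₂ hw₃
    have hQ : (Groth.Agent.Lib.Helper17.ACP.restr P).RespectsIso :=
      Groth.Agent.Lib.Helper17.ACP.restr_respectsIso P hPb
    have hrb : AlgSp.RepBySp a.hom.hom :=
      Groth.Agent.Lib.Helper17.AR.repBySp_of_algSpaces V W _
    have h0 : AlgSp.RepBySpWith (Groth.Agent.Lib.Helper17.ACP.restr P) a.hom.hom := by
      rw [AlgSp.repBySpWith_hom_iff]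
      intro U ξ F' fst snd sq
      have hF' : AlgSp.IsAlgSpace F' := (AlgSp.repBySp_hom_iff a.hom).mp hrb ξ fst snd sq
      exact ⟨hF', hF', AlgSp.IsAlgSpace.yon_obj U,
        hPb V.property W.property hF' (AlgSp.IsAlgSpace.yon_obj U) a.hom ξ snd fst sq hPa⟩
    have h1 : AlgSt.RepByAlgSpWith (Groth.Agent.Lib.Helper17.ACP.restr P)
        (Stk.ofPshMap a.hom.hom) :=
      (Groth.Agent.S12778.result (Groth.Agent.Lib.Helper17.ACP.restr P) _ hrb).mp h0
    have h2 : AlgSt.RepByAlgSpWith P (AlgSt.ofSpMap a.hom) :=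
      (Groth.Agent.Lib.Helper17.ACP.repWith_restr_iff P _).mp h1
    have h3 : AlgSt.RepByAlgSpWith P (BasedFunctor.comp e (FibCat.fpFst w f)) := by
      refine Groth.Agent.Lib.Helper17.AB.repWith_of_square_fwd P (AlgSt.ofSpMap a.hom)
        (BasedFunctor.comp e (FibCat.fpFst w f)) (BasedFunctor.id _) (BasedFunctor.id _)
        (Groth.Agent.Lib.Helper17.AOS.isEquivOver_id _)
        (Groth.Agent.Lib.Helper17.AOS.isEquivOver_id _)
        (fun x' => Groth.Agent.Lib.Helper17.AT.compApp ι x') ?_ ?_ h2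
      · intro x x₁ β
        exact Groth.Agent.Lib.Helper17.AT.compApp_nat ι β
      · intro x'
        exact Groth.Agent.Lib.Helper17.AT.compApp_lift ι x'
    exact Groth.Agent.Lib.Helper17.FD.repWith_of_precomp_equiv P e he _ h3

end Groth.Agent.S12844
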