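import Groth.Statements.S12848
import Groth.Agent.S12774
import Groth.Agent.S12817

set_option autoImplicit false
open CategoryTheory AlgebraicGeometry
universe u
open AlgSt

namespace Groth.Agent.S12848

open Groth.Agent.Lib.Helper17 Groth.Agent.Lib.Helper17.FP Groth.Agent.Lib.Helper17.FG

set_option backward.isDefEq.respectTransparency false in
set_option backward.isDefEq.respectTransparency.types false in
theorem rel_aux {S : Scheme.{u}} {𝒳 𝒴 : AlgSt.Cat S} (h𝒳g : FibCat.IsFibGrpd 𝒳.p)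
    (h𝒴g : FibCat.IsFibGrpd 𝒴.p) (f : 𝒳 ⥤ᵇ 𝒴) (hf : AlgSt.IsMono f)
    (xp xq : 𝒳.obj) (yr : 𝒴.obj) (a : yr ⟶ f.obj xp) (b : yr ⟶ f.obj xq)
    (K : Type u) [Field K] (str : Spec (CommRingCat.of K) ⟶ S) (hlies : 𝒴.p.obj yr = Over.mk str) :
    ∃ (r : AlgSt.FPt 𝒳) (_ : r.obj ⟶ xp) (_ : r.obj ⟶ xq), True := by
  -- base morphisms
  let ga : 𝒴.p.obj yr ⟶ 𝒳.p.obj xp := 𝒴.p.map a ≫ eqToHom (f.w_obj xp)
  let gb : 𝒴.p.obj yr ⟶ 𝒳.p.obj xq := 𝒴.p.map b ≫ eqToHom (f.w_obj xq)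
  have ha : 𝒴.p.IsHomLift ga a := by
    apply IsHomLift.of_fac' 𝒴.p ga a rfl (f.w_obj xp)
    simp [ga]
  have hb : 𝒴.p.IsHomLift gb b := by
    apply IsHomLift.of_fac' 𝒴.p gb b rfl (f.w_obj xq)
    simp [gb]
  obtain ⟨p', cp, hcp⟩ := h𝒳g.exists_lift ga
  obtain ⟨q', cq, hcq⟩ := h𝒳g.exists_lift gb
  have hjcp : 𝒴.p.IsHomLift ga (f.map cp) := inferInstance
  have hjcq : 𝒴.p.IsHomLift gb (f.map cq) := inferInstance
  obtain ⟨χa, hχa1, hχa2, hχaiso⟩ := exists_factor h𝒴g ga (f.map cp) hjcp a ha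
  obtain ⟨χb, hχb1, hχb2, hχbiso⟩ := exists_factor h𝒴g gb (f.map cq) hjcq b hb
  have hp' : 𝒳.p.obj p' = 𝒴.p.obj yr := IsHomLift.domain_eq 𝒳.p ga cp
  have hq' : 𝒳.p.obj q' = 𝒴.p.obj yr := IsHomLift.domain_eq 𝒳.p gb cq
  let φ : f.obj p' ≅ f.obj q' := (asIso χa).symm ≪≫ asIso χb
  have hφ : 𝒴.p.IsHomLift (𝟙 (𝒴.p.obj yr)) φ.hom := by
    change 𝒴.p.IsHomLift (𝟙 (𝒴.p.obj yr)) (inv χa ≫ χb)
    have : 𝒴.p.IsHomLift (𝟙 (𝒴.p.obj yr)) (inv χa) :=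
      IsHomLift.lift_id_inv_isIso (p := 𝒴.p) (𝒴.p.obj yr) χa
    infer_instance
  obtain ⟨b', hb', hjb'⟩ := Groth.Agent.S12774.exists_lift_iso_of_isMono h𝒴g f hf p' q' hq' φ hφ
  exact ⟨{ K := K, str := str, obj := p', lies := hp'.trans hlies }, cp, b' ≫ cq, trivial⟩


/-- A monomorphism `f : 𝒳 ⟶ 𝒴` of algebraic stacks over `S` induces an injective map `|𝒳| → |𝒴|` on
points. -/
theorem result {S : Scheme.{u}} {𝒳 𝒴 : AlgSt.Cat S}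
    (h𝒳 : AlgSt.IsAlgStack Scheme.fppfPrecoverage 𝒳) (h𝒴 : AlgSt.IsAlgStack Scheme.fppfPrecoverage 𝒴) (f : 𝒳 ⥤ᵇ 𝒴) (hf : AlgSt.IsMono f) :
    Function.Injective (AlgSt.Points.map f) := by
  have h𝒳g : FibCat.IsFibGrpd 𝒳.p := h𝒳.isStack.1
  have h𝒴g : FibCat.IsFibGrpd 𝒴.p := h𝒴.isStack.1
  intro P Q hPQ
  obtain ⟨p, rfl⟩ := AlgSt.Points.mk_surjective P
  obtain ⟨q, rfl⟩ := AlgSt.Points.mk_surjective Q
  rw [AlgSt.Points.map_mk, AlgSt.Points.map_mk] at hPQ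
  have hrel : AlgSt.FPt.Rel (p.map f) (q.map f) := by
    have h1 := Quot.eqvGen_exact hPQ
    exact ((Groth.Agent.S12817.result 𝒴 h𝒴g).eqvGen_iff).mp h1
  obtain ⟨r, a, b, -⟩ := hrel
  apply AlgSt.Points.sound
  exact rel_aux h𝒳g h𝒴g f hf p.obj q.obj r.obj a b r.K r.str r.lies

end Groth.Agent.S12848
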