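import Groth.Statements.S1285
import Groth.Agent.Lib.Helper63.OneStep1
import Groth.Agent.Lib.Helper63.OneStep2
import Groth.Agent.Lib.Helper63.OneStep3

set_option autoImplicit false
universe u
open FlatMor

namespace Groth.Agent.S1285

/-- Let (C, D, G) be a one-step dévissage of N/S/R over the prime p (see FlatCA.IsOneStepDevissage), and
suppose pD is prime (the generic point of the fibre of Spec D). Then there are r > 0 and a D-linear
map α from D^r to G which becomes bijective after base change to the residue field of pD; moreover
for every such α the support of the fibre module over p of the cokernel of α has dimension strictly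
less than that of the fibre module of N. -/
theorem result {R S : Type u} [CommRing R] [CommRing S] [Algebra R S] [Algebra.FiniteType R S]
    (N : Type u) [AddCommGroup N] [Module S N] [Module R N] [IsScalarTower R S N] [Module.Finite S N] (p : Ideal R) [p.IsPrime]
    (C D G : Type u) [CommRing C] [CommRing D] [Algebra S C] [Algebra R C] [IsScalarTower R S C]
    [Algebra R D] [Algebra D C] [IsScalarTower R D C] [AddCommGroup G] [Module C G] [Module S G] [IsScalarTower S C G]
    [Module D G] [IsScalarTower D C G] [Module R G] [IsScalarTower R D G]
    (n : ℕ) (h : FlatCA.IsOneStepDevissage R S N p C D G n) [(p.map (algebraMap R D)).IsPrime] :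
    (∃ (r : ℕ) (α : (Fin r → D) →ₗ[D] G), 0 < r ∧ Function.Bijective (α.baseChange (p.map (algebraMap R D)).ResidueField)) ∧
    ∀ (r : ℕ) (α : (Fin r → D) →ₗ[D] G), Function.Bijective (α.baseChange (p.map (algebraMap R D)).ResidueField) →
      Module.supportDim (p.Fiber D) (FlatCA.fiberMod p D (G ⧸ LinearMap.range α)) < (n : WithBot ℕ∞) := by
  obtain ⟨⟨e⟩, hsurj, -, hDC, hCG, hsm, hirr, hdim⟩ := h
  have : Module.Finite D C := hDC
  have : Module.Finite C G := hCG
  have hDG : Module.Finite D G := Module.Finite.trans C G
  have hint : Algebra.IsIntegral D C := inferInstance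
  have hA : ringKrullDim (p.Fiber D) ≤ n :=
    Groth.Agent.Lib.Helper63.OneStep.ringKrullDim_fiber_le n hsm p
  have hover : (p.map (algebraMap R D)).comap (algebraMap R D) = p :=
    Groth.Agent.Lib.Helper63.OneStep.comap_map_eq_of_geomIrred hirr p
  have hle : Module.supportDim (p.Fiber S) (FlatCA.fiberMod p S N) ≤
      Module.supportDim (p.Fiber D) (FlatCA.fiberMod p D G) :=
    (Groth.Agent.Lib.Helper63.OneStep.supportDim_fiberMod_le p S N).trans
      ((Groth.Agent.Lib.Helper63.OneStep.krullDim_T_le_of_surjective p S C N G e hsurj).trans
        ((Groth.Agent.Lib.Helper63.OneStep.krullDim_T_le_of_integral p D C G).trans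
          (Groth.Agent.Lib.Helper63.OneStep.le_supportDim_fiberMod p D G)))
  have hmem : (⟨p.map (algebraMap R D), inferInstance⟩ : PrimeSpectrum D) ∈ Module.support D G := by
    by_contra hX
    have h1 := Groth.Agent.Lib.Helper63.OneStep.supportDim_fiberMod_lt p D hover G hX n hA
    rw [hdim] at hle
    exact absurd (lt_of_le_of_lt hle h1) (lt_irrefl _)
  constructor
  · have hnt : Nontrivial (TensorProduct D (p.map (algebraMap R D)).ResidueField G) :=
      (Module.mem_support_iff_nontrivial_residueField_tensorProduct
        (⟨p.map (algebraMap R D), inferInstance⟩ : PrimeSpectrum D)).1 hmem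
    exact Groth.Agent.Lib.Helper63.OneStep.exists_alpha (p.map (algebraMap R D)).ResidueField G
  · intro r α hα
    have hsub := Groth.Agent.Lib.Helper63.OneStep.subsingleton_tensor_quot
      (p.map (algebraMap R D)).ResidueField G r α hα.2
    have hX : (⟨p.map (algebraMap R D), inferInstance⟩ : PrimeSpectrum D) ∉
        Module.support D (G ⧸ LinearMap.range α) := by
      intro hc
      have := (Module.mem_support_iff_nontrivial_residueField_tensorProduct
        (⟨p.map (algebraMap R D), inferInstance⟩ : PrimeSpectrum D)).1 hc
      exact not_subsingleton _ hsub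
    exact Groth.Agent.Lib.Helper63.OneStep.supportDim_fiberMod_lt p D hover
      (G ⧸ LinearMap.range α) hX n hA

end Groth.Agent.S1285
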