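import Groth.Statements.S12851
import Groth.Agent.Lib.Helper17.SourceDescent

set_option autoImplicit false
open CategoryTheory AlgebraicGeometry
universe u
open AlgSt

namespace Groth.Agent.S12851

/-- Let `P` be a property of morphisms of algebraic spaces over `S` which is stable under base change,
fppf local on the base and local on the source in the fppf topology; let `x : 𝒳 ⟶ 𝒴` and `y : 𝒴 ⟶ 𝒵`
be 1-morphisms of algebraic stacks over `S` representable by algebraic spaces with `x` surjective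
and flat and locally of finite presentation. If `y ∘ x` has `P` then `y` has `P`. (Stability under
base change is asked for every pullback square of fppf sheaves whose four corners are algebraic
spaces.) -/
theorem result {S : Scheme.{u}} {𝒳 𝒴 𝒵 : AlgSt.Cat S}
    (h𝒳 : AlgSt.IsAlgStack Scheme.fppfPrecoverage 𝒳) (h𝒴 : AlgSt.IsAlgStack Scheme.fppfPrecoverage 𝒴) (h𝒵 : AlgSt.IsAlgStack Scheme.fppfPrecoverage 𝒵)
    (P : MorphismProperty (AlgSp.Sp S))
    (hPb : ∀ ⦃X₁ Y₁ X₂ Y₂ : AlgSp.Sp S⦄, AlgSp.IsAlgSpace X₁ → AlgSp.IsAlgSpace Y₁ → AlgSp.IsAlgSpace X₂ →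
      AlgSp.IsAlgSpace Y₂ → ∀ (a : X₁ ⟶ Y₁) (b : Y₂ ⟶ Y₁) (a' : X₂ ⟶ Y₂) (b' : X₂ ⟶ X₁),
      IsPullback b' a' a b → P a → P a')
    (hP : AlgSp.IsLocalOnBase AlgSp.IsFppfCover P) (hP' : AlgSp.IsLocalOnSource AlgSp.IsFppfCover P)
    (x : 𝒳 ⥤ᵇ 𝒴) (y : 𝒴 ⥤ᵇ 𝒵) (hy : AlgSt.RepByAlgSp1 y)
    (hx₁ : AlgSt.RepByAlgSpWith (AlgSp.LocP @Flat) x)
    (hx₂ : AlgSt.RepByAlgSpWith (AlgSp.LocP @LocallyOfFinitePresentation) x)
    (hx₃ : AlgSt.RepByAlgSpWith AlgSp.IsSurjectiveMor x)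
    (h : AlgSt.RepByAlgSpWith P (BasedFunctor.comp x y)) : AlgSt.RepByAlgSpWith P y := by
  have := Groth.Agent.Lib.Helper17.SD.cFppf_respectsIso (S := S)
  have := Groth.Agent.Lib.Helper17.FD.isSurjectiveMor_respectsIso (S := S)
  have := Groth.Agent.Lib.Helper17.FD.locP_respectsIso (S := S) @LocallyOfFinitePresentation
  have hx : AlgSt.RepByAlgSpWith (Groth.Agent.Lib.Helper17.SD.CFppf (S := S)) x :=
    Groth.Agent.Lib.Helper17.SD.repWith_inf _ _ x
      (Groth.Agent.Lib.Helper17.SD.repWith_inf _ _ x hx₁ hx₂) hx₃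
  refine Groth.Agent.Lib.Helper17.SD.repWith_of_comp_cover h𝒳.isStack.1 h𝒵.isStack.1 P hPb
    Groth.Agent.Lib.Helper17.SD.CFppf Groth.Agent.Lib.Helper17.SD.cFppf_schLocal ?_ x y hy hx h
  intro H G Y hH hG hY m a hm hma
  exact (hP' (fun _ : PUnit.{u + 1} => H) (fun _ => m) hG (fun _ => hH)
    ⟨fun _ => hm.1, fun z => ⟨PUnit.unit, hm.2 z⟩⟩ a hY).mpr (fun _ => hma)

end Groth.Agent.S12851
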