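import Groth.Statements.S12859
import Groth.Statements.S12859
import Groth.Agent.Lib.Helper10.OpenSubT2

set_option autoImplicit false
open CategoryTheory AlgebraicGeometry
universe u
open AlgSt

namespace Groth.Agent.S12859

section Aux
open CategoryTheory AlgebraicGeometry
open AlgSt


open Groth.Agent.Lib.Helper10.OST Groth.Agent.Lib.Helper17.PTS

theorem order {S : Scheme.{u}} {𝒳 : AlgSt.Cat S}
    (h𝒳 : AlgSt.IsAlgStack Scheme.fppfPrecoverage 𝒳) (Q Q' : 𝒳.obj → Prop)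
    (hQ : AlgSt.IsOpenSubstack 𝒳 Q Scheme.fppfPrecoverage)
    (hQ' : AlgSt.IsOpenSubstack 𝒳 Q' Scheme.fppfPrecoverage) :
    ((∀ y, Q y → Q' y) ↔ Set.range (AlgSt.Points.map (AlgSt.subIncl 𝒳 Q)) ⊆
      Set.range (AlgSt.Points.map (AlgSt.subIncl 𝒳 Q'))) := by
  constructor
  · intro h ξ hξ
    rw [mem_range_subIncl_iff] at hξ ⊢
    obtain ⟨p, hp, rfl⟩ := hξ
    exact ⟨p, h _ hp, rfl⟩
  · intro h y hy
    exact Q_of_QT_range h𝒳 Q' hQ' (QT_mono h ((Q_iff_QT_range h𝒳 Q hQ y).mp hy))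

theorem main {S : Scheme.{u}} {𝒳 : AlgSt.Cat S}
    (h𝒳 : AlgSt.IsAlgStack Scheme.fppfPrecoverage 𝒳) :
    Set.BijOn (fun Q : 𝒳.obj → Prop => Set.range (AlgSt.Points.map (AlgSt.subIncl 𝒳 Q)))
        {Q | AlgSt.IsOpenSubstack 𝒳 Q Scheme.fppfPrecoverage} {T | IsOpen T} ∧
      ∀ (Q Q' : 𝒳.obj → Prop), AlgSt.IsOpenSubstack 𝒳 Q Scheme.fppfPrecoverage → AlgSt.IsOpenSubstack 𝒳 Q' Scheme.fppfPrecoverage →
        ((∀ y, Q y → Q' y) ↔ Set.range (AlgSt.Points.map (AlgSt.subIncl 𝒳 Q)) ⊆ Set.range (AlgSt.Points.map (AlgSt.subIncl 𝒳 Q'))) := by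
  refine ⟨⟨?_, ?_, ?_⟩, fun Q Q' hQ hQ' => order h𝒳 Q Q' hQ hQ'⟩
  · intro Q hQ
    exact isOpen_range_subIncl h𝒳 Q hQ
  · intro Q hQ Q' hQ' h
    have h' : Set.range (AlgSt.Points.map (AlgSt.subIncl 𝒳 Q)) =
        Set.range (AlgSt.Points.map (AlgSt.subIncl 𝒳 Q')) := h
    funext y
    apply propext
    exact ⟨(order h𝒳 Q Q' hQ hQ').mpr h'.le y, (order h𝒳 Q' Q hQ' hQ).mpr h'.ge y⟩
  · intro T hT
    exact ⟨QT T, isOpenSubstack_QT h𝒳 T hT, range_QT T⟩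


end Aux

/-- Let `𝒳` be an algebraic stack over `S`. The rule sending an open substack `𝒰 ⊂ 𝒳` (a predicate on
objects closed under isomorphisms whose full subcategory is an algebraic stack with open-immersion
inclusion) to `|𝒰| ⊂ |𝒳|` is a bijection from open substacks onto open subsets of `|𝒳|`, and `𝒰 ⊂
𝒰'` holds exactly when `|𝒰| ⊂ |𝒰'|`. -/
theorem result {S : Scheme.{u}} {𝒳 : AlgSt.Cat S}
    (h𝒳 : AlgSt.IsAlgStack Scheme.fppfPrecoverage 𝒳) :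
    Set.BijOn (fun Q : 𝒳.obj → Prop => Set.range (AlgSt.Points.map (AlgSt.subIncl 𝒳 Q)))
        {Q | AlgSt.IsOpenSubstack 𝒳 Q Scheme.fppfPrecoverage} {T | IsOpen T} ∧
      ∀ (Q Q' : 𝒳.obj → Prop), AlgSt.IsOpenSubstack 𝒳 Q Scheme.fppfPrecoverage → AlgSt.IsOpenSubstack 𝒳 Q' Scheme.fppfPrecoverage →
        ((∀ y, Q y → Q' y) ↔ Set.range (AlgSt.Points.map (AlgSt.subIncl 𝒳 Q)) ⊆ Set.range (AlgSt.Points.map (AlgSt.subIncl 𝒳 Q'))) := by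
  exact main h𝒳

end Groth.Agent.S12859
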