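import Groth.Statements.S12860
import Groth.Statements.S12860
import Groth.Agent.Lib.Helper10.OpenSubT3

set_option autoImplicit false
open CategoryTheory AlgebraicGeometry
universe u
open AlgSt

namespace Groth.Agent.S12860

section Aux
open CategoryTheory AlgebraicGeometry
open AlgSt


open CategoryTheory.Limits Opposite AlgSp FibCat Stk
open Groth.Agent.Lib.Helper10.OST
open Groth.Agent.Lib.Helper17 Groth.Agent.Lib.Helper17.FP Groth.Agent.Lib.Helper17.EO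
  Groth.Agent.Lib.Helper17.PD Groth.Agent.Lib.Helper17.AT Groth.Agent.Lib.Helper17.AB
  Groth.Agent.Lib.Helper17.AOS Groth.Agent.Lib.Helper17.ACP Groth.Agent.Lib.Helper17.PTS
open Groth.Agent.Lib.Helper46 Groth.Agent.Lib.Helper46.LocPChart

theorem main {S : Scheme.{u}} {𝒳 : AlgSt.Cat S}
    (h𝒳 : AlgSt.IsAlgStack Scheme.fppfPrecoverage 𝒳) (U : AlgSp.Space S) (u : AlgSt.ofSp U.obj ⥤ᵇ 𝒳)
    (hu₁ : AlgSt.RepByAlgSpWith (AlgSp.LocP @Smooth) u) (hu₂ : AlgSt.RepByAlgSpWith AlgSp.IsSurjectiveMor u)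
    (V : AlgSp.Space S) (j : V ⟶ U) (hj : AlgSp.RepWith @IsOpenImmersion j.hom) :
    ∃ (𝒴 : AlgSt.Cat S) (i : 𝒴 ⥤ᵇ 𝒳) (g : AlgSt.ofSp V.obj ⥤ᵇ 𝒴),
      AlgSt.IsAlgStack Scheme.fppfPrecoverage 𝒴 ∧ AlgSt.IsOpenImm i ∧
        AlgSt.RepByAlgSpWith (AlgSp.LocP @Smooth) g ∧ AlgSt.RepByAlgSpWith AlgSp.IsSurjectiveMor g ∧
          Nonempty (BasedFunctor.comp g i ≅ BasedFunctor.comp (AlgSt.ofSpMap j.hom) u) := by
  have hX := h𝒳.isStack.1
  have hV : FibCat.IsFibGrpd (AlgSt.ofSp V.obj).p := Stk.isFibGrpd_ofPsh _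
  have hjet : IsEtaleMor j.hom := LargestOpen.isEtaleMor_of_isOpenImmersion j.hom hj
  have hjsm : LocP @Smooth j.hom := ACov.locP_of_isEtaleMor (P := @Smooth)
    (fun X Y f hf => by have := hf; infer_instance) j.hom hjet
  have h1 : AlgSt.RepByAlgSpWith (LocP @Smooth) (AlgSt.ofSpMap j.hom) :=
    DCV.repWith_ofSpMap _ AFP.sm_bc V U j.hom hjsm
  let uj : AlgSt.ofSp V.obj ⥤ᵇ 𝒳 := BasedFunctor.comp (AlgSt.ofSpMap j.hom) u
  have h2 : AlgSt.RepByAlgSpWith (LocP @Smooth) uj :=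
    repWith_comp_of_schLocal' hV hX _ AFP.sm_bc AFP.sm_cp
      (ACov.schLocal_of_isLocalOnBase _ AFP.sm_local) (AlgSt.ofSpMap j.hom) u h1 hu₁
  let T : Set (AlgSt.Points 𝒳) := Set.range (AlgSt.Points.map uj)
  have hT : IsOpen T :=
    (isOpenMap_map_of_space hX h𝒳.diag V uj (flat_of_smooth uj h2) (lfp_of_smooth uj h2)).isOpen_range
  have hOS := isOpenSubstack_QT h𝒳 T hT
  let i := AlgSt.subIncl 𝒳 (QT T)
  let g : AlgSt.ofSp V.obj ⥤ᵇ AlgSt.fullSub 𝒳 (QT T) :=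
    liftSub (QT T) uj (fun a => QT_range_obj hV hX uj a)
  have hgi : BasedFunctor.comp g i = uj := liftSub_comp _ _ _
  have hgs : AlgSt.RepByAlgSpWith (LocP @Smooth) g :=
    repWith_of_comp_ff _ g i (by rw [hgi]; exact h2)
  have hY := hOS.2.1.isStack.1
  have hgsurj : AlgSt.IsSurjective g := by
    intro η
    obtain ⟨p', rfl⟩ := AlgSt.Points.mk_surjective η
    have hmem : AlgSt.Points.mk (p'.map i) ∈ T := p'.obj.property (p'.map i) (𝟙 _)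
    obtain ⟨ν, hν⟩ := hmem
    refine ⟨ν, ?_⟩
    apply map_subIncl_injective hX (QT T) (fun φ h => QT_of_hom φ h)
    rw [← map_comp, hgi]
    exact hν
  have hg1 : AlgSt.RepByAlgSp1 g := by
    intro B y
    obtain ⟨F, e, he, -⟩ := hgs B y
    exact ⟨F, e, he⟩
  refine ⟨AlgSt.fullSub 𝒳 (QT T), i, g, hOS.2.1, hOS.2.2, hgs,
    repWith_of_isSurjective hV hY g hg1 hgsurj, ⟨eqToIso hgi⟩⟩


end Aux

/-- Let `𝒳` be an algebraic stack over `S`, `U` an algebraic space with a surjective smooth `u : U ⟶ 𝒳`,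
and `j : V ⟶ U` an open immersion of algebraic spaces. Then there are an algebraic stack `𝒴`, an
open immersion `i : 𝒴 ⟶ 𝒳` and a surjective smooth `g : V ⟶ 𝒴` such that `i ∘ g` is 2-isomorphic to
`u ∘ j` (the compatibility is part of the published proof, which constructs `𝒴` as the image of
`V`). -/
theorem result {S : Scheme.{u}} {𝒳 : AlgSt.Cat S}
    (h𝒳 : AlgSt.IsAlgStack Scheme.fppfPrecoverage 𝒳) (U : AlgSp.Space S) (u : AlgSt.ofSp U.obj ⥤ᵇ 𝒳)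
    (hu₁ : AlgSt.RepByAlgSpWith (AlgSp.LocP @Smooth) u) (hu₂ : AlgSt.RepByAlgSpWith AlgSp.IsSurjectiveMor u)
    (V : AlgSp.Space S) (j : V ⟶ U) (hj : AlgSp.RepWith @IsOpenImmersion j.hom) :
    ∃ (𝒴 : AlgSt.Cat S) (i : 𝒴 ⥤ᵇ 𝒳) (g : AlgSt.ofSp V.obj ⥤ᵇ 𝒴),
      AlgSt.IsAlgStack Scheme.fppfPrecoverage 𝒴 ∧ AlgSt.IsOpenImm i ∧
        AlgSt.RepByAlgSpWith (AlgSp.LocP @Smooth) g ∧ AlgSt.RepByAlgSpWith AlgSp.IsSurjectiveMor g ∧
          Nonempty (BasedFunctor.comp g i ≅ BasedFunctor.comp (AlgSt.ofSpMap j.hom) u) := by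
  exact main h𝒳 U u hu₁ hu₂ V j hj

end Groth.Agent.S12860
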