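import Groth.Statements.S9873
import Groth.Agent.Lib.Helper5.AtlasDiag

set_option autoImplicit false
universe u
open CategoryTheory CategoryTheory.Limits AlgebraicGeometry
open AlgSp

namespace Groth.Agent.S9873

/-- Let `X` be an algebraic space over `S`, `F` an fppf sheaf of sets over `S`, and `f : X ⟶ F` a map of
sheaves which is representable by schemes, etale and surjective (in the representable sense). Then
`F` is an algebraic space over `S`; in particular an fppf sheaf receiving a representable etale
surjective map from a scheme is an algebraic space. -/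
theorem result (S : Scheme.{u}) (X : AlgSp.Space S) (F : AlgSp.Sp S)
    (f : X.obj ⟶ F) (he : AlgSp.RepWith @Etale f) (hs : AlgSp.RepWith @Surjective f) :
    AlgSp.IsAlgSpace F := by
  obtain ⟨U, a, ha1, ha2⟩ := X.property.atlas
  have i1 := AlgSp.repWith_isMultiplicative (S := S) (@Etale : MorphismProperty Scheme.{u})
  have i2 := AlgSp.repWith_isMultiplicative (S := S) (@Surjective : MorphismProperty Scheme.{u})
  have hqe : AlgSp.RepWith @Etale (a ≫ f) := i1.comp_mem _ _ ha1 he
  have hqs : AlgSp.RepWith @Surjective (a ≫ f) := i2.comp_mem _ _ ha2 hs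
  have hk := hqe.rep.isPullback' (a ≫ f)
  haveI : Etale (hqe.rep.fst' (a ≫ f)).left := hqe.property (a ≫ f) _ _ hk.flip
  refine ⟨Groth.Agent.Lib.Helper5.AtlasDiag.representable_diag (a ≫ f) (hqe.rep.snd (a ≫ f))
    (hqe.rep.fst' (a ≫ f)) hk ?_, U, a ≫ f, hqe, hqs⟩
  intro T c
  have hc := hqe.rep.isPullback' c
  haveI : Etale (hqe.rep.snd c).left := hqe.property c _ _ hc
  haveI : Surjective (hqe.rep.snd c).left := hqs.property c _ _ hc
  exact ⟨hqe.rep.pullback c, hqe.rep.snd c, inferInstance, inferInstance, inferInstance,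
    hqe.rep.fst' c, hc.w⟩

end Groth.Agent.S9873
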