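import Groth.Statements.S12863
import Groth.Agent.Lib.Helper10.OpenCoverSp2
import Groth.Agent.Lib.Helper23.SLQMain
import Groth.Agent.S9873

set_option autoImplicit false
open CategoryTheory AlgebraicGeometry
universe u w
open AlgSt

namespace Groth.Agent.S12863

section Aux
open CategoryTheory CategoryTheory.Limits AlgebraicGeometry Opposite AlgSp FibCat Stk AlgSt
open Groth.Agent.Lib.Helper17 Groth.Agent.Lib.Helper17.FP Groth.Agent.Lib.Helper17.EO
open Groth.Agent.Lib.Helper17.PD Groth.Agent.Lib.Helper17.AT Groth.Agent.Lib.Helper17.AB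
open Groth.Agent.Lib.Helper17.AOS Groth.Agent.Lib.Helper17.ACP Groth.Agent.Lib.Helper17.PTS
open Groth.Agent.Lib.Helper17.TH Groth.Agent.Lib.Helper5 Groth.Agent.Lib.Helper23.AlgSpMor
open Groth.Agent.Lib.Helper10.OST Groth.Agent.Lib.Helper10.OCS Groth.Agent.Lib.Helper86


set_option backward.isDefEq.respectTransparency false in
set_option backward.isDefEq.respectTransparency.types false in
theorem main {S : Scheme.{u}} {𝒳 : AlgSt.Cat S}
    (h𝒳 : AlgSt.IsAlgStack Scheme.fppfPrecoverage 𝒳) {ι : Type w} (Q : ι → 𝒳.obj → Prop)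
    (hQ : ∀ i, AlgSt.IsOpenSubstack 𝒳 (Q i) Scheme.fppfPrecoverage)
    (hcov : ⋃ i, Set.range (AlgSt.Points.map (AlgSt.subIncl 𝒳 (Q i))) = Set.univ)
    (hsp : ∀ i, AlgSt.RepByAlgSp (AlgSt.fullSub 𝒳 (Q i))) : AlgSt.RepByAlgSp 𝒳 := by
  obtain ⟨ι', j, hcov'⟩ := exists_reindex h𝒳 Q hcov
  choose G e he using fun k : ι' => hsp (j k)
  have hthin : ThinOver 𝒳 := thinOver_of_cover h𝒳 (fun k => Q (j k)) (fun k => hQ (j k)) hcov'
    (fun k => thinOver_of_equiv (e k) (he k) (thinOver_ofPsh _))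
  have hW : FibCat.IsFibSetoid 𝒳.p := ⟨h𝒳.isStack.1, (thinOver_iff 𝒳).mp hthin⟩
  choose X a hat using fun k : ι' => (G k).property.atlas
  have hae : ∀ k, RepWith @Etale (a k) := fun k => (hat k).1
  have has : ∀ k, RepWith @Surjective (a k) := fun k => (hat k).2
  let g : ∀ k, (G k).obj ⟶ clsSp hW h𝒳 := fun k => gmap hW h𝒳 (Q (j k)) (G k) (e k)
  have hg : ∀ k, RepWith @IsOpenImmersion (g k) := fun k =>
    repWith_gmap hW h𝒳 _ _ _ (hQ (j k)) (he k)
  have hge : ∀ k, RepWith @Etale (g k) := fun k =>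
    Groth.Agent.Lib.Helper23.SLQ.repWith_etale_of_isOpenImmersion (hg k)
  let p : ∀ k, (yon S).obj (X k) ⟶ clsSp hW h𝒳 := fun k => a k ≫ g k
  have hp : ∀ k, RepWith @Etale (p k) := fun k =>
    (RepWith @Etale).comp_mem _ _ (hae k) (hge k)
  let c : Cofan (fun k => (yon S).obj (X k)) :=
    Cofan.mk ((yon S).obj (sigmaOver X)) (fun k => (yon S).map (sigmaOverι X k))
  have hc : IsColimit c := isColimitYonSigmaOver X
  have hcovp : ∀ (T : Over S) (t : (yon S).obj T ⟶ clsSp hW h𝒳) (x : ↥T.left),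
      ∃ k, x ∈ Set.range ((hp k).rep.snd t).left := by
    intro T t x
    obtain ⟨k, O, hxO, l, hl⟩ := exists_local_lift hW h𝒳 (fun k => Q (j k))
      (fun k => hQ (j k)) hcov' G e he t x
    let V := (has k).rep.pullback l
    let snd' : V ⟶ overOpens T O := (has k).rep.snd l
    let fst' : (yon S).obj V ⟶ (yon S).obj (X k) := (has k).rep.fst l
    have sq : IsPullback fst' ((yon S).map snd') (a k) l := (has k).rep.isPullback l
    have hs : Surjective snd'.left := (has k).property_snd l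
    obtain ⟨v, hv⟩ := hs.surj (⟨x, hxO⟩ : ↥O)
    have comm : fst' ≫ p k = (yon S).map (snd' ≫ overOpensι T O) ≫ t :=
      calc fst' ≫ p k = (fst' ≫ a k) ≫ g k := (Category.assoc _ _ _).symm
        _ = ((yon S).map snd' ≫ l) ≫ g k := by rw [sq.w]
        _ = (yon S).map snd' ≫ (l ≫ g k) := Category.assoc _ _ _
        _ = (yon S).map snd' ≫ ((yon S).map (overOpensι T O) ≫ t) := by
          rw [show l ≫ g k = _ from hl]
        _ = _ := by rw [← Category.assoc, ← Functor.map_comp]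
    let lift : V ⟶ (hp k).rep.pullback t := (yon S).preimage
      (((hp k).rep.isPullback t).lift fst' ((yon S).map (snd' ≫ overOpensι T O)) comm)
    have hlift : lift ≫ (hp k).rep.snd t = snd' ≫ overOpensι T O := by
      apply (yon S).map_injective
      rw [Functor.map_comp, Functor.map_preimage, IsPullback.lift_snd]
    refine ⟨k, lift.left v, ?_⟩
    have h3 := congrArg (fun m : V ⟶ T => m.left v) hlift
    refine h3.trans ?_
    change O.ι (snd'.left v) = x
    rw [hv]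
    rfl
  obtain ⟨h1, h2⟩ := repWith_desc_of_etale p hp c hc hcovp
  have hF : IsAlgSpace (clsSp hW h𝒳) := Groth.Agent.S9873.result S
    ⟨(yon S).obj (sigmaOver X), IsAlgSpace.yon_obj _⟩ (clsSp hW h𝒳)
    (Cofan.IsColimit.desc hc p) h1 h2
  have hcl := CP.cls_isEquivOver hW
  obtain ⟨c', ⟨c₁⟩, ⟨c₂⟩⟩ := id hcl
  exact ⟨⟨clsSp hW h𝒳, hF⟩, c', isEquivOver_symm _ c' c₁ c₂⟩


end Aux

/-- Let `𝒳` be an algebraic stack over `S` and `𝒳_i ⊂ 𝒳` a family of open substacks with `𝒳 = ⋃ 𝒳_i`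
(their points exhaust `|𝒳|`). When each `𝒳_i` is an algebraic space, so is `𝒳` itself. -/
theorem result {S : Scheme.{u}} {𝒳 : AlgSt.Cat S}
    (h𝒳 : AlgSt.IsAlgStack Scheme.fppfPrecoverage 𝒳) {ι : Type w} (Q : ι → 𝒳.obj → Prop)
    (hQ : ∀ i, AlgSt.IsOpenSubstack 𝒳 (Q i) Scheme.fppfPrecoverage)
    (hcov : ⋃ i, Set.range (AlgSt.Points.map (AlgSt.subIncl 𝒳 (Q i))) = Set.univ)
    (hsp : ∀ i, AlgSt.RepByAlgSp (AlgSt.fullSub 𝒳 (Q i))) : AlgSt.RepByAlgSp 𝒳 := by
  exact main h𝒳 Q hQ hcov hsp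

end Groth.Agent.S12863
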