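import Groth.Statements.S12864
import Groth.Agent.Lib.Helper10.OpenCoverSp
import Groth.Agent.Lib.Helper17.WellNigh

set_option autoImplicit false
open CategoryTheory AlgebraicGeometry
universe u w
open AlgSt

namespace Groth.Agent.S12864

section Aux
open CategoryTheory CategoryTheory.Limits AlgebraicGeometry Opposite AlgSp FibCat Stk AlgSt
open Groth.Agent.Lib.Helper17 Groth.Agent.Lib.Helper17.FP Groth.Agent.Lib.Helper17.EO
open Groth.Agent.Lib.Helper17.PD Groth.Agent.Lib.Helper17.AT Groth.Agent.Lib.Helper17.AB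
open Groth.Agent.Lib.Helper17.AOS Groth.Agent.Lib.Helper17.ACP Groth.Agent.Lib.Helper17.PTS
open Groth.Agent.Lib.Helper17.TH
open Groth.Agent.Lib.Helper10.OST Groth.Agent.Lib.Helper10.OCS Groth.Agent.Lib.Helper86


set_option backward.isDefEq.respectTransparency false in
set_option backward.isDefEq.respectTransparency.types false in
theorem main {S : Scheme.{u}} {𝒳 : AlgSt.Cat S}
    (h𝒳 : AlgSt.IsAlgStack Scheme.fppfPrecoverage 𝒳) {ι : Type w} (Q : ι → 𝒳.obj → Prop)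
    (hQ : ∀ i, AlgSt.IsOpenSubstack 𝒳 (Q i) Scheme.fppfPrecoverage)
    (hcov : ⋃ i, Set.range (AlgSt.Points.map (AlgSt.subIncl 𝒳 (Q i))) = Set.univ)
    (hsch : ∀ i, FibCat.IsRepresentable (AlgSt.fullSub 𝒳 (Q i))) : FibCat.IsRepresentable 𝒳 := by
  obtain ⟨ι', j, hcov'⟩ := exists_reindex h𝒳 Q hcov
  choose X r hr using fun k : ι' => hsch (j k)
  have hinv : ∀ k, ∃ r' : FibCat.overCat (X k) ⥤ᵇ AlgSt.fullSub 𝒳 (Q (j k)),
      FibCat.IsEquivOver r' := fun k => by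
    obtain ⟨r', ⟨a⟩, ⟨b⟩⟩ := id (hr k)
    exact ⟨r', isEquivOver_symm _ r' a b⟩
  choose r' hr' using hinv
  let G : ι' → AlgSp.Space S := fun k => ⟨(yon S).obj (X k), IsAlgSpace.yon_obj _⟩
  let e : ∀ k, ofSp (G k).obj ⥤ᵇ AlgSt.fullSub 𝒳 (Q (j k)) := fun k =>
    BasedFunctor.comp (toOverCat (X k)) (r' k)
  have he : ∀ k, FibCat.IsEquivOver (e k) := fun k =>
    isEquivOver_comp _ _ (AD.toOverCat_isEquivOver _) (hr' k)
  have hthin : ThinOver 𝒳 := thinOver_of_cover h𝒳 (fun k => Q (j k)) (fun k => hQ (j k)) hcov'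
    (fun k => thinOver_of_equiv (e k) (he k) (thinOver_ofPsh _))
  have hW : FibCat.IsFibSetoid 𝒳.p := ⟨h𝒳.isStack.1, (thinOver_iff 𝒳).mp hthin⟩
  have hrep : (clsSp hW h𝒳).obj.IsRepresentable := by
    apply Groth.Agent.Lib.Helper23.SLQGlue.isRepresentable_of_open_cover (X := X)
      (f := fun k => gmap hW h𝒳 (Q (j k)) (G k) (e k))
      (fun k => repWith_gmap hW h𝒳 _ _ _ (hQ (j k)) (he k))
    intro Z g z
    obtain ⟨k, O, hzO, l, hl⟩ := exists_local_lift hW h𝒳 (fun k => Q (j k))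
      (fun k => hQ (j k)) hcov' G e he g z
    exact ⟨k, O, hzO, (yon S).preimage l, by rw [Functor.map_preimage]; exact hl⟩
  obtain ⟨V, ⟨iso⟩⟩ := Groth.Agent.Lib.Helper23.SLQ.exists_iso_of_isRepresentable hrep
  refine ⟨V, BasedFunctor.comp (CP.clsFunctor hW.1)
    (BasedFunctor.comp (ofSpMap iso.inv) (toOverCat V)), ?_⟩
  exact isEquivOver_comp _ _ (CP.cls_isEquivOver hW)
    (isEquivOver_comp _ _ (LQT.isEquivOver_ofSpMap_of_isIso iso.inv)
      (AD.toOverCat_isEquivOver V))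


end Aux

/-- Let `𝒳` be an algebraic stack over `S` and `𝒳_i ⊂ 𝒳` a family of open substacks with `𝒳 = ⋃ 𝒳_i`
(their points exhaust `|𝒳|`). If every `𝒳_i` is a scheme (equivalent over `(Sch/S)` to some
`(Sch/U)`), then `𝒳` is a scheme. -/
theorem result {S : Scheme.{u}} {𝒳 : AlgSt.Cat S}
    (h𝒳 : AlgSt.IsAlgStack Scheme.fppfPrecoverage 𝒳) {ι : Type w} (Q : ι → 𝒳.obj → Prop)
    (hQ : ∀ i, AlgSt.IsOpenSubstack 𝒳 (Q i) Scheme.fppfPrecoverage)
    (hcov : ⋃ i, Set.range (AlgSt.Points.map (AlgSt.subIncl 𝒳 (Q i))) = Set.univ)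
    (hsch : ∀ i, FibCat.IsRepresentable (AlgSt.fullSub 𝒳 (Q i))) : FibCat.IsRepresentable 𝒳 := by
  exact main h𝒳 Q hQ hcov hsch

end Groth.Agent.S12864
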