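import Groth.Statements.S12874
import Groth.Agent.Lib.Helper10.ClosedSub
import Groth.Agent.Lib.Helper17.SchLocalProps
import Groth.Agent.Lib.Helper17.QcCover
import Groth.Agent.Lib.Helper17.OpenSub
import Groth.Agent.Lib.Helper62.AlgSpMono
import Groth.Agent.Lib.Helper62.StkGlueHom
import Groth.Agent.S12794

set_option autoImplicit false
open CategoryTheory AlgebraicGeometry
universe u
open AlgSt

namespace Groth.Agent.S12874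

section Aux
open CategoryTheory CategoryTheory.Limits AlgebraicGeometry Opposite AlgSp FibCat Stk AlgSt
open Groth.Agent.Lib.Helper17 Groth.Agent.Lib.Helper17.FP Groth.Agent.Lib.Helper17.EO
open Groth.Agent.Lib.Helper17.PD Groth.Agent.Lib.Helper17.AT Groth.Agent.Lib.Helper17.AB
open Groth.Agent.Lib.Helper17.AOS Groth.Agent.Lib.Helper17.ACP Groth.Agent.Lib.Helper17.PTS
open Groth.Agent.Lib.Helper10.OST Groth.Agent.Lib.Helper86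


variable {S : Scheme.{u}}

/-- the functor of a monomorphism of sheaves is fully faithful -/
theorem ofSpMap_ff {F G : AlgSp.Sp S} (m : F ⟶ G) (hm : Mono m) :
    (ofSpMap m).toFunctor.Full ∧ (ofSpMap m).toFunctor.Faithful := by
  constructor
  · constructor
    intro a b k
    refine ⟨⟨k.hom, ?_⟩, EltObj.hom_ext rfl⟩
    apply Groth.Agent.Lib.Helper17.SLP.injective_app_of_mono m hm
    have := k.map_sec
    change G.obj.map k.hom.op (m.hom.app _ b.sec) = m.hom.app _ a.sec at this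
    rw [← this]
    exact NatTrans.naturality_apply m.hom k.hom.op b.sec
  · constructor
    intro a b k k' h
    exact EltObj.hom_ext (congrArg (fun t : (ofSpMap m).obj a ⟶ (ofSpMap m).obj b => t.hom) h)

/-- the iso of functors over the base between a functor between categories of presheaves and the
functor of its map of presheaves -/
def isoOfPshMap {H G : (Over S)ᵒᵖ ⥤ Type (u+1)} (Φ : ofPsh H ⥤ᵇ ofPsh G) :
    Φ ≅ ofPshMap (mapOf Φ) :=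
  BasedNatIso.mkNatIso
    (NatIso.ofComponents (fun a => compIso Φ a) (fun ψ => compIso_nat Φ ψ))
    (fun a => compIso_lift Φ a)


theorem forward {𝒳 𝒴 : AlgSt.Cat S} (hX : FibCat.IsFibGrpd 𝒳.p) (hY : FibCat.IsFibGrpd 𝒴.p)
    (f : 𝒳 ⥤ᵇ 𝒴) (W : AlgSp.Space S) (w : AlgSt.ofSp W.obj ⥤ᵇ 𝒴) (hf : AlgSt.IsOpenImm f) :
    ∃ (V : AlgSp.Space S) (a : V ⟶ W) (e : AlgSt.ofSp V.obj ⥤ᵇ FibCat.fp w f),
      FibCat.IsEquivOver e ∧
        Nonempty (BasedFunctor.comp e (FibCat.fpFst w f) ≅ AlgSt.ofSpMap a.hom) ∧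
          AlgSp.RepWith @IsOpenImmersion a.hom := by
  have h1 : AlgSt.RepByAlgSpWith (AlgSp.RepWith @IsOpenImmersion) (FibCat.fpFst w f) :=
    AB.repWith_fpFst _ f w hf
  have hfp : FibCat.IsFibGrpd (FibCat.fp w f).p :=
    SP.isFibGrpd_fp _ _ (Stk.isFibGrpd_ofPsh _) hX hY
  obtain ⟨H, e, he, hP⟩ := exists_space_of_repWith_of_schLocal (AlgSp.RepWith @IsOpenImmersion)
    (IN.schLocal_repWith _) hfp W (FibCat.fpFst w f) h1
  exact ⟨H, ObjectProperty.homMk (ObjectProperty.homMk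
    (mapOf (BasedFunctor.comp e (FibCat.fpFst w f)))), e, he, ⟨isoOfPshMap _⟩, hP⟩


/-- full faithfulness transported along an equivalence on the source -/
theorem ff_of_comp_equiv {𝒜 ℬ 𝒞 : AlgSt.Cat S} (e : 𝒜 ⥤ᵇ ℬ) (he : FibCat.IsEquivOver e)
    (g : ℬ ⥤ᵇ 𝒞) (h : 𝒜 ⥤ᵇ 𝒞) (i₀ : BasedFunctor.comp e g ≅ h)
    (hh : h.toFunctor.Full ∧ h.toFunctor.Faithful) :
    g.toFunctor.Full ∧ g.toFunctor.Faithful := by
  obtain ⟨G, ⟨α⟩, ⟨β⟩⟩ := he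
  let α' : e.toFunctor ⋙ G.toFunctor ≅ 𝟭 _ := (BasedNatTrans.forgetful _ _).mapIso α
  let β' : G.toFunctor ⋙ e.toFunctor ≅ 𝟭 _ := (BasedNatTrans.forgetful _ _).mapIso β
  haveI : e.toFunctor.IsEquivalence :=
    (CategoryTheory.Equivalence.mk e.toFunctor G.toFunctor α'.symm β').isEquivalence_functor
  let i' : h.toFunctor ⋙ 𝟭 _ ≅ e.toFunctor ⋙ g.toFunctor :=
    Functor.rightUnitor _ ≪≫ ((BasedNatTrans.forgetful _ _).mapIso i₀).symm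
  exact (Groth.Agent.Lib.Helper62.StkFF.ff_iff_of_square h.toFunctor g.toFunctor e.toFunctor
    (𝟭 _) i').mp hh


/-- if the first projection of the 2-fibre product is fully faithful, the second functor is
bijective on morphisms out of second components of objects of the 2-fibre product -/
theorem bij_of_lift {𝒲 𝒳 𝒴 : AlgSt.Cat S} (hX : FibCat.IsFibGrpd 𝒳.p) (hY : FibCat.IsFibGrpd 𝒴.p)
    (w : 𝒲 ⥤ᵇ 𝒴) (f : 𝒳 ⥤ᵇ 𝒴) (hfull : (FibCat.fpFst w f).toFunctor.Full)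
    (hfaith : (FibCat.fpFst w f).toFunctor.Faithful) (A : (FibCat.fp w f).obj) (z' : 𝒳.obj) :
    (∀ β' : f.obj A.obj.snd ⟶ f.obj z', ∃ m : A.obj.snd ⟶ z', f.map m = β') ∧
      (∀ m₁ m₂ : A.obj.snd ⟶ z', f.map m₁ = f.map m₂ → m₁ = m₂) := by
  have hs : 𝒳.p.obj A.obj.snd = 𝒲.p.obj A.obj.fst := FP.snd_obj A
  have key : ∀ β' : f.obj A.obj.snd ⟶ f.obj z', ∃ (ψ : 𝒲.p.obj A.obj.fst ⟶ 𝒳.p.obj z')
      (z'' : 𝒳.obj) (χ : z'' ⟶ z'), 𝒴.p.IsHomLift ψ β' ∧ 𝒳.p.IsStronglyCartesian ψ χ := by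
    intro β'
    let ψ : 𝒲.p.obj A.obj.fst ⟶ 𝒳.p.obj z' :=
      eqToHom ((f.w_obj A.obj.snd).trans hs).symm ≫ 𝒴.p.map β' ≫ eqToHom (f.w_obj z')
    have hβ' : 𝒴.p.IsHomLift ψ β' :=
      IsHomLift.of_fac 𝒴.p ψ β' ((f.w_obj A.obj.snd).trans hs) (f.w_obj z') rfl
    obtain ⟨z'', χ, hχ⟩ := FG.exists_lift_of_eq hX (rfl : 𝒳.p.obj z' = 𝒳.p.obj z') ψ
    exact ⟨ψ, z'', χ, hβ', hχ⟩
  constructor
  · intro β'
    obtain ⟨ψ, z'', χ, hβ', hχ⟩ := key β'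
    have hχ' : 𝒳.p.IsHomLift ψ χ := hχ.toIsHomLift
    have hfχ : 𝒴.p.IsHomLift ψ (f.map χ) := inferInstance
    obtain ⟨β'', hβ1, hβ2, hβi⟩ := FG.exists_factor hY ψ (f.map χ) hfχ β' hβ'
    have hA : 𝒴.p.IsHomLift (𝟙 (𝒲.p.obj A.obj.fst)) A.obj.iso.hom := A.property
    have hcomp : 𝒴.p.IsHomLift (𝟙 (𝒲.p.obj A.obj.fst)) (A.obj.iso.hom ≫ β'') :=
      IsHomLift.comp_lift_id_right 𝒴.p (𝟙 _) A.obj.iso.hom β''
    let A' : (FibCat.fp w f).obj := FP.mkObj A.obj.fst z'' (A.obj.iso ≪≫ asIso β'') hcomp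
    let k : A ⟶ A' := (FibCat.fpFst w f).toFunctor.preimage
      (𝟙 A.obj.fst : (FibCat.fpFst w f).obj A ⟶ (FibCat.fpFst w f).obj A')
    have hk : k.hom.fst = 𝟙 A.obj.fst := (FibCat.fpFst w f).toFunctor.map_preimage _
    have hw := k.hom.w
    change w.map k.hom.fst ≫ (A.obj.iso.hom ≫ β'') = A.obj.iso.hom ≫ f.map k.hom.snd at hw
    rw [hk] at hw
    have hw' : A.obj.iso.hom ≫ β'' = A.obj.iso.hom ≫ f.map k.hom.snd := by
      have e : w.map (𝟙 A.obj.fst) ≫ (A.obj.iso.hom ≫ β'') = A.obj.iso.hom ≫ β'' := by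
        rw [show w.map (𝟙 A.obj.fst) = 𝟙 _ from w.toFunctor.map_id _, Category.id_comp]
      exact e.symm.trans hw
    have hβk : β'' = f.map k.hom.snd := (cancel_epi A.obj.iso.hom).mp hw'
    refine ⟨k.hom.snd ≫ χ, ?_⟩
    have e1 : f.map (k.hom.snd ≫ χ) = f.map k.hom.snd ≫ f.map χ := f.toFunctor.map_comp _ _
    have e2 : f.map k.hom.snd ≫ f.map χ = β'' ≫ f.map χ := congrArg (· ≫ f.map χ) hβk.symm
    exact e1.trans (e2.trans hβ2)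
  · intro m₁ m₂ h12
    obtain ⟨ψ, z'', χ, hβ', hχ⟩ := key (f.map m₁)
    have hχ' : 𝒳.p.IsHomLift ψ χ := hχ.toIsHomLift
    have hfχ : 𝒴.p.IsHomLift ψ (f.map χ) := inferInstance
    have hm₁ : 𝒳.p.IsHomLift ψ m₁ := Groth.Agent.Lib.Helper62.StkFF.isHomLift_of_map f ψ m₁ hβ'
    have hm₂ : 𝒳.p.IsHomLift ψ m₂ :=
      Groth.Agent.Lib.Helper62.StkFF.isHomLift_of_map f ψ m₂ (h12 ▸ hβ')
    obtain ⟨θ₁, hθ₁, hθ₁c, hθ₁i⟩ := FG.exists_factor hX ψ χ hχ' m₁ hm₁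
    obtain ⟨θ₂, hθ₂, hθ₂c, -⟩ := FG.exists_factor hX ψ χ hχ' m₂ hm₂
    have hfθ₁ : 𝒴.p.IsHomLift (𝟙 (𝒲.p.obj A.obj.fst)) (f.map θ₁) := inferInstance
    have hfθ₂ : 𝒴.p.IsHomLift (𝟙 (𝒲.p.obj A.obj.fst)) (f.map θ₂) := inferInstance
    have hfθ : f.map θ₁ = f.map θ₂ := by
      refine FP.sc_ext (FG.sc_all hY ψ (f.map χ) hfχ) hfθ₁ hfθ₂ ?_
      have e1 : f.map θ₁ ≫ f.map χ = f.map (θ₁ ≫ χ) := (f.toFunctor.map_comp _ _).symm
      have e2 : f.map θ₂ ≫ f.map χ = f.map (θ₂ ≫ χ) := (f.toFunctor.map_comp _ _).symm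
      rw [e1, e2, hθ₁c, hθ₂c, h12]
    have hA : 𝒴.p.IsHomLift (𝟙 (𝒲.p.obj A.obj.fst)) A.obj.iso.hom := A.property
    have hcomp : 𝒴.p.IsHomLift (𝟙 (𝒲.p.obj A.obj.fst)) (A.obj.iso.hom ≫ f.map θ₁) :=
      IsHomLift.comp_lift_id_right 𝒴.p (𝟙 _) A.obj.iso.hom (f.map θ₁)
    have : IsIso (f.map θ₁) := by
      change IsIso (f.toFunctor.map θ₁)
      infer_instance
    let A' : (FibCat.fp w f).obj :=
      FP.mkObj A.obj.fst z'' (A.obj.iso ≪≫ asIso (f.map θ₁)) hcomp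
    have hid : w.map (𝟙 A.obj.fst) = 𝟙 _ := w.toFunctor.map_id _
    let k₁ : A ⟶ A' := FP.mkHom (z := A) (z' := A') (𝟙 A.obj.fst) θ₁ (by
      change w.map (𝟙 A.obj.fst) ≫ (A.obj.iso.hom ≫ f.map θ₁) = A.obj.iso.hom ≫ f.map θ₁
      rw [hid, Category.id_comp])
    let k₂ : A ⟶ A' := FP.mkHom (z := A) (z' := A') (𝟙 A.obj.fst) θ₂ (by
      change w.map (𝟙 A.obj.fst) ≫ (A.obj.iso.hom ≫ f.map θ₁) = A.obj.iso.hom ≫ f.map θ₂
      rw [hid, Category.id_comp, hfθ])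
    have hk : k₁ = k₂ := (FibCat.fpFst w f).toFunctor.map_injective rfl
    have hθ : θ₁ = θ₂ := congrArg (fun t : A ⟶ A' => t.hom.snd) hk
    rw [← hθ₁c, ← hθ₂c, hθ]


/-- fppf locally, an object of `𝒴` lifts along a flat, locally finitely presented, surjective
morphism from an algebraic space -/
theorem exists_cover_lift {𝒴 : AlgSt.Cat S} (h𝒴 : AlgSt.IsAlgStack Scheme.fppfPrecoverage 𝒴)
    (W : AlgSp.Space S) (w : AlgSt.ofSp W.obj ⥤ᵇ 𝒴)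
    (hw₁ : AlgSt.RepByAlgSpWith (AlgSp.LocP @Flat) w)
    (hw₂ : AlgSt.RepByAlgSpWith (AlgSp.LocP @LocallyOfFinitePresentation) w)
    (hw₃ : AlgSt.RepByAlgSpWith AlgSp.IsSurjectiveMor w) {U : Over S}
    (ŷ : FibCat.overCat U ⥤ᵇ 𝒴) :
    ∃ (U'' : Over S) (a : U'' ⟶ U) (ŵ : FibCat.overCat U'' ⥤ᵇ AlgSt.ofSp W.obj),
      Flat a.left ∧ LocallyOfFinitePresentation a.left ∧ Function.Surjective a.left ∧
        Nonempty (BasedFunctor.comp (AlgSt.overMap a) ŷ ≅ BasedFunctor.comp ŵ w) := by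
  have hY := h𝒴.isStack.1
  obtain ⟨W', c, hce, hcs⟩ := W.property.atlas
  have hcet := ACov.isEtaleMor_of_repWith c hce
  have hcsurj : IsSurjectiveMor c := ACov.points_map_surjective c hcs
  let q : FibCat.overCat W' ⥤ᵇ AlgSt.ofSp W.obj := BasedFunctor.comp (ofOverCat W') (ofSpMap c)
  have h1 : AlgSt.RepByAlgSpWith (AlgSp.LocP @Flat) (BasedFunctor.comp q w) :=
    CT.repWith_chart_of_space _ DL.flat_bc DL.flat_cp flat_schLocal hY W w hw₁ c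
      (ACov.locP_of_isEtaleMor (P := @Flat) (fun X Y f hf => by have := hf; infer_instance)
        c hcet)
  have h2 : AlgSt.RepByAlgSpWith (AlgSp.LocP @LocallyOfFinitePresentation)
      (BasedFunctor.comp q w) :=
    CT.repWith_chart_of_space _ DL.lfp_bc DL.lfp_cp lfp_schLocal hY W w hw₂ c
      (ACov.locP_of_isEtaleMor (P := @LocallyOfFinitePresentation)
        (fun X Y f hf => by have := hf; infer_instance) c hcet)
  have h3 : AlgSt.RepByAlgSpWith AlgSp.IsSurjectiveMor (BasedFunctor.comp q w) :=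
    CT.repWith_chart_of_space _ DL.surj_bc DL.surj_cp CT.surj_schLocal hY W w hw₃ c hcsurj
  obtain ⟨U'', a, b, hP, hsurj, ⟨iso⟩⟩ :=
    PTS.exists_bridge_iso hY h𝒴.diag ŷ (BasedFunctor.comp q w)
  have ha1 : Flat a.left := hP @Flat (fun _ _ f hf => by have := hf; infer_instance)
    DL.flat_bc DL.flat_cp h1
  have ha2 : LocallyOfFinitePresentation a.left := hP @LocallyOfFinitePresentation
    (fun _ _ f hf => by have := hf; infer_instance) DL.lfp_bc DL.lfp_cp h2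
  exact ⟨U'', a, BasedFunctor.comp (AlgSt.overMap b) q, ha1, ha2, hsurj h3, ⟨iso⟩⟩


/-- objects over an arrow of the covering lift to `W` -/
theorem exists_lift_obj {𝒴 : AlgSt.Cat S} (hY : FibCat.IsFibGrpd 𝒴.p) [𝒴.p.IsFibered]
    (W : AlgSp.Space S) (w : AlgSt.ofSp W.obj ⥤ᵇ 𝒴) {U U'' : Over S} (y₁ : 𝒴.p.Fiber U)
    (a : U'' ⟶ U) (ŵ : FibCat.overCat U'' ⥤ᵇ AlgSt.ofSp W.obj)
    (iso : BasedFunctor.comp (AlgSt.overMap a) (TwoYoneda.pbB y₁) ≅ BasedFunctor.comp ŵ w)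
    {V : Over S} (ψ' : V ⟶ U'') (y' : 𝒴.obj) (t : y' ⟶ y₁.1)
    (ht : 𝒴.p.IsHomLift (ψ' ≫ a) t) :
    ∃ γ : w.obj (ŵ.obj (Over.mk ψ')) ≅ y', 𝒴.p.IsHomLift (𝟙 V) γ.hom := by
  have hcart := (TwoYoneda.pbMap_cart y₁ (Over.mk (ψ' ≫ a))).toIsHomLift
  have hcart' : 𝒴.p.IsHomLift (ψ' ≫ a) (TwoYoneda.pbMap y₁ (Over.mk (ψ' ≫ a))) := hcart
  obtain ⟨θ, hθ1, hθ2, hθi⟩ := FG.exists_factor hY (ψ' ≫ a)
    (TwoYoneda.pbMap y₁ (Over.mk (ψ' ≫ a))) hcart' t ht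
  let i1 : TwoYoneda.pbObj y₁ (Over.mk (ψ' ≫ a)) ≅ w.obj (ŵ.obj (Over.mk ψ')) :=
    compApp iso (Over.mk ψ')
  have hi1 : 𝒴.p.IsHomLift (𝟙 V) i1.hom := compApp_lift iso (Over.mk ψ')
  have hi1' : 𝒴.p.IsHomLift (𝟙 V) i1.inv := IsHomLift.lift_id_inv 𝒴.p V i1
  let θi : y' ≅ TwoYoneda.pbObj y₁ (Over.mk (ψ' ≫ a)) := asIso θ
  have hθi' : 𝒴.p.IsHomLift (𝟙 V) θi.hom := hθ1
  have hθinv : 𝒴.p.IsHomLift (𝟙 V) θi.inv := IsHomLift.lift_id_inv 𝒴.p V θi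
  refine ⟨i1.symm ≪≫ θi.symm, ?_⟩
  change 𝒴.p.IsHomLift (𝟙 V) (i1.inv ≫ θi.inv)
  exact IsHomLift.comp_lift_id_right 𝒴.p (𝟙 V) i1.inv θi.inv


open Groth.Agent.Lib.Helper62.StkFF Groth.Agent.Lib.Helper62.StkGlueHom
  Groth.Agent.Lib.Helper10.OST in
/-- a functor of algebraic stacks whose base change along an fppf cover by an algebraic space is
fully faithful is fully faithful -/
theorem ff_of_cover {𝒳 𝒴 : AlgSt.Cat S}
    (h𝒳 : AlgSt.IsAlgStack Scheme.fppfPrecoverage 𝒳) (h𝒴 : AlgSt.IsAlgStack Scheme.fppfPrecoverage 𝒴)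
    (f : 𝒳 ⥤ᵇ 𝒴) (W : AlgSp.Space S) (w : AlgSt.ofSp W.obj ⥤ᵇ 𝒴)
    (hw₁ : AlgSt.RepByAlgSpWith (AlgSp.LocP @Flat) w)
    (hw₂ : AlgSt.RepByAlgSpWith (AlgSp.LocP @LocallyOfFinitePresentation) w)
    (hw₃ : AlgSt.RepByAlgSpWith AlgSp.IsSurjectiveMor w)
    (hfull : (FibCat.fpFst w f).toFunctor.Full) (hfaith : (FibCat.fpFst w f).toFunctor.Faithful) :
    f.toFunctor.Full ∧ f.toFunctor.Faithful := by
  have hX := h𝒳.isStack.1
  have hY := h𝒴.isStack.1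
  have : 𝒴.p.IsFibered := TwoYoneda.isFibered_of_isFibGrpd hY
  apply ff_of_fiber_ff hX hY f
  intro U
  have loc : ∀ x₁ : 𝒳.p.Fiber U, ∃ R ∈ QuotSh.J Scheme.fppfPrecoverage S U,
      ∀ ⦃V : Over S⦄ (ψ : V ⟶ U), R ψ → ∀ {s : 𝒳.obj} (l : s ⟶ x₁.1), 𝒳.p.IsHomLift ψ l →
        ∃ A : (FibCat.fp w f).obj, A.obj.snd = s := by
    intro x₁
    let y₁ : 𝒴.p.Fiber U := ⟨f.obj x₁.1, (f.w_obj x₁.1).trans x₁.2⟩
    obtain ⟨U'', a, ŵ, ha1, ha2, hasurj, ⟨iso⟩⟩ :=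
      exists_cover_lift h𝒴 W w hw₁ hw₂ hw₃ (TwoYoneda.pbB y₁)
    refine ⟨Sieve.generate (Presieve.singleton a), generate_singleton_mem_J a hasurj, ?_⟩
    rintro V ψ ⟨V', ψ', _, ⟨⟩, rfl⟩ s l hl
    have ht : 𝒴.p.IsHomLift (ψ' ≫ a) (f.map l) := inferInstance
    obtain ⟨γ, hγ⟩ := exists_lift_obj hY W w y₁ a ŵ iso ψ' (f.obj s) (f.map l) ht
    have hbase : (AlgSt.ofSp W.obj).p.obj (ŵ.obj (Over.mk ψ')) = V := ŵ.w_obj (Over.mk ψ')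
    exact ⟨FP.mkObj (ŵ.obj (Over.mk ψ')) s γ (isHomLift_id_of_eq' hbase.symm γ.hom hγ), rfl⟩
  constructor
  · constructor
    intro x₁ x₂ β
    obtain ⟨R, hR, hloc⟩ := loc x₁
    obtain ⟨β₀, hβ₀⟩ : ∃ β₀ : f.obj x₁.1 ⟶ f.obj x₂.1, β₀ = β.1 := ⟨_, rfl⟩
    have hβ : 𝒴.p.IsHomLift (𝟙 U) β₀ := hβ₀ ▸ β.2
    obtain ⟨θ, hθ, hθc⟩ := glue_unique hX R (h𝒳.isStack.2 R hR).full x₁.1 x₂.1 x₁.2 x₂.2
      (fun {z} l m => f.map m = f.map l ≫ β₀)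
      (by
        intro V ψ hψ z l hl
        obtain ⟨A, rfl⟩ := hloc ψ hψ l hl
        obtain ⟨m, hm⟩ := (bij_of_lift hX hY w f hfull hfaith A x₂.1).1 (f.map l ≫ β₀)
        have h1 : 𝒴.p.IsHomLift ψ (f.map l) := inferInstance
        have h2 : 𝒴.p.IsHomLift ψ (f.map l ≫ β₀) :=
          IsHomLift.comp_lift_id_right 𝒴.p ψ (f.map l) β₀
        exact ⟨m, isHomLift_of_map f ψ m (hm ▸ h2), hm⟩)
      (by
        intro V ψ hψ z l m m' hl _ _ h1 h2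
        obtain ⟨A, rfl⟩ := hloc ψ hψ l hl
        exact (bij_of_lift hX hY w f hfull hfaith A x₂.1).2 m m' (h1.trans h2.symm))
      (by
        intro z z' k l m h
        exact (f.toFunctor.map_comp k m).trans ((congrArg (f.map k ≫ ·) h).trans
          ((Category.assoc _ _ _).symm.trans
            (congrArg (· ≫ β₀) (f.toFunctor.map_comp k l).symm))))
    have hfθ : 𝒴.p.IsHomLift (𝟙 U) (f.map θ) := inferInstance
    have key : f.map θ = β₀ := by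
      refine eq_of_locally hY (f.obj x₁.1) (f.obj x₂.1) ((f.w_obj x₁.1).trans x₁.2) R
        (h𝒴.isStack.2 R hR).faithful (f.map θ) β₀ hfθ hβ ?_
      intro V ψ hψ
      obtain ⟨s, l₀, hl₀⟩ := FG.exists_lift_of_eq hX x₁.2 ψ
      have hl₀' : 𝒳.p.IsHomLift ψ l₀ := hl₀.toIsHomLift
      refine ⟨f.obj s, f.map l₀, inferInstance, ?_⟩
      exact (f.toFunctor.map_comp _ _).symm.trans (hθc ψ hψ l₀ hl₀')
    exact ⟨⟨θ, hθ⟩, Subtype.ext (key.trans hβ₀)⟩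
  · constructor
    intro x₁ x₂ φ φ' h
    obtain ⟨R, hR, hloc⟩ := loc x₁
    have h' : f.map φ.1 = f.map φ'.1 := congrArg Subtype.val h
    apply Subtype.ext
    refine eq_of_locally hX x₁.1 x₂.1 x₁.2 R (h𝒳.isStack.2 R hR).faithful φ.1 φ'.1 φ.2 φ'.2 ?_
    intro V ψ hψ
    obtain ⟨s, l₀, hl₀⟩ := FG.exists_lift_of_eq hX x₁.2 ψ
    have hl₀' : 𝒳.p.IsHomLift ψ l₀ := hl₀.toIsHomLift
    refine ⟨s, l₀, hl₀', ?_⟩
    obtain ⟨A, rfl⟩ := hloc ψ hψ l₀ hl₀'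
    apply (bij_of_lift hX hY w f hfull hfaith A x₂.1).2
    rw [show f.map (l₀ ≫ φ.1) = f.map l₀ ≫ f.map φ.1 from f.toFunctor.map_comp _ _,
      show f.map (l₀ ≫ φ'.1) = f.map l₀ ≫ f.map φ'.1 from f.toFunctor.map_comp _ _, h']


theorem lift_id_cod {𝒴 : AlgSt.Cat S} {A B : 𝒴.obj} {γ : A ⟶ B} {R R' : Over S}
    (h : 𝒴.p.IsHomLift (𝟙 R) γ) (hB : 𝒴.p.obj B = R') : 𝒴.p.IsHomLift (𝟙 R') γ :=
  Groth.Agent.Lib.Helper62.StkGlueHom.isHomLift_id_of_eq' ((hl_cod h).symm.trans hB) γ h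

theorem comp_id_lift {𝒴 : AlgSt.Cat S} {A B C : 𝒴.obj} {γ₁ : A ⟶ B} {γ₂ : B ⟶ C} {R : Over S}
    (h1 : 𝒴.p.IsHomLift (𝟙 R) γ₁) (h2 : 𝒴.p.IsHomLift (𝟙 R) γ₂) :
    𝒴.p.IsHomLift (𝟙 R) (γ₁ ≫ γ₂) :=
  IsHomLift.comp_lift_id_right 𝒴.p (𝟙 R) γ₁ γ₂

section Pts

variable {𝒳 𝒴 : AlgSt.Cat S} (f : 𝒳 ⥤ᵇ 𝒴) (W : AlgSp.Space S) (w : AlgSt.ofSp W.obj ⥤ᵇ 𝒴)
  (V : AlgSp.Space S) (a : V ⟶ W) (e : AlgSt.ofSp V.obj ⥤ᵇ FibCat.fp w f)
  (i₀ : BasedFunctor.comp e (FibCat.fpFst w f) ≅ AlgSt.ofSpMap a.hom)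

include i₀ in
theorem pt_fwd (ν : AlgSt.Points (AlgSt.ofSp V.obj)) :
    AlgSt.Points.map w (AlgSt.Points.map (AlgSt.ofSpMap a.hom) ν) =
      AlgSt.Points.map f (AlgSt.Points.map (BasedFunctor.comp e (FibCat.fpSnd w f)) ν) := by
  rw [← map_congr i₀ ν, map_comp e, ← map_comp (FibCat.fpFst w f) w,
    map_congr (FibCat.fpIso w f), map_comp (FibCat.fpSnd w f) f, map_comp e]

include i₀ in
theorem pt_lemma (hX : FibCat.IsFibGrpd 𝒳.p) (hY : FibCat.IsFibGrpd 𝒴.p)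
    (he : FibCat.IsEquivOver e) (ζ : AlgSt.Points (AlgSt.ofSp W.obj)) (ξ : AlgSt.Points 𝒳)
    (h : AlgSt.Points.map w ζ = AlgSt.Points.map f ξ) :
    ∃ ν : AlgSt.Points (AlgSt.ofSp V.obj), AlgSt.Points.map (AlgSt.ofSpMap a.hom) ν = ζ := by
  obtain ⟨ω, hω1, -⟩ := exists_point_fp hX hY (Stk.isFibGrpd_ofPsh _) f w ζ ξ h
  obtain ⟨ν, rfl⟩ := isSurjective_of_isEquivOver e he ω
  refine ⟨ν, ?_⟩
  rw [← map_congr i₀ ν, map_comp e]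
  exact hω1


include i₀ in
theorem range_eq (hX : FibCat.IsFibGrpd 𝒳.p) (hY : FibCat.IsFibGrpd 𝒴.p)
    (he : FibCat.IsEquivOver e) (hw₃ : AlgSt.RepByAlgSpWith AlgSp.IsSurjectiveMor w) :
    Set.range (AlgSt.Points.map f) =
      Set.range (AlgSt.Points.map (BasedFunctor.comp (AlgSt.ofSpMap a.hom) w)) := by
  ext η
  constructor
  · rintro ⟨ξ, rfl⟩
    obtain ⟨ζ, hζ⟩ := isSurjective_of_repWith hY w hw₃ (AlgSt.Points.map f ξ)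
    obtain ⟨ν, rfl⟩ := pt_lemma f W w V a e i₀ hX hY he ζ ξ hζ
    exact ⟨ν, (map_comp _ _ ν).trans hζ⟩
  · rintro ⟨ν, rfl⟩
    exact ⟨_, ((map_comp _ _ ν).trans (pt_fwd f W w V a e i₀ ν)).symm⟩

include i₀ in
theorem isOpen_range (h𝒴 : AlgSt.IsAlgStack Scheme.fppfPrecoverage 𝒴)
    (hX : FibCat.IsFibGrpd 𝒳.p) (he : FibCat.IsEquivOver e)
    (hw₁ : AlgSt.RepByAlgSpWith (AlgSp.LocP @Flat) w)
    (hw₂ : AlgSt.RepByAlgSpWith (AlgSp.LocP @LocallyOfFinitePresentation) w)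
    (hw₃ : AlgSt.RepByAlgSpWith AlgSp.IsSurjectiveMor w)
    (ha : AlgSp.RepWith @IsOpenImmersion a.hom) :
    IsOpen (Set.range (AlgSt.Points.map f)) := by
  have hY := h𝒴.isStack.1
  rw [range_eq f W w V a e i₀ hX hY he hw₃]
  have hVf : FibCat.IsFibGrpd (AlgSt.ofSp V.obj).p := Stk.isFibGrpd_ofPsh _
  have het := Groth.Agent.Lib.Helper46.LargestOpen.isEtaleMor_of_isOpenImmersion a.hom ha
  have h1 : AlgSt.RepByAlgSpWith (AlgSp.LocP @Flat) (BasedFunctor.comp (AlgSt.ofSpMap a.hom) w) :=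
    repWith_comp_of_schLocal' hVf hY _ DL.flat_bc DL.flat_cp flat_schLocal _ w
      (DCV.repWith_ofSpMap _ DL.flat_bc V W a.hom
        (ACov.locP_of_isEtaleMor (P := @Flat) (fun X Y f hf => by have := hf; infer_instance)
          a.hom het)) hw₁
  have h2 : AlgSt.RepByAlgSpWith (AlgSp.LocP @LocallyOfFinitePresentation)
      (BasedFunctor.comp (AlgSt.ofSpMap a.hom) w) :=
    repWith_comp_of_schLocal' hVf hY _ DL.lfp_bc DL.lfp_cp lfp_schLocal _ w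
      (DCV.repWith_ofSpMap _ DL.lfp_bc V W a.hom
        (ACov.locP_of_isEtaleMor (P := @LocallyOfFinitePresentation)
          (fun X Y f hf => by have := hf; infer_instance) a.hom het)) hw₂
  exact (isOpenMap_map_of_space hY h𝒴.diag V _ h1 h2).isOpen_range


open Groth.Agent.Lib.Helper10.CSub Groth.Agent.Lib.Helper62.StkGlueHom in
include i₀ in
theorem loc_ess_surj (h𝒳 : AlgSt.IsAlgStack Scheme.fppfPrecoverage 𝒳)
    (h𝒴 : AlgSt.IsAlgStack Scheme.fppfPrecoverage 𝒴) (he : FibCat.IsEquivOver e)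
    (hw₁ : AlgSt.RepByAlgSpWith (AlgSp.LocP @Flat) w)
    (hw₂ : AlgSt.RepByAlgSpWith (AlgSp.LocP @LocallyOfFinitePresentation) w)
    (hw₃ : AlgSt.RepByAlgSpWith AlgSp.IsSurjectiveMor w)
    (ha : AlgSp.RepWith @IsOpenImmersion a.hom)
    (y : 𝒴.obj) (hy : QT (Set.range (AlgSt.Points.map f)) y) :
    ∃ R ∈ QuotSh.J Scheme.fppfPrecoverage S (𝒴.p.obj y),
      ∀ ⦃V₁ : Over S⦄ (ψ : V₁ ⟶ 𝒴.p.obj y), R ψ →
        ∃ (x : 𝒳.obj) (φ : f.obj x ⟶ y), 𝒴.p.IsHomLift ψ φ := by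
  have hX := h𝒳.isStack.1
  have hY := h𝒴.isStack.1
  have : 𝒴.p.IsFibered := TwoYoneda.isFibered_of_isFibGrpd hY
  let y₁ : 𝒴.p.Fiber (𝒴.p.obj y) := ⟨y, rfl⟩
  obtain ⟨U'', b, ŵ, hb1, hb2, hbsurj, ⟨iso⟩⟩ :=
    exists_cover_lift h𝒴 W w hw₁ hw₂ hw₃ (TwoYoneda.pbB y₁)
  have hi : AlgSt.RepByAlgSpWith (AlgSp.RepWith @IsOpenImmersion) (AlgSt.ofSpMap a.hom) :=
    DCV.repWith_ofSpMap _ IN.oi_bc V W a.hom ha
  obtain ⟨Z, a', q, hq, ⟨ia⟩, hoi⟩ :=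
    exists_chart_of_repWith @IsOpenImmersion (AlgSt.ofSpMap a.hom) hi ŵ
  have : IsOpenImmersion a'.left := hoi
  have hU''f : FibCat.IsFibGrpd (FibCat.overCat U'').p := FG.isFibGrpd_overForget U''
  have ha'surj : Function.Surjective a'.left := by
    intro u
    have hT : AlgSt.Points.ofChart (TwoYoneda.pbB y₁) (b.left u) ∈
        Set.range (AlgSt.Points.map f) := by
      have hQ : QT (Set.range (AlgSt.Points.map f)) ((TwoYoneda.pbB y₁).obj (Over.mk b)) :=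
        QT_of_hom (TwoYoneda.pbMap y₁ (Over.mk b)) hy
      exact ofChart_mem_of_QT (TwoYoneda.pbB y₁) (Over.mk b) hQ u
    obtain ⟨ξ, hξ⟩ := hT
    have h1 : AlgSt.Points.map w (AlgSt.Points.ofChart ŵ u) = AlgSt.Points.map f ξ := by
      rw [hξ, ← ofChart_overMap b (TwoYoneda.pbB y₁) u, ofChart_congr iso u]
      rfl
    obtain ⟨ν, hν⟩ := pt_lemma f W w V a e i₀ hX hY he _ ξ h1
    obtain ⟨ω, hω1, hω2⟩ := exists_point_fp (Stk.isFibGrpd_ofPsh _) (Stk.isFibGrpd_ofPsh _) hU''f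
      (AlgSt.ofSpMap a.hom) ŵ (AlgSt.Points.ofChart (BasedFunctor.id _) u) ν (by rw [hν]; rfl)
    obtain ⟨ζ', rfl⟩ := hq ω
    obtain ⟨z₀, rfl⟩ := exists_ofChart_id Z ζ'
    refine ⟨z₀, ?_⟩
    apply ofChart_id_injective U''
    rw [← hω1, ← ofChart_overMap_id, ← map_comp]
    exact (ofChart_congr ia z₀).symm
  have : Surjective a'.left := ⟨ha'surj⟩
  have hiso_a : IsIso a'.left :=
    (isIso_iff_isOpenImmersion_and_surjective _).mpr ⟨inferInstance, inferInstance⟩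
  have : IsIso a' := by
    have : IsIso ((Over.forget S).map a') := hiso_a
    exact isIso_of_reflects_iso a' (Over.forget S)
  refine ⟨Sieve.generate (Presieve.singleton b), generate_singleton_mem_J b hbsurj, ?_⟩
  rintro V₁ ψ ⟨_, ψ', _, ⟨⟩, rfl⟩
  let t₀ : Over Z := Over.mk (ψ' ≫ inv a')
  let ω : (FibCat.fp ŵ (AlgSt.ofSpMap a.hom)).obj := q.obj t₀
  let v₁ : (AlgSt.ofSp V.obj).obj := ω.obj.snd
  let E : (FibCat.fp w f).obj := e.obj v₁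
  let t' : Over U'' := Over.mk ((ψ' ≫ inv a') ≫ a')
  let e1 : ω.obj.fst ≅ t' := compApp ia t₀
  have he1 : (FibCat.overCat U'').p.IsHomLift (𝟙 V₁) e1.hom := compApp_lift ia t₀
  let ŷ := TwoYoneda.pbB y₁
  let c5 : ŷ.obj ((AlgSt.overMap b).obj ω.obj.fst) ⟶ ŷ.obj ((AlgSt.overMap b).obj t') :=
    ŷ.map ((AlgSt.overMap b).map e1.hom)
  have hc5 : 𝒴.p.IsHomLift (𝟙 V₁) c5 := by
    have : (FibCat.overCat (𝒴.p.obj y)).p.IsHomLift (𝟙 V₁) ((AlgSt.overMap b).map e1.hom) :=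
      inferInstance
    infer_instance
  let c4 : w.obj (ŵ.obj ω.obj.fst) ⟶ ŷ.obj ((AlgSt.overMap b).obj ω.obj.fst) :=
    (compApp iso ω.obj.fst).inv
  have hc4 : 𝒴.p.IsHomLift (𝟙 V₁) c4 := by
    have h0 := compApp_lift iso ω.obj.fst
    exact lift_id_cod (IsHomLift.lift_id_inv 𝒴.p ((FibCat.overCat U'').p.obj ω.obj.fst)
      (compApp iso ω.obj.fst)) (hl_dom hc5)
  let c3 : w.obj ((AlgSt.ofSpMap a.hom).obj v₁) ⟶ w.obj (ŵ.obj ω.obj.fst) := w.map ω.obj.iso.inv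
  have hc3 : 𝒴.p.IsHomLift (𝟙 V₁) c3 := by
    have h0 : (AlgSt.ofSp W.obj).p.IsHomLift (𝟙 ((FibCat.overCat U'').p.obj ω.obj.fst))
      ω.obj.iso.hom := ω.property
    have h1 := IsHomLift.lift_id_inv (AlgSt.ofSp W.obj).p
      ((FibCat.overCat U'').p.obj ω.obj.fst) ω.obj.iso
    have h2 : 𝒴.p.IsHomLift (𝟙 ((FibCat.overCat U'').p.obj ω.obj.fst)) (w.map ω.obj.iso.inv) :=
      inferInstance
    exact lift_id_cod h2 (hl_dom hc4)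
  let c2 : w.obj E.obj.fst ⟶ w.obj ((AlgSt.ofSpMap a.hom).obj v₁) := w.map (compApp i₀ v₁).hom
  have hc2 : 𝒴.p.IsHomLift (𝟙 V₁) c2 := by
    have h0 := compApp_lift i₀ v₁
    have h2 : 𝒴.p.IsHomLift (𝟙 ((AlgSt.ofSp V.obj).p.obj v₁)) (w.map (compApp i₀ v₁).hom) :=
      inferInstance
    exact lift_id_cod h2 (hl_dom hc3)
  let c1 : f.obj E.obj.snd ⟶ w.obj E.obj.fst := E.obj.iso.inv
  have hc1 : 𝒴.p.IsHomLift (𝟙 V₁) c1 := by
    have h0 : 𝒴.p.IsHomLift (𝟙 ((AlgSt.ofSp W.obj).p.obj E.obj.fst)) E.obj.iso.hom := E.property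
    exact lift_id_cod (IsHomLift.lift_id_inv 𝒴.p ((AlgSt.ofSp W.obj).p.obj E.obj.fst) E.obj.iso)
      (hl_dom hc2)
  have hc : 𝒴.p.IsHomLift (𝟙 V₁) (c1 ≫ c2 ≫ c3 ≫ c4 ≫ c5) :=
    comp_id_lift hc1 (comp_id_lift hc2 (comp_id_lift hc3 (comp_id_lift hc4 hc5)))
  let pm : ŷ.obj ((AlgSt.overMap b).obj t') ⟶ y := TwoYoneda.pbMap y₁ ((AlgSt.overMap b).obj t')
  have hpm : 𝒴.p.IsHomLift (((ψ' ≫ inv a') ≫ a') ≫ b) pm :=
    (TwoYoneda.pbMap_cart y₁ ((AlgSt.overMap b).obj t')).toIsHomLift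
  have hΦ : 𝒴.p.IsHomLift (((ψ' ≫ inv a') ≫ a') ≫ b) ((c1 ≫ c2 ≫ c3 ≫ c4 ≫ c5) ≫ pm) :=
    IsHomLift.comp_lift_id_left 𝒴.p _ pm (c1 ≫ c2 ≫ c3 ≫ c4 ≫ c5)
  have hψ : ((ψ' ≫ inv a') ≫ a') ≫ b = ψ' ≫ b := by simp
  exact ⟨E.obj.snd, (c1 ≫ c2 ≫ c3 ≫ c4 ≫ c5) ≫ pm, isHomLift_congr'' hψ hΦ⟩

end Pts


theorem backward {𝒳 𝒴 : AlgSt.Cat S}
    (h𝒳 : AlgSt.IsAlgStack Scheme.fppfPrecoverage 𝒳) (h𝒴 : AlgSt.IsAlgStack Scheme.fppfPrecoverage 𝒴)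
    (f : 𝒳 ⥤ᵇ 𝒴) (W : AlgSp.Space S) (w : AlgSt.ofSp W.obj ⥤ᵇ 𝒴)
    (hw₁ : AlgSt.RepByAlgSpWith (AlgSp.LocP @Flat) w)
    (hw₂ : AlgSt.RepByAlgSpWith (AlgSp.LocP @LocallyOfFinitePresentation) w)
    (hw₃ : AlgSt.RepByAlgSpWith AlgSp.IsSurjectiveMor w)
    (V : AlgSp.Space S) (a : V ⟶ W) (e : AlgSt.ofSp V.obj ⥤ᵇ FibCat.fp w f)
    (he : FibCat.IsEquivOver e)
    (i₀ : BasedFunctor.comp e (FibCat.fpFst w f) ≅ AlgSt.ofSpMap a.hom)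
    (ha : AlgSp.RepWith @IsOpenImmersion a.hom) : AlgSt.IsOpenImm f := by
  have hX := h𝒳.isStack.1
  have hY := h𝒴.isStack.1
  have hmono : Mono a.hom := Groth.Agent.Lib.Helper62.mono_of_repWith @IsOpenImmersion
    (fun f hf => by haveI := hf; infer_instance) a.hom ha
  obtain ⟨hfull, hfaith⟩ := ff_of_comp_equiv e he (FibCat.fpFst w f) (AlgSt.ofSpMap a.hom) i₀
    (ofSpMap_ff a.hom hmono)
  obtain ⟨hF, hFa⟩ := ff_of_cover h𝒳 h𝒴 f W w hw₁ hw₂ hw₃ hfull hfaith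
  have hT : IsOpen (Set.range (AlgSt.Points.map f)) :=
    isOpen_range f W w V a e i₀ h𝒴 hX he hw₁ hw₂ hw₃ ha
  have hQf : ∀ x, QT (Set.range (AlgSt.Points.map f)) (f.obj x) := QT_range_obj hX hY f
  let f' : 𝒳 ⥤ᵇ AlgSt.fullSub 𝒴 (QT (Set.range (AlgSt.Points.map f))) := liftSub _ f hQf
  have hf'comp : BasedFunctor.comp f' (AlgSt.subIncl 𝒴 (QT (Set.range (AlgSt.Points.map f)))) = f :=
    liftSub_comp _ _ _
  have hsub := isOpenSubstack_QT h𝒴 _ hT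
  have hf'full : f'.toFunctor.Full := inferInstanceAs (ObjectProperty.lift _ f.toFunctor _).Full
  have hf'faith : f'.toFunctor.Faithful :=
    inferInstanceAs (ObjectProperty.lift _ f.toFunctor _).Faithful
  have hf'eq : FibCat.IsEquivOver f' := by
    refine (Groth.Agent.S12794.result _ h𝒳.isStack hsub.2.1.isStack f').mpr ?_
    intro y
    obtain ⟨R, hR, hloc⟩ := loc_ess_surj f W w V a e i₀ h𝒳 h𝒴 he hw₁ hw₂ hw₃ ha y.obj y.property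
    refine ⟨R, hR, fun V₁ ψ hψ => ?_⟩
    obtain ⟨x, φ, hφ⟩ := hloc ψ hψ
    exact ⟨x, ObjectProperty.homMk φ,
      IsHomLift.of_fac (AlgSt.fullSub 𝒴 _).p _ _ (hl_dom (p := 𝒴.p) hφ)
        (hl_cod (p := 𝒴.p) hφ) (hl_fac (p := 𝒴.p) hφ)⟩
  rw [← hf'comp]
  exact FD.repWith_precomp_equiv _ f' hf'eq _ hsub.2.2

theorem main {𝒳 𝒴 : AlgSt.Cat S}
    (h𝒳 : AlgSt.IsAlgStack Scheme.fppfPrecoverage 𝒳) (h𝒴 : AlgSt.IsAlgStack Scheme.fppfPrecoverage 𝒴)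
    (f : 𝒳 ⥤ᵇ 𝒴) (W : AlgSp.Space S) (w : AlgSt.ofSp W.obj ⥤ᵇ 𝒴)
    (hw₁ : AlgSt.RepByAlgSpWith (AlgSp.LocP @Flat) w)
    (hw₂ : AlgSt.RepByAlgSpWith (AlgSp.LocP @LocallyOfFinitePresentation) w)
    (hw₃ : AlgSt.RepByAlgSpWith AlgSp.IsSurjectiveMor w) :
    AlgSt.IsOpenImm f ↔
      ∃ (V : AlgSp.Space S) (a : V ⟶ W) (e : AlgSt.ofSp V.obj ⥤ᵇ FibCat.fp w f),
        FibCat.IsEquivOver e ∧
          Nonempty (BasedFunctor.comp e (FibCat.fpFst w f) ≅ AlgSt.ofSpMap a.hom) ∧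
            AlgSp.RepWith @IsOpenImmersion a.hom := by
  constructor
  · exact forward h𝒳.isStack.1 h𝒴.isStack.1 f W w
  · rintro ⟨V, a, e, he, ⟨i₀⟩, ha⟩
    exact backward h𝒳 h𝒴 f W w hw₁ hw₂ hw₃ V a e he i₀ ha


end Aux

/-- Consider algebraic stacks `𝒳`, `𝒴` over `S` with a 1-morphism `f : 𝒳 ⟶ 𝒴`, and suppose `W` is an
algebraic space equipped with a map `w : W ⟶ 𝒴` that is flat, surjective and locally of finite
presentation. In this situation `f` is an open immersion exactly when the 2-fibre product `V = W ×_𝒴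
𝒳` is an algebraic space whose projection `V ⟶ W` is an open immersion of algebraic spaces; here the
projection is encoded by `V`, a morphism `a : V ⟶ W`, and an equivalence over `(Sch/S)` from the
category of `V` to the 2-fibre product such that composing it with the first projection gives a
functor 2-isomorphic to the functor of `a`. -/
theorem result {S : Scheme.{u}} {𝒳 𝒴 : AlgSt.Cat S}
    (h𝒳 : AlgSt.IsAlgStack Scheme.fppfPrecoverage 𝒳) (h𝒴 : AlgSt.IsAlgStack Scheme.fppfPrecoverage 𝒴)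
    (f : 𝒳 ⥤ᵇ 𝒴) (W : AlgSp.Space S) (w : AlgSt.ofSp W.obj ⥤ᵇ 𝒴)
    (hw₁ : AlgSt.RepByAlgSpWith (AlgSp.LocP @Flat) w)
    (hw₂ : AlgSt.RepByAlgSpWith (AlgSp.LocP @LocallyOfFinitePresentation) w)
    (hw₃ : AlgSt.RepByAlgSpWith AlgSp.IsSurjectiveMor w) :
    AlgSt.IsOpenImm f ↔
      ∃ (V : AlgSp.Space S) (a : V ⟶ W) (e : AlgSt.ofSp V.obj ⥤ᵇ FibCat.fp w f),
        FibCat.IsEquivOver e ∧
          Nonempty (BasedFunctor.comp e (FibCat.fpFst w f) ≅ AlgSt.ofSpMap a.hom) ∧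
            AlgSp.RepWith @IsOpenImmersion a.hom := by
  exact main h𝒳 h𝒴 f W w hw₁ hw₂ hw₃

end Groth.Agent.S12874
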