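import Groth.Statements.S12878
import Groth.Statements.S12878
import Groth.Agent.Lib.Helper10.OpenSubT3
import Groth.Agent.S12774
import Groth.Agent.S12868
import Groth.Agent.S5139
import Groth.Agent.S12770

set_option autoImplicit false
open CategoryTheory AlgebraicGeometry
universe u
open AlgSt

namespace Groth.Agent.S12878

section Aux
open CategoryTheory AlgebraicGeometry
open AlgSt

open Groth.Agent.Lib.Helper17 Groth.Agent.Lib.Helper10.OST Groth.Agent.Lib.Helper17.AT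

variable {S : Scheme.{u}} {𝒵 𝒳 : AlgSt.Cat S}

/-- the essential image of a functor -/
def EI (i : 𝒵 ⥤ᵇ 𝒳) : 𝒳.obj → Prop := fun x => ∃ z : 𝒵.obj, Nonempty (i.obj z ≅ x)

theorem ei_iso (i : 𝒵 ⥤ᵇ 𝒳) : ObjectProperty.IsClosedUnderIsomorphisms (EI i) :=
  ⟨fun e ⟨z, ⟨φ⟩⟩ => ⟨z, ⟨φ ≪≫ e⟩⟩⟩

/-- the corestriction to the essential image -/
def cores (i : 𝒵 ⥤ᵇ 𝒳) : 𝒵 ⥤ᵇ AlgSt.fullSub 𝒳 (EI i) :=
  liftSub (EI i) i (fun z => ⟨z, ⟨Iso.refl _⟩⟩)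

theorem cores_comp (i : 𝒵 ⥤ᵇ 𝒳) :
    BasedFunctor.comp (cores i) (AlgSt.subIncl 𝒳 (EI i)) = i := liftSub_comp _ _ _

theorem cores_equiv (hZ : FibCat.IsFibGrpd 𝒵.p) (hX : FibCat.IsFibGrpd 𝒳.p) (i : 𝒵 ⥤ᵇ 𝒳)
    [i.toFunctor.Full] [i.toFunctor.Faithful] : FibCat.IsEquivOver (cores i) := by
  rw [Groth.Agent.S5139.result]
  refine ⟨⟨?_, ?_⟩, ?_⟩
  · exact inferInstanceAs (ObjectProperty.lift _ i.toFunctor _).Full
  · exact inferInstanceAs (ObjectProperty.lift _ i.toFunctor _).Faithful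
  · rintro ⟨x, z, ⟨φ⟩⟩
    have hiz : 𝒳.p.obj (i.obj z) = 𝒵.p.obj z := i.w_obj z
    let g : 𝒳.p.obj x ⟶ 𝒵.p.obj z := 𝒳.p.map φ.inv ≫ eqToHom hiz
    obtain ⟨z', ψ, hψ⟩ := hZ.exists_lift (x := z) g
    have h1 : 𝒳.p.IsHomLift g (i.map ψ) := inferInstance
    have h1' : 𝒳.p.IsHomLift (eqToHom hiz.symm ≫ 𝒳.p.map φ.hom) φ.hom := inferInstance
    have h2' : 𝒳.p.IsHomLift (g ≫ eqToHom hiz.symm ≫ 𝒳.p.map φ.hom) (i.map ψ ≫ φ.hom) :=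
      inferInstance
    have hg : g ≫ eqToHom hiz.symm ≫ 𝒳.p.map φ.hom = 𝟙 _ := by
      simp [g, ← Functor.map_comp]
    rw [hg] at h2'
    have h3 : IsIso (i.map ψ ≫ φ.hom) := FG.isIso_of_lift_id hX _ h2'
    exact ⟨z', ObjectProperty.isoMk _ (@asIso _ _ _ _ (i.map ψ ≫ φ.hom) h3),
      IsHomLift.of_fac (AlgSt.fullSub 𝒳 (EI i)).p _ _ (hl_dom (p := 𝒳.p) h2')
        (hl_cod (p := 𝒳.p) h2') (hl_fac (p := 𝒳.p) h2')⟩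

theorem main (h𝒵 : AlgSt.IsAlgStack Scheme.fppfPrecoverage 𝒵)
    (h𝒳 : AlgSt.IsAlgStack Scheme.fppfPrecoverage 𝒳) (i : 𝒵 ⥤ᵇ 𝒳) (hi : AlgSt.IsImm i) :
    ∃ Q : 𝒳.obj → Prop,
      (AlgSt.IsLocClosedSubstack 𝒳 Q Scheme.fppfPrecoverage ∧
        (∃ i' : 𝒵 ⥤ᵇ AlgSt.fullSub 𝒳 Q, FibCat.IsEquivOver i' ∧
          Nonempty (BasedFunctor.comp i' (AlgSt.subIncl 𝒳 Q) ≅ i)) ∧
        (AlgSt.IsClosedImm i → AlgSt.IsClosedSubstack 𝒳 Q Scheme.fppfPrecoverage) ∧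
        (AlgSt.IsOpenImm i → AlgSt.IsOpenSubstack 𝒳 Q Scheme.fppfPrecoverage)) ∧
      ∀ Q' : 𝒳.obj → Prop, AlgSt.IsLocClosedSubstack 𝒳 Q' Scheme.fppfPrecoverage →
        (∃ i' : 𝒵 ⥤ᵇ AlgSt.fullSub 𝒳 Q', FibCat.IsEquivOver i' ∧
          Nonempty (BasedFunctor.comp i' (AlgSt.subIncl 𝒳 Q') ≅ i)) → Q' = Q := by
  have hZ := h𝒵.isStack.1
  have hX := h𝒳.isStack.1
  obtain ⟨hfull, hfaith⟩ := Groth.Agent.S12774.result hZ hX i (Groth.Agent.S12868.result i hi)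
  have heq := cores_equiv hZ hX i
  have halg : AlgSt.IsAlgStack Scheme.fppfPrecoverage (AlgSt.fullSub 𝒳 (EI i)) :=
    (Groth.Agent.S12770.result (cores i) heq).mp h𝒵
  have hrep : ∀ P : MorphismProperty (AlgSp.Sp S), AlgSt.RepByAlgSpWith P i →
      AlgSt.RepByAlgSpWith P (AlgSt.subIncl 𝒳 (EI i)) := fun P hP =>
    FD.repWith_of_precomp_equiv P (cores i) heq (AlgSt.subIncl 𝒳 (EI i))
      (by rw [cores_comp]; exact hP)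
  refine ⟨EI i, ⟨⟨ei_iso i, halg, hrep _ hi⟩, ⟨cores i, heq, ⟨eqToIso (cores_comp i)⟩⟩,
    fun hc => ⟨ei_iso i, halg, hrep _ hc⟩, fun ho => ⟨ei_iso i, halg, hrep _ ho⟩⟩, ?_⟩
  rintro Q' ⟨hiso', -, -⟩ ⟨i'', he'', ⟨iso''⟩⟩
  funext x
  apply propext
  constructor
  · intro hx
    obtain ⟨-, hess⟩ := (Groth.Agent.S5139.result i'').mp he''
    obtain ⟨ξ, e, -⟩ := hess ⟨x, hx⟩
    exact ⟨ξ, ⟨(compApp iso'' ξ).symm ≪≫ (AlgSt.subIncl 𝒳 Q').toFunctor.mapIso e⟩⟩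
  · rintro ⟨z, ⟨φ⟩⟩
    exact hiso'.of_iso (compApp iso'' z ≪≫ φ) (i''.obj z).property


end Aux

/-- Let `i : 𝒵 ⟶ 𝒳` be an immersion of algebraic stacks over `S`. Then there is a unique locally closed
substack `𝒳' ⊂ 𝒳` (a predicate on objects closed under isomorphisms, with algebraic full subcategory
and immersion inclusion) such that `i` is 2-isomorphic to an equivalence `𝒵 ⟶ 𝒳'` over `(Sch/S)`
followed by the inclusion `𝒳' ⟶ 𝒳`; moreover `𝒳'` is closed (resp. open) as a substack whenever `i`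
is a closed (resp. open) immersion. -/
theorem result {S : Scheme.{u}} {𝒵 𝒳 : AlgSt.Cat S}
    (h𝒵 : AlgSt.IsAlgStack Scheme.fppfPrecoverage 𝒵) (h𝒳 : AlgSt.IsAlgStack Scheme.fppfPrecoverage 𝒳) (i : 𝒵 ⥤ᵇ 𝒳) (hi : AlgSt.IsImm i) :
    ∃ Q : 𝒳.obj → Prop,
      (AlgSt.IsLocClosedSubstack 𝒳 Q Scheme.fppfPrecoverage ∧
        (∃ i' : 𝒵 ⥤ᵇ AlgSt.fullSub 𝒳 Q, FibCat.IsEquivOver i' ∧
          Nonempty (BasedFunctor.comp i' (AlgSt.subIncl 𝒳 Q) ≅ i)) ∧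
        (AlgSt.IsClosedImm i → AlgSt.IsClosedSubstack 𝒳 Q Scheme.fppfPrecoverage) ∧
        (AlgSt.IsOpenImm i → AlgSt.IsOpenSubstack 𝒳 Q Scheme.fppfPrecoverage)) ∧
      ∀ Q' : 𝒳.obj → Prop, AlgSt.IsLocClosedSubstack 𝒳 Q' Scheme.fppfPrecoverage →
        (∃ i' : 𝒵 ⥤ᵇ AlgSt.fullSub 𝒳 Q', FibCat.IsEquivOver i' ∧
          Nonempty (BasedFunctor.comp i' (AlgSt.subIncl 𝒳 Q') ≅ i)) → Q' = Q := by
  exact main h𝒵 h𝒳 i hi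

end Groth.Agent.S12878
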