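import Groth.Statements.S12875
import Groth.Agent.S12874
import Groth.Agent.S12878
import Groth.Agent.Lib.Helper30.ClosedDescent
import Groth.Agent.Lib.Helper17.WellNigh

set_option autoImplicit false
open CategoryTheory AlgebraicGeometry
universe u
open AlgSt

namespace Groth.Agent.S12875

section Aux
open CategoryTheory CategoryTheory.Limits AlgebraicGeometry Opposite AlgSp FibCat Stk AlgSt
open Groth.Agent.Lib.Helper17 Groth.Agent.Lib.Helper17.FP Groth.Agent.Lib.Helper17.EO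
open Groth.Agent.Lib.Helper17.PD Groth.Agent.Lib.Helper17.AT Groth.Agent.Lib.Helper17.AB
open Groth.Agent.Lib.Helper17.AOS Groth.Agent.Lib.Helper17.ACP Groth.Agent.Lib.Helper17.PTS
open Groth.Agent.Lib.Helper10.OST Groth.Agent.Lib.Helper86


variable {S : Scheme.{u}}

section Sub

variable {X : Sp S} (Pr : ∀ ⦃T : Over S⦄, ((yon S).obj T ⟶ X) → Prop)
  (hcomp : ∀ ⦃T T₁ : Over S⦄ (ψ : T₁ ⟶ T) (g : (yon S).obj T ⟶ X),
    Pr g → Pr ((yon S).map ψ ≫ g))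

/-- the subfunctor of sections satisfying a predicate stable under restriction -/
def sub : Subfunctor X.obj where
  obj T := {x | Pr ((J S).uliftYonedaEquiv.symm x)}
  map := by
    intro T T₁ ψ x hx
    show Pr ((J S).uliftYonedaEquiv.symm (X.obj.map ψ x))
    have e : (J S).uliftYonedaEquiv.symm (X.obj.map ψ x) =
        (yon S).map ψ.unop ≫ (J S).uliftYonedaEquiv.symm x :=
      (GrothendieckTopology.uliftYonedaEquiv_symm_naturality_left (J S) ψ.unop X x).symm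
    rw [e]
    exact hcomp ψ.unop _ hx

variable (hlocal : ∀ ⦃T : Over S⦄ (g : (yon S).obj T ⟶ X) (R : Sieve T), R ∈ J S T →
      (∀ ⦃T₁ : Over S⦄ (ψ : T₁ ⟶ T), R ψ → Pr ((yon S).map ψ ≫ g)) → Pr g)

include hlocal in
theorem sub_isSheaf : Presheaf.IsSheaf (J S) (sub Pr hcomp).toFunctor := by
  rw [isSheaf_iff_isSheaf_of_type]
  rw [Subfunctor.isSheaf_iff _ ((isSheaf_iff_isSheaf_of_type _ _).1 X.property)]
  intro T s hs
  show Pr ((J S).uliftYonedaEquiv.symm s)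
  refine hlocal _ _ hs (fun T₁ ψ hψ => ?_)
  have h1 : X.obj.map ψ.op s ∈ (sub Pr hcomp).obj (op T₁) := hψ
  have e : (J S).uliftYonedaEquiv.symm (X.obj.map ψ.op s) =
      (yon S).map ψ ≫ (J S).uliftYonedaEquiv.symm s :=
    (GrothendieckTopology.uliftYonedaEquiv_symm_naturality_left (J S) ψ X s).symm
  rw [← e]
  exact h1

/-- the subsheaf -/
def gSub : Sp S := ⟨(sub Pr hcomp).toFunctor, sub_isSheaf Pr hcomp hlocal⟩

/-- its inclusion -/
def gSubι : gSub Pr hcomp hlocal ⟶ X := ObjectProperty.homMk (sub Pr hcomp).ι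

instance : Mono (gSubι Pr hcomp hlocal) := by
  have : Mono ((sheafToPresheaf (J S) (Type (u + 1))).map (gSubι Pr hcomp hlocal)) :=
    inferInstanceAs (Mono (sub Pr hcomp).ι)
  exact (sheafToPresheaf (J S) (Type (u + 1))).mono_of_mono_map this

theorem pred_comp_gSubι {T : Over S} (g : (yon S).obj T ⟶ gSub Pr hcomp hlocal) :
    Pr (g ≫ gSubι Pr hcomp hlocal) := by
  have h := ((J S).uliftYonedaEquiv g).2
  have e : (J S).uliftYonedaEquiv.symm (((J S).uliftYonedaEquiv g).1) =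
      g ≫ gSubι Pr hcomp hlocal := by
    apply (J S).uliftYonedaEquiv.injective
    rw [Equiv.apply_symm_apply, GrothendieckTopology.uliftYonedaEquiv_comp]
    rfl
  rw [← e]
  exact h

theorem exists_lift_gSub {T : Over S} (g : (yon S).obj T ⟶ X) (hg : Pr g) :
    ∃ g' : (yon S).obj T ⟶ gSub Pr hcomp hlocal, g' ≫ gSubι Pr hcomp hlocal = g := by
  have hmem : (J S).uliftYonedaEquiv g ∈ (sub Pr hcomp).obj (op T) := by
    show Pr ((J S).uliftYonedaEquiv.symm ((J S).uliftYonedaEquiv g))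
    rw [Equiv.symm_apply_apply]
    exact hg
  refine ⟨(J S).uliftYonedaEquiv.symm (⟨(J S).uliftYonedaEquiv g, hmem⟩ :
    (gSub Pr hcomp hlocal).obj.obj (op T)), ?_⟩
  apply (J S).uliftYonedaEquiv.injective
  rw [GrothendieckTopology.uliftYonedaEquiv_comp]
  erw [Equiv.apply_symm_apply]
  rfl

open Groth.Agent.Lib.Helper30.ClosedDescent in
theorem isPullback_of_pred_iff {T : Over S} (g : (yon S).obj T ⟶ X) (K : T.left.IdealSheafData)
    (hK : ∀ {T₀ : Over S} (y : T₀ ⟶ T), Pr ((yon S).map y ≫ g) ↔ K ≤ y.left.ker) :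
    ∃ top : (yon S).obj (Over.mk (K.subschemeι ≫ T.hom)) ⟶ gSub Pr hcomp hlocal,
      IsPullback top ((yon S).map (Over.homMk K.subschemeι rfl :
        Over.mk (K.subschemeι ≫ T.hom) ⟶ T)) (gSubι Pr hcomp hlocal) g := by
  have h0 : Pr ((yon S).map (Over.homMk K.subschemeι rfl :
      Over.mk (K.subschemeι ≫ T.hom) ⟶ T) ≫ g) := by
    rw [hK]
    change K ≤ K.subschemeι.ker
    rw [Scheme.IdealSheafData.ker_subschemeι]
  obtain ⟨top, htop⟩ := exists_lift_gSub Pr hcomp hlocal _ h0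
  refine ⟨top, Groth.Agent.Lib.Helper5.sheaf_isPullback_of_yon.{u, u + 1, u + 1} (J S) top _
    (gSubι Pr hcomp hlocal) g htop ?_ ?_⟩
  · intro T0 z z' _ h2
    obtain ⟨ψ, rfl⟩ := (yon S).map_surjective z
    obtain ⟨ψ', rfl⟩ := (yon S).map_surjective z'
    rw [← Functor.map_comp, ← Functor.map_comp] at h2
    have h3 := (yon S).map_injective h2
    rw [cancel_mono] at h3
    rw [h3]
  · intro T0 x y hxy
    obtain ⟨y₀, rfl⟩ := (yon S).map_surjective y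
    have hp : Pr ((yon S).map y₀ ≫ g) := by
      rw [← hxy]; exact pred_comp_gSubι Pr hcomp hlocal x
    obtain ⟨ψ, hψ⟩ := exists_over_lift K y₀ ((hK y₀).1 hp)
    refine ⟨(yon S).map ψ, ?_, ?_⟩
    · rw [← cancel_mono (gSubι Pr hcomp hlocal), Category.assoc, htop, ← Category.assoc,
        ← Functor.map_comp, hψ, hxy]
    · rw [← Functor.map_comp, hψ]


end Sub

/-- a subfunctor of a representable sheaf cut out by ideal sheaves over every affine test scheme is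
represented by a closed subscheme -/
theorem exists_closed_rep {U : Over S}
    (Pr : ∀ ⦃T : Over S⦄, ((yon S).obj T ⟶ (yon S).obj U) → Prop)
    (hcomp : ∀ ⦃T T₁ : Over S⦄ (ψ : T₁ ⟶ T) (g : (yon S).obj T ⟶ (yon S).obj U),
      Pr g → Pr ((yon S).map ψ ≫ g))
    (hlocal : ∀ ⦃T : Over S⦄ (g : (yon S).obj T ⟶ (yon S).obj U) (R : Sieve T), R ∈ J S T →
      (∀ ⦃T₁ : Over S⦄ (ψ : T₁ ⟶ T), R ψ → Pr ((yon S).map ψ ≫ g)) → Pr g)
    (haff : ∀ ⦃T : Over S⦄, IsAffine T.left → ∀ g : (yon S).obj T ⟶ (yon S).obj U,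
      ∃ K : T.left.IdealSheafData, ∀ {T₀ : Over S} (y : T₀ ⟶ T),
        Pr ((yon S).map y ≫ g) ↔ K ≤ y.left.ker) :
    ∃ (Z : Over S) (ι : Z ⟶ U), IsClosedImmersion ι.left ∧
      ∀ ⦃T : Over S⦄ (t : T ⟶ U), Pr ((yon S).map t) ↔ ∃ t' : T ⟶ Z, t' ≫ ι = t := by
  have hrep : RepWith @IsClosedImmersion (gSubι Pr hcomp hlocal) := by
    refine Groth.Agent.Lib.Helper5.LocalRep.repWith_of_affine_test @IsClosedImmersion
      (gSubι Pr hcomp hlocal) (fun Z hZ g => ?_)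
    obtain ⟨K, hK⟩ := haff hZ g
    obtain ⟨top, sq⟩ := isPullback_of_pred_iff Pr hcomp hlocal g K hK
    exact ⟨_, _, top, sq, (inferInstance : IsClosedImmersion K.subschemeι)⟩
  have sq := hrep.rep.isPullback (𝟙 ((yon S).obj U))
  refine ⟨hrep.rep.pullback (𝟙 _), hrep.rep.snd (𝟙 _), hrep.property_snd (𝟙 _), ?_⟩
  intro T t
  constructor
  · intro h
    obtain ⟨g', hg'⟩ := exists_lift_gSub Pr hcomp hlocal _ h
    obtain ⟨l, hl1, hl2⟩ := sq.exists_lift g' ((yon S).map t) (by rw [hg', Category.comp_id])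
    obtain ⟨t', rfl⟩ := (yon S).map_surjective l
    refine ⟨t', (yon S).map_injective ?_⟩
    rw [Functor.map_comp]
    exact hl2
  · rintro ⟨t', rfl⟩
    have e : (yon S).map (t' ≫ hrep.rep.snd (𝟙 _)) =
        ((yon S).map t' ≫ hrep.rep.fst (𝟙 _)) ≫ gSubι Pr hcomp hlocal := by
      rw [Functor.map_comp, Category.assoc, sq.w, Category.comp_id]
    rw [e]
    exact pred_comp_gSubι Pr hcomp hlocal _


section E0

variable {𝒴 : AlgSt.Cat S} (Q : 𝒴.obj → Prop) (hhom : ∀ {z y : 𝒴.obj} (_ : z ⟶ y), Q y → Q z)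
  {U : Over S} (y : FibCat.overCat U ⥤ᵇ 𝒴) {Z : Over S} (ι : Z ⟶ U) [Mono ι]
  (H1 : ∀ B : Over Z, Q ((BasedFunctor.comp (AlgSt.overMap ι) y).obj B))
  (H2 : ∀ A : Over U, Q (y.obj A) → ∃ l' : A.left ⟶ Z, l' ≫ ι = A.hom)

/-- the restricted chart, into the full subcategory -/
def yZ : FibCat.overCat Z ⥤ᵇ AlgSt.fullSub 𝒴 Q :=
  liftSub Q (BasedFunctor.comp (AlgSt.overMap ι) y) H1

/-- the comparison functor `(Sch/Z) ⟶ (Sch/U) ×_𝒴 𝒴_Q` -/
def e₀ : FibCat.overCat Z ⥤ᵇ FibCat.fp y (AlgSt.subIncl 𝒴 Q) :=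
  FibCat.fpLift (AlgSt.overMap ι) (yZ Q y ι H1) (Iso.refl _)

omit [Mono ι] in
theorem e₀_faithful : (e₀ Q y ι H1).toFunctor.Faithful := by
  constructor
  intro A B h h' hh
  have h1 : (AlgSt.overMap ι).map h = (AlgSt.overMap ι).map h' :=
    congrArg (fun m => m.hom.fst) hh
  apply Over.OverMorphism.ext
  exact congrArg (fun m : (AlgSt.overMap ι).obj A ⟶
    (AlgSt.overMap ι).obj B => CommaMorphism.left m) h1

theorem e₀_full : (e₀ Q y ι H1).toFunctor.Full := by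
  constructor
  intro A B m
  have hw := m.hom.w
  have h2 : m.hom.fst.left ≫ (B.hom ≫ ι) = A.hom ≫ ι := Over.w m.hom.fst
  have h3 : m.hom.fst.left ≫ B.hom = A.hom := by
    rw [← Category.assoc] at h2
    exact (cancel_mono ι).mp h2
  refine ⟨Over.homMk m.hom.fst.left h3, ?_⟩
  apply FP.hom_ext
  · apply Over.OverMorphism.ext
    rfl
  · change y.map m.hom.fst ≫ 𝟙 _ = 𝟙 _ ≫ (AlgSt.subIncl 𝒴 Q).map m.hom.snd at hw
    rw [Category.comp_id, Category.id_comp] at hw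
    apply ObjectProperty.hom_ext
    refine Eq.trans ?_ hw
    change y.map _ = y.map _
    congr 1

include hhom H2 in
omit [Mono ι] in
theorem e₀_essSurj (η : (FibCat.fp y (AlgSt.subIncl 𝒴 Q)).obj) :
    ∃ (ξ : (FibCat.overCat Z).obj) (e : (e₀ Q y ι H1).toFunctor.obj ξ ≅ η),
      (FibCat.fp y (AlgSt.subIncl 𝒴 Q)).p.IsHomLift
        (𝟙 ((FibCat.fp y (AlgSt.subIncl 𝒴 Q)).p.obj η)) e.hom := by
  obtain ⟨A, z, θ, hθ, rfl⟩ : ∃ (A : Over U) (z : (AlgSt.fullSub 𝒴 Q).obj)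
      (θ : y.obj A ≅ (AlgSt.subIncl 𝒴 Q).obj z)
      (hθ : 𝒴.p.IsHomLift (𝟙 ((FibCat.overCat U).p.obj A)) θ.hom),
      η = mkObj (F := y) (G := AlgSt.subIncl 𝒴 Q) A z θ hθ :=
    ⟨η.obj.fst, η.obj.snd, η.obj.iso, iso_isHomLift η, rfl⟩
  have hA : Q (y.obj A) := hhom θ.hom z.property
  obtain ⟨l', hl'⟩ := H2 A hA
  let ξ : Over Z := Over.mk l'
  let α : (AlgSt.overMap ι).obj ξ ≅ A := Over.isoMk (Iso.refl _) (by
    change 𝟙 _ ≫ A.hom = l' ≫ ι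
    rw [hl', Category.id_comp])
  let β : (yZ Q y ι H1).obj ξ ≅ z :=
    ObjectProperty.isoMk _ (y.toFunctor.mapIso α ≪≫ θ)
  let e : (e₀ Q y ι H1).toFunctor.obj ξ ≅ mkObj (F := y) (G := AlgSt.subIncl 𝒴 Q) A z θ hθ :=
    mkIso (z := (e₀ Q y ι H1).toFunctor.obj ξ)
      (z' := mkObj (F := y) (G := AlgSt.subIncl 𝒴 Q) A z θ hθ) α β (by
      change y.map α.hom ≫ θ.hom = 𝟙 _ ≫ (y.map α.hom ≫ θ.hom)
      rw [Category.id_comp])
  refine ⟨ξ, e, ?_⟩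
  rw [isHomLift_iff_fst]
  change (FibCat.overCat U).p.IsHomLift (𝟙 A.left) α.hom
  exact hl_of_eq rfl

include hhom H2 in
theorem e₀_isEquivOver : FibCat.IsEquivOver (e₀ Q y ι H1) := by
  rw [Groth.Agent.S5139.result]
  exact ⟨⟨e₀_full Q y ι H1, e₀_faithful Q y ι H1⟩, e₀_essSurj Q hhom y ι H1 H2⟩

end E0


/-- **criterion for a closed substack**: a full subcategory closed under sources of morphisms,
local for the fppf topology and cut out by an ideal sheaf on every affine chart, is included by a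
closed immersion -/
theorem isClosedImm_subIncl {𝒴 : AlgSt.Cat S} (Q : 𝒴.obj → Prop)
    (hhom : ∀ {z y : 𝒴.obj} (_ : z ⟶ y), Q y → Q z)
    (hloc : ∀ (z : 𝒴.obj) {T : Over S} (_ : 𝒴.p.obj z = T) (R : Sieve T), R ∈ J S T →
      (∀ ⦃V : Over S⦄ (ψ : V ⟶ T), R ψ →
        ∃ (x : 𝒴.obj) (φ : x ⟶ z), Q x ∧ 𝒴.p.IsHomLift ψ φ) → Q z)
    (haff : ∀ (T : Over S), IsAffine T.left → ∀ (y : FibCat.overCat T ⥤ᵇ 𝒴),
      ∃ K : T.left.IdealSheafData, ∀ {T₀ : Over S} (y₀ : T₀ ⟶ T),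
        Q (y.obj (Over.mk y₀)) ↔ K ≤ y₀.left.ker) :
    AlgSt.IsClosedImm (AlgSt.subIncl 𝒴 Q) := by
  intro U y
  let Pr : ∀ ⦃T : Over S⦄, ((yon S).obj T ⟶ (yon S).obj U) → Prop :=
    fun T g => ∀ t : T ⟶ U, (yon S).map t = g → Q (y.obj (Over.mk t))
  have hPr_map : ∀ {T : Over S} (t : T ⟶ U), Pr ((yon S).map t) ↔ Q (y.obj (Over.mk t)) := by
    intro T t
    constructor
    · intro h
      exact h t rfl
    · intro h t' ht'
      have := (yon S).map_injective ht'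
      subst this
      exact h
  have hcomp : ∀ ⦃T T₁ : Over S⦄ (ψ : T₁ ⟶ T) (g : (yon S).obj T ⟶ (yon S).obj U),
      Pr g → Pr ((yon S).map ψ ≫ g) := by
    intro T T₁ ψ g hg
    obtain ⟨t, rfl⟩ := (yon S).map_surjective g
    rw [← Functor.map_comp, hPr_map]
    exact hhom (y.map (Over.homMk ψ rfl : Over.mk (ψ ≫ t) ⟶ Over.mk t)) ((hPr_map t).mp hg)
  have hlocal : ∀ ⦃T : Over S⦄ (g : (yon S).obj T ⟶ (yon S).obj U) (R : Sieve T), R ∈ J S T →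
      (∀ ⦃T₁ : Over S⦄ (ψ : T₁ ⟶ T), R ψ → Pr ((yon S).map ψ ≫ g)) → Pr g := by
    intro T g R hR h
    obtain ⟨t, rfl⟩ := (yon S).map_surjective g
    rw [hPr_map]
    refine hloc (y.obj (Over.mk t)) (y.w_obj (Over.mk t)) R hR ?_
    intro V ψ hψ
    have h1 := h ψ hψ
    rw [← Functor.map_comp, hPr_map] at h1
    have h2 : (FibCat.overCat U).p.IsHomLift ψ
        (Over.homMk ψ rfl : Over.mk (ψ ≫ t) ⟶ Over.mk t) := hl_of_eq rfl
    exact ⟨_, y.map (Over.homMk ψ rfl : Over.mk (ψ ≫ t) ⟶ Over.mk t), h1, inferInstance⟩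
  have haff' : ∀ ⦃T : Over S⦄, IsAffine T.left → ∀ g : (yon S).obj T ⟶ (yon S).obj U,
      ∃ K : T.left.IdealSheafData, ∀ {T₀ : Over S} (y₀ : T₀ ⟶ T),
        Pr ((yon S).map y₀ ≫ g) ↔ K ≤ y₀.left.ker := by
    intro T hT g
    obtain ⟨g₀, rfl⟩ := (yon S).map_surjective g
    obtain ⟨K, hK⟩ := haff T hT (BasedFunctor.comp (AlgSt.overMap g₀) y)
    refine ⟨K, fun {T₀} y₀ => ?_⟩
    rw [← Functor.map_comp, hPr_map]
    exact hK y₀
  obtain ⟨Z, ι, hcl, hZ⟩ := exists_closed_rep Pr hcomp hlocal haff'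
  have : IsClosedImmersion ι.left := hcl
  have hmono : Mono ι := by
    have : Mono ((Over.forget S).map ι) := by
      change Mono ι.left
      infer_instance
    exact (Over.forget S).mono_of_mono_map this
  have H1 : ∀ B : Over Z, Q ((BasedFunctor.comp (AlgSt.overMap ι) y).obj B) := fun B =>
    (hPr_map (B.hom ≫ ι)).mp ((hZ _).mpr ⟨B.hom, rfl⟩)
  have H2 : ∀ A : Over U, Q (y.obj A) → ∃ l' : A.left ⟶ Z, l' ≫ ι = A.hom := fun A hA =>
    (hZ A.hom).mp ((hPr_map A.hom).mpr hA)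
  refine ⟨⟨(yon S).obj Z, IsAlgSpace.yon_obj _⟩,
    BasedFunctor.comp (toOverCat Z) (e₀ Q y ι H1),
    isEquivOver_comp _ _ (AD.toOverCat_isEquivOver _) (e₀_isEquivOver Q hhom y ι H1 H2), ?_⟩
  have e : BasedFunctor.comp (BasedFunctor.comp (toOverCat Z) (e₀ Q y ι H1))
      (FibCat.fpFst y (AlgSt.subIncl 𝒴 Q)) =
      BasedFunctor.comp (toOverCat Z) (AlgSt.overMap ι) :=
    DR.basedFunctor_ext rfl
  rw [e, BRG.spMapOfOver_overMap, repWith_yon_map_iff]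
  exact hcl


theorem comap_le_ker_iff {Y X W : Scheme.{u}} (f : Y ⟶ X) (g : X ⟶ W) (I : W.IdealSheafData) :
    I.comap g ≤ f.ker ↔ I ≤ (f ≫ g).ker := by
  rw [Scheme.Hom.ker_comp, Scheme.IdealSheafData.le_map_iff_comap_le]

open Groth.Agent.Lib.Helper30.IdealDescent in
/-- **descent of the ideal sheaf along an fppf cover of an affine chart** -/
theorem exists_ideal_of_cover {𝒴 : AlgSt.Cat S} (Q : 𝒴.obj → Prop)
    (hhom : ∀ {z y : 𝒴.obj} (_ : z ⟶ y), Q y → Q z)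
    (hloc : ∀ (z : 𝒴.obj) {T : Over S} (_ : 𝒴.p.obj z = T) (R : Sieve T), R ∈ J S T →
      (∀ ⦃V : Over S⦄ (ψ : V ⟶ T), R ψ →
        ∃ (x : 𝒴.obj) (φ : x ⟶ z), Q x ∧ 𝒴.p.IsHomLift ψ φ) → Q z)
    {T : Over S} [IsAffine T.left] (y : FibCat.overCat T ⥤ᵇ 𝒴) {T'' : Over S} (a : T'' ⟶ T)
    [Flat a.left] [LocallyOfFinitePresentation a.left] (hsurj : Function.Surjective a.left)
    (I : T''.left.IdealSheafData)
    (hI : ∀ {T₀ : Over S} (t : T₀ ⟶ T''), I ≤ t.left.ker ↔ Q (y.obj (Over.mk (t ≫ a)))) :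
    ∃ K : T.left.IdealSheafData, ∀ {T₀ : Over S} (y₀ : T₀ ⟶ T),
      Q (y.obj (Over.mk y₀)) ↔ K ≤ y₀.left.ker := by
  have key : ∀ {Y : Scheme.{u}} (t₁ t₂ : Y ⟶ T''.left), t₁ ≫ a.left = t₂ ≫ a.left →
      (I ≤ t₁.ker ↔ I ≤ t₂.ker) := by
    intro Y t₁ t₂ h
    let Y₁ : Over S := Over.mk (t₁ ≫ T''.hom)
    let t₁' : Y₁ ⟶ T'' := Over.homMk t₁ rfl
    let t₂' : Y₁ ⟶ T'' := Over.homMk t₂ (by
      change t₂ ≫ T''.hom = t₁ ≫ T''.hom
      rw [← Over.w a, ← Category.assoc, ← Category.assoc, h])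
    have e : t₁' ≫ a = t₂' ≫ a := by
      ext
      exact h
    have h1 := hI t₁'
    have h2 := hI t₂'
    rw [e] at h1
    exact h1.trans h2.symm
  have hc : I.comap (pullback.fst a.left a.left) = I.comap (pullback.snd a.left a.left) := by
    apply le_antisymm
    · have h0 : I.comap (pullback.snd a.left a.left) ≤
          (I.comap (pullback.snd a.left a.left)).subschemeι.ker := by
        rw [Scheme.IdealSheafData.ker_subschemeι]
      rw [comap_le_ker_iff] at h0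
      have h1 := (key ((I.comap (pullback.snd a.left a.left)).subschemeι ≫ pullback.fst a.left a.left)
        ((I.comap (pullback.snd a.left a.left)).subschemeι ≫ pullback.snd a.left a.left) (by
        rw [Category.assoc, Category.assoc, pullback.condition])).mpr h0
      rw [← comap_le_ker_iff, Scheme.IdealSheafData.ker_subschemeι] at h1
      exact h1
    · have h0 : I.comap (pullback.fst a.left a.left) ≤
          (I.comap (pullback.fst a.left a.left)).subschemeι.ker := by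
        rw [Scheme.IdealSheafData.ker_subschemeι]
      rw [comap_le_ker_iff] at h0
      have h1 := (key ((I.comap (pullback.fst a.left a.left)).subschemeι ≫ pullback.fst a.left a.left)
        ((I.comap (pullback.fst a.left a.left)).subschemeι ≫ pullback.snd a.left a.left) (by
        rw [Category.assoc, Category.assoc, pullback.condition])).mp h0
      rw [← comap_le_ker_iff, Scheme.IdealSheafData.ker_subschemeι] at h1
      exact h1
  have : Surjective a.left := ⟨hsurj⟩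
  obtain ⟨K, hK⟩ := exists_descent_of_isAffine a.left a.left.isOpenMap I hc
  refine ⟨K, fun {T₀} y₀ => ?_⟩
  have sq₀ := IsPullback.of_hasPullback y₀.left a.left
  rw [hK y₀.left _ _ sq₀]
  let P₀ : Over S := Over.mk (pullback.fst y₀.left a.left ≫ T₀.hom)
  let fst' : P₀ ⟶ T₀ := Over.homMk (pullback.fst y₀.left a.left) rfl
  let snd' : P₀ ⟶ T'' := Over.homMk (pullback.snd y₀.left a.left) (by
    change pullback.snd y₀.left a.left ≫ T''.hom = pullback.fst y₀.left a.left ≫ T₀.hom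
    rw [← Over.w a, ← Over.w y₀, ← Category.assoc, ← Category.assoc, pullback.condition])
  have e : snd' ≫ a = fst' ≫ y₀ := by
    ext
    exact pullback.condition.symm
  have h1 := hI snd'
  rw [e] at h1
  change _ ↔ I ≤ snd'.left.ker
  rw [h1]
  constructor
  · intro h
    exact hhom (y.map (Over.homMk fst' rfl : Over.mk (fst' ≫ y₀) ⟶ Over.mk y₀)) h
  · intro h
    have hf1 : Flat fst'.left := by
      change Flat (pullback.fst y₀.left a.left)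
      infer_instance
    have hf2 : LocallyOfFinitePresentation fst'.left := by
      change LocallyOfFinitePresentation (pullback.fst y₀.left a.left)
      infer_instance
    have hf3 : Function.Surjective fst'.left := by
      have : Surjective (pullback.fst y₀.left a.left) := inferInstance
      exact this.surj
    refine hloc (y.obj (Over.mk y₀)) (y.w_obj (Over.mk y₀))
      (Sieve.generate (Presieve.singleton fst'))
      (Groth.Agent.Lib.Helper10.OST.generate_singleton_mem_J fst' hf3) ?_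
    rintro V ψ ⟨_, ψ', _, ⟨⟩, rfl⟩
    have h2 : (FibCat.overCat T).p.IsHomLift (ψ' ≫ fst')
        (Over.homMk (ψ' ≫ fst') rfl : Over.mk ((ψ' ≫ fst') ≫ y₀) ⟶ Over.mk y₀) := hl_of_eq rfl
    refine ⟨_, y.map (Over.homMk (ψ' ≫ fst') rfl : Over.mk ((ψ' ≫ fst') ≫ y₀) ⟶ Over.mk y₀),
      ?_, EO.map_lift'' y h2⟩
    exact hhom (y.map (Over.homMk ψ' (by simp) :
      Over.mk ((ψ' ≫ fst') ≫ y₀) ⟶ Over.mk (fst' ≫ y₀))) h


section EIf

open Groth.Agent.S12878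

variable {𝒳 𝒴 : AlgSt.Cat S}

/-- an object of the essential image is isomorphic over the identity to an image -/
theorem ei_lift (hX : FibCat.IsFibGrpd 𝒳.p) (hY : FibCat.IsFibGrpd 𝒴.p) (f : 𝒳 ⥤ᵇ 𝒴)
    [f.toFunctor.Full] [f.toFunctor.Faithful] (y : 𝒴.obj) (hy : EI f y) :
    ∃ (x : 𝒳.obj) (φ : f.obj x ≅ y), 𝒴.p.IsHomLift (𝟙 (𝒴.p.obj y)) φ.hom := by
  obtain ⟨ξ, ε, hε⟩ := ((Groth.Agent.S5139.result (cores f)).mp (cores_equiv hX hY f)).2 ⟨y, hy⟩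
  refine ⟨ξ, (AlgSt.subIncl 𝒴 (EI f)).toFunctor.mapIso ε, ?_⟩
  exact EO.map_lift'' (AlgSt.subIncl 𝒴 (EI f)) hε

theorem ei_hom (h𝒳 : AlgSt.IsAlgStack Scheme.fppfPrecoverage 𝒳)
    (h𝒴 : AlgSt.IsAlgStack Scheme.fppfPrecoverage 𝒴) (f : 𝒳 ⥤ᵇ 𝒴)
    [f.toFunctor.Full] [f.toFunctor.Faithful] {z y : 𝒴.obj} (φ : z ⟶ y) (hy : EI f y) :
    EI f z := by
  have heq := cores_equiv h𝒳.isStack.1 h𝒴.isStack.1 f
  have halg : AlgSt.IsAlgStack Scheme.fppfPrecoverage (AlgSt.fullSub 𝒴 (EI f)) :=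
    (Groth.Agent.S12770.result (cores f) heq).mp h𝒳
  exact Q_of_hom h𝒴.isStack.1 (EI f) (ei_iso f) halg.isStack.1 φ hy

theorem ei_loc (h𝒳 : AlgSt.IsAlgStack Scheme.fppfPrecoverage 𝒳)
    (h𝒴 : AlgSt.IsAlgStack Scheme.fppfPrecoverage 𝒴) (f : 𝒳 ⥤ᵇ 𝒴)
    [f.toFunctor.Full] [f.toFunctor.Faithful] (z : 𝒴.obj) {T : Over S} (hz : 𝒴.p.obj z = T)
    (R : Sieve T) (hR : R ∈ J S T)
    (h : ∀ ⦃V : Over S⦄ (ψ : V ⟶ T), R ψ →
      ∃ (x : 𝒴.obj) (φ : x ⟶ z), EI f x ∧ 𝒴.p.IsHomLift ψ φ) : EI f z := by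
  subst hz
  have heq := cores_equiv h𝒳.isStack.1 h𝒴.isStack.1 f
  have halg : AlgSt.IsAlgStack Scheme.fppfPrecoverage (AlgSt.fullSub 𝒴 (EI f)) :=
    (Groth.Agent.S12770.result (cores f) heq).mp h𝒳
  obtain ⟨ξ, e, -⟩ := Groth.Agent.Lib.Helper62.StkLocEss.exists_preimage_of_locally h𝒴.isStack.1
    (AlgSt.subIncl 𝒴 (EI f)) z R (halg.isStack.2 _ hR).essSurj
    ⟨(h𝒴.isStack.2 _ hR).full, (h𝒴.isStack.2 _ hR).faithful⟩ (by
      intro V ψ hψ
      obtain ⟨x, φ, hx, hφ⟩ := h ψ hψ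
      exact ⟨⟨x, hx⟩, φ, hφ⟩)
  exact (ei_iso f).of_iso e ξ.property

end EIf

open Groth.Agent.Lib.Helper46 Groth.Agent.Lib.Helper46.LocPChart in
/-- the scheme chart of the base change of a functor representable by schemes with `P`, as an
equivalence -/
theorem exists_chart_equiv {𝒵 𝒳 : AlgSt.Cat S} (P : MorphismProperty Scheme.{u})
    [P.IsStableUnderBaseChange] (i : 𝒵 ⥤ᵇ 𝒳)
    (hi : AlgSt.RepByAlgSpWith (AlgSp.RepWith P) i) {U₀ : Over S}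
    (x₀ : FibCat.overCat U₀ ⥤ᵇ 𝒳) :
    ∃ (Z : Over S) (a : Z ⟶ U₀) (q : FibCat.overCat Z ⥤ᵇ FibCat.fp x₀ i),
      FibCat.IsEquivOver q ∧
      Nonempty (BasedFunctor.comp q (FibCat.fpFst x₀ i) ≅ AlgSt.overMap a) ∧ P a.left := by
  obtain ⟨F, e, he, hF⟩ := hi U₀ x₀
  obtain ⟨Z, g, fst, hpb⟩ := hF.1 (𝟙 ((yon S).obj U₀))
  have hfst : IsIso fst := hpb.isIso_fst_of_isIso
  let q : FibCat.overCat Z ⥤ᵇ FibCat.fp x₀ i :=
    BasedFunctor.comp (BasedFunctor.comp (ofOverCat Z) (ofSpMap fst)) e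
  let Φa : FibCat.overCat Z ⥤ᵇ FibCat.overCat U₀ := BasedFunctor.comp q (FibCat.fpFst x₀ i)
  have ha : (yon S).map (Groth.Agent.S6443.fOf Φa) =
      fst ≫ spMapOfOver (BasedFunctor.comp e (FibCat.fpFst x₀ i)) := by
    rw [← BRG.spMapOfOver_toOverCat, ← BRG.spMapOfOver_ofSpMap]
    congr 1
  refine ⟨Z, Groth.Agent.S6443.fOf Φa, q, ?_, ⟨Groth.Agent.S6443.isoOverMap Φa⟩, ?_⟩
  · exact isEquivOver_comp _ _ (isEquivOver_comp _ _ (AD.ofOverCat_isEquivOver Z)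
      (LQT.isEquivOver_ofSpMap_of_isIso fst)) he
  · rw [← repWith_yon_map_iff P, ha]
    exact (MorphismProperty.cancel_left_of_respectsIso (RepWith P) fst _).mpr hF


theorem lift_id_dom {𝒴 : AlgSt.Cat S} {A B : 𝒴.obj} {γ : A ⟶ B} {R R' : Over S}
    (h : 𝒴.p.IsHomLift (𝟙 R) γ) (hA : 𝒴.p.obj A = R') : 𝒴.p.IsHomLift (𝟙 R') γ :=
  Groth.Agent.Lib.Helper62.StkGlueHom.isHomLift_id_of_eq' ((hl_dom h).symm.trans hA) γ h

open Groth.Agent.S12878 Groth.Agent.S12874 in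
/-- the closed subscheme of the cover cut out by the closed immersion `V ⟶ W` is the locus where
the chart lifts to `𝒳` -/
theorem ker_le_iff {𝒳 𝒴 : AlgSt.Cat S} (hX : FibCat.IsFibGrpd 𝒳.p) (hY : FibCat.IsFibGrpd 𝒴.p)
    (f : 𝒳 ⥤ᵇ 𝒴) [f.toFunctor.Full] [f.toFunctor.Faithful]
    (W : AlgSp.Space S) (w : AlgSt.ofSp W.obj ⥤ᵇ 𝒴) (V : AlgSp.Space S) (a₀ : V ⟶ W)
    (e : AlgSt.ofSp V.obj ⥤ᵇ FibCat.fp w f) (he : FibCat.IsEquivOver e)
    (i₀ : BasedFunctor.comp e (FibCat.fpFst w f) ≅ AlgSt.ofSpMap a₀.hom)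
    {T T'' : Over S} (y : FibCat.overCat T ⥤ᵇ 𝒴) (a : T'' ⟶ T)
    (ŵ : FibCat.overCat T'' ⥤ᵇ AlgSt.ofSp W.obj)
    (iso : BasedFunctor.comp (AlgSt.overMap a) y ≅ BasedFunctor.comp ŵ w)
    {Z : Over S} (a' : Z ⟶ T'') [IsClosedImmersion a'.left]
    (q : FibCat.overCat Z ⥤ᵇ FibCat.fp ŵ (AlgSt.ofSpMap a₀.hom)) (hq : FibCat.IsEquivOver q)
    (ia : BasedFunctor.comp q (FibCat.fpFst ŵ (AlgSt.ofSpMap a₀.hom)) ≅ AlgSt.overMap a')
    {T₀ : Over S} (t : T₀ ⟶ T'') :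
    a'.left.ker ≤ t.left.ker ↔ EI f (y.obj (Over.mk (t ≫ a))) := by
  constructor
  · intro h
    obtain ⟨l', hl'⟩ : ∃ l' : T₀ ⟶ Z, l' ≫ a' = t := by
      let l : T₀.left ⟶ Z.left := IsClosedImmersion.lift a'.left t.left h
      have hl : l ≫ a'.left = t.left := IsClosedImmersion.lift_fac _ _ _
      refine ⟨Over.homMk l (by rw [← Over.w a', ← Category.assoc, hl, Over.w t]), ?_⟩
      ext
      exact hl
    subst hl'
    let ω : (FibCat.fp ŵ (AlgSt.ofSpMap a₀.hom)).obj := q.obj (Over.mk l')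
    let v : (AlgSt.ofSp V.obj).obj := ω.obj.snd
    let E : (FibCat.fp w f).obj := e.obj v
    let e1 : ω.obj.fst ≅ Over.mk (l' ≫ a') := compApp ia (Over.mk l')
    let c1 : f.obj E.obj.snd ≅ w.obj E.obj.fst := E.obj.iso.symm
    let c2 : w.obj E.obj.fst ≅ w.obj ((AlgSt.ofSpMap a₀.hom).obj v) :=
      w.toFunctor.mapIso (compApp i₀ v)
    let c3 : w.obj ((AlgSt.ofSpMap a₀.hom).obj v) ≅ w.obj (ŵ.obj ω.obj.fst) :=
      w.toFunctor.mapIso ω.obj.iso.symm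
    let c4 : w.obj (ŵ.obj ω.obj.fst) ≅ y.obj ((AlgSt.overMap a).obj ω.obj.fst) :=
      (compApp iso ω.obj.fst).symm
    let c5 : y.obj ((AlgSt.overMap a).obj ω.obj.fst) ≅ y.obj (Over.mk ((l' ≫ a') ≫ a)) :=
      y.toFunctor.mapIso ((AlgSt.overMap a).toFunctor.mapIso e1)
    exact ⟨E.obj.snd, ⟨c1 ≪≫ c2 ≪≫ c3 ≪≫ c4 ≪≫ c5⟩⟩
  · intro hEI
    obtain ⟨x, φ, hφ⟩ := ei_lift hX hY f _ hEI
    let t₁ : Over T'' := Over.mk t
    let γ : w.obj (ŵ.obj t₁) ≅ y.obj (Over.mk (t ≫ a)) := (compApp iso t₁).symm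
    have hγ₀ : 𝒴.p.IsHomLift (𝟙 T₀) (compApp iso t₁).hom := compApp_lift iso t₁
    have hγ : 𝒴.p.IsHomLift (𝟙 T₀) γ.hom := IsHomLift.lift_id_inv 𝒴.p T₀ (compApp iso t₁)
    have hφ₁ : 𝒴.p.IsHomLift (𝟙 T₀) φ.hom := lift_id_cod hφ (hl_cod hγ)
    have hφ₂ : 𝒴.p.IsHomLift (𝟙 T₀) φ.inv := IsHomLift.lift_id_inv 𝒴.p T₀ φ
    have hγφ : 𝒴.p.IsHomLift (𝟙 T₀) (γ ≪≫ φ.symm).hom := comp_id_lift hγ hφ₂
    have hbase : (AlgSt.ofSp W.obj).p.obj (ŵ.obj t₁) = T₀ := ŵ.w_obj t₁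
    let A : (FibCat.fp w f).obj := FP.mkObj (ŵ.obj t₁) x (γ ≪≫ φ.symm)
      (Groth.Agent.Lib.Helper62.StkGlueHom.isHomLift_id_of_eq' hbase.symm _ hγφ)
    obtain ⟨v, ε, hε⟩ := ((Groth.Agent.S5139.result e).mp he).2 A
    let ε₁ : (e.obj v).obj.fst ≅ ŵ.obj t₁ := (FibCat.fpFst w f).toFunctor.mapIso ε
    have hε₁ : (AlgSt.ofSp W.obj).p.IsHomLift (𝟙 ((FibCat.fp w f).p.obj A)) ε₁.hom :=
      EO.map_lift'' (FibCat.fpFst w f) hε
    have hε₂ : (AlgSt.ofSp W.obj).p.IsHomLift (𝟙 T₀) ε₁.hom := lift_id_cod hε₁ hbase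
    have hε₃ : (AlgSt.ofSp W.obj).p.IsHomLift (𝟙 T₀) ε₁.inv :=
      IsHomLift.lift_id_inv (AlgSt.ofSp W.obj).p T₀ ε₁
    have hi₀ : (AlgSt.ofSp W.obj).p.IsHomLift (𝟙 T₀) (compApp i₀ v).hom :=
      lift_id_dom (compApp_lift i₀ v) (hl_dom hε₂)
    let θ : ŵ.obj t₁ ≅ (AlgSt.ofSpMap a₀.hom).obj v := ε₁.symm ≪≫ compApp i₀ v
    have hθ : (AlgSt.ofSp W.obj).p.IsHomLift (𝟙 T₀) θ.hom := comp_id_lift hε₃ hi₀
    let ω : (FibCat.fp ŵ (AlgSt.ofSpMap a₀.hom)).obj :=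
      FP.mkObj (F := ŵ) (G := AlgSt.ofSpMap a₀.hom) t₁ v θ hθ
    obtain ⟨ζ, ε', -⟩ := ((Groth.Agent.S5139.result q).mp hq).2 ω
    let κ : t₁ ≅ (AlgSt.overMap a').obj ζ :=
      ((FibCat.fpFst ŵ (AlgSt.ofSpMap a₀.hom)).toFunctor.mapIso ε').symm ≪≫ compApp ia ζ
    have hκ : κ.hom.left ≫ (ζ.hom ≫ a') = t := Over.w κ.hom
    have hκ' : t.left = (κ.hom.left ≫ ζ.hom).left ≫ a'.left := by
      rw [← hκ]
      rfl
    rw [hκ']
    exact Scheme.Hom.le_ker_comp _ _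


open Groth.Agent.S12878 in
theorem backward {𝒳 𝒴 : AlgSt.Cat S}
    (h𝒳 : AlgSt.IsAlgStack Scheme.fppfPrecoverage 𝒳) (h𝒴 : AlgSt.IsAlgStack Scheme.fppfPrecoverage 𝒴)
    (f : 𝒳 ⥤ᵇ 𝒴) (W : AlgSp.Space S) (w : AlgSt.ofSp W.obj ⥤ᵇ 𝒴)
    (hw₁ : AlgSt.RepByAlgSpWith (AlgSp.LocP @Flat) w)
    (hw₂ : AlgSt.RepByAlgSpWith (AlgSp.LocP @LocallyOfFinitePresentation) w)
    (hw₃ : AlgSt.RepByAlgSpWith AlgSp.IsSurjectiveMor w)
    (V : AlgSp.Space S) (a₀ : V ⟶ W) (e : AlgSt.ofSp V.obj ⥤ᵇ FibCat.fp w f)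
    (he : FibCat.IsEquivOver e)
    (i₀ : BasedFunctor.comp e (FibCat.fpFst w f) ≅ AlgSt.ofSpMap a₀.hom)
    (ha : AlgSp.RepWith @IsClosedImmersion a₀.hom) : AlgSt.IsClosedImm f := by
  have hX := h𝒳.isStack.1
  have hY := h𝒴.isStack.1
  have hmono : Mono a₀.hom := Groth.Agent.Lib.Helper62.mono_of_repWith @IsClosedImmersion
    (fun f hf => by haveI := hf; infer_instance) a₀.hom ha
  obtain ⟨hfull, hfaith⟩ := Groth.Agent.S12874.ff_of_comp_equiv e he (FibCat.fpFst w f)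
    (AlgSt.ofSpMap a₀.hom) i₀ (Groth.Agent.S12874.ofSpMap_ff a₀.hom hmono)
  obtain ⟨hF, hFa⟩ := Groth.Agent.S12874.ff_of_cover h𝒳 h𝒴 f W w hw₁ hw₂ hw₃ hfull hfaith
  have hi : AlgSt.RepByAlgSpWith (AlgSp.RepWith @IsClosedImmersion) (AlgSt.ofSpMap a₀.hom) :=
    DCV.repWith_ofSpMap _ (Groth.Agent.Lib.Helper17.SLP.repWith_bc _) V W a₀.hom ha
  have hcl : AlgSt.IsClosedImm (AlgSt.subIncl 𝒴 (EI f)) := by
    refine isClosedImm_subIncl (EI f) (fun φ h => ei_hom h𝒳 h𝒴 f φ h)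
      (fun z T hz R hR h => ei_loc h𝒳 h𝒴 f z hz R hR h) ?_
    intro T hT y
    haveI := hT
    obtain ⟨T'', a, ŵ, ha1, ha2, hasurj, ⟨iso⟩⟩ :=
      Groth.Agent.S12874.exists_cover_lift h𝒴 W w hw₁ hw₂ hw₃ y
    obtain ⟨Z, a', q, hq, ⟨ia⟩, hcl'⟩ :=
      exists_chart_equiv @IsClosedImmersion (AlgSt.ofSpMap a₀.hom) hi ŵ
    have : IsClosedImmersion a'.left := hcl'
    exact exists_ideal_of_cover (EI f) (fun φ h => ei_hom h𝒳 h𝒴 f φ h)
      (fun z T hz R hR h => ei_loc h𝒳 h𝒴 f z hz R hR h) y a hasurj a'.left.ker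
      (fun t => ker_le_iff hX hY f W w V a₀ e he i₀ y a ŵ iso a' q hq ia t)
  have heq := cores_equiv hX hY f
  rw [← cores_comp f]
  exact FD.repWith_precomp_equiv _ (cores f) heq _ hcl

theorem forward {𝒳 𝒴 : AlgSt.Cat S} (hX : FibCat.IsFibGrpd 𝒳.p) (hY : FibCat.IsFibGrpd 𝒴.p)
    (f : 𝒳 ⥤ᵇ 𝒴) (W : AlgSp.Space S) (w : AlgSt.ofSp W.obj ⥤ᵇ 𝒴) (hf : AlgSt.IsClosedImm f) :
    ∃ (V : AlgSp.Space S) (a : V ⟶ W) (e : AlgSt.ofSp V.obj ⥤ᵇ FibCat.fp w f),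
      FibCat.IsEquivOver e ∧
        Nonempty (BasedFunctor.comp e (FibCat.fpFst w f) ≅ AlgSt.ofSpMap a.hom) ∧
          AlgSp.RepWith @IsClosedImmersion a.hom := by
  have h1 : AlgSt.RepByAlgSpWith (AlgSp.RepWith @IsClosedImmersion) (FibCat.fpFst w f) :=
    AB.repWith_fpFst _ f w hf
  have hfp : FibCat.IsFibGrpd (FibCat.fp w f).p :=
    SP.isFibGrpd_fp _ _ (Stk.isFibGrpd_ofPsh _) hX hY
  obtain ⟨H, e, he, hP⟩ := exists_space_of_repWith_of_schLocal (AlgSp.RepWith @IsClosedImmersion)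
    (IN.schLocal_repWith _) hfp W (FibCat.fpFst w f) h1
  exact ⟨H, ObjectProperty.homMk (ObjectProperty.homMk
    (mapOf (BasedFunctor.comp e (FibCat.fpFst w f)))), e, he,
    ⟨Groth.Agent.S12874.isoOfPshMap _⟩, hP⟩

theorem main {𝒳 𝒴 : AlgSt.Cat S}
    (h𝒳 : AlgSt.IsAlgStack Scheme.fppfPrecoverage 𝒳) (h𝒴 : AlgSt.IsAlgStack Scheme.fppfPrecoverage 𝒴)
    (f : 𝒳 ⥤ᵇ 𝒴) (W : AlgSp.Space S) (w : AlgSt.ofSp W.obj ⥤ᵇ 𝒴)
    (hw₁ : AlgSt.RepByAlgSpWith (AlgSp.LocP @Flat) w)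
    (hw₂ : AlgSt.RepByAlgSpWith (AlgSp.LocP @LocallyOfFinitePresentation) w)
    (hw₃ : AlgSt.RepByAlgSpWith AlgSp.IsSurjectiveMor w) :
    AlgSt.IsClosedImm f ↔
      ∃ (V : AlgSp.Space S) (a : V ⟶ W) (e : AlgSt.ofSp V.obj ⥤ᵇ FibCat.fp w f),
        FibCat.IsEquivOver e ∧
          Nonempty (BasedFunctor.comp e (FibCat.fpFst w f) ≅ AlgSt.ofSpMap a.hom) ∧
            AlgSp.RepWith @IsClosedImmersion a.hom := by
  constructor
  · exact forward h𝒳.isStack.1 h𝒴.isStack.1 f W w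
  · rintro ⟨V, a, e, he, ⟨i₀⟩, ha⟩
    exact backward h𝒳 h𝒴 f W w hw₁ hw₂ hw₃ V a e he i₀ ha


end Aux

/-- Let `f : 𝒳 ⟶ 𝒴` be a 1-morphism of algebraic stacks over `S`, `W` an algebraic space and `w : W ⟶ 𝒴`
surjective, flat and locally of finite presentation. Then `f` is a closed immersion if and only if
`V = W ×_𝒴 𝒳` is an algebraic space and the projection `V ⟶ W` is a closed immersion of algebraic
spaces; the projection is named by `V`, a morphism `a : V ⟶ W` and an equivalence over `(Sch/S)`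
from the category of `V` to the 2-fibre product whose composite with the first projection is
2-isomorphic to the functor of `a`. -/
theorem result {S : Scheme.{u}} {𝒳 𝒴 : AlgSt.Cat S}
    (h𝒳 : AlgSt.IsAlgStack Scheme.fppfPrecoverage 𝒳) (h𝒴 : AlgSt.IsAlgStack Scheme.fppfPrecoverage 𝒴)
    (f : 𝒳 ⥤ᵇ 𝒴) (W : AlgSp.Space S) (w : AlgSt.ofSp W.obj ⥤ᵇ 𝒴)
    (hw₁ : AlgSt.RepByAlgSpWith (AlgSp.LocP @Flat) w)
    (hw₂ : AlgSt.RepByAlgSpWith (AlgSp.LocP @LocallyOfFinitePresentation) w)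
    (hw₃ : AlgSt.RepByAlgSpWith AlgSp.IsSurjectiveMor w) :
    AlgSt.IsClosedImm f ↔
      ∃ (V : AlgSp.Space S) (a : V ⟶ W) (e : AlgSt.ofSp V.obj ⥤ᵇ FibCat.fp w f),
        FibCat.IsEquivOver e ∧
          Nonempty (BasedFunctor.comp e (FibCat.fpFst w f) ≅ AlgSt.ofSpMap a.hom) ∧
            AlgSp.RepWith @IsClosedImmersion a.hom := by
  exact main h𝒳 h𝒴 f W w hw₁ hw₂ hw₃

end Groth.Agent.S12875
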