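import Groth.Statements.S12867
import Groth.Agent.S12875
import Groth.Agent.Lib.Helper10.ClosedSub
import Groth.Agent.Lib.Helper17.LocQTools
import Groth.Agent.Lib.Helper69.WEtReduced
import Groth.Agent.Lib.Helper17.PshStack2

set_option autoImplicit false
open CategoryTheory AlgebraicGeometry
universe u
open AlgSt

namespace Groth.Agent.S12867

section Aux
open CategoryTheory CategoryTheory.Limits AlgebraicGeometry Opposite AlgSp FibCat Stk AlgSt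
open Groth.Agent.Lib.Helper17 Groth.Agent.Lib.Helper17.FP Groth.Agent.Lib.Helper17.EO
open Groth.Agent.Lib.Helper17.PD Groth.Agent.Lib.Helper17.AT Groth.Agent.Lib.Helper17.AB
open Groth.Agent.Lib.Helper17.AOS Groth.Agent.Lib.Helper17.ACP Groth.Agent.Lib.Helper17.PTS
open Groth.Agent.Lib.Helper10.OST Groth.Agent.Lib.Helper86
open Groth.Agent.Lib.Helper46 Groth.Agent.Lib.Helper46.LocPChart
open Groth.Agent.S12875


variable {S : Scheme.{u}}

/-- the bridge between two charts, with the universal property of its second leg: every object of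
the fibre product lifts to the bridge étale locally -/
theorem exists_local_lift {𝒳 : AlgSt.Cat S} (hX : FibCat.IsFibGrpd 𝒳.p)
    (hΔ : AlgSt.RepByAlgSp1 (FibCat.diag (FibCat.toSelf 𝒳))) {U U₀ : Over S}
    (x : FibCat.overCat U ⥤ᵇ 𝒳) (x₀ : FibCat.overCat U₀ ⥤ᵇ 𝒳) :
    ∃ (W : Over S) (a : W ⟶ U) (b : W ⟶ U₀),
      (∀ P : MorphismProperty Scheme.{u}, (∀ ⦃X Y : Scheme.{u}⦄ (f : X ⟶ Y), Etale f → P f) →
        BC (LocP (S := S) P) → CP (LocP (S := S) P) →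
        AlgSt.RepByAlgSpWith (AlgSp.LocP P) x₀ → P a.left) ∧
      (∀ w : ↥W.left, AlgSt.Points.ofChart x (a.left w) = AlgSt.Points.ofChart x₀ (b.left w)) ∧
      ∀ ω : (FibCat.fp x x₀).obj, ∃ (Y'' : Over S) (c : Y'' ⟶ ω.obj.snd.left) (ρ : Y'' ⟶ W),
        Etale c.left ∧ Function.Surjective c.left ∧ ρ ≫ b = c ≫ ω.obj.snd.hom := by
  obtain ⟨W, a, b, R, e, c, he, hce, hcs, ha, hb, ⟨ia⟩, ⟨ib⟩⟩ := exists_bridge_q hX hΔ x x₀
  have hcet := ACov.isEtaleMor_of_repWith c hce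
  have hWsp : IsAlgSpace ((yon S).obj W) := IsAlgSpace.yon_obj W
  let q : FibCat.overCat W ⥤ᵇ FibCat.fp x x₀ :=
    BasedFunctor.comp (BasedFunctor.comp (ofOverCat W) (ofSpMap c)) e
  have hiso : BasedFunctor.comp (AlgSt.overMap a) x ≅ BasedFunctor.comp (AlgSt.overMap b) x₀ := by
    let Q : (FibCat.overCat W : AlgSt.Cat S) ⟶ FibCat.fp x x₀ := q
    let X' : (FibCat.overCat U : AlgSt.Cat S) ⟶ 𝒳 := x
    let X₀' : (FibCat.overCat U₀ : AlgSt.Cat S) ⟶ 𝒳 := x₀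
    have i1 : BasedFunctor.comp (FibCat.fpFst x x₀) x ≅ BasedFunctor.comp (FibCat.fpSnd x x₀) x₀ :=
      FibCat.fpIso x x₀
    have i2 := Bicategory.whiskerLeftIso Q i1
    have i5 := Bicategory.whiskerRightIso
      (f := (BasedFunctor.comp q (FibCat.fpFst x x₀) :
        (FibCat.overCat W : AlgSt.Cat S) ⟶ FibCat.overCat U)) ia X'
    have i6 := Bicategory.whiskerRightIso
      (f := (BasedFunctor.comp q (FibCat.fpSnd x x₀) :
        (FibCat.overCat W : AlgSt.Cat S) ⟶ FibCat.overCat U₀)) ib X₀'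
    exact i5.symm ≪≫ i2 ≪≫ i6
  refine ⟨W, a, b, ?_, ?_, ?_⟩
  · intro P hP hbc hcp h
    have hcP : LocP P c := ACov.locP_of_isEtaleMor hP c hcet
    have h1 := DL2.transport _ hbc x₀ h U x R e he
    have h2 := hcp hWsp R.property (IsAlgSpace.yon_obj U) c _ hcP h1
    rw [← ha] at h2
    exact AlgSp.locP_yon_map h2
  · intro w
    rw [← ofChart_overMap a x w, ← ofChart_overMap b x₀ w]
    exact ofChart_congr hiso w
  · intro ω
    obtain ⟨v, ε, hε⟩ := ((Groth.Agent.S5139.result e).mp he).2 ω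
    let Φ : ofSp R.obj ⥤ᵇ FibCat.overCat U₀ := BasedFunctor.comp e (FibCat.fpSnd x x₀)
    let vh : (yon S).obj v.base ⟶ R.obj := (J S).uliftYonedaEquiv.symm v.sec
    obtain ⟨Y'', cY, top, hpb⟩ := hce.1 vh
    have hcE : Etale cY.left := hce.2 vh top cY hpb
    have hcS : Surjective cY.left := hcs.2 vh top cY hpb
    obtain ⟨ρ, rfl⟩ := (yon S).map_surjective top
    have h0 : vh ≫ spMapOfOver Φ = (yon S).map (secHom Φ v) := by
      apply (J S).uliftYonedaEquiv.injective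
      rw [GrothendieckTopology.uliftYonedaEquiv_comp, Equiv.apply_symm_apply]
      rw [GrothendieckTopology.uliftYonedaEquiv_uliftYoneda_map]
      rfl
    have h1 : ρ ≫ b = cY ≫ secHom Φ v := by
      apply (yon S).map_injective
      rw [Functor.map_comp, hb, ← Category.assoc, hpb.w, Category.assoc, Functor.map_comp]
      congr 1
    let mI : Φ.obj v ≅ ω.obj.snd := (FibCat.fpSnd x x₀).toFunctor.mapIso ε
    have hmw : mI.hom.left ≫ ω.obj.snd.hom = (Φ.obj v).hom := Over.w mI.hom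
    let mL : (Φ.obj v).left ≅ ω.obj.snd.left :=
      ⟨mI.hom.left, mI.inv.left, by
        have := congrArg (fun t => CommaMorphism.left t) mI.hom_inv_id
        exact this, by
        have := congrArg (fun t => CommaMorphism.left t) mI.inv_hom_id
        exact this⟩
    let jI : v.base ≅ ω.obj.snd.left := eqToIso (Φ.w_obj v).symm ≪≫ mL
    have hj : IsIso jI.hom.left := by
      change IsIso ((Over.forget S).map jI.hom)
      infer_instance
    have hj2 : jI.hom ≫ ω.obj.snd.hom = secHom Φ v := by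
      change (eqToHom (Φ.w_obj v).symm ≫ mI.hom.left) ≫ ω.obj.snd.hom =
        eqToHom (Φ.w_obj v).symm ≫ (Φ.obj v).hom
      rw [Category.assoc]
      congr 1
    refine ⟨Y'', cY ≫ jI.hom, ρ, ?_, ?_, ?_⟩
    · change Etale (cY.left ≫ jI.hom.left)
      infer_instance
    · have : Surjective (cY.left ≫ jI.hom.left) := inferInstance
      exact this.surj
    · rw [h1, Category.assoc, hj2]

theorem isStack_overCat (U : Over S) : Stk.IsStack (J S) (FibCat.overCat U) :=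
  (Groth.Agent.Lib.Helper17.PSK.isStack_overCat_iff (J S) U).mpr
    (GrothendieckTopology.Subcanonical.isSheaf_of_isRepresentable _)

theorem overMap_faithful {Z U : Over S} (ι : Z ⟶ U) : (AlgSt.overMap ι).toFunctor.Faithful := by
  constructor
  intro A B h h' hh
  apply Over.OverMorphism.ext
  exact congrArg (fun m : (AlgSt.overMap ι).obj A ⟶ (AlgSt.overMap ι).obj B =>
    CommaMorphism.left m) hh

theorem overMap_full {Z U : Over S} (ι : Z ⟶ U) [Mono ι] : (AlgSt.overMap ι).toFunctor.Full := by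
  constructor
  intro A B m
  have h2 : m.left ≫ (B.hom ≫ ι) = A.hom ≫ ι := Over.w m
  have h3 : m.left ≫ B.hom = A.hom := by
    rw [← Category.assoc] at h2
    exact (cancel_mono ι).mp h2
  refine ⟨Over.homMk m.left h3, ?_⟩
  apply Over.OverMorphism.ext
  rfl

/-- factoring through a monomorphism of schemes is local for the fppf topology -/
theorem factor_of_locally {Z U : Over S} (ι : Z ⟶ U) [Mono ι] {T : Over S} (r : T ⟶ U)
    (R : Sieve T) (hR : R ∈ J S T)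
    (h : ∀ ⦃V : Over S⦄ (ψ : V ⟶ T), R ψ → ∃ l : V ⟶ Z, l ≫ ι = ψ ≫ r) :
    ∃ l : T ⟶ Z, l ≫ ι = r := by
  have hZ := isStack_overCat Z
  have hU := isStack_overCat U
  have : (AlgSt.overMap ι).toFunctor.Full := overMap_full ι
  have : (AlgSt.overMap ι).toFunctor.Faithful := overMap_faithful ι
  obtain ⟨ξ, e, -⟩ := Groth.Agent.Lib.Helper62.StkLocEss.exists_preimage_of_locally hU.1
    (AlgSt.overMap ι) (Over.mk r : Over U) R (hZ.2 _ hR).essSurj
    ⟨(hU.2 _ hR).full, (hU.2 _ hR).faithful⟩ (by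
      intro V ψ hψ
      obtain ⟨l, hl⟩ := h ψ hψ
      refine ⟨Over.mk l, (Over.homMk ψ (by
        change ψ ≫ r = l ≫ ι
        exact hl.symm) : (AlgSt.overMap ι).obj (Over.mk l) ⟶ Over.mk r), hl_of_eq rfl⟩)
  refine ⟨e.inv.left ≫ ξ.hom, ?_⟩
  have := Over.w e.inv
  rw [Category.assoc]
  exact this

/-- factoring through a monomorphism of schemes descends along an fppf cover -/
theorem factor_of_cover {Z U : Over S} (ι : Z ⟶ U) [Mono ι] {T T' : Over S} (r : T ⟶ U)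
    (c : T' ⟶ T) [Flat c.left] [LocallyOfFinitePresentation c.left]
    (hc : Function.Surjective c.left) (l' : T' ⟶ Z) (hl' : l' ≫ ι = c ≫ r) :
    ∃ l : T ⟶ Z, l ≫ ι = r := by
  refine factor_of_locally ι r (Sieve.generate (Presieve.singleton c))
    (generate_singleton_mem_J c hc) ?_
  rintro V ψ ⟨_, ψ', _, ⟨⟩, rfl⟩
  exact ⟨ψ' ≫ l', by rw [Category.assoc, hl', Category.assoc]⟩

theorem isReduced_of_etale_ringHom {R S : Type u} [CommRing R] [CommRing S] (g : R →+* S)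
    (hg : g.Etale) [_root_.IsReduced R] : _root_.IsReduced S := by
  algebraize [g]
  exact Groth.Agent.Lib.Helper69.WEtReduced.isReduced_of_weaklyEtale R S

/-- a scheme smooth over a reduced scheme is reduced -/
theorem isReduced_of_smooth {X Y : Scheme.{u}} (f : X ⟶ Y) [Smooth f] [IsReduced Y] :
    IsReduced X := by
  have h := (Smooth.iff_forall_exists_isStandardSmooth f).mp inferInstance
  have hst : ∀ x : X, _root_.IsReduced (X.presheaf.stalk x) := by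
    intro x
    obtain ⟨U, hU, V, hV, hx, e, hf⟩ := h x
    obtain ⟨n, g, hgC, hg⟩ := hf.exists_etale_mvPolynomial
    have h1 : _root_.IsReduced Γ(Y, U) := inferInstance
    have h2 : _root_.IsReduced (MvPolynomial (Fin n) Γ(Y, U)) := inferInstance
    have h3 : _root_.IsReduced Γ(X, V) := isReduced_of_etale_ringHom g hg
    let _ := X.presheaf.algebra_section_stalk (⟨x, hx⟩ : V)
    have h4 := hV.isLocalization_stalk ⟨x, hx⟩
    exact isReduced_localizationPreserves (hV.primeIdealOf ⟨x, hx⟩).asIdeal.primeCompl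
      (X.presheaf.stalk x) h3
  exact isReduced_of_isReduced_stalk X

/-- **invariance**: a chart of the atlas isomorphic in `𝒳` to one factoring through the reduced
closed subscheme `Z₀` of the atlas factors through `Z₀` -/
theorem inv_lemma {𝒳 : AlgSt.Cat S} (h𝒳 : AlgSt.IsAlgStack Scheme.fppfPrecoverage 𝒳)
    {U₀ Z₀ : Over S} (x₀ : FibCat.overCat U₀ ⥤ᵇ 𝒳)
    (hxs : AlgSt.RepByAlgSpWith (AlgSp.LocP @Smooth) x₀)
    (ι₀ : Z₀ ⟶ U₀) [Mono ι₀] [IsReduced Z₀.left] (T : Set (AlgSt.Points 𝒳))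
    (hι : ∀ z : Z₀.left, AlgSt.Points.ofChart x₀ (ι₀.left z) ∈ T)
    (hfac : ∀ {Y : Over S} (r : Y ⟶ U₀), IsReduced Y.left →
      (∀ y : Y.left, AlgSt.Points.ofChart x₀ (r.left y) ∈ T) → ∃ l : Y ⟶ Z₀, l ≫ ι₀ = r)
    (B₁ : Over Z₀) (B₂ : Over U₀) (φ : x₀.obj ((AlgSt.overMap ι₀).obj B₁) ≅ x₀.obj B₂)
    (hφ : 𝒳.p.IsHomLift (𝟙 B₁.left) φ.hom) : ∃ l : B₂.left ⟶ Z₀, l ≫ ι₀ = B₂.hom := by
  have hX := h𝒳.isStack.1
  let g₀ : FibCat.overCat Z₀ ⥤ᵇ 𝒳 := BasedFunctor.comp (AlgSt.overMap ι₀) x₀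
  obtain ⟨W, a, b, hP, hpts, hlift⟩ := exists_local_lift hX h𝒳.diag g₀ x₀
  have hsm : Smooth a.left := hP @Smooth (fun _ _ f hf => by have := hf; infer_instance)
    AFP.sm_bc AFP.sm_cp hxs
  have hWred : IsReduced W.left := isReduced_of_smooth a.left
  obtain ⟨b', hb'⟩ := hfac b hWred (fun w => by
    rw [← hpts w]
    have e1 : AlgSt.Points.ofChart g₀ (a.left w) =
        AlgSt.Points.ofChart x₀ (ι₀.left (a.left w)) := ofChart_overMap ι₀ x₀ (a.left w)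
    rw [e1]
    exact hι _)
  let ω : (FibCat.fp g₀ x₀).obj := FP.mkObj (F := g₀) (G := x₀) B₁ B₂ φ hφ
  obtain ⟨Y'', c, ρ, hcE, hcS, hρ⟩ : ∃ (Y'' : Over S) (c : Y'' ⟶ B₂.left) (ρ : Y'' ⟶ W),
      Etale c.left ∧ Function.Surjective c.left ∧ ρ ≫ b = c ≫ B₂.hom := hlift ω
  have : Etale c.left := hcE
  have : Flat c.left := inferInstance
  have : LocallyOfFinitePresentation c.left := inferInstance
  exact factor_of_cover ι₀ B₂.hom c hcS (ρ ≫ b') (by rw [Category.assoc, hb', hρ])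

theorem isReduced_subscheme_vanishingIdeal {X : Scheme.{u}} (C : TopologicalSpace.Closeds X) :
    IsReduced (Scheme.IdealSheafData.vanishingIdeal C).subscheme := by
  have h : ∀ i, IsReduced
      ((Scheme.IdealSheafData.vanishingIdeal C).subschemeCover.openCover.X i) := by
    intro U
    have h1 : _root_.IsReduced (Γ(X, U.1) ⧸ (Scheme.IdealSheafData.vanishingIdeal C).ideal U) := by
      rw [← Ideal.isRadical_iff_quotient_reduced, Scheme.IdealSheafData.vanishingIdeal_ideal]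
      exact PrimeSpectrum.isRadical_vanishingIdeal _
    change IsReduced (Spec (.of (Γ(X, U.1) ⧸ (Scheme.IdealSheafData.vanishingIdeal C).ideal U)))
    infer_instance
  exact IsReduced.of_openCover _ (Scheme.IdealSheafData.vanishingIdeal C).subschemeCover.openCover

theorem vanishingIdeal_le_ker {X Y : Scheme.{u}} (C : TopologicalSpace.Closeds X) (r : Y ⟶ X)
    [IsReduced Y] (h : ∀ y : Y, r y ∈ (C : Set X)) :
    Scheme.IdealSheafData.vanishingIdeal C ≤ r.ker := by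
  have h1 : r.ker =
      (Scheme.IdealSheafData.vanishingIdeal (⊤ : TopologicalSpace.Closeds Y)).map r := by
    rw [Scheme.IdealSheafData.vanishingIdeal_top, Scheme.nilradical_eq_bot,
      Scheme.IdealSheafData.map_bot]
  rw [h1, Scheme.IdealSheafData.map_vanishingIdeal]
  apply Scheme.IdealSheafData.vanishingIdeal_antimono
  rw [TopologicalSpace.Closeds.closure_le]
  rintro _ ⟨y, -, rfl⟩
  exact h y

theorem subschemeι_mem {X : Scheme.{u}} (C : TopologicalSpace.Closeds X)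
    (z : (Scheme.IdealSheafData.vanishingIdeal C).subscheme) :
    (Scheme.IdealSheafData.vanishingIdeal C).subschemeι z ∈ (C : Set X) := by
  have h1 : (Scheme.IdealSheafData.vanishingIdeal C).subschemeι z ∈
      Set.range (Scheme.IdealSheafData.vanishingIdeal C).subschemeι := ⟨z, rfl⟩
  rw [Scheme.IdealSheafData.range_subschemeι] at h1
  have h2 : ((Scheme.IdealSheafData.vanishingIdeal C).support : Set X) = C :=
    Scheme.IdealSheafData.coe_support_vanishingIdeal C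
  rw [← h2]
  exact h1

section QZ

variable {𝒳 : AlgSt.Cat S} {U₀ Z₀ : Over S} (x₀ : FibCat.overCat U₀ ⥤ᵇ 𝒳) (ι₀ : Z₀ ⟶ U₀)

/-- the objects all of whose lifts to the atlas factor through `Z₀` -/
def Qz (η : 𝒳.obj) : Prop :=
  ∀ (B : Over U₀) (_ : x₀.obj B ⟶ η), ∃ l : B.left ⟶ Z₀, l ≫ ι₀ = B.hom

theorem Qz_of_hom {z y : 𝒳.obj} (φ : z ⟶ y) (h : Qz x₀ ι₀ y) : Qz x₀ ι₀ z :=
  fun B ψ => h B (ψ ≫ φ)

theorem Qz_loc (hX : FibCat.IsFibGrpd 𝒳.p) [Mono ι₀] (z : 𝒳.obj) {T : Over S}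
    (hz : 𝒳.p.obj z = T) (R : Sieve T) (hR : R ∈ J S T)
    (h : ∀ ⦃V : Over S⦄ (ψ : V ⟶ T), R ψ →
      ∃ (x : 𝒳.obj) (φ : x ⟶ z), Qz x₀ ι₀ x ∧ 𝒳.p.IsHomLift ψ φ) : Qz x₀ ι₀ z := by
  subst hz
  intro B φ₀
  have hB : 𝒳.p.obj (x₀.obj B) = B.left := x₀.w_obj B
  let g : B.left ⟶ 𝒳.p.obj z := eqToHom hB.symm ≫ 𝒳.p.map φ₀ ≫ eqToHom rfl
  have hφ₀ : 𝒳.p.IsHomLift g φ₀ := IsHomLift.of_fac 𝒳.p g φ₀ hB rfl rfl
  refine factor_of_locally ι₀ B.hom (R.pullback g) ((J S).pullback_stable g hR) ?_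
  intro V ψ' hψ'
  obtain ⟨x, φ, hQx, hφ⟩ := h (ψ' ≫ g) hψ'
  let B' : Over U₀ := Over.mk (ψ' ≫ B.hom)
  let m : B' ⟶ B := Over.homMk ψ' rfl
  have hm0 : (FibCat.overCat U₀).p.IsHomLift ψ' m := hl_of_eq rfl
  have hm : 𝒳.p.IsHomLift ψ' (x₀.map m) := EO.map_lift'' x₀ hm0
  have hcomp : 𝒳.p.IsHomLift (ψ' ≫ g) (x₀.map m ≫ φ₀) := inferInstance
  obtain ⟨θ, -, -, -⟩ := FG.exists_factor hX (ψ' ≫ g) φ hφ (x₀.map m ≫ φ₀) hcomp
  exact hQx B' θ

theorem Qz_chart_iff (h𝒳 : AlgSt.IsAlgStack Scheme.fppfPrecoverage 𝒳)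
    (hxs : AlgSt.RepByAlgSpWith (AlgSp.LocP @Smooth) x₀)
    [Mono ι₀] [IsReduced Z₀.left] (T : Set (AlgSt.Points 𝒳))
    (hι : ∀ z : Z₀.left, AlgSt.Points.ofChart x₀ (ι₀.left z) ∈ T)
    (hfac : ∀ {Y : Over S} (r : Y ⟶ U₀), IsReduced Y.left →
      (∀ y : Y.left, AlgSt.Points.ofChart x₀ (r.left y) ∈ T) → ∃ l : Y ⟶ Z₀, l ≫ ι₀ = r)
    (B : Over U₀) : Qz x₀ ι₀ (x₀.obj B) ↔ ∃ l : B.left ⟶ Z₀, l ≫ ι₀ = B.hom := by
  have hX := h𝒳.isStack.1
  constructor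
  · intro h
    exact h B (𝟙 _)
  · rintro ⟨l, hl⟩ B' φ
    have hB' : 𝒳.p.obj (x₀.obj B') = B'.left := x₀.w_obj B'
    have hB : 𝒳.p.obj (x₀.obj B) = B.left := x₀.w_obj B
    let g : B'.left ⟶ B.left := eqToHom hB'.symm ≫ 𝒳.p.map φ ≫ eqToHom hB
    have hφ : 𝒳.p.IsHomLift g φ := IsHomLift.of_fac 𝒳.p g φ hB' hB rfl
    let B₁ : Over Z₀ := Over.mk (g ≫ l)
    let m : (AlgSt.overMap ι₀).obj B₁ ⟶ B := Over.homMk g (by
      change g ≫ B.hom = (g ≫ l) ≫ ι₀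
      exact (congrArg (g ≫ ·) hl).symm.trans (Category.assoc g l ι₀).symm)
    have hm0 : (FibCat.overCat U₀).p.IsHomLift g m := hl_of_eq rfl
    have hm : 𝒳.p.IsHomLift g (x₀.map m) := EO.map_lift'' x₀ hm0
    obtain ⟨θ, hθ, -, hθi⟩ := FG.exists_factor hX g (x₀.map m) hm φ hφ
    have := hθi
    have hθ' : 𝒳.p.IsHomLift (𝟙 B'.left) (asIso θ).hom := hθ
    exact inv_lemma h𝒳 x₀ hxs ι₀ T hι hfac B₁ B' (asIso θ).symm
      (IsHomLift.lift_id_inv 𝒳.p B'.left (asIso θ))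

theorem Qz_iso_iff {z y : 𝒳.obj} (e : z ≅ y) : Qz x₀ ι₀ z ↔ Qz x₀ ι₀ y :=
  ⟨Qz_of_hom x₀ ι₀ e.inv, Qz_of_hom x₀ ι₀ e.hom⟩

theorem exists_ideal_chart (h𝒳 : AlgSt.IsAlgStack Scheme.fppfPrecoverage 𝒳)
    (hxs : AlgSt.RepByAlgSpWith (AlgSp.LocP @Smooth) x₀)
    (hxsurj : AlgSt.RepByAlgSpWith AlgSp.IsSurjectiveMor x₀)
    [IsClosedImmersion ι₀.left] [Mono ι₀] [IsReduced Z₀.left] (T : Set (AlgSt.Points 𝒳))
    (hι : ∀ z : Z₀.left, AlgSt.Points.ofChart x₀ (ι₀.left z) ∈ T)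
    (hfac : ∀ {Y : Over S} (r : Y ⟶ U₀), IsReduced Y.left →
      (∀ y : Y.left, AlgSt.Points.ofChart x₀ (r.left y) ∈ T) → ∃ l : Y ⟶ Z₀, l ≫ ι₀ = r)
    (T₁ : Over S) (hT₁ : IsAffine T₁.left) (y : FibCat.overCat T₁ ⥤ᵇ 𝒳) :
    ∃ K : T₁.left.IdealSheafData, ∀ {T₀ : Over S} (y₀ : T₀ ⟶ T₁),
      Qz x₀ ι₀ (y.obj (Over.mk y₀)) ↔ K ≤ y₀.left.ker := by
  have hX := h𝒳.isStack.1
  haveI := hT₁
  obtain ⟨T'', a, b, hPa, hsa, -, -, ⟨iso⟩, -⟩ := Groth.Agent.Lib.Helper17.LQT.exists_bridge_all hX h𝒳.diag y x₀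
  have hsm : Smooth a.left := hPa @Smooth (fun _ _ f hf => by have := hf; infer_instance)
    AFP.sm_bc AFP.sm_cp hxs
  have : Flat a.left := inferInstance
  have : LocallyOfFinitePresentation a.left := inferInstance
  have hasurj : Function.Surjective a.left := hsa hxsurj
  refine exists_ideal_of_cover (Qz x₀ ι₀) (fun φ h => Qz_of_hom x₀ ι₀ φ h)
    (fun z T hz R hR h => Qz_loc x₀ ι₀ hX z hz R hR h) y a hasurj
    (ι₀.left.ker.comap b.left) ?_
  intro T₀ t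
  rw [comap_le_ker_iff]
  have e1 : Qz x₀ ι₀ (y.obj (Over.mk (t ≫ a))) ↔ Qz x₀ ι₀ (x₀.obj (Over.mk (t ≫ b))) :=
    Qz_iso_iff x₀ ι₀ (compApp iso (Over.mk t))
  rw [e1, Qz_chart_iff x₀ ι₀ h𝒳 hxs T hι hfac]
  constructor
  · intro h
    let l : T₀.left ⟶ Z₀.left := IsClosedImmersion.lift ι₀.left (t.left ≫ b.left) h
    have hl : l ≫ ι₀.left = t.left ≫ b.left := IsClosedImmersion.lift_fac _ _ _
    refine ⟨Over.homMk l (by
      rw [← Over.w ι₀, ← Category.assoc, hl]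
      exact Over.w (t ≫ b)), ?_⟩
    ext
    exact hl
  · rintro ⟨l, hl⟩
    have h1 : l.left ≫ ι₀.left = t.left ≫ b.left := congrArg CommaMorphism.left hl
    rw [← h1]
    exact Scheme.Hom.le_ker_comp _ _

theorem isClosedSubstack_Qz (h𝒳 : AlgSt.IsAlgStack Scheme.fppfPrecoverage 𝒳)
    (hxs : AlgSt.RepByAlgSpWith (AlgSp.LocP @Smooth) x₀)
    (hxsurj : AlgSt.RepByAlgSpWith AlgSp.IsSurjectiveMor x₀)
    [IsClosedImmersion ι₀.left] [Mono ι₀] [IsReduced Z₀.left] (T : Set (AlgSt.Points 𝒳))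
    (hι : ∀ z : Z₀.left, AlgSt.Points.ofChart x₀ (ι₀.left z) ∈ T)
    (hfac : ∀ {Y : Over S} (r : Y ⟶ U₀), IsReduced Y.left →
      (∀ y : Y.left, AlgSt.Points.ofChart x₀ (r.left y) ∈ T) → ∃ l : Y ⟶ Z₀, l ≫ ι₀ = r) :
    AlgSt.IsClosedSubstack 𝒳 (Qz x₀ ι₀) Scheme.fppfPrecoverage := by
  have hX := h𝒳.isStack.1
  have hcl : AlgSt.IsClosedImm (AlgSt.subIncl 𝒳 (Qz x₀ ι₀)) :=
    isClosedImm_subIncl (Qz x₀ ι₀) (fun φ h => Qz_of_hom x₀ ι₀ φ h)
      (fun z T hz R hR h => Qz_loc x₀ ι₀ hX z hz R hR h)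
      (fun T₁ hT₁ y => exists_ideal_chart x₀ ι₀ h𝒳 hxs hxsurj T hι hfac T₁ hT₁ y)
  have hiso : ObjectProperty.IsClosedUnderIsomorphisms (Qz x₀ ι₀) :=
    ⟨fun e h => Qz_of_hom x₀ ι₀ e.inv h⟩
  refine ⟨hiso, ?_, hcl⟩
  refine Groth.Agent.S12768.result
    (Groth.Agent.Lib.Helper62.StkFullSub.isFibGrpd_sub (Q := Qz x₀ ι₀) hX
      (fun y _ φ hx => ⟨y, Iso.refl y, Qz_of_hom x₀ ι₀ φ hx, by
        simp only [Iso.refl_hom]; infer_instance⟩)) h𝒳 (AlgSt.subIncl 𝒳 (Qz x₀ ι₀)) ?_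
  intro U y
  obtain ⟨F, e, he, -⟩ := hcl U y
  exact ⟨F, e, he⟩

theorem range_Qz (h𝒳 : AlgSt.IsAlgStack Scheme.fppfPrecoverage 𝒳)
    (hxs : AlgSt.RepByAlgSpWith (AlgSp.LocP @Smooth) x₀)
    (hxsurj : AlgSt.RepByAlgSpWith AlgSp.IsSurjectiveMor x₀)
    [Mono ι₀] [IsReduced Z₀.left] (T : Set (AlgSt.Points 𝒳))
    (hι : ∀ z : Z₀.left, AlgSt.Points.ofChart x₀ (ι₀.left z) ∈ T)
    (hfac : ∀ {Y : Over S} (r : Y ⟶ U₀), IsReduced Y.left →
      (∀ y : Y.left, AlgSt.Points.ofChart x₀ (r.left y) ∈ T) → ∃ l : Y ⟶ Z₀, l ≫ ι₀ = r) :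
    Set.range (AlgSt.Points.map (AlgSt.subIncl 𝒳 (Qz x₀ ι₀))) = T := by
  have hX := h𝒳.isStack.1
  have hsurj := ofChart_surjective x₀ (isSurjective_of_repWith hX x₀ hxsurj)
  ext ξ
  rw [mem_range_subIncl_iff]
  constructor
  · rintro ⟨p, hp, rfl⟩
    obtain ⟨u₀, hu₀⟩ := hsurj (AlgSt.Points.mk p)
    let B₀ : Over U₀ := Over.mk (Over.homMk (U₀.left.fromSpecResidueField u₀) rfl :
      Over.mk (U₀.left.fromSpecResidueField u₀ ≫ U₀.hom) ⟶ U₀)
    let p₀ : AlgSt.FPt 𝒳 :=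
      { K := ↥(U₀.left.residueField u₀)
        str := U₀.left.fromSpecResidueField u₀ ≫ U₀.hom
        obj := x₀.obj B₀
        lies := x₀.w_obj _ }
    have h0 : AlgSt.Points.mk p₀ = AlgSt.Points.mk p := hu₀
    obtain ⟨r, β, α, -⟩ := (mk_eq_mk_iff hX p₀ p).mp h0
    have hQr : Qz x₀ ι₀ r.obj := Qz_of_hom x₀ ι₀ α hp
    have hB₀ : 𝒳.p.obj (x₀.obj B₀) = B₀.left := x₀.w_obj B₀
    let g : Over.mk r.str ⟶ B₀.left := eqToHom r.lies.symm ≫ 𝒳.p.map β ≫ eqToHom hB₀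
    have hβ : 𝒳.p.IsHomLift g β := IsHomLift.of_fac 𝒳.p g β r.lies hB₀ rfl
    let B' : Over U₀ := Over.mk (g ≫ B₀.hom)
    let m : B' ⟶ B₀ := Over.homMk g rfl
    have hm0 : (FibCat.overCat U₀).p.IsHomLift g m := hl_of_eq rfl
    have hm : 𝒳.p.IsHomLift g (x₀.map m) := EO.map_lift'' x₀ hm0
    obtain ⟨θ, -, -, hθi⟩ := FG.exists_factor hX g (x₀.map m) hm β hβ
    have := hθi
    obtain ⟨l, hl⟩ := hQr B' (inv θ)
    have hne : Nonempty (Spec (CommRingCat.of r.K)) := inferInstance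
    obtain ⟨pt⟩ := hne
    have h1 : (g ≫ B₀.hom).left pt = u₀ := by
      change (U₀.left.fromSpecResidueField u₀) (g.left pt) = u₀
      exact Scheme.fromSpecResidueField_apply _ _
    have h2 : AlgSt.Points.ofChart x₀ u₀ ∈ T := by
      rw [← h1]
      have h3 : (g ≫ B₀.hom).left pt = ι₀.left (l.left pt) := by
        have h4 : l ≫ ι₀ = g ≫ B₀.hom := hl
        rw [← h4]
        rfl
      rw [h3]
      exact hι (l.left pt)
    rw [← hu₀]
    exact h2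
  · intro hξ
    obtain ⟨u₀, rfl⟩ := hsurj ξ
    let B₀ : Over U₀ := Over.mk (Over.homMk (U₀.left.fromSpecResidueField u₀) rfl :
      Over.mk (U₀.left.fromSpecResidueField u₀ ≫ U₀.hom) ⟶ U₀)
    let p₀ : AlgSt.FPt 𝒳 :=
      { K := ↥(U₀.left.residueField u₀)
        str := U₀.left.fromSpecResidueField u₀ ≫ U₀.hom
        obj := x₀.obj B₀
        lies := x₀.w_obj _ }
    refine ⟨p₀, ?_, rfl⟩
    change Qz x₀ ι₀ (x₀.obj B₀)
    rw [Qz_chart_iff x₀ ι₀ h𝒳 hxs T hι hfac]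
    have hred : IsReduced B₀.left.left := by
      change IsReduced (Spec (U₀.left.residueField u₀))
      infer_instance
    refine hfac B₀.hom hred (fun y => ?_)
    have h1 : B₀.hom.left y = u₀ := Scheme.fromSpecResidueField_apply _ _
    rw [h1]
    exact hξ

end QZ

theorem isReduced_of_flat_surjective {X Y : Scheme.{u}} (f : X ⟶ Y) [Flat f]
    (hf : Function.Surjective f) [IsReduced X] : IsReduced Y := by
  have hst : ∀ y : Y, _root_.IsReduced (Y.presheaf.stalk y) := by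
    intro y
    obtain ⟨x, rfl⟩ := hf y
    have hinj : Function.Injective (f.stalkMap x).hom := by
      algebraize [(f.stalkMap x).hom]
      have : Module.FaithfullyFlat (Y.presheaf.stalk (f x)) (X.presheaf.stalk x) :=
        @Module.FaithfullyFlat.of_flat_of_isLocalHom _ _ _ _ _ _ _
          (Flat.stalkMap f x) (f.toLRSHom.prop x)
      exact ‹RingHom.FaithfullyFlat _›.injective
    exact isReduced_of_injective (f.stalkMap x).hom hinj
  exact isReduced_of_isReduced_stalk Y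

theorem smoothLocally_reduced_Qz {𝒳 : AlgSt.Cat S} {U₀ Z₀ : Over S}
    (x₀ : FibCat.overCat U₀ ⥤ᵇ 𝒳) (ι₀ : Z₀ ⟶ U₀)
    (h𝒳 : AlgSt.IsAlgStack Scheme.fppfPrecoverage 𝒳)
    (hxs : AlgSt.RepByAlgSpWith (AlgSp.LocP @Smooth) x₀)
    (hxsurj : AlgSt.RepByAlgSpWith AlgSp.IsSurjectiveMor x₀)
    [Mono ι₀] [IsReduced Z₀.left] (T : Set (AlgSt.Points 𝒳))
    (hι : ∀ z : Z₀.left, AlgSt.Points.ofChart x₀ (ι₀.left z) ∈ T)
    (hfac : ∀ {Y : Over S} (r : Y ⟶ U₀), IsReduced Y.left →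
      (∀ y : Y.left, AlgSt.Points.ofChart x₀ (r.left y) ∈ T) → ∃ l : Y ⟶ Z₀, l ≫ ι₀ = r)
    (h𝒵 : AlgSt.IsAlgStack Scheme.fppfPrecoverage (AlgSt.fullSub 𝒳 (Qz x₀ ι₀))) :
    AlgSt.SmoothLocally (fun X => IsReduced X) (AlgSt.fullSub 𝒳 (Qz x₀ ι₀)) := by
  intro U x hx
  have hX := h𝒳.isStack.1
  have hhom : ∀ {z y : 𝒳.obj} (_ : z ⟶ y), Qz x₀ ι₀ y → Qz x₀ ι₀ z :=
    fun φ h => Qz_of_hom x₀ ι₀ φ h
  have H1 : ∀ B : Over Z₀, Qz x₀ ι₀ ((BasedFunctor.comp (AlgSt.overMap ι₀) x₀).obj B) := fun B =>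
    (Qz_chart_iff x₀ ι₀ h𝒳 hxs T hι hfac ((AlgSt.overMap ι₀).obj B)).mpr ⟨B.hom, rfl⟩
  have H2 : ∀ A : Over U₀, Qz x₀ ι₀ (x₀.obj A) → ∃ l' : A.left ⟶ Z₀, l' ≫ ι₀ = A.hom :=
    fun A hA => (Qz_chart_iff x₀ ι₀ h𝒳 hxs T hι hfac A).mp hA
  have he₀ := e₀_isEquivOver (Qz x₀ ι₀) hhom x₀ ι₀ H1 H2
  let z₀ : FibCat.overCat Z₀ ⥤ᵇ AlgSt.fullSub 𝒳 (Qz x₀ ι₀) := yZ (Qz x₀ ι₀) x₀ ι₀ H1
  have hz : BasedFunctor.comp (e₀ (Qz x₀ ι₀) x₀ ι₀ H1)
      (FibCat.fpSnd x₀ (AlgSt.subIncl 𝒳 (Qz x₀ ι₀))) = z₀ := DR.basedFunctor_ext rfl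
  have hz₁ : AlgSt.RepByAlgSpWith (AlgSp.LocP @Smooth) z₀ := by
    rw [← hz]
    exact FD.repWith_precomp_equiv _ _ he₀ _
      (AB.repWith_fpSnd _ x₀ (AlgSt.subIncl 𝒳 (Qz x₀ ι₀)) hxs)
  have hz₂ : AlgSt.RepByAlgSpWith AlgSp.IsSurjectiveMor z₀ := by
    rw [← hz]
    exact FD.repWith_precomp_equiv _ _ he₀ _
      (AB.repWith_fpSnd _ x₀ (AlgSt.subIncl 𝒳 (Qz x₀ ι₀)) hxsurj)
  obtain ⟨W, a, b, hPa, hsa, hPb, -, -, -⟩ :=
    Groth.Agent.Lib.Helper17.LQT.exists_bridge_all h𝒵.isStack.1 h𝒵.diag x z₀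
  have hasm : Smooth a.left := hPa @Smooth (fun _ _ f hf => by have := hf; infer_instance)
    AFP.sm_bc AFP.sm_cp hz₁
  have hasurj : Function.Surjective a.left := hsa hz₂
  have hbsm : Smooth b.left := hPb @Smooth (fun _ _ f hf => by have := hf; infer_instance)
    AFP.sm_bc AFP.sm_cp hx
  have hWred : IsReduced W.left := isReduced_of_smooth b.left
  have : Flat a.left := inferInstance
  exact isReduced_of_flat_surjective a.left hasurj

theorem main {𝒳 : AlgSt.Cat S}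
    (h𝒳 : AlgSt.IsAlgStack Scheme.fppfPrecoverage 𝒳) (T : Set (AlgSt.Points 𝒳)) (hT : IsClosed T) :
    ∃ Q : 𝒳.obj → Prop, AlgSt.IsClosedSubstack 𝒳 Q Scheme.fppfPrecoverage ∧
      Set.range (AlgSt.Points.map (AlgSt.subIncl 𝒳 Q)) = T ∧
      AlgSt.SmoothLocally (fun X => IsReduced X) (AlgSt.fullSub 𝒳 Q) := by
  obtain ⟨U₀, x₀, hxs, hxsurj⟩ := h𝒳.atlas
  have hC : IsClosed (AlgSt.Points.ofChart x₀ ⁻¹' T) := by
    rw [← isOpen_compl_iff]
    exact hT.isOpen_compl U₀ x₀ hxs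
  let C : TopologicalSpace.Closeds U₀.left := ⟨_, hC⟩
  let Z₀ : Over S := Over.mk ((Scheme.IdealSheafData.vanishingIdeal C).subschemeι ≫ U₀.hom)
  let ι₀ : Z₀ ⟶ U₀ := Over.homMk (Scheme.IdealSheafData.vanishingIdeal C).subschemeι rfl
  have hcl : IsClosedImmersion ι₀.left :=
    (inferInstance : IsClosedImmersion (Scheme.IdealSheafData.vanishingIdeal C).subschemeι)
  have hmono : Mono ι₀ := by
    have : Mono ((Over.forget S).map ι₀) := by
      change Mono (Scheme.IdealSheafData.vanishingIdeal C).subschemeι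
      infer_instance
    exact (Over.forget S).mono_of_mono_map this
  have hred : IsReduced Z₀.left := isReduced_subscheme_vanishingIdeal C
  have hι : ∀ z : Z₀.left, AlgSt.Points.ofChart x₀ (ι₀.left z) ∈ T := fun z => subschemeι_mem C z
  have hfac : ∀ {Y : Over S} (r : Y ⟶ U₀), IsReduced Y.left →
      (∀ y : Y.left, AlgSt.Points.ofChart x₀ (r.left y) ∈ T) → ∃ l : Y ⟶ Z₀, l ≫ ι₀ = r := by
    intro Y r hY h
    have hle : Scheme.IdealSheafData.vanishingIdeal C ≤ r.left.ker :=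
      vanishingIdeal_le_ker C r.left h
    have hle' : (Scheme.IdealSheafData.vanishingIdeal C).subschemeι.ker ≤ r.left.ker := by
      rw [Scheme.IdealSheafData.ker_subschemeι]
      exact hle
    let l : Y.left ⟶ Z₀.left :=
      IsClosedImmersion.lift (Scheme.IdealSheafData.vanishingIdeal C).subschemeι r.left hle'
    have hl : l ≫ (Scheme.IdealSheafData.vanishingIdeal C).subschemeι = r.left :=
      IsClosedImmersion.lift_fac _ _ _
    refine ⟨Over.homMk l (by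
      change l ≫ ((Scheme.IdealSheafData.vanishingIdeal C).subschemeι ≫ U₀.hom) = Y.hom
      rw [← Category.assoc, hl, Over.w r]), ?_⟩
    ext
    exact hl
  have hZ := isClosedSubstack_Qz x₀ ι₀ h𝒳 hxs hxsurj T hι hfac
  exact ⟨Qz x₀ ι₀, hZ, range_Qz x₀ ι₀ h𝒳 hxs hxsurj T hι hfac,
    smoothLocally_reduced_Qz x₀ ι₀ h𝒳 hxs hxsurj T hι hfac hZ.2.1⟩


end Aux

/-- Let `𝒳` be an algebraic stack over `S` and `T ⊂ |𝒳|` a closed subset. Then there is a reduced closed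
substack `𝒵 ⊂ 𝒳` with `|𝒵| = T`. (The published statement also asserts uniqueness of such a
substack, whose proof is not given there; only existence is stated here.) -/
theorem result {S : Scheme.{u}} {𝒳 : AlgSt.Cat S}
    (h𝒳 : AlgSt.IsAlgStack Scheme.fppfPrecoverage 𝒳) (T : Set (AlgSt.Points 𝒳)) (hT : IsClosed T) :
    ∃ Q : 𝒳.obj → Prop, AlgSt.IsClosedSubstack 𝒳 Q Scheme.fppfPrecoverage ∧ Set.range (AlgSt.Points.map (AlgSt.subIncl 𝒳 Q)) = T ∧
      AlgSt.SmoothLocally (fun X => IsReduced X) (AlgSt.fullSub 𝒳 Q) := by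
  exact main h𝒳 T hT

end Groth.Agent.S12867
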