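import Groth.Statements.S12871
import Groth.Agent.Lib.Helper17.SchLocalProps

set_option autoImplicit false
open CategoryTheory AlgebraicGeometry
universe u
open AlgSt

namespace Groth.Agent.S12871

/-- The composite of two open immersions `f : 𝒳 ⟶ 𝒴`, `g : 𝒴 ⟶ 𝒵` of algebraic stacks over `S` is again
one. -/
theorem result {S : Scheme.{u}} {𝒳 𝒴 𝒵 : AlgSt.Cat S}
    (h𝒳 : AlgSt.IsAlgStack Scheme.fppfPrecoverage 𝒳) (h𝒴 : AlgSt.IsAlgStack Scheme.fppfPrecoverage 𝒴) (h𝒵 : AlgSt.IsAlgStack Scheme.fppfPrecoverage 𝒵)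
    (f : 𝒳 ⥤ᵇ 𝒴) (g : 𝒴 ⥤ᵇ 𝒵) (hf : AlgSt.IsOpenImm f) (hg : AlgSt.IsOpenImm g) :
    AlgSt.IsOpenImm (BasedFunctor.comp f g) := by
  exact Groth.Agent.Lib.Helper17.ACP.repWith_comp_of_schLocal' h𝒳.isStack.1 h𝒵.isStack.1 _
    (Groth.Agent.Lib.Helper17.SLP.repWith_bc _) (Groth.Agent.Lib.Helper17.SLP.repWith_cp _)
    (Groth.Agent.Lib.Helper17.SLP.repWith_schLocal _) f g hf hg

end Groth.Agent.S12871
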