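import Groth.Statements.S12873
import Groth.Agent.S12875

set_option autoImplicit false
open CategoryTheory AlgebraicGeometry
universe u
open AlgSt

namespace Groth.Agent.S12873

section Aux
open CategoryTheory CategoryTheory.Limits AlgebraicGeometry Opposite AlgSp FibCat Stk AlgSt
open Groth.Agent.Lib.Helper17 Groth.Agent.Lib.Helper17.FP Groth.Agent.Lib.Helper17.EO
open Groth.Agent.Lib.Helper17.PD Groth.Agent.Lib.Helper17.AT Groth.Agent.Lib.Helper17.AB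
open Groth.Agent.Lib.Helper17.AOS Groth.Agent.Lib.Helper17.ACP Groth.Agent.Lib.Helper17.PTS
open Groth.Agent.Lib.Helper10.OST Groth.Agent.Lib.Helper86
open Groth.Agent.S12875


variable {S : Scheme.{u}}

open Groth.Agent.S12878 Groth.Agent.S12874 in
/-- the chart of the base change `V ⟶ W` over a cover of a chart of `𝒴` is the locus where the
chart lifts to `𝒳` -/
theorem lift_iff {𝒳 𝒴 : AlgSt.Cat S} (hX : FibCat.IsFibGrpd 𝒳.p) (hY : FibCat.IsFibGrpd 𝒴.p)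
    (f : 𝒳 ⥤ᵇ 𝒴) [f.toFunctor.Full] [f.toFunctor.Faithful]
    (W : AlgSp.Space S) (w : AlgSt.ofSp W.obj ⥤ᵇ 𝒴) (V : AlgSp.Space S) (a₀ : V ⟶ W)
    (e : AlgSt.ofSp V.obj ⥤ᵇ FibCat.fp w f) (he : FibCat.IsEquivOver e)
    (i₀ : BasedFunctor.comp e (FibCat.fpFst w f) ≅ AlgSt.ofSpMap a₀.hom)
    {T T'' : Over S} (y : FibCat.overCat T ⥤ᵇ 𝒴) (a : T'' ⟶ T)
    (ŵ : FibCat.overCat T'' ⥤ᵇ AlgSt.ofSp W.obj)
    (iso : BasedFunctor.comp (AlgSt.overMap a) y ≅ BasedFunctor.comp ŵ w)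
    {Z : Over S} (a' : Z ⟶ T'')
    (q : FibCat.overCat Z ⥤ᵇ FibCat.fp ŵ (AlgSt.ofSpMap a₀.hom)) (hq : FibCat.IsEquivOver q)
    (ia : BasedFunctor.comp q (FibCat.fpFst ŵ (AlgSt.ofSpMap a₀.hom)) ≅ AlgSt.overMap a')
    {T₀ : Over S} (t : T₀ ⟶ T'') :
    (∃ l' : T₀ ⟶ Z, l' ≫ a' = t) ↔ EI f (y.obj (Over.mk (t ≫ a))) := by
  constructor
  · rintro ⟨l', hl'⟩
    subst hl'
    let ω : (FibCat.fp ŵ (AlgSt.ofSpMap a₀.hom)).obj := q.obj (Over.mk l')
    let v : (AlgSt.ofSp V.obj).obj := ω.obj.snd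
    let E : (FibCat.fp w f).obj := e.obj v
    let e1 : ω.obj.fst ≅ Over.mk (l' ≫ a') := compApp ia (Over.mk l')
    let c1 : f.obj E.obj.snd ≅ w.obj E.obj.fst := E.obj.iso.symm
    let c2 : w.obj E.obj.fst ≅ w.obj ((AlgSt.ofSpMap a₀.hom).obj v) :=
      w.toFunctor.mapIso (compApp i₀ v)
    let c3 : w.obj ((AlgSt.ofSpMap a₀.hom).obj v) ≅ w.obj (ŵ.obj ω.obj.fst) :=
      w.toFunctor.mapIso ω.obj.iso.symm
    let c4 : w.obj (ŵ.obj ω.obj.fst) ≅ y.obj ((AlgSt.overMap a).obj ω.obj.fst) :=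
      (compApp iso ω.obj.fst).symm
    let c5 : y.obj ((AlgSt.overMap a).obj ω.obj.fst) ≅ y.obj (Over.mk ((l' ≫ a') ≫ a)) :=
      y.toFunctor.mapIso ((AlgSt.overMap a).toFunctor.mapIso e1)
    exact ⟨E.obj.snd, ⟨c1 ≪≫ c2 ≪≫ c3 ≪≫ c4 ≪≫ c5⟩⟩
  · intro hEI
    obtain ⟨x, φ, hφ⟩ := ei_lift hX hY f _ hEI
    let t₁ : Over T'' := Over.mk t
    let γ : w.obj (ŵ.obj t₁) ≅ y.obj (Over.mk (t ≫ a)) := (compApp iso t₁).symm
    have hγ₀ : 𝒴.p.IsHomLift (𝟙 T₀) (compApp iso t₁).hom := compApp_lift iso t₁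
    have hγ : 𝒴.p.IsHomLift (𝟙 T₀) γ.hom := IsHomLift.lift_id_inv 𝒴.p T₀ (compApp iso t₁)
    have hφ₁ : 𝒴.p.IsHomLift (𝟙 T₀) φ.hom := lift_id_cod hφ (hl_cod hγ)
    have hφ₂ : 𝒴.p.IsHomLift (𝟙 T₀) φ.inv := IsHomLift.lift_id_inv 𝒴.p T₀ φ
    have hγφ : 𝒴.p.IsHomLift (𝟙 T₀) (γ ≪≫ φ.symm).hom := comp_id_lift hγ hφ₂
    have hbase : (AlgSt.ofSp W.obj).p.obj (ŵ.obj t₁) = T₀ := ŵ.w_obj t₁
    let A : (FibCat.fp w f).obj := FP.mkObj (ŵ.obj t₁) x (γ ≪≫ φ.symm)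
      (Groth.Agent.Lib.Helper62.StkGlueHom.isHomLift_id_of_eq' hbase.symm _ hγφ)
    obtain ⟨v, ε, hε⟩ := ((Groth.Agent.S5139.result e).mp he).2 A
    let ε₁ : (e.obj v).obj.fst ≅ ŵ.obj t₁ := (FibCat.fpFst w f).toFunctor.mapIso ε
    have hε₁ : (AlgSt.ofSp W.obj).p.IsHomLift (𝟙 ((FibCat.fp w f).p.obj A)) ε₁.hom :=
      EO.map_lift'' (FibCat.fpFst w f) hε
    have hε₂ : (AlgSt.ofSp W.obj).p.IsHomLift (𝟙 T₀) ε₁.hom := lift_id_cod hε₁ hbase
    have hε₃ : (AlgSt.ofSp W.obj).p.IsHomLift (𝟙 T₀) ε₁.inv :=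
      IsHomLift.lift_id_inv (AlgSt.ofSp W.obj).p T₀ ε₁
    have hi₀ : (AlgSt.ofSp W.obj).p.IsHomLift (𝟙 T₀) (compApp i₀ v).hom :=
      lift_id_dom (compApp_lift i₀ v) (hl_dom hε₂)
    let θ : ŵ.obj t₁ ≅ (AlgSt.ofSpMap a₀.hom).obj v := ε₁.symm ≪≫ compApp i₀ v
    have hθ : (AlgSt.ofSp W.obj).p.IsHomLift (𝟙 T₀) θ.hom := comp_id_lift hε₃ hi₀
    let ω : (FibCat.fp ŵ (AlgSt.ofSpMap a₀.hom)).obj :=
      FP.mkObj (F := ŵ) (G := AlgSt.ofSpMap a₀.hom) t₁ v θ hθ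
    obtain ⟨ζ, ε', -⟩ := ((Groth.Agent.S5139.result q).mp hq).2 ω
    let κ : t₁ ≅ (AlgSt.overMap a').obj ζ :=
      ((FibCat.fpFst ŵ (AlgSt.ofSpMap a₀.hom)).toFunctor.mapIso ε').symm ≪≫ compApp ia ζ
    have hκ : κ.hom.left ≫ (ζ.hom ≫ a') = t := Over.w κ.hom
    exact ⟨κ.hom.left ≫ ζ.hom, by rw [Category.assoc]; exact hκ⟩

/-- a chart of a full subcategory cut out by ideal sheaves on affine charts is a closed subscheme -/
theorem exists_closed_chart {𝒴 : AlgSt.Cat S} (Q : 𝒴.obj → Prop)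
    (hhom : ∀ {z y : 𝒴.obj} (_ : z ⟶ y), Q y → Q z)
    (hloc : ∀ (z : 𝒴.obj) {T : Over S} (_ : 𝒴.p.obj z = T) (R : Sieve T), R ∈ J S T →
      (∀ ⦃V : Over S⦄ (ψ : V ⟶ T), R ψ →
        ∃ (x : 𝒴.obj) (φ : x ⟶ z), Q x ∧ 𝒴.p.IsHomLift ψ φ) → Q z)
    {U : Over S} (y : FibCat.overCat U ⥤ᵇ 𝒴)
    (haff : ∀ (T : Over S), IsAffine T.left → ∀ (t : T ⟶ U),
      ∃ K : T.left.IdealSheafData, ∀ {T₀ : Over S} (y₀ : T₀ ⟶ T),
        Q ((BasedFunctor.comp (AlgSt.overMap t) y).obj (Over.mk y₀)) ↔ K ≤ y₀.left.ker) :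
    ∃ (Z : Over S) (ι : Z ⟶ U), IsClosedImmersion ι.left ∧
      ∀ ⦃T : Over S⦄ (t : T ⟶ U), Q (y.obj (Over.mk t)) ↔ ∃ t' : T ⟶ Z, t' ≫ ι = t := by
  let Pr : ∀ ⦃T : Over S⦄, ((yon S).obj T ⟶ (yon S).obj U) → Prop :=
    fun T g => ∀ t : T ⟶ U, (yon S).map t = g → Q (y.obj (Over.mk t))
  have hPr_map : ∀ {T : Over S} (t : T ⟶ U), Pr ((yon S).map t) ↔ Q (y.obj (Over.mk t)) := by
    intro T t
    constructor
    · intro h
      exact h t rfl
    · intro h t' ht'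
      have := (yon S).map_injective ht'
      subst this
      exact h
  have hcomp : ∀ ⦃T T₁ : Over S⦄ (ψ : T₁ ⟶ T) (g : (yon S).obj T ⟶ (yon S).obj U),
      Pr g → Pr ((yon S).map ψ ≫ g) := by
    intro T T₁ ψ g hg
    obtain ⟨t, rfl⟩ := (yon S).map_surjective g
    rw [← Functor.map_comp, hPr_map]
    exact hhom (y.map (Over.homMk ψ rfl : Over.mk (ψ ≫ t) ⟶ Over.mk t)) ((hPr_map t).mp hg)
  have hlocal : ∀ ⦃T : Over S⦄ (g : (yon S).obj T ⟶ (yon S).obj U) (R : Sieve T), R ∈ J S T →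
      (∀ ⦃T₁ : Over S⦄ (ψ : T₁ ⟶ T), R ψ → Pr ((yon S).map ψ ≫ g)) → Pr g := by
    intro T g R hR h
    obtain ⟨t, rfl⟩ := (yon S).map_surjective g
    rw [hPr_map]
    refine hloc (y.obj (Over.mk t)) (y.w_obj (Over.mk t)) R hR ?_
    intro V ψ hψ
    have h1 := h ψ hψ
    rw [← Functor.map_comp, hPr_map] at h1
    have h2 : (FibCat.overCat U).p.IsHomLift ψ
        (Over.homMk ψ rfl : Over.mk (ψ ≫ t) ⟶ Over.mk t) := hl_of_eq rfl
    exact ⟨_, y.map (Over.homMk ψ rfl : Over.mk (ψ ≫ t) ⟶ Over.mk t), h1, inferInstance⟩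
  have haff' : ∀ ⦃T : Over S⦄, IsAffine T.left → ∀ g : (yon S).obj T ⟶ (yon S).obj U,
      ∃ K : T.left.IdealSheafData, ∀ {T₀ : Over S} (y₀ : T₀ ⟶ T),
        Pr ((yon S).map y₀ ≫ g) ↔ K ≤ y₀.left.ker := by
    intro T hT g
    obtain ⟨g₀, rfl⟩ := (yon S).map_surjective g
    obtain ⟨K, hK⟩ := haff T hT g₀
    refine ⟨K, fun {T₀} y₀ => ?_⟩
    rw [← Functor.map_comp, hPr_map]
    exact hK y₀
  obtain ⟨Z, ι, hcl, hZ⟩ := exists_closed_rep Pr hcomp hlocal haff'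
  exact ⟨Z, ι, hcl, fun T t => (hPr_map t).symm.trans (hZ t)⟩

/-- **criterion for a locally closed substack**: a full subcategory closed under sources of
morphisms, local for the fppf topology and, on every chart, contained in an open subscheme on
whose affine charts it is cut out by an ideal sheaf, is included by an immersion -/
theorem isImm_subIncl {𝒴 : AlgSt.Cat S} (Q : 𝒴.obj → Prop)
    (hhom : ∀ {z y : 𝒴.obj} (_ : z ⟶ y), Q y → Q z)
    (hloc : ∀ (z : 𝒴.obj) {T : Over S} (_ : 𝒴.p.obj z = T) (R : Sieve T), R ∈ J S T →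
      (∀ ⦃V : Over S⦄ (ψ : V ⟶ T), R ψ →
        ∃ (x : 𝒴.obj) (φ : x ⟶ z), Q x ∧ 𝒴.p.IsHomLift ψ φ) → Q z)
    (hch : ∀ (U : Over S) (y : FibCat.overCat U ⥤ᵇ 𝒴), ∃ (U₁ : Over S) (j : U₁ ⟶ U),
      IsOpenImmersion j.left ∧
      (∀ A : Over U, Q (y.obj A) → ∃ l : A.left ⟶ U₁, l ≫ j = A.hom) ∧
      (∀ (T : Over S), IsAffine T.left → ∀ (t : T ⟶ U₁),
        ∃ K : T.left.IdealSheafData, ∀ {T₀ : Over S} (y₀ : T₀ ⟶ T),
          Q ((BasedFunctor.comp (AlgSt.overMap t) (BasedFunctor.comp (AlgSt.overMap j) y)).obj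
            (Over.mk y₀)) ↔ K ≤ y₀.left.ker)) :
    AlgSt.IsImm (AlgSt.subIncl 𝒴 Q) := by
  intro U y
  obtain ⟨U₁, j, hj, hA, haff⟩ := hch U y
  obtain ⟨Z, ι₁, hcl, hZ⟩ := exists_closed_chart Q hhom hloc
    (BasedFunctor.comp (AlgSt.overMap j) y) haff
  have : IsClosedImmersion ι₁.left := hcl
  have : IsOpenImmersion j.left := hj
  let ι : Z ⟶ U := ι₁ ≫ j
  have himm : IsImmersion ι.left := by
    change IsImmersion (ι₁.left ≫ j.left)
    infer_instance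
  have hmono : Mono ι := by
    have : Mono ((Over.forget S).map ι) := by
      change Mono ι.left
      infer_instance
    exact (Over.forget S).mono_of_mono_map this
  have H1 : ∀ B : Over Z, Q ((BasedFunctor.comp (AlgSt.overMap ι) y).obj B) := by
    intro B
    have h1 := (hZ (B.hom ≫ ι₁)).mpr ⟨B.hom, rfl⟩
    change Q (y.obj (Over.mk ((B.hom ≫ ι₁) ≫ j))) at h1
    change Q (y.obj (Over.mk (B.hom ≫ ι₁ ≫ j)))
    rw [← Category.assoc]
    exact h1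
  have H2 : ∀ A : Over U, Q (y.obj A) → ∃ l' : A.left ⟶ Z, l' ≫ ι = A.hom := by
    intro A hQ
    obtain ⟨l, hl⟩ := hA A hQ
    have h1 : Q ((BasedFunctor.comp (AlgSt.overMap j) y).obj (Over.mk l)) := by
      change Q (y.obj (Over.mk (l ≫ j)))
      rw [hl]
      exact hQ
    obtain ⟨t', ht'⟩ := (hZ l).mp h1
    exact ⟨t', by rw [← hl, ← ht', Category.assoc]⟩
  refine ⟨⟨(yon S).obj Z, IsAlgSpace.yon_obj _⟩,
    BasedFunctor.comp (toOverCat Z) (e₀ Q y ι H1),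
    isEquivOver_comp _ _ (AD.toOverCat_isEquivOver _) (e₀_isEquivOver Q hhom y ι H1 H2), ?_⟩
  have e : BasedFunctor.comp (BasedFunctor.comp (toOverCat Z) (e₀ Q y ι H1))
      (FibCat.fpFst y (AlgSt.subIncl 𝒴 Q)) =
      BasedFunctor.comp (toOverCat Z) (AlgSt.overMap ι) :=
    DR.basedFunctor_ext rfl
  rw [e, BRG.spMapOfOver_overMap, repWith_yon_map_iff]
  exact himm

theorem apply_congr {X Y : Scheme.{u}} {g₁ g₂ : X ⟶ Y} (h : g₁ = g₂) (x : X) : g₁ x = g₂ x := by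
  rw [h]

open Groth.Agent.S12878 in
/-- the chart-level statement: on every chart there is an open subscheme containing the locus
which lifts to `𝒳`, in which that locus is cut out by ideals -/
theorem exists_open_chart {𝒳 𝒴 : AlgSt.Cat S}
    (h𝒳 : AlgSt.IsAlgStack Scheme.fppfPrecoverage 𝒳) (h𝒴 : AlgSt.IsAlgStack Scheme.fppfPrecoverage 𝒴)
    (f : 𝒳 ⥤ᵇ 𝒴) [f.toFunctor.Full] [f.toFunctor.Faithful]
    (W : AlgSp.Space S) (w : AlgSt.ofSp W.obj ⥤ᵇ 𝒴)
    (hw₁ : AlgSt.RepByAlgSpWith (AlgSp.LocP @Flat) w)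
    (hw₂ : AlgSt.RepByAlgSpWith (AlgSp.LocP @LocallyOfFinitePresentation) w)
    (hw₃ : AlgSt.RepByAlgSpWith AlgSp.IsSurjectiveMor w)
    (V : AlgSp.Space S) (a₀ : V ⟶ W) (e : AlgSt.ofSp V.obj ⥤ᵇ FibCat.fp w f)
    (he : FibCat.IsEquivOver e)
    (i₀ : BasedFunctor.comp e (FibCat.fpFst w f) ≅ AlgSt.ofSpMap a₀.hom)
    (ha : AlgSp.RepWith @IsImmersion a₀.hom) (U : Over S) (y : FibCat.overCat U ⥤ᵇ 𝒴) :
    ∃ (U₁ : Over S) (j : U₁ ⟶ U), IsOpenImmersion j.left ∧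
      (∀ A : Over U, EI f (y.obj A) → ∃ l : A.left ⟶ U₁, l ≫ j = A.hom) ∧
      (∀ (T : Over S), IsAffine T.left → ∀ (t : T ⟶ U₁),
        ∃ K : T.left.IdealSheafData, ∀ {T₀ : Over S} (y₀ : T₀ ⟶ T),
          EI f ((BasedFunctor.comp (AlgSt.overMap t) (BasedFunctor.comp (AlgSt.overMap j) y)).obj
            (Over.mk y₀)) ↔ K ≤ y₀.left.ker) := by
  have hX := h𝒳.isStack.1
  have hY := h𝒴.isStack.1
  have hi : AlgSt.RepByAlgSpWith (AlgSp.RepWith @IsImmersion) (AlgSt.ofSpMap a₀.hom) :=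
    DCV.repWith_ofSpMap _ (Groth.Agent.Lib.Helper17.SLP.repWith_bc _) V W a₀.hom ha
  obtain ⟨U'', a, ŵ, ha1, ha2, hasurj, ⟨iso⟩⟩ :=
    Groth.Agent.S12874.exists_cover_lift h𝒴 W w hw₁ hw₂ hw₃ y
  obtain ⟨Z, a', q, hq, ⟨ia⟩, himm'⟩ :=
    exists_chart_equiv @IsImmersion (AlgSt.ofSpMap a₀.hom) hi ŵ
  have : IsImmersion a'.left := himm'
  have : Flat a.left := ha1
  have : LocallyOfFinitePresentation a.left := ha2
  have L : ∀ {T₀ : Over S} (t : T₀ ⟶ U''),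
      (∃ l' : T₀ ⟶ Z, l' ≫ a' = t) ↔ EI f (y.obj (Over.mk (t ≫ a))) :=
    fun t => lift_iff hX hY f W w V a₀ e he i₀ y a ŵ iso a' q hq ia t
  have key : ∀ {Y : Scheme.{u}} (t₁ t₂ : Y ⟶ U''.left), t₁ ≫ a.left = t₂ ≫ a.left →
      (∃ l : Y ⟶ Z.left, l ≫ a'.left = t₁) → (∃ l : Y ⟶ Z.left, l ≫ a'.left = t₂) := by
    rintro Y t₁ t₂ h ⟨l, hl⟩
    let Y₁ : Over S := Over.mk (t₁ ≫ U''.hom)
    let t₁' : Y₁ ⟶ U'' := Over.homMk t₁ rfl
    let t₂' : Y₁ ⟶ U'' := Over.homMk t₂ (by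
      change t₂ ≫ U''.hom = t₁ ≫ U''.hom
      rw [← Over.w a, ← Category.assoc, ← Category.assoc, h])
    have e : t₁' ≫ a = t₂' ≫ a := by
      ext
      exact h
    have h1 : ∃ l' : Y₁ ⟶ Z, l' ≫ a' = t₁' := by
      refine ⟨Over.homMk l (by
        change l ≫ Z.hom = t₁ ≫ U''.hom
        rw [← Over.w a', ← Category.assoc, hl]), ?_⟩
      ext
      exact hl
    have h2 := (L t₁').mp h1
    rw [e] at h2
    obtain ⟨l', hl'⟩ := (L t₂').mpr h2
    exact ⟨l'.left, congrArg CommaMorphism.left hl'⟩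
  have hsatR : ∀ u₁ u₂ : U''.left, a.left u₁ = a.left u₂ → u₁ ∈ Set.range a'.left →
      u₂ ∈ Set.range a'.left := by
    intro u₁ u₂ h hu₁
    obtain ⟨r, hr1, hr2⟩ :=
      Scheme.Pullback.exists_preimage_pullback (f := a.left) (g := a.left) u₁ u₂ h
    have h1 : r ∈ Set.range (pullback.fst (pullback.fst a.left a.left) a'.left) := by
      rw [Scheme.Pullback.range_fst]
      show pullback.fst a.left a.left r ∈ Set.range a'.left
      rw [hr1]
      exact hu₁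
    obtain ⟨z₁, rfl⟩ := h1
    obtain ⟨l, hl⟩ := key
      (pullback.fst (pullback.fst a.left a.left) a'.left ≫ pullback.fst a.left a.left)
      (pullback.fst (pullback.fst a.left a.left) a'.left ≫ pullback.snd a.left a.left)
      (by rw [Category.assoc, Category.assoc, pullback.condition])
      ⟨pullback.snd _ _, pullback.condition.symm⟩
    refine ⟨l z₁, ?_⟩
    rw [← hr2, ← Scheme.Hom.comp_apply, ← Scheme.Hom.comp_apply]
    exact apply_congr hl z₁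
  have hsatC : ∀ u₁ u₂ : U''.left, a.left u₁ = a.left u₂ →
      u₁ ∈ coborder (Set.range a'.left) → u₂ ∈ coborder (Set.range a'.left) := by
    intro u₁ u₂ h hu₁
    obtain ⟨r, hr1, hr2⟩ :=
      Scheme.Pullback.exists_preimage_pullback (f := a.left) (g := a.left) u₁ u₂ h
    have hcond : ∀ r' : ↑(pullback a.left a.left),
        a.left (pullback.fst a.left a.left r') = a.left (pullback.snd a.left a.left r') := by
      intro r'
      rw [← Scheme.Hom.comp_apply, ← Scheme.Hom.comp_apply]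
      exact apply_congr pullback.condition r'
    have heq : (pullback.fst a.left a.left) ⁻¹' Set.range a'.left =
        (pullback.snd a.left a.left) ⁻¹' Set.range a'.left := by
      ext r'
      constructor
      · intro hr'
        exact hsatR _ _ (hcond r') hr'
      · intro hr'
        exact hsatR _ _ (hcond r').symm hr'
    have hc1 := coborder_preimage (pullback.fst a.left a.left).isOpenMap
      (pullback.fst a.left a.left).continuous (Set.range a'.left)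
    have hc2 := coborder_preimage (pullback.snd a.left a.left).isOpenMap
      (pullback.snd a.left a.left).continuous (Set.range a'.left)
    have h3 : r ∈ (pullback.fst a.left a.left) ⁻¹' coborder (Set.range a'.left) := by
      show pullback.fst a.left a.left r ∈ coborder (Set.range a'.left)
      rw [hr1]
      exact hu₁
    rw [← hc1, heq, hc2] at h3
    have h4 : pullback.snd a.left a.left r ∈ coborder (Set.range a'.left) := h3
    rw [hr2] at h4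
    exact h4
  let O'' : U''.left.Opens := a'.left.coborderRange
  let O : U.left.Opens := ⟨a.left '' (O'' : Set U''.left), a.left.isOpenMap _ O''.2⟩
  have hpre : ∀ u : U''.left, a.left u ∈ O → u ∈ O'' := by
    rintro u ⟨u', hu', h⟩
    exact hsatC u' u h hu'
  let U₁ : Over S := Over.mk (O.ι ≫ U.hom)
  let j : U₁ ⟶ U := Over.homMk O.ι rfl
  refine ⟨U₁, j, (inferInstance : IsOpenImmersion O.ι), ?_, ?_⟩
  · intro A hQ
    have hrange : Set.range A.hom.left ⊆ Set.range O.ι := by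
      rw [Scheme.Opens.range_ι]
      rintro _ ⟨x, rfl⟩
      obtain ⟨u'', hu''⟩ := hasurj (A.hom.left x)
      obtain ⟨p, hp1, hp2⟩ := Scheme.Pullback.exists_preimage_pullback
        (f := A.hom.left) (g := a.left) x u'' hu''.symm
      let P₀ : Over S := Over.mk (pullback.fst A.hom.left a.left ≫ A.left.hom)
      let fst' : P₀ ⟶ A.left := Over.homMk (pullback.fst A.hom.left a.left) rfl
      let snd' : P₀ ⟶ U'' := Over.homMk (pullback.snd A.hom.left a.left) (by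
        change pullback.snd A.hom.left a.left ≫ U''.hom =
          pullback.fst A.hom.left a.left ≫ A.left.hom
        rw [← Over.w a, ← Over.w A.hom, ← Category.assoc, ← Category.assoc, pullback.condition])
      have e : snd' ≫ a = fst' ≫ A.hom := by
        ext
        exact pullback.condition.symm
      have h1 : EI f (y.obj (Over.mk (fst' ≫ A.hom))) :=
        ei_hom h𝒳 h𝒴 f (y.map (Over.homMk fst' rfl :
          Over.mk (fst' ≫ A.hom) ⟶ Over.mk A.hom)) hQ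
      rw [← e] at h1
      obtain ⟨l', hl'⟩ := (L snd').mpr h1
      have h2 : u'' ∈ Set.range a'.left := by
        refine ⟨l'.left p, ?_⟩
        rw [← hp2, ← Scheme.Hom.comp_apply]
        exact apply_congr (congrArg CommaMorphism.left hl') p
      exact ⟨u'', subset_coborder h2, hu''⟩
    refine ⟨Over.homMk (IsOpenImmersion.lift O.ι A.hom.left hrange) ?_, ?_⟩
    · change IsOpenImmersion.lift O.ι A.hom.left hrange ≫ (O.ι ≫ U.hom) = A.left.hom
      rw [← Category.assoc, IsOpenImmersion.lift_fac, Over.w A.hom]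
    · ext
      exact IsOpenImmersion.lift_fac _ _ _
  · intro T hT t
    haveI := hT
    let t₀ : T ⟶ U := t ≫ j
    let T'' : Over S := Over.mk (pullback.fst t₀.left a.left ≫ T.hom)
    let aT : T'' ⟶ T := Over.homMk (pullback.fst t₀.left a.left) rfl
    let sT : T'' ⟶ U'' := Over.homMk (pullback.snd t₀.left a.left) (by
      change pullback.snd t₀.left a.left ≫ U''.hom = pullback.fst t₀.left a.left ≫ T.hom
      rw [← Over.w a, ← Over.w t₀, ← Category.assoc, ← Category.assoc, pullback.condition])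
    have e : sT ≫ a = aT ≫ t₀ := by
      ext
      exact pullback.condition.symm
    have hf1 : Flat aT.left := by
      change Flat (pullback.fst t₀.left a.left)
      infer_instance
    have hf2 : LocallyOfFinitePresentation aT.left := by
      change LocallyOfFinitePresentation (pullback.fst t₀.left a.left)
      infer_instance
    have hf3 : Function.Surjective aT.left := by
      have : Surjective a.left := ⟨hasurj⟩
      have : Surjective (pullback.fst t₀.left a.left) := inferInstance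
      exact this.surj
    have hrange : Set.range sT.left ⊆ Set.range O''.ι := by
      rw [Scheme.Opens.range_ι]
      rintro _ ⟨p, rfl⟩
      apply hpre
      have h1 : a.left (sT.left p) = j.left (t.left (aT.left p)) := by
        rw [← Scheme.Hom.comp_apply, ← Scheme.Hom.comp_apply, ← Scheme.Hom.comp_apply]
        exact apply_congr (congrArg CommaMorphism.left e) p
      rw [h1]
      exact (t.left (aT.left p)).2
    let s₀ : T''.left ⟶ O''.toScheme := IsOpenImmersion.lift O''.ι sT.left hrange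
    have hs₀ : s₀ ≫ O''.ι = sT.left := IsOpenImmersion.lift_fac _ _ _
    let lc : Z.left ⟶ O''.toScheme := a'.left.liftCoborder
    have hlc : lc ≫ O''.ι = a'.left := a'.left.liftCoborder_ι
    have : IsClosedImmersion lc := inferInstance
    refine exists_ideal_of_cover (EI f) (fun φ h => ei_hom h𝒳 h𝒴 f φ h)
      (fun z T hz R hR h => ei_loc h𝒳 h𝒴 f z hz R hR h)
      (BasedFunctor.comp (AlgSt.overMap t) (BasedFunctor.comp (AlgSt.overMap j) y)) aT hf3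
      (lc.ker.comap s₀) ?_
    intro T₀ t'
    rw [comap_le_ker_iff]
    have e2 : EI f ((BasedFunctor.comp (AlgSt.overMap t)
        (BasedFunctor.comp (AlgSt.overMap j) y)).obj (Over.mk (t' ≫ aT))) ↔
        EI f (y.obj (Over.mk ((t' ≫ sT) ≫ a))) := by
      change EI f (y.obj (Over.mk (((t' ≫ aT) ≫ t) ≫ j))) ↔ _
      have e3 : ((t' ≫ aT) ≫ t) ≫ j = (t' ≫ sT) ≫ a := by
        rw [Category.assoc, Category.assoc, Category.assoc, e]
      rw [e3]
    rw [e2, ← L (t' ≫ sT)]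
    constructor
    · intro h
      let l : T₀.left ⟶ Z.left := IsClosedImmersion.lift lc (t'.left ≫ s₀) h
      have hl : l ≫ lc = t'.left ≫ s₀ := IsClosedImmersion.lift_fac _ _ _
      have hl2 : l ≫ a'.left = t'.left ≫ sT.left := by
        rw [← hlc, ← Category.assoc, hl, Category.assoc, hs₀]
      refine ⟨Over.homMk l (by
        rw [← Over.w a', ← Category.assoc, hl2]
        exact Over.w (t' ≫ sT)), ?_⟩
      ext
      exact hl2
    · rintro ⟨l', hl'⟩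
      have h1 : l'.left ≫ a'.left = t'.left ≫ sT.left := congrArg CommaMorphism.left hl'
      have h2 : l'.left ≫ lc = t'.left ≫ s₀ := by
        rw [← cancel_mono O''.ι, Category.assoc, Category.assoc, hlc, hs₀]
        exact h1
      rw [← h2]
      exact Scheme.Hom.le_ker_comp _ _

open Groth.Agent.S12878 in
theorem backward {𝒳 𝒴 : AlgSt.Cat S}
    (h𝒳 : AlgSt.IsAlgStack Scheme.fppfPrecoverage 𝒳) (h𝒴 : AlgSt.IsAlgStack Scheme.fppfPrecoverage 𝒴)
    (f : 𝒳 ⥤ᵇ 𝒴) (W : AlgSp.Space S) (w : AlgSt.ofSp W.obj ⥤ᵇ 𝒴)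
    (hw₁ : AlgSt.RepByAlgSpWith (AlgSp.LocP @Flat) w)
    (hw₂ : AlgSt.RepByAlgSpWith (AlgSp.LocP @LocallyOfFinitePresentation) w)
    (hw₃ : AlgSt.RepByAlgSpWith AlgSp.IsSurjectiveMor w)
    (V : AlgSp.Space S) (a₀ : V ⟶ W) (e : AlgSt.ofSp V.obj ⥤ᵇ FibCat.fp w f)
    (he : FibCat.IsEquivOver e)
    (i₀ : BasedFunctor.comp e (FibCat.fpFst w f) ≅ AlgSt.ofSpMap a₀.hom)
    (ha : AlgSp.RepWith @IsImmersion a₀.hom) : AlgSt.IsImm f := by
  have hX := h𝒳.isStack.1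
  have hY := h𝒴.isStack.1
  have hmono : Mono a₀.hom := Groth.Agent.Lib.Helper62.mono_of_repWith @IsImmersion
    (fun f hf => by haveI := hf; infer_instance) a₀.hom ha
  obtain ⟨hfull, hfaith⟩ := Groth.Agent.S12874.ff_of_comp_equiv e he (FibCat.fpFst w f)
    (AlgSt.ofSpMap a₀.hom) i₀ (Groth.Agent.S12874.ofSpMap_ff a₀.hom hmono)
  obtain ⟨hF, hFa⟩ := Groth.Agent.S12874.ff_of_cover h𝒳 h𝒴 f W w hw₁ hw₂ hw₃ hfull hfaith
  have hcl : AlgSt.IsImm (AlgSt.subIncl 𝒴 (EI f)) := by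
    refine isImm_subIncl (EI f) (fun φ h => ei_hom h𝒳 h𝒴 f φ h)
      (fun z T hz R hR h => ei_loc h𝒳 h𝒴 f z hz R hR h) ?_
    intro U y
    exact exists_open_chart h𝒳 h𝒴 f W w hw₁ hw₂ hw₃ V a₀ e he i₀ ha U y
  have heq := cores_equiv hX hY f
  rw [← cores_comp f]
  exact FD.repWith_precomp_equiv _ (cores f) heq _ hcl

theorem forward {𝒳 𝒴 : AlgSt.Cat S} (hX : FibCat.IsFibGrpd 𝒳.p) (hY : FibCat.IsFibGrpd 𝒴.p)
    (f : 𝒳 ⥤ᵇ 𝒴) (W : AlgSp.Space S) (w : AlgSt.ofSp W.obj ⥤ᵇ 𝒴) (hf : AlgSt.IsImm f) :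
    ∃ (V : AlgSp.Space S) (a : V ⟶ W) (e : AlgSt.ofSp V.obj ⥤ᵇ FibCat.fp w f),
      FibCat.IsEquivOver e ∧
        Nonempty (BasedFunctor.comp e (FibCat.fpFst w f) ≅ AlgSt.ofSpMap a.hom) ∧
          AlgSp.RepWith @IsImmersion a.hom := by
  have h1 : AlgSt.RepByAlgSpWith (AlgSp.RepWith @IsImmersion) (FibCat.fpFst w f) :=
    AB.repWith_fpFst _ f w hf
  have hfp : FibCat.IsFibGrpd (FibCat.fp w f).p :=
    SP.isFibGrpd_fp _ _ (Stk.isFibGrpd_ofPsh _) hX hY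
  obtain ⟨H, e, he, hP⟩ := exists_space_of_repWith_of_schLocal (AlgSp.RepWith @IsImmersion)
    (IN.schLocal_repWith _) hfp W (FibCat.fpFst w f) h1
  exact ⟨H, ObjectProperty.homMk (ObjectProperty.homMk
    (mapOf (BasedFunctor.comp e (FibCat.fpFst w f)))), e, he,
    ⟨Groth.Agent.S12874.isoOfPshMap _⟩, hP⟩

theorem main {𝒳 𝒴 : AlgSt.Cat S}
    (h𝒳 : AlgSt.IsAlgStack Scheme.fppfPrecoverage 𝒳) (h𝒴 : AlgSt.IsAlgStack Scheme.fppfPrecoverage 𝒴)
    (f : 𝒳 ⥤ᵇ 𝒴) (W : AlgSp.Space S) (w : AlgSt.ofSp W.obj ⥤ᵇ 𝒴)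
    (hw₁ : AlgSt.RepByAlgSpWith (AlgSp.LocP @Flat) w)
    (hw₂ : AlgSt.RepByAlgSpWith (AlgSp.LocP @LocallyOfFinitePresentation) w)
    (hw₃ : AlgSt.RepByAlgSpWith AlgSp.IsSurjectiveMor w) :
    AlgSt.IsImm f ↔
      ∃ (V : AlgSp.Space S) (a : V ⟶ W) (e : AlgSt.ofSp V.obj ⥤ᵇ FibCat.fp w f),
        FibCat.IsEquivOver e ∧
          Nonempty (BasedFunctor.comp e (FibCat.fpFst w f) ≅ AlgSt.ofSpMap a.hom) ∧
            AlgSp.RepWith @IsImmersion a.hom := by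
  constructor
  · exact forward h𝒳.isStack.1 h𝒴.isStack.1 f W w
  · rintro ⟨V, a, e, he, ⟨i₀⟩, ha⟩
    exact backward h𝒳 h𝒴 f W w hw₁ hw₂ hw₃ V a e he i₀ ha


end Aux

/-- Let `f : 𝒳 ⟶ 𝒴` be a 1-morphism of algebraic stacks over `S`, `W` an algebraic space and `w : W ⟶ 𝒴`
surjective, flat and locally of finite presentation. Then `f` is an immersion if and only if `V = W
×_𝒴 𝒳` is an algebraic space and the projection `V ⟶ W` is an immersion of algebraic spaces; the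
projection is named by `V`, a morphism `a : V ⟶ W` and an equivalence over `(Sch/S)` from the
category of `V` to the 2-fibre product whose composite with the first projection is 2-isomorphic to
the functor of `a`. -/
theorem result {S : Scheme.{u}} {𝒳 𝒴 : AlgSt.Cat S}
    (h𝒳 : AlgSt.IsAlgStack Scheme.fppfPrecoverage 𝒳) (h𝒴 : AlgSt.IsAlgStack Scheme.fppfPrecoverage 𝒴)
    (f : 𝒳 ⥤ᵇ 𝒴) (W : AlgSp.Space S) (w : AlgSt.ofSp W.obj ⥤ᵇ 𝒴)
    (hw₁ : AlgSt.RepByAlgSpWith (AlgSp.LocP @Flat) w)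
    (hw₂ : AlgSt.RepByAlgSpWith (AlgSp.LocP @LocallyOfFinitePresentation) w)
    (hw₃ : AlgSt.RepByAlgSpWith AlgSp.IsSurjectiveMor w) :
    AlgSt.IsImm f ↔
      ∃ (V : AlgSp.Space S) (a : V ⟶ W) (e : AlgSt.ofSp V.obj ⥤ᵇ FibCat.fp w f),
        FibCat.IsEquivOver e ∧
          Nonempty (BasedFunctor.comp e (FibCat.fpFst w f) ≅ AlgSt.ofSpMap a.hom) ∧
            AlgSp.RepWith @IsImmersion a.hom := by
  exact main h𝒳 h𝒴 f W w hw₁ hw₂ hw₃

end Groth.Agent.S12873
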