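import Groth.Statements.S12899
import Mathlib.Tactic
import Groth.Agent.Lib.Helper43.AwayQuot
import Groth.Agent.Lib.Helper43.FreeRes
import Groth.Agent.Lib.Helper43.TorDim
import Groth.Agent.Lib.Helper43.TorAmpDescent
-- import your own Groth.Agent.* helpers here

set_option autoImplicit false
universe u
open CategoryTheory CategoryTheory.Limits
attribute [local instance] HasDerivedCategory.standard
open DRing

namespace Groth.Agent.S12899

/-- Let R be a commutative ring, f ∈ R and M an object of D(R) such that (1) H^i(M) = 0 for i &gt; 0,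
(2) in D(R_f), M ⊗^L_R R_f is isomorphic to a flat R_f-module concentrated in degree 0, and (3) in
D(R/fR), M ⊗^L_R R/fR is isomorphic to a flat R/fR-module concentrated in degree 0. Then, in D(R), M
itself is isomorphic to a flat R-module concentrated in degree 0. (The derived base change functors
along R → R_f and R → R/fR are the stated instance hypotheses, both true.) -/
theorem result {R : Type u} [CommRing R] (f : R) (M : Dual.D R)
    [DRing.HasLBaseChange (algebraMap R (Localization.Away f))]
    [DRing.HasLBaseChange (Ideal.Quotient.mk (Ideal.span ({f} : Set R)))]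
    (h1 : ∀ i : ℤ, 0 < i → Subsingleton (Dual.HD R M i))
    (h2 : ∃ (N : Type u) (_ : AddCommGroup N) (_ : Module (Localization.Away f) N),
      Module.Flat (Localization.Away f) N ∧
        Nonempty ((DRing.LBaseChange (algebraMap R (Localization.Away f))).obj M ≅ Dual.inD (Localization.Away f) N))
    (h3 : ∃ (N : Type u) (_ : AddCommGroup N) (_ : Module (R ⧸ Ideal.span ({f} : Set R)) N),
      Module.Flat (R ⧸ Ideal.span ({f} : Set R)) N ∧
        Nonempty ((DRing.LBaseChange (Ideal.Quotient.mk (Ideal.span ({f} : Set R)))).obj M ≅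
          Dual.inD (R ⧸ Ideal.span ({f} : Set R)) N)) :
    ∃ (N : Type u) (_ : AddCommGroup N) (_ : Module R N), Module.Flat R N ∧ Nonempty (M ≅ Dual.inD R N) := by
  classical
  -- a bounded above free representative
  obtain ⟨P, hPb, hPfree, ⟨eP⟩⟩ := Groth.Agent.Lib.Helper43.FreeRes.exists_free_representative M 0
    (fun i hi => by
      haveI := h1 i hi
      exact ModuleCat.isZero_of_subsingleton _)
  have hPflat : DRing.TermwiseFlat P := fun i => by
    haveI := hPfree i
    infer_instance
  obtain ⟨N₂, _, _, hN₂, ⟨e₂⟩⟩ := h2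
  obtain ⟨N₃, _, _, hN₃, ⟨e₃⟩⟩ := h3
  have hl : ∀ (N' : ModuleCat.{u} (Localization.Away f)),
      Groth.Agent.Lib.Helper43.AwayQuot.Good P
        ((ModuleCat.restrictScalars (algebraMap R (Localization.Away f))).obj N') :=
    fun N' i hi =>
      Groth.Agent.Lib.Helper43.TensRes.exactAt_tens_res_of_flat_fibre
        (algebraMap R (Localization.Away f)) P 0 hPb hPflat
        (ModuleCat.of (Localization.Away f) N₂) hN₂
        ((DRing.LBaseChange (algebraMap R (Localization.Away f))).mapIso eP ≪≫ e₂) N' i hi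
  have hq : ∀ (N' : ModuleCat.{u} (R ⧸ Ideal.span ({f} : Set R))),
      Groth.Agent.Lib.Helper43.AwayQuot.Good P
        ((ModuleCat.restrictScalars (Ideal.Quotient.mk (Ideal.span ({f} : Set R)))).obj N') :=
    fun N' i hi =>
      Groth.Agent.Lib.Helper43.TensRes.exactAt_tens_res_of_flat_fibre
        (Ideal.Quotient.mk (Ideal.span ({f} : Set R))) P 0 hPb hPflat
        (ModuleCat.of (R ⧸ Ideal.span ({f} : Set R)) N₃) hN₃
        ((DRing.LBaseChange (Ideal.Quotient.mk (Ideal.span ({f} : Set R)))).mapIso eP ≪≫ e₃)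
        N' i hi
  have htor : DRing.HasTorAmplitudeIn R 0 0 (DRing.toD P) :=
    Groth.Agent.Lib.Helper84.FlatAmp.hasTorAmplitudeIn_of_exactAt P 0 0 hPb hPflat
      (fun N i hi => Groth.Agent.Lib.Helper43.AwayQuot.good_all f hPflat hq hl N i hi)
  obtain ⟨hflat, -⟩ := Groth.Agent.Lib.Helper43.TorAmpDescent.flat_opcycles_of_hasTorAmplitudeIn
    P 0 hPb hPflat 0 0 htor
  haveI : M.IsGE 0 := by
    haveI := Groth.Agent.Lib.Helper84.FlatAmp.torAmp_isGE htor
    exact DerivedCategory.TStructure.t.isGE_of_iso eP 0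
  haveI : M.IsLE 0 := by
    haveI := Groth.Agent.Lib.Helper84.FlatAmp.torAmp_isLE htor
    exact DerivedCategory.TStructure.t.isLE_of_iso eP 0
  obtain ⟨N, ⟨e⟩⟩ := DerivedCategory.exists_iso_singleFunctor_obj_of_isGE_of_isLE M 0
  obtain ⟨e'⟩ := Groth.Agent.Lib.Helper43.TorDim.nonempty_opcycles_iso P N (eP ≪≫ e) hPb
  haveI := hflat
  exact ⟨N, inferInstance, inferInstance,
    Groth.Agent.Lib.Helper84.TensCx.flat_of_iso e', ⟨e⟩⟩

end Groth.Agent.S12899
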