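import Groth.Statements.S12903
import Groth.Agent.Lib.Helper2.KerSec

set_option autoImplicit false
universe u
open CategoryTheory CategoryTheory.Limits AlgebraicGeometry Opposite
open Coherent

namespace Groth.Agent.S12903

open TopologicalSpace
open Scheme.Modules Groth.Agent.Lib.Lead.QCohAff Groth.Agent.Lib.Lead Groth.Agent.Lib.Helper29.QCohLoc
  Groth.Agent.Lib.Helper2.KerSec

/-- if `f^n • s = 0` then `s` vanishes on `D(f)`. -/
theorem res_basicOpen_eq_zero {X : Scheme.{u}} (F : X.Modules) {V : X.Opens} (f : Γ(X, V)) (s : Γ(F, V))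
    (n : ℕ) (h : f ^ n • s = 0) : F.presheaf.map (homOfLE (X.basicOpen_le f)).op s = 0 := by
  have h1 := congrArg (F.presheaf.map (homOfLE (X.basicOpen_le f)).op) h
  rw [QCohAff.res_smul, map_zero, map_pow] at h1
  have hu : IsUnit (X.presheaf.map (homOfLE (X.basicOpen_le f)).op f) :=
    X.toRingedSpace.isUnit_res_basicOpen f
  have hu' := hu.pow n
  obtain ⟨u, hu2⟩ := hu'
  rw [← hu2] at h1
  have := congrArg (fun t => (↑u⁻¹ : Γ(X, X.basicOpen f)) • t) h1
  simpa [← mul_smul] using this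


theorem key {R M : Type*} [CommRing R] [AddCommGroup M] [Module R M] (I : Ideal R) (hI : I.FG)
    (s : M) (h : ∀ f ∈ I, ∃ n : ℕ, f ^ n • s = 0) : ∃ n : ℕ, ∀ a ∈ I ^ n, a • s = 0 := by
  let J : Ideal R := LinearMap.ker (LinearMap.toSpanSingleton R M s)
  have hJ : ∀ a : R, a ∈ J ↔ a • s = 0 := fun a => by
    simp [J, LinearMap.mem_ker]
  have hle : I ≤ J.radical := by
    intro f hf
    obtain ⟨n, hn⟩ := h f hf
    exact ⟨n, (hJ _).2 hn⟩
  obtain ⟨k, hk⟩ := Ideal.exists_pow_le_of_le_radical_of_fg hle hI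
  exact ⟨k, fun a ha => (hJ a).1 (hk ha)⟩

theorem aux {U X : Scheme.{u}} (j : U ⟶ X) [IsOpenImmersion j]
    (F : X.Modules) [F.IsQuasicoherent] (V : X.Opens) (hV : IsAffineOpen V)
    (I : Ideal Γ(X, V)) (hI : I.FG)
    (hZ : ∀ x : X, x ∈ V → (x ∉ Set.range j.base ↔ ∀ f ∈ I, x ∉ X.basicOpen f))
    (s : Γ(F, V)) :
    F.presheaf.map (homOfLE (j.image_preimage_le V)).op s = 0 ↔
      ∃ n : ℕ, ∀ a ∈ I ^ n, a • s = 0 := by
  have hWV : j ''ᵁ (j ⁻¹ᵁ V) ≤ V := j.image_preimage_le V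
  have hmemW : ∀ x, x ∈ j ''ᵁ (j ⁻¹ᵁ V) ↔ x ∈ V ∧ x ∈ Set.range j.base := by
    intro x
    constructor
    · rintro ⟨y, hy, rfl⟩
      exact ⟨hy, y, rfl⟩
    · rintro ⟨hxV, y, rfl⟩
      exact ⟨y, hxV, rfl⟩
  constructor
  · intro hs
    apply key I hI s
    intro f hfI
    have hD : X.basicOpen f ≤ j ''ᵁ (j ⁻¹ᵁ V) := by
      intro x hx
      have hxV : x ∈ V := X.basicOpen_le _ hx
      refine (hmemW x).2 ⟨hxV, ?_⟩
      by_contra hcon
      exact ((hZ x hxV).1 hcon) f hfI hx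
    have h0 : F.presheaf.map (homOfLE (X.basicOpen_le f)).op s = 0 := by
      rw [← QCohAff.res_res F hWV hD, hs, map_zero]
    exact exists_pow_smul_eq_zero F hV f s h0
  · rintro ⟨n, hn⟩
    apply section_ext'
    intro x hx
    obtain ⟨hxV, hxr⟩ := (hmemW x).1 hx
    have hex : ∃ f ∈ I, x ∈ X.basicOpen f := by
      by_contra hcon
      push Not at hcon
      exact ((hZ x hxV).2 hcon) hxr
    obtain ⟨f, hfI, hxf⟩ := hex
    have h0 := res_basicOpen_eq_zero F f s n (hn _ (Ideal.pow_mem_pow hfI n))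
    rw [Groth.Agent.Lib.Helper29.QCohLoc.germ_res, map_zero, ← Groth.Agent.Lib.Helper29.QCohLoc.germ_res F V (X.basicOpen f) (X.basicOpen_le _) x hxf, h0,
      map_zero]


/-- Let X be a scheme, j : U → X a quasi-compact open immersion with closed complement Z, F a
quasi-coherent O_X-module, V an affine open of X and I a finitely generated ideal of Γ(V, O_X)
cutting out Z ∩ V (a point of V lies outside U if and only if it lies in no basic open X_f with f ∈
I). Then a section s of F over V belongs to the subsheaf Γ_Z(F) of sections supported in Z (the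
kernel of F → j_*(F|_U)) if and only if I^n s = 0 for some n. -/
theorem result {U X : Scheme.{u}} (j : U ⟶ X) [IsOpenImmersion j] [QuasiCompact j]
    (F : X.Modules) (hF : Coh.IsQCoh F) (V : X.Opens) (hV : IsAffineOpen V)
    (I : Ideal (X.ringCatSheaf.obj.obj (op V))) (hI : I.FG)
    (hZ : ∀ x : X, x ∈ V → (x ∉ Set.range j.base ↔ ∀ f ∈ I, x ∉ X.basicOpen (f : Γ(X, V))))
    (s : F.val.obj (op V)) :
    s ∈ Set.range ((((CxOX.gammaZι j).app F).val.app (op V)).hom) ↔ ∃ n : ℕ, ∀ a ∈ I ^ n, a • s = 0 := by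
  have hF' : F.IsQuasicoherent := hF
  have h1 : s ∈ Set.range ((((CxOX.gammaZι j).app F).val.app (op V)).hom) ↔
      F.presheaf.map (homOfLE (j.image_preimage_le V)).op s = 0 :=
    mem_range_kernelι_iff ((restrictAdjunction j).unit.app F) V s
  rw [h1]
  exact aux j F V hV I hI hZ s

end Groth.Agent.S12903
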