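import Groth.Statements.S12905
import Mathlib
import Groth.Agent.Lib.Helper93.SerreVan
import Groth.Agent.Lib.Helper11.ZeroDim
import Groth.Agent.Lib.Helper21.CohSupport
import Groth.Agent.S0047
import Groth.Agent.S2286

set_option autoImplicit false
universe u
open CategoryTheory CategoryTheory.Limits AlgebraicGeometry
open Variety

namespace Groth.Agent.S12905

/-- Let k be a field and φ : F' → F a monomorphism of coherent modules on P^n_k whose cokernel has
support of Krull dimension at most zero (a finite set of closed points, possibly empty). If F' is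
m-regular then F is m-regular. (The published statement is the case of an ideal sheaf contained in
the ideal sheaf of a curve with quotient supported at finitely many points, phrased as an inequality
of regularities; the argument gives the form stated here.) -/
theorem result (k : Type u) [Field k] (n : ℕ)
    (F' F : (CohB1.ProjSpace n k).Modules) (hF' : Coh.IsCoh F') (hF : Coh.IsCoh F) (φ : F' ⟶ F) [Mono φ]
    (hsupp : topologicalKrullDim (CohB1.support (cokernel φ)) ≤ 0) (m : ℤ)
    (h : Curv2.IsMRegular k n F' m) : Curv2.IsMRegular k n F m := by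
  intro i hi1 hin
  have hinv := Groth.Agent.Lib.Helper93.SerreVan.isInvertible_twist n k (m - i)
  let L := Twist.twistProjSpace n k (m - i)
  let S : CategoryTheory.ShortComplex (CohB1.ProjSpace n k).Modules :=
    CategoryTheory.ShortComplex.mk φ (CategoryTheory.Limits.cokernel.π φ)
      (CategoryTheory.Limits.cokernel.condition φ)
  have hS : S.ShortExact :=
    { exact := CategoryTheory.ShortComplex.exact_cokernel φ
      mono_f := (inferInstance : CategoryTheory.Mono φ)
      epi_g := (inferInstance : CategoryTheory.Epi (CategoryTheory.Limits.cokernel.π φ)) }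
  have hT := Groth.Agent.Lib.Helper97.TwistExact.shortExact_twist L
    (Groth.Agent.Lib.Helper93.SerreVan.isFlat_twist n k (m - i)) S hS
  have hQ : Coh.IsCoh (CategoryTheory.Limits.cokernel φ) :=
    Groth.Agent.Lib.Helper21.Devissage.isCoh_cokernel φ hF' hF
  have hQL : Coh.IsCoh (CohB1.tensorMod (CategoryTheory.Limits.cokernel φ) L) :=
    Groth.Agent.Lib.Lead.Inv.isCoh_tensorMod_right hQ hinv
  have hLcoh : Coh.IsCoh L := Groth.Agent.Lib.Lead.Inv.isCoh_of_isInvertible hinv
  haveI : (CategoryTheory.Limits.cokernel φ).IsQuasicoherent := hQ.1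
  haveI : L.IsQuasicoherent := hLcoh.1
  have hcl : IsClosed (CohB1.support (CategoryTheory.Limits.cokernel φ)) :=
    Groth.Agent.Lib.Helper21.CohSupport.isClosed_support _ hQ.2
  haveI : T1Space ↥(CohB1.support (CategoryTheory.Limits.cokernel φ)) :=
    Groth.Agent.Lib.Helper11.ZeroDim.t1Space_of_dim_le_zero hsupp
  have h0 : ∀ x ∈ CohB1.support (CohB1.tensorMod (CategoryTheory.Limits.cokernel φ) L),
      IsClosed ({x} : Set (CohB1.ProjSpace n k)) := by
    intro x hx
    rw [Groth.Agent.S2286.support_tensorMod _ _ hQ.2 hLcoh.2] at hx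
    have h1 : IsClosed ({⟨x, hx.1⟩} : Set ↥(CohB1.support (CategoryTheory.Limits.cokernel φ))) :=
      isClosed_singleton
    have h2 := hcl.isClosedMap_subtype_val _ h1
    simpa using h2
  have h3 : Subsingleton (Coh.HH (CohB1.ProjSpace n k)
      (CohB1.tensorMod (CategoryTheory.Limits.cokernel φ) L) i) :=
    Groth.Agent.S0047.result (CohB1.ProjSpace n k) _ hQL h0 i (by omega)
  exact Groth.Agent.S0009.subsingleton_HH_of_shortExact hT i (h i hi1 hin) h3

end Groth.Agent.S12905
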