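import Groth.Statements.S12909
import Mathlib

set_option autoImplicit false
universe u
open CAlgX

namespace Groth.Agent.S12909

open IsLocalRing TensorProduct

section Local

variable {S : Type u} [CommRing S] [IsLocalRing S]

theorem smul_eq_zero_of_mem_smul_top {x : S} (hxm : ∀ m ∈ maximalIdeal S, x * m = 0)
    {N : Type*} [AddCommGroup N] [Module S N] {w : N}
    (hw : w ∈ (maximalIdeal S) • (⊤ : Submodule S N)) : x • w = 0 := by
  refine Submodule.smul_induction_on hw ?_ ?_
  · intro r hr n _
    rw [smul_smul, hxm r hr, zero_smul]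
  · intro a b ha hb
    rw [smul_add, ha, hb, add_zero]

theorem mem_smul_top_of_smul_eq_zero {x : S} (hx : x ≠ 0)
    {M : Type*} [AddCommGroup M] [Module S M] [Module.Free S M] {v : M}
    (hv : x • v = 0) : v ∈ (maximalIdeal S) • (⊤ : Submodule S M) := by
  let b := Module.Free.chooseBasis S M
  have hc : ∀ i, b.repr v i ∈ maximalIdeal S := by
    intro i
    rw [IsLocalRing.mem_maximalIdeal, mem_nonunits_iff]
    intro hu
    have h1 : x * b.repr v i = 0 := by
      have := congrArg (fun w => b.repr w i) hv
      simpa using this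
    exact hx (hu.mul_left_eq_zero.mp h1)
  rw [← b.linearCombination_repr v, Finsupp.linearCombination_apply]
  refine Submodule.sum_mem _ fun i _ => ?_
  exact Submodule.smul_mem_smul (hc i) Submodule.mem_top

theorem lTensor_injective_of_depth_zero {x : S} (hx : x ≠ 0)
    (hxm : ∀ m ∈ maximalIdeal S, x * m = 0)
    {M N : Type u} [AddCommGroup M] [Module S M] [AddCommGroup N] [Module S N]
    [Module.Free S M] (l : M →ₗ[S] N) (hl : Function.Injective l) :
    Function.Injective (l.lTensor (ResidueField S)) := by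
  rw [injective_iff_map_eq_zero]
  intro z hz
  obtain ⟨v, rfl⟩ := TensorProduct.mk_surjective S M (ResidueField S)
    Ideal.Quotient.mk_surjective z
  have h0 : (1 : ResidueField S) ⊗ₜ[S] l v = 0 := by simpa using hz
  have h1 : l v ∈ (maximalIdeal S) • (⊤ : Submodule S N) := by
    rw [← LinearMap.ker_tensorProductMk, LinearMap.mem_ker]
    exact h0
  have h2 : x • l v = 0 := smul_eq_zero_of_mem_smul_top hxm h1
  rw [← map_smul] at h2
  have h3 : x • v = 0 := hl (by rw [h2, map_zero])
  have h4 := mem_smul_top_of_smul_eq_zero hx h3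
  rw [← LinearMap.ker_tensorProductMk (Q := M), LinearMap.mem_ker] at h4
  exact h4

theorem free_quotient_of_injective {x : S} (hx : x ≠ 0)
    (hxm : ∀ m ∈ maximalIdeal S, x * m = 0)
    {M N : Type u} [AddCommGroup M] [Module S M] [AddCommGroup N] [Module S N]
    [Module.Free S M] [Module.Finite S M] [Module.Free S N] [Module.Finite S N]
    (l : M →ₗ[S] N) (hl : Function.Injective l) :
    Module.Free S (N ⧸ LinearMap.range l) ∧
      Module.finrank S N = Module.finrank S M + Module.finrank S (N ⧸ LinearMap.range l) := by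
  have hinj := lTensor_injective_of_depth_zero hx hxm l hl
  have hfree : Module.Free S (N ⧸ LinearMap.range l) :=
    Module.free_of_lTensor_residueField_injective l (LinearMap.range l).mkQ
      (Submodule.mkQ_surjective _) l.exact_map_mkQ_range hinj
  obtain ⟨l', hl'⟩ := (IsLocalRing.split_injective_iff_lTensor_residueField_injective l).mpr hinj
  have e := (l.exact_map_mkQ_range.splitInjectiveEquiv (Submodule.mkQ_surjective _) ⟨l', hl'⟩).1
  refine ⟨hfree, ?_⟩
  rw [e.finrank_eq, Module.finrank_prod]

theorem key {x : S} (hx : x ≠ 0) (hxm : ∀ m ∈ maximalIdeal S, x * m = 0) :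
    ∀ (e : ℕ) (n : ℕ → ℕ) (f : ∀ i, (Fin (n (i + 1)) → S) →ₗ[S] (Fin (n i) → S)),
      (∀ i, i < e → LinearMap.ker (f i) = LinearMap.range (f (i + 1))) →
      LinearMap.ker (f e) = ⊥ →
      Module.Free S ((Fin (n 0) → S) ⧸ LinearMap.range (f 0)) ∧
      (Module.finrank S ((Fin (n 0) → S) ⧸ LinearMap.range (f 0)) : ℤ) =
        ∑ i ∈ Finset.range (e + 2), (-1 : ℤ) ^ i * (n i : ℤ) := by
  intro e
  induction e with
  | zero =>
    intro n f _ hlast
    obtain ⟨h1, h2⟩ := free_quotient_of_injective hx hxm (f 0) (LinearMap.ker_eq_bot.mp hlast)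
    refine ⟨h1, ?_⟩
    simp only [Module.finrank_fin_fun, zero_add] at h2
    simp [Finset.sum_range_succ]
    omega
  | succ e ih =>
    intro n f hex hlast
    obtain ⟨h1, h2⟩ := ih (fun i => n (i + 1)) (fun i => f (i + 1))
      (fun i hi => hex (i + 1) (by omega)) hlast
    let eq : ((Fin (n 1) → S) ⧸ LinearMap.range (f 1)) ≃ₗ[S] LinearMap.range (f 0) :=
      (Submodule.quotEquivOfEq _ _ (hex 0 (by omega)).symm).trans (f 0).quotKerEquivRange
    have : Module.Free S (LinearMap.range (f 0)) := Module.Free.of_equiv eq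
    obtain ⟨h3, h4⟩ := free_quotient_of_injective hx hxm (LinearMap.range (f 0)).subtype
      Subtype.val_injective
    rw [Submodule.range_subtype] at h3 h4
    refine ⟨h3, ?_⟩
    have h5 : Module.finrank S (LinearMap.range (f 0)) =
        Module.finrank S ((Fin (n 1) → S) ⧸ LinearMap.range (f 1)) := eq.finrank_eq.symm
    simp only [Module.finrank_fin_fun] at h4
    rw [Finset.sum_range_succ']
    simp only [pow_succ, mul_neg, mul_one, neg_mul, Finset.sum_neg_distrib, pow_zero, one_mul]
    have h2' : (Module.finrank S ((Fin (n 1) → S) ⧸ LinearMap.range (f 1)) : ℤ) =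
        ∑ i ∈ Finset.range (e + 2), (-1 : ℤ) ^ i * (n (i + 1) : ℤ) := h2
    rw [← h2', ← h5]
    omega

end Local

theorem map_mulVec_comp {R : Type u} [CommRing R] (S : Type u) [CommRing S] [Algebra R S]
    {a b : Type*} [Fintype b] (A : Matrix a b R) (w : b → R) :
    (A.map (algebraMap R S)).mulVec (algebraMap R S ∘ w) = algebraMap R S ∘ A.mulVec w := by
  funext i
  exact (RingHom.map_mulVec (algebraMap R S) A w i).symm

section Loc

variable {R : Type u} [CommRing R] (M : Submonoid R) (S : Type u) [CommRing S] [Algebra R S]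
  [IsLocalization M S]

include M

theorem exists_smul_eq_zero {b : Type*} [Finite b] (w : b → R)
    (hw : ∀ j, algebraMap R S (w j) = 0) : ∃ t ∈ M, ∀ j, t * w j = 0 := by
  classical
  cases nonempty_fintype b
  have : ∀ j, ∃ t : M, (t : R) * w j = 0 := fun j =>
    (IsLocalization.map_eq_zero_iff M S (w j)).mp (hw j)
  choose t ht using this
  refine ⟨∏ j, (t j : R), prod_mem fun j _ => (t j).2, fun j => ?_⟩
  rw [← Finset.prod_erase_mul _ _ (Finset.mem_univ j), mul_assoc, ht, mul_zero]

theorem exists_clear_denominators {b : Type*} [Finite b] (v : b → S) :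
    ∃ s ∈ M, ∃ w : b → R, algebraMap R S s • v = algebraMap R S ∘ w := by
  obtain ⟨s, hs⟩ := IsLocalization.exist_integer_multiples_of_finite M v
  choose w hw using hs
  refine ⟨s, s.2, w, funext fun j => ?_⟩
  rw [Function.comp_apply, hw j, Pi.smul_apply, smul_eq_mul, Algebra.smul_def]

theorem ker_map_eq_range_map {a b c : Type*} [Fintype b] [Fintype c] [Finite a]
    (A : Matrix a b R) (B : Matrix b c R)
    (h : LinearMap.ker A.mulVecLin = LinearMap.range B.mulVecLin) :
    LinearMap.ker (A.map (algebraMap R S)).mulVecLin =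
      LinearMap.range (B.map (algebraMap R S)).mulVecLin := by
  have hAB : ∀ u, A.mulVec (B.mulVec u) = 0 := fun u => by
    have : B.mulVecLin u ∈ LinearMap.ker A.mulVecLin := h ▸ LinearMap.mem_range_self _ u
    simpa using this
  apply le_antisymm
  · intro v hv
    rw [LinearMap.mem_ker, Matrix.mulVecLin_apply] at hv
    obtain ⟨s, hs, w, hw⟩ := exists_clear_denominators M S v
    have hu : IsUnit (algebraMap R S s) := IsLocalization.map_units S ⟨s, hs⟩
    have h1 : algebraMap R S ∘ A.mulVec w = 0 := by
      rw [← map_mulVec_comp, ← hw, Matrix.mulVec_smul, hv, smul_zero]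
    obtain ⟨t, ht, htw⟩ := exists_smul_eq_zero M S (A.mulVec w) (fun j => congrFun h1 j)
    have h2 : t • w ∈ LinearMap.ker A.mulVecLin := by
      rw [LinearMap.mem_ker, Matrix.mulVecLin_apply, Matrix.mulVec_smul]
      funext j
      simpa using htw j
    rw [h] at h2
    obtain ⟨u, hu'⟩ := h2
    have hut : IsUnit (algebraMap R S t) := IsLocalization.map_units S ⟨t, ht⟩
    rw [← Submodule.smul_mem_iff_of_isUnit _ hu, ← Submodule.smul_mem_iff_of_isUnit _ hut]
    refine ⟨algebraMap R S ∘ u, ?_⟩
    rw [Matrix.mulVecLin_apply, map_mulVec_comp, ← Matrix.mulVecLin_apply, hu', hw]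
    funext j
    simp
  · rintro _ ⟨u, rfl⟩
    rw [LinearMap.mem_ker]
    obtain ⟨s, hs, w, hw⟩ := exists_clear_denominators M S u
    have hu : IsUnit (algebraMap R S s) := IsLocalization.map_units S ⟨s, hs⟩
    have : algebraMap R S s • ((A.map (algebraMap R S)).mulVecLin
        ((B.map (algebraMap R S)).mulVecLin u)) = 0 := by
      rw [← map_smul, ← map_smul, hw, Matrix.mulVecLin_apply, Matrix.mulVecLin_apply,
        map_mulVec_comp, map_mulVec_comp, hAB]
      funext j
      simp
    exact hu.smul_eq_zero.mp this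

theorem ker_map_eq_bot {a b : Type*} [Fintype b] [Finite a]
    (A : Matrix a b R) (h : LinearMap.ker A.mulVecLin = ⊥) :
    LinearMap.ker (A.map (algebraMap R S)).mulVecLin = ⊥ := by
  have := ker_map_eq_range_map M S A (0 : Matrix b (Fin 0) R) (by simp [h])
  rw [this]
  simp

end Loc

theorem depth_zero_of_ann {R : Type u} [CommRing R] (q : Ideal R) [q.IsPrime] (y : R)
    (hy : ∀ r, r ∈ q ↔ r * y = 0) :
    algebraMap R (Localization.AtPrime q) y ≠ 0 ∧
      ∀ m ∈ maximalIdeal (Localization.AtPrime q),
        algebraMap R (Localization.AtPrime q) y * m = 0 := by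
  constructor
  · intro h0
    obtain ⟨t, ht⟩ := (IsLocalization.map_eq_zero_iff q.primeCompl _ y).mp h0
    exact t.2 ((hy t).mpr ht)
  · intro m hm
    obtain ⟨a, s, rfl⟩ := IsLocalization.exists_mk'_eq q.primeCompl m
    rw [IsLocalization.AtPrime.mk'_mem_maximal_iff (Localization.AtPrime q) q] at hm
    rw [← IsLocalization.mk'_one (M := q.primeCompl) (Localization.AtPrime q) y,
      ← IsLocalization.mk'_mul, mul_comm y a, (hy a).mp hm, IsLocalization.mk'_zero]

theorem finrank_eq_zero_of_smul_eq_zero {S C : Type*} [CommRing S] [Nontrivial S]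
    [AddCommGroup C] [Module S C] [Module.Free S C] {x : S} (hx : x ≠ 0)
    (h : ∀ c : C, x • c = 0) : Module.finrank S C = 0 := by
  let b := Module.Free.chooseBasis S C
  have : IsEmpty (Module.Free.ChooseBasisIndex S C) := by
    constructor
    intro i
    have h1 := congrArg (fun w => b.repr w i) (h (b i))
    simp at h1
    exact hx h1
  rw [Module.finrank_eq_nat_card_basis b]
  simp

/-- Let R be a Noetherian ring and I a nonzero ideal with a finite free resolution 0 → R^{n_e} → … →
R^{n_1} → R^{n_0} → I → 0 with e ≥ 1: the map R^{n_{i+1}} → R^{n_i} is the matrix A_i, the map π :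
R^{n_0} → R is linear with image I, the kernel of π is the image of A_0, the kernel of A_i is the
image of A_{i+1} for 0 ≤ i ≤ e - 2, and A_{e-1} is injective. Then I contains a non-zero-divisor of
R. (The hypothesis that I is nonzero is implicit in the published statement: the zero ideal of a
domain has a finite free resolution and contains no non-zero-divisor.) -/
theorem result {R : Type u} [CommRing R] [IsNoetherianRing R]
    (e : ℕ) (he : 1 ≤ e) (n : ℕ → ℕ) (A : (i : ℕ) → Matrix (Fin (n i)) (Fin (n (i + 1))) R)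
    (π : (Fin (n 0) → R) →ₗ[R] R) (hI : LinearMap.range π ≠ ⊥)
    (h0 : LinearMap.ker π = LinearMap.range (A 0).mulVecLin)
    (hA : ∀ i, i + 2 ≤ e → LinearMap.ker (A i).mulVecLin = LinearMap.range (A (i + 1)).mulVecLin)
    (hlast : LinearMap.ker (A (e - 1)).mulVecLin = ⊥) :
    ∃ x : R, x ∈ LinearMap.range π ∧ x ∈ nonZeroDivisors R := by
  by_contra hcon
  push Not at hcon
  obtain ⟨e', rfl⟩ : ∃ e', e = e' + 1 := ⟨e - 1, by omega⟩
  rw [Nat.add_sub_cancel] at hlast
  have hrank : ∀ (q : Ideal R) [q.IsPrime] (y : R), (∀ r, r ∈ q ↔ r * y = 0) →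
      Module.Free (Localization.AtPrime q) ((Fin (n 0) → Localization.AtPrime q) ⧸
        LinearMap.range ((A 0).map (algebraMap R (Localization.AtPrime q))).mulVecLin) ∧
      (Module.finrank (Localization.AtPrime q) ((Fin (n 0) → Localization.AtPrime q) ⧸
        LinearMap.range ((A 0).map (algebraMap R (Localization.AtPrime q))).mulVecLin) : ℤ) =
        ∑ i ∈ Finset.range (e' + 2), (-1 : ℤ) ^ i * (n i : ℤ) := by
    intro q _ y hy
    obtain ⟨hx, hxm⟩ := depth_zero_of_ann q y hy
    exact key hx hxm e' n (fun i => ((A i).map (algebraMap R (Localization.AtPrime q))).mulVecLin)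
      (fun i hi => ker_map_eq_range_map q.primeCompl _ (A i) (A (i + 1)) (hA i (by omega)))
      (ker_map_eq_bot q.primeCompl _ (A e') hlast)
  have hass : ∀ q ∈ associatedPrimes R R, q.IsPrime ∧ ∃ y : R, ∀ r, r ∈ q ↔ r * y = 0 := by
    intro q hq
    obtain ⟨hqp, y, hy⟩ := (isAssociatedPrime_iff).mp hq
    refine ⟨hqp, y, fun r => ?_⟩
    rw [hy, Submodule.mem_colon_singleton, Submodule.mem_bot, smul_eq_mul]
  have hfin := associatedPrimes.finite R R
  have hunion : ∀ K : Ideal R, ((K : Set R) ⊆ ⋃ p ∈ associatedPrimes R R, (p : Set R)) →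
      ∃ p ∈ associatedPrimes R R, K ≤ p := by
    intro K hK
    have := (Ideal.subset_union_prime (s := hfin.toFinset) (f := fun p => p) ⊥ ⊥
      (fun i hi _ _ => (hass i ((Set.Finite.mem_toFinset hfin).mp hi)).1) (I := K)).mp
      (by simpa using hK)
    obtain ⟨p, hp, hKp⟩ := this
    exact ⟨p, (Set.Finite.mem_toFinset hfin).mp hp, hKp⟩
  obtain ⟨p, hp, hIp⟩ := hunion (LinearMap.range π) (by
    rw [biUnion_associatedPrimes_eq_compl_nonZeroDivisors]
    intro x hx
    exact hcon x hx)
  have hχ : ∑ i ∈ Finset.range (e' + 2), (-1 : ℤ) ^ i * (n i : ℤ) = 0 := by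
    obtain ⟨hpp, x, hx⟩ := hass p hp
    have := hpp
    obtain ⟨hfree, hrk⟩ := hrank p x hx
    rw [← hrk]
    obtain ⟨hx0, -⟩ := depth_zero_of_ann p x hx
    have hkill : ∀ c : (Fin (n 0) → Localization.AtPrime p) ⧸
        LinearMap.range ((A 0).map (algebraMap R (Localization.AtPrime p))).mulVecLin,
        algebraMap R (Localization.AtPrime p) x • c = 0 := by
      intro c
      obtain ⟨v, rfl⟩ := Submodule.Quotient.mk_surjective _ c
      rw [← Submodule.Quotient.mk_smul, Submodule.Quotient.mk_eq_zero]
      obtain ⟨s, hs, w, hw⟩ := exists_clear_denominators p.primeCompl (Localization.AtPrime p) v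
      have hu : IsUnit (algebraMap R (Localization.AtPrime p) s) :=
        IsLocalization.map_units _ ⟨s, hs⟩
      rw [← Submodule.smul_mem_iff_of_isUnit _ hu, smul_comm, hw]
      have h1 : x • w ∈ LinearMap.ker π := by
        rw [LinearMap.mem_ker, map_smul, smul_eq_mul]
        have : π w ∈ p := hIp (LinearMap.mem_range_self π w)
        rw [mul_comm]
        exact (hx _).mp this
      rw [h0] at h1
      obtain ⟨u, hu'⟩ := h1
      refine ⟨algebraMap R (Localization.AtPrime p) ∘ u, ?_⟩
      rw [Matrix.mulVecLin_apply, map_mulVec_comp, ← Matrix.mulVecLin_apply, hu']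
      funext j
      simp
    exact_mod_cast finrank_eq_zero_of_smul_eq_zero hx0 hkill
  have hann : ∀ q ∈ associatedPrimes R R, ∃ t ∉ q, ∀ v, t * π v = 0 := by
    intro q hq
    obtain ⟨hqp, y, hy⟩ := hass q hq
    have := hqp
    obtain ⟨hfree, hrk⟩ := hrank q y hy
    rw [hχ] at hrk
    have hsub : Subsingleton ((Fin (n 0) → Localization.AtPrime q) ⧸
        LinearMap.range ((A 0).map (algebraMap R (Localization.AtPrime q))).mulVecLin) := by
      apply Module.subsingleton_of_rank_zero (R := Localization.AtPrime q)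
      have : Module.finrank (Localization.AtPrime q) ((Fin (n 0) → Localization.AtPrime q) ⧸
        LinearMap.range ((A 0).map (algebraMap R (Localization.AtPrime q))).mulVecLin) = 0 := by
        exact_mod_cast hrk
      simp [← Module.finrank_eq_rank, this]
    have htop : LinearMap.range ((A 0).map (algebraMap R (Localization.AtPrime q))).mulVecLin = ⊤ :=
      Submodule.Quotient.subsingleton_iff.mp hsub
    have hj : ∀ j : Fin (n 0), ∃ t ∈ q.primeCompl,
        t * π (fun k => if j = k then 1 else 0) = 0 := by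
      intro j
      have hmem : (algebraMap R (Localization.AtPrime q) ∘ (fun k => if j = k then (1 : R) else 0)) ∈
          LinearMap.range ((A 0).map (algebraMap R (Localization.AtPrime q))).mulVecLin :=
        htop ▸ Submodule.mem_top
      obtain ⟨u, hu⟩ := hmem
      obtain ⟨s, hs, w, hw⟩ := exists_clear_denominators q.primeCompl (Localization.AtPrime q) u
      have h1 : ∀ k, algebraMap R (Localization.AtPrime q)
          ((A 0).mulVec w k - s * (if j = k then (1 : R) else 0)) = 0 := by
        intro k
        have h2 := congrFun (map_mulVec_comp (Localization.AtPrime q) (A 0) w) k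
        rw [← hw, Matrix.mulVec_smul, ← Matrix.mulVecLin_apply, hu] at h2
        simp only [Pi.smul_apply, Function.comp_apply, smul_eq_mul] at h2
        rw [map_sub, map_mul, ← h2, sub_self]
      obtain ⟨t, ht, htw⟩ := exists_smul_eq_zero q.primeCompl (Localization.AtPrime q) _ h1
      refine ⟨t * s, mul_mem ht hs, ?_⟩
      have h2 : (t * s) • (fun k => if j = k then (1 : R) else 0) = (A 0).mulVecLin (t • w) := by
        funext k
        have := htw k
        rw [Matrix.mulVecLin_apply, Matrix.mulVec_smul]
        simp only [Pi.smul_apply, smul_eq_mul]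
        linear_combination -this
      have h3 : (t * s) • (fun k => if j = k then (1 : R) else 0) ∈ LinearMap.ker π := by
        rw [h0, h2]
        exact LinearMap.mem_range_self _ _
      rw [LinearMap.mem_ker, map_smul, smul_eq_mul] at h3
      exact h3
    choose t ht ht0 using hj
    refine ⟨∏ j, t j, ?_, fun v => ?_⟩
    · exact (prod_mem fun j _ => ht j : ∏ j, t j ∈ q.primeCompl)
    · rw [LinearMap.pi_apply_eq_sum_univ π v, Finset.mul_sum]
      refine Finset.sum_eq_zero fun j _ => ?_
      rw [← Finset.prod_erase_mul _ _ (Finset.mem_univ j), smul_eq_mul]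
      linear_combination (v j * ∏ k ∈ Finset.univ.erase j, t k) * ht0 j
  obtain ⟨z, hzJ, hz⟩ : ∃ z : R, (∀ v, z * π v = 0) ∧ z ∈ nonZeroDivisors R := by
    by_contra hno
    push Not at hno
    let J : Ideal R :=
      { carrier := {z | ∀ v, z * π v = 0}
        add_mem' := fun {a b} ha hb v => by rw [add_mul, ha v, hb v, add_zero]
        zero_mem' := fun v => zero_mul _
        smul_mem' := fun c a ha v => by rw [smul_eq_mul, mul_assoc, ha v, mul_zero] }
    obtain ⟨q, hq, hJq⟩ := hunion J (by
      rw [biUnion_associatedPrimes_eq_compl_nonZeroDivisors]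
      intro z hz
      exact hno z hz)
    obtain ⟨t, htq, ht⟩ := hann q hq
    exact htq (hJq ht)
  apply hI
  rw [eq_bot_iff]
  rintro _ ⟨v, rfl⟩
  rw [Submodule.mem_bot]
  exact (mul_left_mem_nonZeroDivisors_eq_zero_iff hz).mp (hzJ v)

end Groth.Agent.S12909
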