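import Groth.Statements.S12915
-- import your own Groth.Agent.* helpers here
import Mathlib.Algebra.Order.Antidiag.FinsuppEquiv
import Mathlib.LinearAlgebra.Dimension.Constructions
import Mathlib.RingTheory.GradedAlgebra.Basic
import Mathlib.LinearAlgebra.FiniteDimensional.Lemmas
import Mathlib.Tactic

set_option autoImplicit false
universe u
open CAlgX

namespace Groth.Agent.S12915

theorem finrank_homog (k : Type u) [Field k] (r t : ℕ) :
    Module.finrank k (MvPolynomial.homogeneousSubmodule (Fin (r + 1)) k t) = Nat.choose (t + r) r := by
  classical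
  rw [MvPolynomial.homogeneousSubmodule_eq_finsupp_supported]
  have hset : {d : Fin (r+1) →₀ ℕ | d.degree = t} =
      ↑((Finset.univ : Finset (Fin (r+1))).finsuppAntidiag t) := by
    ext d
    simp [Finset.mem_finsuppAntidiag, Finsupp.degree_eq_sum]
  rw [LinearEquiv.finrank_eq (AddMonoidAlgebra.supportedEquivFinsupp _),
    LinearEquiv.finrank_eq (Finsupp.domLCongr (Equiv.setCongr hset)),
    Module.finrank_finsupp_self, ← Nat.card_eq_fintype_card, Nat.card_coe_set_eq, Set.ncard_coe_finset,
    Finset.card_finsuppAntidiag_nat_eq_choose]
  simp only [Finset.card_univ, Fintype.card_fin]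
  have : r + 1 + t - 1 = t + r := by omega
  rw [this, Nat.choose_symm_add]

attribute [local instance] MvPolynomial.gradedAlgebra in
theorem key {k : Type u} [Field k] {σ : Type*} {m t : ℕ} {f p : MvPolynomial σ k}
    (hf : f.IsHomogeneous m) (hf0 : f ≠ 0) (ht : m ≤ t) (h : (f * p).IsHomogeneous t) :
    p.IsHomogeneous (t - m) := by
  classical
  have h1 : MvPolynomial.homogeneousComponent t (f * p) = f * p :=
    MvPolynomial.homogeneousComponent_eq_self h
  have h2 : MvPolynomial.homogeneousComponent (m + (t - m)) (f * p) =
      f * MvPolynomial.homogeneousComponent (t - m) p := by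
    have := DirectSum.coe_decompose_mul_add_of_left_mem (MvPolynomial.homogeneousSubmodule σ k)
      (i := m) (j := t - m) (a := f) (b := p) hf
    rw [← MvPolynomial.decomposition.decompose'_apply, ← MvPolynomial.decomposition.decompose'_apply]
    exact this
  rw [Nat.add_sub_cancel' ht, h1] at h2
  have h3 : p = MvPolynomial.homogeneousComponent (t - m) p := mul_left_cancel₀ hf0 h2
  rw [h3]
  exact MvPolynomial.homogeneousComponent_isHomogeneous _ _

/-- Let k be a field, S = k[x_0, …, x_r], and f a nonzero homogeneous polynomial of degree m. For every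
t ≥ m the image in S/(f) of the homogeneous polynomials of degree t is a k-vector space of dimension
C(t + r, r) - C(t + r - m, r). (The published clause states that the hypersurface f = 0 in P^r has
degree m; its proof computes exactly this Hilbert function, whose polynomial has leading term m
t^(r-1)/(r-1)!, and that computation is what is stated here.) -/
theorem result (k : Type u) [Field k] (r m : ℕ)
    (f : MvPolynomial (Fin (r + 1)) k) (hf : f.IsHomogeneous m) (hf0 : f ≠ 0) (t : ℕ) (ht : m ≤ t) :
    Module.finrank k
        (Submodule.map ((Ideal.Quotient.mkₐ k (Ideal.span {f})).toLinearMap)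
          (MvPolynomial.homogeneousSubmodule (Fin (r + 1)) k t)) =
      Nat.choose (t + r) r - Nat.choose (t + r - m) r := by
  classical
  let π : MvPolynomial (Fin (r + 1)) k →ₗ[k] MvPolynomial (Fin (r + 1)) k ⧸ Ideal.span {f} :=
    (Ideal.Quotient.mkₐ k (Ideal.span {f})).toLinearMap
  let H := MvPolynomial.homogeneousSubmodule (Fin (r + 1)) k
  have hfin : ∀ n, Module.Finite k (H n) := fun n =>
    Module.Finite.iff_fg.mpr (MvPolynomial.homogeneousSubmodule_fg _ _ n)
  let g : H t →ₗ[k] MvPolynomial (Fin (r + 1)) k ⧸ Ideal.span {f} := π.domRestrict (H t)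
  have hrange : LinearMap.range g = Submodule.map π (H t) := LinearMap.range_domRestrict _ _
  let h : H (t - m) →ₗ[k] H t :=
    { toFun := fun p => ⟨f * p, by
        have := hf.mul p.2
        rwa [Nat.add_sub_cancel' ht] at this⟩
      map_add' := by
        intro p q
        apply Subtype.ext
        simp [mul_add]
      map_smul' := by
        intro c p
        apply Subtype.ext
        simp }
  have hinj : Function.Injective h := by
    intro p q hpq
    have h1 : f * (p : MvPolynomial (Fin (r + 1)) k) = f * (q : MvPolynomial (Fin (r + 1)) k) :=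
      congrArg Subtype.val hpq
    exact Subtype.ext (mul_left_cancel₀ hf0 h1)
  have hker : LinearMap.ker g = LinearMap.range h := by
    ext q
    simp only [LinearMap.mem_ker, LinearMap.mem_range]
    constructor
    · intro hq
      have h1 : (q : MvPolynomial (Fin (r + 1)) k) ∈ Ideal.span {f} :=
        Ideal.Quotient.eq_zero_iff_mem.mp hq
      obtain ⟨p, hp⟩ := Ideal.mem_span_singleton'.mp h1
      have hp' : (f * p).IsHomogeneous t := by
        rw [mul_comm, hp]
        exact q.2
      refine ⟨⟨p, key hf hf0 ht hp'⟩, Subtype.ext ?_⟩
      show f * p = q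
      rw [mul_comm, hp]
    · rintro ⟨p, rfl⟩
      show Ideal.Quotient.mk _ (f * (p : MvPolynomial (Fin (r + 1)) k)) = 0
      exact Ideal.Quotient.eq_zero_iff_mem.mpr
        (Ideal.mul_mem_right _ _ (Ideal.mem_span_singleton_self f))
  have hrn := LinearMap.finrank_range_add_finrank_ker g
  rw [hker, LinearMap.finrank_range_of_inj hinj, hrange, finrank_homog, finrank_homog] at hrn
  have h2 : t - m + r = t + r - m := by omega
  rw [h2] at hrn
  exact Nat.eq_sub_of_add_eq hrn

end Groth.Agent.S12915
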