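import Groth.Statements.S12916
-- import your own Groth.Agent.* helpers here
import Mathlib.RingTheory.HopkinsLevitzki
import Mathlib.RingTheory.Ideal.AssociatedPrime.Localization
import Mathlib.RingTheory.Ideal.AssociatedPrime.Finiteness
import Mathlib.RingTheory.KrullDimension.Basic
import Mathlib.RingTheory.Ideal.GoingUp
import Mathlib.RingTheory.MvPolynomial.Ideal
import Mathlib.RingTheory.Polynomial.Basic
import Mathlib.GroupTheory.CosetCover

set_option autoImplicit false
universe u
open CAlgX

namespace Groth.Agent.S12916

theorem finiteLength_of_ass_max {A : Type*} [CommRing A] [IsNoetherianRing A] {N : Type*}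
    [AddCommGroup N] [Module A N] [Module.Finite A N]
    (h : ∀ P ∈ associatedPrimes A N, P.IsMaximal) : IsFiniteLength A N := by
  rw [isFiniteLength_iff_isNoetherian_isArtinian]
  refine ⟨inferInstance, ?_⟩
  have hdim : Ring.KrullDimLE 0 (A ⧸ Module.annihilator A N) := by
    rw [Ring.krullDimLE_zero_iff]
    intro Q hQ
    have hQ' : (Q.comap (Ideal.Quotient.mk (Module.annihilator A N))).IsPrime := hQ.comap _
    have hle : Module.annihilator A N ≤ Q.comap (Ideal.Quotient.mk (Module.annihilator A N)) := by
      intro a ha
      rw [Ideal.mem_comap, Ideal.Quotient.eq_zero_iff_mem.mpr ha]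
      exact Q.zero_mem
    obtain ⟨P, hP, hPle⟩ := Ideal.exists_minimalPrimes_le hle
    have hPmax : P.IsMaximal :=
      h P (Module.associatedPrimes.minimalPrimes_annihilator_subset_associatedPrimes A N hP)
    have heq : Q.comap (Ideal.Quotient.mk (Module.annihilator A N)) = P :=
      (hPmax.eq_of_le hQ'.ne_top hPle).symm
    apply Ideal.isMaximal_of_isIntegral_of_isMaximal_comap (R := A) Q
    convert hPmax using 1
    exact heq
  have : IsNoetherianRing (A ⧸ Module.annihilator A N) :=
    isNoetherianRing_of_surjective A _ (Ideal.Quotient.mk _) Ideal.Quotient.mk_surjective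
  have : IsArtinianRing (A ⧸ Module.annihilator A N) :=
    IsNoetherianRing.isArtinianRing_of_krullDimLE_zero
  let _ : Module (A ⧸ Module.annihilator A N) N := Module.quotientAnnihilator
  have : IsScalarTower A (A ⧸ Module.annihilator A N) N :=
    Module.IsTorsionBySet.isScalarTower (Module.isTorsionBySet_annihilator A N)
  have : Module.Finite (A ⧸ Module.annihilator A N) N :=
    Module.Finite.of_restrictScalars_finite A (A ⧸ Module.annihilator A N) N
  have : IsArtinian (A ⧸ Module.annihilator A N) N := inferInstance
  exact isArtinian_of_surjective_algebraMap (S := A) (R := A ⧸ Module.annihilator A N)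
    Ideal.Quotient.mk_surjective

theorem isMaximal_of_vars_mem {k : Type*} [Field k] {σ : Type*} (P : Ideal (MvPolynomial σ k))
    (hP : P.IsPrime) (hX : ∀ i, (MvPolynomial.X i : MvPolynomial σ k) ∈ P) : P.IsMaximal := by
  classical
  rw [Ideal.isMaximal_iff]
  refine ⟨(Ideal.ne_top_iff_one _).mp hP.ne_top, ?_⟩
  intro J g hPJ hgP hgJ
  have h1 : g - MvPolynomial.C (MvPolynomial.coeff 0 g) ∈ P := by
    have h2 : g - MvPolynomial.C (MvPolynomial.coeff 0 g) ∈ MvPolynomial.idealOfVars σ k := by
      have h3 := (MvPolynomial.mem_pow_idealOfVars_iff' 1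
        (g - MvPolynomial.C (MvPolynomial.coeff 0 g))).mpr ?_
      · simpa using h3
      · intro x hx
        have hx0 : x = 0 := by
          have : x.degree = 0 := by omega
          exact (Finsupp.degree_eq_zero_iff x).mp this
        subst hx0
        simp
    exact (Ideal.span_le.mpr (by rintro _ ⟨i, rfl⟩; exact hX i)) h2
  have hc : MvPolynomial.coeff 0 g ≠ 0 := by
    intro h0
    apply hgP
    rw [h0, map_zero, sub_zero] at h1
    exact h1
  have h2 : MvPolynomial.C (MvPolynomial.coeff 0 g) ∈ J := by
    have := J.sub_mem hgJ (hPJ h1)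
    simpa using this
  have h3 : (1 : MvPolynomial σ k) =
      MvPolynomial.C (MvPolynomial.coeff 0 g)⁻¹ * MvPolynomial.C (MvPolynomial.coeff 0 g) := by
    rw [← MvPolynomial.C_mul, inv_mul_cancel₀ hc, MvPolynomial.C_1]
  rw [h3]
  exact J.mul_mem_left _ h2

/-- Let k be an infinite field, S = k[x_0, …, x_r], M a finitely generated S-module and d a natural
number. Then some nonzero homogeneous polynomial f of degree d is quasi-regular on M: the submodule
(0 :_M f) of elements of M annihilated by f has finite length. (The published statement assumes M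
graded; this row assumes only that M is finitely generated.) -/
theorem result (k : Type u) [Field k] [Infinite k] (r d : ℕ)
    (M : Type u) [AddCommGroup M] [Module (MvPolynomial (Fin (r + 1)) k) M] [Module.Finite (MvPolynomial (Fin (r + 1)) k) M] :
    ∃ f : MvPolynomial (Fin (r + 1)) k, f.IsHomogeneous d ∧ f ≠ 0 ∧
      IsFiniteLength (MvPolynomial (Fin (r + 1)) k) ↥(Submodule.torsionBy (MvPolynomial (Fin (r + 1)) k) M f) := by
  classical
  let H : Submodule k (MvPolynomial (Fin (r + 1)) k) :=
    MvPolynomial.homogeneousSubmodule (Fin (r + 1)) k d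
  have hfinAss : (associatedPrimes (MvPolynomial (Fin (r + 1)) k) M).Finite :=
    associatedPrimes.finite _ M
  let Pset : Set (Ideal (MvPolynomial (Fin (r + 1)) k)) :=
    {P | P ∈ associatedPrimes (MvPolynomial (Fin (r + 1)) k) M ∧ ¬ P.IsMaximal}
  have hPsfin : Pset.Finite := hfinAss.subset (fun P hP => hP.1)
  have : Finite Pset := hPsfin.to_subtype
  let W : Option Pset → Submodule k H := fun o => match o with
    | none => ⊥
    | some P => Submodule.comap H.subtype ((P : Ideal (MvPolynomial (Fin (r + 1)) k)).restrictScalars k)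
  have hXH : ∀ i, (MvPolynomial.X i : MvPolynomial (Fin (r + 1)) k) ^ d ∈ H :=
    fun i => MvPolynomial.isHomogeneous_X_pow i d
  have hW : ∀ o, W o ≠ ⊤ := by
    intro o
    cases o with
    | none =>
      intro h
      have hx : (⟨MvPolynomial.X 0 ^ d, hXH 0⟩ : H) ∈ (⊥ : Submodule k H) := by
        rw [show (⊥ : Submodule k H) = ⊤ from h]
        trivial
      rw [Submodule.mem_bot] at hx
      have := congrArg Subtype.val hx
      simp at this
    | some P =>
      intro h
      have hP := P.2
      have hprime : (P : Ideal (MvPolynomial (Fin (r + 1)) k)).IsPrime := hP.1.isPrime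
      apply hP.2
      apply isMaximal_of_vars_mem _ hprime
      intro i
      have hmem : (⟨MvPolynomial.X i ^ d, hXH i⟩ : H) ∈ W (some P) := by
        rw [h]
        trivial
      exact hprime.mem_of_pow_mem d hmem
  have hne : ⋃ o, (W o : Set H) ≠ Set.univ := fun h => by
    obtain ⟨o, ho⟩ := Subspace.exists_eq_top_of_iUnion_eq_univ h
    exact hW o ho
  obtain ⟨f, hf⟩ := (Set.ne_univ_iff_exists_notMem _).mp hne
  rw [Set.mem_iUnion, not_exists] at hf
  refine ⟨f, f.2, ?_, ?_⟩
  · intro h0
    apply hf none
    show f ∈ (⊥ : Submodule k H)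
    rw [Submodule.mem_bot]
    exact Subtype.ext h0
  · have hN : IsNoetherian (MvPolynomial (Fin (r + 1)) k) M := inferInstance
    apply finiteLength_of_ass_max
    intro P hP
    by_contra hmax
    have hPM : P ∈ associatedPrimes (MvPolynomial (Fin (r + 1)) k) M :=
      associatedPrimes.subset_of_injective
        (f := (Submodule.torsionBy (MvPolynomial (Fin (r + 1)) k) M (f : MvPolynomial (Fin (r + 1)) k)).subtype)
        (Submodule.injective_subtype _) hP
    have hfP : (f : MvPolynomial (Fin (r + 1)) k) ∈ P := by
      obtain ⟨_, n, hn⟩ := isAssociatedPrime_iff.mp hP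
      rw [hn, Submodule.mem_colon_singleton, Submodule.mem_bot]
      apply Subtype.ext
      rw [Submodule.coe_smul, Submodule.coe_zero]
      exact (Submodule.mem_torsionBy_iff _ _).mp n.2
    exact hf (some ⟨P, hPM, hmax⟩) hfP

end Groth.Agent.S12916
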