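import Groth.Statements.S12918
import Groth.Agent.Lib.Helper57.HomComod
import Groth.Agent.Lib.Helper96.Integral

set_option autoImplicit false
universe u v w
open HopfRep

namespace Groth.Agent.S12918

open TensorProduct Groth.Agent.Lib.Helper96 Groth.Agent.Lib.Helper57.HomComod

section Aux

variable {k : Type u} [CommRing k] {A : Type v} [CommRing A] [HopfAlgebra k A]
  {B : Type w} [CommRing B] [Algebra k B] [cB : HopfRep.Comod k A B] [GLin.IsCoactAlg k A B]

omit [GLin.IsCoactAlg k A B] in
theorem theta_eq (b : B) (a : A) :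
    theta cB (b ⊗ₜ[k] a) = rho k A B b * ((1 : B) ⊗ₜ[k] a) := by
  rw [theta_tmul]
  change (LinearMap.mulRight k a).lTensor B (rho k A B b) = _
  generalize rho k A B b = y
  induction y using TensorProduct.induction_on with
  | zero => simp
  | tmul b' x => simp [Algebra.TensorProduct.tmul_mul_tmul]
  | add y₁ y₂ e₁ e₂ => simp only [map_add, e₁, e₂, add_mul]

variable (α : A →ₗ[k] B)

/-- the retraction `b ⊗ a ↦ Σ b₀ α(S(b₁) a)` on the plain tensor product -/
noncomputable def lam0 : B ⊗[k] A →ₗ[k] B :=
  LinearMap.mul' k B ∘ₗ α.lTensor B ∘ₗ theta' cB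

omit [GLin.IsCoactAlg k A B] in
theorem lam0_theta (z : B ⊗[k] A) :
    lam0 α (theta cB z) = LinearMap.mul' k B (α.lTensor B z) := by
  simp only [lam0, LinearMap.comp_apply]
  rw [theta'_theta]

omit [GLin.IsCoactAlg k A B] in
theorem lam0_rho (h1 : α 1 = 1) (b : B) : lam0 α (rho k A B b) = b := by
  simp only [lam0, LinearMap.comp_apply]
  change LinearMap.mul' k B (α.lTensor B (theta' cB (cB.coact b))) = b
  rw [theta'_coact]
  simp [h1]

omit [GLin.IsCoactAlg k A B] in
theorem key (y : B ⊗[k] A) (w : A ⊗[k] A) :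
    (lam0 α).rTensor A ((rho k A B).rTensor A y * (TensorProduct.assoc k B A A).symm
        ((1 : B) ⊗ₜ[k] w)) = y * α.rTensor A w := by
  induction y using TensorProduct.induction_on with
  | zero => simp
  | tmul b' x =>
    induction w using TensorProduct.induction_on with
    | zero => simp
    | tmul a₁ a₂ =>
      simp only [LinearMap.rTensor_tmul, TensorProduct.assoc_symm_tmul,
        Algebra.TensorProduct.tmul_mul_tmul]
      rw [← theta_eq, lam0_theta]
      simp
    | add w₁ w₂ e₁ e₂ =>
      rw [TensorProduct.tmul_add, map_add, mul_add, map_add, e₁, e₂, map_add, mul_add]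
  | add y₁ y₂ e₁ e₂ => simp only [map_add, add_mul, e₁, e₂]

omit cB [GLin.IsCoactAlg k A B] in
theorem assoc_symm_mul (u v : B ⊗[k] (A ⊗[k] A)) :
    (TensorProduct.assoc k B A A).symm (u * v) =
      (TensorProduct.assoc k B A A).symm u * (TensorProduct.assoc k B A A).symm v := by
  apply (TensorProduct.assoc k B A A).injective
  rw [assoc_mul]
  simp

theorem comod_lam0 (hα : Hoch.IsComodHom A α) (x : B ⊗[k] A) :
    rho k A B (lam0 α x) = (lam0 α).rTensor A (Hoch.Ind.coactAux k A B x) := by
  rw [← theta_theta' cB x]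
  generalize theta' cB x = z
  induction z using TensorProduct.induction_on with
  | zero => simp
  | tmul b a =>
    have hαa : rho k A B (α a) = α.rTensor A (Coalgebra.comul (R := k) a) :=
      LinearMap.congr_fun hα a
    rw [lam0_theta, LinearMap.lTensor_tmul, LinearMap.mul'_apply, rho_mul, hαa, theta_eq]
    simp only [Hoch.Ind.coactAux, LinearMap.comp_apply, LinearEquiv.coe_coe]
    rw [lTensor_comul_mul, ← assoc_rho_rho, LinearMap.lTensor_tmul, assoc_symm_mul,
      LinearEquiv.symm_apply_apply, key]
  | add z₁ z₂ e₁ e₂ => simp only [map_add, e₁, e₂]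

end Aux

/-- Let `k` be a commutative ring, `A` a commutative Hopf algebra over `k`, flat as a `k`-module and `B`
a commutative `k`-algebra with a coaction `ρ : B → B ⊗ A` that is an algebra map (an action of the
affine group scheme `Spec A` on `Spec B`). Then the action admits a total integral — a comodule map
`α : A → B`, for the regular coaction on `A`, with `α 1 = 1` — if and only if `ρ` has a left inverse
`B ⊗ A → B` which is a comodule map for the coaction `id ⊗ Δ` on `B ⊗ A`. -/
theorem result
    (k : Type u) [CommRing k] (A : Type v) [CommRing A] [HopfAlgebra k A] [Module.Flat k A]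
    (B : Type w) [CommRing B] [Algebra k B] [HopfRep.Comod k A B] [GLin.IsCoactAlg k A B] :
    (∃ α : A →ₗ[k] B, Hoch.IsComodHom A α ∧ α 1 = 1) ↔
      ∃ lam : Hoch.Ind k A B →ₗ[k] B, Hoch.IsComodHom A lam ∧ lam ∘ₗ Hoch.toInd k A B = LinearMap.id := by
  constructor
  · rintro ⟨α, hα, h1⟩
    refine ⟨lam0 α ∘ₗ (Hoch.Ind.equiv k A B).symm.toLinearMap, ?_, ?_⟩
    · apply LinearMap.ext
      intro x
      exact comod_lam0 α hα ((Hoch.Ind.equiv k A B).symm x)
    · apply LinearMap.ext
      intro b
      exact lam0_rho α h1 b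
  · rintro ⟨lam, hlam, hid⟩
    refine ⟨lam ∘ₗ (Hoch.Ind.equiv k A B).toLinearMap ∘ₗ TensorProduct.mk k B A 1, ?_, ?_⟩
    · apply LinearMap.ext
      intro a
      have h := LinearMap.congr_fun hlam (Hoch.Ind.equiv k A B ((1 : B) ⊗ₜ[k] a))
      simp only [LinearMap.comp_apply] at h
      simp only [LinearMap.comp_apply, LinearEquiv.coe_coe, TensorProduct.mk_apply]
      rw [h, Hoch.Ind.coact_equiv_tmul]
      set lam' : B ⊗[k] A →ₗ[k] B := lam ∘ₗ (Hoch.Ind.equiv k A B).toLinearMap with hlam'
      change lam'.rTensor A ((TensorProduct.assoc k B A A).symm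
        ((1 : B) ⊗ₜ[k] Coalgebra.comul (R := k) a)) =
        (lam' ∘ₗ TensorProduct.mk k B A 1).rTensor A (Coalgebra.comul (R := k) a)
      generalize Coalgebra.comul (R := k) a = w
      induction w using TensorProduct.induction_on with
      | zero => simp
      | tmul x y => simp
      | add w₁ w₂ e₁ e₂ =>
        rw [TensorProduct.tmul_add, map_add, map_add, e₁, e₂, map_add]
    · have h := LinearMap.congr_fun hid (1 : B)
      simp only [LinearMap.comp_apply, Hoch.toInd, LinearEquiv.coe_coe, LinearMap.id_apply] at h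
      rw [GLin.IsCoactAlg.coact_one (k := k) (A := A) (R := B), Algebra.TensorProduct.one_def] at h
      simpa using h

end Groth.Agent.S12918
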