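import Groth.Statements.S12923
import Groth.Agent.Lib.Helper99.TotalIntegral
-- import your own Groth.Agent.* helpers here

set_option autoImplicit false
universe u v w
open HopfRep

namespace Groth.Agent.S12923

/-- Let `k` be a commutative ring, `A` a commutative Hopf algebra over `k`, flat as a `k`-module, `B` a
commutative `k`-algebra with a coaction of `A` that is an algebra map and admits a total integral (a
comodule map `α : A → B` with `α 1 = 1`), `C = B^A`, and `b` an ideal of `B` which is a subcomodule
(a closed subscheme of `Spec B` stable under the action). Then the image of `V(b)` under `Spec B →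
Spec C` is the closed set `V(b ∩ C)`. (The published statement assumes only that taking invariants
is exact on `(B, A)`-modules; a total integral, assumed here, gives that exactness.) -/
theorem result
    (k : Type u) [CommRing k] (A : Type v) [CommRing A] [HopfAlgebra k A] [Module.Flat k A]
    (B : Type w) [CommRing B] [Algebra k B] [HopfRep.Comod k A B] [GLin.IsCoactAlg k A B]
    (htame : ∃ α : A →ₗ[k] B, Hoch.IsComodHom A α ∧ α 1 = 1)
    (b : Ideal B) (hb : HopfRep.IsSubcomod (k := k) (A := A) (b.restrictScalars k)) :
    PrimeSpectrum.comap (algebraMap (GLin.invariants k A B) B) '' PrimeSpectrum.zeroLocus (b : Set B) =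
      PrimeSpectrum.zeroLocus ((b.comap (algebraMap (GLin.invariants k A B) B) : Ideal (GLin.invariants k A B)) : Set (GLin.invariants k A B)) := by
  obtain ⟨α, hα, h1⟩ := htame
  set f := algebraMap (GLin.invariants k A B) B with hf
  apply Set.Subset.antisymm
  · rintro _ ⟨q, hq, rfl⟩
    rw [PrimeSpectrum.mem_zeroLocus] at hq ⊢
    intro x hx
    exact hq hx
  · intro p hp
    rw [PrimeSpectrum.mem_zeroLocus] at hp
    let mk := Ideal.Quotient.mk b
    let f' : GLin.invariants k A B →+* B ⧸ b := mk.comp f
    have key : (p.asIdeal.map f').comap f' = p.asIdeal := by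
      apply le_antisymm
      · intro x hx
        have hx1 : mk (f x) ∈ (p.asIdeal.map f).map mk := by
          rw [Ideal.map_map]
          exact Ideal.mem_comap.mp hx
        have hx2 : f x ∈ ((p.asIdeal.map f).map mk).comap mk := hx1
        rw [Ideal.comap_map_of_surjective mk Ideal.Quotient.mk_surjective,
          ← RingHom.ker_eq_comap_bot, Ideal.mk_ker] at hx2
        obtain ⟨z, hz, y, hy, hzy⟩ := Submodule.mem_sup.mp hx2
        obtain ⟨c', hc', e⟩ := Groth.Agent.Lib.Helper99.reynolds_map_mem α hα p.asIdeal z hz
        have hy1 := Groth.Agent.Lib.Helper99.reynolds_mem_of_isSubcomod α b hb y hy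
        have hy2 := Groth.Agent.Lib.Helper99.reynolds_mem α hα y
        let y' : GLin.invariants k A B := ⟨_, hy2⟩
        have hy' : y' ∈ p.asIdeal := hp (show y' ∈ b.comap f from hy1)
        have hx' : Groth.Agent.Lib.Helper99.reynolds α (f x) = f x :=
          Groth.Agent.Lib.Helper99.reynolds_apply_of_mem α h1 _ x.2
        have : x = c' + y' := by
          apply Subtype.ext
          change f x = f c' + Groth.Agent.Lib.Helper99.reynolds α y
          rw [← e, ← map_add, hzy, hx']
        rw [this]
        exact p.asIdeal.add_mem hc' hy'
      · exact Ideal.le_comap_map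
    obtain ⟨q', hq', hq'p⟩ := (Ideal.comap_map_eq_self_iff_of_isPrime p.asIdeal).mp key
    refine ⟨⟨q'.comap mk, inferInstance⟩, ?_, ?_⟩
    · rw [PrimeSpectrum.mem_zeroLocus]
      intro x hx
      change mk x ∈ q'
      have : mk x = 0 := Ideal.Quotient.eq_zero_iff_mem.mpr hx
      rw [this]
      exact q'.zero_mem
    · apply PrimeSpectrum.ext
      change (q'.comap mk).comap f = p.asIdeal
      rw [Ideal.comap_comap]
      exact hq'p

end Groth.Agent.S12923
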