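import Groth.Statements.S12926
import Mathlib.LinearAlgebra.Projection
-- import your own Groth.Agent.* helpers here

set_option autoImplicit false
universe u v
open HopfRep

namespace Groth.Agent.S12926

/-- Let `k` be a commutative ring and `A` a commutative bialgebra over `k`, flat as a `k`-module. If the
submodule `k · 1` of the regular comodule `A` has a complement `H` which is a subcomodule — the case
used when `A` is cosemisimple, i.e. every subcomodule of every comodule is a direct summand as a
comodule — then the trivial action of `Spec A` on `Spec k` is tame: there is a comodule map `α : A →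
k`, for the regular coaction on `A` and the trivial coaction `r ↦ r ⊗ 1` on `k`, with `α 1 = 1`. -/
theorem result
    (k : Type u) [CommRing k] (A : Type v) [CommRing A] [Bialgebra k A] [Module.Flat k A]
    (H : Submodule k A) (hH : HopfRep.IsSubcomod (k := k) (A := A) H)
    (hc : IsCompl (Submodule.span k {(1 : A)}) H) :
    ∃ α : A →ₗ[k] k, @Hoch.IsComodHom k _ A _ _ _ A _ _ _ k _ _ (HopfRep.Comod.trivial k A k) α ∧ α 1 = 1 := by
  let P := Submodule.span k {(1 : A)}
  let π : A →ₗ[k] P := Submodule.linearProjOfIsCompl P H hc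
  let α : A →ₗ[k] k := Coalgebra.counit ∘ₗ P.subtype ∘ₗ π
  have h1P : (1 : A) ∈ P := Submodule.subset_span rfl
  have hα1 : α 1 = 1 := by
    change Coalgebra.counit ((π 1 : P) : A) = 1
    have : π 1 = ⟨1, h1P⟩ := Submodule.linearProjOfIsCompl_apply_left hc ⟨1, h1P⟩
    rw [this]
    exact Bialgebra.counit_one
  have hαH : ∀ h ∈ H, α h = 0 := by
    intro h hh
    change Coalgebra.counit ((π h : P) : A) = 0
    have : π h = 0 := (Submodule.linearProjOfIsCompl_apply_eq_zero_iff hc).mpr hh
    rw [this]
    simp
  refine ⟨α, ?_, hα1⟩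
  unfold Hoch.IsComodHom
  apply LinearMap.ext
  intro x
  change (TensorProduct.mk k k A).flip 1 (α x) = LinearMap.rTensor A α (Coalgebra.comul x)
  have hx : x ∈ P ⊔ H := by rw [hc.sup_eq_top]; trivial
  obtain ⟨p, hp, h, hh, rfl⟩ := Submodule.mem_sup.mp hx
  obtain ⟨c, rfl⟩ := Submodule.mem_span_singleton.mp hp
  have e2 : LinearMap.rTensor A α (Coalgebra.comul h) = 0 := by
    obtain ⟨y, hy⟩ := hH h hh
    have hy' : LinearMap.rTensor A H.subtype y = Coalgebra.comul h := hy
    rw [← hy', ← LinearMap.comp_apply, ← LinearMap.rTensor_comp]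
    have : α ∘ₗ H.subtype = 0 := by
      ext z
      exact hαH z z.2
    rw [this, LinearMap.rTensor_zero, LinearMap.zero_apply]
  simp only [map_add, map_smul]
  rw [e2, hαH h hh, hα1, Bialgebra.comul_one, Algebra.TensorProduct.one_def,
    LinearMap.rTensor_tmul, hα1]
  simp

end Groth.Agent.S12926
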