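import Groth.Statements.S12927
-- import your own Groth.Agent.* helpers here

set_option autoImplicit false
universe u v w
open HopfRep

namespace Groth.Agent.S12927

/-- Let `k` be a commutative ring, `A` a commutative bialgebra over `k`, flat as a `k`-module and `B` a
commutative `k`-algebra with a coaction of `A` that is an algebra map. If the trivial action of
`Spec A` on `Spec k` is tame — there is a comodule map `A → k` to the trivial comodule `k` (coaction
`r ↦ r ⊗ 1`) sending `1` to `1` — then the action on `Spec B` is tame: there is a comodule map `A →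
B` sending `1` to `1`. -/
theorem result
    (k : Type u) [CommRing k] (A : Type v) [CommRing A] [Bialgebra k A] [Module.Flat k A]
    (B : Type w) [CommRing B] [Algebra k B] [HopfRep.Comod k A B] [GLin.IsCoactAlg k A B]
    (htriv : ∃ α₀ : A →ₗ[k] k,
      @Hoch.IsComodHom k _ A _ _ _ A _ _ _ k _ _ (HopfRep.Comod.trivial k A k) α₀ ∧ α₀ 1 = 1) :
    ∃ α : A →ₗ[k] B, Hoch.IsComodHom A α ∧ α 1 = 1 := by
  obtain ⟨α₀, hα₀, h1⟩ := htriv
  refine ⟨Algebra.linearMap k B ∘ₗ α₀, ?_, ?_⟩
  · -- comodule map
    have h := hα₀
    unfold Hoch.IsComodHom at h ⊢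
    -- h : coact_triv ∘ α₀ = α₀.rTensor A ∘ comul
    have hB : (HopfRep.Comod.coact (k := k) (A := A) : B →ₗ[k] TensorProduct k B A) ∘ₗ
        Algebra.linearMap k B
        = (Algebra.linearMap k B).rTensor A ∘ₗ (TensorProduct.mk k k A).flip 1 := by
      ext
      simp [GLin.IsCoactAlg.coact_one (k := k) (A := A) (R := B),
        Algebra.TensorProduct.one_def]
    rw [← LinearMap.comp_assoc, hB, LinearMap.comp_assoc]
    have h' : (TensorProduct.mk k k A).flip 1 ∘ₗ α₀ =
        α₀.rTensor A ∘ₗ HopfRep.Comod.coact (k := k) (A := A) := h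
    rw [h', ← LinearMap.comp_assoc, ← LinearMap.rTensor_comp]
  · simp [h1]

end Groth.Agent.S12927
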