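import Groth.Statements.S12929
-- import your own Groth.Agent.* helpers here

set_option autoImplicit false
universe u v w w'
open HopfRep

namespace Groth.Agent.S12929

section
open TensorProduct

variable (k : Type u) [CommRing k] (A : Type v) [CommRing A] [HopfAlgebra k A]
  (M : Type w) [AddCommGroup M] [Module k M] [HopfRep.Comod k A M]
  (N : Type w') [AddCommGroup N] [Module k N]

/-- conjugating `h ⊗ id` by the associator -/
theorem assoc_conj (h : M →ₗ[k] N) :
    (TensorProduct.assoc k N A A).symm.toLinearMap ∘ₗ h.rTensor (A ⊗[k] A) ∘ₗ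
      (TensorProduct.assoc k M A A).toLinearMap = (h.rTensor A).rTensor A := by
  ext m a b
  simp

/-- the map `(id ⊗ ε) ⊗ id` after the cofree coaction is the identity -/
theorem counit_coact_ind :
    ((TensorProduct.rid k N).toLinearMap ∘ₗ
        (Coalgebra.counit (R := k) (A := A)).lTensor N).rTensor A ∘ₗ
      Hoch.Ind.coactAux k A N = LinearMap.id := by
  refine TensorProduct.ext' fun n a => ?_
  simp only [LinearMap.comp_apply, Hoch.Ind.coactAux_tmul, LinearMap.id_apply]
  have h := Coalgebra.rTensor_counit_comul (R := k) a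
  have key2 : ∀ y : A ⊗[k] A,
      (((TensorProduct.rid k N).toLinearMap ∘ₗ
        (Coalgebra.counit (R := k) (A := A)).lTensor N).rTensor A)
        ((TensorProduct.assoc k N A A).symm (n ⊗ₜ[k] y))
      = n ⊗ₜ[k] (TensorProduct.lid k A) ((Coalgebra.counit (R := k) (A := A)).rTensor A y) := by
    intro y
    induction y using TensorProduct.induction_on with
    | zero => simp
    | tmul a b =>
      simp only [TensorProduct.assoc_symm_tmul, LinearMap.rTensor_tmul, LinearMap.comp_apply,
        LinearMap.lTensor_tmul, LinearEquiv.coe_coe, TensorProduct.rid_tmul,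
        TensorProduct.lid_tmul]
      rw [TensorProduct.smul_tmul]
    | add y₁ y₂ h₁ h₂ =>
      rw [TensorProduct.tmul_add, map_add, map_add, h₁, h₂, map_add, map_add,
        TensorProduct.tmul_add]
  rw [key2, h]
  simp

end

/-- Let `k` be a commutative ring, `A` a commutative Hopf algebra over `k`, `M` a right `A`-comodule and
`N` a `k`-module; give `N ⊗ A` the coaction `id ⊗ Δ`. Then for every `k`-linear map `h : M → N` the
composite `(h ⊗ id_A) ∘ ρ_M : M → N ⊗ A` is a comodule map, and every comodule map `f : M → N ⊗ A`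
is of this form for exactly one `h` (which is `(id_N ⊗ ε) ∘ f`): comodule maps `M → N ⊗ A`
correspond bijectively to linear maps `M → N`. -/
theorem result
    (k : Type u) [CommRing k] (A : Type v) [CommRing A] [HopfAlgebra k A]
    (M : Type w) [AddCommGroup M] [Module k M] [HopfRep.Comod k A M]
    (N : Type w') [AddCommGroup N] [Module k N] :
    (∀ h : M →ₗ[k] N, Hoch.IsComodHom A
        ((Hoch.Ind.equiv k A N).toLinearMap ∘ₗ h.rTensor A ∘ₗ HopfRep.Comod.coact (k := k) (A := A))) ∧
      ∀ f : M →ₗ[k] Hoch.Ind k A N, Hoch.IsComodHom A f →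
        ∃! h : M →ₗ[k] N,
          f = (Hoch.Ind.equiv k A N).toLinearMap ∘ₗ h.rTensor A ∘ₗ HopfRep.Comod.coact (k := k) (A := A) := by
  have hcoassoc := HopfRep.Comod.coassoc (k := k) (A := A) (V := M)
  have hcounit := HopfRep.Comod.counit_comp (k := k) (A := A) (V := M)
  refine ⟨?_, ?_⟩
  · intro h
    unfold Hoch.IsComodHom
    change Hoch.Ind.coactAux k A N ∘ₗ (h.rTensor A ∘ₗ HopfRep.Comod.coact (k := k) (A := A))
      = (h.rTensor A ∘ₗ HopfRep.Comod.coact (k := k) (A := A)).rTensor A ∘ₗ
        HopfRep.Comod.coact (k := k) (A := A)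
    rw [LinearMap.rTensor_comp, ← assoc_conj k A M N h]
    unfold Hoch.Ind.coactAux
    have e1 : (Coalgebra.comul (R := k) (A := A)).lTensor N ∘ₗ h.rTensor A
        = h.rTensor (TensorProduct k A A) ∘ₗ (Coalgebra.comul (R := k) (A := A)).lTensor M := by
      rw [LinearMap.lTensor_comp_rTensor, LinearMap.rTensor_comp_lTensor]
    apply LinearMap.ext
    intro m
    have h1 := LinearMap.congr_fun e1 (HopfRep.Comod.coact (k := k) (A := A) m)
    have h2 := LinearMap.congr_fun hcoassoc m
    simp only [LinearMap.comp_apply] at h1 h2 ⊢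
    rw [h1, ← h2]
  · intro f hf
    let f' : M →ₗ[k] TensorProduct k N A := f
    have hf' : Hoch.Ind.coactAux k A N ∘ₗ f'
        = f'.rTensor A ∘ₗ HopfRep.Comod.coact (k := k) (A := A) := hf
    let h₀ : M →ₗ[k] N := ((TensorProduct.rid k N).toLinearMap ∘ₗ
        (Coalgebra.counit (R := k) (A := A)).lTensor N) ∘ₗ f'
    have hmain : f' = h₀.rTensor A ∘ₗ HopfRep.Comod.coact (k := k) (A := A) := by
      have : h₀.rTensor A = ((TensorProduct.rid k N).toLinearMap ∘ₗ
          (Coalgebra.counit (R := k) (A := A)).lTensor N).rTensor A ∘ₗ f'.rTensor A := by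
        rw [← LinearMap.rTensor_comp]
      rw [this, LinearMap.comp_assoc, ← hf', ← LinearMap.comp_assoc, counit_coact_ind,
        LinearMap.id_comp]
    refine ⟨h₀, ?_, ?_⟩
    · apply LinearMap.ext
      intro m
      exact LinearMap.congr_fun hmain m
    · intro h' hh'
      have hh'' : f' = h'.rTensor A ∘ₗ HopfRep.Comod.coact (k := k) (A := A) := by
        apply LinearMap.ext
        intro m
        exact LinearMap.congr_fun hh' m
      apply LinearMap.ext
      intro m
      change h' m = (TensorProduct.rid k N)
        ((Coalgebra.counit (R := k) (A := A)).lTensor N (f' m))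
      rw [hh'', LinearMap.comp_apply, ← LinearMap.comp_apply (f := LinearMap.lTensor N _),
        LinearMap.lTensor_comp_rTensor, ← LinearMap.rTensor_comp_lTensor, LinearMap.comp_apply]
      have := LinearMap.congr_fun hcounit m
      simp only [LinearMap.comp_apply] at this
      rw [this]
      simp

end Groth.Agent.S12929
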