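import Groth.Statements.S12931
import Mathlib.Algebra.BigOperators.Pi
import Mathlib.Tactic

set_option autoImplicit false
universe u v w
open HopfRep

namespace Groth.Agent.S12931

/-- Let `R` be a commutative ring, `Γ` a finite set and `T` a commutative `R`-algebra which is
connected: nonzero, with no idempotents other than `0` and `1`. Then `γ ↦ (evaluation at γ : (Γ → R)
→ R → T)` is a bijection from `Γ` onto the `R`-algebra maps `(Γ → R) → T`: every such map sends
exactly one of the indicator functions to `1` and the others to `0`. (Only the bijection of sets is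
stated; when `Γ` is a group, the compatibility with the group structures on both sides is not.) -/
theorem result
    (R : Type u) [CommRing R] (Γ : Type v) [Finite Γ]
    (T : Type w) [CommRing T] [Algebra R T] [Nontrivial T]
    (hT : ∀ e : T, IsIdempotentElem e → e = 0 ∨ e = 1) :
    Function.Bijective (fun γ : Γ => (Algebra.ofId R T).comp (Pi.evalAlgHom R (fun _ : Γ => R) γ)) := by
  classical
  cases nonempty_fintype Γ
  constructor
  · intro γ γ' h
    by_contra hne
    have h1 := DFunLike.congr_fun h (Pi.single γ (1 : R))
    simp only [AlgHom.comp_apply, Pi.evalAlgHom_apply, Pi.single_eq_same,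
      Pi.single_eq_of_ne' hne, map_one, map_zero] at h1
    exact one_ne_zero h1
  · intro φ
    -- the idempotents
    let e : Γ → T := fun γ => φ (Pi.single γ 1)
    have he_idem : ∀ γ, IsIdempotentElem (e γ) := by
      intro γ
      change φ _ * φ _ = φ _
      rw [← map_mul, ← Pi.single_mul, mul_one]
    have he_orth : ∀ γ γ', γ ≠ γ' → e γ * e γ' = 0 := by
      intro γ γ' hne
      change φ _ * φ _ = 0
      rw [← map_mul]
      have : (Pi.single γ (1 : R) * Pi.single γ' (1 : R) : Γ → R) = 0 := by
        ext x
        by_cases hx : x = γ
        · subst hx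
          simp [Pi.single_eq_of_ne hne]
        · simp [Pi.single_eq_of_ne hx]
      rw [this, map_zero]
    have he_sum : ∑ γ, e γ = 1 := by
      change ∑ γ, φ (Pi.single γ 1) = 1
      rw [← map_sum]
      have : (∑ γ, Pi.single γ (1 : R) : Γ → R) = 1 := by
        ext x
        simp [Finset.sum_apply, Pi.single_apply]
      rw [this, map_one]
    have hex : ∃ γ₀, e γ₀ = 1 := by
      by_contra hcon
      push Not at hcon
      have : ∀ γ, e γ = 0 := fun γ => (hT _ (he_idem γ)).resolve_right (hcon γ)
      simp only [this, Finset.sum_const_zero] at he_sum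
      exact zero_ne_one he_sum
    obtain ⟨γ₀, hγ₀⟩ := hex
    have hother : ∀ γ, γ ≠ γ₀ → e γ = 0 := by
      intro γ hne
      have := he_orth γ γ₀ hne
      rwa [hγ₀, mul_one] at this
    refine ⟨γ₀, ?_⟩
    ext f
    have hf : f = ∑ γ, f γ • Pi.single γ (1 : R) := by
      ext x
      simp [Finset.sum_apply, Pi.single_apply]
    simp only [AlgHom.comp_apply, Pi.evalAlgHom_apply]
    conv_rhs => rw [hf, map_sum]
    simp only [map_smul]
    rw [Finset.sum_eq_single γ₀]
    · change _ = f γ₀ • e γ₀
      rw [hγ₀, Algebra.ofId_apply, Algebra.algebraMap_eq_smul_one]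
    · intro γ _ hne
      change f γ • e γ = 0
      rw [hother γ hne, smul_zero]
    · intro h
      exact absurd (Finset.mem_univ _) h

end Groth.Agent.S12931
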