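import Groth.Statements.S12932
import Mathlib.RingTheory.Invariant.Basic
import Mathlib.LinearAlgebra.LinearIndependent.Basic
import Mathlib.RingTheory.Ideal.GoingUp
import Mathlib.GroupTheory.Coset.Basic
import Mathlib.Tactic
-- import your own Groth.Agent.* helpers here

set_option autoImplicit false
universe u v
open scoped BigOperators
open InvTh

namespace Groth.Agent.S12932

section coset

variable {G : Type*} [Group G] (H : Subgroup G)

/-- `(q, h) ↦ out q * h` -/
noncomputable def cosetEquiv : (G ⧸ H) × H ≃ G where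
  toFun x := Quotient.out x.1 * x.2
  invFun g := (QuotientGroup.mk g, ⟨(Quotient.out (QuotientGroup.mk g : G ⧸ H))⁻¹ * g, by
    rw [← QuotientGroup.eq]; exact QuotientGroup.out_eq' _⟩)
  left_inv := by
    rintro ⟨q, h⟩
    have h1 : (QuotientGroup.mk (Quotient.out q * (h : G)) : G ⧸ H) = q := by
      rw [QuotientGroup.mk_mul_of_mem _ h.2, QuotientGroup.out_eq']
    ext
    · exact h1
    · simp only [h1]
      simp
  right_inv := fun g => by simp

lemma sum_eq_card_nsmul {M : Type*} [AddCommMonoid M] [Fintype G] [Fintype (G ⧸ H)] [Fintype H]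
    (f : G → M) (hf : ∀ g : G, ∀ h ∈ H, f (g * h) = f g) :
    ∑ g, f g = Nat.card H • ∑ q : G ⧸ H, f (Quotient.out q) := by
  rw [← (cosetEquiv H).sum_comp, Fintype.sum_prod_type, Finset.smul_sum]
  refine Finset.sum_congr rfl (fun q _ => ?_)
  have : ∀ h : H, f (cosetEquiv H (q, h)) = f (Quotient.out q) := fun h => hf _ _ h.2
  simp only [this, Finset.sum_const, Finset.card_univ, Nat.card_eq_fintype_card]

end coset

section

variable (B : Type u) [CommRing B] (Γ : Type v) [Group Γ] [MulSemiringAction Γ B] (P : Ideal B)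

/-- decomposition group -/
def decomp : Subgroup Γ where
  carrier := {γ | ∀ y : B, y ∈ P ↔ γ • y ∈ P}
  one_mem' := fun y => by simp
  mul_mem' := fun {a b} ha hb y => by
    rw [mul_smul]
    exact (hb y).trans (ha _)
  inv_mem' := fun {a} ha y => by
    have := ha (a⁻¹ • y)
    rw [smul_inv_smul] at this
    exact this.symm

lemma exists_trace_notMem [Fintype Γ] [P.IsMaximal]
    (hT : ((Nat.card (P.inertia Γ) : ℕ) : B ⧸ P) ≠ 0) : ∃ b : B, ∑ γ : Γ, γ • b ∉ P := by
  classical
  have hPprime : P.IsPrime := Ideal.IsMaximal.isPrime ‹_›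
  set D := decomp B Γ P with hD
  set T := P.inertia Γ with hT'
  have hTD : T ≤ D := by
    intro t ht y
    have h1 : t • y - y ∈ P := ht y
    constructor
    · intro hy
      have := P.add_mem h1 hy
      simpa using this
    · intro hy
      have := P.sub_mem hy h1
      simpa using this
  -- step 1: for γ ∉ D there is q with γ • q ∈ P, q ∉ P
  have hq : ∀ γ : Γ, γ ∉ D → ∃ q : B, γ • q ∈ P ∧ q ∉ P := by
    intro γ hγ
    by_contra hcon
    push Not at hcon
    apply hγ
    let Q : Ideal B := Ideal.comap (MulSemiringAction.toRingEquiv Γ B γ) P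
    have hQmax : Q.IsMaximal := Ideal.comap_isMaximal_of_equiv _
    have hle : Q ≤ P := fun q hq => hcon q hq
    have heq : Q = P := hQmax.eq_of_le (Ideal.IsMaximal.ne_top ‹_›) hle
    intro y
    constructor
    · intro hy
      have : y ∈ Q := by rw [heq]; exact hy
      exact this
    · intro hy
      exact hcon y hy
  choose! q hq1 hq2 using hq
  let S : Finset Γ := Finset.univ.filter (fun γ => γ ∉ D)
  let w₀ : B := ∏ γ ∈ S, q γ
  have hw₀P : w₀ ∉ P := by
    intro h
    rw [Ideal.IsPrime.prod_mem_iff] at h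
    obtain ⟨γ, hγ, hγP⟩ := h
    exact hq2 γ (by simpa [S] using hγ) hγP
  have hw₀ : ∀ γ : Γ, γ ∉ D → γ • w₀ ∈ P := by
    intro γ hγ
    rw [show γ • w₀ = ∏ γ' ∈ S, γ • q γ' from Finset.smul_prod' ..]
    rw [Ideal.IsPrime.prod_mem_iff]
    exact ⟨γ, by simpa [S] using hγ, hq1 γ hγ⟩
  -- step 2: w with w - 1 ∈ P and γ • w ∈ P for γ ∉ D
  obtain ⟨w, hw1, hw2⟩ : ∃ w : B, w - 1 ∈ P ∧ ∀ γ : Γ, γ ∉ D → γ • w ∈ P := by
    have hsup : P ⊔ Ideal.span {w₀} = ⊤ := by
      apply (Ideal.IsMaximal.out (I := P)).2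
      rw [lt_iff_le_and_ne]
      refine ⟨le_sup_left, fun heq => hw₀P ?_⟩
      rw [heq]
      exact Ideal.mem_sup_right (Ideal.mem_span_singleton_self w₀)
    have h1 : (1 : B) ∈ P ⊔ Ideal.span {w₀} := by rw [hsup]; trivial
    rw [Submodule.mem_sup] at h1
    obtain ⟨a, ha, y, hy, hay⟩ := h1
    rw [Ideal.mem_span_singleton'] at hy
    obtain ⟨r, rfl⟩ := hy
    refine ⟨r * w₀, ?_, fun γ hγ => ?_⟩
    · have : r * w₀ - 1 = -a := by rw [← hay]; ring
      rw [this]
      exact P.neg_mem ha
    · rw [smul_mul']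
      exact P.mul_mem_left _ (hw₀ γ hγ)
  -- characters
  let χ : Γ → (B →* B ⧸ P) := fun γ =>
    { toFun := fun b => Ideal.Quotient.mk P (γ • b)
      map_one' := by simp
      map_mul' := fun a b => by simp [smul_mul'] }
  have hχ : ∀ γ b, χ γ b = Ideal.Quotient.mk P (γ • b) := fun _ _ => rfl
  let QD : Finset (Γ ⧸ T) := Finset.univ.filter (fun q => Quotient.out q ∈ D)
  have hinj : Set.InjOn (fun q : Γ ⧸ T => χ (Quotient.out q)) QD := by
    intro q hq q' hq' heq
    have hq : Quotient.out q ∈ D := by simpa [QD] using hq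
    have hq' : Quotient.out q' ∈ D := by simpa [QD] using hq'
    have hmem : (Quotient.out q')⁻¹ * Quotient.out q ∈ T := by
      intro b
      have h1 : Quotient.out q • b - Quotient.out q' • b ∈ P := by
        have := DFunLike.congr_fun heq b
        simp only [hχ] at this
        exact Ideal.Quotient.eq.mp this
      have h2 := ((D.inv_mem hq') _).1 h1
      simpa [smul_sub, mul_smul] using h2
    calc q = QuotientGroup.mk (Quotient.out q) := (QuotientGroup.out_eq' q).symm
      _ = QuotientGroup.mk (Quotient.out q') := (QuotientGroup.eq.mpr hmem).symm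
      _ = q' := QuotientGroup.out_eq' q'
  have h1mem : (QuotientGroup.mk 1 : Γ ⧸ T) ∈ QD := by
    simp only [QD, Finset.mem_filter, Finset.mem_univ, true_and]
    apply hTD
    have := QuotientGroup.out_eq' (QuotientGroup.mk 1 : Γ ⧸ T)
    rw [QuotientGroup.eq] at this
    simpa using T.inv_mem this
  haveI : IsDomain (B ⧸ P) := Ideal.Quotient.isDomain P
  obtain ⟨β, hβ⟩ : ∃ β : B, ∑ q ∈ QD, χ (Quotient.out q) β ≠ 0 := by
    by_contra hcon
    push Not at hcon
    have hli := linearIndependent_monoidHom B (B ⧸ P)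
    rw [linearIndependent_iff'] at hli
    have := hli (QD.image (fun q => χ (Quotient.out q))) (fun _ => 1) ?_ _
      (Finset.mem_image_of_mem _ h1mem)
    · exact one_ne_zero this
    · refine (Finset.sum_image hinj).trans ?_
      ext b
      simp [hcon b]
  refine ⟨β * w, fun hmem => ?_⟩
  set b₀ := β * w with hb₀
  let f : Γ → B ⧸ P := fun γ => Ideal.Quotient.mk P (γ • b₀)
  have hfD : ∀ γ ∈ D, f γ = χ γ β := by
    intro γ hγ
    simp only [f, hχ, hb₀, smul_mul', map_mul]
    have : Ideal.Quotient.mk P (γ • w) = 1 := by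
      rw [← map_one (Ideal.Quotient.mk P), Ideal.Quotient.eq]
      have : γ • w - 1 = γ • (w - 1) := by rw [smul_sub, smul_one]
      rw [this]
      exact (hγ _).1 hw1
    rw [this, mul_one]
  have hfnD : ∀ γ ∉ D, f γ = 0 := by
    intro γ hγ
    simp only [f, hb₀, smul_mul', map_mul]
    rw [Ideal.Quotient.eq_zero_iff_mem.mpr (hw2 γ hγ), mul_zero]
  have hfT : ∀ γ : Γ, ∀ t ∈ T, f (γ * t) = f γ := by
    intro γ t ht
    by_cases hγ : γ ∈ D
    · simp only [f]
      rw [Ideal.Quotient.eq, mul_smul, ← smul_sub]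
      exact (hγ _).1 (ht b₀)
    · have : γ * t ∉ D := fun h => hγ (by simpa using D.mul_mem h (D.inv_mem (hTD ht)))
      rw [hfnD _ hγ, hfnD _ this]
  have hsum : Ideal.Quotient.mk P (∑ γ : Γ, γ • b₀) =
      (Nat.card T) • ∑ q ∈ QD, χ (Quotient.out q) β := by
    rw [map_sum]
    change ∑ γ, f γ = _
    rw [sum_eq_card_nsmul T f hfT]
    congr 1
    rw [← Finset.sum_filter_add_sum_filter_not Finset.univ
      (fun q : Γ ⧸ T => Quotient.out q ∈ D)]
    rw [Finset.sum_eq_zero (s := Finset.univ.filter (fun q : Γ ⧸ T => ¬ Quotient.out q ∈ D))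
      (fun q hq => hfnD _ (by simpa using hq)), add_zero]
    exact Finset.sum_congr rfl (fun q hq => hfD _ (by simpa [QD] using hq))
  rw [← Ideal.Quotient.eq_zero_iff_mem, hsum, nsmul_eq_mul] at hmem
  rcases mul_eq_zero.mp hmem with h | h
  · exact hT h
  · exact hβ h

end

/-- Let `B` be a commutative ring with an action of a finite group `Γ` by ring automorphisms, and call a
prime ideal `P` of `B` tame when the order of its inertia group `{γ | γ • x - x ∈ P for all x}` is
not divisible by the characteristic of `B/P` (its ramification group is trivial). Then every prime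
of `B` is tame if and only if the trace `b ↦ Σ_γ γ • b`, which takes values in the invariant ring
`B^Γ` and is `B^Γ`-linear, is onto `B^Γ` — equivalently, some element of `B` has trace `1`. -/
theorem result
    (B : Type u) [CommRing B] (Γ : Type v) [Group Γ] [Fintype Γ] [MulSemiringAction Γ B] :
    (∃ b : B, ∑ γ : Γ, γ • b = 1) ↔
      ∀ P : Ideal B, P.IsPrime → ((Nat.card (P.inertia Γ) : ℕ) : B ⧸ P) ≠ 0 := by
  classical
  constructor
  · rintro ⟨b, hb⟩ P hP hzero
    haveI : IsDomain (B ⧸ P) := Ideal.Quotient.isDomain P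
    set T := P.inertia Γ with hT
    let f : Γ → B ⧸ P := fun γ => Ideal.Quotient.mk P (γ⁻¹ • b)
    have hfT : ∀ γ : Γ, ∀ t ∈ T, f (γ * t) = f γ := by
      intro γ t ht
      simp only [f, mul_inv_rev, mul_smul]
      rw [Ideal.Quotient.eq]
      exact T.inv_mem ht _
    have h1 : ∑ γ, f γ = 1 := by
      rw [← map_one (Ideal.Quotient.mk P), ← hb, map_sum]
      exact Fintype.sum_equiv (Equiv.inv Γ) _ _ (fun γ => rfl)
    rw [sum_eq_card_nsmul T f hfT, nsmul_eq_mul, hzero, zero_mul] at h1
    exact zero_ne_one h1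
  · intro h
    let A := FixedPoints.subring B Γ
    haveI : Algebra.IsInvariant A B Γ := ⟨fun b hb => ⟨⟨b, hb⟩, rfl⟩⟩
    haveI : Algebra.IsIntegral A B := Algebra.IsInvariant.isIntegral A B Γ
    have htr : ∀ b : B, ∑ γ : Γ, γ • b ∈ A := by
      intro b g
      rw [Finset.smul_sum]
      exact Fintype.sum_equiv (Equiv.mulLeft g) _ _ (fun γ => by simp [mul_smul])
    let J : Ideal A :=
      { carrier := {a | ∃ b : B, ∑ γ : Γ, γ • b = (a : B)}
        add_mem' := by
          rintro a a' ⟨b, hb⟩ ⟨b', hb'⟩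
          exact ⟨b + b', by simp [smul_add, Finset.sum_add_distrib, hb, hb']⟩
        zero_mem' := ⟨0, by simp⟩
        smul_mem' := by
          rintro c a ⟨b, hb⟩
          refine ⟨(c : B) * b, ?_⟩
          have : ∀ γ : Γ, γ • ((c : B) * b) = (c : B) * γ • b := fun γ => by
            rw [smul_mul', c.2 γ]
          simp only [this, ← Finset.mul_sum, hb]
          rfl }
    by_contra hne
    have hJ : J ≠ ⊤ := by
      intro htop
      apply hne
      have : (1 : A) ∈ J := by rw [htop]; trivial
      obtain ⟨b, hb⟩ := this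
      exact ⟨b, by simpa using hb⟩
    obtain ⟨n, hn, hJn⟩ := Ideal.exists_le_maximal J hJ
    obtain ⟨P, hPmax, hPn⟩ := Ideal.exists_ideal_over_maximal_of_isIntegral (S := B) n (by
      have : RingHom.ker (algebraMap A B) = ⊥ :=
        (RingHom.injective_iff_ker_eq_bot _).mp Subtype.val_injective
      rw [this]
      exact bot_le)
    obtain ⟨b, hb⟩ := exists_trace_notMem B Γ P (h P hPmax.isPrime)
    apply hb
    have : (⟨∑ γ : Γ, γ • b, htr b⟩ : A) ∈ n := hJn ⟨b, rfl⟩
    rw [← hPn] at this
    exact this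

end Groth.Agent.S12932
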