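import Groth.Statements.S12933
import Mathlib.LinearAlgebra.TensorProduct.Pi
import Mathlib.Tactic

set_option autoImplicit false
universe u v w w'
open TensorProduct
open InvTh

namespace Groth.Agent.S12933

/-- Let `R` be a commutative ring, `B` a commutative `R`-algebra with an action of a finite group `Γ` by
`R`-algebra automorphisms, and `R'` a flat commutative `R`-algebra; let `Γ` act on `R' ⊗_R B`
through the factor `B`. Then an element of `R' ⊗_R B` is fixed by every element of `Γ` if and only
if it lies in the `R'`-submodule spanned by the tensors `1 ⊗ b` with `b ∈ B^Γ`: taking invariants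
commutes with flat base change (the map `R' ⊗_R B^Γ → R' ⊗_R B` being moreover injective by
flatness). -/
theorem result
    (R : Type u) [CommRing R] (B : Type v) [CommRing B] [Algebra R B]
    (Γ : Type w) [Group Γ] [Finite Γ] [MulSemiringAction Γ B] [SMulCommClass Γ R B]
    (R' : Type w') [CommRing R'] [Algebra R R'] [Module.Flat R R']
    (x : R' ⊗[R] B) :
    (∀ γ : Γ, Algebra.TensorProduct.map (AlgHom.id R R') (MulSemiringAction.toAlgHom R B γ) x = x) ↔
      x ∈ Submodule.span R' ((fun b : B => (1 : R') ⊗ₜ[R] b) '' {b : B | ∀ γ : Γ, γ • b = b}) := by
  classical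
  cases nonempty_fintype Γ
  let act : Γ → (B →ₗ[R] B) := fun γ => (MulSemiringAction.toAlgHom R B γ).toLinearMap
  have hact : ∀ γ (y : R' ⊗[R] B),
      Algebra.TensorProduct.map (AlgHom.id R R') (MulSemiringAction.toAlgHom R B γ) y =
        (act γ).lTensor R' y := by
    intro γ y
    induction y using TensorProduct.induction_on with
    | zero => simp
    | tmul r b => simp [act]
    | add y z hy hz => simp only [map_add, hy, hz]
  let d : B →ₗ[R] (Γ → B) := LinearMap.pi (fun γ => act γ - LinearMap.id)
  have hker : ∀ b : B, b ∈ LinearMap.ker d ↔ ∀ γ : Γ, γ • b = b := by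
    intro b
    rw [LinearMap.mem_ker]
    constructor
    · intro h γ
      have := congrFun h γ
      simpa [d, act, sub_eq_zero] using this
    · intro h
      ext γ
      simp [d, act, h γ]
  have hexact : Function.Exact (LinearMap.ker d).subtype d := LinearMap.exact_subtype_ker_map d
  have hexact' := Module.Flat.lTensor_exact R' hexact
  constructor
  · intro hx
    have hdx : (d.lTensor R') x = 0 := by
      apply (TensorProduct.piRight R R R' (fun _ : Γ => B)).injective
      rw [map_zero]
      ext γ
      have hcomp : ∀ y : R' ⊗[R] B,
          (TensorProduct.piRight R R R' (fun _ : Γ => B)) ((d.lTensor R') y) γ =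
            (act γ).lTensor R' y - y := by
        intro y
        induction y using TensorProduct.induction_on with
        | zero => simp
        | tmul r b => simp [d, tmul_sub]
        | add y z hy hz =>
          simp only [map_add, Pi.add_apply, hy, hz]
          abel
      rw [hcomp, ← hact, hx γ, sub_self]
      rfl
    obtain ⟨z, rfl⟩ := (hexact' x).1 hdx
    clear hx hdx
    induction z using TensorProduct.induction_on with
    | zero => simp
    | tmul r b =>
      have : ((LinearMap.ker d).subtype.lTensor R') (r ⊗ₜ[R] b) = r • ((1 : R') ⊗ₜ[R] (b : B)) := by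
        simp [smul_tmul']
      rw [this]
      exact Submodule.smul_mem _ _ (Submodule.subset_span ⟨b, (hker b).1 b.2, rfl⟩)
    | add y z hy hz =>
      rw [map_add]
      exact Submodule.add_mem _ hy hz
  · intro hx γ
    rw [hact]
    induction hx using Submodule.span_induction with
    | mem y hy =>
      obtain ⟨b, hb, rfl⟩ := hy
      simp [act, hb γ]
    | zero => simp
    | add y z _ _ hy hz => rw [map_add, hy, hz]
    | smul r y _ hy =>
      have : ∀ w : R' ⊗[R] B, (act γ).lTensor R' (r • w) = r • (act γ).lTensor R' w := by
        intro w
        induction w using TensorProduct.induction_on with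
        | zero => simp
        | tmul s b => simp [smul_tmul']
        | add y z hy hz => simp only [smul_add, map_add, hy, hz]
      rw [this, hy]

end Groth.Agent.S12933
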