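import Groth.Statements.S12934
import Mathlib.RingTheory.RootsOfUnity.Basic
import Mathlib.GroupTheory.SpecificGroups.Cyclic
import Mathlib.Algebra.CharP.Lemmas
import Mathlib.RingTheory.LocalRing.ResidueField.Basic
import Mathlib.Tactic
-- import your own Groth.Agent.* helpers here

set_option autoImplicit false
universe u v
open InvTh

namespace Groth.Agent.S12934

/-- Let `B` be a local commutative ring with maximal ideal `m` and residue field `k`, and `Γ` a finite
group acting faithfully on `B` by ring automorphisms, such that every element of `Γ` acts trivially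
modulo `m` (the whole group is inertia) and maps each principal ideal of `B` into itself (every
ideal is stable). Let `S ⊆ Γ` be the set of `γ` with `γ b ∈ b + b m` for all `b`. Then: if `k` has
characteristic `0`, `S = {1}`; if `k` has characteristic `p > 0`, `S` is (the underlying set of) a
Sylow `p`-subgroup; every commutator of `Γ` lies in `S`, so `Γ/S` is abelian; and whenever the class
of `γ` in `Γ/S` has order `n` (`γ^n ∈ S`, no smaller positive power in `S`), `k` contains a
primitive `n`-th root of unity. (The published statement also bounds the number of generators of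
`Γ/S` by the number of generators of the monoid of principal ideals; that clause is not included.) -/
theorem result
    (B : Type u) [CommRing B] [IsLocalRing B]
    (Γ : Type v) [Group Γ] [Finite Γ] [MulSemiringAction Γ B] [FaithfulSMul Γ B]
    (hin : ∀ (γ : Γ) (b : B), γ • b - b ∈ IsLocalRing.maximalIdeal B)
    (hst : ∀ (γ : Γ) (b : B), ∃ u : B, γ • b = b * u)
    (S : Set Γ)
    (hS : ∀ γ : Γ, γ ∈ S ↔ ∀ b : B, ∃ x ∈ IsLocalRing.maximalIdeal B, γ • b = b + b * x) :
    (ringChar (IsLocalRing.ResidueField B) = 0 → S = {1}) ∧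
      (∀ (p : ℕ) [Fact p.Prime], ringChar (IsLocalRing.ResidueField B) = p →
        ∃ Q : Sylow p Γ, (Q : Set Γ) = S) ∧
      (∀ γ δ : Γ, γ * δ * γ⁻¹ * δ⁻¹ ∈ S) ∧
      (∀ (γ : Γ) (n : ℕ), 0 < n → γ ^ n ∈ S → (∀ i : ℕ, 0 < i → i < n → γ ^ i ∉ S) →
        ∃ ζ : IsLocalRing.ResidueField B, IsPrimitiveRoot ζ n) := by
  classical
  set m := IsLocalRing.maximalIdeal B with hm
  let r : B →+* IsLocalRing.ResidueField B := IsLocalRing.residue B
  have hr0 : ∀ z : B, r z = 0 ↔ z ∈ m := fun z => IsLocalRing.residue_eq_zero_iff z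
  -- Lemma A
  have hA : ∀ b z : B, b ≠ 0 → b * z = 0 → z ∈ m := by
    intro b z hb hbz
    by_contra hz
    have hu : IsUnit z := by
      by_contra hnu
      exact hz ((IsLocalRing.mem_maximalIdeal z).mpr hnu)
    obtain ⟨v, rfl⟩ := hu
    exact hb (by simpa using hbz)
  have hA' : ∀ b u u' : B, b ≠ 0 → b * u = b * u' → r u = r u' := by
    intro b u u' hb h
    have : b * (u - u') = 0 := by rw [mul_sub, h, sub_self]
    have := (hr0 _).mpr (hA b _ hb this)
    rwa [map_sub, sub_eq_zero] at this
  -- Lemma B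
  have hB : ∀ (γ : Γ) (z : B), r (γ • z) = r z := by
    intro γ z
    have := (hr0 _).mpr (hin γ z)
    rwa [map_sub, sub_eq_zero] at this
  choose u hu using hst
  let θ : Γ → B → IsLocalRing.ResidueField B := fun γ b => r (u γ b)
  have hC : ∀ (γ δ : Γ) (b : B), b ≠ 0 → θ (γ * δ) b = θ γ b * θ δ b := by
    intro γ δ b hb
    have h1 : b * u (γ * δ) b = b * (u γ b * γ • u δ b) := by
      rw [← hu, mul_smul, hu δ b, smul_mul', hu γ b, mul_assoc]
    have := hA' b _ _ hb h1
    simp only [θ]
    rw [this, map_mul, hB]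
  have hD : ∀ b : B, b ≠ 0 → θ 1 b = 1 := by
    intro b hb
    have h1 : b * u 1 b = b * 1 := by rw [← hu, one_smul, mul_one]
    have := hA' b _ _ hb h1
    simpa [θ] using this
  have hE : ∀ γ : Γ, γ ∈ S ↔ ∀ b : B, b ≠ 0 → θ γ b = 1 := by
    intro γ
    rw [hS]
    constructor
    · intro h b hb
      obtain ⟨x, hx, hxb⟩ := h b
      have h1 : b * u γ b = b * (1 + x) := by rw [← hu, hxb]; ring
      have := hA' b _ _ hb h1
      simp only [θ]
      rw [this, map_add, map_one, (hr0 x).mpr hx, add_zero]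
    · intro h b
      by_cases hb : b = 0
      · exact ⟨0, m.zero_mem, by simp [hb]⟩
      · refine ⟨u γ b - 1, ?_, ?_⟩
        · rw [← hr0, map_sub, map_one, sub_eq_zero]
          exact h b hb
        · rw [hu]; ring
  have hpow : ∀ (γ : Γ) (n : ℕ) (b : B), b ≠ 0 → θ (γ ^ n) b = (θ γ b) ^ n := by
    intro γ n b hb
    induction n with
    | zero => simpa using hD b hb
    | succ n ih => rw [pow_succ, hC _ _ _ hb, ih, pow_succ]
  have hinv : ∀ (γ : Γ) (b : B), b ≠ 0 → θ γ b * θ γ⁻¹ b = 1 := by
    intro γ b hb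
    rw [← hC _ _ _ hb, mul_inv_cancel, hD b hb]
  -- S as a subgroup
  let Ssub : Subgroup Γ :=
    { carrier := S
      one_mem' := (hE 1).mpr hD
      mul_mem' := fun {a b} ha hb => (hE _).mpr (fun c hc => by
        rw [hC _ _ _ hc, (hE a).mp ha c hc, (hE b).mp hb c hc, one_mul])
      inv_mem' := fun {a} ha => (hE _).mpr (fun c hc => by
        have := hinv a c hc
        rwa [(hE a).mp ha c hc, one_mul] at this) }
  -- Lemma F
  have hF : ∀ (γ : Γ) (n : ℕ), γ ∈ S → γ ^ n = 1 →
      ((n : ℕ) : IsLocalRing.ResidueField B) ≠ 0 → γ = 1 := by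
    intro γ n hγ hn hnk
    apply FaithfulSMul.eq_of_smul_eq_smul (α := B)
    intro b
    rw [one_smul]
    set c := γ • b - b with hc
    have hpowS : ∀ j : ℕ, γ ^ j ∈ S := fun j => Ssub.pow_mem hγ j
    have hy : ∀ j : ℕ, ∃ y ∈ m, γ ^ j • c = c + c * y := fun j => (hS _).mp (hpowS j) c
    choose y hym hyc using hy
    have htel : ∀ i : ℕ, γ ^ i • b = b + ∑ j ∈ Finset.range i, γ ^ j • c := by
      intro i
      induction i with
      | zero => simp
      | succ i ih =>
        rw [Finset.sum_range_succ, ← add_assoc, ← ih, pow_succ, mul_smul]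
        have : γ • b = b + c := by rw [hc]; ring
        rw [this, smul_add]
    have h0 : c * ((n : B) + ∑ j ∈ Finset.range n, y j) = 0 := by
      have h1 := htel n
      rw [hn, one_smul] at h1
      have h2 : ∑ j ∈ Finset.range n, γ ^ j • c = 0 := left_eq_add.mp h1
      simp only [hyc] at h2
      rw [Finset.sum_add_distrib, Finset.sum_const, Finset.card_range, ← Finset.mul_sum,
        nsmul_eq_mul] at h2
      rw [mul_add, mul_comm c (n : B)]
      exact h2
    have hc0 : c = 0 := by
      by_contra hne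
      have h1 := hA c _ hne h0
      have h2 : ∑ j ∈ Finset.range n, y j ∈ m := m.sum_mem (fun j _ => hym j)
      have h3 : (n : B) ∈ m := by
        have := m.sub_mem h1 h2
        simpa using this
      apply hnk
      have := (hr0 _).mpr h3
      simpa using this
    exact sub_eq_zero.mp hc0
  refine ⟨?_, ?_, ?_, ?_⟩
  · intro h0
    haveI : CharP (IsLocalRing.ResidueField B) 0 := h0 ▸ ringChar.charP _
    ext γ
    simp only [Set.mem_singleton_iff]
    constructor
    · intro hγ
      refine hF γ (orderOf γ) hγ (pow_orderOf_eq_one γ) ?_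
      rw [Ne, CharP.cast_eq_zero_iff (IsLocalRing.ResidueField B) 0]
      simpa using (orderOf_pos γ).ne'
    · rintro rfl
      exact Ssub.one_mem
  · intro p hp hchar
    haveI : CharP (IsLocalRing.ResidueField B) p := hchar ▸ ringChar.charP _
    refine ⟨{ toSubgroup := Ssub, isPGroup' := ?_, is_maximal' := ?_ }, rfl⟩
    · rintro ⟨γ, hγ⟩
      obtain ⟨a, n', hn', hord⟩ :=
        Nat.exists_eq_pow_mul_and_not_dvd (orderOf_pos γ).ne' p hp.out.ne_one
      refine ⟨a, Subtype.ext ?_⟩
      simp only [SubmonoidClass.coe_pow, Subgroup.coe_one]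
      refine hF (γ ^ p ^ a) n' (Ssub.pow_mem hγ _) ?_ ?_
      · rw [← pow_mul, ← hord, pow_orderOf_eq_one]
      · rw [Ne, CharP.cast_eq_zero_iff (IsLocalRing.ResidueField B) p]
        exact hn'
    · intro Q hQ hle
      apply le_antisymm _ hle
      intro γ hγ
      obtain ⟨a, ha⟩ := hQ ⟨γ, hγ⟩
      have ha' : γ ^ p ^ a = 1 := by simpa using congrArg Subtype.val ha
      show γ ∈ S
      rw [hE]
      intro b hb
      have h1 : (θ γ b) ^ p ^ a = 1 := by rw [← hpow _ _ _ hb, ha', hD b hb]
      have h2 : (θ γ b - 1) ^ p ^ a = 0 := by rw [sub_pow_char_pow, h1, one_pow, sub_self]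
      exact sub_eq_zero.mp ((pow_eq_zero_iff (pow_ne_zero _ hp.out.ne_zero)).mp h2)
  · intro γ δ
    rw [hE]
    intro b hb
    rw [hC _ _ _ hb, hC _ _ _ hb, hC _ _ _ hb]
    calc θ γ b * θ δ b * θ γ⁻¹ b * θ δ⁻¹ b = (θ γ b * θ γ⁻¹ b) * (θ δ b * θ δ⁻¹ b) := by ring
      _ = 1 := by rw [hinv _ _ hb, hinv _ _ hb, one_mul]
  · intro γ n hn hγn hmin
    haveI : NeZero n := ⟨hn.ne'⟩
    obtain ⟨g, hg⟩ := IsCyclic.exists_generator (α := rootsOfUnity n (IsLocalRing.ResidueField B))
    set d := orderOf g with hd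
    have hdn : d ∣ n := by
      apply orderOf_dvd_of_pow_eq_one
      exact Subtype.ext (by simpa using (mem_rootsOfUnity n _).mp g.2)
    have hdpos : 0 < d := Nat.pos_of_dvd_of_pos hdn hn
    have hall : ∀ x : rootsOfUnity n (IsLocalRing.ResidueField B), x ^ d = 1 := by
      intro x
      obtain ⟨j, rfl⟩ := Subgroup.mem_zpowers_iff.mp (hg x)
      rw [← zpow_natCast, ← zpow_mul, mul_comm, zpow_mul, zpow_natCast, pow_orderOf_eq_one,
        one_zpow]
    have hγd : γ ^ d ∈ S := by
      rw [hE]
      intro b hb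
      rw [hpow _ _ _ hb]
      let v : (IsLocalRing.ResidueField B)ˣ :=
        ⟨θ γ b, θ γ⁻¹ b, hinv γ b hb, by rw [mul_comm]; exact hinv γ b hb⟩
      have hv : v ∈ rootsOfUnity n (IsLocalRing.ResidueField B) := by
        rw [mem_rootsOfUnity']
        show (θ γ b) ^ n = 1
        rw [← hpow _ _ _ hb]
        exact (hE _).mp hγn b hb
      have h1 := hall ⟨v, hv⟩
      have h2 := congrArg (fun x : rootsOfUnity n (IsLocalRing.ResidueField B) =>
        ((x : (IsLocalRing.ResidueField B)ˣ) : IsLocalRing.ResidueField B)) h1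
      simpa using h2
    have hdn' : d = n := by
      by_contra hne
      exact hmin d hdpos (lt_of_le_of_ne (Nat.le_of_dvd hn hdn) hne) hγd
    refine ⟨((g : (IsLocalRing.ResidueField B)ˣ) : IsLocalRing.ResidueField B), ?_⟩
    rw [IsPrimitiveRoot.coe_units_iff]
    have hord : orderOf (g : (IsLocalRing.ResidueField B)ˣ) = n := by
      rw [Subgroup.orderOf_coe]
      exact hdn'
    exact IsPrimitiveRoot.iff_orderOf.mpr hord

end Groth.Agent.S12934
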