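import Groth.Statements.S12935
import Mathlib.RingTheory.Invariant.Basic

set_option autoImplicit false
universe u v
open InvTh

set_option linter.unusedSectionVars false

namespace Groth.Agent.S12935Aux

open scoped Pointwise

variable {B : Type u} [CommRing B] {Γ : Type v} [Group Γ] [Finite Γ] [MulSemiringAction Γ B]
  (Ω : Subgroup Γ)

instance isInv : Algebra.IsInvariant (FixedPoints.subring B Ω) B Ω :=
  ⟨fun b hb => ⟨⟨b, hb⟩, rfl⟩⟩

theorem mem_fixed (x : B) : x ∈ FixedPoints.subring B Ω ↔ ∀ ω ∈ Ω, ω • x = x := by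
  constructor
  · intro h ω hω; exact h ⟨ω, hω⟩
  · intro h ω; exact h ω ω.2

theorem part1 (P : Ideal B) [P.IsPrime] (γ : Γ)
    (h : ∀ x : B, (∀ ω ∈ Ω, ω • x = x) → (x ∈ P ↔ γ • x ∈ P)) :
    ∃ ω ∈ Ω, ∀ x : B, x ∈ P ↔ (γ * ω) • x ∈ P := by
  let P' : Ideal B := P.comap (MulSemiringAction.toRingHom Γ B γ)
  have hP' : P'.IsPrime := Ideal.comap_isPrime _ _
  have hmem : ∀ x, x ∈ P' ↔ γ • x ∈ P := fun x => Iff.rfl
  have hunder : P.under (FixedPoints.subring B Ω) = P'.under (FixedPoints.subring B Ω) := by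
    ext a
    rw [Ideal.under_def, Ideal.under_def, Ideal.mem_comap, Ideal.mem_comap]
    exact h a.1 ((mem_fixed Ω a.1).mp a.2)
  obtain ⟨ω, hω⟩ := Algebra.IsInvariant.exists_smul_of_under_eq (FixedPoints.subring B Ω) B Ω P P' hunder
  refine ⟨ω.1, ω.2, fun x => ?_⟩
  rw [mul_smul, ← hmem, hω, Ideal.mem_pointwise_smul_iff_inv_smul_mem]
  have : ω⁻¹ • ((ω : Γ) • x) = x := by
    rw [Subgroup.smul_def, ← mul_smul]; simp
  rw [this]


theorem part2 (P : Ideal B) [P.IsPrime] (γ : Γ)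
    (h : ∀ x : B, (∀ ω ∈ Ω, ω • x = x) → γ • x - x ∈ P) :
    ∃ ω ∈ Ω, ∀ x : B, (γ * ω) • x - x ∈ P := by
  -- Step 1: reduce to γ stabilizing P
  have h1 : ∀ x : B, (∀ ω ∈ Ω, ω • x = x) → (x ∈ P ↔ γ • x ∈ P) := by
    intro x hx
    have := h x hx
    constructor
    · intro hxP
      have := P.add_mem this hxP
      rwa [sub_add_cancel] at this
    · intro hγ
      have := P.sub_mem hγ this
      rwa [sub_sub_cancel] at this
  obtain ⟨ω₁, hω₁, hstab⟩ := part1 Ω P γ h1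
  set γ' : Γ := γ * ω₁ with hγ'
  have h' : ∀ x : B, (∀ ω ∈ Ω, ω • x = x) → γ' • x - x ∈ P := by
    intro x hx
    rw [hγ', mul_smul, hx ω₁ hω₁]
    exact h x hx
  -- γ' stabilizes P
  have hstab' : γ' • P = P := by
    ext x
    rw [Ideal.mem_pointwise_smul_iff_inv_smul_mem, hstab (γ'⁻¹ • x), smul_inv_smul]
  -- the automorphism of B ⧸ P induced by γ'
  let σ₀ : (B ⧸ P) ≃ₐ[ℤ ⧸ P.under ℤ] (B ⧸ P) :=
    Ideal.Quotient.stabilizerHom P (P.under ℤ) Γ ⟨γ', hstab'⟩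
  have hσ₀ : ∀ b : B, σ₀ (Ideal.Quotient.mk P b) = Ideal.Quotient.mk P (γ' • b) := fun b => rfl
  let A := FixedPoints.subring B Ω
  let σ : (B ⧸ P) ≃ₐ[A ⧸ P.under A] (B ⧸ P) :=
    AlgEquiv.ofRingEquiv (f := σ₀.toRingEquiv) (by
      intro r
      obtain ⟨a, rfl⟩ := Ideal.Quotient.mk_surjective r
      rw [Ideal.Quotient.algebraMap_mk_of_liesOver]
      show σ₀ (Ideal.Quotient.mk P (a : B)) = _
      rw [hσ₀, Ideal.Quotient.eq]
      exact h' a.1 ((mem_fixed Ω a.1).mp a.2))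
  have hσ : ∀ b : B, σ (Ideal.Quotient.mk P b) = Ideal.Quotient.mk P (γ' • b) := fun b => rfl
  obtain ⟨ω₂, hω₂⟩ := Ideal.Quotient.stabilizerHom_surjective Ω (P.under A) P σ.symm
  refine ⟨ω₁ * (ω₂ : Ω), Ω.mul_mem hω₁ (ω₂ : Ω).2, fun x => ?_⟩
  rw [← mul_assoc, ← hγ', mul_smul, ← Ideal.Quotient.eq, ← hσ]
  have : Ideal.Quotient.mk P (((ω₂ : Ω) : Γ) • x) =
      Ideal.Quotient.stabilizerHom P (P.under A) Ω ω₂ (Ideal.Quotient.mk P x) := rfl
  rw [this, hω₂, AlgEquiv.apply_symm_apply]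

end Groth.Agent.S12935Aux

namespace Groth.Agent.S12935

/-- Let `B` be a commutative ring with an action of a finite group `Γ` by ring automorphisms, `Ω` a
normal subgroup of `Γ`, `B^Ω` the subring of `Ω`-invariants (stable under `Γ`, with the induced
action of `Γ/Ω`), and `P` a prime ideal of `B`. Then (decomposition groups) an element `γ` maps `P ∩
B^Ω` onto itself if and only if `γω` maps `P` onto itself for some `ω ∈ Ω`; and (inertia groups) `γ`
fixes `B^Ω` modulo `P ∩ B^Ω` if and only if `γω` fixes `B` modulo `P` for some `ω ∈ Ω`. In other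
words the decomposition and inertia groups of `P ∩ B^Ω` under `Γ/Ω` are the images of those of `P`.
(The published statement also asserts the same for the ramification groups, the Sylow subgroups of
the inertia groups at the residue characteristic; that clause is not included here.) -/
theorem result
    (B : Type u) [CommRing B] (Γ : Type v) [Group Γ] [Finite Γ] [MulSemiringAction Γ B]
    (Ω : Subgroup Γ) [Ω.Normal] (P : Ideal B) [P.IsPrime] (γ : Γ) :
    ((∀ x : B, (∀ ω ∈ Ω, ω • x = x) → (x ∈ P ↔ γ • x ∈ P)) ↔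
        ∃ ω ∈ Ω, ∀ x : B, x ∈ P ↔ (γ * ω) • x ∈ P) ∧
      ((∀ x : B, (∀ ω ∈ Ω, ω • x = x) → γ • x - x ∈ P) ↔
        ∃ ω ∈ Ω, ∀ x : B, (γ * ω) • x - x ∈ P) := by
  refine ⟨⟨S12935Aux.part1 Ω P γ, ?_⟩, ⟨S12935Aux.part2 Ω P γ, ?_⟩⟩
  · rintro ⟨ω, hω, h⟩ x hx
    have := h x
    rwa [mul_smul, hx ω hω] at this
  · rintro ⟨ω, hω, h⟩ x hx
    have := h x
    rwa [mul_smul, hx ω hω] at this

end Groth.Agent.S12935
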