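import Groth.Statements.S12936
import Mathlib.RingTheory.Ideal.Maps
import Mathlib.RingTheory.Ideal.Operations
import Mathlib.GroupTheory.Coset.Basic
import Mathlib.GroupTheory.GroupAction.Quotient
import Mathlib.Tactic

set_option autoImplicit false
universe u v
open InvTh

namespace Groth.Agent.S12936

section

variable (B : Type u) [CommRing B] (Γ : Type v) [Group Γ] [MulSemiringAction Γ B] (P : Ideal B)

/-- decomposition group -/
def decomp : Subgroup Γ where
  carrier := {γ | ∀ y : B, y ∈ P ↔ γ • y ∈ P}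
  one_mem' := fun y => by simp
  mul_mem' := fun {a b} ha hb y => by
    rw [mul_smul]
    exact (hb y).trans (ha _)
  inv_mem' := fun {a} ha y => by
    have := ha (a⁻¹ • y)
    rw [smul_inv_smul] at this
    exact this.symm

lemma mem_decomp (γ : Γ) : γ ∈ decomp B Γ P ↔ ∀ y : B, y ∈ P ↔ γ • y ∈ P := Iff.rfl

end

/-- Let `B` be a commutative ring with an action of a finite group `Γ` by ring automorphisms and `P` a
maximal ideal of `B`, with decomposition group `D_P = {γ | γP = P}` and decomposition ring `D =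
B^{D_P}`. Then `D = B^Γ + (P ∩ D)`: every element of `B` fixed by `D_P` is congruent modulo `P` to a
`Γ`-invariant element. Hence the residue field of `D` at `P ∩ D` is that of `B^Γ` at `P ∩ B^Γ`; for
an arbitrary prime `P` the same equality of residue fields follows by localising at `P ∩ B^Γ`. (The
published statement prints this residue field as `k(P)`; the proof establishes the equality with the
residue field of `B^Γ` stated here.) -/
theorem result
    (B : Type u) [CommRing B] (Γ : Type v) [Group Γ] [Finite Γ] [MulSemiringAction Γ B]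
    (P : Ideal B) [P.IsMaximal] (x : B)
    (hx : ∀ γ : Γ, (∀ y : B, y ∈ P ↔ γ • y ∈ P) → γ • x = x) :
    ∃ c : B, (∀ γ : Γ, γ • c = c) ∧ x - c ∈ P := by
  classical
  cases nonempty_fintype Γ
  have hPprime : P.IsPrime := Ideal.IsMaximal.isPrime ‹_›
  set D := decomp B Γ P with hD
  -- step 1: for γ ∉ D there is q with γ • q ∈ P, q ∉ P
  have hq : ∀ γ : Γ, γ ∉ D → ∃ q : B, γ • q ∈ P ∧ q ∉ P := by
    intro γ hγ
    by_contra hcon
    push Not at hcon
    -- hcon : ∀ q, γ • q ∈ P → q ∈ P
    apply hγ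
    let Q : Ideal B := Ideal.comap (MulSemiringAction.toRingEquiv Γ B γ) P
    have hQmax : Q.IsMaximal := Ideal.comap_isMaximal_of_equiv _
    have hle : Q ≤ P := fun q hq => hcon q hq
    have heq : Q = P := hQmax.eq_of_le (Ideal.IsMaximal.ne_top ‹_›) hle
    intro y
    constructor
    · intro hy
      have : y ∈ Q := by rw [heq]; exact hy
      exact this
    · intro hy
      exact hcon y hy
  choose! q hq1 hq2 using hq
  let S : Finset Γ := Finset.univ.filter (fun γ => γ ∉ D)
  let w₀ : B := ∏ γ ∈ S, q γ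
  have hw₀P : w₀ ∉ P := by
    intro h
    rw [Ideal.IsPrime.prod_mem_iff] at h
    obtain ⟨γ, hγ, hγP⟩ := h
    exact hq2 γ (by simpa [S] using hγ) hγP
  have hw₀ : ∀ γ : Γ, γ ∉ D → γ • w₀ ∈ P := by
    intro γ hγ
    rw [show γ • w₀ = ∏ γ' ∈ S, γ • q γ' from Finset.smul_prod' ..]
    rw [Ideal.IsPrime.prod_mem_iff]
    exact ⟨γ, by simpa [S] using hγ, hq1 γ hγ⟩
  -- step 2: w with w - 1 ∈ P and γ • w ∈ P for γ ∉ D
  obtain ⟨w, hw1, hw2⟩ : ∃ w : B, w - 1 ∈ P ∧ ∀ γ : Γ, γ ∉ D → γ • w ∈ P := by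
    have hsup : P ⊔ Ideal.span {w₀} = ⊤ := by
      apply (Ideal.IsMaximal.out (I := P)).2
      rw [lt_iff_le_and_ne]
      refine ⟨le_sup_left, fun heq => hw₀P ?_⟩
      rw [heq]
      exact Ideal.mem_sup_right (Ideal.mem_span_singleton_self w₀)
    have h1 : (1 : B) ∈ P ⊔ Ideal.span {w₀} := by rw [hsup]; trivial
    rw [Submodule.mem_sup] at h1
    obtain ⟨a, ha, y, hy, hay⟩ := h1
    rw [Ideal.mem_span_singleton'] at hy
    obtain ⟨r, rfl⟩ := hy
    refine ⟨r * w₀, ?_, fun γ hγ => ?_⟩
    · have : r * w₀ - 1 = -a := by rw [← hay]; ring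
      rw [this]
      exact P.neg_mem ha
    · rw [smul_mul']
      exact P.mul_mem_left _ (hw₀ γ hγ)
  -- step 3: z
  let N : B := ∏ δ : D, (δ : Γ) • w
  let z : B := x * N
  have hN1 : N - 1 ∈ P := by
    rw [← Ideal.Quotient.eq, map_one, map_prod]
    apply Finset.prod_eq_one
    intro δ _
    rw [← map_one (Ideal.Quotient.mk P), Ideal.Quotient.eq]
    have : (δ : Γ) • w - 1 = (δ : Γ) • (w - 1) := by rw [smul_sub, smul_one]
    rw [this]
    exact (δ.2 (w - 1)).1 hw1
  have hzx : x - z ∈ P := by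
    have : x - z = -(x * (N - 1)) := by simp only [z]; ring
    rw [this]
    exact P.neg_mem (P.mul_mem_left _ hN1)
  have hND : ∀ δ' : D, (δ' : Γ) • N = N := by
    intro δ'
    simp only [N]
    rw [Finset.smul_prod']
    refine Fintype.prod_equiv (Equiv.mulLeft δ') _ _ (fun δ => ?_)
    simp [mul_smul]
  have hzD : ∀ δ' : Γ, δ' ∈ D → δ' • z = z := by
    intro δ' hδ'
    simp only [z]
    rw [smul_mul', hx δ' hδ', hND ⟨δ', hδ'⟩]
  have hzP : ∀ γ : Γ, γ ∉ D → γ • z ∈ P := by
    intro γ hγ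
    simp only [z, N]
    rw [smul_mul', Finset.smul_prod']
    apply P.mul_mem_left
    rw [Ideal.IsPrime.prod_mem_iff]
    refine ⟨1, Finset.mem_univ _, ?_⟩
    simpa using hw2 γ hγ
  -- step 4: coset sum
  let c : B := ∑ q : Γ ⧸ D, (Quotient.out q) • z
  have hout : ∀ (g : Γ) (q : Γ ⧸ D), (g * Quotient.out q) • z = (Quotient.out (g • q)) • z := by
    intro g q
    have h1 : (QuotientGroup.mk (Quotient.out (g • q)) : Γ ⧸ D) = QuotientGroup.mk (g * Quotient.out q) := by
      rw [QuotientGroup.out_eq']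
      conv_lhs => rw [← QuotientGroup.out_eq' q]
      rfl
    rw [QuotientGroup.eq] at h1
    have h2 := hzD _ h1
    rw [mul_smul, inv_smul_eq_iff] at h2
    rw [h2]
  refine ⟨c, fun g => ?_, ?_⟩
  · simp only [c]
    rw [Finset.smul_sum]
    simp only [← mul_smul, hout]
    exact Fintype.sum_equiv (MulAction.toPerm g) _ _ (fun q => rfl)
  · have hsplit : c = (Quotient.out (QuotientGroup.mk 1 : Γ ⧸ D)) • z +
        ∑ q ∈ (Finset.univ.erase (QuotientGroup.mk 1 : Γ ⧸ D)), (Quotient.out q) • z := by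
      simp only [c]
      exact (Finset.add_sum_erase _ _ (Finset.mem_univ _)).symm
    have h1 : (Quotient.out (QuotientGroup.mk 1 : Γ ⧸ D)) • z = z := by
      apply hzD
      have := QuotientGroup.out_eq' (QuotientGroup.mk 1 : Γ ⧸ D)
      rw [QuotientGroup.eq] at this
      simpa using D.inv_mem this
    have h2 : ∑ q ∈ (Finset.univ.erase (QuotientGroup.mk 1 : Γ ⧸ D)), (Quotient.out q) • z ∈ P := by
      apply P.sum_mem
      intro q hq
      apply hzP
      intro hmem
      have hne : q ≠ QuotientGroup.mk 1 := (Finset.mem_erase.1 hq).1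
      apply hne
      rw [← QuotientGroup.out_eq' q, QuotientGroup.eq]
      simpa using D.inv_mem hmem
    rw [hsplit, h1]
    have : x - (z + ∑ q ∈ (Finset.univ.erase (QuotientGroup.mk 1 : Γ ⧸ D)), (Quotient.out q) • z) =
        (x - z) - ∑ q ∈ (Finset.univ.erase (QuotientGroup.mk 1 : Γ ⧸ D)), (Quotient.out q) • z := by
      ring
    rw [this]
    exact P.sub_mem hzx h2

end Groth.Agent.S12936
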