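import Groth.Statements.S12937
import Mathlib
import Groth.Agent.S12936

set_option autoImplicit false
universe u v
open InvTh

namespace Groth.Agent.S12937

open Polynomial

section back

variable {B : Type u} [CommRing B] {Γ : Type v} [Group Γ] [Finite Γ] [MulSemiringAction Γ B]
  (P : Ideal B) [P.IsMaximal]

theorem back (x : B) (g : B[X]) (hg : ∀ (i : ℕ) (γ : Γ), γ • g.coeff i = g.coeff i)
    (hsep : (g.map (Ideal.Quotient.mk P)).Separable) (hx : Polynomial.aeval x g ∈ P) :
    ∃ y : B, (∀ γ : Γ, γ ∈ P.inertia Γ → γ • y = y) ∧ x - y ∈ P := by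
  classical
  obtain ⟨T, hT⟩ : ∃ T : Subgroup Γ, T = P.inertia Γ := ⟨_, rfl⟩
  have : Fintype T := Fintype.ofFinite T
  obtain ⟨S, hS⟩ : ∃ S : Subring B, S = FixedPoints.subring B T := ⟨_, rfl⟩
  have hmemS : ∀ b : B, b ∈ S ↔ ∀ t : T, t • b = b := by
    intro b
    rw [hS]
    rfl
  have : Algebra.IsInvariant S B T := ⟨fun b hb => ⟨⟨b, (hmemS b).2 hb⟩, rfl⟩⟩
  have : Algebra.IsIntegral S B := Algebra.IsInvariant.isIntegral S B T
  obtain ⟨Q, hQ⟩ : ∃ Q : Ideal S, Q = P.comap (algebraMap S B) := ⟨_, rfl⟩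
  have hQmax : Q.IsMaximal := by
    rw [hQ]
    exact Ideal.isMaximal_comap_of_isIntegral_of_isMaximal P
  let _ : Field (S ⧸ Q) := Ideal.Quotient.field Q
  let _ : Field (B ⧸ P) := Ideal.Quotient.field P
  let ι : S ⧸ Q →+* B ⧸ P := Ideal.quotientMap P (algebraMap S B) (le_of_eq hQ)
  let _ : Algebra (S ⧸ Q) (B ⧸ P) := ι.toAlgebra
  have hι : ι.comp (Ideal.Quotient.mk Q) = (Ideal.Quotient.mk P).comp (algebraMap S B) :=
    Ideal.quotientMap_comp_mk _
  obtain ⟨gS, hgS⟩ : ∃ gS : S[X], gS.map (algebraMap S B) = g := by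
    have : g ∈ Polynomial.lifts (algebraMap S B) := by
      rw [Polynomial.lifts_iff_coeff_lifts]
      intro n
      exact ⟨⟨g.coeff n, (hmemS _).2 fun t => hg n t⟩, rfl⟩
    exact (Polynomial.mem_lifts _).1 this
  obtain ⟨hS1, hhS⟩ : ∃ hS1 : S[X], hS1.map (algebraMap S B) = MulSemiringAction.charpoly T x := by
    have : MulSemiringAction.charpoly T x ∈ Polynomial.lifts (algebraMap S B) := by
      rw [Polynomial.lifts_iff_coeff_lifts]
      intro n
      exact ⟨⟨_, (hmemS _).2 fun t => MulSemiringAction.smul_coeff_charpoly x n t⟩, rfl⟩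
    exact (Polynomial.mem_lifts _).1 this
  have hmapg : (gS.map (Ideal.Quotient.mk Q)).map ι = g.map (Ideal.Quotient.mk P) := by
    rw [Polynomial.map_map, hι, ← Polynomial.map_map, hgS]
  have hmaph : (hS1.map (Ideal.Quotient.mk Q)).map ι =
      (X - C (Ideal.Quotient.mk P x)) ^ Fintype.card T := by
    rw [Polynomial.map_map, hι, ← Polynomial.map_map, hhS, MulSemiringAction.charpoly_eq,
      Polynomial.map_prod]
    have : ∀ t : T, (X - C (t • x)).map (Ideal.Quotient.mk P) =
        X - C (Ideal.Quotient.mk P x) := by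
      intro t
      rw [Polynomial.map_sub, Polynomial.map_X, Polynomial.map_C]
      congr 2
      rw [Ideal.Quotient.eq]
      have : (t : Γ) ∈ P.inertia Γ := hT ▸ t.2
      exact this x
    simp only [this, Finset.prod_const, Finset.card_univ]
  have hsepE : (gS.map (Ideal.Quotient.mk Q)).Separable := by
    rw [← Polynomial.separable_map ι, hmapg]
    exact hsep
  have hrootg : Polynomial.aeval (Ideal.Quotient.mk P x) (gS.map (Ideal.Quotient.mk Q)) = 0 := by
    rw [Polynomial.aeval_def, ← Polynomial.eval_map]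
    change Polynomial.eval _ ((gS.map (Ideal.Quotient.mk Q)).map ι) = 0
    rw [hmapg, Polynomial.eval_map, Polynomial.eval₂_hom]
    rw [Polynomial.coe_aeval_eq_eval] at hx
    exact Ideal.Quotient.eq_zero_iff_mem.2 hx
  have hrooth : Polynomial.aeval (Ideal.Quotient.mk P x) (hS1.map (Ideal.Quotient.mk Q)) = 0 := by
    rw [Polynomial.aeval_def, ← Polynomial.eval_map]
    change Polynomial.eval _ ((hS1.map (Ideal.Quotient.mk Q)).map ι) = 0
    rw [hmaph]
    have : 0 < Fintype.card T := Fintype.card_pos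
    simp [this.ne']
  have hint : IsIntegral (S ⧸ Q) (Ideal.Quotient.mk P x) := by
    rw [← isAlgebraic_iff_isIntegral]
    exact ⟨_, hsepE.ne_zero, hrootg⟩
  have hm1 : minpoly (S ⧸ Q) (Ideal.Quotient.mk P x) ∣ gS.map (Ideal.Quotient.mk Q) :=
    minpoly.dvd _ _ hrootg
  have hm2 : minpoly (S ⧸ Q) (Ideal.Quotient.mk P x) ∣ hS1.map (Ideal.Quotient.mk Q) :=
    minpoly.dvd _ _ hrooth
  have hmsep : (minpoly (S ⧸ Q) (Ideal.Quotient.mk P x)).Separable := hsepE.of_dvd hm1
  have hdeg : (minpoly (S ⧸ Q) (Ideal.Quotient.mk P x)).natDegree ≤ 1 := by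
    rw [← hmsep.natSepDegree_eq_natDegree, ← Polynomial.natSepDegree_map _ _ ι]
    refine (Polynomial.natSepDegree_le_of_dvd _ _ (Polynomial.map_dvd ι hm2) ?_).trans ?_
    · rw [hmaph]
      exact pow_ne_zero _ (Polynomial.X_sub_C_ne_zero _)
    · rw [hmaph, Polynomial.natSepDegree_X_sub_C_pow]
      split_ifs <;> omega
  have hdeg1 : (minpoly (S ⧸ Q) (Ideal.Quotient.mk P x)).natDegree = 1 :=
    le_antisymm hdeg (minpoly.natDegree_pos hint)
  rw [minpoly.natDegree_eq_one_iff] at hdeg1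
  obtain ⟨e, he⟩ := hdeg1
  obtain ⟨c, rfl⟩ := Ideal.Quotient.mk_surjective e
  refine ⟨(c : B), fun γ hγ => ?_, ?_⟩
  · have := (hmemS (c : B)).1 c.2 ⟨γ, hT ▸ hγ⟩
    exact this
  · rw [← Ideal.Quotient.eq]
    exact he.symm

end back

section inertia

variable {B : Type u} [CommRing B] {G : Type v} [Group G] [Finite G] [MulSemiringAction G B]
  (P : Ideal B) [P.IsPrime]

theorem mem_inertia_of_fixed (γ : G)
    (h : ∀ c : B, (∀ t : G, t ∈ P.inertia G → t • c = c) → γ • c - c ∈ P) :
    γ ∈ P.inertia G := by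
  classical
  intro z
  obtain ⟨T, hT⟩ : ∃ T : Subgroup G, T = P.inertia G := ⟨_, rfl⟩
  have : Fintype T := Fintype.ofFinite T
  obtain ⟨hz, hhz⟩ : ∃ hz : B[X], hz = MulSemiringAction.charpoly T z := ⟨_, rfl⟩
  have hcoef : ∀ n, γ • hz.coeff n - hz.coeff n ∈ P := fun n => h _ (fun t ht => by
    rw [hhz]
    exact MulSemiringAction.smul_coeff_charpoly z n (⟨t, hT ▸ ht⟩ : T))
  have hmap : (γ • hz).map (Ideal.Quotient.mk P) = hz.map (Ideal.Quotient.mk P) := by
    ext n
    rw [Polynomial.coeff_map, Polynomial.coeff_map, Polynomial.coeff_smul, Ideal.Quotient.eq]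
    exact hcoef n
  have hmap2 : hz.map (Ideal.Quotient.mk P) =
      (X - C (Ideal.Quotient.mk P z)) ^ Fintype.card T := by
    rw [hhz, MulSemiringAction.charpoly_eq, Polynomial.map_prod]
    have : ∀ t : T, (X - C (t • z)).map (Ideal.Quotient.mk P) =
        X - C (Ideal.Quotient.mk P z) := by
      intro t
      rw [Polynomial.map_sub, Polynomial.map_X, Polynomial.map_C]
      congr 2
      rw [Ideal.Quotient.eq]
      have : (t : G) ∈ P.inertia G := hT ▸ t.2
      exact this z
    simp only [this, Finset.prod_const, Finset.card_univ]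
  have hroot : (γ • hz).eval (γ • z) = 0 := by
    rw [Polynomial.smul_eval_smul, hhz, MulSemiringAction.eval_charpoly, smul_zero]
  have h2 : ((γ • hz).map (Ideal.Quotient.mk P)).eval (Ideal.Quotient.mk P (γ • z)) = 0 := by
    rw [Polynomial.eval_map, Polynomial.eval₂_hom, hroot, map_zero]
  rw [hmap, hmap2, Polynomial.eval_pow, Polynomial.eval_sub, Polynomial.eval_X,
    Polynomial.eval_C] at h2
  have h3 := pow_eq_zero_iff (Fintype.card_pos (α := T)).ne' |>.1 h2
  rw [sub_eq_zero, Ideal.Quotient.eq] at h3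
  exact h3

end inertia

section unram

variable {R : Type u} [CommRing R] {G : Type v} [Group G] [Finite G] [MulSemiringAction G R]
  (Q : Ideal R)

@[instance_reducible]
noncomputable def quotAct (hstab : ∀ (g : G) (c : R), c ∈ Q → g • c ∈ Q) :
    MulSemiringAction G (R ⧸ Q) where
  smul g := Ideal.quotientMap Q (MulSemiringAction.toRingHom G R g) (fun c hc => hstab g c hc)
  one_smul b := by
    obtain ⟨c, rfl⟩ := Ideal.Quotient.mk_surjective b
    change Ideal.quotientMap Q _ _ (Ideal.Quotient.mk Q c) = _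
    rw [Ideal.quotientMap_mk]
    simp
  mul_smul g h b := by
    obtain ⟨c, rfl⟩ := Ideal.Quotient.mk_surjective b
    change Ideal.quotientMap Q _ _ (Ideal.Quotient.mk Q c) =
      Ideal.quotientMap Q _ _ (Ideal.quotientMap Q _ _ (Ideal.Quotient.mk Q c))
    rw [Ideal.quotientMap_mk, Ideal.quotientMap_mk, Ideal.quotientMap_mk]
    simp [mul_smul]
  smul_zero g := map_zero _
  smul_add g a b := map_add _ _ _
  smul_one g := map_one _
  smul_mul g a b := map_mul _ _ _

variable [Q.IsMaximal]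

theorem unram (hstab : ∀ (g : G) (c : R), c ∈ Q → g • c ∈ Q)
    (hin : ∀ g : G, (∀ c : R, g • c - c ∈ Q) → g = 1) (y : R) :
    ∃ f : R[X], (∀ (i : ℕ) (g : G), g • f.coeff i = f.coeff i) ∧
      (f.map (Ideal.Quotient.mk Q)).Separable ∧ f.eval y ∈ Q := by
  classical
  have : Fintype G := Fintype.ofFinite G
  let _ : MulSemiringAction G (R ⧸ Q) := quotAct Q hstab
  have hact : ∀ (g : G) (c : R),
      g • (Ideal.Quotient.mk Q c) = Ideal.Quotient.mk Q (g • c) := fun g c => rfl
  let _ : Field (R ⧸ Q) := Ideal.Quotient.field Q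
  let χ : G → (R →* R ⧸ Q) := fun g =>
    { toFun := fun b => Ideal.Quotient.mk Q (g • b)
      map_one' := by simp
      map_mul' := fun a b => by simp [smul_mul'] }
  have hχ : ∀ g b, χ g b = Ideal.Quotient.mk Q (g • b) := fun _ _ => rfl
  have hχinj : Function.Injective χ := by
    intro g g' hgg'
    have h1 : g'⁻¹ * g = 1 := hin _ (fun c => by
      have h2 := DFunLike.congr_fun hgg' c
      rw [hχ, hχ, Ideal.Quotient.eq] at h2
      have h3 := hstab g'⁻¹ _ h2
      rw [smul_sub, inv_smul_smul, ← mul_smul] at h3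
      exact h3)
    exact (inv_mul_eq_one.mp h1).symm
  obtain ⟨θ, hθ⟩ : ∃ θ : R, ∑ g : G, χ g θ ≠ 0 := by
    by_contra hcon
    push Not at hcon
    have hli := (linearIndependent_monoidHom R (R ⧸ Q)).comp χ hχinj
    rw [Fintype.linearIndependent_iff] at hli
    have := hli (fun _ => 1) (by
      ext c
      simp [hcon c]) 1
    exact one_ne_zero this
  obtain ⟨fb, hfb⟩ : ∃ fb : (R ⧸ Q)[X], fb = prodXSubSMul G (R ⧸ Q) (Ideal.Quotient.mk Q y) :=
    ⟨_, rfl⟩
  have hlift : ∀ i, ∃ c : R, Ideal.Quotient.mk Q c = fb.coeff i :=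
    fun i => Ideal.Quotient.mk_surjective _
  choose c hc using hlift
  obtain ⟨a, ha⟩ : ∃ a : ℕ → R, a = fun i => ∑ g : G, g • (θ * c i) := ⟨_, rfl⟩
  have ha_inv : ∀ i (g : G), g • a i = a i := by
    intro i g
    rw [ha]
    simp only
    rw [Finset.smul_sum]
    exact Fintype.sum_equiv (Equiv.mulLeft g) _ _ (fun γ => by simp [mul_smul])
  have ha_mk : ∀ i, Ideal.Quotient.mk Q (a i) = (∑ g, χ g θ) * fb.coeff i := by
    intro i
    rw [ha]
    simp only [map_sum]
    rw [Finset.sum_mul]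
    refine Finset.sum_congr rfl (fun g _ => ?_)
    rw [smul_mul', map_mul, ← hact g (c i), hc, hfb, prodXSubSMul.coeff, hχ]
  obtain ⟨f, hf⟩ : ∃ f : R[X], f = ∑ i ∈ Finset.range (fb.natDegree + 1),
      Polynomial.monomial i (a i) := ⟨_, rfl⟩
  have hfcoeff : ∀ i, f.coeff i = if i ≤ fb.natDegree then a i else 0 := by
    intro i
    rw [hf, Polynomial.finsetSum_coeff]
    simp only [Polynomial.coeff_monomial]
    rw [Finset.sum_ite_eq' (Finset.range (fb.natDegree + 1)) i]
    simp only [Finset.mem_range, Nat.lt_succ_iff]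
  have hfmap : f.map (Ideal.Quotient.mk Q) = Polynomial.C (∑ g, χ g θ) * fb := by
    ext i
    rw [Polynomial.coeff_map, hfcoeff, Polynomial.coeff_C_mul]
    split_ifs with h
    · exact ha_mk i
    · rw [map_zero, Polynomial.coeff_eq_zero_of_natDegree_lt (not_le.mp h), mul_zero]
  refine ⟨f, ?_, ?_, ?_⟩
  · intro i g
    rw [hfcoeff]
    split_ifs
    · exact ha_inv i g
    · exact smul_zero g
  · rw [hfmap]
    have hu : IsUnit (∑ g, χ g θ) := isUnit_iff_ne_zero.2 hθ
    refine Polynomial.Separable.unit_mul (Polynomial.isUnit_C.2 hu) ?_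
    rw [hfb, prodXSubSMul]
    exact Polynomial.separable_prod_X_sub_C_iff.2 (MulAction.injective_ofQuotientStabilizer G _)
  · rw [← Ideal.Quotient.eq_zero_iff_mem, ← Polynomial.eval₂_hom, ← Polynomial.eval_map, hfmap,
      Polynomial.eval_mul, hfb, prodXSubSMul.eval, mul_zero]

end unram

section fwd

open Pointwise

variable {B : Type u} [CommRing B] {Γ : Type v} [Group Γ] [Finite Γ] [MulSemiringAction Γ B]
  (P : Ideal B) [P.IsMaximal]

omit [Finite Γ] [P.IsMaximal] in
theorem mem_stabilizer_iff (γ : Γ) :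
    γ ∈ MulAction.stabilizer Γ P ↔ ∀ z : B, z ∈ P ↔ γ • z ∈ P := by
  rw [MulAction.mem_stabilizer_iff]
  constructor
  · intro h z
    rw [← Ideal.smul_mem_pointwise_smul_iff (a := γ) (S := P) (x := z), h]
  · intro h
    ext z
    rw [Ideal.mem_pointwise_smul_iff_inv_smul_mem, h (γ⁻¹ • z), smul_inv_smul]

theorem fwd (x y : B) (hy : ∀ γ : Γ, γ ∈ P.inertia Γ → γ • y = y) (hxy : x - y ∈ P) :
    ∃ g : Polynomial B, (∀ (i : ℕ) (γ : Γ), γ • g.coeff i = g.coeff i) ∧
        (g.map (Ideal.Quotient.mk P)).Separable ∧ Polynomial.aeval x g ∈ P := by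
  classical
  obtain ⟨D, hD⟩ : ∃ D : Subgroup Γ, D = MulAction.stabilizer Γ P := ⟨_, rfl⟩
  have hnorm : (P.inertia D).Normal := by
    subst hD
    infer_instance
  have hDmem : ∀ γ : Γ, γ ∈ D ↔ ∀ z : B, z ∈ P ↔ γ • z ∈ P := by
    intro γ
    rw [hD]
    exact mem_stabilizer_iff P γ
  have : Fintype (P.inertia D) := Fintype.ofFinite _
  obtain ⟨S, hS⟩ : ∃ S : Subring B, S = FixedPoints.subring B (P.inertia D) := ⟨_, rfl⟩
  subst hS
  have : Algebra.IsInvariant (FixedPoints.subring B (P.inertia D)) B (P.inertia D) :=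
    ⟨fun b hb => ⟨⟨b, hb⟩, rfl⟩⟩
  have : Algebra.IsIntegral (FixedPoints.subring B (P.inertia D)) B :=
    Algebra.IsInvariant.isIntegral _ B (P.inertia D)
  obtain ⟨Q, hQ⟩ : ∃ Q : Ideal (FixedPoints.subring B (P.inertia D)),
    Q = P.comap (algebraMap (FixedPoints.subring B (P.inertia D)) B) := ⟨_, rfl⟩
  have hQmax : Q.IsMaximal := by
    rw [hQ]
    exact Ideal.isMaximal_comap_of_isIntegral_of_isMaximal P
  have hQmem : ∀ c : FixedPoints.subring B (P.inertia D), c ∈ Q ↔ (c : B) ∈ P := by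
    intro c
    rw [hQ]
    rfl
  have hsm : ∀ (δ : D) (c : FixedPoints.subring B (P.inertia D)),
      (((QuotientGroup.mk δ : D ⧸ P.inertia D) • c : FixedPoints.subring B (P.inertia D)) : B) =
        (δ : Γ) • (c : B) := fun δ c => rfl
  have hstab : ∀ (g : D ⧸ P.inertia D) (c : FixedPoints.subring B (P.inertia D)),
      c ∈ Q → g • c ∈ Q := by
    intro g c hc
    induction g using QuotientGroup.induction_on with
    | H δ =>
      rw [hQmem] at hc ⊢
      rw [hsm]
      exact ((hDmem δ).1 δ.2 _).1 hc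
  have hin : ∀ g : D ⧸ P.inertia D,
      (∀ c : FixedPoints.subring B (P.inertia D), g • c - c ∈ Q) → g = 1 := by
    intro g hg
    induction g using QuotientGroup.induction_on with
    | H δ =>
      rw [QuotientGroup.eq_one_iff]
      have : P.IsPrime := Ideal.IsMaximal.isPrime ‹_›
      refine mem_inertia_of_fixed P δ (fun c hc => ?_)
      have h1 := hg ⟨c, fun t => hc t t.2⟩
      rw [hQmem] at h1
      exact h1
  have hyS : y ∈ FixedPoints.subring B (P.inertia D) := by
    intro t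
    exact hy _ (Ideal.coe_mem_inertia.2 t.2)
  obtain ⟨f, hf1, hf2, hf3⟩ := unram Q hstab hin ⟨y, hyS⟩
  obtain ⟨gD, hgD⟩ : ∃ gD : B[X],
    gD = f.map (algebraMap (FixedPoints.subring B (P.inertia D)) B) := ⟨_, rfl⟩
  have hgDcoeff : ∀ i, gD.coeff i = (f.coeff i : B) := by
    intro i
    rw [hgD, Polynomial.coeff_map]
    rfl
  have hgDinv : ∀ (i : ℕ) (γ : Γ), (∀ z : B, z ∈ P ↔ γ • z ∈ P) →
      γ • gD.coeff i = gD.coeff i := by
    intro i γ hγ
    have hγD : γ ∈ D := (hDmem γ).2 hγ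
    rw [hgDcoeff, ← hsm ⟨γ, hγD⟩, hf1]
  have hex : ∀ i, ∃ c : B, (∀ γ : Γ, γ • c = c) ∧ gD.coeff i - c ∈ P := fun i =>
    Groth.Agent.S12936.result B Γ P (gD.coeff i) (hgDinv i)
  choose c hc1 hc2 using hex
  obtain ⟨g, hg⟩ : ∃ g : B[X], g = ∑ i ∈ Finset.range (gD.natDegree + 1),
      Polynomial.monomial i (c i) := ⟨_, rfl⟩
  have hgcoeff : ∀ i, g.coeff i = if i ≤ gD.natDegree then c i else 0 := by
    intro i
    rw [hg, Polynomial.finsetSum_coeff]
    simp only [Polynomial.coeff_monomial]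
    rw [Finset.sum_ite_eq' (Finset.range (gD.natDegree + 1)) i]
    simp only [Finset.mem_range, Nat.lt_succ_iff]
  have hgmap : g.map (Ideal.Quotient.mk P) = gD.map (Ideal.Quotient.mk P) := by
    ext i
    rw [Polynomial.coeff_map, Polynomial.coeff_map, hgcoeff]
    split_ifs with h
    · rw [eq_comm, Ideal.Quotient.eq]
      exact hc2 i
    · rw [Polynomial.coeff_eq_zero_of_natDegree_lt (not_le.mp h)]
  let _ : Field (FixedPoints.subring B (P.inertia D) ⧸ Q) := Ideal.Quotient.field Q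
  let _ : Field (B ⧸ P) := Ideal.Quotient.field P
  let ι : FixedPoints.subring B (P.inertia D) ⧸ Q →+* B ⧸ P :=
    Ideal.quotientMap P (algebraMap (FixedPoints.subring B (P.inertia D)) B) (le_of_eq hQ)
  have hι : ι.comp (Ideal.Quotient.mk Q) =
      (Ideal.Quotient.mk P).comp (algebraMap (FixedPoints.subring B (P.inertia D)) B) :=
    Ideal.quotientMap_comp_mk _
  have hgDmap : gD.map (Ideal.Quotient.mk P) = (f.map (Ideal.Quotient.mk Q)).map ι := by
    rw [Polynomial.map_map, hι, ← Polynomial.map_map, hgD]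
  refine ⟨g, ?_, ?_, ?_⟩
  · intro i γ
    rw [hgcoeff]
    split_ifs
    · exact hc1 i γ
    · exact smul_zero γ
  · rw [hgmap, hgDmap]
    exact (Polynomial.separable_map ι).2 hf2
  · rw [Polynomial.coe_aeval_eq_eval, ← Ideal.Quotient.eq_zero_iff_mem, ← Polynomial.eval₂_hom,
      ← Polynomial.eval_map, hgmap, (Ideal.Quotient.eq.2 hxy : Ideal.Quotient.mk P x = _),
      Polynomial.eval_map, Polynomial.eval₂_hom, Ideal.Quotient.eq_zero_iff_mem, hgD]
    have h1 : Polynomial.eval y (f.map (algebraMap (FixedPoints.subring B (P.inertia D)) B)) =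
        ((Polynomial.eval (⟨y, hyS⟩ : FixedPoints.subring B (P.inertia D)) f :
          FixedPoints.subring B (P.inertia D)) : B) := by
      rw [Polynomial.eval_map]
      exact Polynomial.eval₂_hom (algebraMap (FixedPoints.subring B (P.inertia D)) B) ⟨y, hyS⟩
    rw [h1, ← hQmem]
    exact hf3

end fwd

/-- Let `B` be a commutative ring with an action of a finite group `Γ` by ring automorphisms, `P` a
maximal ideal of `B`, `T = {γ | γ x - x ∈ P for all x}` its inertia group, `B^T` the inertia ring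
and `B^Γ` the ring of invariants, so that `k(P ∩ B^Γ) ⊆ k(P ∩ B^T) ⊆ k(P) = B/P`. Then `k(P ∩ B^T)`
is the largest separable extension of `k(P ∩ B^Γ)` inside `k(P)`: an element `x` of `B` is congruent
modulo `P` to a `T`-invariant element if and only if `x mod P` is a root of some polynomial with
`Γ`-invariant coefficients whose reduction modulo `P` is separable. (The published statement is for
every prime ideal `P`, as an equality of residue fields; this row takes `P` maximal, the case to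
which the published proof reduces by localising at `P ∩ B^Γ`.) -/
theorem result
    (B : Type u) [CommRing B] (Γ : Type v) [Group Γ] [Finite Γ] [MulSemiringAction Γ B]
    (P : Ideal B) [P.IsMaximal] (x : B) :
    (∃ y : B, (∀ γ : Γ, γ ∈ P.inertia Γ → γ • y = y) ∧ x - y ∈ P) ↔
      ∃ g : Polynomial B, (∀ (i : ℕ) (γ : Γ), γ • g.coeff i = g.coeff i) ∧
        (g.map (Ideal.Quotient.mk P)).Separable ∧ Polynomial.aeval x g ∈ P := by
  constructor
  · rintro ⟨y, hy, hxy⟩
    exact fwd P x y hy hxy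
  · rintro ⟨g, hg, hsep, hx⟩
    exact back P x g hg hsep hx

end Groth.Agent.S12937
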