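import Groth.Statements.S12941
import Groth.Agent.Lib.Helper17.DiagMono
import Groth.Agent.S12776

set_option autoImplicit false
universe u
open CategoryTheory AlgebraicGeometry
open AlgSt

namespace Groth.Agent.S12941

/-- If a morphism f of algebraic stacks is representable by algebraic spaces, then its diagonal is a
monomorphism (representable by algebraic spaces, and a monomorphism of sheaves after every base
change to a scheme). -/
theorem result
    (S : Scheme.{u}) (𝒳 : AlgSt.Cat S) (𝒴 : AlgSt.Cat S)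
    (h𝒳 : AlgSt.IsAlgStack Scheme.fppfPrecoverage 𝒳)
    (h𝒴 : AlgSt.IsAlgStack Scheme.fppfPrecoverage 𝒴)
    (f : 𝒳 ⥤ᵇ 𝒴)
    (hf : AlgSt.RepByAlgSp1 f) :
    AlgSt.IsMono (FibCat.diag f) := by
  intro U y
  have hfaith : f.toFunctor.Faithful := Groth.Agent.S12776.result h𝒳.isStack.1 h𝒴.isStack.1 f hf
  obtain ⟨F, e, he⟩ := Groth.Agent.Lib.Helper17.DM.rep_fp_diag f hf U y
  exact ⟨F, e, he, Groth.Agent.Lib.Helper17.DM.mono_fp_diag f hfaith U y F.obj e he⟩

end Groth.Agent.S12941
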