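import Groth.Statements.S12943
import Groth.Agent.Lib.Helper17.DiagDictConv

set_option autoImplicit false
universe u
open CategoryTheory AlgebraicGeometry
open AlgSt

namespace Groth.Agent.S12943

/-- For a morphism f of algebraic stacks that is representable by algebraic spaces, the following are
equivalent: f is separated (every base change to a scheme is a separated morphism of algebraic
spaces); the diagonal of f is a closed immersion; the diagonal of f is proper; the diagonal of f is
universally closed. -/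
theorem result
    (S : Scheme.{u}) (𝒳 : AlgSt.Cat S) (𝒴 : AlgSt.Cat S)
    (h𝒳 : AlgSt.IsAlgStack Scheme.fppfPrecoverage 𝒳)
    (h𝒴 : AlgSt.IsAlgStack Scheme.fppfPrecoverage 𝒴)
    (f : 𝒳 ⥤ᵇ 𝒴)
    (hf : AlgSt.RepByAlgSp1 f) :
    [AlgSt.RepByAlgSpWith AlgSp.IsSeparatedMor f, AlgSt.IsClosedImm (FibCat.diag f),
      AlgSt.IsSeparatedMor f, AlgSt.RepByAlgSpWith AlgSp.IsUnivClosedMor (FibCat.diag f)].TFAE := by
  tfae_have 1 → 2 := fun h =>
    Groth.Agent.Lib.Helper17.DDC.closedImm_diag_of_repWith_isSeparatedMor f h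
  tfae_have 2 → 3 := fun h =>
    Groth.Agent.Lib.Helper17.DDC.repWith_mono
      (fun _ _ a hX hY ha =>
        Groth.Agent.Lib.Helper23.AlgSpMor.isProperMor_of_repWith_isClosedImmersion hX hY a ha)
      _ h
  tfae_have 3 → 4 := fun h =>
    Groth.Agent.Lib.Helper17.DDC.repWith_mono (fun _ _ _ _ _ ha => ha.2.2) _ h
  tfae_have 4 → 1 := fun h =>
    Groth.Agent.Lib.Helper17.DDC.repWith_isSeparatedMor_of_univClosed_diag
      h𝒳.isStack.1 h𝒴.isStack.1 f hf h
  tfae_finish

end Groth.Agent.S12943
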