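import Groth.Statements.S12944
import Groth.Agent.Lib.Helper17.DiagDictConv
import Groth.Agent.Lib.Helper30.EtLocalInst

set_option autoImplicit false
universe u
open CategoryTheory AlgebraicGeometry
open AlgSt

namespace Groth.Agent.S12944

/-- For a morphism f of algebraic stacks that is representable by algebraic spaces, these three
conditions coincide: f is quasi-separated (every base change to a scheme is a quasi-separated
morphism of algebraic spaces); the diagonal of f is quasi-compact; the diagonal of f is of finite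
type. -/
theorem result
    (S : Scheme.{u}) (𝒳 : AlgSt.Cat S) (𝒴 : AlgSt.Cat S)
    (h𝒳 : AlgSt.IsAlgStack Scheme.fppfPrecoverage 𝒳)
    (h𝒴 : AlgSt.IsAlgStack Scheme.fppfPrecoverage 𝒴)
    (f : 𝒳 ⥤ᵇ 𝒴)
    (hf : AlgSt.RepByAlgSp1 f) :
    [AlgSt.RepByAlgSpWith AlgSp.IsQuasiSeparatedMor f,
      AlgSt.RepByAlgSpWith AlgSp.IsQuasiCompactMor (FibCat.diag f),
      AlgSt.RepByAlgSpWith AlgSp.IsFiniteTypeMor (FibCat.diag f)].TFAE := by
  tfae_have 1 → 2 := fun h =>
    Groth.Agent.Lib.Helper17.DDC.qc_diag_of_repWith_isQuasiSeparatedMor f h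
  tfae_have 2 → 3 := by
    intro hqc
    have hlft : AlgSt.RepByAlgSpWith (AlgSp.LocP @LocallyOfFiniteType) (FibCat.diag f) :=
      Groth.Agent.Lib.Helper17.SEC.repWith_diag_of_rep1 _
        Groth.Agent.Lib.Helper30.EtLocalInst.etLocal_lft (fun _ _ _ _ hl => hl) f hf
    have hRI : (Groth.Agent.Lib.Helper17.ACP.restr (AlgSp.IsQuasiCompactMor (S := S))).RespectsIso :=
      Groth.Agent.Lib.Helper17.ACP.restr_respectsIso _ Groth.Agent.Lib.Helper17.DDC.qc_bc
    intro U y
    obtain ⟨F, e, he, h1⟩ := hlft U y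
    obtain ⟨F', e', he', h2⟩ := hqc U y
    have h3 := Groth.Agent.Lib.Helper17.FD.rep_unique
      (Groth.Agent.Lib.Helper17.ACP.restr (AlgSp.IsQuasiCompactMor (S := S)))
      (FibCat.fpFst y (FibCat.diag f)) e' e he' he
      ⟨F'.property, AlgSp.IsAlgSpace.yon_obj U, h2⟩
    exact ⟨F, e, he, h1, h3.2.2⟩
  tfae_have 3 → 2 := fun h =>
    Groth.Agent.Lib.Helper17.DDC.repWith_mono (fun _ _ _ _ _ ha => ha.2) _ h
  tfae_have 2 → 1 := fun h =>
    Groth.Agent.Lib.Helper17.DDC.repWith_isQuasiSeparatedMor_of_qc_diag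
      h𝒳.isStack.1 h𝒴.isStack.1 f hf h
  tfae_finish

end Groth.Agent.S12944
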