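import Groth.Statements.S12945
import Groth.Agent.Lib.Helper17.DiagDictConv

set_option autoImplicit false
universe u
open CategoryTheory AlgebraicGeometry
open AlgSt

namespace Groth.Agent.S12945

/-- For a morphism f of algebraic stacks that is representable by algebraic spaces, f is quasi-separated
in the sense of stacks (diagonal quasi-compact and quasi-separated) if and only if every base change
of f to a scheme is a quasi-separated morphism of algebraic spaces. (For such f the diagonal is
separated, so the two notions of quasi-separated agree.) -/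
theorem result
    (S : Scheme.{u}) (𝒳 : AlgSt.Cat S) (𝒴 : AlgSt.Cat S)
    (h𝒳 : AlgSt.IsAlgStack Scheme.fppfPrecoverage 𝒳)
    (h𝒴 : AlgSt.IsAlgStack Scheme.fppfPrecoverage 𝒴)
    (f : 𝒳 ⥤ᵇ 𝒴)
    (hf : AlgSt.RepByAlgSp1 f) :
    AlgSt.IsQuasiSeparatedMor f ↔ AlgSt.RepByAlgSpWith AlgSp.IsQuasiSeparatedMor f := by
  constructor
  · intro h
    exact Groth.Agent.Lib.Helper17.DDC.repWith_isQuasiSeparatedMor_of_qc_diag
      h𝒳.isStack.1 h𝒴.isStack.1 f hf
      (Groth.Agent.Lib.Helper17.DDC.repWith_mono (fun _ _ _ _ _ ha => ha.1) _ h)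
  · intro h
    exact Groth.Agent.Lib.Helper17.DD.qcqs_diag_of_repWith_isQuasiSeparatedMor f h

end Groth.Agent.S12945
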