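import Groth.Statements.S6399
import Groth.Agent.Lib.Helper17.FibProd
import Groth.Agent.Lib.Helper17.FibGrpd
import Groth.Agent.S5139

set_option autoImplicit false
open CategoryTheory
universe v u
open FibCat

namespace Groth.Agent.S6399

open Groth.Agent.Lib.Helper17 Groth.Agent.Lib.Helper17.FP

variable {C : Type u} [Category.{v} C] {𝒳 𝒴 : BasedCategory.{v, max u v} C} (G : 𝒳 ⥤ᵇ 𝒴)

theorem diag_obj_fst (x : 𝒳.obj) : ((FibCat.diag G).obj x).obj.fst = x := rfl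

theorem diag_obj_snd (x : 𝒳.obj) : ((FibCat.diag G).obj x).obj.snd = x := rfl

theorem diag_obj_iso_hom (x : 𝒳.obj) : ((FibCat.diag G).obj x).obj.iso.hom = 𝟙 (G.obj x) := rfl

theorem diag_map_fst {x x' : 𝒳.obj} (g : x ⟶ x') : ((FibCat.diag G).map g).hom.fst = g := rfl

theorem diag_map_snd {x x' : 𝒳.obj} (g : x ⟶ x') : ((FibCat.diag G).map g).hom.snd = g := rfl

theorem diag_faithful : (FibCat.diag G).toFunctor.Faithful := by
  constructor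
  intro x x' a b hab
  have := congrArg (fun m => m.hom.fst) hab
  exact this

theorem diag_full (hG : G.toFunctor.Faithful) : (FibCat.diag G).toFunctor.Full := by
  constructor
  intro x x' m
  refine ⟨m.hom.fst, ?_⟩
  apply hom_ext
  · rfl
  · have hw := m.hom.w
    change G.map m.hom.fst ≫ 𝟙 _ = 𝟙 _ ≫ G.map m.hom.snd at hw
    rw [Category.comp_id, Category.id_comp] at hw
    exact G.toFunctor.map_injective hw

theorem diag_essSurj (hG1 : G.toFunctor.Full) (hG2 : G.toFunctor.Faithful)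
    (η : (FibCat.fp G G).obj) :
    ∃ (ξ : 𝒳.obj) (e : (FibCat.diag G).toFunctor.obj ξ ≅ η),
      (FibCat.fp G G).p.IsHomLift (𝟙 ((FibCat.fp G G).p.obj η)) e.hom := by
  obtain ⟨t, ht⟩ := G.toFunctor.map_surjective η.obj.iso.hom
  obtain ⟨t', ht'⟩ := G.toFunctor.map_surjective η.obj.iso.inv
  have h1 : t ≫ t' = 𝟙 _ := by
    apply G.toFunctor.map_injective
    rw [G.toFunctor.map_comp, ht, ht', Iso.hom_inv_id, G.toFunctor.map_id]
  have h2 : t' ≫ t = 𝟙 _ := by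
    apply G.toFunctor.map_injective
    rw [G.toFunctor.map_comp, ht, ht', Iso.inv_hom_id, G.toFunctor.map_id]
  let a : (FibCat.diag G).toFunctor.obj η.obj.fst ⟶ η :=
    mkHom (z := (FibCat.diag G).obj η.obj.fst) (z' := η) (𝟙 η.obj.fst) t (by
      change G.map (𝟙 _) ≫ η.obj.iso.hom = 𝟙 _ ≫ G.map t
      rw [G.map_id, Category.id_comp, Category.id_comp]
      exact ht.symm)
  let b : η ⟶ (FibCat.diag G).toFunctor.obj η.obj.fst :=
    mkHom (z := η) (z' := (FibCat.diag G).obj η.obj.fst) (𝟙 η.obj.fst) t' (by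
      change G.map (𝟙 _) ≫ 𝟙 _ = η.obj.iso.hom ≫ G.map t'
      rw [G.map_id, Category.id_comp]
      have : G.map t' = η.obj.iso.inv := ht'
      rw [this, Iso.hom_inv_id])
  refine ⟨η.obj.fst, ⟨a, b, ?_, ?_⟩, ?_⟩
  · apply hom_ext
    · change 𝟙 _ ≫ 𝟙 _ = 𝟙 _
      rw [Category.id_comp]
    · exact h1
  · apply hom_ext
    · change 𝟙 _ ≫ 𝟙 _ = 𝟙 _
      rw [Category.id_comp]
    · exact h2
  · rw [isHomLift_iff_fst]
    change 𝒳.p.IsHomLift (𝟙 (𝒳.p.obj η.obj.fst)) (𝟙 η.obj.fst)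
    infer_instance

theorem faithful_of_diag (hD1 : (FibCat.diag G).toFunctor.Full) : G.toFunctor.Faithful := by
  constructor
  intro x x' a b hab
  let m : (FibCat.diag G).toFunctor.obj x ⟶ (FibCat.diag G).toFunctor.obj x' :=
    mkHom (z := (FibCat.diag G).obj x) (z' := (FibCat.diag G).obj x') a b (by
      change G.map a ≫ 𝟙 _ = 𝟙 _ ≫ G.map b
      rw [Category.comp_id, Category.id_comp]
      exact hab)
  obtain ⟨c, hc⟩ := (FibCat.diag G).toFunctor.map_surjective m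
  have h1 : c = a := congrArg (fun m => m.hom.fst) hc
  have h2 : c = b := congrArg (fun m => m.hom.snd) hc
  rw [← h1, ← h2]

open Groth.Agent.Lib.Helper17.FG in
theorem full_aux (h𝒳 : FibCat.IsFibGrpd 𝒳.p) (h𝒴 : FibCat.IsFibGrpd 𝒴.p)
    (hD3 : ∀ η : (FibCat.fp G G).obj, ∃ (ξ : 𝒳.obj) (e : (FibCat.diag G).toFunctor.obj ξ ≅ η),
      (FibCat.fp G G).p.IsHomLift (𝟙 ((FibCat.fp G G).p.obj η)) e.hom)
    {x x' : 𝒳.obj} (t : G.obj x ⟶ G.obj x') {R S : C} (f : R ⟶ S) (h : 𝒴.p.IsHomLift f t) :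
    ∃ c : x ⟶ x', G.map c = t := by
  have hR : 𝒳.p.obj x = R := (G.w_obj x).symm.trans (hl_dom h)
  subst hR
  have hS : 𝒳.p.obj x' = S := (G.w_obj x').symm.trans (hl_cod h)
  obtain ⟨x'', φ, hφ⟩ := exists_lift_of_eq h𝒳 hS f
  have hGφ : 𝒴.p.IsHomLift f (G.map φ) := inferInstance
  obtain ⟨θ, hθ1, hθ2, hθ3⟩ := exists_factor h𝒴 f (G.map φ) hGφ t h
  let η : (FibCat.fp G G).obj := mkObj x x'' (asIso θ) hθ1
  obtain ⟨ξ, e, -⟩ := hD3 η
  have hw := e.hom.hom.w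
  change G.map e.hom.hom.fst ≫ θ = 𝟙 _ ≫ G.map e.hom.hom.snd at hw
  rw [Category.id_comp] at hw
  have hi : e.inv.hom.fst ≫ e.hom.hom.fst = 𝟙 x := congrArg (fun m => m.hom.fst) e.inv_hom_id
  obtain ⟨i₁, e₁, e₂, hi, hw⟩ : ∃ (i₁ : x ⟶ ξ) (e₁ : ξ ⟶ x) (e₂ : ξ ⟶ x''),
      i₁ ≫ e₁ = 𝟙 x ∧ G.map e₁ ≫ θ = G.map e₂ :=
    ⟨e.inv.hom.fst, e.hom.hom.fst, e.hom.hom.snd, hi, hw⟩
  refine ⟨i₁ ≫ e₂ ≫ φ, ?_⟩
  rw [G.map_comp, G.map_comp, ← hw, Category.assoc, hθ2, ← Category.assoc, ← G.map_comp, hi,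
    G.map_id, Category.id_comp]

/-- A functor `G : 𝒳 ⟶ 𝒴` over `C` between categories fibred in groupoids is fully faithful if and only
if the diagonal `𝒳 ⟶ 𝒳 ×_𝒴 𝒳` is an equivalence over `C`. -/
theorem result {C : Type u} [Category.{v} C] {𝒳 𝒴 : BasedCategory.{v, max u v} C} (G : 𝒳 ⥤ᵇ 𝒴) (h𝒳 : FibCat.IsFibGrpd 𝒳.p) (h𝒴 : FibCat.IsFibGrpd 𝒴.p) :
    (G.toFunctor.Full ∧ G.toFunctor.Faithful) ↔ FibCat.IsEquivOver (FibCat.diag G) := by
  rw [Groth.Agent.S5139.result]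
  constructor
  · rintro ⟨hG1, hG2⟩
    exact ⟨⟨diag_full G hG2, diag_faithful G⟩, diag_essSurj G hG1 hG2⟩
  · rintro ⟨⟨hD1, hD2⟩, hD3⟩
    refine ⟨⟨fun {x x'} t => ?_⟩, faithful_of_diag G hD1⟩
    exact full_aux G h𝒳 h𝒴 hD3 t (𝒴.p.map t) inferInstance

end Groth.Agent.S6399
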