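import Groth.Statements.S12971
import Groth.Agent.S12774
import Groth.Agent.S6399
import Groth.Agent.Lib.Helper79.AlgStEquiv

set_option autoImplicit false
universe u
open CategoryTheory AlgebraicGeometry
open AlgSt

namespace Groth.Agent.S12971

open Groth.Agent.Lib.Helper79.AlgSpChart Groth.Agent.Lib.Helper79.AlgStEquiv

/-- Any morphism between two etale charts of the same sheaf is etale; so the identity has every property
implied by etale, etale locally on source and target. -/
theorem locP_id {S : Scheme.{u}} (Q : MorphismProperty Scheme.{u})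
    (hQ : ∀ ⦃A B : Scheme.{u}⦄ (g : A ⟶ B), Etale g → Q g) (F : AlgSp.Sp S) :
    AlgSp.LocP Q (𝟙 F) := by
  intro A B a b h ha hb hcomm
  apply hQ
  refine etale_of_chart_map a b ha hb h ?_
  rw [← hcomm, Category.comp_id]

theorem isIso_snd_of_id {S : Scheme.{u}} {G Z Z' : AlgSp.Sp S} {g : Z ⟶ G} {fst : Z' ⟶ G}
    {snd : Z' ⟶ Z} (h : IsPullback fst snd (𝟙 G) g) : IsIso snd :=
  h.isIso_snd_of_isIso

theorem isQuasiCompactMor_id {S : Scheme.{u}} (G : AlgSp.Sp S) : AlgSp.IsQuasiCompactMor (𝟙 G) := by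
  intro Z Z' _ hZ g fst snd h
  have : IsIso snd := isIso_snd_of_id h
  obtain ⟨U, p, hpe, hps, hU⟩ := hZ
  refine ⟨U, p ≫ inv snd, ?_, ?_, hU⟩
  · exact MorphismProperty.RespectsIso.postcomp _ (inv snd) p hpe
  · exact MorphismProperty.RespectsIso.postcomp _ (inv snd) p hps

theorem isUnivClosedMor_id {S : Scheme.{u}} (G : AlgSp.Sp S) : AlgSp.IsUnivClosedMor (𝟙 G) := by
  intro Z Z' _ g fst snd h
  have : IsIso snd := isIso_snd_of_id h
  change IsClosedMap (AlgSp.Points.map snd)
  have hinv : Function.LeftInverse (AlgSp.Points.map (inv snd)) (AlgSp.Points.map snd) := by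
    intro x
    rw [← AlgSp.Points.map_comp, IsIso.hom_inv_id, AlgSp.Points.map_id]
  have hinv' : Function.RightInverse (AlgSp.Points.map (inv snd)) (AlgSp.Points.map snd) := by
    intro x
    rw [← AlgSp.Points.map_comp, IsIso.inv_hom_id, AlgSp.Points.map_id]
  intro C hC
  have : AlgSp.Points.map snd '' C = AlgSp.Points.map (inv snd) ⁻¹' C := by
    ext z
    constructor
    · rintro ⟨x, hx, rfl⟩
      change AlgSp.Points.map (inv snd) (AlgSp.Points.map snd x) ∈ C
      rw [hinv x]; exact hx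
    · intro hz
      exact ⟨AlgSp.Points.map (inv snd) z, hz, hinv' z⟩
  rw [this]
  exact hC.preimage (AlgSp.Points.continuous_map (inv snd))

theorem isProperMor_id {S : Scheme.{u}} (U : Over S) :
    AlgSp.IsProperMor (𝟙 ((AlgSp.yon S).obj U)) := by
  refine ⟨?_, ⟨?_, isQuasiCompactMor_id _⟩, isUnivClosedMor_id _⟩
  · rw [← (AlgSp.yon S).map_id, AlgSp.isSeparatedMor_yon_map_iff]
    exact inferInstanceAs (IsSeparated (𝟙 U.left))
  · exact locP_id _ (fun A B g hg => by
      have : Etale g := hg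
      exact (inferInstance : LocallyOfFiniteType g)) _


/-- A monomorphism of algebraic stacks (representable by algebraic spaces and a monomorphism) is
separated and DM. -/
theorem result
    (S : Scheme.{u}) (𝒳 : AlgSt.Cat S) (𝒴 : AlgSt.Cat S)
    (h𝒳 : AlgSt.IsAlgStack Scheme.fppfPrecoverage 𝒳)
    (h𝒴 : AlgSt.IsAlgStack Scheme.fppfPrecoverage 𝒴)
    (f : 𝒳 ⥤ᵇ 𝒴) :
    AlgSt.IsMono f → AlgSt.IsSeparatedMor f ∧ AlgSt.IsDMMor f := by
  intro hf
  have h𝒳g : FibCat.IsFibGrpd 𝒳.p := h𝒳.isStack.1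
  have h𝒴g : FibCat.IsFibGrpd 𝒴.p := h𝒴.isStack.1
  have hff := Groth.Agent.S12774.result h𝒳g h𝒴g f hf
  have heq : FibCat.IsEquivOver (FibCat.diag f) := (Groth.Agent.S6399.result f h𝒳g h𝒴g).mp hff
  refine ⟨?_, ?_⟩
  · exact repByAlgSpWith_of_isEquivOver _ (fun U => isProperMor_id U) _ heq
  · refine repByAlgSpWith_of_isEquivOver _ (fun U => ?_) _ heq
    exact locP_id _ (fun A B g hg => by
      have : Etale g := hg
      exact ⟨(inferInstance : LocallyOfFiniteType g), (inferInstance : FormallyUnramified g)⟩) _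

end Groth.Agent.S12971
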