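import Groth.Statements.S12999
import Mathlib.AlgebraicGeometry.Noetherian

set_option autoImplicit false
universe u
open CategoryTheory AlgebraicGeometry
open AlgSt

namespace Groth.Agent.S12999

/-- A morphism of algebraic stacks which is locally of finite type with locally Noetherian target is
locally of finite presentation. (Part (2), for finite type and quasi-separated, only adds the
quasi-compactness clauses.) -/
theorem result
    (S : Scheme.{u}) (𝒳 : AlgSt.Cat S) (𝒴 : AlgSt.Cat S)
    (h𝒳 : AlgSt.IsAlgStack Scheme.fppfPrecoverage 𝒳)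
    (h𝒴 : AlgSt.IsAlgStack Scheme.fppfPrecoverage 𝒴)
    (f : 𝒳 ⥤ᵇ 𝒴) :
    AlgSt.SmoothLocally (fun T ↦ IsLocallyNoetherian T) 𝒴 → AlgSt.LocQ (AlgSp.LocP @LocallyOfFiniteType) f → AlgSt.LocQ (AlgSp.LocP @LocallyOfFinitePresentation) f := by
  rintro hN ⟨U, V, x, y, h, α, hx, hxs, hy, hP⟩
  refine ⟨U, V, x, y, h, α, hx, hxs, hy, ?_⟩
  have hV : IsLocallyNoetherian V.left := hN V y hy
  intro U' V' a b h' ha hb hcomm
  have hlft : LocallyOfFiniteType h'.left := hP a b h' ha hb hcomm
  obtain ⟨g, rfl⟩ := (AlgSp.yon S).map_surjective b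
  have hg : Etale g.left := (AlgSp.repWith_yon_map_iff @Etale g).1 hb
  have : IsLocallyNoetherian V'.left := LocallyOfFiniteType.isLocallyNoetherian g.left
  exact LocallyOfFinitePresentation.iff_locallyOfFiniteType.2 hlft

end Groth.Agent.S12999
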