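import Groth.Statements.S13013
import Groth.Agent.Lib.Helper17.SchLocalProps

set_option autoImplicit false
universe u
open CategoryTheory AlgebraicGeometry
open AlgSt

namespace Groth.Agent.S13013

/-- The composition of two integral morphisms of algebraic stacks is integral (integral: representable
by algebraic spaces, and every base change to an affine scheme is an affine scheme integral over
it). -/
theorem result
    (S : Scheme.{u}) (𝒳 : AlgSt.Cat S) (𝒴 : AlgSt.Cat S) (𝒵 : AlgSt.Cat S)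
    (h𝒳 : AlgSt.IsAlgStack Scheme.fppfPrecoverage 𝒳)
    (h𝒴 : AlgSt.IsAlgStack Scheme.fppfPrecoverage 𝒴)
    (h𝒵 : AlgSt.IsAlgStack Scheme.fppfPrecoverage 𝒵)
    (f : 𝒳 ⥤ᵇ 𝒴) (g : 𝒴 ⥤ᵇ 𝒵) :
    AlgSt.RepByAlgSpWith AlgSp.IsIntegralMor f → AlgSt.RepByAlgSpWith AlgSp.IsIntegralMor g → AlgSt.RepByAlgSpWith AlgSp.IsIntegralMor (BasedFunctor.comp f g) := by
  intro hf hg
  rw [Groth.Agent.Lib.Helper17.SLP.isIntegralMor_eq] at hf hg ⊢
  exact Groth.Agent.Lib.Helper17.ACP.repWith_comp_of_schLocal' h𝒳.isStack.1 h𝒵.isStack.1 _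
    (Groth.Agent.Lib.Helper17.SLP.affMor_bc _)
    (Groth.Agent.Lib.Helper17.SLP.affMor_cp _ (fun _ _ _ h => h.1)
      (fun _ _ _ i₂ i₁ h₂ h₁ => ⟨h₂.1, by
        have := h₂.2
        have := h₁.2
        rw [Over.comp_left]
        infer_instance⟩))
    (Groth.Agent.Lib.Helper17.SLP.affMor_schLocal _) f g hf hg

end Groth.Agent.S13013
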