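import Groth.Statements.S13035
import Groth.Agent.Lib.Helper17.LocQTools17
import Groth.Agent.Lib.Helper17.LocQTools15
import Groth.Agent.Lib.Helper17.LocQTools9
import Groth.Agent.Lib.Helper17.LocQTools7
import Groth.Agent.Lib.Helper17.PointsQc2
import Groth.Agent.Lib.Helper17.PointsTop
import Groth.Agent.Lib.Helper17.AlgStFp
import Groth.Agent.S6443

set_option autoImplicit false
universe u
open CategoryTheory AlgebraicGeometry
open AlgSt

namespace Groth.Agent.S13035

section Aux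
open CategoryTheory AlgebraicGeometry


open CategoryTheory.Limits Opposite AlgSp FibCat Stk AlgSt
open Groth.Agent.Lib.Helper17 Groth.Agent.Lib.Helper17.FP Groth.Agent.Lib.Helper17.EO
  Groth.Agent.Lib.Helper17.PTS Groth.Agent.Lib.Helper17.ACP
open IsLocalRing

variable {S : Scheme.{u}}

/-- lifting a flat morphism along a valuation ring: valuation ring extension -/
theorem exists_valuationRing_lift {A : Type u} [CommRing A] [IsDomain A] [ValuationRing A]
    {W : Scheme.{u}} (h : W ⟶ Spec (CommRingCat.of A)) [Flat h] (w : W)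
    (hw : h.base w = IsLocalRing.closedPoint A) :
    ∃ (A' : Type u) (_ : CommRing A') (_ : IsDomain A') (_ : ValuationRing A') (φ : A →+* A')
      (g : Spec (CommRingCat.of A') ⟶ W),
      Function.Injective φ ∧ IsLocalHom φ ∧ g ≫ h = Spec.map (CommRingCat.ofHom φ) := by
  -- generic point
  let η : Spec (CommRingCat.of A) := ⟨⊥, Ideal.isPrime_bot⟩
  have hη : η ⤳ h.base w :=
    (PrimeSpectrum.le_iff_specializes (R := A) η (h.base w)).mp
      (show (⊥ : Ideal A) ≤ (h.base w : PrimeSpectrum A).asIdeal from bot_le)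
  obtain ⟨w', hw'w, hw'η⟩ := Flat.generalizingMap h hη
  let ρ : W.presheaf.stalk w ⟶ W.residueField w' :=
    W.presheaf.stalkSpecializes hw'w ≫ W.residue w'
  obtain ⟨B, hB, hB_local⟩ := exists_factor_valuationRing ρ.hom
  let ρB : W.presheaf.stalk w ⟶ CommRingCat.of B :=
    CommRingCat.ofHom (ρ.hom.codRestrict _ hB)
  let g : Spec (CommRingCat.of B) ⟶ W := Spec.map ρB ≫ W.fromSpecStalk w
  let φ' : CommRingCat.of A ⟶ CommRingCat.of B := Spec.preimage (g ≫ h)
  have hφ' : Spec.map φ' = g ≫ h := Spec.map_preimage _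
  refine ⟨B, inferInstance, inferInstance, inferInstance, φ'.hom, g, ?_, ?_, ?_⟩
  · -- injectivity
    let ι : CommRingCat.of B ⟶ W.residueField w' :=
      CommRingCat.ofHom (algebraMap B (W.residueField w'))
    have hρ : ρB ≫ ι = ρ := by
      ext x
      rfl
    have hchain : Spec.map ι ≫ Spec.map φ' = W.fromSpecResidueField w' ≫ h := by
      rw [hφ']
      change Spec.map ι ≫ (Spec.map ρB ≫ W.fromSpecStalk w) ≫ h = _
      rw [← Category.assoc, ← Category.assoc, ← Spec.map_comp, hρ]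
      change (Spec.map (W.presheaf.stalkSpecializes hw'w ≫ W.residue w') ≫ _) ≫ h = _
      rw [Spec.map_comp, Category.assoc (Spec.map (W.residue w')),
        Scheme.SpecMap_stalkSpecializes_fromSpecStalk hw'w]
      rfl
    let pt : Spec (W.residueField w') := closedPoint (W.residueField w')
    let P : Spec (CommRingCat.of B) := (Spec.map ι).base pt
    have hP : (Spec.map φ').base P = η := by
      change (Spec.map ι ≫ Spec.map φ').base pt = η
      rw [hchain, Scheme.Hom.comp_base, TopCat.comp_app, Scheme.fromSpecResidueField_apply]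
      exact hw'η
    rw [RingHom.injective_iff_ker_eq_bot, eq_bot_iff]
    intro a ha
    have h1 : a ∈ ((Spec.map φ').base P : PrimeSpectrum A).asIdeal := by
      change φ'.hom a ∈ (P : PrimeSpectrum B).asIdeal
      rw [RingHom.mem_ker] at ha
      rw [ha]
      exact Ideal.zero_mem _
    rw [hP] at h1
    exact h1
  · -- locality
    have hg : g.base (closedPoint B) = w := by
      change (W.fromSpecStalk w).base ((Spec.map ρB).base (closedPoint B)) = w
      have : (Spec.map ρB).base (closedPoint B) = closedPoint (W.presheaf.stalk w) :=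
        comap_closedPoint (S := B) (ρ.hom.codRestrict B.toSubring hB)
      rw [this, Scheme.fromSpecStalk_closedPoint]
    have hcl : (Spec.map φ').base (closedPoint B) = closedPoint A := by
      rw [hφ']
      change h.base (g.base (closedPoint B)) = closedPoint A
      rw [hg, hw]
    apply ((IsLocalRing.local_hom_TFAE φ'.hom).out 0 4).mpr
    exact congrArg PrimeSpectrum.asIdeal hcl
  · rw [← hφ']
    rfl


theorem main
    (S : Scheme.{u}) (𝒳 : AlgSt.Cat S) (𝒴 : AlgSt.Cat S)
    (h𝒳 : AlgSt.IsAlgStack Scheme.fppfPrecoverage 𝒳)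
    (h𝒴 : AlgSt.IsAlgStack Scheme.fppfPrecoverage 𝒴)
    (f : 𝒳 ⥤ᵇ 𝒴)
    (hf : AlgSt.LocQ (AlgSp.LocP @Flat) f)
    (A : Type u) [CommRing A] [IsDomain A] [ValuationRing A] (sA : Spec (CommRingCat.of A) ⟶ S)
    (a : FibCat.overCat (Over.mk sA) ⥤ᵇ 𝒴)
    (ha : AlgSt.Points.ofChart a (IsLocalRing.closedPoint A) ∈ Set.range (AlgSt.Points.map f)) :
    ∃ (A' : Type u) (_ : CommRing A') (_ : IsDomain A') (_ : ValuationRing A') (φ : A →+* A'),
      Function.Injective φ ∧ IsLocalHom φ ∧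
      ∃ x : FibCat.overCat (Over.mk (Spec.map (CommRingCat.ofHom φ) ≫ sA)) ⥤ᵇ 𝒳,
        Nonempty (BasedFunctor.comp x f ≅
          BasedFunctor.comp (AlgSt.overMap (Over.homMk (Spec.map (CommRingCat.ofHom φ)) rfl :
            Over.mk (Spec.map (CommRingCat.ofHom φ) ≫ sA) ⟶ Over.mk sA)) a) := by
  have hX := h𝒳.isStack.1
  have hY := h𝒴.isStack.1
  have hV := SPS.isAlgStack_overCat (S := S) (Over.mk sA)
  have hVf : FibCat.IsFibGrpd (FibCat.overCat (Over.mk sA)).p := FG.isFibGrpd_overForget _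
  obtain ⟨U, x, hxs, hxj, hxf⟩ := LQT.exists_chart_of_locQ LQT.good_flat hY f hf
  have hU := SPS.isAlgStack_overCat (S := S) U
  have hUf : FibCat.IsFibGrpd (FibCat.overCat U).p := FG.isFibGrpd_overForget _
  have hxsurj : AlgSt.IsSurjective x := isSurjective_of_repWith hX x hxj
  have hfp : AlgSt.RepByAlgSpWith (LocP @Flat) (FibCat.fpFst a (BasedFunctor.comp x f)) :=
    AB.repWith_fpFst _ (BasedFunctor.comp x f) a hxf
  have hZ : AlgSt.IsAlgStack Scheme.fppfPrecoverage (FibCat.fp a (BasedFunctor.comp x f)) :=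
    AFP.isAlgStack_fp h𝒴.isStack h𝒴.diag hV hU a (BasedFunctor.comp x f)
  have hQ : AlgSt.LocQ (LocP @Flat) (FibCat.fpFst a (BasedFunctor.comp x f)) :=
    LQT.locQ_of_repWith LQT.good_flat hZ hV _ hfp
  obtain ⟨W, q, hqs, hqj, hq⟩ := LQT.exists_chart_of_locQ LQT.good_flat hVf _ hQ
  let h : W ⟶ Over.mk sA :=
    Groth.Agent.S6443.fOf (BasedFunctor.comp q (FibCat.fpFst a (BasedFunctor.comp x f)))
  have ih : BasedFunctor.comp q (FibCat.fpFst a (BasedFunctor.comp x f)) ≅ AlgSt.overMap h :=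
    Groth.Agent.S6443.isoOverMap _
  have h1 : AlgSt.RepByAlgSpWith (LocP @Flat) (AlgSt.overMap h) :=
    DCN.repWith_of_iso _ ih.symm hq
  have h2 : LocP @Flat ((yon S).map h) :=
    LQT.prop_of_repWith_overMap _ (LQT.good_flat.bc S) (LQT.good_flat.schLocal S) h h1
  have hfl : Flat h.left := AlgSp.locP_yon_map h2
  -- the point
  obtain ⟨x', hx'⟩ := ha
  obtain ⟨u', rfl⟩ := hxsurj x'
  let ζ : AlgSt.Points (FibCat.overCat (Over.mk sA)) :=
    AlgSt.Points.ofChart (BasedFunctor.id _) (IsLocalRing.closedPoint A)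
  have hζ : AlgSt.Points.map a ζ = AlgSt.Points.map (BasedFunctor.comp x f) u' := by
    rw [map_comp, hx']; rfl
  obtain ⟨pt, hpt, -⟩ := exists_point_fp hUf hY hVf (BasedFunctor.comp x f) a ζ u' hζ
  have hqsurj : AlgSt.IsSurjective q := isSurjective_of_repWith hZ.isStack.1 q hqj
  obtain ⟨w, hw⟩ := ofChart_surjective q hqsurj pt
  have hwc : h.left.base w = IsLocalRing.closedPoint A := by
    apply ofChart_id_injective (Over.mk sA)
    rw [← ofChart_overMap_id, ← ofChart_congr ih w, ofChart_comp, hw, hpt]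
  obtain ⟨A', i1, i2, i3, φ, g, hφi, hφl, hgφ⟩ := exists_valuationRing_lift h.left w hwc
  have hgw : g ≫ W.hom = Spec.map (CommRingCat.ofHom φ) ≫ sA := by
    have h0 : h.left ≫ sA = W.hom := Over.w h
    rw [← h0, ← Category.assoc, hgφ]
  let g' : Over.mk (Spec.map (CommRingCat.ofHom φ) ≫ sA) ⟶ W := Over.homMk g hgw
  have hg'h : g' ≫ h = (Over.homMk (Spec.map (CommRingCat.ofHom φ)) rfl :
      Over.mk (Spec.map (CommRingCat.ofHom φ) ≫ sA) ⟶ Over.mk sA) := by
    ext
    exact hgφ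
  refine ⟨A', i1, i2, i3, φ, hφi, hφl,
    BasedFunctor.comp (AlgSt.overMap g') (BasedFunctor.comp q
      (BasedFunctor.comp (FibCat.fpSnd a (BasedFunctor.comp x f)) x)), ⟨?_⟩⟩
  rw [← hg'h, LQT.overMap_comp]
  let G : (FibCat.overCat (Over.mk (Spec.map (CommRingCat.ofHom φ) ≫ sA)) : AlgSt.Cat S) ⟶
    FibCat.overCat W := AlgSt.overMap g'
  let Qf : (FibCat.overCat W : AlgSt.Cat S) ⟶ FibCat.fp a (BasedFunctor.comp x f) := q
  let A₁ : (FibCat.overCat (Over.mk sA) : AlgSt.Cat S) ⟶ 𝒴 := a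
  have j1 : BasedFunctor.comp (FibCat.fpFst a (BasedFunctor.comp x f)) a ≅
      BasedFunctor.comp (FibCat.fpSnd a (BasedFunctor.comp x f)) (BasedFunctor.comp x f) :=
    FibCat.fpIso a (BasedFunctor.comp x f)
  have j2 := Bicategory.whiskerLeftIso Qf j1
  have j3 := Bicategory.whiskerRightIso
    (f := (BasedFunctor.comp q (FibCat.fpFst a (BasedFunctor.comp x f)) :
      (FibCat.overCat W : AlgSt.Cat S) ⟶ FibCat.overCat (Over.mk sA)))
    (g := (AlgSt.overMap h : (FibCat.overCat W : AlgSt.Cat S) ⟶ FibCat.overCat (Over.mk sA)))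
    ih A₁
  have j4 : BasedFunctor.comp q (BasedFunctor.comp (FibCat.fpSnd a (BasedFunctor.comp x f))
      (BasedFunctor.comp x f)) ≅ BasedFunctor.comp (AlgSt.overMap h) a := j2.symm ≪≫ j3
  exact Bicategory.whiskerLeftIso G j4


end Aux

/-- Let f : 𝒳 → 𝒴 be a flat morphism of algebraic stacks and Spec A → 𝒴 a morphism with A a valuation
ring whose closed point maps into the image of |𝒳| → |𝒴|. Then there are an extension of valuation
rings A → A' (an injective local homomorphism of valuation rings) and a morphism Spec A' → 𝒳 making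
the square with Spec A' → Spec A → 𝒴 2-commute. -/
theorem result
    (S : Scheme.{u}) (𝒳 : AlgSt.Cat S) (𝒴 : AlgSt.Cat S)
    (h𝒳 : AlgSt.IsAlgStack Scheme.fppfPrecoverage 𝒳)
    (h𝒴 : AlgSt.IsAlgStack Scheme.fppfPrecoverage 𝒴)
    (f : 𝒳 ⥤ᵇ 𝒴)
    (hf : AlgSt.LocQ (AlgSp.LocP @Flat) f)
    (A : Type u) [CommRing A] [IsDomain A] [ValuationRing A] (sA : Spec (CommRingCat.of A) ⟶ S)
    (a : FibCat.overCat (Over.mk sA) ⥤ᵇ 𝒴)
    (ha : AlgSt.Points.ofChart a (IsLocalRing.closedPoint A) ∈ Set.range (AlgSt.Points.map f)) :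
    ∃ (A' : Type u) (_ : CommRing A') (_ : IsDomain A') (_ : ValuationRing A') (φ : A →+* A'),
      Function.Injective φ ∧ IsLocalHom φ ∧
      ∃ x : FibCat.overCat (Over.mk (Spec.map (CommRingCat.ofHom φ) ≫ sA)) ⥤ᵇ 𝒳,
        Nonempty (BasedFunctor.comp x f ≅
          BasedFunctor.comp (AlgSt.overMap (Over.homMk (Spec.map (CommRingCat.ofHom φ)) rfl :
            Over.mk (Spec.map (CommRingCat.ofHom φ) ≫ sA) ⟶ Over.mk sA)) a) := by
  exact main S 𝒳 𝒴 h𝒳 h𝒴 f hf A sA a ha

end Groth.Agent.S13035
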