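import Groth.Statements.S13036
import Groth.Agent.Lib.Helper17.LocQTools17
import Groth.Agent.Lib.Helper17.LocQTools15
import Groth.Agent.Lib.Helper17.LocQTools9
import Groth.Agent.Lib.Helper17.LocQTools7
import Groth.Agent.Lib.Helper17.LocQTools5
import Groth.Agent.Lib.Helper17.PointsQc2
import Groth.Agent.Lib.Helper17.PointsTop2
import Groth.Agent.Lib.Helper17.AlgStFp
import Groth.Agent.Lib.Helper10.SpectralStack
import Groth.Agent.S6443

set_option autoImplicit false
universe u
open CategoryTheory AlgebraicGeometry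
open AlgSt

namespace Groth.Agent.S13036

section Aux
open CategoryTheory AlgebraicGeometry


open CategoryTheory.Limits Opposite AlgSp FibCat Stk AlgSt
open Groth.Agent.Lib.Helper17 Groth.Agent.Lib.Helper17.FP Groth.Agent.Lib.Helper17.EO
  Groth.Agent.Lib.Helper17.PTS Groth.Agent.Lib.Helper17.ACP
open IsLocalRing

variable {S : Scheme.{u}}

/-- a point in the closure of the image of an affine scheme in an affine scheme is a
specialization of a point of the image -/
theorem exists_specializes_of_mem_closure_spec {R : CommRingCat.{u}} {W : Scheme.{u}} [IsAffine W]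
    (h : W ⟶ Spec R) (t : Spec R)
    (ht : t ∈ closure (Set.range h.base)) : ∃ w' : W, h.base w' ⤳ t := by
  let e := W.isoSpec
  let φ : R ⟶ Γ(W, ⊤) := Spec.preimage (e.inv ≫ h)
  have hφ : Spec.map φ = e.inv ≫ h := Spec.map_preimage _
  have hr : Set.range h.base = Set.range (PrimeSpectrum.comap φ.hom) := by
    have h1 : Set.range (Spec.map φ).base = Set.range h.base := by
      rw [hφ, Scheme.Hom.comp_base, TopCat.coe_comp]
      exact Function.Surjective.range_comp (f := e.inv.base)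
        (e.inv.homeomorph.surjective) _
    rw [← h1]
    rfl
  have ht' : (show PrimeSpectrum R from t) ∈
      @closure (PrimeSpectrum R) _ (Set.range (PrimeSpectrum.comap φ.hom)) := hr ▸ ht
  rw [PrimeSpectrum.closure_range_comap] at ht'
  have hle : (⊥ : Ideal Γ(W, ⊤)).comap φ.hom ≤ (t : PrimeSpectrum R).asIdeal := by
    rw [← RingHom.ker_eq_comap_bot]
    exact ht'
  have : (t : PrimeSpectrum R).asIdeal.IsPrime := (t : PrimeSpectrum R).isPrime
  obtain ⟨q, hq₁, hq₂⟩ := Ideal.exists_minimalPrimes_le hle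
  obtain ⟨p', hp', -, rfl⟩ := Ideal.exists_comap_eq_of_mem_minimalPrimes φ.hom _ hq₁
  let P : Spec Γ(W, ⊤) := ⟨p', hp'⟩
  refine ⟨e.inv.base P, ?_⟩
  have h2 : h.base (e.inv.base P) = (Spec.map φ).base P := by
    rw [hφ]; rfl
  rw [h2]
  exact (PrimeSpectrum.le_iff_specializes (R := R) ((Spec.map φ).base P) t).mp hq₂

theorem exists_specializes_of_mem_closure {V W : Scheme.{u}} [IsAffine W] [IsAffine V]
    (h : W ⟶ V) (t : V)
    (ht : t ∈ closure (Set.range h.base)) : ∃ w' : W, h.base w' ⤳ t := by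
  let e := V.isoSpec
  have he : Topology.IsInducing e.hom.base := e.hom.homeomorph.isInducing
  have h1 : e.hom.base t ∈ closure (Set.range (h ≫ e.hom).base) := by
    rw [Scheme.Hom.comp_base, TopCat.coe_comp, Set.range_comp]
    have := e.hom.homeomorph.image_closure (Set.range h.base)
    exact this ▸ (⟨t, ht, rfl⟩ : e.hom.base t ∈ e.hom.homeomorph '' closure (Set.range h.base))
  obtain ⟨w', hw'⟩ := exists_specializes_of_mem_closure_spec (h ≫ e.hom) _ h1
  exact ⟨w', he.specializes_iff.mp hw'⟩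

/-- valuation ring realizing a specialization of the image of a point -/
theorem exists_valuationSubring_of_specializes {W V : Scheme.{u}} (h : W ⟶ V) (w' : W) (t : V)
    (hs : h.base w' ⤳ t) :
    ∃ (B : ValuationSubring (W.residueField w')) (b : Spec (CommRingCat.of B) ⟶ V),
      b.base (closedPoint B) = t ∧
      Spec.map (CommRingCat.ofHom (algebraMap B (W.residueField w'))) ≫ b =
        W.fromSpecResidueField w' ≫ h := by
  let ρ : V.presheaf.stalk t ⟶ W.residueField w' :=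
    V.presheaf.stalkSpecializes hs ≫ h.stalkMap w' ≫ W.residue w'
  obtain ⟨B, hB, hB_local⟩ := exists_factor_valuationRing ρ.hom
  let ρB : V.presheaf.stalk t ⟶ CommRingCat.of B :=
    CommRingCat.ofHom (ρ.hom.codRestrict _ hB)
  refine ⟨B, Spec.map ρB ≫ V.fromSpecStalk t, ?_, ?_⟩
  · change (V.fromSpecStalk t).base ((Spec.map ρB).base (closedPoint B)) = t
    have : (Spec.map ρB).base (closedPoint B) = closedPoint (V.presheaf.stalk t) :=
      comap_closedPoint (S := B) (ρ.hom.codRestrict B.toSubring hB)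
    rw [this, Scheme.fromSpecStalk_closedPoint]
  · rw [Scheme.fromSpecResidueField, Category.assoc, ← Scheme.SpecMap_stalkMap_fromSpecStalk,
      ← Scheme.SpecMap_stalkSpecializes_fromSpecStalk hs]
    simp_rw [← Spec.map_comp_assoc]
    rfl


theorem main
    (S : Scheme.{u}) (𝒳 : AlgSt.Cat S) (𝒴 : AlgSt.Cat S)
    (h𝒳 : AlgSt.IsAlgStack Scheme.fppfPrecoverage 𝒳)
    (h𝒴 : AlgSt.IsAlgStack Scheme.fppfPrecoverage 𝒴)
    (f : 𝒳 ⥤ᵇ 𝒴)
    (hf : AlgSt.IsQuasiCompactMor Scheme.fppfPrecoverage f)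
    (y : AlgSt.Points 𝒴) (hy : y ∈ closure (Set.range (AlgSt.Points.map f))) :
    ∃ (A : Type u) (_ : CommRing A) (_ : IsDomain A) (_ : ValuationRing A) (sA : Spec (CommRingCat.of A) ⟶ S)
      (a : FibCat.overCat (Over.mk sA) ⥤ᵇ 𝒴)
      (x : FibCat.overCat (Over.mk (Spec.map (CommRingCat.ofHom (algebraMap A (FractionRing A))) ≫ sA)) ⥤ᵇ 𝒳),
      Nonempty (BasedFunctor.comp x f ≅
        BasedFunctor.comp (AlgSt.overMap (Over.homMk (Spec.map (CommRingCat.ofHom (algebraMap A (FractionRing A)))) rfl :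
          Over.mk (Spec.map (CommRingCat.ofHom (algebraMap A (FractionRing A))) ≫ sA) ⟶ Over.mk sA)) a) ∧
      AlgSt.Points.ofChart a (IsLocalRing.closedPoint A) = y := by
  have hX := h𝒳.isStack.1
  have hY := h𝒴.isStack.1
  obtain ⟨V, v, hvs, hvj⟩ := h𝒴.atlas
  have hvsurj : AlgSt.IsSurjective v := isSurjective_of_repWith hY v hvj
  obtain ⟨t, rfl⟩ := ofChart_surjective v hvsurj y
  -- affine open neighbourhood
  obtain ⟨_, ⟨O, hO, rfl⟩, htO, -⟩ :=
    (V.left.isBasis_affineOpens).exists_subset_of_mem_open (Set.mem_univ t) isOpen_univ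
  obtain ⟨O', hO'⟩ : ∃ O' : V.left.Opens, O' = O := ⟨O, rfl⟩
  subst hO'
  let V₀ : Over S := Over.mk (O'.ι ≫ V.hom)
  let ι : V₀ ⟶ V := Over.homMk O'.ι rfl
  have hV₀aff : IsAffine V₀.left := hO
  let t₀ : ↥V₀.left := ⟨t, htO⟩
  have hιt : ι.left.base t₀ = t := rfl
  let v₀ : FibCat.overCat V₀ ⥤ᵇ 𝒴 := BasedFunctor.comp (AlgSt.overMap ι) v
  have hιsm : Smooth ι.left := by
    change Smooth O'.ι
    infer_instance
  have hv₀fl : AlgSt.RepByAlgSpWith (LocP @Flat) v₀ :=
    LQT.repWith_of_refine LQT.good_flat hY ι hιsm v v₀ (Iso.refl _) (BasedFunctor.id 𝒴)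
      (flat_of_smooth v hvs)
  have hv₀fp : AlgSt.RepByAlgSpWith (LocP @LocallyOfFinitePresentation) v₀ :=
    LQT.repWith_of_refine LQT.good_lfp hY ι hιsm v v₀ (Iso.refl _) (BasedFunctor.id 𝒴)
      (lfp_of_smooth v hvs)
  have hopen : IsOpenMap (AlgSt.Points.ofChart v₀) := isOpenMap_ofChart hY h𝒴.diag v₀ hv₀fl hv₀fp
  have hV₀ := SPS.isAlgStack_overCat (S := S) V₀
  have hV₀f : FibCat.IsFibGrpd (FibCat.overCat V₀).p := FG.isFibGrpd_overForget _
  have hqcV₀ : AlgSt.IsQuasiCompact (FibCat.overCat V₀) :=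
    Groth.Agent.Lib.Helper10.SpSt.isQuasiCompact_overCat V₀
  obtain ⟨W, q, hWaff, hqs, hqj⟩ := hf (FibCat.overCat V₀) hV₀ hqcV₀ v₀
  have hZ : AlgSt.IsAlgStack Scheme.fppfPrecoverage (FibCat.fp v₀ f) :=
    AFP.isAlgStack_fp h𝒴.isStack h𝒴.diag hV₀ h𝒳 v₀ f
  have hqsurj : AlgSt.IsSurjective q := isSurjective_of_repWith hZ.isStack.1 q hqj
  let h : W ⟶ V₀ := Groth.Agent.S6443.fOf (BasedFunctor.comp q (FibCat.fpFst v₀ f))
  have ih : BasedFunctor.comp q (FibCat.fpFst v₀ f) ≅ AlgSt.overMap h :=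
    Groth.Agent.S6443.isoOverMap _
  have hcl : t₀ ∈ closure (Set.range h.left.base) := by
    by_contra hcl
    let N : Set ↥V₀.left := (closure (Set.range h.left.base))ᶜ
    have hN : IsOpen N := isClosed_closure.isOpen_compl
    have hyN : AlgSt.Points.ofChart v₀ t₀ ∈ AlgSt.Points.ofChart v₀ '' N := ⟨t₀, hcl, rfl⟩
    have hy' : AlgSt.Points.ofChart v₀ t₀ ∈ closure (Set.range (AlgSt.Points.map f)) := by
      have : AlgSt.Points.ofChart v₀ t₀ = AlgSt.Points.ofChart v t := ofChart_overMap ι v t₀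
      rw [this]; exact hy
    obtain ⟨_, ⟨n, hnN, rfl⟩, ξ, hξ⟩ := mem_closure_iff.mp hy' _ (hopen N hN) hyN
    obtain ⟨pt, hpt1, -⟩ := exists_point_fp hX hY hV₀f f v₀
      (AlgSt.Points.ofChart (BasedFunctor.id _) n) ξ ((ofChart_eq_map v₀ n).symm.trans hξ.symm)
    obtain ⟨w, hw⟩ := ofChart_surjective q hqsurj pt
    have hwn : h.left.base w = n := by
      apply ofChart_id_injective V₀
      rw [← ofChart_overMap_id, ← ofChart_congr ih w, ofChart_comp, hw, hpt1]
    exact hnN (subset_closure ⟨w, hwn⟩)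
  have := hWaff
  have := hV₀aff
  obtain ⟨w', hw'⟩ := exists_specializes_of_mem_closure h.left t₀ hcl
  obtain ⟨B, b, hbcl, hbw⟩ := exists_valuationSubring_of_specializes h.left w' t₀ hw'
  -- the data
  let sA : Spec (CommRingCat.of B) ⟶ S := b ≫ V₀.hom
  let b' : Over.mk sA ⟶ V₀ := Over.homMk b rfl
  let a : FibCat.overCat (Over.mk sA) ⥤ᵇ 𝒴 := BasedFunctor.comp (AlgSt.overMap b') v₀
  let ε : FractionRing B ≃ₐ[B] W.left.residueField w' :=
    FractionRing.algEquiv B (W.left.residueField w')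
  let c : Spec (CommRingCat.of (FractionRing B)) ⟶ Spec (W.left.residueField w') :=
    Spec.map (CommRingCat.ofHom (ε.symm : W.left.residueField w' →+* FractionRing B))
  have hc : c ≫ Spec.map (CommRingCat.ofHom (algebraMap B (W.left.residueField w'))) =
      Spec.map (CommRingCat.ofHom (algebraMap B (FractionRing B))) := by
    rw [← Spec.map_comp]
    congr 1
    ext r
    exact ε.symm.commutes r
  let k : Spec (CommRingCat.of (FractionRing B)) ⟶ W.left := c ≫ W.left.fromSpecResidueField w'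
  have hkh : k ≫ h.left = Spec.map (CommRingCat.ofHom (algebraMap B (FractionRing B))) ≫ b := by
    change (c ≫ W.left.fromSpecResidueField w') ≫ h.left = _
    rw [Category.assoc, ← hbw, ← Category.assoc]
    exact congrArg (· ≫ b) hc
  have hkW : k ≫ W.hom = Spec.map (CommRingCat.ofHom (algebraMap B (FractionRing B))) ≫ sA := by
    have h0 : h.left ≫ V₀.hom = W.hom := Over.w h
    rw [← h0, ← Category.assoc, hkh, Category.assoc]
  let k' : Over.mk (Spec.map (CommRingCat.ofHom (algebraMap B (FractionRing B))) ≫ sA) ⟶ W :=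
    Over.homMk k hkW
  let jK : Over.mk (Spec.map (CommRingCat.ofHom (algebraMap B (FractionRing B))) ≫ sA) ⟶
      Over.mk sA := Over.homMk (Spec.map (CommRingCat.ofHom (algebraMap B (FractionRing B)))) rfl
  have hk'h : k' ≫ h = jK ≫ b' := by
    ext
    exact hkh
  refine ⟨B, inferInstance, inferInstance, inferInstance, sA, a,
    BasedFunctor.comp (AlgSt.overMap k') (BasedFunctor.comp q (FibCat.fpSnd v₀ f)), ⟨?_⟩, ?_⟩
  · have e1 : BasedFunctor.comp (AlgSt.overMap jK) a =
        BasedFunctor.comp (AlgSt.overMap k') (BasedFunctor.comp (AlgSt.overMap h) v₀) := by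
      change BasedFunctor.comp (BasedFunctor.comp (AlgSt.overMap jK) (AlgSt.overMap b')) v₀ =
        BasedFunctor.comp (BasedFunctor.comp (AlgSt.overMap k') (AlgSt.overMap h)) v₀
      rw [← LQT.overMap_comp, ← LQT.overMap_comp, hk'h]
    change BasedFunctor.comp _ f ≅ BasedFunctor.comp (AlgSt.overMap jK) a
    rw [e1]
    let G : (FibCat.overCat (Over.mk (Spec.map (CommRingCat.ofHom
      (algebraMap B (FractionRing B))) ≫ sA)) : AlgSt.Cat S) ⟶ FibCat.overCat W := AlgSt.overMap k'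
    let Qf : (FibCat.overCat W : AlgSt.Cat S) ⟶ FibCat.fp v₀ f := q
    let A₁ : (FibCat.overCat V₀ : AlgSt.Cat S) ⟶ 𝒴 := v₀
    have j1 : BasedFunctor.comp (FibCat.fpFst v₀ f) v₀ ≅ BasedFunctor.comp (FibCat.fpSnd v₀ f) f :=
      FibCat.fpIso v₀ f
    have j2 := Bicategory.whiskerLeftIso Qf j1
    have j3 := Bicategory.whiskerRightIso
      (f := (BasedFunctor.comp q (FibCat.fpFst v₀ f) :
        (FibCat.overCat W : AlgSt.Cat S) ⟶ FibCat.overCat V₀))
      (g := (AlgSt.overMap h : (FibCat.overCat W : AlgSt.Cat S) ⟶ FibCat.overCat V₀))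
      ih A₁
    have j4 : BasedFunctor.comp q (BasedFunctor.comp (FibCat.fpSnd v₀ f) f) ≅
        BasedFunctor.comp (AlgSt.overMap h) v₀ := j2.symm ≪≫ j3
    exact Bicategory.whiskerLeftIso G j4
  · have h1 : AlgSt.Points.ofChart a (closedPoint B) = AlgSt.Points.ofChart v₀ (b'.left.base (closedPoint B)) :=
      ofChart_overMap b' v₀ (closedPoint B)
    have h2 : b'.left.base (closedPoint B) = t₀ := hbcl
    rw [h1, h2]
    exact ofChart_overMap ι v t₀


end Aux

/-- Let f : 𝒳 → 𝒴 be a quasi-compact morphism of algebraic stacks and y a point of |𝒴| in the closure of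
the image of |f|. Then there are a valuation ring A with fraction field K and a 2-commutative square
Spec K → 𝒳, Spec A → 𝒴 (over Spec K → Spec A and f) such that the closed point of Spec A maps to y. -/
theorem result
    (S : Scheme.{u}) (𝒳 : AlgSt.Cat S) (𝒴 : AlgSt.Cat S)
    (h𝒳 : AlgSt.IsAlgStack Scheme.fppfPrecoverage 𝒳)
    (h𝒴 : AlgSt.IsAlgStack Scheme.fppfPrecoverage 𝒴)
    (f : 𝒳 ⥤ᵇ 𝒴)
    (hf : AlgSt.IsQuasiCompactMor Scheme.fppfPrecoverage f)
    (y : AlgSt.Points 𝒴) (hy : y ∈ closure (Set.range (AlgSt.Points.map f))) :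
    ∃ (A : Type u) (_ : CommRing A) (_ : IsDomain A) (_ : ValuationRing A) (sA : Spec (CommRingCat.of A) ⟶ S)
      (a : FibCat.overCat (Over.mk sA) ⥤ᵇ 𝒴)
      (x : FibCat.overCat (Over.mk (Spec.map (CommRingCat.ofHom (algebraMap A (FractionRing A))) ≫ sA)) ⥤ᵇ 𝒳),
      Nonempty (BasedFunctor.comp x f ≅
        BasedFunctor.comp (AlgSt.overMap (Over.homMk (Spec.map (CommRingCat.ofHom (algebraMap A (FractionRing A)))) rfl :
          Over.mk (Spec.map (CommRingCat.ofHom (algebraMap A (FractionRing A))) ≫ sA) ⟶ Over.mk sA)) a) ∧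
      AlgSt.Points.ofChart a (IsLocalRing.closedPoint A) = y := by
  exact main S 𝒳 𝒴 h𝒳 h𝒴 f hf y hy

end Groth.Agent.S13036
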