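import Groth.Statements.S13041
import Mathlib.Tactic

set_option autoImplicit false
universe u
open MaxMod
open TensorProduct

namespace Groth.Agent.S13041

/-- Let R be a domain with fraction field K, let A → B be a homomorphism of commutative R-algebras that
are flat over R, with B module-finite over A, such that the induced map K ⊗_R A → K ⊗_R B is
bijective. If the A-linear map Hom_A(B, A) → A evaluating at 1 is surjective, then A → B is
bijective. (The published statement concerns a finite morphism of flat schemes over a discrete
valuation ring, with locally free relative dualizing sheaves, that is an isomorphism over a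
schematically dense open and whose trace map on dualizing sheaves is surjective; this row is the
statement about rings to which the printed proof reduces it and which that proof establishes, and
the argument uses only that R is a domain.) -/
theorem result
    (R K A B : Type u) [CommRing R] [IsDomain R] [Field K] [Algebra R K] [IsFractionRing R K]
    [CommRing A] [CommRing B] [Algebra R A] [Algebra R B] [Algebra A B] [IsScalarTower R A B]
    [Module.Flat R A] [Module.Flat R B] [Module.Finite A B]
    (hK : Function.Bijective
      (Algebra.TensorProduct.map (AlgHom.id R K) (IsScalarTower.toAlgHom R A B)))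
    (htr : Function.Surjective (fun u : B →ₗ[A] A => u 1)) :
    Function.Bijective (algebraMap A B) := by
  obtain ⟨u, hu⟩ := htr 1
  have hu1 : u 1 = 1 := hu
  have hui : ∀ a : A, u (algebraMap A B a) = a := by
    intro a
    rw [Algebra.algebraMap_eq_smul_one, map_smul, hu1, smul_eq_mul, mul_one]
  let uR : B →ₗ[R] A := u.restrictScalars R
  let S : K ⊗[R] A →ₗ[R] K ⊗[R] B :=
    (Algebra.TensorProduct.map (AlgHom.id R K) (IsScalarTower.toAlgHom R A B)).toLinearMap
  let T : K ⊗[R] B →ₗ[R] K ⊗[R] A := LinearMap.lTensor K uR
  have hTS : ∀ x, T (S x) = x := by
    intro x
    induction x using TensorProduct.induction_on with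
    | zero => simp
    | tmul k a => simp [S, T, uR, hui]
    | add x y hx hy => rw [map_add, map_add, hx, hy]
  have hTinj : Function.Injective T := by
    intro x y hxy
    obtain ⟨x', rfl⟩ := hK.2 x
    obtain ⟨y', rfl⟩ := hK.2 y
    change T (S x') = T (S y') at hxy
    rw [hTS, hTS] at hxy
    rw [hxy]
  have hinjB : Function.Injective (fun b : B => (1 : K) ⊗ₜ[R] b) := by
    have h1 : Function.Injective (LinearMap.rTensor B (Algebra.linearMap R K)) :=
      Module.Flat.rTensor_preserves_injective_linearMap _ (IsFractionRing.injective R K)
    intro b b' h
    have h2 : (LinearMap.rTensor B (Algebra.linearMap R K)) ((1 : R) ⊗ₜ b) =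
        (LinearMap.rTensor B (Algebra.linearMap R K)) ((1 : R) ⊗ₜ b') := by
      simpa using h
    have h3 := h1 h2
    simpa using congrArg (TensorProduct.lid R B) h3
  have huinj : Function.Injective u := by
    rw [injective_iff_map_eq_zero]
    intro b hb
    apply hinjB
    apply hTinj
    simp [T, uR, hb]
  constructor
  · intro a a' h
    have := congrArg u h
    rwa [hui, hui] at this
  · intro b
    exact ⟨u b, huinj (by rw [hui])⟩

end Groth.Agent.S13041
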