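import Groth.Statements.S13042
import Mathlib.Algebra.CharP.Lemmas

set_option autoImplicit false
universe u
open MaxMod

set_option linter.unusedSectionVars false

namespace Groth.Agent.S13042Aux

open MvPolynomial

variable {R : Type u} [CommRing R]

/-- lift from a quotient by two relations -/
noncomputable def quotLift {B : Type u} [CommRing B] [Algebra R B] (g0 g1 : MvPolynomial (Fin 2) R)
    (v : Fin 2 → B) (h0 : aeval v g0 = 0) (h1 : aeval v g1 = 0) :
    (MvPolynomial (Fin 2) R ⧸ Ideal.span {g0, g1}) →ₐ[R] B :=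
  Ideal.Quotient.liftₐ _ (aeval v) (by
    intro a ha
    have : Ideal.span {g0, g1} ≤ RingHom.ker (aeval v : MvPolynomial (Fin 2) R →ₐ[R] B) := by
      rw [Ideal.span_le]
      intro x hx
      rcases hx with rfl | rfl
      · exact h0
      · exact h1
    exact this ha)

theorem quotLift_mk {B : Type u} [CommRing B] [Algebra R B] (g0 g1 : MvPolynomial (Fin 2) R)
    (v : Fin 2 → B) (h0 : aeval v g0 = 0) (h1 : aeval v g1 = 0) (q : MvPolynomial (Fin 2) R) :
    quotLift g0 g1 v h0 h1 (Ideal.Quotient.mk _ q) = aeval v q := rfl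

theorem quot_algHom_ext {B : Type u} [CommRing B] [Algebra R B] (I : Ideal (MvPolynomial (Fin 2) R))
    (φ ψ : (MvPolynomial (Fin 2) R ⧸ I) →ₐ[R] B)
    (h0 : φ (Ideal.Quotient.mk _ (X 0)) = ψ (Ideal.Quotient.mk _ (X 0)))
    (h1 : φ (Ideal.Quotient.mk _ (X 1)) = ψ (Ideal.Quotient.mk _ (X 1))) : φ = ψ := by
  apply Ideal.Quotient.algHom_ext
  apply MvPolynomial.algHom_ext
  intro i
  fin_cases i
  · exact h0
  · exact h1

/-- freshman's dream in an algebra where `p = 0` -/
theorem add_pow_p (p : ℕ) [Fact p.Prime] {B : Type u} [CommRing B] (hp : (p : B) = 0) (a b : B) :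
    (a + b) ^ p = a ^ p + b ^ p := by
  obtain ⟨r, hr⟩ := Commute.exists_add_pow_prime_eq (Fact.out : p.Prime) (Commute.all a b)
  rw [hr, hp, zero_mul, zero_mul, zero_mul, add_zero]


theorem natCast_p_eq_zero (p : ℕ) (R : Type u) [CommRing R] [CharP R p] (B : Type u) [CommRing B] [Algebra R B] :
    (p : B) = 0 := by
  rw [← map_natCast (algebraMap R B) p, CharP.cast_eq_zero R p, map_zero]

end Groth.Agent.S13042Aux

namespace Groth.Agent.S13042

open MvPolynomial in
/-- Let p be a prime, R a local ring of characteristic p, λ an element of the maximal ideal of R and f ∈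
R. Then there is an isomorphism of R-algebras R[W₁, W₂]/(W₁^p − f, W₂^p − f) ≅ R[x, W]/(x^p, W^p −
f) with W₁ ↦ x + W + λ·x·W and W₂ ↦ W; that is, Spec R[W]/(W^p − f) with the action w ↦ x + w + λxw
is a torsor under the group scheme Spec R[x]/(x^p) with law x₁ ∘ x₂ = x₁ + x₂ + λx₁x₂. (The
published statement is over a complete discrete valuation ring of characteristic p with λ a nonzero
nonunit, and also asserts that for f in the fraction field with negative valuation v(f) > −p·v(λ)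
the torsor W^p = f extends to a torsor over R, using the coordinate 1/W; that second case fails: for
p = 2, λ = π a uniformizer and f = 1/π, every model is Spec R[π^a t] with t² = π, and none of these
is a torsor since the coaction sends t to t − π(1 + t)x. Only the case f ∈ R is stated, and the
argument there uses only that R is local of characteristic p.) -/
theorem result
    (p : ℕ) [Fact p.Prime] (R : Type u) [CommRing R] [IsLocalRing R] [CharP R p]
    (lam f : R) (hlam : lam ∈ IsLocalRing.maximalIdeal R) :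
    ∃ e : (MvPolynomial (Fin 2) R ⧸ Ideal.span {(X 0 ^ p - C f : MvPolynomial (Fin 2) R), X 1 ^ p - C f}) ≃ₐ[R]
        (MvPolynomial (Fin 2) R ⧸ Ideal.span {(X 0 ^ p : MvPolynomial (Fin 2) R), X 1 ^ p - C f}),
      e (Ideal.Quotient.mk _ (X 0)) = Ideal.Quotient.mk _ (X 0 + X 1 + C lam * X 0 * X 1) ∧
      e (Ideal.Quotient.mk _ (X 1)) = Ideal.Quotient.mk _ (X 1) := by
  have hpP : p.Prime := Fact.out
  set I₁ : Ideal (MvPolynomial (Fin 2) R) := Ideal.span {(X 0 ^ p - C f : MvPolynomial (Fin 2) R), X 1 ^ p - C f} with hI₁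
  set I₂ : Ideal (MvPolynomial (Fin 2) R) := Ideal.span {(X 0 ^ p : MvPolynomial (Fin 2) R), X 1 ^ p - C f} with hI₂
  -- generators and relations in A₂
  set x : MvPolynomial (Fin 2) R ⧸ I₂ := Ideal.Quotient.mk _ (X 0) with hx
  set w : MvPolynomial (Fin 2) R ⧸ I₂ := Ideal.Quotient.mk _ (X 1) with hw
  have hxp : x ^ p = 0 := by
    rw [hx, ← map_pow, Ideal.Quotient.eq_zero_iff_mem]
    exact Ideal.subset_span (by simp)
  have hwp : w ^ p = algebraMap R _ f := by
    have : (Ideal.Quotient.mk I₂) (X 1 ^ p - C f) = 0 := by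
      rw [Ideal.Quotient.eq_zero_iff_mem]; exact Ideal.subset_span (by simp)
    rw [map_sub, map_pow, sub_eq_zero] at this
    rw [hw, this]; rfl
  -- generators and relations in A₁
  set W₁ : MvPolynomial (Fin 2) R ⧸ I₁ := Ideal.Quotient.mk _ (X 0) with hW₁
  set W₂ : MvPolynomial (Fin 2) R ⧸ I₁ := Ideal.Quotient.mk _ (X 1) with hW₂
  have hW₁p : W₁ ^ p = algebraMap R _ f := by
    have : (Ideal.Quotient.mk I₁) (X 0 ^ p - C f) = 0 := by
      rw [Ideal.Quotient.eq_zero_iff_mem]; exact Ideal.subset_span (by simp)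
    rw [map_sub, map_pow, sub_eq_zero] at this
    rw [hW₁, this]; rfl
  have hW₂p : W₂ ^ p = algebraMap R _ f := by
    have : (Ideal.Quotient.mk I₁) (X 1 ^ p - C f) = 0 := by
      rw [Ideal.Quotient.eq_zero_iff_mem]; exact Ideal.subset_span (by simp)
    rw [map_sub, map_pow, sub_eq_zero] at this
    rw [hW₂, this]; rfl
  have hp₁ : (p : MvPolynomial (Fin 2) R ⧸ I₁) = 0 := S13042Aux.natCast_p_eq_zero p R _
  have hp₂ : (p : MvPolynomial (Fin 2) R ⧸ I₂) = 0 := S13042Aux.natCast_p_eq_zero p R _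
  -- the forward map
  have hφ0 : (x + w + algebraMap R _ lam * x * w) ^ p = algebraMap R _ f := by
    rw [S13042Aux.add_pow_p p hp₂, S13042Aux.add_pow_p p hp₂, mul_pow, mul_pow, hxp, hwp]
    ring
  have hφ1 : w ^ p = algebraMap R _ f := hwp
  let vφ : Fin 2 → (MvPolynomial (Fin 2) R ⧸ I₂) := ![x + w + algebraMap R _ lam * x * w, w]
  let φ : (MvPolynomial (Fin 2) R ⧸ I₁) →ₐ[R] (MvPolynomial (Fin 2) R ⧸ I₂) :=
    S13042Aux.quotLift _ _ vφ
      (by simp only [map_sub, map_pow, aeval_X, aeval_C]; rw [sub_eq_zero]; exact hφ0)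
      (by simp only [map_sub, map_pow, aeval_X, aeval_C]; rw [sub_eq_zero]; exact hφ1)
  have hφW₁ : φ W₁ = x + w + algebraMap R _ lam * x * w := by
    show aeval vφ (X 0) = _
    rw [aeval_X]; rfl
  have hφW₂ : φ W₂ = w := by
    show aeval vφ (X 1) = _
    rw [aeval_X]; rfl
  -- the unit
  have hu : IsUnit (1 + algebraMap R (MvPolynomial (Fin 2) R ⧸ I₁) lam * W₂) := by
    have h1 : (1 + algebraMap R (MvPolynomial (Fin 2) R ⧸ I₁) lam * W₂) ^ p =
        algebraMap R _ (1 + lam ^ p * f) := by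
      rw [S13042Aux.add_pow_p p hp₁, mul_pow, hW₂p, one_pow, map_add, map_one, map_mul, map_pow]
    have h2 : IsUnit (1 + lam ^ p * f) := by
      have hm : lam ^ p * f ∈ IsLocalRing.maximalIdeal R :=
        Ideal.mul_mem_right _ _ (Ideal.pow_mem_of_mem _ hlam p hpP.pos)
      have := IsLocalRing.isUnit_one_sub_self_of_mem_nonunits (-(lam ^ p * f))
        (by rw [← IsLocalRing.mem_maximalIdeal]; exact neg_mem hm)
      rwa [sub_neg_eq_add] at this
    have h3 : IsUnit ((1 + algebraMap R (MvPolynomial (Fin 2) R ⧸ I₁) lam * W₂) ^ p) := by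
      rw [h1]; exact h2.map _
    exact (isUnit_pow_iff hpP.ne_zero).mp h3
  obtain ⟨u, hu'⟩ := hu
  have hdiff : (W₁ - W₂) ^ p = 0 := by
    have := S13042Aux.add_pow_p p hp₁ (W₁ - W₂) W₂
    rw [sub_add_cancel, hW₁p, hW₂p] at this
    exact (add_eq_right.mp this.symm)
  let vψ : Fin 2 → (MvPolynomial (Fin 2) R ⧸ I₁) := ![(W₁ - W₂) * ↑u⁻¹, W₂]
  let ψ : (MvPolynomial (Fin 2) R ⧸ I₂) →ₐ[R] (MvPolynomial (Fin 2) R ⧸ I₁) :=
    S13042Aux.quotLift _ _ vψ
      (by simp only [map_pow, aeval_X]; show ((W₁ - W₂) * ↑u⁻¹) ^ p = 0; rw [mul_pow, hdiff, zero_mul])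
      (by simp only [map_sub, map_pow, aeval_X, aeval_C]; rw [sub_eq_zero]; exact hW₂p)
  have hψx : ψ x = (W₁ - W₂) * ↑u⁻¹ := by
    show aeval vψ (X 0) = _
    rw [aeval_X]; rfl
  have hψw : ψ w = W₂ := by
    show aeval vψ (X 1) = _
    rw [aeval_X]; rfl
  have h12 : φ.comp ψ = AlgHom.id R _ := by
    apply S13042Aux.quot_algHom_ext
    · show φ (ψ x) = x
      rw [hψx, map_mul, map_sub, hφW₁, hφW₂]
      have hφu : φ (↑u) * φ (↑u⁻¹) = 1 := by rw [← map_mul, Units.mul_inv, map_one]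
      rw [hu', map_add, map_one, map_mul, AlgHom.commutes, hφW₂] at hφu
      calc (x + w + algebraMap R _ lam * x * w - w) * φ ↑u⁻¹
          = x * ((1 + algebraMap R _ lam * w) * φ ↑u⁻¹) := by ring
        _ = x := by rw [hφu, mul_one]
    · show φ (ψ w) = w
      rw [hψw, hφW₂]
  have h21 : ψ.comp φ = AlgHom.id R _ := by
    apply S13042Aux.quot_algHom_ext
    · show ψ (φ W₁) = W₁
      rw [hφW₁, map_add, map_add, map_mul, map_mul, AlgHom.commutes, hψx, hψw]
      have huu : (1 + algebraMap R (MvPolynomial (Fin 2) R ⧸ I₁) lam * W₂) * ↑u⁻¹ = 1 := by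
        rw [← hu', Units.mul_inv]
      calc (W₁ - W₂) * ↑u⁻¹ + W₂ + algebraMap R _ lam * ((W₁ - W₂) * ↑u⁻¹) * W₂
          = (W₁ - W₂) * ((1 + algebraMap R (MvPolynomial (Fin 2) R ⧸ I₁) lam * W₂) * ↑u⁻¹) + W₂ := by ring
        _ = W₁ := by rw [huu]; ring
    · show ψ (φ W₂) = W₂
      rw [hφW₂, hψw]
  refine ⟨AlgEquiv.ofAlgHom φ ψ h12 h21, ?_, ?_⟩
  · show φ W₁ = _
    rw [hφW₁, map_add, map_add, map_mul, map_mul]
    rfl
  · show φ W₂ = _
    rw [hφW₂]

end Groth.Agent.S13042
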