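import Groth.Statements.S13043
import Mathlib
import Groth.Agent.Lib.Helper64.DimOneCompl
import Groth.Agent.Lib.Helper64.ComplCartier

set_option autoImplicit false
universe u
open CoPerf

namespace Groth.Agent.S13043

section helpers
open CategoryTheory CategoryTheory.Limits AlgebraicGeometry


open TopologicalSpace

variable (S : Scheme.{u})

theorem coheight_lt_top [IsLocallyNoetherian S] (z : S) : Order.coheight z < ⊤ := by
  have h := ringKrullDim_lt_top (R := S.presheaf.stalk z)
  rw [ringKrullDim_stalk_eq_coheight] at h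
  rwa [← WithBot.coe_top, WithBot.coe_lt_coe] at h

/-- every point of a subset has a maximal generization inside the subset -/
theorem exists_max_generization [IsLocallyNoetherian S] (T : Set S) (x : S) (hx : x ∈ T) :
    ∃ ξ ∈ T, ξ ⤳ x ∧ ∀ y ∈ T, y ⤳ ξ → y = ξ := by
  induction' hn : Order.coheight x using WellFoundedLT.induction with n ih generalizing x
  by_cases hmax : ∀ y ∈ T, y ⤳ x → y = x
  · exact ⟨x, hx, specializes_rfl, hmax⟩
  · push Not at hmax
    obtain ⟨y, hyT, hyx, hne⟩ := hmax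
    have hle : x ≤ y := hyx
    have hlt : x < y :=
      lt_of_le_not_ge hle fun hge => hne (Specializes.antisymm hge hyx).eq.symm
    have h1 := Order.coheight_strictAnti hlt (coheight_lt_top S y)
    obtain ⟨ξ, hξT, hξy, hξmax⟩ := ih (Order.coheight y) (hn ▸ h1) y hyT rfl
    exact ⟨ξ, hξT, hξy.trans hyx, hξmax⟩

/-- a proper generization of a codimension one point lies in every dense open -/
theorem mem_of_dim_one [IsLocallyNoetherian S] (U : S.Opens) (hU : Dense (U : Set S)) (ξ y : S)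
    (h1 : ringKrullDim (S.presheaf.stalk ξ) = 1) (hy : y ⤳ ξ) (hne : y ≠ ξ) : y ∈ U := by
  by_contra hyU
  obtain ⟨η, hηU, hηy⟩ := Groth.Agent.Lib.Helper64.PuncturedAffine.exists_specializes_of_mem_closure
    S U y (by rw [hU.closure_eq]; trivial)
  have hηne : η ≠ y := fun h => hyU (h ▸ hηU)
  have hlt1 : ξ < y :=
    lt_of_le_not_ge (show ξ ≤ y from hy) fun hge => hne (Specializes.antisymm hge hy).eq.symm
  have hlt2 : y < η :=
    lt_of_le_not_ge (show y ≤ η from hηy) fun hge => hηne (Specializes.antisymm hge hηy).eq.symm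
  have h2 := Order.coheight_add_one_le hlt1
  have h3 := Order.coheight_add_one_le hlt2
  rw [ringKrullDim_stalk_eq_coheight] at h1
  have h4 : Order.coheight ξ = 1 := by exact_mod_cast h1
  have h5 : (2 : ℕ∞) ≤ Order.coheight ξ := by
    calc (2 : ℕ∞) = 0 + 1 + 1 := by norm_num
      _ ≤ Order.coheight η + 1 + 1 := by gcongr; exact bot_le
      _ ≤ Order.coheight y + 1 := by gcongr
      _ ≤ Order.coheight ξ := h2
  rw [h4] at h5
  exact absurd h5 (by norm_num)

/-- maximal points of the complement of `U` -/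
def maxPts (U : S.Opens) : Set S := {ξ | ξ ∉ U ∧ ∀ y, y ∉ U → y ⤳ ξ → y = ξ}

theorem maxPts_finite [IsNoetherian S] (U : S.Opens) : (maxPts S U).Finite := by
  obtain ⟨F, hF, hcl, hirr, hsup⟩ :=
    NoetherianSpace.exists_finite_set_isClosed_irreducible (U.isOpen.isClosed_compl)
  refine (hF.biUnion (t := fun C => {η : S | IsGenericPoint η C}) fun C _ =>
    Set.Subsingleton.finite fun a ha b hb => ha.eq hb).subset ?_
  rintro ξ ⟨hξU, hξmax⟩
  have hξZ : ξ ∈ (U : Set S)ᶜ := hξU
  rw [hsup] at hξZ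
  obtain ⟨C, hCF, hξC⟩ := hξZ
  have hgen := (hirr C hCF).isGenericPoint_genericPoint_closure
  rw [(hcl C hCF).closure_eq] at hgen
  set η := (hirr C hCF).genericPoint with hη
  have hηC : η ∈ C := hgen.mem
  have hηU : η ∉ U := by
    have : η ∈ (U : Set S)ᶜ := by rw [hsup]; exact ⟨C, hCF, hηC⟩
    exact this
  have hsp : η ⤳ ξ := hgen.specializes hξC
  have heq : η = ξ := hξmax η hηU hsp
  simp only [Set.mem_iUnion, Set.mem_ofPred_eq]
  exact ⟨C, hCF, heq ▸ hgen⟩

/-- the complement of an open with affine inclusion containing a dense open `U` is the union of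
the closures of the maximal points of the complement of `U` which it contains -/
theorem compl_eq [IsNoetherian S] (U : S.Opens) (hU : Dense (U : Set S)) (V : S.Opens)
    (hUV : U ≤ V) [IsAffineHom V.ι] :
    ((V : Set S)ᶜ) = ⋃ ξ ∈ maxPts S U ∩ (V : Set S)ᶜ, closure {ξ} := by
  apply Set.Subset.antisymm
  · intro x hx
    obtain ⟨ξ, hξV, hξx, hξmax⟩ := exists_max_generization S ((V : Set S)ᶜ) x hx
    have hVdense : Dense (V : Set S) := hU.mono hUV
    have hdim : ringKrullDim (S.presheaf.stalk ξ) = 1 :=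
      Groth.Agent.Lib.Helper64.PuncturedAffine.ringKrullDim_stalk_eq_one S V ξ hξV
        (fun y hy hyξ => hξmax y hy hyξ) (by rw [hVdense.closure_eq]; trivial)
    have hξU : ξ ∉ U := fun h => hξV (hUV h)
    have hξD : ξ ∈ maxPts S U := by
      refine ⟨hξU, fun y hyU hyξ => ?_⟩
      by_contra hne
      exact hyU (mem_of_dim_one S U hU ξ y hdim hyξ hne)
    simp only [Set.mem_iUnion]
    exact ⟨ξ, ⟨hξD, hξV⟩, hξx.mem_closure⟩
  · intro x hx
    simp only [Set.mem_iUnion] at hx
    obtain ⟨ξ, ⟨-, hξV⟩, hxξ⟩ := hx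
    have hcl : IsClosed ((V : Set S)ᶜ) := V.isOpen.isClosed_compl
    exact (hcl.closure_subset_iff.2 (Set.singleton_subset_iff.2 hξV)) hxξ

theorem finite_affine_opens [IsNoetherian S] (U : S.Opens) (hU : Dense (U : Set S)) :
    Set.Finite {V : S.Opens | U ≤ V ∧ IsAffineHom V.ι} := by
  have hD := maxPts_finite S U
  have hP : (𝒫 (maxPts S U)).Finite := hD.finite_subsets
  let Ψ : Set S → Set S := fun W => (⋃ ξ ∈ W, closure {ξ})ᶜ
  have himg : ((fun V : S.Opens => (V : Set S)) '' {V : S.Opens | U ≤ V ∧ IsAffineHom V.ι}) ⊆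
      Ψ '' (𝒫 (maxPts S U)) := by
    rintro _ ⟨V, ⟨hUV, hV⟩, rfl⟩
    haveI := hV
    refine ⟨maxPts S U ∩ (V : Set S)ᶜ, Set.inter_subset_left, ?_⟩
    change (⋃ ξ ∈ maxPts S U ∩ (V : Set S)ᶜ, closure {ξ})ᶜ = (V : Set S)
    rw [← compl_eq S U hU V hUV, compl_compl]
  exact Set.Finite.of_finite_image ((hP.image Ψ).subset himg) SetLike.coe_injective.injOn

theorem isAffineOpen_inf (V : S.Opens) [IsAffineHom V.ι] (A : S.Opens) (hA : IsAffineOpen A) :
    IsAffineOpen (V ⊓ A) := by
  have h1 : IsAffineOpen (V.ι ⁻¹ᵁ A) := hA.preimage V.ι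
  have h2 := (V.ι.isAffineOpen_iff_of_isOpenImmersion (U := V.ι ⁻¹ᵁ A)).2 h1
  rwa [Scheme.Hom.image_preimage_eq_opensRange_inf, Scheme.Opens.opensRange_ι] at h2

theorem isAffineHom_inf (V W : S.Opens) [IsAffineHom V.ι] [IsAffineHom W.ι] :
    IsAffineHom (V ⊓ W).ι := by
  apply Groth.Agent.Lib.Helper64.ComplCartier.isAffineHom_ι_of_inf
  intro A hA
  have h1 := isAffineOpen_inf S W A hA
  have h2 := isAffineOpen_inf S V (W ⊓ A) h1
  rwa [← inf_assoc] at h2

theorem sInf_affine (U : S.Opens) (s : Set S.Opens) (hs : s.Finite)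
    (h : ∀ V ∈ s, U ≤ V ∧ IsAffineHom V.ι) : U ≤ sInf s ∧ IsAffineHom (sInf s).ι := by
  induction s, hs using Set.Finite.induction_on with
  | empty =>
    rw [sInf_empty]
    haveI : IsIso (⊤ : S.Opens).ι := by
      have : (⊤ : S.Opens).ι = S.topIso.hom := rfl
      rw [this]; infer_instance
    exact ⟨le_top, inferInstance⟩
  | insert ha hs ih =>
    rw [sInf_insert]
    have h1 := h _ (Set.mem_insert _ _)
    have h2 := ih (fun V hV => h V (Set.mem_insert_of_mem _ hV))
    haveI := h1.2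
    haveI := h2.2
    exact ⟨le_inf h1.1 h2.1, isAffineHom_inf S _ _⟩

end helpers

open AlgebraicGeometry in
/-- For a Noetherian scheme S that is separated, and a dense open subset U ⊆ S that is not empty, only
finitely many open subsets V ⊇ U have an affine inclusion morphism V → S, and among them there is
one contained in all the others (a least element for inclusion). -/
theorem result
    (S : Scheme.{u}) [IsNoetherian S] [S.IsSeparated] (U : S.Opens)
    (hne : (U : Set S).Nonempty) (hU : Dense (U : Set S)) :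
    Set.Finite {V : S.Opens | U ≤ V ∧ IsAffineHom V.ι} ∧
      ∃ V₀ : S.Opens, (U ≤ V₀ ∧ IsAffineHom V₀.ι) ∧
        ∀ V : S.Opens, U ≤ V → IsAffineHom V.ι → V₀ ≤ V := by
  have hfin := finite_affine_opens S U hU
  refine ⟨hfin, ?_⟩
  obtain ⟨h1, h2⟩ := sInf_affine S U _ hfin (fun V hV => hV)
  exact ⟨sInf _, ⟨h1, h2⟩, fun V hUV hV => sInf_le ⟨hUV, hV⟩⟩

end Groth.Agent.S13043
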