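import Groth.Statements.S13044
-- import your own Groth.Agent.* helpers here
import Mathlib.AlgebraicGeometry.Morphisms.SchemeTheoreticallyDominant

set_option autoImplicit false
universe u
open MaxMod

namespace Groth.Agent.S13044

open CategoryTheory Limits AlgebraicGeometry

theorem isSchemeTheoreticallyDominant_SpecMap {A B : CommRingCat.{u}} (φ : A ⟶ B)
    (hφ : Function.Injective φ.hom) : IsSchemeTheoreticallyDominant (Spec.map φ) := by
  constructor
  apply Scheme.IdealSheafData.ext_of_isAffine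
  rw [Scheme.Hom.ker_apply]
  simp only [Scheme.IdealSheafData.ideal_bot, Pi.bot_apply]
  rw [← RingHom.injective_iff_ker_eq_bot]
  have h1 : (Spec.map φ).appTop = (Scheme.ΓSpecIso A).hom ≫ φ ≫ (Scheme.ΓSpecIso B).inv := by
    rw [Scheme.ΓSpecIso_inv_naturality, Iso.hom_inv_id_assoc]
  change Function.Injective ((Spec.map φ).appTop).hom
  rw [h1]
  simp only [CommRingCat.hom_comp, RingHom.coe_comp]
  exact ((ConcreteCategory.bijective_of_isIso (Scheme.ΓSpecIso B).inv).1.comp hφ).comp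
    (ConcreteCategory.bijective_of_isIso (Scheme.ΓSpecIso A).hom).1

/-- A morphism from a flat `R`-scheme into the target of a closed immersion factors through it as
soon as it does so on the generic fibre. -/
theorem exists_factor {A B : CommRingCat.{u}} (φ : A ⟶ B) (hφ : Function.Injective φ.hom)
    {W P G : Scheme.{u}} (w : W ⟶ Spec A) [Flat w] (g : W ⟶ P) (i : G ⟶ P) [IsClosedImmersion i]
    (c : pullback w (Spec.map φ) ⟶ G) (hc : c ≫ i = pullback.fst w (Spec.map φ) ≫ g) :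
    ∃ c' : W ⟶ G, c' ≫ i = g := by
  have := isSchemeTheoreticallyDominant_SpecMap φ hφ
  have : IsSchemeTheoreticallyDominant (pullback.fst w (Spec.map φ)) := inferInstance
  let l : pullback w (Spec.map φ) ⟶ pullback g i := pullback.lift (pullback.fst _ _) c hc.symm
  have hl : l ≫ pullback.fst g i = pullback.fst w (Spec.map φ) := pullback.lift_fst _ _ _
  have hker : (pullback.fst g i).ker = ⊥ := by
    have h1 := Scheme.Hom.le_ker_comp l (pullback.fst g i)
    rw [hl, Scheme.Hom.ker_eq_bot (pullback.fst w (Spec.map φ))] at h1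
    exact le_bot_iff.mp h1
  have : IsIso (pullback.fst g i) := IsClosedImmersion.isIso_iff_ker_eq_bot.mpr hker
  refine ⟨inv (pullback.fst g i) ≫ pullback.snd g i, ?_⟩
  rw [Category.assoc, ← pullback.condition, IsIso.inv_hom_id_assoc]

open CategoryTheory Limits AlgebraicGeometry in
/-- Let R be a discrete valuation ring with fraction field K, let Y be a flat separated R-scheme and let
Γ → Y ×_R Y be a closed subscheme, with projections p₁, p₂ : Γ → Y, such that Γ is flat over R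
(equivalently, Γ is the schematic closure of its generic fibre) and p₁, p₂ are flat. If for every
scheme T over Spec K the relation on the T-valued points of Y defined by the T-valued points of Γ is
an equivalence relation, then for every scheme T over Spec R that relation is an equivalence
relation: Γ is a flat equivalence relation on Y. -/
theorem result
    (R K : Type u) [CommRing R] [IsDomain R] [IsDiscreteValuationRing R]
    [Field K] [Algebra R K] [IsFractionRing R K]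
    (Y Γ : Scheme.{u}) (f : Y ⟶ Spec (CommRingCat.of R)) [IsSeparated f] [Flat f]
    (p₁ p₂ : Γ ⟶ Y) (h : p₁ ≫ f = p₂ ≫ f)
    (hΓ : IsClosedImmersion (pullback.lift p₁ p₂ h))
    [Flat (p₁ ≫ f)] [Flat p₁] [Flat p₂]
    (hK : ∀ (T : Scheme.{u}) (t : T ⟶ Spec (CommRingCat.of R)),
      (∃ s : T ⟶ Spec (CommRingCat.of K), t = s ≫ Spec.map (CommRingCat.ofHom (algebraMap R K))) →
      _root_.Equivalence fun a b : {a : T ⟶ Y // a ≫ f = t} =>
        ∃ c : T ⟶ Γ, c ≫ p₁ = a.1 ∧ c ≫ p₂ = b.1) :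
    ∀ (T : Scheme.{u}) (t : T ⟶ Spec (CommRingCat.of R)),
      _root_.Equivalence fun a b : {a : T ⟶ Y // a ≫ f = t} =>
        ∃ c : T ⟶ Γ, c ≫ p₁ = a.1 ∧ c ≫ p₂ = b.1 := by
  set φ : CommRingCat.of R ⟶ CommRingCat.of K := CommRingCat.ofHom (algebraMap R K) with hφdef
  have hφ : Function.Injective φ.hom := IsFractionRing.injective R K
  set i := pullback.lift p₁ p₂ h with hi
  have hi1 : i ≫ pullback.fst f f = p₁ := pullback.lift_fst _ _ _
  have hi2 : i ≫ pullback.snd f f = p₂ := pullback.lift_snd _ _ _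
  -- the generic fibre test
  have hKW : ∀ {W : Scheme.{u}} (w : W ⟶ Spec (CommRingCat.of R)),
      _root_.Equivalence fun a b : {a : pullback w (Spec.map φ) ⟶ Y //
          a ≫ f = pullback.fst w (Spec.map φ) ≫ w} =>
        ∃ c : pullback w (Spec.map φ) ⟶ Γ, c ≫ p₁ = a.1 ∧ c ≫ p₂ = b.1 := fun w =>
    hK _ _ ⟨pullback.snd w (Spec.map φ), pullback.condition⟩
  -- reflexivity
  obtain ⟨r, hr⟩ : ∃ r : Y ⟶ Γ, r ≫ i = pullback.lift (𝟙 Y) (𝟙 Y) rfl := by
    obtain ⟨c, hc1, hc2⟩ := (hKW f).refl ⟨pullback.fst f (Spec.map φ), rfl⟩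
    refine exists_factor φ hφ f _ i c ?_
    apply pullback.hom_ext
    · simp only [Category.assoc, hi1, pullback.lift_fst, Category.comp_id]; exact hc1
    · simp only [Category.assoc, hi2, pullback.lift_snd, Category.comp_id]; exact hc2
  have hr1 : r ≫ p₁ = 𝟙 Y := by
    have h0 := congrArg (fun m => m ≫ pullback.fst f f) hr
    simp only [Category.assoc, hi1, pullback.lift_fst] at h0
    exact h0
  have hr2 : r ≫ p₂ = 𝟙 Y := by
    have h0 := congrArg (fun m => m ≫ pullback.snd f f) hr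
    simp only [Category.assoc, hi2, pullback.lift_snd] at h0
    exact h0
  -- symmetry
  obtain ⟨σ, hσ⟩ : ∃ σ : Γ ⟶ Γ, σ ≫ i = pullback.lift p₂ p₁ h.symm := by
    let j := pullback.fst (p₁ ≫ f) (Spec.map φ)
    have hx : (j ≫ p₁) ≫ f = j ≫ p₁ ≫ f := Category.assoc _ _ _
    have hy : (j ≫ p₂) ≫ f = j ≫ p₁ ≫ f :=
      (Category.assoc _ _ _).trans (congrArg (fun m => j ≫ m) h.symm)
    obtain ⟨c, hc1, hc2⟩ := (hKW (p₁ ≫ f)).symm
      (x := ⟨j ≫ p₁, hx⟩) (y := ⟨j ≫ p₂, hy⟩) ⟨j, rfl, rfl⟩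
    refine exists_factor φ hφ (p₁ ≫ f) _ i c ?_
    apply pullback.hom_ext
    · simp only [Category.assoc, hi1, pullback.lift_fst]; exact hc1
    · simp only [Category.assoc, hi2, pullback.lift_snd]; exact hc2
  have hσ1 : σ ≫ p₁ = p₂ := by
    have h0 := congrArg (fun m => m ≫ pullback.fst f f) hσ
    simp only [Category.assoc, hi1, pullback.lift_fst] at h0
    exact h0
  have hσ2 : σ ≫ p₂ = p₁ := by
    have h0 := congrArg (fun m => m ≫ pullback.snd f f) hσ
    simp only [Category.assoc, hi2, pullback.lift_snd] at h0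
    exact h0
  -- transitivity
  have hcond : (pullback.fst p₂ p₁ ≫ p₁) ≫ f = (pullback.snd p₂ p₁ ≫ p₂) ≫ f := by
    have e1 : (pullback.fst p₂ p₁ ≫ p₁) ≫ f = pullback.fst p₂ p₁ ≫ p₂ ≫ f :=
      (Category.assoc _ _ _).trans (congrArg (fun m => pullback.fst p₂ p₁ ≫ m) h)
    have e2 : pullback.fst p₂ p₁ ≫ p₂ ≫ f = pullback.snd p₂ p₁ ≫ p₁ ≫ f := by
      rw [← Category.assoc, pullback.condition, Category.assoc]
    have e3 : pullback.snd p₂ p₁ ≫ p₁ ≫ f = (pullback.snd p₂ p₁ ≫ p₂) ≫ f :=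
      (congrArg (fun m => pullback.snd p₂ p₁ ≫ m) h).trans (Category.assoc _ _ _).symm
    exact e1.trans (e2.trans e3)
  obtain ⟨τ, hτ⟩ : ∃ τ : pullback p₂ p₁ ⟶ Γ,
      τ ≫ i = pullback.lift (pullback.fst p₂ p₁ ≫ p₁) (pullback.snd p₂ p₁ ≫ p₂) hcond := by
    let w : pullback p₂ p₁ ⟶ Spec (CommRingCat.of R) := (pullback.fst p₂ p₁ ≫ p₁) ≫ f
    have hwflat : Flat w := by
      have : Flat (pullback.fst p₂ p₁ ≫ p₁ ≫ f) := inferInstance
      rwa [← Category.assoc] at this
    let j := pullback.fst w (Spec.map φ)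
    have hx : (j ≫ pullback.fst p₂ p₁ ≫ p₁) ≫ f = j ≫ w := Category.assoc _ _ _
    have hy : (j ≫ pullback.fst p₂ p₁ ≫ p₂) ≫ f = j ≫ w := by
      have e1 : (pullback.fst p₂ p₁ ≫ p₂) ≫ f = w :=
        (Category.assoc _ _ _).trans ((congrArg (fun m => pullback.fst p₂ p₁ ≫ m) h.symm).trans
          (Category.assoc _ _ _).symm)
      exact (Category.assoc _ _ _).trans (congrArg (fun m => j ≫ m) e1)
    have hz : (j ≫ pullback.snd p₂ p₁ ≫ p₂) ≫ f = j ≫ w :=
      (Category.assoc _ _ _).trans (congrArg (fun m => j ≫ m) hcond.symm)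
    have hab : ∃ c : pullback w (Spec.map φ) ⟶ Γ, c ≫ p₁ = j ≫ pullback.fst p₂ p₁ ≫ p₁ ∧
        c ≫ p₂ = j ≫ pullback.fst p₂ p₁ ≫ p₂ :=
      ⟨j ≫ pullback.fst p₂ p₁, Category.assoc _ _ _, Category.assoc _ _ _⟩
    have hbc : ∃ c : pullback w (Spec.map φ) ⟶ Γ, c ≫ p₁ = j ≫ pullback.fst p₂ p₁ ≫ p₂ ∧
        c ≫ p₂ = j ≫ pullback.snd p₂ p₁ ≫ p₂ :=
      ⟨j ≫ pullback.snd p₂ p₁,
        (Category.assoc _ _ _).trans (congrArg (fun m => j ≫ m) pullback.condition.symm),
        Category.assoc _ _ _⟩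
    obtain ⟨c, hc1, hc2⟩ := (hKW w).trans
      (x := ⟨j ≫ pullback.fst p₂ p₁ ≫ p₁, hx⟩)
      (y := ⟨j ≫ pullback.fst p₂ p₁ ≫ p₂, hy⟩)
      (z := ⟨j ≫ pullback.snd p₂ p₁ ≫ p₂, hz⟩) hab hbc
    refine exists_factor φ hφ w _ i c ?_
    apply pullback.hom_ext
    · simp only [Category.assoc, hi1, pullback.lift_fst]; exact hc1
    · simp only [Category.assoc, hi2, pullback.lift_snd]; exact hc2
  have hτ1 : τ ≫ p₁ = pullback.fst p₂ p₁ ≫ p₁ := by
    have h0 := congrArg (fun m => m ≫ pullback.fst f f) hτ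
    simp only [Category.assoc, hi1, pullback.lift_fst] at h0
    exact h0
  have hτ2 : τ ≫ p₂ = pullback.snd p₂ p₁ ≫ p₂ := by
    have h0 := congrArg (fun m => m ≫ pullback.snd f f) hτ
    simp only [Category.assoc, hi2, pullback.lift_snd] at h0
    exact h0
  intro T t
  refine ⟨?_, ?_, ?_⟩
  · intro a
    exact ⟨a.1 ≫ r, by rw [Category.assoc, hr1, Category.comp_id],
      by rw [Category.assoc, hr2, Category.comp_id]⟩
  · rintro a b ⟨c, hc1, hc2⟩
    exact ⟨c ≫ σ, by rw [Category.assoc, hσ1, hc2], by rw [Category.assoc, hσ2, hc1]⟩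
  · rintro a b c ⟨c₁, h11, h12⟩ ⟨c₂, h21, h22⟩
    refine ⟨pullback.lift c₁ c₂ (by rw [h12, h21]) ≫ τ, ?_, ?_⟩
    · rw [Category.assoc, hτ1, pullback.lift_fst_assoc, h11]
    · rw [Category.assoc, hτ2, pullback.lift_snd_assoc, h22]

end Groth.Agent.S13044
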