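import Groth.Statements.S13045
import Mathlib

set_option autoImplicit false
universe u
open FrobAlg

namespace Groth.Agent.S13045

section Aux

open TensorProduct

section
variable {R : Type*} [CommRing R] {N : Type*} [AddCommGroup N] [Module R N]
  {ι : Type*} {T : ι → Type*} [∀ i, AddCommGroup (T i)] [∀ i, Module R (T i)]
  (φ : ∀ i, N →ₗ[R] T i)

theorem nat_fsl (I : Type*) [DecidableEq I] (i : ι) (z : (I →₀ R) ⊗[R] N) (a : I) :
    φ i (finsuppScalarLeft R N I z a) =
      finsuppScalarLeft R (T i) I (LinearMap.lTensor (I →₀ R) (φ i) z) a := by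
  induction z using TensorProduct.induction_on with
  | zero => simp
  | tmul f n =>
    rw [LinearMap.lTensor_tmul, finsuppScalarLeft_apply_tmul_apply,
      finsuppScalarLeft_apply_tmul_apply, map_smul]
  | add x y hx hy =>
    simp only [map_add, Finsupp.add_apply, hx, hy]

theorem inj_free (hφ : ∀ n, (∀ i, φ i n = 0) → n = 0) (I : Type*) :
    Function.Injective (LinearMap.pi fun i => LinearMap.lTensor (I →₀ R) (φ i)) := by
  classical
  rw [injective_iff_map_eq_zero]
  intro z hz
  apply (finsuppScalarLeft R N I).injective
  rw [map_zero]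
  ext a
  apply hφ
  intro i
  rw [nat_fsl]
  have : LinearMap.lTensor (I →₀ R) (φ i) z = 0 := congrFun hz i
  rw [this, map_zero]
  rfl

theorem inj_projective (hφ : ∀ n, (∀ i, φ i n = 0) → n = 0)
    (M : Type*) [AddCommGroup M] [Module R M] [Module.Projective R M] :
    Function.Injective (LinearMap.pi fun i => LinearMap.lTensor M (φ i)) := by
  obtain ⟨s, hs⟩ := (Module.projective_def' (R := R) (P := M)).mp inferInstance
  rw [injective_iff_map_eq_zero]
  intro z hz
  have hz' : ∀ i, LinearMap.lTensor M (φ i) z = 0 := fun i => congrFun hz i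
  have h1 : LinearMap.rTensor N s z = 0 := by
    apply inj_free φ hφ M
    rw [map_zero]
    ext i : 1
    change LinearMap.lTensor (M →₀ R) (φ i) (LinearMap.rTensor N s z) = 0
    rw [← LinearMap.comp_apply, LinearMap.lTensor_comp_rTensor, ← LinearMap.rTensor_comp_lTensor,
      LinearMap.comp_apply, hz' i, map_zero]
  have h2 := congrArg (LinearMap.rTensor N (Finsupp.linearCombination R id)) h1
  rw [← LinearMap.comp_apply, ← LinearMap.rTensor_comp, hs, LinearMap.rTensor_id, map_zero] at h2
  exact h2

end


end Aux

open TensorProduct in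
/-- Let p be a prime, R a commutative ring of characteristic p and A a commutative R-algebra of
characteristic p, with Frobenius twists A^{p^i/R} = R ⊗_{F^i,R} A, relative Frobenius maps F_i :
A^{p^{i+1}/R} → A^{p^i/R} and preperfection A^{p^∞/R} = lim_i A^{p^i/R} ⊆ Π_i A^{p^i/R}. For every
projective R-module M the natural map M ⊗_R A^{p^∞/R} → Π_i (M ⊗_R A^{p^i/R}), m ⊗ x ↦ (m ⊗ x_i)_i,
is injective; in particular the base change map M ⊗_R lim_i A^{p^i/R} → lim_i (M ⊗_R A^{p^i/R}) is
injective. (The published statement is phrased for a projective R-algebra R′ in place of M; the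
printed argument is the module statement given here.) -/
theorem result
    (p : ℕ) [Fact p.Prime] (R : Type u) [CommRing R] [CharP R p]
    (A : Type u) [CommRing A] [Algebra R A] [CharP A p]
    (M : Type u) [AddCommGroup M] [Module R M] [Module.Projective R M] :
    Function.Injective
      (LinearMap.pi fun i : ℕ =>
        LinearMap.lTensor M
          (((Pi.evalAlgHom R (fun k => W4c1imperftorsors.Twist p R A k) i).comp
            (W4c1imperftorsors.prePerf p R A).val).toLinearMap) :
        M ⊗[R] ↥(W4c1imperftorsors.prePerf p R A) →ₗ[R] (Π i : ℕ, M ⊗[R] W4c1imperftorsors.Twist p R A i)) := by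
  refine inj_projective (R := R) (N := ↥(W4c1imperftorsors.prePerf p R A))
    (T := fun i : ℕ => W4c1imperftorsors.Twist p R A i)
    (fun i : ℕ => ((Pi.evalAlgHom R (fun k => W4c1imperftorsors.Twist p R A k) i).comp
            (W4c1imperftorsors.prePerf p R A).val).toLinearMap) ?_ M
  intro n hn
  apply Subtype.ext
  funext i
  exact hn i

end Groth.Agent.S13045
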