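import Groth.Statements.S13046
import Groth.Agent.S13045
import Mathlib

set_option autoImplicit false
universe u
open FrobAlg

namespace Groth.Agent.S13046

section Aux

open TensorProduct
open Groth.Agent.S13045 (nat_fsl)

section
variable {R : Type*} [CommRing R] {N : Type*} [AddCommGroup N] [Module R N]
  {T : ℕ → Type*} [∀ i, AddCommGroup (T i)] [∀ i, Module R (T i)]
  (φ : ∀ i, N →ₗ[R] T i) (F : ∀ i, T (i + 1) →ₗ[R] T i)

theorem compat_of_range (hφF : ∀ i, F i ∘ₗ φ (i + 1) = φ i)
    (M : Type*) [AddCommGroup M] [Module R M] (z : M ⊗[R] N) (i : ℕ) :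
    LinearMap.lTensor M (F i) (LinearMap.lTensor M (φ (i + 1)) z) = LinearMap.lTensor M (φ i) z := by
  rw [← LinearMap.comp_apply, ← LinearMap.lTensor_comp, hφF]

theorem range_free
    (hlim : ∀ t : ∀ i, T i, (∀ i, F i (t (i + 1)) = t i) → ∃ n : N, ∀ i, φ i n = t i)
    (I : Type*) [Finite I] [DecidableEq I] (y : ∀ i, (I →₀ R) ⊗[R] T i)
    (hy : ∀ i, LinearMap.lTensor (I →₀ R) (F i) (y (i + 1)) = y i) :
    ∃ z : (I →₀ R) ⊗[R] N, ∀ i, LinearMap.lTensor (I →₀ R) (φ i) z = y i := by
  have hv : ∀ (a : I) (i : ℕ), F i (finsuppScalarLeft R (T (i + 1)) I (y (i + 1)) a) =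
      finsuppScalarLeft R (T i) I (y i) a := by
    intro a i
    rw [nat_fsl (fun _ : Unit => F i) I () (y (i + 1)) a, hy i]
  choose n hn using fun a : I => hlim (fun i => finsuppScalarLeft R (T i) I (y i) a) (hv a)
  refine ⟨(finsuppScalarLeft R N I).symm (Finsupp.equivFunOnFinite.symm n), fun i => ?_⟩
  apply (finsuppScalarLeft R (T i) I).injective
  ext a
  rw [← nat_fsl (fun _ : Unit => φ i) I () _ a, LinearEquiv.apply_symm_apply]
  exact hn a i


theorem range_proj
    (hlim : ∀ t : ∀ i, T i, (∀ i, F i (t (i + 1)) = t i) → ∃ n : N, ∀ i, φ i n = t i)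
    (M : Type*) [AddCommGroup M] [Module R M] [Module.Finite R M] [Module.Projective R M]
    (y : ∀ i, M ⊗[R] T i)
    (hy : ∀ i, LinearMap.lTensor M (F i) (y (i + 1)) = y i) :
    ∃ z : M ⊗[R] N, ∀ i, LinearMap.lTensor M (φ i) z = y i := by
  classical
  obtain ⟨k, f, g, -, -, hfg⟩ := Module.Finite.exists_comp_eq_id_of_projective R M
  let e := Finsupp.linearEquivFunOnFinite R R (Fin k)
  let s : M →ₗ[R] (Fin k →₀ R) := e.symm.toLinearMap ∘ₗ g
  let π : (Fin k →₀ R) →ₗ[R] M := f ∘ₗ e.toLinearMap
  have hπs : π ∘ₗ s = LinearMap.id := by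
    ext m
    simp [π, s, ← LinearMap.comp_apply, hfg]
  have hy' : ∀ i, LinearMap.lTensor (Fin k →₀ R) (F i) (LinearMap.rTensor (T (i + 1)) s (y (i + 1))) =
      LinearMap.rTensor (T i) s (y i) := by
    intro i
    rw [← LinearMap.comp_apply, LinearMap.lTensor_comp_rTensor, ← LinearMap.rTensor_comp_lTensor,
      LinearMap.comp_apply, hy i]
  obtain ⟨zF, hzF⟩ := range_free φ F hlim (Fin k) (fun i => LinearMap.rTensor (T i) s (y i)) hy'
  refine ⟨LinearMap.rTensor N π zF, fun i => ?_⟩
  rw [← LinearMap.comp_apply, LinearMap.lTensor_comp_rTensor, ← LinearMap.rTensor_comp_lTensor,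
    LinearMap.comp_apply, hzF i, ← LinearMap.comp_apply, ← LinearMap.rTensor_comp, hπs,
    LinearMap.rTensor_id, LinearMap.id_apply]

end


end Aux

open TensorProduct in
/-- Let p be a prime, R a commutative ring of characteristic p and A a commutative R-algebra of
characteristic p, with Frobenius twists A^{p^i/R} = R ⊗_{F^i,R} A, relative Frobenius maps F_i :
A^{p^{i+1}/R} → A^{p^i/R} and preperfection A^{p^∞/R} = lim_i A^{p^i/R} ⊆ Π_i A^{p^i/R}. For every
finitely generated projective R-module M, a sequence y ∈ Π_i (M ⊗_R A^{p^i/R}) lies in the image of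
the natural map M ⊗_R A^{p^∞/R} → Π_i (M ⊗_R A^{p^i/R}), m ⊗ x ↦ (m ⊗ x_i)_i, if and only if (M ⊗
F_i)(y_{i+1}) = y_i for all i: the image is exactly the module of compatible sequences. Together
with the injectivity of that map, which holds for every projective M, this says that the base change
map M ⊗_R lim_i A^{p^i/R} → lim_i (M ⊗_R A^{p^i/R}) is an isomorphism. (The published statement is
phrased for a finite locally free R-algebra R′ in place of M and identifies the target with the
preperfection of A ⊗_R R′ over R′; the printed argument is the module statement given here, and that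
identification is not part of this row; the injectivity half is stated separately for all projective
M.) -/
theorem result
    (p : ℕ) [Fact p.Prime] (R : Type u) [CommRing R] [CharP R p]
    (A : Type u) [CommRing A] [Algebra R A] [CharP A p]
    (M : Type u) [AddCommGroup M] [Module R M] [Module.Finite R M] [Module.Projective R M]
    (y : Π i : ℕ, M ⊗[R] W4c1imperftorsors.Twist p R A i) :
    y ∈ LinearMap.range
        (LinearMap.pi fun i : ℕ =>
        LinearMap.lTensor M
          (((Pi.evalAlgHom R (fun k => W4c1imperftorsors.Twist p R A k) i).comp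
            (W4c1imperftorsors.prePerf p R A).val).toLinearMap) :
        M ⊗[R] ↥(W4c1imperftorsors.prePerf p R A) →ₗ[R] (Π i : ℕ, M ⊗[R] W4c1imperftorsors.Twist p R A i)) ↔
      ∀ i : ℕ, LinearMap.lTensor M (W4c1imperftorsors.relFrob p R A i).toLinearMap (y (i + 1)) = y i := by
  have hmem : ∀ (n : ↥(W4c1imperftorsors.prePerf p R A)) (i : ℕ),
      W4c1imperftorsors.relFrob p R A i ((n : Π j : ℕ, W4c1imperftorsors.Twist p R A j) (i + 1)) =
        (n : Π j : ℕ, W4c1imperftorsors.Twist p R A j) i := by
    intro n i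
    have h := n.2
    unfold W4c1imperftorsors.prePerf at h
    rw [Algebra.mem_iInf] at h
    exact (AlgHom.mem_equalizer _ _ _).mp (h i)
  have hφF : ∀ i : ℕ, (W4c1imperftorsors.relFrob p R A i).toLinearMap ∘ₗ
      (((Pi.evalAlgHom R (fun k => W4c1imperftorsors.Twist p R A k) (i + 1)).comp
            (W4c1imperftorsors.prePerf p R A).val).toLinearMap) =
      (((Pi.evalAlgHom R (fun k => W4c1imperftorsors.Twist p R A k) i).comp
            (W4c1imperftorsors.prePerf p R A).val).toLinearMap) := by
    intro i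
    apply LinearMap.ext
    intro n
    exact hmem n i
  have hlim : ∀ t : ∀ i : ℕ, W4c1imperftorsors.Twist p R A i,
      (∀ i, (W4c1imperftorsors.relFrob p R A i).toLinearMap (t (i + 1)) = t i) →
      ∃ n : ↥(W4c1imperftorsors.prePerf p R A), ∀ i,
        (((Pi.evalAlgHom R (fun k => W4c1imperftorsors.Twist p R A k) i).comp
            (W4c1imperftorsors.prePerf p R A).val).toLinearMap) n = t i := by
    intro t ht
    refine ⟨⟨t, ?_⟩, fun i => rfl⟩
    unfold W4c1imperftorsors.prePerf
    rw [Algebra.mem_iInf]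
    intro i
    exact (AlgHom.mem_equalizer _ _ _).mpr (ht i)
  constructor
  · rintro ⟨z, rfl⟩ i
    exact compat_of_range (N := ↥(W4c1imperftorsors.prePerf p R A))
      (T := fun i : ℕ => W4c1imperftorsors.Twist p R A i)
      (fun i : ℕ => ((Pi.evalAlgHom R (fun k => W4c1imperftorsors.Twist p R A k) i).comp
            (W4c1imperftorsors.prePerf p R A).val).toLinearMap)
      (fun i : ℕ => (W4c1imperftorsors.relFrob p R A i).toLinearMap) hφF M z i
  · intro hy
    obtain ⟨z, hz⟩ := range_proj (N := ↥(W4c1imperftorsors.prePerf p R A))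
      (T := fun i : ℕ => W4c1imperftorsors.Twist p R A i)
      (fun i : ℕ => ((Pi.evalAlgHom R (fun k => W4c1imperftorsors.Twist p R A k) i).comp
            (W4c1imperftorsors.prePerf p R A).val).toLinearMap)
      (fun i : ℕ => (W4c1imperftorsors.relFrob p R A i).toLinearMap) hlim M y hy
    exact ⟨z, funext hz⟩

end Groth.Agent.S13046
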