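import Groth.Statements.S13048
import Mathlib.RingTheory.Jacobson.Ring
import Mathlib.RingTheory.Filtration
import Mathlib.Algebra.CharP.Lemmas
import Mathlib.Algebra.CharP.Algebra
import Mathlib.Tactic
-- import your own Groth.Agent.* helpers here

set_option autoImplicit false
universe u
open FrobAlg

namespace Groth.Agent.S13048

/-- Let k be an algebraically closed field of characteristic p > 0 and let A be a reduced finitely
generated commutative k-algebra with connected spectrum (A ≠ 0 and 0, 1 are its only idempotents).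
If x ∈ A is a p^n-th power in A for every n ≥ 0, then x lies in the image of k; that is, ⋂_n A^{p^n}
= k. (The published statement is: for an artinian local ring R of characteristic p and a flat
R-algebra A of finite type, the maps A^ét → O(π₀(A)) → A^{p^∞/R} from the largest étale subalgebra
to the preperfection are isomorphisms. This row is the case R = k algebraically closed and A reduced
with connected spectrum, where A^ét = k and the preperfection is ⋂_n A^{p^n}; the printed proof
reduces to this case and its last step proves it.) -/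
theorem result
    (p : ℕ) [Fact p.Prime] (k : Type u) [Field k] [IsAlgClosed k] [CharP k p]
    (A : Type u) [CommRing A] [Algebra k A] [Algebra.FiniteType k A] [IsReduced A] [Nontrivial A]
    (hconn : ∀ e : A, IsIdempotentElem e → e = 0 ∨ e = 1)
    (x : A) (hx : ∀ n : ℕ, ∃ a : A, a ^ p ^ n = x) :
    x ∈ (algebraMap k A).range := by
  classical
  haveI : IsNoetherianRing A := Algebra.FiniteType.isNoetherianRing k A
  haveI : CharP A p := charP_of_injective_algebraMap (FaithfulSMul.algebraMap_injective k A) p
  -- step 1: residue fields are `k`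
  have hres : ∀ m : Ideal A, m.IsMaximal → ∀ a : A, ∃ c : k, a - algebraMap k A c ∈ m := by
    intro m hm a
    letI : Field (A ⧸ m) := Ideal.Quotient.field m
    haveI : Algebra.FiniteType k (A ⧸ m) :=
      Algebra.FiniteType.of_surjective (Ideal.Quotient.mkₐ k m) (Ideal.Quotient.mkₐ_surjective k m)
    haveI : Module.Finite k (A ⧸ m) := finite_of_finite_type_of_isJacobsonRing k (A ⧸ m)
    have hsurj : Function.Surjective (algebraMap k (A ⧸ m)) :=
      (IsAlgClosed.algebraMap_bijective_of_isIntegral (k := k) (K := A ⧸ m)).2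
    obtain ⟨c, hc⟩ := hsurj (Ideal.Quotient.mk m a)
    refine ⟨c, ?_⟩
    rw [← Ideal.Quotient.eq_zero_iff_mem, map_sub, ← hc]
    simp
  -- scalars in a maximal ideal vanish
  have hunit : ∀ m : Ideal A, m.IsMaximal → ∀ c : k, algebraMap k A c ∈ m → c = 0 := by
    intro m hm c hc
    by_contra hne
    apply hm.ne_top
    rw [Ideal.eq_top_iff_one]
    have : algebraMap k A c⁻¹ * algebraMap k A c = 1 := by
      rw [← map_mul, inv_mul_cancel₀ hne, map_one]
    rw [← this]
    exact m.mul_mem_left _ hc
  -- step 2: x - c ∈ m ^ (p ^ n)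
  have hpow : ∀ m : Ideal A, m.IsMaximal → ∀ c : k, x - algebraMap k A c ∈ m →
      ∀ n : ℕ, x - algebraMap k A c ∈ m ^ n := by
    intro m hm c hc n
    obtain ⟨a, ha⟩ := hx n
    obtain ⟨d, hd⟩ := hres m hm a
    have h1 : (a - algebraMap k A d) ^ p ^ n ∈ m ^ p ^ n := Ideal.pow_mem_pow hd _
    rw [sub_pow_char_pow, ha, ← map_pow] at h1
    have hle : m ^ p ^ n ≤ m ^ n :=
      Ideal.pow_le_pow_right (Nat.lt_pow_self (Fact.out : p.Prime).one_lt).le
    have h2 : x - algebraMap k A (d ^ p ^ n) ∈ m := by
      have hn : p ^ n ≠ 0 := pow_ne_zero _ (Fact.out : p.Prime).ne_zero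
      exact Ideal.pow_le_self hn h1
    have h3 : algebraMap k A (d ^ p ^ n - c) ∈ m := by
      have := m.sub_mem hc h2
      rw [map_sub]
      convert this using 1
      ring
    have h4 := hunit m hm _ h3
    have h5 : d ^ p ^ n = c := sub_eq_zero.mp h4
    rw [← h5]
    exact hle h1
  -- pick a maximal ideal
  obtain ⟨m₀, hm₀⟩ := Ideal.exists_maximal A
  obtain ⟨c₀, hc₀⟩ := hres m₀ hm₀ x
  set y := x - algebraMap k A c₀ with hy
  -- Ann(y) + (y) = ⊤
  let I : Ideal A := LinearMap.ker (LinearMap.mulRight A y)
  have hI : ∀ a, a ∈ I ↔ a * y = 0 := fun a => by simp [I]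
  have htop : I ⊔ Ideal.span {y} = ⊤ := by
    by_contra hne
    obtain ⟨m, hm, hle⟩ := Ideal.exists_le_maximal _ hne
    have hym : y ∈ m := hle (Ideal.mem_sup_right (Ideal.subset_span rfl))
    have hIm : I ≤ m := le_sup_left.trans hle
    have hyn : ∀ n, y ∈ m ^ n := hpow m hm c₀ hym
    have hmem : y ∈ (⨅ i : ℕ, m ^ i • ⊤ : Submodule A A) := by
      rw [Submodule.mem_iInf]
      intro i
      have : (m ^ i • ⊤ : Submodule A A) = m ^ i := by simp
      rw [this]
      exact hyn i
    obtain ⟨r, hr⟩ := (m.mem_iInf_smul_pow_eq_bot_iff y).mp hmem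
    have h0 : (1 - (r : A)) ∈ I := by
      rw [hI, sub_mul, one_mul, ← smul_eq_mul, hr, sub_self]
    have h1 : (1 : A) ∈ m := by
      have := m.add_mem (hIm h0) r.2
      simpa using this
    exact hm.ne_top ((Ideal.eq_top_iff_one _).mpr h1)
  have h1 : (1 : A) ∈ I ⊔ Ideal.span {y} := by rw [htop]; trivial
  obtain ⟨i, hi, z, hz, hsum⟩ := Submodule.mem_sup.mp h1
  obtain ⟨b, rfl⟩ := Ideal.mem_span_singleton'.mp hz
  rw [hI] at hi
  have hyy : y = b * y * y := by
    calc y = (i + b * y) * y := by rw [hsum, one_mul]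
      _ = i * y + b * y * y := by ring
      _ = b * y * y := by rw [hi, zero_add]
  have he : IsIdempotentElem (b * y) := by
    unfold IsIdempotentElem
    calc b * y * (b * y) = b * (b * y * y) := by ring
      _ = b * y := by rw [← hyy]
  rcases hconn _ he with h0 | h1
  · have : y = 0 := by rw [hyy, h0, zero_mul]
    refine ⟨c₀, ?_⟩
    have := sub_eq_zero.mp this
    exact this.symm
  · exfalso
    apply hm₀.ne_top
    rw [Ideal.eq_top_iff_one, ← h1]
    exact m₀.mul_mem_left _ hc₀

end Groth.Agent.S13048
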