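import Groth.Statements.S13049

set_option autoImplicit false
universe u
open FrobAlg

namespace Groth.Agent.S13049

lemma sub_pow_char_pow' (p : ℕ) [Fact p.Prime] (A : Type u) [CommRing A] [CharP A p] (a b : A) (e : ℕ) :
    (a - b) ^ p ^ e = a ^ p ^ e - b ^ p ^ e :=
  sub_pow_char_pow a b e

/-- Let p be a prime and A a commutative ring of characteristic p whose nilradical N satisfies x^(p^e) =
0 for all x ∈ N and some fixed e (for instance A Noetherian). Then the map between the inverse-limit
perfections along the absolute Frobenius, lim (⋯ → A → A) → lim (⋯ → A/N → A/N), induced by the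
projection A → A/N, is bijective. (The published argument takes A of finite type over a field, where
the nilradical is finitely generated; this row assumes only that the nilradical is killed by one
fixed iterate of Frobenius, which is all that argument uses.) -/
theorem result
    (p : ℕ) [Fact p.Prime] (A : Type u) [CommRing A] [CharP A p]
    [CharP (A ⧸ nilradical A) p] (e : ℕ) (he : ∀ x ∈ nilradical A, x ^ p ^ e = 0) :
    Function.Bijective (Perfection.map p (Ideal.Quotient.mk (nilradical A))) := by
  have hcoeff : ∀ (x : Perfection A p) (n k : ℕ),
      Perfection.coeff A p (n + k) x ^ p ^ k = Perfection.coeff A p n x := by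
    intro x n k
    induction k with
    | zero => simp
    | succ k ih =>
      rw [← ih, pow_succ, pow_mul', ← add_assoc, Perfection.coeff_pow_p']
  constructor
  · intro x y hxy
    ext n
    have h1 : ∀ m, Perfection.coeff A p m x - Perfection.coeff A p m y ∈ nilradical A := by
      intro m
      have := congrArg (Perfection.coeff (A ⧸ nilradical A) p m) hxy
      rw [Perfection.coeff_map, Perfection.coeff_map] at this
      rw [← Ideal.Quotient.eq]
      exact this
    have h2 := he _ (h1 (n + e))
    rw [sub_pow_char_pow' p A, hcoeff, hcoeff, sub_eq_zero] at h2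
    exact h2
  · intro y
    choose g hg using fun n => Ideal.Quotient.mk_surjective (Perfection.coeff (A ⧸ nilradical A) p n y)
    have hcoeffy : ∀ (n k : ℕ),
        Perfection.coeff (A ⧸ nilradical A) p (n + k) y ^ p ^ k =
          Perfection.coeff (A ⧸ nilradical A) p n y := by
      intro n k
      induction k with
      | zero => simp
      | succ k ih =>
        rw [← ih, pow_succ, pow_mul', ← add_assoc, Perfection.coeff_pow_p']
    refine ⟨⟨fun n => g (n + e) ^ p ^ e, fun n => ?_⟩, ?_⟩
    · have hd : g (n + 1 + e) ^ p - g (n + e) ∈ nilradical A := by
        rw [← Ideal.Quotient.eq, map_pow, hg, hg]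
        have : n + 1 + e = n + e + 1 := by ring
        rw [this, Perfection.coeff_pow_p']
      have h2 := he _ hd
      rw [sub_pow_char_pow' p A, sub_eq_zero] at h2
      change (g (n + 1 + e) ^ p ^ e) ^ p = g (n + e) ^ p ^ e
      rw [← h2, ← pow_mul, ← pow_mul, mul_comm]
    · ext n
      rw [Perfection.coeff_map]
      change Ideal.Quotient.mk (nilradical A) (g (n + e) ^ p ^ e) = _
      rw [map_pow, hg, hcoeffy]

end Groth.Agent.S13049
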