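import Groth.Statements.S13052
-- import your own Groth.Agent.* helpers here
import Groth.Agent.Lib.Helper33.ZetaAdd

set_option autoImplicit false
universe u
open CategoryTheory AlgebraicGeometry
open Zeta

namespace Groth.Agent.S13052


/-- If X is a scheme of finite type over a finite field k, Y ↪ X a closed subscheme and U = X ∖ Y its
open complement, then Z(X, t) = Z(Y, t) · Z(U, t). Here Y is any scheme with a closed immersion into
X whose image is the complement of U (its scheme structure plays no role), and Y, U are k-schemes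
through X. -/
theorem result {k : Type u} [Field k] [Finite k]
    {X Y : Scheme.{u}} (f : X ⟶ Spec (CommRingCat.of k)) [LocallyOfFiniteType f] [QuasiCompact f]
    (U : X.Opens) (i : Y ⟶ X) [IsClosedImmersion i] (hY : Set.range i.base = (U : Set X)ᶜ) :
    Zeta.zetaFun f = Zeta.zetaFun (i ≫ f) * Zeta.zetaFun (U.ι ≫ f) := by
  let Yf : ULift.{u} Bool → Scheme.{u} := fun b =>
    match b with
    | ⟨true⟩ => Y
    | ⟨false⟩ => (U : Scheme.{u})
  let gf : ∀ b, Yf b ⟶ X := fun b =>
    match b with
    | ⟨true⟩ => i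
    | ⟨false⟩ => U.ι
  have : ∀ b, IsImmersion (gf b) := by
    rintro ⟨b⟩
    cases b
    · exact (inferInstance : IsImmersion U.ι)
    · exact (inferInstance : IsImmersion i)
  have hpart : ∀ x : X, IsClosed ({x} : Set X) → ∃! b, x ∈ Set.range (gf b).base := by
    intro x _
    have hU : Set.range (gf ⟨false⟩).base = (U : Set X) := U.range_ι
    have hYr : Set.range (gf ⟨true⟩).base = (U : Set X)ᶜ := hY
    by_cases hx : x ∈ (U : Set X)
    · refine ⟨⟨false⟩, by show x ∈ Set.range (gf ⟨false⟩).base; rw [hU]; exact hx, ?_⟩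
      rintro ⟨b⟩ hb
      cases b
      · rfl
      · have hb' : x ∈ Set.range (gf ⟨true⟩).base := hb
        rw [hYr] at hb'
        exact absurd hx hb'
    · refine ⟨⟨true⟩, by show x ∈ Set.range (gf ⟨true⟩).base; rw [hYr]; exact hx, ?_⟩
      rintro ⟨b⟩ hb
      cases b
      · have hb' : x ∈ Set.range (gf ⟨false⟩).base := hb
        rw [hU] at hb'
        exact absurd hb' hx
      · rfl
  have h := Groth.Agent.Lib.Helper33.ZetaAdd.zetaFun_eq_prod f Yf gf hpart
  rw [h, Fintype.prod_equiv Equiv.ulift (fun b => Zeta.zetaFun (gf b ≫ f))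
    (fun b => Zeta.zetaFun (gf ⟨b⟩ ≫ f)) (fun _ => rfl), Fintype.prod_bool]

end Groth.Agent.S13052
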