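import Groth.Statements.S13053
-- import your own Groth.Agent.* helpers here
import Groth.Agent.Lib.Helper34.ZetaPnGeom
open Groth.Agent.Lib.Helper34 Groth.Agent.Lib.Helper33

set_option autoImplicit false
universe u
open CategoryTheory AlgebraicGeometry
open Zeta

namespace Groth.Agent.S13053

/-- For a finite field k with q elements, Z(P^n_k, t) = 1 / ((1 − t)(1 − qt) ⋯ (1 − q^n t)); stated as
Z(P^n_k, t) · ∏_{i = 0}^{n} (1 − q^i t) = 1 in ℚ⟦t⟧. -/
theorem result (k : Type u) [Field k] [Finite k] (n : ℕ) :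
    Zeta.zetaFun (CohB1.ProjSpace.toSpec n k) *
        ∏ i ∈ Finset.range (n + 1), (1 - PowerSeries.C ((Nat.card k : ℚ) ^ i) * PowerSeries.X) = 1 := by
  classical
  haveI := Fintype.ofFinite k
  -- the partition into cells
  let Y : ULift.{u} (Fin (n + 1)) → Scheme.{u} := fun i => ZetaPn.cell n k i.down
  let g : ∀ i : ULift.{u} (Fin (n + 1)), Y i ⟶ CohB1.ProjSpace n k := fun i => ZetaPn.cellMap n k i.down
  haveI hg : ∀ i, IsImmersion (g i) := fun i => ZetaPn.isImmersion_cellMap n k i.down
  have hpart : ∀ x : CohB1.ProjSpace n k, IsClosed ({x} : Set (CohB1.ProjSpace n k)) →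
      ∃! i, x ∈ Set.range (g i).base := by
    intro x _
    obtain ⟨i, hi, huniq⟩ := ZetaPn.existsUnique_cell n k x
    refine ⟨ULift.up i, hi, fun j hj => ?_⟩
    have := huniq j.down hj
    exact ULift.ext _ _ this
  -- the point counts
  have hN : ∀ m : ℕ, m ≠ 0 → Zeta.nPts (CohB1.ProjSpace.toSpec n k) m =
      ∑ i ∈ Finset.range (n + 1), (Nat.card k ^ i) ^ m := by
    intro m hm
    rw [ZetaAdd.nPts_eq_sum (CohB1.ProjSpace.toSpec n k) Y g hpart m]
    obtain ⟨k', hF, hA, hFin, h1, h2⟩ := ZetaExt.exists_extension k m hm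
    letI := hF
    letI := hA
    haveI := hFin
    have hterm : ∀ i : ULift.{u} (Fin (n + 1)),
        Zeta.nPts (g i ≫ CohB1.ProjSpace.toSpec n k) m = (Nat.card k ^ m) ^ (n - (i.down : ℕ)) := by
      intro i
      haveI : LocallyOfFiniteType (g i ≫ CohB1.ProjSpace.toSpec n k) := inferInstance
      haveI : QuasiCompact (g i ≫ CohB1.ProjSpace.toSpec n k) := by
        change QuasiCompact (ZetaPn.cellMap n k i.down ≫ CohB1.ProjSpace.toSpec n k)
        rw [ZetaPn.cellMap_toSpec]
        infer_instance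
      have e1 := ZetaPts.pointCount_eq_nPts (g i ≫ CohB1.ProjSpace.toSpec n k) k'
      rw [h1] at e1
      rw [← e1]
      change SgaExt.pointCount (ZetaPn.cellMap n k i.down ≫ CohB1.ProjSpace.toSpec n k) k' = _
      rw [ZetaPn.pointCount_cell, h2]
    rw [Finset.sum_congr rfl (fun i _ => hterm i)]
    rw [← Equiv.sum_comp (Equiv.ulift.symm : Fin (n + 1) ≃ ULift.{u} (Fin (n + 1)))
      (fun i => (Nat.card k ^ m) ^ (n - (i.down : ℕ)))]
    simp only [Equiv.ulift_symm_apply]
    rw [Fin.sum_univ_eq_sum_range (fun i => (Nat.card k ^ m) ^ (n - i)) (n + 1),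
      ← Finset.sum_range_reflect]
    refine Finset.sum_congr rfl fun j hj => ?_
    have hj' : j < n + 1 := Finset.mem_range.mp hj
    have : n - (n + 1 - 1 - j) = j := by omega
    rw [this, ← pow_mul, ← pow_mul, mul_comm]
  -- the power series identity
  have key := ZetaPS.zeta_polycount (Zeta.nPts (CohB1.ProjSpace.toSpec n k)) (Nat.card k : ℚ) n
    (fun _ => 1) (by
      intro m
      rw [hN (m + 1) (Nat.succ_ne_zero m)]
      push_cast
      refine Finset.sum_congr rfl fun i _ => ?_
      rw [one_mul])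
  have h0 : (-1 : ℤ).toNat = 0 := by decide
  simp only [Int.toNat_one, pow_one, h0, pow_zero, Finset.prod_const_one] at key
  exact key

end Groth.Agent.S13053
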