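import Groth.Statements.S14192
import Mathlib.RingTheory.PowerSeries.Derivative
import Mathlib.RingTheory.PowerSeries.Exp
import Mathlib.Algebra.BigOperators.Field

set_option autoImplicit false
open PowerSeries
open StackCount

set_option linter.unusedSectionVars false

namespace Groth.Agent.S14192Aux
open PowerSeries

variable {K : Type*} [Field K] [CharZero K] [Algebra ℚ K]

/-- ODE uniqueness: `D' = D φ`, `D(0)=0` implies `D = 0`. -/
lemma eq_zero_of_derivative_eq_mul {D φ : K⟦X⟧} (h : d⁄dX K D = D * φ)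
    (h0 : constantCoeff D = 0) : D = 0 := by
  ext n
  induction n using Nat.strong_induction_on with
  | _ n ih =>
    cases n with
    | zero => simpa using h0
    | succ n =>
      have h1 : coeff n (d⁄dX K D) = coeff n (D * φ) := by rw [h]
      rw [coeff_derivative, coeff_mul] at h1
      have h2 : ∑ p ∈ Finset.antidiagonal n, coeff p.1 D * coeff p.2 φ = 0 := by
        apply Finset.sum_eq_zero
        intro p hp
        have : p.1 < n + 1 := by
          have := Finset.mem_antidiagonal.mp hp; omega
        rw [ih p.1 this]; simp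
      rw [h2] at h1
      have h3 : ((n : K) + 1) ≠ 0 := by exact_mod_cast Nat.succ_ne_zero n
      simpa [h3] using h1

lemma eq_of_derivative_eq_mul {G H φ : K⟦X⟧} (hG : d⁄dX K G = G * φ) (hH : d⁄dX K H = H * φ)
    (h0 : constantCoeff G = constantCoeff H) : G = H := by
  have : G - H = 0 := by
    apply eq_zero_of_derivative_eq_mul (φ := φ)
    · rw [map_sub, hG, hH, sub_mul]
    · rw [map_sub, h0, sub_self]
  exact sub_eq_zero.mp this

lemma hasSubst_of {f : K⟦X⟧} (hf : constantCoeff f = 0) : HasSubst f :=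
  HasSubst.of_constantCoeff_zero' hf

/-- derivative of `exp ∘ f`. -/
lemma derivative_exp_subst {f : K⟦X⟧} (hf : constantCoeff f = 0) :
    d⁄dX K ((exp K).subst f) = (exp K).subst f * d⁄dX K f := by
  rw [derivative_subst (hasSubst_of hf), derivative_exp]

lemma constantCoeff_exp_subst {f : K⟦X⟧} (hf : constantCoeff f = 0) :
    constantCoeff ((exp K).subst f) = 1 := by
  rw [← coeff_zero_eq_constantCoeff_apply, coeff_subst' (hasSubst_of hf), finsum_eq_single _ 0]
  · simp
  · intro d hd
    rw [coeff_zero_eq_constantCoeff_apply, map_pow, hf, zero_pow hd, smul_zero]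

lemma exp_subst_add {f g : K⟦X⟧} (hf : constantCoeff f = 0) (hg : constantCoeff g = 0) :
    (exp K).subst (f + g) = (exp K).subst f * (exp K).subst g := by
  have hfg : constantCoeff (f + g) = 0 := by rw [map_add, hf, hg, add_zero]
  apply eq_of_derivative_eq_mul (φ := d⁄dX K (f + g))
  · exact derivative_exp_subst hfg
  · rw [Derivation.leibniz, derivative_exp_subst hf, derivative_exp_subst hg, map_add]
    simp only [smul_eq_mul]; ring
  · rw [constantCoeff_exp_subst hfg, map_mul, constantCoeff_exp_subst hf,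
      constantCoeff_exp_subst hg, mul_one]

lemma exp_subst_zero : (exp K).subst (0 : K⟦X⟧) = 1 := by
  apply eq_of_derivative_eq_mul (φ := 0)
  · rw [derivative_exp_subst (by simp)]; simp
  · simp
  · rw [constantCoeff_exp_subst (by simp)]; simp

lemma exp_subst_sum {ι : Type*} (s : Finset ι) (f : ι → K⟦X⟧) (hf : ∀ i ∈ s, constantCoeff (f i) = 0) :
    (exp K).subst (∑ i ∈ s, f i) = ∏ i ∈ s, (exp K).subst (f i) := by
  classical
  induction s using Finset.induction_on with
  | empty => simp [exp_subst_zero]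
  | insert a s ha ih =>
    rw [Finset.sum_insert ha, Finset.prod_insert ha, exp_subst_add, ih]
    · intro i hi; exact hf i (Finset.mem_insert_of_mem hi)
    · exact hf a (Finset.mem_insert_self a s)
    · rw [map_sum]; exact Finset.sum_eq_zero fun i hi => hf i (Finset.mem_insert_of_mem hi)

lemma exp_subst_nsmul {f : K⟦X⟧} (hf : constantCoeff f = 0) (r : ℕ) :
    (exp K).subst (r • f) = (exp K).subst f ^ r := by
  induction r with
  | zero => simp [exp_subst_zero]
  | succ r ih =>
    rw [succ_nsmul, exp_subst_add _ hf, ih, pow_succ]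
    rw [map_nsmul, hf, smul_zero]

lemma exp_subst_neg_mul {f : K⟦X⟧} (hf : constantCoeff f = 0) :
    (exp K).subst (-f) * (exp K).subst f = 1 := by
  rw [← exp_subst_add (by rw [map_neg, hf, neg_zero]) hf, neg_add_cancel, exp_subst_zero]

/-- the logarithm series `Σ_{v ≥ 1} a^v t^v / v`. -/
noncomputable def L (a : K) : K⟦X⟧ := mk fun v : ℕ => if v = 0 then 0 else a ^ v / (v : K)

lemma constantCoeff_L (a : K) : constantCoeff (L a) = 0 := by
  rw [← coeff_zero_eq_constantCoeff_apply, L, coeff_mk]; simp

lemma one_sub_mul_derivative_L (a : K) : (1 - C a * X) * d⁄dX K (L a) = C a := by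
  ext n
  rw [sub_mul, one_mul, map_sub, coeff_derivative, mul_assoc, coeff_C_mul]
  cases n with
  | zero =>
    simp [L, coeff_mk]
  | succ n =>
    rw [coeff_succ_X_mul, coeff_derivative]
    simp only [L, coeff_mk, Nat.succ_ne_zero, if_false, coeff_C]
    have h1 : ((n : K) + 1) ≠ 0 := by exact_mod_cast Nat.succ_ne_zero n
    have h2 : ((n : K) + 1 + 1) ≠ 0 := by exact_mod_cast Nat.succ_ne_zero (n + 1)
    push_cast
    field_simp
    ring

/-- `exp(L a) * (1 - a t) = 1`. -/
lemma exp_L_mul (a : K) : (exp K).subst (L a) * (1 - C a * X) = 1 := by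
  apply eq_of_derivative_eq_mul (φ := 0)
  · rw [Derivation.leibniz, derivative_exp_subst (constantCoeff_L a)]
    simp only [smul_eq_mul, mul_zero]
    have h2 : d⁄dX K (1 - C a * X : K⟦X⟧) = - C a := by
      rw [map_sub, Derivation.leibniz]; simp
    rw [h2]
    have := one_sub_mul_derivative_L a
    calc (exp K).subst (L a) * -C a + (1 - C a * X) * ((exp K).subst (L a) * d⁄dX K (L a))
        = (exp K).subst (L a) * (-C a + (1 - C a * X) * d⁄dX K (L a)) := by ring
      _ = 0 := by rw [this]; ring
  · simp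
  · rw [map_mul, constantCoeff_exp_subst (constantCoeff_L a)]; simp

/-- for an integer `r`: `exp(r L a) (1 - a t)^{r⁺} = (1 - a t)^{r⁻}`. -/
lemma exp_zsmul_L_mul (a : K) (r : ℤ) :
    (exp K).subst ((r : K) • L a) * (1 - C a * X) ^ r.toNat = (1 - C a * X) ^ (-r).toNat := by
  rcases le_total 0 r with hr | hr
  · obtain ⟨m, rfl⟩ := Int.eq_ofNat_of_zero_le hr
    have : ((m : ℤ) : K) • L a = m • L a := by
      rw [Int.cast_natCast, Nat.cast_smul_eq_nsmul]
    rw [this, exp_subst_nsmul (constantCoeff_L a), Int.toNat_natCast, ← mul_pow, exp_L_mul, one_pow]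
    have : (-(m : ℤ)).toNat = 0 := by omega
    rw [this, pow_zero]
  · obtain ⟨m, hm⟩ := Int.eq_ofNat_of_zero_le (neg_nonneg.mpr hr)
    have hr' : r = -(m : ℤ) := by omega
    subst hr'
    have h1 : ((-(m : ℤ) : ℤ) : K) • L a = -(m • L a) := by
      rw [Int.cast_neg, Int.cast_natCast, neg_smul, Nat.cast_smul_eq_nsmul]
    have h0 : constantCoeff (m • L a) = 0 := by rw [map_nsmul, constantCoeff_L, smul_zero]
    rw [h1]
    have h2 : (-(m : ℤ)).toNat = 0 := by omega
    have h3 : (- -(m : ℤ)).toNat = m := by omega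
    rw [h2, h3, pow_zero, mul_one]
    have h4 := exp_subst_neg_mul h0
    rw [exp_subst_nsmul (constantCoeff_L a)] at h4
    calc (exp K).subst (-(m • L a)) = (exp K).subst (-(m • L a)) * ((exp K).subst (L a) * (1 - C a * X)) ^ m := by
          rw [exp_L_mul, one_pow, mul_one]
      _ = ((exp K).subst (-(m • L a)) * (exp K).subst (L a) ^ m) * (1 - C a * X) ^ m := by
          rw [mul_pow]; ring
      _ = _ := by rw [h4, one_mul]

end Groth.Agent.S14192Aux

namespace Groth.Agent.S14192

/-- Let R = Σ_n r_n X^n be a Laurent polynomial with integer coefficients and q > 1 an integer. In the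
ring of formal power series in t over ℚ, the exponential of Σ_{v ≥ 1} R(q^v) t^v / v equals the
finite product Π_n (1 - q^n t)^(-r_n). Stated here with denominators cleared: the exponential series
multiplied by Π_{n : r_n > 0} (1 - q^n t)^(r_n) equals Π_{n : r_n < 0} (1 - q^n t)^(-r_n) (each
factor 1 - q^n t is a unit, so this is equivalent). -/
theorem result (R : LaurentPolynomial ℤ) (q : ℤ) (hq : 1 < q) :
    (PowerSeries.exp ℚ).subst
        (PowerSeries.mk fun v : ℕ => if v = 0 then (0 : ℚ)
          else (R.coeff.sum fun (n : ℤ) (r : ℤ) => (r : ℚ) * (q : ℚ) ^ (n * (v : ℤ))) / (v : ℚ))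
      * ∏ n ∈ R.coeff.support, (1 - PowerSeries.C ((q : ℚ) ^ n) * PowerSeries.X) ^ (R.coeff n).toNat
    = ∏ n ∈ R.coeff.support, (1 - PowerSeries.C ((q : ℚ) ^ n) * PowerSeries.X) ^ (-(R.coeff n)).toNat := by
  have hL : (PowerSeries.mk fun v : ℕ => if v = 0 then (0 : ℚ)
          else (R.coeff.sum fun (n : ℤ) (r : ℤ) => (r : ℚ) * (q : ℚ) ^ (n * (v : ℤ))) / (v : ℚ)) =
      ∑ n ∈ R.coeff.support, ((R.coeff n : ℤ) : ℚ) • Groth.Agent.S14192Aux.L ((q : ℚ) ^ n) := by
    ext v
    rw [PowerSeries.coeff_mk, map_sum]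
    by_cases hv : v = 0
    · subst hv
      simp [Groth.Agent.S14192Aux.L]
    · rw [if_neg hv, Finsupp.sum, Finset.sum_div]
      refine Finset.sum_congr rfl fun n _ => ?_
      rw [PowerSeries.coeff_smul, Groth.Agent.S14192Aux.L, PowerSeries.coeff_mk, if_neg hv,
        zpow_mul, zpow_natCast, smul_eq_mul, mul_div_assoc]
  rw [hL, Groth.Agent.S14192Aux.exp_subst_sum, ← Finset.prod_mul_distrib]
  · refine Finset.prod_congr rfl fun n _ => ?_
    exact Groth.Agent.S14192Aux.exp_zsmul_L_mul _ _
  · intro n _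
    rw [PowerSeries.constantCoeff_smul, Groth.Agent.S14192Aux.constantCoeff_L, smul_zero]

end Groth.Agent.S14192
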