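import Groth.Statements.S13056
import Groth.Agent.S14192
import Groth.Agent.Lib.Helper91.DetLogDeriv

set_option autoImplicit false
universe u v
open Zeta

set_option linter.unusedSectionVars false

namespace Groth.Agent.S13056

/-- For an endomorphism φ of a finite-dimensional vector space over a field K, det(Id − tφ) = exp(−∑_{m
≥ 1} tr(φ^m) t^m / m) as power series in t. Stated for a square matrix M, with det(1 − tM) Mathlib's
reversed characteristic polynomial, and over a field of characteristic zero (the exponential series
needs ℚ ⊆ K; this is the case in which the identity is used). -/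
theorem result {K : Type u} [Field K] [CharZero K]
    {n : Type v} [Fintype n] [DecidableEq n] (M : Matrix n n K) :
    ((M.charpolyRev : Polynomial K) : PowerSeries K) =
      PowerSeries.subst (PowerSeries.mk fun m : ℕ => -(Matrix.trace (M ^ m)) / (m : K))
        (PowerSeries.exp K) := by
  set L : PowerSeries K := PowerSeries.mk fun m : ℕ => -(Matrix.trace (M ^ m)) / (m : K) with hLdef
  have hL0 : PowerSeries.constantCoeff L = 0 := by
    rw [← PowerSeries.coeff_zero_eq_constantCoeff_apply, hLdef, PowerSeries.coeff_mk]
    simp
  have hL' : PowerSeries.derivative K L = -(PowerSeries.mk fun k => (M ^ (k + 1)).trace) := by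
    ext k
    rw [PowerSeries.coeff_derivative, hLdef, PowerSeries.coeff_mk, map_neg, PowerSeries.coeff_mk]
    have h1 : ((k : K) + 1) ≠ 0 := by exact_mod_cast Nat.succ_ne_zero k
    push_cast
    field_simp
  symm
  apply Groth.Agent.S14192Aux.eq_of_derivative_eq_mul (φ := PowerSeries.derivative K L)
  · exact Groth.Agent.S14192Aux.derivative_exp_subst hL0
  · rw [PowerSeries.derivative_coe, Groth.Agent.Lib.Helper91.DetLogDeriv.key, hL']
    ring
  · rw [Groth.Agent.S14192Aux.constantCoeff_exp_subst hL0,
      ← PowerSeries.coeff_zero_eq_constantCoeff_apply, Polynomial.coeff_coe,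
      Polynomial.coeff_zero_eq_eval_zero, Matrix.eval_charpolyRev]

end Groth.Agent.S13056
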