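import Groth.Statements.S13057
import Mathlib.RingTheory.PowerSeries.Trunc
import Mathlib.LinearAlgebra.Basis.VectorSpace
import Mathlib.Tactic

set_option autoImplicit false
universe u
open Zeta

namespace Groth.Agent.S13057

open Polynomial in
/-- the polynomial attached to a coefficient vector -/
noncomputable def polyOf {L : Type u} [Field L] {N : ℕ} (c : Fin (N + 1) → L) : Polynomial L :=
  ∑ j : Fin (N + 1), Polynomial.C (c j) * Polynomial.X ^ (N - (j : ℕ))

lemma coeff_mul_polyOf {L : Type u} [Field L] (f : PowerSeries L) {N : ℕ} (c : Fin (N + 1) → L)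
    (i : ℕ) :
    PowerSeries.coeff (i + N) (f * ((polyOf c : Polynomial L) : PowerSeries L)) =
      ∑ j : Fin (N + 1), PowerSeries.coeff (i + (j : ℕ)) f * c j := by
  unfold polyOf
  have hcoe : ((∑ j : Fin (N + 1), Polynomial.C (c j) * Polynomial.X ^ (N - (j : ℕ)) : Polynomial L) :
      PowerSeries L) = ∑ j : Fin (N + 1), PowerSeries.C (c j) * PowerSeries.X ^ (N - (j : ℕ)) := by
    rw [← Polynomial.coeToPowerSeries.ringHom_apply, map_sum]
    simp
  rw [hcoe, Finset.mul_sum, map_sum]
  refine Finset.sum_congr rfl fun j _ => ?_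
  have hj : (j : ℕ) ≤ N := Nat.lt_succ_iff.1 j.2
  rw [← mul_assoc, mul_comm f, mul_assoc, PowerSeries.coeff_C_mul, PowerSeries.coeff_mul_X_pow']
  rw [if_pos (by omega)]
  have : i + N - (N - (j : ℕ)) = i + (j : ℕ) := by omega
  rw [this, mul_comm]

lemma coeff_polyOf {L : Type u} [Field L] {N : ℕ} (c : Fin (N + 1) → L) (j : Fin (N + 1)) :
    (polyOf c).coeff (N - (j : ℕ)) = c j := by
  unfold polyOf
  rw [Polynomial.finsetSum_coeff]
  rw [Finset.sum_eq_single j]
  · simp
  · intro j' _ hne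
    rw [Polynomial.coeff_C_mul, Polynomial.coeff_X_pow, if_neg, mul_zero]
    have h1 : (j : ℕ) ≤ N := Nat.lt_succ_iff.1 j.2
    have h2 : (j' : ℕ) ≤ N := Nat.lt_succ_iff.1 j'.2
    intro h
    apply hne
    ext
    omega
  · intro h
    exact absurd (Finset.mem_univ _) h

lemma polyOf_coeff_eq {L : Type u} [Field L] (Q : Polynomial L) :
    polyOf (fun j : Fin (Q.natDegree + 1) => Q.coeff (Q.natDegree - (j : ℕ))) = Q := by
  unfold polyOf
  conv_rhs => rw [Q.as_sum_range_C_mul_X_pow]
  rw [← Fin.sum_univ_eq_sum_range (fun k => Polynomial.C (Q.coeff k) * Polynomial.X ^ k)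
    (Q.natDegree + 1)]
  refine (Fintype.sum_equiv Fin.revPerm _ _ (fun j => ?_))
  have hj : (j : ℕ) ≤ Q.natDegree := Nat.lt_succ_iff.1 j.2
  simp only [Fin.revPerm_apply, Fin.val_rev]
  have : Q.natDegree + 1 - ((j : ℕ) + 1) = Q.natDegree - (j : ℕ) := by omega
  rw [this]

/-- A power series f = ∑_{m ≥ 0} a_m t^m over a field L lies in L(t), i.e. f · Q = P for some
polynomials P, Q with Q ≠ 0, if and only if there are natural numbers M, N such that the vectors
(a_i, a_{i+1}, …, a_{i+N}) ∈ L^{N+1}, i ≥ M, span a proper subspace. -/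
theorem result {L : Type u} [Field L]
    (f : PowerSeries L) :
    (∃ P Q : Polynomial L, Q ≠ 0 ∧ f * (Q : PowerSeries L) = (P : PowerSeries L)) ↔
      ∃ M N : ℕ, Submodule.span L
          {v : Fin (N + 1) → L | ∃ i : ℕ, M ≤ i ∧ v = fun j : Fin (N + 1) => PowerSeries.coeff (i + (j : ℕ)) f} ≠ ⊤ := by
  constructor
  · rintro ⟨P, Q, hQ, hfQ⟩
    refine ⟨P.natDegree + 1, Q.natDegree, fun htop => ?_⟩
    set N := Q.natDegree with hN
    let c : Fin (N + 1) → L := fun j => Q.coeff (N - (j : ℕ))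
    let φ : (Fin (N + 1) → L) →ₗ[L] L :=
      ∑ j : Fin (N + 1), (c j) • (LinearMap.proj j : (Fin (N + 1) → L) →ₗ[L] L)
    have hφ : ∀ v, φ v = ∑ j, v j * c j := by
      intro v
      simp [φ, mul_comm]
    have hle : Submodule.span L
        {v : Fin (N + 1) → L | ∃ i : ℕ, P.natDegree + 1 ≤ i ∧
          v = fun j : Fin (N + 1) => PowerSeries.coeff (i + (j : ℕ)) f} ≤ LinearMap.ker φ := by
      rw [Submodule.span_le]
      rintro v ⟨i, hi, rfl⟩
      rw [SetLike.mem_coe, LinearMap.mem_ker, hφ]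
      rw [← coeff_mul_polyOf f c i, polyOf_coeff_eq Q, hfQ, Polynomial.coeff_coe]
      exact Polynomial.coeff_eq_zero_of_natDegree_lt (by omega)
    rw [htop, top_le_iff, LinearMap.ker_eq_top] at hle
    have h0 : φ (Pi.single 0 1) = 0 := by rw [hle]; rfl
    rw [hφ, Finset.sum_eq_single 0] at h0
    · simp only [Pi.single_eq_same, one_mul, c, Fin.val_zero, Nat.sub_zero] at h0
      exact hQ (Polynomial.leadingCoeff_eq_zero.1 h0)
    · intro j _ hj
      rw [Pi.single_eq_of_ne hj, zero_mul]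
    · intro h
      exact absurd (Finset.mem_univ _) h
  · rintro ⟨M, N, hne⟩
    obtain ⟨φ, hφ0, hle⟩ := Submodule.exists_le_ker_of_lt_top _ (lt_top_iff_ne_top.2 hne)
    let c : Fin (N + 1) → L := fun j => φ (Pi.single j 1)
    have hφ : ∀ v, φ v = ∑ j, v j * c j := by
      intro v
      conv_lhs => rw [LinearMap.pi_apply_eq_sum_univ φ v]
      refine Finset.sum_congr rfl fun x _ => ?_
      rw [smul_eq_mul]
      congr 2
      ext j
      simp [Pi.single_apply, eq_comm]
    have hQ : polyOf c ≠ 0 := by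
      intro h0
      apply hφ0
      ext j
      have := coeff_polyOf c j
      rw [h0, Polynomial.coeff_zero] at this
      simp only [LinearMap.coe_comp, LinearMap.coe_single, Function.comp_apply, LinearMap.zero_apply]
      exact this.symm
    refine ⟨PowerSeries.trunc (M + N) (f * ((polyOf c : Polynomial L) : PowerSeries L)), polyOf c, hQ, ?_⟩
    ext m
    rw [Polynomial.coeff_coe, PowerSeries.coeff_trunc]
    split_ifs with hm
    · rfl
    · obtain ⟨i, hi, rfl⟩ : ∃ i, M ≤ i ∧ m = i + N := ⟨m - N, by omega, by omega⟩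
      rw [coeff_mul_polyOf f c i, ← hφ]
      have : (fun j : Fin (N + 1) => PowerSeries.coeff (i + (j : ℕ)) f) ∈ LinearMap.ker φ :=
        hle (Submodule.subset_span ⟨i, hi, rfl⟩)
      exact this

end Groth.Agent.S13057
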