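import Groth.Statements.S13058
import Groth.Agent.S13057
import Mathlib.Tactic

set_option autoImplicit false
universe u v
open Zeta

namespace Groth.Agent.S13058

/-- If L'/L is a field extension, a power series f ∈ L⟦t⟧ belongs to L(t) exactly when it belongs to
L'(t); here membership in L(t) means f · Q = P for polynomials P, Q over the field in question with
Q ≠ 0. -/
theorem result {L : Type u} {L' : Type v} [Field L] [Field L']
    [Algebra L L'] (f : PowerSeries L) :
    (∃ P Q : Polynomial L', Q ≠ 0 ∧
        PowerSeries.map (algebraMap L L') f * (Q : PowerSeries L') = (P : PowerSeries L')) ↔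
      ∃ P Q : Polynomial L, Q ≠ 0 ∧ f * (Q : PowerSeries L) = (P : PowerSeries L) := by
  constructor
  · intro h
    rw [Groth.Agent.S13057.result] at h ⊢
    obtain ⟨M, N, hne⟩ := h
    refine ⟨M, N, fun htop => hne ?_⟩
    let ι : (Fin (N + 1) → L) →ₗ[L] (Fin (N + 1) → L') :=
      (Algebra.linearMap L L').compLeft (Fin (N + 1))
    set S' : Set (Fin (N + 1) → L') := {v | ∃ i : ℕ, M ≤ i ∧ v = fun j : Fin (N + 1) =>
      PowerSeries.coeff (i + (j : ℕ)) (PowerSeries.map (algebraMap L L') f)} with hS'
    have hmap : Submodule.map ι (Submodule.span L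
        {v : Fin (N + 1) → L | ∃ i : ℕ, M ≤ i ∧ v = fun j : Fin (N + 1) =>
          PowerSeries.coeff (i + (j : ℕ)) f}) ≤ (Submodule.span L' S').restrictScalars L := by
      rw [Submodule.map_span, Submodule.span_le]
      rintro _ ⟨v, ⟨i, hi, rfl⟩, rfl⟩
      apply Submodule.subset_span
      refine ⟨i, hi, ?_⟩
      ext j
      simp [ι]
    rw [htop, Submodule.map_top] at hmap
    rw [eq_top_iff]
    intro v' _
    have hv' : v' = ∑ j, v' j • (Pi.single j (1 : L') : Fin (N + 1) → L') := by
      ext k
      simp [Finset.sum_apply, Pi.single_apply]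
    rw [hv']
    refine Submodule.sum_mem _ fun j _ => Submodule.smul_mem _ _ ?_
    have : (Pi.single j (1 : L') : Fin (N + 1) → L') = ι (Pi.single j 1) := by
      ext k
      simp [ι, Pi.single_apply]
    rw [this]
    exact hmap ⟨_, rfl⟩
  · rintro ⟨P, Q, hQ, hfQ⟩
    refine ⟨P.map (algebraMap L L'), Q.map (algebraMap L L'), ?_, ?_⟩
    · rwa [Ne, Polynomial.map_eq_zero_iff (algebraMap L L').injective]
    · rw [Polynomial.polynomial_map_coe, Polynomial.polynomial_map_coe, ← map_mul, hfQ]

end Groth.Agent.S13058
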