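import Groth.Statements.S13059
import Mathlib.LinearAlgebra.Charpoly.ToMatrix

set_option autoImplicit false
universe u
open Zeta

set_option linter.unusedSectionVars false

namespace Groth.Agent.S13059Aux

open Matrix Polynomial in
theorem matrix_key {n : Type*} [Fintype n] [DecidableEq n] {K : Type*} [Field K]
    (F G : Matrix n n K) (c : K) (hc : c ≠ 0) (h : Fᵀ * G = c • (1 : Matrix n n K)) :
    F.det • G.charpoly.reverse =
      ((-1) ^ Fintype.card n * c ^ Fintype.card n) • (c⁻¹ • F).charpoly := by
  have h1 : (c⁻¹ • F)ᵀ * G = 1 := by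
    rw [Matrix.transpose_smul, Matrix.smul_mul, h, smul_smul, inv_mul_cancel₀ hc, one_smul]
  have hG : IsUnit G := by
    rw [Matrix.isUnit_iff_isUnit_det]
    have := congrArg Matrix.det h1
    rw [Matrix.det_mul, Matrix.det_one] at this
    exact IsUnit.of_mul_eq_one _ (by rw [mul_comm]; exact this)
  have h2 : G⁻¹ = (c⁻¹ • F)ᵀ := Matrix.inv_eq_left_inv h1
  have h3 : (c⁻¹ • F).charpoly = (-1) ^ Fintype.card n * C (Ring.inverse G.det) * G.charpolyRev := by
    rw [← Matrix.charpoly_transpose, ← h2, Matrix.charpoly_inv G hG]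
  have hdet : F.det * G.det = c ^ Fintype.card n := by
    have := congrArg Matrix.det h
    rwa [Matrix.det_mul, Matrix.det_transpose, Matrix.det_smul, Matrix.det_one, mul_one] at this
  have hGdet : G.det ≠ 0 := by
    intro h0
    rw [h0, mul_zero] at hdet
    exact pow_ne_zero _ hc hdet.symm
  rw [h3, Matrix.reverse_charpoly, Ring.inverse_eq_inv', smul_eq_C_mul, smul_eq_C_mul]
  have hF : F.det = c ^ Fintype.card n * (G.det)⁻¹ := by
    rw [← hdet, mul_assoc, mul_inv_cancel₀ hGdet, mul_one]
  rw [hF]
  simp only [map_mul, map_pow, map_neg, map_one]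
  have : ((-1 : K[X]) ^ Fintype.card n) * ((-1) ^ Fintype.card n) = 1 := by
    rw [← mul_pow]; simp
  linear_combination (-(C c ^ Fintype.card n * C (G.det)⁻¹ * G.charpolyRev)) * this

end Groth.Agent.S13059Aux

namespace Groth.Agent.S13059

/-- Let B : V × W → K be a perfect pairing of finite-dimensional vector spaces over a field K, c ∈ K
nonzero, and f, g endomorphisms of V, W with B(f v, g w) = c · B(v, w) for all v, w. Then det(Id − t
g) = (−1)^r c^r t^r det(f)^{−1} det(Id − c^{−1} t^{−1} f) with r the common dimension; stated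
cleared of denominators as det(f) · det(Id − t g) = (−1)^r c^r · det(t Id − c^{−1} f) in K[t],
det(Id − t g) being the reverse of the characteristic polynomial of g. -/
theorem result (K : Type u) [Field K] (V W : Type u)
    [AddCommGroup V] [Module K V] [FiniteDimensional K V] [AddCommGroup W] [Module K W]
    [FiniteDimensional K W] (B : V →ₗ[K] W →ₗ[K] K) [B.IsPerfPair] (f : V →ₗ[K] V) (g : W →ₗ[K] W)
    (c : K) (hc : c ≠ 0) (hfg : ∀ (v : V) (w : W), B (f v) (g w) = c * B v w) :
    LinearMap.det f • (LinearMap.charpoly g).reverse =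
      ((-1) ^ Module.finrank K W * c ^ Module.finrank K W) • (c⁻¹ • f).charpoly := by
  classical
  let bW : Module.Basis (Fin (Module.finrank K W)) K W := Module.finBasis K W
  let bV : Module.Basis (Fin (Module.finrank K W)) K V := bW.dualBasis.map B.toPerfPair.symm
  have hB : ∀ i j, B (bV i) (bW j) = if i = j then 1 else 0 := by
    intro i j
    have : B (bV i) = bW.dualBasis i := by
      show B (B.toPerfPair.symm (bW.dualBasis i)) = _
      exact B.apply_symm_toPerfPair_self _
    rw [this, Module.Basis.dualBasis_apply_self]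
    simp only [eq_comm]
  set F := LinearMap.toMatrix bV bV f with hF
  set G := LinearMap.toMatrix bW bW g with hG
  have hFG : F.transpose * G = c • (1 : Matrix _ _ K) := by
    ext i j
    have h1 := hfg (bV i) (bW j)
    rw [hB] at h1
    have hf : f (bV i) = ∑ k, F k i • bV k := by
      rw [hF]; simp only [LinearMap.toMatrix_apply]; exact (bV.sum_repr _).symm
    have hg : g (bW j) = ∑ k, G k j • bW k := by
      rw [hG]; simp only [LinearMap.toMatrix_apply]; exact (bW.sum_repr _).symm
    rw [hf, hg] at h1
    simp only [map_sum, map_smul, LinearMap.sum_apply, LinearMap.smul_apply, hB, smul_eq_mul] at h1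
    rw [Matrix.mul_apply, Matrix.smul_apply, Matrix.one_apply, smul_eq_mul]
    simp only [Matrix.transpose_apply]
    rw [← h1]
    refine Finset.sum_congr rfl fun k _ => ?_
    simp [mul_comm]
  have key := S13059Aux.matrix_key F G c hc hFG
  rw [Fintype.card_fin] at key
  rw [← LinearMap.det_toMatrix bV f, ← LinearMap.charpoly_toMatrix g bW,
    ← LinearMap.charpoly_toMatrix (c⁻¹ • f) bV, map_smul]
  exact key

end Groth.Agent.S13059
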