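import Groth.Statements.S13060
import Mathlib.LinearAlgebra.TensorProduct.Basis
import Mathlib.Tactic

set_option autoImplicit false
universe u v w x
open TensorProduct
open Zeta

namespace Groth.Agent.S13060

/-- Let k be a field, V and W vector spaces over k and G a group acting on V by k-linear automorphisms;
for the induced action on V ⊗_k W (trivial on W) one has (V ⊗_k W)^G = V^G ⊗_k W, i.e. the
invariants of V ⊗ W are the image of V^G ⊗ W → V ⊗ W. -/
theorem result {k : Type u} [Field k] {G : Type v} [Group G]
    {V : Type w} {W : Type x} [AddCommGroup V] [Module k V] [AddCommGroup W] [Module k W]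
    (ρ : Representation k G V) :
    (ρ.tprod (Representation.trivial k G W)).invariants =
      LinearMap.range (TensorProduct.map ρ.invariants.subtype (LinearMap.id : W →ₗ[k] W)) := by
  classical
  apply le_antisymm
  · intro x hx
    rw [Representation.mem_invariants] at hx
    let b := Module.Free.chooseBasis k W
    let E := TensorProduct.equivFinsuppOfBasisRight (M := V) b
    have key : ∀ (g : G) (y : V ⊗[k] W), ∀ i,
        E (TensorProduct.map (ρ g) LinearMap.id y) i = ρ g (E y i) := by
      intro g y i
      induction y using TensorProduct.induction_on with
      | zero => simp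
      | tmul v w => simp [E, TensorProduct.equivFinsuppOfBasisRight_apply_tmul_apply]
      | add y z hy hz => simp only [map_add, Finsupp.add_apply, hy, hz]
    have hfix : ∀ g i, ρ g (E x i) = E x i := by
      intro g i
      rw [← key g x i]
      have h1 : (TensorProduct.map (ρ g) LinearMap.id) x = x := hx g
      rw [h1]
    have hx' : x = (E x).sum fun i m => m ⊗ₜ b i := by
      rw [← TensorProduct.equivFinsuppOfBasisRight_symm_apply, LinearEquiv.symm_apply_apply]
    rw [hx']
    refine Submodule.sum_mem _ fun i _ => ?_
    exact ⟨(⟨E x i, fun g => hfix g i⟩ : ρ.invariants) ⊗ₜ b i, by simp⟩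
  · rintro _ ⟨y, rfl⟩
    rw [Representation.mem_invariants]
    intro g
    induction y using TensorProduct.induction_on with
    | zero => simp
    | tmul v w =>
      have hv : ρ g v = v := (Representation.mem_invariants _ _).1 v.2 g
      simp [hv]
    | add y z hy hz => simp only [map_add, hy, hz]

end Groth.Agent.S13060
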