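import Groth.Statements.S13061
import Mathlib.Data.Nat.Choose.Lucas
import Mathlib.Algebra.CharP.Lemmas
import Mathlib.Tactic

set_option autoImplicit false
universe u v w
open Zeta

namespace Groth.Agent.S13061

lemma not_dvd_choose (p m : ℕ) (hp : p.Prime) (hm : m ≠ 0) :
    ¬ p ∣ m.choose (p ^ m.factorization p) := by
  haveI : Fact p.Prime := ⟨hp⟩
  intro hdvd
  have h1 : p ^ m.factorization p * (m / p ^ m.factorization p) = m :=
    Nat.ordProj_mul_ordCompl_eq_self m p
  have h2 := Choose.choose_pow_mul_pow_mul_modEq_choose_nat (p := p) (k := m.factorization p)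
    (a := m / p ^ m.factorization p) (b := 1)
  rw [h1, mul_one, Nat.choose_one_right] at h2
  have h3 : p ∣ m / p ^ m.factorization p := by
    rw [Nat.dvd_iff_mod_eq_zero] at hdvd ⊢
    rw [← h2, hdvd]
  exact Nat.not_dvd_ordCompl hp hm h3

/-- Let A be a commutative algebra over a field k, G a finite group acting on A by k-algebra
automorphisms and I ⊆ A an ideal preserved by G. If p^n is the largest power of p = char(k) dividing
|G| (with p^n = 1 when char(k) = 0), then for every G-invariant b ∈ A/I the power b^{p^n} lies in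
the image of A^G → (A/I)^G. (The published statement takes A finitely generated over k, which the
proof does not use.) -/
theorem result {k : Type u} [Field k]
    {A : Type v} [CommRing A] [Algebra k A] {G : Type w} [Group G] [Finite G]
    [MulSemiringAction G A] [SMulCommClass G k A] (I : Ideal A)
    (hI : ∀ (g : G) (a : A), a ∈ I → g • a ∈ I) (u : A) (hu : ∀ g : G, g • u - u ∈ I) :
    ∃ a : A, (∀ g : G, g • a = a) ∧
      Ideal.Quotient.mk I a =
        Ideal.Quotient.mk I u ^ (ringChar k ^ (Nat.card G).factorization (ringChar k)) := by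
  classical
  cases nonempty_fintype G
  set q := ringChar k ^ (Nat.card G).factorization (ringChar k) with hq
  let a₀ : A := ∑ s ∈ (Finset.univ : Finset G).powersetCard q, ∏ g ∈ s, g • u
  have hinv : ∀ h : G, h • a₀ = a₀ := by
    intro h
    simp only [a₀]
    rw [Finset.smul_sum]
    refine Finset.sum_equiv (Equiv.finsetCongr (Equiv.mulLeft h)) (fun s => ?_) (fun s _ => ?_)
    · simp [Finset.mem_powersetCard_univ]
    · rw [Finset.smul_prod']
      simp only [Equiv.finsetCongr_apply, Finset.prod_map, Equiv.coe_toEmbedding,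
        Equiv.coe_mulLeft, mul_smul]
  have hmk : Ideal.Quotient.mk I a₀ =
      Ideal.Quotient.mk I (algebraMap k A (((Nat.card G).choose q : ℕ) : k)) *
        Ideal.Quotient.mk I u ^ q := by
    simp only [a₀]
    rw [map_sum]
    have : ∀ s ∈ (Finset.univ : Finset G).powersetCard q,
        Ideal.Quotient.mk I (∏ g ∈ s, g • u) = Ideal.Quotient.mk I u ^ q := by
      intro s hs
      rw [map_prod]
      rw [Finset.prod_congr rfl (fun g _ => (Ideal.Quotient.eq.2 (hu g) :
        Ideal.Quotient.mk I (g • u) = Ideal.Quotient.mk I u))]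
      rw [Finset.prod_const, (Finset.mem_powersetCard.1 hs).2]
    rw [Finset.sum_congr rfl this, Finset.sum_const, Finset.card_powersetCard, Finset.card_univ,
      nsmul_eq_mul, map_natCast, map_natCast, Nat.card_eq_fintype_card]
  have hunit : (((Nat.card G).choose q : ℕ) : k) ≠ 0 := by
    have hcard : Nat.card G ≠ 0 := Nat.card_pos.ne'
    rcases CharP.char_is_prime_or_zero k (ringChar k) with hp | h0
    · rw [Ne, CharP.cast_eq_zero_iff k (ringChar k)]
      exact not_dvd_choose _ _ hp hcard
    · haveI : CharP k 0 := h0 ▸ ringChar.charP k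
      haveI : CharZero k := CharP.charP_to_charZero k
      have hq1 : q = 1 := by
        rw [hq, h0]
        simp
      rw [hq1, Nat.choose_one_right]
      exact_mod_cast hcard
  refine ⟨(((Nat.card G).choose q : ℕ) : k)⁻¹ • a₀, fun g => ?_, ?_⟩
  · rw [smul_comm, hinv]
  · rw [Algebra.smul_def, map_mul, hmk, ← mul_assoc, ← map_mul, ← map_mul, inv_mul_cancel₀ hunit,
      map_one, map_one, one_mul]

end Groth.Agent.S13061
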