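import Groth.Statements.S13065
import Mathlib.FieldTheory.Finite.Basic
import Mathlib.RingTheory.MvPolynomial.Homogeneous

set_option autoImplicit false
universe u
open Zeta

set_option linter.unusedSectionVars false

namespace Groth.Agent.S13065Aux

open Finset MvPolynomial

variable {K : Type*} [Field K] [Fintype K]

theorem sum_pow_all [DecidableEq K] (e : ℕ) :
    ∑ x : K, x ^ e = if 0 < e ∧ (Fintype.card K - 1) ∣ e then -1 else 0 := by
  by_cases hi : e = 0
  · subst hi
    simp
  · have hpos : 0 < e := Nat.pos_of_ne_zero hi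
    let φ : Kˣ ↪ K := ⟨fun x ↦ x, Units.val_injective⟩
    have : univ.map φ = univ \ {0} := by
      ext x
      simpa only [mem_map, mem_univ, Function.Embedding.coeFn_mk, true_and, mem_sdiff,
        mem_singleton, φ] using! isUnit_iff_ne_zero
    calc
      ∑ x : K, x ^ e = ∑ x ∈ univ \ {(0 : K)}, x ^ e := by
        rw [← sum_sdiff ({0} : Finset K).subset_univ, sum_singleton, zero_pow hi, add_zero]
      _ = ∑ x : Kˣ, (x ^ e : K) := by simp [φ, ← this, univ.sum_map φ]
      _ = _ := by rw [FiniteField.sum_pow_units K e]; simp [hpos]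

theorem sum_prod_pow {σ : Type*} [Fintype σ] [DecidableEq σ] (d : σ → ℕ) :
    ∑ x : σ → K, ∏ i, x i ^ d i = ∏ i, ∑ a : K, a ^ d i :=
  (Fintype.prod_sum (fun i (a : K) => a ^ d i)).symm


theorem card_ge_two : 2 ≤ Fintype.card K := Fintype.one_lt_card

theorem sum_eval {σ : Type*} [Fintype σ] [DecidableEq σ] [DecidableEq K] (g : MvPolynomial σ K)
    (hg : g.IsHomogeneous ((Fintype.card K - 1) * Fintype.card σ)) :
    ∑ x, eval x g = (-1) ^ Fintype.card σ *
      coeff (Finsupp.equivFunOnFinite.symm fun _ : σ => Fintype.card K - 1) g := by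
  have hq : 2 ≤ Fintype.card K := card_ge_two
  set d₀ : σ →₀ ℕ := Finsupp.equivFunOnFinite.symm fun _ : σ => Fintype.card K - 1 with hd₀
  have hd₀i : ∀ i, d₀ i = Fintype.card K - 1 := fun i => rfl
  calc
    ∑ x, eval x g = ∑ x : σ → K, ∑ d ∈ g.support, g.coeff d * ∏ i, x i ^ d i := by
      simp only [eval_eq']
    _ = ∑ d ∈ g.support, ∑ x : σ → K, g.coeff d * ∏ i, x i ^ d i := sum_comm
    _ = ∑ d ∈ g.support, g.coeff d * ∏ i, ∑ a : K, a ^ d i := by
      refine sum_congr rfl fun d _ => ?_
      rw [← mul_sum, sum_prod_pow]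
    _ = g.coeff d₀ * ∏ i, ∑ a : K, a ^ d₀ i := by
      apply Finset.sum_eq_single d₀
      · intro d hd hne
        have hdeg : ∑ i, d i = (Fintype.card K - 1) * Fintype.card σ := by
          have := hg.coeff_eq_zero (d := d)
          rw [← Finsupp.degree_eq_sum]
          by_contra hcon
          exact (mem_support_iff.mp hd) (this hcon)
        have hex : ∃ i, ¬ (0 < d i ∧ (Fintype.card K - 1) ∣ d i) := by
          by_contra hall
          push Not at hall
          have hge : ∀ i, Fintype.card K - 1 ≤ d i := fun i => Nat.le_of_dvd (hall i).1 (hall i).2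
          apply hne
          ext i
          rw [hd₀i]
          by_contra hi
          have hlt : Fintype.card K - 1 < d i := lt_of_le_of_ne (hge i) (Ne.symm hi)
          have : ∑ j : σ, (Fintype.card K - 1) < ∑ j, d j :=
            Finset.sum_lt_sum (fun j _ => hge j) ⟨i, mem_univ i, hlt⟩
          rw [hdeg, sum_const, card_univ, smul_eq_mul, mul_comm] at this
          exact lt_irrefl _ this
        obtain ⟨i, hi⟩ := hex
        have : ∏ j, ∑ a : K, a ^ d j = 0 := by
          apply Finset.prod_eq_zero (mem_univ i)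
          rw [sum_pow_all, if_neg hi]
        rw [this, mul_zero]
      · intro hns
        rw [notMem_support_iff.mp hns, zero_mul]
    _ = _ := by
      have : ∀ i, ∑ a : K, a ^ d₀ i = -1 := by
        intro i
        rw [sum_pow_all, hd₀i, if_pos ⟨by omega, dvd_rfl⟩]
      simp only [this, prod_const, card_univ]
      rw [mul_comm]

end Groth.Agent.S13065Aux

namespace Groth.Agent.S13065

/-- Let k be a finite field with q elements and characteristic p, n ≥ 2, and f ∈ k[x_0, …, x_n]
homogeneous of degree n + 1, defining the hypersurface Z ⊂ P^n_k. Then #Z(F_q) ≢ 1 (mod p) if and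
only if the coefficient of (x_0 ⋯ x_n)^{q−1} in f^{q−1} is nonzero. Stated through the affine count:
#Z(F_q) ≡ 1 (mod p) exactly when p divides the number of zeros of f in k^{n+1} (as (q − 1) #Z(F_q) +
1 is that number). -/
theorem result {k : Type u} [Field k] [Finite k] (p : ℕ)
    [CharP k p] (n : ℕ) (hn : 2 ≤ n) (f : MvPolynomial (Fin (n + 1)) k)
    (hf : f.IsHomogeneous (n + 1)) :
    p ∣ Nat.card {a : Fin (n + 1) → k // MvPolynomial.eval a f = 0} ↔
      MvPolynomial.coeff (Finsupp.equivFunOnFinite.symm fun _ : Fin (n + 1) => Nat.card k - 1)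
        (f ^ (Nat.card k - 1)) = 0 := by
  classical
  haveI : Fintype k := Fintype.ofFinite k
  have hq : 2 ≤ Fintype.card k := S13065Aux.card_ge_two
  rw [Nat.card_eq_fintype_card, Nat.card_eq_fintype_card, ← CharP.cast_eq_zero_iff k p]
  have hg : (f ^ (Fintype.card k - 1)).IsHomogeneous ((Fintype.card k - 1) * Fintype.card (Fin (n + 1))) := by
    have := hf.pow (Fintype.card k - 1)
    rw [Fintype.card_fin, mul_comm]
    exact this
  have key := S13065Aux.sum_eval (f ^ (Fintype.card k - 1)) hg
  have hcount : ((Fintype.card {a : Fin (n + 1) → k // MvPolynomial.eval a f = 0} : ℕ) : k) =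
      ∑ a : Fin (n + 1) → k, (1 - (MvPolynomial.eval a f) ^ (Fintype.card k - 1)) := by
    rw [Fintype.card_subtype, Finset.natCast_card_filter]
    refine Finset.sum_congr rfl fun a _ => ?_
    split_ifs with h
    · rw [h, zero_pow (by omega), sub_zero]
    · rw [FiniteField.pow_card_sub_one_eq_one _ h, sub_self]
  rw [hcount, Finset.sum_sub_distrib]
  have h1 : ∑ a : Fin (n + 1) → k, (1 : k) = 0 := by
    rw [Finset.sum_const, Finset.card_univ, Fintype.card_fun, Fintype.card_fin, nsmul_eq_mul, mul_one,
      Nat.cast_pow, FiniteField.cast_card_eq_zero, zero_pow (by omega)]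
  have h2 : ∑ a : Fin (n + 1) → k, (MvPolynomial.eval a f) ^ (Fintype.card k - 1) =
      ∑ a : Fin (n + 1) → k, MvPolynomial.eval a (f ^ (Fintype.card k - 1)) := by
    refine Finset.sum_congr rfl fun a _ => ?_
    rw [map_pow]
  rw [h1, h2, key, zero_sub, neg_eq_zero, mul_eq_zero]
  constructor
  · rintro (h | h)
    · exact absurd h (pow_ne_zero _ (neg_ne_zero.mpr one_ne_zero))
    · exact h
  · intro h; exact Or.inr h

end Groth.Agent.S13065
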