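import Groth.Statements.S13066
import Mathlib.RingTheory.MvPolynomial.Expand
import Mathlib.FieldTheory.Finite.Basic

set_option autoImplicit false
universe u
open Zeta

namespace Groth.Agent.S13066

theorem step {k : Type u} [Field k] (p : ℕ) [hp : Fact p.Prime] [CharP k p] (N : ℕ)
    (h g : MvPolynomial (Fin N) k)
    (hg : g.IsHomogeneous (N * (p - 1))) (e : ℕ) :
    MvPolynomial.coeff (Finsupp.equivFunOnFinite.symm fun _ : Fin N => p * e + (p - 1))
        (h ^ p * g) =
      (MvPolynomial.coeff (Finsupp.equivFunOnFinite.symm fun _ : Fin N => e) h) ^ p *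
        MvPolynomial.coeff (Finsupp.equivFunOnFinite.symm fun _ : Fin N => p - 1) g := by
  classical
  have hp0 : p ≠ 0 := hp.out.ne_zero
  have hp1 : 0 < p := hp.out.pos
  rw [MvPolynomial.coeff_mul]
  rw [Finset.sum_eq_single (p • (Finsupp.equivFunOnFinite.symm fun _ : Fin N => e),
    Finsupp.equivFunOnFinite.symm fun _ : Fin N => p - 1)]
  · congr 1
    rw [← MvPolynomial.map_frobenius_expand p, MvPolynomial.coeff_map,
      MvPolynomial.coeff_expand_smul _ hp0]
    rfl
  · rintro ⟨u, v⟩ huv hne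
    rw [Finset.mem_antidiagonal] at huv
    by_contra hprod
    have hu : MvPolynomial.coeff u (h ^ p) ≠ 0 := left_ne_zero_of_mul hprod
    have hv : MvPolynomial.coeff v g ≠ 0 := right_ne_zero_of_mul hprod
    have hdvd : ∀ i, p ∣ u i := by
      intro i
      by_contra hnd
      apply hu
      rw [← MvPolynomial.map_frobenius_expand p, MvPolynomial.coeff_map,
        MvPolynomial.coeff_expand_of_not_dvd (h := hnd), map_zero]
    have hdeg : ∑ i, v i = N * (p - 1) := by
      have := hg hv
      rw [← Finsupp.degree_eq_sum, Finsupp.degree_eq_weight_one]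
      exact this
    have huvi : ∀ i, u i + v i = p * e + (p - 1) := fun i => by
      have := DFunLike.congr_fun huv i
      simpa using this
    have hvi : ∀ i, p - 1 ≤ v i := by
      intro i
      obtain ⟨w, hw⟩ := hdvd i
      have h1 := huvi i
      rw [hw] at h1
      have h2 : (p * w + v i) % p = (p * e + (p - 1)) % p := by rw [h1]
      rw [Nat.mul_add_mod, Nat.mul_add_mod, Nat.mod_eq_of_lt (Nat.sub_lt hp1 Nat.one_pos)] at h2
      rw [← h2]
      exact Nat.mod_le _ _
    have hveq : ∀ i, v i = p - 1 := by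
      by_contra hcon
      push Not at hcon
      obtain ⟨j, hj⟩ := hcon
      have hlt : ∑ _i : Fin N, (p - 1) < ∑ i, v i :=
        Finset.sum_lt_sum (fun i _ => hvi i) ⟨j, Finset.mem_univ j, lt_of_le_of_ne (hvi j) (Ne.symm hj)⟩
      rw [Finset.sum_const, Finset.card_univ, Fintype.card_fin, smul_eq_mul, hdeg] at hlt
      exact lt_irrefl _ hlt
    apply hne
    have hv' : v = Finsupp.equivFunOnFinite.symm fun _ : Fin N => p - 1 := by
      ext i
      simp [hveq i]
    have hu' : u = p • (Finsupp.equivFunOnFinite.symm fun _ : Fin N => e) := by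
      ext i
      have := huvi i
      rw [hveq i] at this
      simp
      omega
    rw [hu', hv']
  · intro hnot
    exfalso
    apply hnot
    rw [Finset.mem_antidiagonal]
    ext i
    simp

theorem main {k : Type u} [Field k] (p : ℕ) [hp : Fact p.Prime] [CharP k p] (N : ℕ)
    (f : MvPolynomial (Fin N) k) (hf : f.IsHomogeneous N) (a : ℕ) :
    MvPolynomial.coeff (Finsupp.equivFunOnFinite.symm fun _ : Fin N => p ^ (a + 1) - 1)
        (f ^ (p ^ (a + 1) - 1)) ≠ 0 ↔
      MvPolynomial.coeff (Finsupp.equivFunOnFinite.symm fun _ : Fin N => p - 1)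
        (f ^ (p - 1)) ≠ 0 := by
  have hp1 : 1 ≤ p := hp.out.pos
  have hpa : ∀ a : ℕ, 1 ≤ p ^ a := fun a => Nat.one_le_pow _ _ hp1
  have hstep : ∀ a : ℕ,
      MvPolynomial.coeff (Finsupp.equivFunOnFinite.symm fun _ : Fin N => p ^ (a + 1) - 1)
        (f ^ (p ^ (a + 1) - 1)) =
      (MvPolynomial.coeff (Finsupp.equivFunOnFinite.symm fun _ : Fin N => p ^ a - 1)
        (f ^ (p ^ a - 1))) ^ p *
      MvPolynomial.coeff (Finsupp.equivFunOnFinite.symm fun _ : Fin N => p - 1)
        (f ^ (p - 1)) := by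
    intro a
    have he : p ^ (a + 1) - 1 = p * (p ^ a - 1) + (p - 1) := by
      have := hpa a
      rw [pow_succ, Nat.mul_sub, mul_one, mul_comm]
      have h2 : p ≤ p * p ^ a := Nat.le_mul_of_pos_right _ (hpa a)
      omega
    rw [he, pow_add, pow_mul']
    exact step p N _ _ (hf.pow (p - 1)) _
  induction a with
  | zero =>
    rw [hstep 0]
    have h0 : (Finsupp.equivFunOnFinite.symm fun _ : Fin N => p ^ 0 - 1) = 0 := by
      ext i
      simp
    rw [h0]
    simp
  | succ a ih =>
    rw [hstep (a + 1)]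
    rw [mul_ne_zero_iff, pow_ne_zero_iff hp.out.ne_zero]
    constructor
    · exact fun h => h.2
    · exact fun h => ⟨ih.mpr h, h⟩

/-- Let k be a finite field with q elements and characteristic p, n ≥ 2, and f ∈ k[x_0, …, x_n]
homogeneous of degree n + 1. Then the coefficient of (x_0 ⋯ x_n)^{q−1} in f^{q−1} is nonzero if and
only if the coefficient of (x_0 ⋯ x_n)^{p−1} in f^{p−1} is nonzero. -/
theorem result {k : Type u} [Field k] [Finite k]
    (p : ℕ) [CharP k p] (n : ℕ) (hn : 2 ≤ n) (f : MvPolynomial (Fin (n + 1)) k)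
    (hf : f.IsHomogeneous (n + 1)) :
    MvPolynomial.coeff (Finsupp.equivFunOnFinite.symm fun _ : Fin (n + 1) => Nat.card k - 1)
        (f ^ (Nat.card k - 1)) ≠ 0 ↔
      MvPolynomial.coeff (Finsupp.equivFunOnFinite.symm fun _ : Fin (n + 1) => p - 1)
        (f ^ (p - 1)) ≠ 0 := by
  have : Fact p.Prime := ⟨CharP.char_is_prime k p⟩
  have := Fintype.ofFinite k
  obtain ⟨a, -, ha⟩ := FiniteField.card k p
  rw [Nat.card_eq_fintype_card, ha]
  obtain ⟨a', ha'⟩ : ∃ a' : ℕ, (a : ℕ) = a' + 1 := ⟨a - 1, by have := a.pos; omega⟩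
  rw [ha']
  exact main p (n + 1) f hf a'

end Groth.Agent.S13066
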