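import Groth.Statements.S13070
-- import your own Groth.Agent.* helpers here
import Groth.Agent.Lib.Helper33.ZetaArithSch

set_option autoImplicit false
universe u
open CategoryTheory AlgebraicGeometry
open Zeta

namespace Groth.Agent.S13070


/-- For an arithmetic scheme X (of finite type over ℤ) of dimension r there are c_X > 0 and p₀ such that
#X(F_{p^m}) ≤ c_X p^{m(r−1)} for all primes p ≥ p₀ and m ≥ 1, and #X(F_{p^m}) ≤ c_X p^{mr} for p <
p₀ and m ≥ 1. Here #X(F) is the number of morphisms Spec F → X, and the dimension is only assumed ≤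
r. -/
theorem result {X : Scheme.{u}}
    (f : X ⟶ Spec (CommRingCat.of (ULift.{u} ℤ))) [LocallyOfFiniteType f] [QuasiCompact f] (r : ℕ)
    (hr : topologicalKrullDim X ≤ r) :
    ∃ (c : ℝ) (p₀ : ℕ), 0 < c ∧ ∀ (p m : ℕ), p.Prime → 1 ≤ m →
      ∀ (F : Type u) [Field F], Nat.card F = p ^ m →
        (p₀ ≤ p → (Nat.card (Spec (CommRingCat.of F) ⟶ X) : ℝ) ≤
            c * (p : ℝ) ^ ((m : ℝ) * ((r : ℝ) - 1))) ∧
        (p < p₀ → (Nat.card (Spec (CommRingCat.of F) ⟶ X) : ℝ) ≤ c * (p : ℝ) ^ ((m : ℝ) * r)) := by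
  obtain ⟨c, p₀, h⟩ := Groth.Agent.Lib.Helper33.ZetaArithSch.exists_card_le f r hr
  refine ⟨(c : ℝ) + 1, p₀, by positivity, fun p m hp hm F _ hF => ?_⟩
  haveI : Finite F := Nat.finite_of_card_ne_zero (by rw [hF]; exact pow_ne_zero _ hp.ne_zero)
  have hchar : ringChar F = p := by
    haveI : CharP F (ringChar F) := ringChar.charP F
    have hq : (ringChar F).Prime := CharP.char_is_prime F (ringChar F)
    haveI := Fintype.ofFinite F
    have h0 : ((Nat.card F : ℕ) : F) = 0 := by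
      rw [Nat.card_eq_fintype_card]
      exact Nat.cast_card_eq_zero F
    rw [hF, Nat.cast_pow] at h0
    have h1 : ((p : ℕ) : F) = 0 := pow_eq_zero_iff (by omega) |>.1 h0
    have hdvd : ringChar F ∣ p := (CharP.cast_eq_zero_iff F (ringChar F) p).1 h1
    exact (Nat.prime_dvd_prime_iff_eq hq hp).1 hdvd
  obtain ⟨h1, h2⟩ := h F
  have hpR : (0 : ℝ) < p := by exact_mod_cast hp.pos
  have hpm : (0 : ℝ) < (p : ℝ) ^ m := pow_pos hpR m
  have hpmr : (0 : ℝ) ≤ ((p : ℝ) ^ m) ^ r := (pow_pos hpm r).le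
  constructor
  · intro hp0
    have h3 := h2 (by rw [hchar]; exact hp0)
    rw [hF] at h3
    have h4 : (Nat.card (Spec (CommRingCat.of F) ⟶ X) : ℝ) * ((p : ℝ) ^ m) ≤
        (c : ℝ) * ((p : ℝ) ^ m) ^ r := by exact_mod_cast h3
    have h5 : (p : ℝ) ^ ((m : ℝ) * ((r : ℝ) - 1)) = ((p : ℝ) ^ m) ^ r / (p : ℝ) ^ m := by
      rw [mul_sub, mul_one, Real.rpow_sub hpR, ← Nat.cast_mul, Real.rpow_natCast,
        Real.rpow_natCast, pow_mul]
    rw [h5]
    have h6 : (Nat.card (Spec (CommRingCat.of F) ⟶ X) : ℝ) ≤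
        (c : ℝ) * ((p : ℝ) ^ m) ^ r / (p : ℝ) ^ m := by
      rw [le_div_iff₀ hpm]
      exact h4
    refine h6.trans ?_
    rw [mul_div_assoc]
    have h7 : (0 : ℝ) ≤ ((p : ℝ) ^ m) ^ r / (p : ℝ) ^ m := div_nonneg hpmr hpm.le
    nlinarith
  · intro hlt
    have h3 := h1
    rw [hF] at h3
    have h4 : (Nat.card (Spec (CommRingCat.of F) ⟶ X) : ℝ) ≤ (c : ℝ) * ((p : ℝ) ^ m) ^ r := by
      exact_mod_cast h3
    have h5 : (p : ℝ) ^ ((m : ℝ) * (r : ℝ)) = ((p : ℝ) ^ m) ^ r := by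
      rw [← Nat.cast_mul, Real.rpow_natCast, pow_mul]
    rw [h5]
    nlinarith

end Groth.Agent.S13070
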