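import Groth.Statements.S13071
-- import your own Groth.Agent.* helpers here
import Mathlib.AlgebraicGeometry.PullbackCarrier
import Mathlib.FieldTheory.Normal.Closure
import Mathlib.FieldTheory.IsAlgClosed.AlgebraicClosure

set_option autoImplicit false
universe u
open CategoryTheory AlgebraicGeometry Limits
open Zeta

namespace Groth.Agent.S13071

theorem aux {k : Type u} [Field k] {K : Type u} [Field K] [Algebra k K] [Normal k K]
    {X : Scheme.{u}} (f : X ⟶ Spec (CommRingCat.of k))
    (ι : Spec (CommRingCat.of K) ⟶ Spec (CommRingCat.of k))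
    (hι : ι = Spec.map (CommRingCat.ofHom (algebraMap k K)))
    (τ : (K ≃ₐ[k] K) → (pullback f ι ⟶ pullback f ι))
    (hτ1 : ∀ σ, τ σ ≫ pullback.fst f ι = pullback.fst f ι)
    (hτ2 : ∀ σ, τ σ ≫ pullback.snd f ι =
      pullback.snd f ι ≫ Spec.map (CommRingCat.ofHom (σ : K →+* K)))
    (x y : ↑(pullback f ι)) (h : (pullback.fst f ι) x = (pullback.fst f ι) y) :
    ∃ σ, (τ σ) x = y := by
  let u : Spec ((pullback f ι).residueField x) ⟶ X :=
    (pullback f ι).fromSpecResidueField x ≫ pullback.fst f ι
  let u' : Spec ((pullback f ι).residueField y) ⟶ X :=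
    (pullback f ι).fromSpecResidueField y ≫ pullback.fst f ι
  obtain ⟨px⟩ := (inferInstance : Nonempty (Spec ((pullback f ι).residueField x)))
  obtain ⟨py⟩ := (inferInstance : Nonempty (Spec ((pullback f ι).residueField y)))
  have hu : u px = u' py := by
    show (pullback.fst f ι) ((pullback f ι).fromSpecResidueField x px) =
      (pullback.fst f ι) ((pullback f ι).fromSpecResidueField y py)
    rw [Scheme.fromSpecResidueField_apply, Scheme.fromSpecResidueField_apply]
    exact h
  obtain ⟨z, -, -⟩ := Scheme.Pullback.exists_preimage_pullback (f := u) (g := u') px py hu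
  let G : Spec ((pullback u u').residueField z) ⟶ pullback u u' :=
    (pullback u u').fromSpecResidueField z
  let g : Spec ((pullback u u').residueField z) ⟶ pullback f ι :=
    G ≫ pullback.fst u u' ≫ (pullback f ι).fromSpecResidueField x
  let g' : Spec ((pullback u u').residueField z) ⟶ pullback f ι :=
    G ≫ pullback.snd u u' ≫ (pullback f ι).fromSpecResidueField y
  have hgπ : g ≫ pullback.fst f ι = g' ≫ pullback.fst f ι := by
    show (G ≫ pullback.fst u u' ≫ (pullback f ι).fromSpecResidueField x) ≫ pullback.fst f ι =
      (G ≫ pullback.snd u u' ≫ (pullback f ι).fromSpecResidueField y) ≫ pullback.fst f ι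
    simp only [Category.assoc]
    congr 1
    exact pullback.condition (f := u) (g := u')
  let j : CommRingCat.of K ⟶ (pullback u u').residueField z :=
    Spec.preimage (g ≫ pullback.snd f ι)
  let j' : CommRingCat.of K ⟶ (pullback u u').residueField z :=
    Spec.preimage (g' ≫ pullback.snd f ι)
  have hj : Spec.map j = g ≫ pullback.snd f ι := Spec.map_preimage _
  have hj' : Spec.map j' = g' ≫ pullback.snd f ι := Spec.map_preimage _
  have hcond : pullback.fst f ι ≫ f = pullback.snd f ι ≫ ι := pullback.condition
  have hjj : CommRingCat.ofHom (algebraMap k K) ≫ j = CommRingCat.ofHom (algebraMap k K) ≫ j' := by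
    apply Spec.map_injective
    rw [Spec.map_comp, Spec.map_comp, hj, hj', ← hι]
    have hc : ∀ (t : Spec ((pullback u u').residueField z) ⟶ pullback f ι),
        (t ≫ pullback.fst f ι) ≫ f = (t ≫ pullback.snd f ι) ≫ ι := fun t => by
      rw [Category.assoc, hcond, Category.assoc]
    exact (hc g).symm.trans ((congrArg (· ≫ f) hgπ).trans (hc g'))
  letI a1 : Algebra k ((pullback u u').residueField z) :=
    (CommRingCat.ofHom (algebraMap k K) ≫ j).hom.toAlgebra
  let J : K →ₐ[k] (pullback u u').residueField z :=
    { j.hom with commutes' := fun c => rfl }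
  let J' : K →ₐ[k] (pullback u u').residueField z :=
    { j'.hom with commutes' := fun c => (congrArg (fun φ => φ.hom c) hjj).symm }
  letI a2 : Algebra K ((pullback u u').residueField z) := J.toRingHom.toAlgebra
  haveI : IsScalarTower k K ((pullback u u').residueField z) :=
    IsScalarTower.of_algebraMap_eq (fun c => (J.commutes c).symm)
  set σ := Normal.algHomEquivAut k ((pullback u u').residueField z) K J' with hσ
  have h1 : J' = (IsScalarTower.toAlgHom k K ((pullback u u').residueField z)).comp
      σ.toAlgHom :=
    ((Normal.algHomEquivAut k ((pullback u u').residueField z) K).symm_apply_apply J').symm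
  refine ⟨σ, ?_⟩
  have hgg : g ≫ τ σ = g' := by
    apply pullback.hom_ext
    · rw [Category.assoc, hτ1]
      exact hgπ
    · rw [Category.assoc, hτ2, ← Category.assoc, ← hj, ← hj', ← Spec.map_comp]
      congr 1
      ext c
      show j.hom (σ c) = j'.hom c
      exact (congrArg (fun φ => φ c) h1).symm
  have hgx : ∀ p, g p = x := fun p => by
    show (pullback f ι).fromSpecResidueField x _ = x
    exact Scheme.fromSpecResidueField_apply x _
  have hgy : ∀ p, g' p = y := fun p => by
    show (pullback f ι).fromSpecResidueField y _ = y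
    exact Scheme.fromSpecResidueField_apply y _
  obtain ⟨p⟩ := (inferInstance : Nonempty (Spec ((pullback u u').residueField z)))
  calc (τ σ) x = (τ σ) (g p) := by rw [hgx]
    _ = (g ≫ τ σ) p := rfl
    _ = g' p := by rw [hgg]
    _ = y := hgy p


/-- For a variety X over a perfect field k with algebraic closure k̄, the fibres of the projection π :
X_{k̄} → X are exactly the orbits of G(k̄/k) acting on X_{k̄} (σ acting as id × Spec σ). Stated for
any scheme of finite type over k; each τ_σ is pinned by τ_σ ≫ pr_1 = pr_1 and τ_σ ≫ pr_2 = pr_2 ≫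
Spec σ. -/
theorem result {k : Type u} [Field k] [PerfectField k]
    {X : Scheme.{u}} (f : X ⟶ Spec (CommRingCat.of k)) [LocallyOfFiniteType f] [QuasiCompact f]
    (τ : (AlgebraicClosure k ≃ₐ[k] AlgebraicClosure k) →
      (pullback f (Spec.map (CommRingCat.ofHom (algebraMap k (AlgebraicClosure k)))) ⟶
        pullback f (Spec.map (CommRingCat.ofHom (algebraMap k (AlgebraicClosure k))))))
    (hτ1 : ∀ σ, τ σ ≫ pullback.fst f _ = pullback.fst f _)
    (hτ2 : ∀ σ, τ σ ≫ pullback.snd f (Spec.map (CommRingCat.ofHom (algebraMap k (AlgebraicClosure k)))) =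
        pullback.snd f _ ≫ Spec.map (CommRingCat.ofHom (σ : AlgebraicClosure k →+* AlgebraicClosure k)))
    (x y : ↑(pullback f (Spec.map (CommRingCat.ofHom (algebraMap k (AlgebraicClosure k)))))) :
    (pullback.fst f (Spec.map (CommRingCat.ofHom (algebraMap k (AlgebraicClosure k))))).base x =
        (pullback.fst f (Spec.map (CommRingCat.ofHom (algebraMap k (AlgebraicClosure k))))).base y ↔
      ∃ σ, (τ σ).base x = y := by
  constructor
  · intro h
    exact aux f _ rfl τ hτ1 hτ2 x y h
  · rintro ⟨σ, rfl⟩
    show (pullback.fst f _) x = (pullback.fst f _) ((τ σ) x)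
    rw [← Scheme.Hom.comp_apply, hτ1]

end Groth.Agent.S13071
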