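import Groth.Statements.S13075
import Mathlib.RingTheory.PowerSeries.Log
-- import your own Groth.Agent.* helpers here

set_option autoImplicit false
open Zeta

namespace Groth.Agent.S13075

open PowerSeries in
theorem L_eq : (PowerSeries.mk fun m : ℕ => if m = 0 then (0 : ℚ) else (-1) ^ (m + 1) / (m : ℚ)) =
    PowerSeries.log ℚ := by
  ext n
  simp [PowerSeries.coeff_log]

open PowerSeries in
theorem one_add_X_mul_deriv_log :
    (1 + X : PowerSeries ℚ) * (d⁄dX ℚ (PowerSeries.log ℚ)) = 1 := by
  rw [PowerSeries.deriv_log]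
  ext n
  rw [add_mul, one_mul, map_add]
  rcases n with _ | n
  · simp
  · rw [PowerSeries.coeff_succ_X_mul]
    simp [PowerSeries.coeff_one, pow_succ]

open PowerSeries in
theorem log_subst_exp : (PowerSeries.log ℚ).subst (PowerSeries.exp ℚ - 1) = X := by
  have hs : HasSubst (PowerSeries.exp ℚ - 1) := HasSubst.exp_sub_one
  apply PowerSeries.derivative.ext
  · rw [PowerSeries.derivative_subst hs, PowerSeries.derivative_X]
    have h1 := congrArg (PowerSeries.subst (PowerSeries.exp ℚ - 1)) one_add_X_mul_deriv_log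
    rw [PowerSeries.subst_mul hs, PowerSeries.subst_add hs, PowerSeries.subst_X hs] at h1
    have h2 : (1 : PowerSeries ℚ).subst (PowerSeries.exp ℚ - 1) = 1 := by
      rw [← map_one (PowerSeries.C (R := ℚ)), PowerSeries.subst_C]; rfl
    rw [h2] at h1
    have h3 : (1 : PowerSeries ℚ) + (PowerSeries.exp ℚ - 1) = PowerSeries.exp ℚ := by ring
    rw [h3] at h1
    rw [map_sub, PowerSeries.derivative_exp, PowerSeries.derivative_one, sub_zero, mul_comm]
    exact h1
  · rw [PowerSeries.constantCoeff_X]
    apply PowerSeries.constantCoeff_subst_eq_zero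
    · rw [map_sub, map_one, ← PowerSeries.constantCoeff_eq, PowerSeries.constantCoeff_exp,
        sub_self]
    · exact PowerSeries.constantCoeff_log

/-- For the formal power series exp(t) = ∑_{m ≥ 0} t^m / m! and log(1 + t) = ∑_{m ≥ 1} (−1)^{m+1} t^m /
m over ℚ, log(exp(u)) = u and exp(log(1 + u)) = 1 + u for every u ∈ tℚ⟦t⟧; stated for u = t (the
general case is obtained by substitution): substituting exp(t) − 1 into log(1 + ·) gives t, and
substituting log(1 + t) into exp gives 1 + t. -/
theorem result :
    PowerSeries.subst (PowerSeries.exp ℚ - 1)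
        (PowerSeries.mk fun m : ℕ => if m = 0 then (0 : ℚ) else (-1) ^ (m + 1) / (m : ℚ)) =
      PowerSeries.X ∧
    PowerSeries.subst (PowerSeries.mk fun m : ℕ => if m = 0 then (0 : ℚ) else (-1) ^ (m + 1) / (m : ℚ))
        (PowerSeries.exp ℚ) = 1 + PowerSeries.X := by
  rw [L_eq]
  refine ⟨log_subst_exp, ?_⟩
  set P : PowerSeries ℚ := PowerSeries.exp ℚ - 1 with hP
  have hP0 : PowerSeries.constantCoeff P = 0 := by
    simp [hP, PowerSeries.constantCoeff_exp]
  have hP1 : PowerSeries.coeff 1 P = 1 := by
    simp [hP, PowerSeries.coeff_exp, PowerSeries.coeff_one]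
  letI : Invertible (PowerSeries.coeff 1 P) := by
    rw [hP1]; exact invertibleOne
  have hsP : PowerSeries.HasSubst P := PowerSeries.HasSubst.exp_sub_one
  have hsQ : PowerSeries.HasSubst P.substInv := PowerSeries.HasSubst.substInv P
  have hr : P.subst P.substInv = PowerSeries.X := PowerSeries.subst_substInv_right P hP0
  have hL : PowerSeries.log ℚ = P.substInv := by
    calc PowerSeries.log ℚ = PowerSeries.subst (PowerSeries.X : PowerSeries ℚ) (PowerSeries.log ℚ) :=
          (PowerSeries.X_subst _).symm
      _ = PowerSeries.subst (PowerSeries.subst P.substInv P) (PowerSeries.log ℚ) := by rw [hr]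
      _ = PowerSeries.subst P.substInv (PowerSeries.subst P (PowerSeries.log ℚ)) := by
          rw [PowerSeries.subst_comp_subst_apply hsP hsQ]
      _ = PowerSeries.subst P.substInv (PowerSeries.X : PowerSeries ℚ) := by rw [log_subst_exp]
      _ = P.substInv := PowerSeries.subst_X hsQ
  rw [hL]
  have h4 : PowerSeries.exp ℚ = 1 + P := by rw [hP]; ring
  rw [h4, PowerSeries.subst_add hsQ, hr]
  congr 1
  rw [← map_one (PowerSeries.C (R := ℚ)), PowerSeries.subst_C]; rfl

end Groth.Agent.S13075
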