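import Groth.Statements.S13081
import Groth.Agent.Lib.Helper81.IsQuotAffine

set_option autoImplicit false
set_option linter.style.haveILetI false
universe u
open CategoryTheory AlgebraicGeometry Limits
open Zeta

namespace Groth.Agent.S13081

/-- Let G be a finite group acting by algebraic automorphisms over k on a scheme X of finite type over k
admitting a quotient X → X/G, and H a normal subgroup of G. Then X/H carries an induced action of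
G/H and its quotient by this action is X/G: the induced morphism r : X/H → X/G is a quotient of X/H
by G/H. The induced action ρ̄ is pinned by p_H ≫ ρ̄(ḡ) = ρ(g) ≫ p_H and r by p_H ≫ r = p. -/
theorem result {k : Type u} [Field k] {G : Type u} [Group G]
    [Finite G] {X XG XH : Scheme.{u}} (fX : X ⟶ Spec (CommRingCat.of k)) [LocallyOfFiniteType fX]
    [QuasiCompact fX] (ρ : G →* Aut X) (hρ : ∀ g, (ρ g).hom ≫ fX = fX) (p : X ⟶ XG)
    (hP : SGA1.IsQuot ρ p) (H : Subgroup G) [H.Normal] (pH : X ⟶ XH)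
    (hPH : SGA1.IsQuot (ρ.comp H.subtype) pH) (ρbar : G ⧸ H →* Aut XH)
    (hρbar : ∀ g : G, pH ≫ (ρbar (QuotientGroup.mk g)).hom = (ρ g).hom ≫ pH)
    (r : XH ⟶ XG) (hr : pH ≫ r = p) :
    SGA1.IsQuot ρbar r := by
  subst hr
  have hepi : Epi pH := Groth.Agent.Lib.Helper81.Quot.epi hPH
  have hinv : ∀ x : G ⧸ H, (ρbar x).hom ≫ r = r := by
    intro x
    obtain ⟨g, rfl⟩ := QuotientGroup.mk_surjective x
    rw [← cancel_epi pH, ← Category.assoc, hρbar, Category.assoc, hP.inv g]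
  refine ⟨⟨fun U hU => ?_⟩, hinv, fun U => ?_, fun U t => ⟨?_, ?_⟩⟩
  · haveI := hP.affine
    exact Groth.Agent.Lib.Helper81.Quot.isAffineOpen_of_preimage hPH (r ⁻¹ᵁ U)
      (hU.preimage (pH ≫ r))
  · intro t t' h
    apply hP.injective U
    show (pH.app (r ⁻¹ᵁ U)).hom ((r.app U).hom t) = (pH.app (r ⁻¹ᵁ U)).hom ((r.app U).hom t')
    rw [h]
  · rintro ⟨u, rfl⟩ x
    exact Groth.Agent.Lib.Helper81.Quot.sec_app ρbar r hinv U x u
  · intro ht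
    have hstab : ∀ g : G, pH ⁻¹ᵁ (r ⁻¹ᵁ U) ≤ (ρ g).hom ⁻¹ᵁ (pH ⁻¹ᵁ (r ⁻¹ᵁ U)) :=
      fun g => SGA1.preimage_le_of_inv ρ (pH ≫ r) hP.inv g U
    have hs : ∀ g : G, ((ρ g).hom.appLE (pH ⁻¹ᵁ (r ⁻¹ᵁ U)) (pH ⁻¹ᵁ (r ⁻¹ᵁ U)) (hstab g)).hom
        ((pH.app (r ⁻¹ᵁ U)).hom t) = (pH.app (r ⁻¹ᵁ U)).hom t := by
      intro g
      have e1 : pH.app (r ⁻¹ᵁ U) ≫ (ρ g).hom.appLE (pH ⁻¹ᵁ (r ⁻¹ᵁ U)) (pH ⁻¹ᵁ (r ⁻¹ᵁ U))
          (hstab g) =
          (ρbar (QuotientGroup.mk g)).hom.appLE (r ⁻¹ᵁ U) (r ⁻¹ᵁ U)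
            (SGA1.preimage_le_of_inv ρbar r hinv (QuotientGroup.mk g) U) ≫ pH.app (r ⁻¹ᵁ U) := by
        have a1 := (Scheme.Hom.comp_appLE (ρ g).hom pH (r ⁻¹ᵁ U) (pH ⁻¹ᵁ (r ⁻¹ᵁ U)) (hstab g)).symm
        have a2 := Scheme.Hom.appLE_comp_appLE pH (ρbar (QuotientGroup.mk g)).hom (r ⁻¹ᵁ U)
          (r ⁻¹ᵁ U) (pH ⁻¹ᵁ (r ⁻¹ᵁ U))
          (SGA1.preimage_le_of_inv ρbar r hinv (QuotientGroup.mk g) U) le_rfl
        rw [Scheme.Hom.appLE_eq_app] at a2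
        rw [a1, a2]
        exact Groth.Agent.Lib.Helper81.Quot.appLE_congr_hom (hρbar g).symm _ _ _
      have e2 := congrArg (fun φ => φ.hom t) e1
      simp only [CommRingCat.hom_comp, RingHom.coe_comp, Function.comp_apply] at e2
      exact e2.trans (congrArg _ (ht (QuotientGroup.mk g)))
    obtain ⟨u, hu⟩ := (hP.range_iff U _).mpr hs
    refine ⟨u, ?_⟩
    apply hPH.injective (r ⁻¹ᵁ U)
    exact hu

end Groth.Agent.S13081
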