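import Groth.Statements.S13083
import Groth.Agent.Lib.Helper44.ZeroCycGal

set_option autoImplicit false
universe u
open CategoryTheory AlgebraicGeometry Limits
open Zeta

namespace Groth.Agent.S13083

/-- Let X be a variety over a perfect field k, k̄ an algebraic closure and π : X_{k̄} → X the
projection. Sending a closed point x to the sum of the points of π⁻¹(x) induces a bijection between
effective 0-cycles of degree n on X and effective 0-cycles of degree n on X_{k̄} fixed by G(k̄/k).
Stated for schemes of finite type over k, with 0-cycles as finitely supported ℕ-valued functions on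
closed points, the degree on X weighted by the residue degrees [κ(x) : k], the map being c ↦ c ∘ π,
and the Galois automorphisms τ_σ = id × Spec σ pinned by their projections. -/
theorem result {k : Type u} [Field k]
    [PerfectField k] {X : Scheme.{u}} (f : X ⟶ Spec (CommRingCat.of k)) [LocallyOfFiniteType f]
    [QuasiCompact f]
    (τ : (AlgebraicClosure k ≃ₐ[k] AlgebraicClosure k) →
      (pullback f (Spec.map (CommRingCat.ofHom (algebraMap k (AlgebraicClosure k)))) ⟶
        pullback f (Spec.map (CommRingCat.ofHom (algebraMap k (AlgebraicClosure k))))))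
    (hτ1 : ∀ σ, τ σ ≫ pullback.fst f _ = pullback.fst f _)
    (hτ2 : ∀ σ, τ σ ≫ pullback.snd f (Spec.map (CommRingCat.ofHom (algebraMap k (AlgebraicClosure k)))) =
        pullback.snd f _ ≫ Spec.map (CommRingCat.ofHom (σ : AlgebraicClosure k →+* AlgebraicClosure k)))
    (n : ℕ) :
    Set.BijOn
      (fun c : X → ℕ => c ∘ (pullback.fst f (Spec.map (CommRingCat.ofHom
        (algebraMap k (AlgebraicClosure k))))).base)
      {c : X → ℕ | (Function.support c).Finite ∧ (∀ x, c x ≠ 0 → IsClosed ({x} : Set X)) ∧
        ∑ᶠ x, c x * EGA4loc.residueDegree f x = n}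
      {d : ↑(pullback f (Spec.map (CommRingCat.ofHom (algebraMap k (AlgebraicClosure k))))) → ℕ |
        (Function.support d).Finite ∧ (∀ y, d y ≠ 0 → IsClosed ({y} : Set _)) ∧
        ∑ᶠ y, d y = n ∧ ∀ σ y, d ((τ σ).base y) = d y} := by
  classical
  have : IsGalois k (AlgebraicClosure k) := { }
  have hsurj := Groth.Agent.Lib.Helper44.ZeroCycGal.fst_surjective f
  have hclosedMap : IsClosedMap (pullback.fst f (Spec.map (CommRingCat.ofHom
      (algebraMap k (AlgebraicClosure k))))) :=
    Groth.Agent.Lib.Helper51.isClosedMap_pullback_fst_of_isIntegral f (AlgebraicClosure k)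
  have hfibfin : ∀ x : X, Finite ↥((pullback.fst f (Spec.map (CommRingCat.ofHom
      (algebraMap k (AlgebraicClosure k))))) ⁻¹' {x}) := fun x =>
    Groth.Agent.Lib.Helper51.finite_preimage_singleton_of_isSepClosed f (AlgebraicClosure k) x
  have hgal : ∀ σ, τ σ = Groth.Agent.Lib.Helper78.GalTrans.gal f (AlgebraicClosure k) σ :=
    fun σ => Groth.Agent.Lib.Helper44.ZeroCycGal.eq_gal f (τ σ) σ (hτ1 σ) (hτ2 σ)
  -- the counting identity
  have hcount : ∀ c : X → ℕ, (Function.support c).Finite →
      (∀ x, c x ≠ 0 → IsClosed ({x} : Set X)) →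
      ∑ᶠ y, c ((pullback.fst f (Spec.map (CommRingCat.ofHom
        (algebraMap k (AlgebraicClosure k))))).base y) =
      ∑ᶠ x, c x * EGA4loc.residueDegree f x := by
    intro c hc hcl
    exact Groth.Agent.Lib.Helper44.ZeroCycGal.finsum_comp_eq _ c _ hc (fun x _ => hfibfin x)
      (fun x hx => Groth.Agent.Lib.Helper44.ZeroCycGal.card_fibre f x (hcl x hx))
  refine ⟨?_, ?_, ?_⟩
  · -- maps to
    rintro c ⟨hc, hcl, hsum⟩
    refine ⟨?_, ?_, ?_, ?_⟩
    · have : Function.support (c ∘ (pullback.fst f (Spec.map (CommRingCat.ofHom
          (algebraMap k (AlgebraicClosure k))))).base) =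
          ⋃ x ∈ Function.support c, (pullback.fst f (Spec.map (CommRingCat.ofHom
          (algebraMap k (AlgebraicClosure k))))) ⁻¹' {x} := by
        ext y
        simp only [Function.mem_support, Function.comp_apply, Set.mem_iUnion, Set.mem_preimage,
          Set.mem_singleton_iff, exists_prop]
        constructor
        · intro h; exact ⟨_, h, rfl⟩
        · rintro ⟨x, hx, hyx⟩
          have : c ((pullback.fst f (Spec.map (CommRingCat.ofHom
            (algebraMap k (AlgebraicClosure k))))) y) = c x := congrArg c hyx
          exact this ▸ hx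
      rw [this]
      exact Set.Finite.biUnion hc (fun x _ => Set.finite_coe_iff.mp (hfibfin x))
    · intro y hy
      exact Groth.Agent.Lib.Helper44.ZeroCycGal.isClosed_of_isClosed_fst f y (hcl _ hy)
    · rw [← hsum]
      exact hcount c hc hcl
    · intro σ y
      show c ((pullback.fst f _).base ((τ σ).base y)) = c ((pullback.fst f _).base y)
      have h1 : (pullback.fst f (Spec.map (CommRingCat.ofHom
          (algebraMap k (AlgebraicClosure k))))) ((τ σ) y) =
          (pullback.fst f (Spec.map (CommRingCat.ofHom
          (algebraMap k (AlgebraicClosure k))))) y := by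
        rw [← Scheme.Hom.comp_apply, hτ1]
      exact congrArg c h1
  · -- injective
    rintro c _ c' _ h
    funext x
    obtain ⟨y, rfl⟩ := hsurj x
    exact congrFun h y
  · -- surjective
    rintro d ⟨hd, hdcl, hdsum, hdinv⟩
    -- `d` is constant on the fibres
    have hconst : ∀ y y', (pullback.fst f (Spec.map (CommRingCat.ofHom
        (algebraMap k (AlgebraicClosure k))))) y = (pullback.fst f (Spec.map (CommRingCat.ofHom
        (algebraMap k (AlgebraicClosure k))))) y' → d y = d y' := by
      intro y y' h
      obtain ⟨σ, hσ⟩ := Groth.Agent.Lib.Helper78.GalTrans.exists_gal_eq f (AlgebraicClosure k) y y' h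
      rw [← hσ, ← hgal σ]
      exact (hdinv σ y).symm
    set c : X → ℕ := fun x => d (Function.surjInv hsurj x) with hcdef
    have hcπ : c ∘ (pullback.fst f (Spec.map (CommRingCat.ofHom
        (algebraMap k (AlgebraicClosure k))))).base = d := by
      funext y
      exact hconst _ _ (Function.surjInv_eq hsurj _)
    have hcsupp : (Function.support c).Finite := by
      refine (hd.image (pullback.fst f (Spec.map (CommRingCat.ofHom
        (algebraMap k (AlgebraicClosure k))))).base).subset ?_
      intro x hx
      exact ⟨Function.surjInv hsurj x, hx, Function.surjInv_eq hsurj x⟩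
    have hccl : ∀ x, c x ≠ 0 → IsClosed ({x} : Set X) := by
      intro x hx
      have h1 := hdcl (Function.surjInv hsurj x) hx
      have h2 := hclosedMap _ h1
      rw [Set.image_singleton] at h2
      have h3 : (pullback.fst f (Spec.map (CommRingCat.ofHom
        (algebraMap k (AlgebraicClosure k))))) (Function.surjInv hsurj x) = x :=
        Function.surjInv_eq hsurj x
      rw [h3] at h2
      exact h2
    refine ⟨c, ⟨hcsupp, hccl, ?_⟩, hcπ⟩
    rw [← hcount c hcsupp hccl, ← hdsum]
    exact finsum_congr (fun y => congrFun hcπ y)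

end Groth.Agent.S13083
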