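import Groth.Statements.S13096
import Mathlib

set_option autoImplicit false
universe u v
open CAlg

namespace Groth.Agent.S13096

section
open MvPolynomial

theorem injective_of_surjective_ringEnd {A : Type*} [CommRing A] [IsNoetherianRing A]
    (φ : A →+* A) (hφ : Function.Surjective φ) : Function.Injective φ := by
  let K : ℕ →o Ideal A := ⟨fun n => RingHom.ker (φ ^ n), fun a b hab x hx => by
    rw [RingHom.mem_ker, RingHom.coe_pow] at hx ⊢
    obtain ⟨k, rfl⟩ := Nat.exists_eq_add_of_le hab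
    rw [add_comm, Function.iterate_add_apply, hx, iterate_map_zero]⟩
  obtain ⟨n, hn⟩ := monotone_stabilizes_iff_noetherian.mpr (inferInstance : IsNoetherian A A) K
  rw [injective_iff_map_eq_zero]
  intro x hx
  obtain ⟨y, rfl⟩ := (hφ.iterate n) x
  have hy : y ∈ K (n + 1) := by
    change y ∈ RingHom.ker (φ ^ (n + 1))
    rw [RingHom.mem_ker, RingHom.coe_pow, Function.iterate_succ_apply']
    exact hx
  rw [← hn (n + 1) (Nat.le_succ n)] at hy
  change y ∈ RingHom.ker (φ ^ n) at hy
  rw [RingHom.mem_ker, RingHom.coe_pow] at hy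
  exact hy

theorem core {R : Type u} [CommRing R] {n m : ℕ} (f : Fin m → MvPolynomial (Fin n) R)
    (p q : Fin n → MvPolynomial (Fin n) R) (h : Fin n → Fin m → MvPolynomial (Fin n) R)
    (g : Fin m → Fin m → MvPolynomial (Fin n) R) (P0 : MvPolynomial (Fin n) R)
    (c : Fin m → MvPolynomial (Fin n) R)
    (hg : ∀ j, aeval p (f j) = ∑ k, g j k * f k)
    (hh : ∀ i, aeval p (q i) - X i = ∑ j, h i j * f j)
    (hc : aeval p P0 = ∑ j, c j * f j) : P0 ∈ Ideal.span (Set.range f) := by
  classical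
  let PP : Finset (MvPolynomial (Fin n) R) :=
    Finset.univ.image f ∪ Finset.univ.image p ∪ Finset.univ.image q ∪
      (Finset.univ.image fun x : Fin n × Fin m => h x.1 x.2) ∪
      (Finset.univ.image fun x : Fin m × Fin m => g x.1 x.2) ∪ {P0} ∪ Finset.univ.image c
  let CC : Finset R := PP.biUnion MvPolynomial.coeffs
  let R0 : Subalgebra ℤ R := Algebra.adjoin ℤ (CC : Set R)
  have hR0 : IsNoetherianRing R0 := isNoetherianRing_of_fg (Subalgebra.fg_adjoin_finset CC)
  let ι : MvPolynomial (Fin n) R0 →+* MvPolynomial (Fin n) R := MvPolynomial.map (algebraMap R0 R)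
  have hι : Function.Injective ι := MvPolynomial.map_injective _ Subtype.val_injective
  have hlift : ∀ Q ∈ PP, ∃ Q0, ι Q0 = Q := by
    intro Q hQ
    have : Q ∈ Set.range (MvPolynomial.map (algebraMap R0 R)) := by
      rw [MvPolynomial.mem_range_map_iff_coeffs_subset]
      intro a ha
      exact ⟨⟨a, Algebra.subset_adjoin (Finset.mem_coe.mpr
        (Finset.mem_biUnion.mpr ⟨Q, hQ, ha⟩))⟩, rfl⟩
    exact this
  have hf0 : ∀ j, ∃ Q0, ι Q0 = f j := fun j => hlift _ (by simp [PP])
  have hp0 : ∀ i, ∃ Q0, ι Q0 = p i := fun i => hlift _ (by simp [PP])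
  have hq0 : ∀ i, ∃ Q0, ι Q0 = q i := fun i => hlift _ (by simp [PP])
  have hh0 : ∀ i j, ∃ Q0, ι Q0 = h i j := fun i j => hlift _ (by simp [PP])
  have hg0 : ∀ j k, ∃ Q0, ι Q0 = g j k := fun j k => hlift _ (by simp [PP])
  have hc0 : ∀ j, ∃ Q0, ι Q0 = c j := fun j => hlift _ (by simp [PP])
  obtain ⟨P00, hP00⟩ : ∃ Q0, ι Q0 = P0 := hlift _ (by simp [PP])
  choose f0 hf0 using hf0
  choose p0 hp0 using hp0
  choose q0 hq0 using hq0
  choose h0 hh0 using hh0
  choose g0 hg0 using hg0
  choose c0 hc0 using hc0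
  let β0 : MvPolynomial (Fin n) R0 →+* MvPolynomial (Fin n) R0 :=
    (MvPolynomial.aeval p0 : MvPolynomial (Fin n) R0 →ₐ[R0] MvPolynomial (Fin n) R0).toRingHom
  have hcomm : ∀ Q, ι (β0 Q) = aeval p (ι Q) := by
    intro Q
    induction Q using MvPolynomial.induction_on with
    | C a => simp [β0, ι]
    | add x y hx hy => simp only [map_add, hx, hy]
    | mul_X x i hx =>
      rw [map_mul, map_mul, map_mul, hx]
      simp [β0, ι, hp0]
  have hg1 : ∀ j, β0 (f0 j) = ∑ k, g0 j k * f0 k := by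
    intro j
    apply hι
    rw [hcomm, hf0, hg, map_sum]
    refine Finset.sum_congr rfl fun k _ => ?_
    rw [map_mul, hg0, hf0]
  have hh1 : ∀ i, β0 (q0 i) - X i = ∑ j, h0 i j * f0 j := by
    intro i
    apply hι
    rw [map_sub, hcomm, hq0, map_sum]
    have : ι (X i) = X i := by simp [ι]
    rw [this, hh]
    refine Finset.sum_congr rfl fun k _ => ?_
    rw [map_mul, hh0, hf0]
  have hc1 : β0 P00 = ∑ j, c0 j * f0 j := by
    apply hι
    rw [hcomm, hP00, hc, map_sum]
    refine Finset.sum_congr rfl fun k _ => ?_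
    rw [map_mul, hc0, hf0]
  let I0 : Ideal (MvPolynomial (Fin n) R0) := Ideal.span (Set.range f0)
  have hsum : ∀ a : Fin m → MvPolynomial (Fin n) R0, ∑ j, a j * f0 j ∈ I0 := fun a =>
    Ideal.sum_mem _ fun j _ => Ideal.mul_mem_left _ _ (Ideal.subset_span ⟨j, rfl⟩)
  have hI0 : I0 ≤ I0.comap β0 := by
    rw [Ideal.span_le]
    rintro _ ⟨j, rfl⟩
    rw [SetLike.mem_coe, Ideal.mem_comap, hg1]
    exact hsum _
  let α0 : (MvPolynomial (Fin n) R0 ⧸ I0) →+* (MvPolynomial (Fin n) R0 ⧸ I0) :=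
    Ideal.quotientMap I0 β0 hI0
  have hsurjβ : ∀ Q, ∃ Q', β0 Q' - Q ∈ I0 := by
    intro Q
    induction Q using MvPolynomial.induction_on with
    | C a =>
      refine ⟨C a, ?_⟩
      have : β0 (C a) = C a := by simp [β0]
      rw [this, sub_self]
      exact I0.zero_mem
    | add x y hx hy =>
      obtain ⟨x', hx'⟩ := hx
      obtain ⟨y', hy'⟩ := hy
      refine ⟨x' + y', ?_⟩
      have : β0 (x' + y') - (x + y) = (β0 x' - x) + (β0 y' - y) := by rw [map_add]; ring
      rw [this]
      exact I0.add_mem hx' hy'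
    | mul_X x i hx =>
      obtain ⟨x', hx'⟩ := hx
      refine ⟨x' * q0 i, ?_⟩
      have : β0 (x' * q0 i) - x * X i = β0 x' * (β0 (q0 i) - X i) + (β0 x' - x) * X i := by
        rw [map_mul]; ring
      rw [this, hh1]
      exact I0.add_mem (I0.mul_mem_left _ (hsum _)) (I0.mul_mem_right _ hx')
  have hα0surj : Function.Surjective α0 := by
    intro z
    obtain ⟨Q, rfl⟩ := Ideal.Quotient.mk_surjective z
    obtain ⟨Q', hQ'⟩ := hsurjβ Q
    refine ⟨Ideal.Quotient.mk I0 Q', ?_⟩
    rw [Ideal.quotientMap_mk, Ideal.Quotient.eq]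
    exact hQ'
  have hα0inj : Function.Injective α0 :=
    injective_of_surjective_ringEnd (A := MvPolynomial (Fin n) R0 ⧸ I0) α0 hα0surj
  have hP00mem : P00 ∈ I0 := by
    rw [← Ideal.Quotient.eq_zero_iff_mem]
    apply hα0inj
    rw [map_zero, Ideal.quotientMap_mk, Ideal.Quotient.eq_zero_iff_mem, hc1]
    exact hsum _
  rw [← hP00]
  have hmap : I0.map ι ≤ Ideal.span (Set.range f) := by
    rw [Ideal.map_span, Ideal.span_le]
    rintro _ ⟨_, ⟨j, rfl⟩, rfl⟩
    rw [hf0]
    exact Ideal.subset_span ⟨j, rfl⟩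
  exact hmap (Ideal.mem_map_of_mem ι hP00mem)

end

/-- Let R be a commutative ring and R' a commutative R-algebra of finite presentation. Then every
surjective R-algebra endomorphism α : R' → R' is bijective (an automorphism). -/
theorem result (R : Type u) [CommRing R]
    (R' : Type v) [CommRing R'] [Algebra R R'] [Algebra.FinitePresentation R R']
    (α : R' →ₐ[R] R') (hα : Function.Surjective α) : Function.Bijective α := by
  classical
  refine ⟨?_, hα⟩
  obtain ⟨n, π, hπ, hker⟩ := Algebra.FinitePresentation.out (R := R) (A := R')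
  obtain ⟨m, f, hf⟩ := Submodule.fg_iff_exists_fin_generating_family.mp hker
  have hfmem : ∀ Q, Q ∈ Ideal.span (Set.range f) ↔ π Q = 0 := by
    intro Q
    rw [Ideal.span, hf]
    exact RingHom.mem_ker
  choose p hp using fun i => hπ (α (π (MvPolynomial.X i)))
  have hβ : ∀ Q, π (MvPolynomial.aeval p Q) = α (π Q) := by
    intro Q
    have : (π.comp (MvPolynomial.aeval p)) = α.comp π :=
      MvPolynomial.algHom_ext (fun i => by simp [hp])
    exact AlgHom.congr_fun this Q
  have hq' : ∀ i, ∃ Qi, α (π Qi) = π (MvPolynomial.X i) := fun i => by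
    obtain ⟨z, hz⟩ := hα (π (MvPolynomial.X i))
    obtain ⟨Qi, rfl⟩ := hπ z
    exact ⟨Qi, hz⟩
  choose q hq using hq'
  have hh' : ∀ i, MvPolynomial.aeval p (q i) - MvPolynomial.X i ∈ Ideal.span (Set.range f) :=
    fun i => by rw [hfmem, map_sub, hβ, hq, sub_self]
  have hg' : ∀ j, MvPolynomial.aeval p (f j) ∈ Ideal.span (Set.range f) := fun j => by
    rw [hfmem, hβ, (hfmem (f j)).mp (Ideal.subset_span ⟨j, rfl⟩), map_zero]
  choose h hh using fun i => (Ideal.mem_span_range_iff_exists_fun.mp (hh' i))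
  choose g hg using fun j => (Ideal.mem_span_range_iff_exists_fun.mp (hg' j))
  rw [injective_iff_map_eq_zero]
  intro z hz
  obtain ⟨P0, rfl⟩ := hπ z
  have hc' : MvPolynomial.aeval p P0 ∈ Ideal.span (Set.range f) := by rw [hfmem, hβ, hz]
  obtain ⟨c, hc⟩ := Ideal.mem_span_range_iff_exists_fun.mp hc'
  exact (hfmem P0).mp (core f p q h g P0 c (fun j => (hg j).symm) (fun i => (hh i).symm) hc.symm)

end Groth.Agent.S13096
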