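import Groth.Statements.S13097
import Mathlib.Tactic
import Mathlib.AlgebraicGeometry.Morphisms.Separated
import Mathlib.AlgebraicGeometry.Morphisms.ClosedImmersion
import Mathlib.AlgebraicGeometry.Morphisms.Proper
import Mathlib.AlgebraicGeometry.ZariskisMainTheorem

set_option autoImplicit false
universe u
open FlatMor

namespace Groth.Agent.S13097

open CategoryTheory AlgebraicGeometry Limits in
/-- A schematically dense open is dense. -/
theorem dense_of_schematicallyDense {X : Scheme.{u}} (W : X.Opens)
    (hW : CInt.IsSchematicallyDense W) : Dense (W : Set X) := by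
  rw [dense_iff_inter_open]
  intro V hV hVne
  by_contra hcon
  rw [Set.not_nonempty_iff_eq_empty] at hcon
  let V' : X.Opens := ⟨V, hV⟩
  have hbot : V' ⊓ W = ⊥ := by
    ext x
    simp only [TopologicalSpace.Opens.coe_inf, TopologicalSpace.Opens.coe_bot]
    rw [← hcon]
    rfl
  have hinj := hW V'
  have hsub : Subsingleton Γ(X, V' ⊓ W) := by
    rw [hbot]
    infer_instance
  have hsub' : Subsingleton Γ(X, V') := hinj.subsingleton
  have : V' = ⊥ := by
    rw [← Scheme.basicOpen_zero X V']
    have h01 : (0 : Γ(X, V')) = 1 := Subsingleton.elim _ _
    rw [h01]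
    exact (Scheme.basicOpen_of_isUnit X isUnit_one).symm
  obtain ⟨x, hx⟩ := hVne
  have hx' : x ∈ V' := hx
  rw [this] at hx'
  exact hx'

open CategoryTheory AlgebraicGeometry in
/-- Let f : X → S be a quasi-compact, separated morphism of schemes with a section e : S → X (e followed
by f is the identity of S), and U ⊆ S an open subscheme such that f⁻¹(U) is schematically dense in X
(for every open V of X, restriction of functions from V to V ∩ f⁻¹(U) is injective) and such that
the restriction f⁻¹(U) → U of f is a homeomorphism of underlying spaces. Then f is universally a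
homeomorphism (every base change of f is a homeomorphism), and f is finite as soon as it is locally
of finite type. (The published statement also lists surjectivity of f, which a section forces, and
offers as an alternative to the section the hypothesis that f be flat, still with f⁻¹(U) → U only a
homeomorphism; that flat alternative fails: the spectrum of a separable quadratic field extension
over the spectrum of the ground field, with U the whole base, is flat, surjective, quasi-compact,
separated and a homeomorphism over U, yet not universally injective. Only the case of a section,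
whose published proof is complete, is stated here.) -/
theorem result {X S : Scheme.{u}} (f : X ⟶ S)
    [QuasiCompact f] [IsSeparated f] (U : S.Opens)
    (hdense : CInt.IsSchematicallyDense (f ⁻¹ᵁ U)) (hU : IsHomeomorph (f ∣_ U).base)
    (e : S ⟶ X) (he : e ≫ f = 𝟙 S) :
    FlatMor.IsUnivHomeo f ∧ (LocallyOfFiniteType f → IsFinite f) := by
  have hid : IsClosedImmersion (e ≫ f) := by rw [he]; infer_instance
  have heci : IsClosedImmersion e := IsClosedImmersion.of_comp e f
  -- f is injective on f⁻¹ U
  have hinjU : ∀ x x' : X, f x ∈ U → f x = f x' → x = x' := by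
    intro x x' hx hxx'
    have hx'U : f x' ∈ U := hxx' ▸ hx
    have h1 : (f ∣_ U) ⟨x, hx⟩ = (f ∣_ U) ⟨x', hx'U⟩ := by
      apply U.ι.isOpenEmbedding.injective
      have e1 : U.ι ((f ∣_ U) ⟨x, hx⟩) = f x := by
        have := congrArg (fun g => g.base ⟨x, hx⟩) (morphismRestrict_ι f U)
        exact this
      have e2 : U.ι ((f ∣_ U) ⟨x', hx'U⟩) = f x' := by
        have := congrArg (fun g => g.base ⟨x', hx'U⟩) (morphismRestrict_ι f U)
        exact this
      rw [e1, e2, hxx']
    have := hU.injective h1
    exact congrArg Subtype.val this
  have hfe : ∀ s : S, f (e s) = s := by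
    intro s
    have := congrArg (fun g => g.base s) he
    exact this
  have hsurj : Function.Surjective e := by
    have hclosed : IsClosed (Set.range e) := e.isClosedEmbedding.isClosed_range
    have hsub : ((f ⁻¹ᵁ U : X.Opens) : Set X) ⊆ Set.range e := by
      intro x hx
      refine ⟨f x, ?_⟩
      refine (hinjU x (e (f x)) hx ?_).symm
      rw [hfe]
    have hdense := dense_of_schematicallyDense _ hdense
    have : Set.range e = Set.univ := by
      rw [← Set.univ_subset_iff, ← hdense.closure_eq]
      exact hclosed.closure_subset_iff.mpr hsub
    exact Set.range_eq_univ.mp this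
  have hesurj : Surjective e := ⟨hsurj⟩
  have huh : FlatMor.IsUnivHomeo f := by
    intro X' Y' i₁ i₂ f' hP
    let e' : Y' ⟶ X' := hP.lift (𝟙 Y') (i₂ ≫ e) (by rw [Category.id_comp, Category.assoc, he, Category.comp_id])
    have he'1 : e' ≫ f' = 𝟙 Y' := hP.lift_fst _ _ _
    have he'2 : e' ≫ i₁ = i₂ ≫ e := hP.lift_snd _ _ _
    have hleft : IsPullback e' i₂ i₁ e := by
      refine IsPullback.of_right ?_ he'2 hP
      rw [he'1, he]
      exact IsPullback.of_id_fst
    have hs' : Surjective e' := MorphismProperty.of_isPullback hleft.flip hesurj
    have hc' : IsClosedImmersion e' := MorphismProperty.of_isPullback hleft.flip heci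
    have hhomeo : IsHomeomorph e' :=
      isHomeomorph_iff_isEmbedding_surjective.mpr ⟨e'.isClosedEmbedding.isEmbedding, hs'.surj⟩
    let h := hhomeo.homeomorph
    have hf'e' : ∀ y, f' (e' y) = y := by
      intro y
      have := congrArg (fun g => g.base y) he'1
      exact this
    have heq : (f' : X' → Y') = h.symm := by
      funext x
      obtain ⟨y, rfl⟩ := hs'.surj x
      rw [hf'e']
      exact (h.symm_apply_apply y).symm
    change IsHomeomorph (f' : X' → Y')
    rw [heq]
    exact h.symm.isHomeomorph
  refine ⟨huh, fun hlft => ?_⟩
  have huc : UniversallyClosed f := by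
    constructor
    intro X' Y' i₁ i₂ f' hP
    exact (huh i₁ i₂ f' hP).isClosedMap
  have hprop : IsProper f := {}
  have hfinj : Function.Injective f := (huh (𝟙 X) (𝟙 S) f IsPullback.of_id_snd).injective
  have hqf : LocallyQuasiFinite f := LocallyQuasiFinite.of_injective hfinj
  exact IsFinite.of_isProper_of_locallyQuasiFinite f

end Groth.Agent.S13097
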