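import Groth.Statements.S13098
import Mathlib.Tactic.Module
import Mathlib.Tactic.FinCases
import Mathlib.Tactic.LinearCombination
import Mathlib.LinearAlgebra.Basis.Basic
-- import your own Groth.Agent.* helpers here

set_option autoImplicit false
universe u v
open Lie3Mod

namespace Groth.Agent.S13098

section aux
variable {R : Type u} [CommRing R] {M : Type v} [AddCommGroup M] [Module R M]

noncomputable def J3 (B : M →ₗ[R] M →ₗ[R] M) : M →ₗ[R] M →ₗ[R] M →ₗ[R] M :=
  ((LinearMap.llcomp R M M M).comp B).compl₂ B +
    (((LinearMap.llcomp R M M M).comp B).compl₂ B.flip).flip +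
    B.compr₂ B.flip

theorem J3_apply (B : M →ₗ[R] M →ₗ[R] M) (u v w : M) :
    J3 B u v w = B u (B v w) + B v (B w u) + B w (B u v) := by
  simp [J3]

theorem skew (B : M →ₗ[R] M →ₗ[R] M) (halt : ∀ m : M, B m m = 0) (u v : M) :
    B u v = - B v u := by
  have h := halt (u + v)
  simp only [map_add, LinearMap.add_apply, halt, zero_add, add_zero] at h
  rw [add_comm] at h
  exact eq_neg_of_add_eq_zero_left h

end aux

/-- Let R be a commutative ring, M an R-module with a basis x = bs 0, y = bs 1, z = bs 2 indexed by Fin
3, and B an R-bilinear alternating map on M (B m m = 0) with B x y = a x + b y + c z, B x z = d x +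
e y + f z and B y z = g x + h y + i z. Then B satisfies the Jacobi identity for all triples if and
only if the three Jacobi polynomials vanish: ah + di − fg − bg = 0, ie + bd − fh − ae = 0 and hc +
dc − af − bi = 0. (This is the statement that Lie brackets on a based free module of rank 3 are the
points of the closed subscheme of affine 9-space defined by these three equations.) -/
theorem result (R : Type u) [CommRing R] (M : Type v) [AddCommGroup M] [Module R M]
    (bs : Module.Basis (Fin 3) R M) (B : M →ₗ[R] M →ₗ[R] M) (halt : ∀ m : M, B m m = 0)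
    (a b c d e f g h i : R)
    (hxy : B (bs 0) (bs 1) = a • bs 0 + b • bs 1 + c • bs 2)
    (hxz : B (bs 0) (bs 2) = d • bs 0 + e • bs 1 + f • bs 2)
    (hyz : B (bs 1) (bs 2) = g • bs 0 + h • bs 1 + i • bs 2) :
    (∀ u v w : M, B u (B v w) + B v (B w u) + B w (B u v) = 0) ↔
      (a * h + d * i - f * g - b * g = 0 ∧ i * e + b * d - f * h - a * e = 0 ∧
        h * c + d * c - a * f - b * i = 0) := by
  have hyx : B (bs 1) (bs 0) = -(a • bs 0 + b • bs 1 + c • bs 2) := by
    rw [skew B halt, hxy]
  have hzx : B (bs 2) (bs 0) = -(d • bs 0 + e • bs 1 + f • bs 2) := by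
    rw [skew B halt, hxz]
  have hzy : B (bs 2) (bs 1) = -(g • bs 0 + h • bs 1 + i • bs 2) := by
    rw [skew B halt, hyz]
  have key : B (bs 0) (B (bs 1) (bs 2)) + B (bs 1) (B (bs 2) (bs 0)) + B (bs 2) (B (bs 0) (bs 1)) =
      (a * h + d * i - f * g - b * g) • bs 0 + (i * e + b * d - f * h - a * e) • bs 1 +
        (h * c + d * c - a * f - b * i) • bs 2 := by
    rw [hyz, hzx, hxy]
    simp only [map_add, map_smul, map_neg, halt, hxy, hxz, hyz, hyx, hzx, hzy]
    module
  constructor
  · intro hJ
    have h0 := hJ (bs 0) (bs 1) (bs 2)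
    rw [key] at h0
    have r0 := congrArg (fun m => bs.repr m 0) h0
    have r1 := congrArg (fun m => bs.repr m 1) h0
    have r2 := congrArg (fun m => bs.repr m 2) h0
    simp at r0 r1 r2
    exact ⟨r0, r1, r2⟩
  · rintro ⟨h1, h2, h3⟩
    rw [h1, h2, h3] at key
    simp only [zero_smul, add_zero] at key
    have hz : J3 B = 0 := by
      refine bs.ext fun i => bs.ext fun j => bs.ext fun k => ?_
      rw [J3_apply]
      simp only [LinearMap.zero_apply]
      fin_cases i <;> fin_cases j <;> fin_cases k <;>
        simp only [Fin.zero_eta, Fin.mk_one, Fin.reduceFinMk, halt, map_zero, add_zero, zero_add,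
          hxy, hxz, hyz, hyx, hzx, hzy, map_neg, add_neg_cancel, neg_add_cancel]
      all_goals
        simp only [map_add, map_smul, map_neg, halt, hxy, hxz, hyz, hyx, hzx, hzy]
        match_scalars <;>
          first
          | linear_combination h1 | linear_combination -h1
          | linear_combination h2 | linear_combination -h2
          | linear_combination h3 | linear_combination -h3
    intro u v w
    rw [← J3_apply, hz]
    simp

end Groth.Agent.S13098
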