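import Groth.Statements.S13099
import Mathlib

set_option autoImplicit false
universe u
open GrpSch

namespace Groth.Agent.S13099



section P1
open MvPolynomial

theorem exists_choose_not_dvd (p : ℕ) [hp : Fact p.Prime] (n : ℕ) (h2 : 2 ≤ n) (hn : n < p ^ 2)
    (hnp : n ≠ p) : ∃ i, 0 < i ∧ i < n ∧ ¬ p ∣ n.choose i := by
  have hp2 := hp.out.two_le
  have hppos : 0 < p := by omega
  have hlucas := fun k => Choose.choose_modEq_choose_mod_mul_choose_div_nat (p := p) (n := n) (k := k)
  have hdm := Nat.div_add_mod n p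
  have hb : n % p < p := Nat.mod_lt n hppos
  have ha : n / p < p := by
    rw [Nat.div_lt_iff_lt_mul hppos]
    nlinarith
  obtain ⟨a, ha_def⟩ : ∃ a, a = n / p := ⟨_, rfl⟩
  obtain ⟨b, hb_def⟩ : ∃ b, b = n % p := ⟨_, rfl⟩
  rw [← ha_def, ← hb_def] at hdm
  rw [← ha_def] at ha
  rw [← hb_def] at hb
  by_cases ha0 : a = 0
  · refine ⟨1, by omega, by omega, ?_⟩
    rw [Nat.choose_one_right]
    have hlt : n < p := by
      rw [ha0] at hdm
      omega
    intro hd
    have := Nat.le_of_dvd (by omega) hd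
    omega
  by_cases hb0 : b = 0
  · have ha2 : 2 ≤ a := by
      by_contra hcon
      have : a = 1 := by omega
      rw [this, hb0] at hdm
      omega
    have hpn : p < n := by
      have : p * 2 ≤ p * a := Nat.mul_le_mul_left p ha2
      omega
    refine ⟨p, hppos, hpn, ?_⟩
    intro hd
    have h := hlucas p
    rw [Nat.mod_self, ← hb_def, hb0, Nat.div_self hppos, Nat.choose_self, Nat.choose_one_right,
      one_mul, ← ha_def] at h
    have h0 : n.choose p ≡ 0 [MOD p] := (Nat.modEq_zero_iff_dvd).mpr hd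
    have h1 : a ≡ 0 [MOD p] := h.symm.trans h0
    have h2 := (Nat.modEq_zero_iff_dvd).mp h1
    have := Nat.le_of_dvd (by omega) h2
    omega
  · have hbn : b < n := by
      have : p * 1 ≤ p * a := Nat.mul_le_mul_left p (by omega)
      omega
    refine ⟨b, by omega, hbn, ?_⟩
    intro hd
    have h := hlucas b
    rw [← hb_def, Nat.mod_eq_of_lt hb, Nat.div_eq_of_lt hb, Nat.choose_self, Nat.choose_zero_right,
      one_mul] at h
    have h0 : n.choose b ≡ 0 [MOD p] := (Nat.modEq_zero_iff_dvd).mpr hd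
    have h1 : 1 ≡ 0 [MOD p] := h.symm.trans h0
    have h2 := (Nat.modEq_zero_iff_dvd).mp h1
    have := Nat.le_of_dvd (by omega) h2
    omega


variable {A : Type*} [CommRing A]

noncomputable def T (A : Type*) [CommRing A] (n : ℕ) : MvPolynomial (Fin 2) A :=
  (X 0 + X 1) ^ n - X 0 ^ n - X 1 ^ n

theorem mono_inj (i j k l : ℕ) :
    (Finsupp.single (0 : Fin 2) k + Finsupp.single 1 l = Finsupp.single 0 i + Finsupp.single 1 j) ↔
      k = i ∧ l = j := by
  constructor
  · intro h
    have h0 := congrArg (fun f => f 0) h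
    have h1 := congrArg (fun f => f 1) h
    simpa using And.intro h0 h1
  · rintro ⟨rfl, rfl⟩
    rfl

theorem coeff_YZ (k l : ℕ) (m : Fin 2 →₀ ℕ) :
    coeff m ((X 0 : MvPolynomial (Fin 2) A) ^ k * X 1 ^ l) =
      if Finsupp.single 0 k + Finsupp.single 1 l = m then 1 else 0 := by
  rw [X_pow_eq_monomial, X_pow_eq_monomial, monomial_mul, coeff_monomial, one_mul]

theorem T_hom (n : ℕ) : (T A n).IsHomogeneous n := by
  unfold T
  have h0 : ((X 0 : MvPolynomial (Fin 2) A) ^ n).IsHomogeneous n := by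
    simpa using (isHomogeneous_X A (0 : Fin 2)).pow n
  have h1 : ((X 1 : MvPolynomial (Fin 2) A) ^ n).IsHomogeneous n := by
    simpa using (isHomogeneous_X A (1 : Fin 2)).pow n
  have h01 : (((X 0 : MvPolynomial (Fin 2) A) + X 1) ^ n).IsHomogeneous n := by
    simpa using ((isHomogeneous_X A (0 : Fin 2)).add (isHomogeneous_X A (1 : Fin 2))).pow n
  exact (h01.sub h0).sub h1

theorem coeff_T_ne (n i j : ℕ) (h : i + j ≠ n) :
    coeff (Finsupp.single 0 i + Finsupp.single 1 j) (T A n) = 0 := by
  apply (T_hom n).coeff_eq_zero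
  rw [map_add, Finsupp.degree_single, Finsupp.degree_single]
  exact h

theorem coeff_T (n i j : ℕ) (hi : 0 < i) (hj : 0 < j) (hn : i + j = n) :
    coeff (Finsupp.single 0 i + Finsupp.single 1 j) (T A n) = (n.choose i : A) := by
  classical
  unfold T
  rw [coeff_sub, coeff_sub, coeff_X_pow, coeff_X_pow]
  have h1 : ¬ (Finsupp.single (0 : Fin 2) n = Finsupp.single 0 i + Finsupp.single 1 j) := by
    intro h
    have := congrArg (fun f => f 1) h
    simp at this
    omega
  have h2 : ¬ (Finsupp.single (1 : Fin 2) n = Finsupp.single 0 i + Finsupp.single 1 j) := by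
    intro h
    have := congrArg (fun f => f 0) h
    simp at this
    omega
  rw [if_neg h1, if_neg h2, sub_zero, sub_zero, add_pow, coeff_sum]
  rw [Finset.sum_eq_single i]
  · have : ((n.choose i : ℕ) : MvPolynomial (Fin 2) A) = C ((n.choose i : ℕ) : A) := by
      simp
    rw [this, mul_comm, coeff_C_mul, coeff_YZ, if_pos, mul_one]
    rw [mono_inj]
    exact ⟨rfl, by omega⟩
  · intro k _ hk
    have : ((n.choose k : ℕ) : MvPolynomial (Fin 2) A) = C ((n.choose k : ℕ) : A) := by
      simp
    rw [this, mul_comm, coeff_C_mul, coeff_YZ, if_neg, mul_zero]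
    rw [mono_inj]
    rintro ⟨h, -⟩
    exact hk h
  · intro h
    exfalso
    apply h
    rw [Finset.mem_range]
    omega

theorem mem_I_coeff (N : ℕ) (f : MvPolynomial (Fin 2) A)
    (hf : f ∈ Ideal.span ({X 0 ^ N, X 1 ^ N} : Set (MvPolynomial (Fin 2) A)))
    (m : Fin 2 →₀ ℕ) (h0 : m 0 < N) (h1 : m 1 < N) : coeff m f = 0 := by
  classical
  rw [Ideal.mem_span_pair] at hf
  obtain ⟨u, v, rfl⟩ := hf
  rw [coeff_add, X_pow_eq_monomial, X_pow_eq_monomial, coeff_mul_monomial', coeff_mul_monomial',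
    if_neg, if_neg, add_zero]
  · intro h
    have := h 1
    simp at this
    omega
  · intro h
    have := h 0
    simp at this
    omega

open Polynomial in
theorem E_eq (N : ℕ) (q : A[X]) (hq : q.natDegree < N) :
    Polynomial.aeval (MvPolynomial.X 0 + MvPolynomial.X 1 : MvPolynomial (Fin 2) A) q -
      Polynomial.aeval (MvPolynomial.X 0 : MvPolynomial (Fin 2) A) q -
      Polynomial.aeval (MvPolynomial.X 1 : MvPolynomial (Fin 2) A) q =
    ∑ n ∈ Finset.range N, q.coeff n • T A n := by
  rw [Polynomial.aeval_eq_sum_range' hq, Polynomial.aeval_eq_sum_range' hq,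
    Polynomial.aeval_eq_sum_range' hq, ← Finset.sum_sub_distrib, ← Finset.sum_sub_distrib]
  apply Finset.sum_congr rfl
  intro n _
  unfold T
  rw [smul_sub, smul_sub]

open Polynomial in
theorem coeff_E (N : ℕ) (q : A[X]) (i j : ℕ) (hij : i + j < N) :
    MvPolynomial.coeff (Finsupp.single 0 i + Finsupp.single 1 j)
      (∑ n ∈ Finset.range N, q.coeff n • T A n) =
    q.coeff (i + j) * MvPolynomial.coeff (Finsupp.single 0 i + Finsupp.single 1 j) (T A (i + j)) := by
  rw [MvPolynomial.coeff_sum, Finset.sum_eq_single (i + j)]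
  · rw [MvPolynomial.coeff_smul, smul_eq_mul]
  · intro n _ hn
    rw [MvPolynomial.coeff_smul, coeff_T_ne n i j (Ne.symm hn), smul_zero]
  · intro h
    exfalso
    exact h (Finset.mem_range.mpr hij)

open Polynomial in
theorem part1 (p : ℕ) [hp : Fact p.Prime] [CharP A p] (q : A[X]) (hq : q.natDegree < p ^ 2) :
    (Polynomial.aeval (MvPolynomial.X 0 + MvPolynomial.X 1 : MvPolynomial (Fin 2) A) q -
            Polynomial.aeval (MvPolynomial.X 0 : MvPolynomial (Fin 2) A) q -
            Polynomial.aeval (MvPolynomial.X 1 : MvPolynomial (Fin 2) A) q ∈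
          Ideal.span ({MvPolynomial.X 0 ^ p ^ 2, MvPolynomial.X 1 ^ p ^ 2} :
            Set (MvPolynomial (Fin 2) A)) ↔
        ∃ a₁ ap : A, q = Polynomial.C a₁ * Polynomial.X + Polynomial.C ap * Polynomial.X ^ p) := by
  have hp2 := hp.out.two_le
  have hpp : p < p ^ 2 := by nlinarith
  constructor
  · intro hmem
    rw [E_eq (p ^ 2) q hq] at hmem
    have hc0 : q.coeff 0 = 0 := by
      have h := mem_I_coeff (p ^ 2) _ hmem (Finsupp.single 0 0 + Finsupp.single 1 0)
        (by simp; omega) (by simp; omega)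
      rw [coeff_E (p ^ 2) q 0 0 (by omega)] at h
      have hT : MvPolynomial.coeff (Finsupp.single 0 0 + Finsupp.single 1 0) (T A (0 + 0)) = -1 := by
        simp [T]
      rw [hT] at h
      simpa using h
    have hcn : ∀ n, 2 ≤ n → n < p ^ 2 → n ≠ p → q.coeff n = 0 := by
      intro n h2 hn hnp
      obtain ⟨i, hi0, hin, hdvd⟩ := exists_choose_not_dvd p n h2 hn hnp
      obtain ⟨j, rfl⟩ : ∃ j, n = i + j := ⟨n - i, by omega⟩
      have h := mem_I_coeff (p ^ 2) _ hmem (Finsupp.single 0 i + Finsupp.single 1 j)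
        (by simp; omega) (by simp; omega)
      rw [coeff_E (p ^ 2) q i j hn, coeff_T (i + j) i j hi0 (by omega) rfl] at h
      have hu : IsUnit (((i + j).choose i : ℕ) : A) := (CharP.isUnit_natCast_iff hp.out).mpr hdvd
      exact (hu.mul_left_eq_zero).mp h
    refine ⟨q.coeff 1, q.coeff p, ?_⟩
    ext n
    rw [Polynomial.coeff_add, Polynomial.coeff_C_mul, Polynomial.coeff_C_mul, Polynomial.coeff_X,
      Polynomial.coeff_X_pow]
    by_cases h1 : n = 1
    · subst h1
      have : ¬ (1 = p) := by omega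
      simp [this]
    by_cases hnp : n = p
    · subst hnp
      have : ¬ (1 = n) := by omega
      simp [this]
    have e1 : ¬ (1 = n) := fun h => h1 h.symm
    rw [if_neg e1, if_neg hnp, mul_zero, mul_zero, add_zero]
    by_cases h0 : n = 0
    · rw [h0, hc0]
    by_cases hlt : n < p ^ 2
    · exact hcn n (by omega) hlt hnp
    · exact Polynomial.coeff_eq_zero_of_natDegree_lt (by omega)
  · rintro ⟨a₁, ap, rfl⟩
    have : Polynomial.aeval (MvPolynomial.X 0 + MvPolynomial.X 1 : MvPolynomial (Fin 2) A)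
          (Polynomial.C a₁ * Polynomial.X + Polynomial.C ap * Polynomial.X ^ p) -
        Polynomial.aeval (MvPolynomial.X 0 : MvPolynomial (Fin 2) A)
          (Polynomial.C a₁ * Polynomial.X + Polynomial.C ap * Polynomial.X ^ p) -
        Polynomial.aeval (MvPolynomial.X 1 : MvPolynomial (Fin 2) A)
          (Polynomial.C a₁ * Polynomial.X + Polynomial.C ap * Polynomial.X ^ p) = 0 := by
      simp only [map_add, map_mul, Polynomial.aeval_C, Polynomial.aeval_X, map_pow]
      rw [add_pow_char]
      ring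
    rw [this]
    exact Submodule.zero_mem _


end P1


section P2
open Polynomial

variable {A : Type*} [CommRing A]

theorem mk_eq_aeval (N : ℕ) (G : A[X]) :
    Ideal.Quotient.mk (Ideal.span ({X ^ N} : Set A[X])) G =
      aeval (Ideal.Quotient.mk (Ideal.span ({X ^ N} : Set A[X])) X) G := by
  have := aeval_algHom_apply (Ideal.Quotient.mkₐ A (Ideal.span ({X ^ N} : Set A[X]))) X G
  rw [aeval_X_left_apply] at this
  exact this.symm

theorem phi_mk (N : ℕ) (L : A[X])
    (φ : (A[X] ⧸ Ideal.span ({X ^ N} : Set A[X])) →ₐ[A] (A[X] ⧸ Ideal.span ({X ^ N} : Set A[X])))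
    (hφ : φ (Ideal.Quotient.mk (Ideal.span ({X ^ N} : Set A[X])) X) =
      Ideal.Quotient.mk (Ideal.span ({X ^ N} : Set A[X])) L) (G : A[X]) :
    φ (Ideal.Quotient.mk (Ideal.span ({X ^ N} : Set A[X])) G) =
      Ideal.Quotient.mk (Ideal.span ({X ^ N} : Set A[X])) (G.comp L) := by
  rw [mk_eq_aeval N G, ← aeval_algHom_apply, hφ, comp_eq_aeval]
  exact aeval_algHom_apply (Ideal.Quotient.mkₐ A (Ideal.span ({X ^ N} : Set A[X]))) L G

theorem part2 (p : ℕ) [hp : Fact p.Prime] [CharP A p] (a₁ ap : A)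
    (φ : (A[X] ⧸ Ideal.span ({X ^ p ^ 2} : Set A[X])) →ₐ[A] (A[X] ⧸ Ideal.span ({X ^ p ^ 2} : Set A[X])))
    (hφ : φ (Ideal.Quotient.mk (Ideal.span ({X ^ p ^ 2} : Set A[X])) X) =
          Ideal.Quotient.mk (Ideal.span ({X ^ p ^ 2} : Set A[X])) (Polynomial.C a₁ * X + Polynomial.C ap * X ^ p)) :
    Function.Bijective φ ↔ IsUnit a₁ := by
  have hp2 := hp.out.two_le
  have hpp : p < p ^ 2 := by nlinarith
  have hpA : (p : A) = 0 := CharP.cast_eq_zero A p
  constructor
  · rintro ⟨-, hsurj⟩
    obtain ⟨s, hs⟩ := hsurj (Ideal.Quotient.mk _ X)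
    obtain ⟨G, rfl⟩ := Ideal.Quotient.mk_surjective s
    rw [phi_mk (p ^ 2) _ φ hφ G, Ideal.Quotient.eq, Ideal.mem_span_singleton] at hs
    obtain ⟨H, hH⟩ := hs
    have hd := congrArg (fun f => eval 0 (derivative f)) hH
    simp only [derivative_sub, derivative_comp, derivative_X, eval_sub, eval_one, eval_mul,
      derivative_add, derivative_mul, derivative_C, zero_mul, zero_add, derivative_X_pow,
      eval_add, eval_C, eval_comp, eval_X, eval_pow, map_natCast, eval_natCast] at hd
    have h0 : (0 : A) ^ (p ^ 2) = 0 := zero_pow (by omega)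
    rw [h0, hpA] at hd
    simp only [mul_zero, zero_mul, add_zero, mul_one, ne_eq] at hd
    have hp0 : (0 : A) ^ p = 0 := zero_pow (by omega)
    rw [hp0] at hd
    simp only [mul_zero, add_zero, Nat.cast_pow] at hd
    rw [hpA] at hd
    have h00 : (0 : A) ^ 2 = 0 := by norm_num
    rw [h00] at hd
    simp only [zero_mul, add_zero] at hd
    exact IsUnit.of_mul_eq_one _ (sub_eq_zero.mp hd)
  · intro hu
    obtain ⟨b₁, hb⟩ := hu.exists_right_inv
    have hsurj : Function.Surjective φ := by
      intro r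
      obtain ⟨G, rfl⟩ := Ideal.Quotient.mk_surjective r
      set M : A[X] := C b₁ * X + C (-(ap * b₁ ^ (p + 1))) * X ^ p with hM
      have hx : φ (Ideal.Quotient.mk _ M) = Ideal.Quotient.mk _ X := by
        rw [phi_mk (p ^ 2) _ φ hφ M, Ideal.Quotient.eq, Ideal.mem_span_singleton]
        refine ⟨C (-(ap * b₁ ^ (p + 1)) * ap ^ p), ?_⟩
        rw [hM]
        simp only [add_comp, mul_comp, C_comp, X_comp, pow_comp]
        rw [add_pow_char, mul_pow, mul_pow, ← C_pow, ← C_pow, ← pow_mul]
        have e1 : C b₁ * (C a₁ * X + C ap * X ^ p) = C (a₁ * b₁) * X + C (b₁ * ap) * X ^ p := by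
          simp only [C_mul]
          ring
        rw [e1, hb]
        have e2 : (-(ap * b₁ ^ (p + 1))) * a₁ ^ p = -(b₁ * ap) := by
          have : a₁ ^ p * b₁ ^ p = 1 := by rw [← mul_pow, hb, one_pow]
          rw [pow_succ]
          linear_combination (-(ap * b₁)) * this
        have e3 : C (-(ap * b₁ ^ (p + 1))) * (C (a₁ ^ p) * X ^ p + C (ap ^ p) * X ^ (p * p)) =
            C (-(ap * b₁ ^ (p + 1)) * a₁ ^ p) * X ^ p +
              X ^ (p * p) * C (-(ap * b₁ ^ (p + 1)) * ap ^ p) := by
          simp only [C_mul]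
          ring
        rw [e3, e2, pow_two]
        simp only [C_neg, C_mul, C_1]
        ring
      refine ⟨aeval (Ideal.Quotient.mk _ M) G, ?_⟩
      rw [← aeval_algHom_apply, hx, ← mk_eq_aeval]
    have hfin : Module.Finite A (A[X] ⧸ Ideal.span ({X ^ p ^ 2} : Set A[X])) :=
      (monic_X_pow (R := A) (p ^ 2)).finite_adjoinRoot
    exact ⟨OrzechProperty.injective_of_surjective_endomorphism φ.toLinearMap hsurj, hsurj⟩


end P2


open Polynomial in
/-- Let p be a prime and A a commutative ring of characteristic p, and consider the infinitesimal group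
scheme Spec A[X]/(X^{p²}) with the additive group law. In coordinates: (1) a polynomial q ∈ A[X] of
degree less than p² satisfies q(Y + Z) − q(Y) − q(Z) ∈ (Y^{p²}, Z^{p²}) in A[Y, Z] (that is, X ↦ q
respects the comultiplication) if and only if q = a₁ X + a_p X^p for some a₁, a_p ∈ A; (2) an
A-algebra endomorphism of A[X]/(X^{p²}) that sends the class of X to the class of a₁ X + a_p X^p is
bijective if and only if a₁ is a unit of A. (The printed statement is that the automorphism group
scheme of this group scheme is the semidirect product of the additive group by the multiplicative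
group, v acting on u by v^{p−1}u; this row records the two computations it consists of, in
coordinates.) -/
theorem result (p : ℕ) [Fact p.Prime] (A : Type u) [CommRing A] [CharP A p] :
    (∀ q : A[X], q.natDegree < p ^ 2 →
      (Polynomial.aeval (MvPolynomial.X 0 + MvPolynomial.X 1 : MvPolynomial (Fin 2) A) q -
            Polynomial.aeval (MvPolynomial.X 0 : MvPolynomial (Fin 2) A) q -
            Polynomial.aeval (MvPolynomial.X 1 : MvPolynomial (Fin 2) A) q ∈
          Ideal.span ({MvPolynomial.X 0 ^ p ^ 2, MvPolynomial.X 1 ^ p ^ 2} : Set (MvPolynomial (Fin 2) A)) ↔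
        ∃ a₁ ap : A, q = Polynomial.C a₁ * X + Polynomial.C ap * X ^ p)) ∧
    (∀ (a₁ ap : A) (φ : (A[X] ⧸ Ideal.span ({X ^ p ^ 2} : Set A[X])) →ₐ[A] (A[X] ⧸ Ideal.span ({X ^ p ^ 2} : Set A[X]))),
      φ (Ideal.Quotient.mk (Ideal.span ({X ^ p ^ 2} : Set A[X])) X) =
          Ideal.Quotient.mk (Ideal.span ({X ^ p ^ 2} : Set A[X])) (Polynomial.C a₁ * X + Polynomial.C ap * X ^ p) →
        (Function.Bijective φ ↔ IsUnit a₁)) := by
  exact ⟨fun q hq => part1 p q hq, fun a₁ ap φ hφ => part2 p a₁ ap φ hφ⟩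

end Groth.Agent.S13099
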