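import Groth.Statements.S13100
import Mathlib.RingTheory.PowerSeries.Substitution

set_option autoImplicit false
universe u
open GrpSch

namespace Groth.Agent.S13100

open PowerSeries in
theorem sqrt_ps (k : Type u) [Field k] [IsAlgClosed k] (h2 : (2 : k) ≠ 0)
    (u : PowerSeries k) (hu : PowerSeries.constantCoeff u ≠ 0) : ∃ g : PowerSeries k, g * g = u := by
  obtain ⟨c, hc⟩ := IsAlgClosed.exists_eq_mul_self (PowerSeries.constantCoeff u)
  have hc0 : c ≠ 0 := by
    rintro rfl
    apply hu
    rw [hc, mul_zero]
  set P : PowerSeries k := C (2 * c) * X + X ^ 2 with hP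
  have hP0 : PowerSeries.constantCoeff P = 0 := by simp [hP]
  have hP1 : IsUnit (PowerSeries.coeff 1 P) := by
    have : PowerSeries.coeff 1 P = 2 * c := by
      simp [hP, PowerSeries.coeff_X_pow]
    rw [this]
    exact (mul_ne_zero h2 hc0).isUnit
  set Q := P.substInvOfIsUnit hP1 with hQ
  have hsQ : HasSubst Q := HasSubst.substInvOfIsUnit P hP1
  have hPQ : PowerSeries.subst Q P = X := PowerSeries.subst_substInvOfIsUnit_right P hP0 hP1
  have h1 : C (2 * c) * Q + Q ^ 2 = X := by
    rw [← hPQ, hP, PowerSeries.subst_add hsQ, PowerSeries.subst_mul hsQ, PowerSeries.subst_pow hsQ,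
      PowerSeries.subst_X hsQ, PowerSeries.subst_C]
    rfl
  set w : PowerSeries k := u - C (c * c) with hw
  have hsw : HasSubst w := by
    apply HasSubst.of_constantCoeff_zero'
    simp [hw, hc]
  have h2' := congrArg (PowerSeries.subst w) h1
  rw [PowerSeries.subst_add hsw, PowerSeries.subst_mul hsw, PowerSeries.subst_pow hsw,
    PowerSeries.subst_X hsw, PowerSeries.subst_C] at h2'
  refine ⟨C c + PowerSeries.subst w Q, ?_⟩
  have h3 : (MvPowerSeries.C (2 * c) : PowerSeries k) = C (2 * c) := rfl
  rw [h3] at h2'
  have h5 : (C (2 : k) : PowerSeries k) = 2 := by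
    rw [← map_ofNat (C (R := k)) 2]
  calc (C c + PowerSeries.subst w Q) * (C c + PowerSeries.subst w Q)
      = C (c * c) + (C (2 * c) * PowerSeries.subst w Q + PowerSeries.subst w Q ^ 2) := by
        rw [map_mul, map_mul, h5]; ring
    _ = C (c * c) + w := by rw [h2']
    _ = u := by rw [hw]; ring

/-- Let k be an algebraically closed field of characteristic different from 2 and K = k((t)) the field
of Laurent series over k. Then a non-zero Laurent series f is a square in K if and only if its order
in t is even; consequently the group Kˣ/Kˣ² of non-zero elements modulo squares has exactly two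
elements, represented by 1 and t. -/
theorem result (k : Type u) [Field k] [IsAlgClosed k] (h2 : (2 : k) ≠ 0)
    (f : LaurentSeries k) (hf : f ≠ 0) : IsSquare f ↔ Even f.order := by
  constructor
  · rintro ⟨g, rfl⟩
    have hg : g ≠ 0 := by
      rintro rfl
      apply hf
      rw [mul_zero]
    exact ⟨g.order, HahnSeries.order_mul hg hg⟩
  · rintro ⟨n, hn⟩
    have hu : PowerSeries.constantCoeff (LaurentSeries.powerSeriesPart f) ≠ 0 := by
      rw [← PowerSeries.coeff_zero_eq_constantCoeff_apply, LaurentSeries.powerSeriesPart_coeff]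
      simpa using hf
    obtain ⟨g, hg⟩ := sqrt_ps k h2 _ hu
    refine ⟨HahnSeries.single n 1 * HahnSeries.ofPowerSeries ℤ k g, ?_⟩
    have h1 := LaurentSeries.single_order_mul_powerSeriesPart f
    rw [← hg, hn, map_mul] at h1
    rw [← h1]
    have h2s : (HahnSeries.single (n + n) (1 : k) : LaurentSeries k) =
        HahnSeries.single n 1 * HahnSeries.single n 1 := by
      rw [HahnSeries.single_mul_single, mul_one]
    rw [h2s]
    ring

end Groth.Agent.S13100
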