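import Groth.Statements.S13101
import Groth.Agent.Lib.Helper10.Lie3

set_option autoImplicit false
universe u v
open GrpSch

namespace Groth.Agent.S13101

/-- Let A be a commutative ring in which 2 is a unit, and L a Lie algebra over A, free as a module with
basis x = bs 0, y = bs 1, z = bs 2 and brackets [x,y] = y, [x,z] = y + z, [y,z] = 0. Then for every
Lie algebra automorphism φ of L over A there are b, c, h ∈ A and a unit i of A with φ(x) = x + b y +
c z, φ(y) = i y and φ(z) = h y + i z. Only the form of an automorphism is stated, not that every map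
of this form is one. (The published statement identifies the automorphism group scheme with a
semidirect product of two additive groups by the product of the multiplicative and additive group,
for algebras over a field of Laurent series of characteristic not 2, and deduces the vanishing of
its first cohomology; this row records the determination of the automorphisms, over any base ring
with 2 invertible; the cohomological consequence is not restated.) -/
theorem result (A : Type u) [CommRing A] (h2 : IsUnit (2 : A))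
    (L : Type v) [LieRing L] [LieAlgebra A L] (bs : Module.Basis (Fin 3) A L)
    (hxy : ⁅bs 0, bs 1⁆ = bs 1) (hxz : ⁅bs 0, bs 2⁆ = bs 1 + bs 2) (hyz : ⁅bs 1, bs 2⁆ = 0)
    (φ : L ≃ₗ⁅A⁆ L) :
    ∃ b c h i : A, IsUnit i ∧ φ (bs 0) = bs 0 + b • bs 1 + c • bs 2 ∧ φ (bs 1) = i • bs 1 ∧
      φ (bs 2) = h • bs 1 + i • bs 2 := by
  obtain ⟨a1, b, c, h0⟩ : ∃ a1 b c : A, φ (bs 0) = a1 • bs 0 + b • bs 1 + c • bs 2 :=
    ⟨_, _, _, Lib.Helper10.expand3 bs (φ (bs 0))⟩
  obtain ⟨d, e, f, h1⟩ : ∃ d e f : A, φ (bs 1) = d • bs 0 + e • bs 1 + f • bs 2 :=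
    ⟨_, _, _, Lib.Helper10.expand3 bs (φ (bs 1))⟩
  obtain ⟨g, h, i, h2'⟩ : ∃ g h i : A, φ (bs 2) = g • bs 0 + h • bs 1 + i • bs 2 :=
    ⟨_, _, _, Lib.Helper10.expand3 bs (φ (bs 2))⟩
  have hdet := Lib.Helper10.det3_isUnit bs bs φ.toLinearEquiv h0 h1 h2'
  have e1 : φ (bs 1) = ⁅φ (bs 0), φ (bs 1)⁆ := by rw [← LieEquiv.map_lie, hxy]
  have e2 : φ (bs 1) + φ (bs 2) = ⁅φ (bs 0), φ (bs 2)⁆ := by
    rw [← LieEquiv.map_lie, hxz, map_add]
  rw [h0, h1, Lib.Helper10.lie3, hxy, hxz, hyz] at e1
  rw [h0, h1, h2', Lib.Helper10.lie3, hxy, hxz, hyz] at e2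
  have e1' : d • bs 0 + e • bs 1 + f • bs 2 =
      (0 : A) • bs 0 + ((a1 * e - b * d) + (a1 * f - c * d)) • bs 1 + (a1 * f - c * d) • bs 2 := by
    rw [e1]; module
  have e2' : (d + g) • bs 0 + (e + h) • bs 1 + (f + i) • bs 2 =
      (0 : A) • bs 0 + ((a1 * h - b * g) + (a1 * i - c * g)) • bs 1 + (a1 * i - c * g) • bs 2 := by
    have : (d + g) • bs 0 + (e + h) • bs 1 + (f + i) • bs 2 =
      d • bs 0 + e • bs 1 + f • bs 2 + (g • bs 0 + h • bs 1 + i • bs 2) := by module
    rw [this, e2]; module
  obtain ⟨hd, he, hf⟩ := Lib.Helper10.coeff3 bs e1'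
  obtain ⟨hg, hh, hi⟩ := Lib.Helper10.coeff3 bs e2'
  subst hd
  have hg0 : g = 0 := by linear_combination hg
  subst hg0
  obtain ⟨w, hw⟩ := h2.exists_left_inv
  obtain ⟨D', hD'⟩ := hdet.exists_right_inv
  have E1 : (1 - a1) * f = 0 := by linear_combination hf
  have E2 : (1 - a1) * e = f := by linear_combination he - E1
  have E3 : (1 - a1) * i = -f := by linear_combination hi
  have E4 : (1 - a1) * h = a1 * i - e := by linear_combination hh
  have Eef2 : 2 * (e * f) = 0 := by
    linear_combination (-i) * E2 + f * E4 + e * E3 - (i + h) * E1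
  have Eef : e * f = 0 := by linear_combination w * Eef2 - (e * f) * hw
  have EsD : (1 - a1) * (a1 * e * i - a1 * h * f) = 0 := by
    linear_combination (a1 * i) * E2 - (a1 * f) * E4 + a1 * Eef + a1 * i * E1
  have hs : 1 - a1 = 0 := by
    linear_combination D' * EsD - (1 - a1) * hD'
  have ha1 : a1 = 1 := by linear_combination -hs
  subst ha1
  have hf0 : f = 0 := by linear_combination -E2
  subst hf0
  have hei : e = i := by linear_combination E4
  subst hei
  refine ⟨b, c, h, e, ?_, ?_, ?_, ?_⟩
  · have : IsUnit (e * e) := by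
      convert hdet using 1
      ring
    exact isUnit_of_mul_isUnit_left this
  · rw [h0]; module
  · rw [h1]; module
  · rw [h2']; module

end Groth.Agent.S13101
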