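import Groth.Statements.S13102
import Groth.Agent.Lib.Helper10.Lie3

set_option autoImplicit false
universe u v w
open GrpSch

namespace Groth.Agent.S13102

/-- Let K be a field, α ∈ K, A a commutative K-algebra and L a Lie algebra over A which is free as an
A-module with basis x = bs 0, y = bs 1, z = bs 2 and brackets [x,y] = y, [x,z] = α z, [y,z] = 0. If
α² ≠ 1 then every Lie algebra automorphism φ of L over A satisfies φ(x) = x + b y + c z, φ(y) = e y,
φ(z) = i z for some b, c ∈ A and units e, i of A. If α = 1 then every such φ satisfies φ(x) = x + b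
y + c z, φ(y) = e y + f z, φ(z) = h y + i z with e i − f h a unit of A. (The printed statement
identifies the automorphism group schemes with the corresponding semidirect products, treats also α
= −1 in characteristic not 2, and computes first cohomology over a field of Laurent series; those
clauses are not restated here.) -/
theorem result (K : Type u) [Field K] (α : K) (A : Type v) [CommRing A] [Algebra K A]
    (L : Type w) [LieRing L] [LieAlgebra A L] (bs : Module.Basis (Fin 3) A L)
    (hxy : ⁅bs 0, bs 1⁆ = bs 1) (hxz : ⁅bs 0, bs 2⁆ = algebraMap K A α • bs 2) (hyz : ⁅bs 1, bs 2⁆ = 0)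
    (φ : L ≃ₗ⁅A⁆ L) :
    (α ^ 2 ≠ 1 → ∃ b c e i : A, IsUnit e ∧ IsUnit i ∧ φ (bs 0) = bs 0 + b • bs 1 + c • bs 2 ∧
        φ (bs 1) = e • bs 1 ∧ φ (bs 2) = i • bs 2) ∧
    (α = 1 → ∃ b c e f h i : A, IsUnit (e * i - f * h) ∧ φ (bs 0) = bs 0 + b • bs 1 + c • bs 2 ∧
        φ (bs 1) = e • bs 1 + f • bs 2 ∧ φ (bs 2) = h • bs 1 + i • bs 2) := by
  obtain ⟨a1, b, c, h0⟩ : ∃ a1 b c : A, φ (bs 0) = a1 • bs 0 + b • bs 1 + c • bs 2 :=
    ⟨_, _, _, Lib.Helper10.expand3 bs (φ (bs 0))⟩
  obtain ⟨d, e, f, h1⟩ : ∃ d e f : A, φ (bs 1) = d • bs 0 + e • bs 1 + f • bs 2 :=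
    ⟨_, _, _, Lib.Helper10.expand3 bs (φ (bs 1))⟩
  obtain ⟨g, h, i, h2⟩ : ∃ g h i : A, φ (bs 2) = g • bs 0 + h • bs 1 + i • bs 2 :=
    ⟨_, _, _, Lib.Helper10.expand3 bs (φ (bs 2))⟩
  have hdet := Lib.Helper10.det3_isUnit bs bs φ.toLinearEquiv h0 h1 h2
  set α' : A := algebraMap K A α with hα'
  have e1 : φ (bs 1) = ⁅φ (bs 0), φ (bs 1)⁆ := by rw [← LieEquiv.map_lie, hxy]
  have e2 : α' • φ (bs 2) = ⁅φ (bs 0), φ (bs 2)⁆ := by
    rw [← LieEquiv.map_lie, hxz, map_smul]
  have e3 : (0 : L) = ⁅φ (bs 1), φ (bs 2)⁆ := by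
    rw [← LieEquiv.map_lie, hyz, map_zero]
  rw [h0, h1, Lib.Helper10.lie3, hxy, hxz, hyz] at e1
  rw [h0, h2, Lib.Helper10.lie3, hxy, hxz, hyz] at e2
  rw [h1, h2, Lib.Helper10.lie3, hxy, hxz, hyz] at e3
  have e1' : d • bs 0 + e • bs 1 + f • bs 2 =
      (0 : A) • bs 0 + (a1 * e - b * d) • bs 1 + ((a1 * f - c * d) * α') • bs 2 := by
    rw [e1]; module
  have e2' : (α' * g) • bs 0 + (α' * h) • bs 1 + (α' * i) • bs 2 =
      (0 : A) • bs 0 + (a1 * h - b * g) • bs 1 + ((a1 * i - c * g) * α') • bs 2 := by
    have : (α' * g) • bs 0 + (α' * h) • bs 1 + (α' * i) • bs 2 =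
      α' • (g • bs 0 + h • bs 1 + i • bs 2) := by module
    rw [this, e2]; module
  have e3' : (0 : A) • bs 0 + (0 : A) • bs 1 + (0 : A) • bs 2 =
      (0 : A) • bs 0 + (d * h - e * g) • bs 1 + ((d * i - f * g) * α') • bs 2 := by
    have : (0 : A) • bs 0 + (0 : A) • bs 1 + (0 : A) • bs 2 = (0 : L) := by module
    rw [this, e3]; module
  obtain ⟨hd, he, hf⟩ := Lib.Helper10.coeff3 bs e1'
  obtain ⟨hg, hh, hi⟩ := Lib.Helper10.coeff3 bs e2'
  obtain ⟨-, h3a, h3b⟩ := Lib.Helper10.coeff3 bs e3'
  subst hd
  obtain ⟨D', hD'⟩ := hdet.exists_right_inv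
  constructor
  · intro hα
    have hα1 : α ^ 2 - 1 ≠ 0 := sub_ne_zero.mpr hα
    by_cases hα0 : α = 0
    · have hα'0 : α' = 0 := by rw [hα', hα0, map_zero]
      rw [hα'0] at hf hh
      have hf0 : f = 0 := by linear_combination hf
      subst hf0
      have heg : e * g = 0 := by linear_combination h3a
      have hg0 : g = 0 := by
        linear_combination (D' * (a1 * i - g * c)) * heg - g * hD'
      subst hg0
      have hs : 1 - a1 = 0 := by
        linear_combination (D' * i * a1) * he - (1 - a1) * hD'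
      have ha1 : a1 = 1 := by linear_combination -hs
      subst ha1
      have hh0 : h = 0 := by linear_combination -hh
      subst hh0
      have hu : IsUnit (e * i) := by
        convert hdet using 1
        ring
      refine ⟨b, c, e, i, isUnit_of_mul_isUnit_left hu, isUnit_of_mul_isUnit_right hu, ?_, ?_, ?_⟩
      · rw [h0]; module
      · rw [h1]; module
      · rw [h2]; module
    · set β' : A := algebraMap K A α⁻¹ with hβ'
      have hβα : β' * α' = 1 := by
        rw [hβ', hα', ← map_mul, inv_mul_cancel₀ hα0, map_one]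
      set γ' : A := algebraMap K A (α ^ 2 - 1)⁻¹ with hγ'
      have hγ : γ' * (α' ^ 2 - 1) = 1 := by
        rw [hγ', hα', ← map_pow, ← map_one (algebraMap K A), ← map_sub, ← map_mul,
          inv_mul_cancel₀ hα1, map_one]
      have hα11 : α - 1 ≠ 0 := by
        intro h'
        apply hα1
        have : α = 1 := by linear_combination h'
        rw [this]; ring
      set δ' : A := algebraMap K A (α - 1)⁻¹ with hδ'
      have hδ : δ' * (α' - 1) = 1 := by
        rw [hδ', hα', ← map_one (algebraMap K A), ← map_sub, ← map_mul,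
          inv_mul_cancel₀ hα11, map_one]
      have hg0 : g = 0 := by linear_combination β' * hg - g * hβα
      subst hg0
      have E1 : (1 - a1) * e = 0 := by linear_combination he
      have E2 : (1 - a1) * i = 0 := by linear_combination β' * hi - (i - a1 * i) * hβα
      have E3 : α' * h = a1 * h := by linear_combination hh
      have E4 : f = a1 * f * α' := by linear_combination hf
      have Ehf : h * f = 0 := by
        linear_combination γ' * (α' * f * E3 - h * E4) - (h * f) * hγ
      have EsD : (1 - a1) * (a1 * e * i - a1 * h * f) = 0 := by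
        linear_combination (a1 * i) * E1 - (a1 * (1 - a1)) * Ehf
      have hs : 1 - a1 = 0 := by
        linear_combination D' * EsD - (1 - a1) * hD'
      have ha1 : a1 = 1 := by linear_combination -hs
      subst ha1
      have hf0 : f = 0 := by linear_combination (-δ') * E4 - f * hδ
      subst hf0
      have hh0 : h = 0 := by linear_combination δ' * E3 - h * hδ
      subst hh0
      have hu : IsUnit (e * i) := by
        convert hdet using 1
        ring
      refine ⟨b, c, e, i, isUnit_of_mul_isUnit_left hu, isUnit_of_mul_isUnit_right hu, ?_, ?_, ?_⟩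
      · rw [h0]; module
      · rw [h1]; module
      · rw [h2]; module
  · intro hα
    have hα'1 : α' = 1 := by rw [hα', hα, map_one]
    rw [hα'1] at hf hg hh hi
    have hg0 : g = 0 := by linear_combination hg
    subst hg0
    have E1 : (1 - a1) * e = 0 := by linear_combination he
    have E2 : (1 - a1) * i = 0 := by linear_combination hi
    have E3 : (1 - a1) * h = 0 := by linear_combination hh
    have E4 : (1 - a1) * f = 0 := by linear_combination hf
    have hs : 1 - a1 = 0 := by
      linear_combination (D' * a1 * i) * E1 - (D' * a1 * h) * E4 - (1 - a1) * hD'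
    have ha1 : a1 = 1 := by linear_combination -hs
    subst ha1
    refine ⟨b, c, e, f, h, i, ?_, ?_, ?_, ?_⟩
    · convert hdet using 1
      ring
    · rw [h0]; module
    · rw [h1]; module
    · rw [h2]; module

end Groth.Agent.S13102
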