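import Groth.Statements.S13104
import Mathlib

set_option autoImplicit false
universe u
open GrpSch

namespace Groth.Agent.S13104

section Aux
open CategoryTheory AlgebraicGeometry

theorem localRingHom_injective {R S : Type u} [CommRing R] [CommRing S] (ψ : R →+* S)
    (hinj : Function.Injective ψ) (hnil : ∀ t : S, ∃ a : R, IsNilpotent (t - ψ a))
    (q : Ideal S) [q.IsPrime] :
    Function.Injective (Localization.localRingHom (q.comap ψ) q ψ rfl) := by
  rw [injective_iff_map_eq_zero]
  intro z hz
  obtain ⟨x, s, rfl⟩ := IsLocalization.exists_mk'_eq (q.comap ψ).primeCompl z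
  rw [Localization.localRingHom_mk', IsLocalization.mk'_eq_zero_iff] at hz
  obtain ⟨⟨t, ht⟩, htx⟩ := hz
  simp only at htx
  obtain ⟨a, N, hN⟩ := hnil t
  have hdvd : t ∣ ψ a ^ N := by
    have h1 : ψ a - (-(t - ψ a)) ∣ ψ a ^ N - (-(t - ψ a)) ^ N := sub_dvd_pow_sub_pow _ _ N
    have h2 : ψ a - (-(t - ψ a)) = t := by ring
    rw [h2, neg_pow, hN, mul_zero, sub_zero] at h1
    exact h1
  have hnq : t - ψ a ∈ q := Ideal.IsPrime.mem_of_pow_mem inferInstance N (by rw [hN]; exact q.zero_mem)
  have haq : a ∈ (q.comap ψ).primeCompl := by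
    intro ha
    apply ht
    have : t = (t - ψ a) + ψ a := by ring
    rw [this]
    exact q.add_mem hnq ha
  rw [IsLocalization.mk'_eq_zero_iff]
  refine ⟨⟨a ^ N, pow_mem haq N⟩, ?_⟩
  apply hinj
  obtain ⟨c, hc⟩ := hdvd
  simp only [map_mul, map_pow, map_zero, hc]
  rw [mul_right_comm, htx, zero_mul]

set_option backward.isDefEq.respectTransparency false in
theorem epi_Spec_map_of_injective_of_nil {R S : Type u} [CommRing R] [CommRing S] (ψ : R →+* S)
    (hinj : Function.Injective ψ) (hnil : ∀ t : S, ∃ a : R, IsNilpotent (t - ψ a)) :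
    Epi (Spec.map (CommRingCat.ofHom ψ)) := by
  have hint : ψ.IsIntegral := by
    intro t
    obtain ⟨a, N, hN⟩ := hnil t
    have h1 : ψ.IsIntegralElem (t - ψ a) := by
      refine ⟨Polynomial.X ^ (N + 1), Polynomial.monic_X_pow _, ?_⟩
      simp [pow_succ, hN]
    have h2 : ψ.IsIntegralElem (ψ a) := ψ.isIntegralElem_map
    have := RingHom.IsIntegralElem.add ψ h1 h2
    simpa using this
  have hsurj : Function.Surjective (PrimeSpectrum.comap ψ) := hint.comap_surjective hinj
  apply CategoryTheory.Functor.epi_of_epi_map (Scheme.forgetToLocallyRingedSpace)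
  apply CategoryTheory.Functor.epi_of_epi_map (LocallyRingedSpace.forgetToSheafedSpace)
  apply SheafedSpace.epi_of_base_surjective_of_stalk_mono _ hsurj
  intro (q : PrimeSpectrum S)
  apply ConcreteCategory.mono_of_injective
  have := AlgebraicGeometry.localRingHom_comp_stalkIso (CommRingCat.ofHom ψ) q
  change Function.Injective ((Spec.sheafedSpaceMap (CommRingCat.ofHom ψ)).hom.stalkMap q)
  rw [← this]
  have h3 := localRingHom_injective ψ hinj hnil q.asIdeal
  intro x y hxy
  simp only [CommRingCat.hom_comp, CommRingCat.hom_ofHom, RingHom.coe_comp, Function.comp_apply] at hxy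
  have h4 := (StructureSheaf.stalkIso (CommRingCat.of S) q).injective hxy
  have h5 := h3 h4
  exact (StructureSheaf.stalkIso (CommRingCat.of R) _).symm.injective h5

end Aux

open CategoryTheory AlgebraicGeometry in
/-- Let B be a commutative ring, B[ε] the ring of dual numbers (ε² = 0) and B[α, β]/(α², β²) the double
dual numbers, realised as dual numbers over the dual numbers with α the inner and β the outer
generator, and let ψ : B[ε] → B[α, β]/(α², β²) be the B-algebra homomorphism with ψ(ε) = αβ. Then
for every scheme G the map u ↦ Spec(ψ) ≫ u from morphisms Spec B[ε] → G to morphisms Spec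
B[α,β]/(α²,β²) → G is injective. (The printed statement is its consequence for a group scheme G: the
map Lie(G)(B) → G(B[α,β]/(α²,β²)), x ↦ exp(αβ x), is injective; the injectivity on all B[ε]-points
stated here is what the printed argument establishes.) -/
theorem result (B : Type u) [CommRing B]
    (ψ : DualNumber B →+* DualNumber (DualNumber B))
    (hψB : ∀ b : B, ψ (algebraMap B (DualNumber B) b) = algebraMap B (DualNumber (DualNumber B)) b)
    (hψ : ψ DualNumber.eps = algebraMap (DualNumber B) (DualNumber (DualNumber B)) DualNumber.eps * DualNumber.eps)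
    (G : Scheme.{u}) :
    Function.Injective (fun u : Spec (CommRingCat.of (DualNumber B)) ⟶ G =>
      Spec.map (CommRingCat.ofHom (R := DualNumber B) (S := DualNumber (DualNumber B)) ψ) ≫ u) := by
  suffices h : Epi (Spec.map (CommRingCat.ofHom (R := DualNumber B) (S := DualNumber (DualNumber B)) ψ)) by
    intro u v huv
    exact (cancel_epi _).1 huv
  have key : ∀ x : DualNumber B, ψ x =
      TrivSqZeroExt.inl (TrivSqZeroExt.inl x.fst) + TrivSqZeroExt.inr (TrivSqZeroExt.inr x.snd) := by
    intro x
    have hx : x = algebraMap B (DualNumber B) x.fst + algebraMap B (DualNumber B) x.snd * DualNumber.eps := by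
      apply TrivSqZeroExt.ext
      · simp [TrivSqZeroExt.algebraMap_eq_inl]
      · simp [TrivSqZeroExt.algebraMap_eq_inl]
    conv_lhs => rw [hx]
    rw [map_add, map_mul, hψB, hψB, hψ]
    simp only [TrivSqZeroExt.algebraMap_eq_inl', Algebra.algebraMap_self, RingHom.id_apply]
    apply TrivSqZeroExt.ext
    · simp only [TrivSqZeroExt.fst_add, TrivSqZeroExt.fst_mul, TrivSqZeroExt.fst_inl, TrivSqZeroExt.fst_inr,
        DualNumber.fst_eps, mul_zero, add_zero]
    · simp only [TrivSqZeroExt.snd_add, TrivSqZeroExt.snd_mul, TrivSqZeroExt.fst_inl, TrivSqZeroExt.snd_inl,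
        TrivSqZeroExt.snd_inr, TrivSqZeroExt.fst_mul,
        DualNumber.fst_eps, DualNumber.snd_eps, mul_zero, add_zero, zero_add, smul_zero]
      rw [smul_eq_mul, smul_eq_mul, mul_one]
      apply TrivSqZeroExt.ext
      · simp
      · simp
  apply epi_Spec_map_of_injective_of_nil
  · intro x y hxy
    rw [key, key] at hxy
    have h1 := congrArg (fun z => z.fst.fst) hxy
    have h2 := congrArg (fun z => z.snd.snd) hxy
    simp at h1 h2
    exact TrivSqZeroExt.ext h1 h2
  · intro t
    refine ⟨algebraMap B (DualNumber B) t.fst.fst, ?_⟩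
    rw [hψB, TrivSqZeroExt.isNilpotent_iff_isNilpotent_fst, TrivSqZeroExt.isNilpotent_iff_isNilpotent_fst]
    simp [TrivSqZeroExt.algebraMap_eq_inl']

end Groth.Agent.S13104
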