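import Groth.Statements.S13105
import Mathlib

set_option autoImplicit false
universe u
open Lie3Mod

set_option linter.unusedSectionVars false

namespace Groth.Agent.S13105Aux
open MvPolynomial

variable (k : Type u) [Field k] (t : k)

/-- the point -/
def pt : Fin 9 → k := ![0, 1, 0, 0, 0, t, 0, 0, 0]
/-- base values of the six parameters (α, β, γ, δ, u, v) -/
def base : Fin 6 → k := ![1, 0, 0, t, 0, 0]

/-- the parametrisation of the component of Lie algebras with an abelian ideal of codimension one -/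
noncomputable def par : Fin 9 → MvPolynomial (Fin 6) k :=
  ![-(X 0 * X 4 + X 1 * X 5), X 0, X 1, -(X 2 * X 4 + X 3 * X 5), X 2, X 3,
    -(X 4 * (X 4 * X 2 - X 5 * X 0)) - X 5 * (X 4 * X 3 - X 5 * X 1),
    X 4 * X 2 - X 5 * X 0, X 4 * X 3 - X 5 * X 1]

noncomputable def phi : D k →ₐ[k] MvPolynomial (Fin 6) k := aeval (par k)

noncomputable def theta (j : ℕ) : MvPolynomial (Fin 6) k →ₐ[k] MvPolynomial (Fin 6) k :=
  aeval (fun l : Fin 6 => if l.val < j then X l else C (base k t l))

noncomputable def psi (j : ℕ) : D k →ₐ[k] MvPolynomial (Fin 6) k := (theta k t j).comp (phi k)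

theorem phi_Q1 : phi k (Q1 k) = 0 := by
  simp only [phi, Q1, va, vb, vc, vd, ve, vf, vg, vh, vi, map_sub, map_mul, map_add, aeval_X, par]
  simp
  ring

theorem phi_Q2 : phi k (Q2 k) = 0 := by
  simp only [phi, Q2, va, vb, vc, vd, ve, vf, vg, vh, vi, map_sub, map_mul, map_add, aeval_X, par]
  simp
  ring

theorem phi_Q3 : phi k (Q3 k) = 0 := by
  simp only [phi, Q3, va, vb, vc, vd, ve, vf, vg, vh, vi, map_sub, map_mul, map_add, aeval_X, par]
  simp
  ring

theorem phi_detM : phi k (detM k) = 0 := by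
  simp only [phi, detM, va, vb, vc, vd, ve, vf, vg, vh, vi, map_sub, map_mul, map_add, map_neg,
    map_pow, aeval_X, par]
  simp
  ring

theorem theta_comp (j : ℕ) : (theta k t j).comp (theta k t (j + 1)) = theta k t j := by
  apply MvPolynomial.algHom_ext
  intro l
  simp only [AlgHom.comp_apply, theta, aeval_X]
  split_ifs with h1 h2 h2
  · rw [aeval_X, if_pos h2]
  · rw [aeval_X, if_neg h2]
  · omega
  · rw [aeval_C]; rfl

theorem psi_succ (j : ℕ) (F : D k) : psi k t j F = theta k t j (psi k t (j + 1) F) := by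
  show (theta k t j) (phi k F) = theta k t j ((theta k t (j + 1)) (phi k F))
  rw [← AlgHom.comp_apply (theta k t j) (theta k t (j + 1)), theta_comp]

theorem psi_zero (F : D k) : psi k t 0 F = C (eval (pt k t) F) := by
  have h : psi k t 0 = (Algebra.ofId k (MvPolynomial (Fin 6) k)).comp (aeval (pt k t)) := by
    apply MvPolynomial.algHom_ext
    intro i
    fin_cases i <;> simp [psi, theta, phi, par, pt, base, Algebra.ofId_apply]
  rw [h, AlgHom.comp_apply, Algebra.ofId_apply, ← coe_aeval_eq_eval]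
  rfl

/-- the ideal of the point -/
noncomputable def mPt : Ideal (D k) :=
  Ideal.span ({X 0, X 1 - 1, X 2, X 3, X 4, X 5 - C t, X 6, X 7, X 8} : Set (D k))

theorem gen_mem (i : Fin 9) : (X i : D k) - C (pt k t i) ∈ mPt k t := by
  unfold mPt
  fin_cases i <;> simp [pt] <;> exact Ideal.subset_span (by simp)

theorem sub_C_eval_mem (F : D k) : F - C (eval (pt k t) F) ∈ mPt k t := by
  induction F using MvPolynomial.induction_on with
  | C c => simp
  | add f g hf hg =>
    have : f + g - C (eval (pt k t) (f + g))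
        = (f - C (eval (pt k t) f)) + (g - C (eval (pt k t) g)) := by
      simp only [map_add]; ring
    rw [this]
    exact Ideal.add_mem _ hf hg
  | mul_X f i hf =>
    have : f * X i - C (eval (pt k t) (f * X i))
        = (f - C (eval (pt k t) f)) * X i + C (eval (pt k t) f) * (X i - C (pt k t i)) := by
      simp only [map_mul, eval_X]; ring
    rw [this]
    exact Ideal.add_mem _ (Ideal.mul_mem_right _ _ hf) (Ideal.mul_mem_left _ _ (gen_mem k t i))

/-- witnesses of strictness -/
noncomputable def G : ℕ → D k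
  | 1 => X 1 - 1
  | 2 => X 2
  | 3 => X 4
  | 4 => X 5 - C t
  | 5 => X 0
  | 6 => X 1 * X 7 + X 4 * X 0
  | _ => 0

theorem psi_G_eq (j : ℕ) (hj : j < 6) : psi k t j (G k t (j + 1)) = 0 := by
  interval_cases j <;> simp [psi, theta, phi, par, G, base]
  ring

theorem psi_G_ne (j : ℕ) (hj : j < 6) : psi k t (j + 1) (G k t (j + 1)) ≠ 0 := by
  interval_cases j
  · intro h
    have := congrArg (eval (fun _ => (0 : k))) h
    simp [psi, theta, phi, par, G, base] at this
  · intro h
    have := congrArg (eval (fun _ => (1 : k))) h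
    simp [psi, theta, phi, par, G, base] at this
  · intro h
    have := congrArg (eval (fun _ => (1 : k))) h
    simp [psi, theta, phi, par, G, base] at this
  · intro h
    have := congrArg (eval (fun _ => (t + 1 : k))) h
    simp [psi, theta, phi, par, G, base] at this
  · intro h
    have := congrArg (eval (fun _ => (1 : k))) h
    simp [psi, theta, phi, par, G, base] at this
  · intro h
    have := congrArg (eval (![1, 0, 0, 0, 0, 1] : Fin 6 → k)) h
    simp [psi, theta, phi, par, G, base] at this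

theorem idJ_le_ker (j : ℕ) : ∀ x ∈ idJ k, (psi k t j).toRingHom x = 0 := by
  intro x hx
  have : idJ k ≤ RingHom.ker (psi k t j).toRingHom := by
    unfold idJ
    rw [Ideal.span_le]
    intro y hy
    simp only [Set.mem_insert_iff, Set.mem_singleton_iff] at hy
    rw [SetLike.mem_coe, RingHom.mem_ker]
    show (theta k t j) (phi k y) = 0
    rcases hy with rfl | rfl | rfl | rfl
    · rw [phi_Q1, map_zero]
    · rw [phi_Q2, map_zero]
    · rw [phi_Q3, map_zero]
    · rw [phi_detM, map_zero]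
  exact this hx

noncomputable def psibar (j : ℕ) : (D k ⧸ idJ k) →+* MvPolynomial (Fin 6) k :=
  Ideal.Quotient.lift (idJ k) (psi k t j).toRingHom (idJ_le_ker k t j)

theorem psibar_mk (j : ℕ) (F : D k) :
    psibar k t j (Ideal.Quotient.mk (idJ k) F) = psi k t j F := rfl

noncomputable def q (j : ℕ) : Ideal (D k ⧸ idJ k) := RingHom.ker (psibar k t j)

instance q_prime (j : ℕ) : (q k t j).IsPrime := RingHom.ker_isPrime _

theorem q_lt (j : ℕ) (hj : j < 6) : q k t (j + 1) < q k t j := by
  rw [SetLike.lt_iff_le_and_exists]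
  constructor
  · intro x hx
    obtain ⟨F, rfl⟩ := Ideal.Quotient.mk_surjective x
    unfold q at hx ⊢
    rw [RingHom.mem_ker, psibar_mk] at hx ⊢
    rw [psi_succ, hx, map_zero]
  · refine ⟨Ideal.Quotient.mk (idJ k) (G k t (j + 1)), ?_, ?_⟩
    · unfold q
      rw [RingHom.mem_ker, psibar_mk]
      exact psi_G_eq k t j hj
    · unfold q
      rw [RingHom.mem_ker, psibar_mk]
      exact psi_G_ne k t j hj

theorem q_zero_le : q k t 0 ≤ Ideal.map (Ideal.Quotient.mk (idJ k)) (mPt k t) := by
  intro x hx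
  obtain ⟨F, rfl⟩ := Ideal.Quotient.mk_surjective x
  unfold q at hx
  rw [RingHom.mem_ker, psibar_mk, psi_zero] at hx
  have h0 : eval (pt k t) F = 0 := by
    have := congrArg (eval (fun _ => (0 : k))) hx
    simpa using this
  have h1 := sub_C_eval_mem k t F
  rw [h0, map_zero, sub_zero] at h1
  exact Ideal.mem_map_of_mem _ h1

theorem height_q (n : ℕ) (hn : n ≤ 6) : (n : ℕ∞) ≤ (q k t (6 - n)).height := by
  induction n with
  | zero => simp
  | succ n ih =>
    have h1 := ih (by omega)
    have h2 := q_lt k t (6 - (n + 1)) (by omega)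
    rw [show 6 - (n + 1) + 1 = 6 - n by omega] at h2
    have h3 := Ideal.height_add_one_le_of_lt_of_isPrime h2
    have h4 : ((n + 1 : ℕ) : ℕ∞) = (n : ℕ∞) + 1 := by push_cast; rfl
    rw [h4]
    exact (add_le_add_left h1 1).trans h3

theorem height_ge (P : Ideal (D k ⧸ idJ k)) [P.IsPrime]
    (hP : P = Ideal.map (Ideal.Quotient.mk (idJ k)) (mPt k t)) : (6 : ℕ∞) ≤ P.height := by
  have h1 := height_q k t 6 le_rfl
  have h2 : q k t (6 - 6) ≤ P := by
    rw [hP]
    exact q_zero_le k t
  exact h1.trans (Ideal.height_mono h2)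

theorem rel_generic {L : Type*} [CommRing L] (ι : D k →+* L) (hJ : ∀ F ∈ idJ k, ι F = 0)
    (𝔫 : Ideal L) (m0 : ι (X 0) ∈ 𝔫) (m2 : ι (X 2) ∈ 𝔫) (m4 : ι (X 4) ∈ 𝔫) (m7 : ι (X 7) ∈ 𝔫)
    (u1 : IsUnit (ι (X 1)))
    (u2 : IsUnit (ι (X 5 + X 1)) ∨ IsUnit (ι (X 1 * X 5 - X 4 * X 2))) :
    ι (X 3) ∈ 𝔫 ∧ ι (X 8) ∈ 𝔫 ∧ ι (X 6) ∈ 𝔫 := by
  have hQ1 := hJ (Q1 k) (Ideal.subset_span (by simp))
  have hQ2 := hJ (Q2 k) (Ideal.subset_span (by simp))
  have hQ3 := hJ (Q3 k) (Ideal.subset_span (by simp))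
  have hdet := hJ (detM k) (Ideal.subset_span (by simp))
  simp only [Q1, Q2, Q3, detM, va, vb, vc, vd, ve, vf, vg, vh, vi, map_sub, map_mul, map_add,
    map_neg, map_pow] at hQ1 hQ2 hQ3 hdet
  have m3 : ι (X 3) ∈ 𝔫 := by
    rw [← Ideal.unit_mul_mem_iff_mem _ u1]
    have : ι (X 1) * ι (X 3) = ι (X 5) * ι (X 7) + ι (X 0) * ι (X 4) - ι (X 8) * ι (X 4) := by
      linear_combination hQ2
    rw [this]
    exact Ideal.sub_mem _ (Ideal.add_mem _ (Ideal.mul_mem_left _ _ m7) (Ideal.mul_mem_left _ _ m4))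
      (Ideal.mul_mem_left _ _ m4)
  have m8 : ι (X 8) ∈ 𝔫 := by
    rw [← Ideal.unit_mul_mem_iff_mem _ u1]
    have : ι (X 1) * ι (X 8) = ι (X 7) * ι (X 2) + ι (X 3) * ι (X 2) - ι (X 0) * ι (X 5) := by
      linear_combination -hQ3
    rw [this]
    exact Ideal.sub_mem _ (Ideal.add_mem _ (Ideal.mul_mem_left _ _ m2) (Ideal.mul_mem_left _ _ m2))
      (Ideal.mul_mem_right _ _ m0)
  refine ⟨m3, m8, ?_⟩
  rcases u2 with u2 | u2
  · rw [← Ideal.unit_mul_mem_iff_mem _ u2]
    have : ι (X 5 + X 1) * ι (X 6) = ι (X 0) * ι (X 7) + ι (X 3) * ι (X 8) := by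
      simp only [map_add]
      linear_combination -hQ1
    rw [this]
    exact Ideal.add_mem _ (Ideal.mul_mem_right _ _ m0) (Ideal.mul_mem_right _ _ m3)
  · rw [← Ideal.unit_mul_mem_iff_mem _ u2]
    have : ι (X 1 * X 5 - X 4 * X 2) * ι (X 6)
        = ι (X 2) * ι (X 7) ^ 2 - ι (X 4) * ι (X 8) ^ 2 - ι (X 7) * ι (X 1) * ι (X 8)
          + ι (X 8) * ι (X 7) * ι (X 5) := by
      simp only [map_sub, map_mul]
      linear_combination hdet
    rw [this]
    refine Ideal.add_mem _ (Ideal.sub_mem _ (Ideal.sub_mem _ (Ideal.mul_mem_right _ _ m2)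
      (Ideal.mul_mem_right _ _ m4)) ?_) ?_
    · rw [mul_assoc]; exact Ideal.mul_mem_right _ _ m7
    · rw [mul_assoc]; exact Ideal.mul_mem_left _ _ (Ideal.mul_mem_right _ _ m7)

section loc
variable (P : Ideal (D k ⧸ idJ k)) [P.IsPrime]

/-- the composite `D → (D/J)_P` -/
noncomputable def iota : D k →+* Localization.AtPrime P :=
  (algebraMap (D k ⧸ idJ k) (Localization.AtPrime P)).comp (Ideal.Quotient.mk (idJ k))

theorem iota_unit (hP : P = Ideal.map (Ideal.Quotient.mk (idJ k)) (mPt k t)) (F : D k)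
    (hF : eval (pt k t) F ≠ 0) : IsUnit (iota k P F) := by
  show IsUnit (algebraMap _ (Localization.AtPrime P) (Ideal.Quotient.mk (idJ k) F))
  rw [IsLocalization.AtPrime.isUnit_to_map_iff (Localization.AtPrime P) P]
  intro hmem
  have h1 : Ideal.Quotient.mk (idJ k) (F - C (eval (pt k t) F)) ∈ P := by
    rw [hP]
    exact Ideal.mem_map_of_mem _ (sub_C_eval_mem k t F)
  have h2 : Ideal.Quotient.mk (idJ k) (C (eval (pt k t) F)) ∈ P := by
    have : Ideal.Quotient.mk (idJ k) (C (eval (pt k t) F))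
        = Ideal.Quotient.mk (idJ k) F - Ideal.Quotient.mk (idJ k) (F - C (eval (pt k t) F)) := by
      rw [← map_sub]
      congr 1
      ring
    rw [this]
    exact P.sub_mem hmem h1
  have h3 : IsUnit (Ideal.Quotient.mk (idJ k) (C (eval (pt k t) F))) :=
    ((isUnit_iff_ne_zero.mpr hF).map C).map _
  exact (Ideal.IsPrime.ne_top ‹_›) (Ideal.eq_top_of_isUnit_mem _ h2 h3)

theorem iota_J (F : D k) (hF : F ∈ idJ k) : iota k P F = 0 := by
  show algebraMap _ (Localization.AtPrime P) (Ideal.Quotient.mk (idJ k) F) = 0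
  rw [Ideal.Quotient.eq_zero_iff_mem.mpr hF, map_zero]

theorem maxIdeal_eq (hP : P = Ideal.map (Ideal.Quotient.mk (idJ k)) (mPt k t)) :
    IsLocalRing.maximalIdeal (Localization.AtPrime P)
      = Ideal.span (iota k P '' ({X 0, X 1 - 1, X 2, X 3, X 4, X 5 - C t, X 6, X 7, X 8} : Set (D k))) := by
  rw [← Localization.AtPrime.map_eq_maximalIdeal]
  calc Ideal.map (algebraMap (D k ⧸ idJ k) (Localization.AtPrime P)) P
      = Ideal.map (algebraMap (D k ⧸ idJ k) (Localization.AtPrime P))
          (Ideal.map (Ideal.Quotient.mk (idJ k)) (mPt k t)) :=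
        congrArg (Ideal.map (algebraMap (D k ⧸ idJ k) (Localization.AtPrime P))) hP
    _ = Ideal.map (iota k P) (mPt k t) := Ideal.map_map _ _
    _ = _ := Ideal.map_span _ _

/-- six generators of the maximal ideal -/
noncomputable def nn : Ideal (Localization.AtPrime P) :=
  Ideal.span ({iota k P (X 0), iota k P (X 1 - 1), iota k P (X 2), iota k P (X 4),
    iota k P (X 5 - C t), iota k P (X 7)} : Set (Localization.AtPrime P))

theorem maxIdeal_le (hP : P = Ideal.map (Ideal.Quotient.mk (idJ k)) (mPt k t)) :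
    IsLocalRing.maximalIdeal (Localization.AtPrime P) ≤ nn k t P := by
  have m0 : iota k P (X 0) ∈ nn k t P := Ideal.subset_span (by simp)
  have m1 : iota k P (X 1 - 1) ∈ nn k t P := Ideal.subset_span (by simp)
  have m2 : iota k P (X 2) ∈ nn k t P := Ideal.subset_span (by simp)
  have m4 : iota k P (X 4) ∈ nn k t P := Ideal.subset_span (by simp)
  have m5 : iota k P (X 5 - C t) ∈ nn k t P := Ideal.subset_span (by simp)
  have m7 : iota k P (X 7) ∈ nn k t P := Ideal.subset_span (by simp)
  have u1 : IsUnit (iota k P (X 1)) := iota_unit k t P hP (X 1) (by simp [pt])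
  have u2 : IsUnit (iota k P (X 5 + X 1)) ∨ IsUnit (iota k P (X 1 * X 5 - X 4 * X 2)) := by
    by_cases ht : t + 1 = 0
    · have ht0 : t ≠ 0 := by
        intro h0
        rw [h0, zero_add] at ht
        exact one_ne_zero ht
      exact Or.inr (iota_unit k t P hP _ (by simpa [pt] using ht0))
    · exact Or.inl (iota_unit k t P hP _ (by simpa [pt] using ht))
  obtain ⟨m3, m8, m6⟩ := rel_generic k (L := Localization.AtPrime P) (iota k P) (iota_J k P)
    (nn k t P) m0 m2 m4 m7 u1 u2
  rw [maxIdeal_eq k t P hP, Ideal.span_le]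
  rintro _ ⟨y, hy, rfl⟩
  simp only [Set.mem_insert_iff, Set.mem_singleton_iff] at hy
  rcases hy with rfl | rfl | rfl | rfl | rfl | rfl | rfl | rfl | rfl
  · exact m0
  · exact m1
  · exact m2
  · exact m3
  · exact m4
  · exact m5
  · exact m6
  · exact m7
  · exact m8

theorem le_maxIdeal (hP : P = Ideal.map (Ideal.Quotient.mk (idJ k)) (mPt k t)) :
    nn k t P ≤ IsLocalRing.maximalIdeal (Localization.AtPrime P) := by
  rw [maxIdeal_eq k t P hP]
  unfold nn
  rw [Ideal.span_le]
  intro x hx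
  simp only [Set.mem_insert_iff, Set.mem_singleton_iff] at hx
  rcases hx with rfl | rfl | rfl | rfl | rfl | rfl <;>
    exact Ideal.subset_span (Set.mem_image_of_mem _ (by simp))

theorem spanFinrank_le (hP : P = Ideal.map (Ideal.Quotient.mk (idJ k)) (mPt k t)) :
    (IsLocalRing.maximalIdeal (Localization.AtPrime P)).spanFinrank ≤ 6 := by
  have h : IsLocalRing.maximalIdeal (Localization.AtPrime P) = nn k t P :=
    le_antisymm (maxIdeal_le k t P hP) (le_maxIdeal k t P hP)
  rw [h]
  unfold nn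
  classical
  refine (Submodule.spanFinrank_span_le_ncard_of_finite (Set.toFinite _)).trans ?_
  have h6 : ({iota k P (X 0), iota k P (X 1 - 1), iota k P (X 2), iota k P (X 4),
      iota k P (X 5 - C t), iota k P (X 7)} : Set (Localization.AtPrime P))
      = ↑({iota k P (X 0), iota k P (X 1 - 1), iota k P (X 2), iota k P (X 4),
      iota k P (X 5 - C t), iota k P (X 7)} : Finset (Localization.AtPrime P)) := by
    simp
  rw [h6, Set.ncard_coe_finset]
  exact Finset.card_le_six

end loc

end Groth.Agent.S13105Aux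

namespace Groth.Agent.S13105

open MvPolynomial in
/-- Let k be a field, t ∈ k, D = k[a,b,c,d,e,f,g,h,i] and J = (Q1, Q2, Q3, det M) with Q1 = ah + di − fg
− bg, Q2 = ie + bd − fh − ae, Q3 = hc + dc − af − bi, det M = −ch² + gbf + ei² − gec + hbi − ihf.
The maximal ideal (a, b − 1, c, d, e, f − t, g, h, i) of D contains J (it is the point given by the
Lie algebra with [x,y] = y, [x,z] = t z, [y,z] = 0), and the localization of D/J at the
corresponding prime is a regular local ring of Krull dimension 6: the scheme Spec(D/J) has a smooth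
k-rational point. -/
theorem result (k : Type u) [Field k] (t : k)
    (P : Ideal (Lie3Mod.D k ⧸ Lie3Mod.idJ k)) [P.IsPrime]
    (hP : P = Ideal.map (Ideal.Quotient.mk (Lie3Mod.idJ k))
      (Ideal.span ({X 0, X 1 - 1, X 2, X 3, X 4, X 5 - C t, X 6, X 7, X 8} : Set (Lie3Mod.D k)))) :
    IsRegularLocalRing (Localization.AtPrime P) ∧ ringKrullDim (Localization.AtPrime P) = 6 := by
  have hP' : P = Ideal.map (Ideal.Quotient.mk (Lie3Mod.idJ k)) (Groth.Agent.S13105Aux.mPt k t) := hP
  have h1 : (IsLocalRing.maximalIdeal (Localization.AtPrime P)).spanFinrank ≤ 6 :=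
    Groth.Agent.S13105Aux.spanFinrank_le k t P hP'
  have h2 : (6 : ℕ∞) ≤ P.height := Groth.Agent.S13105Aux.height_ge k t P hP'
  have h3 : ringKrullDim (Localization.AtPrime P) = P.height :=
    IsLocalization.AtPrime.ringKrullDim_eq_height P (Localization.AtPrime P)
  have h4 : (6 : WithBot ℕ∞) ≤ ringKrullDim (Localization.AtPrime P) := by
    rw [h3]
    have : ((6 : ℕ∞) : WithBot ℕ∞) ≤ (P.height : WithBot ℕ∞) := WithBot.coe_le_coe.mpr h2
    exact this
  have h5 : (((IsLocalRing.maximalIdeal (Localization.AtPrime P)).spanFinrank : ℕ) : WithBot ℕ∞)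
      ≤ 6 := by
    exact_mod_cast h1
  have hreg : IsRegularLocalRing (Localization.AtPrime P) :=
    IsRegularLocalRing.of_spanFinrank_maximalIdeal_le _ (h5.trans h4)
  refine ⟨hreg, le_antisymm ?_ h4⟩
  exact (ringKrullDim_le_spanFinrank_maximalIdeal (Localization.AtPrime P)).trans h5

end Groth.Agent.S13105
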