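import Groth.Statements.S13106
import Mathlib.Tactic
import Mathlib.AlgebraicGeometry.Morphisms.Separated
import Mathlib.AlgebraicGeometry.Morphisms.ClosedImmersion
import Mathlib.AlgebraicGeometry.IdealSheaf.Basic

set_option autoImplicit false
universe u
open GrpSch

namespace Groth.Agent.S13106

open CategoryTheory AlgebraicGeometry Limits in
/-- The inclusion of a schematically dense open has trivial kernel. -/
theorem ker_ι_eq_bot {Y : Scheme.{u}} (U : Y.Opens) (hU : CInt.IsSchematicallyDense U) :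
    U.ι.ker = ⊥ := by
  rw [← le_bot_iff]
  intro V
  refine (Scheme.Hom.ideal_ker_le U.ι V).trans ?_
  rw [Scheme.IdealSheafData.ideal_bot, Pi.bot_apply, le_bot_iff,
    ← RingHom.injective_iff_ker_eq_bot]
  intro a b hab
  apply hU V.1
  rw [Scheme.Opens.ι_app] at hab
  have hle : V.1 ⊓ U ≤ U.ι ''ᵁ U.ι ⁻¹ᵁ V.1 := by
    intro x hx
    exact ⟨⟨x, hx.2⟩, hx.1, rfl⟩
  have h1 : ∀ c : Γ(Y, V.1), Y.presheaf.map (homOfLE (inf_le_left : V.1 ⊓ U ≤ V.1)).op c =
      Y.presheaf.map (homOfLE hle).op (Y.presheaf.map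
        (homOfLE (x := U.ι ''ᵁ U.ι ⁻¹ᵁ V.1) (Set.image_preimage_subset _ _)).op c) := by
    intro c
    rw [← ConcreteCategory.comp_apply, ← Functor.map_comp]
    rfl
  rw [h1 a, h1 b]
  exact congrArg _ hab

open CategoryTheory AlgebraicGeometry Limits in
theorem ext_of_schematicallyDense {Y Z T : Scheme.{u}} (U : Y.Opens)
    (hU : CInt.IsSchematicallyDense U) (z : Z ⟶ T) [IsSeparated z] (v₁ v₂ : Y ⟶ Z)
    (hz : v₁ ≫ z = v₂ ≫ z) (h : U.ι ≫ v₁ = U.ι ≫ v₂) : v₁ = v₂ := by
  let X' : Over T := Over.mk (v₁ ≫ z)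
  let Y' : Over T := Over.mk z
  let U' : Over T := Over.mk (U.ι ≫ v₁ ≫ z)
  let f' : X' ⟶ Y' := Over.homMk v₁
  let g' : X' ⟶ Y' := Over.homMk v₂ hz.symm
  let ι' : U' ⟶ X' := Over.homMk U.ι
  have : IsSeparated Y'.hom := ‹_›
  have hlift : (equalizer.lift ι' (by ext1; exact h : ι' ≫ f' = ι' ≫ g')).left ≫
      (equalizer.ι f' g').left = U.ι := by
    rw [← Over.comp_left, equalizer.lift_ι]
    rfl
  have hker : (equalizer.ι f' g').left.ker = ⊥ := by
    have := Scheme.Hom.le_ker_comp
      (equalizer.lift ι' (by ext1; exact h : ι' ≫ f' = ι' ≫ g')).left (equalizer.ι f' g').left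
    rw [hlift, ker_ι_eq_bot U hU] at this
    exact le_bot_iff.mp this
  have hiso : IsIso (equalizer.ι f' g').left := IsClosedImmersion.isIso_iff_ker_eq_bot.mpr hker
  rw [← cancel_epi (equalizer.ι f' g').left]
  exact congr($(equalizer.condition f' g').left)

open CategoryTheory AlgebraicGeometry in
/-- Let f : X → Y be a morphism of schemes and U ⊆ Y a schematically dense open subscheme (for every
open V of Y, restriction of functions from V to V ∩ U is injective) such that the restriction f⁻¹(U)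
→ U of f is an isomorphism. Then two morphisms from Y to a scheme separated over a base T that agree
after composing with f and have the same composite to T are equal: if Z → T is separated and v₁, v₂
: Y → Z satisfy v₁ ≫ (Z → T) = v₂ ≫ (Z → T) and f ≫ v₁ = f ≫ v₂, then v₁ = v₂. (The published
statement is the case of a morphism between two prolongations over A[[t]] of a finite group scheme
over A((t)), where U is the generic fibre, schematically dense by flatness; uniqueness of
prolongation maps follows.) -/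
theorem result {X Y Z T : Scheme.{u}} (f : X ⟶ Y)
    (U : Y.Opens) (hU : CInt.IsSchematicallyDense U) [IsIso (f ∣_ U)]
    (z : Z ⟶ T) [IsSeparated z] (v₁ v₂ : Y ⟶ Z) (hz : v₁ ≫ z = v₂ ≫ z) (h : f ≫ v₁ = f ≫ v₂) :
    v₁ = v₂ := by
  apply ext_of_schematicallyDense U hU z v₁ v₂ hz
  have h1 : U.ι = inv (f ∣_ U) ≫ (f ⁻¹ᵁ U).ι ≫ f := by
    rw [← morphismRestrict_ι, IsIso.inv_hom_id_assoc]
  rw [h1]
  simp only [Category.assoc, h]

end Groth.Agent.S13106
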