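import Groth.Statements.S13107
import Groth.Agent.Lib.Helper10.Lie3

set_option autoImplicit false
universe u v w
open GrpSch

namespace Groth.Agent.S13107

theorem aux (K : Type u) [Field K] (T : K) (hTsq : ∀ a : K, a * a * T ≠ 1)
    (F : Type v) [LieRing F] [LieAlgebra K F] (bF : Module.Basis (Fin 3) K F)
    (hF01 : ⁅bF 0, bF 1⁆ = bF 2) (hF02 : ⁅bF 0, bF 2⁆ = T • bF 1)
    (hF12 : ⁅bF 1, bF 2⁆ = 0)
    (L : Type w) [LieRing L] [LieAlgebra K L] (bL : Module.Basis (Fin 3) K L)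
    (hL01 : ⁅bL 0, bL 1⁆ = bL 1) (hL02 : ⁅bL 0, bL 2⁆ = -bL 2) (hL12 : ⁅bL 1, bL 2⁆ = 0) :
    IsEmpty (L ≃ₗ⁅K⁆ F) := by
  refine ⟨fun φ => ?_⟩
  obtain ⟨a1, b, c, h0⟩ : ∃ a1 b c : K,
      φ (bL 0) = a1 • bF 0 + b • bF 1 + c • bF 2 :=
    ⟨_, _, _, Lib.Helper10.expand3 bF (φ (bL 0))⟩
  obtain ⟨d, e, f, h1⟩ : ∃ d e f : K,
      φ (bL 1) = d • bF 0 + e • bF 1 + f • bF 2 :=
    ⟨_, _, _, Lib.Helper10.expand3 bF (φ (bL 1))⟩
  obtain ⟨g, h, i, h2⟩ : ∃ g h i : K,
      φ (bL 2) = g • bF 0 + h • bF 1 + i • bF 2 :=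
    ⟨_, _, _, Lib.Helper10.expand3 bF (φ (bL 2))⟩
  have hdet := Lib.Helper10.det3_isUnit bL bF φ.toLinearEquiv h0 h1 h2
  have e1 : φ (bL 1) = ⁅φ (bL 0), φ (bL 1)⁆ := by rw [← LieEquiv.map_lie, hL01]
  have e2 : -φ (bL 2) = ⁅φ (bL 0), φ (bL 2)⁆ := by
    rw [← LieEquiv.map_lie, hL02, map_neg]
  rw [h0, h1, Lib.Helper10.lie3, hF01, hF02, hF12] at e1
  rw [h0, h2, Lib.Helper10.lie3, hF01, hF02, hF12] at e2
  have e1' : d • bF 0 + e • bF 1 + f • bF 2 =
      (0 : K) • bF 0 + ((a1 * f - c * d) * T) • bF 1 + (a1 * e - b * d) • bF 2 := by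
    rw [e1]; module
  have e2' : (-g) • bF 0 + (-h) • bF 1 + (-i) • bF 2 =
      (0 : K) • bF 0 + ((a1 * i - c * g) * T) • bF 1 + (a1 * h - b * g) • bF 2 := by
    have : (-g) • bF 0 + (-h) • bF 1 + (-i) • bF 2 = -(g • bF 0 + h • bF 1 + i • bF 2) := by
      module
    rw [this, e2]; module
  obtain ⟨hd, he, hf⟩ := Lib.Helper10.coeff3 bF e1'
  obtain ⟨hg, hh, hi⟩ := Lib.Helper10.coeff3 bF e2'
  subst hd
  have hg0 : g = 0 := by linear_combination -hg
  subst hg0
  have hne : a1 * e * i - a1 * h * f ≠ 0 := by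
    have := hdet.ne_zero
    intro h'
    apply this
    linear_combination h'
  have Ee : (1 - a1 ^ 2 * T) * e = 0 := by linear_combination he + a1 * T * hf
  have Ef : (1 - a1 ^ 2 * T) * f = 0 := by linear_combination hf + a1 * he
  have Eh : (1 - a1 ^ 2 * T) * h = 0 := by linear_combination -hh + a1 * T * hi
  have Ei : (1 - a1 ^ 2 * T) * i = 0 := by linear_combination -hi + a1 * hh
  have key : 1 - a1 ^ 2 * T = 0 := by
    by_contra hk
    have he0 : e = 0 := (mul_eq_zero.mp Ee).resolve_left hk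
    have hh0 : h = 0 := (mul_eq_zero.mp Eh).resolve_left hk
    apply hne
    rw [he0, hh0]; ring
  apply hTsq a1
  linear_combination -key

/-- Let k be a field, K = k((t)) the field of Laurent series over k, F a Lie algebra over K with a basis
x' = bF 0, y' = bF 1, z' = bF 2 and brackets [x',y'] = z', [x',z'] = t y', [y',z'] = 0, and L a Lie
algebra over K with a basis x = bL 0, y = bL 1, z = bL 2 and brackets [x,y] = y, [x,z] = −z, [y,z] =
0. Then there is no K-linear isomorphism of Lie algebras between L and F: F is a non-trivial form of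
L over K. (The published result is the classification of three-dimensional Lie algebras over k((t))
for k algebraically closed of characteristic not 2, with F its only non-split entry; this row states
the non-isomorphism of F and L over k((t)) for every field k.) -/
theorem result (k : Type u) [Field k]
    (F : Type v) [LieRing F] [LieAlgebra (LaurentSeries k) F] (bF : Module.Basis (Fin 3) (LaurentSeries k) F)
    (hF01 : ⁅bF 0, bF 1⁆ = bF 2) (hF02 : ⁅bF 0, bF 2⁆ = (HahnSeries.single 1 (1 : k) : LaurentSeries k) • bF 1)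
    (hF12 : ⁅bF 1, bF 2⁆ = 0)
    (L : Type w) [LieRing L] [LieAlgebra (LaurentSeries k) L] (bL : Module.Basis (Fin 3) (LaurentSeries k) L)
    (hL01 : ⁅bL 0, bL 1⁆ = bL 1) (hL02 : ⁅bL 0, bL 2⁆ = -bL 2) (hL12 : ⁅bL 1, bL 2⁆ = 0) :
    IsEmpty (L ≃ₗ⁅LaurentSeries k⁆ F) := by
  refine aux (LaurentSeries k) (HahnSeries.single 1 (1 : k)) ?_ F bF hF01 hF02 hF12 L bL hL01 hL02
    hL12
  intro a1 h1T
  have hT0 : (HahnSeries.single 1 (1 : k) : LaurentSeries k) ≠ 0 := by simp
  have ha1 : a1 ≠ 0 := by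
    intro h'
    rw [h'] at h1T
    simp at h1T
  have hord : (a1 * a1 * (HahnSeries.single 1 (1 : k) : LaurentSeries k)).order =
      a1.order + a1.order + (HahnSeries.single 1 (1 : k) : LaurentSeries k).order := by
    rw [HahnSeries.order_mul (mul_ne_zero ha1 ha1) hT0, HahnSeries.order_mul ha1 ha1]
  rw [h1T, HahnSeries.order_one, HahnSeries.order_single one_ne_zero] at hord
  omega

end Groth.Agent.S13107
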