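import Groth.Statements.S13108
import Groth.Agent.Lib.Helper10.LieBasis

set_option autoImplicit false
universe u v w
open GrpSch

namespace Groth.Agent.S13108

/-- Let k be a field and t, t' ∈ k both non-zero; let L be a Lie algebra over k with a basis x = b 0, y
= b 1, z = b 2 and brackets [x,y] = y, [x,z] = t z, [y,z] = 0, and L' a Lie algebra over k with a
basis x' = b' 0, y' = b' 1, z' = b' 2 and brackets [x',y'] = y', [x',z'] = t' z', [y',z'] = 0. Then
L and L' are isomorphic Lie algebras over k if and only if t' = t or t' = t⁻¹. -/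
theorem result (k : Type u) [Field k] (t t' : k) (ht : t ≠ 0) (ht' : t' ≠ 0)
    (L : Type v) [LieRing L] [LieAlgebra k L] (b : Module.Basis (Fin 3) k L)
    (h01 : ⁅b 0, b 1⁆ = b 1) (h02 : ⁅b 0, b 2⁆ = t • b 2) (h12 : ⁅b 1, b 2⁆ = 0)
    (L' : Type w) [LieRing L'] [LieAlgebra k L'] (b' : Module.Basis (Fin 3) k L')
    (h01' : ⁅b' 0, b' 1⁆ = b' 1) (h02' : ⁅b' 0, b' 2⁆ = t' • b' 2) (h12' : ⁅b' 1, b' 2⁆ = 0) :
    Nonempty (L ≃ₗ⁅k⁆ L') ↔ (t' = t ∨ t' = t⁻¹) := by
  have h10 : ⁅b 1, b 0⁆ = -b 1 := by rw [← lie_skew, h01]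
  have h20 : ⁅b 2, b 0⁆ = -(t • b 2) := by rw [← lie_skew, h02]
  have h21 : ⁅b 2, b 1⁆ = 0 := by rw [← lie_skew, h12, neg_zero]
  have h10' : ⁅b' 1, b' 0⁆ = -b' 1 := by rw [← lie_skew, h01']
  have h20' : ⁅b' 2, b' 0⁆ = -(t' • b' 2) := by rw [← lie_skew, h02']
  have h21' : ⁅b' 2, b' 1⁆ = 0 := by rw [← lie_skew, h12', neg_zero]
  constructor
  · rintro ⟨φ⟩
    obtain ⟨a1, b1, c, h0⟩ : ∃ a1 b1 c : k, φ (b 0) = a1 • b' 0 + b1 • b' 1 + c • b' 2 :=
      ⟨_, _, _, Lib.Helper10.expand3 b' (φ (b 0))⟩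
    obtain ⟨d, e, f, h1⟩ : ∃ d e f : k, φ (b 1) = d • b' 0 + e • b' 1 + f • b' 2 :=
      ⟨_, _, _, Lib.Helper10.expand3 b' (φ (b 1))⟩
    obtain ⟨g, h, i, h2⟩ : ∃ g h i : k, φ (b 2) = g • b' 0 + h • b' 1 + i • b' 2 :=
      ⟨_, _, _, Lib.Helper10.expand3 b' (φ (b 2))⟩
    have hdet := Lib.Helper10.det3_isUnit b b' φ.toLinearEquiv h0 h1 h2
    have e1 : φ (b 1) = ⁅φ (b 0), φ (b 1)⁆ := by rw [← LieEquiv.map_lie, h01]
    have e2 : t • φ (b 2) = ⁅φ (b 0), φ (b 2)⁆ := by
      rw [← LieEquiv.map_lie, h02, map_smul]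
    rw [h0, h1, Lib.Helper10.lie3, h01', h02', h12'] at e1
    rw [h0, h2, Lib.Helper10.lie3, h01', h02', h12'] at e2
    have e1' : d • b' 0 + e • b' 1 + f • b' 2 =
        (0 : k) • b' 0 + (a1 * e - b1 * d) • b' 1 + ((a1 * f - c * d) * t') • b' 2 := by
      rw [e1]; module
    have e2' : (t * g) • b' 0 + (t * h) • b' 1 + (t * i) • b' 2 =
        (0 : k) • b' 0 + (a1 * h - b1 * g) • b' 1 + ((a1 * i - c * g) * t') • b' 2 := by
      have : (t * g) • b' 0 + (t * h) • b' 1 + (t * i) • b' 2 =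
        t • (g • b' 0 + h • b' 1 + i • b' 2) := by module
      rw [this, e2]; module
    obtain ⟨hd, he, hf⟩ := Lib.Helper10.coeff3 b' e1'
    obtain ⟨hg, hh, hi⟩ := Lib.Helper10.coeff3 b' e2'
    subst hd
    have hg0 : g = 0 := by
      rcases mul_eq_zero.mp hg with h' | h'
      · exact absurd h' ht
      · exact h'
    subst hg0
    have hne : a1 * e * i - a1 * h * f ≠ 0 := by
      have := hdet.ne_zero
      intro h'
      apply this
      linear_combination h'
    have E1 : (1 - a1) * e = 0 := by linear_combination he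
    have E2 : (t - a1 * t') * i = 0 := by linear_combination hi
    have E3 : (t - a1) * h = 0 := by linear_combination hh
    have E4 : (1 - a1 * t') * f = 0 := by linear_combination hf
    by_cases hei : e * i = 0
    · have hhf : h * f ≠ 0 := by
        intro h'
        apply hne
        linear_combination a1 * hei - a1 * h'
      have hh0 : h ≠ 0 := left_ne_zero_of_mul hhf
      have hf0 : f ≠ 0 := right_ne_zero_of_mul hhf
      have ha : t - a1 = 0 := (mul_eq_zero.mp E3).resolve_right hh0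
      have hb : 1 - a1 * t' = 0 := (mul_eq_zero.mp E4).resolve_right hf0
      right
      apply eq_inv_of_mul_eq_one_left
      linear_combination -hb + t' * ha
    · have he0 : e ≠ 0 := left_ne_zero_of_mul hei
      have hi0 : i ≠ 0 := right_ne_zero_of_mul hei
      have ha : 1 - a1 = 0 := (mul_eq_zero.mp E1).resolve_right he0
      have hb : t - a1 * t' = 0 := (mul_eq_zero.mp E2).resolve_right hi0
      left
      linear_combination -hb + t' * ha
  · rintro (rfl | rfl)
    · refine ⟨Lib.Helper10.lieEquivOfBasis b (b.equiv b' (Equiv.refl _)) ?_⟩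
      intro i j
      fin_cases i <;> fin_cases j <;>
        simp [lie_self, h01, h02, h12, h10, h20, h21, h01', h02', h12', h10', h20', h21']
    · let f1 : L →ₗ[k] L' := b.constr k ![t • b' 0, b' 2, b' 1]
      let f2 : L' →ₗ[k] L := b'.constr k ![t⁻¹ • b 0, b 2, b 1]
      have hf1 : ∀ j, f1 (b j) = ![t • b' 0, b' 2, b' 1] j := fun j => b.constr_basis k _ j
      have hf2 : ∀ j, f2 (b' j) = ![t⁻¹ • b 0, b 2, b 1] j := fun j => b'.constr_basis k _ j
      have h12c : f1.comp f2 = LinearMap.id := by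
        apply b'.ext
        intro j
        fin_cases j <;> simp [hf1, hf2, ht]
      have h21c : f2.comp f1 = LinearMap.id := by
        apply b.ext
        intro j
        fin_cases j <;> simp [hf1, hf2, ht]
      refine ⟨Lib.Helper10.lieEquivOfBasis b (LinearEquiv.ofLinearMap f1 f2 h12c h21c) ?_⟩
      intro i j
      fin_cases i <;> fin_cases j <;>
        simp [lie_self, h01, h02, h12, h10, h20, h21, h01', h02', h12', h10', h20', h21', hf1,
          ht, smul_smul]

end Groth.Agent.S13108
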