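import Groth.Statements.S13114
import Mathlib.LinearAlgebra.Eigenspace.Zero
import Mathlib.RingTheory.Artinian.Ring
import Mathlib.RingTheory.LocalRing.Quotient
-- import your own Groth.Agent.* helpers here

set_option autoImplicit false
universe u
open HilbChow

namespace Groth.Agent.S13114

/-- Let k be an algebraically closed field, A a commutative local k-algebra of finite dimension n over k
and u a unit of A. Then the determinant of multiplication by u on the k-vector space A, mapped to
the residue field of A, equals the n-th power of the residue class of u. -/
theorem result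
    (k A : Type u) [Field k] [IsAlgClosed k] [CommRing A] [Algebra k A] [IsLocalRing A]
    [Module.Finite k A] (u : Aˣ) :
    algebraMap k (IsLocalRing.ResidueField A) (Algebra.norm k (u : A)) =
      IsLocalRing.residue A (u : A) ^ Module.finrank k A := by
  have : IsArtinianRing A := IsArtinianRing.of_finite k A
  have : Module.Finite k (IsLocalRing.ResidueField A) :=
    Module.Finite.of_surjective (IsScalarTower.toAlgHom k A (IsLocalRing.ResidueField A)).toLinearMap
      IsLocalRing.residue_surjective
  obtain ⟨c, hc⟩ := (IsAlgClosed.algebraMap_bijective_of_isIntegral (k := k)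
    (K := IsLocalRing.ResidueField A)).2 (IsLocalRing.residue A (u : A))
  have hmem : (u : A) - algebraMap k A c ∈ IsLocalRing.maximalIdeal A := by
    rw [← IsLocalRing.residue_eq_zero_iff, map_sub, ← hc, sub_eq_zero]
    exact IsScalarTower.algebraMap_apply k A (IsLocalRing.ResidueField A) c
  have hnil : IsNilpotent ((u : A) - algebraMap k A c) := by
    have h1 : (u : A) - algebraMap k A c ∈ nilradical A := by
      rw [nilradical, ← IsArtinianRing.jacobson_eq_radical, Ideal.zero_eq_bot,
        IsLocalRing.jacobson_eq_maximalIdeal _ bot_ne_top]
      exact hmem
    exact h1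
  have hN : IsNilpotent (-(Algebra.lmul k A ((u : A) - algebraMap k A c))) :=
    (hnil.map (Algebra.lmul k A)).neg
  have hchar := IsNilpotent.charpoly_eq_X_pow_finrank (R := k) hN
  have hev := LinearMap.eval_charpoly (-(Algebra.lmul k A ((u : A) - algebraMap k A c))) c
  rw [hchar] at hev
  have heq : (algebraMap k (Module.End k A)) c - -(Algebra.lmul k A ((u : A) - algebraMap k A c)) =
      Algebra.lmul k A (u : A) := by
    ext x
    simp [Algebra.algebraMap_eq_smul_one]
  rw [heq] at hev
  rw [Algebra.norm_apply, ← hev, ← hc]
  simp

end Groth.Agent.S13114
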