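import Groth.Statements.S13124
import Mathlib

set_option autoImplicit false
universe u v w
open KumFam

namespace Groth.Agent.S13124

open TensorProduct in
theorem tmul_one_mul_injective (k : Type u) [CommRing k]
    (A : Type v) [CommRing A] [Algebra k A] [Module.Flat k A]
    (R : Type w) [CommRing R] [Algebra k R] [IsDomain R] (b : R) (hb : b ≠ 0)
    (z : R ⊗[k] A) (hz : (b ⊗ₜ[k] (1 : A)) * z = 0) : z = 0 := by
  have hinj : Function.Injective (LinearMap.mulLeft k b) := by
    intro x y hxy
    exact mul_left_cancel₀ hb hxy
  have hinj2 := Module.Flat.rTensor_preserves_injective_linearMap (M := A)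
    (LinearMap.mulLeft k b) hinj
  have heq : ∀ z : R ⊗[k] A, (LinearMap.mulLeft k b).rTensor A z = (b ⊗ₜ[k] (1 : A)) * z := by
    intro z
    induction z using TensorProduct.induction_on with
    | zero => simp
    | tmul x y =>
      rw [LinearMap.rTensor_tmul, LinearMap.mulLeft_apply, Algebra.TensorProduct.tmul_mul_tmul,
        one_mul]
    | add x y hx hy => rw [map_add, hx, hy, mul_add]
  apply hinj2
  rw [heq, hz, map_zero]

/-- Let k be a commutative ring, A a commutative k-bialgebra that is flat over k, and R a commutative
k-algebra which is an integrally closed domain, with a coaction R → R ⊗ A that is an algebra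
homomorphism. Then the ring of invariants (the elements f with coaction f ⊗ 1) is an integrally
closed domain. (The published statement is for a finite group scheme acting on a normal scheme whose
quotient is, locally, the spectrum of the ring of invariants; this row is the affine integral case
and allows any commutative bialgebra flat over k, flatness being automatic over a field.) -/
theorem result (k : Type u) [CommRing k]
    (A : Type v) [CommRing A] [Bialgebra k A] [Module.Flat k A]
    (R : Type w) [CommRing R] [Algebra k R] [IsDomain R] [IsIntegrallyClosed R]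
    [HopfRep.Comod k A R] [GLin.IsCoactAlg k A R] :
    IsIntegrallyClosed (GLin.invariants k A R) := by
  rw [isIntegrallyClosed_iff (FractionRing (GLin.invariants k A R))]
  intro x hx
  have hinj : Function.Injective ((algebraMap R (FractionRing R)).comp
      (algebraMap (GLin.invariants k A R) R)) :=
    (IsFractionRing.injective R (FractionRing R)).comp Subtype.val_injective
  let φ : FractionRing (GLin.invariants k A R) →+* FractionRing R := IsFractionRing.lift hinj
  have hφ : ∀ s : GLin.invariants k A R, φ (algebraMap _ _ s) = algebraMap R (FractionRing R) s :=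
    fun s => IsFractionRing.lift_algebraMap hinj s
  have hint : IsIntegral R (φ x) := by
    refine IsIntegral.map_of_comp_eq (algebraMap (GLin.invariants k A R) R) φ ?_ hx
    ext s
    rw [RingHom.comp_apply, RingHom.comp_apply, hφ]
    rfl
  obtain ⟨r, hr⟩ := (isIntegrallyClosed_iff (FractionRing R)).mp inferInstance hint
  obtain ⟨a, b, hb, rfl⟩ := IsFractionRing.div_surjective (A := GLin.invariants k A R) x
  have hb0 : (b : R) ≠ 0 := by
    intro h
    have : b = 0 := Subtype.ext h
    exact (nonZeroDivisors.ne_zero hb) this
  have hrb : r * (b : R) = (a : R) := by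
    apply IsFractionRing.injective R (FractionRing R)
    rw [map_mul, hr, map_div₀, hφ, hφ]
    have : algebraMap R (FractionRing R) (b : R) ≠ 0 := by
      rw [Ne, map_eq_zero_iff _ (IsFractionRing.injective R (FractionRing R))]
      exact hb0
    field_simp
  have hrmem : r ∈ GLin.invariants k A R := by
    rw [GLin.mem_invariants_iff]
    have ha := (GLin.mem_invariants_iff k A R (a : R)).mp a.2
    have hb' := (GLin.mem_invariants_iff k A R (b : R)).mp b.2
    have h1 : HopfRep.Comod.coact (k := k) (A := A) (r * (b : R)) =
        HopfRep.Comod.coact (k := k) (A := A) r * HopfRep.Comod.coact (k := k) (A := A) (b : R) :=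
      GLin.IsCoactAlg.coact_mul r b
    rw [hrb, ha, hb'] at h1
    have h2 : ((b : R) ⊗ₜ[k] (1 : A)) *
        (HopfRep.Comod.coact (k := k) (A := A) r - r ⊗ₜ[k] (1 : A)) = 0 := by
      rw [mul_sub, mul_comm, ← h1, Algebra.TensorProduct.tmul_mul_tmul, one_mul, mul_comm, hrb,
        sub_self]
    exact sub_eq_zero.mp (tmul_one_mul_injective k A R b hb0 _ h2)
  refine ⟨⟨r, hrmem⟩, ?_⟩
  have hb1 : algebraMap (GLin.invariants k A R) (FractionRing (GLin.invariants k A R)) b ≠ 0 := by
    rw [Ne, map_eq_zero_iff _ (IsFractionRing.injective _ _)]
    exact nonZeroDivisors.ne_zero hb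
  rw [eq_div_iff hb1, ← map_mul]
  congr 1
  exact Subtype.ext hrb

end Groth.Agent.S13124
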