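import Groth.Statements.S13125

set_option autoImplicit false
universe u v
open KumFam

namespace Groth.Agent.S13125

open DirectSum

section aux

variable {ι : Type u} [DecidableEq ι] [AddMonoid ι]
  {A : Type v} [CommRing A] (𝒜 : ι → AddSubgroup A) [GradedRing 𝒜] (I : Ideal A)

/-- The quotient map as an additive map. -/
def mkAdd : A →+ A ⧸ I := (Ideal.Quotient.mk I : A →+* A ⧸ I).toAddMonoidHom

theorem mkAdd_apply (a : A) : mkAdd I a = Ideal.Quotient.mk I a := rfl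

variable (ℬ : ι → AddSubgroup (A ⧸ I)) (h : ∀ i, (𝒜 i).map (mkAdd I) ≤ ℬ i)

/-- component maps -/
def comp (i : ι) : 𝒜 i →+ ℬ i :=
  AddMonoidHom.codRestrict ((mkAdd I).comp (𝒜 i).subtype) (ℬ i)
    (fun x => h i ⟨x, x.2, rfl⟩)

theorem comp_coe (i : ι) (x : 𝒜 i) : ((comp 𝒜 I ℬ h i x : ℬ i) : A ⧸ I) = mkAdd I x := rfl

/-- the induced map on direct sums -/
def Phi : (⨁ i, 𝒜 i) →+ ⨁ i, ℬ i := DirectSum.map (comp 𝒜 I ℬ h)

theorem coe_Phi (x : ⨁ i, 𝒜 i) :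
    DirectSum.coeAddMonoidHom ℬ (Phi 𝒜 I ℬ h x) = mkAdd I (DirectSum.coeAddMonoidHom 𝒜 x) := by
  have : (DirectSum.coeAddMonoidHom ℬ).comp (Phi 𝒜 I ℬ h) =
      (mkAdd I).comp (DirectSum.coeAddMonoidHom 𝒜) := by
    apply DirectSum.addHom_ext
    intro i y
    simp only [AddMonoidHom.comp_apply, Phi, DirectSum.map_of, DirectSum.coeAddMonoidHom_of,
      comp_coe]
  exact DFunLike.congr_fun this x

/-- the map `A → ⨁ ℬ i` -/
def D : A →+ ⨁ i, ℬ i := (Phi 𝒜 I ℬ h).comp (DirectSum.decomposeAddEquiv 𝒜).toAddMonoidHom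

theorem coe_D (a : A) : DirectSum.coeAddMonoidHom ℬ (D 𝒜 I ℬ h a) = mkAdd I a := by
  show DirectSum.coeAddMonoidHom ℬ (Phi 𝒜 I ℬ h (DirectSum.decompose 𝒜 a)) = _
  rw [coe_Phi]
  congr 1
  exact (DirectSum.decomposeAddEquiv 𝒜).symm_apply_apply a

theorem D_of_mem {i : ι} {a : A} (ha : a ∈ 𝒜 i) :
    D 𝒜 I ℬ h a = DirectSum.of (fun i => ℬ i) i ⟨mkAdd I a, h i ⟨a, ha, rfl⟩⟩ := by
  show Phi 𝒜 I ℬ h (DirectSum.decompose 𝒜 a) = _
  rw [DirectSum.decompose_of_mem 𝒜 ha, Phi, DirectSum.map_of]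
  rfl

theorem D_apply (a : A) (i : ι) :
    ((D 𝒜 I ℬ h a) i : A ⧸ I) = mkAdd I (DirectSum.decompose 𝒜 a i : A) := by
  show ((DirectSum.map (comp 𝒜 I ℬ h) (DirectSum.decompose 𝒜 a)) i : A ⧸ I) = _
  rw [DirectSum.map_apply]
  rfl

end aux

section forward

variable {ι : Type u} [DecidableEq ι] [AddMonoid ι]
  {A : Type v} [CommRing A] (𝒜 : ι → AddSubgroup A) [GradedRing 𝒜] (I : Ideal A)

theorem D_mem_ker (hI : I.IsHomogeneous 𝒜) (a : A) (ha : a ∈ I) :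
    D 𝒜 I (fun i => (𝒜 i).map (mkAdd I)) (fun _ => le_rfl) a = 0 := by
  apply DFinsupp.ext
  intro i
  apply Subtype.ext
  rw [D_apply]
  show Ideal.Quotient.mk I _ = 0
  rw [Ideal.Quotient.eq_zero_iff_mem]
  exact hI i ha

/-- decomposition map on the quotient -/
def dec (hI : I.IsHomogeneous 𝒜) : A ⧸ I →+ ⨁ i, ((𝒜 i).map (mkAdd I) : AddSubgroup (A ⧸ I)) :=
  QuotientAddGroup.lift I.toAddSubgroup
    (D 𝒜 I (fun i => (𝒜 i).map (mkAdd I)) (fun _ => le_rfl))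
    (fun a ha => D_mem_ker 𝒜 I hI a ha)

theorem dec_mk (hI : I.IsHomogeneous 𝒜) (a : A) :
    dec 𝒜 I hI (Ideal.Quotient.mk I a) =
      D 𝒜 I (fun i => (𝒜 i).map (mkAdd I)) (fun _ => le_rfl) a := rfl

def gradedRingQuot (hI : I.IsHomogeneous 𝒜) :
    GradedRing (fun i => ((𝒜 i).map (mkAdd I) : AddSubgroup (A ⧸ I))) where
  one_mem := ⟨1, SetLike.GradedOne.one_mem, rfl⟩
  mul_mem := by
    rintro i j _ _ ⟨a, ha, rfl⟩ ⟨b, hb, rfl⟩
    exact ⟨a * b, SetLike.GradedMul.mul_mem ha hb, map_mul (Ideal.Quotient.mk I) a b⟩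
  decompose' := dec 𝒜 I hI
  left_inv := by
    intro x
    obtain ⟨a, rfl⟩ := Ideal.Quotient.mk_surjective x
    rw [dec_mk, coe_D]
    rfl
  right_inv := by
    intro y
    induction y using DirectSum.induction_on with
    | zero => simp
    | of i x =>
      obtain ⟨_, a, ha, rfl⟩ := x
      rw [DirectSum.coeAddMonoidHom_of]
      show dec 𝒜 I hI (Ideal.Quotient.mk I a) = _
      rw [dec_mk, D_of_mem 𝒜 I _ _ ha]
    | add x y hx hy =>
      rw [map_add, map_add, hx, hy]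

end forward

/-- Let A be a commutative ring graded by an additive monoid ι (an abelian group in the published
statement) through additive subgroups 𝒜 i, and I an ideal of A. Then I is a homogeneous ideal if and
only if A/I carries a structure of ι-graded ring ℬ for which the quotient map sends 𝒜 i into ℬ i for
all i. -/
theorem result (ι : Type u) [DecidableEq ι] [AddMonoid ι]
    (A : Type v) [CommRing A] (𝒜 : ι → AddSubgroup A) [GradedRing 𝒜] (I : Ideal A) :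
    I.IsHomogeneous 𝒜 ↔
      ∃ ℬ : ι → AddSubgroup (A ⧸ I), Nonempty (GradedRing ℬ) ∧
        ∀ i : ι, (𝒜 i).map (Ideal.Quotient.mk I : A →+ A ⧸ I) ≤ ℬ i := by
  constructor
  · intro hI
    exact ⟨fun i => (𝒜 i).map (mkAdd I), ⟨gradedRingQuot 𝒜 I hI⟩, fun _ => le_rfl⟩
  · rintro ⟨ℬ, ⟨hℬ⟩, h⟩
    intro i r hr
    have h' : ∀ i, (𝒜 i).map (mkAdd I) ≤ ℬ i := h
    have h1 : DirectSum.decompose ℬ (Ideal.Quotient.mk I r) = D 𝒜 I ℬ h' r := by
      apply (DirectSum.decomposeAddEquiv ℬ).symm.injective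
      show (DirectSum.decomposeAddEquiv ℬ).symm ((DirectSum.decomposeAddEquiv ℬ) _) =
        DirectSum.coeAddMonoidHom ℬ (D 𝒜 I ℬ h' r)
      rw [AddEquiv.symm_apply_apply, coe_D]
      rfl
    have h2 : Ideal.Quotient.mk I r = 0 := Ideal.Quotient.eq_zero_iff_mem.mpr hr
    rw [h2, DirectSum.decompose_zero] at h1
    have h3 := D_apply 𝒜 I ℬ h' r i
    rw [← h1] at h3
    rw [← Ideal.Quotient.eq_zero_iff_mem]
    exact h3.symm

end Groth.Agent.S13125
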