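import Groth.Statements.S13126
import Mathlib.Algebra.Polynomial.RingDivision
import Mathlib.Algebra.Polynomial.Roots
import Mathlib.RingTheory.Coprime.Lemmas

set_option autoImplicit false
universe u
open KumFam

namespace Groth.Agent.S13126

open Polynomial

section aux

variable {R : Type u} [CommRing R] {ι : Type} [Fintype ι] [DecidableEq ι] (a : ι → R)

theorem pi_surjective (hu : ∀ i j, i ≠ j → IsUnit (a i - a j)) :
    Function.Surjective (AlgHom.pi (fun i : ι => Polynomial.aeval (R := R) (a i))) := by
  intro r
  have hprod : ∀ i, IsUnit (∏ j ∈ Finset.univ.erase i, (a i - a j)) := by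
    intro i
    rw [IsUnit.prod_iff]
    intro j hj
    exact hu i j (Finset.ne_of_mem_erase hj).symm
  choose u hu' using fun i => (hprod i).exists_right_inv
  let e : ι → R[X] := fun i => C (r i * u i) * ∏ j ∈ Finset.univ.erase i, (X - C (a j))
  refine ⟨∑ i, e i, ?_⟩
  funext k
  show (Polynomial.aeval (a k)) (∑ i, e i) = r k
  rw [map_sum, Finset.sum_eq_single k]
  · simp only [e, map_mul, aeval_C, map_prod, map_sub, aeval_X, Algebra.algebraMap_self,
      RingHom.id_apply]
    rw [mul_assoc, mul_comm (u k), hu' k, mul_one]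
  · intro i _ hik
    simp only [e, map_mul, map_prod, map_sub, aeval_X, aeval_C, Algebra.algebraMap_self,
      RingHom.id_apply]
    rw [Finset.prod_eq_zero (i := k) (Finset.mem_erase.mpr ⟨hik.symm, Finset.mem_univ k⟩)
      (sub_self _), mul_zero]
  · intro h
    exact absurd (Finset.mem_univ k) h

theorem pi_ker (hu : ∀ i j, i ≠ j → IsUnit (a i - a j)) :
    RingHom.ker (AlgHom.pi (fun i : ι => Polynomial.aeval (R := R) (a i))) =
      Ideal.span {∏ i, (X - C (a i))} := by
  ext f
  rw [RingHom.mem_ker, Ideal.mem_span_singleton]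
  constructor
  · intro hf
    apply Finset.prod_dvd_of_coprime
    · intro i _ j _ hij
      exact isCoprime_X_sub_C_of_isUnit_sub (hu i j hij)
    · intro i _
      rw [dvd_iff_isRoot]
      have := congrFun hf i
      simpa [IsRoot, aeval_def, eval₂_eq_eval_map] using this
  · rintro ⟨g, rfl⟩
    funext k
    show (Polynomial.aeval (a k)) ((∏ i, (X - C (a i))) * g) = 0
    rw [map_mul, map_prod, Finset.prod_eq_zero (i := k) (Finset.mem_univ k) (by simp), zero_mul]

end aux

/-- Let R be a commutative ring, n a natural number which is a unit in R, and ζ ∈ R with ζ^n = 1 and 1 −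
ζ^i a unit for 0 < i < n (a primitive n-th root of unity in the fibrewise sense: the powers ζ^0, …,
ζ^(n−1) are roots of X^n − 1 with pairwise unit differences; over an integral domain in which n is a
unit this is the same as ζ having multiplicative order n). Then the R-algebra homomorphism R[X] →
(Fin n → R) sending a polynomial to its values at ζ^0, …, ζ^(n−1) is surjective and its kernel is
the ideal generated by X^n − 1; hence R[X]/(X^n − 1) ≅ R^n as R-algebras, i.e. the scheme of n-th
roots of unity over Spec R is the disjoint union of n copies of Spec R. (The published statement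
asks that R contain a primitive n-th root of unity without defining the term; its Chinese-remainder
argument uses that the ideals (X − ζ^i), i < n, are pairwise comaximal, which is the unit-difference
condition taken as the hypothesis here, whereas under the reading 'ζ has multiplicative order n'
alone the surjectivity fails over a product of two fields. The published statement also asserts that
the isomorphism respects the group-scheme structures of the n-th roots of unity and of the constant
group ℤ/n; this row does not state that.) -/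
theorem result (R : Type u) [CommRing R]
    (n : ℕ) (hn : IsUnit (n : R)) (ζ : R) (hζ : ζ ^ n = 1)
    (hprim : ∀ i : ℕ, 0 < i → i < n → IsUnit (1 - ζ ^ i)) :
    Function.Surjective (AlgHom.pi (fun i : Fin n => Polynomial.aeval (R := R) (ζ ^ (i : ℕ)))) ∧
      RingHom.ker (AlgHom.pi (fun i : Fin n => Polynomial.aeval (R := R) (ζ ^ (i : ℕ)))) =
        Ideal.span {(X ^ n - 1 : R[X])} := by
  rcases Nat.eq_zero_or_pos n with rfl | hpos
  · have hsub : Subsingleton R := by
      rw [Nat.cast_zero] at hn
      exact subsingleton_of_zero_eq_one (isUnit_zero_iff.mp hn)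
    refine ⟨fun r => ⟨0, Subsingleton.elim _ _⟩, Subsingleton.elim _ _⟩
  have hζu : IsUnit ζ := by
    apply IsUnit.of_mul_eq_one (ζ ^ (n - 1))
    rw [← pow_succ', Nat.sub_add_cancel hpos, hζ]
  have hlt : ∀ i j : ℕ, i < j → j < n → IsUnit (ζ ^ i - ζ ^ j) := by
    intro i j hij hjn
    have e : ζ ^ i - ζ ^ j = ζ ^ i * (1 - ζ ^ (j - i)) := by
      rw [mul_sub, mul_one, ← pow_add, Nat.add_sub_cancel' hij.le]
    rw [e]
    exact (hζu.pow i).mul (hprim (j - i) (Nat.sub_pos_of_lt hij) (lt_of_le_of_lt (Nat.sub_le _ _) hjn))
  have hu : ∀ i j : Fin n, i ≠ j → IsUnit (ζ ^ (i : ℕ) - ζ ^ (j : ℕ)) := by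
    intro i j hij
    rcases lt_or_gt_of_ne (fun h => hij (Fin.ext h) : (i : ℕ) ≠ j) with h | h
    · exact hlt i j h j.2
    · have := hlt j i h i.2
      rw [← neg_sub]
      exact this.neg
  refine ⟨pi_surjective (fun i : Fin n => ζ ^ (i : ℕ)) hu, ?_⟩
  rw [pi_ker (fun i : Fin n => ζ ^ (i : ℕ)) hu]
  congr 2
  rcases subsingleton_or_nontrivial R with hsub | hnt
  · exact Subsingleton.elim _ _
  have hmem : (X ^ n - 1 : R[X]) ∈
      RingHom.ker (AlgHom.pi (fun i : Fin n => Polynomial.aeval (R := R) (ζ ^ (i : ℕ)))) := by
    rw [RingHom.mem_ker]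
    funext k
    show (Polynomial.aeval (ζ ^ (k : ℕ))) (X ^ n - 1 : R[X]) = 0
    rw [map_sub, map_pow, aeval_X, map_one, ← pow_mul, mul_comm, pow_mul, hζ, one_pow, sub_self]
  rw [pi_ker (fun i : Fin n => ζ ^ (i : ℕ)) hu, Ideal.mem_span_singleton] at hmem
  have hmon : (∏ i : Fin n, (X - C (ζ ^ (i : ℕ))) : R[X]).Monic :=
    monic_prod_of_monic _ _ (fun i _ => monic_X_sub_C _)
  have hmon' : (X ^ n - 1 : R[X]).Monic := by
    have := monic_X_pow_sub_C (1 : R) hpos.ne'
    rwa [map_one] at this
  have hdeg : (X ^ n - 1 : R[X]).natDegree ≤ (∏ i : Fin n, (X - C (ζ ^ (i : ℕ))) : R[X]).natDegree := by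
    rw [natDegree_finsetProd_X_sub_C_eq_card, Finset.card_univ, Fintype.card_fin]
    have := natDegree_X_pow_sub_C (R := R) (n := n) (r := 1)
    rw [map_one] at this
    rw [this]
  exact (eq_of_monic_of_dvd_of_natDegree_le hmon hmon' hmem hdeg).symm

end Groth.Agent.S13126
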