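import Groth.Statements.S13127
import Groth.Agent.Lib.Helper99.PSInv
import Mathlib.Algebra.CharP.Two
import Mathlib.RingTheory.AdicCompletion.Completeness
import Mathlib.RingTheory.Henselian
import Mathlib.Tactic

set_option autoImplicit false
universe u
open KumFam

namespace Groth.Agent.S13127

open Groth.Agent.Lib.Helper99.PSInv

section helpers
open MvPowerSeries

variable {R : Type u} [CommRing R]

theorem two_eq_zero_P3 [CharP R 2] : (2 : MvPowerSeries (Fin 3) R) = 0 := by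
  have : (2 : MvPowerSeries (Fin 3) R) = C (2 : R) := (map_ofNat C 2).symm
  rw [this, CharTwo.two_eq_zero, map_zero]

/-- cube roots of `1 + X i * q` in characteristic 2, by Hensel's lemma. -/
theorem exists_cube_root [CharP R 2] (i : Fin 3) (q : MvPowerSeries (Fin 3) R) :
    ∃ y : MvPowerSeries (Fin 3) R, y ^ 3 = 1 + X i * q ∧ constantCoeff y = 1 := by
  let I : Ideal (MvPowerSeries (Fin 3) R) := Ideal.span (Set.range X)
  have hI : ∀ z ∈ I, constantCoeff z = 0 := by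
    intro z hz
    have : I ≤ RingHom.ker (constantCoeff (σ := Fin 3) (R := R)) := by
      rw [Ideal.span_le]
      rintro _ ⟨j, rfl⟩
      exact constantCoeff_X j
    exact this hz
  have h3 : (3 : MvPowerSeries (Fin 3) R) = 1 := by
    have := two_eq_zero_P3 (R := R)
    linear_combination this
  let f : Polynomial (MvPowerSeries (Fin 3) R) := Polynomial.X ^ 3 - Polynomial.C (1 + X i * q)
  have hf : f.Monic := Polynomial.monic_X_pow_sub_C _ (by norm_num)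
  have h1 : f.eval 1 ∈ I := by
    have : f.eval 1 = -(X i * q) := by simp [f]
    rw [this]
    exact I.neg_mem (I.mul_mem_right _ (Ideal.subset_span ⟨i, rfl⟩))
  have h2 : IsUnit (Ideal.Quotient.mk I (f.derivative.eval 1)) := by
    have : f.derivative.eval 1 = 3 := by
      simp [f]
      norm_num
    rw [this, h3, map_one]
    exact isUnit_one
  obtain ⟨y, hy, hy1⟩ := HenselianRing.is_henselian (I := I) f hf 1 h1 h2
  refine ⟨y, ?_, ?_⟩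
  · have : f.eval y = 0 := hy
    simp only [f, Polynomial.eval_sub, Polynomial.eval_pow, Polynomial.eval_X,
      Polynomial.eval_C] at this
    exact sub_eq_zero.1 this
  · have := hI _ hy1
    rw [map_sub, map_one, sub_eq_zero] at this
    exact this

theorem isUnit_of_mul_pow_eq {a k b : R} (hb : IsUnit b) (h : a ^ 2 * k ^ 3 = b ^ 2) : IsUnit k := by
  have h1 : IsUnit (a ^ 2 * k ^ 3) := by rw [h]; exact hb.pow 2
  have h2 : IsUnit (k ^ 3) := isUnit_of_mul_isUnit_right h1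
  exact (isUnit_pow_iff (by norm_num)).1 h2

theorem main (R : Type u) [CommRing R] [CharP R 2]
    (l0 l2 l4 s0 s2 s4 τ lam sig κ₁ κ₂ : R) (hl4 : IsUnit l4) (hs4 : IsUnit s4) (hlam : IsUnit lam)
    (hsig : IsUnit sig) (h₁ : s4 ^ 2 * κ₁ ^ 3 = sig ^ 2) (h₂ : l4 ^ 2 * κ₂ ^ 3 = lam ^ 2) :
    ∃ φ : MvPowerSeries (Fin 3) R ≃ₐ[R] MvPowerSeries (Fin 3) R,
      φ ((X 2 ^ 2 + C (s0 ^ 2) * X 0 ^ 3 * X 1 ^ 4 + C (s2 ^ 2) * X 0 ^ 3 * X 1 ^ 2 +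
          C (s4 ^ 2) * X 0 ^ 3 + C (l0 ^ 2) * X 0 ^ 4 * X 1 ^ 3 + C (l2 ^ 2) * X 0 ^ 2 * X 1 ^ 3 +
          C (l4 ^ 2) * X 1 ^ 3 + C (τ ^ 2) * X 0 ^ 3 * X 1 ^ 3 : MvPowerSeries (Fin 3) R)) =
        (X 2 ^ 2 + C (sig ^ 2) * X 0 ^ 3 + C (lam ^ 2) * X 1 ^ 3 : MvPowerSeries (Fin 3) R) := by
  have hκ₁ : IsUnit κ₁ := isUnit_of_mul_pow_eq hsig h₁
  have hκ₂ : IsUnit κ₂ := isUnit_of_mul_pow_eq hlam h₂
  obtain ⟨k1u, rfl⟩ := hκ₁
  obtain ⟨k2u, rfl⟩ := hκ₂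
  obtain ⟨s4u, rfl⟩ := hs4
  obtain ⟨l4u, rfl⟩ := hl4
  have hk1 : (k1u : R) * ((k1u⁻¹ : Rˣ) : R) = 1 := Units.mul_inv k1u
  have hk2 : (k2u : R) * ((k2u⁻¹ : Rˣ) : R) = 1 := Units.mul_inv k2u
  have hs4i : (s4u : R) * ((s4u⁻¹ : Rˣ) : R) = 1 := Units.mul_inv s4u
  have hl4i : (l4u : R) * ((l4u⁻¹ : Rˣ) : R) = 1 := Units.mul_inv l4u
  -- cube roots
  obtain ⟨y₁, hy₁, hy₁c⟩ := exists_cube_root (R := R) 1
    (C (((s4u⁻¹ : Rˣ) : R) ^ 2) * (C (s2 ^ 2) * X 1 + C (s0 ^ 2) * X 1 ^ 3 + C (τ ^ 2) * X 1 ^ 2))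
  obtain ⟨y₂, hy₂, hy₂c⟩ := exists_cube_root (R := R) 0
    (C (((l4u⁻¹ : Rˣ) : R) ^ 2) * (C (l2 ^ 2) * X 0 + C (l0 ^ 2) * X 0 ^ 3))
  -- the substitution
  have hD := scaleBy_isDiagUnit ![k1u⁻¹, k2u⁻¹, 1]
    ![C (((k1u⁻¹ : Rˣ) : R)) * y₁, C (((k2u⁻¹ : Rˣ) : R)) * y₂, 1] (by
      intro i
      fin_cases i
      · show constantCoeff (C (((k1u⁻¹ : Rˣ) : R)) * y₁) = ((k1u⁻¹ : Rˣ) : R)
        rw [map_mul, hy₁c, constantCoeff_C, mul_one]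
      · show constantCoeff (C (((k2u⁻¹ : Rˣ) : R)) * y₂) = ((k2u⁻¹ : Rˣ) : R)
        rw [map_mul, hy₂c, constantCoeff_C, mul_one]
      · show constantCoeff (1 : MvPowerSeries (Fin 3) R) = ((1 : Rˣ) : R)
        simp)
  have hA := hD.hasSubst
  refine ⟨hD.algEquiv.symm, ?_⟩
  rw [AlgEquiv.symm_apply_eq, IsDiagUnit.algEquiv_apply]
  simp only [subst_add hA, subst_mul hA, subst_pow hA, subst_C, subst_X hA, scaleBy_apply]
  show _ = (X 2 * 1) ^ 2 + C (sig ^ 2) * (X 0 * (C (((k1u⁻¹ : Rˣ) : R)) * y₁)) ^ 3 +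
    C (lam ^ 2) * (X 1 * (C (((k2u⁻¹ : Rˣ) : R)) * y₂)) ^ 3
  generalize ((k1u⁻¹ : Rˣ) : R) = k1i at *
  generalize ((k2u⁻¹ : Rˣ) : R) = k2i at *
  generalize ((s4u⁻¹ : Rˣ) : R) = s4i at *
  generalize ((l4u⁻¹ : Rˣ) : R) = l4i at *
  -- scalar identities
  have e1 : sig ^ 2 * k1i ^ 3 = (s4u : R) ^ 2 := by
    linear_combination (-k1i ^ 3) * h₁ +
      (s4u : R) ^ 2 * (((k1u : R) * k1i) ^ 2 + (k1u : R) * k1i + 1) * hk1
  have e2 : lam ^ 2 * k2i ^ 3 = (l4u : R) ^ 2 := by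
    linear_combination (-k2i ^ 3) * h₂ +
      (l4u : R) ^ 2 * (((k2u : R) * k2i) ^ 2 + (k2u : R) * k2i + 1) * hk2
  have e3 : (s4u : R) ^ 2 * s4i ^ 2 = 1 := by
    linear_combination ((s4u : R) * s4i + 1) * hs4i
  have e4 : (l4u : R) ^ 2 * l4i ^ 2 = 1 := by
    linear_combination ((l4u : R) * l4i + 1) * hl4i
  have E1 : (C (sig ^ 2) * C k1i ^ 3 : MvPowerSeries (Fin 3) R) = C ((s4u : R) ^ 2) := by
    rw [← map_pow, ← map_mul, e1]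
  have E2 : (C (lam ^ 2) * C k2i ^ 3 : MvPowerSeries (Fin 3) R) = C ((l4u : R) ^ 2) := by
    rw [← map_pow, ← map_mul, e2]
  have E3 : (C ((s4u : R) ^ 2) * C (s4i ^ 2) : MvPowerSeries (Fin 3) R) = 1 := by
    rw [← map_mul, e3, map_one]
  have E4 : (C ((l4u : R) ^ 2) * C (l4i ^ 2) : MvPowerSeries (Fin 3) R) = 1 := by
    rw [← map_mul, e4, map_one]
  linear_combination
    (-(X 0 ^ 3 * (C (sig ^ 2) * C k1i ^ 3))) * hy₁ +
    (-(X 1 ^ 3 * (C (lam ^ 2) * C k2i ^ 3))) * hy₂ +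
    (-(X 0 ^ 3 * (1 + X 1 * (C (s4i ^ 2) * (C (s2 ^ 2) * X 1 + C (s0 ^ 2) * X 1 ^ 3 + C (τ ^ 2) * X 1 ^ 2))))) * E1 +
    (-(X 1 ^ 3 * (1 + X 0 * (C (l4i ^ 2) * (C (l2 ^ 2) * X 0 + C (l0 ^ 2) * X 0 ^ 3))))) * E2 +
    (-(X 0 ^ 3 * X 1 * (C (s2 ^ 2) * X 1 + C (s0 ^ 2) * X 1 ^ 3 + C (τ ^ 2) * X 1 ^ 2))) * E3 +
    (-(X 0 * X 1 ^ 3 * (C (l2 ^ 2) * X 0 + C (l0 ^ 2) * X 0 ^ 3))) * E4

end helpers

open MvPowerSeries in
/-- Let R be a commutative ring of characteristic 2 and l0, l2, l4, s0, s2, s4, τ, lam, sig ∈ R with l4,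
s4, lam, sig units, and let κ₁, κ₂ ∈ R satisfy s4² κ₁³ = sig² and l4² κ₂³ = lam² (cube roots of
sig²/s4² and lam²/l4²). In the power series ring R[[a, b, c]] (a = X 0, b = X 1, c = X 2) put F = c²
+ s0² a³ b⁴ + s2² a³ b² + s4² a³ + l0² a⁴ b³ + l2² a² b³ + l4² b³ + τ² a³ b³ and F₀ = c² + sig² a³ +
lam² b³. Then some R-algebra automorphism of R[[a, b, c]] maps F to F₀; consequently R[[a, b,
c]]/(F) ≅ R[[a, b, c]]/(F₀). (In the published statement lam, sig are the representatives in the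
ground field of the residues of l4, s4 at a rational point, so that F₀ is the equation of the
special fibre made constant; this row takes them to be arbitrary units.) -/
theorem result (R : Type u) [CommRing R] [CharP R 2]
    (l0 l2 l4 s0 s2 s4 τ lam sig κ₁ κ₂ : R) (hl4 : IsUnit l4) (hs4 : IsUnit s4) (hlam : IsUnit lam)
    (hsig : IsUnit sig) (h₁ : s4 ^ 2 * κ₁ ^ 3 = sig ^ 2) (h₂ : l4 ^ 2 * κ₂ ^ 3 = lam ^ 2) :
    ∃ φ : MvPowerSeries (Fin 3) R ≃ₐ[R] MvPowerSeries (Fin 3) R,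
      φ ((X 2 ^ 2 + C (s0 ^ 2) * X 0 ^ 3 * X 1 ^ 4 + C (s2 ^ 2) * X 0 ^ 3 * X 1 ^ 2 +
          C (s4 ^ 2) * X 0 ^ 3 + C (l0 ^ 2) * X 0 ^ 4 * X 1 ^ 3 + C (l2 ^ 2) * X 0 ^ 2 * X 1 ^ 3 +
          C (l4 ^ 2) * X 1 ^ 3 + C (τ ^ 2) * X 0 ^ 3 * X 1 ^ 3 : MvPowerSeries (Fin 3) R)) =
        (X 2 ^ 2 + C (sig ^ 2) * X 0 ^ 3 + C (lam ^ 2) * X 1 ^ 3 : MvPowerSeries (Fin 3) R) :=
  main R l0 l2 l4 s0 s2 s4 τ lam sig κ₁ κ₂ hl4 hs4 hlam hsig h₁ h₂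

end Groth.Agent.S13127
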