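import Groth.Statements.S13128
import Groth.Agent.Lib.Helper99.PSInv
import Mathlib.Algebra.CharP.Two
import Mathlib.Tactic

set_option autoImplicit false
universe u
open KumFam

namespace Groth.Agent.S13128

open Groth.Agent.Lib.Helper99.PSInv

section helpers
open MvPowerSeries

variable {R : Type u} [CommRing R]

theorem two_eq_zero_P3 [CharP R 2] : (2 : MvPowerSeries (Fin 3) R) = 0 := by
  have : (2 : MvPowerSeries (Fin 3) R) = C (2 : R) := (map_ofNat C 2).symm
  rw [this, CharTwo.two_eq_zero, map_zero]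

theorem one_le_order_X (i : Fin 3) : (1 : ℕ∞) ≤ (X i : MvPowerSeries (Fin 3) R).order :=
  one_le_order_iff_constCoeff_eq_zero.2 (constantCoeff_X i)

/-- the shear `c ↦ c + P` -/
noncomputable def shear (P : MvPowerSeries (Fin 3) R) : Fin 3 → MvPowerSeries (Fin 3) R :=
  ![X 0, X 1, X 2 + P]

theorem shear_hasSubst (P : MvPowerSeries (Fin 3) R) (hP : constantCoeff P = 0) :
    HasSubst (shear P) := by
  apply hasSubst_of_constantCoeff_zero
  intro i
  fin_cases i <;> simp [shear, hP]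

@[simp] theorem shear_zero (P : MvPowerSeries (Fin 3) R) : shear P 0 = X 0 := rfl
@[simp] theorem shear_one (P : MvPowerSeries (Fin 3) R) : shear P 1 = X 1 := rfl
@[simp] theorem shear_two (P : MvPowerSeries (Fin 3) R) : shear P 2 = X 2 + P := rfl

theorem shear_shear [CharP R 2] (P : MvPowerSeries (Fin 3) R) (hP : constantCoeff P = 0)
    (hPP : subst (shear P) P = P) (f : MvPowerSeries (Fin 3) R) :
    subst (shear P) (subst (shear P) f) = f := by
  have hB := shear_hasSubst P hP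
  rw [subst_comp_subst_apply hB hB]
  have : (fun s => subst (shear P) (shear P s)) = (X : Fin 3 → MvPowerSeries (Fin 3) R) := by
    funext s
    fin_cases s
    · show subst (shear P) (shear P 0) = X 0
      rw [shear_zero, subst_X hB, shear_zero]
    · show subst (shear P) (shear P 1) = X 1
      rw [shear_one, subst_X hB, shear_one]
    · show subst (shear P) (shear P 2) = X 2
      rw [shear_two, subst_add hB, subst_X hB, shear_two, hPP, add_assoc, ← two_mul,
        two_eq_zero_P3, zero_mul, add_zero]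
  rw [this, subst_self]
  rfl

/-- the shear as an algebra automorphism -/
noncomputable def shearEquiv [CharP R 2] (P : MvPowerSeries (Fin 3) R) (hP : constantCoeff P = 0)
    (hPP : subst (shear P) P = P) : MvPowerSeries (Fin 3) R ≃ₐ[R] MvPowerSeries (Fin 3) R :=
  AlgEquiv.ofAlgHom (substAlgHom (shear_hasSubst P hP)) (substAlgHom (shear_hasSubst P hP))
    (by ext f; simp only [AlgHom.comp_apply, substAlgHom_apply, AlgHom.id_apply]
        rw [shear_shear P hP hPP])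
    (by ext f; simp only [AlgHom.comp_apply, substAlgHom_apply, AlgHom.id_apply]
        rw [shear_shear P hP hPP])

theorem shearEquiv_apply [CharP R 2] (P : MvPowerSeries (Fin 3) R) (hP : constantCoeff P = 0)
    (hPP : subst (shear P) P = P) (f : MvPowerSeries (Fin 3) R) :
    shearEquiv P hP hPP f = subst (shear P) f := by
  simp [shearEquiv]

/-- the substitution `b ↦ b * u` -/
noncomputable def scaleB (u : MvPowerSeries (Fin 3) R) : Fin 3 → MvPowerSeries (Fin 3) R :=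
  ![X 0, X 1 * u, X 2]

@[simp] theorem scaleB_zero (u : MvPowerSeries (Fin 3) R) : scaleB u 0 = X 0 := rfl
@[simp] theorem scaleB_one (u : MvPowerSeries (Fin 3) R) : scaleB u 1 = X 1 * u := rfl
@[simp] theorem scaleB_two (u : MvPowerSeries (Fin 3) R) : scaleB u 2 = X 2 := rfl

theorem scaleB_isDiagUnit (t : Rˣ) (v : MvPowerSeries (Fin 3) R) (hv : constantCoeff v = 0) :
    IsDiagUnit ![1, t, 1] (scaleB (C (t : R) + v)) := by
  intro i
  fin_cases i
  · show (2 : ℕ∞) ≤ (scaleB (C (t : R) + v) 0 - (((1 : Rˣ) : R)) • (X 0 : MvPowerSeries (Fin 3) R)).order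
    simp
  · show (2 : ℕ∞) ≤ (scaleB (C (t : R) + v) 1 - ((t : R)) • (X 1 : MvPowerSeries (Fin 3) R)).order
    have : scaleB (C (t : R) + v) 1 - ((t : R)) • (X 1 : MvPowerSeries (Fin 3) R) = X 1 * v := by
      rw [scaleB_one, smul_eq_C_mul]
      ring
    rw [this]
    refine le_trans ?_ le_order_mul
    have h1 := one_le_order_X (R := R) 1
    have h2 : (1 : ℕ∞) ≤ v.order := one_le_order_iff_constCoeff_eq_zero.2 hv
    calc (2 : ℕ∞) = 1 + 1 := by norm_num
      _ ≤ _ := add_le_add h1 h2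
  · show (2 : ℕ∞) ≤ (scaleB (C (t : R) + v) 2 - (((1 : Rˣ) : R)) • (X 2 : MvPowerSeries (Fin 3) R)).order
    simp

theorem subst_shear_poly (P : MvPowerSeries (Fin 3) R) (hB : HasSubst (shear P))
    (k0 k1 k2 k3 : R) (n m : ℕ) :
    subst (shear P) (C k0 * X 0 ^ n + C k1 * X 0 + C k2 * X 1 ^ m + C k3 * X 1 :
      MvPowerSeries (Fin 3) R) =
      C k0 * X 0 ^ n + C k1 * X 0 + C k2 * X 1 ^ m + C k3 * X 1 := by
  simp only [subst_add hB, subst_mul hB, subst_pow hB, subst_C, subst_X hB, shear_zero, shear_one]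


theorem main (R : Type u) [CommRing R] [CharP R 2]
    (l0 l2 l4 s0 s2 s4 τ α β : R) (hτ : IsUnit τ)
    (hα : l4 ^ 2 * α ^ 4 + l2 ^ 2 * α ^ 2 + τ ^ 2 * α + l0 ^ 2 = 0)
    (hβ : s4 ^ 2 * β ^ 4 + s2 ^ 2 * β ^ 2 + τ ^ 2 * β + s0 ^ 2 = 0) :
    ∃ φ : MvPowerSeries (Fin 3) R ≃ₐ[R] MvPowerSeries (Fin 3) R,
      φ ((X 2 ^ 2 + C (τ ^ 2) * X 0 * X 1 + (C (s4 ^ 2) * X 1 ^ 4 + C (s2 ^ 2) * X 1 ^ 2) * X 0 +
          (C (l4 ^ 2) * X 0 ^ 4 + C (l2 ^ 2) * X 0 ^ 2) * X 1 + C (l4 ^ 2 * β) * X 0 ^ 4 +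
          C (l2 ^ 2 * β) * X 0 ^ 2 + C (s4 ^ 2 * α) * X 1 ^ 4 + C (s2 ^ 2 * α) * X 1 ^ 2 :
          MvPowerSeries (Fin 3) R)) =
        (X 2 ^ 2 + X 0 * X 1 : MvPowerSeries (Fin 3) R) := by
  obtain ⟨τu, rfl⟩ := hτ
  have hτti : (τu : R) * ((τu⁻¹ : Rˣ) : R) = 1 := Units.mul_inv τu
  generalize ((τu⁻¹ : Rˣ) : R) = ti at hτti
  have h2 : (2 : R) = 0 := CharTwo.two_eq_zero
  have hαsq : (ti * (l4 * α ^ 2 + l2 * α + l0)) ^ 2 = α := by
    linear_combination ti ^ 2 * hα - ((τu : R) * ti + 1) * α * hτti +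
      (ti ^ 2 * (l4 * l2 * α ^ 3 + l4 * l0 * α ^ 2 + l2 * l0 * α) - α) * h2
  have hβsq : (ti * (s4 * β ^ 2 + s2 * β + s0)) ^ 2 = β := by
    linear_combination ti ^ 2 * hβ - ((τu : R) * ti + 1) * β * hτti +
      (ti ^ 2 * (s4 * s2 * β ^ 3 + s4 * s0 * β ^ 2 + s2 * s0 * β) - β) * h2
  generalize ti * (l4 * α ^ 2 + l2 * α + l0) = α' at hαsq
  generalize ti * (s4 * β ^ 2 + s2 * β + s0) = β' at hβsq
  obtain ⟨P, hPdef⟩ : ∃ P : MvPowerSeries (Fin 3) R, P =
    C (l4 * β') * X 0 ^ 2 + C (l2 * β') * X 0 + C (s4 * α') * X 1 ^ 2 + C (s2 * α') * X 1 :=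
    ⟨_, rfl⟩
  obtain ⟨v, hvdef⟩ : ∃ v : MvPowerSeries (Fin 3) R, v =
    C (s4 ^ 2) * X 1 ^ 3 + C (s2 ^ 2) * X 1 + C (l4 ^ 2) * X 0 ^ 3 + C (l2 ^ 2) * X 0 :=
    ⟨_, rfl⟩
  have hP : constantCoeff P = 0 := by simp [hPdef]
  have hv : constantCoeff v = 0 := by simp [hvdef]
  have hB := shear_hasSubst P hP
  have hPP : subst (shear P) P = P :=
    (congrArg (subst (shear P)) hPdef).trans ((subst_shear_poly P hB _ _ _ _ 2 2).trans hPdef.symm)
  have hvv : subst (shear P) v = v := by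
    have e : v = C (l4 ^ 2) * X 0 ^ 3 + C (l2 ^ 2) * X 0 + C (s4 ^ 2) * X 1 ^ 3 + C (s2 ^ 2) * X 1 := by
      rw [hvdef]; ring
    exact (congrArg (subst (shear P)) e).trans ((subst_shear_poly P hB _ _ _ _ 3 3).trans e.symm)
  have hD := scaleB_isDiagUnit (τu ^ 2) v hv
  have hA := hD.hasSubst
  refine ⟨(shearEquiv P hP hPP).symm.trans hD.algEquiv.symm, ?_⟩
  rw [AlgEquiv.trans_apply, AlgEquiv.symm_apply_eq, AlgEquiv.symm_apply_eq,
    IsDiagUnit.algEquiv_apply, shearEquiv_apply]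
  rw [subst_add hA, subst_pow hA, subst_mul hA, subst_X hA, subst_X hA, subst_X hA, scaleB_zero,
    scaleB_one, scaleB_two]
  rw [subst_add hB, subst_pow hB, subst_mul hB, subst_mul hB, subst_add hB, subst_X hB, subst_X hB,
    subst_X hB, subst_C, hvv, shear_zero, shear_one, shear_two]
  have h2P := two_eq_zero_P3 (R := R)
  have hαC : (C α' : MvPowerSeries (Fin 3) R) ^ 2 = C α := by rw [← map_pow, hαsq]
  have hβC : (C β' : MvPowerSeries (Fin 3) R) ^ 2 = C β := by rw [← map_pow, hβsq]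
  rw [hPdef, hvdef]
  simp only [map_mul, map_pow, Units.val_pow_eq_pow_val]
  linear_combination (-(C l4 ^ 2 * X 0 ^ 4 + C l2 ^ 2 * X 0 ^ 2)) * hβC +
    (-(C s4 ^ 2 * X 1 ^ 4 + C s2 ^ 2 * X 1 ^ 2)) * hαC +
    (-(X 2 * (C l4 * C β' * X 0 ^ 2 + C l2 * C β' * X 0 + C s4 * C α' * X 1 ^ 2 + C s2 * C α' * X 1) +
      (C l4 * C β' * X 0 ^ 2) * (C l2 * C β' * X 0) + (C l4 * C β' * X 0 ^ 2) * (C s4 * C α' * X 1 ^ 2) +
      (C l4 * C β' * X 0 ^ 2) * (C s2 * C α' * X 1) + (C l2 * C β' * X 0) * (C s4 * C α' * X 1 ^ 2) +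
      (C l2 * C β' * X 0) * (C s2 * C α' * X 1) + (C s4 * C α' * X 1 ^ 2) * (C s2 * C α' * X 1))) * h2P

end helpers

open MvPowerSeries in
/-- Let R be a commutative ring of characteristic 2, l0, l2, l4, s0, s2, s4, τ ∈ R with τ a unit, and α,
β ∈ R with l4² α⁴ + l2² α² + τ² α + l0² = 0 and s4² β⁴ + s2² β² + τ² β + s0² = 0. In characteristic
2 these relations give τ² α = (l4 α² + l2 α + l0)² and τ² β = (s4 β² + s2 β + s0)², so α = α′² and β
= β′² with α′ = (l4 α² + l2 α + l0)/τ and β′ = (s4 β² + s2 β + s0)/τ. In R[[a, b, c]] (a = X 0, b =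
X 1, c = X 2) put h = c² + τ² a b + (s4² b⁴ + s2² b²) a + (l4² a⁴ + l2² a²) b + l4² β a⁴ + l2² β a²
+ s4² α b⁴ + s2² α b²; this is the chart equation c² + τ² a b + (s4² b⁴ + s2² b² + s0²) a + (l4² a⁴
+ l2² a² + l0²) b after the substitution a ↦ a + α, b ↦ b + β, c ↦ c + τ α′ β′, which moves the
point (α, β, τ α′ β′) of that surface, where all partial derivatives vanish, to the origin. Then
some R-algebra automorphism of R[[a, b, c]] maps h to c² + a b; consequently R[[a, b, c]]/(h) ≅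
R[[a, b, c]]/(c² + a b), the completed local ring of an ordinary double point, constant over R. (The
published statement translates only a and b, so that its h carries the additional constant term τ² α
β; with that term h is a unit of R[[a, b, c]] whenever τ α β is a unit, for instance c² + a b + 1
over the field with two elements with l0 = s0 = τ = α = β = 1 and l2 = l4 = s2 = s4 = 0, and no ring
automorphism carries a unit to c² + a b. The published proof begins by shifting c by a polynomial in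
a, b whose constant term is τ α′ β′, a substitution of the polynomial ring which removes the term τ²
α β, and the rest of its argument takes place in R[[a, b, c]]; this row states the result for the
fully translated equation, which is what that argument proves.) -/
theorem result (R : Type u) [CommRing R] [CharP R 2]
    (l0 l2 l4 s0 s2 s4 τ α β : R) (hτ : IsUnit τ)
    (hα : l4 ^ 2 * α ^ 4 + l2 ^ 2 * α ^ 2 + τ ^ 2 * α + l0 ^ 2 = 0)
    (hβ : s4 ^ 2 * β ^ 4 + s2 ^ 2 * β ^ 2 + τ ^ 2 * β + s0 ^ 2 = 0) :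
    ∃ φ : MvPowerSeries (Fin 3) R ≃ₐ[R] MvPowerSeries (Fin 3) R,
      φ ((X 2 ^ 2 + C (τ ^ 2) * X 0 * X 1 + (C (s4 ^ 2) * X 1 ^ 4 + C (s2 ^ 2) * X 1 ^ 2) * X 0 +
          (C (l4 ^ 2) * X 0 ^ 4 + C (l2 ^ 2) * X 0 ^ 2) * X 1 + C (l4 ^ 2 * β) * X 0 ^ 4 +
          C (l2 ^ 2 * β) * X 0 ^ 2 + C (s4 ^ 2 * α) * X 1 ^ 4 + C (s2 ^ 2 * α) * X 1 ^ 2 :
          MvPowerSeries (Fin 3) R)) =
        (X 2 ^ 2 + X 0 * X 1 : MvPowerSeries (Fin 3) R) :=
  main R l0 l2 l4 s0 s2 s4 τ α β hτ hα hβ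

end Groth.Agent.S13128
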