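import Groth.Statements.S13130
import Mathlib.RingTheory.IntegralClosure.IsIntegralClosure.Basic
import Mathlib.Algebra.Polynomial.AlgebraMap

set_option autoImplicit false
universe u v
open KumFam

namespace Groth.Agent.S13130

theorem forward (R : Type u) [CommRing R] [Nontrivial R] (M : Type v) [CommGroup M]
    (h : Algebra.IsIntegral R (MonoidAlgebra R M)) : IsMulTorsion M := by
  classical
  intro m
  obtain ⟨p, hpm, hp⟩ := h.isIntegral (MonoidAlgebra.of R M m)
  rw [Polynomial.eval₂_eq_sum_range] at hp
  have hx : ∀ i : ℕ, (MonoidAlgebra.of R M m) ^ i = MonoidAlgebra.single (m ^ i) (1 : R) := by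
    intro i
    rw [MonoidAlgebra.of_apply, MonoidAlgebra.single_pow, one_pow]
  have hc := congrArg (fun x : MonoidAlgebra R M => x.coeff (m ^ p.natDegree)) hp
  simp only [MonoidAlgebra.coeff_sum, MonoidAlgebra.coeff_zero, Finsupp.coe_zero, Pi.zero_apply,
    Finsupp.coe_finset_sum, Finset.sum_apply, hx] at hc
  rw [isOfFinOrder_iff_pow_eq_one]
  by_contra hcon
  push Not at hcon
  have hne : ∀ i ∈ Finset.range (p.natDegree + 1), i ≠ p.natDegree →
      (algebraMap R (MonoidAlgebra R M) (p.coeff i) *
        MonoidAlgebra.single (m ^ i) (1 : R)).coeff (m ^ p.natDegree) = 0 := by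
    intro i hi hin
    rw [← Algebra.smul_def, MonoidAlgebra.coeff_smul, MonoidAlgebra.coeff_single,
      Finsupp.smul_apply, Finsupp.single_apply, if_neg, smul_zero]
    intro heq
    have hlt : i < p.natDegree := lt_of_le_of_ne (Nat.lt_succ_iff.mp (Finset.mem_range.mp hi)) hin
    apply hcon (p.natDegree - i) (Nat.sub_pos_of_lt hlt)
    rw [pow_sub _ hlt.le, heq, mul_inv_cancel]
  rw [Finset.sum_eq_single_of_mem p.natDegree (Finset.self_mem_range_succ _)
    (fun i hi hin => hne i hi hin)] at hc
  rw [← Algebra.smul_def, MonoidAlgebra.coeff_smul, MonoidAlgebra.coeff_single,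
    Finsupp.smul_apply, Finsupp.single_apply, if_pos rfl, Polynomial.coeff_natDegree,
    hpm.leadingCoeff, smul_eq_mul, mul_one] at hc
  exact one_ne_zero hc

theorem backward (R : Type u) [CommRing R] (M : Type v) [CommGroup M]
    (h : IsMulTorsion M) : Algebra.IsIntegral R (MonoidAlgebra R M) := by
  constructor
  intro x
  induction x using MonoidAlgebra.induction_on with
  | of m =>
    obtain ⟨n, hn, hmn⟩ := isOfFinOrder_iff_pow_eq_one.mp (h m)
    apply IsIntegral.of_pow hn
    rw [← map_pow, hmn, map_one]
    exact isIntegral_one
  | add x y hx hy => exact hx.add hy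
  | smul r x hx => exact hx.smul r

/-- Let R be a nontrivial commutative ring and M a commutative group, with group algebra R[M], the
coordinate ring of the diagonalizable group scheme D(M) over Spec R. Then D(M) is integral over Spec
R, i.e. R[M] is an integral R-algebra, if and only if M is a torsion group. (The published statement
is over an arbitrary base scheme; the question is local and this row is the affine form, with R
nontrivial so that the elements of M are R-linearly independent.) -/
theorem result (R : Type u) [CommRing R] [Nontrivial R]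
    (M : Type v) [CommGroup M] :
    Algebra.IsIntegral R (MonoidAlgebra R M) ↔ IsMulTorsion M :=
  ⟨forward R M, backward R M⟩

end Groth.Agent.S13130
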