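import Groth.Statements.S13131
import Groth.Agent.Lib.Helper6.ConstPts

set_option autoImplicit false
universe u
open CategoryTheory CategoryTheory.Limits AlgebraicGeometry
open KumFam

namespace Groth.Agent.S13131

/-- Let S be a scheme, M a set and p : T → S a scheme over S. The S-morphisms T → ∐_{m ∈ M} S (the
constant S-scheme on M, with its structure map the codiagonal) are in bijection with the locally
constant maps T → M, a morphism f corresponding to the function sending t to the index of the copy
of S containing f(t). (In the published statement M is a group and ∐_M S the constant group scheme;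
the group structures play no role in this description of T-points.) -/
theorem result (S : Scheme.{u}) (M : Type u)
    (T : Scheme.{u}) (p : T ⟶ S) :
    ∃ e : {f : T ⟶ ∐ (fun _ : M => S) // f ≫ Sigma.desc (fun _ : M => 𝟙 S) = p} ≃
        LocallyConstant T M,
      ∀ (f : {f : T ⟶ ∐ (fun _ : M => S) // f ≫ Sigma.desc (fun _ : M => 𝟙 S) = p}) (t : T),
        e f t = ((sigmaMk (fun _ : M => S)).symm (f.1.base t)).1 := by
  refine ⟨Equiv.mk (fun f => Groth.Agent.Lib.Helper6.ConstPts.toLC f.1)
    (fun φ => ⟨Groth.Agent.Lib.Helper6.ConstPts.ofLC p φ,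
      Groth.Agent.Lib.Helper6.ConstPts.ofLC_desc p φ⟩)
    (fun f => Subtype.ext (Groth.Agent.Lib.Helper6.ConstPts.ofLC_toLC p f.1 f.2))
    (fun φ => Groth.Agent.Lib.Helper6.ConstPts.toLC_ofLC p φ), ?_⟩
  intro f t
  rfl

end Groth.Agent.S13131
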