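import Groth.Statements.S13132
import Groth.Agent.Lib.Helper67.ArtinReg2

set_option autoImplicit false
universe u v
open CAlg

namespace Groth.Agent.S13132

/-- Let A' be an Artinian local ring, I a proper ideal of A' and S' a flat A'-algebra. An element f' of
S' is a non-zero-divisor exactly when its image in S'/IS' is one; and when f' is a non-zero-divisor,
the quotient S'/(f') is flat over A'. (The published statement is for local Artinian algebras with a
fixed residue field over a ring of Witt vectors and a surjection between two of them; the argument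
uses only that A' is Artinian local and I is a proper ideal, which is the form taken here.) -/
theorem result
    {A' : Type u} [CommRing A'] [IsArtinianRing A'] [IsLocalRing A'] (I : Ideal A') (hI : I ≠ ⊤)
    {S' : Type v} [CommRing S'] [Algebra A' S'] [Module.Flat A' S'] (f' : S') :
    (f' ∈ nonZeroDivisors S' ↔
      Ideal.Quotient.mk (I.map (algebraMap A' S')) f' ∈ nonZeroDivisors (S' ⧸ I.map (algebraMap A' S'))) ∧
    (f' ∈ nonZeroDivisors S' → Module.Flat A' (S' ⧸ Ideal.span {f'})) := by
  have hnzd : ∀ {R : Type v} [CommRing R] (x : R), IsSMulRegular R x ↔ x ∈ nonZeroDivisors R := by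
    intro R _ x
    rw [isSMulRegular_iff_right_eq_zero_of_smul, mem_nonZeroDivisors_iff_right]
    simp only [smul_eq_mul]
    constructor
    · intro h z hz
      exact h z (by rwa [mul_comm])
    · intro h z hz
      exact h z (by rwa [mul_comm])
  constructor
  · have h := Groth.Agent.Lib.Helper67.isWeaklyRegular_quotient_iff_artin I hI (S' := S') [f']
    rw [List.map_singleton, RingTheory.Sequence.isWeaklyRegular_singleton_iff,
      RingTheory.Sequence.isWeaklyRegular_singleton_iff, hnzd, hnzd] at h
    exact h
  · intro hf
    have h1 : RingTheory.Sequence.IsWeaklyRegular S' [f'] := by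
      rw [RingTheory.Sequence.isWeaklyRegular_singleton_iff, hnzd]
      exact hf
    have h2 := (Groth.Agent.Lib.Helper67.isWeaklyRegular_iff_fibre_artin (R := A') [f'] S').mp h1
    obtain ⟨-, h3⟩ := Groth.Agent.Lib.Helper67.isWeaklyRegular_and_flat_of_fibre_artin' (R := A')
      [f'] S' h2
    have h4 := h3 1 (by simp)
    have e2 : (S' ⧸ Ideal.span {f'}) ≃ₗ[S']
        (S' ⧸ Ideal.ofList (List.take 1 [f']) • (⊤ : Submodule S' S')) :=
      Submodule.quotEquivOfEq _ _ (by
        rw [smul_eq_mul, Ideal.mul_top]
        simp [Ideal.ofList])
    exact Module.Flat.of_linearEquiv (e2.restrictScalars A')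

end Groth.Agent.S13132
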