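import Groth.Statements.S13134
import Groth.Agent.Lib.Helper67.RegFlat2
import Groth.Agent.Lib.Helper6.NilpNakayama

set_option autoImplicit false
universe u v
open CAlg

namespace Groth.Agent.S13134

/-- Let A' be an Artinian local ring, I a proper ideal, A = A'/I and f_1, …, f_m ∈ A[x_1, …, x_n]. Every
flat A'-algebra B' equipped with a surjection π onto A[x]/(f_1, …, f_m) with kernel I·B', compatible
with A' → A, is a quotient of A'[x_1, …, x_n] by the ideal generated by some lifts f'_1, …, f'_m of
the f_i, compatibly with π and with reduction of polynomials modulo I. (The published statement is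
for a surjection of local Artinian algebras with a fixed residue field over a ring of Witt vectors;
only the Artinian local base and the proper ideal are used, which is the form taken here.) -/
theorem result
    {A' : Type u} [CommRing A'] [IsArtinianRing A'] [IsLocalRing A'] (I : Ideal A') (hI : I ≠ ⊤)
    {n m : ℕ} (f : Fin m → MvPolynomial (Fin n) (A' ⧸ I))
    {B' : Type v} [CommRing B'] [Algebra A' B'] [Module.Flat A' B']
    (π : B' →+* MvPolynomial (Fin n) (A' ⧸ I) ⧸ Ideal.span (Set.range f))
    (hπ : Function.Surjective π) (hker : RingHom.ker π = I.map (algebraMap A' B'))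
    (hcomp : π.comp (algebraMap A' B') =
      ((Ideal.Quotient.mk (Ideal.span (Set.range f))).comp MvPolynomial.C).comp (Ideal.Quotient.mk I)) :
    ∃ (f' : Fin m → MvPolynomial (Fin n) A') (ψ : MvPolynomial (Fin n) A' →ₐ[A'] B'),
      (∀ i, MvPolynomial.map (Ideal.Quotient.mk I) (f' i) = f i) ∧
      Function.Surjective ψ ∧ RingHom.ker ψ.toRingHom = Ideal.span (Set.range f') ∧
      ∀ q, π (ψ q) = Ideal.Quotient.mk (Ideal.span (Set.range f)) (MvPolynomial.map (Ideal.Quotient.mk I) q) := by
  classical
  have hnil : IsNilpotent I := by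
    have h := IsArtinianRing.isNilpotent_jacobson_bot (R := A')
    rw [IsLocalRing.jacobson_eq_maximalIdeal ⊥ bot_ne_top] at h
    obtain ⟨k, hk⟩ := h
    refine ⟨k, ?_⟩
    rw [Ideal.zero_eq_bot, ← le_bot_iff, ← Ideal.zero_eq_bot, ← hk]
    exact Ideal.pow_right_mono (IsLocalRing.le_maximalIdeal hI) k
  set red : MvPolynomial (Fin n) A' →+* MvPolynomial (Fin n) (A' ⧸ I) :=
    MvPolynomial.map (Ideal.Quotient.mk I) with hred
  have hredsurj : Function.Surjective red :=
    MvPolynomial.map_surjective _ Ideal.Quotient.mk_surjective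
  have hredker : RingHom.ker red = I.map (algebraMap A' (MvPolynomial (Fin n) A')) := by
    rw [hred, MvPolynomial.ker_map, Ideal.mk_ker, MvPolynomial.algebraMap_eq]
  -- images of the variables
  have hb : ∀ j : Fin n, ∃ y : B', π y = Ideal.Quotient.mk (Ideal.span (Set.range f))
      (MvPolynomial.X j) := fun j => hπ _
  choose b hbπ using hb
  set ψ : MvPolynomial (Fin n) A' →ₐ[A'] B' := MvPolynomial.aeval b with hψ
  have hπψ : ∀ q, π (ψ q) = Ideal.Quotient.mk (Ideal.span (Set.range f)) (red q) := by
    have : π.comp ψ.toRingHom = (Ideal.Quotient.mk (Ideal.span (Set.range f))).comp red := by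
      apply MvPolynomial.ringHom_ext
      · intro a
        have h1 := congrArg (fun g => g a) hcomp
        simp only [RingHom.comp_apply] at h1
        simp only [RingHom.comp_apply, AlgHom.toRingHom_eq_coe, RingHom.coe_coe, hψ, hred,
          MvPolynomial.aeval_C, MvPolynomial.map_C]
        exact h1
      · intro j
        simp only [RingHom.comp_apply, AlgHom.toRingHom_eq_coe, RingHom.coe_coe, hψ, hred,
          MvPolynomial.aeval_X, MvPolynomial.map_X]
        exact hbπ j
    intro q
    exact congrArg (fun g => g q) this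
  -- surjectivity of `ψ` by nilpotent Nakayama
  have hψsurj : Function.Surjective ψ := by
    have htop : LinearMap.range ψ.toLinearMap ⊔ I • (⊤ : Submodule A' B') = ⊤ := by
      rw [eq_top_iff]
      intro y _
      obtain ⟨q₁, hq₁⟩ := Ideal.Quotient.mk_surjective (I := Ideal.span (Set.range f)) (π y)
      obtain ⟨q, rfl⟩ := hredsurj q₁
      have hmem : y - ψ q ∈ RingHom.ker π := by
        rw [RingHom.mem_ker, map_sub, hπψ, hq₁, sub_self]
      rw [hker] at hmem
      have hmem' : y - ψ q ∈ I • (⊤ : Submodule A' B') := by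
        rw [Ideal.smul_top_eq_map]
        exact hmem
      have : y = ψ q + (y - ψ q) := by ring
      rw [this]
      exact Submodule.add_mem _ (Submodule.mem_sup_left ⟨q, rfl⟩) (Submodule.mem_sup_right hmem')
    have h1 := Groth.Agent.Lib.Helper6.NilpNakayama.eq_top_of_sup_smul_top_of_isNilpotent I hnil _ htop
    intro y
    have : y ∈ LinearMap.range ψ.toLinearMap := by rw [h1]; exact Submodule.mem_top
    obtain ⟨q, hq⟩ := this
    exact ⟨q, hq⟩
  -- `I B' = ψ (I P)`
  have hIB : I.map (algebraMap A' B') =
      (I.map (algebraMap A' (MvPolynomial (Fin n) A'))).map ψ.toRingHom := by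
    rw [Ideal.map_map]
    congr 1
    ext a
    simp
  -- lifts of the `f i` killed by `ψ`
  have hlift : ∀ i, ∃ g : MvPolynomial (Fin n) A', red g = f i ∧ ψ g = 0 := by
    intro i
    obtain ⟨g, hg⟩ := hredsurj (f i)
    have h1 : ψ g ∈ RingHom.ker π := by
      rw [RingHom.mem_ker, hπψ, hg, Ideal.Quotient.eq_zero_iff_mem]
      exact Ideal.subset_span ⟨i, rfl⟩
    rw [hker, hIB] at h1
    obtain ⟨h, hh, hhg⟩ := (Ideal.mem_map_iff_of_surjective ψ.toRingHom hψsurj).mp h1
    refine ⟨g - h, ?_, ?_⟩
    · have : red h = 0 := by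
        rw [← RingHom.mem_ker, hredker]
        exact hh
      rw [map_sub, hg, this, sub_zero]
    · rw [map_sub]
      have : ψ h = ψ g := hhg
      rw [this, sub_self]
  choose f' hf'red hf'ψ using hlift
  refine ⟨f', ψ, hf'red, hψsurj, ?_, hπψ⟩
  -- the kernel
  haveI : Module.Flat A' (MvPolynomial (Fin n) A' ⧸ RingHom.ker ψ) :=
    Module.Flat.of_linearEquiv (Ideal.quotientKerAlgEquivOfSurjective hψsurj).toLinearEquiv
  have hle : Ideal.span (Set.range f') ≤ RingHom.ker ψ := by
    rw [Ideal.span_le]
    rintro _ ⟨i, rfl⟩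
    exact hf'ψ i
  have hsup : RingHom.ker ψ ≤ Ideal.span (Set.range f') ⊔
      I.map (algebraMap A' (MvPolynomial (Fin n) A')) := by
    intro q hq
    have h1 : red q ∈ Ideal.span (Set.range f) := by
      rw [← Ideal.Quotient.eq_zero_iff_mem, ← hπψ]
      have : ψ q = 0 := hq
      rw [this, map_zero]
    have h2 : Ideal.span (Set.range f) = (Ideal.span (Set.range f')).map red := by
      rw [Ideal.map_span]
      congr 1
      ext x
      constructor
      · rintro ⟨i, rfl⟩
        exact ⟨f' i, ⟨i, rfl⟩, hf'red i⟩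
      · rintro ⟨_, ⟨i, rfl⟩, rfl⟩
        exact ⟨i, (hf'red i).symm⟩
    rw [h2] at h1
    obtain ⟨s, hs, hsq⟩ := (Ideal.mem_map_iff_of_surjective red hredsurj).mp h1
    have h3 : q - s ∈ I.map (algebraMap A' (MvPolynomial (Fin n) A')) := by
      rw [← hredker, RingHom.mem_ker, map_sub, hsq, sub_self]
    have : q = s + (q - s) := by ring
    rw [this]
    exact Submodule.add_mem _ (Submodule.mem_sup_left hs) (Submodule.mem_sup_right h3)
  have hfinal := Groth.Agent.Lib.Helper67.le_of_le_sup_map_of_isNilpotent (RingHom.ker ψ)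
    (Ideal.span (Set.range f')) I hnil hle hsup
  exact le_antisymm hfinal hle

end Groth.Agent.S13134
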