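import Groth.Statements.S13135
import Groth.Agent.Lib.Helper67.ArtinReg2

set_option autoImplicit false
universe u
open CAlg

namespace Groth.Agent.S13135

/-- Let A' be an Artinian local ring, I a proper ideal, A = A'/I and f_1, …, f_m a regular sequence in
A[x_1, …, x_n]. For every choice of lifts f'_1, …, f'_m in A'[x_1, …, x_n] the quotient A'[x]/(f'_1,
…, f'_m) is flat over A' (so it is a flat lifting of A[x]/(f_1, …, f_m)). (The published statement
is for a surjection of local Artinian algebras with a fixed residue field over a ring of Witt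
vectors; only the Artinian local base and the proper ideal are used, which is the form taken here.) -/
theorem result
    {A' : Type u} [CommRing A'] [IsArtinianRing A'] [IsLocalRing A'] (I : Ideal A') (hI : I ≠ ⊤)
    {n m : ℕ} (f : Fin m → MvPolynomial (Fin n) (A' ⧸ I))
    (hreg : RingTheory.Sequence.IsRegular (MvPolynomial (Fin n) (A' ⧸ I)) (List.ofFn f))
    (f' : Fin m → MvPolynomial (Fin n) A') (hf' : ∀ i, MvPolynomial.map (Ideal.Quotient.mk I) (f' i) = f i) :
    Module.Flat A' (MvPolynomial (Fin n) A' ⧸ Ideal.span (Set.range f')) := by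
  classical
  -- `P₁ = (A'/I)[x]` as an algebra over `S' = A'[x]`
  let φ : MvPolynomial (Fin n) A' →+* MvPolynomial (Fin n) (A' ⧸ I) :=
    MvPolynomial.map (Ideal.Quotient.mk I)
  have hφsurj : Function.Surjective φ := MvPolynomial.map_surjective _ Ideal.Quotient.mk_surjective
  letI : Algebra (MvPolynomial (Fin n) A') (MvPolynomial (Fin n) (A' ⧸ I)) := φ.toAlgebra
  have halg : ∀ x, algebraMap (MvPolynomial (Fin n) A') (MvPolynomial (Fin n) (A' ⧸ I)) x = φ x :=
    fun _ => rfl
  have hfs : (List.ofFn f').map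
      (algebraMap (MvPolynomial (Fin n) A') (MvPolynomial (Fin n) (A' ⧸ I))) = List.ofFn f := by
    rw [List.map_ofFn]
    congr 1
    funext i
    exact hf' i
  -- weak regularity of `f'` on `P₁` as `S'`-module
  have h1 : RingTheory.Sequence.IsWeaklyRegular (MvPolynomial (Fin n) (A' ⧸ I)) (List.ofFn f') := by
    rw [← RingTheory.Sequence.isWeaklyRegular_map_algebraMap_iff (MvPolynomial (Fin n) (A' ⧸ I))
      (MvPolynomial (Fin n) (A' ⧸ I)) (List.ofFn f'), hfs]
    exact hreg.toIsWeaklyRegular
  -- `S'/IS' ≃ P₁` over `S'`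
  have hker : LinearMap.ker (Algebra.linearMap (MvPolynomial (Fin n) A')
      (MvPolynomial (Fin n) (A' ⧸ I))) =
      (I.map (algebraMap A' (MvPolynomial (Fin n) A')) : Ideal (MvPolynomial (Fin n) A')) := by
    ext x
    rw [LinearMap.mem_ker, Algebra.linearMap_apply, halg]
    have := MvPolynomial.ker_map (σ := Fin n) (Ideal.Quotient.mk I)
    rw [Ideal.mk_ker] at this
    rw [MvPolynomial.algebraMap_eq, ← this, RingHom.mem_ker]
  let e : (MvPolynomial (Fin n) A' ⧸ I.map (algebraMap A' (MvPolynomial (Fin n) A')))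
      ≃ₗ[MvPolynomial (Fin n) A'] MvPolynomial (Fin n) (A' ⧸ I) :=
    (Submodule.quotEquivOfEq _ _ hker.symm) ≪≫ₗ
      (Algebra.linearMap (MvPolynomial (Fin n) A')
        (MvPolynomial (Fin n) (A' ⧸ I))).quotKerEquivOfSurjective hφsurj
  have h2 : RingTheory.Sequence.IsWeaklyRegular
      (MvPolynomial (Fin n) A' ⧸ I.map (algebraMap A' (MvPolynomial (Fin n) A')))
      (List.ofFn f') := (e.isWeaklyRegular_congr _).mpr h1
  have h3 : RingTheory.Sequence.IsWeaklyRegular
      (MvPolynomial (Fin n) A' ⧸ I.map (algebraMap A' (MvPolynomial (Fin n) A')))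
      ((List.ofFn f').map (Ideal.Quotient.mk (I.map (algebraMap A' (MvPolynomial (Fin n) A'))))) :=
    (RingTheory.Sequence.isWeaklyRegular_map_algebraMap_iff
      (MvPolynomial (Fin n) A' ⧸ I.map (algebraMap A' (MvPolynomial (Fin n) A'))) _
      (List.ofFn f')).mpr h2
  have h4 : RingTheory.Sequence.IsWeaklyRegular (MvPolynomial (Fin n) A') (List.ofFn f') :=
    (Groth.Agent.Lib.Helper67.isWeaklyRegular_quotient_iff_artin I hI (List.ofFn f')).mpr h3
  have h5 := (Groth.Agent.Lib.Helper67.isWeaklyRegular_iff_fibre_artin (R := A') (List.ofFn f')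
    (MvPolynomial (Fin n) A')).mp h4
  obtain ⟨-, h6⟩ := Groth.Agent.Lib.Helper67.isWeaklyRegular_and_flat_of_fibre_artin' (R := A')
    (List.ofFn f') (MvPolynomial (Fin n) A') h5
  have h7 := h6 (List.ofFn f').length le_rfl
  rw [List.take_length] at h7
  have e2 : (MvPolynomial (Fin n) A' ⧸ Ideal.span (Set.range f')) ≃ₗ[MvPolynomial (Fin n) A']
      (MvPolynomial (Fin n) A' ⧸ Ideal.ofList (List.ofFn f') •
        (⊤ : Submodule (MvPolynomial (Fin n) A') (MvPolynomial (Fin n) A'))) :=
    Submodule.quotEquivOfEq _ _ (by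
      rw [smul_eq_mul, Ideal.mul_top, Groth.Agent.Lib.Helper67.ofList_ofFn])
  exact Module.Flat.of_linearEquiv (e2.restrictScalars A')

end Groth.Agent.S13135
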