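import Groth.Statements.S13138
import Groth.Agent.Lib.Helper71.W2Arith

set_option autoImplicit false
universe u
open scoped BigOperators
open FrobAlg

namespace Groth.Agent.S13138

section taylor

open Groth.Agent.Lib.Helper71.W2 MvPolynomial

variable (p : ℕ) [Fact p.Prime] (k : Type u) [Field k] [CharP k p] [PerfectRing k p] {n : ℕ}

omit [PerfectRing k p] in
theorem PP : (p : MvPolynomial (Fin n) (W2 p k)) * (p : MvPolynomial (Fin n) (W2 p k)) = 0 :=
  natCast_mul_natCast_alg p k _

omit [PerfectRing k p] in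
theorem P_mul_add_pow (a b : MvPolynomial (Fin n) (W2 p k)) :
    (p : MvPolynomial (Fin n) (W2 p k)) * (a + b) ^ p =
      (p : MvPolynomial (Fin n) (W2 p k)) * a ^ p + (p : MvPolynomial (Fin n) (W2 p k)) * b ^ p := by
  obtain ⟨r, hr⟩ := exists_add_pow_prime_eq (Fact.out : p.Prime) a b
  rw [hr, mul_add, mul_add]
  have : (p : MvPolynomial (Fin n) (W2 p k)) * (↑p * a * b * r) = 0 := by
    rw [mul_assoc (p : MvPolynomial (Fin n) (W2 p k)) a, mul_assoc (p : MvPolynomial (Fin n) (W2 p k)),
      ← mul_assoc, PP, zero_mul]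
  rw [this, add_zero]

theorem polyFrob_sub_pow_mem (g : MvPolynomial (Fin n) (W2 p k)) :
    ∃ c, polyFrob p k (Fin n) g - g ^ p = (p : MvPolynomial (Fin n) (W2 p k)) * c := by
  induction g using MvPolynomial.induction_on with
  | C a =>
    have h0 : (sigma p k a - a ^ p).coeff 0 = 0 := by
      rw [coeff_zero_sub, WittGrp.coeff_frob, ← res_apply, ← res_apply, map_pow, sub_self]
    obtain ⟨y, hy⟩ := exists_eq_p_mul p k h0
    refine ⟨C y, ?_⟩
    have : polyFrob p k (Fin n) (C a) = C (sigma p k a) := by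
      unfold polyFrob
      rw [coe_eval₂Hom, eval₂_C]
      rfl
    rw [this, ← map_pow, ← map_sub, hy, map_mul, map_natCast]
  | add g1 g2 h1 h2 =>
    obtain ⟨c1, hc1⟩ := h1
    obtain ⟨c2, hc2⟩ := h2
    obtain ⟨r, hr⟩ := exists_add_pow_prime_eq (Fact.out : p.Prime) g1 g2
    refine ⟨c1 + c2 - g1 * g2 * r, ?_⟩
    rw [map_add, hr, mul_sub, mul_add, ← hc1, ← hc2]
    ring
  | mul_X g i h =>
    obtain ⟨c, hc⟩ := h
    refine ⟨c * X i ^ p, ?_⟩
    have : polyFrob p k (Fin n) (X i) = X i ^ p := by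
      unfold polyFrob
      rw [coe_eval₂Hom, eval₂_X]
    rw [map_mul, this, mul_pow, ← sub_mul, hc, mul_assoc]

theorem P_mul_polyFrob (g : MvPolynomial (Fin n) (W2 p k)) :
    (p : MvPolynomial (Fin n) (W2 p k)) * polyFrob p k (Fin n) g =
      (p : MvPolynomial (Fin n) (W2 p k)) * g ^ p := by
  obtain ⟨c, hc⟩ := polyFrob_sub_pow_mem p k g
  rw [← sub_eq_zero, ← mul_sub, hc, ← mul_assoc, PP, zero_mul]

noncomputable def Phit (h : Fin n → MvPolynomial (Fin n) (W2 p k)) :
    MvPolynomial (Fin n) (W2 p k) →+* MvPolynomial (Fin n) (W2 p k) :=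
  eval₂Hom (C.comp (sigma p k)) fun j => X j ^ p - (p : MvPolynomial (Fin n) (W2 p k)) * h j

omit [PerfectRing k p] in
theorem Phit_C (h : Fin n → MvPolynomial (Fin n) (W2 p k)) (a : W2 p k) :
    Phit p k h (C a) = C (sigma p k a) := by
  unfold Phit
  rw [coe_eval₂Hom, eval₂_C]
  rfl

omit [PerfectRing k p] in
theorem Phit_X (h : Fin n → MvPolynomial (Fin n) (W2 p k)) (j : Fin n) :
    Phit p k h (X j) = X j ^ p - (p : MvPolynomial (Fin n) (W2 p k)) * h j := by
  unfold Phit
  rw [coe_eval₂Hom, eval₂_X]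

theorem Phit_eq (h : Fin n → MvPolynomial (Fin n) (W2 p k)) (g : MvPolynomial (Fin n) (W2 p k)) :
    Phit p k h g = polyFrob p k (Fin n) g -
      (p : MvPolynomial (Fin n) (W2 p k)) * ∑ j, pderiv j g ^ p * h j := by
  induction g using MvPolynomial.induction_on with
  | C a =>
    have h1 : polyFrob p k (Fin n) (C a) = C (sigma p k a) := by
      unfold polyFrob
      rw [coe_eval₂Hom, eval₂_C]
      rfl
    rw [Phit_C, h1]
    simp [zero_pow (Fact.out : p.Prime).ne_zero]
  | add g1 g2 h1 h2 =>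
    rw [map_add, h1, h2, map_add]
    have : (p : MvPolynomial (Fin n) (W2 p k)) * ∑ j, pderiv j (g1 + g2) ^ p * h j =
        (p : MvPolynomial (Fin n) (W2 p k)) * ∑ j, pderiv j g1 ^ p * h j +
        (p : MvPolynomial (Fin n) (W2 p k)) * ∑ j, pderiv j g2 ^ p * h j := by
      rw [Finset.mul_sum, Finset.mul_sum, Finset.mul_sum, ← Finset.sum_add_distrib]
      refine Finset.sum_congr rfl fun j _ => ?_
      rw [map_add, ← mul_assoc, P_mul_add_pow, add_mul, mul_assoc, mul_assoc]
    rw [this]
    ring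
  | mul_X g i hg =>
    have hX : polyFrob p k (Fin n) (X i) = X i ^ p := by
      unfold polyFrob
      rw [coe_eval₂Hom, eval₂_X]
    rw [map_mul, hg, Phit_X, map_mul, hX]
    have hsum : (p : MvPolynomial (Fin n) (W2 p k)) * ∑ j, pderiv j (g * X i) ^ p * h j =
        (p : MvPolynomial (Fin n) (W2 p k)) * (∑ j, pderiv j g ^ p * h j) * X i ^ p +
        (p : MvPolynomial (Fin n) (W2 p k)) * g ^ p * h i := by
      have hterm : ∀ j, (p : MvPolynomial (Fin n) (W2 p k)) * (pderiv j (g * X i) ^ p * h j) =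
          (p : MvPolynomial (Fin n) (W2 p k)) * (pderiv j g ^ p * h j) * X i ^ p +
          (if j = i then (p : MvPolynomial (Fin n) (W2 p k)) * g ^ p * h i else 0) := by
        intro j
        rw [Derivation.leibniz, pderiv_X, smul_eq_mul, smul_eq_mul, ← mul_assoc, P_mul_add_pow]
        by_cases hji : j = i
        · subst hji
          rw [if_pos rfl, Pi.single_eq_same, mul_one, mul_pow]
          ring
        · rw [if_neg hji, Pi.single_eq_of_ne (Ne.symm hji), mul_zero, zero_pow (Fact.out : p.Prime).ne_zero,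
            mul_zero, zero_add, mul_pow, add_zero]
          ring
      rw [Finset.mul_sum, Finset.sum_congr rfl fun j _ => hterm j, Finset.sum_add_distrib,
        Finset.sum_ite_eq' Finset.univ i, if_pos (Finset.mem_univ i), Finset.mul_sum,
        Finset.sum_mul]
    rw [hsum]
    have e1 : polyFrob p k (Fin n) g * ((p : MvPolynomial (Fin n) (W2 p k)) * h i) =
        (p : MvPolynomial (Fin n) (W2 p k)) * g ^ p * h i := by
      rw [← mul_assoc, mul_comm _ (p : MvPolynomial (Fin n) (W2 p k)), P_mul_polyFrob]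
    have e2 : ((p : MvPolynomial (Fin n) (W2 p k)) * ∑ j, pderiv j g ^ p * h j) *
        ((p : MvPolynomial (Fin n) (W2 p k)) * h i) = 0 := by
      rw [mul_mul_mul_comm, PP, zero_mul]
    rw [sub_mul, mul_sub, mul_sub, e1, e2]
    ring

end taylor

section main

open Groth.Agent.Lib.Helper71.W2 MvPolynomial

variable (p : ℕ) [Fact p.Prime] (k : Type u) [Field k] [CharP k p] [PerfectRing k p] {n : ℕ}

theorem ker_map_res_le (g : MvPolynomial (Fin n) (W2 p k))
    (hg : MvPolynomial.map (res p k) g = 0) :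
    ∃ c, g = (p : MvPolynomial (Fin n) (W2 p k)) * c := by
  have h1 : g ∈ RingHom.ker (MvPolynomial.map (σ := Fin n) (res p k)) := hg
  rw [MvPolynomial.ker_map, ker_res, Ideal.map_span, Set.image_singleton, map_natCast,
    Ideal.mem_span_singleton'] at h1
  obtain ⟨c, hc⟩ := h1
  exact ⟨c, by rw [← hc, mul_comm]⟩

omit [PerfectRing k p] in
theorem map_res_P :
    MvPolynomial.map (σ := Fin n) (res p k) (p : MvPolynomial (Fin n) (W2 p k)) = 0 := by
  rw [map_natCast]
  have : (p : MvPolynomial (Fin n) k) = C (p : k) := by rw [map_natCast]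
  rw [this, CharP.cast_eq_zero, map_zero]

omit [PerfectRing k p] in
theorem map_res_Phit (h : Fin n → MvPolynomial (Fin n) (W2 p k))
    (g : MvPolynomial (Fin n) (W2 p k)) :
    MvPolynomial.map (res p k) (Phit p k h g) = (MvPolynomial.map (res p k) g) ^ p := by
  induction g using MvPolynomial.induction_on with
  | C a =>
    rw [Phit_C, map_C, map_C, ← map_pow, res_apply, WittGrp.coeff_frob, res_apply]
  | add g1 g2 h1 h2 =>
    rw [map_add, map_add, h1, h2, map_add, add_pow_char]
  | mul_X g i hg =>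
    rw [map_mul, map_mul, hg, Phit_X, map_mul, map_sub, map_mul, map_res_P, zero_mul, sub_zero,
      map_pow, mul_pow]

theorem ker_q (J' : Ideal (MvPolynomial (Fin n) (W2 p k)))
    (b : MvPolynomial (Fin n) (W2 p k) ⧸ J')
    (hb : Ideal.quotientMap (J'.map (MvPolynomial.map (res p k)))
          (MvPolynomial.map (res p k)) Ideal.le_comap_map b = 0) :
    ∃ c, b = Ideal.Quotient.mk J' ((p : MvPolynomial (Fin n) (W2 p k)) * c) := by
  obtain ⟨g, rfl⟩ := Ideal.Quotient.mk_surjective b
  rw [Ideal.quotientMap_mk, Ideal.Quotient.eq_zero_iff_mem,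
    Ideal.mem_map_iff_of_surjective _ (MvPolynomial.map_surjective _
      (fun a => ⟨T p a, by rw [res_apply, coeff_T_zero]⟩))] at hb
  obtain ⟨g', hg', hgg'⟩ := hb
  obtain ⟨c, hc⟩ := ker_map_res_le p k (g - g') (by rw [map_sub, hgg', sub_self])
  refine ⟨c, ?_⟩
  rw [← hc, map_sub, eq_comm, sub_eq_self, Ideal.Quotient.eq_zero_iff_mem]
  exact hg'

end main

/-- Let k be a perfect field of characteristic p, R' = W₂(k)[x_1, …, x_n], f'_1, …, f'_m ∈ R' with
reductions f_1, …, f_m ∈ R = k[x_1, …, x_n], J' = (f'_1, …, f'_m), J = (f_1, …, f_m), and assume B'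
= R'/J' is flat over W₂(k), so that it is a flat lifting of B = R/J. The Frobenius of B lifts to B'
— there is a ring endomorphism of B' semilinear for the Witt-vector Frobenius σ₂ of W₂(k) and
reducing to the p-th power map of B — if and only if there are h_1, …, h_n ∈ R' with F'(f'_i) −
f'_i^p − p·Σ_j (∂f'_i/∂x_j)^p h_j ∈ pJ' for every i, where F' is the standard Frobenius lift of R'
(σ₂ on coefficients, x_j ↦ x_j^p). Since multiplication by p identifies R with pR', this is the
congruence P(f'_i) ≡ Σ_j (∂f_i/∂x_j)^p h_j modulo J for the Frobenius residues P(f'_i) = (F'(f'_i) −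
f'_i^p)/p. -/
theorem result
    (p : ℕ) [Fact p.Prime] (k : Type u) [Field k] [CharP k p] [PerfectRing k p]
    {n m : ℕ} (f' : Fin m → MvPolynomial (Fin n) (FrobAlg.W2 p k))
    (hflat : ((Ideal.Quotient.mk (Ideal.span (Set.range f'))).comp
      (MvPolynomial.C : FrobAlg.W2 p k →+* MvPolynomial (Fin n) (FrobAlg.W2 p k))).Flat) :
    (∃ Φ : (MvPolynomial (Fin n) (FrobAlg.W2 p k) ⧸ Ideal.span (Set.range f')) →+*
        (MvPolynomial (Fin n) (FrobAlg.W2 p k) ⧸ Ideal.span (Set.range f')),
      Φ.comp ((Ideal.Quotient.mk (Ideal.span (Set.range f'))).comp MvPolynomial.C) =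
        ((Ideal.Quotient.mk (Ideal.span (Set.range f'))).comp MvPolynomial.C).comp (FrobAlg.sigma p k) ∧
      ∀ b, Ideal.quotientMap ((Ideal.span (Set.range f')).map (MvPolynomial.map (FrobAlg.res p k)))
          (MvPolynomial.map (FrobAlg.res p k)) Ideal.le_comap_map (Φ b) =
        (Ideal.quotientMap ((Ideal.span (Set.range f')).map (MvPolynomial.map (FrobAlg.res p k)))
          (MvPolynomial.map (FrobAlg.res p k)) Ideal.le_comap_map b) ^ p) ↔
    ∃ h : Fin n → MvPolynomial (Fin n) (FrobAlg.W2 p k), ∀ i,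
      FrobAlg.polyFrob p k (Fin n) (f' i) - f' i ^ p
        - (p : MvPolynomial (Fin n) (FrobAlg.W2 p k)) * ∑ j, MvPolynomial.pderiv j (f' i) ^ p * h j
        ∈ Ideal.span {(p : MvPolynomial (Fin n) (FrobAlg.W2 p k))} * Ideal.span (Set.range f') := by
  have hfl : Module.Flat (W2 p k)
      (MvPolynomial (Fin n) (W2 p k) ⧸ Ideal.span (Set.range f')) := by
    have halg : algebraMap (W2 p k) (MvPolynomial (Fin n) (W2 p k) ⧸ Ideal.span (Set.range f')) =
      (Ideal.Quotient.mk (Ideal.span (Set.range f'))).comp MvPolynomial.C := rfl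
    rw [← RingHom.flat_algebraMap_iff, halg]
    exact hflat
  have hinf := (Groth.Agent.Lib.Helper71.W2.flat_quotient_iff p k
    (MvPolynomial (Fin n) (W2 p k)) (Ideal.span (Set.range f'))).mp hfl
  constructor
  · rintro ⟨Φ, hsemi, hred⟩
    have hex : ∀ j : Fin n, ∃ hj : MvPolynomial (Fin n) (W2 p k),
        Φ (Ideal.Quotient.mk _ (MvPolynomial.X j)) =
          Ideal.Quotient.mk _ (MvPolynomial.X j ^ p -
            (p : MvPolynomial (Fin n) (W2 p k)) * hj) := by
      intro j
      obtain ⟨c, hc⟩ := ker_q p k (Ideal.span (Set.range f'))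
        (Φ (Ideal.Quotient.mk _ (MvPolynomial.X j)) - (Ideal.Quotient.mk _ (MvPolynomial.X j)) ^ p)
        (by rw [map_sub, hred, map_pow, sub_self])
      refine ⟨-c, ?_⟩
      rw [mul_neg, sub_neg_eq_add, map_add, ← hc, map_pow]
      ring
    choose h hh using hex
    have hcomp : Φ.comp (Ideal.Quotient.mk (Ideal.span (Set.range f'))) =
        (Ideal.Quotient.mk (Ideal.span (Set.range f'))).comp (Phit p k h) := by
      apply MvPolynomial.ringHom_ext
      · intro a
        have := congrArg (fun f => f a) hsemi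
        simp only [RingHom.comp_apply] at this
        rw [RingHom.comp_apply, this, RingHom.comp_apply, Phit_C]
      · intro j
        rw [RingHom.comp_apply, hh, RingHom.comp_apply, Phit_X]
    refine ⟨h, fun i => ?_⟩
    have h1 : Phit p k h (f' i) ∈ Ideal.span (Set.range f') := by
      have := congrArg (fun f => f (f' i)) hcomp
      simp only [RingHom.comp_apply] at this
      rw [← Ideal.Quotient.eq_zero_iff_mem, ← this,
        Ideal.Quotient.eq_zero_iff_mem.mpr (Ideal.subset_span (Set.mem_range_self i)), map_zero]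
    rw [← hinf]
    constructor
    · obtain ⟨c, hc⟩ := polyFrob_sub_pow_mem p k (f' i)
      rw [hc, ← mul_sub]
      exact Ideal.mul_mem_right _ _ (Ideal.mem_span_singleton_self _)
    · have e : FrobAlg.polyFrob p k (Fin n) (f' i) - f' i ^ p
          - (p : MvPolynomial (Fin n) (FrobAlg.W2 p k)) * ∑ j, MvPolynomial.pderiv j (f' i) ^ p * h j
          = Phit p k h (f' i) - f' i ^ p := by
        rw [Phit_eq]
        ring
      rw [e]
      exact Ideal.sub_mem _ h1 (Ideal.pow_mem_of_mem _
        (Ideal.subset_span (Set.mem_range_self i)) p (Fact.out : p.Prime).pos)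
  · rintro ⟨h, hE⟩
    have hle : Ideal.span (Set.range f') ≤ (Ideal.span (Set.range f')).comap (Phit p k h) := by
      rw [Ideal.span_le]
      rintro _ ⟨i, rfl⟩
      change Phit p k h (f' i) ∈ Ideal.span (Set.range f')
      have e : Phit p k h (f' i) = (FrobAlg.polyFrob p k (Fin n) (f' i) - f' i ^ p
          - (p : MvPolynomial (Fin n) (FrobAlg.W2 p k)) * ∑ j, MvPolynomial.pderiv j (f' i) ^ p * h j)
          + f' i ^ p := by
        rw [Phit_eq]
        ring
      rw [e]
      exact Ideal.add_mem _ (Ideal.mul_le_right (hE i))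
        (Ideal.pow_mem_of_mem _ (Ideal.subset_span (Set.mem_range_self i)) p
          (Fact.out : p.Prime).pos)
    refine ⟨Ideal.quotientMap _ (Phit p k h) hle, ?_, ?_⟩
    · ext a
      rw [RingHom.comp_apply, RingHom.comp_apply, Ideal.quotientMap_mk, Phit_C]
      rfl
    · intro b
      obtain ⟨g, rfl⟩ := Ideal.Quotient.mk_surjective b
      rw [Ideal.quotientMap_mk, Ideal.quotientMap_mk, Ideal.quotientMap_mk, map_res_Phit, map_pow]

end Groth.Agent.S13138
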