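import Groth.Statements.S13139
import Groth.Agent.S13138

set_option autoImplicit false
universe u
open scoped BigOperators
open FrobAlg

namespace Groth.Agent.S13139

section regular

open Groth.Agent.Lib.Helper71.W2 MvPolynomial Groth.Agent.S13138

variable (p : ℕ) [Fact p.Prime] (k : Type u) [Field k] [CharP k p] [PerfectRing k p] {n : ℕ}

theorem exists_of_map_mem (J' : Ideal (MvPolynomial (Fin n) (W2 p k)))
    (g : MvPolynomial (Fin n) (W2 p k))
    (hg : MvPolynomial.map (res p k) g ∈ J'.map (MvPolynomial.map (res p k))) :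
    ∃ j ∈ J', ∃ c, g = j + (p : MvPolynomial (Fin n) (W2 p k)) * c := by
  rw [Ideal.mem_map_iff_of_surjective _ (MvPolynomial.map_surjective _
      (fun a => ⟨T p a, by rw [res_apply, coeff_T_zero]⟩))] at hg
  obtain ⟨g', hg', hgg'⟩ := hg
  obtain ⟨c, hc⟩ := ker_map_res_le p k (g - g') (by rw [map_sub, hgg', sub_self])
  exact ⟨g', hg', c, by rw [← hc]; ring⟩

theorem inf_eq_mul_of_regular (rs' : List (MvPolynomial (Fin n) (W2 p k)))
    (hreg : RingTheory.Sequence.IsWeaklyRegular (MvPolynomial (Fin n) k)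
      (rs'.map (MvPolynomial.map (res p k)))) :
    ∀ i, i ≤ rs'.length →
      Ideal.span {(p : MvPolynomial (Fin n) (W2 p k))} ⊓ Ideal.ofList (rs'.take i) =
        Ideal.span {(p : MvPolynomial (Fin n) (W2 p k))} * Ideal.ofList (rs'.take i) := by
  intro i
  induction i with
  | zero =>
    intro _
    rw [List.take_zero, Ideal.ofList_nil, inf_bot_eq, Ideal.mul_bot]
  | succ i ih =>
    intro hi
    have hi' : i < rs'.length := hi
    have ih' := ih (le_of_lt hi')
    refine le_antisymm ?_ Ideal.mul_le_inf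
    rintro x ⟨hx1, hx2⟩
    rw [List.take_succ_eq_append_getElem hi', Ideal.ofList_append, Ideal.ofList_singleton] at hx2 ⊢
    obtain ⟨j, hj, y, hy, rfl⟩ := Submodule.mem_sup.mp hx2
    obtain ⟨c, rfl⟩ := Ideal.mem_span_singleton'.mp hy
    have hx0 : MvPolynomial.map (res p k) (j + c * rs'[i]) = 0 := by
      obtain ⟨a, ha⟩ := Ideal.mem_span_singleton'.mp hx1
      rw [← ha, map_mul, map_res_P, mul_zero]
    have hi'' : i < (rs'.map (MvPolynomial.map (res p k))).length := by
      rw [List.length_map]; exact hi'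
    have hreg_i := hreg.regular_mod_prev i hi''
    have hcmem : MvPolynomial.map (res p k) c ∈
        (Ideal.ofList (rs'.take i)).map (MvPolynomial.map (res p k)) := by
      have h1 : Submodule.Quotient.mk (p := (Ideal.ofList ((rs'.map (MvPolynomial.map (res p k))).take i) •
          (⊤ : Submodule (MvPolynomial (Fin n) k) (MvPolynomial (Fin n) k))))
          (MvPolynomial.map (res p k) c) = 0 := by
        apply hreg_i
        change (rs'.map (MvPolynomial.map (res p k)))[i] • Submodule.Quotient.mk _ =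
          (rs'.map (MvPolynomial.map (res p k)))[i] • 0
        rw [smul_zero, ← Submodule.Quotient.mk_smul, Submodule.Quotient.mk_eq_zero, smul_eq_mul,
          Ideal.mul_top, List.getElem_map, smul_eq_mul, ← List.map_take, ← Ideal.map_ofList]
        have : MvPolynomial.map (res p k) rs'[i] * MvPolynomial.map (res p k) c =
            - MvPolynomial.map (res p k) j := by
          rw [map_add, map_mul] at hx0
          linear_combination hx0
        rw [this]
        exact neg_mem (Ideal.mem_map_of_mem _ hj)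
      rw [Submodule.Quotient.mk_eq_zero, smul_eq_mul, Ideal.mul_top, ← List.map_take,
        ← Ideal.map_ofList] at h1
      exact h1
    obtain ⟨j1, hj1, c1, rfl⟩ := exists_of_map_mem p k _ c hcmem
    have hmem : j + j1 * rs'[i] ∈ Ideal.span {(p : MvPolynomial (Fin n) (W2 p k))} ⊓
        Ideal.ofList (rs'.take i) := by
      refine ⟨?_, Ideal.add_mem _ hj (Ideal.mul_mem_right _ _ hj1)⟩
      have : j + j1 * rs'[i] = (j + (j1 + ↑p * c1) * rs'[i]) -
          (p : MvPolynomial (Fin n) (W2 p k)) * (c1 * rs'[i]) := by ring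
      rw [this]
      exact Ideal.sub_mem _ hx1 (Ideal.mul_mem_right _ _ (Ideal.mem_span_singleton_self _))
    rw [ih'] at hmem
    have e : j + (j1 + ↑p * c1) * rs'[i] = (j + j1 * rs'[i]) +
        (p : MvPolynomial (Fin n) (W2 p k)) * (c1 * rs'[i]) := by ring
    rw [e]
    refine Ideal.add_mem _ (Ideal.mul_mono_right le_sup_left hmem) ?_
    exact Ideal.mul_mem_mul (Ideal.mem_span_singleton_self _)
      (Submodule.mem_sup_right (Ideal.mul_mem_left _ _ (Ideal.mem_span_singleton_self _)))

end regular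

section main

open Groth.Agent.Lib.Helper71.W2 MvPolynomial Groth.Agent.S13138

variable (p : ℕ) [Fact p.Prime] (k : Type u) [Field k] [CharP k p] [PerfectRing k p] {n : ℕ}

theorem ker_q' (J' : Ideal (MvPolynomial (Fin n) (W2 p k))) (J : Ideal (MvPolynomial (Fin n) k))
    (hJ : J'.map (MvPolynomial.map (res p k)) = J)
    (hle : J' ≤ J.comap (MvPolynomial.map (res p k)))
    (b : MvPolynomial (Fin n) (W2 p k) ⧸ J')
    (hb : Ideal.quotientMap J (MvPolynomial.map (res p k)) hle b = 0) :
    ∃ c, b = Ideal.Quotient.mk J' ((p : MvPolynomial (Fin n) (W2 p k)) * c) := by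
  obtain ⟨g, rfl⟩ := Ideal.Quotient.mk_surjective b
  rw [Ideal.quotientMap_mk, Ideal.Quotient.eq_zero_iff_mem, ← hJ] at hb
  obtain ⟨j, hj, c, rfl⟩ := exists_of_map_mem p k J' g hb
  refine ⟨c, ?_⟩
  rw [map_add, Ideal.Quotient.eq_zero_iff_mem.mpr hj, zero_add]

omit [PerfectRing k p] in
theorem natCast_quot_eq_zero (J : Ideal (MvPolynomial (Fin n) k)) :
    (p : MvPolynomial (Fin n) k ⧸ J) = 0 := by
  have h1 : (p : MvPolynomial (Fin n) k) = 0 := by
    have : (p : MvPolynomial (Fin n) k) = C (p : k) := by rw [map_natCast]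
    rw [this, CharP.cast_eq_zero, map_zero]
  rw [← map_natCast (Ideal.Quotient.mk J), h1, map_zero]

theorem direction_mpr {m : ℕ} (f : Fin m → MvPolynomial (Fin n) k)
    (hreg : RingTheory.Sequence.IsWeaklyRegular (MvPolynomial (Fin n) k) (List.ofFn f))
    (f' : Fin m → MvPolynomial (Fin n) (W2 p k)) (h : Fin n → MvPolynomial (Fin n) (W2 p k))
    (hf : ∀ i, MvPolynomial.map (res p k) (f' i) = f i)
    (hE : ∀ i, polyFrob p k (Fin n) (f' i) - f' i ^ p
        - (p : MvPolynomial (Fin n) (W2 p k)) * ∑ j, pderiv j (f' i) ^ p * h j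
        ∈ Ideal.span {(p : MvPolynomial (Fin n) (W2 p k))} * Ideal.span (Set.range f')) :
    IsFLiftable p k (MvPolynomial (Fin n) k ⧸ Ideal.span (Set.range f)) := by
  have hcomp : (MvPolynomial.map (res p k) : MvPolynomial (Fin n) (W2 p k) → _) ∘ f' = f :=
    funext hf
  have hJ : (Ideal.span (Set.range f')).map (MvPolynomial.map (res p k)) =
      Ideal.span (Set.range f) := by
    rw [Ideal.map_span, ← Set.range_comp, hcomp]
  have hle' : Ideal.span (Set.range f') ≤
      (Ideal.span (Set.range f)).comap (MvPolynomial.map (res p k)) := by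
    rw [← hJ]; exact Ideal.le_comap_map
  have hofList : Ideal.ofList (List.ofFn f') = Ideal.span (Set.range f') := by
    unfold Ideal.ofList
    congr 1
    ext x
    simp only [Set.mem_setOf_eq, List.mem_ofFn, Set.mem_range]
  have hreg' : RingTheory.Sequence.IsWeaklyRegular (MvPolynomial (Fin n) k)
      ((List.ofFn f').map (MvPolynomial.map (res p k))) := by
    rw [List.map_ofFn, hcomp]
    exact hreg
  have hinf : Ideal.span {(p : MvPolynomial (Fin n) (W2 p k))} ⊓ Ideal.span (Set.range f') =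
      Ideal.span {(p : MvPolynomial (Fin n) (W2 p k))} * Ideal.span (Set.range f') := by
    have := inf_eq_mul_of_regular p k (List.ofFn f') hreg' (List.ofFn f').length le_rfl
    rwa [List.take_length, hofList] at this
  have hfl : Module.Flat (W2 p k)
      (MvPolynomial (Fin n) (W2 p k) ⧸ Ideal.span (Set.range f')) :=
    (flat_quotient_iff p k (MvPolynomial (Fin n) (W2 p k)) (Ideal.span (Set.range f'))).mpr hinf
  have hle : Ideal.span (Set.range f') ≤ (Ideal.span (Set.range f')).comap (Phit p k h) := by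
    rw [Ideal.span_le]
    rintro _ ⟨i, rfl⟩
    change Phit p k h (f' i) ∈ Ideal.span (Set.range f')
    have e : Phit p k h (f' i) = (polyFrob p k (Fin n) (f' i) - f' i ^ p
        - (p : MvPolynomial (Fin n) (W2 p k)) * ∑ j, pderiv j (f' i) ^ p * h j)
        + f' i ^ p := by
      rw [Phit_eq]
      ring
    rw [e]
    exact Ideal.add_mem _ (Ideal.mul_le_right (hE i))
      (Ideal.pow_mem_of_mem _ (Ideal.subset_span (Set.mem_range_self i)) p
        (Fact.out : p.Prime).pos)
  have hμsurj : Function.Surjective (MvPolynomial.map (σ := Fin n) (res p k)) :=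
    MvPolynomial.map_surjective _ (fun a => ⟨T p a, by rw [res_apply, coeff_T_zero]⟩)
  refine ⟨MvPolynomial (Fin n) (W2 p k) ⧸ Ideal.span (Set.range f'), inferInstance,
    (Ideal.Quotient.mk (Ideal.span (Set.range f'))).comp MvPolynomial.C,
    Ideal.quotientMap (Ideal.span (Set.range f)) (MvPolynomial.map (res p k)) hle',
    Ideal.quotientMap _ (Phit p k h) hle, ?_⟩
  refine { toIsLift := ?_, semi := ?_, red := ?_ }
  · apply IsLift.of_forall
    · intro b hb
      exact eq_p_mul_of_p_mul_eq_zero p k _ b hb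
    · exact Ideal.quotientMap_surjective hμsurj
    · intro b hb
      obtain ⟨c, hc⟩ := ker_q' p k _ _ hJ hle' b hb
      exact ⟨Ideal.Quotient.mk _ c, by rw [hc, map_mul, map_natCast]⟩
    · rw [map_natCast]
      exact natCast_quot_eq_zero p k _
    · ext a
      rw [RingHom.comp_apply, RingHom.comp_apply, Ideal.quotientMap_mk, map_C]
      rfl
  · ext a
    rw [RingHom.comp_apply, RingHom.comp_apply, Ideal.quotientMap_mk, Phit_C]
    rfl
  · intro b
    obtain ⟨g, rfl⟩ := Ideal.Quotient.mk_surjective b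
    rw [Ideal.quotientMap_mk, Ideal.quotientMap_mk, Ideal.quotientMap_mk, map_res_Phit, map_pow]

end main

section mp

open Groth.Agent.Lib.Helper71.W2 MvPolynomial Groth.Agent.S13138

variable (p : ℕ) [Fact p.Prime] (k : Type u) [Field k] [CharP k p] [PerfectRing k p] {n : ℕ}

theorem direction_mp {m : ℕ} (f : Fin m → MvPolynomial (Fin n) k)
    (hF : IsFLiftable p k (MvPolynomial (Fin n) k ⧸ Ideal.span (Set.range f))) :
    ∃ (f' : Fin m → MvPolynomial (Fin n) (W2 p k)) (h : Fin n → MvPolynomial (Fin n) (W2 p k)),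
      (∀ i, MvPolynomial.map (res p k) (f' i) = f i) ∧
      ∀ i, polyFrob p k (Fin n) (f' i) - f' i ^ p
        - (p : MvPolynomial (Fin n) (W2 p k)) * ∑ j, pderiv j (f' i) ^ p * h j
        ∈ Ideal.span {(p : MvPolynomial (Fin n) (W2 p k))} * Ideal.span (Set.range f') := by
  obtain ⟨B', _, ι, π, Φ, hΦ⟩ := hF
  have hL := hΦ.toIsLift
  have hμsurj : Function.Surjective (MvPolynomial.map (σ := Fin n) (res p k)) :=
    MvPolynomial.map_surjective _ (fun a => ⟨T p a, by rw [res_apply, coeff_T_zero]⟩)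
  have hb : ∀ j : Fin n, ∃ b : B', π b = Ideal.Quotient.mk _ (X j) := fun j => hL.surj _
  choose b hb using hb
  let ψ : MvPolynomial (Fin n) (W2 p k) →+* B' := eval₂Hom ι b
  have hψC : ∀ a, ψ (C a) = ι a := fun a => by
    change eval₂Hom ι b (C a) = ι a
    rw [coe_eval₂Hom, eval₂_C]
  have hψX : ∀ j, ψ (X j) = b j := fun j => by
    change eval₂Hom ι b (X j) = b j
    rw [coe_eval₂Hom, eval₂_X]
  have hπψ' : π.comp ψ = (Ideal.Quotient.mk (Ideal.span (Set.range f))).comp
      (MvPolynomial.map (res p k)) := by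
    apply MvPolynomial.ringHom_ext
    · intro a
      rw [RingHom.comp_apply, hψC, RingHom.comp_apply, map_C]
      have := congrArg (fun g => g a) hL.comm
      simp only [RingHom.comp_apply] at this
      rw [this]
      rfl
    · intro j
      rw [RingHom.comp_apply, hψX, hb, RingHom.comp_apply, map_X]
  have hπψ : ∀ g, π (ψ g) = Ideal.Quotient.mk (Ideal.span (Set.range f))
      (MvPolynomial.map (res p k) g) := fun g => by
    have := congrArg (fun F => F g) hπψ'
    simpa only [RingHom.comp_apply] using this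
  have hψP : ψ (p : MvPolynomial (Fin n) (W2 p k)) = (p : B') := map_natCast ψ p
  have hstep : ∀ b' : B', ∃ g b1, b' = ψ g + (p : B') * b1 := by
    intro b'
    obtain ⟨r, hr⟩ := Ideal.Quotient.mk_surjective (π b')
    obtain ⟨g, rfl⟩ := hμsurj r
    obtain ⟨b1, hb1⟩ := IsLift.exists_of_map_eq_zero p k hL (b' - ψ g)
      (by rw [map_sub, hπψ, hr, sub_self])
    exact ⟨g, b1, by rw [← hb1]; ring⟩
  have hψsurj : Function.Surjective ψ := by
    intro b'
    obtain ⟨g, b1, rfl⟩ := hstep b'
    obtain ⟨g1, b2, rfl⟩ := hstep b1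
    refine ⟨g + (p : MvPolynomial (Fin n) (W2 p k)) * g1, ?_⟩
    rw [map_add, map_mul, hψP, mul_add, ← mul_assoc, IsLift.p_mul_p p k hL, zero_mul, add_zero]
  have hf' : ∀ i : Fin m, ∃ fi : MvPolynomial (Fin n) (W2 p k),
      MvPolynomial.map (res p k) fi = f i ∧ ψ fi = 0 := by
    intro i
    obtain ⟨g, hg⟩ := hμsurj (f i)
    have h0 : π (ψ g) = 0 := by
      rw [hπψ, hg, Ideal.Quotient.eq_zero_iff_mem]
      exact Ideal.subset_span (Set.mem_range_self i)
    obtain ⟨b1, hb1⟩ := IsLift.exists_of_map_eq_zero p k hL _ h0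
    obtain ⟨g1, rfl⟩ := hψsurj b1
    refine ⟨g - (p : MvPolynomial (Fin n) (W2 p k)) * g1, ?_, ?_⟩
    · rw [map_sub, map_mul, map_res_P, zero_mul, sub_zero, hg]
    · rw [map_sub, map_mul, hψP, hb1, sub_self]
  choose f' hf'1 hf'2 using hf'
  have hcompf : (MvPolynomial.map (res p k) : MvPolynomial (Fin n) (W2 p k) → _) ∘ f' = f :=
    funext hf'1
  have hJ : (Ideal.span (Set.range f')).map (MvPolynomial.map (res p k)) =
      Ideal.span (Set.range f) := by
    rw [Ideal.map_span, ← Set.range_comp, hcompf]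
  have hJker : ∀ g ∈ Ideal.span (Set.range f'), ψ g = 0 := by
    intro g hg
    have : Ideal.span (Set.range f') ≤ RingHom.ker ψ := by
      rw [Ideal.span_le]
      rintro _ ⟨i, rfl⟩
      exact hf'2 i
    exact this hg
  have hdecomp : ∀ g, π (ψ g) = 0 → ∃ j ∈ Ideal.span (Set.range f'), ∃ c,
      g = j + (p : MvPolynomial (Fin n) (W2 p k)) * c := by
    intro g hg
    rw [hπψ, Ideal.Quotient.eq_zero_iff_mem, ← hJ] at hg
    exact exists_of_map_mem p k _ g hg
  have hPmem : ∀ a, (p : B') * ψ a = 0 →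
      (p : MvPolynomial (Fin n) (W2 p k)) * a ∈
        Ideal.span {(p : MvPolynomial (Fin n) (W2 p k))} * Ideal.span (Set.range f') := by
    intro a ha
    rw [IsLift.p_mul_eq_zero_iff p k hL] at ha
    obtain ⟨j, hj, c, rfl⟩ := hdecomp a ha
    rw [mul_add, ← mul_assoc, PP, zero_mul, add_zero]
    exact Ideal.mul_mem_mul (Ideal.mem_span_singleton_self _) hj
  have hkerψ : ∀ g, ψ g = 0 → g ∈ Ideal.span (Set.range f') := by
    intro g hg
    obtain ⟨j, hj, c, rfl⟩ := hdecomp g (by rw [hg, map_zero])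
    rw [map_add, hJker j hj, zero_add, map_mul, hψP] at hg
    exact Ideal.add_mem _ hj (Ideal.mul_le_right (hPmem c hg))
  have hex : ∀ j : Fin n, ∃ hj : MvPolynomial (Fin n) (W2 p k),
      Φ (ψ (X j)) = ψ (X j ^ p - (p : MvPolynomial (Fin n) (W2 p k)) * hj) := by
    intro j
    obtain ⟨b1, hb1⟩ := IsLift.exists_of_map_eq_zero p k hL (Φ (ψ (X j)) - ψ (X j) ^ p)
      (by rw [map_sub, hΦ.red, map_pow, sub_self])
    obtain ⟨c, rfl⟩ := hψsurj b1
    refine ⟨-c, ?_⟩
    rw [mul_neg, sub_neg_eq_add, map_add, map_pow, map_mul, hψP, ← hb1]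
    ring
  choose h hh using hex
  have hcomp : Φ.comp ψ = ψ.comp (Phit p k h) := by
    apply MvPolynomial.ringHom_ext
    · intro a
      rw [RingHom.comp_apply, hψC, RingHom.comp_apply, Phit_C, hψC]
      have := congrArg (fun g => g a) hΦ.semi
      simpa only [RingHom.comp_apply] using this
    · intro j
      rw [RingHom.comp_apply, hh, RingHom.comp_apply, Phit_X]
  refine ⟨f', h, hf'1, fun i => ?_⟩
  have h1 : Phit p k h (f' i) ∈ Ideal.span (Set.range f') := by
    apply hkerψ
    have := congrArg (fun F => F (f' i)) hcomp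
    simp only [RingHom.comp_apply] at this
    rw [← this, hf'2, map_zero]
  obtain ⟨c, hc⟩ := polyFrob_sub_pow_mem p k (f' i)
  have e : polyFrob p k (Fin n) (f' i) - f' i ^ p
      - (p : MvPolynomial (Fin n) (W2 p k)) * ∑ j, pderiv j (f' i) ^ p * h j
      = (p : MvPolynomial (Fin n) (W2 p k)) * (c - ∑ j, pderiv j (f' i) ^ p * h j) := by
    rw [hc, mul_sub]
  have e2 : polyFrob p k (Fin n) (f' i) - f' i ^ p
      - (p : MvPolynomial (Fin n) (W2 p k)) * ∑ j, pderiv j (f' i) ^ p * h j
      = Phit p k h (f' i) - f' i ^ p := by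
    rw [Phit_eq]
    ring
  rw [e]
  apply hPmem
  rw [← hψP, ← map_mul, ← e, e2, map_sub, hJker _ h1, map_pow, hf'2,
    zero_pow (Fact.out : p.Prime).ne_zero, sub_zero]

end mp

/-- Let k be a perfect field of characteristic p and f_1, …, f_m a regular sequence in R = k[x_1, …,
x_n]. The complete intersection A = R/(f_1, …, f_m) lifts to W₂(k) compatibly with Frobenius if and
only if for some lifts f'_1, …, f'_m ∈ R' = W₂(k)[x_1, …, x_n] of the f_i and some h_1, …, h_n ∈ R'
one has F'(f'_i) − f'_i^p − p·Σ_j (∂f'_i/∂x_j)^p h_j ∈ p·(f'_1, …, f'_m) for every i, F' being the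
standard Frobenius lift of R'. In terms of Frobenius residues P(f') = (F'(f') − f'^p)/p ∈ R, which
change by g^p when f' changes by pg, this is the congruence P_{f_i} + g_i^p ≡ Σ_j (∂f_i/∂x_j)^p h_j
modulo (f_1, …, f_m) for some g_i, h_j. -/
theorem result
    (p : ℕ) [Fact p.Prime] (k : Type u) [Field k] [CharP k p] [PerfectRing k p]
    {n m : ℕ} (f : Fin m → MvPolynomial (Fin n) k)
    (hreg : RingTheory.Sequence.IsRegular (MvPolynomial (Fin n) k) (List.ofFn f)) :
    FrobAlg.IsFLiftable p k (MvPolynomial (Fin n) k ⧸ Ideal.span (Set.range f)) ↔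
    ∃ (f' : Fin m → MvPolynomial (Fin n) (FrobAlg.W2 p k)) (h : Fin n → MvPolynomial (Fin n) (FrobAlg.W2 p k)),
      (∀ i, MvPolynomial.map (FrobAlg.res p k) (f' i) = f i) ∧
      ∀ i, FrobAlg.polyFrob p k (Fin n) (f' i) - f' i ^ p
        - (p : MvPolynomial (Fin n) (FrobAlg.W2 p k)) * ∑ j, MvPolynomial.pderiv j (f' i) ^ p * h j
        ∈ Ideal.span {(p : MvPolynomial (Fin n) (FrobAlg.W2 p k))} * Ideal.span (Set.range f') := by
  constructor
  · intro hF
    exact direction_mp p k f hF
  · rintro ⟨f', h, hf, hE⟩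
    exact direction_mpr p k f hreg.toIsWeaklyRegular f' h hf hE

end Groth.Agent.S13139
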