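import Groth.Statements.S13141

set_option autoImplicit false
universe u v w w'
open scoped TensorProduct
open GrpAlg

namespace Groth.Agent.S13141

theorem averageMap_eq {R : Type u} [CommRing R] {G : Type v} [Group G] [Fintype G]
    [Invertible (Fintype.card G : R)] {M : Type w} [AddCommGroup M] [Module R M]
    (ρ : Representation R G M) :
    ρ.averageMap = ⅟(Fintype.card G : R) • ∑ g : G, ρ g := by
  simp [Representation.averageMap, GroupAlgebra.average, map_sum]

/-- Let G be a finite group, R a commutative ring with |G| invertible in R, M a projective R-module with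
an R-linear G-action and S an R-algebra. The natural map M^G ⊗_R S → M ⊗_R S is injective and its
image is the submodule of G-invariants of M ⊗_R S (G acting on the first factor); that is, M^G ⊗_R S
→ (M ⊗_R S)^G is bijective. -/
theorem result
    (R : Type u) [CommRing R] (G : Type v) [Group G] [Finite G] (hG : IsUnit ((Nat.card G : ℕ) : R))
    (M : Type w) [AddCommGroup M] [Module R M] [Module.Projective R M] (ρ : Representation R G M)
    (S : Type w') [CommRing S] [Algebra R S] :
    Function.Injective (TensorProduct.map ρ.invariants.subtype (LinearMap.id : S →ₗ[R] S)) ∧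
    LinearMap.range (TensorProduct.map ρ.invariants.subtype (LinearMap.id : S →ₗ[R] S)) =
      ⨅ g : G, LinearMap.eqLocus (LinearMap.rTensor S (ρ g)) LinearMap.id := by
  classical
  haveI : Fintype G := Fintype.ofFinite G
  rw [Nat.card_eq_fintype_card] at hG
  haveI : Invertible (Fintype.card G : R) := hG.invertible
  let ι : ρ.invariants →ₗ[R] M := ρ.invariants.subtype
  let π : M →ₗ[R] ρ.invariants := ρ.averageMap.codRestrict ρ.invariants ρ.averageMap_invariant
  have hπι : π ∘ₗ ι = LinearMap.id := by
    ext ⟨w, hw⟩
    exact ρ.averageMap_id w hw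
  have hιπ : ι ∘ₗ π = ρ.averageMap := by
    ext m
    rfl
  have hcomp : (TensorProduct.map π (LinearMap.id : S →ₗ[R] S)) ∘ₗ
      (TensorProduct.map ι (LinearMap.id : S →ₗ[R] S)) = LinearMap.id := by
    rw [← TensorProduct.map_comp, hπι, LinearMap.id_comp, TensorProduct.map_id]
  refine ⟨?_, ?_⟩
  · intro x y hxy
    have := congrArg (TensorProduct.map π (LinearMap.id : S →ₗ[R] S)) hxy
    rw [← LinearMap.comp_apply, ← LinearMap.comp_apply, hcomp] at this
    exact this
  · apply le_antisymm
    · rintro _ ⟨x, rfl⟩
      rw [Submodule.mem_iInf]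
      intro g
      rw [LinearMap.mem_eqLocus, LinearMap.id_apply]
      have : (LinearMap.rTensor S (ρ g)) ∘ₗ (TensorProduct.map ι (LinearMap.id : S →ₗ[R] S)) =
          TensorProduct.map ι (LinearMap.id : S →ₗ[R] S) := by
        rw [LinearMap.rTensor, ← TensorProduct.map_comp, LinearMap.id_comp]
        congr 1
        ext ⟨w, hw⟩
        exact hw g
      exact LinearMap.congr_fun this x
    · intro y hy
      rw [Submodule.mem_iInf] at hy
      have hy' : ∀ g : G, (LinearMap.rTensor S (ρ g)) y = y := fun g => by
        have := hy g
        rwa [LinearMap.mem_eqLocus, LinearMap.id_apply] at this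
      have h1 : (LinearMap.rTensor S ρ.averageMap) y = y := by
        rw [averageMap_eq, LinearMap.rTensor_smul, ← LinearMap.coe_rTensorHom, map_sum]
        simp only [LinearMap.coe_rTensorHom, LinearMap.smul_apply, LinearMap.sum_apply, hy']
        rw [Finset.sum_const, Finset.card_univ, ← Nat.cast_smul_eq_nsmul R, smul_smul,
          invOf_mul_self, one_smul]
      refine ⟨(TensorProduct.map π (LinearMap.id : S →ₗ[R] S)) y, ?_⟩
      rw [← LinearMap.comp_apply, ← TensorProduct.map_comp, hιπ, LinearMap.id_comp]
      exact h1

end Groth.Agent.S13141
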