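import Groth.Statements.S13142
import Mathlib.RingTheory.Flat.Basic
import Mathlib.Algebra.MvPolynomial.Basic
import Mathlib.LinearAlgebra.Basis.Basic

set_option autoImplicit false
universe u v
open GrpAlg

namespace Groth.Agent.S13142

/-- Invariants of a finite group with invertible order acting linearly on a flat module are flat. -/
theorem flat_invariants (R : Type u) [CommRing R] (G : Type v) [Group G] [Finite G]
    (hG : IsUnit ((Nat.card G : ℕ) : R)) (P : Type u) [AddCommGroup P] [Module R P] [Module.Flat R P]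
    (ρ : G →* (P ≃ₗ[R] P)) :
    Module.Flat R ↥(⨅ g : G, LinearMap.eqLocus (ρ g).toLinearMap (LinearMap.id : P →ₗ[R] P)) := by
  classical
  haveI : Fintype G := Fintype.ofFinite G
  rw [Nat.card_eq_fintype_card] at hG
  obtain ⟨u, hu⟩ := hG.exists_left_inv
  let W : Submodule R P := ⨅ g : G, LinearMap.eqLocus (ρ g).toLinearMap (LinearMap.id : P →ₗ[R] P)
  have hW : ∀ p : P, p ∈ W ↔ ∀ g : G, ρ g p = p := by
    intro p
    simp only [W, Submodule.mem_iInf, LinearMap.mem_eqLocus, LinearMap.id_apply,
      LinearEquiv.coe_coe]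
  let avg : P →ₗ[R] P := u • ∑ g : G, (ρ g).toLinearMap
  have havg : ∀ p, avg p = u • ∑ g : G, ρ g p := by
    intro p
    simp [avg, LinearMap.sum_apply]
  have hmem : ∀ p, avg p ∈ W := by
    intro p
    rw [hW]
    intro h
    rw [havg, map_smul, map_sum]
    congr 1
    have : ∀ g : G, ρ h (ρ g p) = ρ (h * g) p := fun g => by
      rw [map_mul]; rfl
    simp only [this]
    exact Fintype.sum_equiv (Equiv.mulLeft h) _ _ (fun g => rfl)
  have hid : ∀ w ∈ W, avg w = w := by
    intro w hw
    rw [hW] at hw
    rw [havg]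
    simp only [hw]
    rw [Finset.sum_const, Finset.card_univ, ← Nat.cast_smul_eq_nsmul R, smul_smul, hu, one_smul]
  refine Module.Flat.of_retract (M := P) W.subtype (avg.codRestrict W hmem) ?_
  ext ⟨w, hw⟩
  exact hid w hw

/-- Let G be a finite group and R a commutative ring with |G| invertible in R, acting on R[x_1, …, x_n]
by R-algebra automorphisms. The invariant subring R[x_1, …, x_n]^G is a flat R-module (so the
quotient of affine n-space over R by G is flat over R). -/
theorem result
    (R : Type u) [CommRing R] (G : Type v) [Group G] [Finite G] (hG : IsUnit ((Nat.card G : ℕ) : R))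
    (n : ℕ) (ρ : G →* (MvPolynomial (Fin n) R ≃ₐ[R] MvPolynomial (Fin n) R)) :
    Module.Flat R ↥(⨅ g : G, LinearMap.eqLocus (ρ g).toLinearMap (LinearMap.id : MvPolynomial (Fin n) R →ₗ[R] MvPolynomial (Fin n) R)) := by
  let ρ' : G →* (MvPolynomial (Fin n) R ≃ₗ[R] MvPolynomial (Fin n) R) :=
    { toFun := fun g => (ρ g).toLinearEquiv
      map_one' := by rw [map_one]; rfl
      map_mul' := fun g h => by rw [map_mul]; rfl }
  exact flat_invariants R G hG (MvPolynomial (Fin n) R) ρ'

end Groth.Agent.S13142
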