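import Groth.Statements.S13143
import Groth.Agent.Lib.Helper71.W2

set_option autoImplicit false
universe u
open FrobAlg

namespace Groth.Agent.S13143

section construction

open Groth.Agent.Lib.Helper71

variable (A : Type u) {B B' : Type u} [CommRing A] [CommRing B] [CommRing B'] [Algebra A B]

def S (πB : B' →+* B) : Subring B' := (algebraMap A B).range.comap πB

variable {A}

theorem key (r : B →ₗ[A] A) (hr : ∀ a : A, r (algebraMap A B a) = a) (πB : B' →+* B)
    (x : S A πB) : algebraMap A B (r (πB x)) = πB x := by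
  obtain ⟨a, ha⟩ : πB x ∈ (algebraMap A B).range := x.2
  rw [← ha, hr]

def K (p : ℕ) (r : B →ₗ[A] A) (πB : B' →+* B) : Ideal (S A πB) where
  carrier := {x | ∃ b' : B', (x : B') = (p : B') * b' ∧ r (πB b') = 0}
  add_mem' := by
    rintro x y ⟨b1, h1, h1'⟩ ⟨b2, h2, h2'⟩
    refine ⟨b1 + b2, ?_, ?_⟩
    · rw [Subring.coe_add, h1, h2, mul_add]
    · rw [map_add, map_add, h1', h2', add_zero]
  zero_mem' := ⟨0, by simp, by simp⟩
  smul_mem' := by
    rintro c x ⟨b1, h1, h1'⟩
    obtain ⟨a, ha⟩ : πB c ∈ (algebraMap A B).range := c.2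
    refine ⟨c * b1, ?_, ?_⟩
    · rw [smul_eq_mul, Subring.coe_mul, h1]
      ring
    · rw [map_mul, ← ha, ← Algebra.smul_def, map_smul, h1', smul_zero]

theorem mem_K (p : ℕ) (r : B →ₗ[A] A) (πB : B' →+* B) (x : S A πB) :
    x ∈ K p r πB ↔ ∃ b' : B', (x : B') = (p : B') * b' ∧ r (πB b') = 0 := Iff.rfl

noncomputable def piS (r : B →ₗ[A] A) (hr : ∀ a : A, r (algebraMap A B a) = a) (πB : B' →+* B) :
    S A πB →+* A where
  toFun x := r (πB x)
  map_one' := by
    have : πB ((1 : S A πB) : B') = algebraMap A B 1 := by simp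
    rw [this, hr]
  map_mul' x y := by
    have hinj : Function.Injective (algebraMap A B) := fun a b h => by
      have := congrArg r h
      rwa [hr, hr] at this
    apply hinj
    rw [map_mul, key r hr πB x, key r hr πB y, key r hr πB (x * y), Subring.coe_mul, map_mul]
  map_zero' := by simp
  map_add' x y := by
    rw [Subring.coe_add, map_add, map_add]

theorem piS_apply (r : B →ₗ[A] A) (hr : ∀ a : A, r (algebraMap A B a) = a) (πB : B' →+* B)
    (x : S A πB) : piS r hr πB x = r (πB x) := rfl

end construction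

/-- Let k be a perfect field of characteristic p and A → B a homomorphism of Noetherian k-algebras with
an A-linear retraction B → A. If B lifts flatly to W₂(k), so does A. (The published statement
phrases the descent for finite surjective morphisms of degree prime to p, via a trace splitting; the
argument uses exactly an A-linear splitting of A → B for an affine morphism, which is the hypothesis
taken here.) -/
theorem result
    (p : ℕ) [Fact p.Prime] (k : Type u) [Field k] [CharP k p] [PerfectRing k p]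
    (A B : Type u) [CommRing A] [CommRing B] [Algebra k A] [Algebra k B]
    [IsNoetherianRing A] [IsNoetherianRing B] [Algebra A B] [IsScalarTower k A B]
    (r : B →ₗ[A] A) (hr : ∀ a : A, r (algebraMap A B a) = a)
    (hB : FrobAlg.IsW2Liftable p k B) : FrobAlg.IsW2Liftable p k A := by
  classical
  obtain ⟨B', _, ιB, πB, hB'⟩ := hB
  have hpB : πB (p : B') = 0 := Groth.Agent.Lib.Helper71.W2.IsLift.map_p p k hB'
  have hK0 : ∀ x ∈ K p r πB, piS r hr πB x = 0 := by
    intro x hx
    obtain ⟨b', h1, _⟩ := hx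
    rw [piS_apply, h1, map_mul, hpB, zero_mul, map_zero]
  have hmemS : ∀ w : W2 p k, ιB w ∈ S A πB := by
    intro w
    change πB (ιB w) ∈ (algebraMap A B).range
    have := congrArg (fun f => f w) hB'.comm
    simp only [RingHom.comp_apply] at this
    rw [this, IsScalarTower.algebraMap_apply k A B]
    exact ⟨_, rfl⟩
  let ιA : W2 p k →+* (S A πB ⧸ K p r πB) :=
    (Ideal.Quotient.mk (K p r πB)).comp (ιB.codRestrict (S A πB) hmemS)
  let πA : (S A πB ⧸ K p r πB) →+* A := Ideal.Quotient.lift (K p r πB) (piS r hr πB) hK0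
  have hL : ∀ x : S A πB, πB x = 0 → ∃ e : S A πB,
      Ideal.Quotient.mk (K p r πB) x =
        (p : S A πB ⧸ K p r πB) * Ideal.Quotient.mk (K p r πB) e := by
    intro x hx
    obtain ⟨c', hc'⟩ := Groth.Agent.Lib.Helper71.W2.IsLift.exists_of_map_eq_zero p k hB' (x : B') hx
    obtain ⟨e0, he0⟩ := hB'.surj (algebraMap A B (r (πB c')))
    have he0mem : e0 ∈ S A πB := by
      change πB e0 ∈ (algebraMap A B).range
      exact ⟨_, he0.symm⟩
    refine ⟨⟨e0, he0mem⟩, ?_⟩
    rw [← map_natCast (Ideal.Quotient.mk (K p r πB)), ← map_mul, Ideal.Quotient.eq, mem_K]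
    refine ⟨c' - e0, ?_, ?_⟩
    · push_cast
      rw [hc', mul_sub]
    · rw [map_sub, map_sub, he0, hr, sub_self]
  refine ⟨S A πB ⧸ K p r πB, inferInstance, ιA, πA, ?_⟩
  apply Groth.Agent.Lib.Helper71.W2.IsLift.of_forall
  · intro x hx
    obtain ⟨a'', rfl⟩ := Ideal.Quotient.mk_surjective x
    rw [← map_natCast (Ideal.Quotient.mk (K p r πB)), ← map_mul,
      Ideal.Quotient.eq_zero_iff_mem, mem_K] at hx
    obtain ⟨b', h1, h1'⟩ := hx
    rw [Subring.coe_mul, Subring.coe_natCast] at h1
    have h2 : (p : B') * ((a'' : B') - b') = 0 := by rw [mul_sub, h1, sub_self]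
    rw [Groth.Agent.Lib.Helper71.W2.IsLift.p_mul_eq_zero_iff p k hB', map_sub, sub_eq_zero] at h2
    have h3 : πB a'' = 0 := by
      rw [← key r hr πB a'', h2, h1', map_zero]
    obtain ⟨e, he⟩ := hL a'' h3
    exact ⟨_, he⟩
  · intro a
    obtain ⟨b', hb'⟩ := hB'.surj (algebraMap A B a)
    have hb'mem : b' ∈ S A πB := by
      change πB b' ∈ (algebraMap A B).range
      exact ⟨_, hb'.symm⟩
    refine ⟨Ideal.Quotient.mk (K p r πB) ⟨b', hb'mem⟩, ?_⟩
    change Ideal.Quotient.lift (K p r πB) (piS r hr πB) hK0 _ = a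
    rw [Ideal.Quotient.lift_mk, piS_apply]
    change r (πB b') = a
    rw [hb', hr]
  · intro x hx
    obtain ⟨a'', rfl⟩ := Ideal.Quotient.mk_surjective x
    change Ideal.Quotient.lift (K p r πB) (piS r hr πB) hK0 _ = 0 at hx
    rw [Ideal.Quotient.lift_mk, piS_apply] at hx
    have h3 : πB a'' = 0 := by
      rw [← key r hr πB a'', hx, map_zero]
    obtain ⟨e, he⟩ := hL a'' h3
    exact ⟨_, he⟩
  · rw [map_natCast]
    have : (p : A) = algebraMap k A (p : k) := by rw [map_natCast]
    rw [this, CharP.cast_eq_zero, map_zero]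
  · ext w
    change Ideal.Quotient.lift (K p r πB) (piS r hr πB) hK0
      (Ideal.Quotient.mk (K p r πB) (ιB.codRestrict (S A πB) hmemS w)) = _
    rw [Ideal.Quotient.lift_mk, piS_apply]
    change r (πB (ιB w)) = _
    have := congrArg (fun f => f w) hB'.comm
    simp only [RingHom.comp_apply] at this
    rw [this, IsScalarTower.algebraMap_apply k A B, hr]
    rfl

end Groth.Agent.S13143
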