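import Groth.Statements.S13144
import Groth.Agent.Lib.Helper71.W2Frob

set_option autoImplicit false
universe u
open FrobAlg

namespace Groth.Agent.S13144

section rho

open Groth.Agent.Lib.Helper71.W2

variable (p : ℕ) [Fact p.Prime] {A B : Type u} [CommRing A] [CommRing B] [Algebra A B]
  (r : B →ₗ[A] A)

noncomputable def rho (x : W2 p B) : W2 p A := T p (r (x.coeff 0)) + V p (r (x.coeff 1))

theorem rho_eq_of (hr : ∀ a : A, r (algebraMap A B a) = a) (x : W2 p B) (u : W2 p A) (e : B)
    (hx : x = WittGrp.truncMap p 2 (algebraMap A B) u + V p e) (he : r e = 0) :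
    rho p r x = u := by
  have h0 : x.coeff 0 = algebraMap A B (u.coeff 0) := by
    rw [hx, coeff_add_V_zero, WittGrp.coeff_truncMap]
  have h1 : x.coeff 1 = algebraMap A B (u.coeff 1) + e := by
    rw [hx, coeff_add_V_one, WittGrp.coeff_truncMap]
  rw [rho, h0, h1, map_add, hr, hr, he, add_zero, ← eq_T_add_V]

theorem eq_of_rho (hr : ∀ a : A, r (algebraMap A B a) = a) (x : W2 p B)
    (hx : x.coeff 0 ∈ (algebraMap A B).range) :
    x = WittGrp.truncMap p 2 (algebraMap A B) (rho p r x) +
        V p (x.coeff 1 - algebraMap A B (r (x.coeff 1))) ∧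
      r (x.coeff 1 - algebraMap A B (r (x.coeff 1))) = 0 := by
  obtain ⟨a, ha⟩ := hx
  refine ⟨?_, by rw [map_sub, hr, sub_self]⟩
  apply ext2
  · rw [coeff_add_V_zero, WittGrp.coeff_truncMap, rho, coeff_T_add_V_zero, ← ha, hr]
  · rw [coeff_add_V_one, WittGrp.coeff_truncMap, rho, coeff_T_add_V_one]
    ring

theorem rho_one (hr : ∀ a : A, r (algebraMap A B a) = a) : rho p r 1 = 1 := by
  apply rho_eq_of p r hr 1 1 0
  · rw [map_one, map_zero, add_zero]
  · exact map_zero r

theorem rho_zero (hr : ∀ a : A, r (algebraMap A B a) = a) : rho p r 0 = 0 := by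
  apply rho_eq_of p r hr 0 0 0
  · rw [map_zero, map_zero, add_zero]
  · exact map_zero r

theorem rho_add (hr : ∀ a : A, r (algebraMap A B a) = a) (x y : W2 p B)
    (hx : x.coeff 0 ∈ (algebraMap A B).range) (hy : y.coeff 0 ∈ (algebraMap A B).range) :
    rho p r (x + y) = rho p r x + rho p r y := by
  obtain ⟨hx1, hx2⟩ := eq_of_rho p r hr x hx
  obtain ⟨hy1, hy2⟩ := eq_of_rho p r hr y hy
  apply rho_eq_of p r hr (x + y) _
    ((x.coeff 1 - algebraMap A B (r (x.coeff 1))) + (y.coeff 1 - algebraMap A B (r (y.coeff 1))))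
  · conv_lhs => rw [hx1, hy1]
    rw [map_add, map_add]
    abel
  · rw [map_add, hx2, hy2, add_zero]

theorem rho_mul [CharP B p] (hr : ∀ a : A, r (algebraMap A B a) = a) (x y : W2 p B)
    (hx : x.coeff 0 ∈ (algebraMap A B).range) (hy : y.coeff 0 ∈ (algebraMap A B).range) :
    rho p r (x * y) = rho p r x * rho p r y := by
  obtain ⟨hx1, hx2⟩ := eq_of_rho p r hr x hx
  obtain ⟨hy1, hy2⟩ := eq_of_rho p r hr y hy
  set ex := x.coeff 1 - algebraMap A B (r (x.coeff 1)) with hex
  set ey := y.coeff 1 - algebraMap A B (r (y.coeff 1)) with hey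
  set ux := rho p r x with hux
  set uy := rho p r y with huy
  apply rho_eq_of p r hr (x * y) _
    (algebraMap A B (ux.coeff 0 ^ p) * ey + algebraMap A B (uy.coeff 0 ^ p) * ex)
  · conv_lhs => rw [hx1, hy1]
    have h1 : WittGrp.truncMap p 2 (algebraMap A B) ux * V p ey =
        V p (algebraMap A B (ux.coeff 0 ^ p) * ey) := by
      rw [mul_V, WittGrp.coeff_truncMap, map_pow (algebraMap A B)]
    have h2 : V p ex * WittGrp.truncMap p 2 (algebraMap A B) uy =
        V p (algebraMap A B (uy.coeff 0 ^ p) * ex) := by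
      rw [mul_comm, mul_V, WittGrp.coeff_truncMap, map_pow (algebraMap A B)]
    have h3 : WittGrp.truncMap p 2 (algebraMap A B) ux * WittGrp.truncMap p 2 (algebraMap A B) uy
        = WittGrp.truncMap p 2 (algebraMap A B) (ux * uy) :=
      (map_mul (WittGrp.truncMap p 2 (algebraMap A B)) ux uy).symm
    rw [add_mul, mul_add, mul_add, V_mul_V, add_zero, h1, h2, h3, map_add (V p)]
    abel
  · rw [map_add, ← Algebra.smul_def, ← Algebra.smul_def, map_smul, map_smul, hx2, hy2,
      smul_zero, smul_zero, add_zero]

theorem coeff_zero_rho (x : W2 p B) : (rho p r x).coeff 0 = r (x.coeff 0) := by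
  rw [rho, coeff_T_add_V_zero]

theorem rho_truncMap (hr : ∀ a : A, r (algebraMap A B a) = a) (u : W2 p A) :
    rho p r (WittGrp.truncMap p 2 (algebraMap A B) u) = u := by
  apply rho_eq_of p r hr _ u 0
  · rw [map_zero, add_zero]
  · exact map_zero r

end rho

/-- Let k be a perfect field of characteristic p, A → B a homomorphism of Noetherian k-algebras with an
A-linear retraction B → A, and A' → B' a homomorphism over W₂(k) between flat liftings of A and B
which reduces to A → B. If the Frobenius of B lifts to B' (a σ₂-semilinear ring endomorphism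
reducing to the p-th power map), then the Frobenius of A lifts to A'. (The published statement is
for an affine morphism whose map on structure sheaves splits linearly; the affine case with an
A-linear splitting is taken here.) -/
theorem result
    (p : ℕ) [Fact p.Prime] (k : Type u) [Field k] [CharP k p] [PerfectRing k p]
    (A B : Type u) [CommRing A] [CommRing B] [Algebra k A] [Algebra k B]
    [IsNoetherianRing A] [IsNoetherianRing B] [Algebra A B] [IsScalarTower k A B]
    (r : B →ₗ[A] A) (hr : ∀ a : A, r (algebraMap A B a) = a)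
    (A' B' : Type u) [CommRing A'] [CommRing B']
    (ιA : FrobAlg.W2 p k →+* A') (πA : A' →+* A) (hA : FrobAlg.IsLift p k A A' ιA πA)
    (ιB : FrobAlg.W2 p k →+* B') (πB : B' →+* B) (hB : FrobAlg.IsLift p k B B' ιB πB)
    (φ' : A' →+* B') (hφι : φ'.comp ιA = ιB) (hφπ : πB.comp φ' = (algebraMap A B).comp πA)
    (ΦB : B' →+* B') (hΦB : FrobAlg.IsFrobLift p k B B' ιB πB ΦB) :
    ∃ ΦA : A' →+* A', FrobAlg.IsFrobLift p k A A' ιA πA ΦA := by
  rcases subsingleton_or_nontrivial B with hBs | hBn
  · have hAs : Subsingleton A := ⟨fun a b => by rw [← hr a, ← hr b, Subsingleton.elim (algebraMap A B a)]⟩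
    have hA's : Subsingleton A' := by
      refine ⟨fun x y => ?_⟩
      have hz : ∀ z : A', z = 0 := by
        intro z
        obtain ⟨z1, rfl⟩ := Groth.Agent.Lib.Helper71.W2.IsLift.exists_of_map_eq_zero p k hA z
          (Subsingleton.elim _ _)
        obtain ⟨z2, rfl⟩ := Groth.Agent.Lib.Helper71.W2.IsLift.exists_of_map_eq_zero p k hA z1
          (Subsingleton.elim _ _)
        rw [← mul_assoc, Groth.Agent.Lib.Helper71.W2.IsLift.p_mul_p p k hA, zero_mul]
      rw [hz x, hz y]
    refine ⟨RingHom.id A', { toIsLift := hA, semi := ?_, red := ?_ }⟩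
    · ext w
      exact Subsingleton.elim _ _
    · intro b
      exact Subsingleton.elim _ _
  · have hcharB : CharP B p := charP_of_injective_algebraMap (algebraMap k B).injective p
    obtain ⟨θB, hθ1, hθ2, _⟩ :=
      Groth.Agent.Lib.Helper71.W2.exists_theta_of_frobLift p k ΦB hΦB
    have hθ1' : ∀ b, (θB b).coeff 0 = πB b := by
      intro b
      have := congrArg (fun f => f b) hθ1
      simpa only [RingHom.comp_apply, res_apply] using this
    have hφπ' : ∀ a', πB (φ' a') = algebraMap A B (πA a') := by
      intro a'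
      have := congrArg (fun f => f a') hφπ
      simpa only [RingHom.comp_apply] using this
    have hmem : ∀ a', (θB (φ' a')).coeff 0 ∈ (algebraMap A B).range := by
      intro a'
      rw [hθ1', hφπ']
      exact ⟨_, rfl⟩
    let θA : A' →+* W2 p A :=
      { toFun := fun a' => rho p r (θB (φ' a'))
        map_one' := by rw [map_one, map_one, rho_one p r hr]
        map_mul' := by
          intro x y
          rw [map_mul, map_mul, rho_mul p r hr _ _ (hmem x) (hmem y)]
        map_zero' := by rw [map_zero, map_zero, rho_zero p r hr]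
        map_add' := by
          intro x y
          rw [map_add, map_add, rho_add p r hr _ _ (hmem x) (hmem y)] }
    have hθA : ∀ a', θA a' = rho p r (θB (φ' a')) := fun _ => rfl
    refine ⟨_, Groth.Agent.Lib.Helper71.W2.frobLift_of_theta p k hA θA ?_ ?_⟩
    · ext a'
      rw [RingHom.comp_apply, res_apply, hθA, coeff_zero_rho, hθ1', hφπ', hr]
    · ext1 w
      rw [RingHom.comp_apply, hθA]
      have h1 : φ' (ιA w) = ιB w := by
        have := congrArg (fun f => f w) hφι
        simpa only [RingHom.comp_apply] using this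
      have h2 : θB (ιB w) = WittGrp.truncMap p 2 (algebraMap k B) w := by
        have := congrArg (fun f => f w) hθ2
        simpa only [RingHom.comp_apply] using this
      rw [h1, h2, IsScalarTower.algebraMap_eq k A B, WittGrp.truncMap_comp, RingHom.comp_apply,
        rho_truncMap p r hr]

end Groth.Agent.S13144
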