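import Groth.Statements.S13146
import Groth.Agent.Lib.Helper71.QuadricKey

set_option autoImplicit false
universe u
open scoped BigOperators
open FrobAlg

namespace Groth.Agent.S13146

/-- In an even number of variables — for a perfect field k of characteristic p and n ≥ 3, the local
Artinian algebra k[x_1, y_1, …, x_n, y_n]/(x_1y_1 + ⋯ + x_ny_n, x_1^p, y_1^p, …, x_n^p, y_n^p)
admits no flat lifting over W₂(k). (The published statement covers every number N ≥ 5 of variables,
using x_1x_2 + ⋯ + x_{N−2}x_{N−1} + x_N² for odd N; the printed argument is written out for even N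
and the odd case is said to be analogous, so only even N = 2n ≥ 6 is taken here.) -/
theorem result
    (p : ℕ) [Fact p.Prime] (k : Type u) [Field k] [CharP k p] [PerfectRing k p]
    (n : ℕ) (hn : 3 ≤ n) :
    ¬ FrobAlg.IsW2Liftable p k
      (MvPolynomial (Fin n × Fin 2) k ⧸ Ideal.span
        (insert (∑ i : Fin n, MvPolynomial.X (i, (0 : Fin 2)) * MvPolynomial.X (i, (1 : Fin 2)))
          (Set.range fun v : Fin n × Fin 2 => (MvPolynomial.X v : MvPolynomial (Fin n × Fin 2) k) ^ p))) := by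
  classical
  rintro ⟨B', _, ι, π, hL⟩
  obtain ⟨ψ, hψC, hπψ, hψsurj, hlift, hker⟩ :=
    Groth.Agent.Lib.Helper71.W2Poly.exists_presentation p k _ ι π hL
  have hμq : MvPolynomial.map (res p k)
      (∑ i : Fin n, MvPolynomial.X (i, (0 : Fin 2)) * MvPolynomial.X (i, (1 : Fin 2)) :
        MvPolynomial (Fin n × Fin 2) (W2 p k)) =
      ∑ i : Fin n, MvPolynomial.X (i, (0 : Fin 2)) * MvPolynomial.X (i, (1 : Fin 2)) := by
    rw [map_sum]
    refine Finset.sum_congr rfl fun i _ => ?_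
    rw [map_mul, MvPolynomial.map_X, MvPolynomial.map_X]
  obtain ⟨Q, hQ1, hQ2⟩ := hlift _ (Ideal.subset_span (Set.mem_insert _ _))
  have hX : ∀ v : Fin n × Fin 2, ∃ X' : MvPolynomial (Fin n × Fin 2) (W2 p k),
      MvPolynomial.map (res p k) X' = MvPolynomial.X v ^ p ∧ ψ X' = 0 := fun v =>
    hlift _ (Ideal.subset_span (Set.mem_insert_of_mem _ ⟨v, rfl⟩))
  choose X' hX1 hX2 using hX
  have hz1 : ψ (Q ^ p - ∑ i : Fin n, X' (i, 0) * X' (i, 1)) = 0 := by
    rw [map_sub, map_pow, hQ2, zero_pow (Fact.out : p.Prime).ne_zero, map_sum, zero_sub,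
      neg_eq_zero]
    refine Finset.sum_eq_zero fun i _ => ?_
    rw [map_mul, hX2, zero_mul]
  have hz2 : MvPolynomial.map (res p k) (Q ^ p - ∑ i : Fin n, X' (i, 0) * X' (i, 1)) = 0 := by
    rw [map_sub, map_pow, hQ1, map_sum, sum_pow_char, sub_eq_zero]
    refine Finset.sum_congr rfl fun i _ => ?_
    rw [map_mul, hX1, hX1, mul_pow]
  obtain ⟨a, hza, haJ⟩ := hker _ hz1 hz2
  obtain ⟨g, hg⟩ := Groth.Agent.Lib.Helper71.W2Poly.ker_map_res_le p k
    (Q - ∑ i : Fin n, MvPolynomial.X (i, (0 : Fin 2)) * MvPolynomial.X (i, (1 : Fin 2)))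
    (by rw [map_sub, hQ1, hμq, sub_self])
  have hav : ∀ v : Fin n × Fin 2, ∃ av : MvPolynomial (Fin n × Fin 2) (W2 p k),
      X' v - MvPolynomial.X v ^ p = (p : MvPolynomial (Fin n × Fin 2) (W2 p k)) * av := fun v =>
    Groth.Agent.Lib.Helper71.W2Poly.ker_map_res_le p k _
      (by rw [map_sub, hX1, map_pow, MvPolynomial.map_X, sub_self])
  choose av hav using hav
  obtain ⟨c, hc⟩ := Groth.Agent.Lib.Helper71.QuadricKey.exists_c p k n
  have hQp : Q ^ p = (∑ i : Fin n, MvPolynomial.X (i, (0 : Fin 2)) *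
      MvPolynomial.X (i, (1 : Fin 2)) : MvPolynomial (Fin n × Fin 2) (W2 p k)) ^ p := by
    have : Q = (∑ i : Fin n, MvPolynomial.X (i, (0 : Fin 2)) * MvPolynomial.X (i, (1 : Fin 2))) +
        (p : MvPolynomial (Fin n × Fin 2) (W2 p k)) * g := by rw [← hg]; ring
    rw [this, Groth.Agent.Lib.Helper71.W2Poly.add_P_mul_pow]
  have hPP := Groth.Agent.Lib.Helper71.W2Poly.PP p k (σ := Fin n × Fin 2)
  have hprod : ∀ i : Fin n, X' (i, 0) * X' (i, 1) =
      (MvPolynomial.X (i, (0 : Fin 2)) * MvPolynomial.X (i, (1 : Fin 2))) ^ p +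
      (p : MvPolynomial (Fin n × Fin 2) (W2 p k)) *
        (av (i, 0) * MvPolynomial.X (i, (1 : Fin 2)) ^ p +
          av (i, 1) * MvPolynomial.X (i, (0 : Fin 2)) ^ p) := by
    intro i
    have e0 : X' (i, 0) = MvPolynomial.X (i, (0 : Fin 2)) ^ p +
        (p : MvPolynomial (Fin n × Fin 2) (W2 p k)) * av (i, 0) := by rw [← hav]; ring
    have e1 : X' (i, 1) = MvPolynomial.X (i, (1 : Fin 2)) ^ p +
        (p : MvPolynomial (Fin n × Fin 2) (W2 p k)) * av (i, 1) := by rw [← hav]; ring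
    rw [e0, e1, mul_pow]
    linear_combination (av (i, 0) * av (i, 1)) * hPP
  have hzero : (p : MvPolynomial (Fin n × Fin 2) (W2 p k)) *
      (a - c + ∑ i : Fin n, (av (i, 0) * MvPolynomial.X (i, (1 : Fin 2)) ^ p +
          av (i, 1) * MvPolynomial.X (i, (0 : Fin 2)) ^ p)) = 0 := by
    rw [mul_add, mul_sub, ← hza, hc, hQp, Finset.sum_congr rfl fun i _ => hprod i,
      Finset.sum_add_distrib, Finset.mul_sum]
    ring
  have hμ := Groth.Agent.Lib.Helper71.W2Poly.map_res_eq_zero_of_P_mul p k _ hzero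
  rw [map_add, map_sub, map_sum] at hμ
  have hcJ : MvPolynomial.map (res p k) c ∈ Ideal.span
      (insert (∑ i : Fin n, MvPolynomial.X (i, (0 : Fin 2)) * MvPolynomial.X (i, (1 : Fin 2)))
        (Set.range fun v : Fin n × Fin 2 => (MvPolynomial.X v : MvPolynomial (Fin n × Fin 2) k) ^ p)) := by
    have : MvPolynomial.map (res p k) c = MvPolynomial.map (res p k) a +
        ∑ i : Fin n, MvPolynomial.map (res p k) (av (i, 0) * MvPolynomial.X (i, (1 : Fin 2)) ^ p +
          av (i, 1) * MvPolynomial.X (i, (0 : Fin 2)) ^ p) := by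
      linear_combination -hμ
    rw [this]
    refine Ideal.add_mem _ haJ (Ideal.sum_mem _ fun i _ => ?_)
    rw [map_add, map_mul, map_mul, map_pow, map_pow, MvPolynomial.map_X, MvPolynomial.map_X]
    exact Ideal.add_mem _
      (Ideal.mul_mem_left _ _ (Ideal.subset_span (Set.mem_insert_of_mem _ ⟨(i, 1), rfl⟩)))
      (Ideal.mul_mem_left _ _ (Ideal.subset_span (Set.mem_insert_of_mem _ ⟨(i, 0), rfl⟩)))
  exact Groth.Agent.Lib.Helper71.QuadricKey.key_coeff_ne_zero p k n hn c hc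
    (Groth.Agent.Lib.Helper71.QuadricKey.coeff_eps_of_mem k p n hn _ hcJ)

end Groth.Agent.S13146
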