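import Groth.Statements.S13147
import Groth.Agent.Lib.Helper71.W2Arith

set_option autoImplicit false
universe u
open FrobAlg

namespace Groth.Agent.S13147

open Groth.Agent.Lib.Helper71.W2 in
theorem mem_splitIdeal (p : ℕ) [Fact p.Prime] (A : Type u) [CommRing A] [CharP A p] (φ : A →+ A)
    (hφ : ∀ a b : A, φ (a ^ p * b) = a * φ b) (x : W2 p A) :
    x ∈ splitIdeal p A φ ↔ x.coeff 0 = 0 ∧ φ (x.coeff 1) = 0 := by
  constructor
  · intro hx
    unfold splitIdeal at hx
    induction hx using Submodule.span_induction with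
    | mem y hy =>
      obtain ⟨h0, h1⟩ := hy
      rw [res_apply] at h0
      exact ⟨h0, h1⟩
    | zero =>
      exact ⟨by rw [TruncatedWittVector.coeff_zero], by rw [TruncatedWittVector.coeff_zero, map_zero]⟩
    | add y z _ _ hy hz =>
      obtain ⟨hy0, hy1⟩ := hy
      obtain ⟨hz0, hz1⟩ := hz
      obtain ⟨c, rfl⟩ : ∃ c, z = V p c := ⟨_, eq_V_of_coeff_zero p hz0⟩
      rw [coeff_V_one] at hz1
      rw [coeff_add_V_zero, coeff_add_V_one, hy0, map_add, hy1, hz1, add_zero]
      exact ⟨rfl, rfl⟩
    | smul a y _ hy =>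
      obtain ⟨hy0, hy1⟩ := hy
      obtain ⟨c, rfl⟩ : ∃ c, y = V p c := ⟨_, eq_V_of_coeff_zero p hy0⟩
      rw [coeff_V_one] at hy1
      rw [smul_eq_mul, mul_V, coeff_V_zero, coeff_V_one, hφ, hy1, mul_zero]
      exact ⟨rfl, rfl⟩
  · rintro ⟨h0, h1⟩
    exact Ideal.subset_span ⟨by rw [res_apply, h0], h1⟩

theorem splitRes_mk (p : ℕ) [Fact p.Prime] (A : Type u) [CommRing A] (φ : A →+ A) (w : W2 p A) :
    splitRes p A φ (Ideal.Quotient.mk (splitIdeal p A φ) w) = w.coeff 0 := by
  unfold splitRes
  rw [Ideal.Quotient.lift_mk, res_apply]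

/-- Let k be a perfect field of characteristic p and (A, φ) a k-algebra with a Frobenius splitting (φ
additive, φ(a^p b) = a φ(b), φ(1) = 1). The quotient of W₂(A) by the ideal generated by the Witt
vectors (0, a) with φ(a) = 0 — the ring of twisted Witt vectors of (A, φ) — is a flat lifting of A
over W₂(k): flat over W₂(k), with reduction map onto A induced by (a₀, a₁) ↦ a₀ whose kernel is
generated by the maximal ideal of W₂(k). (The published statement also asserts that a morphism of
algebras with Frobenius splittings compatible with the splittings induces a ring map between these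
quotients; that part is not stated here.) -/
theorem result
    (p : ℕ) [Fact p.Prime] (k : Type u) [Field k] [CharP k p] [PerfectRing k p]
    (A : Type u) [CommRing A] [Algebra k A] (φ : A →+ A)
    (hφ : ∀ a b : A, φ (a ^ p * b) = a * φ b) (hφ1 : φ 1 = 1) :
    FrobAlg.IsLift p k A (FrobAlg.W2 p A ⧸ FrobAlg.splitIdeal p A φ)
      ((Ideal.Quotient.mk (FrobAlg.splitIdeal p A φ)).comp (WittGrp.truncMap p 2 (algebraMap k A)))
      (FrobAlg.splitRes p A φ) := by
  rcases subsingleton_or_nontrivial A with hA | hA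
  · have hW : Subsingleton (W2 p A) := ⟨fun x y => TruncatedWittVector.ext fun i => Subsingleton.elim _ _⟩
    have hQ : Subsingleton (W2 p A ⧸ splitIdeal p A φ) :=
      ⟨fun x y => by
        obtain ⟨x, rfl⟩ := Ideal.Quotient.mk_surjective x
        obtain ⟨y, rfl⟩ := Ideal.Quotient.mk_surjective y
        rw [Subsingleton.elim x y]⟩
    apply Groth.Agent.Lib.Helper71.W2.IsLift.of_forall
    · intro b _
      exact ⟨0, Subsingleton.elim _ _⟩
    · intro a
      exact ⟨0, Subsingleton.elim _ _⟩
    · intro b _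
      exact ⟨0, Subsingleton.elim _ _⟩
    · exact Subsingleton.elim _ _
    · ext w
      exact Subsingleton.elim _ _
  · have hchar : CharP A p := charP_of_injective_algebraMap (algebraMap k A).injective p
    have hφp : ∀ a : A, φ (a ^ p) = a := by
      intro a
      have := hφ a 1
      rwa [mul_one, hφ1, mul_one] at this
    have hL : ∀ w : W2 p A, w.coeff 0 = 0 → ∃ e : W2 p A,
        Ideal.Quotient.mk (splitIdeal p A φ) w =
          (p : W2 p A ⧸ splitIdeal p A φ) * Ideal.Quotient.mk (splitIdeal p A φ) e := by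
      intro w hw
      refine ⟨Groth.Agent.Lib.Helper71.W2.T p (φ (w.coeff 1)), ?_⟩
      rw [← map_natCast (Ideal.Quotient.mk (splitIdeal p A φ)), ← map_mul, Ideal.Quotient.eq,
        mem_splitIdeal p A φ hφ, Groth.Agent.Lib.Helper71.W2.p_mul_eq_V,
        Groth.Agent.Lib.Helper71.W2.coeff_T_zero,
        Groth.Agent.Lib.Helper71.W2.eq_V_of_coeff_zero p hw, ← map_sub,
        Groth.Agent.Lib.Helper71.W2.coeff_V_zero, Groth.Agent.Lib.Helper71.W2.coeff_V_one,
        Groth.Agent.Lib.Helper71.W2.coeff_V_one, map_sub, hφp, sub_self]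
      exact ⟨rfl, rfl⟩
    apply Groth.Agent.Lib.Helper71.W2.IsLift.of_forall
    · intro x hx
      obtain ⟨w, rfl⟩ := Ideal.Quotient.mk_surjective x
      rw [← map_natCast (Ideal.Quotient.mk (splitIdeal p A φ)), ← map_mul,
        Ideal.Quotient.eq_zero_iff_mem, mem_splitIdeal p A φ hφ,
        Groth.Agent.Lib.Helper71.W2.p_mul_eq_V, Groth.Agent.Lib.Helper71.W2.coeff_V_one,
        hφp] at hx
      obtain ⟨e, he⟩ := hL w hx.2
      exact ⟨_, he⟩
    · intro a
      refine ⟨Ideal.Quotient.mk _ (Groth.Agent.Lib.Helper71.W2.T p a), ?_⟩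
      rw [splitRes_mk, Groth.Agent.Lib.Helper71.W2.coeff_T_zero]
    · intro x hx
      obtain ⟨w, rfl⟩ := Ideal.Quotient.mk_surjective x
      rw [splitRes_mk] at hx
      obtain ⟨e, he⟩ := hL w hx
      exact ⟨_, he⟩
    · rw [map_natCast, CharP.cast_eq_zero]
    · ext w
      rw [RingHom.comp_apply, RingHom.comp_apply, RingHom.comp_apply, splitRes_mk,
        WittGrp.coeff_truncMap, res_apply]

end Groth.Agent.S13147
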