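import Groth.Statements.S13151
import Mathlib.RingTheory.Polynomial.ScaleRoots
import Mathlib.RingTheory.IntegralClosure.IntegrallyClosed

set_option autoImplicit false
universe u
open CAlg

namespace Groth.Agent.S13151

open Polynomial in
theorem comap_eq {A B : Type u} [CommRing A] [CommRing B]
    [IsDomain A] [IsDomain B] [IsIntegrallyClosed A] [Algebra A B] [Algebra.IsIntegral A B]
    (hinj : Function.Injective (algebraMap A B)) (π : A) :
    (Ideal.span {algebraMap A B π}).comap (algebraMap A B) = Ideal.span {π} := by
  apply le_antisymm
  · intro a ha
    rw [Ideal.mem_comap, Ideal.mem_span_singleton'] at ha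
    obtain ⟨b, hb⟩ := ha
    rw [Ideal.mem_span_singleton']
    by_cases hπ : π = 0
    · subst hπ
      refine ⟨0, ?_⟩
      rw [map_zero, mul_zero] at hb
      have : a = 0 := hinj (by rw [← hb, map_zero])
      rw [this, zero_mul]
    obtain ⟨p, hpm, hp⟩ := Algebra.IsIntegral.isIntegral (R := A) b
    have h1 : eval₂ (algebraMap A B) (algebraMap A B π * b) (scaleRoots p π) = 0 := by
      rw [scaleRoots_eval₂_mul, hp, mul_zero]
    have h2 : eval a (scaleRoots p π) = 0 := by
      apply hinj
      rw [map_zero, ← Polynomial.eval₂_at_apply, ← hb, mul_comm]
      exact h1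
    let K := FractionRing A
    have hπK : algebraMap A K π ≠ 0 := by
      rw [Ne, map_eq_zero_iff _ (IsFractionRing.injective A K)]
      exact hπ
    have h3 : eval₂ (algebraMap A K) (algebraMap A K a / algebraMap A K π) p = 0 := by
      have := scaleRoots_eval₂_mul (p := p) (algebraMap A K) (algebraMap A K a / algebraMap A K π) π
      rw [mul_div_cancel₀ _ hπK, Polynomial.eval₂_at_apply, h2, map_zero] at this
      rcases mul_eq_zero.mp this.symm with h | h
      · exact absurd (eq_zero_of_pow_eq_zero h) hπK
      · exact h
    have h4 : IsIntegral A (algebraMap A K a / algebraMap A K π) := ⟨p, hpm, h3⟩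
    obtain ⟨y, hy⟩ := IsIntegrallyClosed.isIntegral_iff.mp h4
    refine ⟨y, ?_⟩
    apply IsFractionRing.injective A K
    rw [map_mul, hy, div_mul_cancel₀ _ hπK]
  · rw [Ideal.span_singleton_le_iff_mem, Ideal.mem_comap]
    exact Ideal.mem_span_singleton_self _

/-- Let A → B be an injective ring homomorphism of integral domains which is integral, with A integrally
closed, and let π be an element of A. Then the contraction to A of the ideal πB is πA, i.e. an
element of A which is a multiple of π in B is already a multiple of π in A; in particular if B/πB is
an integral domain then A/πA is an integral domain. (The published statement is for an integral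
dominant morphism of integral schemes flat over a discrete valuation ring, with normal target and π
a uniformizer; flatness and the valuation ring play no role, so π is an arbitrary element here.) -/
theorem result {A B : Type u} [CommRing A] [CommRing B]
    [IsDomain A] [IsDomain B] [IsIntegrallyClosed A] [Algebra A B] [Algebra.IsIntegral A B]
    (hinj : Function.Injective (algebraMap A B)) (π : A) :
    (Ideal.span {algebraMap A B π}).comap (algebraMap A B) = Ideal.span {π} ∧
      (IsDomain (B ⧸ Ideal.span {algebraMap A B π}) → IsDomain (A ⧸ Ideal.span {π})) := by
  refine ⟨comap_eq hinj π, fun h => ?_⟩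
  rw [Ideal.Quotient.isDomain_iff_prime] at h ⊢
  rw [← comap_eq hinj π]
  exact Ideal.comap_isPrime _ _

end Groth.Agent.S13151
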