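import Groth.Statements.S13153
import Mathlib.RingTheory.Smooth.Field
import Mathlib.RingTheory.Unramified.Field
import Mathlib.RingTheory.Kaehler.JacobiZariski
import Mathlib.RingTheory.Flat.FaithfullyFlat.Algebra
import Mathlib.FieldTheory.IntermediateField.Adjoin.Algebra

set_option autoImplicit false
universe u
open CAlg

namespace Groth.Agent.S13153


open scoped TensorProduct KaehlerDifferential

theorem isAlgebraic_of_D_eq_zero {K L : Type u} [Field K] [Field L] [Algebra K L] [CharZero K]
    (x : L) (hx : KaehlerDifferential.D K L x = 0) : IsAlgebraic K x := by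
  classical
  let E : IntermediateField K L := IntermediateField.adjoin K {x}
  haveI : CharZero E := charZero_of_injective_algebraMap (algebraMap K E).injective
  obtain ⟨s, hs⟩ := exists_isTranscendenceBasis E L
  haveI : CharZero (IntermediateField.adjoin E (Set.range ((↑) : s → L))) :=
    charZero_of_injective_algebraMap
      (algebraMap E (IntermediateField.adjoin E (Set.range ((↑) : s → L)))).injective
  haveI : Algebra.IsAlgebraic (IntermediateField.adjoin E (Set.range ((↑) : s → L))) L :=
    hs.isAlgebraic_field
  haveI : Algebra.IsSeparable (IntermediateField.adjoin E (Set.range ((↑) : s → L))) L :=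
    inferInstance
  haveI : Algebra.FormallySmooth E L := .of_algebraicIndependent_of_isSeparable hs.1
  have hinj : Function.Injective (KaehlerDifferential.mapBaseChange K E L) := by
    rw [injective_iff_map_eq_zero]
    intro y hy
    obtain ⟨z, rfl⟩ := (Algebra.H1Cotangent.exact_δ_mapBaseChange K E L y).mp hy
    rw [Subsingleton.elim z 0, map_zero]
  let xE : E := ⟨x, IntermediateField.mem_adjoin_simple_self K x⟩
  have h1 : (1 : L) ⊗ₜ[E] KaehlerDifferential.D K E xE = 0 := by
    apply hinj
    rw [KaehlerDifferential.mapBaseChange_tmul, map_zero, one_smul, KaehlerDifferential.map_D]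
    exact hx
  have h2 : KaehlerDifferential.D K E xE = 0 := by
    have hmk := Module.FaithfullyFlat.tensorProduct_mk_injective (A := E) (B := L) (Ω[E⁄K])
    apply hmk
    simpa using h1
  have h3 : Subsingleton (Ω[E⁄K]) := by
    suffices (⊤ : Submodule E Ω[E⁄K]) ≤ ⊥ from
      (subsingleton_iff_forall_eq 0).mpr fun y ↦ this trivial
    rw [← KaehlerDifferential.span_range_derivation, Submodule.span_le]
    rintro _ ⟨⟨y, hy⟩, rfl⟩
    obtain ⟨r, q, hrq⟩ := (IntermediateField.mem_adjoin_simple_iff K y).mp hy
    have : (⟨y, hy⟩ : E) = Polynomial.aeval xE r / Polynomial.aeval xE q := by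
      apply Subtype.ext
      change y = (E.val (Polynomial.aeval xE r / Polynomial.aeval xE q))
      rw [map_div₀, ← Polynomial.aeval_algHom_apply, ← Polynomial.aeval_algHom_apply]
      exact hrq
    rw [this, Derivation.leibniz_div, Derivation.map_aeval, Derivation.map_aeval, h2]
    simp
  have : Algebra.FormallyUnramified K E := ⟨h3⟩
  haveI : Algebra.EssFiniteType K E :=
    IntermediateField.essFiniteType_iff.mpr ⟨{x}, by simp [E]⟩
  have hsep : Algebra.IsSeparable K E := Algebra.FormallyUnramified.isSeparable K E
  have halg : IsAlgebraic K xE := (Algebra.IsSeparable.isSeparable K xE).isIntegral.isAlgebraic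
  exact (isAlgebraic_algebraMap_iff (algebraMap E L).injective (a := xE)).mpr halg

/-- Let R be a discrete valuation ring whose fraction field K has characteristic zero, A an integral
domain which is a faithfully flat R-algebra, with fraction field L, such that K is algebraically
closed in L (every element of L algebraic over K is in the image of K). If f ∈ A has vanishing
differential, df = 0 in Ω_{A/R}, then f is the image of an element of R. (The published statement is
the sheaf form: for a faithfully flat morphism X → Spec R with geometrically integral generic fibre,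
the kernel of d : O_X → Ω¹_{X/R} is the inverse image of O_{Spec R}; for integral X, geometric
integrality of the generic fibre in characteristic zero amounts to K being algebraically closed in
the function field, which is the form used here, and this row is the case of global sections over an
affine X = Spec A.) -/
theorem result (R : Type u) [CommRing R] [IsDomain R]
    [IsDiscreteValuationRing R] [CharZero R] (K : Type u) [Field K] [Algebra R K] [IsFractionRing R K]
    (A : Type u) [CommRing A] [IsDomain A] [Algebra R A] [Module.FaithfullyFlat R A]
    (L : Type u) [Field L] [Algebra A L] [IsFractionRing A L] [Algebra R L] [Algebra K L]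
    [IsScalarTower R A L] [IsScalarTower R K L]
    (hac : ∀ x : L, IsAlgebraic K x → x ∈ (algebraMap K L).range)
    (f : A) (hf : KaehlerDifferential.D R A f = 0) : f ∈ (algebraMap R A).range := by
  have hD : KaehlerDifferential.D K L (algebraMap A L f) = 0 := by
    have := KaehlerDifferential.map_D R K A L f
    rw [← this, hf, map_zero]
  haveI : CharZero K := charZero_of_injective_algebraMap (IsFractionRing.injective R K)
  obtain ⟨c, hc⟩ := hac _ (isAlgebraic_of_D_eq_zero _ hD)
  obtain ⟨r, s, rfl⟩ := IsLocalization.exists_mk'_eq (nonZeroDivisors R) c
  have hinjA : Function.Injective (algebraMap R A) := FaithfulSMul.algebraMap_injective R A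
  have hAL : Function.Injective (algebraMap A L) := IsFractionRing.injective A L
  have hsne : (s : R) ≠ 0 := nonZeroDivisors.ne_zero s.2
  have h1 : f * algebraMap R A s = algebraMap R A r := by
    apply hAL
    have h2 : algebraMap K L (IsLocalization.mk' K r s) * algebraMap K L (algebraMap R K s) =
        algebraMap K L (algebraMap R K r) := by
      rw [← map_mul, IsLocalization.mk'_spec]
    rw [map_mul, ← IsScalarTower.algebraMap_apply R A L, ← IsScalarTower.algebraMap_apply R A L,
      IsScalarTower.algebraMap_apply R K L, IsScalarTower.algebraMap_apply R K L r, ← h2]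
    congr 1
    exact hc.symm
  have h3 : r ∈ ((Ideal.span {(s : R)}).map (algebraMap R A)).comap (algebraMap R A) := by
    rw [Ideal.mem_comap, Ideal.map_span, Set.image_singleton, Ideal.mem_span_singleton]
    exact ⟨f, by rw [← h1, mul_comm]⟩
  rw [Ideal.comap_map_eq_self_of_faithfullyFlat, Ideal.mem_span_singleton] at h3
  obtain ⟨r', rfl⟩ := h3
  refine ⟨r', ?_⟩
  have hsA : algebraMap R A s ≠ 0 := by
    rw [Ne, map_eq_zero_iff _ hinjA]
    exact hsne
  rw [map_mul, mul_comm] at h1
  exact (mul_left_cancel₀ hsA h1).symm

end Groth.Agent.S13153
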