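import Groth.Statements.S13154
import Mathlib

set_option autoImplicit false
universe u
open scoped TensorProduct
open CAlg

namespace Groth.Agent.S13154

section helpers

variable {R : Type u} [CommRing R] [IsDomain R] {K : Type u} [Field K] [Algebra R K]
  [IsFractionRing R K] {A : Type u} [CommRing A] [Algebra R A] [Module.FaithfullyFlat R A]
  {B : Type u} [CommRing B] [Algebra R B] [Module.Flat R B]

omit [Module.Flat R B] [Module.FaithfullyFlat R A] in
/-- clearing denominators in `K ⊗ B` -/
theorem exists_smul_eq_one_tmul (x : K ⊗[R] B) :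
    ∃ (s : R) (c : B), s ≠ 0 ∧ s • x = (1 : K) ⊗ₜ[R] c := by
  induction x using TensorProduct.induction_on with
  | zero => exact ⟨1, 0, one_ne_zero, by simp⟩
  | tmul k b =>
    obtain ⟨r, s, hs, rfl⟩ := IsFractionRing.div_surjective (A := R) k
    refine ⟨s, r • b, nonZeroDivisors.ne_zero hs, ?_⟩
    rw [TensorProduct.smul_tmul', TensorProduct.tmul_smul, TensorProduct.smul_tmul',
      Algebra.smul_def, Algebra.smul_def, mul_one]
    congr 1
    have : algebraMap R K s ≠ 0 := by
      simpa using nonZeroDivisors.ne_zero hs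
    field_simp
  | add x y hx hy =>
    obtain ⟨s, c, hs, h1⟩ := hx
    obtain ⟨t, d, ht, h2⟩ := hy
    refine ⟨s * t, t • c + s • d, mul_ne_zero hs ht, ?_⟩
    rw [smul_add, TensorProduct.tmul_add, TensorProduct.tmul_smul, TensorProduct.tmul_smul, ← h1, ← h2,
      mul_smul, mul_smul, smul_comm s t x]

omit [IsDomain R] in
theorem jA_injective : Function.Injective
    (Algebra.TensorProduct.map (Algebra.TensorProduct.includeRight : A →ₐ[R] K ⊗[R] A)
      (AlgHom.id R B)) := by
  have h1 : Function.Injective (TensorProduct.mk R K A 1) :=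
    Module.Flat.tensorProduct_mk_injective R A K
  have h2 := Module.Flat.rTensor_preserves_injective_linearMap (M := B) _ h1
  have h3 : ⇑(Algebra.TensorProduct.map (Algebra.TensorProduct.includeRight : A →ₐ[R] K ⊗[R] A)
      (AlgHom.id R B)) = ⇑(LinearMap.rTensor B (TensorProduct.mk R K A 1)) := by
    ext z
    induction z using TensorProduct.induction_on with
    | zero => simp
    | tmul a b => simp
    | add x y hx hy => rw [map_add, map_add, hx, hy]
  rw [h3]
  exact h2

theorem key (x : K ⊗[R] B) (y : A ⊗[R] B)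
    (h : Algebra.TensorProduct.map (Algebra.TensorProduct.includeLeft : K →ₐ[R] K ⊗[R] A)
          (AlgHom.id R B) x =
        Algebra.TensorProduct.map (Algebra.TensorProduct.includeRight : A →ₐ[R] K ⊗[R] A)
          (AlgHom.id R B) y) :
    ∃ c : B, x = 1 ⊗ₜ c ∧ y = 1 ⊗ₜ c := by
  obtain ⟨s, c, hs, hsx⟩ := exists_smul_eq_one_tmul x
  have hs' : s ∈ nonZeroDivisors R := mem_nonZeroDivisors_of_ne_zero hs
  -- s • y = 1 ⊗ c
  have hsy : s • y = (1 : A) ⊗ₜ[R] c := by
    apply jA_injective (K := K)
    rw [map_smul, ← h, ← map_smul, hsx]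
    simp
  -- c ∈ s B
  let Q := B ⧸ (Ideal.span {algebraMap R B s})
  let q : B →ₗ[R] Q := (Ideal.Quotient.mkₐ R (Ideal.span {algebraMap R B s})).toLinearMap
  have hkill : ∀ z : A ⊗[R] Q, s • z = 0 := by
    intro z
    induction z using TensorProduct.induction_on with
    | zero => simp
    | tmul a b =>
      obtain ⟨b, rfl⟩ := Ideal.Quotient.mk_surjective b
      have h0 : s • (Ideal.Quotient.mk (Ideal.span {algebraMap R B s}) b) = 0 := by
        change s • (Ideal.Quotient.mkₐ R (Ideal.span {algebraMap R B s}) b) = 0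
        rw [← map_smul, Algebra.smul_def]
        exact Ideal.Quotient.eq_zero_iff_mem.mpr
          (Ideal.mul_mem_right _ _ (Ideal.subset_span rfl))
      rw [TensorProduct.smul_tmul', TensorProduct.smul_tmul, h0, TensorProduct.tmul_zero]
    | add x y hx hy => rw [smul_add, hx, hy, add_zero]
  have hqc : q c = 0 := by
    apply Module.FaithfullyFlat.tensorProduct_mk_injective (A := R) (B := A) Q
    rw [map_zero]
    have h1 : (LinearMap.lTensor A q) (s • y) = 0 := by
      rw [map_smul]; exact hkill _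
    rw [hsy] at h1
    simpa using h1
  have hc : c ∈ Ideal.span {algebraMap R B s} := Ideal.Quotient.eq_zero_iff_mem.mp hqc
  obtain ⟨c', rfl⟩ := Ideal.mem_span_singleton'.mp hc
  refine ⟨c', ?_, ?_⟩
  · have : Module.Flat R K := IsLocalization.flat K (nonZeroDivisors R)
    have hreg : IsSMulRegular (K ⊗[R] B) s := Module.Flat.isSMulRegular_of_nonZeroDivisors hs'
    apply hreg
    change s • x = s • _
    rw [hsx, mul_comm, ← Algebra.smul_def, TensorProduct.tmul_smul]
  · have hreg : IsSMulRegular (A ⊗[R] B) s := Module.Flat.isSMulRegular_of_nonZeroDivisors hs'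
    apply hreg
    change s • y = s • _
    rw [hsy, mul_comm, ← Algebra.smul_def, TensorProduct.tmul_smul]

end helpers


/-- Let R be a discrete valuation ring with fraction field K, A a faithfully flat R-algebra (an affine
faithfully flat base change S' → S = Spec R) and B₁, B₂ flat R-algebras (two affine S-schemes X₁ =
Spec B₁, X₂ = Spec B₂, flat over S). Suppose given a K-algebra homomorphism φ_K : K ⊗ B₂ → K ⊗ B₁ (a
morphism of the generic fibres X₁,K → X₂,K) and an A-algebra homomorphism φ_A : A ⊗ B₂ → A ⊗ B₁ (a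
morphism X₁ ×_S S' → X₂ ×_S S' over S') which coincide after base change to K ⊗ A, in the sense that
for every b ∈ B₂ the images of φ_K(1 ⊗ b) and φ_A(1 ⊗ b) in (K ⊗ A) ⊗ B₁ agree. Then there is
exactly one R-algebra homomorphism φ : B₂ → B₁ (a morphism X₁ → X₂) whose base changes to K and to A
are φ_K and φ_A. (The published statement assumes only X₂ flat over S; flatness of X₁ is also
needed: with B₂ = R[t], B₁ = R[e]/(e², πe) for a uniformizer π and A = R[x], the maps t ↦ 0 over K
and t ↦ e x over A agree over K ⊗ A = K[x] but come from no map over R.) -/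
theorem result (R : Type u) [CommRing R] [IsDomain R]
    [IsDiscreteValuationRing R] (K : Type u) [Field K] [Algebra R K] [IsFractionRing R K]
    (A : Type u) [CommRing A] [Algebra R A] [Module.FaithfullyFlat R A]
    (B₁ B₂ : Type u) [CommRing B₁] [CommRing B₂] [Algebra R B₁] [Algebra R B₂]
    [Module.Flat R B₁] [Module.Flat R B₂]
    (φK : K ⊗[R] B₂ →ₐ[K] K ⊗[R] B₁) (φA : A ⊗[R] B₂ →ₐ[A] A ⊗[R] B₁)
    (hcomp : ∀ b : B₂,
      Algebra.TensorProduct.map (Algebra.TensorProduct.includeLeft : K →ₐ[R] K ⊗[R] A) (AlgHom.id R B₁)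
          (φK (1 ⊗ₜ b)) =
        Algebra.TensorProduct.map (Algebra.TensorProduct.includeRight : A →ₐ[R] K ⊗[R] A) (AlgHom.id R B₁)
          (φA (1 ⊗ₜ b))) :
    ∃! φ : B₂ →ₐ[R] B₁, (∀ b : B₂, φK (1 ⊗ₜ b) = 1 ⊗ₜ φ b) ∧ (∀ b : B₂, φA (1 ⊗ₜ b) = 1 ⊗ₜ φ b) := by
  have hι : Function.Injective (TensorProduct.mk R K B₁ 1) :=
    Module.Flat.tensorProduct_mk_injective R B₁ K
  choose φ₀ hφK hφA using fun b : B₂ => key (φK (1 ⊗ₜ b)) (φA (1 ⊗ₜ b)) (hcomp b)
  have hι' : ∀ {b b' : B₁}, (1 : K) ⊗ₜ[R] b = 1 ⊗ₜ[R] b' → b = b' := fun {b b'} h => hι h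
  have he : ∀ (B : Type u) [CommRing B] [Algebra R B] (r : R),
      (1 : K) ⊗ₜ[R] algebraMap R B r = algebraMap K (K ⊗[R] B) (algebraMap R K r) := by
    intro B _ _ r
    rw [Algebra.TensorProduct.algebraMap_apply, Algebra.algebraMap_eq_smul_one r,
      ← TensorProduct.smul_tmul, ← Algebra.algebraMap_eq_smul_one]
    rfl
  let φ : B₂ →ₐ[R] B₁ :=
    { toFun := φ₀
      map_one' := by
        apply hι'
        rw [← hφK, ← Algebra.TensorProduct.one_def, map_one, Algebra.TensorProduct.one_def]
      map_mul' := fun a b => by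
        apply hι'
        rw [← hφK, ← mul_one (1 : K), ← Algebra.TensorProduct.tmul_mul_tmul, map_mul, hφK, hφK,
          Algebra.TensorProduct.tmul_mul_tmul]
      map_zero' := by
        apply hι'
        rw [← hφK, TensorProduct.tmul_zero, map_zero, TensorProduct.tmul_zero]
      map_add' := fun a b => by
        apply hι'
        rw [← hφK, TensorProduct.tmul_add, map_add, hφK, hφK, TensorProduct.tmul_add]
      commutes' := fun r => by
        apply hι'
        rw [← hφK, he B₂ r, AlgHom.commutes, ← he B₁ r] }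
  refine ⟨φ, ⟨fun b => hφK b, fun b => hφA b⟩, ?_⟩
  rintro ψ ⟨hψK, -⟩
  ext b
  apply hι'
  rw [← hψK, hφK]
  rfl

end Groth.Agent.S13154
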