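import Groth.Statements.S13155
import Mathlib

set_option autoImplicit false
universe u
open CAlg

namespace Groth.Agent.S13155

/-- Let R be a discrete valuation ring of characteristic zero with uniformizer π, and A a Noetherian
integrally closed domain which is an R-algebra with injective structure map and in which πA is a
prime ideal (X = Spec A is normal, flat over R, with integral special fibre). Let m ≥ 1 and let f ∈
A be invertible in A[1/π] (so Z^m = f defines a μ_m-torsor over the generic fibre), such that S =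
A[1/π][Z]/(Z^m − f) is an integral domain and, writing B for the integral closure of A in S (the
normalization of X in that cover), πB is a prime ideal of B (the normalization has integral special
fibre). Then f is, up to a unit of A, an m-th power of a power of π: f = π^{mq}·u with q ≥ 0 and u ∈
A^×, so that the cover extends to the μ_m-torsor Z^m = u over all of X. (The published statement is
the existence and uniqueness of the extending μ_m-torsor over a normal faithfully flat R-scheme with
integral fibres, R containing a primitive m-th root of unity; this row is the affine computation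
that carries the proof.) -/
theorem result (R : Type u) [CommRing R]
    [IsDomain R] [IsDiscreteValuationRing R] [CharZero R] (ϖ : R) (hϖ : Irreducible ϖ)
    (A : Type u) [CommRing A] [IsDomain A] [IsNoetherianRing A] [IsIntegrallyClosed A] [Algebra R A]
    (hinj : Function.Injective (algebraMap R A)) (hprime : (Ideal.span {algebraMap R A ϖ}).IsPrime)
    (m : ℕ) (hm : 0 < m) (f : A) (hf : IsUnit (algebraMap A (Localization.Away (algebraMap R A ϖ)) f))
    [IsDomain (AdjoinRoot (Polynomial.X ^ m - Polynomial.C (algebraMap A (Localization.Away (algebraMap R A ϖ)) f)))]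
    (hsp : (Ideal.span {algebraMap A (integralClosure A
        (AdjoinRoot (Polynomial.X ^ m - Polynomial.C (algebraMap A (Localization.Away (algebraMap R A ϖ)) f))))
          (algebraMap R A ϖ)}).IsPrime) :
    ∃ (q : ℕ) (u : Aˣ), f = algebraMap R A ϖ ^ (m * q) * (u : A) := by
  classical
  set π : A := algebraMap R A ϖ with hπdef
  have hπ0 : π ≠ 0 := by
    intro h
    have : ϖ = 0 := hinj (by rw [← hπdef, h, map_zero])
    exact hϖ.ne_zero this
  have hπprime : Prime π := (Ideal.span_singleton_prime hπ0).mp hprime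
  set Aπ := Localization.Away π with hAπ
  have hAinj : Function.Injective (algebraMap A Aπ) :=
    IsLocalization.injective Aπ (powers_le_nonZeroDivisors_of_noZeroDivisors hπ0)
  -- step 2 : f divides a power of π
  obtain ⟨N, hfN⟩ : ∃ N : ℕ, f ∣ π ^ N := by
    obtain ⟨b, hb⟩ := hf.exists_right_inv
    obtain ⟨⟨g, s⟩, hgs⟩ := IsLocalization.surj (Submonoid.powers π) b
    obtain ⟨N, hN⟩ := s.2
    refine ⟨N, g, ?_⟩
    apply hAinj
    simp only at hgs
    have hN' : π ^ N = (s : A) := hN
    rw [map_mul, ← hgs, ← mul_assoc, hb, one_mul, hN']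
  obtain ⟨a, -, hassoc⟩ := (dvd_prime_pow hπprime N).mp hfN
  obtain ⟨u, hu⟩ := hassoc.symm
  -- f = π ^ a * u
  have hfa : f = π ^ a * (u : A) := hu.symm
  set g : Polynomial Aπ := Polynomial.X ^ m - Polynomial.C (algebraMap A Aπ f) with hg
  obtain ⟨q, r, har, hrm⟩ : ∃ q r : ℕ, a = m * q + r ∧ r < m :=
    ⟨a / m, a % m, (Nat.div_add_mod a m).symm, Nat.mod_lt a hm⟩
  suffices hr0 : r = 0 by
    refine ⟨q, u, ?_⟩
    rw [hfa, har, hr0, add_zero]
  by_contra hrne
  have hrpos : 0 < r := Nat.pos_of_ne_zero hrne
  -- the root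
  set z : AdjoinRoot g := AdjoinRoot.root g with hz
  have hzm : z ^ m = algebraMap A (AdjoinRoot g) f := by
    have h := AdjoinRoot.eval₂_root g
    rw [hg, Polynomial.eval₂_sub, Polynomial.eval₂_pow, Polynomial.eval₂_X, Polynomial.eval₂_C,
      sub_eq_zero] at h
    rw [hz, h, AdjoinRoot.algebraMap_eq']
    rfl
  set πS : AdjoinRoot g := algebraMap A (AdjoinRoot g) π with hπS
  have hπSunit : IsUnit πS := by
    have h1 : IsUnit (algebraMap A Aπ π) := IsLocalization.Away.algebraMap_isUnit π
    have h2 : πS = AdjoinRoot.of g (algebraMap A Aπ π) := by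
      rw [hπS, AdjoinRoot.algebraMap_eq']; rfl
    rw [h2]
    exact h1.map _
  obtain ⟨πu, hπu⟩ := hπSunit
  set w : AdjoinRoot g := z * ((πu⁻¹ : (AdjoinRoot g)ˣ) : AdjoinRoot g) ^ q with hw
  have hwm : w ^ m = algebraMap A (AdjoinRoot g) (π ^ r * (u : A)) := by
    have h1 : w ^ m * πS ^ (m * q) = algebraMap A (AdjoinRoot g) (π ^ r * (u : A)) * πS ^ (m * q) := by
      have e : ((πu⁻¹ : (AdjoinRoot g)ˣ) : AdjoinRoot g) ^ (q * m) * (πu : AdjoinRoot g) ^ (m * q) = 1 := by
        rw [mul_comm q m, ← mul_pow, Units.inv_mul, one_pow]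
      rw [hw, mul_pow, hzm, hfa, har, map_mul, map_mul, map_pow, map_pow, ← hπS, ← hπu,
        pow_add, ← pow_mul, mul_assoc, e, mul_one]
      ring
    exact mul_right_cancel₀ (pow_ne_zero _ (hπu ▸ πu.ne_zero)) h1
  have hwint : IsIntegral A w := by
    refine ⟨Polynomial.X ^ m - Polynomial.C (π ^ r * (u : A)),
      Polynomial.monic_X_pow_sub_C _ hm.ne', ?_⟩
    rw [Polynomial.eval₂_sub, Polynomial.eval₂_pow, Polynomial.eval₂_X, Polynomial.eval₂_C, hwm,
      sub_self]
  set B := integralClosure A (AdjoinRoot g) with hB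
  set wB : B := ⟨w, hwint⟩ with hwB
  set πB : B := algebraMap A B π with hπB
  have hπBne : πB ≠ 0 := by
    intro h
    have h1 : (πB : AdjoinRoot g) = πS := rfl
    rw [h] at h1
    have : πS ≠ 0 := hπu ▸ πu.ne_zero
    exact this h1.symm
  have hwBm : wB ^ m = πB ^ r * algebraMap A B (u : A) := by
    apply Subtype.ext
    show w ^ m = _
    rw [hwm, map_mul, map_pow]
    rfl
  have hmem : wB ^ m ∈ Ideal.span {πB} := by
    rw [hwBm]
    apply Ideal.mul_mem_right
    obtain ⟨r', hr'⟩ : ∃ r', r = r' + 1 := ⟨r - 1, by omega⟩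
    rw [hr', pow_succ]
    exact Ideal.mul_mem_left _ _ (Ideal.subset_span rfl)
  have hwmem : wB ∈ Ideal.span {πB} := hsp.mem_of_pow_mem m hmem
  obtain ⟨w', hw'⟩ := Ideal.mem_span_singleton'.mp hwmem
  -- w' * πB = wB
  have hunitB : IsUnit (algebraMap A B (u : A)) := u.isUnit.map _
  have hcancel : πB ^ (m - r) * w' ^ m = algebraMap A B (u : A) := by
    have h1 : πB ^ r * (πB ^ (m - r) * w' ^ m) = πB ^ r * algebraMap A B (u : A) := by
      have e2 : r + (m - r) = m := by omega
      rw [← hwBm, ← hw', mul_pow, ← mul_assoc, ← pow_add, e2, mul_comm]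
    exact mul_left_cancel₀ (pow_ne_zero _ hπBne) h1
  have hπBunit : IsUnit πB := by
    rw [← hcancel] at hunitB
    have h2 : IsUnit (πB ^ (m - r)) := isUnit_of_mul_isUnit_left hunitB
    exact (isUnit_pow_iff (by omega)).mp h2
  exact hsp.ne_top (Ideal.span_singleton_eq_top.mpr hπBunit)

end Groth.Agent.S13155
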