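import Groth.Statements.S13156
import Mathlib

set_option autoImplicit false
universe u
open scoped Polynomial
open CAlg

set_option linter.unusedSectionVars false

namespace Groth.Agent.S13156Aux
open Polynomial

variable {A : Type u} [CommRing A]

theorem coeff_X_mul_derivative {R : Type u} [CommRing R] (Q : R[X]) (k : ℕ) :
    (X * derivative Q).coeff k = (k : R) * Q.coeff k := by
  cases k with
  | zero => simp
  | succ j => rw [coeff_X_mul, coeff_derivative]; push_cast; ring

/-- uniqueness for the linear ODE in low degree -/
theorem ode_unique {R : Type u} [CommRing R] (p : ℕ) (Q : R[X]) (m c : R)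
    (hdeg : Q.natDegree < p) (h0 : Q.coeff 0 = 0)
    (hode : (1 + C m * X) * derivative Q = C c * Q)
    (hunits : ∀ j : ℕ, 0 < j → j < p → IsUnit (j : R)) : Q = 0 := by
  ext k
  rw [coeff_zero]
  induction k with
  | zero => exact h0
  | succ k ih =>
    by_cases hk : k + 1 < p
    · have h1 := congrArg (fun q => Polynomial.coeff q k) hode
      have h2 : (1 + C m * X) * derivative Q = derivative Q + C m * (X * derivative Q) := by ring
      rw [h2, coeff_add, coeff_C_mul, coeff_C_mul, coeff_X_mul_derivative, ih, coeff_derivative]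
        at h1
      simp only [mul_zero, add_zero] at h1
      have hu := hunits (k + 1) (Nat.succ_pos k) hk
      have h3 : ((k + 1 : ℕ) : R) * Q.coeff (k + 1) = 0 := by
        rw [← h1]; push_cast; ring
      exact (hu.mul_right_eq_zero).mp h3
    · exact coeff_eq_zero_of_natDegree_lt (by omega)

theorem aeval_eq_comp (v : A[X][X]) (F : A[X]) :
    aeval v F = (F.map (C : A →+* A[X])).comp v := by
  rw [Polynomial.comp, Polynomial.eval₂_map, Polynomial.aeval_def]
  rfl

theorem derivative_aeval (v : A[X][X]) (F : A[X]) :
    derivative (aeval v F) = derivative v * aeval v (derivative F) := by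
  rw [aeval_eq_comp, aeval_eq_comp, derivative_comp, derivative_map]

theorem eval_zero_aeval (v : A[X][X]) (F : A[X]) :
    eval 0 (aeval v F) = aeval (eval 0 v) F := by
  rw [aeval_eq_comp, eval_comp, eval_map, Polynomial.aeval_def]
  rfl

theorem natDegree_aeval_le (v : A[X][X]) (hv : v.natDegree ≤ 1) (F : A[X]) :
    (aeval v F).natDegree ≤ F.natDegree := by
  rw [aeval_eq_comp]
  calc ((F.map (C : A →+* A[X])).comp v).natDegree
      ≤ (F.map (C : A →+* A[X])).natDegree * v.natDegree := natDegree_comp_le
    _ ≤ F.natDegree * 1 := Nat.mul_le_mul (natDegree_map_le) hv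
    _ = F.natDegree := mul_one _

/-- the point `S + T + μ S T` -/
noncomputable def uu (μ : A) : A[X][X] := C X + X + C (C μ) * C X * X

theorem derivative_uu (μ : A) : derivative (uu μ) = 1 + C (C μ) * C X := by
  simp [uu, derivative_mul]

theorem eval_zero_uu (μ : A) : eval 0 (uu μ) = X := by
  simp [uu]

theorem natDegree_uu_le (μ : A) : (uu μ).natDegree ≤ 1 := by
  unfold uu
  have h1 : (C (X : A[X]) + X : A[X][X]).natDegree ≤ 1 :=
    (natDegree_add_le _ _).trans (max_le ((natDegree_C _).le.trans (Nat.zero_le 1)) natDegree_X_le)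
  have h2 : (C (C μ) * C (X : A[X]) * X : A[X][X]).natDegree ≤ 1 := by
    rw [← C_mul]
    exact (natDegree_C_mul_le _ _).trans natDegree_X_le
  exact (natDegree_add_le _ _).trans (max_le h1 h2)

/-- the forward direction: differentiate in `T` and put `T = 0`. -/
theorem forward (μ : A) (F : A[X])
    (h : (aeval (C X : A[X][X]) F) * (aeval (X : A[X][X]) F) - C (C (F.coeff 0 ^ 2))
      = aeval (uu μ) F - C (C (F.coeff 0))) :
    F * C (F.coeff 1) = derivative F * (1 + C μ * X) := by
  have h1 := congrArg (fun q => eval 0 (derivative q)) h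
  simp only [derivative_sub, derivative_mul, derivative_aeval, derivative_C, derivative_X,
    zero_mul, zero_add, one_mul, sub_zero, derivative_uu, eval_mul, eval_zero_aeval, eval_C,
    eval_X, eval_add, eval_one, eval_zero_uu, aeval_X_left, AlgHom.id_apply] at h1
  rw [← Polynomial.coeff_zero_eq_aeval_zero', coeff_derivative] at h1
  simp only [zero_add, Nat.cast_zero, mul_one] at h1
  rw [show algebraMap A A[X] (F.coeff 1) = C (F.coeff 1) from rfl] at h1
  rw [h1]; ring

theorem aeval_ode (v : A[X][X]) (μ : A) (F : A[X])
    (hode : F * C (F.coeff 1) = derivative F * (1 + C μ * X)) :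
    aeval v F * C (C (F.coeff 1)) = aeval v (derivative F) * (1 + C (C μ) * v) := by
  have := congrArg (aeval v) hode
  simpa only [map_mul, map_add, map_one, aeval_C, aeval_X,
    show algebraMap A A[X][X] = (C : A[X] →+* A[X][X]).comp C from rfl, RingHom.comp_apply]
    using this

/-- the backward direction -/
theorem backward (p : ℕ) (hunits : ∀ j : ℕ, 0 < j → j < p → IsUnit (j : A)) (μ : A) (F : A[X])
    (hF : F.natDegree < p) (_hp : 1 < p)
    (hode : F * C (F.coeff 1) = derivative F * (1 + C μ * X)) :
    (aeval (C X : A[X][X]) F) * (aeval (X : A[X][X]) F) - C (C (F.coeff 0 ^ 2))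
      = aeval (uu μ) F - C (C (F.coeff 0)) := by
  -- coefficient recursion
  have hrec : ∀ k : ℕ, F.coeff k * F.coeff 1
      = F.coeff (k + 1) * ((k : A) + 1) + μ * ((k : A) * F.coeff k) := by
    intro k
    have h1 := congrArg (fun q => Polynomial.coeff q k) hode
    have h2 : derivative F * (1 + C μ * X) = derivative F + C μ * (X * derivative F) := by ring
    rw [h2, coeff_mul_C, coeff_add, coeff_C_mul, coeff_X_mul_derivative, coeff_derivative] at h1
    exact h1
  have hb : ∀ k : ℕ, F.coeff (k + 1) * (F.coeff 0 - 1) = 0 := by
    intro k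
    induction k with
    | zero =>
      have := hrec 0
      simp only [Nat.cast_zero, zero_add, zero_mul, mul_zero, add_zero, mul_one] at this
      linear_combination this
    | succ k ih =>
      by_cases hk : k + 1 + 1 < p
      · have hu := hunits (k + 1 + 1) (Nat.succ_pos _) hk
        have h3 : ((k + 1 + 1 : ℕ) : A) * (F.coeff (k + 1 + 1) * (F.coeff 0 - 1)) = 0 := by
          have := hrec (k + 1)
          push_cast at this ⊢
          linear_combination (-(F.coeff 0 - 1)) * this
            + (F.coeff 1 - μ * ((k : A) + 1)) * ih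
        exact (hu.mul_right_eq_zero).mp h3
      · rw [coeff_eq_zero_of_natDegree_lt (by omega), zero_mul]
  have hunitsR : ∀ j : ℕ, 0 < j → j < p → IsUnit (j : A[X]) := by
    intro j h0 h1
    have := (hunits j h0 h1).map (C : A →+* A[X])
    simpa using this
  rw [sub_eq_sub_iff_add_eq_add, ← sub_eq_zero]
  apply ode_unique p _ (C μ) (C (F.coeff 1)) _ _ _ hunitsR
  · -- degree
    have hcx : (C (X : A[X]) : A[X][X]).natDegree ≤ 1 := (natDegree_C _).le.trans (Nat.zero_le 1)
    have hx : (X : A[X][X]).natDegree ≤ 1 := natDegree_X_le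
    have d1 := natDegree_aeval_le (C X : A[X][X]) hcx F
    have d1' : (aeval (C X : A[X][X]) F).natDegree = 0 := by
      rw [aeval_eq_comp]
      have := natDegree_comp_le (p := F.map (C : A →+* A[X])) (q := (C X : A[X][X]))
      rw [natDegree_C, mul_zero] at this
      omega
    have d2 := natDegree_aeval_le (X : A[X][X]) hx F
    have d3 := natDegree_aeval_le (uu μ) (natDegree_uu_le μ) F
    have e1 : (aeval (C X : A[X][X]) F * aeval (X : A[X][X]) F).natDegree ≤ F.natDegree := by
      refine natDegree_mul_le.trans ?_
      rw [d1', zero_add]; exact d2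
    have e2 : (aeval (C X : A[X][X]) F * aeval (X : A[X][X]) F
        + C (C (F.coeff 0))).natDegree ≤ F.natDegree :=
      (natDegree_add_le _ _).trans (max_le e1 ((natDegree_C _).le.trans (Nat.zero_le _)))
    have e3 : (aeval (uu μ) F + C (C (F.coeff 0 ^ 2))).natDegree ≤ F.natDegree :=
      (natDegree_add_le _ _).trans (max_le d3 ((natDegree_C _).le.trans (Nat.zero_le _)))
    exact lt_of_le_of_lt ((natDegree_sub_le _ _).trans (max_le e2 e3)) hF
  · -- value at zero
    rw [coeff_zero_eq_eval_zero]
    simp only [eval_sub, eval_add, eval_mul, eval_zero_aeval, eval_C, eval_X, eval_zero_uu,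
      aeval_X_left, AlgHom.id_apply]
    rw [← Polynomial.coeff_zero_eq_aeval_zero']
    rw [show algebraMap A A[X] (F.coeff 0) = C (F.coeff 0) from rfl]
    ext k
    cases k with
    | zero =>
      simp only [coeff_sub, coeff_add, coeff_mul_C, coeff_C_zero, coeff_zero]
      ring
    | succ k =>
      have := hb k
      simp only [coeff_sub, coeff_add, coeff_mul_C, coeff_C_succ, coeff_zero]
      linear_combination this
  · -- the ODE
    have hX := aeval_ode (X : A[X][X]) μ F hode
    have hU := aeval_ode (uu μ) μ F hode
    have hb0 := hb 0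
    simp only [zero_add] at hb0
    have hcc : (C (C (F.coeff 1)) : A[X][X]) * (C (C (F.coeff 0)) - 1) = 0 := by
      have : (C (C (F.coeff 1)) : A[X][X]) * (C (C (F.coeff 0)) - 1)
          = C (C (F.coeff 1 * (F.coeff 0 - 1))) := by
        simp only [map_mul, map_sub, map_one]
      rw [this, hb0, map_zero, map_zero]
    simp only [derivative_sub, derivative_add, derivative_mul, derivative_aeval, derivative_C,
      derivative_X, zero_mul, zero_add, one_mul, add_zero, derivative_uu]
    have huu : (1 + C (C μ) * X) * (1 + C (C μ) * C X) = 1 + C (C μ) * uu μ := by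
      unfold uu; ring
    have e1 : (1 + C (C μ) * X) * ((1 + C (C μ) * C X) * aeval (uu μ) (derivative F))
        = aeval (uu μ) F * C (C (F.coeff 1)) := by
      rw [hU, ← huu]; ring
    simp only [map_pow]
    linear_combination (aeval (C X : A[X][X]) F) * (-hX) - e1
      + (C (C (F.coeff 0))) * hcc

end Groth.Agent.S13156Aux

namespace Groth.Agent.S13156

/-- Let p be a prime number, A a commutative ring in which (p−1)! is invertible, μ an element of A, and
F ∈ A[X] a polynomial of degree at most p − 1 with coefficients a_0, a_1, …. Then the identity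
F(S)·F(T) − a_0² = F(S + T + μST) − a_0 holds in the polynomial ring A[S, T] if and only if a_1·F(S)
= F′(S)·(1 + μS) holds in A[S], F′ the formal derivative. (The published statement is over the
quotient of a discrete valuation ring of residue characteristic p by a nonzero element of its
maximal ideal; only the invertibility of 1, …, p − 1 is used, so an arbitrary such ring A is allowed
here.) -/
theorem result (A : Type u) [CommRing A] (p : ℕ) [Fact p.Prime]
    (hu : IsUnit ((Nat.factorial (p - 1) : ℕ) : A)) (μ : A) (F : A[X]) (hF : F.natDegree < p) :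
    (Polynomial.aeval (MvPolynomial.X 0 : MvPolynomial (Fin 2) A) F *
          Polynomial.aeval (MvPolynomial.X 1 : MvPolynomial (Fin 2) A) F - MvPolynomial.C (F.coeff 0 ^ 2) =
        Polynomial.aeval (MvPolynomial.X 0 + MvPolynomial.X 1 +
            MvPolynomial.C μ * MvPolynomial.X 0 * MvPolynomial.X 1 : MvPolynomial (Fin 2) A) F -
          MvPolynomial.C (F.coeff 0)) ↔
      F * Polynomial.C (F.coeff 1) = Polynomial.derivative F * (1 + Polynomial.C μ * Polynomial.X) := by
  have hp : 1 < p := (Fact.out : p.Prime).one_lt
  have hunits : ∀ j : ℕ, 0 < j → j < p → IsUnit (j : A) := by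
    intro j h0 h1
    have hdvd : j ∣ Nat.factorial (p - 1) := Nat.dvd_factorial h0 (by omega)
    exact isUnit_of_dvd_unit (Nat.cast_dvd_cast (α := A) hdvd) hu
  constructor
  · intro h
    apply Groth.Agent.S13156Aux.forward μ F
    have h1 := congrArg (MvPolynomial.aeval (R := A)
      (![Polynomial.C Polynomial.X, Polynomial.X] : Fin 2 → A[X][X])) h
    simp only [map_sub, map_mul, map_add, ← Polynomial.aeval_algHom_apply, MvPolynomial.aeval_X,
      MvPolynomial.aeval_C, Matrix.cons_val_zero, Matrix.cons_val_one] at h1
    simpa only [Groth.Agent.S13156Aux.uu,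
      show algebraMap A A[X][X] = (Polynomial.C : A[X] →+* A[X][X]).comp Polynomial.C from rfl,
      RingHom.comp_apply] using h1
  · intro hode
    have h := Groth.Agent.S13156Aux.backward p hunits μ F hF hp hode
    have h1 := congrArg (Polynomial.aevalTower
      (Polynomial.aeval (MvPolynomial.X 0 : MvPolynomial (Fin 2) A)) (MvPolynomial.X 1)) h
    simp only [map_sub, map_mul, map_add, ← Polynomial.aeval_algHom_apply,
      Groth.Agent.S13156Aux.uu, Polynomial.aevalTower_C, Polynomial.aevalTower_X,
      Polynomial.aeval_C, Polynomial.aeval_X] at h1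
    exact h1

end Groth.Agent.S13156
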