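import Groth.Statements.S13157
import Mathlib

set_option autoImplicit false
universe u
open scoped Polynomial
open CAlg

namespace Groth.Agent.S13157

/-- (i) ⇔ (ii): let p be a prime number, A a commutative ring in which (p−1)! is invertible, μ ∈ A, and
F ∈ A[X] a polynomial of degree at most p − 1 with constant term a_0 = 1 and coefficients a_1, a_2,
…. Then the relations a_{r−1}·a_1 = (r − 1)μ·a_{r−1} + r·a_r for 1 ≤ r ≤ p (with a_p = 0), written
here as the single identity a_1·F = F′·(1 + μX), hold if and only if r!·a_r = ∏_{k=0}^{r−1} (a_1 −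
kμ) for every 1 ≤ r ≤ p − 1 and ∏_{k=0}^{p−1} (a_1 − kμ) = 0. (The published statement lists the
relations only for 1 ≤ r ≤ p − 1, while its proof uses and derives the relation for r = p as well,
which is needed for the vanishing of the last product; it is included here. The published setting is
the quotient of a discrete valuation ring of residue characteristic p by a nonzero non-unit; only
the invertibility of 1, …, p − 1 is used.) -/
theorem ode_iff_coeff (A : Type u) [CommRing A] (μ : A) (F : A[X]) :
    F * Polynomial.C (F.coeff 1) = Polynomial.derivative F * (1 + Polynomial.C μ * Polynomial.X) ↔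
      ∀ n : ℕ, ((n : A) + 1) * F.coeff (n + 1) = (F.coeff 1 - (n : A) * μ) * F.coeff n := by
  rw [Polynomial.ext_iff]
  refine forall_congr' fun n => ?_
  have h1 : (F * Polynomial.C (F.coeff 1)).coeff n = F.coeff n * F.coeff 1 := by
    rw [Polynomial.coeff_mul_C]
  have h2 : (Polynomial.derivative F * (1 + Polynomial.C μ * Polynomial.X)).coeff n =
      F.coeff (n + 1) * ((n : A) + 1) + μ * ((n : A) * F.coeff n) := by
    rw [mul_add, mul_one, Polynomial.coeff_add, Polynomial.coeff_derivative, ← mul_assoc,
      mul_comm (Polynomial.derivative F) (Polynomial.C μ), mul_assoc, Polynomial.coeff_C_mul]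
    congr 2
    cases n with
    | zero => simp
    | succ m =>
      rw [Polynomial.coeff_mul_X, Polynomial.coeff_derivative]
      push_cast
      ring
  rw [h1, h2]
  constructor
  · intro h; linear_combination -h
  · intro h; linear_combination -h

theorem result (A : Type u) [CommRing A] (p : ℕ) [Fact p.Prime]
    (hu : IsUnit ((Nat.factorial (p - 1) : ℕ) : A)) (μ : A) (F : A[X]) (hF : F.natDegree < p)
    (h0 : F.coeff 0 = 1) :
    F * Polynomial.C (F.coeff 1) = Polynomial.derivative F * (1 + Polynomial.C μ * Polynomial.X) ↔
      ((∀ r : ℕ, 1 ≤ r → r < p →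
          (r.factorial : A) * F.coeff r = ∏ k ∈ Finset.range r, (F.coeff 1 - (k : A) * μ)) ∧
        ∏ k ∈ Finset.range p, (F.coeff 1 - (k : A) * μ) = 0) := by
  have hp : p.Prime := Fact.out
  rw [ode_iff_coeff]
  have hunit : ∀ n : ℕ, n < p → IsUnit ((n.factorial : ℕ) : A) := by
    intro n hn
    have hdvd : n.factorial ∣ (p - 1).factorial := Nat.factorial_dvd_factorial (by omega)
    obtain ⟨c, hc⟩ := hdvd
    rw [hc] at hu
    push_cast at hu
    exact isUnit_of_mul_isUnit_left hu
  have hcoeff : ∀ n : ℕ, p ≤ n → F.coeff n = 0 := fun n hn =>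
    Polynomial.coeff_eq_zero_of_natDegree_lt (by omega)
  constructor
  · intro h
    have key : ∀ r : ℕ, (r.factorial : A) * F.coeff r =
        ∏ k ∈ Finset.range r, (F.coeff 1 - (k : A) * μ) := by
      intro r
      induction r with
      | zero => simp [h0]
      | succ r ih =>
        rw [Finset.prod_range_succ, ← ih, Nat.factorial_succ]
        push_cast
        linear_combination (r.factorial : A) * h r
    refine ⟨fun r _ _ => key r, ?_⟩
    rw [← key p, hcoeff p le_rfl, mul_zero]
  · rintro ⟨h1, h2⟩ n
    have key : ∀ r : ℕ, r < p → (r.factorial : A) * F.coeff r =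
        ∏ k ∈ Finset.range r, (F.coeff 1 - (k : A) * μ) := by
      intro r hr
      rcases Nat.eq_zero_or_pos r with rfl | hr0
      · simp [h0]
      · exact h1 r hr0 hr
    rcases lt_trichotomy (n + 1) p with hlt | heq | hgt
    · have e1 := key (n + 1) hlt
      have e2 := key n (by omega)
      rw [Finset.prod_range_succ, ← e2, Nat.factorial_succ] at e1
      push_cast at e1
      apply (hunit n (by omega)).mul_left_cancel
      linear_combination e1
    · have e2 := key n (by omega)
      rw [← heq, Finset.prod_range_succ, ← e2] at h2
      rw [hcoeff (n + 1) (by omega), mul_zero]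
      apply (hunit n (by omega)).mul_left_cancel
      linear_combination -h2
    · rw [hcoeff (n + 1) (by omega), hcoeff n (by omega), mul_zero, mul_zero]

end Groth.Agent.S13157
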