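import Groth.Statements.S13158
import Groth.Agent.Lib.Helper59.PthPowerStep

set_option autoImplicit false
universe u
open CAlg

namespace Groth.Agent.S13158

/-- Let R be a discrete valuation ring of characteristic zero whose maximal ideal contains the prime
number p, let n ≥ 1, and let λ be a nonzero element of R such that λ^(p^(n−1)(p−1)) divides p (the
condition v(p) ≥ p^(n−1)(p−1)·v(λ) under which the polynomial ((1 + λT)^(p^n) − 1)/λ^(p^n) has
coefficients in R). Let A be an integrally closed integral domain which is a faithfully flat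
R-algebra. Then for every unit x of A, λ^(p^n) divides x^(p^n) − 1 in A if and only if λ divides x −
1 in A. -/
theorem result (R : Type u) [CommRing R]
    [IsDomain R] [IsDiscreteValuationRing R] [CharZero R] (p n : ℕ) [Fact p.Prime] (hn : 1 ≤ n)
    (hp : (p : R) ∈ IsLocalRing.maximalIdeal R) (lam : R) (hlam : lam ≠ 0)
    (hstar : lam ^ (p ^ (n - 1) * (p - 1)) ∣ (p : R))
    (A : Type u) [CommRing A] [IsDomain A] [IsIntegrallyClosed A] [Algebra R A] [Module.FaithfullyFlat R A]
    (x : Aˣ) :
    (algebraMap R A lam ^ p ^ n ∣ (x : A) ^ p ^ n - 1) ↔ (algebraMap R A lam ∣ (x : A) - 1) := by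
  have hinj : Function.Injective (algebraMap R A) := FaithfulSMul.algebraMap_injective R A
  have hl0 : algebraMap R A lam ≠ 0 := by
    intro h0
    exact hlam (hinj (by rw [h0, map_zero]))
  have H : algebraMap R A lam ^ (p ^ (n - 1) * (p - 1)) ∣ ((p : ℕ) : A) := by
    have := map_dvd (algebraMap R A) hstar
    rwa [map_pow, map_natCast] at this
  exact Groth.Agent.Lib.Helper59.PthPowerStep.iterate p (algebraMap R A lam) (x : A) n hn hl0 H

end Groth.Agent.S13158
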