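import Groth.Statements.S1316
import Groth.Agent.Lib.Helper6.Thickening
import Groth.Agent.S1313

set_option autoImplicit false
universe u
open FlatMor

namespace Groth.Agent.S1316

open AlgebraicGeometry CategoryTheory Limits in
/-- Let Y ⟶ Y' be a thickening, let X be the base change to Y of a scheme X' over Y', and assume both X
⟶ Y and X' ⟶ Y' are locally of finite type. Then X ⟶ Y is an immersion if and only if X' ⟶ Y' is. -/
theorem result {X X' Y Y' : Scheme.{u}} (iX : X ⟶ X') (iY : Y ⟶ Y') (f : X ⟶ Y) (f' : X' ⟶ Y')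
    (hY : MoreMor.IsThickening iY) (hc : IsPullback iX f f' iY) [LocallyOfFiniteType f] [LocallyOfFiniteType f'] :
    IsImmersion f ↔ IsImmersion f' := by
  open Groth.Agent.Lib.Helper6 in
  constructor
  · intro hf
    have hiY : IsHomeomorph iY.base := Thick.isHomeomorph hY
    set U : Y.Opens := f.coborderRange with hU
    let U' : Y'.Opens := ⟨iY '' (U : Set Y), hiY.isOpenMap _ U.2⟩
    have hVU : iY ⁻¹ᵁ U' = U := by
      ext y
      change iY y ∈ iY '' (U : Set Y) ↔ y ∈ U
      exact hiY.injective.mem_set_image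
    have hfU : Set.range f ⊆ Set.range (iY ⁻¹ᵁ U').ι := by
      rw [Scheme.Opens.range_ι, hVU]
      exact subset_coborder
    let k : X ⟶ (iY ⁻¹ᵁ U').toScheme := IsOpenImmersion.lift (iY ⁻¹ᵁ U').ι f hfU
    have hk : k ≫ (iY ⁻¹ᵁ U').ι = f := IsOpenImmersion.lift_fac _ _ _
    have hkc : IsClosedImmersion k := by
      have h1 : k ≫ (Y.isoOfEq hVU).hom = f.liftCoborder := by
        rw [← cancel_mono U.ι, Category.assoc, Scheme.isoOfEq_hom_ι, hk,
          Scheme.Hom.liftCoborder_ι]
      have h2 : k = f.liftCoborder ≫ (Y.isoOfEq hVU).inv := by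
        rw [← h1, Category.assoc, Iso.hom_inv_id, Category.comp_id]
      rw [h2]
      infer_instance
    have hf'U : Set.range f' ⊆ Set.range U'.ι := by
      rw [Scheme.Opens.range_ι]
      rintro _ ⟨x', rfl⟩
      obtain ⟨x, rfl⟩ := (Thick.isHomeomorph (Thick.baseChange hY hc.flip)).surjective x'
      refine ⟨f x, ?_, ?_⟩
      · exact subset_coborder ⟨x, rfl⟩
      · rw [← Scheme.Hom.comp_apply, ← Scheme.Hom.comp_apply, hc.w]
    let j' : X' ⟶ U'.toScheme := IsOpenImmersion.lift U'.ι f' hf'U
    have hj' : j' ≫ U'.ι = f' := IsOpenImmersion.lift_fac _ _ _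
    have t : IsPullback (iY ⁻¹ᵁ U').ι (iY ∣_ U') iY U'.ι := (isPullback_morphismRestrict iY U').flip
    have p : k ≫ (iY ∣_ U') = iX ≫ j' := by
      rw [← cancel_mono U'.ι, Category.assoc, Category.assoc, hj', morphismRestrict_ι,
        ← Category.assoc, hk, hc.w]
    have s : IsPullback (k ≫ (iY ⁻¹ᵁ U').ι) iX iY (j' ≫ U'.ι) := by
      rw [hk, hj']
      exact hc.flip
    have hpb : IsPullback iX k j' (iY ∣_ U') := (IsPullback.of_right s p t).flip
    have hY' : MoreMor.IsThickening (iY ∣_ U') := Thick.baseChange hY t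
    have : LocallyOfFiniteType j' := by
      have : LocallyOfFiniteType (j' ≫ U'.ι) := by rw [hj']; infer_instance
      exact locallyOfFiniteType_of_comp j' U'.ι
    have hj'c : IsClosedImmersion j' := (Groth.Agent.S1313.result iX (iY ∣_ U') k j' hY' hpb).mp hkc
    rw [← hj']
    infer_instance
  · intro hf'
    exact MorphismProperty.of_isPullback hc hf'

end Groth.Agent.S1316
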