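import Groth.Statements.S13160
import Groth.Agent.Lib.Helper59.WittLow

set_option autoImplicit false
universe u
open CAlg

namespace Groth.Agent.S13160

/-- Let R be a discrete valuation ring, p a prime number and λ an element of R dividing p (so that R/λR
is an 𝔽_p-algebra), and let a and b be p-typical Witt vectors with coefficients in R/λR which are
killed by the Frobenius endomorphism. Then the Witt sum a + b has components a_n + b_n for every n.
(The published statement allows an arbitrary λ ∈ R and is stated for Witt vectors with finitely many
nonzero components; this row assumes that λ divides p, so that p = 0 in R/λR, and allows all Witt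
vectors.) -/
theorem result (R : Type u) [CommRing R] [IsDomain R]
    [IsDiscreteValuationRing R] (p : ℕ) [Fact p.Prime] (lam : R) (hlam : lam ∣ (p : R))
    (a b : WittVector p (R ⧸ Ideal.span {lam})) (ha : WittVector.frobenius a = 0)
    (hb : WittVector.frobenius b = 0) (n : ℕ) : (a + b).coeff n = a.coeff n + b.coeff n := by
  rcases subsingleton_or_nontrivial (R ⧸ Ideal.span {lam}) with hsub | hnt
  · exact Subsingleton.elim _ _
  · have hp0 : ((p : ℕ) : R ⧸ Ideal.span {lam}) = 0 := by
      have : ((p : R)) ∈ Ideal.span {lam} := Ideal.mem_span_singleton.2 hlam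
      have h2 := (Ideal.Quotient.eq_zero_iff_mem).2 this
      rw [map_natCast] at h2
      exact h2
    haveI : CharP (R ⧸ Ideal.span {lam}) p :=
      (CharP.charP_iff_prime_eq_zero (Fact.out : p.Prime)).2 hp0
    have hchain : ∀ x y : R ⧸ Ideal.span {lam}, x ∣ y ∨ y ∣ x := by
      intro x y
      obtain ⟨x', rfl⟩ := Ideal.Quotient.mk_surjective x
      obtain ⟨y', rfl⟩ := Ideal.Quotient.mk_surjective y
      rcases ValuationRing.dvd_total x' y' with h | h
      · exact Or.inl (map_dvd _ h)
      · exact Or.inr (map_dvd _ h)
    exact Groth.Agent.Lib.Helper59.WittLow.add_coeff_of_frobenius_eq_zero p hchain a b ha hb n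

end Groth.Agent.S13160
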