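import Groth.Statements.S13161
import Mathlib

set_option autoImplicit false
universe u
open scoped TensorProduct
open CAlg

namespace Groth.Agent.S13161

/-- Let R be a discrete valuation ring with fraction field K, A an R-algebra which is semireflexive as
an R-module (the map to its double dual is injective: every nonzero a ∈ A has an R-linear form f : A
→ R with f(a) ≠ 0), and B an A-algebra which is finitely generated as an A-module and flat over R.
Suppose B ⊗ K is semireflexive as a module over A ⊗ K, which for such B amounts to: every nonzero b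
∈ B has an A-linear map g : B → A ⊗_R K with g(b) ≠ 0. Then B is semireflexive as an R-module: every
nonzero b ∈ B has an R-linear form h : B → R with h(b) ≠ 0. (The published statement phrases the
hypothesis on B_K as an A_K-module; for B flat over R and finite over A this is the elementwise
condition used here.) -/
theorem result (R : Type u) [CommRing R] [IsDomain R]
    [IsDiscreteValuationRing R] (K : Type u) [Field K] [Algebra R K] [IsFractionRing R K]
    (A B : Type u) [CommRing A] [CommRing B] [Algebra R A] [Algebra R B] [Algebra A B] [IsScalarTower R A B]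
    [Module.Finite A B] [Module.Flat R B]
    (hA : ∀ a : A, a ≠ 0 → ∃ f : A →ₗ[R] R, f a ≠ 0)
    (hBK : ∀ b : B, b ≠ 0 → ∃ g : B →ₗ[A] A ⊗[R] K, g b ≠ 0) :
    ∀ b : B, b ≠ 0 → ∃ h : B →ₗ[R] R, h b ≠ 0 := by
  classical
  intro b hb
  obtain ⟨g, hg⟩ := hBK b hb
  let S := nonZeroDivisors R
  let ι : A →ₗ[R] A ⊗[R] K :=
    (TensorProduct.comm R K A).toLinearMap ∘ₗ (TensorProduct.mk R K A 1)
  have : IsLocalizedModule S ι := IsLocalizedModule.of_linearEquiv _ _ _
  have hι : ∀ a, ι a = a ⊗ₜ[R] (1 : K) := fun a => rfl
  let ιA : A →ₗ[A] A ⊗[R] K :=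
    { toFun := fun a => a ⊗ₜ[R] (1 : K)
      map_add' := fun x y => TensorProduct.add_tmul x y 1
      map_smul' := fun c x => by
        simp only [RingHom.id_apply, TensorProduct.smul_tmul', smul_eq_mul] }
  -- generators
  obtain ⟨T, hT⟩ := (Module.Finite.fg_top : (⊤ : Submodule A B).FG)
  obtain ⟨r, hr⟩ := IsLocalizedModule.exist_integer_multiples S ι T (fun t => g t)
  have hr0 : (r : R) ≠ 0 := nonZeroDivisors.ne_zero r.2
  have hall : ∀ b' : B, (r : R) • g b' ∈ LinearMap.range ιA := by
    intro b'
    have hb' : b' ∈ Submodule.span A (T : Set B) := by rw [hT]; trivial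
    induction hb' using Submodule.span_induction with
    | mem x hx =>
      obtain ⟨a, ha⟩ := hr x hx
      exact ⟨a, by rw [← ha]; rfl⟩
    | zero => simp
    | add x y _ _ hx hy =>
      rw [map_add, smul_add]
      exact Submodule.add_mem _ hx hy
    | smul a x _ hx =>
      rw [map_smul, smul_comm]
      exact Submodule.smul_mem _ a hx
  -- the element
  obtain ⟨ab, hab⟩ := hall b
  have hab0 : ab ≠ 0 := by
    intro h0
    rw [h0, map_zero] at hab
    have hunit := IsLocalizedModule.map_units (S := S) ι r
    have : (algebraMap R (Module.End R (A ⊗[R] K)) r) (g b) = 0 := by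
      rw [Module.algebraMap_end_apply]; exact hab.symm
    have hinj := ((Module.End.isUnit_iff _).mp hunit).injective
    exact hg (hinj (by rw [this, map_zero]))
  obtain ⟨f, hf⟩ := hA ab hab0
  let F : A ⊗[R] K →ₗ[R] K := (TensorProduct.lid R K).toLinearMap ∘ₗ (f.rTensor K)
  have hF : ∀ a : A, F (ιA a) = algebraMap R K (f a) := by
    intro a
    show (TensorProduct.lid R K) ((f.rTensor K) (a ⊗ₜ[R] (1 : K))) = _
    rw [LinearMap.rTensor_tmul, TensorProduct.lid_tmul, Algebra.smul_def, mul_one]
  let Φ : B →ₗ[R] K := F ∘ₗ ((r : R) • (g.restrictScalars R))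
  have hΦ : ∀ b' : B, Φ b' ∈ LinearMap.range (Algebra.linearMap R K) := by
    intro b'
    obtain ⟨a, ha⟩ := hall b'
    refine ⟨f a, ?_⟩
    show algebraMap R K (f a) = F ((r : R) • g b')
    rw [← ha, hF]
  have hKinj : Function.Injective (Algebra.linearMap R K) := IsFractionRing.injective R K
  let e := LinearEquiv.ofInjective (Algebra.linearMap R K) hKinj
  let h : B →ₗ[R] R := e.symm.toLinearMap ∘ₗ (Φ.codRestrict _ hΦ)
  refine ⟨h, ?_⟩
  intro hzero
  have h1 : e (h b) = Φ.codRestrict _ hΦ b := by
    show e (e.symm _) = _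
    rw [LinearEquiv.apply_symm_apply]
  rw [hzero, map_zero] at h1
  have h2 : Φ b = 0 := by
    have := congrArg Subtype.val h1
    simpa using this.symm
  have h3 : Φ b = algebraMap R K (f ab) := by
    show F ((r : R) • g b) = _
    rw [← hab, hF]
  rw [h3] at h2
  have : f ab = 0 := by
    apply IsFractionRing.injective R K
    rw [h2, map_zero]
  exact hf this

end Groth.Agent.S13161
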