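import Groth.Statements.S13162
import Mathlib

set_option autoImplicit false
universe u v
open ZeroCyc

namespace Groth.Agent.S13162

/-- Let a finite group G act on a commutative ring A by ring automorphisms and let p be a prime such
that every integer prime to p is a unit in A. If I is an ideal of A and f ∈ A has G-invariant class
modulo I, then f^(p^k) is congruent modulo I to a G-invariant element of A, where p^k is the exact
power of p dividing the order of G. (The published statement assumes I stable under G, so that G
acts on A/I and the claim reads: the p^k-th power of an invariant of A/I lies in the image of the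
invariants of A; the form here asks only that the class of f be invariant.) -/
theorem result {A : Type u} [CommRing A] {G : Type v} [Group G] [Fintype G]
    [MulSemiringAction G A] (p : ℕ) [Fact p.Prime]
    (hA : ∀ m : ℕ, ¬ p ∣ m → IsUnit (m : A))
    (I : Ideal A) (f : A) (hf : ∀ g : G, g • f - f ∈ I) :
    ∃ a : A, (∀ g : G, g • a = a) ∧ a - f ^ (p ^ (Fintype.card G).factorization p) ∈ I := by
  classical
  obtain ⟨P⟩ : Nonempty (Sylow p G) := inferInstance
  have hcardP : Fintype.card P = p ^ (Fintype.card G).factorization p := by
    have := P.card_eq_multiplicity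
    rwa [Nat.card_eq_fintype_card, Nat.card_eq_fintype_card] at this
  set N : A := ∏ h : P, ((h : G) • f) with hN
  -- invariance of N under P
  have hNinv : ∀ h' : P, (h' : G) • N = N := by
    intro h'
    rw [hN, Finset.smul_prod']
    refine Fintype.prod_equiv (Equiv.mulLeft h') _ _ ?_
    intro h
    simp [mul_smul]
  -- congruence of g • N
  have hNcong : ∀ g : G, g • N - f ^ (Fintype.card P) ∈ I := by
    intro g
    rw [← Ideal.Quotient.eq, hN, Finset.smul_prod', map_prod, map_pow]
    have : ∀ h : P, Ideal.Quotient.mk I (g • ((h : G) • f)) = Ideal.Quotient.mk I f := by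
      intro h
      rw [Ideal.Quotient.eq, ← mul_smul]
      exact hf _
    simp only [this, Finset.prod_const, Finset.card_univ]
  -- the index
  set m : ℕ := Fintype.card (G ⧸ (P : Subgroup G)) with hm
  have hmdvd : ¬ p ∣ m := by
    have h1 := P.not_dvd_index
    rwa [Subgroup.index, Nat.card_eq_fintype_card] at h1
  obtain ⟨c, hc⟩ := (hA m hmdvd).exists_left_inv
  -- c * m = 1
  have hcinv : ∀ g : G, g • c = c := by
    intro g
    have h1 : (g • c) * (m : A) = 1 := by
      have := congrArg (fun x => g • x) hc
      simp only [smul_mul', smul_one] at this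
      rwa [show g • (m : A) = (m : A) from map_natCast (MulSemiringAction.toRingHom G A g) m] at this
    calc g • c = g • c * ((m : A) * c) := by rw [mul_comm (m : A) c, hc, mul_one]
      _ = (g • c * (m : A)) * c := by ring
      _ = c := by rw [h1, one_mul]
  set T : A := ∑ q : G ⧸ (P : Subgroup G), (q.out : G) • N with hT
  have hTinv : ∀ g : G, g • T = T := by
    intro g
    rw [hT, Finset.smul_sum]
    have key : ∀ q : G ⧸ (P : Subgroup G), g • ((q.out : G) • N) = ((g • q).out : G) • N := by
      intro q
      have hmem : ((g • q).out)⁻¹ * (g * q.out) ∈ (P : Subgroup G) := by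
        rw [← QuotientGroup.eq, QuotientGroup.out_eq']
        conv_lhs => rw [← QuotientGroup.out_eq' q]
        rfl
      have h2 := hNinv ⟨_, hmem⟩
      simp only [mul_smul] at h2
      calc g • ((q.out : G) • N)
          = ((g • q).out : G) • (((g • q).out : G)⁻¹ • g • (q.out : G) • N) := by
            rw [smul_inv_smul]
        _ = ((g • q).out : G) • N := by rw [h2]
    simp only [key]
    exact Fintype.sum_equiv (MulAction.toPerm g) _ _ (fun q => rfl)
  refine ⟨c * T, ?_, ?_⟩
  · intro g
    rw [smul_mul', hcinv, hTinv]
  · rw [← hcardP]
    have h1 : c * T - f ^ Fintype.card P =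
        c * ∑ q : G ⧸ (P : Subgroup G), ((q.out : G) • N - f ^ Fintype.card P) := by
      rw [Finset.sum_sub_distrib, Finset.sum_const, Finset.card_univ, ← hm, nsmul_eq_mul, mul_sub,
        ← mul_assoc, hc, one_mul]
    rw [h1]
    exact Ideal.mul_mem_left _ _ (Ideal.sum_mem _ (fun q _ => hNcong _))

end Groth.Agent.S13162
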