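import Groth.Statements.S13163
import Mathlib

set_option autoImplicit false
universe u
open ZeroCyc

namespace Groth.Agent.S13163

open Polynomial in
/-- Let P_d(T) = ∏_{0 ≤ i < j ≤ d} (T^i − T^j) − 1 ∈ ℤ[T]. Every residue field of ℤ[T]/(P_d), i.e. every
field receiving a ring homomorphism from it, has at least d + 1 elements. -/
theorem result (d : ℕ) (k : Type u) [Field k]
    (φ : (ℤ[X] ⧸ Ideal.span {(∏ j ∈ Finset.range (d + 1), ∏ i ∈ Finset.range j,
        ((X : ℤ[X]) ^ i - X ^ j)) - 1}) →+* k) :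
    ((d + 1 : ℕ) : Cardinal) ≤ Cardinal.mk k := by
  classical
  set P : ℤ[X] := (∏ j ∈ Finset.range (d + 1), ∏ i ∈ Finset.range j,
        ((X : ℤ[X]) ^ i - X ^ j)) - 1 with hP
  set t : k := φ (Ideal.Quotient.mk _ X) with ht
  have h0 : φ (Ideal.Quotient.mk (Ideal.span {P}) P) = 0 := by
    have : Ideal.Quotient.mk (Ideal.span {P}) P = 0 :=
      Ideal.Quotient.eq_zero_iff_mem.mpr (Ideal.subset_span rfl)
    rw [this, map_zero]
  have h1 : (∏ j ∈ Finset.range (d + 1), ∏ i ∈ Finset.range j, (t ^ i - t ^ j)) = 1 := by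
    have h2 : φ (Ideal.Quotient.mk (Ideal.span {P}) P) =
        (∏ j ∈ Finset.range (d + 1), ∏ i ∈ Finset.range j, (t ^ i - t ^ j)) - 1 := by
      simp only [hP, map_sub, map_prod, map_pow, map_one, ht]
    rw [h0] at h2
    exact (sub_eq_zero.mp h2.symm)
  have hinj : Function.Injective (fun i : Fin (d + 1) => t ^ (i : ℕ)) := by
    have key : ∀ a b : Fin (d + 1), (a : ℕ) < (b : ℕ) → t ^ (a : ℕ) ≠ t ^ (b : ℕ) := by
      intro a b hlt hab
      have hz : (∏ j ∈ Finset.range (d + 1), ∏ i ∈ Finset.range j, (t ^ i - t ^ j)) = 0 := by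
        apply Finset.prod_eq_zero (Finset.mem_range.mpr b.2)
        apply Finset.prod_eq_zero (Finset.mem_range.mpr hlt)
        simpa [sub_eq_zero] using hab
      rw [hz] at h1
      exact zero_ne_one h1
    intro a b hab
    by_contra hne
    have hne' : (a : ℕ) ≠ (b : ℕ) := fun h => hne (Fin.ext h)
    rcases Nat.lt_or_gt_of_ne hne' with h | h
    · exact key a b h hab
    · exact key b a h hab.symm
  have := Cardinal.lift_mk_le_lift_mk_of_injective hinj
  simpa using this

end Groth.Agent.S13163
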