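import Groth.Statements.S13164
import Mathlib

set_option autoImplicit false
universe u
open ZeroCyc

namespace Groth.Agent.S13164

section helpers

variable {R A : Type u} [CommRing R] [CommRing A] [Algebra R A] (𝒜 : ℕ → Submodule R A) [GradedAlgebra 𝒜]
  {s : ℕ} (f : Fin s → A) (deg : Fin s → ℕ)

/-- the monomial with exponent vector `e` -/
def mono (e : Fin s → ℕ) : A := ∏ i, f i ^ e i

/-- the weighted degree of the exponent vector `e` -/
def wt (e : Fin s → ℕ) : ℕ := ∑ i, e i * deg i

theorem mono_mem (hf : ∀ i, f i ∈ 𝒜 (deg i)) (e : Fin s → ℕ) : mono f e ∈ 𝒜 (wt deg e) := by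
  have := SetLike.prod_pow_mem_graded 𝒜 deg f e (F := Finset.univ) (fun k _ => hf k)
  simpa [mono, wt] using this

theorem mono_add_single (e : Fin s → ℕ) (i : Fin s) (c : ℕ) :
    mono f (e + Pi.single i c) = mono f e * f i ^ c := by
  classical
  unfold mono
  simp only [Pi.add_apply, pow_add, Finset.prod_mul_distrib]
  congr 1
  rw [Finset.prod_eq_single i]
  · rw [Pi.single_eq_same]
  · intro j _ hj
    rw [Pi.single_eq_of_ne hj, pow_zero]
  · intro h; exact absurd (Finset.mem_univ i) h

theorem wt_add_single (e : Fin s → ℕ) (i : Fin s) (c : ℕ) :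
    wt deg (e + Pi.single i c) = wt deg e + c * deg i := by
  classical
  unfold wt
  simp only [Pi.add_apply, add_mul, Finset.sum_add_distrib]
  congr 1
  rw [Finset.sum_eq_single i]
  · rw [Pi.single_eq_same]
  · intro j _ hj
    rw [Pi.single_eq_of_ne hj, zero_mul]
  · intro h; exact absurd (Finset.mem_univ i) h

theorem mem_span_mono (hf : ∀ i, f i ∈ 𝒜 (deg i))
    (hgen : Algebra.adjoin R (Set.range f) = ⊤) (N : ℕ) (b : A) (hb : b ∈ 𝒜 N) :
    b ∈ Submodule.span R {x | ∃ e : Fin s → ℕ, wt deg e = N ∧ x = mono f e} := by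
  classical
  have hb' : b ∈ (MvPolynomial.aeval f : MvPolynomial (Fin s) R →ₐ[R] A).range := by
    rw [← Algebra.adjoin_range_eq_range_aeval, hgen]; trivial
  obtain ⟨P, hP⟩ := hb'
  have hbsum : b = ∑ e ∈ P.support, (P.coeff e) • mono f (e : Fin s → ℕ) := by
    have h1 : MvPolynomial.aeval f P = b := hP
    rw [← h1]
    conv_lhs => rw [P.as_sum]
    rw [map_sum]
    refine Finset.sum_congr rfl fun e _ => ?_
    rw [MvPolynomial.aeval_monomial, Algebra.smul_def, Finsupp.prod_fintype]
    · rfl
    · intro i; exact pow_zero _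
  have hproj : b = GradedAlgebra.proj 𝒜 N b := by
    rw [GradedAlgebra.proj_apply, DirectSum.decompose_of_mem_same 𝒜 hb]
  rw [hproj, hbsum, map_sum]
  apply Submodule.sum_mem
  intro e _
  rw [map_smul]
  apply Submodule.smul_mem
  by_cases h : wt deg (e : Fin s → ℕ) = N
  · rw [GradedAlgebra.proj_apply, DirectSum.decompose_of_mem_same 𝒜 (h ▸ mono_mem 𝒜 f deg hf _)]
    exact Submodule.subset_span ⟨_, h, rfl⟩
  · rw [GradedAlgebra.proj_apply, DirectSum.decompose_of_mem_ne 𝒜 (mono_mem 𝒜 f deg hf _) h]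
    exact Submodule.zero_mem _

theorem lcm_pos (hdeg : ∀ i, 0 < deg i) : 0 < Finset.univ.lcm deg := by
  rw [Nat.pos_iff_ne_zero, Ne, Finset.lcm_eq_zero_iff]
  rintro ⟨j, _, hj⟩
  exact (hdeg j).ne' hj

theorem exists_big_exponent (hdeg : ∀ i, 0 < deg i) (n : ℕ)
    (hn : (s - 1) * (Finset.univ.lcm deg - 1) ≤ n) (e : Fin s → ℕ)
    (he : wt deg e = n + Finset.univ.lcm deg) :
    ∃ i, Finset.univ.lcm deg / deg i ≤ e i := by
  classical
  set l := Finset.univ.lcm deg with hl
  have hlpos : 0 < l := lcm_pos deg hdeg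
  by_contra hcon
  push Not at hcon
  have hbound : ∀ i, e i * deg i ≤ l - 1 := by
    intro i
    have hdvd : deg i ∣ l := Finset.dvd_lcm (Finset.mem_univ i)
    obtain ⟨c, hc⟩ := hdvd
    have h1 : l / deg i = c := by rw [hc]; exact Nat.mul_div_cancel_left c (hdeg i)
    have h2 : e i < c := h1 ▸ hcon i
    have h3 : e i + 1 ≤ c := h2
    have h4 : (e i + 1) * deg i ≤ c * deg i := Nat.mul_le_mul_right _ h3
    have h5 : c * deg i = l := by rw [hc, mul_comm]
    have := hdeg i
    have h6 : (e i + 1) * deg i = e i * deg i + deg i := by ring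
    omega
  have hsum : wt deg e ≤ s * (l - 1) := by
    unfold wt
    calc ∑ i, e i * deg i ≤ ∑ _i : Fin s, (l - 1) := Finset.sum_le_sum fun i _ => hbound i
      _ = s * (l - 1) := by simp
  rw [he] at hsum
  rcases Nat.eq_zero_or_pos s with hs | hs
  · rw [hs] at hsum; omega
  · obtain ⟨s', rfl⟩ : ∃ s', s = s' + 1 := ⟨s - 1, by omega⟩
    simp only [Nat.add_sub_cancel] at hn
    have : (s' + 1) * (l - 1) = s' * (l - 1) + (l - 1) := by ring
    omega

end helpers

/-- Let B be a graded R-algebra generated by homogeneous elements f_1, …, f_s of positive degrees d_1,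
…, d_s and let l be the least common multiple of the d_i. Then B_{n+l} = B_n B_l for every n ≥ (s −
1)(l − 1). -/
theorem result {R A : Type u} [CommRing R] [CommRing A] [Algebra R A] (𝒜 : ℕ → Submodule R A) [GradedAlgebra 𝒜]
    {s : ℕ} (f : Fin s → A) (deg : Fin s → ℕ) (hdeg : ∀ i, 0 < deg i) (hf : ∀ i, f i ∈ 𝒜 (deg i))
    (hgen : Algebra.adjoin R (Set.range f) = ⊤) (n : ℕ)
    (hn : (s - 1) * (Finset.univ.lcm deg - 1) ≤ n) :
    𝒜 (n + Finset.univ.lcm deg) = 𝒜 n * 𝒜 (Finset.univ.lcm deg) := by
  classical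
  set l := Finset.univ.lcm deg with hl
  apply le_antisymm
  · intro b hb
    have hspan := mem_span_mono 𝒜 f deg hf hgen (n + l) b hb
    refine (Submodule.span_le.mpr ?_) hspan
    rintro x ⟨e, he, rfl⟩
    obtain ⟨i, hi⟩ := exists_big_exponent deg hdeg n hn e he
    have hdvd : deg i ∣ l := Finset.dvd_lcm (Finset.mem_univ i)
    set c := l / deg i with hc
    have hcl : c * deg i = l := Nat.div_mul_cancel hdvd
    set e' : Fin s → ℕ := fun j => if j = i then e i - c else e j with he'
    have hee' : e = e' + Pi.single i c := by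
      funext j
      by_cases hj : j = i
      · subst hj; simp [he']; omega
      · simp [he', hj]
    have hwt : wt deg e' = n := by
      have := wt_add_single deg e' i c
      rw [← hee', he, hcl] at this
      omega
    rw [hee', mono_add_single]
    apply Submodule.mul_mem_mul
    · exact hwt ▸ mono_mem 𝒜 f deg hf e'
    · have := SetLike.pow_mem_graded c (hf i)
      rwa [smul_eq_mul, hcl] at this
  · rw [Submodule.mul_le]
    intro x hx y hy
    exact SetLike.mul_mem_graded hx hy

end Groth.Agent.S13164
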