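import Groth.Statements.S13165
import Mathlib
import Groth.Agent.S13164

set_option autoImplicit false
universe u
open ZeroCyc

namespace Groth.Agent.S13165

section helpers

variable {R A : Type u} [CommRing R] [CommRing A] [Algebra R A] (𝒜 : ℕ → Submodule R A) [GradedAlgebra 𝒜]

theorem pow_le_graded (j t : ℕ) : (𝒜 j) ^ t ≤ 𝒜 (t * j) := by
  induction t with
  | zero =>
    rw [pow_zero, zero_mul, Submodule.one_le]
    exact SetLike.GradedOne.one_mem
  | succ t ih =>
    rw [pow_succ, Submodule.mul_le]
    intro x hx y hy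
    have := SetLike.mul_mem_graded (ih hx) hy
    convert this using 2
    ring

theorem split_off {s : ℕ} (f : Fin s → A) (deg : Fin s → ℕ) (hdeg : ∀ i, 0 < deg i)
    (hf : ∀ i, f i ∈ 𝒜 (deg i)) (hgen : Algebra.adjoin R (Set.range f) = ⊤) (n : ℕ)
    (hn : (s - 1) * (Finset.univ.lcm deg - 1) ≤ n) (t : ℕ) :
    𝒜 (n + t * Finset.univ.lcm deg) ≤ 𝒜 n * (𝒜 (Finset.univ.lcm deg)) ^ t := by
  induction t with
  | zero => simp
  | succ t ih =>
    have h1 : n + (t + 1) * Finset.univ.lcm deg = (n + t * Finset.univ.lcm deg) + Finset.univ.lcm deg := by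
      ring
    rw [h1, Groth.Agent.S13164.result 𝒜 f deg hdeg hf hgen (n + t * Finset.univ.lcm deg)
      (le_trans hn (Nat.le_add_right _ _)), pow_succ, ← mul_assoc]
    exact mul_le_mul' ih le_rfl

end helpers

/-- Let B be a graded R-algebra generated by homogeneous elements f_1, …, f_s of positive degrees d_1,
…, d_s, let l be the least common multiple of the d_i and n = a l with a ≥ s − 1. Then B_{kn} =
(B_n)^k for every k ≥ 0. -/
theorem result {R A : Type u} [CommRing R] [CommRing A] [Algebra R A] (𝒜 : ℕ → Submodule R A) [GradedAlgebra 𝒜]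
    {s : ℕ} (f : Fin s → A) (deg : Fin s → ℕ) (hdeg : ∀ i, 0 < deg i) (hf : ∀ i, f i ∈ 𝒜 (deg i))
    (hgen : Algebra.adjoin R (Set.range f) = ⊤) (a : ℕ) (ha : s - 1 ≤ a) (k : ℕ) :
    𝒜 (k * (a * Finset.univ.lcm deg)) = 𝒜 (a * Finset.univ.lcm deg) ^ k := by
  classical
  set l := Finset.univ.lcm deg with hl
  set m := a * l with hm
  have hmbig : (s - 1) * (l - 1) ≤ m := by
    exact Nat.mul_le_mul ha (Nat.sub_le _ _)
  induction k with
  | zero =>
    rw [zero_mul, pow_zero]
    apply le_antisymm
    · intro b hb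
      have hspan := Groth.Agent.S13164.mem_span_mono 𝒜 f deg hf hgen 0 b hb
      refine (Submodule.span_le.mpr ?_) hspan
      rintro x ⟨e, he, rfl⟩
      have he0 : e = 0 := by
        funext i
        unfold Groth.Agent.S13164.wt at he
        have := (Finset.sum_eq_zero_iff.mp he) i (Finset.mem_univ i)
        have hd := hdeg i
        rcases Nat.eq_zero_or_pos (e i) with h | h
        · exact h
        · have := Nat.mul_pos h hd; omega
      rw [he0]
      simp [Groth.Agent.S13164.mono, Submodule.one_le.mp le_rfl]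
    · rw [Submodule.one_le]
      exact SetLike.GradedOne.one_mem
  | succ k ih =>
    rw [pow_succ, ← ih]
    apply le_antisymm
    · have h1 : (k + 1) * m = m + (k * a) * l := by rw [hm]; ring
      rw [h1]
      refine le_trans (split_off 𝒜 f deg hdeg hf hgen m hmbig (k * a)) ?_
      rw [mul_comm (𝒜 (k * m))]
      refine mul_le_mul' le_rfl ?_
      have := pow_le_graded 𝒜 l (k * a)
      have h2 : k * a * l = k * m := by rw [hm]; ring
      rwa [h2] at this
    · rw [Submodule.mul_le]
      intro x hx y hy
      have := SetLike.mul_mem_graded hx hy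
      convert this using 2
      ring

end Groth.Agent.S13165
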