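import Groth.Statements.S13166
import Mathlib

set_option autoImplicit false
universe u
open ZeroCyc

namespace Groth.Agent.S13166

theorem exists_forall_notMem_of_card_le {ι : Type} {K : Type u} {M : Type u} [Field K] [AddCommGroup M]
    [Module K M] (p : ι → Submodule K M) (s : Finset ι) :
    (∀ i ∈ s, p i ≠ ⊤) → ((s.card : ℕ) : Cardinal.{u}) ≤ Cardinal.mk K → ∃ x : M, ∀ i ∈ s, x ∉ p i := by
  classical
  induction s using Finset.induction_on with
  | empty => intro _ _; exact ⟨0, by simp⟩
  | insert j s hj ih =>
    intro h₁ h₂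
    rw [Finset.card_insert_of_notMem hj] at h₂
    have h₂' : ((s.card : ℕ) : Cardinal.{u}) ≤ Cardinal.mk K := by
      refine le_trans ?_ h₂
      exact_mod_cast Nat.le_succ _
    obtain ⟨x, hx⟩ := ih (fun i hi => h₁ i (Finset.mem_insert_of_mem hi)) h₂'
    by_cases hxj : x ∉ p j
    · refine ⟨x, ?_⟩
      intro i hi
      rcases Finset.mem_insert.mp hi with rfl | hi'
      · exact hxj
      · exact hx i hi'
    · rw [not_not] at hxj
      obtain ⟨y, hy⟩ : ∃ y, y ∉ p j := by
        by_contra hcon
        push Not at hcon
        exact h₁ j (Finset.mem_insert_self j s) (eq_top_iff.mpr fun z _ => hcon z)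
      have hzj : ∀ t : K, y + t • x ∉ p j := by
        intro t ht
        exact hy ((Submodule.add_mem_iff_left _ (Submodule.smul_mem _ t hxj)).mp ht)
      by_contra hcon
      push Not at hcon
      have hex : ∀ t : K, ∃ i ∈ s, y + t • x ∈ p i := by
        intro t
        obtain ⟨i, hi, hmem⟩ := hcon (y + t • x)
        rcases Finset.mem_insert.mp hi with rfl | hi'
        · exact absurd hmem (hzj t)
        · exact ⟨i, hi', hmem⟩
      choose ind hind hmem using hex
      let F : K → s := fun t => ⟨ind t, hind t⟩
      have hFinj : Function.Injective F := by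
        intro t t' htt'
        by_contra hne
        have hi : ind t = ind t' := congrArg Subtype.val htt'
        have h1 : y + t • x ∈ p (ind t) := hmem t
        have h2 : y + t' • x ∈ p (ind t) := hi ▸ hmem t'
        have h3 : (t - t') • x ∈ p (ind t) := by
          have := Submodule.sub_mem _ h1 h2
          convert this using 1
          module
        have h4 : x ∈ p (ind t) := (Submodule.smul_mem_iff _ (sub_ne_zero.mpr hne)).mp h3
        exact hx _ (hind t) h4
      have hcard := Cardinal.lift_mk_le_lift_mk_of_injective hFinj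
      rw [Cardinal.mk_coe_finset, Cardinal.lift_natCast] at hcard
      have h5 : Cardinal.lift.{0} (((s.card + 1 : ℕ)) : Cardinal.{u}) ≤ Cardinal.lift.{0} (Cardinal.mk K) :=
        Cardinal.lift_le.mpr h₂
      have h6 := le_trans h5 hcard
      rw [Cardinal.lift_natCast] at h6
      have h7 : s.card + 1 ≤ s.card := by exact_mod_cast h6
      omega

/-- Let k be a field, B a k-algebra generated as an algebra by a k-subspace V, k'/k a field extension
and x_1, …, x_d pairwise distinct k'-points of B ⊗_k k' (equivalently, distinct k-algebra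
homomorphisms B → k'). If k has at least d(d − 1)/2 elements, then there is b ∈ V whose values at
x_1, …, x_d are pairwise distinct. -/
theorem result {k : Type u} [Field k] {B : Type u} [CommRing B] [Algebra k B] (V : Submodule k B)
    (hV : Algebra.adjoin k (V : Set B) = ⊤) {k' : Type u} [Field k'] [Algebra k k']
    {d : ℕ} (x : Fin d → (B →ₐ[k] k')) (hx : Function.Injective x)
    (hk : ((d.choose 2 : ℕ) : Cardinal) ≤ Cardinal.mk k) :
    ∃ b ∈ V, Function.Injective fun i => x i b := by
  classical
  let ℓ : Fin d → (V →ₗ[k] k') := fun i => (x i).toLinearMap.comp V.subtype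
  let p : Finset (Fin d) → Submodule k V := fun t =>
    ⨅ i ∈ t, ⨅ j ∈ t, LinearMap.ker (ℓ i - ℓ j)
  let S : Finset (Finset (Fin d)) := Finset.powersetCard 2 Finset.univ
  have hScard : S.card = d.choose 2 := by
    rw [Finset.card_powersetCard, Finset.card_univ, Fintype.card_fin]
  have hproper : ∀ t ∈ S, p t ≠ ⊤ := by
    intro t ht htop
    rw [Finset.mem_powersetCard] at ht
    obtain ⟨i, j, hij, rfl⟩ := Finset.card_eq_two.mp ht.2
    apply hij
    apply hx
    apply AlgHom.ext_of_adjoin_eq_top hV
    intro b hb
    have hmem : (⟨b, hb⟩ : V) ∈ p {i, j} := by rw [htop]; trivial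
    simp only [p, Submodule.mem_iInf] at hmem
    have := hmem i (by simp) j (by simp)
    rw [LinearMap.mem_ker, LinearMap.sub_apply, sub_eq_zero] at this
    exact this
  obtain ⟨b, hb⟩ := exists_forall_notMem_of_card_le p S hproper (by rw [hScard]; exact hk)
  refine ⟨b.1, b.2, ?_⟩
  intro i j hij
  by_contra hne
  have hmemS : ({i, j} : Finset (Fin d)) ∈ S := by
    rw [Finset.mem_powersetCard]
    exact ⟨Finset.subset_univ _, Finset.card_pair hne⟩
  apply hb _ hmemS
  simp only [p, Submodule.mem_iInf]
  intro i' hi' j' hj'
  rw [LinearMap.mem_ker, LinearMap.sub_apply, sub_eq_zero]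
  have hij' : x i b.1 = x j b.1 := hij
  rcases Finset.mem_insert.mp hi' with rfl | hi'
  · rcases Finset.mem_insert.mp hj' with rfl | hj'
    · rfl
    · rw [Finset.mem_singleton] at hj'; subst hj'; exact hij'
  · rw [Finset.mem_singleton] at hi'; subst hi'
    rcases Finset.mem_insert.mp hj' with rfl | hj'
    · exact hij'.symm
    · rw [Finset.mem_singleton] at hj'; subst hj'; rfl

end Groth.Agent.S13166
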