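import Groth.Statements.S13167
import Mathlib

set_option autoImplicit false
universe u
open AlgebraicGeometry
open ZeroCyc

namespace Groth.Agent.S13167

section helpers

variable {R A : Type u} [CommRing R] [CommRing A] [Algebra R A] (𝒜 : ℕ → Submodule R A) [GradedAlgebra 𝒜]

theorem card_quotient_ge (p : Ideal R) [p.IsPrime] (d : ℕ)
    (hcard : (d : Cardinal) ≤ Cardinal.mk p.ResidueField) : (d : Cardinal) ≤ Cardinal.mk (R ⧸ p) := by
  rcases finite_or_infinite (R ⧸ p) with hfin | hinf
  · have hfield : IsField (R ⧸ p) := Finite.isField_of_domain (R ⧸ p)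
    have hmax : p.IsMaximal := Ideal.Quotient.maximal_of_isField p hfield
    have hbij := Ideal.bijective_algebraMap_quotient_residueField p
    have : Cardinal.mk (R ⧸ p) = Cardinal.mk p.ResidueField :=
      Cardinal.mk_congr (Equiv.ofBijective _ hbij)
    rw [this]; exact hcard
  · exact le_trans (le_of_lt (Cardinal.natCast_lt_aleph0 (n := d))) (Cardinal.aleph0_le_mk (R ⧸ p))

theorem exists_degOne_notMem (hgen : Algebra.adjoin R (𝒜 1 : Set A) = ⊤) (y : Proj 𝒜) :
    ∃ z ∈ 𝒜 1, z ∉ y.asHomogeneousIdeal := by
  classical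
  have hgen0 : Algebra.adjoin (𝒜 0) (Set.range fun g : 𝒜 1 => (g : A)) = ⊤ := by
    rw [eq_top_iff]
    intro a hatop
    clear hatop
    have ha : a ∈ Algebra.adjoin R (𝒜 1 : Set A) := by rw [hgen]; trivial
    induction ha using Algebra.adjoin_induction with
    | mem b hb => exact Algebra.subset_adjoin ⟨⟨b, hb⟩, rfl⟩
    | algebraMap r =>
      have h0 : algebraMap R A r ∈ 𝒜 0 := SetLike.algebraMap_mem_graded 𝒜 r
      exact Subalgebra.algebraMap_mem (Algebra.adjoin (𝒜 0) _) ⟨algebraMap R A r, h0⟩
    | add b c _ _ hb hc => exact add_mem hb hc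
    | mul b c _ _ hb hc => exact mul_mem hb hc
  have hcover := Proj.iSup_basicOpen_eq_top' 𝒜 (fun g : 𝒜 1 => (g : A)) (fun g => ⟨1, g.2⟩) hgen0
  have hy : y ∈ (⊤ : (Proj 𝒜).Opens) := trivial
  rw [← hcover, TopologicalSpace.Opens.mem_iSup] at hy
  obtain ⟨g, hg⟩ := hy
  exact ⟨g.1, g.2, (Proj.mem_basicOpen 𝒜 _ _).mp hg⟩

theorem avoid (hgen : Algebra.adjoin R (𝒜 1 : Set A) = ⊤) (p : Ideal R) [p.IsPrime]
    (s : Finset (Proj 𝒜)) :
    (∀ y ∈ s, (y.asHomogeneousIdeal.toIdeal).comap (algebraMap R A) = p) →
    ((s.card : ℕ) : Cardinal) ≤ Cardinal.mk (R ⧸ p) →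
    ∃ g ∈ 𝒜 1, ∀ y ∈ s, g ∉ y.asHomogeneousIdeal := by
  classical
  induction s using Finset.induction_on with
  | empty => intro _ _; exact ⟨0, zero_mem _, by simp⟩
  | insert y s hy ih =>
    intro hover hcard
    rw [Finset.card_insert_of_notMem hy] at hcard
    have hcard' : ((s.card : ℕ) : Cardinal) ≤ Cardinal.mk (R ⧸ p) := by
      refine le_trans ?_ hcard
      exact_mod_cast Nat.le_succ _
    obtain ⟨g, hg1, hg⟩ := ih (fun y' hy' => hover y' (Finset.mem_insert_of_mem hy')) hcard'
    by_cases hgy : g ∉ y.asHomogeneousIdeal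
    · refine ⟨g, hg1, ?_⟩
      intro y' hy'
      rcases Finset.mem_insert.mp hy' with rfl | h
      · exact hgy
      · exact hg y' h
    · rw [not_not] at hgy
      obtain ⟨z, hz1, hz⟩ := exists_degOne_notMem 𝒜 hgen y
      have hzy : ∀ t : R, z + t • g ∉ y.asHomogeneousIdeal := by
        intro t ht
        apply hz
        have h2 : t • g ∈ y.asHomogeneousIdeal.toIdeal := by
          rw [Algebra.smul_def]
          exact Ideal.mul_mem_left _ _ hgy
        exact (Ideal.add_mem_iff_left _ h2).mp ht
      by_contra hcon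
      push Not at hcon
      have hex : ∀ t : R, ∃ y' ∈ s, z + t • g ∈ y'.asHomogeneousIdeal := by
        intro t
        obtain ⟨y', hy', hmem⟩ := hcon (z + t • g)
          (Submodule.add_mem _ hz1 (Submodule.smul_mem _ t hg1))
        rcases Finset.mem_insert.mp hy' with rfl | h
        · exact absurd hmem (hzy t)
        · exact ⟨y', h, hmem⟩
      choose ind hind hmem using hex
      let F : (R ⧸ p) → s := fun c => ⟨ind (Quotient.out c), hind _⟩
      have hFinj : Function.Injective F := by
        intro c c' hcc'
        have hi : ind (Quotient.out c) = ind (Quotient.out c') := congrArg Subtype.val hcc'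
        set y' := ind (Quotient.out c) with hy'def
        have h1 : z + (Quotient.out c) • g ∈ y'.asHomogeneousIdeal.toIdeal := hmem _
        have h2 : z + (Quotient.out c') • g ∈ y'.asHomogeneousIdeal.toIdeal := hi ▸ hmem _
        have h3 : algebraMap R A (Quotient.out c - Quotient.out c') * g ∈
            y'.asHomogeneousIdeal.toIdeal := by
          have := Ideal.sub_mem _ h1 h2
          convert this using 1
          rw [Algebra.smul_def, Algebra.smul_def, map_sub]
          ring
        have hprime : y'.asHomogeneousIdeal.toIdeal.IsPrime := y'.isPrime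
        have hgy' : g ∉ y'.asHomogeneousIdeal.toIdeal := hg y' (hind _)
        have h4 : algebraMap R A (Quotient.out c - Quotient.out c') ∈
            y'.asHomogeneousIdeal.toIdeal := (hprime.mem_or_mem h3).resolve_right hgy'
        have hp := hover y' (Finset.mem_insert_of_mem (hind _))
        have h5 : Quotient.out c - Quotient.out c' ∈ p := by
          have h4' : Quotient.out c - Quotient.out c' ∈
              Ideal.comap (algebraMap R A) y'.asHomogeneousIdeal.toIdeal := h4
          rw [hp] at h4'
          exact h4'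
        have h6 : Ideal.Quotient.mk p (Quotient.out c) = Ideal.Quotient.mk p (Quotient.out c') :=
          (Ideal.Quotient.eq).mpr h5
        have e1 : Ideal.Quotient.mk p (Quotient.out c) = c := Quotient.out_eq c
        have e2 : Ideal.Quotient.mk p (Quotient.out c') = c' := Quotient.out_eq c'
        rw [e1, e2] at h6
        exact h6
      have hcardF := Cardinal.mk_le_of_injective hFinj
      rw [Cardinal.mk_coe_finset] at hcardF
      have h7 := le_trans hcard hcardF
      have h8 : s.card + 1 ≤ s.card := by exact_mod_cast h7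
      omega

end helpers

/-- Let B be a graded R-algebra generated by its degree-one part B_1, with B_1 a finitely generated
R-module, and let x_1, …, x_d be points of X = Proj B lying over one and the same prime p of R. If
the residue field of p has at least d elements, then some f ∈ B_1 ⊆ Γ(X, O_X(1)) has all the x_i in
D_+(f). (Without the hypothesis on the residue field such an f exists in some B_n with n ≥ 1; that
first assertion is a known property of ample sheaves and is not restated here.) -/
theorem result {R A : Type u} [CommRing R] [CommRing A] [Algebra R A] (𝒜 : ℕ → Submodule R A) [GradedAlgebra 𝒜]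
    (hgen : Algebra.adjoin R (𝒜 1 : Set A) = ⊤) (hfg : (𝒜 1).FG)
    (p : Ideal R) [p.IsPrime] {d : ℕ} (x : Fin d → Proj 𝒜)
    (hx : ∀ i, ((x i).asHomogeneousIdeal.toIdeal).comap (algebraMap R A) = p)
    (hcard : (d : Cardinal) ≤ Cardinal.mk p.ResidueField) :
    ∃ g ∈ 𝒜 1, ∀ i, x i ∈ Proj.basicOpen 𝒜 g := by
  classical
  have hq := card_quotient_ge p d hcard
  let s : Finset (Proj 𝒜) := Finset.univ.image x
  have hs : ((s.card : ℕ) : Cardinal) ≤ Cardinal.mk (R ⧸ p) := by
    refine le_trans ?_ hq
    have : s.card ≤ d := by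
      have := Finset.card_image_le (s := (Finset.univ : Finset (Fin d))) (f := x)
      simpa using this
    exact_mod_cast this
  obtain ⟨g, hg1, hg⟩ := avoid 𝒜 hgen p s (by
    intro y hy
    obtain ⟨i, -, rfl⟩ := Finset.mem_image.mp hy
    exact hx i) hs
  refine ⟨g, hg1, fun i => ?_⟩
  rw [Proj.mem_basicOpen]
  exact hg (x i) (Finset.mem_image_of_mem x (Finset.mem_univ i))

end Groth.Agent.S13167
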