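import Groth.Statements.S13168
import Mathlib

set_option autoImplicit false
universe u
open AlgebraicGeometry
open ZeroCyc

namespace Groth.Agent.S13168

/-- Let B be a graded R-algebra generated by homogeneous elements f_1, …, f_s of positive degrees d_1,
…, d_s, let l be the least common multiple of the d_i and X = Proj B. For n = a l with a ≥ 1, X is
the union of the opens D_+(g), g ∈ B_n. -/
theorem result {R A : Type u} [CommRing R] [CommRing A] [Algebra R A] (𝒜 : ℕ → Submodule R A) [GradedAlgebra 𝒜]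
    {s : ℕ} (f : Fin s → A) (deg : Fin s → ℕ) (hdeg : ∀ i, 0 < deg i) (hf : ∀ i, f i ∈ 𝒜 (deg i))
    (hgen : Algebra.adjoin R (Set.range f) = ⊤) (a : ℕ) (ha : 0 < a) :
    (⨆ g : 𝒜 (a * Finset.univ.lcm deg), Proj.basicOpen 𝒜 (g : A)) = ⊤ := by
  classical
  have hgen0 : Algebra.adjoin (𝒜 0) (Set.range f) = ⊤ := by
    rw [eq_top_iff]
    intro x hxtop
    clear hxtop
    have hx : x ∈ Algebra.adjoin R (Set.range f) := by rw [hgen]; trivial
    induction hx using Algebra.adjoin_induction with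
    | mem y hy => exact Algebra.subset_adjoin hy
    | algebraMap r =>
      have h0 : algebraMap R A r ∈ 𝒜 0 := SetLike.algebraMap_mem_graded 𝒜 r
      exact Subalgebra.algebraMap_mem (Algebra.adjoin (𝒜 0) (Set.range f)) ⟨algebraMap R A r, h0⟩
    | add y z _ _ hy hz => exact add_mem hy hz
    | mul y z _ _ hy hz => exact mul_mem hy hz
  have hcover := Proj.iSup_basicOpen_eq_top' 𝒜 f (fun i => ⟨deg i, hf i⟩) hgen0
  rw [eq_top_iff, ← hcover]
  apply iSup_le
  intro i
  set l := Finset.univ.lcm deg with hl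
  have hdvd : deg i ∣ l := Finset.dvd_lcm (Finset.mem_univ i)
  obtain ⟨c, hc⟩ := hdvd
  have hlpos : 0 < l := by
    rw [Nat.pos_iff_ne_zero, hl, Ne, Finset.lcm_eq_zero_iff]
    rintro ⟨j, _, hj⟩
    exact (hdeg j).ne' hj
  have hcpos : 0 < c := by
    rcases Nat.eq_zero_or_pos c with h | h
    · rw [h, mul_zero] at hc; omega
    · exact h
  have hmem : f i ^ (a * c) ∈ 𝒜 (a * l) := by
    have := SetLike.pow_mem_graded (a * c) (hf i)
    convert this using 2
    rw [hc, smul_eq_mul]; ring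
  have hk : 0 < a * c := Nat.mul_pos ha hcpos
  calc Proj.basicOpen 𝒜 (f i) = Proj.basicOpen 𝒜 (f i ^ (a * c)) :=
        (Proj.basicOpen_pow 𝒜 (f i) (a * c) hk).symm
    _ ≤ ⨆ g : 𝒜 (a * l), Proj.basicOpen 𝒜 (g : A) :=
        le_iSup (fun g : 𝒜 (a * l) => Proj.basicOpen 𝒜 (g : A)) ⟨f i ^ (a * c), hmem⟩

end Groth.Agent.S13168
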