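import Groth.Statements.S13172
import Groth.Agent.Lib.Helper60.Twist
import Groth.Agent.Lib.Lead.QCohAff2

set_option autoImplicit false
universe u
open AlgebraicGeometry
open ZeroCyc

namespace Groth.Agent.S13172


section aux

open CategoryTheory Opposite TopologicalSpace Groth.Agent.Lib.Helper60.TwistLib Groth.Agent.Lib.Lead.QCohAff

variable {R A : Type u} [CommRing R] [CommRing A] [Algebra R A] (𝒜 : ℕ → Submodule R A) [GradedAlgebra 𝒜]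

/-- If `b ∈ 𝒜 n` does not vanish at `x`, the germ of the global section `b/1` generates the stalk of `O(n)` at `x`. -/
lemma gen_at (n : ℕ) (b : 𝒜 n) (x : Proj 𝒜) (hb : b.1 ∉ x.asHomogeneousIdeal)
    (t : (Twist.twist 𝒜 (n : ℤ)).presheaf.stalk x) :
    ∃ c : (Proj 𝒜).presheaf.stalk x,
      t = c • ((Twist.twist 𝒜 (n : ℤ)).presheaf.germ ⊤ x trivial).hom
        (Twist.globalOf 𝒜 b : ProjUP.Γm (Twist.twist 𝒜 (n : ℤ))) := by
  obtain ⟨W, hxW, σ, rfl⟩ := TopCat.Presheaf.exists_germ_eq (Twist.twist 𝒜 (n : ℤ)).presheaf t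
  let W' : (Proj 𝒜).Opens := W ⊓ Proj.basicOpen 𝒜 b.1
  have hxW' : x ∈ W' := ⟨hxW, hb⟩
  have hW'W : W' ≤ W := inf_le_left
  have hone : ∀ y ∈ W', (1 : A) ∉ y.asHomogeneousIdeal := fun y _ h =>
    y.isPrime.ne_top ((Ideal.eq_top_iff_one _).mpr h)
  have hbW' : ∀ y ∈ W', b.1 ∉ y.asHomogeneousIdeal := fun y hy => hy.2
  have hij : ((n : ℕ) : ℤ) = ((0 : ℕ) : ℤ) + (n : ℤ) := by simp
  have hbij := genSec_bijective (𝒜 := 𝒜) (n : ℤ) b (⟨1, SetLike.GradedOne.one_mem⟩ : 𝒜 0) hij W' hbW' hone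
  let σ' : Twist.sectN (𝒜 := 𝒜) (n : ℤ) (op W') :=
    (Twist.twist 𝒜 (n : ℤ)).presheaf.map (homOfLE hW'W).op σ
  obtain ⟨c, hc⟩ := hbij.2 σ'
  refine ⟨(Proj 𝒜).presheaf.germ W' x hxW' c, ?_⟩
  have h1 : (Twist.twist 𝒜 (n : ℤ)).presheaf.germ W x hxW σ =
      (Twist.twist 𝒜 (n : ℤ)).presheaf.germ W' x hxW' σ' :=
    (germ_res (Twist.twist 𝒜 (n : ℤ)) hW'W x hxW' σ).symm
  have h2 : (Twist.twist 𝒜 (n : ℤ)).presheaf.germ ⊤ x trivial
      (Twist.globalOf 𝒜 b : ProjUP.Γm (Twist.twist 𝒜 (n : ℤ))) =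
      (Twist.twist 𝒜 (n : ℤ)).presheaf.germ W' x hxW'
        ((Twist.twist 𝒜 (n : ℤ)).presheaf.map (homOfLE (le_top : W' ≤ ⊤)).op
          (Twist.globalOf 𝒜 b : ProjUP.Γm (Twist.twist 𝒜 (n : ℤ)))) :=
    (germ_res (Twist.twist 𝒜 (n : ℤ)) (le_top : W' ≤ ⊤) x hxW' _).symm
  have h3 : (Twist.twist 𝒜 (n : ℤ)).presheaf.map (homOfLE (le_top : W' ≤ ⊤)).op
      (Twist.globalOf 𝒜 b : ProjUP.Γm (Twist.twist 𝒜 (n : ℤ))) =
      genSec (n : ℤ) b (⟨1, SetLike.GradedOne.one_mem⟩ : 𝒜 0) hij W' hone := rfl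
  change (Twist.twist 𝒜 (n : ℤ)).presheaf.germ W x hxW σ = _ • (Twist.twist 𝒜 (n : ℤ)).presheaf.germ ⊤ x trivial _
  rw [h1, h2, h3, ← hc]
  exact germ_smul (Twist.twist 𝒜 (n : ℤ)) W' x hxW' c _

lemma generatedBy_of_forall_exists (n : ℕ)
    (h : ∀ x : Proj 𝒜, ∃ b : 𝒜 n, b.1 ∉ x.asHomogeneousIdeal) :
    ProjUP.GeneratedBy (Twist.twist 𝒜 (n : ℤ))
      (fun b : 𝒜 n => (Twist.globalOf 𝒜 b : ProjUP.Γm (Twist.twist 𝒜 (n : ℤ)))) := by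
  intro x
  rw [eq_top_iff]
  rintro t -
  obtain ⟨b, hb⟩ := h x
  obtain ⟨c, rfl⟩ := gen_at 𝒜 n b x hb t
  exact Submodule.smul_mem _ _ (Submodule.subset_span ⟨b, rfl⟩)

end aux

/-- Let B be a graded R-algebra generated by elements of degree at most d (no finiteness assumed) such
that X = Proj B is covered by the opens D_+(g), g ∈ B_1. Then for every n ≥ 1, O_X(n) is generated
by its global sections b/1, b ∈ B_n. -/
theorem result {R A : Type u} [CommRing R] [CommRing A] [Algebra R A] (𝒜 : ℕ → Submodule R A) [GradedAlgebra 𝒜]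
    (d : ℕ) (hgen : Algebra.adjoin R (⋃ i ∈ Finset.range (d + 1), (𝒜 i : Set A)) = ⊤)
    (hcov : (⨆ g : 𝒜 1, Proj.basicOpen 𝒜 (g : A)) = ⊤) (n : ℕ) (hn : 0 < n) :
    ProjUP.GeneratedBy (Twist.twist 𝒜 (n : ℤ))
      (fun b : 𝒜 n => (Twist.globalOf 𝒜 b : ProjUP.Γm (Twist.twist 𝒜 (n : ℤ)))) := by
  apply generatedBy_of_forall_exists
  intro x
  have hx : x ∈ (⨆ g : 𝒜 1, Proj.basicOpen 𝒜 (g : A)) := by rw [hcov]; trivial
  obtain ⟨g, hg⟩ := TopologicalSpace.Opens.mem_iSup.1 hx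
  have hg' : g.1 ∉ x.asHomogeneousIdeal := hg
  have hmem : g.1 ^ n ∈ 𝒜 n := by
    have := SetLike.pow_mem_graded n g.2
    simpa using this
  refine ⟨⟨g.1 ^ n, hmem⟩, fun h => hg' ?_⟩
  exact x.isPrime.mem_of_pow_mem n h

end Groth.Agent.S13172
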