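import Groth.Statements.S13169
import Mathlib
import Groth.Agent.Lib.Helper60.TwistExtra
import Groth.Agent.S13172
-- import your own Groth.Agent.* helpers here

set_option autoImplicit false
universe u
open AlgebraicGeometry
open ZeroCyc

namespace Groth.Agent.S13169

open CategoryTheory CategoryTheory.Limits


/-- Let B be a graded R-algebra generated by homogeneous elements f_1, …, f_s of positive degrees d_1,
…, d_s, let l be the least common multiple of the d_i and X = Proj B. For n = a l with a ≥ 1, the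
twisting sheaf O_X(n) is ample and is generated by its global sections b/1, b ∈ B_n. -/
theorem result {R A : Type u} [CommRing R] [CommRing A] [Algebra R A] (𝒜 : ℕ → Submodule R A) [GradedAlgebra 𝒜]
    {s : ℕ} (f : Fin s → A) (deg : Fin s → ℕ) (hdeg : ∀ i, 0 < deg i) (hf : ∀ i, f i ∈ 𝒜 (deg i))
    (hgen : Algebra.adjoin R (Set.range f) = ⊤) (a : ℕ) (ha : 0 < a) :
    CohB1.IsAmple (Twist.twist 𝒜 ((a * Finset.univ.lcm deg : ℕ) : ℤ)) ∧
      ProjUP.GeneratedBy (Twist.twist 𝒜 ((a * Finset.univ.lcm deg : ℕ) : ℤ))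
        (fun b : 𝒜 (a * Finset.univ.lcm deg) =>
          (Twist.globalOf 𝒜 b : ProjUP.Γm (Twist.twist 𝒜 ((a * Finset.univ.lcm deg : ℕ) : ℤ)))) := by
  classical
  have hdvd : ∀ i, deg i ∣ Finset.univ.lcm deg := fun i => Finset.dvd_lcm (Finset.mem_univ i)
  have hl0 : Finset.univ.lcm deg ≠ 0 := by
    intro h0
    rw [Finset.lcm_eq_zero_iff] at h0
    obtain ⟨i, -, hi⟩ := h0
    exact (hdeg i).ne' hi
  have hq : ∀ i, 0 < Finset.univ.lcm deg / deg i := fun i =>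
    Nat.div_pos (Nat.le_of_dvd (Nat.pos_of_ne_zero hl0) (hdvd i)) (hdeg i)
  have hex : ∀ x : ProjectiveSpectrum 𝒜, ∃ i, f i ∉ x.asHomogeneousIdeal :=
    Groth.Agent.Lib.Helper60.TwistLib.exists_notMem_of_adjoin_eq_top 𝒜 f hgen
  have hpow : ∀ i, f i ^ (a * (Finset.univ.lcm deg / deg i)) ∈ 𝒜 (a * Finset.univ.lcm deg) := by
    intro i
    have := SetLike.pow_mem_graded (a * (Finset.univ.lcm deg / deg i)) (hf i)
    rwa [smul_eq_mul, mul_assoc, Nat.div_mul_cancel (hdvd i)] at this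
  have hpos : ∀ i, 0 < a * (Finset.univ.lcm deg / deg i) := fun i => Nat.mul_pos ha (hq i)
  refine ⟨⟨?_, ?_, ?_⟩, ?_⟩
  · -- invertible
    intro y
    obtain ⟨i₀, hi₀⟩ := hex y
    refine ⟨Proj.basicOpen 𝒜 (f i₀), hi₀, ?_⟩
    exact Groth.Agent.Lib.Helper60.TwistLib.twist_restrict_iso 𝒜 (Proj.basicOpen 𝒜 (f i₀)).ι
      ((a * Finset.univ.lcm deg : ℕ) : ℤ) (⟨_, hpow i₀⟩ : 𝒜 (a * Finset.univ.lcm deg))
      (⟨1, SetLike.GradedOne.one_mem⟩ : 𝒜 0) (by simp)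
      (fun z h' => (Proj.mem_basicOpen 𝒜 (f i₀) z.1).mp z.2 (z.1.isPrime.mem_of_pow_mem _ h'))
      (fun z => Groth.Agent.Lib.Helper60.TwistLib.one_notMem 𝒜 z.1)
  · -- quasi-compact
    have hcov : ⨆ i, Proj.basicOpen 𝒜 (f i) = ⊤ := by
      rw [eq_top_iff]
      intro x _
      obtain ⟨i, hi⟩ := hex x
      exact TopologicalSpace.Opens.mem_iSup.mpr ⟨i, hi⟩
    refine ⟨?_⟩
    have h1 : (Set.univ : Set (Proj 𝒜)) = ⋃ i, (Proj.basicOpen 𝒜 (f i) : Set (Proj 𝒜)) := by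
      rw [← TopologicalSpace.Opens.coe_iSup, hcov]; rfl
    rw [h1]
    exact isCompact_iUnion (fun i =>
      (Proj.isAffineOpen_basicOpen 𝒜 (f i) (hf i) (hdeg i)).isCompact)
  · intro x
    obtain ⟨i₀, hi₀⟩ := hex x
    obtain ⟨e⟩ := Groth.Agent.Lib.Helper60.TensorLib.nonempty_tensorMod_unit_left
      (Twist.twist 𝒜 ((a * Finset.univ.lcm deg : ℕ) : ℤ))
    let φ : Coh.structureModule (Proj 𝒜) ⟶ Twist.twist 𝒜 ((a * Finset.univ.lcm deg : ℕ) : ℤ) :=
      Groth.Agent.Lib.Helper60.TwistLib.numHom 𝒜 (⟨_, hpow i₀⟩ : 𝒜 (a * Finset.univ.lcm deg))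
    have hbo : Proj.basicOpen 𝒜 (f i₀ ^ (a * (Finset.univ.lcm deg / deg i₀))) =
        Proj.basicOpen 𝒜 (f i₀) := Proj.basicOpen_pow 𝒜 (f i₀) _ (hpos i₀)
    have key : CohB1.genLocus (CohB1.tensorPow
        (Twist.twist 𝒜 ((a * Finset.univ.lcm deg : ℕ) : ℤ)) (0 + 1)) (φ ≫ e.inv) =
        Proj.basicOpen 𝒜 (f i₀) := by
      have hiff : ∀ U : (Proj 𝒜).Opens,
          IsIso ((Scheme.Modules.restrictFunctor U.ι).map (φ ≫ e.inv)) ↔
            U ≤ Proj.basicOpen 𝒜 (f i₀) := by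
        intro U
        rw [Functor.map_comp, isIso_comp_right_iff, ← hbo]
        refine Groth.Agent.Lib.Helper60.TwistLib.isIso_restrict_numHom_iff 𝒜
          (⟨_, hpow i₀⟩ : 𝒜 (a * Finset.univ.lcm deg)) U ?_
        intro y hy
        obtain ⟨i₁, hi₁⟩ := hex y
        exact ⟨a * Finset.univ.lcm deg, 0, ⟨_, hpow i₁⟩, ⟨1, SetLike.GradedOne.one_mem⟩, by simp,
          fun h' => hi₁ (y.isPrime.mem_of_pow_mem _ h'),
          Groth.Agent.Lib.Helper60.TwistLib.one_notMem 𝒜 y⟩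
      apply le_antisymm
      · exact sSup_le (fun U hU => (hiff U).mp hU)
      · exact le_sSup ((hiff _).mpr le_rfl)
    refine ⟨0, φ ≫ e.inv, ?_, ?_⟩
    · rw [key]; exact hi₀
    · rw [key]; exact Proj.isAffineOpen_basicOpen 𝒜 (f i₀) (hf i₀) (hdeg i₀)
  · apply Groth.Agent.S13172.generatedBy_of_forall_exists
    intro x
    obtain ⟨i₀, hi₀⟩ := hex x
    exact ⟨⟨_, hpow i₀⟩, fun h' => hi₀ (x.isPrime.mem_of_pow_mem _ h')⟩

end Groth.Agent.S13169
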