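import Groth.Statements.S13170
import Mathlib
import Groth.Agent.Lib.Helper60.TwistExtra
-- import your own Groth.Agent.* helpers here

set_option autoImplicit false
universe u
open AlgebraicGeometry CategoryTheory
open ZeroCyc

namespace Groth.Agent.S13170

open CategoryTheory CategoryTheory.Limits


/-- Let B be a graded R-algebra generated by homogeneous elements f_1, …, f_s of positive degrees d_1,
…, d_s, let l be the least common multiple of the d_i and X = Proj B. For all integers a and n,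
O_X(al) ⊗ O_X(n) ≅ O_X(al + n). (The published statement asserts that the canonical multiplication
map is an isomorphism; this row asserts only that an isomorphism exists.) -/
theorem result {R A : Type u} [CommRing R] [CommRing A] [Algebra R A] (𝒜 : ℕ → Submodule R A) [GradedAlgebra 𝒜]
    {s : ℕ} (f : Fin s → A) (deg : Fin s → ℕ) (hdeg : ∀ i, 0 < deg i) (hf : ∀ i, f i ∈ 𝒜 (deg i))
    (hgen : Algebra.adjoin R (Set.range f) = ⊤) (a n : ℤ) :
    Nonempty (CohB1.tensorMod (Twist.twist 𝒜 (a * (Finset.univ.lcm deg : ℕ))) (Twist.twist 𝒜 n) ≅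
      Twist.twist 𝒜 (a * (Finset.univ.lcm deg : ℕ) + n)) := by
  classical
  have hdvd : ∀ i, deg i ∣ Finset.univ.lcm deg := fun i => Finset.dvd_lcm (Finset.mem_univ i)
  obtain ⟨e₁⟩ := Groth.Agent.Lib.Helper60.TensorLib.nonempty_tensorMod_symm
    (Twist.twist 𝒜 (a * (Finset.univ.lcm deg : ℕ))) (Twist.twist 𝒜 n)
  obtain ⟨e₂⟩ := Groth.Agent.Lib.Helper60.TwistLib.tilde_tensor_iso 𝒜 (fun i => 𝒜 i) n
    (a * (Finset.univ.lcm deg : ℕ)) (a * (Finset.univ.lcm deg : ℕ) + n) (by ring) (by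
    intro x
    obtain ⟨i₀, hi₀⟩ := Groth.Agent.Lib.Helper60.TwistLib.exists_notMem_of_adjoin_eq_top 𝒜 f hgen x
    obtain ⟨i, j, g, h, hij, hgh⟩ := Groth.Agent.Lib.Helper60.TwistLib.exists_gens_pow 𝒜
      (⟨f i₀, hf i₀⟩ : 𝒜 (deg i₀)) (a * ((Finset.univ.lcm deg / deg i₀ : ℕ) : ℤ))
    refine ⟨Proj.basicOpen 𝒜 (f i₀), hi₀, i, j, g, h, ?_,
      fun y hy => hgh y ((Proj.mem_basicOpen 𝒜 (f i₀) y).mp hy)⟩
    rw [hij, mul_assoc]
    congr 2
    exact_mod_cast Nat.div_mul_cancel (hdvd i₀))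
  exact ⟨e₁ ≪≫ e₂⟩

end Groth.Agent.S13170
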