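import Groth.Statements.S13171
import Mathlib
import Groth.Agent.Lib.Helper60.Twist
import Groth.Agent.Lib.Helper60.Ver5
import Groth.Agent.Lib.Lead.QCohAff2

set_option autoImplicit false
universe u
open AlgebraicGeometry
open ZeroCyc

namespace Groth.Agent.S13171

section helpers
open AlgebraicGeometry
open ZeroCyc


section comb

open Groth.Agent.Lib.Helper60.Ver

/-- The combinatorial stripping lemma. -/
lemma strip {s : ℕ} (deg : Fin s → ℕ) (hdeg : ∀ i, 0 < deg i) (i0 : Fin s) (α : Fin s → ℕ)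
    (n jj : ℕ) (hn : (s - 1) * (Finset.univ.lcm deg - 1) ≤ n)
    (hα : mdeg deg α = n + deg i0 * jj) :
    ∃ (β γ : Fin s → ℕ) (J : ℕ), α = β + γ ∧ mdeg deg β + J * deg i0 = n ∧
      mdeg deg γ = deg i0 * jj + J * deg i0 := by
  classical
  set l := Finset.univ.lcm deg with hl
  have hl0 : l ≠ 0 := by
    rw [hl, Ne, Finset.lcm_eq_zero_iff]
    rintro ⟨i, -, hi⟩
    exact (hdeg i).ne' hi
  have hdvd : ∀ i, deg i ∣ l := fun i => Finset.dvd_lcm (Finset.mem_univ i)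
  have hk : ∀ i, (l / deg i) * deg i = l := fun i => Nat.div_mul_cancel (hdvd i)
  have hkpos : ∀ i, 0 < l / deg i := fun i =>
    Nat.div_pos (Nat.le_of_dvd (Nat.pos_of_ne_zero hl0) (hdvd i)) (hdeg i)
  let β : Fin s → ℕ := fun i => if i = i0 then 0 else α i % (l / deg i)
  let γ : Fin s → ℕ := fun i => if i = i0 then α i else (α i / (l / deg i)) * (l / deg i)
  have hαβγ : α = β + γ := by
    funext i
    simp only [Pi.add_apply, β, γ]
    split_ifs with h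
    · simp
    · exact (Nat.mod_add_div' (α i) (l / deg i)).symm
  have hβle : mdeg deg β ≤ (s - 1) * (l - 1) := by
    have h1 : ∀ i ∈ (Finset.univ : Finset (Fin s)), β i * deg i ≤ if i = i0 then 0 else (l - 1) := by
      intro i _
      simp only [β]
      split_ifs with h
      · simp
      · have h2 : α i % (l / deg i) ≤ l / deg i - 1 :=
          Nat.le_sub_one_of_lt (Nat.mod_lt _ (hkpos i))
        calc α i % (l / deg i) * deg i ≤ (l / deg i - 1) * deg i := Nat.mul_le_mul_right _ h2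
          _ = l - deg i := by rw [Nat.sub_mul, hk i, one_mul]
          _ ≤ l - 1 := Nat.sub_le_sub_left (hdeg i) l
    calc mdeg deg β = ∑ i, β i * deg i := rfl
      _ ≤ ∑ i : Fin s, (if i = i0 then 0 else (l - 1)) := Finset.sum_le_sum h1
      _ = (s - 1) * (l - 1) := by
        rw [Finset.sum_ite, Finset.sum_const_zero, zero_add, Finset.sum_const, smul_eq_mul]
        congr 1
        rw [Finset.filter_not, Finset.filter_eq' , if_pos (Finset.mem_univ i0),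
          Finset.card_sdiff_of_subset (by simp)]
        simp
  have hγdvd : deg i0 ∣ mdeg deg γ := by
    apply Finset.dvd_sum
    intro i _
    simp only [γ]
    split_ifs with h
    · subst h; exact Dvd.intro_left _ rfl
    · rw [mul_assoc, hk i]
      exact Dvd.dvd.mul_left (hdvd i0) _
  obtain ⟨g, hg⟩ := hγdvd
  have hsum : mdeg deg β + mdeg deg γ = n + deg i0 * jj := by
    rw [← mdeg_add, ← hαβγ, hα]
  have hβn : mdeg deg β ≤ n := hβle.trans hn
  have hjg : jj ≤ g := by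
    have : deg i0 * jj ≤ deg i0 * g := by omega
    exact Nat.le_of_mul_le_mul_left this (hdeg i0)
  refine ⟨β, γ, g - jj, hαβγ, ?_, ?_⟩
  · rw [Nat.sub_mul, mul_comm g, mul_comm jj]
    have : deg i0 * jj ≤ deg i0 * g := Nat.mul_le_mul_left _ hjg
    omega
  · rw [Nat.sub_mul, mul_comm g, mul_comm jj]
    have : deg i0 * jj ≤ deg i0 * g := Nat.mul_le_mul_left _ hjg
    omega

end comb

section sec

open CategoryTheory Opposite TopologicalSpace Groth.Agent.Lib.Helper60.TwistLib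
  Groth.Agent.Lib.Lead.QCohAff Groth.Agent.Lib.Helper60.Ver

variable {R A : Type u} [CommRing R] [CommRing A] [Algebra R A] (𝒜 : ℕ → Submodule R A) [GradedAlgebra 𝒜]

/-- fraction section of the structure sheaf -/
def fracO (W : Opens (ProjectiveSpectrum.top 𝒜)) (k : ℕ) (num den : 𝒜 k)
    (hden : ∀ y ∈ W, den.1 ∉ y.asHomogeneousIdeal) : Twist.O (𝒜 := 𝒜) (op W) :=
  ⟨fun y => HomogeneousLocalization.mk ⟨k, num, den, hden y.1 y.2⟩,
   fun y => ⟨W, y.2, 𝟙 _, k, num, den, fun z => hden z.1 z.2, fun _ => rfl⟩⟩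

lemma genSec_zero (n : ℤ) {i j : ℕ} (h : 𝒜 j) (hij : (i : ℤ) = j + n)
    (W : Opens (ProjectiveSpectrum.top 𝒜)) (hh : ∀ x ∈ W, h.1 ∉ x.asHomogeneousIdeal) :
    genSec n (0 : 𝒜 i) h hij W hh = 0 := by
  apply Subtype.ext
  funext y
  apply Subtype.ext
  change Localization.mk (0 : A) _ = 0
  exact Localization.mk_zero _

lemma genSec_add (n : ℤ) {i j : ℕ} (a b : 𝒜 i) (h : 𝒜 j) (hij : (i : ℤ) = j + n)
    (W : Opens (ProjectiveSpectrum.top 𝒜)) (hh : ∀ x ∈ W, h.1 ∉ x.asHomogeneousIdeal) :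
    genSec n (a + b) h hij W hh = genSec n a h hij W hh + genSec n b h hij W hh := by
  apply Subtype.ext
  funext y
  apply Subtype.ext
  change Localization.mk (a.1 + b.1) _ = Localization.mk a.1 _ + Localization.mk b.1 _
  rw [Localization.add_mk_self]

lemma germ_mem {s : ℕ} (f : Fin s → A) (deg : Fin s → ℕ) (hdeg : ∀ i, 0 < deg i)
    (hf : ∀ i, f i ∈ 𝒜 (deg i)) (hgen : Algebra.adjoin R (Set.range f) = ⊤) (n : ℕ)
    (hn : (s - 1) * (Finset.univ.lcm deg - 1) ≤ n) (x : Proj 𝒜) (i0 : Fin s)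
    (W : (Proj 𝒜).Opens) (hxW : x ∈ W) (hWF : ∀ y ∈ W, f i0 ∉ y.asHomogeneousIdeal)
    (jj : ℕ) (s' : 𝒜 (deg i0 * jj)) (hs' : ∀ y ∈ W, s'.1 ∉ y.asHomogeneousIdeal)
    (hij : ((n + deg i0 * jj : ℕ) : ℤ) = ((deg i0 * jj : ℕ) : ℤ) + (n : ℤ))
    (a : A) (ha : a ∈ 𝒜 (n + deg i0 * jj)) :
    (Twist.twist 𝒜 (n : ℤ)).presheaf.germ W x hxW (genSec (n : ℤ) ⟨a, ha⟩ s' hij W hs') ∈
      Submodule.span ((Proj 𝒜).presheaf.stalk x) (Set.range fun b : 𝒜 n =>
        ((Twist.twist 𝒜 (n : ℤ)).presheaf.germ ⊤ x trivial).hom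
          (Twist.globalOf 𝒜 b : ProjUP.Γm (Twist.twist 𝒜 (n : ℤ)))) := by
  have hT : ∀ y ∈ {y : A | ∃ α : Fin s → ℕ, mdeg deg α = n + deg i0 * jj ∧ y = mono f α},
      y ∈ 𝒜 (n + deg i0 * jj) := by
    rintro y ⟨α, hα, rfl⟩
    rw [← hα]
    exact mono_mem 𝒜 hf α
  have hspan : Submodule.span R {y : A | ∃ α : Fin s → ℕ, mdeg deg α = n + deg i0 * jj ∧ y = mono f α}
      ≤ 𝒜 (n + deg i0 * jj) := Submodule.span_le.2 hT
  have hmem := le_span_mono 𝒜 hf hgen (n + deg i0 * jj) ha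
  revert ha
  induction hmem using Submodule.closure_induction with
  | zero =>
    intro ha
    have h0 : genSec (n : ℤ) (⟨0, ha⟩ : 𝒜 (n + deg i0 * jj)) s' hij W hs' = 0 :=
      genSec_zero 𝒜 (n : ℤ) s' hij W hs'
    rw [h0]
    erw [map_zero]
    exact zero_mem _
  | add a1 a2 h1 h2 ih1 ih2 =>
    intro ha
    have ha1 := hspan h1
    have ha2 := hspan h2
    have hadd : genSec (n : ℤ) (⟨a1 + a2, ha⟩ : 𝒜 (n + deg i0 * jj)) s' hij W hs' =
        genSec (n : ℤ) ⟨a1, ha1⟩ s' hij W hs' + genSec (n : ℤ) ⟨a2, ha2⟩ s' hij W hs' :=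
      genSec_add 𝒜 (n : ℤ) ⟨a1, ha1⟩ ⟨a2, ha2⟩ s' hij W hs'
    rw [hadd]
    erw [map_add]
    exact add_mem (ih1 ha1) (ih2 ha2)
  | smul_mem c m hm =>
    intro ha
    obtain ⟨α, hα, rfl⟩ := hm
    obtain ⟨β, γ, J, hαβγ, hβ, hγ⟩ := strip deg hdeg i0 α n jj hn hα
    have hFJ : f i0 ^ J ∈ 𝒜 (J * deg i0) := by
      have := SetLike.pow_mem_graded J (hf i0)
      simpa [smul_eq_mul] using this
    have hb : c • (mono f β * f i0 ^ J) ∈ 𝒜 n := by
      apply Submodule.smul_mem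
      have := SetLike.mul_mem_graded (mono_mem 𝒜 hf β) hFJ
      rwa [hβ] at this
    have hnum : mono f γ ∈ 𝒜 (deg i0 * jj + J * deg i0) := by
      rw [← hγ]; exact mono_mem 𝒜 hf γ
    have hden : s'.1 * f i0 ^ J ∈ 𝒜 (deg i0 * jj + J * deg i0) :=
      SetLike.mul_mem_graded s'.2 hFJ
    have hdenW : ∀ y ∈ W, s'.1 * f i0 ^ J ∉ y.asHomogeneousIdeal := by
      intro y hy hmem
      rcases y.isPrime.mem_or_mem hmem with h | h
      · exact hs' y hy h
      · exact hWF y hy (y.isPrime.mem_of_pow_mem J h)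
    let b : 𝒜 n := ⟨c • (mono f β * f i0 ^ J), hb⟩
    let r : Twist.O (𝒜 := 𝒜) (op W) :=
      fracO 𝒜 W (deg i0 * jj + J * deg i0) ⟨mono f γ, hnum⟩ ⟨s'.1 * f i0 ^ J, hden⟩ hdenW
    have hone : ∀ y ∈ W, (1 : A) ∉ y.asHomogeneousIdeal := fun y _ h =>
      y.isPrime.ne_top ((Ideal.eq_top_iff_one _).mpr h)
    have hij0 : ((n : ℕ) : ℤ) = ((0 : ℕ) : ℤ) + (n : ℤ) := by simp
    have hclaim : genSec (n : ℤ) (⟨c • mono f α, ha⟩ : 𝒜 (n + deg i0 * jj)) s' hij W hs' =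
        r • genSec (n : ℤ) b (⟨1, SetLike.GradedOne.one_mem⟩ : 𝒜 0) hij0 W hone := by
      apply Subtype.ext
      funext y
      apply Subtype.ext
      rw [smul_sect_val]
      change Localization.mk (c • mono f α) _ =
        (HomogeneousLocalization.mk _).val * Localization.mk (c • (mono f β * f i0 ^ J)) _
      rw [HomogeneousLocalization.val_mk, Localization.mk_mul, Localization.mk_eq_mk_iff,
        Localization.r_iff_exists]
      refine ⟨1, ?_⟩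
      rw [hαβγ, mono_add]
      simp only [OneMemClass.coe_one, one_mul, Submonoid.coe_mul, mul_one, Algebra.smul_def]
      ring
    have h3 : (Twist.twist 𝒜 (n : ℤ)).presheaf.map (homOfLE (le_top : W ≤ ⊤)).op
        (Twist.globalOf 𝒜 b : ProjUP.Γm (Twist.twist 𝒜 (n : ℤ))) =
        genSec (n : ℤ) b (⟨1, SetLike.GradedOne.one_mem⟩ : 𝒜 0) hij0 W hone := rfl
    rw [hclaim, ← h3]
    have h4 := germ_smul (Twist.twist 𝒜 (n : ℤ)) W x hxW r
      ((Twist.twist 𝒜 (n : ℤ)).presheaf.map (homOfLE (le_top : W ≤ ⊤)).op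
        (Twist.globalOf 𝒜 b : ProjUP.Γm (Twist.twist 𝒜 (n : ℤ))))
    have h5 := germ_res (Twist.twist 𝒜 (n : ℤ)) (le_top : W ≤ ⊤) x hxW
      (Twist.globalOf 𝒜 b : ProjUP.Γm (Twist.twist 𝒜 (n : ℤ)))
    rw [h5] at h4
    erw [h4]
    exact Submodule.smul_mem _ _ (Submodule.subset_span ⟨b, rfl⟩)

lemma exists_i0 {s : ℕ} (f : Fin s → A) (deg : Fin s → ℕ)
    (hf : ∀ i, f i ∈ 𝒜 (deg i)) (hgen : Algebra.adjoin R (Set.range f) = ⊤) (x : Proj 𝒜) :
    ∃ i0, f i0 ∉ x.asHomogeneousIdeal := by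
  have hgen0 : Algebra.adjoin (𝒜 0) (Set.range f) = ⊤ := by
    rw [eq_top_iff]
    intro x hxtop
    clear hxtop
    have hx : x ∈ Algebra.adjoin R (Set.range f) := by rw [hgen]; trivial
    induction hx using Algebra.adjoin_induction with
    | mem y hy => exact Algebra.subset_adjoin hy
    | algebraMap r =>
      have h0 : algebraMap R A r ∈ 𝒜 0 := SetLike.algebraMap_mem_graded 𝒜 r
      exact Subalgebra.algebraMap_mem (Algebra.adjoin (𝒜 0) (Set.range f)) ⟨algebraMap R A r, h0⟩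
    | add y z _ _ hy hz => exact add_mem hy hz
    | mul y z _ _ hy hz => exact mul_mem hy hz
  have hcover := Proj.iSup_basicOpen_eq_top' 𝒜 f (fun i => ⟨deg i, hf i⟩) hgen0
  have hx : x ∈ (⨆ i, Proj.basicOpen 𝒜 (f i)) := by rw [hcover]; trivial
  obtain ⟨i0, hi0⟩ := TopologicalSpace.Opens.mem_iSup.1 hx
  exact ⟨i0, hi0⟩

end sec

section mainsec

open CategoryTheory Opposite TopologicalSpace Groth.Agent.Lib.Helper60.TwistLib
  Groth.Agent.Lib.Lead.QCohAff Groth.Agent.Lib.Helper60.Ver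

theorem auxMain {R A : Type u} [CommRing R] [CommRing A] [Algebra R A] (𝒜 : ℕ → Submodule R A) [GradedAlgebra 𝒜]
    {s : ℕ} (f : Fin s → A) (deg : Fin s → ℕ) (hdeg : ∀ i, 0 < deg i) (hf : ∀ i, f i ∈ 𝒜 (deg i))
    (hgen : Algebra.adjoin R (Set.range f) = ⊤) (n : ℕ) (hn : (s - 1) * (Finset.univ.lcm deg - 1) ≤ n) :
    ProjUP.GeneratedBy (Twist.twist 𝒜 (n : ℤ))
      (fun b : 𝒜 n => (Twist.globalOf 𝒜 b : ProjUP.Γm (Twist.twist 𝒜 (n : ℤ)))) := by
  intro x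
  rw [eq_top_iff]
  rintro t -
  obtain ⟨i0, hi0⟩ := exists_i0 𝒜 f deg hf hgen x
  obtain ⟨e, he⟩ : ∃ e, deg i0 = e + 1 := Nat.exists_eq_succ_of_ne_zero (hdeg i0).ne'
  obtain ⟨W, hxW, σ, rfl⟩ := TopCat.Presheaf.exists_germ_eq (Twist.twist 𝒜 (n : ℤ)).presheaf t
  let σ' : Twist.sectN (𝒜 := 𝒜) (n : ℤ) (op W) := σ
  obtain ⟨V, hxV, iV, i', j, a, sden, s_nin, hdeg', hw⟩ := σ'.2 ⟨x, hxW⟩
  -- normalise the numerator degree
  obtain ⟨a', ha'⟩ : ∃ a' : 𝒜 (j + n), ∀ y : V, (σ'.1 (iV y)).1 = Localization.mk a'.1 ⟨sden.1, s_nin y⟩ := by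
    rcases hdeg' with h | h
    · have h' : i' = j + n := by exact_mod_cast h
      subst h'
      exact ⟨a, hw⟩
    · refine ⟨0, fun y => ?_⟩
      rw [hw y, h]
      rfl
  let W' : (Proj 𝒜).Opens := V ⊓ Proj.basicOpen 𝒜 (f i0)
  have hxW' : x ∈ W' := ⟨hxV, hi0⟩
  have hVW : V ≤ W := leOfHom iV
  have hW'W : W' ≤ W := inf_le_left.trans hVW
  have hWF : ∀ y ∈ W', f i0 ∉ y.asHomogeneousIdeal := fun y hy => hy.2
  have hsd : sden.1 ^ (e + 1) ∈ 𝒜 (deg i0 * j) := by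
    have := SetLike.pow_mem_graded (e + 1) sden.2
    rw [he]
    simpa [smul_eq_mul] using this
  have hnum : a'.1 * sden.1 ^ e ∈ 𝒜 (n + deg i0 * j) := by
    have h1 := SetLike.pow_mem_graded e sden.2
    have h2 := SetLike.mul_mem_graded a'.2 h1
    have h3 : j + n + e • j = n + deg i0 * j := by
      rw [he, smul_eq_mul]; ring
    rwa [h3] at h2
  have hs' : ∀ y ∈ W', sden.1 ^ (e + 1) ∉ y.asHomogeneousIdeal := by
    intro y hy hmem
    exact s_nin ⟨y, hy.1⟩ (y.isPrime.mem_of_pow_mem _ hmem)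
  have hij : ((n + deg i0 * j : ℕ) : ℤ) = ((deg i0 * j : ℕ) : ℤ) + (n : ℤ) := by
    push_cast; ring
  have hres : (Twist.twist 𝒜 (n : ℤ)).presheaf.map (homOfLE hW'W).op σ =
      genSec (n : ℤ) (⟨a'.1 * sden.1 ^ e, hnum⟩ : 𝒜 (n + deg i0 * j))
        (⟨sden.1 ^ (e + 1), hsd⟩ : 𝒜 (deg i0 * j)) hij W' hs' := by
    apply Subtype.ext
    funext y
    apply Subtype.ext
    refine (ha' ⟨y.1, y.2.1⟩).trans ?_
    change Localization.mk _ _ = Localization.mk _ _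
    rw [Localization.mk_eq_mk_iff, Localization.r_iff_exists]
    refine ⟨1, ?_⟩
    simp only [OneMemClass.coe_one, one_mul]
    ring
  have h1 : (Twist.twist 𝒜 (n : ℤ)).presheaf.germ W x hxW σ =
      (Twist.twist 𝒜 (n : ℤ)).presheaf.germ W' x hxW'
        ((Twist.twist 𝒜 (n : ℤ)).presheaf.map (homOfLE hW'W).op σ) :=
    (germ_res (Twist.twist 𝒜 (n : ℤ)) hW'W x hxW' σ).symm
  rw [h1, hres]
  exact germ_mem 𝒜 f deg hdeg hf hgen n hn x i0 W' hxW' hWF j ⟨sden.1 ^ (e + 1), hsd⟩ hs' hij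
    (a'.1 * sden.1 ^ e) hnum

end mainsec

end helpers

/-- Let B be a graded R-algebra generated by homogeneous elements f_1, …, f_s of positive degrees d_1,
…, d_s, let l be the least common multiple of the d_i and X = Proj B. For n ≥ (s − 1)(l − 1), O_X(n)
is generated by its global sections b/1, b ∈ B_n. -/
theorem result {R A : Type u} [CommRing R] [CommRing A] [Algebra R A] (𝒜 : ℕ → Submodule R A) [GradedAlgebra 𝒜]
    {s : ℕ} (f : Fin s → A) (deg : Fin s → ℕ) (hdeg : ∀ i, 0 < deg i) (hf : ∀ i, f i ∈ 𝒜 (deg i))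
    (hgen : Algebra.adjoin R (Set.range f) = ⊤) (n : ℕ) (hn : (s - 1) * (Finset.univ.lcm deg - 1) ≤ n) :
    ProjUP.GeneratedBy (Twist.twist 𝒜 (n : ℤ))
      (fun b : 𝒜 n => (Twist.globalOf 𝒜 b : ProjUP.Γm (Twist.twist 𝒜 (n : ℤ)))) := by
  exact auxMain 𝒜 f deg hdeg hf hgen n hn

end Groth.Agent.S13171
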