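import Groth.Statements.S13173
import Mathlib
import Groth.Agent.Lib.Helper60.Twist
-- import your own Groth.Agent.* helpers here

set_option autoImplicit false
universe u
open AlgebraicGeometry
open ZeroCyc

namespace Groth.Agent.S13173

open CategoryTheory CategoryTheory.Limits


/-- Let B be a graded R-algebra generated by elements of degree at most d, such that X = Proj B is
quasi-compact and covered by the opens D_+(g), g ∈ B_1. Then O_X(n) is ample for every n ≥ 1. (The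
published statement does not assume X quasi-compact, which ampleness as used here requires and which
fails for a polynomial ring in infinitely many degree-one variables; this row assumes it.) -/
theorem result {R A : Type u} [CommRing R] [CommRing A] [Algebra R A] (𝒜 : ℕ → Submodule R A) [GradedAlgebra 𝒜]
    (d : ℕ) (hgen : Algebra.adjoin R (⋃ i ∈ Finset.range (d + 1), (𝒜 i : Set A)) = ⊤)
    (hcov : (⨆ g : 𝒜 1, Proj.basicOpen 𝒜 (g : A)) = ⊤) [CompactSpace (Proj 𝒜)] (n : ℕ) (hn : 0 < n) :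
    CohB1.IsAmple (Twist.twist 𝒜 (n : ℤ)) := by
  classical
  have hex : ∀ x : ProjectiveSpectrum 𝒜, ∃ f ∈ 𝒜 1, f ∉ x.asHomogeneousIdeal := by
    intro x
    have hx : (x : Proj 𝒜) ∈ (⨆ g : 𝒜 1, Proj.basicOpen 𝒜 (g : A)) := by rw [hcov]; trivial
    obtain ⟨g, hg⟩ := TopologicalSpace.Opens.mem_iSup.mp hx
    exact ⟨g.1, g.2, (Proj.mem_basicOpen 𝒜 g.1 x).mp hg⟩
  have hpow : ∀ {f : A}, f ∈ 𝒜 1 → f ^ n ∈ 𝒜 n := by
    intro f hf
    have := SetLike.pow_mem_graded n hf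
    rwa [smul_eq_mul, mul_one] at this
  have hgens : ∀ (x : Proj 𝒜) (k : ℤ), ∃ U : (Proj 𝒜).Opens, x ∈ U ∧
      ∃ (i j : ℕ) (g : 𝒜 i) (h : 𝒜 j), (i : ℤ) = j + k ∧
        ∀ y ∈ U, g.1 ∉ y.asHomogeneousIdeal ∧ h.1 ∉ y.asHomogeneousIdeal := by
    intro x k
    obtain ⟨f, hf1, hf⟩ := hex x
    obtain ⟨i, j, g, h, hij, hgh⟩ := Groth.Agent.Lib.Helper60.TwistLib.exists_gens_pow 𝒜
      (⟨f, hf1⟩ : 𝒜 1) k
    exact ⟨Proj.basicOpen 𝒜 f, hf, i, j, g, h, by simpa using hij,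
      fun y hy => hgh y ((Proj.mem_basicOpen 𝒜 f y).mp hy)⟩
  refine ⟨?_, inferInstance, ?_⟩
  · intro y
    obtain ⟨U, hyU, i, j, g, h, hij, hU⟩ := hgens y n
    refine ⟨U, hyU, ?_⟩
    exact Groth.Agent.Lib.Helper60.TwistLib.twist_restrict_iso 𝒜 U.ι n g h hij
      (fun z => (hU z.1 z.2).1) (fun z => (hU z.1 z.2).2)
  · intro x
    obtain ⟨f, hf1, hf⟩ := hex x
    obtain ⟨e⟩ := Groth.Agent.Lib.Helper60.TensorLib.nonempty_tensorMod_unit_left
      (Twist.twist 𝒜 (n : ℤ))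
    let φ : Coh.structureModule (Proj 𝒜) ⟶ Twist.twist 𝒜 (n : ℤ) :=
      Groth.Agent.Lib.Helper60.TwistLib.numHom 𝒜 (⟨f ^ n, hpow hf1⟩ : 𝒜 n)
    have hbo : Proj.basicOpen 𝒜 (f ^ n) = Proj.basicOpen 𝒜 f := Proj.basicOpen_pow 𝒜 f n hn
    have key : CohB1.genLocus (CohB1.tensorPow (Twist.twist 𝒜 (n : ℤ)) (0 + 1)) (φ ≫ e.inv) =
        Proj.basicOpen 𝒜 f := by
      have hiff : ∀ U : (Proj 𝒜).Opens,
          IsIso ((Scheme.Modules.restrictFunctor U.ι).map (φ ≫ e.inv)) ↔ U ≤ Proj.basicOpen 𝒜 f := by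
        intro U
        rw [Functor.map_comp, isIso_comp_right_iff, ← hbo]
        refine Groth.Agent.Lib.Helper60.TwistLib.isIso_restrict_numHom_iff 𝒜
          (⟨f ^ n, hpow hf1⟩ : 𝒜 n) U ?_
        intro y hy
        obtain ⟨g, hg1, hg⟩ := hex y
        exact ⟨n, 0, ⟨g ^ n, hpow hg1⟩, ⟨1, SetLike.GradedOne.one_mem⟩, by simp,
          fun h' => hg (y.isPrime.mem_of_pow_mem n h'),
          Groth.Agent.Lib.Helper60.TwistLib.one_notMem 𝒜 y⟩
      apply le_antisymm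
      · exact sSup_le (fun U hU => (hiff U).mp hU)
      · exact le_sSup ((hiff _).mpr le_rfl)
    refine ⟨0, φ ≫ e.inv, ?_, ?_⟩
    · rw [key]; exact hf
    · rw [key]; exact Proj.isAffineOpen_basicOpen 𝒜 f hf1 one_pos

end Groth.Agent.S13173
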