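import Groth.Statements.S13174
import Mathlib

set_option autoImplicit false
universe u v w
open scoped TensorProduct
open ZeroCyc

namespace Groth.Agent.S13174

section helpers

open LinearMap

variable {A : Type u} [CommRing A] {M : Type v} [AddCommGroup M] [Module A M]
  {N : Type w} [AddCommGroup N] [Module A N]
  (T : ∀ n : ℕ, MvPolynomial (Fin n) A ⊗[A] M → MvPolynomial (Fin n) A ⊗[A] N)
  (hT : ∀ (n m : ℕ) (φ : MvPolynomial (Fin n) A →ₐ[A] MvPolynomial (Fin m) A),
    φ.toLinearMap.rTensor N ∘ T n = T m ∘ φ.toLinearMap.rTensor M)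

include hT in
theorem hT_apply {n m : ℕ} (φ : MvPolynomial (Fin n) A →ₐ[A] MvPolynomial (Fin m) A)
    (p : MvPolynomial (Fin n) A ⊗[A] M) :
    φ.toLinearMap.rTensor N (T n p) = T m (φ.toLinearMap.rTensor M p) :=
  congrFun (hT n m φ) p

theorem rTensor_comp_apply' {S S' S'' : Type u} [CommSemiring S] [Algebra A S] [CommSemiring S']
    [Algebra A S'] [CommSemiring S''] [Algebra A S''] (Q : Type*) [AddCommGroup Q] [Module A Q]
    (g : S' →ₐ[A] S'') (f : S →ₐ[A] S') (x : S ⊗[A] Q) :
    (g.comp f).toLinearMap.rTensor Q x = g.toLinearMap.rTensor Q (f.toLinearMap.rTensor Q x) := by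
  rw [AlgHom.comp_toLinearMap, LinearMap.rTensor_comp, LinearMap.comp_apply]

include hT in
/-- adding a pure tensor whose ring component is killed by `ψ` does not change the value -/
theorem wd_of_tmul {S : Type u} [CommSemiring S] [Algebra A S] {n : ℕ}
    (ψ : MvPolynomial (Fin n) A →ₐ[A] S) (q : MvPolynomial (Fin n) A ⊗[A] M)
    (i : MvPolynomial (Fin n) A) (m : M) (hi : ψ i = 0) :
    ψ.toLinearMap.rTensor N (T n (q + i ⊗ₜ[A] m)) = ψ.toLinearMap.rTensor N (T n q) := by
  let κ : MvPolynomial (Fin n) A →ₐ[A] MvPolynomial (Fin (n + 1)) A :=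
    MvPolynomial.rename (Fin.castAdd 1)
  let α : MvPolynomial (Fin (n + 1)) A →ₐ[A] MvPolynomial (Fin n) A :=
    MvPolynomial.aeval (Fin.append (fun j => MvPolynomial.X j) (fun _ : Fin 1 => i))
  let β : MvPolynomial (Fin (n + 1)) A →ₐ[A] MvPolynomial (Fin n) A :=
    MvPolynomial.aeval (Fin.append (fun j => MvPolynomial.X j) (fun _ : Fin 1 => 0))
  let w : MvPolynomial (Fin (n + 1)) A ⊗[A] M :=
    κ.toLinearMap.rTensor M q + (MvPolynomial.X (Fin.natAdd n 0)) ⊗ₜ[A] m
  have hακ : α.comp κ = AlgHom.id A _ := by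
    apply MvPolynomial.algHom_ext
    intro j
    simp [α, κ]
  have hβκ : β.comp κ = AlgHom.id A _ := by
    apply MvPolynomial.algHom_ext
    intro j
    simp [β, κ]
  have hαw : α.toLinearMap.rTensor M w = q + i ⊗ₜ[A] m := by
    simp only [w, map_add, ← rTensor_comp_apply', hακ]
    congr 1
    · simp
    · simp [α]
  have hβw : β.toLinearMap.rTensor M w = q := by
    simp only [w, map_add, ← rTensor_comp_apply', hβκ]
    simp [β]
  have hψαβ : ψ.comp α = ψ.comp β := by
    apply MvPolynomial.algHom_ext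
    intro j
    refine Fin.addCases (fun j' => ?_) (fun j' => ?_) j
    · simp [α, β]
    · simp [α, β, hi]
  calc ψ.toLinearMap.rTensor N (T n (q + i ⊗ₜ[A] m))
      = ψ.toLinearMap.rTensor N (T n (α.toLinearMap.rTensor M w)) := by rw [hαw]
    _ = ψ.toLinearMap.rTensor N (α.toLinearMap.rTensor N (T (n + 1) w)) := by
        rw [hT_apply T hT]
    _ = (ψ.comp α).toLinearMap.rTensor N (T (n + 1) w) := by rw [rTensor_comp_apply']
    _ = (ψ.comp β).toLinearMap.rTensor N (T (n + 1) w) := by rw [hψαβ]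
    _ = ψ.toLinearMap.rTensor N (β.toLinearMap.rTensor N (T (n + 1) w)) := by
        rw [rTensor_comp_apply']
    _ = ψ.toLinearMap.rTensor N (T n (β.toLinearMap.rTensor M w)) := by rw [hT_apply T hT]
    _ = ψ.toLinearMap.rTensor N (T n q) := by rw [hβw]

include hT in
/-- equality after restricting to the range of `ψ` suffices -/
theorem wd_of_range {S : Type u} [CommSemiring S] [Algebra A S] {n : ℕ}
    (ψ : MvPolynomial (Fin n) A →ₐ[A] S) (q₁ q₂ : MvPolynomial (Fin n) A ⊗[A] M)
    (h : ψ.rangeRestrict.toLinearMap.rTensor M q₁ = ψ.rangeRestrict.toLinearMap.rTensor M q₂) :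
    ψ.toLinearMap.rTensor N (T n q₁) = ψ.toLinearMap.rTensor N (T n q₂) := by
  let _ : AddCommGroup ψ.range := Module.addCommMonoidToAddCommGroup A
  let g : MvPolynomial (Fin n) A →ₗ[A] ψ.range := ψ.rangeRestrict.toLinearMap
  have hg : Function.Surjective g := ψ.rangeRestrict_surjective
  have hex := rTensor_exact M (LinearMap.exact_subtype_ker_map g) hg
  have h0 : g.rTensor M (q₁ - q₂) = 0 := by
    rw [map_sub, sub_eq_zero]
    exact h
  obtain ⟨y, hy⟩ := (hex _).mp h0
  have claim : ∀ (y : LinearMap.ker g ⊗[A] M) (q : MvPolynomial (Fin n) A ⊗[A] M),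
      ψ.toLinearMap.rTensor N (T n (q + (LinearMap.ker g).subtype.rTensor M y)) =
        ψ.toLinearMap.rTensor N (T n q) := by
    intro y
    induction y using TensorProduct.induction_on with
    | zero => intro q; simp
    | tmul i m =>
      intro q
      rw [LinearMap.rTensor_tmul]
      apply wd_of_tmul T hT ψ q _ m
      have hi : g i.1 = 0 := i.2
      have : ((g i.1 : ψ.range) : S) = 0 := by rw [hi]; rfl
      exact this
    | add y y' hy hy' =>
      intro q
      rw [map_add, ← add_assoc, hy', hy]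
  have := claim y q₂
  rw [hy] at this
  rw [← this]
  congr 2
  abel

include hT in
/-- two lifts along the same map -/
theorem wd_same {S : Type u} [CommSemiring S] [Algebra A S] {n : ℕ}
    (ψ : MvPolynomial (Fin n) A →ₐ[A] S) (q₁ q₂ : MvPolynomial (Fin n) A ⊗[A] M)
    (h : ψ.toLinearMap.rTensor M q₁ = ψ.toLinearMap.rTensor M q₂) :
    ψ.toLinearMap.rTensor N (T n q₁) = ψ.toLinearMap.rTensor N (T n q₂) := by
  classical
  have hFG : Subalgebra.FG (R := A) ψ.range := by
    rw [← Algebra.map_top]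
    exact Subalgebra.FG.map _ Algebra.FiniteType.out
  set u₁ := ψ.rangeRestrict.toLinearMap.rTensor M q₁ with hu₁
  set u₂ := ψ.rangeRestrict.toLinearMap.rTensor M q₂ with hu₂
  have huu : (Subalgebra.val ψ.range).toLinearMap.rTensor M u₁ =
      (Subalgebra.val ψ.range).toLinearMap.rTensor M u₂ := by
    simp only [hu₁, hu₂, ← LinearMap.comp_apply, ← LinearMap.rTensor_comp,
      ← AlgHom.comp_toLinearMap, AlgHom.val_comp_rangeRestrict]
    exact h
  obtain ⟨B, hAB, hA'B, ⟨t, hB⟩, hBeq⟩ :=
    TensorProduct.Algebra.eq_of_fg_of_subtype_eq' (R := A) hFG hFG huu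
  rw [← PolynomialLaw.range_φ A t, eq_comm] at hB
  subst hB
  generalize PolynomialLaw.φ A t = ψ' at *
  -- lift the variables
  have hmem : ∀ j : Fin n, ψ (MvPolynomial.X j) ∈ ψ'.range := fun j => hAB ⟨_, rfl⟩
  choose c hc using hmem
  let ι : MvPolynomial (Fin n) A →ₐ[A] MvPolynomial (Fin t.card) A := MvPolynomial.aeval c
  have hι : ψ'.comp ι = ψ := by
    apply MvPolynomial.algHom_ext
    intro j
    simp only [AlgHom.comp_apply, ι, MvPolynomial.aeval_X]
    exact hc j
  have hres : (Subalgebra.inclusion hAB).comp ψ.rangeRestrict = ψ'.rangeRestrict.comp ι := by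
    apply AlgHom.ext
    intro x
    apply Subtype.ext
    show ψ x = ψ' (ι x)
    rw [← hι]; rfl
  have hq : ψ'.rangeRestrict.toLinearMap.rTensor M (ι.toLinearMap.rTensor M q₁) =
      ψ'.rangeRestrict.toLinearMap.rTensor M (ι.toLinearMap.rTensor M q₂) := by
    rw [← rTensor_comp_apply', ← rTensor_comp_apply', ← hres, rTensor_comp_apply',
      rTensor_comp_apply']
    exact hBeq
  have key := wd_of_range T hT ψ' _ _ hq
  rw [← hT_apply T hT, ← hT_apply T hT, ← rTensor_comp_apply', ← rTensor_comp_apply', hι] at key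
  exact key

include hT in
/-- two lifts of the same element give the same value -/
theorem wd {S : Type u} [CommSemiring S] [Algebra A S] {n₁ n₂ : ℕ}
    (ψ₁ : MvPolynomial (Fin n₁) A →ₐ[A] S) (ψ₂ : MvPolynomial (Fin n₂) A →ₐ[A] S)
    (p₁ : MvPolynomial (Fin n₁) A ⊗[A] M) (p₂ : MvPolynomial (Fin n₂) A ⊗[A] M)
    (h : ψ₁.toLinearMap.rTensor M p₁ = ψ₂.toLinearMap.rTensor M p₂) :
    ψ₁.toLinearMap.rTensor N (T n₁ p₁) = ψ₂.toLinearMap.rTensor N (T n₂ p₂) := by
  let ψ : MvPolynomial (Fin (n₁ + n₂)) A →ₐ[A] S :=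
    MvPolynomial.aeval (Fin.append (fun i => ψ₁ (MvPolynomial.X i)) (fun i => ψ₂ (MvPolynomial.X i)))
  let ι₁ : MvPolynomial (Fin n₁) A →ₐ[A] MvPolynomial (Fin (n₁ + n₂)) A :=
    MvPolynomial.rename (Fin.castAdd n₂)
  let ι₂ : MvPolynomial (Fin n₂) A →ₐ[A] MvPolynomial (Fin (n₁ + n₂)) A :=
    MvPolynomial.rename (Fin.natAdd n₁)
  have e₁ : ψ.comp ι₁ = ψ₁ := by
    apply MvPolynomial.algHom_ext
    intro i
    simp [ψ, ι₁]
  have e₂ : ψ.comp ι₂ = ψ₂ := by
    apply MvPolynomial.algHom_ext
    intro i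
    simp [ψ, ι₂]
  have hq : ψ.toLinearMap.rTensor M (ι₁.toLinearMap.rTensor M p₁) =
      ψ.toLinearMap.rTensor M (ι₂.toLinearMap.rTensor M p₂) := by
    rw [← rTensor_comp_apply', ← rTensor_comp_apply', e₁, e₂]
    exact h
  have key := wd_same T hT ψ _ _ hq
  rw [← hT_apply T hT, ← hT_apply T hT, ← rTensor_comp_apply', ← rTensor_comp_apply', e₁, e₂] at key
  exact key

/-- the polynomial law attached to a compatible family -/
noncomputable def mkLaw : M →ₚₗ[A] N where
  toFun' S _ _ t :=
    (PolynomialLaw.exists_lift t).choose_spec.choose.toLinearMap.rTensor N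
      (T (PolynomialLaw.exists_lift t).choose (PolynomialLaw.exists_lift t).choose_spec.choose_spec.choose)
  isCompat' := by
    intro S _ _ S' _ _ φ
    funext t
    simp only [Function.comp_apply]
    rw [← rTensor_comp_apply']
    apply wd T hT
    rw [rTensor_comp_apply', (PolynomialLaw.exists_lift t).choose_spec.choose_spec.choose_spec,
      (PolynomialLaw.exists_lift (φ.toLinearMap.rTensor M t)).choose_spec.choose_spec.choose_spec]

include hT in
theorem mkLaw_apply (k : ℕ) (t : MvPolynomial (Fin k) A ⊗[A] M) :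
    (mkLaw T hT).toFun' (MvPolynomial (Fin k) A) t = T k t := by
  show (PolynomialLaw.exists_lift t).choose_spec.choose.toLinearMap.rTensor N
      (T (PolynomialLaw.exists_lift t).choose
        (PolynomialLaw.exists_lift t).choose_spec.choose_spec.choose) = T k t
  rw [hT_apply T hT, (PolynomialLaw.exists_lift t).choose_spec.choose_spec.choose_spec]

end helpers

/-- Let M and N be A-modules. Polynomial laws M → N correspond one-to-one, by restriction, to families
of maps T_n : M[t_1, …, t_n] → N[t_1, …, t_n], n ≥ 0, compatible with all A-algebra homomorphisms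
A[t_1, …, t_n] → A[t_1, …, t_m]: in the definition of a polynomial law the category of A-algebras
may be replaced by the polynomial rings in finitely many variables. (Here a polynomial law is given
on all commutative A-algebra semirings of the universe of A.) -/
theorem result {A : Type u} [CommRing A] {M : Type v} [AddCommGroup M] [Module A M] {N : Type w} [AddCommGroup N] [Module A N] :
    Function.Bijective (fun F : M →ₚₗ[A] N =>
      (⟨fun n => F.toFun' (MvPolynomial (Fin n) A), fun n m φ => F.isCompat' φ⟩ :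
        {T : ∀ n : ℕ, MvPolynomial (Fin n) A ⊗[A] M → MvPolynomial (Fin n) A ⊗[A] N //
          ∀ (n m : ℕ) (φ : MvPolynomial (Fin n) A →ₐ[A] MvPolynomial (Fin m) A),
            φ.toLinearMap.rTensor N ∘ T n = T m ∘ φ.toLinearMap.rTensor M})) := by
  constructor
  · intro F G hFG
    have hFG' : ∀ n, F.toFun' (MvPolynomial (Fin n) A) = G.toFun' (MvPolynomial (Fin n) A) := by
      intro n
      exact congrFun (congrArg Subtype.val hFG) n
    apply PolynomialLaw.ext
    funext S _ _ t
    obtain ⟨n, ψ, p, rfl⟩ := PolynomialLaw.exists_lift t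
    rw [← PolynomialLaw.isCompat_apply', ← PolynomialLaw.isCompat_apply', hFG']
  · rintro ⟨T, hT⟩
    refine ⟨mkLaw T hT, ?_⟩
    apply Subtype.ext
    funext k t
    exact mkLaw_apply T hT k t

end Groth.Agent.S13174
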