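import Groth.Statements.S13175
import Mathlib

set_option autoImplicit false
universe u v w
open scoped TensorProduct
open ZeroCyc

namespace Groth.Agent.S13175

/-- Let B and C be A-algebras and F : B → C a polynomial law. If the maps F over the polynomial rings
A[t_1, …, t_n], n ≥ 0, are multiplicative (send 1 to 1 and products to products), then F is a
multiplicative law: F sends 1 to 1 and products to products over every A-algebra. -/
theorem rTensor_eq_map {A : Type u} [CommRing A] {B : Type v} [CommRing B] [Algebra A B]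
    {S T : Type u} [CommRing S] [Algebra A S] [CommRing T] [Algebra A T] (ψ : S →ₐ[A] T) :
    ψ.toLinearMap.rTensor B = (Algebra.TensorProduct.map ψ (AlgHom.id A B)).toLinearMap := by
  apply TensorProduct.ext'
  intro x y
  rfl

theorem rTensor_mul {A : Type u} [CommRing A] {B : Type v} [CommRing B] [Algebra A B]
    {S T : Type u} [CommRing S] [Algebra A S] [CommRing T] [Algebra A T] (ψ : S →ₐ[A] T)
    (x y : S ⊗[A] B) :
    ψ.toLinearMap.rTensor B (x * y) = ψ.toLinearMap.rTensor B x * ψ.toLinearMap.rTensor B y := by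
  rw [rTensor_eq_map]
  exact map_mul (Algebra.TensorProduct.map ψ (AlgHom.id A B)) x y

theorem rTensor_one {A : Type u} [CommRing A] {B : Type v} [CommRing B] [Algebra A B]
    {S T : Type u} [CommRing S] [Algebra A S] [CommRing T] [Algebra A T] (ψ : S →ₐ[A] T) :
    ψ.toLinearMap.rTensor B (1 : S ⊗[A] B) = 1 := by
  rw [rTensor_eq_map]
  exact map_one (Algebra.TensorProduct.map ψ (AlgHom.id A B))

theorem exists_lift_pair {A : Type u} [CommRing A] {M : Type v} [AddCommGroup M] [Module A M]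
    {S : Type u} [CommRing S] [Algebra A S] (t₁ t₂ : S ⊗[A] M) :
    ∃ (n : ℕ) (ψ : MvPolynomial (Fin n) A →ₐ[A] S) (p₁ p₂ : MvPolynomial (Fin n) A ⊗[A] M),
      ψ.toLinearMap.rTensor M p₁ = t₁ ∧ ψ.toLinearMap.rTensor M p₂ = t₂ := by
  obtain ⟨n₁, ψ₁, p₁, h₁⟩ := PolynomialLaw.exists_lift t₁
  obtain ⟨n₂, ψ₂, p₂, h₂⟩ := PolynomialLaw.exists_lift t₂
  let ψ : MvPolynomial (Fin (n₁ + n₂)) A →ₐ[A] S :=
    MvPolynomial.aeval (Fin.append (fun i => ψ₁ (MvPolynomial.X i)) (fun i => ψ₂ (MvPolynomial.X i)))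
  let ι₁ : MvPolynomial (Fin n₁) A →ₐ[A] MvPolynomial (Fin (n₁ + n₂)) A :=
    MvPolynomial.rename (Fin.castAdd n₂)
  let ι₂ : MvPolynomial (Fin n₂) A →ₐ[A] MvPolynomial (Fin (n₁ + n₂)) A :=
    MvPolynomial.rename (Fin.natAdd n₁)
  have e₁ : ψ.comp ι₁ = ψ₁ := by
    apply MvPolynomial.algHom_ext
    intro i
    simp [ψ, ι₁]
  have e₂ : ψ.comp ι₂ = ψ₂ := by
    apply MvPolynomial.algHom_ext
    intro i
    simp [ψ, ι₂]
  refine ⟨n₁ + n₂, ψ, ι₁.toLinearMap.rTensor M p₁, ι₂.toLinearMap.rTensor M p₂, ?_, ?_⟩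
  · rw [← LinearMap.comp_apply, ← LinearMap.rTensor_comp, ← AlgHom.comp_toLinearMap, e₁, h₁]
  · rw [← LinearMap.comp_apply, ← LinearMap.rTensor_comp, ← AlgHom.comp_toLinearMap, e₂, h₂]

theorem result {A : Type u} [CommRing A] {B : Type v} [CommRing B] [Algebra A B] {C : Type w} [CommRing C] [Algebra A C]
    (F : B →ₚₗ[A] C)
    (h1 : ∀ n : ℕ, F.toFun' (MvPolynomial (Fin n) A) 1 = 1)
    (hmul : ∀ (n : ℕ) (x y : MvPolynomial (Fin n) A ⊗[A] B),
      F.toFun' (MvPolynomial (Fin n) A) (x * y) = F.toFun' (MvPolynomial (Fin n) A) x * F.toFun' (MvPolynomial (Fin n) A) y) :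
    ∀ (S : Type u) [CommRing S] [Algebra A S], F.toFun' S 1 = 1 ∧
      ∀ x y : S ⊗[A] B, F.toFun' S (x * y) = F.toFun' S x * F.toFun' S y := by
  intro S _ _
  constructor
  · let ψ : MvPolynomial (Fin 0) A →ₐ[A] S := MvPolynomial.aeval Fin.elim0
    have h := PolynomialLaw.isCompat_apply' (f := F) ψ (1 : MvPolynomial (Fin 0) A ⊗[A] B)
    rw [h1 0, rTensor_one, rTensor_one] at h
    exact h.symm
  · intro x y
    obtain ⟨n, ψ, p, q, hp, hq⟩ := exists_lift_pair x y
    have h := PolynomialLaw.isCompat_apply' (f := F) ψ (p * q)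
    rw [hmul n, rTensor_mul, rTensor_mul, PolynomialLaw.isCompat_apply',
      PolynomialLaw.isCompat_apply', hp, hq] at h
    exact h.symm

end Groth.Agent.S13175
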