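import Groth.Statements.S13177
import Groth.Agent.Lib.Helper81.QuotHomeo

set_option autoImplicit false
universe u
open CategoryTheory CategoryTheory.Limits AlgebraicGeometry
open ZeroCyc

namespace Groth.Agent.S13177

/-- Let a finite group G act on a scheme X with quotient q : X → Y (affine, G-invariant, O_Y = the
invariant sections), let i : Z → X be a G-stable closed subscheme with the induced action and r : Z
→ W a quotient of Z by G, and let q(Z) be the scheme-theoretic image of Z in Y. Then the morphism W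
→ q(Z) through which Z → q(Z) factors via r is a schematically dominant universal homeomorphism.
(The published statement assumes the quotient of X exists; here both quotients are hypotheses.) -/
theorem result {X Y Z W : Scheme.{u}} {G : Type u} [Group G] [Finite G]
    (ρ : G →* Aut X) (q : X ⟶ Y) (hquot : SGA1.IsQuot ρ q)
    (i : Z ⟶ X) [IsClosedImmersion i] (ρZ : G →* Aut Z) (hρZ : ∀ σ : G, (ρZ σ).hom ≫ i = i ≫ (ρ σ).hom)
    (r : Z ⟶ W) (hr : SGA1.IsQuot ρZ r)
    (m : W ⟶ (i ≫ q).ker.subscheme) (hm : r ≫ m ≫ (i ≫ q).ker.subschemeι = i ≫ q) :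
    FlatMor.IsUnivHomeo m ∧ IsSchemeTheoreticallyDominant m := by
  haveI := hquot.affine
  haveI : IsIntegralHom q := Groth.Agent.Lib.Helper81.Quot.isIntegralHom hquot
  haveI : QuasiCompact (i ≫ q) := inferInstance
  haveI : UniversallyClosed (i ≫ q) := inferInstance
  have hTeq : r ≫ m = (i ≫ q).toImage := by
    rw [← cancel_mono (i ≫ q).imageι, Scheme.Hom.toImage_imageι, Category.assoc]
    exact hm
  have hT := Groth.Agent.Lib.Helper81.KTrans.kTrans_of_isQuot hquot
  have hT1 := Groth.Agent.Lib.Helper81.KTrans.kTrans_of_mono hT i ρZ hρZ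
  have hT2 := Groth.Agent.Lib.Helper81.KTrans.kTrans_of_comp_eq hT1 (r ≫ m)
    (i ≫ q).ker.subschemeι (by rw [Category.assoc]; exact hm)
  haveI : Surjective r := ⟨Groth.Agent.Lib.Helper81.Quot.surjective hr⟩
  have hui := Groth.Agent.Lib.Helper81.KTrans.universallyInjective_of_kTrans hT2 r hr.inv m rfl
  haveI : Surjective (r ≫ m) := hTeq ▸ Groth.Agent.Lib.Helper81.KTrans.surjective_toImage (i ≫ q)
  haveI : UniversallyClosed (r ≫ m) := hTeq ▸ inferInstance
  refine ⟨Groth.Agent.Lib.Helper81.KTrans.isUnivHomeo_of m hui (Surjective.of_comp r m)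
    (UniversallyClosed.of_comp_surjective r m), ⟨?_⟩⟩
  have h1 : m.ker ≤ (r ≫ m).ker := Scheme.Hom.le_ker_comp r m
  rw [hTeq, Groth.Agent.Lib.Helper81.KTrans.ker_toImage_eq_bot] at h1
  exact le_bot_iff.mp h1

end Groth.Agent.S13177
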