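import Groth.Statements.S13178
import Groth.Agent.Lib.Helper32.FieldLawNec

set_option autoImplicit false
universe u
open scoped TensorProduct
open ZeroCyc

namespace Groth.Agent.S13178

open Groth.Agent.Lib.Helper32.FieldLawMain Groth.Agent.Lib.Helper32.FieldLawNec

@[reducible] def commRingOfAlgebra {k : Type u} [CommRing k] (S : Type u) [inst : CommSemiring S]
    [Algebra k S] : CommRing S :=
  { Algebra.semiringToRing k (A := S), inst with }

noncomputable def mkMulLaw {k : Type u} [CommRing k] {K : Type u} [CommRing K] [Algebra k K] {d : ℕ}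
    (F : K →ₚₗ[k] k)
    (h : (∀ (S : Type u) [CommRing S] [Algebra k S], F.toFun' S 1 = 1 ∧
        ∀ x y : S ⊗[k] K, F.toFun' S (x * y) = F.toFun' S x * F.toFun' S y) ∧
      ∀ (S : Type u) [CommRing S] [Algebra k S] (a : S) (z : S ⊗[k] K),
        F.toFun' S (a • z) = a ^ d • F.toFun' S z) : PolLaw.MulLaw k K k d where
  law := F
  homog S _ _ s x := by
    let _ := commRingOfAlgebra (k := k) S
    exact h.2 S s x
  mult S _ _ := by
    let _ := commRingOfAlgebra (k := k) S
    exact h.1 S

theorem exists_pow {k : Type u} [Field k] {K : Type u} [Field K] [Algebra k K]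
    [FiniteDimensional k K] (q : ℕ) [hq : ExpChar k q] (e : ℕ) (he : 0 < e)
    (hexp : ∀ x : K, x ^ e ∈ separableClosure k K)
    (hmin : ∀ n : ℕ, 0 < n → (∀ x : K, x ^ n ∈ separableClosure k K) → e ≤ n) :
    ∃ m, e = q ^ m ∧ (m = 0 ∨ 1 < q) := by
  cases hq with
  | zero =>
    refine ⟨0, ?_, Or.inl rfl⟩
    have hsep : Algebra.IsSeparable k K := inferInstance
    have htop := (separableClosure.eq_top_iff k K).mpr hsep
    have := hmin 1 Nat.one_pos (fun x => by rw [htop]; exact IntermediateField.mem_top)
    rw [pow_zero]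
    omega
  | prime hprime =>
    have hK : CharP (separableClosure k K) q :=
      charP_of_injective_algebraMap (algebraMap k (separableClosure k K)).injective q
    obtain ⟨a, e', hnd, rfl⟩ := Nat.exists_eq_pow_mul_and_not_dvd he.ne' q hprime.ne_one
    have hall : ∀ x : K, x ^ q ^ a ∈ separableClosure k K := by
      intro x
      by_cases hw : x ^ q ^ a = 0
      · rw [hw]
        exact zero_mem _
      · have hmem := hexp x
        rw [pow_mul] at hmem
        let c : separableClosure k K := ⟨(x ^ q ^ a) ^ e', hmem⟩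
        have hc : c ≠ 0 := by
          intro h0
          apply hw
          have : (x ^ q ^ a) ^ e' = 0 := congrArg Subtype.val h0
          exact pow_eq_zero_iff (by rintro rfl; simp at hnd) |>.mp this
        have he' : ((e' : ℕ) : separableClosure k K) ≠ 0 := by
          rw [Ne, CharP.cast_eq_zero_iff (separableClosure k K) q]
          exact hnd
        have hsepp := Polynomial.separable_X_pow_sub_C c he' hc
        have hroot : Polynomial.aeval (x ^ q ^ a) (Polynomial.X ^ e' - Polynomial.C c) = 0 := by
          rw [map_sub, map_pow, Polynomial.aeval_X, Polynomial.aeval_C, sub_eq_zero]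
          rfl
        have hsepw : IsSeparable (separableClosure k K) (x ^ q ^ a) :=
          hsepp.of_dvd (minpoly.dvd _ _ hroot)
        obtain ⟨y, hy⟩ := IsPurelyInseparable.inseparable (separableClosure k K) _ hsepw
        rw [← hy]
        exact y.2
    have hle := hmin (q ^ a) (pow_pos hprime.pos a) hall
    have he'pos : 0 < e' := Nat.pos_of_ne_zero (by rintro rfl; simp at he)
    have he'1 : e' = 1 := by
      have h1 : q ^ a * e' ≤ q ^ a * 1 := by rw [mul_one]; exact hle
      have := Nat.le_of_mul_le_mul_left h1 (pow_pos hprime.pos a)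
      omega
    exact ⟨a, by rw [he'1, mul_one], Or.inr hprime.one_lt⟩

/-- Let K/k be a finite field extension with separable degree d_s and exponent e (the least e ≥ 1 such
that x^e is separable over k for every x ∈ K), and let d ≥ 0. The k-points of Γ^d(Spec K / Spec k)
are the multiplicative polynomial laws K → k over k that are homogeneous of degree d; there is at
most one such law, and one exists if and only if the quasi-degree d_s·e divides d. (The
identification of k-points of Γ^d with multiplicative homogeneous laws is the universal property of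
the algebra of divided powers; the row is stated directly for laws.) -/
theorem result {k : Type u} [Field k] {K : Type u} [Field K] [Algebra k K]
    [FiniteDimensional k K] (d e : ℕ) (he : 0 < e) (hexp : ∀ x : K, x ^ e ∈ separableClosure k K)
    (hmin : ∀ n : ℕ, 0 < n → (∀ x : K, x ^ n ∈ separableClosure k K) → e ≤ n) :
    (∀ F F' : K →ₚₗ[k] k,
      ((∀ (S : Type u) [CommRing S] [Algebra k S], F.toFun' S 1 = 1 ∧
        ∀ x y : S ⊗[k] K, F.toFun' S (x * y) = F.toFun' S x * F.toFun' S y) ∧
      ∀ (S : Type u) [CommRing S] [Algebra k S] (a : S) (z : S ⊗[k] K), F.toFun' S (a • z) = a ^ d • F.toFun' S z) →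
      ((∀ (S : Type u) [CommRing S] [Algebra k S], F'.toFun' S 1 = 1 ∧
        ∀ x y : S ⊗[k] K, F'.toFun' S (x * y) = F'.toFun' S x * F'.toFun' S y) ∧
      ∀ (S : Type u) [CommRing S] [Algebra k S] (a : S) (z : S ⊗[k] K), F'.toFun' S (a • z) = a ^ d • F'.toFun' S z) → F = F') ∧
    ((∃ F : K →ₚₗ[k] k, ((∀ (S : Type u) [CommRing S] [Algebra k S], F.toFun' S 1 = 1 ∧
        ∀ x y : S ⊗[k] K, F.toFun' S (x * y) = F.toFun' S x * F.toFun' S y) ∧
      ∀ (S : Type u) [CommRing S] [Algebra k S] (a : S) (z : S ⊗[k] K), F.toFun' S (a • z) = a ^ d • F.toFun' S z)) ↔ Field.finSepDegree k K * e ∣ d) := by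
  obtain ⟨m, rfl, hmq⟩ := exists_pow (ringExpChar k) e he hexp hmin
  have hmin' : m = 0 ∨ ∃ x₀ : K, x₀ ^ (ringExpChar k) ^ (m - 1) ∉ separableClosure k K := by
    rcases hmq with h0 | hq1
    · exact Or.inl h0
    · rcases Nat.eq_zero_or_pos m with h0 | hpos
      · exact Or.inl h0
      · right
        by_contra hcon
        push Not at hcon
        have := hmin ((ringExpChar k) ^ (m - 1)) (pow_pos (by omega) _) hcon
        have hlt : (ringExpChar k) ^ (m - 1) < (ringExpChar k) ^ m :=
          Nat.pow_lt_pow_right hq1 (by omega)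
        omega
  have hds : Field.finSepDegree k K = Module.finrank k (separableClosure k K) :=
    Field.finSepDegree_eq k K
  refine ⟨fun F F' hF hF' => ?_, ⟨?_, ?_⟩⟩
  · exact congrArg PolLaw.MulLaw.law
      (unique (ringExpChar k) m hexp (mkMulLaw F hF) (mkMulLaw F' hF'))
  · rintro ⟨F, hF⟩
    rw [hds]
    exact dvd_of_law (ringExpChar k) m hexp (mkMulLaw F hF) hmin'
  · rintro ⟨i, hi⟩
    rw [hds] at hi
    refine ⟨exLaw (ringExpChar k) m hexp i, fun S _ _ => ⟨exLaw_one _ m hexp i S, exLaw_mul _ m hexp i S⟩,
      fun S _ _ a z => ?_⟩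
    rw [exLaw_smul, hi]

end Groth.Agent.S13178
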