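import Groth.Statements.S13185
import Mathlib
-- import your own Groth.Agent.* helpers here

set_option autoImplicit false
universe u v w x
open GalCoh

namespace Groth.Agent.S13185

/-- Let a group G act by automorphisms on groups A, B, C and let 1 → A → B → C → 1 (maps ι, π) be a
G-equivariant short exact sequence. For G-fixed elements c, c' of C, the connecting map to H¹(G, A)
takes equal values on c and c' if and only if c' = π(b) · c for some G-fixed b in B: the fibres of
the connecting map are the orbits of the fixed points of B acting on the fixed points of C by left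
multiplication. (The published statement is for a Galois group acting on discrete modules; this row
takes an arbitrary group acting on groups, which is what the argument proves.) -/
theorem result {G : Type u} {A : Type v} {B : Type w} {C : Type x}
    [Group G] [Group A] [Group B] [Group C]
    [MulDistribMulAction G A] [MulDistribMulAction G B] [MulDistribMulAction G C]
    {ι : A →* B} {π : B →* C} (h : GpH1.IsGExt G ι π)
    (c c' : MulAction.fixedPoints G C) :
    GpH1.delta0 h c = GpH1.delta0 h c' ↔
      ∃ b : B, b ∈ MulAction.fixedPoints G B ∧ (c' : C) = π b * (c : C) := by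
  set b₀ := (h.surjective c.1).choose with hb₀def
  have hb₀ : π b₀ = c.1 := (h.surjective c.1).choose_spec
  set b₀' := (h.surjective c'.1).choose with hb₀'def
  have hb₀' : π b₀' = c'.1 := (h.surjective c'.1).choose_spec
  have hfix : π b₀ ∈ MulAction.fixedPoints G C := hb₀.symm ▸ c.2
  have hfix' : π b₀' ∈ MulAction.fixedPoints G C := hb₀'.symm ▸ c'.2
  have hd : GpH1.delta0 h c = (h.cocycleOfLift b₀ hfix).cl := rfl
  have hd' : GpH1.delta0 h c' = (h.cocycleOfLift b₀' hfix').cl := rfl
  rw [hd, hd', GpH1.OneCocycle.cl_eq_cl_iff]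
  constructor
  · rintro ⟨a, ha⟩
    refine ⟨b₀' * ι a * b₀⁻¹, ?_, ?_⟩
    · intro σ
      have h1 := congrArg ι (ha σ)
      rw [map_mul, map_mul, map_inv, h.smul_ι, h.ι_cocycleOfLift, h.ι_cocycleOfLift] at h1
      have h2 : σ • b₀' * σ • ι a = b₀' * ι a * b₀⁻¹ * σ • b₀ := by
        have : b₀' * ι a * (b₀⁻¹ * σ • b₀) = b₀' * ι a * ((ι a)⁻¹ * (b₀'⁻¹ * σ • b₀') * σ • ι a) := by
          rw [h1]
        rw [← mul_assoc] at this
        rw [this]
        group
      rw [smul_mul', smul_mul', smul_inv', h2]
      group
    · rw [map_mul, map_mul, map_inv, hb₀, hb₀']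
      have : π (ι a) = 1 := (h.exact _).mpr ⟨a, rfl⟩
      rw [this]
      group
  · rintro ⟨b, hb, hcc⟩
    have h1 : π ((b * b₀)⁻¹ * b₀') = 1 := by
      rw [map_mul, map_inv, map_mul, hb₀, hb₀', hcc]
      group
    obtain ⟨a, ha⟩ := (h.exact _).mp h1
    have hb₀'eq : b₀' = b * b₀ * ι a := by
      rw [ha]; group
    apply GpH1.Cohomologous.symm
    refine ⟨a, fun σ => ?_⟩
    apply h.injective
    rw [map_mul, map_mul, map_inv, h.smul_ι, h.ι_cocycleOfLift, h.ι_cocycleOfLift]
    have hσb : σ • b = b := hb σ
    rw [hb₀'eq, smul_mul', smul_mul', hσb]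
    group

end Groth.Agent.S13185
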