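import Groth.Statements.S13186
import Groth.Agent.S13298
-- import your own Groth.Agent.* helpers here

set_option autoImplicit false
universe u
open GalCoh

namespace Groth.Agent.S13186

section
open Matrix
attribute [local instance] CSAGal.matrixAction GpH1.unitsAction

theorem hilbert90_GL (K L : Type u) [Field K] [Field L]
    [Algebra K L] [FiniteDimensional K L] [IsGalois K L] (n : ℕ)
    (B : (L ≃ₐ[K] L) → GL (Fin n) L)
    (hB : ∀ σ τ : L ≃ₐ[K] L,
      (B σ : Matrix (Fin n) (Fin n) L) * (B τ : Matrix (Fin n) (Fin n) L).map σ =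
        (B (σ * τ) : Matrix (Fin n) (Fin n) L)) :
    ∃ A : GL (Fin n) L, ∀ σ : L ≃ₐ[K] L,
      (B σ : Matrix (Fin n) (Fin n) L) =
        ((A⁻¹ : GL (Fin n) L) : Matrix (Fin n) (Fin n) L) * (A : Matrix (Fin n) (Fin n) L).map σ := by
  have hcoc : GpH1.IsOneCocycle B := by
    intro σ τ
    apply Units.ext
    rw [← hB σ τ]
    rfl
  have h := Groth.Agent.S13298.result K L n (GpH1.OneCocycle.cl ⟨B, hcoc⟩)
  change _ = (GpH1.OneCocycle.trivial : GpH1.OneCocycle (L ≃ₐ[K] L) (GL (Fin n) L)).cl at h
  rw [GpH1.OneCocycle.cl_eq_cl_iff] at h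
  obtain ⟨c, hc⟩ := h
  refine ⟨c, fun σ => ?_⟩
  have := hc σ
  change B σ = c⁻¹ * 1 * σ • c at this
  rw [this, mul_one]
  rfl

end

/-- Let L/K be a finite Galois extension of fields, n a natural number, and B a map from the Galois
group of L over K to the invertible n × n matrices over L such that B(σ) · σ(B(τ)) = B(στ) for all
σ, τ (σ acting on matrices entrywise, στ applying τ first) and det B(σ) = 1 for every σ. Then there
is an invertible matrix A over L of determinant 1 with B(σ) = A⁻¹ · σ(A) for every σ; that is, every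
1-cocycle of the Galois group with values in SL_n(L) is the coboundary of an element of SL_n(L), so
H¹ of the Galois group with values in SL_n(L) is a point. (The published statement says that every
torsor under the special linear group over K is trivial; this row is the finite-Galois-level cocycle
form that its proof establishes.) -/
theorem result (K L : Type u) [Field K] [Field L]
    [Algebra K L] [FiniteDimensional K L] [IsGalois K L] (n : ℕ)
    (B : (L ≃ₐ[K] L) → GL (Fin n) L)
    (hB : ∀ σ τ : L ≃ₐ[K] L,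
      (B σ : Matrix (Fin n) (Fin n) L) * (B τ : Matrix (Fin n) (Fin n) L).map σ =
        (B (σ * τ) : Matrix (Fin n) (Fin n) L))
    (hdet : ∀ σ : L ≃ₐ[K] L, Matrix.det (B σ : Matrix (Fin n) (Fin n) L) = 1) :
    ∃ A : GL (Fin n) L, Matrix.det (A : Matrix (Fin n) (Fin n) L) = 1 ∧ ∀ σ : L ≃ₐ[K] L,
      (B σ : Matrix (Fin n) (Fin n) L) =
        ((A⁻¹ : GL (Fin n) L) : Matrix (Fin n) (Fin n) L) * (A : Matrix (Fin n) (Fin n) L).map σ := by
  obtain ⟨A₀, hA₀⟩ := hilbert90_GL K L n B hB
  -- the determinant of A₀ is Galois-fixed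
  set d : L := Matrix.det (A₀ : Matrix (Fin n) (Fin n) L) with hd
  have hd0 : d ≠ 0 := by
    have := (Matrix.isUnit_iff_isUnit_det _).mp A₀.isUnit
    exact this.ne_zero
  have hfix : ∀ σ : L ≃ₐ[K] L, σ d = d := by
    intro σ
    have h1 := congrArg Matrix.det (hA₀ σ)
    rw [hdet σ, Matrix.det_mul] at h1
    have h2 : Matrix.det ((A₀ : Matrix (Fin n) (Fin n) L).map σ) = σ d := by
      rw [hd]
      exact ((σ : L →+* L).map_det _).symm
    have h3 : Matrix.det ((A₀⁻¹ : GL (Fin n) L) : Matrix (Fin n) (Fin n) L) = d⁻¹ := by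
      have := congrArg Matrix.det (A₀.inv_mul)
      rw [Matrix.det_mul, Matrix.det_one] at this
      exact eq_inv_of_mul_eq_one_left this
    rw [h2, h3] at h1
    field_simp at h1
    exact h1.symm
  rcases Nat.eq_zero_or_pos n with hn | hn
  · subst hn
    refine ⟨1, Matrix.det_isEmpty, fun σ => ?_⟩
    exact Subsingleton.elim _ _
  · obtain ⟨m, rfl⟩ : ∃ m, n = m + 1 := ⟨n - 1, by omega⟩
    let v : Fin (m + 1) → L := Function.update 1 0 d⁻¹
    let v' : Fin (m + 1) → L := Function.update 1 0 d
    have hvv' : v * v' = 1 := by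
      funext i
      by_cases hi : i = 0
      · subst hi
        simp [v, v', hd0]
      · simp [v, v', hi]
    have hv'v : v' * v = 1 := by rw [mul_comm]; exact hvv'
    have hvv'f : (fun i => v i * v' i) = fun _ => (1 : L) := hvv'
    have hv'vf : (fun i => v' i * v i) = fun _ => (1 : L) := hv'v
    let D : GL (Fin (m + 1)) L :=
      ⟨Matrix.diagonal v, Matrix.diagonal v',
        by rw [Matrix.diagonal_mul_diagonal, hvv'f, Matrix.diagonal_one],
        by rw [Matrix.diagonal_mul_diagonal, hv'vf, Matrix.diagonal_one]⟩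
    have hDfix : ∀ σ : L ≃ₐ[K] L, (Matrix.diagonal v).map σ = Matrix.diagonal v := by
      intro σ
      rw [Matrix.diagonal_map (map_zero σ)]
      congr 1
      funext i
      by_cases hi : i = 0
      · subst hi
        simp [v, hfix σ]
      · simp [v, hi]
    have hdetD : Matrix.det (Matrix.diagonal v) = d⁻¹ := by
      rw [Matrix.det_diagonal, Fin.prod_univ_succ]
      simp [v]
    refine ⟨D * A₀, ?_, fun σ => ?_⟩
    · change Matrix.det (Matrix.diagonal v * (A₀ : Matrix (Fin (m + 1)) (Fin (m + 1)) L)) = 1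
      rw [Matrix.det_mul, hdetD, ← hd]
      exact inv_mul_cancel₀ hd0
    · rw [hA₀ σ, mul_inv_rev]
      change _ = ((A₀⁻¹ : GL (Fin (m + 1)) L) : Matrix (Fin (m + 1)) (Fin (m + 1)) L)
          * Matrix.diagonal v'
          * (Matrix.diagonal v * (A₀ : Matrix (Fin (m + 1)) (Fin (m + 1)) L)).map σ
      rw [Matrix.map_mul, hDfix σ, Matrix.mul_assoc, ← Matrix.mul_assoc (Matrix.diagonal v'),
        Matrix.diagonal_mul_diagonal, hv'vf, Matrix.diagonal_one, Matrix.one_mul]

end Groth.Agent.S13186
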