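import Groth.Statements.S13188
import Mathlib.LinearAlgebra.Dimension.Free
import Mathlib.LinearAlgebra.FiniteDimensional.Basic
import Mathlib.Tactic.FieldSimp
import Mathlib.Algebra.MvPolynomial.Rename

set_option autoImplicit false
universe u v w
open Brauer

namespace Groth.Agent.S13188

theorem eval_smul_of_isHomogeneous {K : Type*} [CommSemiring K] {ι : Type*}
    {F : MvPolynomial ι K} {d : ℕ} (hF : F.IsHomogeneous d) (t : K) (x : ι → K) :
    MvPolynomial.eval (fun i => t * x i) F = t ^ d * MvPolynomial.eval x F := by
  rw [MvPolynomial.eval_eq, MvPolynomial.eval_eq, Finset.mul_sum]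
  refine Finset.sum_congr rfl fun s hs => ?_
  simp_rw [mul_pow]
  rw [Finset.prod_mul_distrib, Finset.prod_pow_eq_pow_sum, ← hF.degree_eq_sum_deg_support hs]
  ring


/-- Let K be a field with property C_2 for systems of forms and D a finite-dimensional central division
algebra over K with dim_K D = d². Let N : D → K be multiplicative, a reduced norm of D over K, and
given in the coordinates of a K-basis b of D by a homogeneous polynomial F of degree d, i.e. N(Σ x_i
b_i) = F(x) for every coordinate vector x (the reduced norm of a central simple algebra of dimension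
d² is such a polynomial map of degree d; these data record it). Then N : D → K is surjective. -/
theorem result (K : Type u) [Field K] (hK : Curves.IsCi K 2)
    (D : Type v) [DivisionRing D] [Algebra K D] [Algebra.IsCentral K D] [FiniteDimensional K D]
    (d : ℕ) (hd : Module.finrank K D = d ^ 2)
    (N : D →* K) (hN : CSAGal.IsRedNorm K D N)
    {ι : Type w} [Fintype ι] (b : Module.Basis ι K D)
    (F : MvPolynomial ι K) (hF : F.IsHomogeneous d)
    (hNF : ∀ x : ι → K, N (∑ i, x i • b i) = MvPolynomial.eval x F) :
    Function.Surjective N := by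
  classical
  have hpos : 0 < Module.finrank K D := Module.finrank_pos
  have hd0 : 0 < d := by
    rcases Nat.eq_zero_or_pos d with h | h
    · subst h
      simp at hd
      omega
    · exact h
  have hcard : Fintype.card ι = d ^ 2 := by rw [← hd, Module.finrank_eq_card_basis b]
  have hNne : ∀ x : D, x ≠ 0 → N x ≠ 0 := by
    intro x hx h
    have : N x * N x⁻¹ = 1 := by rw [← map_mul, mul_inv_cancel₀ hx, map_one]
    rw [h, zero_mul] at this
    exact zero_ne_one this
  intro c
  let e : ι ≃ Fin (d ^ 2) := Fintype.equivFinOfCardEq hcard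
  let g : ι → Fin (d ^ 2 + 1) := fun i => Fin.castSucc (e i)
  let G : MvPolynomial (Fin (d ^ 2 + 1)) K :=
    MvPolynomial.rename g F - MvPolynomial.C c * MvPolynomial.X (Fin.last _) ^ d
  have hG : G.IsHomogeneous d :=
    (hF.rename_isHomogeneous).sub (MvPolynomial.isHomogeneous_C_mul_X_pow c _ d)
  obtain ⟨a, ha0, ha⟩ := hK 1 (d ^ 2 + 1) (fun _ => G) (fun _ => d) (fun _ => hG)
    (fun _ => hd0) (by simp)
  have haG := ha 0
  have hev : MvPolynomial.eval (a ∘ g) F = c * a (Fin.last _) ^ d := by
    have : MvPolynomial.eval a G = MvPolynomial.eval (a ∘ g) F - c * a (Fin.last _) ^ d := by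
      simp [G, MvPolynomial.eval_rename]
    rw [this, sub_eq_zero] at haG
    exact haG
  by_cases hy : a (Fin.last _) = 0
  · exfalso
    rw [hy, zero_pow hd0.ne', mul_zero, ← hNF] at hev
    have hx0 : ∑ i, (a ∘ g) i • b i = 0 := by
      by_contra h
      exact hNne _ h hev
    have hli := (Fintype.linearIndependent_iff.mp b.linearIndependent) _ hx0
    apply ha0
    funext j
    refine Fin.lastCases ?_ ?_ j
    · exact hy
    · intro j'
      have := hli (e.symm j')
      simpa [g] using this
  · refine ⟨∑ i, ((a (Fin.last _))⁻¹ * (a ∘ g) i) • b i, ?_⟩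
    rw [hNF, eval_smul_of_isHomogeneous hF, hev, inv_pow, mul_comm c, ← mul_assoc,
      inv_mul_cancel₀ (pow_ne_zero d hy), one_mul]

end Groth.Agent.S13188
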