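import Groth.Statements.S13189
import Mathlib

set_option autoImplicit false
universe u
open CAlg

namespace Groth.Agent.S13189

/-- For a finite field K of cardinality q and n ≥ 0, a polynomial p in n variables over K vanishes at
every point of K^n if and only if p belongs to the ideal generated by the X_i^q − X_i, i = 1, …, n;
in other words that ideal is the kernel of the evaluation homomorphism from K[X_1, …, X_n] to the
ring of K-valued functions on K^n. -/
theorem eq_zero_of_eval_eq_zero' (K : Type u) [Field K] [Fintype K] (n : ℕ)
    (p : MvPolynomial (Fin n) K) (h : ∀ v : Fin n → K, MvPolynomial.eval v p = 0)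
    (hp : p ∈ MvPolynomial.restrictDegree (Fin n) K (Fintype.card K - 1)) : p = 0 := by
  classical
  let e : Fin n ≃ ULift.{u} (Fin n) := Equiv.ulift.symm
  have hinj : Function.Injective e := e.injective
  apply MvPolynomial.rename_injective e hinj
  rw [map_zero]
  refine MvPolynomial.eq_zero_of_eval_eq_zero (ULift.{u} (Fin n)) K _ ?_ ?_
  · intro v
    rw [MvPolynomial.eval_rename]
    exact h _
  · rw [MvPolynomial.mem_restrictDegree] at hp ⊢
    intro s hs i
    rw [MvPolynomial.support_rename_of_injective hinj, Finset.mem_image] at hs
    obtain ⟨t, ht, rfl⟩ := hs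
    have : i = e (e.symm i) := (e.apply_symm_apply i).symm
    rw [this, Finsupp.mapDomain_apply hinj]
    exact hp t ht _

theorem monomial_mem (K : Type u) [Field K] [Fintype K] (n : ℕ) (m : Fin n →₀ ℕ) :
    (MvPolynomial.monomial m (1 : K)) ∈
      (Ideal.span (Set.range fun i : Fin n =>
        (MvPolynomial.X i ^ Fintype.card K - MvPolynomial.X i : MvPolynomial (Fin n) K))).restrictScalars K ⊔
        MvPolynomial.restrictDegree (Fin n) K (Fintype.card K - 1) := by
  classical
  set q := Fintype.card K with hq
  have hq2 : 2 ≤ q := Fintype.one_lt_card
  induction hk : m.degree using Nat.strong_induction_on generalizing m with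
  | _ k ih =>
    by_cases hall : ∀ i, m i ≤ q - 1
    · apply Submodule.mem_sup_right
      rw [MvPolynomial.mem_restrictDegree]
      intro s hs i
      rw [MvPolynomial.support_monomial] at hs
      split_ifs at hs with h1
      · simp at hs
      · rw [Finset.mem_singleton] at hs
        rw [hs]; exact hall i
    · push Not at hall
      obtain ⟨i, hi⟩ := hall
      have hqi : q ≤ m i := by omega
      set m' : Fin n →₀ ℕ := m - Finsupp.single i q with hm'
      have hmm' : m = m' + Finsupp.single i q := by
        rw [hm']
        ext j
        by_cases hj : j = i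
        · subst hj; simp; omega
        · simp [Ne.symm hj]
      have hsplit : MvPolynomial.monomial m (1 : K) =
          MvPolynomial.monomial m' (1 : K) * (MvPolynomial.X i ^ q - MvPolynomial.X i) +
            MvPolynomial.monomial (m' + Finsupp.single i 1) (1 : K) := by
        have e1 : MvPolynomial.monomial m (1 : K) =
            MvPolynomial.monomial m' (1 : K) * MvPolynomial.X i ^ q := by
          rw [MvPolynomial.X_pow_eq_monomial, MvPolynomial.monomial_mul, one_mul, ← hmm']
        have e2 : MvPolynomial.monomial (m' + Finsupp.single i 1) (1 : K) =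
            MvPolynomial.monomial m' (1 : K) * MvPolynomial.X i := by
          rw [MvPolynomial.X, MvPolynomial.monomial_mul, one_mul]
        rw [e1, e2]; ring
      rw [hsplit]
      apply Submodule.add_mem
      · apply Submodule.mem_sup_left
        rw [Submodule.restrictScalars_mem]
        exact Ideal.mul_mem_left _ _ (Ideal.subset_span ⟨i, rfl⟩)
      · apply ih (m' + Finsupp.single i 1).degree _ _ rfl
        rw [← hk, hmm', map_add, map_add, Finsupp.degree_single, Finsupp.degree_single]
        omega

theorem result (K : Type u) [Field K] [Fintype K]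
    (n : ℕ) (p : MvPolynomial (Fin n) K) :
    (∀ a : Fin n → K, MvPolynomial.eval a p = 0) ↔
      p ∈ Ideal.span (Set.range fun i : Fin n =>
        (MvPolynomial.X i ^ Fintype.card K - MvPolynomial.X i : MvPolynomial (Fin n) K)) := by
  classical
  set I := Ideal.span (Set.range fun i : Fin n =>
        (MvPolynomial.X i ^ Fintype.card K - MvPolynomial.X i : MvPolynomial (Fin n) K)) with hI
  have hIvanish : ∀ r ∈ I, ∀ a : Fin n → K, MvPolynomial.eval a r = 0 := by
    intro r hr a
    have hle : I ≤ RingHom.ker (MvPolynomial.eval a) := by
      rw [hI, Ideal.span_le]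
      rintro _ ⟨i, rfl⟩
      simp [RingHom.mem_ker, FiniteField.pow_card]
    exact hle hr
  constructor
  · intro h
    have hmem : p ∈ I.restrictScalars K ⊔
        MvPolynomial.restrictDegree (Fin n) K (Fintype.card K - 1) := by
      rw [MvPolynomial.as_sum p]
      apply Submodule.sum_mem
      intro m _
      have : MvPolynomial.monomial m (MvPolynomial.coeff m p) =
          (MvPolynomial.coeff m p) • MvPolynomial.monomial m (1 : K) := by
        rw [MvPolynomial.smul_monomial, smul_eq_mul, mul_one]
      rw [this]
      exact Submodule.smul_mem _ _ (monomial_mem K n m)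
    obtain ⟨r, hr, p', hp', hsum⟩ := Submodule.mem_sup.mp hmem
    rw [Submodule.restrictScalars_mem] at hr
    have hp'0 : p' = 0 := by
      refine eq_zero_of_eval_eq_zero' K n p' ?_ hp'
      intro v
      have h1 := h v
      rw [← hsum, map_add, hIvanish r hr v, zero_add] at h1
      exact h1
    rw [← hsum, hp'0, add_zero]
    exact hr
  · intro hp a
    exact hIvanish p hp a

end Groth.Agent.S13189
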