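import Groth.Statements.S13192
-- import your own Groth.Agent.* helpers here

set_option autoImplicit false
universe u v
open GalCoh

namespace Groth.Agent.S13192

theorem cocycle_one {G : Type u} {A : Type v}
    [Group G] [Group A] [MulDistribMulAction G A] (a : G → A) (ha : GpH1.IsOneCocycle a) :
    a 1 = 1 := by
  have h := ha 1 1
  rw [one_smul, mul_one] at h
  exact (mul_eq_left).mp h.symm

/-- The twisted action of `G` on `A` attached to a cocycle. -/
@[reducible] def twistedAction {G : Type u} {A : Type v}
    [Group G] [Group A] [MulDistribMulAction G A] (a : G → A) (ha : GpH1.IsOneCocycle a) :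
    MulAction G A where
  smul := fun g e => a g * g • e
  one_smul := fun e => by
    show a 1 * (1 : G) • e = e
    rw [cocycle_one a ha, one_smul, one_mul]
  mul_smul := fun g h e => by
    show a (g * h) * (g * h) • e = a g * g • (a h * h • e)
    rw [ha g h, mul_smul, smul_mul', mul_assoc]

theorem twistedAction_smul {G : Type u} {A : Type v}
    [Group G] [Group A] [MulDistribMulAction G A] (a : G → A) (ha : GpH1.IsOneCocycle a)
    (g : G) (e : A) :
    @HSMul.hSMul G A A (@instHSMul G A (twistedAction a ha).toSMul) g e = a g * g • e := rfl

/-- Let a group G act by automorphisms on a group A and let a : G → A be a 1-cocycle. Then there exist a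
G-equivariant right A-torsor E (a set with a simply transitive right action of A, written m ↦ m·a,
and a left action of G with g(m·a) = (gm)·(ga)) and a point m of E whose attached map is a, i.e. g·m
= m·a(g) for every g in G. (E is taken in the universe of A. The published statement is for a Galois
group acting on discrete modules; this row takes an arbitrary group acting on a group.) -/
theorem result {G : Type u} {A : Type v}
    [Group G] [Group A] [MulDistribMulAction G A] (a : G → A) (ha : GpH1.IsOneCocycle a) :
    ∃ (E : Type v) (_ : MulAction G E) (_ : MulAction Aᵐᵒᵖ E) (m : E),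
      (∀ m₁ m₂ : E, ∃! b : A, m₂ = MulOpposite.op b • m₁) ∧
      (∀ (g : G) (b : A) (e : E), g • (MulOpposite.op b • e) = MulOpposite.op (g • b) • g • e) ∧
      ∀ g : G, g • m = MulOpposite.op (a g) • m := by
  refine ⟨A, twistedAction a ha, Monoid.toOppositeMulAction, (1 : A), ?_, ?_, ?_⟩
  · intro m₁ m₂
    refine ⟨m₁⁻¹ * m₂, ?_, ?_⟩
    · show m₂ = MulOpposite.op (m₁⁻¹ * m₂) • m₁
      rw [op_smul_eq_mul, mul_inv_cancel_left]
    · intro b hb
      have hb' : m₂ = MulOpposite.op b • m₁ := hb
      rw [op_smul_eq_mul] at hb'
      rw [hb', inv_mul_cancel_left]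
  · intro g b e
    rw [twistedAction_smul, twistedAction_smul, op_smul_eq_mul, op_smul_eq_mul, smul_mul',
      mul_assoc]
  · intro g
    rw [twistedAction_smul, op_smul_eq_mul, smul_one, mul_one, one_mul]

end Groth.Agent.S13192
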