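import Groth.Statements.S13202
import Groth.Agent.Lib.Helper87.SmoothMinPrimes

set_option autoImplicit false
universe u
open Hensel

namespace Groth.Agent.S13202

/-- Let R be a Noetherian regular ring (every localization at a prime ideal is a regular local ring) and
Δ ∈ R. The element Δ is étale-universally prime — meaning that for every prime ideal p of R
containing Δ and every strict henselization T of R_p, the image of Δ in T is a prime element —
exactly when for every smooth R-algebra R', every prime ideal q of R' and every strict henselization
T of R'_q, the image of Δ in T is either invertible or a prime element. (Smooth R-algebras and their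
strict henselizations are taken in the universe of R.) -/
theorem result
    (R : Type u) [CommRing R] [IsNoetherianRing R]
    (hreg : ∀ (p : Ideal R) [p.IsPrime], IsRegularLocalRing (Localization.AtPrime p)) (Δ : R) :
    (∀ (p : Ideal R) [p.IsPrime], Δ ∈ p →
        ∀ (T : Type u) [CommRing T] [IsLocalRing T] [Algebra (Localization.AtPrime p) T]
          [IsLocalHom (algebraMap (Localization.AtPrime p) T)]
          [Hensel.IsStrictHenselization (Localization.AtPrime p) T],
          Prime (algebraMap (Localization.AtPrime p) T (algebraMap R (Localization.AtPrime p) Δ))) ↔
    (∀ (R' : Type u) [CommRing R'] [Algebra R R'] [Algebra.Smooth R R'] (q : Ideal R') [q.IsPrime]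
        (T : Type u) [CommRing T] [IsLocalRing T] [Algebra (Localization.AtPrime q) T]
          [IsLocalHom (algebraMap (Localization.AtPrime q) T)]
          [Hensel.IsStrictHenselization (Localization.AtPrime q) T],
        IsUnit (algebraMap (Localization.AtPrime q) T (algebraMap R' (Localization.AtPrime q) (algebraMap R R' Δ))) ∨
          Prime (algebraMap (Localization.AtPrime q) T (algebraMap R' (Localization.AtPrime q) (algebraMap R R' Δ)))) := by
  constructor
  · intro h R' _ _ _ q _ T _ _ _ _ _
    by_cases hΔ : algebraMap R R' Δ ∈ q
    · right
      -- the prime below and its strict henselization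
      set p : Ideal R := q.under R with hp
      haveI : q.LiesOver p := ⟨rfl⟩
      have hΔp : Δ ∈ p := hΔ
      set T₀ := Groth.Agent.Lib.Helper87.Hens.Hsh (Localization.AtPrime p) with hT₀
      haveI := Groth.Agent.Lib.Helper87.Hens.isStrictHenselization_Hsh (Localization.AtPrime p)
      have hprime₀ := h p hΔp T₀
      letI : Algebra R T₀ :=
        ((algebraMap (Localization.AtPrime p) T₀).comp
          (algebraMap R (Localization.AtPrime p))).toAlgebra
      haveI : IsScalarTower R (Localization.AtPrime p) T₀ := IsScalarTower.of_algebraMap_eq' rfl
      letI : Algebra R' T :=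
        ((algebraMap (Localization.AtPrime q) T).comp
          (algebraMap R' (Localization.AtPrime q))).toAlgebra
      haveI : IsScalarTower R' (Localization.AtPrime q) T := IsScalarTower.of_algebraMap_eq' rfl
      letI : Algebra R T := ((algebraMap R' T).comp (algebraMap R R')).toAlgebra
      haveI : IsScalarTower R R' T := IsScalarTower.of_algebraMap_eq' rfl
      haveI : IsLocalHom (Localization.localRingHom p q (algebraMap R R')
          (Ideal.LiesOver.over (P := q) (p := p))) := Localization.isLocalHom_localRingHom _ _ _ _
      obtain ⟨φ, hφloc, hφ⟩ := Groth.Agent.Lib.Helper87.SmoothMinPrimes.exists_strict_map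
        (Localization.AtPrime p) (Localization.AtPrime q) T₀ T
        (Localization.localRingHom p q (algebraMap R R') (Ideal.LiesOver.over (P := q) (p := p)))
      letI : Algebra T₀ T := φ.toAlgebra
      haveI : IsScalarTower R T₀ T := by
        refine IsScalarTower.of_algebraMap_eq' ?_
        ext r
        have h1 := congrArg (fun g => g (algebraMap R (Localization.AtPrime p) r)) hφ
        simp only [RingHom.comp_apply, Localization.localRingHom_to_map] at h1
        exact h1.symm
      haveI hI : (Ideal.span {algebraMap R T₀ Δ}).IsPrime :=
        (Ideal.span_singleton_prime hprime₀.ne_zero).mpr hprime₀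
      obtain ⟨hpr, hff⟩ := Groth.Agent.Lib.Helper87.SmoothMinPrimes.isPrime_map R R' p q T₀ T
        (Ideal.span {algebraMap R T₀ Δ})
      haveI := hff
      rw [Ideal.map_span, Set.image_singleton] at hpr
      have hinj : Function.Injective (algebraMap T₀ T) := FaithfulSMul.algebraMap_injective _ _
      have hne : algebraMap T₀ T (algebraMap R T₀ Δ) ≠ 0 := by
        rw [Ne, map_eq_zero_iff _ hinj]
        exact hprime₀.ne_zero
      have h2 := (Ideal.span_singleton_prime hne).mp hpr
      rw [← IsScalarTower.algebraMap_apply R T₀ T] at h2
      exact h2
    · left
      have hu : IsUnit (algebraMap R' (Localization.AtPrime q) (algebraMap R R' Δ)) :=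
        IsLocalization.map_units (Localization.AtPrime q) (⟨_, hΔ⟩ : q.primeCompl)
      exact hu.map _
  · intro h p _ hΔ T _ _ _ _ _
    rcases h R p T with hu | hp
    · exfalso
      have h1 : algebraMap R (Localization.AtPrime p) Δ ∈
          IsLocalRing.maximalIdeal (Localization.AtPrime p) :=
        (IsLocalization.AtPrime.to_map_mem_maximal_iff _ p _).mpr hΔ
      have h2 : IsUnit (algebraMap R (Localization.AtPrime p) Δ) := isUnit_of_map_unit _ _ hu
      exact h1 h2
    · exact hp

end Groth.Agent.S13202
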