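import Groth.Statements.S13203
-- import your own Groth.Agent.* helpers here

set_option autoImplicit false
universe u
open CategoryTheory AlgebraicGeometry
open Neron

namespace Groth.Agent.S13203

/-- Let S be a scheme, U ⊆ S a schematically dense open subscheme and N → S a smooth S-scheme with the
Néron mapping property with respect to U: for every smooth S-scheme Y, sending an S-morphism Y → N
to its restriction Y ×_S U → N ×_S U is a bijection onto the U-morphisms. Then for every smooth
morphism g : S' → S the base change N ×_S S' → S' (again smooth) has the Néron mapping property with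
respect to g⁻¹(U): for every smooth S'-scheme Y', restriction to g⁻¹(U) is a bijection from
S'-morphisms Y' → N ×_S S' onto g⁻¹(U)-morphisms. (The published statement is for models which are
algebraic spaces, tested against smooth algebraic spaces, and also says that separatedness is
preserved; this row states the case of a smooth scheme model tested against smooth schemes.) -/
theorem result
    {S S' : Scheme.{u}} (g : S' ⟶ S) [Smooth g]
    (U : S.Opens) (hU : CInt.IsSchematicallyDense U) (N : Over S) [Smooth N.hom]
    (hN : ∀ Y : Over S, Smooth Y.hom →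
      Function.Bijective (fun f : Y ⟶ N => (Over.pullback U.ι).map f))
    (Y' : Over S') [Smooth Y'.hom] :
    Function.Bijective (fun f : Y' ⟶ (Over.pullback g).obj N => (Over.pullback (g ⁻¹ᵁ U).ι).map f) := by
  classical
  -- notation
  let ι' := (g ⁻¹ᵁ U).ι
  let Y : Over S := Over.mk (Y'.hom ≫ g)
  have hYsm : Smooth Y.hom := (inferInstance : Smooth (Y'.hom ≫ g))
  have hpb := isPullback_morphismRestrict g U
  -- the comparison `θ : Y' ×_S U ⟶ Y' ×_{S'} g⁻¹U`
  let lam : Limits.pullback (Y'.hom ≫ g) U.ι ⟶ (↑(g ⁻¹ᵁ U) : Scheme.{u}) :=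
    hpb.lift (Limits.pullback.snd (Y'.hom ≫ g) U.ι) (Limits.pullback.fst (Y'.hom ≫ g) U.ι ≫ Y'.hom)
      (by rw [Category.assoc]; exact (Limits.pullback.condition).symm)
  have hlam : lam ≫ ι' = Limits.pullback.fst (Y'.hom ≫ g) U.ι ≫ Y'.hom := hpb.lift_snd _ _ _
  let θ : Limits.pullback (Y'.hom ≫ g) U.ι ⟶ Limits.pullback Y'.hom ι' :=
    Limits.pullback.lift (Limits.pullback.fst (Y'.hom ≫ g) U.ι) lam hlam.symm
  have hθ1 : θ ≫ Limits.pullback.fst Y'.hom ι' = Limits.pullback.fst (Y'.hom ≫ g) U.ι :=
    Limits.pullback.lift_fst _ _ _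
  have hθ2 : θ ≫ Limits.pullback.snd Y'.hom ι' = lam := Limits.pullback.lift_snd _ _ _
  let θ' : Limits.pullback Y'.hom ι' ⟶ Limits.pullback (Y'.hom ≫ g) U.ι :=
    Limits.pullback.lift (Limits.pullback.fst Y'.hom ι') (Limits.pullback.snd Y'.hom ι' ≫ (g ∣_ U))
      (by
        simp only [Category.assoc]
        rw [morphismRestrict_ι, Limits.pullback.condition_assoc])
  have hθ'1 : θ' ≫ Limits.pullback.fst (Y'.hom ≫ g) U.ι = Limits.pullback.fst Y'.hom ι' :=
    Limits.pullback.lift_fst _ _ _
  have hθ'θ : θ' ≫ θ = 𝟙 _ := by
    apply Limits.pullback.hom_ext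
    · rw [Category.assoc, hθ1, hθ'1, Category.id_comp]
    · rw [Category.assoc, hθ2, Category.id_comp, ← cancel_mono ι', Category.assoc, hlam,
        ← Category.assoc, hθ'1, Limits.pullback.condition]
  constructor
  · -- injectivity
    intro f₁ f₂ h12
    have h12' : (Over.pullback ι').map f₁ = (Over.pullback ι').map f₂ := h12
    have hleft' : Limits.pullback.fst Y'.hom ι' ≫ f₁.left = Limits.pullback.fst Y'.hom ι' ≫ f₂.left := by
      have e1 : ((Over.pullback ι').map f₁).left ≫ Limits.pullback.fst _ _ =
          Limits.pullback.fst Y'.hom ι' ≫ f₁.left := Limits.pullback.lift_fst _ _ _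
      have e2 : ((Over.pullback ι').map f₂).left ≫ Limits.pullback.fst _ _ =
          Limits.pullback.fst Y'.hom ι' ≫ f₂.left := Limits.pullback.lift_fst _ _ _
      rw [← e1, ← e2, h12']
    -- the transposes
    have hw : ∀ f : Y' ⟶ (Over.pullback g).obj N,
        (f.left ≫ Limits.pullback.fst N.hom g) ≫ N.hom = Y.hom := by
      intro f
      have := Over.w f
      change f.left ≫ Limits.pullback.snd N.hom g = Y'.hom at this
      rw [Category.assoc, Limits.pullback.condition, ← Category.assoc, this]
      rfl
    let a₁ : Y ⟶ N := Over.homMk (f₁.left ≫ Limits.pullback.fst N.hom g) (hw f₁)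
    let a₂ : Y ⟶ N := Over.homMk (f₂.left ≫ Limits.pullback.fst N.hom g) (hw f₂)
    have ha : a₁ = a₂ := by
      apply (hN Y hYsm).1
      change (Over.pullback U.ι).map a₁ = (Over.pullback U.ι).map a₂
      apply Over.OverMorphism.ext
      change Limits.pullback.lift (Limits.pullback.fst _ _ ≫ a₁.left) (Limits.pullback.snd _ _) _ =
        Limits.pullback.lift (Limits.pullback.fst _ _ ≫ a₂.left) (Limits.pullback.snd _ _) _
      congr 1
      change Limits.pullback.fst (Y'.hom ≫ g) U.ι ≫ f₁.left ≫ Limits.pullback.fst N.hom g =
        Limits.pullback.fst (Y'.hom ≫ g) U.ι ≫ f₂.left ≫ Limits.pullback.fst N.hom g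
      rw [← hθ1, Category.assoc, Category.assoc, ← Category.assoc (Limits.pullback.fst Y'.hom ι'),
        hleft', Category.assoc]
    have ha' : f₁.left ≫ Limits.pullback.fst N.hom g = f₂.left ≫ Limits.pullback.fst N.hom g :=
      congrArg (fun k => k.left) ha
    apply Over.OverMorphism.ext
    apply Limits.pullback.hom_ext
    · exact ha'
    · have h1 := Over.w f₁
      have h2 := Over.w f₂
      change f₁.left ≫ Limits.pullback.snd N.hom g = Y'.hom at h1
      change f₂.left ≫ Limits.pullback.snd N.hom g = Y'.hom at h2
      rw [h1, h2]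
  · -- surjectivity
    intro h
    have hwh : h.left ≫ Limits.pullback.snd (Limits.pullback.snd N.hom g) ι' =
        Limits.pullback.snd Y'.hom ι' := Over.w h
    let kleft : Limits.pullback (Y'.hom ≫ g) U.ι ⟶ Limits.pullback N.hom U.ι :=
      Limits.pullback.lift
        (θ ≫ h.left ≫ Limits.pullback.fst (Limits.pullback.snd N.hom g) ι' ≫
          Limits.pullback.fst N.hom g)
        (Limits.pullback.snd (Y'.hom ≫ g) U.ι)
        (by
          simp only [Category.assoc]
          rw [Limits.pullback.condition (f := N.hom) (g := g),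
            Limits.pullback.condition_assoc (f := Limits.pullback.snd N.hom g) (g := ι'),
            reassoc_of% hwh, reassoc_of% hθ2, reassoc_of% hlam, ← Limits.pullback.condition])
    let k : (Over.pullback U.ι).obj Y ⟶ (Over.pullback U.ι).obj N :=
      Over.homMk kleft (Limits.pullback.lift_snd _ _ _)
    obtain ⟨a, ha⟩ := (hN Y hYsm).2 k
    have ha' : (Over.pullback U.ι).map a = k := ha
    have haw : a.left ≫ N.hom = Y'.hom ≫ g := Over.w a
    let f : Y' ⟶ (Over.pullback g).obj N :=
      Over.homMk (Limits.pullback.lift a.left Y'.hom haw) (Limits.pullback.lift_snd _ _ _)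
    refine ⟨f, ?_⟩
    change (Over.pullback ι').map f = h
    apply Over.OverMorphism.ext
    change Limits.pullback.lift (Limits.pullback.fst Y'.hom ι' ≫ f.left)
      (Limits.pullback.snd Y'.hom ι') _ = h.left
    apply Limits.pullback.hom_ext
    · rw [Limits.pullback.lift_fst]
      apply Limits.pullback.hom_ext
      · -- to N
        change (Limits.pullback.fst Y'.hom ι' ≫ Limits.pullback.lift a.left Y'.hom haw) ≫
          Limits.pullback.fst N.hom g = _
        rw [Category.assoc, Limits.pullback.lift_fst]
        have h3' : Limits.pullback.fst (Y'.hom ≫ g) U.ι ≫ a.left =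
            θ ≫ h.left ≫ Limits.pullback.fst (Limits.pullback.snd N.hom g) ι' ≫
              Limits.pullback.fst N.hom g := by
          have e1 : ((Over.pullback U.ι).map a).left ≫ Limits.pullback.fst N.hom U.ι =
              Limits.pullback.fst (Y'.hom ≫ g) U.ι ≫ a.left := Limits.pullback.lift_fst _ _ _
          have e2 : k.left ≫ Limits.pullback.fst N.hom U.ι =
              θ ≫ h.left ≫ Limits.pullback.fst (Limits.pullback.snd N.hom g) ι' ≫
                Limits.pullback.fst N.hom g := Limits.pullback.lift_fst _ _ _
          rw [← e1, ← e2, ha']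
        have h4 : θ' ≫ (Limits.pullback.fst (Y'.hom ≫ g) U.ι ≫ a.left) =
            θ' ≫ (θ ≫ h.left ≫ Limits.pullback.fst (Limits.pullback.snd N.hom g) ι' ≫
              Limits.pullback.fst N.hom g) := by rw [h3']
        rw [← Category.assoc, hθ'1, ← Category.assoc θ', hθ'θ, Category.id_comp] at h4
        rw [h4]
        simp only [Category.assoc]
        rfl
      · -- to S'
        change (Limits.pullback.fst Y'.hom ι' ≫ Limits.pullback.lift a.left Y'.hom haw) ≫
          Limits.pullback.snd N.hom g = _
        rw [Category.assoc, Limits.pullback.lift_snd]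
        have hc1 : Limits.pullback.fst (Limits.pullback.snd N.hom g) ι' ≫ Limits.pullback.snd N.hom g =
            Limits.pullback.snd (Limits.pullback.snd N.hom g) ι' ≫ ι' := Limits.pullback.condition
        have hc2 : Limits.pullback.fst Y'.hom ι' ≫ Y'.hom =
            h.left ≫ Limits.pullback.fst (Limits.pullback.snd N.hom g) ι' ≫
              Limits.pullback.snd N.hom g := by
          rw [hc1, ← Category.assoc, hwh, Limits.pullback.condition]
        exact hc2
    · rw [Limits.pullback.lift_snd]
      exact hwh.symm

end Groth.Agent.S13203
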