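import Groth.Statements.S13206
import Mathlib.AlgebraicGeometry.Morphisms.Separated

set_option autoImplicit false
universe u
open CategoryTheory AlgebraicGeometry
open AlgGrp

namespace Groth.Agent.S13206

open CategoryTheory.Limits in
theorem aux {X S : Scheme.{u}} (p : X ⟶ S) [IsSeparated p]
    (G : Type u) [Group G] (ρ : G →* Aut X) (hρ : ∀ g : G, (ρ g).hom ≫ p = p) (T : Finset G) :
    ∃ (Z : Scheme.{u}) (i : Z ⟶ X), IsClosedImmersion i ∧ (∀ g ∈ T, i ≫ (ρ g).hom = i) ∧
      ∀ (W : Scheme.{u}) (x : W ⟶ X), (∀ g ∈ T, x ≫ (ρ g).hom = x) → ∃! z : W ⟶ Z, z ≫ i = x := by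
  classical
  induction T using Finset.induction_on with
  | empty =>
    refine ⟨X, 𝟙 X, inferInstance, by simp, fun W x _ => ⟨x, by simp, fun z hz => ?_⟩⟩
    simpa using hz
  | insert g₀ T hg₀ ih =>
    obtain ⟨Z, i, hi, hfix, huniv⟩ := ih
    let ZS : Over S := Over.mk (i ≫ p)
    let XS : Over S := Over.mk p
    let f₁ : ZS ⟶ XS := Over.homMk i rfl
    let f₂ : ZS ⟶ XS := Over.homMk (i ≫ (ρ g₀).hom) (by
      change (i ≫ (ρ g₀).hom) ≫ p = i ≫ p
      rw [Category.assoc, hρ])
    haveI : IsSeparated XS.hom := ‹IsSeparated p›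
    have hιcl : IsClosedImmersion (equalizer.ι f₁ f₂).left := inferInstance
    have hcond : (equalizer.ι f₁ f₂).left ≫ i = (equalizer.ι f₁ f₂).left ≫ i ≫ (ρ g₀).hom := by
      have h1 := congrArg (fun f => f.left) (equalizer.condition f₁ f₂)
      simpa [f₁, f₂] using h1
    refine ⟨(equalizer f₁ f₂).left, (equalizer.ι f₁ f₂).left ≫ i, inferInstance, ?_, ?_⟩
    · intro g hg
      rcases Finset.mem_insert.1 hg with rfl | hg
      · rw [Category.assoc]
        exact hcond.symm
      · rw [Category.assoc, hfix g hg]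
    · intro W x hx
      obtain ⟨z, hz, -⟩ := huniv W x (fun g hg => hx g (Finset.mem_insert_of_mem hg))
      let WS : Over S := Over.mk (x ≫ p)
      let zS : WS ⟶ ZS := Over.homMk z (by
        change z ≫ i ≫ p = x ≫ p
        rw [← Category.assoc, hz])
      have hzeq : zS ≫ f₁ = zS ≫ f₂ := by
        ext
        change z ≫ i = z ≫ i ≫ (ρ g₀).hom
        rw [← Category.assoc, hz, hx g₀ (Finset.mem_insert_self g₀ T)]
      refine ⟨(equalizer.lift zS hzeq).left, ?_, ?_⟩
      · have h1 := congrArg (fun f => f.left) (equalizer.lift_ι zS hzeq)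
        have h2 : (equalizer.lift zS hzeq).left ≫ (equalizer.ι f₁ f₂).left = z := h1
        change (equalizer.lift zS hzeq).left ≫ (equalizer.ι f₁ f₂).left ≫ i = x
        rw [← Category.assoc, h2, hz]
      · intro w hw
        have hw' : w ≫ (equalizer.ι f₁ f₂).left ≫ i = x := hw
        have h1 := congrArg (fun f => f.left) (equalizer.lift_ι zS hzeq)
        have h2 : (equalizer.lift zS hzeq).left ≫ (equalizer.ι f₁ f₂).left = z := h1
        have : Mono ((equalizer.ι f₁ f₂).left ≫ i) := inferInstance
        rw [← cancel_mono ((equalizer.ι f₁ f₂).left ≫ i), hw', ← Category.assoc, h2, hz]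

/-- Let X → S be a separated morphism of schemes and let a finite group G act on X through
S-automorphisms. Then the functor of G-fixed points is represented by a closed subscheme of X: there
are a scheme Z and a closed immersion i : Z → X with i ∘ g = i for all g ∈ G such that every
morphism x : T → X with g ∘ x = x for all g ∈ G factors uniquely through i. (The published statement
is for an algebraic space X over S, also treats the locally separated case and notes compatibility
with base change; this row is the separated case for schemes.) -/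
theorem result
    {X S : Scheme.{u}} (p : X ⟶ S) [IsSeparated p]
    (G : Type u) [Group G] [Finite G] (ρ : G →* Aut X) (hρ : ∀ g : G, (ρ g).hom ≫ p = p) :
    ∃ (Z : Scheme.{u}) (i : Z ⟶ X), IsClosedImmersion i ∧ (∀ g : G, i ≫ (ρ g).hom = i) ∧
      ∀ (T : Scheme.{u}) (x : T ⟶ X), (∀ g : G, x ≫ (ρ g).hom = x) → ∃! z : T ⟶ Z, z ≫ i = x := by
  haveI := Fintype.ofFinite G
  obtain ⟨Z, i, h1, h2, h3⟩ := aux p G ρ hρ Finset.univ
  exact ⟨Z, i, h1, fun g => h2 g (Finset.mem_univ g), fun T x hx => h3 T x (fun g _ => hx g)⟩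

end Groth.Agent.S13206
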