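import Groth.Statements.S13207
import Groth.Agent.Lib.Helper97.SigmaNMP

set_option autoImplicit false
universe u
open CategoryTheory CategoryTheory.Limits AlgebraicGeometry
open Neron

namespace Groth.Agent.S13207

/-- Let (S_i)_{i ∈ I} be a family of schemes, (N_i → S_i)_{i ∈ I} morphisms of schemes, S = ∐ S_i and N
= ∐ N_i with the induced morphism N → S, and U ⊆ S a schematically dense open subscheme with
preimages U_i ⊆ S_i. Then N → S is smooth with the Néron mapping property with respect to U — for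
every smooth S-scheme Y, restriction to U is a bijection from S-morphisms Y → N onto U-morphisms Y
×_S U → N ×_S U — if and only if every N_i → S_i is smooth with the Néron mapping property with
respect to U_i. (The published statement is for algebraic spaces N_i tested against smooth algebraic
spaces, and has the same form for separated models; this row is the not-necessarily-separated case
for schemes tested against smooth schemes.) -/
theorem result
    {I : Type u} (B N : I → Scheme.{u}) (f : ∀ i, N i ⟶ B i)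
    (U : (∐ B).Opens) (hU : CInt.IsSchematicallyDense U) :
    (Smooth (Limits.Sigma.map f) ∧ ∀ Y : Over (∐ B), Smooth Y.hom →
        Function.Bijective (fun g : Y ⟶ Over.mk (Limits.Sigma.map f) => (Over.pullback U.ι).map g)) ↔
    ∀ i, Smooth (f i) ∧ ∀ Y : Over (B i), Smooth Y.hom →
        Function.Bijective (fun g : Y ⟶ Over.mk (f i) => (Over.pullback ((Limits.Sigma.ι B i) ⁻¹ᵁ U).ι).map g) := by
  classical
  -- notation
  have PB : ∀ i, IsPullback (Sigma.ι N i) (f i) (Limits.Sigma.map f) (Sigma.ι B i) :=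
    fun i => Groth.Agent.Lib.Helper97.SigmaNMP.isPullback_sigmaι_map B N f i
  have hιmap : ∀ i, Sigma.ι N i ≫ Limits.Sigma.map f = f i ≫ Sigma.ι B i :=
    fun i => Groth.Agent.Lib.Helper97.SigmaNMP.sigmaι_map B N f i
  have R : ∀ i, IsPullback ((Sigma.ι B i ⁻¹ᵁ U).ι) (Sigma.ι B i ∣_ U) (Sigma.ι B i) U.ι :=
    fun i => (isPullback_morphismRestrict (Sigma.ι B i) U).flip
  constructor
  · rintro ⟨hsm, hNMP⟩ i
    refine ⟨MorphismProperty.of_isPullback (P := @Smooth) (PB i) hsm, ?_⟩
    intro Y hY
    rw [Groth.Agent.Lib.Helper97.SigmaNMP.bijective_pullback_map_iff_extProp]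
    haveI : Smooth Y.hom := hY
    have hY' : Smooth (Over.mk (Y.hom ≫ Sigma.ι B i)).hom :=
      (inferInstance : Smooth (Y.hom ≫ Sigma.ι B i))
    have E0 := (Groth.Agent.Lib.Helper97.SigmaNMP.bijective_pullback_map_iff_extProp U.ι (Over.mk (Y.hom ≫ Sigma.ι B i))
      (Over.mk (Limits.Sigma.map f))).mp (hNMP _ hY')
    have sq : IsPullback (pullback.fst Y.hom (Sigma.ι B i ⁻¹ᵁ U).ι)
        (pullback.snd Y.hom (Sigma.ι B i ⁻¹ᵁ U).ι ≫ (Sigma.ι B i ∣_ U))
        (Y.hom ≫ Sigma.ι B i) U.ι :=
      (IsPullback.of_hasPullback Y.hom (Sigma.ι B i ⁻¹ᵁ U).ι).paste_vert (R i)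
    have E : Groth.Agent.Lib.Helper97.SigmaNMP.ExtProp (pullback.fst Y.hom (Sigma.ι B i ⁻¹ᵁ U).ι) (Y.hom ≫ Sigma.ι B i)
        (Limits.Sigma.map f) :=
      Groth.Agent.Lib.Helper97.SigmaNMP.ExtProp.of_isPullback (Limits.Sigma.map f)
        (IsPullback.of_hasPullback (Y.hom ≫ Sigma.ι B i) U.ι) sq E0
    intro h hh
    change h ≫ f i = _ at hh
    obtain ⟨g', ⟨hg1, hg2⟩, huniq⟩ := E (h ≫ Sigma.ι N i)
      (by rw [Category.assoc, hιmap, ← Category.assoc, hh, Category.assoc])
    refine ⟨(PB i).lift g' Y.hom hg1, ⟨(PB i).lift_snd _ _ _, ?_⟩, ?_⟩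
    · apply (PB i).hom_ext
      · rw [Category.assoc, (PB i).lift_fst, hg2]
      · rw [Category.assoc, (PB i).lift_snd, hh]
    · rintro g₂ ⟨hg₂1, hg₂2⟩
      change g₂ ≫ f i = _ at hg₂1
      have h2 : g₂ ≫ Sigma.ι N i = g' := by
        apply huniq
        refine ⟨?_, ?_⟩
        · rw [Category.assoc, hιmap, ← Category.assoc, hg₂1]
        · rw [← Category.assoc, hg₂2]
      apply (PB i).hom_ext
      · rw [(PB i).lift_fst, h2]
      · rw [(PB i).lift_snd, hg₂1]
  · intro H
    constructor
    · rw [IsZariskiLocalAtSource.iff_of_openCover (P := @Smooth) (sigmaOpenCover N)]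
      intro i
      change Smooth (Sigma.ι N i ≫ Limits.Sigma.map f)
      rw [hιmap]
      haveI := (H i).1
      infer_instance
    · intro Y hY
      rw [Groth.Agent.Lib.Helper97.SigmaNMP.bijective_pullback_map_iff_extProp]
      intro h hh
      change h ≫ Limits.Sigma.map f = _ at hh
      -- notation
      let y := Y.hom
      let p := pullback.fst y U.ι
      let q := pullback.snd y U.ι
      let 𝒱 : Y.left.OpenCover := (sigmaOpenCover B).pullback₁ y
      let a : ∀ i, pullback y (Sigma.ι B i) ⟶ Y.left := fun i => pullback.fst y (Sigma.ι B i)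
      let yi : ∀ i, pullback y (Sigma.ι B i) ⟶ B i := fun i => pullback.snd y (Sigma.ι B i)
      have hay : ∀ i, a i ≫ y = yi i ≫ Sigma.ι B i := fun i => pullback.condition
      have hyi : ∀ i, Smooth (yi i) := fun i =>
        MorphismProperty.pullback_snd (P := @Smooth) _ _ hY
      let p' : ∀ i, pullback p (a i) ⟶ pullback y (Sigma.ι B i) := fun i => pullback.snd p (a i)
      let w : ∀ i, pullback p (a i) ⟶ pullback y U.ι := fun i => pullback.fst p (a i)
      have hwp : ∀ i, w i ≫ p = p' i ≫ a i := fun i => pullback.condition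
      have hpy : p ≫ y = q ≫ U.ι := pullback.condition
      -- the extension property on each piece
      have hq'c : ∀ i, (w i ≫ q) ≫ U.ι = (p' i ≫ yi i) ≫ Sigma.ι B i := by
        intro i
        rw [Category.assoc, ← hpy, ← Category.assoc, hwp, Category.assoc, hay, Category.assoc]
      let q' : ∀ i, pullback p (a i) ⟶ ((Sigma.ι B i ⁻¹ᵁ U : (B i).Opens) : Scheme.{u}) :=
        fun i => (R i).lift (p' i ≫ yi i) (w i ≫ q) (hq'c i).symm
      have hq'1 : ∀ i, q' i ≫ (Sigma.ι B i ⁻¹ᵁ U).ι = p' i ≫ yi i := fun i => (R i).lift_fst _ _ _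
      have hq'2 : ∀ i, q' i ≫ (Sigma.ι B i ∣_ U) = w i ≫ q := fun i => (R i).lift_snd _ _ _
      have sq : ∀ i, IsPullback (p' i) (q' i) (yi i) (Sigma.ι B i ⁻¹ᵁ U).ι := by
        intro i
        have big : IsPullback (p' i) (w i ≫ q) (a i ≫ y) U.ι :=
          (IsPullback.of_hasPullback p (a i)).flip.paste_vert (IsPullback.of_hasPullback y U.ι)
        rw [hay, ← hq'2] at big
        exact IsPullback.of_bot big (hq'1 i).symm (R i)
      have E : ∀ i, Groth.Agent.Lib.Helper97.SigmaNMP.ExtProp (p' i) (yi i) (f i) := by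
        intro i
        have E0 := (Groth.Agent.Lib.Helper97.SigmaNMP.bijective_pullback_map_iff_extProp (Sigma.ι B i ⁻¹ᵁ U).ι (Over.mk (yi i))
          (Over.mk (f i))).mp ((H i).2 (Over.mk (yi i)) (hyi i))
        exact Groth.Agent.Lib.Helper97.SigmaNMP.ExtProp.of_isPullback (f i)
          (IsPullback.of_hasPullback (yi i) (Sigma.ι B i ⁻¹ᵁ U).ι) (sq i) E0
      -- the local data
      have hh'c : ∀ i, (w i ≫ h) ≫ Limits.Sigma.map f = (p' i ≫ yi i) ≫ Sigma.ι B i := by
        intro i
        rw [Category.assoc, hh]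
        change w i ≫ p ≫ y = _
        rw [← Category.assoc, hwp, Category.assoc, hay, Category.assoc]
      let h' : ∀ i, pullback p (a i) ⟶ N i := fun i => (PB i).lift (w i ≫ h) (p' i ≫ yi i) (hh'c i)
      have hh'1 : ∀ i, h' i ≫ Sigma.ι N i = w i ≫ h := fun i => (PB i).lift_fst _ _ _
      have hh'2 : ∀ i, h' i ≫ f i = p' i ≫ yi i := fun i => (PB i).lift_snd _ _ _
      choose g hg huniq using fun i => E i (h' i) (hh'2 i)
      have hg1 : ∀ i, g i ≫ f i = yi i := fun i => (hg i).1
      have hg2 : ∀ i, p' i ≫ g i = h' i := fun i => (hg i).2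
      -- gluing
      have hcompat : ∀ i j : I, pullback.fst (𝒱.f i) (𝒱.f j) ≫ g i ≫ Sigma.ι N i =
          pullback.snd (𝒱.f i) (𝒱.f j) ≫ g j ≫ Sigma.ι N j := by
        intro i j
        by_cases hij : i = j
        · subst hij
          have : pullback.fst (𝒱.f i) (𝒱.f i) = pullback.snd (𝒱.f i) (𝒱.f i) := by
            haveI : Mono (𝒱.f i) := by
              change Mono (pullback.fst y (Sigma.ι B i))
              infer_instance
            rw [← cancel_mono (𝒱.f i)]
            exact pullback.condition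
          rw [this]
        · let F1 : pullback (𝒱.f i) (𝒱.f j) ⟶ pullback y (Sigma.ι B i) :=
            pullback.fst (𝒱.f i) (𝒱.f j)
          let F2 : pullback (𝒱.f i) (𝒱.f j) ⟶ pullback y (Sigma.ι B j) :=
            pullback.snd (𝒱.f i) (𝒱.f j)
          have e1 : F1 ≫ a i = F2 ≫ a j := pullback.condition
          have e2 : F1 ≫ yi i ≫ Sigma.ι B i = F2 ≫ yi j ≫ Sigma.ι B j := by
            rw [← hay, ← hay, ← Category.assoc, e1, Category.assoc]
          haveI : IsEmpty ↑(pullback (𝒱.f i) (𝒱.f j)) := by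
            refine isEmpty_of_commSq_sigmaι_of_ne (g := B)
              (a := F1 ≫ yi i) (b := F2 ≫ yi j) ⟨?_⟩ hij
            rw [Category.assoc, Category.assoc]
            exact e2
          exact (isInitialOfIsEmpty).hom_ext _ _
      let G : Y.left ⟶ ∐ N := 𝒱.glueMorphisms (fun i => g i ≫ Sigma.ι N i) hcompat
      have hG : ∀ i, a i ≫ G = g i ≫ Sigma.ι N i := fun i =>
        𝒱.ι_glueMorphisms (fun i => g i ≫ Sigma.ι N i) hcompat i
      refine ⟨G, ⟨?_, ?_⟩, ?_⟩
      · apply 𝒱.hom_ext
        intro i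
        change a i ≫ G ≫ Limits.Sigma.map f = a i ≫ y
        rw [← Category.assoc, hG, Category.assoc, hιmap, ← Category.assoc, hg1, hay]
      · apply (𝒱.pullback₁ p).hom_ext
        intro i
        change w i ≫ p ≫ G = w i ≫ h
        rw [← Category.assoc, hwp, Category.assoc, hG, ← Category.assoc, hg2, hh'1]
      · rintro G₂ ⟨hG₂1, hG₂2⟩
        change G₂ ≫ Limits.Sigma.map f = y at hG₂1
        change p ≫ G₂ = h at hG₂2
        apply 𝒱.hom_ext
        intro i
        change a i ≫ G₂ = a i ≫ G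
        rw [hG]
        have hc : (a i ≫ G₂) ≫ Limits.Sigma.map f = yi i ≫ Sigma.ι B i := by
          rw [Category.assoc, hG₂1, hay]
        let g₂ : pullback y (Sigma.ι B i) ⟶ N i := (PB i).lift (a i ≫ G₂) (yi i) hc
        have hg₂a : g₂ ≫ Sigma.ι N i = a i ≫ G₂ := (PB i).lift_fst _ _ _
        have hg₂b : g₂ ≫ f i = yi i := (PB i).lift_snd _ _ _
        have : g₂ = g i := by
          apply huniq i
          refine ⟨hg₂b, ?_⟩
          apply (PB i).hom_ext
          · rw [Category.assoc, hg₂a, hh'1, ← Category.assoc, ← hwp, Category.assoc, hG₂2]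
          · rw [Category.assoc, hg₂b, hh'2]
        rw [← this, hg₂a]

end Groth.Agent.S13207
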