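import Groth.Statements.S13209
import Groth.Agent.Lib.Helper30.AlgSpAtlas

set_option autoImplicit false
universe u
open CategoryTheory CategoryTheory.Limits AlgebraicGeometry
open Neron
open Groth.Agent.Lib.Helper30.AlgSpAtlas

namespace Groth.Agent.S13209

/-- Let S be a scheme, U ⊆ S a schematically dense open subscheme and N → S a smooth S-scheme with the
Néron mapping property for schemes with respect to U: for every smooth S-scheme Y, composition with
the projection Y ×_S U → Y is a bijection from S-morphisms Y → N onto S-morphisms Y ×_S U → N
(equivalently, onto U-morphisms Y ×_S U → N ×_S U). Then N also has the Néron mapping property with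
respect to smooth algebraic spaces: for every algebraic space F over S (an fppf sheaf of sets on
S-schemes with representable diagonal and an étale surjective chart from a scheme) whose structure
map to h_S is smooth, composition with the first projection F × h_U → F is a bijection from
morphisms of sheaves F → h_N onto morphisms F × h_U → h_N. -/
theorem result
    {S : Scheme.{u}} (U : S.Opens) (hU : CInt.IsSchematicallyDense U) (N : Over S) [Smooth N.hom]
    (hN : ∀ Y : Over S, Smooth Y.hom →
      Function.Bijective (fun g : Y ⟶ N => (Over.mapPullbackAdj U.ι).counit.app Y ≫ g))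
    (F : AlgSp.Sp S) (hF : AlgSp.IsAlgSpace F)
    (sF : F ⟶ (AlgSp.yon S).obj (Over.mk (𝟙 S))) (hsm : AlgSp.LocP @Smooth sF) :
    Function.Bijective (fun φ : F ⟶ (AlgSp.yon S).obj N =>
      (Limits.prod.fst : F ⨯ (AlgSp.yon S).obj (Over.mk U.ι) ⟶ F) ≫ φ) := by
  obtain ⟨X, p, hE, hS⟩ := hF.atlas
  have := epi_of_atlas p hE hS
  obtain ⟨R, s, t, hpb, hs, ht⟩ := exists_kernelPair p hE
  have hXsm : Smooth X.hom := prop_of_chart sF hsm p hE
  have hRsm : Smooth R.hom :=
    prop_of_chart sF hsm ((AlgSp.yon S).map s ≫ p) (repWith_etale_map_comp p hE s hs)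
  exact bijective_res_of_epi p hpb (bijective_res_yon U.ι X N (hN X hXsm))
    (bijective_res_yon U.ι R N (hN R hRsm)).1

end Groth.Agent.S13209
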