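import Groth.Statements.S1323
import Groth.Agent.Lib.Helper6.ThickFinite
import Groth.Agent.S1317
import Groth.Agent.S1320

set_option autoImplicit false
universe u
open FlatMor

namespace Groth.Agent.S1323

open AlgebraicGeometry CategoryTheory Limits in
/-- Let S ⟶ S' be a finite order thickening, let X' ⟶ Y' be a morphism of schemes over S' with X' flat
over S', and let X ⟶ Y be its base change to S. Then X ⟶ Y is finite locally free of rank d if and
only if X' ⟶ Y' is. -/
theorem result (d : ℕ) {X X' Y Y' S S' : Scheme.{u}} (iX : X ⟶ X') (iY : Y ⟶ Y') (iS : S ⟶ S')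
    (f : X ⟶ Y) (f' : X' ⟶ Y') (g : Y ⟶ S) (g' : Y' ⟶ S')
    (hS : MoreMor.IsFiniteOrderThickening iS) (hcX : IsPullback iX (f ≫ g) (f' ≫ g') iS) (hcY : IsPullback iY g g' iS)
    (w : iX ≫ f' = f ≫ iY) [Flat (f' ≫ g')] :
    Mor2.IsFinLocFreeOfDeg d f ↔ Mor2.IsFinLocFreeOfDeg d f' := by
  open Groth.Agent.Lib.Helper6 in
  have hpb : IsPullback iX f f' iY := ThickAffine.isPullback_left hcX hcY w
  have hY : MoreMor.IsThickening iY := Thick.baseChange hS.1 hcY.flip
  have hsurj : Function.Surjective iY := hY.2.surj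
  constructor
  · rintro ⟨⟨hfin, hflat, hfp⟩, hrk⟩
    have hflat' : Flat f' := (Groth.Agent.S1317.result iX iY iS f f' g g' hS hcX hcY w).1 hflat
    have hfp' : LocallyOfFinitePresentation f' :=
      (Groth.Agent.S1320.result iX iY iS f f' g g' hS hcX hcY w).1 hfp
    have hfin' : IsFinite f' := Thick.isFinite_of_thickening hY hpb hfin
    refine ⟨⟨hfin', hflat', hfp'⟩, fun y' => ?_⟩
    obtain ⟨y, rfl⟩ := hsurj y'
    rw [← Scheme.Hom.finrank_of_isPullback iX f f' iY hpb y]
    exact hrk y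
  · rintro ⟨⟨hfin', hflat', hfp'⟩, hrk⟩
    refine ⟨⟨MorphismProperty.of_isPullback hpb hfin', MorphismProperty.of_isPullback hpb hflat',
      MorphismProperty.of_isPullback hpb hfp'⟩, fun y => ?_⟩
    rw [Scheme.Hom.finrank_of_isPullback iX f f' iY hpb y]
    exact hrk (iY y)

end Groth.Agent.S1323
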