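import Groth.Statements.S1333
import Mathlib
import Groth.Agent.S0402
import Groth.Agent.S9355
import Groth.Agent.Lib.Helper73.DimFormula.FibreDimSemi

set_option autoImplicit false
universe u
open FlatMor

namespace Groth.Agent.S1333

private lemma lc_compl {Y : Type*} [TopologicalSpace Y] {s : Set Y}
    (hs : Topology.IsLocallyConstructible s) : Topology.IsLocallyConstructible sᶜ := by
  intro x
  obtain ⟨U, hU, hUo, hUs⟩ := hs x
  exact ⟨U, hU, hUo, hUs.compl⟩

open AlgebraicGeometry CategoryTheory Limits in
private lemma isLocallyConstructible_le {X Y : Scheme.{u}} (f : X ⟶ Y)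
    [LocallyOfFinitePresentation f] [QuasiCompact f] (d : ℕ) :
    Topology.IsLocallyConstructible
      {y : ↑Y | topologicalKrullDim ↑(f.fiber y) ≤ ((d : ℕ) : WithBot ℕ∞)} := by
  have hU : Topology.IsLocallyConstructible {x : ↑X | FlatMor.fibreDimAt f x ≤ d} :=
    (Groth.Agent.S9355.result f d).isLocallyConstructible (Groth.Agent.S0402.result f d)
  have h1 := lc_compl (f.isLocallyConstructible_image (lc_compl hU))
  convert h1 using 1
  ext y
  simp only [Set.mem_setOf_eq, Set.mem_compl_iff, Set.mem_image, not_exists, not_and]
  rw [Groth.Agent.Lib.Helper73.topologicalKrullDim_fiber_le_iff f y d]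
  constructor
  · intro h x hx hxy
    exact hx (h x hxy)
  · intro h x hxy
    by_contra hx
    exact h x hx hxy

open AlgebraicGeometry CategoryTheory Limits in
private lemma exists_le {X Y : Scheme.{u}} (f : X ⟶ Y)
    [LocallyOfFiniteType f] [QuasiCompact f] (y : Y) :
    ∃ d : ℕ, topologicalKrullDim ↑(f.fiber y) ≤ ((d : ℕ) : WithBot ℕ∞) := by
  let W : ℕ → Set ↑(f.fiber y) := fun d => (f.fiberι y) ⁻¹' {x : ↑X | FlatMor.fibreDimAt f x ≤ d}
  have hWo : ∀ d, IsOpen (W d) := fun d =>
    (Groth.Agent.S0402.result f d).preimage (f.fiberι y).continuous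
  have hWcov : (Set.univ : Set ↑(f.fiber y)) ⊆ ⋃ d, W d := by
    intro z _
    obtain ⟨d, hd⟩ := Groth.Agent.Lib.Helper73.exists_fibreDimAt_eq_natCast f (f.fiberι y z)
    exact Set.mem_iUnion.mpr ⟨d, hd.le⟩
  have hmono : Directed (· ⊆ ·) W := by
    refine Monotone.directed_le ?_
    intro a b hab z hz
    exact le_trans (show FlatMor.fibreDimAt f (f.fiberι y z) ≤ a from hz) (by exact_mod_cast hab)
  obtain ⟨d, hd⟩ := isCompact_univ.elim_directed_cover W hWo hWcov hmono
  refine ⟨d, ?_⟩
  rw [Groth.Agent.Lib.Helper73.topologicalKrullDim_fiber_le_iff f y d]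
  intro x hx
  have : x ∈ Set.range (f.fiberι y) := by rw [f.range_fiberι y]; exact hx
  obtain ⟨z, rfl⟩ := this
  exact hd (Set.mem_univ z)

open AlgebraicGeometry CategoryTheory Limits in
/-- For a morphism of finite presentation (locally of finite presentation, quasi-compact,
quasi-separated), each level set of the function sending a point of the target to the dimension of
its fibre is locally constructible. -/
theorem result {X Y : Scheme.{u}} (f : X ⟶ Y) [LocallyOfFinitePresentation f] [QuasiCompact f] [QuasiSeparated f]
    (n : WithBot ℕ∞) :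
    Topology.IsLocallyConstructible {y : ↑Y | topologicalKrullDim ↑(f.fiber y) = n} := by
  have hbot : Topology.IsLocallyConstructible {y : ↑Y | topologicalKrullDim ↑(f.fiber y) = ⊥} := by
    have h1 := lc_compl (f.isLocallyConstructible_image (s := Set.univ) Topology.IsLocallyConstructible.univ)
    convert h1 using 1
    ext y
    simp only [Set.mem_setOf_eq, Set.mem_compl_iff, Set.image_univ]
    exact Groth.Agent.Lib.Helper73.topologicalKrullDim_fiber_eq_bot_iff f y
  induction n using WithBot.recBotCoe with
  | bot => exact hbot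
  | coe n =>
    induction n using ENat.recTopCoe with
    | top =>
      convert Topology.IsLocallyConstructible.empty using 1
      ext y
      simp only [Set.mem_setOf_eq, Set.mem_empty_iff_false, iff_false]
      intro h
      obtain ⟨d, hd⟩ := exists_le f y
      rw [h] at hd
      have h4 : ((⊤ : ℕ∞) : WithBot ℕ∞) ≤ (((d : ℕ) : ℕ∞) : WithBot ℕ∞) := hd
      rw [WithBot.coe_le_coe] at h4
      exact absurd h4 (by simp)
    | coe d =>
      rcases Nat.eq_zero_or_pos d with rfl | hd
      · have h1 := (isLocallyConstructible_le f 0).inter (lc_compl hbot)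
        convert h1 using 1
        ext y
        simp only [Set.mem_setOf_eq, Set.mem_inter_iff, Set.mem_compl_iff]
        constructor
        · intro h
          rw [h]
          exact ⟨le_rfl, by simp⟩
        · rintro ⟨h1, h2⟩
          refine le_antisymm h1 ?_
          obtain ⟨m, hm⟩ := WithBot.ne_bot_iff_exists.mp h2
          rw [← hm]
          have : (0 : ℕ∞) ≤ m := zero_le
          exact_mod_cast this
      · obtain ⟨e, rfl⟩ : ∃ e, d = e + 1 := ⟨d - 1, by omega⟩
        have h1 := (isLocallyConstructible_le f (e + 1)).inter (lc_compl (isLocallyConstructible_le f e))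
        convert h1 using 1
        ext y
        simp only [Set.mem_setOf_eq, Set.mem_inter_iff, Set.mem_compl_iff]
        constructor
        · intro h
          rw [h]
          refine ⟨le_rfl, ?_⟩
          intro h'
          have : ((e + 1 : ℕ) : WithBot ℕ∞) ≤ ((e : ℕ) : WithBot ℕ∞) := h'
          have := (Nat.cast_le (α := WithBot ℕ∞)).mp this
          omega
        · rintro ⟨h1, h2⟩
          refine le_antisymm h1 ?_
          rw [not_le] at h2
          obtain ⟨m, hm⟩ := WithBot.ne_bot_iff_exists.mp (ne_bot_of_gt h2)
          rw [← hm] at h2 ⊢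
          have h3 : ((e : ℕ) : ℕ∞) < m := by exact_mod_cast h2
          have := Order.add_one_le_of_lt h3
          exact_mod_cast this

end Groth.Agent.S1333
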