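import Groth.Statements.S13341
import Mathlib.AlgebraicGeometry.Morphisms.Separated

set_option autoImplicit false
open CategoryTheory
universe u
open FCompl

namespace Groth.Agent.S13341

open CategoryTheory.Limits AlgebraicGeometry

theorem graph_isPullback {C : Type*} [Category C] [HasPullbacks C] {X X' Y Y' S S' : C}
    (ιX : X ⟶ X') (ιY : Y ⟶ Y') (ιS : S ⟶ S') (p : X ⟶ S) (p' : X' ⟶ S') (q : Y ⟶ S) (q' : Y' ⟶ S')
    (f : X ⟶ Y) (f' : X' ⟶ Y') [Mono ιY]
    (e₁ : p ≫ ιS = ιX ≫ p') (e₂ : q ≫ ιS = ιY ≫ q') (ef : f ≫ ιY = ιX ≫ f')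
    (w : 𝟙 X ≫ p = f ≫ q) (w' : 𝟙 X' ≫ p' = f' ≫ q') :
    IsPullback ιX (pullback.lift (𝟙 X) f w) (pullback.lift (𝟙 X') f' w')
      (pullback.map p q p' q' ιX ιY ιS e₁ e₂) := by
  refine ⟨⟨?_⟩, ⟨PullbackCone.IsLimit.mk _ (fun s => s.snd ≫ pullback.fst p q) ?_ ?_ ?_⟩⟩
  · apply pullback.hom_ext
    · simp only [Category.assoc, pullback.lift_fst, pullback.lift_fst_assoc, Category.comp_id,
        Category.id_comp]
    · simp only [Category.assoc, pullback.lift_snd, pullback.lift_snd_assoc, ef]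
  · intro s
    have h1 := s.condition =≫ pullback.fst p' q'
    simp only [Category.assoc, pullback.lift_fst, Category.comp_id] at h1
    rw [Category.assoc, h1]
  · intro s
    have h1 := s.condition =≫ pullback.fst p' q'
    have h2 := s.condition =≫ pullback.snd p' q'
    simp only [Category.assoc, pullback.lift_fst, pullback.lift_snd, Category.comp_id] at h1 h2
    apply pullback.hom_ext
    · simp only [Category.assoc, pullback.lift_fst, Category.comp_id]
    · simp only [Category.assoc, pullback.lift_snd]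
      rw [← cancel_mono ιY, Category.assoc, Category.assoc, ef, Category.assoc, ← h2, h1,
        Category.assoc, Category.assoc]
  · intro s m h1 h2
    have := h2 =≫ pullback.fst p q
    simpa only [Category.assoc, pullback.lift_fst, Category.comp_id] using this

theorem adic_graph {𝔛 𝔜 𝔖 : FSch.Sys.{u}} (h𝔜 : 𝔜.IsFormal) (p : 𝔛 ⟶ 𝔖) (q : 𝔜 ⟶ 𝔖) (f : 𝔛 ⟶ 𝔜) (w : f ≫ q = p) :
    FSch.IsAdicHom (FSch.graph f p q w) := by
  intro n
  have hm : Mono (𝔜.ι n) := by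
    have := (h𝔜 n).1
    infer_instance
  exact graph_isPullback (𝔛.ι n) (𝔜.ι n) (𝔖.ι n) _ _ _ _ _ _ ((p : FSch.Hom 𝔛 𝔖).comm n)
    ((q : FSch.Hom 𝔜 𝔖).comm n) ((f : FSch.Hom 𝔛 𝔜).comm n) _ _



open AlgebraicGeometry in
/-- Formal schemes are presented as locally Noetherian adic systems of thickenings and the fibre product
is taken levelwise (it presents the fibre product of formal schemes since one factor is adic over
the base). Let 𝔖 be a locally Noetherian formal system, 𝔛 and 𝔜 locally Noetherian formal systems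
over 𝔖 such that 𝔛 or 𝔜 is of finite type over 𝔖, and 𝔜 separated over 𝔖 at level 0. Then for every
𝔖-morphism f : 𝔛 → 𝔜 the graph morphism 𝔛 → 𝔛 ×_𝔖 𝔜 is a closed immersion: adic, with level 0 a
closed immersion. -/
theorem result {𝔛 𝔜 𝔖 : FSch.Sys.{u}} (h𝔖 : 𝔖.IsLocNoethFormal) (h𝔛 : 𝔛.IsLocNoethFormal)
    (h𝔜 : 𝔜.IsLocNoethFormal) (p : 𝔛 ⟶ 𝔖) (q : 𝔜 ⟶ 𝔖) (hpq : FSch.IsFiniteTypeHom p ∨ FSch.IsFiniteTypeHom q)
    (hq : IsSeparated ((q : FSch.Hom 𝔜 𝔖).app 0)) (f : 𝔛 ⟶ 𝔜) (w : f ≫ q = p) :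
    FSch.IsClosedImmHom (FSch.graph f p q w) := by
  refine ⟨adic_graph h𝔜.1 p q f w, ?_⟩
  subst w
  exact inferInstanceAs (IsClosedImmersion (pullback.lift (𝟙 _) ((f : FSch.Hom 𝔛 𝔜).app 0)
    (Category.id_comp (((f : FSch.Hom 𝔛 𝔜).app 0) ≫ ((q : FSch.Hom 𝔜 𝔖).app 0)))))

end Groth.Agent.S13341
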