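import Groth.Statements.S13342
import Mathlib.AlgebraicGeometry.IdealSheaf.Basic

set_option autoImplicit false
open CategoryTheory CategoryTheory.Limits
universe u
open FCompl

namespace Groth.Agent.S13342

open AlgebraicGeometry

theorem resLE_closedImm {X Y : Scheme.{u}} (f : X ⟶ Y) [IsClosedImmersion f] (W : Y.Opens) (V : X.Opens)
    (hV : V = f ⁻¹ᵁ W) (e : V ≤ f ⁻¹ᵁ W) : IsClosedImmersion (f.resLE W V e) := by
  subst hV
  rw [Scheme.Hom.resLE_eq_morphismRestrict]
  infer_instance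

theorem resLE_surj {X Y : Scheme.{u}} (f : X ⟶ Y) (hf : Function.Surjective f.base) (W : Y.Opens) (V : X.Opens)
    (hV : V = f ⁻¹ᵁ W) (e : V ≤ f ⁻¹ᵁ W) : Function.Surjective (f.resLE W V e).base := by
  intro y
  obtain ⟨x, hx⟩ := hf y.1
  have hxV : x ∈ V := by
    rw [hV]
    change f.base x ∈ W
    rw [hx]; exact y.2
  refine ⟨⟨x, hxV⟩, ?_⟩
  apply Subtype.ext
  rw [← hx]
  exact Scheme.Hom.coe_resLE_apply f e ⟨x, hxV⟩

theorem resLE_ker {X Y : Scheme.{u}} (f : X ⟶ Y) [QuasiCompact f] (W : Y.Opens) (V : X.Opens)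
    (hV : V = f ⁻¹ᵁ W) (e : V ≤ f ⁻¹ᵁ W) (A : W.toScheme.affineOpens) :
    (f.resLE W V e).ker.ideal A = f.ker.ideal ⟨W.ι ''ᵁ A, A.2.image_of_isOpenImmersion _⟩ := by
  subst hV
  have := Scheme.Hom.resLE_eq_morphismRestrict f (U := W)
  rw [this]
  exact Scheme.ker_morphismRestrict_ideal f W A

theorem toX_preimage (𝔛 : FSch.Sys.{u}) (h : 𝔛.IsFormal) (U : (𝔛.X 0).Opens) (n : ℕ) :
    𝔛.lvU h 0 U = (𝔛.toX n) ⁻¹ᵁ (𝔛.lvU h n U) := by
  induction n with
  | zero => rfl
  | succ n ih =>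
    change _ = (𝔛.toX n ≫ 𝔛.ι n) ⁻¹ᵁ _
    rw [Scheme.Hom.comp_preimage, 𝔛.lvU_succ h n U]
    exact ih

theorem ker_of_comm {X Y : Scheme.{u}} (f : X ⟶ Y) [QuasiCompact f] (W : Y.Opens) (V : X.Opens)
    (hV : V = f ⁻¹ᵁ W) (g : V.toScheme ⟶ W.toScheme) (hg : g ≫ W.ι = V.ι ≫ f)
    (A : W.toScheme.affineOpens) :
    g.ker.ideal A = f.ker.ideal ⟨W.ι ''ᵁ A, A.2.image_of_isOpenImmersion _⟩ := by
  have : g = f.resLE W V hV.le := by
    rw [← cancel_mono W.ι, hg, Scheme.Hom.resLE_comp_ι]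
  rw [this]
  exact resLE_ker f W V hV _ A



open AlgebraicGeometry in
/-- The formal prescheme induced on an open subset of a formal prescheme (resp. of a locally Noetherian
formal prescheme, resp. of a Noetherian formal prescheme) is a formal prescheme (resp. a locally
Noetherian formal prescheme, resp. a Noetherian formal prescheme). In the presentation by systems of
thickenings with common underlying space: for an open U, the induced system (the open subschemes of
the levels over U with the restricted transition maps) is again a system of thickenings; it is adic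
with locally Noetherian levels when the given system is; and if moreover the common underlying space
is quasi-compact (a Noetherian formal prescheme), so is that of the induced system. -/
theorem result (𝔛 : FSch.Sys.{u}) (h : 𝔛.IsFormal) (U : (𝔛.X 0).Opens) :
    (𝔛.restrictOpen h U).IsFormal ∧ (𝔛.IsLocNoethFormal → (𝔛.restrictOpen h U).IsLocNoethFormal) ∧
      (𝔛.IsLocNoethFormal → CompactSpace (𝔛.X 0) → CompactSpace ((𝔛.restrictOpen h U).X 0)) := by
  have hF : (𝔛.restrictOpen h U).IsFormal := by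
    intro n
    have := (h n).1
    exact ⟨resLE_closedImm (𝔛.ι n) _ _ (𝔛.lvU_succ h n U).symm _,
      resLE_surj (𝔛.ι n) (h n).2 _ _ (𝔛.lvU_succ h n U).symm _⟩
  refine ⟨hF, ?_, ?_⟩
  · rintro ⟨_, hA, hN⟩
    refine ⟨hF, ?_, ?_⟩
    · intro n
      have hc1 := (h n).1
      have hc2 := 𝔛.toX_isClosedImmersion h (n + 1)
      apply Scheme.IdealSheafData.ext
      funext A
      change ((𝔛.restrictOpen h U).ι n).ker.ideal A = (((𝔛.restrictOpen h U).toX (n + 1)).ker.ideal A) ^ (n + 1)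
      have e1 : ((𝔛.restrictOpen h U).ι n).ker.ideal A = _ :=
        ker_of_comm (𝔛.ι n) (𝔛.lvU h (n + 1) U) (𝔛.lvU h n U) (𝔛.lvU_succ h n U).symm
          ((𝔛.restrictOpen h U).ι n) (Scheme.Hom.resLE_comp_ι _ _) A
      have e2 : ((𝔛.restrictOpen h U).toX (n + 1)).ker.ideal A = _ :=
        ker_of_comm (𝔛.toX (n + 1)) (𝔛.lvU h (n + 1) U) (𝔛.lvU h 0 U) (toX_preimage 𝔛 h U (n + 1))
          ((𝔛.restrictOpen h U).toX (n + 1)) (FSch.Hom.toX_comm (𝔛.restrictOpenι h U) (n + 1)) A
      rw [e1, e2, hA n]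
      rfl
    · intro n
      have := hN n
      exact inferInstanceAs (IsLocallyNoetherian (𝔛.lvU h n U).toScheme)
  · rintro ⟨_, hA, hN⟩ hc
    have := hN 0
    have : IsNoetherian (𝔛.X 0) := { }
    exact isCompact_iff_compactSpace.mp (TopologicalSpace.NoetherianSpace.isCompact _)

end Groth.Agent.S13342
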