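import Groth.Statements.S13356
import Groth.Agent.Lib.Helper16.GaChar

set_option autoImplicit false
universe u
open GaDual

namespace Groth.Agent.S13356

/-- Over a commutative algebra A over the rationals, the polynomials f with f(0) = 1 and f(X+Y) =
f(X)f(Y) (the characters of the additive group into the multiplicative group over A) are exactly the
polynomials exp(aX) with a in A nilpotent. -/
theorem result (A : Type u) [CommRing A] [Algebra ℚ A] (f : Polynomial A) :
    (f.eval 0 = 1 ∧
      Polynomial.aeval (MvPolynomial.X 0 + MvPolynomial.X 1 : MvPolynomial (Fin 2) A) f =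
        Polynomial.aeval (MvPolynomial.X 0 : MvPolynomial (Fin 2) A) f *
          Polynomial.aeval (MvPolynomial.X 1 : MvPolynomial (Fin 2) A) f) ↔
      ∃ a : A, IsNilpotent a ∧ (f : PowerSeries A) = PowerSeries.rescale a (PowerSeries.exp A) := by
  rw [Groth.Agent.Lib.Helper16.GaChar.polyChar_iff,
    Groth.Agent.Lib.Helper16.GaChar.isExpSeq_iff_exp]
  refine exists_congr fun a => ?_
  constructor
  · intro h
    refine ⟨⟨f.natDegree + 1, ?_⟩, ?_⟩
    · have h1 := h (f.natDegree + 1)
      rw [Polynomial.coeff_eq_zero_of_natDegree_lt (Nat.lt_succ_self _)] at h1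
      have h2 : a ^ (f.natDegree + 1) * algebraMap ℚ A (1 / ((f.natDegree + 1).factorial : ℚ)) *
          algebraMap ℚ A ((f.natDegree + 1).factorial : ℚ) = 0 := by rw [← h1, zero_mul]
      rw [mul_assoc, ← map_mul, one_div_mul_cancel
        (by exact_mod_cast (f.natDegree + 1).factorial_ne_zero), map_one, mul_one] at h2
      exact h2
    · ext n
      rw [Polynomial.coeff_coe, h n, PowerSeries.coeff_rescale, PowerSeries.coeff_exp]
  · rintro ⟨-, h⟩ n
    rw [← Polynomial.coeff_coe, h, PowerSeries.coeff_rescale, PowerSeries.coeff_exp]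

end Groth.Agent.S13356
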