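import Groth.Statements.S13357
import Mathlib
import Groth.Agent.Lib.Helper71.AddChar

set_option autoImplicit false
universe u
open GaDual

namespace Groth.Agent.S13357

/-- Over a commutative algebra A of prime characteristic p, the polynomials f with f(0) = 1 and f(X+Y) =
f(X)f(Y) (the characters of the additive group into the multiplicative group over A) are exactly the
finite products of truncated exponentials exp_p(a_n X^(p^n)) = Σ_{j<p} a_n^j X^(j p^n)/j! with a_n^p
= 0. -/
theorem result (p : ℕ) [Fact p.Prime] (A : Type u) [CommRing A] [CharP A p]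
    (f : Polynomial A) :
    (f.eval 0 = 1 ∧
      Polynomial.aeval (MvPolynomial.X 0 + MvPolynomial.X 1 : MvPolynomial (Fin 2) A) f =
        Polynomial.aeval (MvPolynomial.X 0 : MvPolynomial (Fin 2) A) f *
          Polynomial.aeval (MvPolynomial.X 1 : MvPolynomial (Fin 2) A) f) ↔
      ∃ (N : ℕ) (a : ℕ → A), (∀ n, a n ^ p = 0) ∧
        f = ∏ n ∈ Finset.range N, ∑ j ∈ Finset.range p,
          Polynomial.C (Ring.inverse (j.factorial : A) * a n ^ j) * Polynomial.X ^ (j * p ^ n) := by
  classical
  have hp : p.Prime := Fact.out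
  constructor
  · rintro ⟨h0, h⟩
    have hrel := Groth.Agent.Lib.Helper71.AddChar.poly_rel_of_char f h
    have hc0 : f.coeff 0 = 1 := by rw [Polynomial.coeff_zero_eq_eval_zero, h0]
    refine ⟨f.natDegree, fun k => f.coeff (p ^ k), ?_, ?_⟩
    · intro k
      exact Groth.Agent.Lib.Helper71.AddChar.c_pow_p p (fun i => f.coeff i) (k + 1) hc0
        (fun i j _ _ => hrel i j) k (Nat.lt_succ_self k)
    · have hdeg : f.natDegree < p ^ f.natDegree := Nat.lt_pow_self hp.one_lt
      have h1 := Groth.Agent.Lib.Helper71.AddChar.F_eq_prod p (fun i => f.coeff i) f.natDegree hc0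
        (fun i j _ _ => hrel i j) f.natDegree le_rfl
      have h2 : f = ∑ i ∈ Finset.range (p ^ f.natDegree),
          Polynomial.C (f.coeff i) * Polynomial.X ^ i := by
        conv_lhs => rw [Polynomial.as_sum_range' f (p ^ f.natDegree) hdeg]
        apply Finset.sum_congr rfl
        intro i _
        rw [Polynomial.C_mul_X_pow_eq_monomial]
      exact h2.trans h1
  · rintro ⟨N, a, ha, rfl⟩
    refine ⟨?_, ?_⟩
    · exact Groth.Agent.Lib.Helper71.AddChar.eval_zero_prod_E p a N
    · exact Groth.Agent.Lib.Helper71.AddChar.prod_E_char p a ha N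

end Groth.Agent.S13357
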