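import Groth.Statements.S13359
import Groth.Agent.Lib.Helper92.PiLoc

set_option autoImplicit false
universe u
open UltraProd

namespace Groth.Agent.S13359

open Groth.Agent.Lib.Helper92 Polynomial

theorem dvd_of_homogeneous_monic {S : Type u} [CommRing S] [IsDomain S] [IsIntegrallyClosed S]
    (p : S[X]) (hp : p.Monic) (a b : S) (hb : b ≠ 0)
    (h : ∑ j ∈ Finset.range (p.natDegree + 1), p.coeff j * a ^ j * b ^ (p.natDegree - j) = 0) :
    b ∣ a := by
  have hbK : algebraMap S (FractionRing S) b ≠ 0 := by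
    simpa using (IsFractionRing.injective S (FractionRing S)).ne hb
  have hint : IsIntegral S (algebraMap S (FractionRing S) a / algebraMap S (FractionRing S) b) := by
    refine ⟨p, hp, ?_⟩
    rw [Polynomial.eval₂_eq_sum_range]
    have h2 : (∑ j ∈ Finset.range (p.natDegree + 1),
        algebraMap S (FractionRing S) (p.coeff j) *
          (algebraMap S (FractionRing S) a / algebraMap S (FractionRing S) b) ^ j) *
        algebraMap S (FractionRing S) b ^ p.natDegree = 0 := by
      rw [Finset.sum_mul]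
      have h3 := congrArg (algebraMap S (FractionRing S)) h
      rw [map_sum, map_zero] at h3
      rw [← h3]
      refine Finset.sum_congr rfl fun j hj => ?_
      have hj' : j ≤ p.natDegree := Nat.lt_succ_iff.1 (Finset.mem_range.1 hj)
      have hBn : algebraMap S (FractionRing S) b ^ p.natDegree =
          algebraMap S (FractionRing S) b ^ j * algebraMap S (FractionRing S) b ^ (p.natDegree - j) := by
        rw [← pow_add, Nat.add_sub_cancel' hj']
      have hBj : algebraMap S (FractionRing S) b ^ j ≠ 0 := pow_ne_zero _ hbK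
      rw [map_mul, map_mul, map_pow, map_pow, hBn, div_pow, mul_assoc,
        ← mul_assoc (_ / _), div_mul_cancel₀ _ hBj, ← mul_assoc]
    exact (mul_eq_zero.1 h2).resolve_right (pow_ne_zero _ hbK)
  obtain ⟨c, hc⟩ := IsIntegrallyClosed.isIntegral_iff.1 hint
  refine ⟨c, ?_⟩
  apply IsFractionRing.injective S (FractionRing S)
  rw [map_mul, hc, mul_comm, div_mul_cancel₀ _ hbK]

/-- If (R_i) is a nonempty family of integrally closed domains, then the localization of the product
ring ∏ R_i at any prime ideal is an integrally closed domain. -/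
theorem result {ι : Type u} [Nonempty ι] (R : ι → Type u)
    [∀ i, CommRing (R i)] [∀ i, IsDomain (R i)] [∀ i, IsIntegrallyClosed (R i)]
    (P : Ideal (∀ i, R i)) [P.IsPrime] :
    IsDomain (Localization.AtPrime P) ∧ IsIntegrallyClosed (Localization.AtPrime P) := by
  classical
  haveI hdom : IsDomain (Localization.AtPrime P) := isDomain_localization_pi P
  refine ⟨hdom, ?_⟩
  rw [isIntegrallyClosed_iff (FractionRing (Localization.AtPrime P))]
  intro z hz
  obtain ⟨m, hm⟩ := IsIntegral.exists_multiple_integral_of_isLocalization P.primeCompl z hz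
  obtain ⟨q, hqm, hq⟩ := hm
  obtain ⟨β, γ, hγ, rfl⟩ := IsFractionRing.div_surjective (A := Localization.AtPrime P) z
  obtain ⟨⟨x, s⟩, hx⟩ := IsLocalization.surj P.primeCompl β
  obtain ⟨⟨y, t⟩, hy⟩ := IsLocalization.surj P.primeCompl γ
  simp only at hx hy
  set φ := algebraMap (∀ i, R i) (Localization.AtPrime P) with hφ
  set ψ := algebraMap (Localization.AtPrime P) (FractionRing (Localization.AtPrime P)) with hψ
  set f := algebraMap (∀ i, R i) (FractionRing (Localization.AtPrime P)) with hf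
  have hfψφ : ∀ r, f r = ψ (φ r) := fun r => IsScalarTower.algebraMap_apply _ _ _ r
  have hψinj : Function.Injective ψ := IsFractionRing.injective _ _
  have hγ0 : γ ≠ 0 := nonZeroDivisors.ne_zero hγ
  have hψγ : ψ γ ≠ 0 := by simpa using hψinj.ne hγ0
  have hs := IsLocalization.map_units (M := P.primeCompl) (Localization.AtPrime P) s
  have ht := IsLocalization.map_units (M := P.primeCompl) (Localization.AtPrime P) t
  have hmu : IsUnit (φ m) := IsLocalization.map_units (M := P.primeCompl) (Localization.AtPrime P) m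
  have hψs : ψ (φ s) ≠ 0 := by simpa using hψinj.ne hs.ne_zero
  have hψt : ψ (φ t) ≠ 0 := by simpa using hψinj.ne ht.ne_zero
  have hψm : ψ (φ m) ≠ 0 := by simpa using hψinj.ne hmu.ne_zero
  -- the numerator and denominator in the product ring
  set X₀ : ∀ i, R i := (m : ∀ i, R i) * x * t with hX₀
  set Y₀ : ∀ i, R i := y * s with hY₀
  have hφY₀ : φ Y₀ ≠ 0 := by
    rw [hY₀, map_mul, ← hy]
    exact mul_ne_zero (mul_ne_zero hγ0 ht.ne_zero) hs.ne_zero
  have hψY₀ : ψ (φ Y₀) ≠ 0 := by simpa using hψinj.ne hφY₀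
  set w := m • (ψ β / ψ γ) with hw
  have hw' : w = ψ (φ m) * (ψ β / ψ γ) := by
    rw [hw, Submonoid.smul_def, Algebra.smul_def, ← hfψφ]
  have hwb : w * f Y₀ = f X₀ := by
    rw [hw', hfψφ, hfψφ, hY₀, hX₀, map_mul, map_mul, map_mul, map_mul, map_mul, map_mul, ← hx, ← hy,
      map_mul, map_mul]
    field_simp
  -- homogenize
  set n := q.natDegree with hn
  set H : ∀ i, R i := ∑ j ∈ Finset.range (n + 1), q.coeff j * X₀ ^ j * Y₀ ^ (n - j) with hH
  have hfH : f H = 0 := by
    rw [Polynomial.eval₂_eq_sum_range] at hq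
    have h2 := congrArg (fun r => r * f Y₀ ^ n) hq
    simp only [zero_mul, Finset.sum_mul] at h2
    rw [hH, map_sum, ← h2]
    refine Finset.sum_congr rfl fun j hj => ?_
    have hj' : j ≤ n := Nat.lt_succ_iff.1 (Finset.mem_range.1 hj)
    rw [map_mul, map_mul, map_pow, map_pow, ← hwb, mul_pow]
    have : f Y₀ ^ n = f Y₀ ^ j * f Y₀ ^ (n - j) := by rw [← pow_add, Nat.add_sub_cancel' hj']
    rw [this]
    ring
  have hφH : φ H = 0 := by
    apply hψinj
    rw [← hfψφ, hfH, map_zero]
  rw [IsLocalization.map_eq_zero_iff P.primeCompl] at hφH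
  obtain ⟨v, hv⟩ := hφH
  -- componentwise divisibility
  have hdiv : ∀ i, (v : ∀ i, R i) i ≠ 0 → Y₀ i ≠ 0 → Y₀ i ∣ X₀ i := by
    intro i hvi hYi
    have hHi : H i = 0 := by
      have := congrFun hv i
      simp only [Pi.mul_apply, Pi.zero_apply] at this
      exact (mul_eq_zero.1 this).resolve_left hvi
    have hqi : (q.map (Pi.evalRingHom R i)).Monic := hqm.map _
    have hdeg : (q.map (Pi.evalRingHom R i)).natDegree = n := hqm.natDegree_map _
    apply dvd_of_homogeneous_monic (q.map (Pi.evalRingHom R i)) hqi (X₀ i) (Y₀ i) hYi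
    rw [hdeg]
    have h3 : H i = ∑ j ∈ Finset.range (n + 1), (q.coeff j) i * X₀ i ^ j * Y₀ i ^ (n - j) := by
      rw [hH, Finset.sum_apply]
      rfl
    rw [← hHi, h3]
    refine Finset.sum_congr rfl fun j _ => ?_
    rw [Polynomial.coeff_map, Pi.evalRingHom_apply]
  have hc : ∀ i, ∃ c : R i, ((v : ∀ i, R i) i ≠ 0 → Y₀ i ≠ 0 → X₀ i = Y₀ i * c) := by
    intro i
    by_cases h1 : (v : ∀ i, R i) i ≠ 0 ∧ Y₀ i ≠ 0
    · obtain ⟨c, hc⟩ := hdiv i h1.1 h1.2
      exact ⟨c, fun _ _ => hc⟩
    · exact ⟨0, fun a b => absurd ⟨a, b⟩ h1⟩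
  choose c hc using hc
  have hec : ind (v : ∀ i, R i) * ind Y₀ * X₀ = ind (v : ∀ i, R i) * ind Y₀ * (Y₀ * c) := by
    funext i
    simp only [Pi.mul_apply]
    by_cases h1 : (v : ∀ i, R i) i = 0
    · simp [ind_apply_of_eq _ h1]
    · by_cases h2 : Y₀ i = 0
      · simp [ind_apply_of_eq _ h2]
      · rw [hc i h1 h2]
  have hindv : ind (v : ∀ i, R i) ∉ P := ind_notMem_of_notMem P _ v.2
  have hindY : ind Y₀ ∉ P := ind_notMem_of_map_ne_zero P _ hφY₀
  have he : ind (v : ∀ i, R i) * ind Y₀ ∉ P :=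
    fun h => (Ideal.IsPrime.mem_or_mem inferInstance h).elim hindv hindY
  have hue : IsUnit (φ (ind (v : ∀ i, R i) * ind Y₀)) := isUnit_map_of_notMem P _ he
  have key : φ X₀ = φ Y₀ * φ c := by
    have h7 : φ (ind (v : ∀ i, R i) * ind Y₀) * φ X₀ =
        φ (ind (v : ∀ i, R i) * ind Y₀) * (φ Y₀ * φ c) := by
      simp only [← map_mul]
      rw [hec]
    exact hue.mul_right_inj.1 h7
  obtain ⟨um, hum⟩ := hmu
  refine ⟨φ c * ↑um⁻¹, ?_⟩
  have h5 : ψ (φ m) * (ψ β / ψ γ) * ψ (φ Y₀) = ψ (φ Y₀) * ψ (φ c) := by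
    have h8 := hwb
    rw [hw', hfψφ, hfψφ, key, map_mul ψ (φ Y₀) (φ c)] at h8
    exact h8
  have h6 : ψ β / ψ γ = ψ (φ c) / ψ (φ m) := by
    rw [eq_div_iff hψm]
    have h7 : (ψ β / ψ γ * ψ (φ m)) * ψ (φ Y₀) = ψ (φ c) * ψ (φ Y₀) := by
      linear_combination h5
    exact mul_right_cancel₀ hψY₀ h7
  rw [h6, map_mul, eq_div_iff hψm, mul_assoc, ← map_mul, ← hum, Units.inv_mul, map_one, mul_one]

end Groth.Agent.S13359
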