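import Groth.Statements.S13360
import Groth.Agent.Lib.Helper92.PiLoc

set_option autoImplicit false
universe u
open UltraProd

namespace Groth.Agent.S13360

open Groth.Agent.Lib.Helper92

/-- If (R_i) is a nonempty family of valuation rings, then the localization of the product ring ∏ R_i at
any prime ideal is a valuation ring: a domain in which, of any two elements, one divides the other. -/
theorem result {ι : Type u} [Nonempty ι] (R : ι → Type u)
    [∀ i, CommRing (R i)] [∀ i, IsDomain (R i)] [∀ i, ValuationRing (R i)]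
    (P : Ideal (∀ i, R i)) [P.IsPrime] :
    IsDomain (Localization.AtPrime P) ∧ PreValuationRing (Localization.AtPrime P) := by
  classical
  refine ⟨isDomain_localization_pi P, ⟨fun a b => ?_⟩⟩
  obtain ⟨⟨x, s⟩, hx⟩ := IsLocalization.surj P.primeCompl a
  obtain ⟨⟨y, t⟩, hy⟩ := IsLocalization.surj P.primeCompl b
  simp only at hx hy
  have hs := IsLocalization.map_units (M := P.primeCompl) (Localization.AtPrime P) s
  have ht := IsLocalization.map_units (M := P.primeCompl) (Localization.AtPrime P) t
  set φ := algebraMap (∀ i, R i) (Localization.AtPrime P) with hφ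
  -- the idempotent of the locus where `x i ∣ y i`
  let D : ∀ i, R i := fun i => if x i ∣ y i then 1 else 0
  have hcond : ∀ i, ∃ c : R i, (x i ∣ y i → x i * c = y i) ∧ (¬ x i ∣ y i → y i * c = x i) := by
    intro i
    by_cases h : x i ∣ y i
    · obtain ⟨c, hc⟩ := h
      exact ⟨c, fun _ => hc.symm, fun h' => absurd ⟨c, hc⟩ h'⟩
    · obtain ⟨c, hc⟩ := ValuationRing.cond (x i) (y i)
      rcases hc with hc | hc
      · exact absurd ⟨c, hc.symm⟩ h
      · exact ⟨c, fun h' => absurd h' h, fun _ => hc⟩
  choose q hq1 hq2 using hcond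
  have hD1 : x * q * D = y * D := by
    funext i
    by_cases h : x i ∣ y i
    · simp [D, h, hq1 i h]
    · simp [D, h]
  have hD2 : y * q * (1 - D) = x * (1 - D) := by
    funext i
    by_cases h : x i ∣ y i
    · simp [D, h]
    · simp [D, h, hq2 i h]
  obtain ⟨us, hus⟩ := hs
  obtain ⟨ut, hut⟩ := ht
  by_cases hDP : D ∈ P
  · -- then `1 - D ∉ P`
    have h1D : (1 - D) ∉ P := by
      intro h1
      have : (1 : ∀ i, R i) ∈ P := by
        have := P.add_mem h1 hDP
        simpa using this
      exact (Ideal.ne_top_iff_one P).1 (Ideal.IsPrime.ne_top inferInstance) this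
    obtain ⟨uD, huD⟩ := isUnit_map_of_notMem P (1 - D) h1D
    have key : φ y * φ q = φ x := by
      have := congrArg φ hD2
      simp only [map_mul] at this
      rw [← huD] at this
      exact (Units.mul_left_inj uD).1 this
    refine ⟨φ q * φ t * ↑us⁻¹, Or.inr ?_⟩
    calc b * (φ q * φ t * ↑us⁻¹) = (b * φ t) * φ q * ↑us⁻¹ := by ring
      _ = φ y * φ q * ↑us⁻¹ := by rw [hy]
      _ = φ x * ↑us⁻¹ := by rw [key]
      _ = a * φ s * ↑us⁻¹ := by rw [hx]
      _ = a := by rw [← hus, mul_assoc, Units.mul_inv, mul_one]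
  · obtain ⟨uD, huD⟩ := isUnit_map_of_notMem P D hDP
    have key : φ x * φ q = φ y := by
      have := congrArg φ hD1
      simp only [map_mul] at this
      rw [← huD] at this
      exact (Units.mul_left_inj uD).1 this
    refine ⟨φ q * φ s * ↑ut⁻¹, Or.inl ?_⟩
    calc a * (φ q * φ s * ↑ut⁻¹) = (a * φ s) * φ q * ↑ut⁻¹ := by ring
      _ = φ x * φ q * ↑ut⁻¹ := by rw [hx]
      _ = φ y * ↑ut⁻¹ := by rw [key]
      _ = b * φ t * ↑ut⁻¹ := by rw [hy]
      _ = b := by rw [← hut, mul_assoc, Units.mul_inv, mul_one]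

end Groth.Agent.S13360
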