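import Groth.Statements.S13361
import Groth.Agent.Lib.Helper92.EssentialElt

set_option autoImplicit false
universe u
open ProCompl

namespace Groth.Agent.S13361

open Groth.Agent.Lib.Helper92.EssentialElt

/-- A finite abelian group with a nonzero element contained in every nonzero subgroup is isomorphic to a
cyclic group of prime-power order Z/p^n. -/
theorem result {A : Type u} [AddCommGroup A] [Finite A]
    (a : A) (ha : a ≠ 0) (h : ∀ B : AddSubgroup A, B ≠ ⊥ → a ∈ B) :
    ∃ p n : ℕ, p.Prime ∧ Nonempty (A ≃+ ZMod (p ^ n)) := by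
  classical
  have htors : ∀ x : A, IsOfFinAddOrder x := fun x => isOfFinAddOrder_of_finite x
  obtain ⟨p, hp, hpa⟩ := exists_prime a ha h (htors a)
  haveI := Fintype.ofFinite A
  have hcyc : IsAddCyclic A := by
    apply isAddCyclic_of_card_nsmul_eq_zero_le
    intro n hn
    obtain ⟨F, hF, hFcard⟩ := exists_finset_torsion a ha h hp hpa (n.factorization p)
    have hsub : (Finset.univ.filter (fun x : A => n • x = 0)) ⊆ F := by
      intro x hx
      rw [Finset.mem_filter] at hx
      obtain ⟨j, hj⟩ := addOrderOf_eq_prime_pow a ha h hp hpa x (htors x)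
      have hdvd : p ^ j ∣ n := hj ▸ addOrderOf_dvd_of_nsmul_eq_zero hx.2
      have hjle : j ≤ n.factorization p := (hp.pow_dvd_iff_le_factorization hn.ne').1 hdvd
      have hx0 : p ^ j • x = 0 := by rw [← hj]; exact addOrderOf_nsmul_eq_zero x
      rw [hF, ← Nat.sub_add_cancel hjle, pow_add, mul_nsmul, smul_comm, hx0, smul_zero]
    calc (Finset.univ.filter (fun x : A => n • x = 0)).card ≤ F.card := Finset.card_le_card hsub
      _ ≤ p ^ n.factorization p := hFcard
      _ ≤ n := Nat.le_of_dvd hn (Nat.ordProj_dvd n p)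
  obtain ⟨g, hg⟩ := hcyc.exists_generator
  have hcard : addOrderOf g = Nat.card A := addOrderOf_eq_card_of_forall_mem_zmultiples hg
  obtain ⟨k, hk⟩ := addOrderOf_eq_prime_pow a ha h hp hpa g (htors g)
  have hk' : Nat.card A = p ^ k := by rw [← hcard, hk]
  exact ⟨p, k, hp, ⟨(hk' ▸ zmodAddCyclicAddEquiv hcyc).symm⟩⟩

end Groth.Agent.S13361
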