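import Groth.Statements.S13362
import Groth.Agent.Lib.Helper92.EssentialElt

set_option autoImplicit false
universe u
open ProCompl

namespace Groth.Agent.S13362

open Groth.Agent.Lib.Helper92.EssentialElt

/-- An abelian group of finite exponent having a nonzero element contained in every nonzero subgroup is
finite. -/
theorem result {A : Type u} [AddCommGroup A]
    (hA : AddMonoid.exponent A ≠ 0) (a : A) (ha : a ≠ 0) (h : ∀ B : AddSubgroup A, B ≠ ⊥ → a ∈ B) :
    Finite A := by
  have htors : ∀ x : A, IsOfFinAddOrder x := fun x =>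
    isOfFinAddOrder_iff_nsmul_eq_zero.2
      ⟨AddMonoid.exponent A, Nat.pos_of_ne_zero hA, AddMonoid.exponent_nsmul_eq_zero x⟩
  obtain ⟨p, hp, hpa⟩ := exists_prime a ha h (htors a)
  set m := AddMonoid.exponent A with hm
  have hall : ∀ x : A, p ^ m • x = 0 := by
    intro x
    obtain ⟨j, hj⟩ := addOrderOf_eq_prime_pow a ha h hp hpa x (htors x)
    have hdvd : p ^ j ∣ m := hj ▸ AddMonoid.addOrder_dvd_exponent x
    have hle : p ^ j ≤ m := Nat.le_of_dvd (Nat.pos_of_ne_zero hA) hdvd
    have hjm : j ≤ m := le_trans (Nat.lt_pow_self hp.one_lt).le hle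
    have hx : p ^ j • x = 0 := by rw [← hj]; exact addOrderOf_nsmul_eq_zero x
    rw [← Nat.sub_add_cancel hjm, pow_add, mul_nsmul, smul_comm, hx, smul_zero]
  obtain ⟨F, hF, -⟩ := exists_finset_torsion a ha h hp hpa m
  exact Set.finite_univ_iff.1 ((F.finite_toSet).subset (fun x _ => (hF x).2 (hall x)))

end Groth.Agent.S13362
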