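import Groth.Statements.S13363
import Mathlib.Algebra.Module.CharacterModule
import Mathlib.Topology.Algebra.OpenSubgroup
import Mathlib.Topology.Instances.AddCircle.Defs

set_option autoImplicit false
universe u
open ProCompl

namespace Groth.Agent.S13363

/-- Let A be a topological abelian group such that the subgroup n·A is open for each n > 0, and a ∈ A.
Then A has an open subgroup of finite index not containing a if and only if a does not lie in the
subgroup of divisible elements ∩_n nA. -/
theorem result {A : Type u} [AddCommGroup A]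
    [TopologicalSpace A] [IsTopologicalAddGroup A]
    (hn : ∀ n : ℕ, 0 < n → IsOpen (Set.range (fun x : A => n • x))) (a : A) :
    (∃ B : AddSubgroup A, IsOpen (B : Set A) ∧ B.FiniteIndex ∧ a ∉ B) ↔
      ¬ (∀ n : ℕ, 0 < n → ∃ b : A, n • b = a) := by
  constructor
  · rintro ⟨B, -, hfin, haB⟩ hdiv
    obtain ⟨b, hb⟩ := hdiv B.index (Nat.pos_of_ne_zero hfin.index_ne_zero)
    apply haB
    rw [← hb]
    exact AddSubgroup.nsmul_index_mem B b
  · intro hnot
    push_neg at hnot
    obtain ⟨n, hn0, hna⟩ := hnot
    let N : AddSubgroup A := (nsmulAddMonoidHom n : A →+ A).range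
    have hNset : (N : Set A) = Set.range (fun x : A => n • x) := by
      ext x
      simp [N, AddMonoidHom.mem_range]
    have hNopen : IsOpen (N : Set A) := hNset ▸ hn n hn0
    have haN : a ∉ N := by
      intro h
      obtain ⟨b, hb⟩ := AddMonoidHom.mem_range.1 h
      exact hna b hb
    have hbar : (QuotientAddGroup.mk a : A ⧸ N) ≠ 0 := by
      rwa [Ne, QuotientAddGroup.eq_zero_iff]
    obtain ⟨c, hc⟩ := CharacterModule.exists_character_apply_ne_zero_of_ne_zero hbar
    let c' : (A ⧸ N) →+ AddCircle (1 : ℚ) := c
    let φ : A →+ AddCircle (1 : ℚ) := c'.comp (QuotientAddGroup.mk' N)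
    have hNle : N ≤ φ.ker := by
      intro x hx
      rw [AddMonoidHom.mem_ker]
      change c' (QuotientAddGroup.mk x) = 0
      rw [(QuotientAddGroup.eq_zero_iff x).2 hx, map_zero]
    refine ⟨φ.ker, AddSubgroup.isOpen_mono hNle hNopen, ⟨?_⟩, ?_⟩
    · rw [AddSubgroup.index_ker]
      have hsub : (φ.range : Set (AddCircle (1 : ℚ))) ⊆ {u | n • u = 0} := by
        rintro _ ⟨x, rfl⟩
        change n • φ x = 0
        rw [← map_nsmul]
        exact hNle (AddMonoidHom.mem_range.2 ⟨x, rfl⟩)
      have hfinite : (φ.range : Set (AddCircle (1 : ℚ))).Finite :=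
        (AddCircle.finite_torsion (1 : ℚ) hn0).subset hsub
      haveI : Finite φ.range := hfinite.to_subtype
      exact Nat.card_pos.ne'
    · intro h
      rw [AddMonoidHom.mem_ker] at h
      exact hc h

end Groth.Agent.S13363
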