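import Groth.Statements.S13365
import Mathlib.Topology.Algebra.ClopenNhdofOne
-- import your own Groth.Agent.* helpers here

set_option autoImplicit false
universe u
open ProCompl

namespace Groth.Agent.S13365

/-- The quotient of a profinite (compact, Hausdorff, totally disconnected) abelian topological group by
a compact subgroup is profinite. -/
theorem result {A : Type u} [AddCommGroup A] [TopologicalSpace A]
    [IsTopologicalAddGroup A] [CompactSpace A] [T2Space A] [TotallyDisconnectedSpace A]
    (B : AddSubgroup A) (hB : IsCompact (B : Set A)) :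
    CompactSpace (A ⧸ B) ∧ T2Space (A ⧸ B) ∧ TotallyDisconnectedSpace (A ⧸ B) := by
  have hBc : IsClosed (B : Set A) := hB.isClosed
  have : IsClosed (B : Set A) := hBc
  refine ⟨inferInstance, inferInstance, ?_⟩
  suffices TotallySeparatedSpace (A ⧸ B) from inferInstance
  rw [totallySeparatedSpace_iff_exists_isClopen]
  intro x y hxy
  obtain ⟨a, rfl⟩ := QuotientAddGroup.mk_surjective x
  obtain ⟨b, rfl⟩ := QuotientAddGroup.mk_surjective y
  have hab : -a + b ∉ B := fun h => hxy (QuotientAddGroup.eq.mpr h)
  have hinf := ProfiniteGrp.closedAddSubgroup_eq_sInf_open (G := A) ⟨B, hBc⟩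
  have hab' : -a + b ∉ sInf {N : AddSubgroup A | IsOpen (N : Set A) ∧ B ≤ N} := by
    intro h
    apply hab
    have : -a + b ∈ ((⟨B, hBc⟩ : ClosedAddSubgroup A) : AddSubgroup A) := by
      rw [hinf]; exact h
    exact this
  rw [AddSubgroup.mem_sInf] at hab'
  push Not at hab'
  obtain ⟨N, ⟨hNo, hBN⟩, hN⟩ := hab'
  have : DiscreteTopology (A ⧸ N) := QuotientAddGroup.discreteTopology hNo
  let φ : A ⧸ B →+ A ⧸ N := QuotientAddGroup.map B N (AddMonoidHom.id A) hBN
  have hφ : Continuous φ := by
    rw [(QuotientAddGroup.isQuotientMap_mk B).continuous_iff]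
    exact QuotientAddGroup.continuous_mk
  refine ⟨φ ⁻¹' {φ (QuotientAddGroup.mk a)}, (isClopen_discrete _).preimage hφ, rfl, ?_⟩
  intro h
  apply hN
  have h2 : φ (QuotientAddGroup.mk b) = φ (QuotientAddGroup.mk a) := h
  have h3 : (QuotientAddGroup.mk b : A ⧸ N) = QuotientAddGroup.mk a := h2
  exact QuotientAddGroup.eq.mp h3.symm

end Groth.Agent.S13365
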