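import Groth.Statements.S13368
import Groth.Agent.Lib.Helper97.FunFldSep
import Groth.Agent.Lib.Helper97.PthPower
import Mathlib.RingTheory.DiscreteValuationRing.Basic
import Mathlib.RingTheory.PowerBasis
import Mathlib.LinearAlgebra.FiniteDimensional.Lemmas

set_option autoImplicit false
universe u
open GaDual

namespace Groth.Agent.S13368

open Polynomial

section Div

variable (p : ℕ) {R : Type u} [CommRing R] [IsDomain R]

theorem dvd_of_pow_dvd_sum {π : R} (hπ : Prime π) (m : ℕ) (hm : m ≤ p) (b : ℕ → R)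
    (h : π ^ m ∣ ∑ i ∈ Finset.range m, π ^ i * b i ^ p) : ∀ i < m, π ∣ b i := by
  induction m with
  | zero => intro i hi; omega
  | succ m ih =>
    rw [Finset.sum_range_succ] at h
    have h1 : π ^ m ∣ ∑ i ∈ Finset.range m, π ^ i * b i ^ p := by
      have h2 : π ^ m ∣ ∑ i ∈ Finset.range m, π ^ i * b i ^ p + π ^ m * b m ^ p :=
        (pow_dvd_pow π (Nat.le_succ m)).trans h
      exact (dvd_add_left (Dvd.intro _ rfl)).mp h2
    have ih' := ih (Nat.le_of_succ_le hm) h1
    have h3 : π ^ (m + 1) ∣ ∑ i ∈ Finset.range m, π ^ i * b i ^ p := by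
      apply Finset.dvd_sum
      intro i hi
      obtain ⟨c, hc⟩ := ih' i (Finset.mem_range.mp hi)
      rw [hc, mul_pow]
      exact Dvd.dvd.mul_left ((pow_dvd_pow π hm).mul_right _) _
    have h4 : π ^ (m + 1) ∣ π ^ m * b m ^ p := (dvd_add_right h3).mp h
    rw [pow_succ] at h4
    have h5 : π ∣ b m ^ p := (mul_dvd_mul_iff_left (pow_ne_zero m hπ.ne_zero)).mp h4
    have h6 := hπ.dvd_of_dvd_pow h5
    intro i hi
    rcases Nat.lt_succ_iff_lt_or_eq.mp hi with h | rfl
    · exact ih' i h
    · exact h6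

theorem pow_dvd_of_sum_eq {π : R} (hπ : Prime π) (hp : 0 < p) (n : ℕ) :
    ∀ (b : ℕ → R) (r : R), π ^ (p * n) * r = ∑ i ∈ Finset.range p, π ^ i * b i ^ p →
      ∀ i < p, π ^ n ∣ b i := by
  induction n with
  | zero => intro b r _ i _; rw [pow_zero]; exact one_dvd _
  | succ n ih =>
    intro b r h i hi
    have h1 : π ^ p ∣ ∑ i ∈ Finset.range p, π ^ i * b i ^ p := by
      rw [← h, mul_add, mul_one, pow_add, mul_comm (π ^ (p * n)), mul_assoc]
      exact Dvd.intro _ rfl
    have h2 := dvd_of_pow_dvd_sum p hπ p le_rfl b h1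
    choose! c hc using h2
    have h3 : ∑ i ∈ Finset.range p, π ^ i * b i ^ p =
        π ^ p * ∑ i ∈ Finset.range p, π ^ i * c i ^ p := by
      rw [Finset.mul_sum]
      refine Finset.sum_congr rfl fun j hj => ?_
      rw [hc j (Finset.mem_range.mp hj), mul_pow]
      ring
    have h4 : π ^ (p * n) * r = ∑ i ∈ Finset.range p, π ^ i * c i ^ p := by
      apply mul_left_cancel₀ (pow_ne_zero p hπ.ne_zero)
      rw [← h3, ← h]
      ring
    obtain ⟨e, he⟩ := ih c r h4 i hi
    rw [hc i hi, he, pow_succ]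
    exact ⟨e, by ring⟩

end Div

section Main

variable (p : ℕ) [Fact p.Prime] {R : Type u} [CommRing R] [IsDomain R]
  [IsDiscreteValuationRing R] [CharP R p]
  {K : Type u} [Field K] [Algebra R K] [IsFractionRing R K] [CharP K p]

omit [Fact p.Prime] [CharP R p] [CharP K p] in
theorem exists_pow_mul_mem {π : R} (hπ : Irreducible π) (a : K) :
    ∃ m : ℕ, ∃ c : R, algebraMap R K c = algebraMap R K π ^ m * a := by
  obtain ⟨x, y, hy, rfl⟩ := IsFractionRing.div_surjective (A := R) a
  have hy0 : y ≠ 0 := nonZeroDivisors.ne_zero hy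
  obtain ⟨m, u, rfl⟩ := IsDiscreteValuationRing.eq_unit_mul_pow_irreducible hy0 hπ
  refine ⟨m, x * ((u⁻¹ : Rˣ) : R), ?_⟩
  have hπ0 : algebraMap R K π ≠ 0 := by
    rw [Ne, map_eq_zero_iff _ (IsFractionRing.injective R K)]
    exact hπ.ne_zero
  have hu : algebraMap R K (u : R) * algebraMap R K ((u⁻¹ : Rˣ) : R) = 1 := by
    rw [← map_mul, Units.mul_inv, map_one]
  have hu0 : algebraMap R K (u : R) ≠ 0 := left_ne_zero_of_mul_eq_one hu
  rw [map_mul, map_mul, map_pow]
  field_simp
  rw [mul_assoc, mul_comm (algebraMap R K ((u⁻¹ : Rˣ) : R)), hu, mul_one]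

omit [CharP R p] [CharP K p] in
theorem not_pow {π : R} (hπ : Irreducible π) (y : K) : y ^ p ≠ algebraMap R K π := by
  have hp : p.Prime := Fact.out
  intro h
  obtain ⟨a, b, hb, rfl⟩ := IsFractionRing.div_surjective (A := R) y
  have hb0 : b ≠ 0 := nonZeroDivisors.ne_zero hb
  have hb0' : algebraMap R K b ≠ 0 := by
    rw [Ne, map_eq_zero_iff _ (IsFractionRing.injective R K)]
    exact hb0
  have h1 : a ^ p = π * b ^ p := by
    apply IsFractionRing.injective R K
    rw [map_pow, map_mul, map_pow, ← h, div_pow, div_mul_cancel₀]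
    exact pow_ne_zero _ hb0'
  have ha0 : a ≠ 0 := by
    rintro rfl
    rw [zero_pow hp.ne_zero] at h1
    exact (mul_ne_zero hπ.ne_zero (pow_ne_zero _ hb0)) h1.symm
  obtain ⟨m, u, rfl⟩ := IsDiscreteValuationRing.eq_unit_mul_pow_irreducible ha0 hπ
  obtain ⟨n, v, rfl⟩ := IsDiscreteValuationRing.eq_unit_mul_pow_irreducible hb0 hπ
  have h2 : ((u ^ p : Rˣ) : R) * π ^ (m * p) = ((v ^ p : Rˣ) : R) * π ^ (n * p + 1) := by
    rw [Units.val_pow_eq_pow_val, Units.val_pow_eq_pow_val, pow_mul, ← mul_pow, h1, mul_pow,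
      pow_succ, pow_mul]
    ring
  have h3 := IsDiscreteValuationRing.unit_mul_pow_congr_pow hπ hπ _ _ _ _ h2
  have h4 : p ∣ 1 := (Nat.dvd_add_right (dvd_mul_left p n)).mp (h3 ▸ dvd_mul_left p m)
  exact hp.one_lt.ne' (Nat.dvd_one.mp h4)

omit [CharP R p] in
theorem exists_repr (kp : Subfield K) (hkp : ∀ x : K, x ∈ kp ↔ ∃ y : K, y ^ p = x)
    (hdeg : Module.finrank kp K = p) {π : R} (hπ : Irreducible π) :
    LinearIndependent kp (fun i : Fin p => algebraMap R K π ^ (i : ℕ)) ∧
      ∀ x : K, ∃ a : Fin p → K, x = ∑ i : Fin p, algebraMap R K π ^ (i : ℕ) * a i ^ p := by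
  have hp : p.Prime := Fact.out
  have : NeZero p := ⟨hp.ne_zero⟩
  set ϖ := algebraMap R K π with hϖ
  have htp : ϖ ^ p ∈ (algebraMap kp K).range := ⟨⟨ϖ ^ p, (hkp _).mpr ⟨ϖ, rfl⟩⟩, rfl⟩
  have ht : ϖ ∉ (algebraMap kp K).range := by
    rintro ⟨⟨y, hy⟩, hyϖ⟩
    obtain ⟨z, hz⟩ := (hkp y).mp hy
    apply not_pow p hπ z
    rw [hz]
    exact hyϖ
  obtain ⟨-, hmin, -⟩ :=
    Groth.Agent.Lib.Helper97.FunFldSep.finrank_adjoin_simple_of_pow_mem p ϖ htp ht
  have hnat : (minpoly kp ϖ).natDegree = p := by rw [hmin, natDegree_X_pow_sub_C]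
  have hli : LinearIndependent kp (fun i : Fin p => ϖ ^ (i : ℕ)) := by
    have h := linearIndependent_pow (K := kp) ϖ
    generalize (minpoly kp ϖ).natDegree = n at h hnat
    subst hnat
    exact h
  refine ⟨hli, fun x => ?_⟩
  let b : Module.Basis (Fin p) kp K :=
    basisOfLinearIndependentOfCardEqFinrank hli (by rw [Fintype.card_fin, hdeg])
  have hb : ∀ i, b i = ϖ ^ (i : ℕ) := fun i => by
    rw [coe_basisOfLinearIndependentOfCardEqFinrank]
  have hx := b.sum_repr x
  have hex : ∀ i, ∃ a : K, a ^ p = ((b.repr x i : kp) : K) := fun i =>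
    (hkp _).mp (b.repr x i).2
  choose a ha using hex
  refine ⟨a, ?_⟩
  conv_lhs => rw [← hx]
  refine Finset.sum_congr rfl fun i _ => ?_
  rw [hb, ha, mul_comm]
  rfl

theorem main (kp : Subfield K) (hkp : ∀ x : K, x ∈ kp ↔ ∃ y : K, y ^ p = x)
    (hdeg : Module.finrank kp K = p) (π : R) (hπ : Irreducible π) :
    (∀ r : R, ∃! c : Fin p → R, r = ∑ i : Fin p, π ^ (i : ℕ) * c i ^ p) ∧
      Function.Bijective (fun r : R => r • KaehlerDifferential.D ℤ R π) := by
  classical
  have hp : p.Prime := Fact.out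
  have hinj := IsFractionRing.injective R K
  have hprime : Prime π := hπ.prime
  set ϖ := algebraMap R K π with hϖ
  have hϖ0 : ϖ ≠ 0 := by
    rw [hϖ, Ne, map_eq_zero_iff _ hinj]
    exact hπ.ne_zero
  obtain ⟨hli, hrepr⟩ := exists_repr p kp hkp hdeg hπ
  -- existence
  have hex : ∀ r : R, ∃ c : Fin p → R, r = ∑ i : Fin p, π ^ (i : ℕ) * c i ^ p := by
    intro r
    obtain ⟨a, ha⟩ := hrepr (algebraMap R K r)
    have hm : ∀ i, ∃ m : ℕ, ∃ c : R, algebraMap R K c = ϖ ^ m * a i := fun i =>
      exists_pow_mul_mem hπ (a i)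
    choose m c hc using hm
    set n := ∑ i, m i with hn
    have hmn : ∀ i, m i ≤ n := fun i => Finset.single_le_sum (f := m) (fun _ _ => Nat.zero_le _)
      (Finset.mem_univ i)
    let b : Fin p → R := fun i => π ^ (n - m i) * c i
    have hb : ∀ i, algebraMap R K (b i) = ϖ ^ n * a i := by
      intro i
      rw [map_mul, map_pow, hc, ← mul_assoc, ← pow_add, Nat.sub_add_cancel (hmn i)]
    let b' : ℕ → R := fun i => if h : i < p then b ⟨i, h⟩ else 0
    have hb' : ∀ i : Fin p, b' i = b i := fun i => by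
      simp only [b', dif_pos i.2, Fin.eta]
    have hsum : π ^ (p * n) * r = ∑ i ∈ Finset.range p, π ^ i * b' i ^ p := by
      rw [← Fin.sum_univ_eq_sum_range (fun i => π ^ i * b' i ^ p) p]
      apply hinj
      rw [map_mul, map_pow, ha, map_sum, Finset.mul_sum]
      refine Finset.sum_congr rfl fun i _ => ?_
      rw [hb', map_mul, map_pow, map_pow, hb, mul_pow, ← pow_mul, mul_comm n p]
      ring
    have hdvd := pow_dvd_of_sum_eq p hprime hp.pos n b' r hsum
    have he : ∀ i : Fin p, ∃ e : R, b i = π ^ n * e := fun i => by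
      have := hdvd i i.2
      rw [hb'] at this
      exact this
    choose e he using he
    have hae : ∀ i, algebraMap R K (e i) = a i := by
      intro i
      have h1 := hb i
      rw [he, map_mul, map_pow] at h1
      exact mul_left_cancel₀ (pow_ne_zero n hϖ0) h1
    refine ⟨e, ?_⟩
    apply hinj
    rw [ha, map_sum]
    refine Finset.sum_congr rfl fun i _ => ?_
    rw [map_mul, map_pow, map_pow, hae]
  refine ⟨fun r => ?_, ?_, ?_⟩
  · obtain ⟨c, hc⟩ := hex r
    refine ⟨c, hc, fun c' hc' => ?_⟩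
    have hmem : ∀ x : R, (algebraMap R K x) ^ p ∈ kp := fun x => (hkp _).mpr ⟨_, rfl⟩
    have h0 : ∑ i : Fin p, ((⟨(algebraMap R K (c' i)) ^ p, hmem _⟩ : kp) -
        ⟨(algebraMap R K (c i)) ^ p, hmem _⟩) • ϖ ^ (i : ℕ) = 0 := by
      have h1 := congrArg (algebraMap R K) (hc'.symm.trans hc)
      rw [map_sum, map_sum] at h1
      rw [← sub_eq_zero, ← Finset.sum_sub_distrib] at h1
      rw [← h1]
      refine Finset.sum_congr rfl fun i _ => ?_
      simp only [map_mul, map_pow]
      rw [Subfield.smul_def, smul_eq_mul]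
      change ((algebraMap R K (c' i)) ^ p - (algebraMap R K (c i)) ^ p) * _ = _
      ring
    have h2 := Fintype.linearIndependent_iff.mp hli _ h0
    funext i
    have h3 := congrArg Subtype.val (sub_eq_zero.mp (h2 i))
    exact hinj (frobenius_inj K p h3)
  · -- injective
    obtain ⟨D', hD'⟩ := Groth.Agent.Lib.Helper97.PthPower.exists_derivation_eq_one p ϖ
      (fun b => not_pow p hπ b)
    let d : Derivation ℤ R K := D'.compAlgebraMap R
    have hd : d π = 1 := hD'
    intro r r' hrr
    have h1 := congrArg d.liftKaehlerDifferential hrr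
    simp only [map_smul, Derivation.liftKaehlerDifferential_comp_D, hd] at h1
    rw [Algebra.smul_def, Algebra.smul_def, mul_one, mul_one] at h1
    exact hinj h1
  · -- surjective
    have hD : ∀ r : R, KaehlerDifferential.D ℤ R r ∈
        Submodule.span R {KaehlerDifferential.D ℤ R π} := by
      intro r
      obtain ⟨c, hc⟩ := hex r
      rw [hc, map_sum]
      refine Submodule.sum_mem _ fun i _ => ?_
      rw [Derivation.leibniz, Derivation.leibniz_pow, Derivation.leibniz_pow,
        ← Nat.cast_smul_eq_nsmul R p, CharP.cast_eq_zero R p, zero_smul, smul_zero, zero_add]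
      exact Submodule.smul_mem _ _ (Submodule.smul_of_tower_mem _ _ (Submodule.smul_mem _ _
        (Submodule.mem_span_singleton_self _)))
    have htop : Submodule.span R {KaehlerDifferential.D ℤ R π} = ⊤ := by
      rw [eq_top_iff, ← KaehlerDifferential.span_range_derivation, Submodule.span_le]
      rintro _ ⟨r, rfl⟩
      exact hD r
    intro ω
    have hω : ω ∈ Submodule.span R {KaehlerDifferential.D ℤ R π} := htop ▸ Submodule.mem_top
    exact Submodule.mem_span_singleton.mp hω

end Main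

/-- Let R be a discrete valuation ring of prime characteristic p whose fraction field k has degree p
over its subfield k^p of p-th powers, and π a uniformizer. Then every element of R is, in a unique
way, a sum of π^i c_i^p over 0 ≤ i < p with c_i in R, and the Kähler differentials of R (absolute,
i.e. over the integers, equivalently over the prime field) form a free module of rank one generated
by dπ. -/
theorem result (p : ℕ) [Fact p.Prime] {R : Type u} [CommRing R]
    [IsDomain R] [IsDiscreteValuationRing R] [CharP R p]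
    (kp : Subfield (FractionRing R)) (hkp : ∀ x : FractionRing R, x ∈ kp ↔ ∃ y : FractionRing R, y ^ p = x)
    (hdeg : Module.finrank kp (FractionRing R) = p)
    (π : R) (hπ : Irreducible π) :
    (∀ r : R, ∃! c : Fin p → R, r = ∑ i : Fin p, π ^ (i : ℕ) * c i ^ p) ∧
      Function.Bijective (fun r : R => r • KaehlerDifferential.D ℤ R π) := by
  haveI : CharP (FractionRing R) p :=
    charP_of_injective_algebraMap (IsFractionRing.injective R (FractionRing R)) p
  exact main p kp hkp hdeg π hπ

end Groth.Agent.S13368
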