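import Groth.Statements.S13369
import Groth.Agent.Lib.Helper97.PthPower
import Mathlib.RingTheory.Localization.FractionRing
import Mathlib.RingTheory.IntegralClosure.IntegrallyClosed

set_option autoImplicit false
universe u
open GaDual

namespace Groth.Agent.S13369

theorem aux (p : ℕ) [Fact p.Prime] {A : Type u} [CommRing A] [IsDomain A]
    [IsIntegrallyClosed A] [CharP A p] (K : Type u) [Field K] [Algebra A K] [IsFractionRing A K]
    (s : A) (hs : KaehlerDifferential.D ℤ A s = 0) :
    ∃ f : A, f ^ p = s := by
  have hp : p.Prime := Fact.out
  haveI : CharP K p := charP_of_injective_algebraMap (IsFractionRing.injective A K) p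
  have hK : KaehlerDifferential.D ℤ K (algebraMap A K s) = 0 := by
    rw [← KaehlerDifferential.map_D ℤ ℤ A K, hs, map_zero]
  obtain ⟨b, hb⟩ := Groth.Agent.Lib.Helper97.PthPower.exists_pow_eq_of_forall_derivation p
    (algebraMap A K s) (fun D => by
      have h1 : D.liftKaehlerDifferential (KaehlerDifferential.D ℤ K (algebraMap A K s)) =
          D (algebraMap A K s) := Derivation.liftKaehlerDifferential_comp_D D _
      rw [hK, map_zero] at h1
      exact h1.symm)
  have hint : IsIntegral A b := by
    refine ⟨Polynomial.X ^ p - Polynomial.C s, Polynomial.monic_X_pow_sub_C s hp.ne_zero, ?_⟩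
    simp [hb]
  obtain ⟨f, hf⟩ := IsIntegrallyClosed.algebraMap_eq_of_integral (K := K) hint
  refine ⟨f, IsFractionRing.injective A K ?_⟩
  rw [map_pow, hf, hb]

/-- For a normal Noetherian domain A of prime characteristic p, an element whose differential vanishes
in the absolute Kähler differentials of A is a p-th power; that is, the sequence F : A → A, d : A →
Ω_A (F the Frobenius) is exact at the middle term. (The published statement is for normal locally
Noetherian schemes of characteristic p; this row is the case of the spectrum of a normal Noetherian
domain.) -/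
theorem result (p : ℕ) [Fact p.Prime] {A : Type u} [CommRing A] [IsDomain A]
    [IsNoetherianRing A] [IsIntegrallyClosed A] [CharP A p] (s : A) (hs : KaehlerDifferential.D ℤ A s = 0) :
    ∃ f : A, f ^ p = s := by
  obtain ⟨K, _, _, _, _⟩ : ∃ (K : Type u) (_ : Field K) (_ : Algebra A K), IsFractionRing A K ∧ True :=
    ⟨FractionRing A, inferInstance, inferInstance, inferInstance, trivial⟩
  exact aux p K s hs

end Groth.Agent.S13369
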