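import Groth.Statements.S13370
import Mathlib

set_option autoImplicit false
universe u
open GaDual

namespace Groth.Agent.S13370
open GaDual

open AlgebraicGeometry CategoryTheory Limits

variable {n : Type u}

/-- zero section -/
noncomputable def zeroSec (X : Scheme.{u}) : X ⟶ 𝔸(n; X) :=
  AffineSpace.homOfVector (𝟙 X) (fun _ => 0)

lemma zeroSec_over (X : Scheme.{u}) : zeroSec (n := n) X ≫ 𝔸(n; X) ↘ X = 𝟙 X :=
  AffineSpace.homOfVector_over _ _

lemma zeroSec_nat {U X : Scheme.{u}} (f : U ⟶ X) :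
    f ≫ zeroSec (n := n) X = zeroSec U ≫ AffineSpace.map n f := by
  apply AffineSpace.hom_ext
  · rw [Category.assoc, zeroSec_over, Category.assoc, AffineSpace.map_over, ← Category.assoc,
      zeroSec_over, Category.comp_id, Category.id_comp]
  · intro i
    rw [Scheme.Hom.comp_appTop, Scheme.Hom.comp_appTop, CommRingCat.comp_apply,
      CommRingCat.comp_apply, AffineSpace.map_appTop_coord]
    simp only [zeroSec, AffineSpace.homOfVector_appTop_coord, map_zero]

/-- affine case -/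
lemma affine_case (S : Scheme.{u}) [IsAffine S] [IsReduced S] (w : Γ(𝔸(n; S), ⊤)) (hw : IsUnit w) :
    ∃ c : Γ(S, ⊤), (𝔸(n; S) ↘ S).appTop c = w := by
  have hiso : IsIso (CommRingCat.ofHom
      (MvPolynomial.eval₂Hom ((𝔸(n; S) ↘ S).appTop).hom (AffineSpace.coord S))) := by
    have h1 := AffineSpace.isoOfIsAffine_hom_appTop (n := n) (S := S)
    have h2 : IsIso ((AffineSpace.isoOfIsAffine n S).hom.appTop) :=
      ⟨(AffineSpace.isoOfIsAffine n S).inv.appTop,
        by rw [← Scheme.Hom.comp_appTop, Iso.inv_hom_id]; rfl,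
        by rw [← Scheme.Hom.comp_appTop, Iso.hom_inv_id]; rfl⟩
    rw [h1] at h2
    exact IsIso.of_isIso_comp_left (Scheme.ΓSpecIso _).hom _
  have hbij : Function.Bijective
      (MvPolynomial.eval₂Hom ((𝔸(n; S) ↘ S).appTop).hom (AffineSpace.coord S)) :=
    ConcreteCategory.bijective_of_isIso (CommRingCat.ofHom
      (MvPolynomial.eval₂Hom ((𝔸(n; S) ↘ S).appTop).hom (AffineSpace.coord S)))
  obtain ⟨P, rfl⟩ := hbij.2 w
  have hP : IsUnit P := by
    let E := RingEquiv.ofBijective _ hbij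
    have : IsUnit (E P) := hw
    exact (MulEquiv.isUnit_map E.toMulEquiv).mp this
  obtain ⟨r, -, rfl⟩ := MvPolynomial.isUnit_iff_eq_C_of_isReduced.mp hP
  exact ⟨r, by simp⟩

lemma key_eq {U X : Scheme.{u}} (f : U ⟶ X) [IsOpenImmersion f] [IsAffine U] [IsReduced X]
    (w : Γ(𝔸(n; X), ⊤)) (hw : IsUnit w) :
    (AffineSpace.map n f).appTop ((𝔸(n; X) ↘ X).appTop ((zeroSec X).appTop w)) =
      (AffineSpace.map n f).appTop w := by
  haveI : IsReduced U := isReduced_of_isOpenImmersion f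
  have hw' : IsUnit ((AffineSpace.map n f).appTop w) := hw.map _
  obtain ⟨c, hc⟩ := affine_case (n := n) U _ hw'
  have h1 : (AffineSpace.map n f).appTop ((𝔸(n; X) ↘ X).appTop ((zeroSec X).appTop w)) =
      (AffineSpace.map n f ≫ 𝔸(n; X) ↘ X ≫ zeroSec X).appTop w := by
    simp only [Scheme.Hom.comp_appTop, CommRingCat.comp_apply]
  rw [h1, AffineSpace.map_over_assoc, zeroSec_nat]
  simp only [Scheme.Hom.comp_appTop, CommRingCat.comp_apply]
  rw [← hc]
  congr 1
  have h2 : (zeroSec (n := n) U).appTop ((𝔸(n; U) ↘ U).appTop c) =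
      (zeroSec (n := n) U ≫ 𝔸(n; U) ↘ U).appTop c := by
    simp only [Scheme.Hom.comp_appTop, CommRingCat.comp_apply]
  rw [h2, zeroSec_over]
  simp

lemma fst_eq {U X : Scheme.{u}} (f : U ⟶ X) :
    pullback.fst (𝔸(n; X) ↘ X) f =
      (AffineSpace.isPullback_map (n := n) f).isoPullback.inv ≫ AffineSpace.map n f := by
  rw [Iso.eq_inv_comp]
  exact IsPullback.isoPullback_hom_fst _

lemma local_eq {U X : Scheme.{u}} (f : U ⟶ X) [IsOpenImmersion f] [IsAffine U] [IsReduced X]
    (w : Γ(𝔸(n; X), ⊤)) (hw : IsUnit w) :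
    (pullback.fst (𝔸(n; X) ↘ X) f).app ⊤ ((𝔸(n; X) ↘ X).appTop ((zeroSec X).appTop w)) =
      (pullback.fst (𝔸(n; X) ↘ X) f).app ⊤ w := by
  change (pullback.fst (𝔸(n; X) ↘ X) f).appTop _ = (pullback.fst (𝔸(n; X) ↘ X) f).appTop _
  rw [fst_eq, Scheme.Hom.comp_appTop, CommRingCat.comp_apply, CommRingCat.comp_apply]
  exact congrArg _ (key_eq f w hw)

theorem main (n : Type u) [Finite n] (X : Scheme.{u}) [IsReduced X]
    (w : Γ(𝔸(n; X), ⊤)) (hw : IsUnit w) :
    ∃ v : Γ(X, ⊤), IsUnit v ∧ (𝔸(n; X) ↘ X).appTop v = w := by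
  refine ⟨(zeroSec X).appTop w, hw.map _, ?_⟩
  refine Scheme.OpenCover.ext_elem _ _ (X.affineCover.pullback₁ (𝔸(n; X) ↘ X)) 
    (fun (i : X.affineCover.I₀) => ?_)
  exact local_eq (X.affineCover.f i) w hw

end Groth.Agent.S13370

namespace Groth.Agent.S13370

open AlgebraicGeometry in
/-- Over a reduced scheme X, each invertible global function on 𝔸ⁿ_X comes, by pullback along the
projection to X, from an invertible global function on X. -/
theorem result (n : Type u) [Finite n] (X : Scheme.{u}) [IsReduced X]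
    (w : Γ(𝔸(n; X), ⊤)) (hw : IsUnit w) :
    ∃ v : Γ(X, ⊤), IsUnit v ∧ (𝔸(n; X) ↘ X).appTop v = w := by
  exact main n X w hw

end Groth.Agent.S13370
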