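import Groth.Statements.S13371
import Mathlib
import Groth.Prelude.Def_GmPts
import Groth.Agent.Lib.Helper15.GaPts
import Groth.Agent.S13370

set_option autoImplicit false
universe u
open GaDual

namespace Groth.Agent.S13371
open GaDual

open CategoryTheory AlgebraicGeometry MonObj CartesianMonoidalCategory Limits MonoidalCategory
open Groth.Agent.Lib.Helper15

variable (S : Scheme.{u})

noncomputable abbrev A1 : Over S := Over.mk (𝔸(PUnit.{u+1}; S) ↘ S)

noncomputable def aMap : (Red.Ga S).left ⟶ 𝔸(PUnit.{u+1}; S) :=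
  AffineSpace.homOfVector (Red.Ga S).hom (fun _ => Red.gaFn (𝟙 (Red.Ga S)))

lemma aMap_over : aMap S ≫ 𝔸(PUnit.{u+1}; S) ↘ S = (Red.Ga S).hom :=
  AffineSpace.homOfVector_over _ _

noncomputable def bMap : A1 S ⟶ Red.Ga S :=
  GaPts.ptOfFn (T := A1 S) (AffineSpace.coord S PUnit.unit)

lemma aMap_bMap : aMap S ≫ (bMap S).left = 𝟙 _ := by
  have h : (Over.homMk (aMap S) (aMap_over S) : Red.Ga S ⟶ A1 S) ≫ bMap S = 𝟙 (Red.Ga S) := by
    apply GaPts.eq_of_gaFn_eq
    rw [GaPts.gaFn_comp, bMap, GaPts.gaFn_ptOfFn]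
    exact AffineSpace.homOfVector_appTop_coord _ _ _
  exact congrArg (fun f => f.left) h

theorem main [IsReduced S] (φ : Red.Ga S ⟶ Red.Gm S) [hφ : IsMonHom φ] : φ = 1 := by
  apply (GmPts.equiv (Red.Ga S)).injective
  rw [map_one, GmPts.equiv_apply]
  -- u := unitOfPt φ
  obtain ⟨v, -, hv⟩ := Groth.Agent.S13370.result PUnit.{u+1} S
    ((bMap S).left.appTop (GmPts.unitOfPt φ : Γ((Red.Ga S).left, ⊤)))
    ((GmPts.unitOfPt φ).isUnit.map _)
  have hu : ((GmPts.unitOfPt φ : (Γ((Red.Ga S).left, ⊤))ˣ) : Γ((Red.Ga S).left, ⊤)) =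
      (Red.Ga S).hom.appTop v := by
    have h1 : (aMap S ≫ (bMap S).left).appTop (GmPts.unitOfPt φ : Γ((Red.Ga S).left, ⊤)) =
        (GmPts.unitOfPt φ : Γ((Red.Ga S).left, ⊤)) := by
      rw [aMap_bMap]; rfl
    rw [← h1, Scheme.Hom.comp_appTop, CommRingCat.comp_apply, ← hv, ← aMap_over,
      Scheme.Hom.comp_appTop, CommRingCat.comp_apply]
  -- evaluate at the unit section
  have h2 : GmPts.unitOfPt (η[Red.Ga S] ≫ φ) = 1 := by
    have h0 := hφ.one_hom
    rw [h0]
    have : (η[Red.Gm S] : 𝟙_ (Over S) ⟶ Red.Gm S) = 1 := by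
      rw [MonObj.one_eq_one]
    rw [this, GmPts.unitOfPt_one]
  rw [GmPts.unitOfPt_comp] at h2
  have h3 : (η[Red.Ga S]).left.appTop ((Red.Ga S).hom.appTop v) = v := by
    rw [← CommRingCat.comp_apply, ← Scheme.Hom.comp_appTop, Over.w]
    rfl
  have h4 : v = 1 := by
    rw [← h3, ← hu]
    exact congrArg Units.val h2
  ext
  rw [hu, h4, map_one]
  rfl

end Groth.Agent.S13371

namespace Groth.Agent.S13371

open CategoryTheory AlgebraicGeometry MonObj CartesianMonoidalCategory in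
/-- If S is a reduced scheme, every homomorphism of S-group schemes from the additive group to the
multiplicative group over S is the trivial homomorphism. -/
theorem result (S : Scheme.{u}) [IsReduced S] (φ : Red.Ga S ⟶ Red.Gm S)
    [IsMonHom φ] : φ = 1 := by
  exact main S φ

end Groth.Agent.S13371
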