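import Groth.Statements.S13373
import Mathlib
import Groth.Agent.Lib.Helper71.AddChar

set_option autoImplicit false
universe u
open GaDual

namespace Groth.Agent.S13373

/-- Over a commutative algebra A of prime characteristic p, the formal characters (power series χ with
constant term 1 and χ(X+Y) = χ(X)χ(Y)) are exactly the infinite products ∏_n exp_p(a_n X^(p^n)) with
a_n^p = 0, where exp_p(Y) = Σ_{j<p} Y^j/j!; the infinite product is expressed through its
truncations: χ mod X^(p^m) equals the finite product over n < m. -/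
theorem result (p : ℕ) [Fact p.Prime] (A : Type u) [CommRing A] [CharP A p]
    (χ : PowerSeries A) :
    (PowerSeries.constantCoeff χ = 1 ∧
      PowerSeries.subst (MvPowerSeries.X 0 + MvPowerSeries.X 1 : MvPowerSeries (Fin 2) A) χ =
        PowerSeries.subst (MvPowerSeries.X 0 : MvPowerSeries (Fin 2) A) χ *
          PowerSeries.subst (MvPowerSeries.X 1 : MvPowerSeries (Fin 2) A) χ) ↔
      ∃ a : ℕ → A, (∀ n, a n ^ p = 0) ∧ ∀ m : ℕ,
        PowerSeries.trunc (p ^ m) χ = ∏ n ∈ Finset.range m, ∑ j ∈ Finset.range p,
          Polynomial.C (Ring.inverse (j.factorial : A) * a n ^ j) * Polynomial.X ^ (j * p ^ n) := by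
  classical
  have hp : p.Prime := Fact.out
  constructor
  · rintro ⟨h0, h⟩
    have hrel := (Groth.Agent.Lib.Helper71.AddChar.ps_char_iff_rel χ).mp h
    have hc0 : PowerSeries.coeff 0 χ = 1 := by
      rw [PowerSeries.coeff_zero_eq_constantCoeff_apply, h0]
    refine ⟨fun k => PowerSeries.coeff (p ^ k) χ, ?_, ?_⟩
    · intro k
      exact Groth.Agent.Lib.Helper71.AddChar.c_pow_p p (fun i => PowerSeries.coeff i χ) (k + 1) hc0
        (fun i j _ _ => hrel i j) k (Nat.lt_succ_self k)
    · intro m
      have h1 := Groth.Agent.Lib.Helper71.AddChar.F_eq_prod p (fun i => PowerSeries.coeff i χ) m hc0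
        (fun i j _ _ => hrel i j) m le_rfl
      have h2 : PowerSeries.trunc (p ^ m) χ = ∑ i ∈ Finset.range (p ^ m),
          Polynomial.C (PowerSeries.coeff i χ) * Polynomial.X ^ i := by
        rw [PowerSeries.trunc_apply, ← Finset.range_eq_Ico]
        apply Finset.sum_congr rfl
        intro i _
        rw [Polynomial.C_mul_X_pow_eq_monomial]
      exact h2.trans h1
  · rintro ⟨a, ha, htr⟩
    have hco : ∀ m t, t < p ^ m → PowerSeries.coeff t χ =
        (∏ n ∈ Finset.range m, Groth.Agent.Lib.Helper71.AddChar.E p (a n) n).coeff t := by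
      intro m t ht
      have := congrArg (fun q => Polynomial.coeff q t) (htr m)
      simp only [PowerSeries.coeff_trunc, if_pos ht] at this
      exact this
    refine ⟨?_, ?_⟩
    · rw [← PowerSeries.coeff_zero_eq_constantCoeff_apply, hco 0 0 (by simp)]
      simp
    · rw [Groth.Agent.Lib.Helper71.AddChar.ps_char_iff_rel]
      intro i j
      have hlt : i + j < p ^ (i + j) := Nat.lt_pow_self hp.one_lt
      have hrel := Groth.Agent.Lib.Helper71.AddChar.poly_rel_of_char _
        (Groth.Agent.Lib.Helper71.AddChar.prod_E_char p a ha (i + j)) i j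
      rw [hco (i + j) (i + j) hlt, hco (i + j) i (by omega), hco (i + j) j (by omega)]
      exact hrel

end Groth.Agent.S13373
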