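import Groth.Statements.S13374
import Mathlib
import Groth.Agent.Lib.Helper71.AddChar

set_option autoImplicit false
universe u
open GaDual

namespace Groth.Agent.S13374

open Groth.Agent.Lib.Helper71.AddChar in
theorem coeff_eq_zero_of_mem {A : Type u} [CommRing A] (N : ℕ) (g : MvPolynomial (Fin 2) A)
    (hg : g ∈ Ideal.span {(MvPolynomial.X 0 ^ N : MvPolynomial (Fin 2) A), MvPolynomial.X 1 ^ N})
    (i j : ℕ) (hi : i < N) (hj : j < N) : MvPolynomial.coeff (pe i j) g = 0 := by
  classical
  rw [Ideal.mem_span_pair] at hg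
  obtain ⟨a, b, rfl⟩ := hg
  rw [MvPolynomial.coeff_add, MvPolynomial.X_pow_eq_monomial, MvPolynomial.X_pow_eq_monomial,
    MvPolynomial.coeff_mul_monomial', MvPolynomial.coeff_mul_monomial', if_neg, if_neg, add_zero]
  · intro h
    have := h 1
    rw [pe_one] at this
    simp at this
    omega
  · intro h
    have := h 0
    rw [pe_zero] at this
    simp at this
    omega

/-- Over a commutative algebra A of prime characteristic p, every character of the kernel α_(p^n) of the
n-th Frobenius of the additive group — i.e. every polynomial f of degree < p^n with f(0) = 1 and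
f(X+Y) ≡ f(X)f(Y) modulo (X^(p^n), Y^(p^n)) — is the product ∏_{i<n} exp_p(a_i X^(p^i)) for some a_i
with a_i^p = 0, exp_p(Y) = Σ_{j<p} Y^j/j!. -/
theorem result (p : ℕ) [Fact p.Prime] (A : Type u) [CommRing A] [CharP A p]
    (n : ℕ) (f : Polynomial A) (hdeg : f.natDegree < p ^ n) (h0 : f.eval 0 = 1)
    (hmul : Ideal.Quotient.mk
        (Ideal.span {(MvPolynomial.X 0 ^ p ^ n : MvPolynomial (Fin 2) A), MvPolynomial.X 1 ^ p ^ n})
        (Polynomial.aeval (MvPolynomial.X 0 + MvPolynomial.X 1 : MvPolynomial (Fin 2) A) f) =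
      Ideal.Quotient.mk
        (Ideal.span {(MvPolynomial.X 0 ^ p ^ n : MvPolynomial (Fin 2) A), MvPolynomial.X 1 ^ p ^ n})
        (Polynomial.aeval (MvPolynomial.X 0 : MvPolynomial (Fin 2) A) f *
          Polynomial.aeval (MvPolynomial.X 1 : MvPolynomial (Fin 2) A) f)) :
    ∃ a : ℕ → A, (∀ i, a i ^ p = 0) ∧
      f = ∏ i ∈ Finset.range n, ∑ j ∈ Finset.range p,
          Polynomial.C (Ring.inverse (j.factorial : A) * a i ^ j) * Polynomial.X ^ (j * p ^ i) := by
  classical
  have hp : p.Prime := Fact.out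
  have hc0 : f.coeff 0 = 1 := by rw [Polynomial.coeff_zero_eq_eval_zero, h0]
  have hrel : ∀ i j, i < p ^ n → j < p ^ n →
      ((i + j).choose i : A) * f.coeff (i + j) = f.coeff i * f.coeff j := by
    intro i j hi hj
    have hmem := (Ideal.Quotient.eq).mp hmul
    have h1 := coeff_eq_zero_of_mem (p ^ n) _ hmem i j hi hj
    rw [MvPolynomial.coeff_sub, Groth.Agent.Lib.Helper71.AddChar.coeff_aeval_add,
      Groth.Agent.Lib.Helper71.AddChar.coeff_aeval_mul,
      Groth.Agent.Lib.Helper71.AddChar.pe_zero, Groth.Agent.Lib.Helper71.AddChar.pe_one,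
      sub_eq_zero] at h1
    exact h1
  refine ⟨fun k => if k < n then f.coeff (p ^ k) else 0, ?_, ?_⟩
  · intro k
    by_cases hk : k < n
    · simp only [if_pos hk]
      exact Groth.Agent.Lib.Helper71.AddChar.c_pow_p p (fun i => f.coeff i) n hc0 hrel k hk
    · simp only [if_neg hk]
      exact zero_pow hp.ne_zero
  · have h1 := Groth.Agent.Lib.Helper71.AddChar.F_eq_prod p (fun i => f.coeff i) n hc0 hrel n le_rfl
    have h2 : f = ∑ i ∈ Finset.range (p ^ n), Polynomial.C (f.coeff i) * Polynomial.X ^ i := by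
      conv_lhs => rw [Polynomial.as_sum_range' f (p ^ n) hdeg]
      apply Finset.sum_congr rfl
      intro i _
      rw [Polynomial.C_mul_X_pow_eq_monomial]
    refine (h2.trans h1).trans ?_
    apply Finset.prod_congr rfl
    intro k hk
    simp only [if_pos (Finset.mem_range.mp hk)]
    rfl

end Groth.Agent.S13374
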