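import Groth.Statements.S13379
-- import your own Groth.Agent.* helpers here

set_option autoImplicit false
universe u
open ProCompl

namespace Groth.Agent.S13379


open ProfiniteGrp ProfiniteCompletion CategoryTheory in
section
lemma map_eta {G G' : GrpCat.{u}} (f : G ⟶ G') (x : G) :
    (profiniteCompletion.map f).hom (etaFn G x) = etaFn G' (f.hom x) := by
  have h := lift_eta (f ≫ eta G')
  have := ConcreteCategory.congr_hom h x
  exact this

lemma continuous_proj (G : GrpCat.{u}) (H : FiniteIndexNormalSubgroup G) :
    Continuous (fun x : completion G => x.1 H) := by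
  exact ((limitCone (diagram G)).π.app H).hom.continuous_toFun

lemma surj_of_surj {G G' : GrpCat.{u}} (f : G ⟶ G') (hf : Function.Surjective f.hom) :
    Function.Surjective (profiniteCompletion.map f).hom := by
  have hc : Continuous (profiniteCompletion.map f).hom :=
    (profiniteCompletion.map f).hom.continuous_toFun
  have hclosed : IsClosed (Set.range (profiniteCompletion.map f).hom) :=
    (isCompact_range hc).isClosed
  have hdense : Dense (Set.range (profiniteCompletion.map f).hom) := by
    apply (denseRange G').mono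
    rintro _ ⟨y, rfl⟩
    obtain ⟨x, rfl⟩ := hf y
    exact ⟨etaFn G x, map_eta f x⟩
  rw [← Set.range_eq_univ, ← hclosed.closure_eq, hdense.closure_eq]

set_option backward.isDefEq.respectTransparency false in
lemma mem_closure_eta {G : GrpCat.{u}} (S : Set G) (x : completion G)
    (h : ∀ H : FiniteIndexNormalSubgroup G,
      ∃ s ∈ S, (QuotientGroup.mk s : G ⧸ H.toSubgroup) = x.1 H) :
    x ∈ closure (etaFn G '' S) := by
  rw [mem_closure_iff]
  rintro U ⟨s, hsO, hsv⟩ hxU
  obtain ⟨spc, hspc⟩ := x
  rw [← hsv, Set.mem_preimage] at hxU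
  rcases (isOpen_pi_iff.mp hsO) _ hxU with ⟨J, fJ, hJ1, hJ2⟩
  let M : Subgroup G := iInf fun (j : J) => j.val
  have hM : M.Normal := Subgroup.normal_iInf_normal fun j => inferInstance
  have hMFinite : M.FiniteIndex := by
    apply Subgroup.finiteIndex_iInf
    infer_instance
  let m : FiniteIndexNormalSubgroup G := { toSubgroup := M }
  obtain ⟨origin, hoS, horigin⟩ := h m
  refine ⟨etaFn G origin, ?_, origin, hoS, rfl⟩
  rw [← hsv]
  apply hJ2
  intro a a_in_J
  let M_to_Na : m ⟶ a := (iInf_le (fun (j : J) => (j.val.toSubgroup)) ⟨a, a_in_J⟩).hom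
  rw [← (etaFn G origin).property M_to_Na]
  dsimp [etaFn] at ⊢ horigin
  rw [horigin]
  exact Set.mem_of_eq_of_mem (hspc M_to_Na) (hJ1 a a_in_J).right

theorem key (A : Type u) [CommGroup A] (A' : Subgroup A)
    (x : completion (GrpCat.of A))
    (hx : (profiniteCompletion.map (GrpCat.ofHom (QuotientGroup.mk' A'))).hom x = 1)
    (H : FiniteIndexNormalSubgroup (GrpCat.of A)) :
    ∃ s ∈ (A' : Set A), (QuotientGroup.mk s : A ⧸ H.toSubgroup) = x.1 H := by
  let H' : Subgroup A := H.toSubgroup ⊔ A'
  let K' : Subgroup (A ⧸ A') := H'.map (QuotientGroup.mk' A')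
  have hH'fin : H'.FiniteIndex := Subgroup.finiteIndex_of_le (H := H.toSubgroup) le_sup_left
  have hK'fin : K'.FiniteIndex := by
    rw [Subgroup.finiteIndex_iff]
    intro h0
    have := Subgroup.index_map_dvd H' (QuotientGroup.mk'_surjective A')
    rw [h0, zero_dvd_iff] at this
    exact hH'fin.index_ne_zero this
  let K : FiniteIndexNormalSubgroup (GrpCat.of (A ⧸ A')) := { toSubgroup := K' }
  have hle : H.toSubgroup ≤ K'.comap (QuotientGroup.mk' A') := by
    intro h hh
    exact ⟨h, Subgroup.mem_sup_left hh, rfl⟩
  let φ2 : A ⧸ H.toSubgroup →* (A ⧸ A') ⧸ K' := QuotientGroup.map H.toSubgroup K' (QuotientGroup.mk' A') hle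
  let X : ProfiniteGrp := (diagram (GrpCat.of A)).obj H
  let Y : ProfiniteGrp := (diagram (GrpCat.of (A ⧸ A'))).obj K
  let φ2' : X → Y := fun q => φ2 q
  have hφ2' : Continuous φ2' := continuous_bot
  have hfun : (fun y : completion (GrpCat.of A) =>
      (((profiniteCompletion.map (GrpCat.ofHom (QuotientGroup.mk' A'))).hom y).1 K : Y)) =
      (fun y : completion (GrpCat.of A) => φ2' (y.1 H)) := by
    refine (denseRange (GrpCat.of A)).equalizer ?_ ?_ ?_
    · exact (continuous_proj _ K).comp
        (profiniteCompletion.map (GrpCat.ofHom (QuotientGroup.mk' A'))).hom.continuous_toFun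
    · exact hφ2'.comp (continuous_proj _ H)
    · funext a
      simp only [Function.comp_apply]
      rw [map_eta]
      rfl
  have h1 := congrFun hfun x
  simp only at h1
  rw [hx] at h1
  obtain ⟨a, ha⟩ := QuotientGroup.mk_surjective (x.1 H)
  rw [← ha] at h1
  have h2 : (QuotientGroup.mk (QuotientGroup.mk' A' a) : (A ⧸ A') ⧸ K') = 1 := h1.symm
  rw [QuotientGroup.eq_one_iff] at h2
  obtain ⟨h', hh', hh'a⟩ := h2
  have h3 : a ∈ H' := by
    have : h'⁻¹ * a ∈ A' := QuotientGroup.eq.mp hh'a
    have h4 : a = h' * (h'⁻¹ * a) := by group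
    rw [h4]
    exact mul_mem hh' (Subgroup.mem_sup_right this)
  obtain ⟨h, hh, a', ha', rfl⟩ := Subgroup.mem_sup.mp h3
  refine ⟨a', ha', ?_⟩
  rw [← ha]
  apply QuotientGroup.eq.mpr
  have : a'⁻¹ * (h * a') = h := by rw [mul_comm h, inv_mul_cancel_left]
  rw [this]
  exact hh
end

/-- Profinite completion is right exact: for an abelian group A (written multiplicatively, discrete) and
a subgroup A', the map on profinite completions induced by A → A/A' is surjective and its kernel is
the image of the completion of A'. (The published statement is right-exactness for topological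
abelian groups with completions formed from open subgroups of finite index; this row is the case of
the discrete topology.) -/
theorem result (A : Type u) [CommGroup A] (A' : Subgroup A) :
    Function.Surjective (ProfiniteGrp.profiniteCompletion.map (GrpCat.ofHom (QuotientGroup.mk' A'))).hom ∧
      (ProfiniteGrp.profiniteCompletion.map (GrpCat.ofHom (QuotientGroup.mk' A'))).hom.toMonoidHom.ker =
        (ProfiniteGrp.profiniteCompletion.map (GrpCat.ofHom A'.subtype)).hom.toMonoidHom.range := by
  refine ⟨surj_of_surj _ (QuotientGroup.mk'_surjective A'), ?_⟩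
  have hrange_closed : IsClosed (Set.range
      (ProfiniteGrp.profiniteCompletion.map (GrpCat.ofHom A'.subtype)).hom) :=
    (isCompact_range
      (ProfiniteGrp.profiniteCompletion.map (GrpCat.ofHom A'.subtype)).hom.continuous_toFun).isClosed
  ext x
  constructor
  · intro hx
    have hx' : (ProfiniteGrp.profiniteCompletion.map
        (GrpCat.ofHom (QuotientGroup.mk' A'))).hom x = 1 := hx
    have hcl := mem_closure_eta (G := GrpCat.of A) (A' : Set A) x (key A A' x hx')
    have hsub : ProfiniteGrp.ProfiniteCompletion.etaFn (GrpCat.of A) '' (A' : Set A) ⊆ Set.range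
        (ProfiniteGrp.profiniteCompletion.map (GrpCat.ofHom A'.subtype)).hom := by
      rintro _ ⟨a, ha, rfl⟩
      exact ⟨ProfiniteGrp.ProfiniteCompletion.etaFn (GrpCat.of A') ⟨a, ha⟩,
        map_eta (GrpCat.ofHom A'.subtype) ⟨a, ha⟩⟩
    have := closure_minimal hsub hrange_closed hcl
    exact this
  · rintro ⟨y, rfl⟩
    change (ProfiniteGrp.profiniteCompletion.map (GrpCat.ofHom (QuotientGroup.mk' A'))).hom
      ((ProfiniteGrp.profiniteCompletion.map (GrpCat.ofHom A'.subtype)).hom y) = 1
    have hfun : (fun y => (ProfiniteGrp.profiniteCompletion.map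
        (GrpCat.ofHom (QuotientGroup.mk' A'))).hom
        ((ProfiniteGrp.profiniteCompletion.map (GrpCat.ofHom A'.subtype)).hom y)) =
        (fun _ => 1) := by
      refine (ProfiniteGrp.ProfiniteCompletion.denseRange (GrpCat.of A')).equalizer ?_ ?_ ?_
      · exact (ProfiniteGrp.profiniteCompletion.map
          (GrpCat.ofHom (QuotientGroup.mk' A'))).hom.continuous_toFun.comp
          (ProfiniteGrp.profiniteCompletion.map (GrpCat.ofHom A'.subtype)).hom.continuous_toFun
      · exact continuous_const
      · funext a
        simp only [Function.comp_apply]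
        rw [map_eta, map_eta]
        have : (GrpCat.ofHom (QuotientGroup.mk' A')).hom ((GrpCat.ofHom A'.subtype).hom a) = 1 := by
          change (QuotientGroup.mk' A') (a : A) = 1
          rw [QuotientGroup.mk'_apply, QuotientGroup.eq_one_iff]
          exact a.2
        rw [this]
        rfl
    exact congrFun hfun y

end Groth.Agent.S13379
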