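import Groth.Statements.S13378
import Groth.Agent.S13379
import Mathlib.Algebra.Module.CharacterModule
import Mathlib.Tactic
-- import your own Groth.Agent.* helpers here

set_option autoImplicit false
universe u
open ProCompl

namespace Groth.Agent.S13378

lemma exists_finiteIndex_notMem {E : Type*} [CommGroup E] (n : ℕ) (hn : 0 < n)
    (hE : ∀ x : E, x ^ n = 1) (e : E) (he : e ≠ 1) :
    ∃ K : Subgroup E, K.FiniteIndex ∧ e ∉ K := by
  have hne : Additive.ofMul e ≠ 0 := fun h => he (by simpa using h)
  obtain ⟨c, hc⟩ := CharacterModule.exists_character_apply_ne_zero_of_ne_zero hne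
  let c' : Additive E →+ AddCircle (1 : ℚ) := c
  let f : E →* Multiplicative (AddCircle (1 : ℚ)) := AddMonoidHom.toMultiplicativeRight c'
  have hf : ∀ x, f x = Multiplicative.ofAdd (c' (Additive.ofMul x)) := fun x => rfl
  refine ⟨f.ker, ?_, ?_⟩
  · have hfin : (Set.range f).Finite := by
      have h1 : ({u : AddCircle (1 : ℚ) | n • u = 0}).Finite := AddCircle.finite_torsion (1 : ℚ) hn
      have h2 : (Multiplicative.toAdd ⁻¹' {u : AddCircle (1 : ℚ) | n • u = 0}).Finite :=
        h1.preimage (Multiplicative.toAdd.injective.injOn)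
      refine h2.subset ?_
      rintro _ ⟨x, rfl⟩
      show n • (c' (Additive.ofMul x)) = 0
      rw [← map_nsmul, ← ofMul_pow, hE, ofMul_one, map_zero]
    have : Finite f.range := hfin
    rw [Subgroup.finiteIndex_iff, Subgroup.index_ker]
    exact Nat.card_pos.ne'
  · intro hmem
    rw [MonoidHom.mem_ker, hf] at hmem
    have h3 : c' (Additive.ofMul e) = 0 := by simpa using hmem
    exact hc h3

lemma exists_finiteIndex_comap_le (A : Type u) [CommGroup A] (A' : Subgroup A)
    (htors : ∃ N : ℕ, 0 < N ∧ ∀ x : A ⧸ A', IsOfFinOrder x → x ^ N = 1)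
    (H' : Subgroup A') [H'.FiniteIndex] :
    ∃ H : Subgroup A, H.FiniteIndex ∧ H.comap A'.subtype ≤ H' := by
  obtain ⟨N, hN, hNt⟩ := htors
  set m := H'.index with hm
  have hm0 : 0 < m := Nat.pos_of_ne_zero Subgroup.FiniteIndex.index_ne_zero
  have hpow : ∀ a : A', a ^ m ∈ H' := fun a => Subgroup.pow_index_mem H' a
  set n := N * m with hn
  have hn0 : 0 < n := Nat.mul_pos hN hm0
  let H'' : Subgroup A := H'.map A'.subtype
  let P : Subgroup A := (powMonoidHom n : A →* A).range ⊔ H''
  have key : ∀ a : A', (a : A) ∈ P → a ∈ H' := by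
    intro a ha
    obtain ⟨y, ⟨x, rfl⟩, z, ⟨h, hh, rfl⟩, hyz⟩ := Subgroup.mem_sup.mp ha
    simp only [powMonoidHom_apply, Subgroup.subtype_apply] at hyz
    have hx1 : x ^ n ∈ A' := by
      have : x ^ n = a * (h : A)⁻¹ := by rw [← hyz]; group
      rw [this]
      exact mul_mem a.2 (inv_mem h.2)
    have hx2 : IsOfFinOrder (QuotientGroup.mk x : A ⧸ A') := by
      rw [isOfFinOrder_iff_pow_eq_one]
      refine ⟨n, hn0, ?_⟩
      rw [← QuotientGroup.mk_pow, QuotientGroup.eq_one_iff]
      exact hx1
    have hx3 := hNt _ hx2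
    rw [← QuotientGroup.mk_pow, QuotientGroup.eq_one_iff] at hx3
    let b : A' := ⟨x ^ N, hx3⟩
    have hb : a = b ^ m * h := by
      apply Subtype.ext
      simp only [Subgroup.coe_mul, Subgroup.coe_pow, b]
      rw [← pow_mul, ← hyz]
    rw [hb]
    exact mul_mem (hpow b) hh
  have hE : ∀ x : A ⧸ P, x ^ n = 1 := by
    intro x
    induction x using QuotientGroup.induction_on with
    | H a =>
      rw [← QuotientGroup.mk_pow, QuotientGroup.eq_one_iff]
      exact Subgroup.mem_sup_left ⟨a, rfl⟩
  have hle : H' ≤ P.comap A'.subtype := by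
    intro h hh
    exact Subgroup.mem_sup_right ⟨h, hh, rfl⟩
  let g : A' ⧸ H' →* A ⧸ P := QuotientGroup.map H' P A'.subtype hle
  have hg : ∀ q : A' ⧸ H', q ≠ 1 → g q ≠ 1 := by
    intro q
    induction q using QuotientGroup.induction_on with
    | H a =>
      intro hq hgq
      apply hq
      rw [QuotientGroup.eq_one_iff]
      apply key
      have : g (QuotientGroup.mk a) = QuotientGroup.mk (a : A) := rfl
      rw [this, QuotientGroup.eq_one_iff] at hgq
      exact hgq
  have hex : ∀ q : A' ⧸ H', ∃ K : Subgroup (A ⧸ P), K.FiniteIndex ∧ (q ≠ 1 → g q ∉ K) := by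
    intro q
    by_cases hq : q = 1
    · exact ⟨⊤, inferInstance, fun h => absurd hq h⟩
    · obtain ⟨K, hK1, hK2⟩ := exists_finiteIndex_notMem n hn0 hE (g q) (hg q hq)
      exact ⟨K, hK1, fun _ => hK2⟩
  choose K hK1 hK2 using hex
  have : Finite (A' ⧸ H') := Subgroup.finite_quotient_of_finiteIndex
  let Kall : Subgroup (A ⧸ P) := ⨅ q, K q
  have hKall : Kall.FiniteIndex := Subgroup.finiteIndex_iInf hK1
  refine ⟨Kall.comap (QuotientGroup.mk' P), ?_, ?_⟩
  · rw [Subgroup.finiteIndex_iff, Subgroup.index_comap_of_surjective _ (QuotientGroup.mk'_surjective P)]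
    exact hKall.index_ne_zero
  · intro a ha
    by_contra hcon
    have hq : (QuotientGroup.mk a : A' ⧸ H') ≠ 1 := by
      rw [Ne, QuotientGroup.eq_one_iff]
      exact hcon
    apply hK2 _ hq
    have ha' : (QuotientGroup.mk (a : A) : A ⧸ P) ∈ Kall := ha
    exact (iInf_le K _ : Kall ≤ _) ha'

open ProfiniteGrp ProfiniteCompletion CategoryTheory Groth.Agent.S13379 in
/-- For an abelian group A (written multiplicatively, discrete) and a subgroup A' such that the quotient
A/A' has no nontrivial divisible element and its torsion elements are killed by one positive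
integer, the map induced on profinite completions by the inclusion of A' in A is injective. (The
published statement is for topological abelian groups in which every nA is open, with completions
formed from open subgroups of finite index; this row is the case of the discrete topology.) -/
theorem result (A : Type u) [CommGroup A] (A' : Subgroup A)
    (hdiv : ∀ x : A ⧸ A', (∀ n : ℕ, 0 < n → ∃ y : A ⧸ A', y ^ n = x) → x = 1)
    (htors : ∃ N : ℕ, 0 < N ∧ ∀ x : A ⧸ A', IsOfFinOrder x → x ^ N = 1) :
    Function.Injective (ProfiniteGrp.profiniteCompletion.map (GrpCat.ofHom A'.subtype)).hom := by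
  rw [injective_iff_map_eq_one]
  intro y hy
  apply Subtype.ext
  funext H'
  have : H'.toSubgroup.FiniteIndex := H'.isFiniteIndex'
  obtain ⟨H, hH1, hH2⟩ := exists_finiteIndex_comap_le A A' htors H'.toSubgroup
  let Hn : FiniteIndexNormalSubgroup (GrpCat.of A) := { toSubgroup := H }
  let H₁ : FiniteIndexNormalSubgroup (GrpCat.of A') := Hn.comap A'.subtype
  let φ : A' ⧸ H₁.toSubgroup →* A ⧸ H := QuotientGroup.map _ _ A'.subtype (fun _ h => h)
  have hφ : ∀ q, φ q = 1 → q = 1 := by
    intro q
    induction q using QuotientGroup.induction_on with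
    | H a =>
      intro h
      have h1 : φ (QuotientGroup.mk a) = QuotientGroup.mk (a : A) := rfl
      rw [h1, QuotientGroup.eq_one_iff] at h
      rw [QuotientGroup.eq_one_iff]
      exact h
  let X : ProfiniteGrp := (diagram (GrpCat.of A')).obj H₁
  let Y : ProfiniteGrp := (diagram (GrpCat.of A)).obj Hn
  let φ' : X → Y := fun q => φ q
  have hφ' : Continuous φ' := continuous_bot
  have hfun : (fun y : completion (GrpCat.of A') =>
      (((profiniteCompletion.map (GrpCat.ofHom A'.subtype)).hom y).1 Hn : Y)) =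
      (fun y : completion (GrpCat.of A') => φ' (y.1 H₁)) := by
    refine (denseRange (GrpCat.of A')).equalizer ?_ ?_ ?_
    · exact (continuous_proj _ Hn).comp
        (profiniteCompletion.map (GrpCat.ofHom A'.subtype)).hom.continuous_toFun
    · exact hφ'.comp (continuous_proj _ H₁)
    · funext a
      simp only [Function.comp_apply]
      rw [map_eta]
      rfl
  have h1 := congrFun hfun y
  simp only at h1
  rw [hy] at h1
  have h2 : y.1 H₁ = 1 := hφ _ h1.symm
  have hle : H₁ ≤ H' := hH2
  have h3 := y.2 (homOfLE hle)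
  rw [h2] at h3
  rw [← h3]
  exact map_one _

end Groth.Agent.S13378
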