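import Groth.Statements.S13386
-- import your own Groth.Agent.* helpers here

set_option autoImplicit false
universe u
open scoped TensorProduct
open ZeroCyc

namespace Groth.Agent.S13386

/-- Let A' = T⁻¹A be a localization of the ring A, M an A-module and M' = A' ⊗_A M. In the divided power
algebra Γ_{A'}(M') the A'-span of the d-th divided powers γ_d(1 ⊗ m), m ∈ M, is the A'-span of
γ_d(M'). (The published statement phrases this as the surjectivity of the natural map from (γ_d(M))
⊗_A A' onto (γ_d(M')); its further clause through the base-change isomorphism Γ_A(M) ⊗_A A' ≅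
Γ_{A'}(M') is not restated here.) -/
theorem result {A A' M : Type u} [CommRing A] [CommRing A']
    [Algebra A A'] (T : Submonoid A) [IsLocalization T A'] [AddCommGroup M] [Module A M] (d : ℕ) :
    Submodule.span A' (Set.range fun m : M => DividedPowerAlgebra.dp A' d ((1 : A') ⊗ₜ[A] m)) =
      Submodule.span A' (Set.range (DividedPowerAlgebra.dp A' d (M := A' ⊗[A] M))) := by
  have hsurj : ∀ x : A' ⊗[A] M, ∃ (t : T) (m : M), (t : A) • x = (1 : A') ⊗ₜ[A] m := by
    intro x
    induction x using TensorProduct.induction_on with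
    | zero => exact ⟨1, 0, by simp⟩
    | tmul a' m =>
      obtain ⟨⟨a, t⟩, h⟩ := IsLocalization.surj T a'
      refine ⟨t, a • m, ?_⟩
      rw [TensorProduct.tmul_smul, TensorProduct.smul_tmul', TensorProduct.smul_tmul',
        Algebra.smul_def, Algebra.smul_def, mul_one, mul_comm]
      exact congrArg (· ⊗ₜ[A] m) h
    | add x y hx hy =>
      obtain ⟨t₁, m₁, h₁⟩ := hx
      obtain ⟨t₂, m₂, h₂⟩ := hy
      refine ⟨t₁ * t₂, (t₂ : A) • m₁ + (t₁ : A) • m₂, ?_⟩
      rw [TensorProduct.tmul_add, TensorProduct.tmul_smul, TensorProduct.tmul_smul, ← h₁, ← h₂,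
        smul_add, Submonoid.coe_mul, mul_smul, mul_smul, smul_comm (t₁ : A) (t₂ : A) x]
  apply le_antisymm
  · apply Submodule.span_mono
    rintro _ ⟨m, rfl⟩
    exact ⟨_, rfl⟩
  · rw [Submodule.span_le]
    rintro _ ⟨x, rfl⟩
    obtain ⟨t, m, h⟩ := hsurj x
    have hu : IsUnit (algebraMap A A' t) := IsLocalization.map_units A' t
    obtain ⟨u, hu'⟩ := hu
    have hx : x = (↑u⁻¹ : A') • ((1 : A') ⊗ₜ[A] m) := by
      rw [← h, ← algebraMap_smul A' (t : A) x, ← hu', smul_smul, Units.inv_mul, one_smul]
    rw [hx, DividedPowerAlgebra.dp_smul]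
    exact Submodule.smul_mem _ _ (Submodule.subset_span ⟨m, rfl⟩)

end Groth.Agent.S13386
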