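import Groth.Statements.S13387
import Mathlib.LinearAlgebra.Vandermonde
import Mathlib.LinearAlgebra.Matrix.NonsingularInverse
import Mathlib.RingTheory.LocalRing.ResidueField.Ideal
import Mathlib.SetTheory.Cardinal.Finite
import Mathlib.Tactic.LinearCombination
import Mathlib.Tactic.Ring

set_option autoImplicit false
universe u
open ZeroCyc

namespace Groth.Agent.S13387

theorem exists_points {A : Type u} [CommRing A] (p : Ideal A) [p.IsPrime] (e : ℕ)
    (hcard : (e : Cardinal) ≤ Cardinal.mk p.ResidueField) :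
    ∃ v w : Fin (e + 1) → A, ∀ i j : Fin (e + 1), i < j → v j * w i - v i * w j ∉ p := by
  classical
  have hemb : Nonempty (Fin e ↪ p.ResidueField) := by
    rw [← Cardinal.lift_mk_le']
    simpa using hcard
  obtain ⟨c⟩ := hemb
  have hfrac : ∀ i : Fin e, ∃ a s : A, s ∉ p ∧
      c i * algebraMap A p.ResidueField s = algebraMap A p.ResidueField a := by
    intro i
    obtain ⟨x, y, hy, hxy⟩ := IsFractionRing.div_surjective (A := A ⧸ p) (c i)
    obtain ⟨a, rfl⟩ := Ideal.Quotient.mk_surjective x
    obtain ⟨s, rfl⟩ := Ideal.Quotient.mk_surjective y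
    have hs : s ∉ p := by
      intro hs
      have : Ideal.Quotient.mk p s = 0 := Ideal.Quotient.eq_zero_iff_mem.mpr hs
      rw [this] at hy
      exact zero_notMem_nonZeroDivisors hy
    refine ⟨a, s, hs, ?_⟩
    have hne : algebraMap A p.ResidueField s ≠ 0 := by
      rw [ne_eq, Ideal.algebraMap_residueField_eq_zero]
      exact hs
    rw [Ideal.algebraMap_quotient_residueField_mk, Ideal.algebraMap_quotient_residueField_mk] at hxy
    rw [← hxy, div_mul_cancel₀ _ hne]
  choose a s hs has using hfrac
  refine ⟨Fin.snoc a 1, Fin.snoc s 0, ?_⟩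
  intro i j hij
  rcases Fin.eq_castSucc_or_eq_last j with ⟨j', rfl⟩ | rfl
  · have hi' : (i : ℕ) < e := lt_of_lt_of_le (Fin.lt_def.mp hij) (Nat.le_of_lt j'.2)
    obtain ⟨i', rfl⟩ : ∃ i' : Fin e, i = i'.castSucc := ⟨⟨i, hi'⟩, rfl⟩
    simp only [Fin.snoc_castSucc]
    intro hmem
    have h0 := (Ideal.algebraMap_residueField_eq_zero (I := p)).mpr hmem
    rw [map_sub, map_mul, map_mul, ← has j', ← has i'] at h0
    have hne : c j' ≠ c i' := by
      intro hc
      have := c.injective hc
      rw [this] at hij
      exact lt_irrefl _ hij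
    have hsi : algebraMap A p.ResidueField (s i') ≠ 0 := by
      rw [ne_eq, Ideal.algebraMap_residueField_eq_zero]
      exact hs i'
    have hsj : algebraMap A p.ResidueField (s j') ≠ 0 := by
      rw [ne_eq, Ideal.algebraMap_residueField_eq_zero]
      exact hs j'
    have h1 : (c j' - c i') * (algebraMap A p.ResidueField (s i') * algebraMap A p.ResidueField (s j')) = 0 := by
      linear_combination h0
    rcases mul_eq_zero.mp h1 with h2 | h2
    · exact hne (sub_eq_zero.mp h2)
    · rcases mul_eq_zero.mp h2 with h3 | h3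
      · exact hsi h3
      · exact hsj h3
  · have hi' : (i : ℕ) < e := Fin.lt_def.mp hij
    obtain ⟨i', rfl⟩ : ∃ i' : Fin e, i = i'.castSucc := ⟨⟨i, hi'⟩, rfl⟩
    simp only [Fin.snoc_castSucc, Fin.snoc_last]
    rw [one_mul, mul_zero, sub_zero]
    exact hs i'

theorem two_var_local {A M : Type u} [CommRing A] [AddCommGroup M] [Module A M] (p : Ideal A)
    [p.IsPrime] (e : ℕ) (v w : Fin (e + 1) → A)
    (hvw : ∀ i j : Fin (e + 1), i < j → v j * w i - v i * w j ∉ p) (x m : M) (j : ℕ) (hj : j ≤ e) :
    ∃ a : A, a ∉ p ∧ a • (DividedPowerAlgebra.dp A j m * DividedPowerAlgebra.dp A (e - j) x) ∈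
      Submodule.span A (Set.range (DividedPowerAlgebra.dp A e : M → DividedPowerAlgebra A M)) := by
  classical
  set V : Matrix (Fin (e + 1)) (Fin (e + 1)) A := Matrix.projVandermonde v w with hV
  have hdet : V.det ∉ p := by
    rw [hV, Matrix.det_projVandermonde, Ideal.IsPrime.prod_mem_iff]
    rintro ⟨i, -, hi⟩
    rw [Ideal.IsPrime.prod_mem_iff] at hi
    obtain ⟨k, hk, hik⟩ := hi
    rw [Finset.mem_Ioi] at hk
    exact hvw i k hk hik
  set vv : Fin (e + 1) → DividedPowerAlgebra A M :=
    fun b => DividedPowerAlgebra.dp A (b : ℕ) m * DividedPowerAlgebra.dp A (e - (b : ℕ)) x with hvv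
  have hu : ∀ i : Fin (e + 1), DividedPowerAlgebra.dp A e (v i • m + w i • x) = ∑ b, V i b • vv b := by
    intro i
    rw [DividedPowerAlgebra.dp_add,
      Finset.Nat.sum_antidiagonal_eq_sum_range_succ
        (fun a b => DividedPowerAlgebra.dp A a (v i • m) * DividedPowerAlgebra.dp A b (w i • x)) e,
      Finset.sum_range]
    apply Finset.sum_congr rfl
    intro b _
    have hrev : (Fin.rev b : ℕ) = e - (b : ℕ) := by
      rw [Fin.val_rev]
      omega
    rw [hV, Matrix.projVandermonde_apply, hvv, DividedPowerAlgebra.dp_smul, DividedPowerAlgebra.dp_smul,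
      hrev, smul_mul_smul_comm]
  have hadj : V.adjugate * V = V.det • (1 : Matrix (Fin (e + 1)) (Fin (e + 1)) A) := Matrix.adjugate_mul V
  have hvj : ∀ b : Fin (e + 1), V.det • vv b =
      ∑ i, V.adjugate b i • DividedPowerAlgebra.dp A e (v i • m + w i • x) := by
    intro b
    have : ∑ i, V.adjugate b i • DividedPowerAlgebra.dp A e (v i • m + w i • x)
        = ∑ c, (V.adjugate * V) b c • vv c := by
      simp_rw [hu, Finset.smul_sum, smul_smul]
      rw [Finset.sum_comm]
      apply Finset.sum_congr rfl
      intro c _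
      rw [Matrix.mul_apply, Finset.sum_smul]
    rw [this, hadj]
    simp [Matrix.one_apply]
  refine ⟨V.det, hdet, ?_⟩
  have := hvj ⟨j, Nat.lt_succ_iff.mpr hj⟩
  simp only [hvv] at this
  rw [this]
  apply Submodule.sum_mem
  intro i _
  apply Submodule.smul_mem
  exact Submodule.subset_span ⟨_, rfl⟩

theorem prod_local {A M : Type u} [CommRing A] [AddCommGroup M] [Module A M] (p : Ideal A)
    [p.IsPrime] (d : ℕ) (hcard : (d : Cardinal) ≤ Cardinal.mk p.ResidueField) :
    ∀ (n : ℕ) (e : ℕ), e ≤ d → ∀ (k : Fin n → ℕ) (m : Fin n → M), (∑ i, k i) = e →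
      ∃ a : A, a ∉ p ∧ a • ∏ i, DividedPowerAlgebra.dp A (k i) (m i) ∈
        Submodule.span A (Set.range (DividedPowerAlgebra.dp A e : M → DividedPowerAlgebra A M)) := by
  intro n
  induction n with
  | zero =>
    intro e he k m hk
    simp only [Finset.univ_eq_empty, Finset.sum_empty, Finset.prod_empty] at hk ⊢
    rw [← hk]
    refine ⟨1, ?_, ?_⟩
    · intro h1
      exact (Ideal.IsPrime.ne_top' (I := p)) ((Ideal.eq_top_iff_one p).mpr h1)
    · rw [one_smul]
      exact Submodule.subset_span ⟨0, DividedPowerAlgebra.dp_zero⟩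
  | succ n ih =>
    intro e he k m hk
    rw [Fin.sum_univ_castSucc] at hk
    rw [Fin.prod_univ_castSucc]
    have hle : k (Fin.last n) ≤ e := by omega
    obtain ⟨a1, ha1, h1⟩ := ih (e - k (Fin.last n)) (by omega) (fun i => k i.castSucc)
      (fun i => m i.castSucc) (by omega)
    have hecard : (e : Cardinal) ≤ Cardinal.mk p.ResidueField :=
      le_trans (by exact_mod_cast he) hcard
    obtain ⟨v, w, hvw⟩ := exists_points p e hecard
    have key : ∀ q ∈ Submodule.span A (Set.range (DividedPowerAlgebra.dp A (e - k (Fin.last n)) :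
        M → DividedPowerAlgebra A M)),
        ∃ a : A, a ∉ p ∧ a • (q * DividedPowerAlgebra.dp A (k (Fin.last n)) (m (Fin.last n))) ∈
          Submodule.span A (Set.range (DividedPowerAlgebra.dp A e : M → DividedPowerAlgebra A M)) := by
      intro q hq
      refine Submodule.span_induction (p := fun q _ => ∃ a : A, a ∉ p ∧
        a • (q * DividedPowerAlgebra.dp A (k (Fin.last n)) (m (Fin.last n))) ∈
          Submodule.span A (Set.range (DividedPowerAlgebra.dp A e : M → DividedPowerAlgebra A M)))
        ?_ ?_ ?_ ?_ hq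
      · rintro q ⟨x, rfl⟩
        obtain ⟨a, ha, hmem⟩ := two_var_local p e v w hvw x (m (Fin.last n)) (k (Fin.last n)) hle
        refine ⟨a, ha, ?_⟩
        rw [mul_comm]
        exact hmem
      · refine ⟨1, ?_, by simp⟩
        intro h1
        exact (Ideal.IsPrime.ne_top' (I := p)) ((Ideal.eq_top_iff_one p).mpr h1)
      · rintro q1 q2 _ _ ⟨b1, hb1, hm1⟩ ⟨b2, hb2, hm2⟩
        refine ⟨b1 * b2, ?_, ?_⟩
        · intro hmem
          rcases Ideal.IsPrime.mem_or_mem (by infer_instance) hmem with h' | h'
          · exact hb1 h'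
          · exact hb2 h'
        · rw [add_mul, smul_add]
          apply Submodule.add_mem
          · rw [mul_comm b1 b2, mul_smul]
            exact Submodule.smul_mem _ _ hm1
          · rw [mul_smul]
            exact Submodule.smul_mem _ _ hm2
      · rintro c q _ ⟨b, hb, hm⟩
        refine ⟨b, hb, ?_⟩
        rw [smul_mul_assoc, smul_comm]
        exact Submodule.smul_mem _ _ hm
    obtain ⟨a2, ha2, h2⟩ := key _ h1
    refine ⟨a2 * a1, ?_, ?_⟩
    · intro hmem
      rcases Ideal.IsPrime.mem_or_mem (by infer_instance) hmem with h' | h'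
      · exact ha2 h'
      · exact ha1 h'
    · rw [mul_smul, ← smul_mul_assoc]
      exact h2

theorem cyclic_gen {A M : Type u} [CommRing A] [AddCommGroup M] [Module A M] (p : Ideal A)
    [p.IsPrime] (x : LocalizedModule p.primeCompl M)
    (hx : Submodule.span (Localization.AtPrime p) {x} = ⊤) :
    ∃ m0 : M, ∀ m : M, ∃ c : A, c ∉ p ∧ ∃ b : A, c • m = b • m0 := by
  induction x using LocalizedModule.induction_on with
  | h m0 s0 =>
    refine ⟨m0, ?_⟩
    intro m
    have hmem : LocalizedModule.mk m (1 : p.primeCompl) ∈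
        Submodule.span (Localization.AtPrime p) {LocalizedModule.mk m0 s0} := by
      rw [hx]
      exact Submodule.mem_top
    rw [Submodule.mem_span_singleton] at hmem
    obtain ⟨r, hr⟩ := hmem
    obtain ⟨a, s, rfl⟩ := IsLocalization.exists_mk'_eq p.primeCompl r
    rw [← Localization.mk_eq_mk'_apply, LocalizedModule.mk_smul_mk, LocalizedModule.mk_eq] at hr
    obtain ⟨u, hu⟩ := hr
    refine ⟨(u : A) * ((s : A) * (s0 : A)), ?_, (u : A) * a, ?_⟩
    · intro hmem
      rcases Ideal.IsPrime.mem_or_mem (by infer_instance) hmem with h' | h'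
      · exact u.2 h'
      · rcases Ideal.IsPrime.mem_or_mem (by infer_instance) h' with h'' | h''
        · exact s.2 h''
        · exact s0.2 h''
    · have e1 : u • (1 : p.primeCompl) • a • m0 = ((u : A) * a) • m0 := by
        rw [one_smul, Submonoid.smul_def, smul_smul]
      have e2 : u • (s * s0) • m = ((u : A) * ((s : A) * (s0 : A))) • m := by
        rw [Submonoid.smul_def, Submonoid.smul_def, smul_smul]
        rfl
      rw [← e1, ← e2]
      exact hu.symm

theorem cyclic_case {A M : Type u} [CommRing A] [AddCommGroup M] [Module A M] (p : Ideal A)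
    [p.IsPrime] (m0 : M) (hm0 : ∀ m : M, ∃ c : A, c ∉ p ∧ ∃ b : A, c • m = b • m0)
    (n : ℕ) (k : Fin n → ℕ) (m : Fin n → M) :
    ∃ a : A, a ∉ p ∧ a • ∏ i, DividedPowerAlgebra.dp A (k i) (m i) ∈
      Submodule.span A (Set.range (DividedPowerAlgebra.dp A (∑ i, k i) : M → DividedPowerAlgebra A M)) := by
  classical
  choose c hc b hcb using fun i => hm0 (m i)
  refine ⟨∏ i, c i ^ k i, ?_, ?_⟩
  · rw [Ideal.IsPrime.prod_mem_iff]
    rintro ⟨i, -, hi⟩
    exact hc i (Ideal.IsPrime.mem_of_pow_mem (by infer_instance) _ hi)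
  · rw [← Finset.prod_smul]
    have : ∀ i, c i ^ k i • DividedPowerAlgebra.dp A (k i) (m i)
        = b i ^ k i • DividedPowerAlgebra.dp A (k i) m0 := by
      intro i
      rw [← DividedPowerAlgebra.dp_smul, hcb, DividedPowerAlgebra.dp_smul]
    simp_rw [this]
    rw [Finset.prod_smul, DividedPowerAlgebra.prod_dp]
    apply Submodule.smul_mem
    rw [← nsmul_eq_mul]
    apply Submodule.smul_of_tower_mem
    exact Submodule.subset_span ⟨_, rfl⟩

/-- Let A be a commutative ring, M an A-module and d ≥ 0. Suppose that at each prime p of A either k(p)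
has d or more elements, or the localisation M_p is a cyclic A_p-module. Then the degree-d piece
Γ^d_A(M) of the divided power algebra Γ_A(M) is spanned over A by the d-th divided powers γ_d(m), m
∈ M. -/
theorem result {A M : Type u} [CommRing A] [AddCommGroup M]
    [Module A M] (d : ℕ)
    (h : ∀ p : PrimeSpectrum A, (d : Cardinal) ≤ Cardinal.mk p.asIdeal.ResidueField ∨
      ∃ x : LocalizedModule p.asIdeal.primeCompl M, Submodule.span (Localization.AtPrime p.asIdeal) {x} = ⊤) :
    Submodule.span A (Set.range (DividedPowerAlgebra.dp A d : M → DividedPowerAlgebra A M)) =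
      PolLaw.gammaPiece A M d := by
  apply le_antisymm
  · rw [Submodule.span_le]
    rintro q ⟨m, rfl⟩
    apply Submodule.subset_span
    refine ⟨1, fun _ => d, fun _ => m, by simp, by simp⟩
  · unfold PolLaw.gammaPiece
    rw [Submodule.span_le]
    rintro q ⟨n, k, m, hk, rfl⟩
    by_contra hP
    set W := Submodule.span A (Set.range (DividedPowerAlgebra.dp A d : M → DividedPowerAlgebra A M)) with hW
    set P := ∏ i, DividedPowerAlgebra.dp A (k i) (m i) with hPdef
    let J : Ideal A :=
      { carrier := {a | a • P ∈ W}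
        add_mem' := by
          intro a b ha hb
          change (a + b) • P ∈ W
          rw [add_smul]
          exact W.add_mem ha hb
        zero_mem' := by
          change (0 : A) • P ∈ W
          rw [zero_smul]
          exact W.zero_mem
        smul_mem' := by
          intro c a ha
          change (c • a) • P ∈ W
          rw [smul_eq_mul, mul_smul]
          exact W.smul_mem c ha }
    have hJ : J ≠ ⊤ := by
      intro htop
      have h1 : (1 : A) ∈ J := by
        rw [htop]
        exact Submodule.mem_top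
      have h2 : (1 : A) • P ∈ W := h1
      rw [one_smul] at h2
      exact hP h2
    obtain ⟨𝔪, hmax, hJm⟩ := Ideal.exists_le_maximal J hJ
    have := hmax.isPrime
    have hex : ∃ a : A, a ∉ 𝔪 ∧ a • P ∈ W := by
      rcases h ⟨𝔪, hmax.isPrime⟩ with hcard | ⟨x, hx⟩
      · exact prod_local 𝔪 d hcard n d le_rfl k m hk
      · obtain ⟨m0, hm0⟩ := cyclic_gen 𝔪 x hx
        have := cyclic_case 𝔪 m0 hm0 n k m
        rw [hk] at this
        exact this
    obtain ⟨a, ha, haP⟩ := hex
    exact ha (hJm haP)

end Groth.Agent.S13387
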