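import Groth.Statements.S13388
import Groth.Agent.Lib.Helper18.SqZeroModel
import Mathlib.FieldTheory.Finite.Basic
import Mathlib.RingTheory.DividedPowerAlgebra.Init
import Mathlib.RingTheory.LocalRing.Module
import Mathlib.LinearAlgebra.Dual.Lemmas
import Mathlib.RingTheory.LocalRing.ResidueField.Ideal
import Mathlib.SetTheory.Cardinal.Finite
import Mathlib.RingTheory.Localization.Finiteness

set_option autoImplicit false
universe u
open ZeroCyc

namespace Groth.Agent.S13388
open Groth.Agent.Lib.Helper18.SqZeroDP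

section core
variable {A M : Type u} [CommRing A] [AddCommGroup M] [Module A M] {k : Type u} [Field k] [Algebra A k]

noncomputable def cc (lam mu : M →ₗ[A] k) (m : M) : ℕ ⊕ ℕ → k :=
  Sum.elim (fun _ => lam m) (fun _ => mu m)

noncomputable def ww (lam mu : M →ₗ[A] k) (m : M) (i : ℕ ⊕ ℕ) : Mod (ℕ ⊕ ℕ) k :=
  cc lam mu m i • z i

def idx (d : ℕ) : Finset (ℕ ⊕ ℕ) := (Finset.range d).disjSum (Finset.range d)

theorem ww_mul (lam mu : M →ₗ[A] k) (u v : M) (i : ℕ ⊕ ℕ) :
    ww lam mu u i * ww lam mu v i = 0 := by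
  unfold ww
  rw [smul_mul_smul_comm, z_sq, smul_zero]

theorem ww_add (lam mu : M →ₗ[A] k) (u v : M) (i : ℕ ⊕ ℕ) :
    ww lam mu (u + v) i = ww lam mu u i + ww lam mu v i := by
  unfold ww cc
  rcases i with i | i
  · simp only [Sum.elim_inl, map_add, add_smul]
  · simp only [Sum.elim_inr, map_add, add_smul]

theorem ww_smul (lam mu : M →ₗ[A] k) (r : A) (m : M) (i : ℕ ⊕ ℕ) :
    ww lam mu (r • m) i = algebraMap A (Mod (ℕ ⊕ ℕ) k) r * ww lam mu m i := by
  unfold ww cc
  rw [← Algebra.smul_def]
  rcases i with i | i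
  · simp only [Sum.elim_inl, map_smul]
    rw [smul_assoc]
  · simp only [Sum.elim_inr, map_smul]
    rw [smul_assoc]

noncomputable def ff (d : ℕ) (lam mu : M →ₗ[A] k) : ℕ × M → Mod (ℕ ⊕ ℕ) k :=
  fun nm => (E (idx d) (ww lam mu nm.2)).coeff nm.1

noncomputable def Phi (d : ℕ) (lam mu : M →ₗ[A] k) : DividedPowerAlgebra A M →ₐ[A] Mod (ℕ ⊕ ℕ) k :=
  DividedPowerAlgebra.lift' (f := ff d lam mu)
    (by
      intro m
      exact E_coeff_zero _ _)
    (by
      intro n r m
      show (E (idx d) (ww lam mu (r • m))).coeff n = r ^ n • (E (idx d) (ww lam mu m)).coeff n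
      have : ww lam mu (r • m) = fun i => algebraMap A (Mod (ℕ ⊕ ℕ) k) r * ww lam mu m i := by
        funext i
        exact ww_smul lam mu r m i
      rw [this, E_smul, ← map_pow]
      exact (Algebra.smul_def _ _).symm)
    (by
      intro n p m
      show (E (idx d) (ww lam mu m)).coeff n * (E (idx d) (ww lam mu m)).coeff p
        = (n + p).choose n • (E (idx d) (ww lam mu m)).coeff (n + p)
      rw [E_mul_coeff _ _ (fun i _ => ww_mul lam mu m m i), nsmul_eq_mul])
    (by
      intro n u v
      show (E (idx d) (ww lam mu (u + v))).coeff n = _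
      have : ww lam mu (u + v) = fun i => ww lam mu u i + ww lam mu v i := by
        funext i
        exact ww_add lam mu u v i
      rw [this, E_add _ _ _ (fun i _ => ww_mul lam mu u v i), Polynomial.coeff_mul]
      rfl)

theorem Phi_dp (d : ℕ) (lam mu : M →ₗ[A] k) (n : ℕ) (m : M) :
    Phi d lam mu (DividedPowerAlgebra.dp A n m) = (E (idx d) (ww lam mu m)).coeff n := by
  unfold Phi
  exact DividedPowerAlgebra.lift'_apply_dp (f := ff d lam mu) _ _ _ _ n m

def Sa (a b : ℕ) : Finset (ℕ ⊕ ℕ) := (Finset.range a).disjSum (Finset.range b)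

theorem Sa_mem (d a b : ℕ) (ha : a ≤ d) (hb : b ≤ d) : Sa a b ∈ (idx d).powersetCard (a + b) := by
  rw [Finset.mem_powersetCard]
  constructor
  · unfold Sa idx
    exact Finset.disjSum_mono (Finset.range_subset_range.mpr ha) (Finset.range_subset_range.mpr hb)
  · unfold Sa
    rw [Finset.card_disjSum, Finset.card_range, Finset.card_range]

theorem disjSum_inj {α β : Type*} {s s' : Finset α} {t t' : Finset β}
    (h : s.disjSum t = s'.disjSum t') : s = s' ∧ t = t' := by
  constructor
  · ext x
    rw [← Finset.inl_mem_disjSum (t := t), h, Finset.inl_mem_disjSum]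
  · ext x
    rw [← Finset.inr_mem_disjSum (s := s), h, Finset.inr_mem_disjSum]

theorem cf_Phi_dp (d : ℕ) (lam mu : M →ₗ[A] k) (n : ℕ) (m : M) (S : Finset (ℕ ⊕ ℕ))
    (hS : S ∈ (idx d).powersetCard n) :
    cf S (Phi d lam mu (DividedPowerAlgebra.dp A n m)) = ∏ i ∈ S, cc lam mu m i := by
  rw [Phi_dp, E_coeff_eq_sum, map_sum]
  unfold ww
  simp_rw [cf_prod]
  rw [Finset.sum_ite_eq' ((idx d).powersetCard n) S (fun _ => ∏ i ∈ S, cc lam mu m i), if_pos hS]

theorem prod_Sa (lam mu : M →ₗ[A] k) (m : M) (a b : ℕ) :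
    ∏ i ∈ Sa a b, cc lam mu m i = lam m ^ a * mu m ^ b := by
  unfold Sa cc
  rw [Finset.prod_disjSum]
  simp

theorem E_m1 (d : ℕ) (lam mu : M →ₗ[A] k) (m : M) (h1 : lam m = 1) (h2 : mu m = 0) :
    E (idx d) (ww lam mu m) = E (Finset.range d) (fun i => z (k := k) (Sum.inl i)) := by
  unfold idx
  rw [E_disjSum]
  have e1 : (fun a => ww lam mu m (Sum.inl a)) = fun i => z (k := k) (Sum.inl i) := by
    funext i
    unfold ww cc
    simp [h1]
  have e2 : (fun b => ww lam mu m (Sum.inr b)) = fun _ => (0 : Mod (ℕ ⊕ ℕ) k) := by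
    funext i
    unfold ww cc
    simp [h2]
  rw [e1, e2, E_zero, mul_one]

theorem E_m2 (d : ℕ) (lam mu : M →ₗ[A] k) (m : M) (h1 : lam m = 0) (h2 : mu m = 1) :
    E (idx d) (ww lam mu m) = E (Finset.range d) (fun i => z (k := k) (Sum.inr i)) := by
  unfold idx
  rw [E_disjSum]
  have e1 : (fun a => ww lam mu m (Sum.inr a)) = fun i => z (k := k) (Sum.inr i) := by
    funext i
    unfold ww cc
    simp [h2]
  have e2 : (fun b => ww lam mu m (Sum.inl b)) = fun _ => (0 : Mod (ℕ ⊕ ℕ) k) := by
    funext i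
    unfold ww cc
    simp [h1]
  rw [e1, e2, E_zero, one_mul]

theorem cf_Phi_mul (d : ℕ) (lam mu : M →ₗ[A] k) (m1 m2 : M) (h11 : lam m1 = 1) (h12 : mu m1 = 0)
    (h21 : lam m2 = 0) (h22 : mu m2 = 1) (a b a' b' : ℕ) (ha : a ≤ d) (hb : b ≤ d) :
    cf (Sa a' b') (Phi d lam mu (DividedPowerAlgebra.dp A a m1 * DividedPowerAlgebra.dp A b m2))
      = if a' = a ∧ b' = b then 1 else 0 := by
  rw [map_mul, Phi_dp, Phi_dp, E_m1 d lam mu m1 h11 h12, E_m2 d lam mu m2 h21 h22,
    E_coeff_eq_sum, E_coeff_eq_sum, Finset.sum_mul_sum, map_sum]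
  simp_rw [map_sum]
  have hterm : ∀ t t' : Finset ℕ, cf (Sa a' b') ((∏ i ∈ t, z (k := k) (Sum.inl i)) * ∏ j ∈ t', z (k := k) (Sum.inr j))
      = if t.disjSum t' = Sa a' b' then 1 else 0 := by
    intro t t'
    rw [← Finset.prod_disjSum t t' (fun x => z (k := k) x), cf_prod_z]
  simp_rw [hterm]
  by_cases h : a' = a ∧ b' = b
  · obtain ⟨rfl, rfl⟩ := h
    rw [if_pos ⟨rfl, rfl⟩]
    rw [Finset.sum_eq_single (Finset.range a')]
    · rw [Finset.sum_eq_single (Finset.range b')]
      · exact if_pos rfl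
      · intro t' _ ht'
        rw [if_neg]
        intro hh
        exact ht' (disjSum_inj hh).2
      · intro hh
        exfalso
        apply hh
        rw [Finset.mem_powersetCard]
        exact ⟨Finset.range_subset_range.mpr hb, Finset.card_range _⟩
    · intro t _ ht
      apply Finset.sum_eq_zero
      intro t' _
      rw [if_neg]
      intro hh
      exact ht (disjSum_inj hh).1
    · intro hh
      exfalso
      apply hh
      rw [Finset.mem_powersetCard]
      exact ⟨Finset.range_subset_range.mpr ha, Finset.card_range _⟩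
  · rw [if_neg h]
    apply Finset.sum_eq_zero
    intro t ht
    apply Finset.sum_eq_zero
    intro t' ht'
    rw [if_neg]
    intro hh
    apply h
    obtain ⟨e1, e2⟩ := disjSum_inj hh
    rw [Finset.mem_powersetCard] at ht ht'
    constructor
    · rw [← ht.2, e1, Finset.card_range]
    · rw [← ht'.2, e2, Finset.card_range]

theorem core_not_mem [Fintype k] (d : ℕ) (hq : Fintype.card k < d) (lam mu : M →ₗ[A] k) (m1 m2 : M)
    (h11 : lam m1 = 1) (h12 : mu m1 = 0) (h21 : lam m2 = 0) (h22 : mu m2 = 1) :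
    DividedPowerAlgebra.dp A (Fintype.card k) m1 * DividedPowerAlgebra.dp A (d - Fintype.card k) m2 ∉
      Submodule.span A (Set.range (DividedPowerAlgebra.dp A d : M → DividedPowerAlgebra A M)) := by
  classical
  have hq2 : 2 ≤ Fintype.card k := Fintype.one_lt_card
  generalize hqdef : Fintype.card k = q at hq hq2
  let ψ : Mod (ℕ ⊕ ℕ) k →ₗ[k] k := cf (Sa q (d - q)) - cf (Sa 1 (d - 1))
  let Ψ : DividedPowerAlgebra A M →ₗ[A] k := (ψ.restrictScalars A).comp (Phi d lam mu).toLinearMap
  intro hmem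
  have hker : Submodule.span A (Set.range (DividedPowerAlgebra.dp A d : M → DividedPowerAlgebra A M))
      ≤ LinearMap.ker Ψ := by
    rw [Submodule.span_le]
    rintro _ ⟨m, rfl⟩
    rw [SetLike.mem_coe, LinearMap.mem_ker]
    show cf (Sa q (d - q)) (Phi d lam mu (DividedPowerAlgebra.dp A d m))
      - cf (Sa 1 (d - 1)) (Phi d lam mu (DividedPowerAlgebra.dp A d m)) = 0
    have hm1 : Sa q (d - q) ∈ (idx d).powersetCard d := by
      have := Sa_mem d q (d - q) (by omega) (by omega)
      rwa [show q + (d - q) = d by omega] at this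
    have hm2 : Sa 1 (d - 1) ∈ (idx d).powersetCard d := by
      have := Sa_mem d 1 (d - 1) (by omega) (by omega)
      rwa [show 1 + (d - 1) = d by omega] at this
    rw [cf_Phi_dp d lam mu d m _ hm1, cf_Phi_dp d lam mu d m _ hm2, prod_Sa, prod_Sa]
    rw [← hqdef, FiniteField.pow_card, pow_one, hqdef]
    by_cases hmu : mu m = 0
    · rw [hmu, zero_pow (by omega), zero_pow (by omega)]
      ring
    · have : mu m ^ (d - 1) = mu m ^ (d - q) := by
        rw [show d - 1 = (d - q) + (q - 1) by omega, pow_add, ← hqdef,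
          FiniteField.pow_card_sub_one_eq_one _ hmu, mul_one]
      rw [this, sub_self]
  have h0 : Ψ (DividedPowerAlgebra.dp A q m1 * DividedPowerAlgebra.dp A (d - q) m2) = 0 := hker hmem
  have h1 : Ψ (DividedPowerAlgebra.dp A q m1 * DividedPowerAlgebra.dp A (d - q) m2) = 1 := by
    show cf (Sa q (d - q)) (Phi d lam mu (DividedPowerAlgebra.dp A q m1 * DividedPowerAlgebra.dp A (d - q) m2))
      - cf (Sa 1 (d - 1)) (Phi d lam mu (DividedPowerAlgebra.dp A q m1 * DividedPowerAlgebra.dp A (d - q) m2)) = 1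
    rw [cf_Phi_mul d lam mu m1 m2 h11 h12 h21 h22 q (d - q) q (d - q) (by omega) (by omega),
      cf_Phi_mul d lam mu m1 m2 h11 h12 h21 h22 q (d - q) 1 (d - 1) (by omega) (by omega)]
    rw [if_pos ⟨rfl, rfl⟩, if_neg, sub_zero]
    rintro ⟨h, -⟩
    omega
  rw [h1] at h0
  exact one_ne_zero h0

end core

section naka
open TensorProduct IsLocalRing

variable {R N : Type u} [CommRing R] [IsLocalRing R] [AddCommGroup N] [Module R N] [Module.Finite R N]

theorem key_step (T : Set N) (hT : Submodule.span R T = ⊤)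
    (hnc : ∀ x : N, Submodule.span R {x} ≠ ⊤) (t0 : N) :
    ∃ t ∈ T, TensorProduct.mk R (ResidueField R) N 1 t ∉
      Submodule.span (ResidueField R) {TensorProduct.mk R (ResidueField R) N 1 t0} := by
  by_contra hcon
  simp only [not_exists, not_and, not_not] at hcon
  apply hnc t0
  rw [← map_tensorProduct_mk_eq_top, Submodule.map_span, Set.image_singleton,
    ← Submodule.restrictScalars_span R (ResidueField R) Ideal.Quotient.mk_surjective,
    Submodule.restrictScalars_eq_top_iff, eq_top_iff]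
  have h1 : (⊤ : Submodule R N).map (TensorProduct.mk R (ResidueField R) N 1) = ⊤ :=
    map_tensorProduct_mk_eq_top.mpr rfl
  rw [← hT, Submodule.map_span] at h1
  have h2 : Submodule.span R ((TensorProduct.mk R (ResidueField R) N 1) '' T) ≤
      (Submodule.span (ResidueField R) {TensorProduct.mk R (ResidueField R) N 1 t0}).restrictScalars R := by
    rw [Submodule.span_le]
    rintro _ ⟨t, ht, rfl⟩
    exact hcon t ht
  rw [h1] at h2
  intro x _
  exact h2 (Submodule.mem_top)

theorem exists_functionals (T : Set N) (hT : Submodule.span R T = ⊤)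
    (hnc : ∀ x : N, Submodule.span R {x} ≠ ⊤) :
    ∃ t1 ∈ T, ∃ t2 ∈ T, ∃ lam mu : N →ₗ[R] ResidueField R,
      lam t1 = 1 ∧ mu t1 = 0 ∧ lam t2 = 0 ∧ mu t2 = 1 := by
  obtain ⟨t1, ht1, hv1⟩ := key_step T hT hnc 0
  obtain ⟨t3, ht3, hv3⟩ := key_step T hT hnc t1
  set π := TensorProduct.mk R (ResidueField R) N 1 with hπ
  have hv1ne : π t1 ≠ 0 := by
    intro h
    apply hv1
    rw [h]
    exact Submodule.zero_mem _
  have hv1' : π t1 ∉ Submodule.span (ResidueField R) {π t3} := by
    intro h
    rw [Submodule.mem_span_singleton] at h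
    obtain ⟨c, hc⟩ := h
    have hc0 : c ≠ 0 := by
      rintro rfl
      rw [zero_smul] at hc
      exact hv1ne hc.symm
    apply hv3
    rw [Submodule.mem_span_singleton]
    refine ⟨c⁻¹, ?_⟩
    rw [← hc, smul_smul, inv_mul_cancel₀ hc0, one_smul]
  obtain ⟨f, hf1, hf2⟩ := Submodule.exists_dual_map_eq_bot_of_notMem hv1' inferInstance
  obtain ⟨g, hg1, hg2⟩ := Submodule.exists_dual_map_eq_bot_of_notMem hv3 inferInstance
  have hf3 : f (π t3) = 0 := by
    have : f (π t3) ∈ (Submodule.span (ResidueField R) {π t3}).map f :=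
      Submodule.mem_map_of_mem (Submodule.mem_span_singleton_self _)
    rw [hf2] at this
    exact (Submodule.mem_bot _).mp this
  have hg3 : g (π t1) = 0 := by
    have : g (π t1) ∈ (Submodule.span (ResidueField R) {π t1}).map g :=
      Submodule.mem_map_of_mem (Submodule.mem_span_singleton_self _)
    rw [hg2] at this
    exact (Submodule.mem_bot _).mp this
  refine ⟨t1, ht1, t3, ht3, (((f (π t1))⁻¹ • f).restrictScalars R).comp π,
    (((g (π t3))⁻¹ • g).restrictScalars R).comp π, ?_, ?_, ?_, ?_⟩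
  · show (f (π t1))⁻¹ • f (π t1) = 1
    rw [smul_eq_mul, inv_mul_cancel₀ hf1]
  · show (g (π t3))⁻¹ • g (π t1) = 0
    rw [hg3, smul_zero]
  · show (f (π t1))⁻¹ • f (π t3) = 0
    rw [hf3, smul_zero]
  · show (g (π t3))⁻¹ • g (π t3) = 1
    rw [smul_eq_mul, inv_mul_cancel₀ hg1]

end naka

/-- Let A be a commutative ring, M a finitely generated A-module and d ≥ 0. If the degree-d piece
Γ^d_A(M) of Γ_A(M) is spanned over A by the divided powers γ_d(m), m ∈ M, then at each prime p of A
either k(p) has d or more elements, or the localisation M_p is a cyclic A_p-module. -/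
theorem result {A M : Type u} [CommRing A] [AddCommGroup M]
    [Module A M] [Module.Finite A M] (d : ℕ)
    (h : Submodule.span A (Set.range (DividedPowerAlgebra.dp A d : M → DividedPowerAlgebra A M)) =
      PolLaw.gammaPiece A M d)
    (p : PrimeSpectrum A) :
    (d : Cardinal) ≤ Cardinal.mk p.asIdeal.ResidueField ∨
      ∃ x : LocalizedModule p.asIdeal.primeCompl M, Submodule.span (Localization.AtPrime p.asIdeal) {x} = ⊤ := by
  classical
  by_contra hcon
  rw [not_or] at hcon
  obtain ⟨hcard, hnc⟩ := hcon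
  rw [not_le] at hcard
  have hfin : Finite p.asIdeal.ResidueField := by
    rw [← Cardinal.lt_aleph0_iff_finite]
    exact lt_trans hcard (Cardinal.natCast_lt_aleph0)
  let _ : Fintype p.asIdeal.ResidueField := Fintype.ofFinite _
  have hq : Fintype.card p.asIdeal.ResidueField < d := by
    rw [Cardinal.mk_fintype] at hcard
    exact_mod_cast hcard
  have : Module.Finite (Localization.AtPrime p.asIdeal) (LocalizedModule p.asIdeal.primeCompl M) :=
    Module.Finite.of_isLocalizedModule p.asIdeal.primeCompl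
      (LocalizedModule.mkLinearMap p.asIdeal.primeCompl M)
  have hT : Submodule.span (Localization.AtPrime p.asIdeal)
      (Set.range (LocalizedModule.mkLinearMap p.asIdeal.primeCompl M)) = ⊤ := by
    rw [eq_top_iff]
    intro x _
    induction x using LocalizedModule.induction_on with
    | h m s =>
      have : LocalizedModule.mk m s = (Localization.mk 1 s : Localization.AtPrime p.asIdeal) •
          LocalizedModule.mkLinearMap p.asIdeal.primeCompl M m := by
        rw [LocalizedModule.mkLinearMap_apply, LocalizedModule.mk_smul_mk, one_smul, mul_one]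
      rw [this]
      exact Submodule.smul_mem _ _ (Submodule.subset_span ⟨m, rfl⟩)
  have hnc' : ∀ x : LocalizedModule p.asIdeal.primeCompl M,
      Submodule.span (Localization.AtPrime p.asIdeal) {x} ≠ ⊤ := fun x hx => hnc ⟨x, hx⟩
  obtain ⟨t1, ⟨m1, rfl⟩, t2, ⟨m2, rfl⟩, lam, mu, h11, h12, h21, h22⟩ := exists_functionals _ hT hnc'
  let lamA : M →ₗ[A] p.asIdeal.ResidueField :=
    (lam.restrictScalars A).comp (LocalizedModule.mkLinearMap p.asIdeal.primeCompl M)
  let muA : M →ₗ[A] p.asIdeal.ResidueField :=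
    (mu.restrictScalars A).comp (LocalizedModule.mkLinearMap p.asIdeal.primeCompl M)
  have hnot := core_not_mem d hq lamA muA m1 m2 h11 h12 h21 h22
  apply hnot
  rw [h]
  apply Submodule.subset_span
  refine ⟨2, ![Fintype.card p.asIdeal.ResidueField, d - Fintype.card p.asIdeal.ResidueField],
    ![m1, m2], ?_, ?_⟩
  · rw [Fin.sum_univ_two]
    simp only [Matrix.cons_val_zero, Matrix.cons_val_one]
    omega
  · rw [Fin.prod_univ_two]
    simp only [Matrix.cons_val_zero, Matrix.cons_val_one]

end Groth.Agent.S13388
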