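import Groth.Statements.S13389
import Mathlib.LinearAlgebra.Vandermonde
import Mathlib.LinearAlgebra.Matrix.NonsingularInverse

set_option autoImplicit false
universe u
open ZeroCyc

namespace Groth.Agent.S13389

open Polynomial

theorem two_var {A M : Type u} [CommRing A] [AddCommGroup M] [Module A M] (t : A) (e : ℕ)
    (hunit : ∀ i j : ℕ, i < j → j ≤ e → IsUnit (t ^ j - t ^ i)) (x m : M) (j : ℕ) (hj : j ≤ e) :
    DividedPowerAlgebra.dp A j m * DividedPowerAlgebra.dp A (e - j) x ∈
      Submodule.span A (Set.range (DividedPowerAlgebra.dp A e : M → DividedPowerAlgebra A M)) := by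
  classical
  set V : Matrix (Fin (e + 1)) (Fin (e + 1)) A := Matrix.vandermonde (fun i : Fin (e + 1) => t ^ (i : ℕ)) with hV
  have hdet : IsUnit V.det := by
    rw [hV, Matrix.det_vandermonde]
    rw [IsUnit.prod_iff]
    intro i _
    rw [IsUnit.prod_iff]
    intro k hk
    rw [Finset.mem_Ioi] at hk
    exact hunit i k hk (Nat.lt_succ_iff.mp k.2)
  set v : Fin (e + 1) → DividedPowerAlgebra A M :=
    fun b => DividedPowerAlgebra.dp A (b : ℕ) m * DividedPowerAlgebra.dp A (e - (b : ℕ)) x with hv
  have hu : ∀ i : Fin (e + 1), DividedPowerAlgebra.dp A e (t ^ (i : ℕ) • m + x) = ∑ b, V i b • v b := by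
    intro i
    rw [DividedPowerAlgebra.dp_add,
      Finset.Nat.sum_antidiagonal_eq_sum_range_succ
        (fun a b => DividedPowerAlgebra.dp A a (t ^ (i : ℕ) • m) * DividedPowerAlgebra.dp A b x) e,
      Finset.sum_range]
    apply Finset.sum_congr rfl
    intro b _
    rw [hV, Matrix.vandermonde_apply, hv, DividedPowerAlgebra.dp_smul, smul_mul_assoc]
  have hinv : V⁻¹ * V = 1 := Matrix.nonsing_inv_mul V hdet
  have hvj : ∀ b : Fin (e + 1), v b = ∑ i, V⁻¹ b i • DividedPowerAlgebra.dp A e (t ^ (i : ℕ) • m + x) := by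
    intro b
    have : ∑ i, V⁻¹ b i • DividedPowerAlgebra.dp A e (t ^ (i : ℕ) • m + x)
        = ∑ c, (V⁻¹ * V) b c • v c := by
      simp_rw [hu, Finset.smul_sum, smul_smul]
      rw [Finset.sum_comm]
      apply Finset.sum_congr rfl
      intro c _
      rw [Matrix.mul_apply, Finset.sum_smul]
    rw [this, hinv]
    simp [Matrix.one_apply]
  have := hvj ⟨j, Nat.lt_succ_iff.mpr hj⟩
  simp only [hv] at this
  rw [this]
  apply Submodule.sum_mem
  intro i _
  apply Submodule.smul_mem
  exact Submodule.subset_span ⟨_, rfl⟩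

theorem prod_mem {A M : Type u} [CommRing A] [AddCommGroup M] [Module A M] (t : A) (d : ℕ)
    (hunit : ∀ i j : ℕ, i < j → j ≤ d → IsUnit (t ^ j - t ^ i)) :
    ∀ (n : ℕ) (e : ℕ), e ≤ d → ∀ (k : Fin n → ℕ) (m : Fin n → M), (∑ i, k i) = e →
      ∏ i, DividedPowerAlgebra.dp A (k i) (m i) ∈
        Submodule.span A (Set.range (DividedPowerAlgebra.dp A e : M → DividedPowerAlgebra A M)) := by
  intro n
  induction n with
  | zero =>
    intro e he k m hk
    simp only [Finset.univ_eq_empty, Finset.sum_empty, Finset.prod_empty] at hk ⊢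
    rw [← hk]
    exact Submodule.subset_span ⟨0, DividedPowerAlgebra.dp_zero⟩
  | succ n ih =>
    intro e he k m hk
    rw [Fin.sum_univ_castSucc] at hk
    rw [Fin.prod_univ_castSucc]
    have hle : k (Fin.last n) ≤ e := by omega
    have h1 := ih (e - k (Fin.last n)) (by omega) (fun i => k i.castSucc) (fun i => m i.castSucc) (by omega)
    have hunit' : ∀ i j : ℕ, i < j → j ≤ e → IsUnit (t ^ j - t ^ i) :=
      fun i j hij hje => hunit i j hij (le_trans hje he)
    refine Submodule.span_induction (p := fun q _ => q * DividedPowerAlgebra.dp A (k (Fin.last n)) (m (Fin.last n)) ∈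
        Submodule.span A (Set.range (DividedPowerAlgebra.dp A e : M → DividedPowerAlgebra A M))) ?_ ?_ ?_ ?_ h1
    · rintro q ⟨x, rfl⟩
      rw [mul_comm]
      exact two_var t e hunit' x (m (Fin.last n)) (k (Fin.last n)) hle
    · simp
    · intro a b _ _ ha hb
      rw [add_mul]
      exact Submodule.add_mem _ ha hb
    · intro c a _ ha
      rw [smul_mul_assoc]
      exact Submodule.smul_mem _ c ha

open Polynomial in
/-- Let P_d(T) = ∏_{0 ≤ i < j ≤ d} (T^i − T^j) − 1 ∈ ℤ[T]. If A is an algebra over ℤ[T]/(P_d), i.e.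
receives a ring homomorphism from it, then for every A-module M the degree-d piece Γ^d_A(M) of the
divided power algebra Γ_A(M) is spanned over A by the d-th divided powers γ_d(m), m ∈ M. (The
published statement adds that consequently every ring has a finite faithfully flat extension,
independent of M, over which this holds; that clause is not restated.) -/
theorem result {A M : Type u} [CommRing A] [AddCommGroup M]
    [Module A M] (d : ℕ)
    (φ : (ℤ[X] ⧸ Ideal.span {(∏ j ∈ Finset.range (d + 1), ∏ i ∈ Finset.range j,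
        ((X : ℤ[X]) ^ i - X ^ j)) - 1}) →+* A) :
    Submodule.span A (Set.range (DividedPowerAlgebra.dp A d : M → DividedPowerAlgebra A M)) =
      PolLaw.gammaPiece A M d := by
  set I : Ideal ℤ[X] := Ideal.span {(∏ j ∈ Finset.range (d + 1), ∏ i ∈ Finset.range j,
        ((X : ℤ[X]) ^ i - X ^ j)) - 1} with hI
  set t : A := φ (Ideal.Quotient.mk I X) with ht
  have hprod : ∏ j ∈ Finset.range (d + 1), ∏ i ∈ Finset.range j, (t ^ i - t ^ j) = 1 := by
    have h0 : Ideal.Quotient.mk I ((∏ j ∈ Finset.range (d + 1), ∏ i ∈ Finset.range j,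
        ((X : ℤ[X]) ^ i - X ^ j)) - 1) = 0 :=
      Ideal.Quotient.eq_zero_iff_mem.mpr (Ideal.subset_span rfl)
    have h1 := congrArg φ h0
    simp only [map_sub, map_prod, map_pow, map_one, map_zero] at h1
    rw [← ht] at h1
    exact sub_eq_zero.mp h1
  have hunit : ∀ i j : ℕ, i < j → j ≤ d → IsUnit (t ^ j - t ^ i) := by
    intro i j hij hjd
    have hu : IsUnit (∏ j ∈ Finset.range (d + 1), ∏ i ∈ Finset.range j, (t ^ i - t ^ j)) := by
      rw [hprod]
      exact isUnit_one
    rw [IsUnit.prod_iff] at hu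
    have h2 := hu j (Finset.mem_range.mpr (by omega))
    rw [IsUnit.prod_iff] at h2
    have h3 := h2 i (Finset.mem_range.mpr hij)
    have : t ^ j - t ^ i = -(t ^ i - t ^ j) := by ring
    rw [this]
    exact h3.neg
  apply le_antisymm
  · rw [Submodule.span_le]
    rintro q ⟨m, rfl⟩
    apply Submodule.subset_span
    refine ⟨1, fun _ => d, fun _ => m, by simp, by simp⟩
  · unfold PolLaw.gammaPiece
    rw [Submodule.span_le]
    rintro q ⟨n, k, m, hk, rfl⟩
    exact prod_mem t d hunit n d le_rfl k m hk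

end Groth.Agent.S13389
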