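import Groth.Statements.S13397
import Groth.Agent.Lib.Helper32.PolLawTd2

set_option autoImplicit false
universe u
open scoped TensorProduct
open ZeroCyc

namespace Groth.Agent.S13397

/-- Let A be a commutative ring, B an A-algebra, d ≥ 0, and let (C, γ) be the degree-d divided power
algebra Γ^d_A(B) with its universal multiplicative law γ : B → C of degree d (every multiplicative
law of degree d out of B factors uniquely through γ). Let φ : Γ^d_A(B) → TS^d_A(B) be the canonical
homomorphism to the symmetric tensors, taken here as data characterised by: after any base change S,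
φ ∘ γ sends Σ_j s_j ⊗ b_j to Σ_{c : [d] → [n]} (∏_i s_{c(i)}) ⊗ (b_{c(1)} ⊗ ⋯ ⊗ b_{c(d)}), i.e. φ
corresponds to the law x ↦ x ⊗ ⋯ ⊗ x. Then there is a multiplicative law F : TS^d_A(B) → Γ^d_A(B),
homogeneous of degree d!, such that φ ∘ F and F ∘ φ are both the d!-th power law x ↦ x^{d!}. (The
published statement calls F canonical; this row asserts the existence of such an F.) -/
theorem result {A B C : Type u} [CommRing A] [CommRing B] [Algebra A B] [CommRing C] [Algebra A C] (d : ℕ)
    (γ : PolLaw.MulLaw A B C d) (hγ : PolLaw.IsGammaD γ) (φ : C →ₐ[A] SymTen.TS A B d)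
    (hφ : ∀ (S : Type u) [CommSemiring S] [Algebra A S] (n : ℕ) (s : Fin n → S) (b : Fin n → B),
      ((SymTen.TS A B d).val.comp φ).toLinearMap.lTensor S (γ.law.toFun' S (∑ j, s j ⊗ₜ[A] b j)) =
        ∑ c : Fin d → Fin n, (∏ i, s (c i)) ⊗ₜ[A] PiTensorProduct.tprod A (fun i => b (c i))) :
    ∃ F : PolLaw.MulLaw A (SymTen.TS A B d) C d.factorial,
      PolLaw.MulLaw.postcomp φ F = PolLaw.MulLaw.pow A (SymTen.TS A B d) d.factorial ∧
      PolLaw.MulLaw.precomp F φ = PolLaw.MulLaw.pow A C d.factorial := by
  refine ⟨(Groth.Agent.Lib.Helper32.PolLawTd.FT γ).precomp (SymTen.TS A B d).val, ?_, ?_⟩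
  · apply PolLaw.MulLaw.ext
    apply Groth.Agent.Lib.Helper32.PolLawTd2.law_ext_mv'
    intro n w
    apply Groth.Agent.Lib.Helper32.PolLawTd2.valS_injective (A := A) (B := B) (d := d) n
    show Algebra.TensorProduct.map (AlgHom.id (MvPolynomial (Fin n) A) (MvPolynomial (Fin n) A))
        (SymTen.TS A B d).val (φ.toLinearMap.lTensor (MvPolynomial (Fin n) A)
      (((Groth.Agent.Lib.Helper32.PolLawTd.FT γ).precomp (SymTen.TS A B d).val).law.toFun'
        (MvPolynomial (Fin n) A) w)) =
      Algebra.TensorProduct.map (AlgHom.id (MvPolynomial (Fin n) A) (MvPolynomial (Fin n) A))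
        (SymTen.TS A B d).val (w ^ d.factorial)
    rw [Groth.Agent.Lib.Helper32.PolLawBasic.mulLaw_precomp_toFun', map_pow,
      ← PolLaw.lTensor_algHom_apply, ← Groth.Agent.Lib.Helper32.PolLawNormKer.lTensor_comp_apply']
    have h := Groth.Agent.Lib.Helper32.PolLawTd2.Phi_FT' γ
      ((SymTen.TS A B d).val.comp φ).toLinearMap hφ (MvPolynomial (Fin n) A)
      (Algebra.TensorProduct.map (AlgHom.id (MvPolynomial (Fin n) A) (MvPolynomial (Fin n) A))
        (SymTen.TS A B d).val w)
    rw [Finset.prod_congr rfl (fun σ _ =>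
      Groth.Agent.Lib.Helper32.PolLawTd2.permS_valS (MvPolynomial (Fin n) A) σ w),
      Finset.prod_const, Finset.card_univ, Fintype.card_perm, Fintype.card_fin] at h
    exact h
  · apply PolLaw.MulLaw.ext
    apply PolynomialLaw.ext
    funext S _ _ c
    show (((Groth.Agent.Lib.Helper32.PolLawTd.FT γ).precomp (SymTen.TS A B d).val).precomp
      φ).law.toFun' S c = c ^ d.factorial
    rw [Groth.Agent.Lib.Helper32.PolLawBasic.mulLaw_precomp_toFun',
      Groth.Agent.Lib.Helper32.PolLawBasic.mulLaw_precomp_toFun',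
      ← Groth.Agent.Lib.Helper32.PolLawTd2.FT_Phi γ
        ((SymTen.TS A B d).val.comp φ).toLinearMap hφ hγ S c]
    congr 1
    rw [PolLaw.lTensor_algHom_apply]
    induction c using TensorProduct.induction_on with
    | zero => simp
    | add x y hx hy => simp only [map_add, hx, hy]
    | tmul s c => rfl

end Groth.Agent.S13397
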