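import Groth.Statements.S13398
import Groth.Agent.Lib.Helper32.PolLawTd2

set_option autoImplicit false
universe u
open scoped TensorProduct
open ZeroCyc

namespace Groth.Agent.S13398

/-- Let A be a commutative ring, B an A-algebra, d ≥ 0, and let (C, γ) be the degree-d divided power
algebra Γ^d_A(B) with its universal multiplicative law γ : B → C of degree d (every multiplicative
law of degree d out of B factors uniquely through γ). Let φ : Γ^d_A(B) → TS^d_A(B) be the canonical
homomorphism to the symmetric tensors, taken here as data characterised by: after any base change S,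
φ ∘ γ sends Σ_j s_j ⊗ b_j to Σ_{c : [d] → [n]} (∏_i s_{c(i)}) ⊗ (b_{c(1)} ⊗ ⋯ ⊗ b_{c(d)}), i.e. φ
corresponds to the law x ↦ x ⊗ ⋯ ⊗ x. Then x^{d!} = 0 for every x in the kernel of φ, and y^{d!}
lies in the image of φ for every symmetric tensor y ∈ TS^d_A(B). -/
theorem result {A B C : Type u} [CommRing A] [CommRing B] [Algebra A B] [CommRing C] [Algebra A C] (d : ℕ)
    (γ : PolLaw.MulLaw A B C d) (hγ : PolLaw.IsGammaD γ) (φ : C →ₐ[A] SymTen.TS A B d)
    (hφ : ∀ (S : Type u) [CommSemiring S] [Algebra A S] (n : ℕ) (s : Fin n → S) (b : Fin n → B),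
      ((SymTen.TS A B d).val.comp φ).toLinearMap.lTensor S (γ.law.toFun' S (∑ j, s j ⊗ₜ[A] b j)) =
        ∑ c : Fin d → Fin n, (∏ i, s (c i)) ⊗ₜ[A] PiTensorProduct.tprod A (fun i => b (c i))) :
    (∀ x : C, φ x = 0 → x ^ d.factorial = 0) ∧
      (∀ y : SymTen.TS A B d, y ^ d.factorial ∈ φ.range) := by
  refine ⟨fun x hx => ?_, fun y => ?_⟩
  · have h := Groth.Agent.Lib.Helper32.PolLawTd2.FT_Phi γ
      ((SymTen.TS A B d).val.comp φ).toLinearMap hφ hγ A ((1 : A) ⊗ₜ[A] x)
    have h0 : ((SymTen.TS A B d).val.comp φ).toLinearMap.lTensor A ((1 : A) ⊗ₜ[A] x) = 0 := by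
      rw [LinearMap.lTensor_tmul]
      show (1 : A) ⊗ₜ[A] ((SymTen.TS A B d).val (φ x)) = 0
      rw [hx, map_zero, TensorProduct.tmul_zero]
    have hF0 : (Groth.Agent.Lib.Helper32.PolLawTd.FT γ).law.toFun' A (0 : A ⊗[A] _) = 0 := by
      have := (Groth.Agent.Lib.Helper32.PolLawTd.FT γ).homog A (0 : A) (0 : A ⊗[A] _)
      rw [zero_smul, zero_pow (Nat.factorial_ne_zero d), zero_smul] at this
      exact this
    rw [h0, hF0, Algebra.TensorProduct.tmul_pow, one_pow] at h
    have h2 := congrArg (TensorProduct.lid A C) h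
    rw [map_zero, TensorProduct.lid_tmul, one_smul] at h2
    exact h2.symm
  · obtain ⟨x, hx⟩ := Groth.Agent.Lib.Helper32.PolLawTd.kap_surjective (A := A) (B := B) (d := d)
      (y : ⨂[A] _ : Fin d, B)
    refine ⟨(Groth.Agent.Lib.Helper32.PolLawTd.FT γ).law.ground (y : ⨂[A] _ : Fin d, B), ?_⟩
    apply Subtype.ext
    have h := Groth.Agent.Lib.Helper32.PolLawTd.Phi_FT_ground γ
      ((SymTen.TS A B d).val.comp φ).toLinearMap hφ x
    rw [hx] at h
    have h3 : ∀ σ : Equiv.Perm (Fin d), SymTen.perm A B d σ (y : ⨂[A] _ : Fin d, B) = y := by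
      intro σ
      rw [SymTen.perm_apply]
      exact y.2 σ
    rw [Finset.prod_congr rfl (fun σ _ => h3 σ), Finset.prod_const, Finset.card_univ,
      Fintype.card_perm, Fintype.card_fin] at h
    rw [SubmonoidClass.coe_pow]
    exact h

end Groth.Agent.S13398
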