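import Groth.Statements.S13407
import Mathlib

set_option autoImplicit false
universe u
open TensorProduct
open Hopf

namespace Groth.Agent.S13407


section Denom
variable {R : Type*} [CommRing R] [IsDomain R] {K : Type*} [Field K] [Algebra R K] [IsFractionRing R K]
  {A : Type*} [CommRing A] [Algebra R A]

/-- clearing denominators in `K ⊗ A` -/
theorem exists_denom (z : K ⊗[R] A) : ∃ r : R, r ≠ 0 ∧ ∃ a : A, r • z = 1 ⊗ₜ[R] a := by
  induction z using TensorProduct.induction_on with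
  | zero => exact ⟨1, one_ne_zero, 0, by simp⟩
  | tmul c a =>
    obtain ⟨⟨s, r⟩, hc⟩ := IsLocalization.surj (nonZeroDivisors R) c
    refine ⟨r, nonZeroDivisors.ne_zero r.2, s • a, ?_⟩
    simp only at hc
    rw [TensorProduct.smul_tmul', TensorProduct.tmul_smul, TensorProduct.smul_tmul',
      Algebra.smul_def (r : R) c, mul_comm, hc, Algebra.smul_def, mul_one]
  | add z w hz hw =>
    obtain ⟨r₁, hr₁, a₁, h₁⟩ := hz
    obtain ⟨r₂, hr₂, a₂, h₂⟩ := hw
    refine ⟨r₁ * r₂, mul_ne_zero hr₁ hr₂, r₂ • a₁ + r₁ • a₂, ?_⟩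
    rw [smul_add, mul_comm r₁ r₂, mul_smul, h₁, mul_comm r₂ r₁, mul_smul, h₂, TensorProduct.tmul_add,
      TensorProduct.tmul_smul, TensorProduct.tmul_smul]

theorem mem_map_iff (J' : Ideal A) (z : K ⊗[R] A) :
    z ∈ Ideal.map (Algebra.TensorProduct.includeRight : A →ₐ[R] K ⊗[R] A) J' ↔
      ∃ r : R, r ≠ 0 ∧ ∃ a ∈ J', r • z = 1 ⊗ₜ[R] a := by
  constructor
  · intro hz
    unfold Ideal.map at hz
    induction hz using Submodule.span_induction with
    | mem x hx =>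
      obtain ⟨a, ha, rfl⟩ := hx
      exact ⟨1, one_ne_zero, a, ha, by rw [one_smul]; rfl⟩
    | zero => exact ⟨1, one_ne_zero, 0, J'.zero_mem, by simp⟩
    | add x y _ _ hx hy =>
      obtain ⟨r₁, hr₁, a₁, ha₁, h₁⟩ := hx
      obtain ⟨r₂, hr₂, a₂, ha₂, h₂⟩ := hy
      refine ⟨r₁ * r₂, mul_ne_zero hr₁ hr₂, r₂ • a₁ + r₁ • a₂,
        J'.add_mem (Submodule.smul_of_tower_mem J' r₂ ha₁) (Submodule.smul_of_tower_mem J' r₁ ha₂), ?_⟩
      rw [smul_add, mul_comm r₁ r₂, mul_smul, h₁, mul_comm r₂ r₁, mul_smul, h₂,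
        TensorProduct.tmul_add, TensorProduct.tmul_smul, TensorProduct.tmul_smul]
    | smul w x _ hx =>
      obtain ⟨r₁, hr₁, a₁, ha₁, h₁⟩ := hx
      obtain ⟨r₂, hr₂, b, h₂⟩ := exists_denom (R := R) w
      refine ⟨r₂ * r₁, mul_ne_zero hr₂ hr₁, b * a₁, J'.mul_mem_left b ha₁, ?_⟩
      rw [smul_eq_mul, mul_smul, ← mul_smul_comm, h₁, ← smul_mul_assoc, h₂,
        Algebra.TensorProduct.tmul_mul_tmul, one_mul]
  · rintro ⟨r, hr, a, ha, h⟩
    have h1 : (1 : K) ⊗ₜ[R] a ∈ Ideal.map (Algebra.TensorProduct.includeRight : A →ₐ[R] K ⊗[R] A) J' :=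
      Ideal.mem_map_of_mem _ ha
    have h2 : z = ((algebraMap R K r)⁻¹ ⊗ₜ[R] (1 : A)) * (r • z) := by
      rw [mul_smul_comm, ← smul_mul_assoc, TensorProduct.smul_tmul', Algebra.smul_def,
        mul_inv_cancel₀ ((map_ne_zero_iff _ (IsFractionRing.injective R K)).2 hr)]
      exact (one_mul z).symm
    rw [h2, h]
    exact Ideal.mul_mem_left _ _ h1

end Denom

section Theta
variable (R : Type*) [CommRing R] (K : Type*) [Field K] [Algebra R K]
  (A : Type*) [CommRing A] [Algebra R A]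

/-- the canonical map `A ⊗ A → A_K ⊗_K A_K` -/
noncomputable def Θ : A ⊗[R] A →ₗ[R] (K ⊗[R] A) ⊗[K] (K ⊗[R] A) :=
  ((TensorProduct.AlgebraTensorModule.tensorTensorTensorComm R K R K K K A A).toLinearMap.restrictScalars R) ∘ₗ
    (TensorProduct.mk R (K ⊗[K] K) (A ⊗[R] A) (1 ⊗ₜ 1))

theorem Θ_tmul (x y : A) : Θ R K A (x ⊗ₜ y) = ((1 : K) ⊗ₜ[R] x) ⊗ₜ[K] ((1 : K) ⊗ₜ[R] y) := by
  simp [Θ]

theorem Θ_injective [Module.Flat R A] (hinj : Function.Injective (algebraMap R K)) :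
    Function.Injective (Θ R K A) := by
  unfold Θ
  rw [LinearMap.coe_comp]
  refine Function.Injective.comp (TensorProduct.AlgebraTensorModule.tensorTensorTensorComm R K R K K K A A).injective ?_
  -- `w ↦ (1 ⊗ 1) ⊗ w`
  let f : R →ₗ[R] K ⊗[K] K := LinearMap.toSpanSingleton R (K ⊗[K] K) (1 ⊗ₜ 1)
  have hf : Function.Injective f := by
    intro r s hrs
    have h1 := congrArg (TensorProduct.lid K K) hrs
    simp only [f, LinearMap.toSpanSingleton_apply, TensorProduct.smul_tmul', TensorProduct.lid_tmul,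
      Algebra.smul_def, mul_one, smul_eq_mul] at h1
    exact hinj h1
  have h2 : (TensorProduct.mk R (K ⊗[K] K) (A ⊗[R] A) (1 ⊗ₜ 1) : A ⊗[R] A →ₗ[R] _) =
      (LinearMap.rTensor (A ⊗[R] A) f) ∘ₗ (TensorProduct.lid R (A ⊗[R] A)).symm.toLinearMap := by
    ext x y
    simp [f]
  rw [h2, LinearMap.coe_comp]
  exact (Module.Flat.rTensor_preserves_injective_linearMap f hf).comp
    (TensorProduct.lid R (A ⊗[R] A)).symm.injective

end Theta

section Theta2
variable (R : Type*) [CommRing R] (K : Type*) [Field K] [Algebra R K]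
  (A : Type*) [CommRing A] [HopfAlgebra R A]

theorem comul_one_tmul (a : A) :
    Coalgebra.comul (R := K) ((1 : K) ⊗ₜ[R] a) = Θ R K A (Coalgebra.comul (R := R) a) := by
  rw [TensorProduct.comul_tmul]
  rfl

theorem counit_one_tmul (a : A) :
    Coalgebra.counit (R := K) ((1 : K) ⊗ₜ[R] a) = algebraMap R K (Coalgebra.counit (R := R) a) := by
  rw [TensorProduct.counit_tmul]
  simp [Algebra.smul_def]

theorem antipode_one_tmul (a : A) :
    HopfAlgebra.antipode K ((1 : K) ⊗ₜ[R] a) = (1 : K) ⊗ₜ[R] HopfAlgebra.antipode R a := by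
  rw [TensorProduct.antipode_def]
  simp

end Theta2

section Cst
variable {S C : Type*} [CommRing S] [AddCommGroup C] [Module S C]

/-- `I ⊗ C + C ⊗ I` inside `C ⊗ C` -/
def Cst (I : Submodule S C) : Submodule S (C ⊗[S] C) :=
  LinearMap.range (LinearMap.lTensor C I.subtype) ⊔ LinearMap.range (LinearMap.rTensor C I.subtype)

theorem mem_Cst_iff (I : Submodule S C) (w : C ⊗[S] C) :
    w ∈ Cst I ↔ TensorProduct.map I.mkQ I.mkQ w = 0 := by
  rw [← LinearMap.mem_ker, TensorProduct.map_ker (LinearMap.exact_subtype_mkQ I) I.mkQ_surjective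
      (LinearMap.exact_subtype_mkQ I) I.mkQ_surjective]
  rfl

theorem tmul_mem_Cst_left (I : Submodule S C) (x y : C) (hx : x ∈ I) : x ⊗ₜ[S] y ∈ Cst I :=
  Submodule.mem_sup_right ⟨(⟨x, hx⟩ : I) ⊗ₜ y, rfl⟩

theorem tmul_mem_Cst_right (I : Submodule S C) (x y : C) (hy : y ∈ I) : x ⊗ₜ[S] y ∈ Cst I :=
  Submodule.mem_sup_left ⟨x ⊗ₜ (⟨y, hy⟩ : I), rfl⟩

/-- induction principle: `Cst I` is spanned by pure tensors with one entry in `I` -/
theorem Cst_induction (I : Submodule S C) (P : C ⊗[S] C → Prop) (h0 : P 0)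
    (hadd : ∀ x y, P x → P y → P (x + y))
    (hl : ∀ x y, x ∈ I → P (x ⊗ₜ[S] y)) (hr : ∀ x y, y ∈ I → P (x ⊗ₜ[S] y))
    (w : C ⊗[S] C) (hw : w ∈ Cst I) : P w := by
  have h1 : ∀ v : C ⊗[S] I, P (LinearMap.lTensor C I.subtype v) := by
    intro v
    induction v using TensorProduct.induction_on with
    | zero => rw [map_zero]; exact h0
    | tmul x y => exact hr x y y.2
    | add a b ha hb => rw [map_add]; exact hadd _ _ ha hb
  have h2 : ∀ v : I ⊗[S] C, P (LinearMap.rTensor C I.subtype v) := by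
    intro v
    induction v using TensorProduct.induction_on with
    | zero => rw [map_zero]; exact h0
    | tmul x y => exact hl x y x.2
    | add a b ha hb => rw [map_add]; exact hadd _ _ ha hb
  obtain ⟨w₁, hw₁, w₂, hw₂, rfl⟩ := Submodule.mem_sup.1 hw
  obtain ⟨v₁, rfl⟩ := hw₁
  obtain ⟨v₂, rfl⟩ := hw₂
  exact hadd _ _ (h1 v₁) (h2 v₂)

end Cst

section C12
variable {R : Type*} [CommRing R] [IsDomain R] {K : Type*} [Field K] [Algebra R K] [IsFractionRing R K]
  {A : Type*} [CommRing A] [Algebra R A]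

theorem Θ_mem_Cst (J' : Ideal A) (J : Ideal (K ⊗[R] A))
    (hJ : ∀ a ∈ J', (1 : K) ⊗ₜ[R] a ∈ J) (u : A ⊗[R] A) (hu : u ∈ Cst (J'.restrictScalars R)) :
    Θ R K A u ∈ Cst (J.restrictScalars K) := by
  refine Cst_induction (J'.restrictScalars R) (fun u => Θ R K A u ∈ Cst (J.restrictScalars K))
    ?_ ?_ ?_ ?_ u hu
  · rw [map_zero]; exact zero_mem _
  · intro x y hx hy; rw [map_add]; exact add_mem hx hy
  · intro x y hx; rw [Θ_tmul]; exact tmul_mem_Cst_left _ _ _ (hJ x hx)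
  · intro x y hy; rw [Θ_tmul]; exact tmul_mem_Cst_right _ _ _ (hJ y hy)

theorem exists_smul_eq_Θ (J' : Ideal A) (J : Ideal (K ⊗[R] A))
    (hJ : ∀ z ∈ J, ∃ r : R, r ≠ 0 ∧ ∃ a ∈ J', r • z = 1 ⊗ₜ[R] a)
    (w : (K ⊗[R] A) ⊗[K] (K ⊗[R] A)) (hw : w ∈ Cst (J.restrictScalars K)) :
    ∃ r : R, r ≠ 0 ∧ ∃ u ∈ Cst (J'.restrictScalars R), r • w = Θ R K A u := by
  refine Cst_induction (J.restrictScalars K) (fun w => ∃ r : R, r ≠ 0 ∧ ∃ u ∈ Cst (J'.restrictScalars R),
    r • w = Θ R K A u) ?_ ?_ ?_ ?_ w hw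
  · exact ⟨1, one_ne_zero, 0, zero_mem _, by simp⟩
  · rintro x y ⟨r₁, hr₁, u₁, hu₁, h₁⟩ ⟨r₂, hr₂, u₂, hu₂, h₂⟩
    refine ⟨r₁ * r₂, mul_ne_zero hr₁ hr₂, r₂ • u₁ + r₁ • u₂,
      add_mem (Submodule.smul_mem _ _ hu₁) (Submodule.smul_mem _ _ hu₂), ?_⟩
    rw [smul_add, mul_comm r₁ r₂, mul_smul, h₁, mul_comm r₂ r₁, mul_smul, h₂, map_add, map_smul,
      map_smul]
  · intro x y hx
    obtain ⟨r₁, hr₁, a, ha, h₁⟩ := hJ x hx
    obtain ⟨r₂, hr₂, b, h₂⟩ := exists_denom (R := R) y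
    refine ⟨r₁ * r₂, mul_ne_zero hr₁ hr₂, a ⊗ₜ b, tmul_mem_Cst_left _ _ _ ha, ?_⟩
    rw [Θ_tmul, ← h₁, ← h₂, mul_smul, TensorProduct.smul_tmul', TensorProduct.tmul_smul,
      TensorProduct.smul_tmul', TensorProduct.smul_tmul', smul_comm]
  · intro x y hy
    obtain ⟨r₁, hr₁, a, ha, h₁⟩ := hJ y hy
    obtain ⟨r₂, hr₂, b, h₂⟩ := exists_denom (R := R) x
    refine ⟨r₂ * r₁, mul_ne_zero hr₂ hr₁, b ⊗ₜ a, tmul_mem_Cst_right _ _ _ ha, ?_⟩
    rw [Θ_tmul, ← h₁, ← h₂, mul_smul, TensorProduct.smul_tmul', TensorProduct.tmul_smul,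
      TensorProduct.smul_tmul', TensorProduct.smul_tmul', smul_comm]

end C12

section Main
variable {R : Type*} [CommRing R] [IsDomain R] {K : Type*} [Field K] [Algebra R K] [IsFractionRing R K]
  {A : Type*} [CommRing A] [HopfAlgebra R A]

theorem exists_K_smul (J' : Ideal A) (x : K ⊗[R] A)
    (hx : x ∈ Ideal.map (Algebra.TensorProduct.includeRight : A →ₐ[R] K ⊗[R] A) J') :
    ∃ c : K, c ≠ 0 ∧ ∃ a ∈ J', c • x = 1 ⊗ₜ[R] a := by
  obtain ⟨r, hr, a, ha, h⟩ := (mem_map_iff J' x).1 hx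
  refine ⟨algebraMap R K r, (map_ne_zero_iff _ (IsFractionRing.injective R K)).2 hr, a, ha, ?_⟩
  rw [algebraMap_smul]
  exact h

theorem isHopfIdeal_map (J' : Ideal A) (hJ' : J'.IsHopfIdeal R) :
    (Ideal.map (Algebra.TensorProduct.includeRight : A →ₐ[R] K ⊗[R] A) J').IsHopfIdeal K := by
  set J := Ideal.map (Algebra.TensorProduct.includeRight : A →ₐ[R] K ⊗[R] A) J' with hJ
  have hgen : ∀ a ∈ J', (1 : K) ⊗ₜ[R] a ∈ J := fun a ha => Ideal.mem_map_of_mem _ ha
  refine { counit_eq_zero := fun x hx => ?_, map_mkQ_comul_eq_zero := fun x hx => ?_, antipode_mem := fun x hx => ?_ }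
  · obtain ⟨c, hc, a, ha, h⟩ := exists_K_smul J' x hx
    have h1 : c • Coalgebra.counit (R := K) x = 0 := by
      rw [← map_smul, h, counit_one_tmul, hJ'.toIsCoideal.counit_eq_zero ha, map_zero]
    exact (smul_eq_zero.1 h1).resolve_left hc
  · obtain ⟨c, hc, a, ha, h⟩ := exists_K_smul J' x hx
    have h1 : c • TensorProduct.map (J.restrictScalars K).mkQ (J.restrictScalars K).mkQ
        (Coalgebra.comul (R := K) x) = 0 := by
      rw [← map_smul, ← map_smul, h, comul_one_tmul, ← mem_Cst_iff]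
      apply Θ_mem_Cst J' J hgen
      rw [mem_Cst_iff]
      exact hJ'.toIsCoideal.map_mkQ_comul_eq_zero ha
    exact (smul_eq_zero.1 h1).resolve_left hc
  · obtain ⟨r, hr, a, ha, h⟩ := (mem_map_iff J' x).1 hx
    rw [hJ, mem_map_iff]
    refine ⟨r, hr, HopfAlgebra.antipode R a, hJ'.antipode_mem ha, ?_⟩
    rw [← antipode_one_tmul, ← h, ← algebraMap_smul K r x, map_smul, algebraMap_smul]

end Main

section Main2
variable {R : Type*} [CommRing R] [IsDedekindDomain R] {K : Type*} [Field K] [Algebra R K] [IsFractionRing R K]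
  {A : Type*} [CommRing A] [HopfAlgebra R A]

theorem comap_facts [Module.Flat R A] (J : Ideal (K ⊗[R] A)) (hJ : J.IsHopfIdeal K) :
    (Ideal.comap (Algebra.TensorProduct.includeRight : A →ₐ[R] K ⊗[R] A) J).IsHopfIdeal R ∧
    Module.Flat R (A ⧸ Ideal.comap (Algebra.TensorProduct.includeRight : A →ₐ[R] K ⊗[R] A) J) ∧
    Ideal.map (Algebra.TensorProduct.includeRight : A →ₐ[R] K ⊗[R] A)
      (Ideal.comap (Algebra.TensorProduct.includeRight : A →ₐ[R] K ⊗[R] A) J) = J := by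
  set J' := Ideal.comap (Algebra.TensorProduct.includeRight : A →ₐ[R] K ⊗[R] A) J with hJ'
  have hinjK : Function.Injective (algebraMap R K) := IsFractionRing.injective R K
  have hmem : ∀ a : A, a ∈ J' ↔ (1 : K) ⊗ₜ[R] a ∈ J := fun a => Iff.rfl
  have hsmulJ : ∀ (r : R) (z : K ⊗[R] A), z ∈ J → r • z ∈ J := by
    intro r z hz
    rw [← algebraMap_smul K r z]
    exact (J.restrictScalars K).smul_mem _ hz
  have hden : ∀ z ∈ J, ∃ r : R, r ≠ 0 ∧ ∃ a ∈ J', r • z = 1 ⊗ₜ[R] a := by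
    intro z hz
    obtain ⟨r, hr, a, h⟩ := exists_denom (R := R) z
    refine ⟨r, hr, a, ?_, h⟩
    rw [hmem, ← h]
    exact hsmulJ r z hz
  have hmap : Ideal.map (Algebra.TensorProduct.includeRight : A →ₐ[R] K ⊗[R] A) J' = J :=
    le_antisymm Ideal.map_comap_le (fun z hz => (mem_map_iff J' z).2 (hden z hz))
  -- torsion-freeness
  have htf : Module.IsTorsionFree R (A ⧸ J') := by
    apply Module.IsTorsionFree.of_smul_eq_zero
    intro r m hrm
    by_cases hr : r = 0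
    · exact Or.inl hr
    right
    obtain ⟨x, rfl⟩ := Ideal.Quotient.mk_surjective m
    have h1 : r • x ∈ J' := by
      rw [← Ideal.Quotient.eq_zero_iff_mem]
      exact hrm
    rw [hmem, TensorProduct.tmul_smul] at h1
    rw [Ideal.Quotient.eq_zero_iff_mem, hmem]
    have h2 : (algebraMap R K r)⁻¹ • (r • ((1 : K) ⊗ₜ[R] x)) ∈ J.restrictScalars K :=
      (J.restrictScalars K).smul_mem _ h1
    rw [← algebraMap_smul K r, smul_smul, inv_mul_cancel₀ ((map_ne_zero_iff _ hinjK).2 hr),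
      one_smul] at h2
    exact h2
  haveI := htf
  have hflat : Module.Flat R (A ⧸ J') := inferInstance
  refine ⟨?_, hflat, hmap⟩
  haveI : Module.Flat R (A ⧸ J'.restrictScalars R) :=
    Module.Flat.of_linearEquiv (Submodule.Quotient.restrictScalarsEquiv R J')
  haveI : Module.Flat R ((A ⧸ J'.restrictScalars R) ⊗[R] (A ⧸ J'.restrictScalars R)) := inferInstance
  refine { counit_eq_zero := fun x hx => ?_, map_mkQ_comul_eq_zero := fun x hx => ?_, antipode_mem := fun x hx => ?_ }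
  · have h1 : Coalgebra.counit (R := K) ((1 : K) ⊗ₜ[R] x) = 0 :=
      hJ.toIsCoideal.counit_eq_zero ((hmem x).1 hx)
    rw [counit_one_tmul] at h1
    exact hinjK (by rw [h1, map_zero])
  · have h1 : Θ R K A (Coalgebra.comul (R := R) x) ∈ Cst (J.restrictScalars K) := by
      rw [← comul_one_tmul, mem_Cst_iff]
      exact hJ.toIsCoideal.map_mkQ_comul_eq_zero ((hmem x).1 hx)
    obtain ⟨r, hr, u, hu, h2⟩ := exists_smul_eq_Θ J' J hden _ h1
    rw [← map_smul] at h2
    have h3 := Θ_injective R K A hinjK h2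
    have h4 : r • Coalgebra.comul (R := R) x ∈ Cst (J'.restrictScalars R) := by rw [h3]; exact hu
    rw [mem_Cst_iff, map_smul] at h4
    exact (smul_eq_zero.1 h4).resolve_left hr
  · have h1 : HopfAlgebra.antipode K ((1 : K) ⊗ₜ[R] x) ∈ J := hJ.antipode_mem ((hmem x).1 hx)
    rw [antipode_one_tmul] at h1
    exact h1

theorem comap_map_eq [Module.Flat R A] (J' : Ideal A) (hflat : Module.Flat R (A ⧸ J')) :
    Ideal.comap (Algebra.TensorProduct.includeRight : A →ₐ[R] K ⊗[R] A)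
      (Ideal.map (Algebra.TensorProduct.includeRight : A →ₐ[R] K ⊗[R] A) J') = J' := by
  apply le_antisymm _ Ideal.le_comap_map
  intro x hx
  rw [Ideal.mem_comap] at hx
  obtain ⟨r, hr, a, ha, h⟩ := (mem_map_iff J' _).1 hx
  have h1 : (Algebra.TensorProduct.includeRight : A →ₐ[R] K ⊗[R] A) (r • x) =
      (Algebra.TensorProduct.includeRight : A →ₐ[R] K ⊗[R] A) a := by
    rw [map_smul]
    exact h
  have h2 := Algebra.TensorProduct.includeRight_injective (R := R) (A := K) (B := A)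
    (IsFractionRing.injective R K) h1
  have h3 : r • (Ideal.Quotient.mk J' x) = 0 := by
    have : Ideal.Quotient.mk J' (r • x) = 0 := by
      rw [Ideal.Quotient.eq_zero_iff_mem, h2]; exact ha
    exact this
  exact Ideal.Quotient.eq_zero_iff_mem.1 ((smul_eq_zero.1 h3).resolve_left hr)

end Main2

/-- Let R be a Dedekind domain with fraction field K and let G = Spec A be a finite flat group scheme
over R (A a commutative Hopf algebra over R, finite and flat as an R-module). Closed flat R-subgroup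
schemes of G correspond one-to-one to closed K-subgroup schemes of the generic fibre G_K under H ↦
H_K: the map sending a Hopf ideal J' of A with A/J' flat over R to the ideal it generates in K ⊗_R A
is a bijection onto the set of Hopf ideals of the Hopf algebra K ⊗_R A over K (its inverse takes a
Hopf ideal of K ⊗_R A to its preimage in A). -/
theorem result (R : Type u) [CommRing R] [IsDedekindDomain R]
    (K : Type u) [Field K] [Algebra R K] [IsFractionRing R K]
    (A : Type u) [CommRing A] [HopfAlgebra R A] [Module.Finite R A] [Module.Flat R A] :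
    Set.BijOn (fun J' : Ideal A => Ideal.map (Algebra.TensorProduct.includeRight : A →ₐ[R] K ⊗[R] A) J')
      {J' : Ideal A | J'.IsHopfIdeal R ∧ Module.Flat R (A ⧸ J')}
      {J : Ideal (K ⊗[R] A) | J.IsHopfIdeal K} := by
  refine ⟨?_, ?_, ?_⟩
  · rintro J' ⟨hJ', _⟩
    exact isHopfIdeal_map J' hJ'
  · rintro J₁ ⟨_, hf₁⟩ J₂ ⟨_, hf₂⟩ h
    simp only at h
    rw [← comap_map_eq (K := K) J₁ hf₁, ← comap_map_eq (K := K) J₂ hf₂, h]
  · rintro J hJ
    obtain ⟨h1, h2, h3⟩ := comap_facts J hJ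
    exact ⟨_, ⟨h1, h2⟩, h3⟩

end Groth.Agent.S13407
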