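import Groth.Statements.S1341
import Groth.Agent.Lib.Helper73.DimFormula.CMFlat.CMLocusFP

set_option autoImplicit false
universe u
open FlatMor

namespace Groth.Agent.S1341

open AlgebraicGeometry CategoryTheory Limits in
/-- Let f : X ⟶ S be flat and locally of finite presentation. Then the set of points of X at which f is
Cohen–Macaulay is open in X, and its intersection with every fibre of f is dense in that fibre. -/
theorem result {X S : Scheme.{u}} (f : X ⟶ S) [Flat f] [LocallyOfFinitePresentation f] :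
    IsOpen {x : ↑X | MoreMor.IsCMAt f x} ∧ ∀ s : S, Dense ((f.fiberι s) ⁻¹' {x : ↑X | MoreMor.IsCMAt f x}) := by
  open Groth.Agent.Lib.Helper73 in
  refine ⟨isOpen_setOf_isCMAt_fp f, fun s => ?_⟩
  rw [dense_iff_inter_open]
  intro V hV ⟨v, hv⟩
  obtain ⟨ξb, hξbv, hξbmax⟩ := exists_maximal_specializes v
  have hξbV : ξb ∈ V := hξbv.mem_open hV hv
  obtain ⟨hfξ, hξmax⟩ := fiberι_maximal_of_maximal f s ξb hξbmax
  refine ⟨ξb, hξbV, ?_⟩
  exact isCMAt_of_maximal_fiber f _ (Flat.stalkMap f _) (fun t ht hft => hξmax t ht (hft.trans hfξ))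

end Groth.Agent.S1341
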