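import Groth.Statements.S1342
import Mathlib
import Groth.Agent.Lib.Helper51.CMAtBC

set_option autoImplicit false
universe u
open FlatMor

namespace Groth.Agent.S1342

open AlgebraicGeometry CategoryTheory Limits in
/-- For a flat morphism locally of finite presentation, the formation of the Cohen–Macaulay locus
commutes with arbitrary base change: in a cartesian square the Cohen–Macaulay locus of the
base-changed morphism is the preimage of the Cohen–Macaulay locus of f. -/
theorem result {X S X' S' : Scheme.{u}} (f : X ⟶ S) [Flat f] [LocallyOfFinitePresentation f]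
    (f' : X' ⟶ S') (g' : X' ⟶ X) (g : S' ⟶ S) (hc : IsPullback g' f' f g) :
    {x' : ↑X' | MoreMor.IsCMAt f' x'} = g' ⁻¹' {x : ↑X | MoreMor.IsCMAt f x} := by
  open Groth.Agent.Lib.Helper51 in
  ext x'
  simp only [Set.mem_setOf_eq, Set.mem_preimage]
  have hw' : f'.fiberι (f' x') (f'.asFiber x') = x' := f'.fiberι_asFiber x'
  have hmw : f.fiberι (g (f' x')) (fiberMapOfIsPullback hc (f' x') (f'.asFiber x')) = g' x' := by
    rw [fiberMapOfIsPullback_fiberι, hw']
  rw [isCMAt_iff_of_fiber f' x' (f' x') (f'.asFiber x') hw',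
    isCMAt_iff_of_fiber f (g' x') (g (f' x')) _ hmw]
  haveI hflat' : Flat f' := MorphismProperty.of_isPullback (P := @Flat) hc ‹Flat f›
  have h1 : (f'.stalkMap x').hom.Flat := Flat.stalkMap f' x'
  have h2 : (f.stalkMap (g' x')).hom.Flat := Flat.stalkMap f (g' x')
  simp only [h1, h2, true_and]
  exact isCM_fiber_stalk_iff_of_lft hc (f' x') (f'.asFiber x')

end Groth.Agent.S1342
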