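import Groth.Statements.S13421
import Mathlib

set_option autoImplicit false
set_option linter.style.haveILetI false
universe u
open CategoryTheory AlgebraicGeometry
open NeronHD

namespace Groth.Agent.S13421

open CategoryTheory.Limits TopologicalSpace Opposite

set_option backward.isDefEq.respectTransparency.types false in
/-- Cancellation: if `a ≫ f` is smooth and `f` is étale, then `a` is smooth. -/
lemma smooth_of_comp_etale {Z S T : Scheme.{u}} (a : Z ⟶ S) (f : S ⟶ T) [Etale f]
    [Smooth (a ≫ f)] : Smooth a := by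
  haveI : MorphismProperty.IsMultiplicative @Smooth :=
    { id_mem := fun _ => inferInstance
      comp_mem := fun _ _ hf hg => MorphismProperty.comp_mem _ _ _ hf hg }
  haveI : MorphismProperty.HasOfPostcompProperty @Smooth @Etale := by
    rw [MorphismProperty.hasOfPostcompProperty_iff_le_diagonal]
    intro X Y h hh
    haveI : Etale h := hh
    have : Etale (pullback.diagonal h) := inferInstance
    exact inferInstanceAs (Smooth (pullback.diagonal h))
  exact MorphismProperty.of_postcomp (W := @Smooth) (W' := @Etale) a f ‹_› ‹_›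


lemma pullback_map_left_fst {X X' : Scheme.{u}} (p : X' ⟶ X) {A B : Over X} (h : A ⟶ B) :
    ((Over.pullback p).map h).left ≫ pullback.fst B.hom p = pullback.fst A.hom p ≫ h.left := by
  simp only [Over.pullback_map_left]
  exact pullback.lift_fst _ _ _

lemma pullback_map_left_snd {X X' : Scheme.{u}} (p : X' ⟶ X) {A B : Over X} (h : A ⟶ B) :
    ((Over.pullback p).map h).left ≫ pullback.snd B.hom p = pullback.snd A.hom p := by
  simp only [Over.pullback_map_left]
  exact pullback.lift_snd _ _ _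

/-- Criterion for a base-changed morphism to be a given one. -/
lemma pullback_map_eq_iff {X X' : Scheme.{u}} (p : X' ⟶ X) {A B : Over X} (h : A ⟶ B)
    (u : (Over.pullback p).obj A ⟶ (Over.pullback p).obj B) :
    (Over.pullback p).map h = u ↔
      pullback.fst A.hom p ≫ h.left = u.left ≫ pullback.fst B.hom p := by
  constructor
  · rintro rfl
    rw [pullback_map_left_fst]
  · intro hh
    ext
    apply pullback.hom_ext
    · rw [pullback_map_left_fst, hh]
    · rw [pullback_map_left_snd]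
      exact (Over.w u).symm

lemma pullback_map_eq_map_iff {X X' : Scheme.{u}} (p : X' ⟶ X) {A B : Over X} (h₁ h₂ : A ⟶ B) :
    (Over.pullback p).map h₁ = (Over.pullback p).map h₂ ↔
      pullback.fst A.hom p ≫ h₁.left = pullback.fst A.hom p ≫ h₂.left := by
  rw [pullback_map_eq_iff, pullback_map_left_fst]

section
variable {T S : Scheme.{u}} (f : S ⟶ T) (T₀ : T.Opens) {Z : Scheme.{u}} (z : Z ⟶ T) (a : Z ⟶ S)
  (ha : a ≫ f = z)

/-- comparison `Z ×_S f⁻¹T₀ ⟶ Z ×_T T₀` -/
noncomputable def eMap : pullback a (f ⁻¹ᵁ T₀).ι ⟶ pullback z T₀.ι :=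
  pullback.lift (pullback.fst _ _) (pullback.snd _ _ ≫ (f ∣_ T₀)) (by
    rw [← ha, ← Category.assoc, pullback.condition, Category.assoc, Category.assoc,
      morphismRestrict_ι])

lemma eMap_fst : eMap f T₀ z a ha ≫ pullback.fst z T₀.ι = pullback.fst a (f ⁻¹ᵁ T₀).ι :=
  pullback.lift_fst _ _ _

lemma eMap_snd : eMap f T₀ z a ha ≫ pullback.snd z T₀.ι =
    pullback.snd a (f ⁻¹ᵁ T₀).ι ≫ (f ∣_ T₀) :=
  pullback.lift_snd _ _ _

/-- comparison `Z ×_T T₀ ⟶ Z ×_S f⁻¹T₀` -/
noncomputable def eMap' : pullback z T₀.ι ⟶ pullback a (f ⁻¹ᵁ T₀).ι :=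
  pullback.lift (pullback.fst _ _)
    ((isPullback_morphismRestrict f T₀).lift (pullback.snd _ _) (pullback.fst _ _ ≫ a) (by
      rw [Category.assoc, ha, pullback.condition]))
    (by rw [IsPullback.lift_snd])

lemma eMap'_fst : eMap' f T₀ z a ha ≫ pullback.fst a (f ⁻¹ᵁ T₀).ι = pullback.fst z T₀.ι :=
  pullback.lift_fst _ _ _

lemma eMap'_eMap : eMap' f T₀ z a ha ≫ eMap f T₀ z a ha = 𝟙 _ := by
  apply pullback.hom_ext
  · rw [Category.assoc, eMap_fst, eMap'_fst, Category.id_comp]
  · rw [Category.assoc, eMap_snd, Category.id_comp]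
    unfold eMap'
    rw [pullback.lift_snd_assoc, IsPullback.lift_fst]

end


/-- Let T be a locally Noetherian scheme over a field of characteristic 0 and T₀ ⊆ T a
scheme-theoretically dense open. Let f : S → T be étale and such that S, viewed as a T-scheme, has
the Néron mapping property for T₀ ⊆ T, and let g : N → S be smooth and such that N, viewed as an
S-scheme, has the Néron mapping property for f⁻¹(T₀) ⊆ S (restriction of morphisms from smooth
schemes over the base is bijective). Then N → T, the composite g ≫ f, has the Néron mapping property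
for T₀ ⊆ T. (Case of schemes, with smooth test schemes, of a statement about algebraic spaces.) -/
theorem result {k : Type u} [Field k] [CharZero k] {T : Scheme.{u}} (τ : T ⟶ Spec (CommRingCat.of k)) [IsLocallyNoetherian T] (T₀ : T.Opens) (hT₀ : CInt.IsSchematicallyDense T₀)
    {S N : Scheme.{u}} (f : S ⟶ T) [Etale f] (g : N ⟶ S) [Smooth g]
    (hS : ∀ Z : Over T, Smooth Z.hom → Function.Bijective (fun g : Z ⟶ Over.mk f => (Over.pullback T₀.ι).map g))
    (hN : ∀ Z : Over S, Smooth Z.hom → Function.Bijective (fun g : Z ⟶ Over.mk g => (Over.pullback (f ⁻¹ᵁ T₀).ι).map g)) :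
    ∀ Z : Over T, Smooth Z.hom → Function.Bijective (fun g : Z ⟶ Over.mk (g ≫ f) => (Over.pullback T₀.ι).map g) := by
  intro Z hZ
  constructor
  · intro h₁ h₂ h
    have h' : pullback.fst Z.hom T₀.ι ≫ h₁.left = pullback.fst Z.hom T₀.ι ≫ h₂.left :=
      (pullback_map_eq_map_iff T₀.ι h₁ h₂).mp h
    have w₁ : h₁.left ≫ g ≫ f = Z.hom := Over.w h₁
    have w₂ : h₂.left ≫ g ≫ f = Z.hom := Over.w h₂
    let k₁ : Z ⟶ Over.mk f := Over.homMk (h₁.left ≫ g) (by simpa using w₁)
    let k₂ : Z ⟶ Over.mk f := Over.homMk (h₂.left ≫ g) (by simpa using w₂)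
    have hk : k₁ = k₂ := by
      apply (hS Z hZ).1
      apply (pullback_map_eq_map_iff T₀.ι k₁ k₂).mpr
      change pullback.fst Z.hom T₀.ι ≫ h₁.left ≫ g = pullback.fst Z.hom T₀.ι ≫ h₂.left ≫ g
      rw [reassoc_of% h']
    have hk' : h₁.left ≫ g = h₂.left ≫ g := congr($(hk).left)
    have ha : (h₁.left ≫ g) ≫ f = Z.hom := by rw [Category.assoc]; exact w₁
    haveI : Smooth ((h₁.left ≫ g) ≫ f) := by rw [ha]; exact hZ
    have hsm : Smooth (Over.mk (h₁.left ≫ g)).hom := smooth_of_comp_etale (h₁.left ≫ g) f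
    let h₁' : Over.mk (h₁.left ≫ g) ⟶ Over.mk g := Over.homMk h₁.left rfl
    let h₂' : Over.mk (h₁.left ≫ g) ⟶ Over.mk g := Over.homMk h₂.left hk'.symm
    have hh : h₁' = h₂' := by
      apply (hN _ hsm).1
      apply (pullback_map_eq_map_iff (f ⁻¹ᵁ T₀).ι h₁' h₂').mpr
      change pullback.fst (h₁.left ≫ g) (f ⁻¹ᵁ T₀).ι ≫ h₁.left =
        pullback.fst (h₁.left ≫ g) (f ⁻¹ᵁ T₀).ι ≫ h₂.left
      rw [← eMap_fst f T₀ Z.hom (h₁.left ≫ g) ha, Category.assoc, Category.assoc, h']
    ext
    exact congr($(hh).left)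
  · intro u
    let gT : Over.mk (g ≫ f) ⟶ Over.mk f := Over.homMk g rfl
    obtain ⟨k, hk⟩ := (hS Z hZ).2 (u ≫ (Over.pullback T₀.ι).map gT)
    have hk1 : pullback.fst Z.hom T₀.ι ≫ k.left =
        u.left ≫ pullback.fst (g ≫ f) T₀.ι ≫ g := by
      have h1 := (pullback_map_eq_iff T₀.ι k _).mp hk
      rw [h1, Over.comp_left, Category.assoc]
      congr 1
      exact pullback_map_left_fst T₀.ι gT
    have ha : k.left ≫ f = Z.hom := Over.w k
    haveI : Smooth (k.left ≫ f) := by rw [ha]; exact hZ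
    have hsm : Smooth (Over.mk k.left).hom := smooth_of_comp_etale k.left f
    have hcond : (eMap f T₀ Z.hom k.left ha ≫ u.left ≫ pullback.fst (g ≫ f) T₀.ι) ≫ g =
        pullback.snd k.left (f ⁻¹ᵁ T₀).ι ≫ (f ⁻¹ᵁ T₀).ι := by
      rw [Category.assoc, Category.assoc, ← hk1, ← Category.assoc, eMap_fst, pullback.condition]
    let v : (Over.pullback (f ⁻¹ᵁ T₀).ι).obj (Over.mk k.left) ⟶
        (Over.pullback (f ⁻¹ᵁ T₀).ι).obj (Over.mk g) :=
      Over.homMk (pullback.lift (eMap f T₀ Z.hom k.left ha ≫ u.left ≫ pullback.fst (g ≫ f) T₀.ι)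
        (pullback.snd k.left (f ⁻¹ᵁ T₀).ι) hcond) (pullback.lift_snd _ _ _)
    obtain ⟨h', hh'⟩ := (hN _ hsm).2 v
    have hh1 : pullback.fst k.left (f ⁻¹ᵁ T₀).ι ≫ h'.left =
        eMap f T₀ Z.hom k.left ha ≫ u.left ≫ pullback.fst (g ≫ f) T₀.ι := by
      have h1 := (pullback_map_eq_iff (f ⁻¹ᵁ T₀).ι h' v).mp hh'
      refine h1.trans ?_
      exact pullback.lift_fst _ _ _
    have hw' : h'.left ≫ g = k.left := Over.w h'
    refine ⟨Over.homMk h'.left (by
      change h'.left ≫ g ≫ f = Z.hom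
      rw [← Category.assoc, hw', ha]), ?_⟩
    apply (pullback_map_eq_iff T₀.ι _ u).mpr
    change pullback.fst Z.hom T₀.ι ≫ h'.left = u.left ≫ pullback.fst (g ≫ f) T₀.ι
    rw [← eMap'_fst f T₀ Z.hom k.left ha, Category.assoc, hh1, ← Category.assoc,
      eMap'_eMap, Category.id_comp]

end Groth.Agent.S13421
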