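import Groth.Statements.S4603
import Mathlib.AlgebraicGeometry.Morphisms.Descent
import Mathlib.AlgebraicGeometry.PullbackCarrier
import Mathlib.AlgebraicGeometry.Properties
import Mathlib.Topology.Sober

set_option autoImplicit false
universe u
open AlgebraicGeometry CategoryTheory
open EGA41

namespace Groth.Agent.S4603

theorem exists_maximal_generization {T : Type*} [TopologicalSpace T] [QuasiSober T] [T0Space T]
    (x : T) : ∃ η : T, η ⤳ x ∧ ∀ z : T, z ⤳ η → z = η := by
  obtain ⟨η, hη⟩ := QuasiSober.sober (isIrreducible_irreducibleComponent (x := x))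
    isClosed_irreducibleComponent
  refine ⟨η, hη.specializes mem_irreducibleComponent, fun z hz => ?_⟩
  have h1 : irreducibleComponent x ⊆ closure {z} := by
    rw [← hη.def]
    exact closure_minimal (Set.singleton_subset_iff.mpr (specializes_iff_mem_closure.mp hz))
      isClosed_closure
  have h2 : closure {z} = irreducibleComponent x :=
    eq_irreducibleComponent (isIrreducible_singleton.closure.isPreirreducible) h1
  have h3 : IsGenericPoint z (irreducibleComponent x) := h2
  exact h3.eq hη

open CategoryTheory.Limits in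
theorem mem_range_of_maximal {X Y : Scheme.{u}} (f : X ⟶ Y) [QuasiCompact f] [IsDominant f]
    (y : Y) (hy : ∀ y' : Y, y' ⤳ y → y' = y) : y ∈ Set.range f.base := by
  obtain ⟨V, hV, hyV, -⟩ := TopologicalSpace.Opens.isBasis_iff_nbhd.mp Y.isBasis_affineOpens
    (TopologicalSpace.Opens.mem_top y)
  have hV' : IsAffineOpen V := hV
  have hr : Set.range hV'.fromSpec = V := hV'.range_fromSpec
  obtain ⟨y₀, hy₀⟩ : y ∈ Set.range hV'.fromSpec := by rw [hr]; exact hyV
  have hmin : y₀.asIdeal ∈ minimalPrimes Γ(Y, V) := by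
    refine ⟨⟨y₀.isPrime, bot_le⟩, fun q hq hle => ?_⟩
    have hq' : q.IsPrime := hq.1
    let z : PrimeSpectrum Γ(Y, V) := ⟨q, hq'⟩
    have hz : z ⤳ y₀ := (PrimeSpectrum.le_iff_specializes z y₀).mp hle
    have h1 := hy (hV'.fromSpec z) (by rw [← hy₀]; exact hz.map hV'.fromSpec.continuous)
    have h2 : z = y₀ := hV'.fromSpec.isOpenEmbedding.injective (h1.trans hy₀.symm)
    rw [← h2]
  let f₁ := pullback.snd f hV'.fromSpec
  have : CompactSpace ↥(pullback f hV'.fromSpec) := QuasiCompact.compactSpace_of_compactSpace f₁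
  obtain ⟨W, p, hp, -, hW⟩ :=
    Scheme.exists_hom_isAffine_of_isZariskiLocalAtSource @IsLocalIso (pullback f hV'.fromSpec)
  obtain ⟨φ, hφ⟩ := Spec.map_surjective (W.isoSpec.inv ≫ p ≫ f₁)
  have hdense : DenseRange (PrimeSpectrum.comap φ.hom) := by
    have h1 : Set.range (PrimeSpectrum.comap φ.hom) = Set.range (Spec.map φ) := rfl
    rw [DenseRange, h1, hφ]
    have h2 : Set.range (W.isoSpec.inv ≫ p ≫ f₁) = Set.range f₁ := by
      rw [← Category.assoc]
      exact range_eq_range_of_surjective _ f₁ (W.isoSpec.inv ≫ p) rfl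
    rw [h2, Scheme.Pullback.range_snd]
    exact f.denseRange.preimage hV'.fromSpec.isOpenEmbedding.isOpenMap
  obtain ⟨w, hw⟩ := (PrimeSpectrum.denseRange_comap_iff_minimalPrimes φ.hom).mp hdense _ hmin
  refine ⟨(pullback.fst f hV'.fromSpec) (p (W.isoSpec.inv w)), ?_⟩
  rw [← Scheme.Hom.comp_apply, pullback.condition, Scheme.Hom.comp_apply, ← hy₀]
  congr 1
  have h3 : (W.isoSpec.inv ≫ p ≫ f₁) w = y₀ := by
    rw [← hφ, Spec.map_apply, hw]
    rfl
  exact h3

/-- Let f : X → Y be quasi-compact. The following are equivalent: f is dominant; the fibre of f over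
every maximal point of Y (a point with no proper generization, i.e. the generic point of an
irreducible component) is nonempty; every maximal point of Y is the image of a maximal point of X. -/
theorem result {X Y : Scheme.{u}} (f : X ⟶ Y) [QuasiCompact f] :
    [IsDominant f,
     ∀ y : Y, (∀ y' : Y, y' ⤳ y → y' = y) → y ∈ Set.range f.base,
     ∀ y : Y, (∀ y' : Y, y' ⤳ y → y' = y) → ∃ x : X, (∀ x' : X, x' ⤳ x → x' = x) ∧ f.base x = y].TFAE := by
  tfae_have 1 → 3 := by
    intro h y hy
    obtain ⟨x, hx⟩ := mem_range_of_maximal f y hy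
    obtain ⟨η, hη, hmax⟩ := exists_maximal_generization x
    refine ⟨η, hmax, ?_⟩
    apply hy
    rw [← hx]
    exact hη.map f.continuous
  tfae_have 3 → 2 := by
    intro h y hy
    obtain ⟨x, -, hx⟩ := h y hy
    exact ⟨x, hx⟩
  tfae_have 2 → 1 := by
    intro h
    constructor
    intro y
    obtain ⟨η, hη, hmax⟩ := exists_maximal_generization y
    exact hη.mem_closed isClosed_closure (subset_closure (h η hmax))
  tfae_finish

end Groth.Agent.S4603
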