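import Groth.Statements.S13423
import Groth.Agent.Lib.Helper69.SmoothQF
import Groth.Agent.Lib.Helper87.UnramGlobal
import Groth.Agent.Lib.Helper87.LocIrredScheme
import Groth.Agent.S4603

set_option autoImplicit false
universe u
open CategoryTheory AlgebraicGeometry
open NeronHD

namespace Groth.Agent.S13423

open AlgebraicGeometry CategoryTheory CategoryTheory.Limits TensorProduct
open Groth.Agent.Lib.Helper69.SmoothQF

/-- field-valued base change of f is smooth when scheme-theoretic fibres are -/
lemma smooth_pullback_fst_of_fibers {X S : Scheme.{u}} (f : X ⟶ S)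
    (hfib : ∀ s : S, Smooth (pullback.snd f (S.fromSpecResidueField s)))
    {K : Type u} [Field K] (t : Spec (CommRingCat.of K) ⟶ S) : Smooth (pullback.fst t f) := by
  set s := t (IsLocalRing.closedPoint K) with hs
  set a := Spec.map (Scheme.descResidueField (Scheme.stalkClosedPointTo t)) with ha
  set b := S.fromSpecResidueField s with hb
  have hab : a ≫ b = t := Scheme.descResidueField_stalkClosedPointTo_fromSpecResidueField K S t
  let ℓ : pullback t f ⟶ pullback f b := pullback.lift (pullback.snd t f) (pullback.fst t f ≫ a)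
    (by rw [Category.assoc, hab]; exact pullback.condition.symm)
  have hsq : IsPullback ℓ (pullback.fst t f) (pullback.snd f b) a := by
    apply IsPullback.of_right (h₁₂ := pullback.fst f b) (h₂₂ := b) (v₁₃ := f)
    · rw [pullback.lift_fst, hab]; exact (IsPullback.of_hasPullback t f).flip
    · exact pullback.lift_snd _ _ _
    · exact IsPullback.of_hasPullback f b
  exact MorphismProperty.of_isPullback hsq (hfib s)

lemma formallySmooth_fiber_of_fibers {X S : Scheme.{u}} (f : X ⟶ S)
    (hfib : ∀ s : S, Smooth (pullback.snd f (S.fromSpecResidueField s)))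
    {U : S.Opens} (hU : IsAffineOpen U) {V : X.Opens} (hV : IsAffineOpen V) (e : V ≤ f ⁻¹ᵁ U)
    (P : Ideal Γ(S, U)) [P.IsPrime] :
    letI := (f.appLE U V e).hom.toAlgebra
    Algebra.FormallySmooth P.ResidueField (P.ResidueField ⊗[Γ(S, U)] Γ(X, V)) := by
  letI := (f.appLE U V e).hom.toAlgebra
  let t : Spec (CommRingCat.of P.ResidueField) ⟶ S :=
    Spec.map (CommRingCat.ofHom (algebraMap Γ(S, U) P.ResidueField)) ≫ hU.fromSpec
  haveI := smooth_pullback_fst_of_fibers f hfib t
  have e₂ : Spec.map (CommRingCat.ofHom (algebraMap Γ(S, U) Γ(X, V))) ≫ hU.fromSpec =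
      hV.fromSpec ≫ f := IsAffineOpen.SpecMap_appLE_fromSpec f hU hV e
  let i := pullback.map (Spec.map (CommRingCat.ofHom (algebraMap Γ(S, U) P.ResidueField)))
    (Spec.map (CommRingCat.ofHom (algebraMap Γ(S, U) Γ(X, V)))) t f (𝟙 _) hV.fromSpec hU.fromSpec
    (by simp [t]) e₂
  haveI : IsOpenImmersion i := inferInstance
  have hi : i ≫ pullback.fst t f = pullback.fst _ _ := by
    simp only [i, pullback.map]
    rw [pullback.lift_fst, Category.comp_id]
  haveI : Smooth (pullback.fst (Spec.map (CommRingCat.ofHom (algebraMap Γ(S, U) P.ResidueField)))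
      (Spec.map (CommRingCat.ofHom (algebraMap Γ(S, U) Γ(X, V))))) := by
    rw [← hi]; infer_instance
  have h3 := pullbackSpecIso_inv_fst' Γ(S, U) P.ResidueField Γ(X, V)
  haveI : Smooth (Spec.map (CommRingCat.ofHom
      (algebraMap P.ResidueField (P.ResidueField ⊗[Γ(S, U)] Γ(X, V))))) := by
    rw [← h3]; infer_instance
  have h4 : (algebraMap P.ResidueField (P.ResidueField ⊗[Γ(S, U)] Γ(X, V))).Smooth :=
    (HasRingHomProperty.Spec_iff (P := @Smooth)).mp this
  have h5 : Algebra.Smooth P.ResidueField (P.ResidueField ⊗[Γ(S, U)] Γ(X, V)) := by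
    rw [RingHom.smooth_algebraMap] at h4; exact h4
  exact h5.formallySmooth


theorem formallyUnramified_of_smooth_fibers {X S : Scheme.{u}} (f : X ⟶ S)
    [LocallyOfFiniteType f] [LocallyQuasiFinite f]
    (hfib : ∀ s : S, Smooth (pullback.snd f (S.fromSpecResidueField s))) :
    FormallyUnramified f := by
  rw [HasRingHomProperty.iff_appLE (P := @FormallyUnramified)]
  intro U V e
  have h1 : (f.appLE U V e).hom.FiniteType :=
    HasRingHomProperty.appLE (P := @LocallyOfFiniteType) f inferInstance U V e
  have h2 : (f.appLE U V e).hom.QuasiFinite := LocallyQuasiFinite.quasiFinite_appLE U.2 V.2 e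
  algebraize [(f.appLE U V e).hom]
  show Algebra.FormallyUnramified _ _
  exact formallyUnramified_of_quasiFinite_of_fibers Γ(S, U) Γ(X, V)
    (fun P _ => formallySmooth_fiber_of_fibers f hfib U.2 V.2 e P)

/-- a connected locally Noetherian scheme whose local rings have a unique minimal prime is
irreducible -/
theorem irreducibleSpace_of_connected {S : Scheme.{u}} [IsLocallyNoetherian S] [ConnectedSpace S]
    (hS : ∀ s : S, CAlgX.HasUniqueMinimalPrime (S.presheaf.stalk s)) : IrreducibleSpace S := by
  have hloc : ∀ x : S, ∃ W : Set S, IsOpen W ∧ IsIrreducible W ∧ x ∈ W := by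
    intro x
    obtain ⟨U, hU, hxU, -⟩ := exists_isAffineOpen_mem_and_subset (X := S) (x := x)
      (U := ⊤) trivial
    haveI : IsNoetherianRing Γ(S, U) := IsLocallyNoetherian.component_noetherian ⟨U, hU⟩
    exact Groth.Agent.Lib.Helper87.LocIrred.exists_irreducible_nhd hU x hxU
      (minimalPrimes.finite_of_isNoetherianRing _) (hS x)
  obtain ⟨x₀⟩ : Nonempty S := inferInstance
  have hZ := irreducibleComponent_mem_irreducibleComponents x₀
  have hopen := Groth.Agent.Lib.Helper87.LocIrred.isOpen_of_mem_irreducibleComponents hloc hZ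
  have hclosed : IsClosed (irreducibleComponent x₀) := isClosed_irreducibleComponent
  have huniv : irreducibleComponent x₀ = Set.univ :=
    IsClopen.eq_univ ⟨hclosed, hopen⟩ ⟨x₀, mem_irreducibleComponent⟩
  have hirr : IsIrreducible (Set.univ : Set S) := huniv ▸ isIrreducible_irreducibleComponent
  exact { isPreirreducible_univ := hirr.2, toNonempty := ⟨x₀⟩ }


/-- Let S be a reduced, locally Noetherian scheme over a field of characteristic 0 whose local rings are
all geometrically unibranch, and let f : X → S be quasi-finite (locally of finite type,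
quasi-compact, with finite discrete fibres), separated and dominant, with X connected and nonempty,
such that every fibre X_s over the residue field k(s) is smooth. Then f is étale. (Case of schemes
of a statement about algebraic spaces.) -/
theorem result {k : Type u} [Field k] [CharZero k] {S : Scheme.{u}} (σ : S ⟶ Spec (CommRingCat.of k)) [IsLocallyNoetherian S] [IsReduced S]
    (hS : ∀ s : S, CAlg2.IsGeomUnibranch (S.presheaf.stalk s))
    {X : Scheme.{u}} (f : X ⟶ S) [LocallyOfFiniteType f] [QuasiCompact f] [LocallyQuasiFinite f] [IsSeparated f] [IsDominant f]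
    [ConnectedSpace X]
    (hfib : ∀ s : S, Smooth (Limits.pullback.snd f (S.fromSpecResidueField s))) :
    Etale f := by
  haveI hunr : FormallyUnramified f := formallyUnramified_of_smooth_fibers f hfib
  haveI : ConnectedSpace S := by
    haveI : PreconnectedSpace S := f.denseRange.preconnectedSpace f.continuous
    obtain ⟨x⟩ : Nonempty X := inferInstance
    exact ⟨⟨f x⟩⟩
  haveI : IrreducibleSpace S := irreducibleSpace_of_connected fun s =>
    Groth.Agent.Lib.Helper87.LocIrred.hasUniqueMinimalPrime_of_pgu _ ⟨inferInstance, hS s⟩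
  haveI : IsIntegral S := isIntegral_of_irreducibleSpace_of_isReduced S
  apply Groth.Agent.Lib.Helper87.UnramGlobal.etale_of_connected f hS
  have hmem := Groth.Agent.S4603.mem_range_of_maximal f (genericPoint S) (fun y' hy' =>
    ((genericPoint_specializes y').antisymm hy').eq.symm)
  obtain ⟨x, hx⟩ := hmem
  exact ⟨x, hx⟩


end Groth.Agent.S13423
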