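import Groth.Statements.S13425
-- import your own Groth.Agent.* helpers here
import Groth.Agent.Lib.Helper33.ZetaFrobStable
import Groth.Agent.Lib.Helper69.CartSplit

set_option autoImplicit false
universe u
open CategoryTheory AlgebraicGeometry
open NeronHD

namespace Groth.Agent.S13425

open CategoryTheory.Limits

section
variable {k : Type u} [Field k] [IsAlgClosed k]
    {X Y : Scheme.{u}} (sX : X ⟶ Spec (CommRingCat.of k)) (sY : Y ⟶ Spec (CommRingCat.of k))
    [LocallyOfFiniteType sX] [LocallyOfFiniteType sY]
    (f : X ⟶ Y) (hf : f ≫ sY = sX)

include hf in
theorem lft_f : LocallyOfFiniteType f := by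
  have : LocallyOfFiniteType (f ≫ sY) := by rw [hf]; infer_instance
  exact locallyOfFiniteType_of_comp f sY

include hf in
/-- no `k`-points off the diagonal => the diagonal is surjective -/
theorem surjective_diagonal [IsSeparated f]
    (hinj : ∀ a b : Spec (CommRingCat.of k) ⟶ X, a ≫ sX = 𝟙 _ → b ≫ sX = 𝟙 _ →
      a ≫ f = b ≫ f → a = b) :
    Surjective (pullback.diagonal f) := by
  have := lft_f sX sY f hf
  let pZ : pullback f f ⟶ Spec (CommRingCat.of k) := pullback.fst f f ≫ sX
  have : LocallyOfFiniteType pZ := by dsimp only [pZ]; infer_instance
  have : JacobsonSpace ↥(pullback f f) := LocallyOfFiniteType.jacobsonSpace pZ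
  rw [surjective_iff]
  by_contra hns
  have hcl : IsClosed (Set.range (pullback.diagonal f)) :=
    (pullback.diagonal f).isClosedEmbedding.isClosed_range
  have hopen : IsOpen (Set.range (pullback.diagonal f))ᶜ := hcl.isOpen_compl
  have hne : ((Set.range (pullback.diagonal f))ᶜ).Nonempty := by
    rw [Set.nonempty_compl]
    intro h
    exact hns (Set.range_eq_univ.mp h)
  -- a closed point in the complement
  have hdense : Dense (closedPoints ↥(pullback f f)) := by
    rw [dense_iff_closure_eq]
    have := JacobsonSpace.closure_inter_closedPoints (X := ↥(pullback f f)) isClosed_univ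
    simpa using this
  obtain ⟨z, hzW, hzc⟩ := hdense.inter_open_nonempty _ hopen hne
  have hzcl : IsClosed ({z} : Set ↥(pullback f f)) := hzc
  obtain ⟨s, hs1, hs2⟩ :=
    Groth.Agent.Lib.Helper33.ZetaFrobStable.exists_section pZ z hzcl
  have ha : (s ≫ pullback.fst f f) ≫ sX = 𝟙 _ := by rw [Category.assoc]; exact hs1
  have hb : (s ≫ pullback.snd f f) ≫ sX = 𝟙 _ := by
    rw [Category.assoc, ← hf, ← Category.assoc (pullback.snd f f), ← pullback.condition,
      Category.assoc, hf]
    exact hs1
  have hab : (s ≫ pullback.fst f f) ≫ f = (s ≫ pullback.snd f f) ≫ f := by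
    rw [Category.assoc, Category.assoc, pullback.condition]
  have e := hinj _ _ ha hb hab
  have hs : s = (s ≫ pullback.fst f f) ≫ pullback.diagonal f := by
    apply pullback.hom_ext
    · rw [Category.assoc, pullback.diagonal_fst, Category.comp_id]
    · rw [Category.assoc, pullback.diagonal_snd, Category.comp_id, e]
  apply hzW
  refine ⟨(s ≫ pullback.fst f f) (IsLocalRing.closedPoint k), ?_⟩
  have h3 := Scheme.Hom.comp_apply (s ≫ pullback.fst f f) (pullback.diagonal f)
    (IsLocalRing.closedPoint k)
  rw [← hs] at h3
  rw [← h3]
  exact hs2 _

end

theorem charZero_residueField {k : Type u} [Field k] [CharZero k] {Y : Scheme.{u}}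
    (sY : Y ⟶ Spec (CommRingCat.of k)) (y : Y) : CharZero (Y.residueField y) := by
  let φ : CommRingCat.of k ⟶ Y.residueField y :=
    (Scheme.ΓSpecIso (CommRingCat.of k)).inv ≫ sY.appTop ≫ Y.Γevaluation y
  exact charZero_of_injective_ringHom (f := φ.hom) φ.hom.injective


/-- Let k be a characteristic-zero algebraically closed field and X, Y integral schemes, separated and
of finite type over k, with Y normal, and let f : X → Y be a dominant k-morphism which is injective
on k-rational points. Then f is an open immersion. (Case of schemes of a statement about algebraic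
spaces.) -/
theorem result {k : Type u} [Field k] [IsAlgClosed k] [CharZero k]
    {X Y : Scheme.{u}} (sX : X ⟶ Spec (CommRingCat.of k)) (sY : Y ⟶ Spec (CommRingCat.of k))
    [IsIntegral X] [IsIntegral Y] [IsSeparated sX] [IsSeparated sY]
    [LocallyOfFiniteType sX] [QuasiCompact sX] [LocallyOfFiniteType sY] [QuasiCompact sY]
    (hY : Pi1.IsNormalScheme Y)
    (f : X ⟶ Y) (hf : f ≫ sY = sX) [IsDominant f]
    (hinj : ∀ a b : Spec (CommRingCat.of k) ⟶ X, a ≫ sX = 𝟙 _ → b ≫ sX = 𝟙 _ → a ≫ f = b ≫ f → a = b) :
    IsOpenImmersion f := by
  have hlft : LocallyOfFiniteType f := lft_f sX sY f hf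
  have hsep : IsSeparated f := by
    have : IsSeparated (f ≫ sY) := by rw [hf]; infer_instance
    exact IsSeparated.of_comp f sY
  have hqc : QuasiCompact f := by
    have : QuasiCompact (f ≫ sY) := by rw [hf]; infer_instance
    exact QuasiCompact.of_comp f sY
  have hui : UniversallyInjective f :=
    (UniversallyInjective.iff_diagonal f).mpr (surjective_diagonal sX sY f hf hinj)
  have hqf : LocallyQuasiFinite f := by
    rw [locallyQuasiFinite_iff_isDiscrete_preimage_singleton]
    intro y
    apply Set.Subsingleton.isDiscrete
    intro a ha b hb
    exact f.injective (ha.trans hb.symm)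
  -- Zariski's main theorem
  have hj : IsOpenImmersion f.toNormalization := inferInstance
  have hfac : f.toNormalization ≫ f.fromNormalization = f := f.toNormalization_fromNormalization
  have hui' : UniversallyInjective (f.toNormalization ≫ f.fromNormalization) := by
    rw [hfac]; exact hui
  have hpi : ∀ x, ((f.toNormalization ≫ f.fromNormalization).residueFieldMap
      x).hom.IsPurelyInseparable := by
    have h := (tfae_universallyInjective (f.toNormalization ≫ f.fromNormalization)).out 0 2
    exact (h.mp hui').2
  -- `fromNormalization` is surjective
  have hdom : IsDominant f.fromNormalization := by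
    have : IsDominant (f.toNormalization ≫ f.fromNormalization) := by rw [hfac]; infer_instance
    exact IsDominant.of_comp (f := f.toNormalization) (g := f.fromNormalization)
  have hsurj : Function.Surjective f.fromNormalization :=
    (surjective_of_isDominant_of_isClosed_range f.fromNormalization
      (f.fromNormalization.isClosedMap.isClosed_range)).surj
  have hgen := Groth.Agent.Lib.Helper69.CartSplit.map_genericPoint_of_surjective
    f.fromNormalization hsurj
  have hη : f.toNormalization (genericPoint X) = genericPoint f.normalization :=
    genericPoint_eq_of_isOpenImmersion _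
  have hdeg : f.fromNormalization.residueDegree (genericPoint f.normalization) = 1 := by
    rw [← hη]
    have h1 := hpi (genericPoint X)
    rw [Scheme.residueFieldMap_comp] at h1
    set x := genericPoint X with hx
    -- the three residue fields
    let φ := (f.fromNormalization.residueFieldMap (f.toNormalization x)).hom
    let ι := (f.toNormalization.residueFieldMap x).hom
    have h2 : (ι.comp φ).IsPurelyInseparable := h1
    haveI : CharZero (Y.residueField (f.fromNormalization (f.toNormalization x))) :=
      charZero_residueField sY _
    -- the composite is surjective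
    have h3 : Function.Surjective (ι.comp φ) := by
      letI : Algebra (Y.residueField (f.fromNormalization (f.toNormalization x)))
        (X.residueField x) := (ι.comp φ).toAlgebra
      haveI : IsPurelyInseparable (Y.residueField (f.fromNormalization (f.toNormalization x)))
        (X.residueField x) := h2
      exact IsPurelyInseparable.surjective_algebraMap_of_isSeparable _ _
    have h4 : Function.Surjective φ := by
      intro m
      obtain ⟨a, ha⟩ := h3 (ι m)
      exact ⟨a, ι.injective ha⟩
    unfold Scheme.Hom.residueDegree
    letI := (f.fromNormalization.residueFieldMap (f.toNormalization x)).hom.toAlgebra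
    have hbij : Function.Bijective (algebraMap
        (Y.residueField (f.fromNormalization (f.toNormalization x)))
        (f.normalization.residueField (f.toNormalization x))) := ⟨φ.injective, h4⟩
    have e := LinearEquiv.ofBijective
      (Algebra.linearMap (Y.residueField (f.fromNormalization (f.toNormalization x)))
        (f.normalization.residueField (f.toNormalization x))) hbij
    rw [← e.finrank_eq, Module.finrank_self]
  have hiso : IsIso f.fromNormalization :=
    Groth.Agent.Lib.Helper69.CartSplit.isIso_of_integral_residueDegree_one hY f.fromNormalization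
      hgen hdeg
  rw [← hfac]
  infer_instance

end Groth.Agent.S13425
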