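import Groth.Statements.S13426
import Groth.Agent.Lib.Helper62.GrpSeparated
import Groth.Agent.Lib.Helper71.NeronDescG

set_option autoImplicit false
universe u
open CategoryTheory MonoidalCategory CartesianMonoidalCategory MonObj GrpObj AlgebraicGeometry
open GrpSch

namespace Groth.Agent.S13426

theorem isSchDominant_toImage {X Y : Scheme.{u}} (f : X ⟶ Y) [QuasiCompact f] :
    IsSchemeTheoreticallyDominant f.toImage := by
  rw [isSchemeTheoreticallyDominant_iff]
  refine Scheme.IdealSheafData.ext_of_iSup_eq_top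
    (fun V : Y.affineOpens => ⟨f.imageι ⁻¹ᵁ V.1, V.2.preimage f.imageι⟩) ?_ ?_
  · have h1 : (⨆ V : Y.affineOpens, f.imageι ⁻¹ᵁ V.1) = f.imageι ⁻¹ᵁ (⨆ V : Y.affineOpens, V.1) := by
      rw [Scheme.Hom.preimage_iSup]
    have h2 : (⨆ V : Y.affineOpens, V.1) = ⊤ := iSup_affineOpens_eq_top Y
    rw [h1, h2]
    rfl
  · intro V
    rw [Scheme.Hom.ker_apply, Scheme.IdealSheafData.ideal_bot, Pi.bot_apply,
      ← RingHom.injective_iff_ker_eq_bot]
    exact f.toImage_app_injective V


/-- Let S be a locally Noetherian scheme over a field of characteristic 0, S₀ ⊆ S a scheme-theoretically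
dense open, and G a smooth S-scheme with the weak Néron mapping property for S₀ ⊆ S: for every étale
S-scheme U, restriction to S₀ is a bijection from S-morphisms U → G onto S₀-morphisms. Let H be a
smooth group scheme over S together with a monomorphism H → G of S-schemes (the case in view: G a
group scheme and H a subgroup scheme), and assume that H is aligned, i.e. the scheme-theoretic image
of its unit section is étale over S, and that H ×_S S₀ → S₀ is separated. Then H → S is separated.
(Case of schemes of a statement about group algebraic spaces; only the injectivity of H → G on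
morphisms is used of the subgroup condition.) -/
theorem result {k : Type u} [Field k] [CharZero k] {S : Scheme.{u}} (σ : S ⟶ Spec (CommRingCat.of k)) [IsLocallyNoetherian S] (S₀ : S.Opens) (hS₀ : CInt.IsSchematicallyDense S₀)
    (G : Over S) [Smooth G.hom]
    (hG : ∀ U : Over S, Etale U.hom → Function.Bijective (fun g : U ⟶ G => (Over.pullback S₀.ι).map g))
    (H : Over S) [GrpObj H] [Smooth H.hom] (j : H ⟶ G) [Mono j.left]
    (hal : Etale (η[H].left.ker.subschemeι ≫ H.hom))
    (h0 : IsSeparated (Limits.pullback.snd H.hom S₀.ι)) :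
    IsSeparated H.hom := by
  classical
  let u : (𝟙_ (Over S)).left ⟶ S := (𝟙_ (Over S)).hom
  haveI hu : IsIso u := inferInstanceAs (IsIso (𝟙 S))
  haveI : IsLocallyNoetherian (𝟙_ (Over S)).left := ‹IsLocallyNoetherian S›
  let e : (𝟙_ (Over S)).left ⟶ H.left := η[H].left
  have he : e ≫ H.hom = u := Over.w η[H]
  haveI : IsLocallyNoetherian H.left := LocallyOfFiniteType.isLocallyNoetherian H.hom
  haveI : QuasiCompact (e ≫ H.hom) := by rw [he]; infer_instance
  haveI : QuasiCompact e := QuasiCompact.of_comp e H.hom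
  let ιE : e.image ⟶ H.left := e.imageι
  let tI : (𝟙_ (Over S)).left ⟶ e.image := e.toImage
  have htI : tI ≫ ιE = e := e.toImage_imageι
  let πE : e.image ⟶ S := ιE ≫ H.hom
  haveI : Etale πE := hal
  obtain ⟨r, hr⟩ : ∃ r : e.image ⟶ (𝟙_ (Over S)).left, r = πE ≫ inv u := ⟨_, rfl⟩
  have hre : r ≫ e ≫ H.hom = πE := by
    rw [hr, Category.assoc, he, IsIso.inv_hom_id, Category.comp_id]
  have B1 : tI ≫ r = 𝟙 _ := by
    rw [hr]
    show tI ≫ (ιE ≫ H.hom) ≫ inv u = 𝟙 _
    rw [Category.assoc, ← Category.assoc, ← Category.assoc, htI, he, IsIso.hom_inv_id]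
  haveI : IsSchemeTheoreticallyDominant tI := isSchDominant_toImage e
  haveI : QuasiCompact tI := inferInstanceAs (QuasiCompact e.toImage)
  haveI : IsSeparated (Limits.pullback.snd H.hom S₀.ι) := h0
  -- Step A1
  have c1 : (Limits.pullback.fst πE S₀.ι ≫ ιE) ≫ H.hom = Limits.pullback.snd πE S₀.ι ≫ S₀.ι := by
    rw [Category.assoc]; exact Limits.pullback.condition
  have c2 : (Limits.pullback.fst πE S₀.ι ≫ r ≫ e) ≫ H.hom =
      Limits.pullback.snd πE S₀.ι ≫ S₀.ι := by
    rw [Category.assoc, Category.assoc, hre]; exact Limits.pullback.condition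
  have A1 : Limits.pullback.fst πE S₀.ι ≫ ιE = Limits.pullback.fst πE S₀.ι ≫ r ≫ e := by
    have key : Limits.pullback.lift (Limits.pullback.fst πE S₀.ι ≫ ιE) (Limits.pullback.snd πE S₀.ι) c1 =
        Limits.pullback.lift (Limits.pullback.fst πE S₀.ι ≫ r ≫ e) (Limits.pullback.snd πE S₀.ι) c2 := by
      refine Groth.Agent.Lib.Helper71.NeronDescG.ext_of_schDominant_of_isSeparated
        (Limits.pullback.snd H.hom S₀.ι) ?_
        (Limits.pullback.snd tI (Limits.pullback.fst πE S₀.ι)) ?_
      · rw [Limits.pullback.lift_snd, Limits.pullback.lift_snd]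
      · apply Limits.pullback.hom_ext
        · rw [Category.assoc, Category.assoc, Limits.pullback.lift_fst, Limits.pullback.lift_fst,
            ← Limits.pullback.condition_assoc, ← Limits.pullback.condition_assoc, htI]
          rw [reassoc_of% B1]
        · rw [Category.assoc, Category.assoc, Limits.pullback.lift_snd, Limits.pullback.lift_snd]
    have := congr($key ≫ Limits.pullback.fst H.hom S₀.ι)
    rwa [Limits.pullback.lift_fst, Limits.pullback.lift_fst] at this
  -- Step A2
  have hjw : j.left ≫ G.hom = H.hom := Over.w j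
  let EO : Over S := Over.mk πE
  let M₁ : EO ⟶ G := Over.homMk (ιE ≫ j.left) (by
    show (ιE ≫ j.left) ≫ G.hom = πE
    rw [Category.assoc, hjw])
  let M₂ : EO ⟶ G := Over.homMk (r ≫ e ≫ j.left) (by
    show (r ≫ e ≫ j.left) ≫ G.hom = πE
    rw [Category.assoc, Category.assoc, hjw, hre])
  have hM : (Over.pullback S₀.ι).map M₁ = (Over.pullback S₀.ι).map M₂ := by
    apply Over.OverMorphism.ext
    simp only [Over.pullback_map_left]
    congr 1
    show Limits.pullback.fst πE S₀.ι ≫ ιE ≫ j.left = Limits.pullback.fst πE S₀.ι ≫ r ≫ e ≫ j.left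
    rw [reassoc_of% A1]
  have hM' : M₁ = M₂ := (hG EO (show Etale πE from hal)).1 hM
  have A : ιE = r ≫ e := by
    have := congr(($hM').left)
    have h2 : ιE ≫ j.left = (r ≫ e) ≫ j.left := by
      rw [Category.assoc]; exact this
    exact (cancel_mono j.left).1 h2
  -- Step B
  have B2 : r ≫ tI = 𝟙 _ := by
    rw [← cancel_mono ιE, Category.assoc, htI, ← A, Category.id_comp]
  haveI : IsIso tI := ⟨r, B1, B2⟩
  -- Step C
  have C : IsClosedImmersion η[H].left := by
    show IsClosedImmersion e
    rw [← htI]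
    infer_instance
  exact Groth.Agent.Lib.Helper62.isSeparated_of_isClosedImmersion_unit S H C


end Groth.Agent.S13426
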