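import Groth.Statements.S13427
import Mathlib
import Groth.Agent.Lib.Helper86.NMP

set_option autoImplicit false
universe u
open CategoryTheory AlgebraicGeometry
open NeronHD

namespace Groth.Agent.S13427

open Limits MonoidalCategory CartesianMonoidalCategory Groth.Agent.Lib.Helper86.NMP

/-- Let S be a locally Noetherian scheme over a field of characteristic 0, S₀ ⊆ S a scheme-theoretically
dense open, and G, H smooth S-schemes with the Néron mapping property for S₀ ⊆ S (restriction to S₀
of S-morphisms from smooth S-schemes is bijective). Let f : G → H be an S-morphism and e : S → H a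
section of H → S, and let K = G ×_H S be the fibre of f over e (the case in view: f a homomorphism
of smooth group schemes, e the unit, K the kernel, so that 1 → K → G → H is left exact). If K → S is
smooth, then K has the Néron mapping property for S₀ ⊆ S. (Case of schemes, with smooth test
schemes, of a statement about group algebraic spaces.) -/
theorem result {k : Type u} [Field k] [CharZero k] {S : Scheme.{u}} (σ : S ⟶ Spec (CommRingCat.of k)) [IsLocallyNoetherian S] (S₀ : S.Opens) (hS₀ : CInt.IsSchematicallyDense S₀)
    (G H : Over S) [Smooth G.hom] [Smooth H.hom]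
    (hG : ∀ Z : Over S, Smooth Z.hom → Function.Bijective (fun g : Z ⟶ G => (Over.pullback S₀.ι).map g))
    (hH : ∀ Z : Over S, Smooth Z.hom → Function.Bijective (fun g : Z ⟶ H => (Over.pullback S₀.ι).map g))
    (f : G ⟶ H) (e : S ⟶ H.left) (he : e ≫ H.hom = 𝟙 S)
    [Smooth (Limits.pullback.snd f.left e)] :
    ∀ Z : Over S, Smooth Z.hom → Function.Bijective (fun g : Z ⟶ Over.mk (Limits.pullback.snd f.left e) => (Over.pullback S₀.ι).map g) := by
  intro Z hZ
  let F := Over.pullback S₀.ι
  let K : Over S := Over.mk (Limits.pullback.snd f.left e)
  have hw : Limits.pullback.fst f.left e ≫ G.hom = Limits.pullback.snd f.left e := by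
    have h1 : f.left ≫ H.hom = G.hom := Over.w f
    rw [← h1, ← Category.assoc, Limits.pullback.condition, Category.assoc, he, Category.comp_id]
  let p : K ⟶ G := Over.homMk (Limits.pullback.fst f.left e) hw
  let q : K ⟶ 𝟙_ (Over S) := Over.homMk (Limits.pullback.snd f.left e) (Category.comp_id _)
  let e' : 𝟙_ (Over S) ⟶ H := Over.homMk e he
  have hP : IsPullback p q f e' := by
    refine IsPullback.of_map (Over.forget S) ?_ ?_
    · ext
      exact Limits.pullback.condition
    · exact IsPullback.of_hasPullback f.left e
  have hFP : IsPullback (F.map p) (F.map q) (F.map f) (F.map e') := hP.map F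
  have hT : HomBij F Z (𝟙_ (Over S)) :=
    homBij_of_isTerminal isTerminalTensorUnit
      (IsTerminal.isTerminalObj F _ isTerminalTensorUnit) Z
  exact homBij_of_isPullback hP hFP (hG Z hZ) hT (hH Z hZ).1

end Groth.Agent.S13427
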