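import Groth.Statements.S13428
import Groth.Agent.Lib.Helper69.RatSec3
import Mathlib.AlgebraicGeometry.Morphisms.FlatMono

set_option autoImplicit false
universe u
open CategoryTheory AlgebraicGeometry
open NeronHD

namespace Groth.Agent.S13428

/-- Let S be a normal Noetherian scheme over a field of characteristic 0 and S₀ ⊆ S a
scheme-theoretically dense open. Let N be a smooth, separated and quasi-compact S-scheme with the
Néron mapping property for S₀ ⊆ S (restriction to S₀ of S-morphisms from smooth S-schemes is
bijective) such that N|S₀ → S₀ is étale, so that N is a quasi-projective Néron model of the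
quasi-projective étale S₀-scheme N|S₀. If M is a separated, quasi-compact, étale S-scheme and φ : M
→ N is an S-morphism restricting to an isomorphism over S₀ (so M is another quasi-projective étale
extension of N|S₀, and φ is its canonical map to the Néron model), then φ is an open immersion.
(Case of schemes of the published statement.) -/
theorem result {k : Type u} [Field k] [CharZero k] {S : Scheme.{u}} (σ : S ⟶ Spec (CommRingCat.of k)) [IsNoetherian S] (hS : Pi1.IsNormalScheme S) (S₀ : S.Opens) (hS₀ : CInt.IsSchematicallyDense S₀)
    (N : Over S) [Smooth N.hom] [IsSeparated N.hom] [QuasiCompact N.hom]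
    (hN : ∀ Z : Over S, Smooth Z.hom → Function.Bijective (fun g : Z ⟶ N => (Over.pullback S₀.ι).map g))
    [Etale ((Over.pullback S₀.ι).obj N).hom]
    (M : Over S) [Etale M.hom] [IsSeparated M.hom] [QuasiCompact M.hom]
    (φ : M ⟶ N) [IsIso ((Over.pullback S₀.ι).map φ)] :
    IsOpenImmersion φ.left := by
  have hdense : Dense (S₀ : Set S) :=
    Groth.Agent.Lib.Helper69.RatSec.dense_of_isSchematicallyDense S₀ hS₀
  have hrange : ∀ (Z : Over S) [Flat Z.hom] [LocallyOfFinitePresentation Z.hom],
      Dense (Set.range (Limits.pullback.fst Z.hom S₀.ι)) := by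
    intro Z _ _
    rw [Scheme.Pullback.range_fst, Scheme.Opens.range_ι]
    exact hdense.preimage Z.hom.isOpenMap
  -- `N` is étale over `S`
  haveI : FormallyUnramified (Limits.pullback.fst N.hom S₀.ι ≫ N.hom) := by
    rw [Limits.pullback.condition]
    haveI : Etale (Limits.pullback.snd N.hom S₀.ι) :=
      ‹Etale ((Over.pullback S₀.ι).obj N).hom›
    exact MorphismProperty.comp_mem @FormallyUnramified _ _ inferInstance inferInstance
  haveI : Etale N.hom := Groth.Agent.Lib.Helper69.RatSec.etale_of_smooth_of_dense N.hom
    (Limits.pullback.fst N.hom S₀.ι) (hrange N)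
  -- `φ` is étale and separated
  have hφ : φ.left ≫ N.hom = M.hom := Over.w φ
  haveI : Etale (φ.left ≫ N.hom) := by rw [hφ]; infer_instance
  haveI : IsSeparated (φ.left ≫ N.hom) := by rw [hφ]; infer_instance
  haveI : Etale φ.left :=
    MorphismProperty.of_postcomp (W := @Etale) (W' := @Etale) φ.left N.hom inferInstance inferInstance
  haveI : IsSeparated φ.left := IsSeparated.of_comp φ.left N.hom
  -- `φ` is a monomorphism on the dense open over `S₀`
  have hsq : Limits.pullback.fst M.hom S₀.ι ≫ φ.left =
      ((Over.pullback S₀.ι).map φ).left ≫ Limits.pullback.fst N.hom S₀.ι := by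
    simp only [Over.pullback_map_left]
    rw [Limits.pullback.lift_fst]
  haveI : IsIso ((Over.pullback S₀.ι).map φ).left :=
    (Over.forget _).map_isIso ((Over.pullback S₀.ι).map φ)
  haveI : Mono (Limits.pullback.fst M.hom S₀.ι ≫ φ.left) := by
    rw [hsq]; infer_instance
  haveI : Mono φ.left := Groth.Agent.Lib.Helper69.RatSec.mono_of_dense_section φ.left
    (Limits.pullback.fst M.hom S₀.ι) (hrange M)
  exact IsOpenImmersion.of_flat_of_mono φ.left


end Groth.Agent.S13428
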