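import Groth.Statements.S13432
import Mathlib
import Groth.Agent.S13749
import Groth.Agent.Lib.Helper52.NeronFin

set_option autoImplicit false
universe u
open CategoryTheory AlgebraicGeometry
open NeronHD

namespace Groth.Agent.S13432

/-- Let S be a normal Noetherian scheme over a field of characteristic 0 and S₀ ⊆ S a
scheme-theoretically dense open. Let π : T → S be finite with T normal, and let N ⊆ T be the open
subscheme where π is smooth (equivalently étale, π being finite). Then N → S has the Néron mapping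
property for S₀ ⊆ S: for every smooth S-scheme Z, restriction to S₀ is a bijection from S-morphisms
Z → N onto S₀-morphisms Z|S₀ → N|S₀. (In the published statement T is the normal finite S-scheme
compactifying a given quasi-projective étale S-scheme and N is the maximal quasi-projective étale
scheme containing it; that origin of T plays no role in this part of the proof, so any finite T → S
with T normal is allowed here. Case of schemes, with smooth test schemes, of a statement about
algebraic spaces.) -/
theorem result {k : Type u} [Field k] [CharZero k] {S : Scheme.{u}} (σ : S ⟶ Spec (CommRingCat.of k)) [IsNoetherian S] (hS : Pi1.IsNormalScheme S) (S₀ : S.Opens) (hS₀ : CInt.IsSchematicallyDense S₀)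
    {T : Scheme.{u}} (π : T ⟶ S) [IsFinite π] [LocallyOfFinitePresentation π] (hT : Pi1.IsNormalScheme T) :
    ∀ Z : Over S, Smooth Z.hom → Function.Bijective (fun g : Z ⟶ Over.mk (π.smoothLocus.ι ≫ π) => (Over.pullback S₀.ι).map g) := by
  intro Z hZ
  haveI : Smooth Z.hom := hZ
  haveI : IsLocallyNoetherian S := inferInstance
  apply Groth.Agent.S13749.goal_of_NMP S₀ (Over.mk (π.smoothLocus.ι ≫ π)) Z
  change Groth.Agent.S13749.NMP (π.smoothLocus.ι ≫ π) Z.hom (Limits.pullback.fst Z.hom S₀.ι)
  refine Groth.Agent.S13749.NMP_of_iso (π.smoothLocus.ι ≫ π) Z.hom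
    (pullbackRestrictIsoRestrict Z.hom S₀) _ (Z.hom ⁻¹ᵁ S₀).ι
    (pullbackRestrictIsoRestrict_hom_ι Z.hom S₀) ?_
  intro a ha
  have hloc := Groth.Agent.Lib.Helper52.NeronFin.local_ext hS S₀ hS₀ π hT Z.hom a ha
  haveI : IsSeparated (π.smoothLocus.ι ≫ π) := inferInstance
  obtain ⟨b, hb1, hb2⟩ := Groth.Agent.Lib.Helper71.NeronDescG.glue_of_local Z.hom
    (π.smoothLocus.ι ≫ π) (Z.hom ⁻¹ᵁ S₀)
    (fun W => Groth.Agent.Lib.Helper51.NeronDescD.dominant_homOfLE_of_flat Z.hom S₀ hS₀ W)
    a ha hloc
  refine ⟨b, ⟨hb1, hb2⟩, ?_⟩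
  rintro b₂ ⟨h1, h2⟩
  exact Groth.Agent.S13749.ext_of_flat S₀ hS₀ (π.smoothLocus.ι ≫ π) Z.hom b₂ b h1 hb1
    (h2.trans hb2.symm)

end Groth.Agent.S13432
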