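import Groth.Statements.S13441
import Mathlib.LinearAlgebra.Dimension.Finite
import Mathlib.LinearAlgebra.FiniteDimensional.Defs

set_option autoImplicit false
universe u
open W4c1hilbpn

namespace Groth.Agent.S13441

open W4c1hilbpn MvPolynomial

theorem finite_of_injective_exps {k : Type u} [Field k]
    (I : Ideal (MvPolynomial (Fin 3) k)) (hI : IsMonomial I)
    [Module.Finite k (MvPolynomial (Fin 3) k ⧸ I)] (e : ℕ → (Fin 3 →₀ ℕ))
    (he : Function.Injective e) : Finite {c : ℕ // e c ∉ exps I} := by
  classical
  have hli : LinearIndependent k (fun c : {c : ℕ // e c ∉ exps I} =>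
      Ideal.Quotient.mk I (monomial (e c.1) (1 : k))) := by
    rw [linearIndependent_iff']
    intro s g hg i₀ hi₀
    by_contra hne
    have hp : (∑ i ∈ s, monomial (e i.1) (g i)) ∈ I := by
      rw [← Ideal.Quotient.eq_zero_iff_mem, map_sum]
      rw [← hg]
      apply Finset.sum_congr rfl
      intro i _
      have h1 : monomial (e i.1) (g i) = g i • monomial (e i.1) (1 : k) := by
        rw [MvPolynomial.smul_monomial, smul_eq_mul, mul_one]
      rw [h1]
      rfl
    have hcoeff : coeff (e i₀.1) (∑ i ∈ s, monomial (e i.1) (g i)) = g i₀ := by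
      rw [MvPolynomial.coeff_sum]
      rw [Finset.sum_eq_single i₀]
      · simp
      · intro b _ hb
        rw [MvPolynomial.coeff_monomial, if_neg]
        intro h
        exact hb (Subtype.ext (he h))
      · intro h; exact absurd hi₀ h
    have hsupp : e i₀.1 ∈ (∑ i ∈ s, monomial (e i.1) (g i)).support := by
      rw [MvPolynomial.mem_support_iff, hcoeff]
      exact hne
    exact i₀.2 (hI _ hp _ hsupp)
  exact hli.finite

theorem e3_injective (a b : ℕ) : Function.Injective (fun c => e3 a b c) := by
  intro c c' h
  have := congrArg (fun f : Fin 3 →₀ ℕ => f 2) h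
  simpa [e3] using this

theorem e3_injective' (a c : ℕ) : Function.Injective (fun b => e3 a b c) := by
  intro b b' h
  have := congrArg (fun f : Fin 3 →₀ ℕ => f 1) h
  simpa [e3] using this

open W4c1hilbpn in
/-- Let k be an infinite field, S = k[x,y,z] with variables ordered x > y > z, and I a strongly stable
ideal of finite colength, with staircase numbers b^z_{i,j} = the number of c with x^i y^j z^c
outside I and b^y_{i,j} = the number of b with x^i y^b z^j outside I. Then b^z_{i+1,j} ≤ b^z_{i,j+1}
and b^y_{i+1,j} ≤ b^y_{i,j+1} for all i and j (equivalently the maximum of the two neighbouring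
staircase numbers is the second one). -/
theorem result (k : Type u) [Field k] [Infinite k]
    (I : Ideal (MvPolynomial (Fin 3) k)) (hI : IsStronglyStable I) [Module.Finite k (MvPolynomial (Fin 3) k ⧸ I)] (i j : ℕ) :
    stairZ I (i + 1) j ≤ stairZ I i (j + 1) ∧ stairY I (i + 1) j ≤ stairY I i (j + 1) := by
  obtain ⟨hmon, hst⟩ := hI
  have hswapZ : ∀ c : ℕ, e3 i (j + 1) c ∈ exps I → e3 (i + 1) j c ∈ exps I := by
    intro c hc
    have h := hst (e3 i (j + 1) c) hc 0 1 (by decide) (by simp [e3])
    have heq : e3 i (j + 1) c - Finsupp.single 1 1 + Finsupp.single 0 1 = e3 (i + 1) j c := by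
      ext x
      simp only [Finsupp.coe_add, Finsupp.coe_tsub, Pi.add_apply, Pi.sub_apply,
        Finsupp.single_apply, e3]
      fin_cases x <;> simp
    rwa [heq] at h
  have hswapY : ∀ b : ℕ, e3 i b (j + 1) ∈ exps I → e3 (i + 1) b j ∈ exps I := by
    intro b hb
    have h := hst (e3 i b (j + 1)) hb 0 2 (by decide) (by simp [e3])
    have heq : e3 i b (j + 1) - Finsupp.single 2 1 + Finsupp.single 0 1 = e3 (i + 1) b j := by
      ext x
      simp only [Finsupp.coe_add, Finsupp.coe_tsub, Pi.add_apply, Pi.sub_apply,
        Finsupp.single_apply, e3]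
      fin_cases x <;> simp
    rwa [heq] at h
  constructor
  · have hfin : Finite {c : ℕ // e3 i (j + 1) c ∉ exps I} :=
      finite_of_injective_exps I hmon (fun c => e3 i (j + 1) c) (e3_injective i (j + 1))
    unfold stairZ
    refine Nat.card_le_card_of_injective
      (fun c : {c : ℕ // e3 (i + 1) j c ∉ exps I} =>
        (⟨c.1, fun h => c.2 (hswapZ c.1 h)⟩ : {c : ℕ // e3 i (j + 1) c ∉ exps I})) ?_
    intro c c' h
    have h' : c.1 = c'.1 := by
      have := congrArg Subtype.val h
      exact this
    exact Subtype.ext h'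
  · have hfin : Finite {b : ℕ // e3 i b (j + 1) ∉ exps I} :=
      finite_of_injective_exps I hmon (fun b => e3 i b (j + 1)) (e3_injective' i (j + 1))
    unfold stairY
    refine Nat.card_le_card_of_injective
      (fun b : {b : ℕ // e3 (i + 1) b j ∉ exps I} =>
        (⟨b.1, fun h => b.2 (hswapY b.1 h)⟩ : {b : ℕ // e3 i b (j + 1) ∉ exps I})) ?_
    intro b b' h
    have h' : b.1 = b'.1 := by
      have := congrArg Subtype.val h
      exact this
    exact Subtype.ext h'

end Groth.Agent.S13441
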