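import Groth.Statements.S1345
import Mathlib
import Groth.Agent.Lib.Helper51.CMAtBC

set_option autoImplicit false
universe u
open FlatMor

namespace Groth.Agent.S1345

open AlgebraicGeometry CategoryTheory Limits in
/-- Let f have locally Noetherian fibres and let f' be its base change along a morphism locally of
finite type. If f is Cohen–Macaulay at the image of a point x' of the new source, then f' is
Cohen–Macaulay at x'. -/
theorem result {X Y X' Y' : Scheme.{u}} (f : X ⟶ Y) (hN : ∀ y : Y, IsLocallyNoetherian (f.fiber y))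
    (f' : X' ⟶ Y') (g' : X' ⟶ X) (g : Y' ⟶ Y) [LocallyOfFiniteType g] (hc : IsPullback g' f' f g) (x' : X')
    (h : MoreMor.IsCMAt f (g' x')) : MoreMor.IsCMAt f' x' := by
  open Groth.Agent.Lib.Helper51 in
  have hw' : f'.fiberι (f' x') (f'.asFiber x') = x' := f'.fiberι_asFiber x'
  have hmw : f.fiberι (g (f' x')) (fiberMapOfIsPullback hc (f' x') (f'.asFiber x')) = g' x' := by
    rw [fiberMapOfIsPullback_fiberι, hw']
  haveI := hN (g (f' x'))
  have hNoeth : IsNoetherianRing ((f.fiber (g (f' x'))).presheaf.stalk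
      (fiberMapOfIsPullback hc (f' x') (f'.asFiber x'))) := inferInstance
  have key := isCM_fiber_stalk_iff_of_lft_base hc (f' x') (f'.asFiber x') hNoeth
  rw [isCMAt_iff_of_fiber f' x' (f' x') (f'.asFiber x') hw']
  rw [isCMAt_iff_of_fiber f (g' x') (g (f' x')) _ hmw] at h
  exact ⟨flat_stalkMap_of_isPullback hc x' h.1, key.mpr h.2⟩

end Groth.Agent.S1345
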