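import Groth.Statements.S13453
import Mathlib

set_option autoImplicit false
universe u
open W4c1hilbpn

namespace Groth.Agent.S13453
open W4c1hilbpn

open MvPolynomial

variable {k : Type u} [Field k]

/-- membership in a monomial ideal is checked on monomials -/
theorem mem_of_monomials {σ : Type} (I : Ideal (MvPolynomial σ k)) (p : MvPolynomial σ k)
    (h : ∀ β ∈ p.support, monomial β (1 : k) ∈ I) : p ∈ I := by
  rw [← MvPolynomial.support_sum_monomial_coeff p]
  refine Ideal.sum_mem _ fun β hβ => ?_
  have : monomial β (coeff β p) = C (coeff β p) * monomial β (1 : k) := by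
    rw [C_mul_monomial, mul_one]
  rw [this]
  exact Ideal.mul_mem_left _ _ (h β hβ)

/-- the exponent in three variables attached to an exponent in two variables and a power of `x` -/
noncomputable def lift3 (i : ℕ) (β : Fin 2 →₀ ℕ) : Fin 3 →₀ ℕ :=
  Finsupp.single 0 i + β.mapDomain Fin.succ

theorem lift3_zero (i : ℕ) (β : Fin 2 →₀ ℕ) : lift3 i β 0 = i := by
  rw [lift3, Finsupp.add_apply, Finsupp.single_eq_same,
    Finsupp.mapDomain_notin_range _ _ (by simp [Fin.succ_ne_zero]), add_zero]

theorem lift3_succ (i : ℕ) (β : Fin 2 →₀ ℕ) (j : Fin 2) : lift3 i β j.succ = β j := by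
  rw [lift3, Finsupp.add_apply, Finsupp.single_eq_of_ne (Fin.succ_ne_zero j),
    Finsupp.mapDomain_apply (Fin.succ_injective 2), zero_add]

theorem X_pow_mul_rename_monomial (i : ℕ) (β : Fin 2 →₀ ℕ) (c : k) :
    (X 0 ^ i : MvPolynomial (Fin 3) k) * rename Fin.succ (monomial β c) = monomial (lift3 i β) c := by
  rw [rename_monomial, X_pow_eq_monomial, monomial_mul, one_mul, lift3]

theorem lift3_injective (i : ℕ) : Function.Injective (lift3 i) := by
  intro β β' h
  ext j
  have := congrArg (fun f => f j.succ) h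
  simpa [lift3_succ] using this

theorem mem_sliceX (I : Ideal (MvPolynomial (Fin 3) k)) (i : ℕ) (f : MvPolynomial (Fin 2) k) :
    f ∈ sliceX I i ↔ (X 0 ^ i : MvPolynomial (Fin 3) k) * rename Fin.succ f ∈ I := by
  rw [sliceX, Ideal.mem_comap, Submodule.mem_colon_singleton, smul_eq_mul, mul_comm]
  rfl

theorem X_pow_mul_rename (i : ℕ) (f : MvPolynomial (Fin 2) k) :
    (X 0 ^ i : MvPolynomial (Fin 3) k) * rename Fin.succ f =
      ∑ β ∈ f.support, monomial (lift3 i β) (coeff β f) := by
  conv_lhs => rw [← MvPolynomial.support_sum_monomial_coeff f]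
  rw [map_sum, Finset.mul_sum]
  exact Finset.sum_congr rfl fun β _ => X_pow_mul_rename_monomial i β _

theorem coeff_X_pow_mul_rename (i : ℕ) (f : MvPolynomial (Fin 2) k) (β : Fin 2 →₀ ℕ) :
    coeff (lift3 i β) ((X 0 ^ i : MvPolynomial (Fin 3) k) * rename Fin.succ f) = coeff β f := by
  classical
  rw [X_pow_mul_rename, coeff_sum]
  simp only [coeff_monomial]
  rw [Finset.sum_eq_single β]
  · simp
  · intro b _ hb
    rw [if_neg]
    intro h
    exact hb (lift3_injective i h)
  · intro hβ
    rw [if_pos rfl]
    simpa using hβ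

theorem mem_sliceX_iff (I : Ideal (MvPolynomial (Fin 3) k)) (hI : IsMonomial I) (i : ℕ)
    (f : MvPolynomial (Fin 2) k) :
    f ∈ sliceX I i ↔ ∀ β ∈ f.support, lift3 i β ∈ exps I := by
  rw [mem_sliceX]
  constructor
  · intro h β hβ
    apply hI _ h
    rw [mem_support_iff, coeff_X_pow_mul_rename]
    exact mem_support_iff.mp hβ
  · intro h
    rw [X_pow_mul_rename]
    refine Ideal.sum_mem _ fun β hβ => ?_
    have : monomial (lift3 i β) (coeff β f) = C (coeff β f) * monomial (lift3 i β) (1 : k) := by
      rw [C_mul_monomial, mul_one]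
    rw [this]
    exact Ideal.mul_mem_left _ _ (h β hβ)

theorem mem_exps_sliceX (I : Ideal (MvPolynomial (Fin 3) k)) (hI : IsMonomial I) (i : ℕ)
    (β : Fin 2 →₀ ℕ) : β ∈ exps (sliceX I i) ↔ lift3 i β ∈ exps I := by
  classical
  show monomial β (1 : k) ∈ sliceX I i ↔ _
  rw [mem_sliceX_iff I hI]
  constructor
  · intro h
    apply h β
    rw [mem_support_iff, coeff_monomial, if_pos rfl]
    exact one_ne_zero
  · intro h β' hβ'
    rw [support_monomial, if_neg one_ne_zero, Finset.mem_singleton] at hβ'
    rw [hβ']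
    exact h

theorem lift3_exchange (i : ℕ) (β : Fin 2 →₀ ℕ) (a b : Fin 2) (hb : 0 < β b) :
    lift3 i (β - Finsupp.single b 1 + Finsupp.single a 1) =
      lift3 i β - Finsupp.single b.succ 1 + Finsupp.single a.succ 1 := by
  classical
  ext x
  refine Fin.cases ?_ (fun j => ?_) x
  · rw [lift3_zero, Finsupp.add_apply, Finsupp.tsub_apply, lift3_zero,
      Finsupp.single_apply, Finsupp.single_apply, if_neg (Fin.succ_ne_zero b),
      if_neg (Fin.succ_ne_zero a)]
    simp
  · rw [lift3_succ, Finsupp.add_apply, Finsupp.tsub_apply, Finsupp.add_apply, Finsupp.tsub_apply,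
      lift3_succ]
    simp only [Finsupp.single_apply, Fin.succ_inj]

theorem main (I : Ideal (MvPolynomial (Fin 3) k)) (hI : IsStronglyStable I) (i : ℕ) :
    IsStronglyStable (sliceX I i) ∧
      (sliceX I i).colon {(MvPolynomial.X 0 : MvPolynomial (Fin 2) k)} ≤ sliceX I (i + 1) := by
  classical
  obtain ⟨hmon, hex⟩ := hI
  refine ⟨⟨?_, ?_⟩, ?_⟩
  · intro p hp β hβ
    rw [mem_sliceX_iff I hmon] at hp
    exact (mem_exps_sliceX I hmon i β).mpr (hp β hβ)
  · intro β hβ a b hab hb
    rw [mem_exps_sliceX I hmon] at hβ ⊢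
    rw [lift3_exchange i β a b hb]
    apply hex _ hβ
    · exact Fin.succ_lt_succ_iff.mpr hab
    · rw [lift3_succ]; exact hb
  · intro f hf
    rw [Submodule.mem_colon_singleton, smul_eq_mul, mem_sliceX_iff I hmon] at hf
    rw [mem_sliceX_iff I hmon]
    intro β hβ
    -- the monomial β + e_0 of f * X 0
    have h1 : β + Finsupp.single 0 1 ∈ (f * X 0).support := by
      rw [mem_support_iff, coeff_mul_X]
      exact mem_support_iff.mp hβ
    have h2 := hf _ h1
    have h3 := hex _ h2 0 (Fin.succ 0) (by simp) (by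
      rw [lift3_succ]; simp)
    have h4 : lift3 i (β + Finsupp.single 0 1) - Finsupp.single (Fin.succ 0) 1 + Finsupp.single 0 1 =
        lift3 (i + 1) β := by
      ext x
      refine Fin.cases ?_ (fun j => ?_) x
      · rw [Finsupp.add_apply, Finsupp.tsub_apply, lift3_zero, lift3_zero]
        simp
      · rw [Finsupp.add_apply, Finsupp.tsub_apply, lift3_succ, lift3_succ]
        simp only [Finsupp.add_apply, Finsupp.single_apply, Fin.succ_inj]
        have : (0 : Fin 3) ≠ j.succ := (Fin.succ_ne_zero j).symm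
        simp only [this, if_false, add_zero]
        split_ifs <;> omega
    rw [← h4]
    exact h3

end Groth.Agent.S13453

namespace Groth.Agent.S13453

open W4c1hilbpn in
/-- Let k be an infinite field, S = k[x,y,z] with variables ordered x > y > z, and I a strongly stable
ideal of finite colength; write I_i for the ideal of polynomials f in k[y,z] with x^i f in I (so I
is the direct sum of the x^i I_i). Then each I_i is a strongly stable ideal of k[y,z] (with y > z)
and the ideal quotient (I_i : y) is contained in I_{i+1}. -/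
theorem result (k : Type u) [Field k] [Infinite k]
    (I : Ideal (MvPolynomial (Fin 3) k)) (hI : IsStronglyStable I) [Module.Finite k (MvPolynomial (Fin 3) k ⧸ I)] (i : ℕ) :
    IsStronglyStable (sliceX I i) ∧
      (sliceX I i).colon {(MvPolynomial.X 0 : MvPolynomial (Fin 2) k)} ≤ sliceX I (i + 1) := by
  exact main I hI i

end Groth.Agent.S13453
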