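import Groth.Statements.S13455
import Mathlib

set_option autoImplicit false
universe u
open W4c1hilbpn

namespace Groth.Agent.S13455

open MvPolynomial

variable (k : Type u) [Field k] (n k0 e1 e2 : ℕ)

/-- exponents of the generators of the left ideal -/
def GI : Set (Fin (n + 1) →₀ ℕ) :=
  {s | ∃ p q : Fin (n + 1), e1 ≤ p.val ∧ p.val ≤ e2 ∧ e1 ≤ q.val ∧ q.val ≤ e2 ∧
      s = Finsupp.single p 1 + Finsupp.single q 1} ∪
  {s | ∃ p q m : Fin (n + 1), e1 ≤ p.val ∧ p.val < q.val ∧ q.val ≤ e2 ∧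
      m.val + k0 = n + 1 + q.val ∧ s = Finsupp.single p 1 + Finsupp.single m 1}

/-- exponents of the generators of the j-th component -/
def GJ (j : Fin (n + 1)) : Set (Fin (n + 1) →₀ ℕ) :=
  {s | ∃ i : Fin (n + 1), e1 ≤ i.val ∧ i.val ≤ e2 ∧ i ≠ j ∧ s = Finsupp.single i 1} ∪
    {Finsupp.single j 2} ∪
    {s | ∃ q m : Fin (n + 1), j.val < q.val ∧ q.val ≤ e2 ∧ m.val + k0 = n + 1 + q.val ∧
      s = Finsupp.single m 1}

theorem XX (p q : Fin (n + 1)) : (X p * X q : MvPolynomial (Fin (n + 1)) k) =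
    monomial (Finsupp.single p 1 + Finsupp.single q 1) 1 := by
  rw [X, X, monomial_mul, mul_one]

theorem setI_eq :
    ({f : MvPolynomial (Fin (n + 1)) k | ∃ p q : Fin (n + 1), e1 ≤ p.val ∧ p.val ≤ e2 ∧ e1 ≤ q.val ∧ q.val ≤ e2 ∧
        f = MvPolynomial.X p * MvPolynomial.X q} ∪
      {f : MvPolynomial (Fin (n + 1)) k | ∃ p q m : Fin (n + 1), e1 ≤ p.val ∧ p.val < q.val ∧ q.val ≤ e2 ∧
        m.val + k0 = n + 1 + q.val ∧ f = MvPolynomial.X p * MvPolynomial.X m}) =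
    (fun s => monomial s (1 : k)) '' GI n k0 e1 e2 := by
  ext f
  constructor
  · rintro (⟨p, q, h1, h2, h3, h4, rfl⟩ | ⟨p, q, m, h1, h2, h3, h4, rfl⟩)
    · exact ⟨_, Or.inl ⟨p, q, h1, h2, h3, h4, rfl⟩, (XX k n p q).symm⟩
    · exact ⟨_, Or.inr ⟨p, q, m, h1, h2, h3, h4, rfl⟩, (XX k n p m).symm⟩
  · rintro ⟨s, (⟨p, q, h1, h2, h3, h4, rfl⟩ | ⟨p, q, m, h1, h2, h3, h4, rfl⟩), rfl⟩
    · exact Or.inl ⟨p, q, h1, h2, h3, h4, (XX k n p q).symm⟩
    · exact Or.inr ⟨p, q, m, h1, h2, h3, h4, (XX k n p m).symm⟩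

theorem setJ_eq (j : Fin (n + 1)) :
    ({f : MvPolynomial (Fin (n + 1)) k | ∃ i : Fin (n + 1), e1 ≤ i.val ∧ i.val ≤ e2 ∧ i ≠ j ∧ f = MvPolynomial.X i} ∪
        {MvPolynomial.X j ^ 2} ∪
        {f : MvPolynomial (Fin (n + 1)) k | ∃ q m : Fin (n + 1), j.val < q.val ∧ q.val ≤ e2 ∧ m.val + k0 = n + 1 + q.val ∧
          f = MvPolynomial.X m}) =
    (fun s => monomial s (1 : k)) '' GJ n k0 e1 e2 j := by
  have hsq : (X j ^ 2 : MvPolynomial (Fin (n + 1)) k) = monomial (Finsupp.single j 2) 1 := by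
    rw [X_pow_eq_monomial]
  ext f
  constructor
  · rintro ((⟨i, h1, h2, h3, rfl⟩ | hf) | ⟨q, m, h1, h2, h3, rfl⟩)
    · exact ⟨_, Or.inl (Or.inl ⟨i, h1, h2, h3, rfl⟩), rfl⟩
    · rw [Set.mem_singleton_iff] at hf
      subst hf
      exact ⟨_, Or.inl (Or.inr rfl), hsq.symm⟩
    · exact ⟨_, Or.inr ⟨q, m, h1, h2, h3, rfl⟩, rfl⟩
  · rintro ⟨s, ((⟨i, h1, h2, h3, rfl⟩ | hs) | ⟨q, m, h1, h2, h3, rfl⟩), rfl⟩
    · exact Or.inl (Or.inl ⟨i, h1, h2, h3, rfl⟩)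
    · rw [Set.mem_singleton_iff] at hs
      subst hs
      exact Or.inl (Or.inr hsq.symm)
    · exact Or.inr ⟨q, m, h1, h2, h3, rfl⟩

theorem single_le' {σ : Type} (m : σ →₀ ℕ) (i : σ) (c : ℕ) : Finsupp.single i c ≤ m ↔ c ≤ m i := by
  classical
  constructor
  · intro h
    have := h i
    simpa using this
  · intro h x
    by_cases hx : x = i
    · subst hx; simpa using h
    · simp [Finsupp.single_apply, Ne.symm hx]

theorem pair_le {σ : Type} (m : σ →₀ ℕ) (p q : σ) (hpq : p ≠ q) :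
    Finsupp.single p 1 + Finsupp.single q 1 ≤ m ↔ 1 ≤ m p ∧ 1 ≤ m q := by
  classical
  constructor
  · intro h
    have h1 := h p
    have h2 := h q
    simp [Finsupp.single_apply, hpq, Ne.symm hpq] at h1 h2
    exact ⟨h1, h2⟩
  · rintro ⟨h1, h2⟩ x
    simp only [Finsupp.add_apply, Finsupp.single_apply]
    split_ifs with hx1 hx2 hx2
    · exact absurd (hx1.trans hx2.symm) hpq
    · subst hx1; simpa using h1
    · subst hx2; simpa using h2
    · simp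

theorem pair_le_same {σ : Type} (m : σ →₀ ℕ) (p : σ) :
    Finsupp.single p 1 + Finsupp.single p 1 ≤ m ↔ 2 ≤ m p := by
  rw [← Finsupp.single_add]
  exact single_le' m p 2

theorem core (hn : 2 * k0 ≤ n + 1) (he : e1 ≤ e2) (he2 : e2 + 1 ≤ k0) (m : Fin (n + 1) →₀ ℕ) :
    (∃ s ∈ GI n k0 e1 e2, s ≤ m) ↔
      ∀ j : Fin (n + 1), e1 ≤ j.val ∧ j.val ≤ e2 → ∃ s ∈ GJ n k0 e1 e2 j, s ≤ m := by
  constructor
  · rintro ⟨s, (⟨p, q, h1, h2, h3, h4, rfl⟩ | ⟨p, q, mm, h1, h2, h3, h4, rfl⟩), hs⟩ j ⟨hj1, hj2⟩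
    · by_cases hpq : p = q
      · subst hpq
        rw [pair_le_same] at hs
        by_cases hpj : p = j
        · subst hpj
          exact ⟨_, Or.inl (Or.inr rfl), (single_le' m p 2).mpr hs⟩
        · exact ⟨_, Or.inl (Or.inl ⟨p, h1, h2, hpj, rfl⟩), (single_le' m p 1).mpr (by omega)⟩
      · rw [pair_le m p q hpq] at hs
        by_cases hpj : p = j
        · subst hpj
          exact ⟨_, Or.inl (Or.inl ⟨q, h3, h4, Ne.symm hpq, rfl⟩), (single_le' m q 1).mpr hs.2⟩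
        · exact ⟨_, Or.inl (Or.inl ⟨p, h1, h2, hpj, rfl⟩), (single_le' m p 1).mpr hs.1⟩
    · have hpm : p ≠ mm := by
        intro h; subst h; omega
      rw [pair_le m p mm hpm] at hs
      by_cases hpj : p = j
      · subst hpj
        exact ⟨_, Or.inr ⟨q, mm, h2, h3, h4, rfl⟩, (single_le' m mm 1).mpr hs.2⟩
      · exact ⟨_, Or.inl (Or.inl ⟨p, h1, by omega, hpj, rfl⟩), (single_le' m p 1).mpr hs.1⟩
  · intro h
    -- a variable in the range dividing m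
    obtain ⟨p, hp1, hp2, hmp⟩ : ∃ p : Fin (n + 1), e1 ≤ p.val ∧ p.val ≤ e2 ∧ 1 ≤ m p := by
      obtain ⟨s, hs, hsm⟩ := h ⟨e2, by omega⟩ ⟨he, le_rfl⟩
      rcases hs with (⟨i, h1, h2, _, rfl⟩ | hs) | ⟨q, mm, h1, h2, _, rfl⟩
      · exact ⟨i, h1, h2, (single_le' m i 1).mp hsm⟩
      · rw [Set.mem_singleton_iff] at hs
        subst hs
        have := (single_le' m _ 2).mp hsm
        exact ⟨⟨e2, by omega⟩, he, le_rfl, by omega⟩
      · simp only at h1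
        omega
    obtain ⟨s, hs, hsm⟩ := h p ⟨hp1, hp2⟩
    rcases hs with (⟨i, h1, h2, hip, rfl⟩ | hs) | ⟨q, mm, h1, h2, h3, rfl⟩
    · refine ⟨_, Or.inl ⟨p, i, hp1, hp2, h1, h2, rfl⟩, ?_⟩
      rw [pair_le m p i (Ne.symm hip)]
      exact ⟨hmp, (single_le' m i 1).mp hsm⟩
    · rw [Set.mem_singleton_iff] at hs
      subst hs
      refine ⟨_, Or.inl ⟨p, p, hp1, hp2, hp1, hp2, rfl⟩, ?_⟩
      rw [pair_le_same]
      exact (single_le' m p 2).mp hsm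
    · have hpm : p ≠ mm := by
        intro h; subst h; omega
      refine ⟨_, Or.inr ⟨p, q, mm, hp1, h1, h2, h3, rfl⟩, ?_⟩
      rw [pair_le m p mm hpm]
      exact ⟨hmp, (single_le' m mm 1).mp hsm⟩

theorem main (hn : 2 * k0 ≤ n + 1) (he : e1 ≤ e2) (he2 : e2 + 1 ≤ k0) :
    Ideal.span ({f : MvPolynomial (Fin (n + 1)) k | ∃ p q : Fin (n + 1), e1 ≤ p.val ∧ p.val ≤ e2 ∧ e1 ≤ q.val ∧ q.val ≤ e2 ∧
        f = MvPolynomial.X p * MvPolynomial.X q} ∪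
      {f : MvPolynomial (Fin (n + 1)) k | ∃ p q m : Fin (n + 1), e1 ≤ p.val ∧ p.val < q.val ∧ q.val ≤ e2 ∧
        m.val + k0 = n + 1 + q.val ∧ f = MvPolynomial.X p * MvPolynomial.X m}) =
    ⨅ j : Fin (n + 1), ⨅ (_ : e1 ≤ j.val ∧ j.val ≤ e2),
      Ideal.span ({f : MvPolynomial (Fin (n + 1)) k | ∃ i : Fin (n + 1), e1 ≤ i.val ∧ i.val ≤ e2 ∧ i ≠ j ∧ f = MvPolynomial.X i} ∪
        {MvPolynomial.X j ^ 2} ∪
        {f : MvPolynomial (Fin (n + 1)) k | ∃ q m : Fin (n + 1), j.val < q.val ∧ q.val ≤ e2 ∧ m.val + k0 = n + 1 + q.val ∧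
          f = MvPolynomial.X m}) := by
  rw [setI_eq]
  ext f
  rw [mem_ideal_span_monomial_image]
  simp only [Ideal.mem_iInf, setJ_eq, mem_ideal_span_monomial_image]
  constructor
  · intro h j hj x hx
    exact (core n k0 e1 e2 hn he he2 x).mp (h x hx) j hj
  · intro h x hx
    exact (core n k0 e1 e2 hn he he2 x).mpr fun j hj => h j hj x hx

end Groth.Agent.S13455

namespace Groth.Agent.S13455

/-- Let k be an algebraically closed field of characteristic different from 2, k0 ≥ 1 and n ≥ 2k0 - 1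
natural numbers, S = k[x_0, ..., x_n], and e1 ≤ e2 ≤ k0 - 1. The ideal generated by all products x_p
x_q with e1 ≤ p, q ≤ e2 together with the products x_p x_{n-k0+1+q} for e1 ≤ p < q ≤ e2 is the
intersection, over j from e1 to e2, of the ideals generated by the variables x_i with e1 ≤ i ≤ e2
and i ≠ j, the square x_j^2, and the variables x_{n-k0+1+q} for j < q ≤ e2 (a primary decomposition
of this monomial ideal). -/
theorem result (k : Type u) [Field k] [IsAlgClosed k] (hchar : ringChar k ≠ 2)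
    (n k0 e1 e2 : ℕ) (hk : 1 ≤ k0) (hn : 2 * k0 ≤ n + 1) (he : e1 ≤ e2) (he2 : e2 + 1 ≤ k0) :
    Ideal.span ({f : MvPolynomial (Fin (n + 1)) k | ∃ p q : Fin (n + 1), e1 ≤ p.val ∧ p.val ≤ e2 ∧ e1 ≤ q.val ∧ q.val ≤ e2 ∧
        f = MvPolynomial.X p * MvPolynomial.X q} ∪
      {f : MvPolynomial (Fin (n + 1)) k | ∃ p q m : Fin (n + 1), e1 ≤ p.val ∧ p.val < q.val ∧ q.val ≤ e2 ∧
        m.val + k0 = n + 1 + q.val ∧ f = MvPolynomial.X p * MvPolynomial.X m}) =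
    ⨅ j : Fin (n + 1), ⨅ (_ : e1 ≤ j.val ∧ j.val ≤ e2),
      Ideal.span ({f : MvPolynomial (Fin (n + 1)) k | ∃ i : Fin (n + 1), e1 ≤ i.val ∧ i.val ≤ e2 ∧ i ≠ j ∧ f = MvPolynomial.X i} ∪
        {MvPolynomial.X j ^ 2} ∪
        {f : MvPolynomial (Fin (n + 1)) k | ∃ q m : Fin (n + 1), j.val < q.val ∧ q.val ≤ e2 ∧ m.val + k0 = n + 1 + q.val ∧
          f = MvPolynomial.X m}) := by
  exact main k n k0 e1 e2 hn he he2

end Groth.Agent.S13455
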