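import Groth.Statements.S13456
import Mathlib
import Groth.Agent.Lib.Helper90.GrStrat3

set_option autoImplicit false
universe u
open W4c1hilbpn

namespace Groth.Agent.S13456

open TensorProduct in
/-- Let A be a Noetherian ring, R a finitely generated graded A-algebra (graded by the integers), M a
finitely generated graded R-module and h a function from the integers to the natural numbers. Then
the functor sending an A-algebra B to the condition 'every graded piece of M ⊗_A B is a finitely
generated locally free B-module of rank h(v)' is represented by a locally closed subscheme of Spec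
A: there are ideals a and b of A such that, for every A-algebra B, all B ⊗_A M_v are finitely
generated projective of constant rank h(v) if and only if a generates the zero ideal of B and b
generates the unit ideal of B. (The graded pieces M_v are assumed finitely generated over A, as they
are when R is positively graded with degree-zero part finite over A; the published setup allows any
finitely generated graded algebra, where graded pieces need not be finitely generated over A. Test
algebras B range over one universe.) -/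
theorem result
    (A : Type u) [CommRing A] [IsNoetherianRing A]
    (R : Type u) [CommRing R] [Algebra A R] [Algebra.FiniteType A R]
    (𝒜 : ℤ → Submodule A R) [GradedAlgebra 𝒜]
    (M : Type u) [AddCommGroup M] [Module A M] [Module R M] [IsScalarTower A R M] [Module.Finite R M]
    (ℳ : ℤ → Submodule A M) [DirectSum.Decomposition ℳ] [SetLike.GradedSMul 𝒜 ℳ]
    (hfg : ∀ v : ℤ, Module.Finite A ↥(ℳ v)) (h : ℤ → ℕ) :
    ∃ a b : Ideal A, ∀ (B : Type u) [CommRing B] [Algebra A B],
      ((∀ v : ℤ, Module.Finite B (B ⊗[A] ↥(ℳ v)) ∧ Module.Projective B (B ⊗[A] ↥(ℳ v)) ∧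
          ∀ p : PrimeSpectrum B, Module.rankAtStalk (B ⊗[A] ↥(ℳ v)) p = h v) ↔
        (Ideal.map (algebraMap A B) a = ⊥ ∧ Ideal.map (algebraMap A B) b = ⊤)) := by
  classical
  -- the retraction of `M` onto each graded piece
  have hret : ∀ v : ℤ, ∃ π : M →ₗ[A] ↥(ℳ v), π ∘ₗ (ℳ v).subtype = LinearMap.id := by
    intro v
    refine ⟨(DirectSum.component A ℤ (fun i => ↥(ℳ i)) v) ∘ₗ
      (DirectSum.decomposeLinearEquiv ℳ).toLinearMap, ?_⟩
    ext x
    simp only [LinearMap.coe_comp, Function.comp_apply, Submodule.coe_subtype,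
      LinearEquiv.coe_coe, LinearMap.id_coe, id_eq]
    rw [DirectSum.decomposeLinearEquiv_apply, DirectSum.decompose_coe,
      ← DirectSum.apply_eq_component, DirectSum.of_eq_same]
  let a : Ideal A := ⨆ v : ℤ, ⨆ k : ℕ, ⨆ (_ : k < h v), Fitt.ideal A ↥(ℳ v) k
  let C : Set (PrimeSpectrum A) := {q | ∃ v : ℤ, Fitt.ideal A ↥(ℳ v) (h v) ≤ q.asIdeal}
  have hC : IsClosed C := by
    apply Groth.Agent.Lib.Helper90.GrStrat.isClosed_of_generic C
    · rintro p q ⟨v, hv⟩ hpq
      exact ⟨v, hv.trans hpq⟩
    · intro p hp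
      haveI := p.2
      obtain ⟨f, hf, hgen⟩ := Groth.Agent.Lib.Helper90.GrStrat.generic_step R M p.asIdeal
      refine ⟨f, hf, fun q hpq hfq => ?_⟩
      rintro ⟨v, hv⟩
      obtain ⟨π, hπ⟩ := hret v
      haveI := hfg v
      refine hgen ↥(ℳ v) (ℳ v).subtype π hπ (h v) (fun hle => hp ⟨v, hle⟩) q.asIdeal q.2 hpq hfq hv
  let b : Ideal A := PrimeSpectrum.vanishingIdeal C
  have hb : PrimeSpectrum.zeroLocus (b : Set A) = C := by
    rw [PrimeSpectrum.zeroLocus_vanishingIdeal_eq_closure, hC.closure_eq]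
  refine ⟨a, b, fun B _ _ => ?_⟩
  have h1 : ∀ v : ℤ, (Module.Finite B (B ⊗[A] ↥(ℳ v)) ∧ Module.Projective B (B ⊗[A] ↥(ℳ v)) ∧
      ∀ p : PrimeSpectrum B, Module.rankAtStalk (B ⊗[A] ↥(ℳ v)) p = h v) ↔
      ((∀ k, k < h v → (Fitt.ideal A ↥(ℳ v) k).map (algebraMap A B) = ⊥) ∧
        (Fitt.ideal A ↥(ℳ v) (h v)).map (algebraMap A B) = ⊤) := by
    intro v
    haveI := hfg v
    have key := Groth.Agent.Lib.Helper90.GrStrat.proj_rank_iff_fitt (B := B) (B ⊗[A] ↥(ℳ v)) (h v)
    simp only [Groth.Agent.Lib.Helper75.Fitting.fitt_baseChange] at key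
    constructor
    · rintro ⟨_, hp, hr⟩
      exact key.1 ⟨hp, hr⟩
    · intro hh
      obtain ⟨hp, hr⟩ := key.2 hh
      exact ⟨inferInstance, hp, hr⟩
  have h2 : Ideal.map (algebraMap A B) a = ⊥ ↔
      ∀ v : ℤ, ∀ k, k < h v → (Fitt.ideal A ↥(ℳ v) k).map (algebraMap A B) = ⊥ := by
    simp only [a, Ideal.map_iSup, iSup_eq_bot]
  have h3 : Ideal.map (algebraMap A B) b = ⊤ ↔
      ∀ v : ℤ, (Fitt.ideal A ↥(ℳ v) (h v)).map (algebraMap A B) = ⊤ := by
    rw [Groth.Agent.Lib.Helper90.GrStrat.map_eq_top_iff]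
    constructor
    · intro hq v
      rw [Groth.Agent.Lib.Helper90.GrStrat.map_eq_top_iff]
      intro q hqp hle
      apply hq q hqp
      have hmem : (⟨q.comap (algebraMap A B), Ideal.comap_isPrime _ q⟩ : PrimeSpectrum A) ∈ C :=
        ⟨v, hle⟩
      rw [← hb, PrimeSpectrum.mem_zeroLocus, SetLike.coe_subset_coe] at hmem
      exact hmem
    · intro hv q hqp hle
      have hmem : (⟨q.comap (algebraMap A B), Ideal.comap_isPrime _ q⟩ : PrimeSpectrum A) ∈ C := by
        rw [← hb, PrimeSpectrum.mem_zeroLocus, SetLike.coe_subset_coe]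
        exact hle
      obtain ⟨v, hle'⟩ := hmem
      exact (Groth.Agent.Lib.Helper90.GrStrat.map_eq_top_iff _ _).1 (hv v) q hqp hle'
  rw [h2, h3]
  constructor
  · intro hall
    exact ⟨fun v => ((h1 v).1 (hall v)).1, fun v => ((h1 v).1 (hall v)).2⟩
  · rintro ⟨ha, hb'⟩ v
    exact (h1 v).2 ⟨ha v, hb' v⟩

end Groth.Agent.S13456
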