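import Groth.Statements.S13503
import Mathlib
import Groth.Agent.S0536
import Groth.Agent.S0595
import Groth.Agent.S0543
import Groth.Agent.Lib.Helper20.FPApprox

set_option autoImplicit false
universe u
open CategoryTheory CategoryTheory.Limits
open Hensel

namespace Groth.Agent.S13503
open CategoryTheory CategoryTheory.Limits

set_option backward.isDefEq.respectTransparency.types false
set_option maxHeartbeats 400000

open Groth.Agent.Lib.Helper20 Polynomial

/-- a power of a henselian ideal is henselian -/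
theorem henselianRing_pow {R : Type u} [CommRing R] (I : Ideal R) [HenselianRing R I] (n : ℕ)
    (hn : n ≠ 0) : HenselianRing R (I ^ n) := by
  have hjac : I ≤ Ideal.jacobson ⊥ := HenselianRing.jac
  have hle : I ^ n ≤ I := Ideal.pow_le_self hn
  refine ⟨hle.trans hjac, ?_⟩
  intro f hf a₀ h₁ h₂
  have hu : IsUnit (f.derivative.eval a₀) :=
    (isLocalHom_of_le_jacobson_bot (I ^ n) (hle.trans hjac)).map_nonunit _ h₂
  obtain ⟨a, ha, haI⟩ := HenselianRing.is_henselian (I := I) f hf a₀ (hle h₁)
    (hu.map (Ideal.Quotient.mk I))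
  refine ⟨a, ha, ?_⟩
  obtain ⟨c, hc⟩ := f.binomExpansion a₀ (a - a₀)
  have e1 : a₀ + (a - a₀) = a := by ring
  rw [e1, ha] at hc
  -- 0 = f a₀ + f' a₀ * y + c * y^2
  have hv : IsUnit (f.derivative.eval a₀ + c * (a - a₀)) := by
    apply (isLocalHom_of_le_jacobson_bot I hjac).map_nonunit
    have : Ideal.Quotient.mk I (f.derivative.eval a₀ + c * (a - a₀)) =
        Ideal.Quotient.mk I (f.derivative.eval a₀) := by
      rw [map_add, add_eq_left, Ideal.Quotient.eq_zero_iff_mem]
      exact Ideal.mul_mem_left _ _ haI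
    rw [this]
    exact hu.map _
  obtain ⟨v, hv⟩ := hv
  have e2 : (a - a₀) * (v : R) = - f.eval a₀ := by
    rw [hv]
    linear_combination -hc
  have e3 : a - a₀ = - f.eval a₀ * (↑v⁻¹ : R) := by
    rw [← e2, mul_assoc, Units.mul_inv, mul_one]
  rw [e3]
  exact Ideal.mul_mem_right _ _ ((I ^ n).neg_mem h₁)

/-- Core: approximation for a functor preserving filtered colimits, through Popescu and smooth
lifting along a henselian pair. -/
theorem core (A : Type u) [CommRing A] [IsNoetherianRing A] (Λ : Type u) [CommRing Λ]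
    [IsNoetherianRing Λ] [Algebra A Λ] (hreg : CAlg.IsRegularHom A Λ)
    (J : Ideal A) [HenselianRing A J] (ev : Λ →ₐ[A] A ⧸ J)
    (F : Under (CommRingCat.of A) ⥤ Type u)
    (hF : ∀ (K : Type u) [SmallCategory K] [IsFiltered K], PreservesColimitsOfShape K F)
    (π : Under.mk (CommRingCat.ofHom (algebraMap A Λ)) ⟶
      Under.mk (CommRingCat.ofHom (algebraMap A (A ⧸ J))))
    (hπ : π.right = CommRingCat.ofHom ev.toRingHom)
    (ρ : Under.mk (𝟙 (CommRingCat.of A)) ⟶ Under.mk (CommRingCat.ofHom (algebraMap A (A ⧸ J))))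
    (ξ : F.obj (Under.mk (CommRingCat.ofHom (algebraMap A Λ)))) :
    ∃ η : F.obj (Under.mk (𝟙 (CommRingCat.of A))), F.map ρ η = F.map π ξ := by
  classical
  have hcof : ∀ S₀ : Finset Λ, ∃ j : FPApprox.Pres A Λ, (fun _ => True) j ∧ S₀ ⊆ j.S := by
    intro S₀
    refine ⟨⟨S₀, ⊥, Submodule.fg_bot, ?_⟩, trivial, Finset.Subset.refl _⟩
    intro x hx
    rw [Ideal.mem_bot] at hx
    rw [hx, map_zero]
  obtain ⟨hd, hn, ⟨hc⟩⟩ := FPApprox.exists_isColimit (A := A) (B := Λ) (fun _ => True) hcof
    (fun _ _ _ _ _ _ => trivial)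
  haveI := hd
  haveI := hn
  haveI := hF (FPApprox.GoodPres (A := A) (B := Λ) (fun _ => True))
  have hc' := isColimitOfPreserves F hc
  obtain ⟨j, y, hy⟩ := Types.jointly_surjective_of_isColimit hc' ξ
  -- the stage
  haveI : Algebra.FinitePresentation A j.1.Alg := j.1.finitePresentation
  obtain ⟨B, _, _, hsm, g, h, hgh⟩ := Groth.Agent.S0595.result A Λ hreg j.1.Alg j.1.leg
  obtain ⟨τ, hτ⟩ := Groth.Agent.S0536.result A B A J (ev.comp h)
  let gU : Under.mk (CommRingCat.ofHom (algebraMap A j.1.Alg)) ⟶
      Under.mk (CommRingCat.ofHom (algebraMap A B)) :=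
    Under.homMk (CommRingCat.ofHom g.toRingHom) (by ext a; exact g.commutes a)
  let hU : Under.mk (CommRingCat.ofHom (algebraMap A B)) ⟶
      Under.mk (CommRingCat.ofHom (algebraMap A Λ)) :=
    Under.homMk (CommRingCat.ofHom h.toRingHom) (by ext a; exact h.commutes a)
  let τU : Under.mk (CommRingCat.ofHom (algebraMap A B)) ⟶ Under.mk (𝟙 (CommRingCat.of A)) :=
    Under.homMk (CommRingCat.ofHom τ.toRingHom) (by ext a; exact τ.commutes a)
  have hι : (FPApprox.cocone (A := A) (B := Λ) (fun _ => True)).ι.app j = gU ≫ hU := by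
    apply Under.UnderMorphism.ext
    ext x
    exact (AlgHom.congr_fun hgh x).symm
  have hξ : ξ = F.map hU (F.map gU y) := by
    rw [← hy]
    have e0 : F.map ((FPApprox.cocone (A := A) (B := Λ) (fun _ => True)).ι.app j) y =
        F.map (gU ≫ hU) y := congrArg (fun m => F.map m y) hι
    exact e0.trans (Functor.map_comp_apply F gU hU y)
  have hρ : ρ.right = CommRingCat.ofHom (algebraMap A (A ⧸ J)) := by
    have := Under.w ρ
    simpa using this
  have hm : τU ≫ ρ = hU ≫ π := by
    apply Under.UnderMorphism.ext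
    rw [Under.comp_right, Under.comp_right, hρ, hπ]
    ext b
    exact AlgHom.congr_fun hτ b
  refine ⟨F.map τU (F.map gU y), ?_⟩
  rw [hξ]
  have e1 := Functor.map_comp_apply F τU ρ (F.map gU y)
  have e2 := Functor.map_comp_apply F hU π (F.map gU y)
  rw [← e1, ← e2, hm]

theorem main (A : Type u) [CommRing A] [IsNoetherianRing A]
    [HenselianLocalRing A]
    (hreg : CAlg.IsRegularHom A (AdicCompletion (IsLocalRing.maximalIdeal A) A))
    (F : Under (CommRingCat.of A) ⥤ Type u)
    (hF : ∀ (J : Type u) [SmallCategory J] [IsFiltered J], PreservesColimitsOfShape J F)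
    (n : ℕ) (hn : 1 ≤ n)
    (π : Under.mk (CommRingCat.ofHom (algebraMap A (AdicCompletion (IsLocalRing.maximalIdeal A) A))) ⟶
      Under.mk (CommRingCat.ofHom (algebraMap A (A ⧸ IsLocalRing.maximalIdeal A ^ n))))
    (hπ : π.right = CommRingCat.ofHom
      (AdicCompletion.evalₐ (IsLocalRing.maximalIdeal A) n : AdicCompletion (IsLocalRing.maximalIdeal A) A →ₐ[A]
        A ⧸ IsLocalRing.maximalIdeal A ^ n).toRingHom)
    (ρ : Under.mk (𝟙 (CommRingCat.of A)) ⟶
      Under.mk (CommRingCat.ofHom (algebraMap A (A ⧸ IsLocalRing.maximalIdeal A ^ n))))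
    (ξ : F.obj (Under.mk (CommRingCat.ofHom (algebraMap A (AdicCompletion (IsLocalRing.maximalIdeal A) A))))) :
    ∃ η : F.obj (Under.mk (𝟙 (CommRingCat.of A))), F.map ρ η = F.map π ξ := by
  haveI : IsNoetherianRing (AdicCompletion (IsLocalRing.maximalIdeal A) A) :=
    Groth.Agent.S0543.result A (IsLocalRing.maximalIdeal A)
  haveI : HenselianRing A (IsLocalRing.maximalIdeal A) := inferInstance
  haveI : HenselianRing A (IsLocalRing.maximalIdeal A ^ n) :=
    henselianRing_pow (IsLocalRing.maximalIdeal A) n (by omega)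
  exact core A (AdicCompletion (IsLocalRing.maximalIdeal A) A) hreg (IsLocalRing.maximalIdeal A ^ n)
    (AdicCompletion.evalₐ (IsLocalRing.maximalIdeal A) n) F hF π hπ ρ ξ

end Groth.Agent.S13503

namespace Groth.Agent.S13503

/-- Let A be a Noetherian henselian local ring with maximal ideal m such that the map from A to its
m-adic completion Â is a regular ring homomorphism (flat with Noetherian, geometrically regular
fibres; this holds when A is excellent, which is the published hypothesis — the proof uses only the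
regularity of A → Â). Let F be a functor from the category of A-algebras (commutative rings under A)
to sets which preserves filtered colimits, let n ≥ 1 and ξ ∈ F(Â). Then there is η ∈ F(A) such that
η and ξ have the same image in F(A/m^n). Here π is the A-algebra map Â → A/m^n (pinned by its
underlying ring map) and ρ the A-algebra map A → A/m^n. -/
theorem result (A : Type u) [CommRing A] [IsNoetherianRing A]
    [HenselianLocalRing A]
    (hreg : CAlg.IsRegularHom A (AdicCompletion (IsLocalRing.maximalIdeal A) A))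
    (F : Under (CommRingCat.of A) ⥤ Type u)
    (hF : ∀ (J : Type u) [SmallCategory J] [IsFiltered J], PreservesColimitsOfShape J F)
    (n : ℕ) (hn : 1 ≤ n)
    (π : Under.mk (CommRingCat.ofHom (algebraMap A (AdicCompletion (IsLocalRing.maximalIdeal A) A))) ⟶
      Under.mk (CommRingCat.ofHom (algebraMap A (A ⧸ IsLocalRing.maximalIdeal A ^ n))))
    (hπ : π.right = CommRingCat.ofHom
      (AdicCompletion.evalₐ (IsLocalRing.maximalIdeal A) n : AdicCompletion (IsLocalRing.maximalIdeal A) A →ₐ[A]
        A ⧸ IsLocalRing.maximalIdeal A ^ n).toRingHom)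
    (ρ : Under.mk (𝟙 (CommRingCat.of A)) ⟶
      Under.mk (CommRingCat.ofHom (algebraMap A (A ⧸ IsLocalRing.maximalIdeal A ^ n))))
    (ξ : F.obj (Under.mk (CommRingCat.ofHom (algebraMap A (AdicCompletion (IsLocalRing.maximalIdeal A) A))))) :
    ∃ η : F.obj (Under.mk (𝟙 (CommRingCat.of A))), F.map ρ η = F.map π ξ := by
  exact main A hreg F hF n hn π hπ ρ ξ

end Groth.Agent.S13503
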