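import Groth.Statements.S1351
import Groth.Agent.Lib.Helper55.FL.ValInj

set_option autoImplicit false
universe u
open FlatMor

namespace Groth.Agent.S1351

set_option linter.style.haveILetI false in
/-- reduction to a local ring `S`, a localization of a finitely presented algebra, surjecting onto `B`. -/
theorem main {A B S : Type u} [CommRing A] [IsDomain A] [ValuationRing A] [CommRing B] [IsLocalRing B]
    [Algebra A B] [IsLocalHom (algebraMap A B)] [CommRing S] [IsLocalRing S] [Algebra A S]
    (ψ : S →+* B) (hψ : Function.Surjective ψ) (hcomp : ∀ a : A, ψ (algebraMap A S a) = algebraMap A B a)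
    (hS : ∃ (S₀ : Type u) (_ : CommRing S₀) (_ : Algebra A S₀) (_ : Algebra S₀ S)
      (_ : IsScalarTower A S₀ S) (T : Submonoid S₀),
      Algebra.FinitePresentation A S₀ ∧ IsLocalization T S)
    {N M : Type u} [AddCommGroup N] [Module B N] [Module A N] [IsScalarTower A B N] [Module.Finite B N]
    [AddCommGroup M] [Module B M] [Module A M] [IsScalarTower A B M] [Module.Finite B M] [Module.Flat A M]
    (u : N →ₗ[B] M)
    (hu : Function.Injective (Submodule.mapQ (IsLocalRing.maximalIdeal A • ⊤ : Submodule A N) (IsLocalRing.maximalIdeal A • ⊤ : Submodule A M) (u.restrictScalars A)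
      (fun n hn => Submodule.smul_top_le_comap_smul_top _ _ hn))) :
    Function.Injective u ∧ Module.Flat A (M ⧸ LinearMap.range u) := by
  classical
  letI : Algebra S B := ψ.toAlgebra
  haveI : IsScalarTower A S B := IsScalarTower.of_algebraMap_eq fun a => (hcomp a).symm
  haveI : IsLocalHom (algebraMap A S) := by
    constructor
    intro a ha
    have h1 : IsUnit (algebraMap A B a) := by
      rw [← hcomp]
      exact ha.map ψ
    exact isUnit_of_map_unit (algebraMap A B) a h1
  letI : Module S N := Module.compHom N ψ
  haveI : IsScalarTower S B N := IsScalarTower.of_algebraMap_smul (fun _ _ => rfl)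
  letI : Module S M := Module.compHom M ψ
  haveI : IsScalarTower S B M := IsScalarTower.of_algebraMap_smul (fun _ _ => rfl)
  haveI : IsScalarTower A S N := IsScalarTower.of_algebraMap_smul (fun a y => by
    rw [← algebraMap_smul B (algebraMap A S a) y, ← IsScalarTower.algebraMap_apply, algebraMap_smul])
  haveI : IsScalarTower A S M := IsScalarTower.of_algebraMap_smul (fun a y => by
    rw [← algebraMap_smul B (algebraMap A S a) y, ← IsScalarTower.algebraMap_apply, algebraMap_smul])
  haveI : Module.Finite S B := Module.Finite.of_surjective (Algebra.linearMap S B) hψ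
  haveI : Module.Finite S N := Module.Finite.trans B N
  haveI : Module.Finite S M := Module.Finite.trans B M
  have hu' : ∀ n : N, (u.restrictScalars S) n ∈ (IsLocalRing.maximalIdeal A) • (⊤ : Submodule A M) →
      n ∈ (IsLocalRing.maximalIdeal A) • (⊤ : Submodule A N) := by
    intro n hn
    have h1 : Submodule.mapQ (IsLocalRing.maximalIdeal A • ⊤ : Submodule A N) (IsLocalRing.maximalIdeal A • ⊤ : Submodule A M) (u.restrictScalars A)
        (fun n hn => Submodule.smul_top_le_comap_smul_top _ _ hn) (Submodule.Quotient.mk n) = 0 := by
      rw [Submodule.mapQ_apply]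
      exact (Submodule.Quotient.mk_eq_zero _).2 hn
    have h2 := hu (h1.trans (map_zero _).symm)
    exact (Submodule.Quotient.mk_eq_zero _).1 h2
  obtain ⟨hinj, hflat⟩ := Groth.Agent.Lib.Helper55.FL.val_inj_core hS (u.restrictScalars S) hu'
  refine ⟨hinj, ?_⟩
  have hrange : (LinearMap.range u).restrictScalars A =
      LinearMap.range ((u.restrictScalars S).restrictScalars A) := by
    ext m
    constructor
    · rintro ⟨n, rfl⟩
      exact ⟨n, rfl⟩
    · rintro ⟨n, rfl⟩
      exact ⟨n, rfl⟩
  exact Module.Flat.of_linearEquiv
    ((Submodule.Quotient.restrictScalarsEquiv A (LinearMap.range u)).symm.trans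
      (Submodule.quotEquivOfEq _ _ hrange))

/-- Let A be a valuation ring, A → B a local homomorphism of local rings essentially of finite type, and
u : N → M a B-linear map of finite B-modules with M flat over A. If u is injective after tensoring
with the residue field of A (that is, modulo the maximal ideal of A), then u is injective and its
cokernel is flat over A. -/
theorem result {A B : Type u} [CommRing A] [IsDomain A] [ValuationRing A] [CommRing B] [IsLocalRing B]
    [Algebra A B] [IsLocalHom (algebraMap A B)] [Algebra.EssFiniteType A B]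
    {N M : Type u} [AddCommGroup N] [Module B N] [Module A N] [IsScalarTower A B N] [Module.Finite B N]
    [AddCommGroup M] [Module B M] [Module A M] [IsScalarTower A B M] [Module.Finite B M] [Module.Flat A M]
    (u : N →ₗ[B] M)
    (hu : Function.Injective (Submodule.mapQ (IsLocalRing.maximalIdeal A • ⊤ : Submodule A N) (IsLocalRing.maximalIdeal A • ⊤ : Submodule A M) (u.restrictScalars A)
      (fun n hn => Submodule.smul_top_le_comap_smul_top _ _ hn))) :
    Function.Injective u ∧ Module.Flat A (M ⧸ LinearMap.range u) := by
  classical
  -- a polynomial ring localized at a prime, surjecting onto `B`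
  obtain ⟨n, f, hf⟩ := Algebra.FiniteType.iff_quotient_mvPolynomial''.mp
    (inferInstance : Algebra.FiniteType A (Algebra.EssFiniteType.subalgebra A B))
  let g : MvPolynomial (Fin n) A →ₐ[A] B := (Algebra.EssFiniteType.subalgebra A B).val.comp f
  let q' : Ideal (MvPolynomial (Fin n) A) := (IsLocalRing.maximalIdeal B).comap g
  haveI hq' : q'.IsPrime := Ideal.comap_isPrime _ _
  have hunit : ∀ y : q'.primeCompl, IsUnit (g.toRingHom y) := by
    intro y
    by_contra h
    exact y.2 ((IsLocalRing.mem_maximalIdeal _).2 h)
  let ψ : Localization.AtPrime q' →+* B := IsLocalization.lift (M := q'.primeCompl) hunit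
  have hψ : ∀ p, ψ (algebraMap _ _ p) = g p := fun p => IsLocalization.lift_eq hunit p
  have hsurj : Function.Surjective ψ := by
    intro b
    obtain ⟨⟨b₀, t⟩, hbt⟩ := IsLocalization.surj (Algebra.EssFiniteType.submonoid A B) b
    obtain ⟨p, hp⟩ := hf b₀
    obtain ⟨p', hp'⟩ := hf (t : Algebra.EssFiniteType.subalgebra A B)
    have htunit : IsUnit (g p') := by
      have : g p' = algebraMap (Algebra.EssFiniteType.subalgebra A B) B t := by
        change ((f p' : Algebra.EssFiniteType.subalgebra A B) : B) = _
        rw [hp']
        rfl
      rw [this]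
      exact IsLocalization.map_units B t
    have hp'q : p' ∈ q'.primeCompl := by
      intro hmem
      exact (IsLocalRing.mem_maximalIdeal _).1 hmem htunit
    refine ⟨IsLocalization.mk' _ p ⟨p', hp'q⟩, ?_⟩
    rw [IsLocalization.lift_mk'_spec]
    change g p = g p' * b
    have h1 : g p = algebraMap (Algebra.EssFiniteType.subalgebra A B) B b₀ := by
      change ((f p : Algebra.EssFiniteType.subalgebra A B) : B) = _
      rw [hp]
      rfl
    have h2 : g p' = algebraMap (Algebra.EssFiniteType.subalgebra A B) B t := by
      change ((f p' : Algebra.EssFiniteType.subalgebra A B) : B) = _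
      rw [hp']
      rfl
    rw [h1, h2, ← hbt, mul_comm]
  exact Groth.Agent.S1351.main ψ hsurj (fun a => by
    rw [IsScalarTower.algebraMap_apply A (MvPolynomial (Fin n) A) (Localization.AtPrime q'), hψ]
    exact g.commutes a)
    ⟨MvPolynomial (Fin n) A, inferInstance, inferInstance, inferInstance, inferInstance,
      q'.primeCompl, inferInstance, inferInstance⟩ u hu

end Groth.Agent.S1351
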