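import Groth.Statements.S13532
import Groth.Agent.Lib.Helper73.DimFormula.CodimOneQF

set_option autoImplicit false
universe u
open CategoryTheory CategoryTheory.Limits AlgebraicGeometry
open ResProp

namespace Groth.Agent.S13532

/-- A morphism of finite type between locally Noetherian schemes which is birational (an isomorphism
over a dense open of the target whose preimage is dense in the source) has finite fibres over all
points of the target of codimension at most 1, i.e. whose local ring has Krull dimension at most 1. -/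
theorem result {X Y : Scheme.{u}}
    [IsLocallyNoetherian X] [IsLocallyNoetherian Y] (f : Y ⟶ X) [LocallyOfFiniteType f] [QuasiCompact f]
    (U : X.Opens) (hU : Dense (U : Set X)) (hU' : Dense ((f ⁻¹ᵁ U : Y.Opens) : Set Y)) (hiso : IsIso (f ∣_ U))
    (x : X) (hx : ringKrullDim (X.presheaf.stalk x) ≤ 1) :
    (f.base ⁻¹' {x}).Finite := by
  open Groth.Agent.Lib.Helper73 in
  have hgen : ∀ η : Y, (∀ t : Y, t ⤳ η → t = η) → resTrdegNat f η = 0 := by
    intro η hη
    have hηU : η ∈ f ⁻¹ᵁ U := mem_of_dense_of_maximal _ (f ⁻¹ᵁ U).isOpen hU' η hη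
    have h1 := resTrdegNat_comp_of_isPreimmersion (f ⁻¹ᵁ U).ι f ⟨η, hηU⟩
    have h2 : (f ⁻¹ᵁ U).ι ≫ f = f ∣_ U ≫ U.ι := (morphismRestrict_ι f U).symm
    have h3 : resTrdegNat ((f ⁻¹ᵁ U).ι ≫ f) ⟨η, hηU⟩ = 0 := by
      have : IsOpenImmersion ((f ⁻¹ᵁ U).ι ≫ f) := by rw [h2]; infer_instance
      exact resTrdegNat_eq_zero_of_isOpenImmersion _ _
    rw [h3] at h1
    exact h1.symm
  apply finite_preimage_singleton_of_forall_quasiFiniteAt f x
  intro y hy
  exact quasiFiniteAt_of_stalk_dim_le_one f y (by rw [hy]; exact hx) hgen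

end Groth.Agent.S13532
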