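import Groth.Statements.S13543
import Groth.Agent.Lib.Helper50.ResPropAux2

set_option autoImplicit false
universe u
open CategoryTheory CategoryTheory.Limits AlgebraicGeometry
open ResProp

namespace Groth.Agent.S13543

/-- In the case of schemes, on a quasi-compact quasi-separated scheme X let (E_i) be a family of
finitely presented quasi-coherent modules closed (up to isomorphism) under binary tensor products
and binary direct sums. Then (E_i) is a generating family, i.e. every quasi-coherent module is a
quotient of a direct sum of copies of the E_i, if and only if every affine morphism Y ⟶ X factors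
over X through a closed immersion of Y into the vector bundle V(E) = Spec Sym(E) of a direct sum E
of copies of members of the family, with finitely many summands whenever Y ⟶ X is of finite type
(V(E) is given as the relative spectrum of a quasi-coherent algebra that is the symmetric algebra of
E). (The published statement is for quasi-compact quasi-separated algebraic stacks and takes E to be
the direct sum of a subfamily without repeated members; this row is the case of schemes and allows
repetitions, as the printed argument produces: for the generating family of free modules k, k^2,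
k^3, … on a point and the affine morphism from the spectrum of a polynomial ring in uncountably many
variables, no direct sum of distinct members works.) -/
theorem result (X : Scheme.{u}) [CompactSpace X] [QuasiSeparatedSpace X]
    {ι : Type u} (E : ι → X.Modules) (hE : ∀ i, Coh.IsQCoh (E i) ∧ CohB1.IsFP (E i))
    (htens : ∀ i i' : ι, ∃ i'' : ι, Nonempty (E i'' ≅ CohB1.tensorMod (E i) (E i')))
    (hsum : ∀ i i' : ι, ∃ i'' : ι, Nonempty (E i'' ≅ E i ⊞ E i')) :
    (∀ M : X.Modules, Coh.IsQCoh M → ∃ (κ : Type u) (j : κ → ι) (π : (∐ fun k : κ => E (j k)) ⟶ M), Epi π) ↔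
    (∀ (Y : Scheme.{u}) (f : Y ⟶ X) [IsAffineHom f],
      ∃ (κ : Type u) (j : κ → ι) (B : RelSpec.QCAlg X) (φ : (∐ fun k : κ => E (j k)) ⟶ B.toModule) (c : Y ⟶ B.spec),
        RelSpec.IsSymAlg (∐ fun k : κ => E (j k)) B φ ∧ IsClosedImmersion c ∧ c ≫ B.π = f ∧
        (LocallyOfFiniteType f → Finite κ)) := by
  classical
  haveI hqE : ∀ i, (E i).IsQuasicoherent := fun i => (hE i).1
  constructor
  · intro hgen Y f _
    haveI hqB : (RelSpec.QCAlg.directImage f).toModule.IsQuasicoherent :=
      Groth.Agent.Lib.Helper2.QCAlgMod.toModule_isQuasicoherent _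
    by_cases hft : LocallyOfFiniteType f
    · have hBft : ∀ U : X.affineOpens,
          ((RelSpec.QCAlg.directImage f).str.app (Opposite.op (U : X.Opens))).hom.FiniteType := by
        intro U
        have h1 := HasRingHomProperty.appLE (P := @LocallyOfFiniteType) f hft U
          ⟨f ⁻¹ᵁ U.1, U.2.preimage f⟩ le_rfl
        rw [← Scheme.Hom.app_eq_appLE] at h1
        exact h1
      obtain ⟨E₀, j₀, hmono, hqE₀, hftE₀, hgen₀⟩ :=
        Groth.Agent.Lib.Helper40.QCAlgGen.exists_generating_sub _ hBft
      haveI := hqE₀
      obtain ⟨κ, j, π, hπ⟩ := hgen E₀ hqE₀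
      have hπ' : Epi (Sigma.desc (fun k => Sigma.ι (fun k : κ => E (j k)) k ≫ π)) := by
        have : Sigma.desc (fun k => Sigma.ι (fun k : κ => E (j k)) k ≫ π) = π := by
          apply Sigma.hom_ext; intro k; rw [Sigma.ι_desc]
        rw [this]; exact hπ
      obtain ⟨s, hs⟩ := Groth.Agent.Lib.Helper50.FinSubCoprod.exists_finset_epi
        (fun k => Sigma.ι (fun k : κ => E (j k)) k ≫ π) hftE₀ hπ'
      haveI : (∐ fun k : s => E (j k.1)).IsQuasicoherent :=
        Groth.Agent.Lib.Helper40.QCohCoprod.isQuasicoherent_sigma _
      haveI : Epi (Sigma.desc (fun k : s => Sigma.ι (fun k : κ => E (j k)) k.1 ≫ π)) := hs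
      obtain ⟨B, φ', c, h1, h2, h3⟩ := Groth.Agent.Lib.Helper50.ResPropAux.embeds_of_generating f
        (∐ fun k : s => E (j k.1))
        (Sigma.desc (fun k : s => Sigma.ι (fun k : κ => E (j k)) k.1 ≫ π) ≫ j₀) (by
          intro U hU
          rw [eq_top_iff, ← hgen₀ ⟨U, hU⟩]
          refine Subring.closure_mono ?_
          rintro b (⟨r, rfl⟩ | ⟨e, rfl⟩)
          · exact Or.inl ⟨r, rfl⟩
          · obtain ⟨x, hx⟩ := Groth.Agent.Lib.Helper21.QCohSections.app_surjective_of_epi
              (Sigma.desc (fun k : s => Sigma.ι (fun k : κ => E (j k)) k.1 ≫ π)) hU e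
            refine Or.inr ⟨x, ?_⟩
            rw [← hx]; rfl)
      exact ⟨s, fun k => j k.1, B, φ', c, h1, h2, h3, fun _ => inferInstance⟩
    · obtain ⟨κ, j, π, hπ⟩ := hgen _ hqB
      haveI : (∐ fun k : κ => E (j k)).IsQuasicoherent :=
        Groth.Agent.Lib.Helper40.QCohCoprod.isQuasicoherent_sigma _
      haveI := hπ
      obtain ⟨B, φ', c, h1, h2, h3⟩ := Groth.Agent.Lib.Helper50.ResPropAux.embeds_of_generating f
        (∐ fun k : κ => E (j k)) π (by
          intro U hU
          rw [eq_top_iff]
          intro b _
          obtain ⟨x, hx⟩ := Groth.Agent.Lib.Helper21.QCohSections.app_surjective_of_epi π hU b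
          exact Subring.subset_closure (Or.inr ⟨x, hx⟩))
      exact ⟨κ, j, B, φ', c, h1, h2, h3, fun h => absurd h hft⟩
  · intro H M hqM
    haveI := hqM
    obtain ⟨κ, j, B, φ, c, hsym, hc, hcf, -⟩ :=
      H (Groth.Agent.Lib.Helper74.SymQ.symAlg M).spec (Groth.Agent.Lib.Helper74.SymQ.symAlg M).π
    haveI : (∐ fun k : κ => E (j k)).IsQuasicoherent :=
      Groth.Agent.Lib.Helper40.QCohCoprod.isQuasicoherent_sigma _
    haveI := hc
    obtain ⟨π, hπ⟩ := Groth.Agent.Lib.Helper50.ResPropAux.exists_epi_of_closedImmersion M _ B φ hsym c hcf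
    exact ⟨κ, j, π, hπ⟩

end Groth.Agent.S13543
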