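import Groth.Statements.S13567
import Groth.Statements.S13567
import Groth.Agent.Lib.Helper17.Pasting
import Groth.Agent.Lib.Helper17.PointsTop
import Groth.Agent.Lib.Helper17.PointsDict

set_option autoImplicit false
universe u
open CategoryTheory AlgebraicGeometry
open AlgSt

namespace Groth.Agent.S13567

section Aux
open CategoryTheory AlgebraicGeometry
open AlgSt


open Groth.Agent.Lib.Helper17 in
theorem main {S : Scheme.{u}} {𝒳 𝒴 𝒵 : AlgSt.Cat S}
    (f : 𝒳 ⥤ᵇ 𝒴) (g : 𝒵 ⥤ᵇ 𝒴) (hf : AlgSt.IsUnivInjective Scheme.fppfPrecoverage f) :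
    AlgSt.IsUnivInjective Scheme.fppfPrecoverage (FibCat.fpFst g f) := by
  intro 𝒲 h𝒲 y a b hab
  have hs := PTS.isSurjective_of_isEquivOver _ (PS.paste_isEquivOver y g f)
  obtain ⟨a', rfl⟩ := hs a
  obtain ⟨b', rfl⟩ := hs b
  rw [← PTS.map_comp, ← PTS.map_comp, PS.paste_fst] at hab
  rw [hf 𝒲 h𝒲 (BasedFunctor.comp y g) hab]


end Aux

/-- The base change of a universally injective morphism of algebraic stacks along any morphism of
algebraic stacks is universally injective: if every base change of `f : 𝒳 ⟶ 𝒴` to an algebraic stack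
is injective on points, then the same holds for the projection `𝒵 ×_𝒴 𝒳 ⟶ 𝒵` for every morphism `g :
𝒵 ⟶ 𝒴` of algebraic stacks. -/
theorem result {S : Scheme.{u}} {𝒳 𝒴 𝒵 : AlgSt.Cat S}
    (h𝒳 : AlgSt.IsAlgStack Scheme.fppfPrecoverage 𝒳) (h𝒴 : AlgSt.IsAlgStack Scheme.fppfPrecoverage 𝒴)
    (h𝒵 : AlgSt.IsAlgStack Scheme.fppfPrecoverage 𝒵)
    (f : 𝒳 ⥤ᵇ 𝒴) (g : 𝒵 ⥤ᵇ 𝒴) (hf : AlgSt.IsUnivInjective Scheme.fppfPrecoverage f) :
    AlgSt.IsUnivInjective Scheme.fppfPrecoverage (FibCat.fpFst g f) := by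
  exact main f g hf

end Groth.Agent.S13567
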