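import Groth.Statements.S13568
import Groth.Statements.S13568
import Groth.Agent.Lib.Helper17.PastingR
import Groth.Agent.Lib.Helper17.PointsTop
import Groth.Agent.Lib.Helper17.PointsDict
import Groth.Agent.S12763

set_option autoImplicit false
universe u
open CategoryTheory AlgebraicGeometry
open AlgSt

namespace Groth.Agent.S13568

section Aux
open CategoryTheory AlgebraicGeometry
open AlgSt


open Groth.Agent.Lib.Helper17 in
theorem main {S : Scheme.{u}} {𝒳 𝒴 𝒵 : AlgSt.Cat S}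
    (h𝒴 : AlgSt.IsAlgStack Scheme.fppfPrecoverage 𝒴)
    (h𝒵 : AlgSt.IsAlgStack Scheme.fppfPrecoverage 𝒵)
    (f : 𝒳 ⥤ᵇ 𝒴) (g : 𝒴 ⥤ᵇ 𝒵) (hf : AlgSt.IsUnivInjective Scheme.fppfPrecoverage f)
    (hg : AlgSt.IsUnivInjective Scheme.fppfPrecoverage g) :
    AlgSt.IsUnivInjective Scheme.fppfPrecoverage (BasedFunctor.comp f g) := by
  intro 𝒲 h𝒲 y a b hab
  have hfp : AlgSt.IsAlgStack Scheme.fppfPrecoverage (FibCat.fp y g) :=
    Groth.Agent.S12763.result h𝒵.isStack h𝒵.diag h𝒲 h𝒴 y g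
  rw [← PSR.toInner_fst, PTS.map_comp, PTS.map_comp] at hab
  have h1 := hg 𝒲 h𝒲 y hab
  unfold PSR.toInner at h1
  rw [PTS.map_comp, PTS.map_comp] at h1
  have h2 := hf _ hfp (FibCat.fpSnd y g) h1
  -- paste is injective on points since it is an equivalence
  obtain ⟨k, ⟨c⟩, -⟩ := PSR.paste_isEquivOver y f g
  have := congrArg (AlgSt.Points.map k) h2
  rwa [← PTS.map_comp, ← PTS.map_comp, PTS.map_congr c, PTS.map_congr c, PTS.map_id, PTS.map_id]
    at this


end Aux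

/-- The composition of two universally injective morphisms of algebraic stacks is universally injective
(universally injective: every base change to an algebraic stack is injective on points). -/
theorem result {S : Scheme.{u}} {𝒳 𝒴 𝒵 : AlgSt.Cat S}
    (h𝒳 : AlgSt.IsAlgStack Scheme.fppfPrecoverage 𝒳) (h𝒴 : AlgSt.IsAlgStack Scheme.fppfPrecoverage 𝒴)
    (h𝒵 : AlgSt.IsAlgStack Scheme.fppfPrecoverage 𝒵)
    (f : 𝒳 ⥤ᵇ 𝒴) (g : 𝒴 ⥤ᵇ 𝒵) (hf : AlgSt.IsUnivInjective Scheme.fppfPrecoverage f)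
    (hg : AlgSt.IsUnivInjective Scheme.fppfPrecoverage g) :
    AlgSt.IsUnivInjective Scheme.fppfPrecoverage (BasedFunctor.comp f g) := by
  exact main h𝒴 h𝒵 f g hf hg

end Groth.Agent.S13568
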