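import Groth.Statements.S13569
import Groth.Statements.S13569
import Groth.Agent.Lib.Helper17.Pasting
import Groth.Agent.Lib.Helper17.PointsTop
import Groth.Agent.Lib.Helper17.PointsDict
import Groth.Agent.Lib.Helper17.PointsQc2
import Groth.Agent.Lib.Helper17.TriCancel
import Groth.Agent.Lib.Helper17.SpStack

set_option autoImplicit false
universe u
open CategoryTheory AlgebraicGeometry
open AlgSt

namespace Groth.Agent.S13569

section Aux
open CategoryTheory AlgebraicGeometry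
open AlgSt

open CategoryTheory CategoryTheory.Limits AlgebraicGeometry Opposite AlgSp FibCat Stk AlgSt
open Groth.Agent.Lib.Helper17

variable {S : Scheme.{u}}

/-- a universally injective morphism to an algebraic stack is injective on points -/
theorem injective_of_univInj {𝒜 ℬ : AlgSt.Cat S}
    (hB : AlgSt.IsAlgStack Scheme.fppfPrecoverage ℬ) (q : 𝒜 ⥤ᵇ ℬ)
    (hq : AlgSt.IsUnivInjective Scheme.fppfPrecoverage q) :
    Function.Injective (AlgSt.Points.map q) := by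
  intro a b hab
  have hs := PTS.isSurjective_of_isEquivOver _ (TC.fpSnd_id_isEquivOver q)
  obtain ⟨a', rfl⟩ := hs a
  obtain ⟨b', rfl⟩ := hs b
  have e : FibCat.fpFst (BasedFunctor.id ℬ) q ≅
      BasedFunctor.comp (FibCat.fpSnd (BasedFunctor.id ℬ) q) q := by
    have := FibCat.fpIso (BasedFunctor.id ℬ) q
    rwa [BasedFunctor.comp_id] at this
  have h1 : AlgSt.Points.map (FibCat.fpFst (BasedFunctor.id ℬ) q) a' =
      AlgSt.Points.map (FibCat.fpFst (BasedFunctor.id ℬ) q) b' := by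
    rw [PTS.map_congr e, PTS.map_congr e, PTS.map_comp, PTS.map_comp]
    exact hab
  rw [hq ℬ hB (BasedFunctor.id ℬ) h1]

/-- pasting: injectivity on points of `fpFst (y ⋙ g) f` gives that of `fpFst y (fpFst g f)` -/
theorem injective_paste {𝒳 𝒴 𝒵 𝒲 : AlgSt.Cat S} (y : 𝒲 ⥤ᵇ 𝒵) (g : 𝒵 ⥤ᵇ 𝒴) (f : 𝒳 ⥤ᵇ 𝒴)
    (h : Function.Injective (AlgSt.Points.map (FibCat.fpFst (BasedFunctor.comp y g) f))) :
    Function.Injective (AlgSt.Points.map (FibCat.fpFst y (FibCat.fpFst g f))) := by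
  intro a b hab
  have hs := PTS.isSurjective_of_isEquivOver _ (PS.paste_isEquivOver y g f)
  obtain ⟨a', rfl⟩ := hs a
  obtain ⟨b', rfl⟩ := hs b
  rw [← PTS.map_comp, ← PTS.map_comp, PS.paste_fst] at hab
  rw [h hab]

/-- **criterion**: `Points.map (fpFst g f)` is injective as soon as for every point `t` of a scheme
chart `z : Z ⟶ 𝒵` from a family of charts hitting every point, `fpFst (z ⋙ g) f` is injective on points. -/
theorem injective_of_charts {𝒳 𝒴 𝒵 : AlgSt.Cat S} (h𝒳 : FibCat.IsFibGrpd 𝒳.p)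
    (h𝒴 : FibCat.IsFibGrpd 𝒴.p) (h𝒵 : FibCat.IsFibGrpd 𝒵.p) (f : 𝒳 ⥤ᵇ 𝒴) (g : 𝒵 ⥤ᵇ 𝒴)
    (H : ∀ ζ : AlgSt.Points 𝒵, ∃ (Z : Over S) (z : FibCat.overCat Z ⥤ᵇ 𝒵)
      (t : AlgSt.Points (FibCat.overCat Z)), AlgSt.Points.map z t = ζ ∧
      Function.Injective (AlgSt.Points.map (FibCat.fpFst (BasedFunctor.comp z g) f))) :
    Function.Injective (AlgSt.Points.map (FibCat.fpFst g f)) := by
  intro ω₁ ω₂ hω
  obtain ⟨Z, z, t, ht, hinj⟩ := H (AlgSt.Points.map (FibCat.fpFst g f) ω₁)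
  have hZ : FibCat.IsFibGrpd (FibCat.overCat Z).p := FG.isFibGrpd_overForget Z
  have hfp : FibCat.IsFibGrpd (FibCat.fp g f).p := SP.isFibGrpd_fp g f h𝒵 h𝒳 h𝒴
  obtain ⟨ν₁, h11, h12⟩ := PTS.exists_point_fp hfp h𝒵 hZ (FibCat.fpFst g f) z t ω₁ ht
  obtain ⟨ν₂, h21, h22⟩ := PTS.exists_point_fp hfp h𝒵 hZ (FibCat.fpFst g f) z t ω₂ (ht.trans hω)
  have := injective_paste z g f hinj (h11.trans h21.symm)
  rw [← h12, ← h22, this]

theorem main {𝒳 𝒴 : AlgSt.Cat S}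
    (h𝒳 : AlgSt.IsAlgStack Scheme.fppfPrecoverage 𝒳) (h𝒴 : AlgSt.IsAlgStack Scheme.fppfPrecoverage 𝒴) (f : 𝒳 ⥤ᵇ 𝒴)
    (h : ∀ (Z : Over S) [IsAffine Z.left] (z : FibCat.overCat Z ⥤ᵇ 𝒴),
      AlgSt.IsUnivInjective Scheme.fppfPrecoverage (FibCat.fpFst z f)) :
    AlgSt.IsUnivInjective Scheme.fppfPrecoverage f := by
  intro 𝒵 h𝒵 g
  refine injective_of_charts h𝒳.isStack.1 h𝒴.isStack.1 h𝒵.isStack.1 f g (fun ζ => ?_)
  obtain ⟨U, x, hxs, hxsurj⟩ := h𝒵.atlas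
  obtain ⟨u, rfl⟩ := PTS.ofChart_surjective x
    (PTS.isSurjective_of_repWith h𝒵.isStack.1 x hxsurj) ζ
  obtain ⟨V, hV, huV, -⟩ := exists_isAffineOpen_mem_and_subset (X := U.left) (x := u)
    (U := ⊤) trivial
  let Z : Over S := Over.mk (V.ι ≫ U.hom)
  have : IsAffine Z.left := hV
  let j : Z ⟶ U := Over.homMk V.ι rfl
  let z : FibCat.overCat Z ⥤ᵇ 𝒵 := BasedFunctor.comp (AlgSt.overMap j) x
  refine ⟨Z, z, AlgSt.Points.ofChart (BasedFunctor.id _) ⟨u, huV⟩, ?_, ?_⟩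
  · rw [← PTS.ofChart_eq_map, PTS.ofChart_overMap]
    rfl
  · exact injective_of_univInj (SPS.isAlgStack_overCat Z) _ (h Z (BasedFunctor.comp z g))


end Aux

/-- (2) ⇒ (1): let `f : 𝒳 ⟶ 𝒴` be a morphism of algebraic stacks over `S`. If for every affine scheme
`Z` over `S` and every `Z ⟶ 𝒴` the projection `Z ×_𝒴 𝒳 ⟶ Z` is universally injective, then `f` is
universally injective (every base change to an algebraic stack is injective on points). The converse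
implication is the base-change property. -/
theorem result {S : Scheme.{u}} {𝒳 𝒴 : AlgSt.Cat S}
    (h𝒳 : AlgSt.IsAlgStack Scheme.fppfPrecoverage 𝒳) (h𝒴 : AlgSt.IsAlgStack Scheme.fppfPrecoverage 𝒴) (f : 𝒳 ⥤ᵇ 𝒴)
    (h : ∀ (Z : Over S) [IsAffine Z.left] (z : FibCat.overCat Z ⥤ᵇ 𝒴),
      AlgSt.IsUnivInjective Scheme.fppfPrecoverage (FibCat.fpFst z f)) :
    AlgSt.IsUnivInjective Scheme.fppfPrecoverage f := by
  exact main h𝒳 h𝒴 f h

end Groth.Agent.S13569
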