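import Groth.Statements.S13570
import Groth.Statements.S13570
import Groth.Agent.S13569
import Groth.Agent.S12763
import Groth.Agent.Lib.Helper17.FpInvariance

set_option autoImplicit false
universe u
open CategoryTheory AlgebraicGeometry
open AlgSt

namespace Groth.Agent.S13570

section Aux
open CategoryTheory AlgebraicGeometry
open AlgSt

open CategoryTheory CategoryTheory.Limits AlgebraicGeometry Opposite AlgSp FibCat Stk AlgSt
open Groth.Agent.Lib.Helper17 Groth.Agent.Lib.Helper17.AT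
open Groth.Agent.S13569

variable {S : Scheme.{u}}

/-- an equivalence over the base is injective on points -/
theorem injective_of_isEquivOver {𝒜 ℬ : AlgSt.Cat S} (e : 𝒜 ⥤ᵇ ℬ) (he : FibCat.IsEquivOver e) :
    Function.Injective (AlgSt.Points.map e) := by
  intro a b hab
  obtain ⟨k, ⟨c⟩, -⟩ := he
  have := congrArg (AlgSt.Points.map k) hab
  rwa [← PTS.map_comp, ← PTS.map_comp, PTS.map_congr c, PTS.map_congr c, PTS.map_id, PTS.map_id]
    at this

/-- injectivity on points of `fpFst y f` only depends on `y` up to 2-isomorphism -/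
theorem injective_congr {𝒳 𝒴 𝒲 : AlgSt.Cat S} {y y₂ : 𝒲 ⥤ᵇ 𝒴} (e : y₂ ≅ y) (f : 𝒳 ⥤ᵇ 𝒴)
    (h : Function.Injective (AlgSt.Points.map (FibCat.fpFst y₂ f))) :
    Function.Injective (AlgSt.Points.map (FibCat.fpFst y f)) := by
  intro a b hab
  rw [← FI.tw_fst y y₂ f (fun w => compApp e w) (fun α => compApp_nat e α)
    (fun w => compApp_lift e w), PTS.map_comp, PTS.map_comp] at hab
  exact injective_of_isEquivOver _ (FI.tw_isEquivOver y y₂ f (fun w => compApp e w)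
    (fun α => compApp_nat e α) (fun w => compApp_lift e w)) (h hab)

theorem main {𝒳 𝒴 : AlgSt.Cat S}
    (h𝒳 : AlgSt.IsAlgStack Scheme.fppfPrecoverage 𝒳) (h𝒴 : AlgSt.IsAlgStack Scheme.fppfPrecoverage 𝒴) (f : 𝒳 ⥤ᵇ 𝒴)
    (W : AlgSp.Space S) (w : AlgSt.ofSp W.obj ⥤ᵇ 𝒴)
    (hw₃ : AlgSt.RepByAlgSpWith AlgSp.IsSurjectiveMor w)
    (h : AlgSt.IsUnivInjective Scheme.fppfPrecoverage (FibCat.fpFst w f)) :
    AlgSt.IsUnivInjective Scheme.fppfPrecoverage f := by
  intro 𝒵 h𝒵 g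
  have hWst : AlgSt.IsAlgStack Scheme.fppfPrecoverage (ofSp W.obj) := SPS.isAlgStack_ofSp W
  have h𝒫 : AlgSt.IsAlgStack Scheme.fppfPrecoverage (FibCat.fp g w) :=
    Groth.Agent.S12763.result h𝒴.isStack h𝒴.diag h𝒵 hWst g w
  refine injective_of_charts h𝒳.isStack.1 h𝒴.isStack.1 h𝒵.isStack.1 f g (fun ζ => ?_)
  have hwsurj : AlgSt.IsSurjective w := PTS.isSurjective_of_repWith h𝒴.isStack.1 w hw₃
  obtain ⟨η, hη⟩ := hwsurj (AlgSt.Points.map g ζ)
  obtain ⟨ν, hν1, hν2⟩ := PTS.exists_point_fp hWst.isStack.1 h𝒴.isStack.1 h𝒵.isStack.1 w g ζ η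
    hη.symm
  obtain ⟨Z, p, hps, hpsurj⟩ := h𝒫.atlas
  obtain ⟨t, rfl⟩ := PTS.ofChart_surjective p
    (PTS.isSurjective_of_repWith h𝒫.isStack.1 p hpsurj) ν
  let z : FibCat.overCat Z ⥤ᵇ 𝒵 := BasedFunctor.comp p (FibCat.fpFst g w)
  let z' : FibCat.overCat Z ⥤ᵇ ofSp W.obj := BasedFunctor.comp p (FibCat.fpSnd g w)
  refine ⟨Z, z, AlgSt.Points.ofChart (BasedFunctor.id _) t, ?_, ?_⟩
  · rw [← hν1]
    rfl
  · have e : BasedFunctor.comp z' w ≅ BasedFunctor.comp z g := by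
      let Q : (FibCat.overCat Z : AlgSt.Cat S) ⟶ FibCat.fp g w := p
      exact (Bicategory.whiskerLeftIso Q (FibCat.fpIso g w)).symm
    have h1 : Function.Injective (AlgSt.Points.map (FibCat.fpFst z' (FibCat.fpFst w f))) :=
      h (FibCat.overCat Z) (SPS.isAlgStack_overCat Z) z'
    have h2 : Function.Injective (AlgSt.Points.map (FibCat.fpFst (BasedFunctor.comp z' w) f)) := by
      rw [← PS.paste_fst]
      intro a b hab
      rw [PTS.map_comp, PTS.map_comp] at hab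
      exact injective_of_isEquivOver _ (PS.paste_isEquivOver z' w f) (h1 hab)
    exact injective_congr e f h2


end Aux

/-- Let `f : 𝒳 ⟶ 𝒴` be a morphism of algebraic stacks over `S` and `W ⟶ 𝒴` a surjective, flat, locally
finitely presented morphism from an algebraic space. If the projection `W ×_𝒴 𝒳 ⟶ W` is universally
injective (every base change to an algebraic stack is injective on points), then so is `f`. -/
theorem result {S : Scheme.{u}} {𝒳 𝒴 : AlgSt.Cat S}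
    (h𝒳 : AlgSt.IsAlgStack Scheme.fppfPrecoverage 𝒳) (h𝒴 : AlgSt.IsAlgStack Scheme.fppfPrecoverage 𝒴) (f : 𝒳 ⥤ᵇ 𝒴)
    (W : AlgSp.Space S) (w : AlgSt.ofSp W.obj ⥤ᵇ 𝒴)
    (hw₁ : AlgSt.RepByAlgSpWith (AlgSp.LocP @Flat) w)
    (hw₂ : AlgSt.RepByAlgSpWith (AlgSp.LocP @LocallyOfFinitePresentation) w)
    (hw₃ : AlgSt.RepByAlgSpWith AlgSp.IsSurjectiveMor w)
    (h : AlgSt.IsUnivInjective Scheme.fppfPrecoverage (FibCat.fpFst w f)) :
    AlgSt.IsUnivInjective Scheme.fppfPrecoverage f := by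
  exact main h𝒳 h𝒴 f W w hw₃ h

end Groth.Agent.S13570
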