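import Groth.Statements.S13575
import Groth.Agent.Lib.Helper14.QuotStCalc2
import Mathlib

set_option autoImplicit false
universe u
open CategoryTheory AlgebraicGeometry MonoidalCategory
open AlgSt

namespace Groth.Agent.S13575

section
open CategoryTheory MonoidalCategory CartesianMonoidalCategory AlgebraicGeometry Opposite MonObj Limits
open Groth.Agent.Lib.Helper14.QuotStCalc

variable {S : Scheme.{u}} {G : Over S} [GrpObj G] {X : Over S} {aX : AlgGrp.Action G X}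

local notation "KK" => Scheme.fppfPrecoverage

noncomputable def rmulY {T : Over S} (y : T ⟶ G ⊗ X) :
    (AlgSt.quotMap KK G aX).obj (⟨T, ⟨y ≫ aX.act⟩⟩ : (AlgSt.ofSch X).obj) ⟶
      (AlgSt.quotMap KK G aX).obj (⟨T, ⟨y ≫ snd G X⟩⟩ : (AlgSt.ofSch X).obj) where
  base := 𝟙 T
  top := lift (fst G T * (snd G T ≫ y ≫ fst G X)) (snd G T)
  eqv := (rmul (K := KK) (aX := aX) (y ≫ fst G X) (y ≫ snd G X)).eqv
  cart := (rmul (K := KK) (aX := aX) (y ≫ fst G X) (y ≫ snd G X)).cart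
  wφ := by
    have h := (rmul (K := KK) (aX := aX) (y ≫ fst G X) (y ≫ snd G X)).wφ
    have e : lift (y ≫ fst G X) (y ≫ snd G X) = y := by
      rw [← comp_lift, lift_fst_snd, Category.comp_id]
    change lift (fst G T * (snd G T ≫ y ≫ fst G X)) (snd G T) ≫ (G ◁ (y ≫ snd G X)) ≫ aX.act =
      (G ◁ (lift (y ≫ fst G X) (y ≫ snd G X) ≫ aX.act)) ≫ aX.act at h
    rw [e] at h
    exact h

theorem rmulY_nat {T T' : Over S} (g : T' ⟶ T) (y : T ⟶ G ⊗ X) (y' : T' ⟶ G ⊗ X) (h : g ≫ y = y') :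
    (G ◁ g) ≫ lift (fst G T * (snd G T ≫ y ≫ fst G X)) (snd G T) =
      lift (fst G T' * (snd G T' ≫ y' ≫ fst G X)) (snd G T') ≫ (G ◁ g) := by
  subst h
  apply CartesianMonoidalCategory.hom_ext
  · simp only [Category.assoc, lift_fst, whiskerLeft_fst, comp_mul, whiskerLeft_fst_assoc,
      whiskerLeft_snd_assoc]
  · simp only [Category.assoc, lift_snd, whiskerLeft_snd, lift_snd_assoc]

theorem rmulY_base {T : Over S} (y : T ⟶ G ⊗ X) : (rmulY (aX := aX) y).base = 𝟙 T := rfl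

theorem isIso_rmulY {T : Over S} (y : T ⟶ G ⊗ X) : IsIso (rmulY (aX := aX) y) := by
  have : IsIso (rmulY (aX := aX) y).base := by
    rw [rmulY_base]
    exact IsIso.id T
  exact isIso_of_isIso_base _

noncomputable def rmulYIso {T : Over S} (y : T ⟶ G ⊗ X) :
    (AlgSt.quotMap KK G aX).obj (⟨T, ⟨y ≫ aX.act⟩⟩ : (AlgSt.ofSch X).obj) ≅
      (AlgSt.quotMap KK G aX).obj (⟨T, ⟨y ≫ snd G X⟩⟩ : (AlgSt.ofSch X).obj) :=
  @asIso _ _ _ _ (rmulY (aX := aX) y) (isIso_rmulY y)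

theorem rmulYIso_hom {T : Over S} (y : T ⟶ G ⊗ X) :
    (rmulYIso (aX := aX) y).hom = rmulY (aX := aX) y := rfl

noncomputable def eIso :
    BasedFunctor.comp (AlgSt.ofSpMap ((AlgSp.yon S).map aX.act)) (AlgSt.quotMap KK G aX) ≅
      BasedFunctor.comp (AlgSt.ofSpMap ((AlgSp.yon S).map (snd G X))) (AlgSt.quotMap KK G aX) :=
  BasedNatIso.mkNatIso
    (NatIso.ofComponents
      (fun w => rmulYIso (aX := aX) w.sec.down)
      (fun {w w'} g => by
        apply QuotObj.hom_ext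
        · change g.hom ≫ 𝟙 _ = 𝟙 _ ≫ g.hom
          rw [Category.comp_id, Category.id_comp]
        · exact rmulY_nat g.hom w'.sec.down w.sec.down (congrArg ULift.down g.map_sec)))
    (fun w => by
      change (AlgSt.QuotSt KK G aX).p.IsHomLift (𝟙 w.base) (rmulY (aX := aX) w.sec.down)
      exact IsHomLift.map (AlgSt.QuotSt KK G aX).p (rmulY (aX := aX) w.sec.down))


section Keys

variable {a₁ a₂ : (AlgSt.ofSch X).obj}
  (i : (AlgSt.quotMap KK G aX).obj a₁ ⟶ (AlgSt.quotMap KK G aX).obj a₂)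

noncomputable def topOf : G ⊗ a₁.base ⟶ G ⊗ a₂.base := i.top

noncomputable def baseOf : a₁.base ⟶ a₂.base := i.base

noncomputable def gam : a₁.base ⟶ G :=
  lift (toUnit a₁.base ≫ η[G]) (𝟙 a₁.base) ≫ topOf i ≫ fst G a₂.base

theorem topOf_snd : topOf i ≫ snd G a₂.base = snd G a₁.base ≫ baseOf i := i.cart.w

theorem topOf_eqv : (AlgSt.leftMul G a₁.base).act ≫ topOf i =
    (G ◁ topOf i) ≫ (AlgSt.leftMul G a₂.base).act := i.eqv

theorem topOf_wφ : topOf i ≫ (G ◁ a₂.sec.down) ≫ aX.act = (G ◁ a₁.sec.down) ≫ aX.act := i.wφ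

theorem key2 : topOf i = lift (fst G a₁.base * (snd G a₁.base ≫ gam i)) (snd G a₁.base ≫ baseOf i) := by
  apply CartesianMonoidalCategory.hom_ext
  · rw [lift_fst]
    let σ : G ⊗ a₁.base ⟶ G ⊗ (G ⊗ a₁.base) :=
      lift (fst G a₁.base) (lift (toUnit _ ≫ η[G]) (snd G a₁.base))
    have h1 : σ ≫ (AlgSt.leftMul G a₁.base).act = 𝟙 _ := by
      apply CartesianMonoidalCategory.hom_ext
      · simp only [σ, AlgSt.leftMul, Category.assoc, lift_fst, comp_mul, lift_fst_assoc,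
          lift_snd_assoc, Category.id_comp]
        have : toUnit (G ⊗ a₁.base) ≫ η[G] = (1 : G ⊗ a₁.base ⟶ G) := by
          rw [Hom.one_def]
        rw [this, _root_.mul_one]
      · simp only [σ, AlgSt.leftMul, Category.assoc, lift_snd, lift_snd_assoc, Category.id_comp]
    have h2 : topOf i = σ ≫ (G ◁ topOf i) ≫ (AlgSt.leftMul G a₂.base).act := by
      rw [← topOf_eqv, ← Category.assoc, h1, Category.id_comp]
    have h3 : lift (toUnit (G ⊗ a₁.base) ≫ η[G]) (snd G a₁.base) =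
        snd G a₁.base ≫ lift (toUnit a₁.base ≫ η[G]) (𝟙 a₁.base) := by
      rw [comp_lift, Category.comp_id, ← Category.assoc, toUnit_unique (snd G a₁.base ≫ toUnit _)
        (toUnit _)]
    conv_lhs => rw [h2]
    simp only [σ, AlgSt.leftMul, Category.assoc, lift_fst, comp_mul, whiskerLeft_fst_assoc,
      whiskerLeft_snd_assoc, lift_fst_assoc, lift_snd_assoc, h3, gam, whiskerLeft_fst,
      whiskerLeft_snd]
  · rw [lift_snd, topOf_snd]

theorem unit_top : lift (toUnit a₁.base ≫ η[G]) (𝟙 a₁.base) ≫ topOf i = lift (gam i) (baseOf i) := by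
  apply CartesianMonoidalCategory.hom_ext
  · rw [lift_fst, Category.assoc]
    rfl
  · rw [lift_snd, Category.assoc, topOf_snd, lift_snd_assoc, Category.id_comp]

theorem key1 : a₁.sec.down = lift (gam i) (baseOf i ≫ a₂.sec.down) ≫ aX.act := by
  have h := congrArg (fun m => lift (toUnit a₁.base ≫ η[G]) (𝟙 a₁.base) ≫ m) (topOf_wφ i)
  simp only at h
  rw [← Category.assoc, unit_top] at h
  have h1 : lift (gam i) (baseOf i) ≫ (G ◁ a₂.sec.down) = lift (gam i) (baseOf i ≫ a₂.sec.down) := by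
    apply CartesianMonoidalCategory.hom_ext
    · simp only [Category.assoc, whiskerLeft_fst, lift_fst]
    · simp only [Category.assoc, whiskerLeft_snd, lift_snd, lift_snd_assoc]
  have h2 : lift (toUnit a₁.base ≫ η[G]) (𝟙 a₁.base) ≫ (G ◁ a₁.sec.down) ≫ aX.act =
      a₁.sec.down := by
    have h3 : lift (toUnit a₁.base ≫ η[G]) (𝟙 a₁.base) ≫ (G ◁ a₁.sec.down) =
        a₁.sec.down ≫ (λ_ X).inv ≫ (η[G] ▷ X) := by
      apply CartesianMonoidalCategory.hom_ext
      · simp only [Category.assoc, whiskerLeft_fst, lift_fst, whiskerRight_fst,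
          leftUnitor_inv_fst_assoc]
        rw [← Category.assoc, toUnit_unique (a₁.sec.down ≫ toUnit X) (toUnit _)]
      · simp only [Category.assoc, whiskerLeft_snd, lift_snd_assoc, Category.id_comp,
          whiskerRight_snd, leftUnitor_inv_snd, Category.comp_id]
    rw [← Category.assoc, h3, Category.assoc, Category.assoc, aX.one_act, Iso.inv_hom_id,
      Category.comp_id]
  rw [← Category.assoc, h1, h2] at h
  exact h.symm

end Keys


section Keys2

variable {a₁ a₂ a₁' a₂' : (AlgSt.ofSch X).obj}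
  (i : (AlgSt.quotMap KK G aX).obj a₁ ⟶ (AlgSt.quotMap KK G aX).obj a₂)
  (i' : (AlgSt.quotMap KK G aX).obj a₁' ⟶ (AlgSt.quotMap KK G aX).obj a₂')
  (f₁ : a₁ ⟶ a₁') (f₂ : a₂ ⟶ a₂')
  (hw : (AlgSt.quotMap KK G aX).map f₁ ≫ i' = i ≫ (AlgSt.quotMap KK G aX).map f₂)

include hw

theorem sq_top : (G ◁ f₁.hom) ≫ topOf i' = topOf i ≫ (G ◁ f₂.hom) :=
  congrArg QuotObj.Hom.top hw

theorem sq_base : f₁.hom ≫ baseOf i' = baseOf i ≫ f₂.hom :=
  congrArg QuotObj.Hom.base hw

theorem gam_nat : f₁.hom ≫ gam i' = gam i := by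
  unfold gam
  have h1 : f₁.hom ≫ lift (toUnit a₁'.base ≫ η[G]) (𝟙 a₁'.base) =
      lift (toUnit a₁.base ≫ η[G]) (𝟙 a₁.base) ≫ (G ◁ f₁.hom) := by
    apply CartesianMonoidalCategory.hom_ext
    · simp only [Category.assoc, comp_lift, lift_fst, whiskerLeft_fst]
      rw [← Category.assoc, toUnit_unique (f₁.hom ≫ toUnit _) (toUnit _)]
    · simp only [Category.assoc, comp_lift, lift_snd, whiskerLeft_snd, lift_snd_assoc,
        Category.comp_id, Category.id_comp]
  rw [← Category.assoc, h1, Category.assoc, ← Category.assoc (G ◁ f₁.hom), sq_top i i' f₁ f₂ hw,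
    Category.assoc, whiskerLeft_fst]

end Keys2


section Inverse

local notation "QM" => AlgSt.quotMap Scheme.fppfPrecoverage G aX

noncomputable def yOf (z : (FibCat.fp QM QM).obj) : z.obj.fst.base ⟶ G ⊗ X :=
  lift (gam z.obj.iso.hom) (baseOf z.obj.iso.hom ≫ z.obj.snd.sec.down)

theorem yOf_nat {z z' : (FibCat.fp QM QM).obj} (m : z ⟶ z') :
    m.hom.fst.hom ≫ yOf z' = yOf z := by
  unfold yOf
  rw [comp_lift, gam_nat z.obj.iso.hom z'.obj.iso.hom m.hom.fst m.hom.snd m.hom.w,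
    ← Category.assoc, sq_base z.obj.iso.hom z'.obj.iso.hom m.hom.fst m.hom.snd m.hom.w,
    Category.assoc]
  congr 2
  exact congrArg ULift.down m.hom.snd.map_sec

noncomputable def Gq : FibCat.fp QM QM ⥤ᵇ AlgSt.ofSch (G ⊗ X) where
  toFunctor :=
    { obj := fun z => ⟨z.obj.fst.base, ⟨yOf z⟩⟩
      map := fun {z z'} m => ⟨m.hom.fst.hom, congrArg ULift.up (yOf_nat m)⟩
      map_id := fun _ => Stk.EltObj.hom_ext rfl
      map_comp := fun _ _ => Stk.EltObj.hom_ext rfl }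
  w := rfl

end Inverse


section Equiv

local notation "QM" => AlgSt.quotMap Scheme.fppfPrecoverage G aX

noncomputable def eltIso {C : Type*} [Category C] {P : Cᵒᵖ ⥤ Type*} {a b : Stk.EltObj P}
    (h : a.base ⟶ b.base) [IsIso h] (hs : P.map h.op b.sec = a.sec) : a ≅ b where
  hom := ⟨h, hs⟩
  inv := ⟨inv h, by
    rw [← hs, ← Functor.map_comp_apply, ← op_comp, IsIso.inv_hom_id, op_id, P.map_id]
    rfl⟩
  hom_inv_id := Stk.EltObj.hom_ext (IsIso.hom_inv_id h)
  inv_hom_id := Stk.EltObj.hom_ext (IsIso.inv_hom_id h)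

theorem gam_rmulY {T : Over S} (y : T ⟶ G ⊗ X) : gam (rmulY (aX := aX) y) = y ≫ fst G X := by
  change lift (toUnit T ≫ η[G]) (𝟙 T) ≫ lift (fst G T * (snd G T ≫ y ≫ fst G X)) (snd G T) ≫
    fst G T = _
  rw [lift_fst, comp_mul, lift_fst, lift_snd_assoc, Category.id_comp]
  have : toUnit T ≫ η[G] = (1 : T ⟶ G) := by rw [Hom.one_def]
  rw [this, _root_.one_mul]

theorem iso1_obj (w : (AlgSt.ofSch (G ⊗ X)).obj) :
    (BasedFunctor.comp (FibCat.fpLift (AlgSt.ofSpMap ((AlgSp.yon S).map aX.act))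
      (AlgSt.ofSpMap ((AlgSp.yon S).map (snd G X))) (eIso (aX := aX))) (Gq (aX := aX))).obj w =
      (BasedFunctor.id (AlgSt.ofSch (G ⊗ X))).obj w := by
  obtain ⟨T, ⟨y⟩⟩ := w
  change (⟨T, ⟨lift (gam (rmulY (aX := aX) y)) (baseOf (rmulY (aX := aX) y) ≫ y ≫ snd G X)⟩⟩ :
    Stk.EltObj ((AlgSp.yon S).obj (G ⊗ X)).obj) = ⟨T, ⟨y⟩⟩
  have h1 : baseOf (rmulY (aX := aX) y) = 𝟙 T := rfl
  rw [gam_rmulY, h1, Category.id_comp, ← comp_lift, lift_fst_snd, Category.comp_id]


theorem isIso_baseOf (z : (FibCat.fp QM QM).obj) :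
    IsIso (baseOf (a₁ := z.obj.fst) (a₂ := z.obj.snd) z.obj.iso.hom) :=
  (inferInstance : IsIso ((QuotObj.forget KK G aX).map z.obj.iso.hom))

noncomputable def e₁ (z : (FibCat.fp QM QM).obj) :
    (⟨z.obj.fst.base, ⟨yOf z ≫ aX.act⟩⟩ : (AlgSt.ofSch X).obj) ≅ z.obj.fst :=
  @eltIso _ _ _ (⟨z.obj.fst.base, ⟨yOf z ≫ aX.act⟩⟩ : (AlgSt.ofSch X).obj) z.obj.fst
    (𝟙 z.obj.fst.base) (IsIso.id _) (by
      change (⟨𝟙 _ ≫ z.obj.fst.sec.down⟩ : ULift (z.obj.fst.base ⟶ X)) = ⟨yOf z ≫ aX.act⟩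
      rw [Category.id_comp, key1 z.obj.iso.hom]
      rfl)

noncomputable def e₂ (z : (FibCat.fp QM QM).obj) :
    (⟨z.obj.fst.base, ⟨yOf z ≫ snd G X⟩⟩ : (AlgSt.ofSch X).obj) ≅ z.obj.snd :=
  @eltIso _ _ _ (⟨z.obj.fst.base, ⟨yOf z ≫ snd G X⟩⟩ : (AlgSt.ofSch X).obj) z.obj.snd
    (baseOf (a₁ := z.obj.fst) (a₂ := z.obj.snd) z.obj.iso.hom) (isIso_baseOf z) (by
      change (⟨baseOf (a₁ := z.obj.fst) (a₂ := z.obj.snd) z.obj.iso.hom ≫ z.obj.snd.sec.down⟩ :
        ULift (z.obj.fst.base ⟶ X)) = ⟨yOf z ≫ snd G X⟩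
      unfold yOf
      rw [lift_snd])

theorem theta_w (z : (FibCat.fp QM QM).obj) :
    (QM).map (e₁ z).hom ≫ z.obj.iso.hom = rmulY (aX := aX) (yOf z) ≫ (QM).map (e₂ z).hom := by
  apply QuotObj.hom_ext
  · change 𝟙 _ ≫ baseOf z.obj.iso.hom = 𝟙 _ ≫ baseOf z.obj.iso.hom
    rfl
  · change (G ◁ 𝟙 _) ≫ topOf z.obj.iso.hom =
      lift (fst G _ * (snd G _ ≫ yOf z ≫ fst G X)) (snd G _) ≫ (G ◁ baseOf z.obj.iso.hom)
    rw [MonoidalCategory.whiskerLeft_id, Category.id_comp, key2 z.obj.iso.hom]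
    apply CartesianMonoidalCategory.hom_ext
    · simp only [Category.assoc, lift_fst, whiskerLeft_fst, yOf]
    · simp only [Category.assoc, lift_snd, whiskerLeft_snd, lift_snd_assoc]


noncomputable abbrev aF (aX : AlgGrp.Action G X) : AlgSt.ofSch (G ⊗ X) ⥤ᵇ AlgSt.ofSch X :=
  AlgSt.ofSpMap ((AlgSp.yon S).map aX.act)

noncomputable abbrev bF (G X : Over S) : AlgSt.ofSch (G ⊗ X) ⥤ᵇ AlgSt.ofSch X :=
  AlgSt.ofSpMap ((AlgSp.yon S).map (snd G X))

noncomputable def thetaCP (z : (FibCat.fp QM QM).obj) :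
    ((FibCat.fpLift (aF aX) (bF G X) (eIso (aX := aX))).obj ((Gq (aX := aX)).obj z)).obj ≅ z.obj :=
  CategoricalPullback.mkIso (e₁ z) (e₂ z) (theta_w z)

noncomputable def theta (z : (FibCat.fp QM QM).obj) :
    (FibCat.fpLift (aF aX) (bF G X) (eIso (aX := aX))).obj ((Gq (aX := aX)).obj z) ≅ z :=
  ObjectProperty.isoMk _ (thetaCP z)

theorem theta_nat {z z' : (FibCat.fp QM QM).obj} (m : z ⟶ z') :
    (FibCat.fpLift (aF aX) (bF G X) (eIso (aX := aX))).map ((Gq (aX := aX)).map m) ≫ (theta z').hom =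
      (theta z).hom ≫ m := by
  apply ObjectProperty.hom_ext
  apply CategoricalPullback.hom_ext
  · apply Stk.EltObj.hom_ext
    change m.hom.fst.hom ≫ 𝟙 _ = 𝟙 _ ≫ m.hom.fst.hom
    rw [Category.comp_id, Category.id_comp]
  · apply Stk.EltObj.hom_ext
    exact sq_base z.obj.iso.hom z'.obj.iso.hom m.hom.fst m.hom.snd m.hom.w

theorem isTwoCart : FibCat.IsTwoCartOver (aF aX) (bF G X) (eIso (aX := aX)) := by
  refine ⟨Gq (aX := aX), ⟨eqToIso (based_ext _ _ iso1_obj)⟩, ⟨?_⟩⟩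
  refine BasedNatIso.mkNatIso (NatIso.ofComponents (fun z => theta z) (fun m => theta_nat m)) ?_
  intro z
  exact IsHomLift.map (FibCat.fp QM QM).p (theta z).hom

end Equiv

end

/-- For a group action: let a group scheme `G` over `S` act on a scheme `X` over `S` and let `π : X ⟶
[X/G]` be the canonical morphism to the quotient stack. Then the square with vertices `G ×_S X`,
`X`, `X`, `[X/G]`, whose sides are the action and the projection `G ×_S X ⟶ X` followed by `π`, is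
2-cartesian for some 2-isomorphism `π ∘ a ≅ π ∘ pr₂`: the induced functor from `G ×_S X` to the
2-fibre product `X ×_{[X/G]} X` is an equivalence over `(Sch/S)`. Existence of the 2-isomorphism
only; the canonical one is right multiplication by the group element. (The published statement is
for a groupoid in algebraic spaces; this row is the action groupoid of a group scheme, with torsors
given as schemes.) -/
theorem result {S : Scheme.{u}} (G : Over S) [GrpObj G]
    (X : Over S) (aX : AlgGrp.Action G X) :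
    ∃ e : BasedFunctor.comp (AlgSt.ofSpMap ((AlgSp.yon S).map aX.act)) (AlgSt.quotMap Scheme.fppfPrecoverage G aX) ≅
        BasedFunctor.comp (AlgSt.ofSpMap ((AlgSp.yon S).map (CartesianMonoidalCategory.snd G X)))
          (AlgSt.quotMap Scheme.fppfPrecoverage G aX),
      FibCat.IsTwoCartOver (AlgSt.ofSpMap ((AlgSp.yon S).map aX.act))
        (AlgSt.ofSpMap ((AlgSp.yon S).map (CartesianMonoidalCategory.snd G X))) e := by
  exact ⟨Groth.Agent.S13575.eIso, Groth.Agent.S13575.isTwoCart⟩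

end Groth.Agent.S13575
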