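import Groth.Statements.S13576


set_option autoImplicit false
universe u
open CategoryTheory CategoryTheory.Limits MonoidalCategory
attribute [local instance] HasDerivedCategory.standard
open DTen

namespace Groth.Agent.S13576

variable (A : Type u) [CommRing A]

lemma braidCx_invol (K L : DRing.Cx A) : (braidCx K L).hom ≫ (braidCx L K).hom = 𝟙 _ := by
  ext n : 1
  apply HomologicalComplex.mapBifunctor.hom_ext
  intro p q hpq
  have hpq' : p + q = n := hpq
  change HomologicalComplex.ιTensorObj K L p q n hpq' ≫ ((braidCx K L).hom ≫ (braidCx L K).hom).f n =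
    HomologicalComplex.ιTensorObj K L p q n hpq' ≫ (𝟙 (K ⊗ L : DRing.Cx A) : (K ⊗ L : DRing.Cx A) ⟶ _).f n
  rw [HomologicalComplex.comp_f, ι_braidCx_hom_assoc K L p q n hpq']
  simp only [Linear.units_smul_comp, Category.assoc]
  rw [ι_braidCx_hom L K q p n (by omega)]
  simp only [Linear.comp_units_smul, smul_smul]
  rw [← Category.assoc, SymmetricCategory.symmetry, Category.id_comp, HomologicalComplex.id_f]
  rw [mul_comm q p, Int.units_mul_self, one_smul]
  exact (Category.comp_id _).symm

variable [DTen.HasLTen A]

/-- the composite of the two symmetries -/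
noncomputable def tau : LTen₂ A ⟶ LTen₂ A where
  app X := (symm A).app (X.2, X.1) ≫ (symm A).app X
  naturality X Y f := by
    have h1 := (symm A).naturality f
    have h2 := (symm A).naturality ((CategoryTheory.Prod.swap _ _).map f)
    dsimp at h1 h2 ⊢
    rw [Category.assoc, ← h1, ← Category.assoc, ← Category.assoc]
    congr 1

lemma tau_eq_id : tau A = 𝟙 _ := by
  apply (LTen₂ A).leftDerived_ext (ε A) (qis₂ A)
  ext ⟨K, L⟩
  dsimp [tau]
  rw [Category.assoc, symm_fac A K L, ← Category.assoc, symm_fac A L K, Category.assoc, ← Functor.map_comp,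
    braidCx_invol]
  simp


/-- For a commutative ring `A` and objects `K`, `L` of `D(A)`, the canonical symmetry morphism `L ⊗^L K
⟶ K ⊗^L L` of the derived tensor product, the one compatible with the swap of complexes carrying the
sign `(-1)^{pq}` on `K^p ⊗ L^q`, is an isomorphism. -/
theorem result (A : Type u) [CommRing A] [DTen.HasLTen A] (K L : Dual.D A) :
    IsIso ((DTen.symm A).app (K, L)) := by
  refine ⟨⟨(symm A).app (L, K), ?_, ?_⟩⟩
  · have := congrArg (fun t => t.app (L, K)) (tau_eq_id A)
    simpa [tau] using this
  · have := congrArg (fun t => t.app (K, L)) (tau_eq_id A)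
    simpa [tau] using this

end Groth.Agent.S13576
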