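import Groth.Statements.S13577
import Groth.Agent.Lib.Helper25.LTenCompute

set_option autoImplicit false
universe u
open CategoryTheory CategoryTheory.Limits MonoidalCategory
attribute [local instance] HasDerivedCategory.standard
open DTen

namespace Groth.Agent.S13577

open Groth.Agent.Lib.Helper25.LTenCompute Groth.Agent.Lib.Helper25.TensorCx DerivedCategory

/-- For a commutative ring `A` and objects `a`, `b`, `c` of `D(A)`, the two canonical morphisms from the
iterated derived tensor products `(a ⊗^L b) ⊗^L c` and `a ⊗^L (b ⊗^L c)` to the jointly derived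
triple tensor product are both isomorphisms, so that the composite of the first with the inverse of
the second is the associativity isomorphism `(a ⊗^L b) ⊗^L c ≅ a ⊗^L (b ⊗^L c)`, functorial in the
triple. (The published statement asserts only the existence of the functorial associativity
isomorphism; this row also says that each iterate agrees with the jointly derived triple product,
which is slightly stronger.) -/
theorem result (A : Type u) [CommRing A] [DTen.HasLTen A] [DTen.HasLTen₃ A]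
    (a b c : Dual.D A) :
    IsIso ((DTen.assocL A).app (a, (b, c))) ∧ IsIso ((DTen.assocR A).app (a, (b, c))) := by
  obtain ⟨P, hP, hPf, ⟨ea⟩⟩ := exists_kproj_kflat a
  obtain ⟨P', hP', hPf', ⟨eb⟩⟩ := exists_kproj_kflat b
  obtain ⟨P'', hP'', hPf'', ⟨ec⟩⟩ := exists_kproj_kflat c
  let e : (DTen.QQQ A).obj (P, (P', P'')) ≅ (a, (b, c)) := Iso.prod ea (Iso.prod eb ec)
  rw [← NatTrans.isIso_app_iff_of_iso (DTen.assocL A) e,
    ← NatTrans.isIso_app_iff_of_iso (DTen.assocR A) e]
  have h3 : IsIso ((DTen.ε₃ A).app (P, (P', P''))) := isIso_ε₃_app_of_isKProjective P P' P''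
  constructor
  · have hfac := DTen.assocL_fac A (P, (P', P''))
    have hβ : IsIso ((DTen.βL A).app (P, (P', P''))) := by
      have i1 : IsIso ((DTen.ε A).app (P, P')) := isIso_ε_app P P' (Or.inl hPf)
      have i2 : IsIso ((DTen.ε A).app (P ⊗ P', P'')) := isIso_ε_app (P ⊗ P') P'' (Or.inr hPf'')
      have i0 : IsIso (Prod.mkHom ((DTen.ε A).app (P, P')) (𝟙 (Q.obj P'')) :
          ((DTen.LTen₂ A).obj (Q.obj P, Q.obj P'), Q.obj P'') ⟶ (Q.obj (P ⊗ P'), Q.obj P'')) :=
        (isIso_prod_iff (f := (Prod.mkHom ((DTen.ε A).app (P, P')) (𝟙 (Q.obj P'')) :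
          ((DTen.LTen₂ A).obj (Q.obj P, Q.obj P'), Q.obj P'') ⟶ (Q.obj (P ⊗ P'), Q.obj P'')))).2
          ⟨i1, inferInstance⟩
      have i3 : IsIso ((DTen.LTen₂ A).map (Prod.mkHom ((DTen.ε A).app (P, P')) (𝟙 (Q.obj P'')) :
          ((DTen.LTen₂ A).obj (Q.obj P, Q.obj P'), Q.obj P'') ⟶ (Q.obj (P ⊗ P'), Q.obj P''))) :=
        inferInstance
      have i4 : IsIso (Q.map (α_ P P' P'').hom) := inferInstance
      have i5 : IsIso ((DTen.ε A).app (P ⊗ P', P'') ≫ Q.map (α_ P P' P'').hom) :=
        IsIso.comp_isIso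
      exact @IsIso.comp_isIso _ _ _ _ _ _ _ i3 i5
    rw [← hfac] at hβ
    exact IsIso.of_isIso_comp_right _ ((DTen.ε₃ A).app (P, (P', P'')))
  · have hfac := DTen.assocR_fac A (P, (P', P''))
    have hβ : IsIso ((DTen.βR A).app (P, (P', P''))) := by
      have i1 : IsIso ((DTen.ε A).app (P', P'')) := isIso_ε_app P' P'' (Or.inl hPf')
      have i2 : IsIso ((DTen.ε A).app (P, P' ⊗ P'')) := isIso_ε_app P (P' ⊗ P'') (Or.inl hPf)
      have i0 : IsIso (Prod.mkHom (𝟙 (Q.obj P)) ((DTen.ε A).app (P', P'')) :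
          (Q.obj P, (DTen.LTen₂ A).obj (Q.obj P', Q.obj P'')) ⟶ (Q.obj P, Q.obj (P' ⊗ P''))) :=
        (isIso_prod_iff (f := (Prod.mkHom (𝟙 (Q.obj P)) ((DTen.ε A).app (P', P'')) :
          (Q.obj P, (DTen.LTen₂ A).obj (Q.obj P', Q.obj P'')) ⟶ (Q.obj P, Q.obj (P' ⊗ P''))))).2
          ⟨inferInstance, i1⟩
      dsimp [DTen.βR]
      infer_instance
    rw [← hfac] at hβ
    exact IsIso.of_isIso_comp_right _ ((DTen.ε₃ A).app (P, (P', P'')))

end Groth.Agent.S13577
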