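import Groth.Statements.S1359
import Groth.Agent.S9738
import Groth.Agent.Lib.Helper19.Sm.SmoothFiberPointwise

set_option autoImplicit false
universe u
open FlatMor

namespace Groth.Agent.S1359

open AlgebraicGeometry CategoryTheory Limits

/-- the residue field map of a closed immersion is an isomorphism -/
theorem isIso_residueFieldMap {Z S : Scheme.{u}} (ι : Z ⟶ S) [IsClosedImmersion ι] (z : Z) :
    IsIso (ι.residueFieldMap z) := by
  rw [ConcreteCategory.isIso_iff_bijective]
  refine ⟨(ι.residueFieldMap z).hom.injective, ?_⟩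
  have h1 : Function.Surjective (ι.stalkMap z) := ι.stalkMap_surjective z
  intro b
  obtain ⟨b', rfl⟩ := IsLocalRing.residue_surjective b
  obtain ⟨a, rfl⟩ := h1 b'
  exact ⟨IsLocalRing.residue _ a, rfl⟩

/-- base change of `f` along a morphism that factors through `ι` -/
theorem smooth_snd_of_factor {X S Z T : Scheme.{u}} (f : X ⟶ S) (ι : Z ⟶ S) (g' : T ⟶ Z)
    (h : Smooth (pullback.snd f ι)) : Smooth (pullback.snd f (g' ≫ ι)) := by
  let l : pullback f (g' ≫ ι) ⟶ pullback f ι :=
    pullback.lift (pullback.fst _ _) (pullback.snd _ _ ≫ g') (by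
      rw [Category.assoc, pullback.condition])
  have hbig : IsPullback (l ≫ pullback.fst f ι) (pullback.snd f (g' ≫ ι)) f (g' ≫ ι) := by
    have : l ≫ pullback.fst f ι = pullback.fst f (g' ≫ ι) := pullback.lift_fst _ _ _
    rw [this]
    exact IsPullback.of_hasPullback _ _
  have hsq : IsPullback l (pullback.snd f (g' ≫ ι)) (pullback.snd f ι) g' :=
    IsPullback.of_right hbig (pullback.lift_snd _ _ _) (IsPullback.of_hasPullback _ _)
  exact MorphismProperty.of_isPullback hsq h

theorem smooth_fiber_of_mem_range {X S Z : Scheme.{u}} (f : X ⟶ S) (ι : Z ⟶ S)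
    [IsClosedImmersion ι] (h : Smooth (pullback.snd f ι)) (z : Z) :
    Smooth (f.fiberToSpecResidueField (ι z)) := by
  have hiso := isIso_residueFieldMap ι z
  have hfac : Spec.map (ι.residueFieldMap z) ≫ S.fromSpecResidueField (ι z) =
      Z.fromSpecResidueField z ≫ ι := Scheme.Hom.SpecMap_residueFieldMap_fromSpecResidueField ι z
  have hg : S.fromSpecResidueField (ι z) =
      (inv (Spec.map (ι.residueFieldMap z)) ≫ Z.fromSpecResidueField z) ≫ ι := by
    rw [Category.assoc, ← hfac, IsIso.inv_hom_id_assoc]
  show Smooth (pullback.snd f (S.fromSpecResidueField (ι z)))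
  rw [hg]
  exact smooth_snd_of_factor f ι _ h

theorem smooth_fiber_of_mem_support {X S : Scheme.{u}} (f : X ⟶ S) (I : S.IdealSheafData)
    (h0 : Smooth (pullback.snd f I.subschemeι)) (s : S) (hs : s ∈ I.support) :
    Smooth (f.fiberToSpecResidueField s) := by
  have hr : s ∈ Set.range I.subschemeι := by
    rw [I.range_subschemeι]
    exact hs
  obtain ⟨z, rfl⟩ := hr
  exact smooth_fiber_of_mem_range f I.subschemeι h0 z


open AlgebraicGeometry CategoryTheory Limits in
/-- Let S be locally Noetherian, f : X → S of finite type, and Z the closed subscheme of S cut out by an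
ideal sheaf I, with infinitesimal neighbourhoods cut out by the powers of I. If the base change of f
to every infinitesimal neighbourhood is smooth, then every point of X lying over Z is in the smooth
locus of f. -/
theorem result {X S : Scheme.{u}} (f : X ⟶ S) [IsLocallyNoetherian S] [LocallyOfFinitePresentation f] [QuasiCompact f]
    (I : S.IdealSheafData) (h : ∀ n : ℕ, Smooth (pullback.snd f (I ^ (n + 1)).subschemeι)) (x : X) (hx : f x ∈ I.support) :
    x ∈ f.smoothLocus := by
  have hX : IsLocallyNoetherian X := LocallyOfFiniteType.isLocallyNoetherian f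
  have hflat : (f.stalkMap x).hom.Flat :=
    Groth.Agent.S9738.result f I (fun n => by
      have := h n
      infer_instance) x hx
  have hx' : f x ∈ (I ^ (0 + 1)).support := by
    rw [zero_add, pow_one]
    exact hx
  exact Groth.Agent.Lib.Helper19.mem_smoothLocus_of_flat_of_smooth_fiber f x hflat
    (smooth_fiber_of_mem_support f (I ^ (0 + 1)) (h 0) (f x) hx')

end Groth.Agent.S1359
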